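import Mathlib
import Groth.Agent.Lib.Helper6FibCodimLocus
import Groth.Agent.Lib.Helper6FibSk
import Groth.Agent.Lib.Helper6FibSub
import Groth.Agent.Lib.Helper6FibGeomLocus
import Groth.Agent.Lib.Helper4DimFormulaAN
import Groth.Agent.Lib.Helper3LocDimBC
import Groth.Agent.Lib.Helper3FlatFibDim
import Groth.Agent.Lib.Helper5LocusGeneric
import Groth.Agent.Lib.Helper4DVRSch
import Groth.Agent.Lib.Helper6FibDom

set_option autoImplicit false
set_option linter.style.haveILetI false
set_option linter.unusedVariables false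
universe u
open CategoryTheory CategoryTheory.Limits AlgebraicGeometry Topology TopologicalSpace IsLocalRing
  TensorProduct

namespace Groth.Agent.Lib.Helper6.FibEqui

open Groth.Agent.Lib.Helper6.FibCodim Groth.Agent.Lib.Helper6.FibCodimLocus
  Groth.Agent.Lib.Helper6.FibSk Groth.Agent.Lib.Helper4.DimFormula Groth.Agent.Lib.Helper4.VarDim
  Groth.Agent.Lib.Helper4.FibDim Groth.Agent.Lib.Helper6.GenNowhere

section Comp

variable {X Y : Scheme.{u}} (f : X ⟶ Y) [LocallyOfFiniteType f]

attribute [local instance] Curv2.resAlgebra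

/-- the irreducible component of the fibre generated by a fibre-maximal point. -/
theorem exists_component_of_maximal (s : Y) (x : X) (hxs : f.base x = s)
    (hmax : ∀ x' : X, f.base x' = f.base x → x' ⤳ x → x' = x) :
    ∃ z : ↥(f.fiber s), f.fiberι s z = x ∧
      closure ({z} : Set ↥(f.fiber s)) ∈ irreducibleComponents ↥(f.fiber s) ∧
      topologicalKrullDim ↥(closure ({z} : Set ↥(f.fiber s))) = (ptTrdeg f x : WithBot ℕ∞) := by
  letI : (f.fiber s).Over (Spec (CommRingCat.of (Y.residueField s))) :=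
    ⟨f.fiberToSpecResidueField s⟩
  haveI : LocallyOfFiniteType ((f.fiber s) ↘ Spec (CommRingCat.of (Y.residueField s))) :=
    locallyOfFiniteType_fiberToSpecResidueField f _
  have : x ∈ Set.range (f.fiberι s) := by rw [f.range_fiberι]; exact hxs
  obtain ⟨z, rfl⟩ := this
  refine ⟨z, rfl, mem_irreducibleComponents_of_forall_specializes z ?_, ?_⟩
  · intro w hw
    have h1 : f.fiberι s w ⤳ f.fiberι s z :=
      (f.fiberι s).isEmbedding.isInducing.specializes_iff.mpr hw
    have h2 : f.base (f.fiberι s w) = f.base (f.fiberι s z) := by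
      have : f.fiberι s w ∈ Set.range (f.fiberι s) := ⟨w, rfl⟩
      rw [f.range_fiberι] at this
      exact this.trans hxs.symm
    exact (f.fiberι s).isEmbedding.injective (hmax _ h2 h1)
  · rw [topologicalKrullDim_closure_singleton (Y.residueField s) (f.fiber s) z,
      trdegNat_eq_ptTrdeg]

/-- the generic point of an irreducible component of a fibre. -/
theorem exists_generic_of_component (s : Y) (Z : Set ↥(f.fiber s))
    (hZ : Z ∈ irreducibleComponents ↥(f.fiber s)) :
    ∃ z : ↥(f.fiber s), closure ({z} : Set ↥(f.fiber s)) = Z ∧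
      (∀ x' : X, f.base x' = f.base (f.fiberι s z) → x' ⤳ f.fiberι s z → x' = f.fiberι s z) ∧
      topologicalKrullDim Z = (ptTrdeg f (f.fiberι s z) : WithBot ℕ∞) := by
  letI : (f.fiber s).Over (Spec (CommRingCat.of (Y.residueField s))) :=
    ⟨f.fiberToSpecResidueField s⟩
  haveI : LocallyOfFiniteType ((f.fiber s) ↘ Spec (CommRingCat.of (Y.residueField s))) :=
    locallyOfFiniteType_fiberToSpecResidueField f _
  obtain ⟨z, hz⟩ := QuasiSober.sober hZ.1 (isClosed_of_mem_irreducibleComponents _ hZ)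
  have hzcl : closure ({z} : Set ↥(f.fiber s)) = Z := hz.def
  have hzmax : ∀ w : ↥(f.fiber s), w ⤳ z → w = z := fun w hw =>
    eq_of_specializes_generic z w (by rw [hzcl]; exact hZ) hw
  have hfx : f.base (f.fiberι s z) = s := fiber_point_maps f s z
  refine ⟨z, hzcl, ?_, ?_⟩
  · intro x' hx' hsp
    have hx's : f.base x' = s := hx'.trans hfx
    have : x' ∈ Set.range (f.fiberι s) := by rw [f.range_fiberι]; exact hx's
    obtain ⟨w, rfl⟩ := this
    have hw : w ⤳ z := (f.fiberι s).isEmbedding.isInducing.specializes_iff.mp hsp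
    rw [hzmax w hw]
  · rw [← hzcl, topologicalKrullDim_closure_singleton (Y.residueField s) (f.fiber s) z,
      trdegNat_eq_ptTrdeg]

/-- the local fibre dimension is a natural number. -/
theorem exists_fibreDimAt_eq_nat (x : X) : ∃ e : ℕ, FlatMor.fibreDimAt f x = (e : WithBot ℕ∞) := by
  obtain ⟨b, hb⟩ := exists_ringKrullDim_stalk_asFiber_eq_nat f x
  refine ⟨b + ptTrdeg f x, ?_⟩
  rw [fibreDimAt_eq_stalk_add_ptTrdeg, hb]
  push_cast
  rfl

/-- points of fibre dimension at most `e`. -/
def De (e : ℕ) {X Y : Scheme.{u}} (f : X ⟶ Y) : Set X :=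
  {x | FlatMor.fibreDimAt f x ≤ (e : WithBot ℕ∞)}

/-- the locus of points at which the fibre is not equidimensional. -/
def Lne {X Y : Scheme.{u}} (f : X ⟶ Y) : Set X := ⋃ e : ℕ, ((De e f)ᶜ ∩ Cm f (De e f) e)

/-- **dictionary**: equidimensionality of the fibre at `x` in terms of the loci `De`. -/
theorem equidim_locus_eq :
    {x : X | ∃ e : ℕ, ∀ Z ∈ irreducibleComponents (↥(f.fiber (f.base x)) : Type u),
      f.asFiber x ∈ Z → topologicalKrullDim (↥Z : Type u) = e} = (Lne f)ᶜ := by
  ext x
  rw [Set.mem_setOf_eq, Set.mem_compl_iff]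
  unfold Lne
  rw [Set.mem_iUnion]
  constructor
  · rintro ⟨e, he⟩ ⟨e', hx1, z, hz1, hz2, hz3, -⟩
    -- Step A
    have hA : FlatMor.fibreDimAt f x ≤ (e : WithBot ℕ∞) := by
      refine fibreDimAt_le_of_forall_maximal f x e ?_
      intro w' hw' hsp hmax
      obtain ⟨z', hz', hcomp, hdim⟩ := exists_component_of_maximal f (f.base x) w' hw' hmax
      have hmem : f.asFiber x ∈ closure ({z'} : Set ↥(f.fiber (f.base x))) := by
        rw [← specializes_iff_mem_closure,
          ← (f.fiberι (f.base x)).isEmbedding.isInducing.specializes_iff, hz', f.fiberι_asFiber]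
        exact hsp
      have h1 := he _ hcomp hmem
      rw [hdim] at h1
      have : ptTrdeg f w' = e := by exact_mod_cast h1
      exact this.le
    have hlt : e' < e := by
      by_contra hcon
      rw [not_lt] at hcon
      apply hx1
      show FlatMor.fibreDimAt f x ≤ (e' : WithBot ℕ∞)
      exact hA.trans (by exact_mod_cast hcon)
    -- Step B
    obtain ⟨b, hb⟩ := exists_fiber_point f hz2
    haveI := isLocallyNoetherian_fiber f (f.base x)
    obtain ⟨y, hy, hyb⟩ := exists_generic_specializes b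
    letI : (f.fiber (f.base x)).Over (Spec (CommRingCat.of (Y.residueField (f.base x)))) :=
      ⟨f.fiberToSpecResidueField (f.base x)⟩
    haveI : LocallyOfFiniteType ((f.fiber (f.base x)) ↘
        Spec (CommRingCat.of (Y.residueField (f.base x)))) :=
      locallyOfFiniteType_fiberToSpecResidueField f _
    have hba : b ⤳ f.asFiber x := by
      rw [← (f.fiberι (f.base x)).isEmbedding.isInducing.specializes_iff, hb, f.fiberι_asFiber]
      exact hz3
    have hmem : f.asFiber x ∈ closure ({y} : Set ↥(f.fiber (f.base x))) := by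
      rw [← specializes_iff_mem_closure]
      exact hyb.trans hba
    have h1 := he _ hy hmem
    rw [topologicalKrullDim_closure_singleton (Y.residueField (f.base x)) (f.fiber (f.base x)) y,
      trdegNat_eq_ptTrdeg] at h1
    have h2 : (ptTrdeg f (f.fiberι (f.base x) y) : WithBot ℕ∞) ≤ (e' : WithBot ℕ∞) := by
      refine (ptTrdeg_le_fibreDimAt f _).trans ((fibreDimAt_le_of_specializes f _ z ?_).trans hz1)
      rw [← hb]
      exact (f.fiberι (f.base x)).isEmbedding.isInducing.specializes_iff.mpr hyb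
    rw [h1] at h2
    have : e ≤ e' := by exact_mod_cast h2
    omega
  · intro hx
    obtain ⟨e, he⟩ := exists_fibreDimAt_eq_nat f x
    refine ⟨e, fun Z hZ hmem => ?_⟩
    obtain ⟨z, hzcl, hzmax, hdim⟩ := exists_generic_of_component f (f.base x) Z hZ
    rw [hdim]
    have hwx : f.fiberι (f.base x) z ⤳ x := by
      have h1 : z ⤳ f.asFiber x := by
        rw [specializes_iff_mem_closure, hzcl]; exact hmem
      have h2 := (f.fiberι (f.base x)).isEmbedding.isInducing.specializes_iff.mpr h1
      rwa [f.fiberι_asFiber] at h2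
    have hfw : f.base (f.fiberι (f.base x) z) = f.base x := fiber_point_maps f _ z
    have hd1 : FlatMor.fibreDimAt f (f.fiberι (f.base x) z) =
        (ptTrdeg f (f.fiberι (f.base x) z) : WithBot ℕ∞) :=
      fibreDimAt_eq_ptTrdeg_of_maximal f _ hzmax
    have hle : (ptTrdeg f (f.fiberι (f.base x) z) : WithBot ℕ∞) ≤ (e : WithBot ℕ∞) := by
      rw [← hd1, ← he]
      exact fibreDimAt_le_of_specializes f _ x hwx
    have hle' : ptTrdeg f (f.fiberι (f.base x) z) ≤ e := by exact_mod_cast hle
    rcases Nat.lt_or_ge (ptTrdeg f (f.fiberι (f.base x) z)) e with hlt | hge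
    · exfalso
      apply hx
      refine ⟨ptTrdeg f (f.fiberι (f.base x) z), ?_, f.fiberι (f.base x) z, ?_, hfw, hwx, ?_⟩
      · show ¬ FlatMor.fibreDimAt f x ≤ _
        rw [he]
        intro hcon
        have : e ≤ ptTrdeg f (f.fiberι (f.base x) z) := by exact_mod_cast hcon
        omega
      · show FlatMor.fibreDimAt f _ ≤ _
        rw [hd1]
      · exact (fdim_le_fibreDimAt f _).trans (le_of_eq hd1)
    · have : ptTrdeg f (f.fiberι (f.base x) z) = e := le_antisymm hle' hge
      rw [this]

end Comp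

section BC

open Groth.Agent.Lib.Helper3.LocDimBC Groth.Agent.Lib.Helper3.FlatFibDim

theorem de_baseChange (e : ℕ) {X Y X' Y' : Scheme.{u}} (f : X ⟶ Y) (g : Y' ⟶ Y) (g' : X' ⟶ X)
    (f' : X' ⟶ Y') (hf : LocallyOfFiniteType f) (hsq : IsPullback g' f' f g) :
    De e f' = g' ⁻¹' De e f := by
  ext x'
  show FlatMor.fibreDimAt f' x' ≤ _ ↔ FlatMor.fibreDimAt f (g' x') ≤ _
  rw [fibreDimAt_eq_of_isPullback f g g' f' hsq x']

theorem de_openImmersion (e : ℕ) {X Y U : Scheme.{u}} (f : X ⟶ Y) (j : U ⟶ X)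
    (hj : IsOpenImmersion j) : De e (j ≫ f) = j ⁻¹' De e f := by
  ext u
  show FlatMor.fibreDimAt (j ≫ f) u ≤ _ ↔ FlatMor.fibreDimAt f (j u) ≤ _
  rw [fibreDimAt_comp_of_isOpenImmersion]

theorem lne_baseChange {X Y X' Y' : Scheme.{u}} (f : X ⟶ Y) (g : Y' ⟶ Y) (g' : X' ⟶ X)
    (f' : X' ⟶ Y') (hf : LocallyOfFiniteType f) (hsq : IsPullback g' f' f g) :
    Lne f' = g' ⁻¹' Lne f := by
  unfold Lne
  rw [Set.preimage_iUnion]
  congr 1
  funext e
  rw [Set.preimage_inter, Set.preimage_compl, de_baseChange e f g g' f' hf hsq,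
    cm_baseChange hsq]

theorem lne_openImmersion {X Y U : Scheme.{u}} (f : X ⟶ Y) (j : U ⟶ X)
    (hj : IsOpenImmersion j) : Lne (j ≫ f) = j ⁻¹' Lne f := by
  unfold Lne
  rw [Set.preimage_iUnion]
  congr 1
  funext e
  rw [Set.preimage_inter, Set.preimage_compl, de_openImmersion e f j hj, cm_openImmersion]

end BC

section Generic

open Groth.Agent.Lib.Helper6.FibSub Groth.Agent.Lib.Helper5.LocusGeneric
  Groth.Agent.Lib.Helper6.FibDom Groth.Agent.Lib.Helper4.DVRSch

variable {P S : Scheme.{u}} (π : P ⟶ S) [IsIntegral S] [AlgebraicGeometry.IsNoetherian S]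
  [LocallyOfFiniteType π] [QuasiCompact π]

theorem exists_open_forall_closure_comm (N : ℕ) :
    ∃ V : S.Opens, genericPoint S ∈ V ∧ ∀ e < N, ∀ s ∈ V,
      tr π (closure (De e π)) s ⊆ closure (tr π (De e π) s) := by
  haveI : IsLocallyNoetherian P := LocallyOfFiniteType.isLocallyNoetherian π
  haveI : CompactSpace P := QuasiCompact.compactSpace_of_compactSpace π
  haveI : AlgebraicGeometry.IsNoetherian P := {}
  induction N with
  | zero => exact ⟨⊤, trivial, fun e he => absurd he (Nat.not_lt_zero e)⟩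
  | succ N ih =>
    obtain ⟨V₁, h₁, h₁'⟩ := ih
    obtain ⟨V₂, h₂, h₂'⟩ := exists_open_closure_comm π (De N π)
      (Groth.Agent.Lib.Helper5.LocusGeneric.IsOpen.isConstructible_of_noetherianSpace
        (isOpen_setOf_fibreDimAt_le' π _))
    refine ⟨V₁ ⊓ V₂, ⟨h₁, h₂⟩, fun e he s hs => ?_⟩
    rcases Nat.lt_succ_iff_lt_or_eq.mp he with h | rfl
    · exact h₁' e h s hs.1
    · exact h₂' s hs.2

omit [IsIntegral S] [AlgebraicGeometry.IsNoetherian S] in
/-- over the good open, the non-equidimensional locus is a finite union of closed sets. -/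
theorem mem_lne_iff_of_generic (N : ℕ) (hN : ∀ x : P, FlatMor.fibreDimAt π x ≤ (N : WithBot ℕ∞))
    (V : S.Opens) (hV : ∀ e < N, ∀ s ∈ V,
      tr π (closure (De e π)) s ⊆ closure (tr π (De e π) s)) (x : P) (hx : π x ∈ V) :
    x ∈ Lne π ↔ x ∈ ⋃ e ∈ Finset.range N, ((De e π)ᶜ ∩ closure (De e π)) := by
  unfold Lne
  simp only [Set.mem_iUnion, Finset.mem_range, exists_prop]
  constructor
  · rintro ⟨e, hx1, z, hz1, hz2, hz3, -⟩
    have he : e < N := by
      by_contra hcon
      rw [not_lt] at hcon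
      apply hx1
      show FlatMor.fibreDimAt π x ≤ (e : WithBot ℕ∞)
      exact (hN x).trans (by exact_mod_cast hcon)
    refine ⟨e, he, hx1, ?_⟩
    exact closure_mono (Set.singleton_subset_iff.mpr hz1) (specializes_iff_mem_closure.mp hz3)
  · rintro ⟨e, he, hx1, hx2⟩
    refine ⟨e, hx1, ?_⟩
    have ha : π.asFiber x ∈ tr π (closure (De e π)) (π x) := by
      show π.fiberι (π x) (π.asFiber x) ∈ closure (De e π)
      rw [π.fiberι_asFiber]; exact hx2
    have ha' := hV e he (π x) hx ha
    have hTo : IsOpen (tr π (De e π) (π x)) :=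
      (isOpen_setOf_fibreDimAt_le' π _).preimage (π.fiberι (π x)).continuous
    haveI := fiber_noetherianSpace π (π x)
    haveI : NoetherianSpace ↥(tr π (De e π) (π x)) := NoetherianSpace.set _
    haveI : QuasiSober ↥(tr π (De e π) (π x)) := hTo.isOpenEmbedding_subtypeVal.quasiSober
    obtain ⟨b, hb⟩ := exists_specializes_of_noetherianSpace
      (Subtype.val : ↥(tr π (De e π) (π x)) → ↥(π.fiber (π x))) continuous_subtype_val
      (z := π.asFiber x) (by rw [Subtype.range_coe]; exact ha')
    have hz : π.fiberι (π x) b.1 ⤳ x := by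
      have := (π.fiberι (π x)).isEmbedding.isInducing.specializes_iff.mpr hb
      rwa [π.fiberι_asFiber] at this
    have hzD : π.fiberι (π x) b.1 ∈ De e π := b.2
    exact ⟨_, hzD, fiber_point_maps π _ _, hz, (fdim_le_fibreDimAt π _).trans hzD⟩

theorem lne_generic (A₁ B₁ : Type u) [CommRing A₁] [IsDomain A₁] [CommRing B₁] [Algebra A₁ B₁]
    [Algebra.FinitePresentation A₁ B₁] (hA₁ : Algebra.FiniteType ℤ A₁) :
    ∃ g : A₁, g ≠ 0 ∧ IsConstructible (Lne (Spec.map (CommRingCat.ofHom
      (algebraMap (Localization.Away g) (Localization.Away g ⊗[A₁] B₁))))) := by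
  haveI : IsNoetherianRing A₁ := Algebra.FiniteType.isNoetherianRing ℤ A₁
  have hlfp : LocallyOfFinitePresentation (fA A₁ B₁) := by
    rw [LocallyOfFinitePresentation.SpecMap_iff, CommRingCat.hom_ofHom,
      RingHom.finitePresentation_algebraMap]
    infer_instance
  haveI := hlfp
  haveI : LocallyOfFiniteType (fA A₁ B₁) := inferInstance
  haveI : QuasiCompact (fA A₁ B₁) := inferInstance
  haveI : CompactSpace ↥(Spec (CommRingCat.of B₁)) := inferInstance
  obtain ⟨N, hN⟩ := exists_fibreDimAt_le (fA A₁ B₁)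
  obtain ⟨V, hηV, hV⟩ := exists_open_forall_closure_comm (fA A₁ B₁) N
  obtain ⟨_, ⟨a, rfl⟩, hηa, hsub⟩ :=
    PrimeSpectrum.isTopologicalBasis_basic_opens.exists_subset_of_mem_open
      (show (genericPoint (Spec (CommRingCat.of A₁)) : PrimeSpectrum A₁) ∈
        (V : Set (Spec (CommRingCat.of A₁))) from hηV) V.isOpen
  have ha : a ≠ 0 := by
    rintro rfl
    simp at hηa
  refine ⟨a, ha, ?_⟩
  have hL := lne_baseChange (fA A₁ B₁) _ _ _ inferInstance (isPullback_away A₁ B₁ a)
  let E : Set (Spec (CommRingCat.of B₁)) :=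
    ⋃ e ∈ Finset.range N, ((De e (fA A₁ B₁))ᶜ ∩ closure (De e (fA A₁ B₁)))
  have hE : IsClosed E := by
    refine Set.Finite.isClosed_biUnion (Finset.finite_toSet _) fun e _ => ?_
    exact (isOpen_setOf_fibreDimAt_le' (fA A₁ B₁) _).isClosed_compl.inter isClosed_closure
  have heq : Lne (fAway A₁ B₁ a) = (jAway A₁ B₁ a) ⁻¹' E := by
    rw [hL]
    ext w
    have hw : fA A₁ B₁ (jAway A₁ B₁ a w) ∈
        (PrimeSpectrum.basicOpen a : Set (PrimeSpectrum A₁)) := by
      have : jAway A₁ B₁ a w ∈ Set.range (jAway A₁ B₁ a) := ⟨w, rfl⟩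
      rw [range_jAway] at this
      exact this
    exact mem_lne_iff_of_generic (fA A₁ B₁) N hN V hV _ (hsub hw)
  have hfp1 : Algebra.FinitePresentation A₁ (Localization.Away a) :=
    IsLocalization.Away.finitePresentation a
  have hft1 : Algebra.FiniteType A₁ (Localization.Away a) := inferInstance
  have hft2 : Algebra.FiniteType ℤ (Localization.Away a) := Algebra.FiniteType.trans hA₁ hft1
  have hft3 : Algebra.FiniteType ℤ (Localization.Away a ⊗[A₁] B₁) :=
    Algebra.FiniteType.trans hft2 inferInstance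
  haveI : IsNoetherianRing (Localization.Away a ⊗[A₁] B₁) :=
    Algebra.FiniteType.isNoetherianRing ℤ _
  haveI : NoetherianSpace ↥(Spec (CommRingCat.of (Localization.Away a ⊗[A₁] B₁))) :=
    inferInstanceAs (NoetherianSpace (PrimeSpectrum (Localization.Away a ⊗[A₁] B₁)))
  show IsConstructible (Lne (fAway A₁ B₁ a))
  rw [heq]
  exact (IsOpen.isConstructible_of_noetherianSpace
    (hE.isOpen_compl.preimage (jAway A₁ B₁ a).continuous)).of_compl

theorem isLocallyConstructible_lne {X Y : Scheme.{u}} (f : X ⟶ Y)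
    [LocallyOfFinitePresentation f] : IsLocallyConstructible (Lne f) := by
  refine isLocallyConstructible_locus_int (fun {X Y} f => Lne f)
    (fun f g g' f' hf hsq => lne_baseChange f g g' f' inferInstance hsq)
    (fun f j hj hf => lne_openImmersion f j hj) ?_ f
  intro A B φ hA hφ
  exact isConstructible_of_generic (fun {X Y} f => Lne f)
    (fun f g g' f' hf hsq => lne_baseChange f g g' f' inferInstance hsq)
    (fun A₁ B₁ _ _ _ _ _ hA₁ => lne_generic A₁ B₁ hA₁) φ hA hφ

/-- **S3451**: the locus where the fibre is equidimensional at `x` is locally constructible. -/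
theorem isLocallyConstructible_equidim {X Y : Scheme.{u}} (f : X ⟶ Y)
    [LocallyOfFinitePresentation f] :
    IsLocallyConstructible {x : X | ∃ e : ℕ,
      ∀ Z ∈ irreducibleComponents (↥(f.fiber (f.base x)) : Type u),
      f.asFiber x ∈ Z → topologicalKrullDim (↥Z : Type u) = e} := by
  rw [equidim_locus_eq f]
  exact Groth.Agent.Lib.Helper6.FibGeomLocus.isLocallyConstructible_compl
    (isLocallyConstructible_lne f)

end Generic

end Groth.Agent.Lib.Helper6.FibEqui
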