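import Mathlib
import Groth.Agent.Lib.Helper6FibNormal
import Groth.Agent.Lib.Helper28SkLift
import Groth.Agent.Lib.Helper4DVRSch
import Groth.Agent.Lib.Helper3FlatFibDim
import Groth.Agent.Lib.Helper3FlatModel
import Groth.Agent.S3422

set_option autoImplicit false
set_option linter.style.haveILetI false
set_option linter.unusedVariables false
universe u
open CategoryTheory CategoryTheory.Limits AlgebraicGeometry Topology TopologicalSpace IsLocalRing
  TensorProduct

namespace Groth.Agent.Lib.Helper6.FibSkOpen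

open Groth.Agent.Lib.Helper6.FibCodim Groth.Agent.Lib.Helper6.FibSk
  Groth.Agent.Lib.Helper6.FibNormal Groth.Agent.Lib.Helper5.TensorSk
  Groth.Agent.Lib.Helper5.FiberStalk Groth.Agent.Lib.Helper28 Groth.Agent.Lib.Helper4.DVRSch

section DVR

variable (V : Type u) [CommRing V] [IsDomain V]

/-- the local ring of `Spec V` at the generic point has zero maximal ideal. -/
theorem maximalIdeal_stalk_bot :
    maximalIdeal ((Spec (CommRingCat.of V)).presheaf.stalk
      (⟨⊥, Ideal.isPrime_bot⟩ : Spec (CommRingCat.of V))) = ⊥ := by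
  set t : Spec (CommRingCat.of V) := ⟨⊥, Ideal.isPrime_bot⟩ with ht
  haveI : t.asIdeal.IsPrime := t.isPrime
  letI : Algebra V ↑((Spec (CommRingCat.of V)).presheaf.stalk t) :=
    StructureSheaf.stalkAlgebra V t
  haveI : IsLocalization.AtPrime (↑((Spec (CommRingCat.of V)).presheaf.stalk t)) t.asIdeal :=
    StructureSheaf.IsLocalization.to_stalk V t
  have h1 := IsLocalization.AtPrime.map_eq_maximalIdeal t.asIdeal
    ((Spec (CommRingCat.of V)).presheaf.stalk t)
  have h2 : t.asIdeal = ⊥ := rfl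
  rw [← h1, h2, Ideal.map_bot]

variable [IsDiscreteValuationRing V]

/-- the local ring of `Spec V` at the closed point has principal maximal ideal generated by a
nonzero element. -/
theorem exists_maximalIdeal_stalk_closedPoint :
    ∃ t0 : (Spec (CommRingCat.of V)).presheaf.stalk (closedPoint V : Spec (CommRingCat.of V)),
      t0 ≠ 0 ∧ maximalIdeal ((Spec (CommRingCat.of V)).presheaf.stalk
        (closedPoint V : Spec (CommRingCat.of V))) = Ideal.span {t0} := by
  set t : Spec (CommRingCat.of V) := closedPoint V with ht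
  haveI : t.asIdeal.IsPrime := t.isPrime
  letI : Algebra V ↑((Spec (CommRingCat.of V)).presheaf.stalk t) :=
    StructureSheaf.stalkAlgebra V t
  haveI : IsLocalization.AtPrime (↑((Spec (CommRingCat.of V)).presheaf.stalk t)) t.asIdeal :=
    StructureSheaf.IsLocalization.to_stalk V t
  have h1 := IsLocalization.AtPrime.map_eq_maximalIdeal t.asIdeal
    ((Spec (CommRingCat.of V)).presheaf.stalk t)
  obtain ⟨ϖ, hϖ⟩ := IsDiscreteValuationRing.exists_irreducible V
  have h2 : t.asIdeal = Ideal.span {ϖ} := hϖ.maximalIdeal_eq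
  refine ⟨algebraMap V _ ϖ, ?_, ?_⟩
  · intro h0
    have hinj : Function.Injective
        (algebraMap V ↑((Spec (CommRingCat.of V)).presheaf.stalk t)) :=
      IsLocalization.injective _ (M := t.asIdeal.primeCompl)
        (Ideal.primeCompl_le_nonZeroDivisors _)
    exact hϖ.ne_zero (hinj (by rw [h0, map_zero]))
  · rw [← h1, h2, Ideal.map_span, Set.image_singleton]

/-- **The DVR case**: a flat morphism locally of finite presentation to the spectrum of a
discrete valuation ring, with a section: if the fibre is `(S_k)` at the closed point of the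
section, it is `(S_k)` at the generic point of the section. -/
theorem lsk_dvr (k : ℕ) {Z : Scheme.{u}} (h : Z ⟶ Spec (CommRingCat.of V)) [Flat h]
    [LocallyOfFinitePresentation h] (σ : Spec (CommRingCat.of V) ⟶ Z) (hσ : σ ≫ h = 𝟙 _)
    (hz : σ (closedPoint V : Spec (CommRingCat.of V)) ∈ Lsk k h) :
    σ (⟨⊥, Ideal.isPrime_bot⟩ : Spec (CommRingCat.of V)) ∈ Lsk k h := by
  set s : Spec (CommRingCat.of V) := closedPoint V with hs
  set η : Spec (CommRingCat.of V) := ⟨⊥, Ideal.isPrime_bot⟩ with hη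
  have hhs : h (σ s) = s := by
    rw [← Scheme.Hom.comp_apply, hσ]; rfl
  have hhη : h (σ η) = η := by
    rw [← Scheme.Hom.comp_apply, hσ]; rfl
  haveI : IsLocallyNoetherian Z := LocallyOfFiniteType.isLocallyNoetherian h
  have hsp0 : η ⤳ s := (PrimeSpectrum.le_iff_specializes η s).mp bot_le
  have hspec : σ η ⤳ σ s := hsp0.map σ.continuous
  haveI := isLocallyNoetherian_fiber h (h (σ s))
  haveI := isLocallyNoetherian_fiber h (h (σ η))
  -- Step 1
  obtain ⟨e⟩ := nonempty_stalk_asFiber_equiv h (σ s)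
  have key : ∀ (p : Spec (CommRingCat.of V)) (hp : p = s),
      ∃ t0 : (Spec (CommRingCat.of V)).presheaf.stalk p, t0 ≠ 0 ∧
        maximalIdeal ((Spec (CommRingCat.of V)).presheaf.stalk p) = Ideal.span {t0} := by
    rintro p rfl
    exact exists_maximalIdeal_stalk_closedPoint V
  obtain ⟨t0, ht0, hmax⟩ := key (h (σ s)) hhs
  have hmap : (maximalIdeal ((Spec (CommRingCat.of V)).presheaf.stalk (h (σ s)))).map
      (h.stalkMap (σ s)).hom = Ideal.span {(h.stalkMap (σ s)).hom t0} := by
    rw [hmax, Ideal.map_span, Set.image_singleton]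
  have hflat : (h.stalkMap (σ s)).hom.Flat := Flat.stalkMap h (σ s)
  have hreg : IsSMulRegular (Z.presheaf.stalk (σ s)) ((h.stalkMap (σ s)).hom t0) := by
    letI := (h.stalkMap (σ s)).hom.toAlgebra
    haveI : Module.Flat ((Spec (CommRingCat.of V)).presheaf.stalk (h (σ s)))
      (Z.presheaf.stalk (σ s)) := hflat
    have h1 : IsSMulRegular ((Spec (CommRingCat.of V)).presheaf.stalk (h (σ s))) t0 :=
      (isRegular_of_ne_zero ht0).isSMulRegular
    exact h1.of_flat
  have hmem : (h.stalkMap (σ s)).hom t0 ∈ maximalIdeal (Z.presheaf.stalk (σ s)) := by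
    have : t0 ∈ maximalIdeal ((Spec (CommRingCat.of V)).presheaf.stalk (h (σ s))) := by
      rw [hmax]; exact Ideal.mem_span_singleton_self t0
    rw [mem_maximalIdeal] at this ⊢
    exact (map_mem_nonunits_iff (h.stalkMap (σ s)).hom t0).mpr this
  have hS : LocCoh.HasSk k (Z.presheaf.stalk (σ s) ⧸ Ideal.span {(h.stalkMap (σ s)).hom t0})
      (Z.presheaf.stalk (σ s) ⧸ Ideal.span {(h.stalkMap (σ s)).hom t0}) :=
    hasSk_self_of_ringEquiv (e.trans (Ideal.quotEquivOfEq hmap)) k hz
  have hB : LocCoh.HasSk k (Z.presheaf.stalk (σ s)) (Z.presheaf.stalk (σ s)) :=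
    hasSk_of_hasSk_quotient_span_singleton k _ hmem hreg hS
  -- Step 2
  have hB' : LocCoh.HasSk k (Z.presheaf.stalk (σ η)) (Z.presheaf.stalk (σ η)) := by
    rw [hasSk_iff, forall_localization_iff] at hB ⊢
    intro a ha
    exact hB a (ha.trans hspec)
  -- Step 3
  obtain ⟨e'⟩ := nonempty_stalk_asFiber_equiv h (σ η)
  have h0 : ∀ (p : Spec (CommRingCat.of V)) (hp : p = η),
      maximalIdeal ((Spec (CommRingCat.of V)).presheaf.stalk p) = ⊥ := by
    rintro p rfl
    exact maximalIdeal_stalk_bot V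
  have h1 : (maximalIdeal ((Spec (CommRingCat.of V)).presheaf.stalk (h (σ η)))).map
      (h.stalkMap (σ η)).hom = ⊥ := by rw [h0 _ hhη, Ideal.map_bot]
  exact hasSk_self_of_ringEquiv
    (e'.trans ((Ideal.quotEquivOfEq h1).trans (RingEquiv.quotientBot _))).symm k hB'

end DVR

section Noeth

/-- over a locally Noetherian base, the fibrewise `(S_k)` locus of a flat morphism locally of
finite presentation is stable under generization. -/
theorem lsk_generization (k : ℕ) {X Y : Scheme.{u}} [IsLocallyNoetherian Y] (f : X ⟶ Y) [Flat f]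
    [LocallyOfFinitePresentation f] {x x' : X} (hx : x' ⤳ x) (hmem : x ∈ Lsk k f) :
    x' ∈ Lsk k f := by
  by_cases hne : x' = x
  · rw [hne]; exact hmem
  haveI : IsLocallyNoetherian X := LocallyOfFiniteType.isLocallyNoetherian f
  obtain ⟨V, hV, g, hg1, hg2⟩ := exists_dvr_hom hx hne (L := X.residueField x')
    (𝟙 (X.residueField x')) (by
      show (RingHom.id _).EssFiniteType
      exact RingHom.FiniteType.essFiniteType (RingHom.FiniteType.id _))
  haveI := hV
  let t := g ≫ f
  let fT := pullback.snd f t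
  have hpb := IsPullback.of_hasPullback f t
  let σ : Spec (CommRingCat.of ↥V) ⟶ pullback f t := pullback.lift g (𝟙 _) (by simp [t])
  have hσ : σ ≫ fT = 𝟙 _ := pullback.lift_snd _ _ _
  have hσ1 : σ ≫ pullback.fst f t = g := pullback.lift_fst _ _ _
  have hbc := lsk_baseChange k f t (pullback.fst f t) fT inferInstance hpb
  have hgen : g (⟨⊥, Ideal.isPrime_bot⟩ : Spec (CommRingCat.of ↥V)) = x' := by
    let pt : Spec (CommRingCat.of (X.residueField x')) := ⟨⊥, Ideal.isPrime_bot⟩
    have h1 : Spec.map (CommRingCat.ofHom V.subtype) pt =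
        (⟨⊥, Ideal.isPrime_bot⟩ : Spec (CommRingCat.of ↥V)) := by
      apply PrimeSpectrum.ext
      show Ideal.comap V.subtype ⊥ = ⊥
      rw [← RingHom.ker_eq_comap_bot]
      exact (RingHom.injective_iff_ker_eq_bot _).mp Subtype.val_injective
    rw [← h1]
    show (Spec.map (CommRingCat.ofHom V.subtype) ≫ g) pt = x'
    rw [hg1, Scheme.Hom.comp_apply]
    exact Scheme.fromSpecResidueField_apply _ _
  have h1 : σ (closedPoint ↥V : Spec (CommRingCat.of ↥V)) ∈ Lsk k fT := by
    rw [hbc, Set.mem_preimage, ← Scheme.Hom.comp_apply, hσ1, hg2]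
    exact hmem
  have h2 := lsk_dvr (↥V) k fT σ hσ h1
  rw [hbc, Set.mem_preimage, ← Scheme.Hom.comp_apply, hσ1, hgen] at h2
  exact h2

/-- over a locally Noetherian base, the fibrewise `(S_k)` locus of a flat morphism locally of
finite presentation is open. -/
theorem isOpen_lsk_of_isLocallyNoetherian (k : ℕ) {X Y : Scheme.{u}} [IsLocallyNoetherian Y]
    (f : X ⟶ Y) [Flat f] [LocallyOfFinitePresentation f] : IsOpen (Lsk k f) := by
  apply Groth.Agent.Lib.Helper3.FlatFibDim.isOpen_of_isLocallyConstructible_of_stableUnderGeneralization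
  · exact Groth.Agent.S3422.result f k
  · intro x x' hx hmem
    exact lsk_generization k f hx hmem

end Noeth

section General

open Groth.Agent.Lib.Helper3.FlatOpen Groth.Agent.Lib.Helper6.FibCodimLocus
  Groth.Agent.Lib.Helper5.FibCodepthConstr

/-- A flat morphism of affine schemes, locally of finite presentation, is a base change of a flat
`Spec B₀ ⟶ Spec A₀` of finite presentation with `A₀` of finite type over `ℤ`. -/
theorem exists_flat_int_model {X Y : Scheme.{u}} [IsAffine X] [IsAffine Y] (f : X ⟶ Y)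
    [Flat f] [LocallyOfFinitePresentation f] :
    ∃ (A₀ B₀ : CommRingCat.{u}) (φ₀ : A₀ ⟶ B₀) (xZ : X ⟶ Spec B₀) (yZ : Y ⟶ Spec A₀),
      Algebra.FiniteType ℤ A₀ ∧ φ₀.hom.FinitePresentation ∧ φ₀.hom.Flat ∧
        IsPullback xZ f (Spec.map φ₀) yZ := by
  have hfp : f.appTop.hom.FinitePresentation := f.finitePresentation_appTop
  have hfl : f.appTop.hom.Flat := (HasRingHomProperty.iff_of_isAffine (P := @Flat)).mp inferInstance
  algebraize [f.appTop.hom]
  obtain ⟨A₀, B₀, _, _, _, _, hfg, hB₀, hB₀flat, ⟨e⟩⟩ := exists_flat_model Γ(Y, ⊤) Γ(X, ⊤)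
  let β : CommRingCat.of B₀ ⟶ Γ(X, ⊤) :=
    CommRingCat.ofHom (e.toRingEquiv.toRingHom.comp
      (Algebra.TensorProduct.includeRight (R := A₀) (A := Γ(Y, ⊤)) (B := B₀)).toRingHom)
  have hpo : IsPushout (CommRingCat.ofHom (algebraMap A₀ Γ(Y, ⊤)))
      (CommRingCat.ofHom (algebraMap A₀ B₀)) f.appTop β := by
    refine (CommRingCat.isPushout_tensorProduct A₀ Γ(Y, ⊤) B₀).of_iso (Iso.refl _) (Iso.refl _)
      (Iso.refl _) e.toRingEquiv.toCommRingCatIso (by simp) (by simp) ?_ ?_
    · ext y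
      show e (y ⊗ₜ[A₀] (1 : B₀)) = f.appTop.hom y
      have := e.commutes y
      rwa [Algebra.TensorProduct.algebraMap_apply] at this
    · ext y
      rfl
  have hpb := (isPullback_SpecMap_of_isPushout _ _ _ _ hpo).flip
  have hsq : IsPullback X.toSpecΓ f (Spec.map f.appTop) Y.toSpecΓ :=
    IsPullback.of_horiz_isIso ⟨(Scheme.toSpecΓ_naturality f).symm⟩
  refine ⟨CommRingCat.of A₀, CommRingCat.of B₀, CommRingCat.ofHom (algebraMap A₀ B₀),
    X.toSpecΓ ≫ Spec.map β, Y.toSpecΓ ≫ Spec.map (CommRingCat.ofHom (algebraMap A₀ Γ(Y, ⊤))),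
    hfg, ?_, ?_, hsq.paste_horiz hpb⟩
  · rw [CommRingCat.hom_ofHom, RingHom.finitePresentation_algebraMap]
    exact hB₀
  · rw [CommRingCat.hom_ofHom, RingHom.flat_algebraMap_iff]
    exact hB₀flat

/-- openness of a fibrewise locus of flat morphisms locally of finite presentation reduces to
bases of finite type over `ℤ`. -/
theorem isOpen_locus_of_int
    (L : ∀ {X Y : Scheme.{u}} (_ : X ⟶ Y), Set X)
    (hbc : ∀ {X Y X' Y' : Scheme.{u}} (f : X ⟶ Y) (g : Y' ⟶ Y) (g' : X' ⟶ X) (f' : X' ⟶ Y'),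
      LocallyOfFinitePresentation f → IsPullback g' f' f g → L f' = g' ⁻¹' L f)
    (hoi : ∀ {X Y U : Scheme.{u}} (f : X ⟶ Y) (j : U ⟶ X), IsOpenImmersion j →
      LocallyOfFinitePresentation f → L (j ≫ f) = j ⁻¹' L f)
    (hN : ∀ {A B : CommRingCat.{u}} (φ : A ⟶ B), Algebra.FiniteType ℤ A →
      φ.hom.FinitePresentation → φ.hom.Flat → IsOpen (L (Spec.map φ)))
    {X Y : Scheme.{u}} (f : X ⟶ Y) [Flat f] [LocallyOfFinitePresentation f] :
    IsOpen (L f) := by
  rw [isOpen_iff_forall_mem_open]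
  intro x hx
  obtain ⟨_, ⟨V : Y.Opens, hV, rfl⟩, hxV, -⟩ := Y.isBasis_affineOpens.exists_subset_of_mem_open
      (Set.mem_univ (f x)) isOpen_univ
  obtain ⟨_, ⟨U : X.Opens, hU, rfl⟩, hxU, hUV⟩ := X.isBasis_affineOpens.exists_subset_of_mem_open
      hxV (f ⁻¹ᵁ V).2
  haveI : IsAffine (U : Scheme.{u}) := hU
  haveI : IsAffine (V : Scheme.{u}) := hV
  obtain ⟨A₀, B₀, φ₀, xZ, yZ, hA₀, hφ₀, hφ₀flat, hpb⟩ := exists_flat_int_model (f.resLE V U hUV)
  have h1 : L (f.resLE V U hUV) = xZ ⁻¹' L (Spec.map φ₀) :=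
    hbc _ _ _ _ (by rwa [LocallyOfFinitePresentation.SpecMap_iff]) hpb
  have h2 : L (f.resLE V U hUV ≫ V.ι) = L (f.resLE V U hUV) := by
    have hp : IsPullback (𝟙 (U : Scheme.{u})) (f.resLE V U hUV) (f.resLE V U hUV ≫ V.ι) V.ι := by
      have h0 : IsPullback (𝟙 (U : Scheme.{u})) (f.resLE V U hUV) (f.resLE V U hUV)
          (𝟙 (V : Scheme.{u})) := IsPullback.of_horiz_isIso ⟨by simp⟩
      have := h0.paste_vert (IsKernelPair.id_of_mono V.ι)
      simpa using this
    rw [hbc _ _ _ _ inferInstance hp]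
    rfl
  have h3 : L (U.ι ≫ f) = U.ι ⁻¹' L f := hoi f U.ι inferInstance inferInstance
  rw [Scheme.Hom.resLE_comp_ι] at h2
  have hopen : IsOpen (U.ι ⁻¹' L f) := by
    rw [← h3, h2, h1]
    exact (hN φ₀ hA₀ hφ₀ hφ₀flat).preimage xZ.continuous
  refine ⟨U.ι '' (U.ι ⁻¹' L f), Set.image_preimage_subset _ _,
    U.ι.isOpenEmbedding.isOpenMap _ hopen, ?_⟩
  exact ⟨⟨x, hxU⟩, hx, rfl⟩

theorem lsk_openImmersion (k : ℕ) {X Y U : Scheme.{u}} (f : X ⟶ Y) (j : U ⟶ X)
    (hj : IsOpenImmersion j) (hf : LocallyOfFinitePresentation f) :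
    Lsk k (j ≫ f) = j ⁻¹' Lsk k f := by
  haveI : LocallyOfFiniteType f := inferInstance
  haveI : LocallyOfFinitePresentation (j ≫ f) := inferInstance
  haveI : LocallyOfFiniteType (j ≫ f) := inferInstance
  unfold Lsk
  rw [sk_locus_eq, sk_locus_eq]
  refine lc_openImmersion (fun {X Y} f => Zk f) (fun n => n + k) ?_ f j hj hf
  intro X Y U f j hj hf n
  show (Lcd n (j ≫ f))ᶜ = j ⁻¹' (Lcd n f)ᶜ
  rw [lcd_openImmersion n f j hj, Set.preimage_compl]

/-- **EGA IV 12.1.6 (S_k)**: for `f` flat and locally of finite presentation, the set of points at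
which the fibre satisfies `(S_k)` is open. -/
theorem isOpen_lsk (k : ℕ) {X Y : Scheme.{u}} (f : X ⟶ Y) [Flat f]
    [LocallyOfFinitePresentation f] : IsOpen (Lsk k f) := by
  refine isOpen_locus_of_int (fun {X Y} f => Lsk k f) ?_ ?_ ?_ f
  · intro X Y X' Y' f g g' f' hf hsq
    exact lsk_baseChange k f g g' f' hf hsq
  · intro X Y U f j hj hf
    exact lsk_openImmersion k f j hj hf
  · intro A B φ hA hφ hφflat
    haveI : IsNoetherianRing A := Algebra.FiniteType.isNoetherianRing ℤ A
    haveI : Flat (Spec.map φ) := by rwa [Flat.SpecMap_iff]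
    haveI : LocallyOfFinitePresentation (Spec.map φ) := by
      rwa [LocallyOfFinitePresentation.SpecMap_iff]
    exact isOpen_lsk_of_isLocallyNoetherian k (Spec.map φ)

end General

end Groth.Agent.Lib.Helper6.FibSkOpen
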