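import Mathlib
import Groth.Agent.Lib.Helper6FibSkOpen
import Groth.Agent.Lib.Helper5CMLocusOpen
import Groth.Agent.S0602

set_option autoImplicit false
set_option linter.style.haveILetI false
set_option linter.unusedVariables false
universe u
open CategoryTheory CategoryTheory.Limits AlgebraicGeometry Topology TopologicalSpace IsLocalRing
  TensorProduct

namespace Groth.Agent.Lib.Helper6.FibRkOpen

open Groth.Agent.Lib.Helper6.FibCodim Groth.Agent.Lib.Helper6.FibSk
  Groth.Agent.Lib.Helper6.FibNormal Groth.Agent.Lib.Helper5.TensorSk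
  Groth.Agent.Lib.Helper5.FiberStalk Groth.Agent.Lib.Helper28 Groth.Agent.Lib.Helper4.DVRSch
  Groth.Agent.Lib.Helper6.FibSkOpen Groth.Agent.Lib.Helper6.FibRk
  Groth.Agent.Lib.Helper6.FibCodimLocus Groth.Agent.Lib.Helper5.FibSmConstr
  Groth.Agent.Lib.Helper6.GenNowhere

section Ring

/-- depth bound at a prime minimal over `p + (t)`. -/
theorem depth_localization_le_of_mem_minimalPrimes {B : Type u} [CommRing B] [IsNoetherianRing B]
    (p q : Ideal B) [p.IsPrime] [q.IsPrime] (t : B)
    (hq : q ∈ (p ⊔ Ideal.span {t}).minimalPrimes) (k : ℕ) (hp : p.height ≤ (k : ℕ∞)) :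
    LocCoh.depth (Localization.AtPrime q) (Localization.AtPrime q) ≤ ((k + 1 : ℕ) : ℕ∞) := by
  have hpq : p ≤ q := le_sup_left.trans hq.1.2
  have h1 := depth_localization_le_depth_localization_add_height p q hpq
  have h2 : (q.map (Ideal.Quotient.mk p)).height ≤ 1 :=
    Ideal.map_height_le_one_of_mem_minimalPrimes hq
  have h3 := Groth.Agent.Lib.Helper5.CMLocusOpen.depth_le_height p
  calc LocCoh.depth (Localization.AtPrime q) (Localization.AtPrime q)
      ≤ LocCoh.depth (Localization.AtPrime p) (Localization.AtPrime p) +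
        (q.map (Ideal.Quotient.mk p)).height := h1
    _ ≤ (k : ℕ∞) + 1 := add_le_add (h3.trans hp) h2
    _ = ((k + 1 : ℕ) : ℕ∞) := by push_cast; rfl

end Ring

section DVR

variable (V : Type u) [CommRing V] [IsDomain V] [IsDiscreteValuationRing V]

/-- a uniformizer in the local ring of a point of the closed fibre of a flat morphism to the
spectrum of a discrete valuation ring. -/
theorem exists_uniformizer {Z : Scheme.{u}} (h : Z ⟶ Spec (CommRingCat.of V)) [Flat h]
    (z : Z) (hz : h z = (closedPoint V : Spec (CommRingCat.of V))) :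
    ∃ t : Z.presheaf.stalk z, t ∈ maximalIdeal (Z.presheaf.stalk z) ∧
      IsSMulRegular (Z.presheaf.stalk z) t ∧
      (maximalIdeal ((Spec (CommRingCat.of V)).presheaf.stalk (h z))).map (h.stalkMap z).hom =
        Ideal.span {t} ∧
      ∀ P : PrimeSpectrum (Z.presheaf.stalk z), t ∈ P.asIdeal →
        h (Z.fromSpecStalk z P) = h z := by
  have key : ∀ (p : Spec (CommRingCat.of V)) (hp : p = (closedPoint V : Spec (CommRingCat.of V))),
      ∃ t0 : (Spec (CommRingCat.of V)).presheaf.stalk p, t0 ≠ 0 ∧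
        maximalIdeal ((Spec (CommRingCat.of V)).presheaf.stalk p) = Ideal.span {t0} := by
    rintro p rfl
    exact exists_maximalIdeal_stalk_closedPoint V
  obtain ⟨t0, ht0, hmax⟩ := key (h z) hz
  have hmap : (maximalIdeal ((Spec (CommRingCat.of V)).presheaf.stalk (h z))).map
      (h.stalkMap z).hom = Ideal.span {(h.stalkMap z).hom t0} := by
    rw [hmax, Ideal.map_span, Set.image_singleton]
  have hflat : (h.stalkMap z).hom.Flat := Flat.stalkMap h z
  have hreg : IsSMulRegular (Z.presheaf.stalk z) ((h.stalkMap z).hom t0) := by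
    letI := (h.stalkMap z).hom.toAlgebra
    haveI : Module.Flat ((Spec (CommRingCat.of V)).presheaf.stalk (h z))
      (Z.presheaf.stalk z) := hflat
    have h1 : IsSMulRegular ((Spec (CommRingCat.of V)).presheaf.stalk (h z)) t0 :=
      (IsRegular.of_ne_zero ht0).isSMulRegular
    exact h1.of_flat
  have hmem : (h.stalkMap z).hom t0 ∈ maximalIdeal (Z.presheaf.stalk z) := by
    have : t0 ∈ maximalIdeal ((Spec (CommRingCat.of V)).presheaf.stalk (h z)) := by
      rw [hmax]; exact Ideal.mem_span_singleton_self t0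
    rw [mem_maximalIdeal] at this ⊢
    exact (map_mem_nonunits_iff (h.stalkMap z).hom t0).mpr this
  refine ⟨_, hmem, hreg, hmap, ?_⟩
  intro P hP
  have h1 := congrArg (fun ψ => ψ P) (Scheme.SpecMap_stalkMap_fromSpecStalk (f := h) (x := z))
  simp only [Scheme.Hom.comp_apply] at h1
  rw [← h1]
  have h2 : Spec.map (h.stalkMap z) P =
      closedPoint ((Spec (CommRingCat.of V)).presheaf.stalk (h z)) := by
    apply PrimeSpectrum.ext
    show Ideal.comap (h.stalkMap z).hom P.asIdeal = maximalIdeal _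
    have hle : maximalIdeal ((Spec (CommRingCat.of V)).presheaf.stalk (h z)) ≤
        Ideal.comap (h.stalkMap z).hom P.asIdeal := by
      rw [hmax, Ideal.span_singleton_le_iff_mem, Ideal.mem_comap]
      exact hP
    exact ((IsLocalRing.maximalIdeal.isMaximal _).eq_of_le
      (Ideal.IsPrime.ne_top inferInstance) hle).symm
  rw [h2, Scheme.fromSpecStalk_closedPoint]

/-- depth of the fibre at a point of the closed fibre. -/
theorem depth_fibre_add_one {Z : Scheme.{u}} (h : Z ⟶ Spec (CommRingCat.of V)) [Flat h]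
    [LocallyOfFinitePresentation h]
    (c : Z) (hc : h c = (closedPoint V : Spec (CommRingCat.of V))) :
    LocCoh.depth ((h.fiber (h c)).presheaf.stalk (h.asFiber c))
      ((h.fiber (h c)).presheaf.stalk (h.asFiber c)) + 1 =
      LocCoh.depth (Z.presheaf.stalk c) (Z.presheaf.stalk c) := by
  haveI : IsLocallyNoetherian Z := LocallyOfFiniteType.isLocallyNoetherian h
  haveI := isLocallyNoetherian_fiber h (h c)
  obtain ⟨t, hmem, hreg, hmap, -⟩ := exists_uniformizer V h c hc
  obtain ⟨e⟩ := nonempty_stalk_asFiber_equiv h c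
  let e' := e.trans (Ideal.quotEquivOfEq hmap)
  haveI : IsLocalRing (Z.presheaf.stalk c ⧸ Ideal.span {t}) := e'.isLocalRing
  rw [depth_self_eq_of_ringEquiv e']
  exact depth_quotient_span_singleton_add_one t hmem hreg

/-- over the generic point, the local ring of the fibre is the local ring. -/
theorem nonempty_fibre_stalk_equiv_of_generic {Z : Scheme.{u}} (h : Z ⟶ Spec (CommRingCat.of V))
    (w : Z) (hw : h w = (⟨⊥, Ideal.isPrime_bot⟩ : Spec (CommRingCat.of V))) :
    Nonempty ((h.fiber (h w)).presheaf.stalk (h.asFiber w) ≃+* Z.presheaf.stalk w) := by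
  obtain ⟨e'⟩ := nonempty_stalk_asFiber_equiv h w
  have h0 : ∀ (p : Spec (CommRingCat.of V))
      (hp : p = (⟨⊥, Ideal.isPrime_bot⟩ : Spec (CommRingCat.of V))),
      maximalIdeal ((Spec (CommRingCat.of V)).presheaf.stalk p) = ⊥ := by
    rintro p rfl
    exact maximalIdeal_stalk_bot V
  have h1 : (maximalIdeal ((Spec (CommRingCat.of V)).presheaf.stalk (h w))).map
      (h.stalkMap w).hom = ⊥ := by rw [h0 _ hw, Ideal.map_bot]
  exact ⟨e'.trans ((Ideal.quotEquivOfEq h1).trans (RingEquiv.quotientBot _))⟩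

end DVR

section Pt

variable {X Y : Scheme.{u}} (f : X ⟶ Y) [LocallyOfFinitePresentation f]

/-- `(S_k)` at a point passes to generizations in the fibre, in pointwise form. -/
theorem ptk_of_mem_lsk (k : ℕ) {x c : X} (hx : x ∈ Lsk k f) (hc : c ⤳ x) (hfc : f c = f x) :
    Ptk k ((f.fiber (f c)).presheaf.stalk (f.asFiber c)) := by
  haveI : LocallyOfFiniteType f := inferInstance
  haveI := isLocallyNoetherian_fiber f (f x)
  haveI := isLocallyNoetherian_fiber f (f c)
  obtain ⟨a', ha'⟩ := exists_fiber_point f hfc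
  have h1 : a' ⤳ f.asFiber x := by
    rw [← (f.fiberι (f x)).isEmbedding.isInducing.specializes_iff, ha', f.fiberι_asFiber]
    exact hc
  have h2 : LocCoh.HasSk k ((f.fiber (f x)).presheaf.stalk (f.asFiber x))
      ((f.fiber (f x)).presheaf.stalk (f.asFiber x)) := hx
  rw [hasSk_iff, forall_localization_iff] at h2
  have h3 := h2 a' h1
  obtain ⟨e⟩ := Groth.Agent.Lib.Helper5.FiberBC.fiber_stalk_transport f hfc (f.asFiber c) a'
    (by rw [f.fiberι_asFiber, ha'])
  exact ptk_of_ringEquiv k e.symm h3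

end Pt


section Lgr

/-- the fibrewise geometric `(R_k)` locus, as a fibrewise codimension locus. -/
def Lgr (k : ℕ) {X Y : Scheme.{u}} (f : X ⟶ Y) : Set X :=
  Lc (fun {X Y} f => Zr f) (fun _ => k) f

theorem mem_lgr_iff (k : ℕ) {X Y : Scheme.{u}} (f : X ⟶ Y) (x : X) :
    x ∈ Lgr k f ↔ ∀ z : X, f z = f x → z ⤳ x → fdim f z ≤ (k : WithBot ℕ∞) → z ∈ Lsm f := by
  unfold Lgr Lc
  rw [Set.mem_compl_iff, Set.mem_iUnion]
  constructor
  · intro h z hfz hzx hd
    by_contra hz
    refine h ⟨0, z, ?_, hfz, hzx, hd⟩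
    show z ∈ Zr f 0
    simp only [Zr]
    exact hz
  · rintro h ⟨n, z, hzZ, hfz, hzx, hd⟩
    by_cases hn : n = 0
    · subst hn
      have hzZ' : z ∈ Zr f 0 := hzZ
      simp only [Zr] at hzZ'
      exact hzZ' (h z hfz hzx hd)
    · have hzZ' : z ∈ Zr f n := hzZ
      simp only [Zr, if_neg hn] at hzZ'
      exact hzZ'

theorem lgr_baseChange (k : ℕ) {X Y X' Y' : Scheme.{u}} (f : X ⟶ Y) (g : Y' ⟶ Y) (g' : X' ⟶ X)
    (f' : X' ⟶ Y') (hf : LocallyOfFinitePresentation f) (hsq : IsPullback g' f' f g) :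
    Lgr k f' = g' ⁻¹' Lgr k f := by
  unfold Lgr
  refine lc_baseChange (fun {X Y} f => Zr f) (fun _ => k) ?_ f g g' f' hf hsq
  intro X Y X' Y' f g g' f' hf hsq n
  by_cases hn : n = 0
  · simp only [Zr, if_pos hn]
    rw [lsm_baseChange f g g' f' hf hsq, Set.preimage_compl]
  · simp only [Zr, if_neg hn, Set.preimage_empty]

theorem lgr_openImmersion (k : ℕ) {X Y U : Scheme.{u}} (f : X ⟶ Y) (j : U ⟶ X)
    (hj : IsOpenImmersion j) (hf : LocallyOfFinitePresentation f) :
    Lgr k (j ≫ f) = j ⁻¹' Lgr k f := by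
  unfold Lgr
  refine lc_openImmersion (fun {X Y} f => Zr f) (fun _ => k) ?_ f j hj hf
  intro X Y U f j hj hf n
  by_cases hn : n = 0
  · simp only [Zr, if_pos hn]
    rw [lsm_openImmersion f j hj, Set.preimage_compl]
  · simp only [Zr, if_neg hn, Set.preimage_empty]

end Lgr

section DVRClaim

variable (V : Type u) [CommRing V] [IsDomain V] [IsDiscreteValuationRing V]

/-- **The DVR case** for geometric `(R_k)` + `(S_{k+1})`: a point of the generic fibre of
fibre-codimension `≤ k` specializing to a point of the closed fibre at which the fibre is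
geometrically `(R_k)` and `(S_{k+1})` lies in the smooth locus. -/
theorem mem_lsm_of_dvr (k : ℕ) {Z : Scheme.{u}} (h : Z ⟶ Spec (CommRingCat.of V)) [Flat h]
    [LocallyOfFinitePresentation h] {z w : Z} (hwz : w ⤳ z)
    (hz : h z = (closedPoint V : Spec (CommRingCat.of V)))
    (hw : h w = (⟨⊥, Ideal.isPrime_bot⟩ : Spec (CommRingCat.of V)))
    (hdim : fdim h w ≤ (k : WithBot ℕ∞)) (hz1 : z ∈ Lgr k h) (hz2 : z ∈ Lsk (k + 1) h) :
    w ∈ Lsm h := by
  haveI : IsLocallyNoetherian Z := LocallyOfFiniteType.isLocallyNoetherian h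
  obtain ⟨t, htm, htreg, htmap, htP⟩ := exists_uniformizer V h z hz
  -- the prime of `w`
  have htp : t ∉ genPrime Z hwz := by
    intro htp
    have h1 := htP ⟨genPrime Z hwz, inferInstance⟩ htp
    rw [fromSpecStalk_genPrime, hw, hz] at h1
    have h' : (⊥ : Ideal V) = maximalIdeal V := congrArg PrimeSpectrum.asIdeal h1
    exact IsDiscreteValuationRing.not_a_field V h'.symm
  have hp : (genPrime Z hwz).height ≤ (k : ℕ∞) := by
    have h1 := ringKrullDim_stalk_eq_height Z hwz
    obtain ⟨e⟩ := nonempty_fibre_stalk_equiv_of_generic V h w hw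
    have h2 : fdim h w = ringKrullDim (Z.presheaf.stalk w) := ringKrullDim_eq_of_ringEquiv e
    rw [h2, h1] at hdim
    exact_mod_cast hdim
  -- a prime minimal over `p + (t)`
  have hle : genPrime Z hwz ⊔ Ideal.span {t} ≤ maximalIdeal (Z.presheaf.stalk z) :=
    sup_le (IsLocalRing.le_maximalIdeal (Ideal.IsPrime.ne_top inferInstance))
      ((Ideal.span_singleton_le_iff_mem _).mpr htm)
  obtain ⟨q, hqmin, hqle⟩ := Ideal.exists_minimalPrimes_le hle
  haveI hqp : q.IsPrime := hqmin.1.1
  have hcz : Z.fromSpecStalk z ⟨q, hqp⟩ ⤳ z := fromSpecStalk_specializes Z z _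
  have hq : genPrime Z hcz = q := genPrime_fromSpecStalk Z z ⟨q, hqp⟩
  have htq : t ∈ q := hqmin.1.2 (le_sup_right (a := genPrime Z hwz) (Ideal.mem_span_singleton_self t))
  have hc : h (Z.fromSpecStalk z ⟨q, hqp⟩) = (closedPoint V : Spec (CommRingCat.of V)) := by
    rw [htP ⟨q, hqp⟩ htq, hz]
  have hwc : w ⤳ Z.fromSpecStalk z ⟨q, hqp⟩ := by
    have h1 : (⟨genPrime Z hwz, inferInstance⟩ : PrimeSpectrum (Z.presheaf.stalk z)) ⤳ ⟨q, hqp⟩ :=
      (PrimeSpectrum.le_iff_specializes _ _).mp (le_sup_left.trans hqmin.1.2)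
    have h2 := h1.map (Z.fromSpecStalk z).continuous
    rwa [fromSpecStalk_genPrime] at h2
  -- depth bound
  have hqmin' : genPrime Z hcz ∈ (genPrime Z hwz ⊔ Ideal.span {t}).minimalPrimes := by
    rw [hq]; exact hqmin
  have hdepth : LocCoh.depth (Z.presheaf.stalk (Z.fromSpecStalk z ⟨q, hqp⟩))
      (Z.presheaf.stalk (Z.fromSpecStalk z ⟨q, hqp⟩)) ≤ ((k + 1 : ℕ) : ℕ∞) := by
    have h1 := depth_localization_le_of_mem_minimalPrimes (genPrime Z hwz) (genPrime Z hcz) t
      hqmin' k hp
    letI := (Z.presheaf.stalkSpecializes hcz).hom.toAlgebra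
    haveI := isLocalization_genPrime Z hcz
    have e := IsLocalization.algEquiv (genPrime Z hcz).primeCompl
      (Localization.AtPrime (genPrime Z hcz)) (Z.presheaf.stalk (Z.fromSpecStalk z ⟨q, hqp⟩))
    rw [← depth_self_eq_of_ringEquiv e.toRingEquiv]
    exact h1
  -- the fibre at `c` has dimension `≤ k`
  have h5 := depth_fibre_add_one V h _ hc
  have h6 : LocCoh.depth ((h.fiber (h (Z.fromSpecStalk z ⟨q, hqp⟩))).presheaf.stalk
      (h.asFiber (Z.fromSpecStalk z ⟨q, hqp⟩)))
      ((h.fiber (h (Z.fromSpecStalk z ⟨q, hqp⟩))).presheaf.stalk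
      (h.asFiber (Z.fromSpecStalk z ⟨q, hqp⟩))) ≤ (k : ℕ∞) := by
    rw [← h5] at hdepth
    have : ((k + 1 : ℕ) : ℕ∞) = (k : ℕ∞) + 1 := by push_cast; rfl
    rw [this] at hdepth
    exact (ENat.add_le_add_iff_right ENat.one_ne_top).mp hdepth
  have h7 := ptk_of_mem_lsk h (k + 1) hz2 hcz (hc.trans hz.symm)
  have h8 : fdim h (Z.fromSpecStalk z ⟨q, hqp⟩) ≤ (k : WithBot ℕ∞) := by
    unfold Ptk at h7
    unfold fdim
    have h9 := h7.trans (WithBot.coe_le_coe.mpr h6)
    rcases min_le_iff.mp h9 with h | h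
    · exfalso
      have : ((k + 1 : ℕ) : WithBot ℕ∞) ≤ ((k : ℕ) : WithBot ℕ∞) := h
      have h10 : (k + 1 : ℕ) ≤ k := by exact_mod_cast this
      omega
    · exact h
  have h9 : Z.fromSpecStalk z ⟨q, hqp⟩ ∈ Lsm h :=
    (mem_lgr_iff k h z).mp hz1 _ (hc.trans hz.symm) hcz h8
  rw [lsm_eq_smoothLocus_of_flat] at h9 ⊢
  exact hwc.mem_open h.smoothLocus.2 h9

end DVRClaim

section Noeth

/-- the fibrewise locus "geometrically `(R_k)` and `(S_{k+1})`". -/
def Lrs (k : ℕ) {X Y : Scheme.{u}} (f : X ⟶ Y) : Set X := Lgr k f ∩ Lsk (k + 1) f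

/-- over a locally Noetherian base, the locus `Lrs k f` of a flat morphism locally of finite
presentation is stable under generization. -/
theorem lrs_generization (k : ℕ) {X Y : Scheme.{u}} [IsLocallyNoetherian Y] (f : X ⟶ Y) [Flat f]
    [LocallyOfFinitePresentation f] {x x' : X} (hx : x' ⤳ x) (hmem : x ∈ Lrs k f) :
    x' ∈ Lrs k f := by
  refine ⟨?_, lsk_generization (k + 1) f hx hmem.2⟩
  rw [mem_lgr_iff]
  intro ξ hfξ hξx' hdim
  by_cases hne : x' = x
  · subst hne
    exact (mem_lgr_iff k f x').mp hmem.1 ξ hfξ hξx' hdim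
  haveI : IsLocallyNoetherian X := LocallyOfFiniteType.isLocallyNoetherian f
  haveI : LocallyOfFiniteType f := inferInstance
  obtain ⟨V, hV, g, hg1, hg2⟩ := exists_dvr_hom hx hne (L := X.residueField x')
    (𝟙 (X.residueField x')) (by
      show (RingHom.id _).EssFiniteType
      exact RingHom.FiniteType.essFiniteType (RingHom.FiniteType.id _))
  haveI := hV
  let t := g ≫ f
  let fT := pullback.snd f t
  have hpb := IsPullback.of_hasPullback f t
  let σ : Spec (CommRingCat.of ↥V) ⟶ pullback f t := pullback.lift g (𝟙 _) (by simp [t])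
  have hσ : σ ≫ fT = 𝟙 _ := pullback.lift_snd _ _ _
  have hσ1 : σ ≫ pullback.fst f t = g := pullback.lift_fst _ _ _
  have hgen : g (⟨⊥, Ideal.isPrime_bot⟩ : Spec (CommRingCat.of ↥V)) = x' := by
    let pt : Spec (CommRingCat.of (X.residueField x')) := ⟨⊥, Ideal.isPrime_bot⟩
    have h1 : Spec.map (CommRingCat.ofHom V.subtype) pt =
        (⟨⊥, Ideal.isPrime_bot⟩ : Spec (CommRingCat.of ↥V)) := by
      apply PrimeSpectrum.ext
      show Ideal.comap V.subtype ⊥ = ⊥
      rw [← RingHom.ker_eq_comap_bot]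
      exact (RingHom.injective_iff_ker_eq_bot _).mp Subtype.val_injective
    rw [← h1]
    show (Spec.map (CommRingCat.ofHom V.subtype) ≫ g) pt = x'
    rw [hg1, Scheme.Hom.comp_apply]
    exact Scheme.fromSpecResidueField_apply _ _
  -- the points of the section
  have hζ : pullback.fst f t (σ (⟨⊥, Ideal.isPrime_bot⟩ : Spec (CommRingCat.of ↥V))) = x' := by
    rw [← Scheme.Hom.comp_apply, hσ1, hgen]
  have hz : pullback.fst f t (σ (closedPoint ↥V : Spec (CommRingCat.of ↥V))) = x := by
    rw [← Scheme.Hom.comp_apply, hσ1, hg2]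
  have hfTζ : fT (σ (⟨⊥, Ideal.isPrime_bot⟩ : Spec (CommRingCat.of ↥V))) =
      (⟨⊥, Ideal.isPrime_bot⟩ : Spec (CommRingCat.of ↥V)) := by
    rw [← Scheme.Hom.comp_apply, hσ]; rfl
  have hfTz : fT (σ (closedPoint ↥V : Spec (CommRingCat.of ↥V))) =
      (closedPoint ↥V : Spec (CommRingCat.of ↥V)) := by
    rw [← Scheme.Hom.comp_apply, hσ]; rfl
  have hsp0 : (⟨⊥, Ideal.isPrime_bot⟩ : Spec (CommRingCat.of ↥V)) ⤳
      (closedPoint ↥V : Spec (CommRingCat.of ↥V)) :=
    (PrimeSpectrum.le_iff_specializes _ _).mp bot_le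
  have hspec := hsp0.map σ.continuous
  -- lift `ξ`
  obtain ⟨ω, hω1, hω2, hω3, hω4⟩ := exists_lift_of_isPullback hpb
    (σ (⟨⊥, Ideal.isPrime_bot⟩ : Spec (CommRingCat.of ↥V))) ξ
    (by rw [hζ]; exact hξx') (by rw [hζ]; exact hfξ)
  have hbc1 := lgr_baseChange k f t (pullback.fst f t) fT inferInstance hpb
  have hbc2 := lsk_baseChange (k + 1) f t (pullback.fst f t) fT inferInstance hpb
  have hbc3 := lsm_baseChange f t (pullback.fst f t) fT inferInstance hpb
  have hmem1 : σ (closedPoint ↥V : Spec (CommRingCat.of ↥V)) ∈ Lgr k fT := by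
    rw [hbc1, Set.mem_preimage, hz]; exact hmem.1
  have hmem2 : σ (closedPoint ↥V : Spec (CommRingCat.of ↥V)) ∈ Lsk (k + 1) fT := by
    rw [hbc2, Set.mem_preimage, hz]; exact hmem.2
  have hres := mem_lsm_of_dvr (↥V) k fT (hω1.trans hspec) hfTz (hω2.trans hfTζ)
    (by rw [hω4]; exact hdim) hmem1 hmem2
  rw [hbc3, Set.mem_preimage, hω3] at hres
  exact hres

end Noeth

section Open

open Groth.Agent.Lib.Helper5.FibCodepthConstr

theorem isLocallyConstructible_lrs (k : ℕ) {X Y : Scheme.{u}} (f : X ⟶ Y)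
    [LocallyOfFinitePresentation f] : IsLocallyConstructible (Lrs k f) := by
  unfold Lrs Lgr
  rw [← rk_locus_eq]
  exact (isLocallyConstructible_geomRk f k).inter (isLocallyConstructible_sk f (k + 1))

/-- **EGA IV 12.1.6-type**: for `f` flat and locally of finite presentation, the set of points at
which the fibre is geometrically `(R_k)` and `(S_{k+1})` is open. -/
theorem isOpen_lrs (k : ℕ) {X Y : Scheme.{u}} (f : X ⟶ Y) [Flat f]
    [LocallyOfFinitePresentation f] : IsOpen (Lrs k f) := by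
  refine isOpen_locus_of_int (fun {X Y} f => Lrs k f) ?_ ?_ ?_ f
  · intro X Y X' Y' f g g' f' hf hsq
    show Lgr k f' ∩ Lsk (k + 1) f' = g' ⁻¹' (Lgr k f ∩ Lsk (k + 1) f)
    rw [lgr_baseChange k f g g' f' hf hsq, lsk_baseChange (k + 1) f g g' f' hf hsq,
      Set.preimage_inter]
  · intro X Y U f j hj hf
    show Lgr k (j ≫ f) ∩ Lsk (k + 1) (j ≫ f) = j ⁻¹' (Lgr k f ∩ Lsk (k + 1) f)
    rw [lgr_openImmersion k f j hj hf, lsk_openImmersion (k + 1) f j hj hf, Set.preimage_inter]
  · intro A B φ hA hφ hφflat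
    haveI : IsNoetherianRing A := Algebra.FiniteType.isNoetherianRing ℤ A
    haveI : Flat (Spec.map φ) := by rwa [Flat.SpecMap_iff]
    haveI : LocallyOfFinitePresentation (Spec.map φ) := by
      rwa [LocallyOfFinitePresentation.SpecMap_iff]
    apply Groth.Agent.Lib.Helper3.FlatFibDim.isOpen_of_isLocallyConstructible_of_stableUnderGeneralization
    · exact isLocallyConstructible_lrs k (Spec.map φ)
    · intro x x' hx hmem
      exact lrs_generization k (Spec.map φ) hx hmem

end Open

section Reduced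

variable {κ : Type u} [Field κ] {Y : Scheme.{u}} (φ : Y ⟶ Spec (CommRingCat.of κ))
  [LocallyOfFinitePresentation φ]

/-- geometric reducedness at a point = geometric `(R_0)` + `(S_1)`. -/
theorem geomReduced_iff (y : Y) :
    FBase.IsGeomReducedAt φ y ↔
      ((∀ (K : Type u) [Field K] [Algebra κ K] (x' : ↥(FBase.bc φ K)),
        (FBase.bcπ φ K).base x' = y → LocCoh.HasRk 0 ((FBase.bc φ K).presheaf.stalk x')) ∧
        LocCoh.HasSk 1 (Y.presheaf.stalk y) (Y.presheaf.stalk y)) := by
  unfold FBase.IsGeomReducedAt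
  constructor
  · intro h
    refine ⟨fun K _ _ x' hx' => ?_, ?_⟩
    · haveI : IsLocallyNoetherian (FBase.bc φ K) :=
        isLocallyNoetherian_of_lfp_field (FBase.bcStr φ K)
      exact ((Groth.Agent.S0602.result _).mp (h K x' hx')).1
    · obtain ⟨x', hx'⟩ := (FBase.bcπ φ κ).surjective y
      haveI : IsLocallyNoetherian (FBase.bc φ κ) :=
        isLocallyNoetherian_of_lfp_field (FBase.bcStr φ κ)
      have h1 := ((Groth.Agent.S0602.result _).mp (h κ x' hx')).2
      have h2 := (hasSk_bc_iff φ 1 κ x').mp h1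
      rwa [hx'] at h2
  · rintro ⟨hR, hS⟩ K _ _ x' hx'
    haveI : IsLocallyNoetherian (FBase.bc φ K) :=
      isLocallyNoetherian_of_lfp_field (FBase.bcStr φ K)
    refine (Groth.Agent.S0602.result _).mpr ⟨hR K x' hx', (hasSk_bc_iff φ 1 K x').mpr ?_⟩
    have : (FBase.bcπ φ K) x' = y := hx'
    rw [this]
    exact hS

end Reduced

section Final

theorem geomReduced_locus_eq {X S : Scheme.{u}} (f : X ⟶ S) [LocallyOfFinitePresentation f] :
    {x : X | FBase.IsGeomReducedAt (f.fiberToSpecResidueField (f.base x)) (f.asFiber x)} =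
      Lrs 0 f := by
  ext x
  have h1 := @geomReduced_iff (IsLocalRing.ResidueField (S.presheaf.stalk (f.base x))) _ _
    (f.fiberToSpecResidueField (f x)) (lfp_fiberToSpecResidueField f (f x)) (f.asFiber x)
  show _ ↔ x ∈ Lgr 0 f ∧ x ∈ Lsk 1 f
  unfold Lgr
  rw [← rk_locus_eq f 0]
  exact h1

/-- **EGA IV 12.1.6**: for `f` flat and locally of finite presentation, the set of points at
which the fibre is geometrically reduced is open. -/
theorem isOpen_geomReduced {X Y : Scheme.{u}} (f : X ⟶ Y) [Flat f]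
    [LocallyOfFinitePresentation f] :
    IsOpen {x : X | FBase.IsGeomReducedAt (f.fiberToSpecResidueField (f.base x)) (f.asFiber x)} := by
  rw [geomReduced_locus_eq]
  exact isOpen_lrs 0 f

end Final

end Groth.Agent.Lib.Helper6.FibRkOpen
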