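import Mathlib
import Groth.Agent.Lib.Helper6FibSkOpen
import Groth.Agent.S0386

set_option autoImplicit false
set_option linter.style.haveILetI false
set_option linter.unusedVariables false
universe u
open CategoryTheory CategoryTheory.Limits AlgebraicGeometry Topology TopologicalSpace IsLocalRing
  TensorProduct

namespace Groth.Agent.Lib.Helper6.FibSkOpenC

open Groth.Agent.Lib.Helper6.FibNormal Groth.Agent.Lib.Helper6.FibSkOpen

variable {X Y : Scheme.{u}} (f : X ⟶ Y)

/-- the open subscheme of points at which `f` is flat. -/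
noncomputable def flatOpens [LocallyOfFinitePresentation f] : X.Opens :=
  ⟨{x : X | (f.stalkMap x).hom.Flat}, Groth.Agent.S0386.result f⟩

instance flat_flatOpens_ι_comp [LocallyOfFinitePresentation f] : Flat ((flatOpens f).ι ≫ f) := by
  apply Flat.of_stalkMap
  intro u
  rw [Scheme.Hom.stalkMap_comp]
  have h1 : (f.stalkMap ((flatOpens f).ι u)).hom.Flat := u.2
  have h2 : ((flatOpens f).ι.stalkMap u).hom.Flat :=
    RingHom.Flat.of_bijective (ConcreteCategory.bijective_of_isIso ((flatOpens f).ι.stalkMap u))
  exact RingHom.Flat.comp h1 h2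

/-- openness of a fibrewise locus on the flat locus. -/
theorem isOpen_flat_inter [LocallyOfFinitePresentation f] (L : Set X)
    (hL : IsOpen ((flatOpens f).ι ⁻¹' L)) : IsOpen {x : X | (f.stalkMap x).hom.Flat ∧ x ∈ L} := by
  have : {x : X | (f.stalkMap x).hom.Flat ∧ x ∈ L} =
      (flatOpens f).ι '' ((flatOpens f).ι ⁻¹' L) := by
    rw [Set.image_preimage_eq_inter_range, Scheme.Opens.range_ι]
    ext x
    exact and_comm
  rw [this]
  exact (flatOpens f).ι.isOpenEmbedding.isOpenMap _ hL

/-- **EGA IV 12.1.6**: the locus where `f` is flat and the fibre is `(S_k)` is open. -/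
theorem isOpen_flat_sk [LocallyOfFinitePresentation f] (k : ℕ) :
    IsOpen {x : X | (f.stalkMap x).hom.Flat ∧
      LocCoh.HasSk k ((f.fiber (f.base x)).presheaf.stalk (f.asFiber x))
        ((f.fiber (f.base x)).presheaf.stalk (f.asFiber x))} := by
  apply isOpen_flat_inter f (Lsk k f)
  rw [← lsk_openImmersion k f (flatOpens f).ι inferInstance inferInstance]
  exact isOpen_lsk k _

end Groth.Agent.Lib.Helper6.FibSkOpenC
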