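import Mathlib
import Groth.Agent.Lib.Helper6FibRkOpen
import Groth.Agent.Lib.Helper6FibSkOpenC

set_option autoImplicit false
set_option linter.style.haveILetI false
set_option linter.unusedVariables false
universe u
open CategoryTheory CategoryTheory.Limits AlgebraicGeometry Topology TopologicalSpace IsLocalRing
  TensorProduct

namespace Groth.Agent.Lib.Helper6.FibRkOpenC

open Groth.Agent.Lib.Helper6.FibNormal Groth.Agent.Lib.Helper6.FibSkOpen
  Groth.Agent.Lib.Helper6.FibSkOpenC Groth.Agent.Lib.Helper6.FibRkOpen

variable {X Y : Scheme.{u}} (f : X ⟶ Y)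

theorem lrs_openImmersion (k : ℕ) {U : Scheme.{u}} (j : U ⟶ X)
    (hj : IsOpenImmersion j) (hf : LocallyOfFinitePresentation f) :
    Lrs k (j ≫ f) = j ⁻¹' Lrs k f := by
  unfold Lrs
  rw [lgr_openImmersion k f j hj hf, lsk_openImmersion (k + 1) f j hj hf, Set.preimage_inter]

/-- the locus where `f` is flat and the fibre is geometrically `(R_k)` and `(S_{k+1})` is open. -/
theorem isOpen_flat_lrs [LocallyOfFinitePresentation f] (k : ℕ) :
    IsOpen {x : X | (f.stalkMap x).hom.Flat ∧ x ∈ Lrs k f} := by
  apply isOpen_flat_inter f (Lrs k f)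
  rw [← lrs_openImmersion f k (flatOpens f).ι inferInstance inferInstance]
  exact isOpen_lrs k _

/-- **EGA IV 12.1.6**: the locus where `f` is flat and the fibre is geometrically reduced is
open. -/
theorem isOpen_flat_geomReduced [LocallyOfFinitePresentation f] :
    IsOpen {x : X | (f.stalkMap x).hom.Flat ∧
      FBase.IsGeomReducedAt (f.fiberToSpecResidueField (f.base x)) (f.asFiber x)} := by
  have h := isOpen_flat_lrs f 0
  rw [← geomReduced_locus_eq f] at h
  exact h

end Groth.Agent.Lib.Helper6.FibRkOpenC
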