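import Mathlib
import Groth.Agent.Lib.Helper6FibRkOpen
import Groth.Agent.Lib.Helper6FibGeomLocus

set_option autoImplicit false
set_option linter.style.haveILetI false
set_option linter.unusedVariables false
universe u
open CategoryTheory CategoryTheory.Limits AlgebraicGeometry Topology TopologicalSpace IsLocalRing
  TensorProduct

namespace Groth.Agent.Lib.Helper6.GRProper

open Groth.Agent.Lib.Helper6.FibRkOpen Groth.Agent.Lib.Helper6.FibGeomLocus
  Groth.Agent.Lib.Helper6.GenNowhere

/-- Mathlib's `GeometricallyReduced` over a field, pointwise. -/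
theorem geometricallyReduced_iff_forall {k : Type u} [Field k] {Z : Scheme.{u}}
    (φ : Z ⟶ Spec (CommRingCat.of k)) :
    GeometricallyReduced φ ↔ ∀ z : Z, FBase.IsGeomReducedAt φ z := by
  constructor
  · intro h z K _ _ x' _
    have h1 : IsReduced (FBase.bc φ K) :=
      h.geometrically_isReduced (Spec.map (CommRingCat.ofHom (algebraMap k K)))
        (FBase.bcπ φ K) (FBase.bcStr φ K) (IsPullback.of_hasPullback _ _)
    infer_instance
  · intro h
    refine ⟨fun K _ y W fst snd hpb => ?_⟩
    obtain ⟨ψ, rfl⟩ := Spec.map_surjective y
    letI : Algebra k K := ψ.hom.toAlgebra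
    have h1 : IsReduced (FBase.bc φ K) := by
      haveI : ∀ x' : ↥(FBase.bc φ K), _root_.IsReduced ((FBase.bc φ K).presheaf.stalk x') :=
        fun x' => h ((FBase.bcπ φ K).base x') K x' rfl
      exact isReduced_of_isReduced_stalk _
    have e : W ≅ FBase.bc φ K := hpb.isoPullback
    exact isReduced_of_isOpenImmersion e.hom

variable {X Y : Scheme.{u}} (f : X ⟶ Y)

/-- the locus in the base of geometrically reduced fibres, via the pointwise locus. -/
theorem geometricallyReduced_fibre_iff (y : Y) :
    GeometricallyReduced (f.fiberToSpecResidueField y) ↔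
      ∀ x : X, f x = y →
        FBase.IsGeomReducedAt (f.fiberToSpecResidueField (f.base x)) (f.asFiber x) := by
  refine (geometricallyReduced_iff_forall
    (k := IsLocalRing.ResidueField (Y.presheaf.stalk y)) (f.fiberToSpecResidueField y)).trans ?_
  constructor
  · intro h x hx
    subst hx
    exact h (f.asFiber x)
  · intro h a
    have h1 := h (f.fiberι y a) (fiber_point_maps f y a)
    exact (geom_transport f (fun R _ => _root_.IsReduced R) (fiber_point_maps f y a)
      (f.asFiber (f.fiberι y a)) a (f.fiberι_asFiber _)).mp h1

/-- for `f` proper, flat, locally of finite presentation, the set of points of the base with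
geometrically reduced fibre is open. -/
theorem isOpen_geometricallyReduced_fibre [Flat f] [IsProper f] [LocallyOfFinitePresentation f] :
    IsOpen {y : Y | GeometricallyReduced (f.fiberToSpecResidueField y)} := by
  have heq : {y : Y | GeometricallyReduced (f.fiberToSpecResidueField y)} =
      (f '' {x : X | FBase.IsGeomReducedAt (f.fiberToSpecResidueField (f.base x))
        (f.asFiber x)}ᶜ)ᶜ := by
    ext y
    rw [Set.mem_setOf_eq, geometricallyReduced_fibre_iff]
    simp only [Set.mem_compl_iff, Set.mem_image, Set.mem_setOf_eq, not_exists, not_and]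
    constructor
    · intro h x hx hfx
      exact hx (h x hfx)
    · intro h x hfx
      by_contra hx
      exact h x hx hfx
  rw [heq, isOpen_compl_iff]
  exact f.isClosedMap _ (isOpen_geomReduced f).isClosed_compl

end Groth.Agent.Lib.Helper6.GRProper
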