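import Mathlib
import Groth.Agent.Lib.Helper5FibSmConstr

/-!
# Generic smoothness for separable function field extensions (helper5)

* `exists_specializes_mem_smoothLocus`: on a reduced scheme locally of finite type over a perfect
  field every point has a generization in the smooth locus.
* `dense_smoothLocus_of_geometricallyReduced`: a dominant morphism of integral schemes, locally of
  finite presentation, whose generic fibre is geometrically reduced has dense smooth locus.
-/

set_option autoImplicit false
set_option linter.style.haveILetI false
universe u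
open CategoryTheory CategoryTheory.Limits AlgebraicGeometry Topology TopologicalSpace

namespace Groth.Agent.Lib.Helper5.GenSmooth
open Groth.Agent.Lib.Helper5.FibSmConstr Groth.Agent.Lib.Helper20.FlatDesc

set_option backward.isDefEq.respectTransparency.types false in
theorem exists_specializes_mem_smoothLocus_of_compact {K : Type u} [Field K] [PerfectField K]
    {W : Scheme.{u}} [IsReduced W] [CompactSpace W]
    (q : W ⟶ Spec (.of K)) [LocallyOfFinitePresentation q] (x : W) :
    ∃ w : W, w ⤳ x ∧ w ∈ q.smoothLocus := by
  have : IsNoetherian W := { __ := LocallyOfFiniteType.isLocallyNoetherian q }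
  let U : W.Opens :=
    ⟨(⋃₀ (irreducibleComponents W \ {irreducibleComponent x}))ᶜ, by
      rw [Set.sUnion_eq_biUnion, isOpen_compl_iff]
      exact TopologicalSpace.NoetherianSpace.finite_irreducibleComponents.sdiff.isClosed_biUnion
        fun Z hZ ↦ isClosed_of_mem_irreducibleComponents Z hZ.1⟩
  have hU : closure (U : Set W) = irreducibleComponent x :=
    closure_sUnion_irreducibleComponents_sdiff_singleton
      TopologicalSpace.NoetherianSpace.finite_irreducibleComponents
      _ (irreducibleComponent_mem_irreducibleComponents x)
  have : AlgebraicGeometry.IsIntegral U :=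
    have : IrreducibleSpace U := isIrreducible_iff_irreducibleSpace.mp
      (isIrreducible_iff_closure.mp (hU ▸ isIrreducible_irreducibleComponent))
    isIntegral_of_irreducibleSpace_of_isReduced _
  have hmem : U.ι (genericPoint U) ∈ q.smoothLocus := by
    have := (U.ι ≫ q).genericPoint_mem_smoothLocus_of_perfectField
    rwa [← Scheme.Hom.preimage_smoothLocus_eq, Scheme.Hom.mem_preimage] at this
  refine ⟨U.ι (genericPoint U), ?_, hmem⟩
  exact ((genericPoint_spec U).image U.ι.continuous).specializes (y := x)
    (by rw [Set.image_univ, U.range_ι, hU]; exact mem_irreducibleComponent)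

theorem exists_specializes_mem_smoothLocus {K : Type u} [Field K] [PerfectField K]
    {W : Scheme.{u}} [IsReduced W]
    (q : W ⟶ Spec (.of K)) [LocallyOfFinitePresentation q] (x : W) :
    ∃ w : W, w ⤳ x ∧ w ∈ q.smoothLocus := by
  obtain ⟨_, ⟨V : W.Opens, hV, rfl⟩, hxV, -⟩ :=
    W.isBasis_affineOpens.exists_subset_of_mem_open (Set.mem_univ x) isOpen_univ
  haveI : CompactSpace (V : Scheme.{u}) := isCompact_iff_compactSpace.mp hV.isCompact
  obtain ⟨w', hw', hsm⟩ := exists_specializes_mem_smoothLocus_of_compact (V.ι ≫ q) ⟨x, hxV⟩
  refine ⟨V.ι w', hw'.map V.ι.continuous, ?_⟩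
  rwa [← Scheme.Hom.preimage_smoothLocus_eq, Scheme.Hom.mem_preimage] at hsm

theorem closure_singleton_map_genericPoint {X Y : Scheme.{u}} [IsIntegral X] (f : X ⟶ Y)
    [IsDominant f] : closure ({f (genericPoint X)} : Set Y) = Set.univ := by
  have h2 : Set.range f ⊆ closure {f (genericPoint X)} := by
    rintro _ ⟨x, rfl⟩
    have : genericPoint X ⤳ x := genericPoint_specializes x
    exact (this.map f.continuous).mem_closed isClosed_closure (subset_closure rfl)
  have h3 := closure_minimal h2 isClosed_closure
  rw [f.denseRange.closure_eq] at h3
  exact Set.eq_univ_of_univ_subset h3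

theorem dense_smoothLocus_of_geometricallyReduced (X Y : Scheme.{u}) [IsIntegral X] [IsIntegral Y]
    (f : X ⟶ Y) [IsDominant f] [LocallyOfFinitePresentation f]
    (hsep : GeometricallyReduced (f.fiberToSpecResidueField (f (genericPoint X)))) :
    Dense (f.smoothLocus : Set X) := by
  haveI hq := lfp_fiberToSpecResidueField f (f (genericPoint X))
  let g0 : Spec (.of (AlgebraicClosure (Y.residueField (f (genericPoint X))))) ⟶
      Spec (Y.residueField (f (genericPoint X))) :=
    Spec.map (CommRingCat.ofHom (algebraMap (Y.residueField (f (genericPoint X)))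
      (AlgebraicClosure (Y.residueField (f (genericPoint X))))))
  haveI : IsReduced (pullback (f.fiberToSpecResidueField (f (genericPoint X))) g0) :=
    hsep.geometrically_isReduced g0 _ _ (IsPullback.of_hasPullback _ _)
  haveI : Subsingleton ↥(Spec (Y.residueField (f (genericPoint X)))) :=
    inferInstanceAs (Subsingleton (PrimeSpectrum (Y.residueField (f (genericPoint X)))))
  haveI : Flat g0 := inferInstance
  have hsurj : Surjective g0 := ⟨fun x => ⟨Classical.arbitrary _, Subsingleton.elim _ _⟩⟩
  haveI : Surjective (pullback.fst (f.fiberToSpecResidueField (f (genericPoint X))) g0) :=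
    MorphismProperty.pullback_fst (P := @Surjective) _ _ hsurj
  obtain ⟨w₀, hw₀⟩ := (pullback.fst (f.fiberToSpecResidueField (f (genericPoint X))) g0).surjective
    (f.asFiber (genericPoint X))
  obtain ⟨w, hw, hwsm⟩ := exists_specializes_mem_smoothLocus
    (pullback.snd (f.fiberToSpecResidueField (f (genericPoint X))) g0) w₀
  have h1 : pullback.fst (f.fiberToSpecResidueField (f (genericPoint X))) g0 w ⤳
      f.asFiber (genericPoint X) := by
    rw [← hw₀]
    exact hw.map (pullback.fst (f.fiberToSpecResidueField (f (genericPoint X))) g0).continuous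
  have h2 : f.fiberι (f (genericPoint X))
      (pullback.fst (f.fiberToSpecResidueField (f (genericPoint X))) g0 w) ⤳ genericPoint X := by
    have := h1.map (f.fiberι (f (genericPoint X))).continuous
    rwa [f.fiberι_asFiber] at this
  have h3 : f.fiberι (f (genericPoint X))
      (pullback.fst (f.fiberToSpecResidueField (f (genericPoint X))) g0 w) = genericPoint X :=
    (h2.antisymm (genericPoint_specializes _)).eq
  have h4 : pullback.fst (f.fiberToSpecResidueField (f (genericPoint X))) g0 w =
      f.asFiber (genericPoint X) :=
    (f.fiberι (f (genericPoint X))).isEmbedding.injective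
      (h3.trans (f.fiberι_asFiber (genericPoint X)).symm)
  have h5 := formallySmooth_stalkMap_of_flat_baseChange
    (f.fiberToSpecResidueField (f (genericPoint X))) g0 w hwsm
  rw [h4] at h5
  have hF : IsField (Y.presheaf.stalk (f (genericPoint X))) := by
    apply isField_stalk_of_closure_mem_irreducibleComponents
    rw [closure_singleton_map_genericPoint f, irreducibleComponents_eq_singleton]
    rfl
  have hfl : (f.stalkMap (genericPoint X)).hom.Flat := RingHom.Flat.of_isField hF _
  have h6 : genericPoint X ∈ f.smoothLocus := (mem_lsm_iff_of_flat f (genericPoint X) hfl).mp h5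
  exact f.smoothLocus.2.dense ⟨genericPoint X, h6⟩

end Groth.Agent.Lib.Helper5.GenSmooth
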