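import Mathlib
import Groth.Prelude.Def_Curv2
import Groth.Agent.Lib.Helper6BcBridge
import Groth.Agent.Lib.Helper6BcAlg
import Groth.Agent.Lib.Helper6BcGeom
import Groth.Agent.Lib.Helper6BcRed
import Groth.Agent.Lib.Helper6BcRed2
import Groth.Agent.Lib.Helper14GeomRed

set_option autoImplicit false
universe u
open CategoryTheory CategoryTheory.Limits AlgebraicGeometry TensorProduct

namespace Groth.Agent.Lib.Helper6.BcRed5

open Groth.Agent.Lib.Helper6.BcBridge Groth.Agent.Lib.Helper6.BcAlg Groth.Agent.Lib.Helper6.BcGeom
open Groth.Agent.Lib.Helper6.BcRed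

/-- a reduced `k`-algebra all of whose localisations at minimal primes stay reduced after `⊗ K`
stays reduced after `⊗ K` -/
theorem isReduced_tensor_of_minimalPrimes (k R K : Type u) [Field k] [CommRing R] [Algebra k R]
    [CommRing K] [Algebra k K] [IsReduced R]
    (h : ∀ (p : Ideal R) [p.IsPrime], p ∈ minimalPrimes R →
      IsReduced (Localization.AtPrime p ⊗[k] K)) :
    IsReduced (R ⊗[k] K) := by
  classical
  let 𝒞 := Module.Free.chooseBasis k K
  refine ⟨fun t ht => ?_⟩
  obtain ⟨b, rfl⟩ := TensorProduct.eq_repr_basis_right 𝒞 t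
  have hb : b = 0 := by
    ext i
    have hmem : ∀ p ∈ minimalPrimes R, b i ∈ p := by
      intro p hp
      haveI : p.IsPrime := hp.1.1
      haveI := h p hp
      have h0 : locMap k R K p (b.sum fun i m => m ⊗ₜ 𝒞 i) = 0 :=
        (ht.map (locMap k R K p)).eq_zero
      rw [map_finsuppSum] at h0
      have h1 : (b.mapRange (algebraMap R (Localization.AtPrime p)) (map_zero _)).sum
          (fun i m => m ⊗ₜ[k] 𝒞 i) = 0 := by
        rw [Finsupp.sum_mapRange_index (fun i => by simp)]
        simpa [locMap] using h0
      have h2 := TensorProduct.sum_tmul_basis_right_eq_zero 𝒞 _ h1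
      have h3 : algebraMap R (Localization.AtPrime p) (b i) = 0 := by
        have := DFunLike.congr_fun h2 i
        simpa using this
      rw [IsLocalization.map_eq_zero_iff p.primeCompl] at h3
      obtain ⟨s, hs⟩ := h3
      have hmul : (s : R) * b i ∈ p := by rw [hs]; exact p.zero_mem
      exact (Ideal.IsPrime.mem_or_mem inferInstance hmul).resolve_left s.2
    have hnil : b i ∈ nilradical R := by
      have h3 : b i ∈ sInf (⊥ : Ideal R).minimalPrimes :=
        Submodule.mem_sInf.mpr fun p hp => hmem p hp
      rwa [Ideal.sInf_minimalPrimes] at h3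
    exact (nilradical_eq_zero R ▸ hnil : b i ∈ (0 : Ideal R))
  rw [hb]
  simp

section Scheme

attribute [local instance] Curv2.stalkAlgebra

variable (k : Type u) [Field k] (X : Scheme.{u}) [X.Over (Spec (CommRingCat.of k))]

/-- the image of a minimal prime of a chart is the generic point of an irreducible component -/
theorem closure_mem_irreducibleComponents {R : Type u} [CommRing R]
    (ι : Spec (CommRingCat.of R) ⟶ X) [IsOpenImmersion ι]
    (z : PrimeSpectrum R) (hz : z.asIdeal ∈ minimalPrimes R) :
    closure {ι z} ∈ irreducibleComponents X := by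
  refine ⟨isIrreducible_singleton.closure, fun s hs hle => ?_⟩
  have hs' : IsIrreducible (closure s) := hs.closure
  obtain ⟨η, hη⟩ := QuasiSober.sober hs' isClosed_closure
  have hmem : ι z ∈ closure s := subset_closure (hle (subset_closure rfl))
  have hspec : η ⤳ ι z := by
    rw [specializes_iff_mem_closure, hη.def]
    exact hmem
  have hηmem : η ∈ Set.range ι := hspec.mem_open ι.isOpenEmbedding.isOpen_range ⟨z, rfl⟩
  obtain ⟨z', rfl⟩ := hηmem
  have hspec' : z' ⤳ z := ι.isOpenEmbedding.isInducing.specializes_iff.mp hspec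
  have hle' : z'.asIdeal ≤ z.asIdeal := (PrimeSpectrum.le_iff_specializes z' z).mpr hspec'
  have heq : z'.asIdeal = z.asIdeal := le_antisymm hle' (hz.2 ⟨z'.isPrime, bot_le⟩ hle')
  have hzz : z' = z := PrimeSpectrum.ext heq
  subst hzz
  calc s ⊆ closure s := subset_closure
    _ = closure {ι z'} := hη.def.symm

theorem isReduced_of_chart' [AlgebraicGeometry.IsReduced X] {S : Type u} [CommRing S]
    (ι : Spec (CommRingCat.of S) ⟶ X) [IsOpenImmersion ι] : IsReduced S := by
  haveI : AlgebraicGeometry.IsReduced (Spec (CommRingCat.of S)) := isReduced_of_isOpenImmersion ι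
  exact (affine_isReduced_iff (CommRingCat.of S)).mp inferInstance

/-- a reduced scheme which is geometrically reduced at the generic points of its irreducible
components is geometrically reduced -/
theorem geometricallyReduced_of_generic [AlgebraicGeometry.IsReduced X]
    (h : ∀ Z ∈ irreducibleComponents (X : Type u), ∀ η : X, IsGenericPoint η Z →
      Curv2.IsGeomReducedAt k X η) :
    GeometricallyReduced (X ↘ (Spec (CommRingCat.of k))) := by
  rw [geometricallyReduced_iff, geometrically_iff_of_commRing_of_isClosedUnderIsomorphisms]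
  intro K _ _
  haveI : ∀ y : Curv2.bc k X K, IsReduced ((Curv2.bc k X K).presheaf.stalk y) := fun y => by
    obtain ⟨R, _, _, ι, _, hι, z, hz⟩ := exists_chart k X (Curv2.bcFst k X K y)
    obtain ⟨Q, hQ, ⟨e⟩⟩ := exists_prime_of_point_left k X K ι hι y z hz
    haveI : IsReduced R := isReduced_of_chart' X ι
    haveI : IsReduced (R ⊗[k] K) := isReduced_tensor_of_minimalPrimes k R K (fun p _ hp => by
      let zp : PrimeSpectrum R := ⟨p, inferInstance⟩
      have hcomp := closure_mem_irreducibleComponents X ι zp hp
      have hgr := h _ hcomp (ι zp) rfl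
      haveI : Algebra.IsGeometricallyReduced k (X.presheaf.stalk (ι zp)) :=
        (isGeomReducedAt_iff k X _).mp hgr
      exact reducedProp.equiv _ _ (tensorStalkEquiv k X K ι hι zp)
        (Groth.Agent.Lib.Helper14.GeomRed.isReduced_tensor_of_isGeometricallyReduced K))
    exact reducedProp.equiv _ _ e.symm
      (inferInstance : IsReduced (Localization.AtPrime Q.asIdeal))
  exact isReduced_of_isReduced_stalk _

end Scheme

end Groth.Agent.Lib.Helper6.BcRed5
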