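import Mathlib
import Groth.Agent.Lib.Helper5GenSmooth
import Groth.Agent.Lib.Helper11SepPts
import Groth.Agent.Lib.Helper6BcRed5
import Groth.Agent.Lib.Helper6SmGeom

set_option autoImplicit false
universe u
open CategoryTheory CategoryTheory.Limits AlgebraicGeometry

namespace Groth.Agent.Lib.Helper6.GeomRedSm

/-- geometric reducedness passes to open subschemes of the source -/
theorem geometricallyReduced_comp_of_isOpenImmersion {U X Y : Scheme.{u}} (j : U ⟶ X)
    [IsOpenImmersion j] (f : X ⟶ Y) [GeometricallyReduced f] : GeometricallyReduced (j ≫ f) := by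
  rw [geometricallyReduced_iff, geometrically_iff_of_isClosedUnderIsomorphisms]
  intro K _ y
  haveI : IsReduced (pullback f y) :=
    pullback_of_geometrically (GeometricallyReduced.geometrically_isReduced (f := f)) K y
  exact isReduced_of_isOpenImmersion
    (pullback.map (j ≫ f) y f y j (𝟙 _) (𝟙 _) (by simp) (by simp))

/-- a scheme geometrically reduced over a field is reduced -/
theorem isReduced_of_geometricallyReduced {K : Type u} [Field K] {X : Scheme.{u}}
    (f : X ⟶ Spec (CommRingCat.of K)) [GeometricallyReduced f] : IsReduced X := by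
  haveI : Subsingleton ↥(Spec (CommRingCat.of K)) :=
    inferInstanceAs (Subsingleton (PrimeSpectrum K))
  exact self_of_isIntegral_of_geometrically (GeometricallyReduced.geometrically_isReduced (f := f))

/-- the generic point of an integral scheme geometrically reduced and locally of finite
presentation over a field is a smooth point -/
theorem genericPoint_mem_smoothLocus {K : Type u} [Field K] {X : Scheme.{u}} [IsIntegral X]
    (f : X ⟶ Spec (CommRingCat.of K)) [LocallyOfFinitePresentation f] [GeometricallyReduced f] :
    genericPoint X ∈ f.smoothLocus := by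
  haveI : Subsingleton ↥(Spec (CommRingCat.of K)) :=
    inferInstanceAs (Subsingleton (PrimeSpectrum K))
  haveI : IsDominant f := by
    refine ⟨?_⟩
    have : Set.range f = Set.univ := by
      rw [Set.eq_univ_iff_forall]
      intro y
      exact ⟨genericPoint X, Subsingleton.elim _ _⟩
    rw [DenseRange, this]
    exact dense_univ
  have hd := Groth.Agent.Lib.Helper5.GenSmooth.dense_smoothLocus_of_geometricallyReduced X
    (Spec (CommRingCat.of K)) f inferInstance
  obtain ⟨x, hx⟩ := hd.nonempty
  exact (genericPoint_specializes x).mem_open f.smoothLocus.2 hx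

/-- **Generic smoothness**: the smooth locus of a scheme geometrically reduced and locally of
finite presentation over a field is dense. -/
theorem dense_smoothLocus {K : Type u} [Field K] {X : Scheme.{u}}
    (f : X ⟶ Spec (CommRingCat.of K)) [LocallyOfFinitePresentation f] [GeometricallyReduced f] :
    Dense (f.smoothLocus : Set X) := by
  haveI : IsReduced X := isReduced_of_geometricallyReduced f
  wlog H : CompactSpace X generalizing X
  · rw [dense_iff_closure_eq, Set.eq_univ_iff_forall]
    intro x
    obtain ⟨_, ⟨U : X.Opens, hU, rfl⟩, hxU, -⟩ :=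
      X.isBasis_affineOpens.exists_subset_of_mem_open (Set.mem_univ x) isOpen_univ
    haveI hgr : GeometricallyReduced (U.ι ≫ f) :=
      geometricallyReduced_comp_of_isOpenImmersion U.ι f
    have := this (U.ι ≫ f) inferInstance (isCompact_iff_compactSpace.mp hU.isCompact) ⟨x, hxU⟩
    rwa [← Scheme.Hom.preimage_smoothLocus_eq, Scheme.Hom.coe_preimage,
      ← U.ι.isOpenEmbedding.isOpenMap.preimage_closure_eq_closure_preimage U.ι.continuous,
      Set.mem_preimage, U.ι_apply] at this
  have : IsNoetherian X := { __ := LocallyOfFiniteType.isLocallyNoetherian f }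
  rw [dense_iff_closure_eq, Set.eq_univ_iff_forall]
  intro x
  let U : X.Opens :=
    ⟨(⋃₀ (irreducibleComponents X \ {irreducibleComponent x}))ᶜ, by
      rw [Set.sUnion_eq_biUnion, isOpen_compl_iff]
      exact TopologicalSpace.NoetherianSpace.finite_irreducibleComponents.sdiff.isClosed_biUnion
        fun W hW ↦ isClosed_of_mem_irreducibleComponents W hW.1⟩
  have hU : closure U = irreducibleComponent x :=
    closure_sUnion_irreducibleComponents_sdiff_singleton
      TopologicalSpace.NoetherianSpace.finite_irreducibleComponents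
      _ (irreducibleComponent_mem_irreducibleComponents x)
  have : AlgebraicGeometry.IsIntegral U :=
    have : IrreducibleSpace U := isIrreducible_iff_irreducibleSpace.mp
      (isIrreducible_iff_closure.mp (hU ▸ isIrreducible_irreducibleComponent))
    isIntegral_of_irreducibleSpace_of_isReduced _
  have : U.ι (genericPoint U) ∈ f.smoothLocus := by
    haveI : GeometricallyReduced (U.ι ≫ f) := geometricallyReduced_comp_of_isOpenImmersion U.ι f
    have := genericPoint_mem_smoothLocus (U.ι ≫ f)
    rwa [← Scheme.Hom.preimage_smoothLocus_eq, Scheme.Hom.mem_preimage] at this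
  exact (((genericPoint_spec U).image U.ι.continuous).specializes (y := x)
    (by rw [Set.image_univ, U.range_ι, hU]; exact mem_irreducibleComponent)).mem_closed
    isClosed_closure (subset_closure this)

/-- the restriction of a morphism to its smooth locus is smooth -/
theorem smooth_smoothLocus_ι_comp {X Y : Scheme.{u}} (f : X ⟶ Y) [LocallyOfFinitePresentation f] :
    Smooth (f.smoothLocus.ι ≫ f) := by
  rw [← Scheme.Hom.smoothLocus_eq_top_iff, ← Scheme.Hom.preimage_smoothLocus_eq]
  ext x
  simp only [Scheme.Hom.mem_preimage, Scheme.Opens.ι_apply, TopologicalSpace.Opens.coe_top,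
    Set.mem_univ, iff_true, SetLike.mem_coe]
  exact x.2

/-- **A nonempty geometrically reduced scheme of finite type over a separably closed field has a
rational point.** -/
theorem exists_section_of_isSepClosed (k : Type u) [Field k] [IsSepClosed k] {X : Scheme.{u}}
    (f : X ⟶ Spec (CommRingCat.of k)) [LocallyOfFiniteType f] [GeometricallyReduced f]
    [Nonempty X] :
    ∃ s : Spec (CommRingCat.of k) ⟶ X, s ≫ f = 𝟙 (Spec (CommRingCat.of k)) := by
  haveI : LocallyOfFinitePresentation f :=
    LocallyOfFinitePresentation.iff_locallyOfFiniteType.mpr inferInstance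
  obtain ⟨x, hx⟩ := (dense_smoothLocus f).nonempty
  haveI : Smooth (Over.mk (f.smoothLocus.ι ≫ f)).hom := smooth_smoothLocus_ι_comp f
  obtain ⟨p, -⟩ := Groth.Agent.Lib.Helper11SepPts.exists_point_mem_open k k
    (X := Over.mk (f.smoothLocus.ι ≫ f)) ⊤ ⟨x, hx⟩ trivial
  refine ⟨p.left ≫ f.smoothLocus.ι, ?_⟩
  have hw : p.left ≫ (f.smoothLocus.ι ≫ f) =
      Spec.map (CommRingCat.ofHom (algebraMap k k)) := Over.w p
  rw [Category.assoc, hw]
  have : CommRingCat.ofHom (algebraMap k k) = 𝟙 (CommRingCat.of k) := rfl
  rw [this, Spec.map_id]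

section Gen

/-- in a locally noetherian scheme, the generic points of the irreducible components belong to
every dense open subset -/
theorem genericPoint_mem_of_dense {X : Scheme.{u}} [IsLocallyNoetherian X] (U : X.Opens)
    (hU : Dense (U : Set X)) (Z : Set X) (hZ : Z ∈ irreducibleComponents X) (η : X)
    (hη : IsGenericPoint η Z) : η ∈ U := by
  obtain ⟨_, ⟨W, hW, rfl⟩, hηW, -⟩ :=
    X.isBasis_affineOpens.exists_subset_of_mem_open (Set.mem_univ η) isOpen_univ
  haveI : IsNoetherianRing Γ(X, W) := IsLocallyNoetherian.component_noetherian ⟨W, hW⟩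
  haveI : TopologicalSpace.NoetherianSpace W := noetherianSpace_of_isAffineOpen W hW
  have hemb : Topology.IsOpenEmbedding (Subtype.val : W → X) := W.2.isOpenEmbedding_subtypeVal
  have hZ' : (Subtype.val : W → X) ⁻¹' Z ∈ irreducibleComponents W :=
    preimage_mem_irreducibleComponents hZ hemb ⟨η, hη.mem, ⟨⟨η, hηW⟩, rfl⟩⟩
  obtain ⟨o, ho, ⟨w, hw⟩, hoZ⟩ :=
    TopologicalSpace.NoetherianSpace.exists_isOpen_nonempty_subset_irreducibleComponent _ hZ'
  have ho' : IsOpen ((Subtype.val : W → X) '' o) := hemb.isOpenMap _ ho
  obtain ⟨u, hu1, hu2⟩ := hU.inter_open_nonempty _ ho' ⟨w.1, w, hw, rfl⟩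
  obtain ⟨w', hw', rfl⟩ := hu1
  have hmem : w'.1 ∈ Z := hoZ hw'
  rw [← hη.def] at hmem
  exact (specializes_iff_mem_closure.mpr hmem).mem_open U.2 hu2

variable (k : Type u) [Field k] (X : Scheme.{u}) [X.Over (Spec (CommRingCat.of k))]

/-- smooth points are geometrically reduced points -/
theorem isGeomReducedAt_of_smooth (U : X.Opens)
    [Smooth (U.ι ≫ (X ↘ Spec (CommRingCat.of k)))] (x : X) (hx : x ∈ U) :
    Curv2.IsGeomReducedAt k X x := by
  intro K _ _ x' hx'
  let g := Spec.map (CommRingCat.ofHom (algebraMap k K))
  let m := pullback.map (U.ι ≫ (X ↘ Spec (CommRingCat.of k))) g (X ↘ Spec (CommRingCat.of k)) g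
    U.ι (𝟙 _) (𝟙 _) (by simp) (by simp)
  have hrange : x' ∈ Set.range m := by
    rw [Scheme.Pullback.range_map]
    refine ⟨?_, ?_⟩
    · change Curv2.bcFst k X K x' ∈ Set.range U.ι
      rw [hx', Scheme.Opens.range_ι]
      exact hx
    · simp
  obtain ⟨z, rfl⟩ := hrange
  haveI : IsReduced (pullback (U.ι ≫ (X ↘ Spec (CommRingCat.of k))) g) :=
    Groth.Agent.Lib.Helper6.SmGeom.isReduced_of_smooth_over_field K _
      (pullback.snd (U.ι ≫ (X ↘ Spec (CommRingCat.of k))) g)
  haveI : _root_.IsReduced ((pullback (U.ι ≫ (X ↘ Spec (CommRingCat.of k))) g).presheaf.stalk z) :=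
    inferInstance
  exact isReduced_of_injective (m.stalkMap z).hom
    ((ConcreteCategory.bijective_of_isIso (m.stalkMap z)).injective)

/-- **A reduced scheme locally of finite type over a field is geometrically reduced iff it has a
dense open subscheme smooth over the field.** -/
theorem geometricallyReduced_iff_exists_dense_smooth [IsReduced X]
    [LocallyOfFiniteType (X ↘ Spec (CommRingCat.of k))] :
    GeometricallyReduced (X ↘ Spec (CommRingCat.of k)) ↔
      ∃ U : X.Opens, Dense (U : Set X) ∧ Smooth (U.ι ≫ (X ↘ Spec (CommRingCat.of k))) := by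
  haveI : LocallyOfFinitePresentation (X ↘ Spec (CommRingCat.of k)) :=
    LocallyOfFinitePresentation.iff_locallyOfFiniteType.mpr inferInstance
  constructor
  · intro h
    exact ⟨(X ↘ Spec (CommRingCat.of k)).smoothLocus, dense_smoothLocus _,
      smooth_smoothLocus_ι_comp _⟩
  · rintro ⟨U, hU, hsm⟩
    haveI : IsLocallyNoetherian X :=
      LocallyOfFiniteType.isLocallyNoetherian (X ↘ Spec (CommRingCat.of k))
    exact Groth.Agent.Lib.Helper6.BcRed5.geometricallyReduced_of_generic k X
      fun Z hZ η hη => isGeomReducedAt_of_smooth k X U η (genericPoint_mem_of_dense U hU Z hZ η hη)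

end Gen

end Groth.Agent.Lib.Helper6.GeomRedSm
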