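import Mathlib
import Groth.Agent.Lib.Helper6FibRkOpenC
import Groth.Agent.Lib.Helper6GRProper
import Groth.Agent.Lib.Helper10RedFib
import Groth.Agent.Lib.Helper3FlatModel
import Groth.Agent.Lib.Helper6GeomRedSm

set_option autoImplicit false
set_option linter.style.haveILetI false
set_option linter.unusedVariables false
universe u
open CategoryTheory CategoryTheory.Limits AlgebraicGeometry TensorProduct

namespace Groth.Agent.Lib.Helper6.RedAscent

section Alg

variable {R₀ R B₀ : Type u} [CommRing R₀] [CommRing R] [CommRing B₀] [Algebra R₀ R] [Algebra R₀ B₀]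

theorem range_map_val_mono {R₁ R₂ : Subalgebra R₀ R} (h : R₁ ≤ R₂) :
    Set.range (Algebra.TensorProduct.map R₁.val (AlgHom.id R₀ B₀)) ⊆
      Set.range (Algebra.TensorProduct.map R₂.val (AlgHom.id R₀ B₀)) := by
  rintro _ ⟨y, rfl⟩
  refine ⟨Algebra.TensorProduct.map (Subalgebra.inclusion h) (AlgHom.id R₀ B₀) y, ?_⟩
  rw [← AlgHom.comp_apply, ← Algebra.TensorProduct.map_comp]
  rfl

theorem exists_fg_subalgebra (t : R ⊗[R₀] B₀) :
    ∃ R₁ : Subalgebra R₀ R, R₁.FG ∧
      t ∈ Set.range (Algebra.TensorProduct.map R₁.val (AlgHom.id R₀ B₀)) := by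
  induction t using TensorProduct.induction_on with
  | zero => exact ⟨⊥, Subalgebra.fg_bot, 0, map_zero _⟩
  | tmul r b =>
    refine ⟨Algebra.adjoin R₀ {r}, ?_, ?_⟩
    · have := Subalgebra.fg_adjoin_finset (R := R₀) ({r} : Finset R)
      simpa using this
    · exact ⟨(⟨r, Algebra.subset_adjoin rfl⟩ : Algebra.adjoin R₀ {r}) ⊗ₜ b, by simp⟩
  | add x y hx hy =>
    obtain ⟨R₁, h₁, hx'⟩ := hx
    obtain ⟨R₂, h₂, hy'⟩ := hy
    refine ⟨R₁ ⊔ R₂, h₁.sup h₂, ?_⟩
    obtain ⟨x', rfl⟩ := range_map_val_mono (B₀ := B₀) (le_sup_left : R₁ ≤ R₁ ⊔ R₂) hx'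
    obtain ⟨y', rfl⟩ := range_map_val_mono (B₀ := B₀) (le_sup_right : R₂ ≤ R₁ ⊔ R₂) hy'
    exact ⟨x' + y', map_add _ _ _⟩

theorem map_val_injective [Module.Flat R₀ B₀] (R₁ : Subalgebra R₀ R) :
    Function.Injective (Algebra.TensorProduct.map R₁.val (AlgHom.id R₀ B₀)) := by
  have h := Module.Flat.rTensor_preserves_injective_linearMap (M := B₀) R₁.val.toLinearMap
    Subtype.val_injective
  exact h

end Alg

section Sch

open Groth.Agent.Lib.Helper6.FibRkOpen Groth.Agent.Lib.Helper6.FibRkOpenC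
  Groth.Agent.Lib.Helper6.GRProper Groth.Agent.Lib.Helper6.FibNormal

theorem lrs_baseChange (k : ℕ) {X Y X' Y' : Scheme.{u}} (f : X ⟶ Y) (g : Y' ⟶ Y) (g' : X' ⟶ X)
    (f' : X' ⟶ Y') (hf : LocallyOfFinitePresentation f) (hsq : IsPullback g' f' f g) :
    Lrs k f' = g' ⁻¹' Lrs k f := by
  show Lgr k f' ∩ Lsk (k + 1) f' = g' ⁻¹' (Lgr k f ∩ Lsk (k + 1) f)
  rw [lgr_baseChange k f g g' f' hf hsq, lsk_baseChange (k + 1) f g g' f' hf hsq,
    Set.preimage_inter]

/-- if `Lrs 0 f` contains the fibre over `η`, that fibre is reduced. -/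
theorem isReduced_fiber_of_lrs {X Y : Scheme.{u}} (f : X ⟶ Y) [LocallyOfFinitePresentation f]
    (η : Y) (h : ∀ x : X, f x = η → x ∈ Lrs 0 f) : IsReduced (f.fiber η) := by
  have hgr : GeometricallyReduced (f.fiberToSpecResidueField η) := by
    rw [geometricallyReduced_fibre_iff]
    intro x hx
    have := h x hx
    rw [← geomReduced_locus_eq] at this
    exact this
  exact @Groth.Agent.Lib.Helper6.GeomRedSm.isReduced_of_geometricallyReduced
    (IsLocalRing.ResidueField (Y.presheaf.stalk η)) _ _ (f.fiberToSpecResidueField η) hgr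

/-- the base-change square between `Spec (R ⊗ B₀) ⟶ Spec R` and `Spec (R₁ ⊗ B₀) ⟶ Spec R₁`. -/
theorem isPullback_subalgebra {R₀ R B₀ : Type u} [CommRing R₀] [CommRing R] [CommRing B₀]
    [Algebra R₀ R] [Algebra R₀ B₀] (R₁ : Subalgebra R₀ R) :
    IsPullback
      (Spec.map (CommRingCat.ofHom
        (Algebra.TensorProduct.map R₁.val (AlgHom.id R₀ B₀)).toRingHom))
      (Spec.map (CommRingCat.ofHom (algebraMap R (R ⊗[R₀] B₀))))
      (Spec.map (CommRingCat.ofHom (algebraMap R₁ (R₁ ⊗[R₀] B₀))))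
      (Spec.map (CommRingCat.ofHom R₁.val.toRingHom)) := by
  have T := (isPullback_SpecMap_of_isPushout _ _ _ _
    (CommRingCat.isPushout_tensorProduct R₀ R₁ B₀)).flip
  have S := (isPullback_SpecMap_of_isPushout _ _ _ _
    (CommRingCat.isPushout_tensorProduct R₀ R B₀)).flip
  refine IsPullback.of_right ?_ ?_ T
  · have e1 : Spec.map (CommRingCat.ofHom
          (Algebra.TensorProduct.map R₁.val (AlgHom.id R₀ B₀)).toRingHom) ≫
        Spec.map (CommRingCat.ofHom (S := R₁ ⊗[R₀] B₀)
          (Algebra.TensorProduct.includeRight (R := R₀) (A := R₁) (B := B₀)).toRingHom) =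
        Spec.map (CommRingCat.ofHom (S := R ⊗[R₀] B₀)
          (Algebra.TensorProduct.includeRight (R := R₀) (A := R) (B := B₀)).toRingHom) := by
      rw [← Spec.map_comp]
      congr 1
    have e2 : Spec.map (CommRingCat.ofHom R₁.val.toRingHom) ≫
        Spec.map (CommRingCat.ofHom (algebraMap R₀ R₁)) =
        Spec.map (CommRingCat.ofHom (algebraMap R₀ R)) := by
      rw [← Spec.map_comp]
      congr 1
    rw [e1, e2]
    exact S
  · rw [← Spec.map_comp, ← Spec.map_comp]
    congr 1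

/-- generic points of `Spec R₁` lift to `Spec R` for a subring `R₁ ⊆ R`. -/
theorem exists_lift_generic {R₁ R : Type u} [CommRing R₁] [CommRing R] (ι : R₁ →+* R)
    (hι : Function.Injective ι) (η : ↥(Spec (CommRingCat.of R₁)))
    (hη : closure {η} ∈ irreducibleComponents ↥(Spec (CommRingCat.of R₁))) :
    ∃ η' : ↥(Spec (CommRingCat.of R)), Spec.map (CommRingCat.ofHom ι) η' = η := by
  have h1 : PrimeSpectrum.vanishingIdeal ({(η : PrimeSpectrum R₁)} : Set (PrimeSpectrum R₁)) ∈
      minimalPrimes R₁ :=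
    PrimeSpectrum.vanishingIdeal_mem_minimalPrimes.mpr hη
  have h2 : (η : PrimeSpectrum R₁).asIdeal ∈ minimalPrimes R₁ := by
    convert h1 using 1
    exact (PrimeSpectrum.vanishingIdeal_singleton _).symm
  obtain ⟨p', hp', hcomap⟩ := Ideal.exists_comap_eq_of_mem_minimalPrimes_of_injective hι _ h2
  refine ⟨⟨p', hp'⟩, ?_⟩
  exact PrimeSpectrum.ext hcomap

/-- **key affine statement**: a flat finitely presented algebra over a reduced ring whose fibres
are geometrically reduced is reduced. -/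
theorem isReduced_of_lrs_eq_univ (R B : Type u) [CommRing R] [CommRing B] [Algebra R B]
    [Algebra.FinitePresentation R B] [Module.Flat R B] [IsReduced R]
    (hL : Lrs 0 (Spec.map (CommRingCat.ofHom (algebraMap R B))) = Set.univ) : IsReduced B := by
  obtain ⟨R₀, B₀, _, _, _, _, hfg, hB₀, hB₀flat, ⟨e⟩⟩ :=
    Groth.Agent.Lib.Helper3.FlatOpen.exists_flat_model R B
  suffices h : IsReduced (R ⊗[R₀] B₀) from
    isReduced_of_injective e.symm.toRingHom e.symm.injective
  -- the locus over `R ⊗ B₀`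
  have hlfpB : LocallyOfFinitePresentation (Spec.map (CommRingCat.ofHom (algebraMap R B))) := by
    rw [LocallyOfFinitePresentation.SpecMap_iff, CommRingCat.hom_ofHom,
      RingHom.finitePresentation_algebraMap]
    infer_instance
  have hL' : Lrs 0 (Spec.map (CommRingCat.ofHom (algebraMap R (R ⊗[R₀] B₀)))) = Set.univ := by
    have hsq : IsPullback (Spec.map (CommRingCat.ofHom e.symm.toRingHom))
        (Spec.map (CommRingCat.ofHom (algebraMap R (R ⊗[R₀] B₀))))
        (Spec.map (CommRingCat.ofHom (algebraMap R B))) (𝟙 _) := by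
      haveI : IsIso (Spec.map (CommRingCat.ofHom e.symm.toRingHom)) := by
        have : IsIso (CommRingCat.ofHom e.symm.toRingHom) :=
          (e.symm.toRingEquiv.toCommRingCatIso).isIso_hom
        infer_instance
      refine IsPullback.of_horiz_isIso ⟨?_⟩
      rw [Category.comp_id, ← Spec.map_comp]
      congr 1
      ext x
      show e.symm (algebraMap R B x) = algebraMap R (R ⊗[R₀] B₀) x
      exact e.symm.commutes x
    rw [lrs_baseChange 0 _ _ _ _ hlfpB hsq, hL, Set.preimage_univ]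
  refine ⟨fun t ht => ?_⟩
  obtain ⟨R₁, hR₁, t₁, rfl⟩ := exists_fg_subalgebra t
  have ht₁ : IsNilpotent t₁ := by
    obtain ⟨n, hn⟩ := ht
    refine ⟨n, map_val_injective R₁ ?_⟩
    rw [map_pow, hn, map_zero]
  suffices h : IsReduced (R₁ ⊗[R₀] B₀) by
    rw [h.eq_zero _ ht₁, map_zero]
  -- `R₁` is Noetherian and reduced
  haveI : Algebra.FiniteType R₀ R₁ := ⟨R₁.fg_top.mpr hR₁⟩
  have hfgR₁ : Algebra.FiniteType ℤ R₁ := Algebra.FiniteType.trans hfg inferInstance
  haveI : IsNoetherianRing R₁ := Algebra.FiniteType.isNoetherianRing ℤ R₁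
  haveI : IsReduced R₁ := isReduced_of_injective R₁.val.toRingHom Subtype.val_injective
  set f₁ := Spec.map (CommRingCat.ofHom (algebraMap R₁ (R₁ ⊗[R₀] B₀))) with hf₁
  haveI hlfp₁ : LocallyOfFinitePresentation f₁ := by
    rw [hf₁, LocallyOfFinitePresentation.SpecMap_iff, CommRingCat.hom_ofHom,
      RingHom.finitePresentation_algebraMap]
    infer_instance
  haveI : Flat f₁ := by
    rw [hf₁, Flat.SpecMap_iff, CommRingCat.hom_ofHom, RingHom.flat_algebraMap_iff]
    infer_instance
  haveI : IsReduced (Spec (CommRingCat.of R₁)) := inferInstance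
  haveI : TopologicalSpace.NoetherianSpace ↥(Spec (CommRingCat.of R₁)) :=
    inferInstanceAs (TopologicalSpace.NoetherianSpace (PrimeSpectrum R₁))
  haveI : Finite (irreducibleComponents ↥(Spec (CommRingCat.of R₁))) :=
    TopologicalSpace.NoetherianSpace.finite_irreducibleComponents.to_subtype
  have hred : IsReduced (Spec (CommRingCat.of (R₁ ⊗[R₀] B₀))) := by
    refine Groth.Agent.Lib.Helper10.RedFib.isReduced_of_flat_of_generic_fibres f₁ fun η hη => ?_
    refine isReduced_fiber_of_lrs f₁ η fun z hz => ?_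
    obtain ⟨η', hη'⟩ := exists_lift_generic R₁.val.toRingHom Subtype.val_injective η hη
    have hsq := isPullback_subalgebra (B₀ := B₀) R₁
    obtain ⟨w, hw1, -⟩ := Scheme.exists_preimage_of_isPullback hsq z η'
      (hz.trans hη'.symm)
    have hw : w ∈ Lrs 0 (Spec.map (CommRingCat.ofHom (algebraMap R (R ⊗[R₀] B₀)))) := by
      rw [hL']; trivial
    rw [lrs_baseChange 0 _ _ _ _ hlfp₁ hsq] at hw
    rw [← hw1]
    exact hw
  have h2 : _root_.IsReduced Γ(Spec (CommRingCat.of (R₁ ⊗[R₀] B₀)), ⊤) := inferInstance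
  exact isReduced_of_injective (Scheme.ΓSpecIso (CommRingCat.of (R₁ ⊗[R₀] B₀))).inv.hom
    (ConcreteCategory.bijective_of_isIso (Scheme.ΓSpecIso (CommRingCat.of (R₁ ⊗[R₀] B₀))).inv).1

attribute [local instance] Algebra.TensorProduct.rightAlgebra in
/-- ring-level local statement. -/
theorem isReduced_atPrime_of_lrs (A B : Type u) [CommRing A] [CommRing B] [Algebra A B]
    [Algebra.FinitePresentation A B] [Module.Flat A B]
    (hL : Lrs 0 (Spec.map (CommRingCat.ofHom (algebraMap A B))) = Set.univ)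
    (p : Ideal A) [p.IsPrime] (q : Ideal B) [q.IsPrime]
    (hpq : ∀ u : A, u ∉ p → algebraMap A B u ∉ q)
    (Ap : Type u) [CommRing Ap] [Algebra A Ap] [IsLocalization.AtPrime Ap p] [IsReduced Ap]
    (Bq : Type u) [CommRing Bq] [Algebra B Bq] [IsLocalization.AtPrime Bq q] : IsReduced Bq := by
  have hlfpB : LocallyOfFinitePresentation (Spec.map (CommRingCat.ofHom (algebraMap A B))) := by
    rw [LocallyOfFinitePresentation.SpecMap_iff, CommRingCat.hom_ofHom,
      RingHom.finitePresentation_algebraMap]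
    infer_instance
  have hsq := (isPullback_SpecMap_of_isPushout _ _ _ _
    (CommRingCat.isPushout_tensorProduct A Ap B)).flip
  have hL' : Lrs 0 (Spec.map (CommRingCat.ofHom (algebraMap Ap (Ap ⊗[A] B)))) = Set.univ := by
    have := lrs_baseChange 0 _ _ _ _ hlfpB hsq
    rw [hL, Set.preimage_univ] at this
    exact this
  haveI : IsReduced (Ap ⊗[A] B) := isReduced_of_lrs_eq_univ Ap (Ap ⊗[A] B) hL'
  haveI hloc : IsLocalization (Algebra.algebraMapSubmonoid B p.primeCompl) (Ap ⊗[A] B) :=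
    IsLocalization.tensorRight Ap p.primeCompl
  have hle : Algebra.algebraMapSubmonoid B p.primeCompl ≤ q.primeCompl := by
    rintro _ ⟨u, hu, rfl⟩
    exact hpq u hu
  have hunits : ∀ y : Algebra.algebraMapSubmonoid B p.primeCompl,
      IsUnit (algebraMap B Bq y) := fun y =>
    IsLocalization.map_units Bq (⟨y.1, hle y.2⟩ : q.primeCompl)
  letI : Algebra (Ap ⊗[A] B) Bq :=
    (IsLocalization.lift (M := Algebra.algebraMapSubmonoid B p.primeCompl) (S := Ap ⊗[A] B)
      (g := algebraMap B Bq) hunits).toAlgebra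
  haveI : IsScalarTower B (Ap ⊗[A] B) Bq :=
    IsScalarTower.of_algebraMap_eq fun b => (IsLocalization.lift_eq hunits b).symm
  have hloc2 := IsLocalization.isLocalization_of_submonoid_le (Ap ⊗[A] B) Bq
    (Algebra.algebraMapSubmonoid B p.primeCompl) q.primeCompl hle
  have hred : _root_.IsReduced (Ap ⊗[A] B) := inferInstance
  exact @isReduced_localizationPreserves (Ap ⊗[A] B) _
    (q.primeCompl.map (algebraMap B (Ap ⊗[A] B))) Bq _ _ hloc2 hred

/-- **EGA IV 11.3.13-type**: `f` flat, locally of finite presentation, `𝒪_{Y, f x}` reduced and the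
fibre through `x` geometrically reduced at `x`: then `𝒪_{X,x}` is reduced. -/
theorem isReduced_stalk_of_mem_lrs {X Y : Scheme.{u}} (f : X ⟶ Y) [Flat f]
    [LocallyOfFinitePresentation f] (x : X)
    (hy : _root_.IsReduced (Y.presheaf.stalk (f x))) (hx : x ∈ Lrs 0 f) :
    _root_.IsReduced (X.presheaf.stalk x) := by
  obtain ⟨_, ⟨V, hV, rfl⟩, hyV, -⟩ :=
    Y.isBasis_affineOpens.exists_subset_of_mem_open (Set.mem_univ (f x)) isOpen_univ
  have hLo : IsOpen (Lrs 0 f) := isOpen_lrs 0 f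
  obtain ⟨_, ⟨U, hU, rfl⟩, hxU, hUsub⟩ := X.isBasis_affineOpens.exists_subset_of_mem_open
    (show x ∈ ((f ⁻¹ᵁ V : X.Opens) : Set X) ∩ Lrs 0 f from ⟨hyV, hx⟩)
    ((f ⁻¹ᵁ V).isOpen.inter hLo)
  have hle : U ≤ f ⁻¹ᵁ V := fun z hz => (hUsub hz).1
  have hUL : (U : Set X) ⊆ Lrs 0 f := fun z hz => (hUsub hz).2
  have hfp := f.finitePresentation_appLE hV hU hle
  have hfl := f.flat_appLE hV hU hle
  algebraize [(f.appLE V U hle).hom]
  have halg : CommRingCat.ofHom (algebraMap Γ(Y, V) Γ(X, U)) = f.appLE V U hle := rfl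
  -- the locus over the affine pieces
  have hsq0 := hV.SpecMap_appLE_fromSpec f hU hle
  have h1 : Lrs 0 (hU.fromSpec ≫ f) = Set.univ := by
    rw [lrs_openImmersion f 0 hU.fromSpec inferInstance inferInstance]
    ext z
    simp only [Set.mem_preimage, Set.mem_univ, iff_true]
    apply hUL
    have : hU.fromSpec z ∈ Set.range hU.fromSpec := ⟨z, rfl⟩
    rw [hU.range_fromSpec] at this
    exact this
  haveI : LocallyOfFinitePresentation (Spec.map (f.appLE V U hle)) := by
    rw [LocallyOfFinitePresentation.SpecMap_iff]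
    exact hfp
  have h2 : Lrs 0 (Spec.map (f.appLE V U hle)) = Set.univ := by
    have hp : IsPullback (𝟙 _) (Spec.map (f.appLE V U hle))
        (Spec.map (f.appLE V U hle) ≫ hV.fromSpec) hV.fromSpec := by
      have h0 : IsPullback (𝟙 _) (Spec.map (f.appLE V U hle)) (Spec.map (f.appLE V U hle))
          (𝟙 _) := IsPullback.of_horiz_isIso ⟨by simp⟩
      have := h0.paste_vert (IsKernelPair.id_of_mono hV.fromSpec)
      simpa using this
    rw [lrs_baseChange 0 _ _ _ _ inferInstance hp, hsq0, h1]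
    rfl
  -- stalks as localizations
  letI : Algebra Γ(Y, V) (Y.presheaf.stalk (f x)) :=
    TopCat.Presheaf.algebra_section_stalk Y.presheaf (⟨f x, hyV⟩ : V)
  haveI := hV.isLocalization_stalk ⟨f x, hyV⟩
  letI : Algebra Γ(X, U) (X.presheaf.stalk x) :=
    TopCat.Presheaf.algebra_section_stalk X.presheaf (⟨x, hxU⟩ : U)
  haveI := hU.isLocalization_stalk ⟨x, hxU⟩
  refine isReduced_atPrime_of_lrs Γ(Y, V) Γ(X, U) (by rw [halg]; exact h2)
    (hV.primeIdealOf ⟨f x, hyV⟩).asIdeal (hU.primeIdealOf ⟨x, hxU⟩).asIdeal ?_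
    (Y.presheaf.stalk (f x)) (X.presheaf.stalk x)
  intro u hu
  have hunit : IsUnit (algebraMap Γ(Y, V) (Y.presheaf.stalk (f x)) u) :=
    (IsLocalization.AtPrime.isUnit_to_map_iff (Y.presheaf.stalk (f x))
      (hV.primeIdealOf ⟨f x, hyV⟩).asIdeal u).mpr hu
  have hunit2 : IsUnit (algebraMap Γ(X, U) (X.presheaf.stalk x)
      (algebraMap Γ(Y, V) Γ(X, U) u)) := by
    have h3 := hunit.map (f.stalkMap x).hom
    have h4 : (f.stalkMap x).hom (algebraMap Γ(Y, V) (Y.presheaf.stalk (f x)) u) =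
        algebraMap Γ(X, U) (X.presheaf.stalk x) (algebraMap Γ(Y, V) Γ(X, U) u) := by
      show (f.stalkMap x).hom (Y.presheaf.germ V (f x) hyV u) =
        X.presheaf.germ U x hxU ((f.appLE V U hle).hom u)
      rw [Scheme.Hom.germ_stalkMap_apply, Scheme.Hom.appLE]
      simp only [CommRingCat.hom_comp, RingHom.coe_comp, Function.comp_apply]
      exact (TopCat.Presheaf.germ_res_apply X.presheaf (homOfLE hle) x hxU _).symm
    rwa [h4] at h3
  exact (IsLocalization.AtPrime.isUnit_to_map_iff (X.presheaf.stalk x)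
    (hU.primeIdealOf ⟨x, hxU⟩).asIdeal _).mp hunit2

/-- **S2567**. -/
theorem main {X Y : Scheme.{u}} (f : X ⟶ Y) [Flat f]
    [LocallyOfFinitePresentation f] (x : X) (hy : FBase.IsReducedAt Y (f.base x))
    (hx : FBase.IsGeomReducedAt (f.fiberToSpecResidueField (f.base x)) (f.asFiber x)) :
    FBase.IsReducedAt X x := by
  have hx' : x ∈ Lrs 0 f := by
    rw [← geomReduced_locus_eq]
    exact hx
  exact isReduced_stalk_of_mem_lrs f x hy hx'

end Sch

end Groth.Agent.Lib.Helper6.RedAscent
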