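import Mathlib
import Groth.Agent.Lib.Helper6FibRkOpenC
import Groth.Agent.Lib.Helper6FibEqui
import Groth.Agent.Lib.Helper6RedAscent
import Groth.Agent.Lib.Helper5RkLift
import Groth.Agent.Lib.Helper4RectDepthC
import Groth.Agent.Lib.Helper4IrrFib
import Groth.Agent.Lib.Helper28FormalEquidimLoc
import Groth.Agent.S9126

set_option autoImplicit false
set_option linter.style.haveILetI false
set_option linter.unusedVariables false
universe u
open CategoryTheory CategoryTheory.Limits AlgebraicGeometry Topology TopologicalSpace IsLocalRing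
  TensorProduct

namespace Groth.Agent.Lib.Helper6.FibEqR

open Groth.Agent.Lib.Helper6.FibCodim Groth.Agent.Lib.Helper6.FibSk
  Groth.Agent.Lib.Helper6.FibNormal Groth.Agent.Lib.Helper5.TensorSk
  Groth.Agent.Lib.Helper5.FiberStalk Groth.Agent.Lib.Helper28 Groth.Agent.Lib.Helper4.DVRSch
  Groth.Agent.Lib.Helper6.FibSkOpen Groth.Agent.Lib.Helper6.FibRk
  Groth.Agent.Lib.Helper6.FibCodimLocus Groth.Agent.Lib.Helper5.FibSmConstr
  Groth.Agent.Lib.Helper6.GenNowhere Groth.Agent.Lib.Helper6.FibRkOpen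
  Groth.Agent.Lib.Helper6.FibEqui Groth.Agent.Lib.Helper5.RkLift
  Groth.Agent.Lib.Helper4.VarDim Groth.Agent.Lib.Helper4.FibDim
  Groth.Agent.Lib.Helper4.DimFormula

theorem mem_nzd_of_isSMulRegular {A : Type*} [CommRing A] {t : A} (h : IsSMulRegular A t) :
    t ∈ nonZeroDivisors A := by
  rw [mem_nonZeroDivisors_iff_right]
  intro x hx
  apply h
  simp only [smul_eq_mul, mul_zero]
  rw [mul_comm]; exact hx

section Cat

/-- the local rings of the spectrum of a regular local ring are universally catenary. -/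
theorem isUniversallyCatenary_stalk_spec (R : Type u) [CommRing R] [IsRegularLocalRing R]
    (p : Spec (CommRingCat.of R)) :
    CAlg.IsUniversallyCatenary ((Spec (CommRingCat.of R)).presheaf.stalk p) := by
  haveI : IsRegularLocalRing (Localization.AtPrime p.asIdeal) :=
    isRegularLocalRing_localization_of_isRegularLocalRing R p.asIdeal
  have h1 := Groth.Agent.Lib.Helper4.RectDepth.isUniversallyCatenary_of_isRegularLocalRing
    (Localization.AtPrime p.asIdeal)
  exact Groth.Agent.Lib.Helper4.DimFormula.isUniversallyCatenary_of_ringEquiv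
    (AlgebraicGeometry.StructureSheaf.stalkIso R p).toRingEquiv h1

/-- the local rings of a scheme locally of finite type over a scheme with universally catenary
local rings are catenary. -/
theorem isCatenary_stalk {X Y : Scheme.{u}} (f : X ⟶ Y) [LocallyOfFiniteType f] (x : X)
    (h : CAlg.IsUniversallyCatenary (Y.presheaf.stalk (f x))) :
    CAlg.IsCatenary (X.presheaf.stalk x) := by
  letI := (f.stalkMap x).hom.toAlgebra
  haveI : Algebra.EssFiniteType (Y.presheaf.stalk (f x)) (X.presheaf.stalk x) :=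
    LocallyOfFiniteType.stalkMap f x
  exact Groth.Agent.Lib.Helper4.DimFormula.isCatenary_of_isUniversallyCatenary _
    (Groth.Agent.S9126.result (Y.presheaf.stalk (f x)) (X.presheaf.stalk x) h)

end Cat

section Field

attribute [local instance] Curv2.resAlgebra

variable (k : Type u) [Field k] (W : Scheme.{u}) [W.Over (Spec (CommRingCat.of k))]
  [LocallyOfFiniteType (W ↘ Spec (CommRingCat.of k))]

/-- the dimension formula for a scheme locally of finite type over a field. -/
theorem dim_quotient_add_trdegNat (z : W) (𝔭 : Ideal (W.presheaf.stalk z)) [h𝔭 : 𝔭.IsPrime] :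
    ringKrullDim (W.presheaf.stalk z ⧸ 𝔭) + ((trdegNat k W z : ℕ) : WithBot ℕ∞) =
      ((trdegNat k W (W.fromSpecStalk z ⟨𝔭, h𝔭⟩) : ℕ) : WithBot ℕ∞) := by
  set φ := W ↘ Spec (CommRingCat.of k) with hφ
  haveI : Subsingleton ↥(Spec (CommRingCat.of k)) :=
    inferInstanceAs (Subsingleton (PrimeSpectrum k))
  have hcat := isUniversallyCatenary_stalk_spec k (φ z)
  have h1 := ringKrullDim_quotient_add_ptTrdeg_eq_of_base_eq φ z hcat 𝔭 (Subsingleton.elim _ _)
  letI inst0 : (Spec (CommRingCat.of k)).Over (Spec (CommRingCat.of k)) := ⟨𝟙 _⟩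
  haveI : LocallyOfFiniteType ((Spec (CommRingCat.of k)) ↘ Spec (CommRingCat.of k)) :=
    (inferInstance : LocallyOfFiniteType (𝟙 (Spec (CommRingCat.of k))))
  have hid : φ ≫ ((Spec (CommRingCat.of k)) ↘ Spec (CommRingCat.of k)) = φ := Category.comp_id _
  have h0 : ∀ p : ↥(Spec (CommRingCat.of k)), trdegNat k (Spec (CommRingCat.of k)) p = 0 := by
    intro p
    apply Groth.Agent.Lib.Helper4.IrrFib.trdegNat_eq_zero_of_isClosed
    have : ({p} : Set ↥(Spec (CommRingCat.of k))) = Set.univ := by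
      ext q; simp [Subsingleton.elim q p]
    rw [this]; exact isClosed_univ
  have h2 := trdegNat_eq_add_ptTrdeg k φ hid z
  have h3 := trdegNat_eq_add_ptTrdeg k φ hid (W.fromSpecStalk z ⟨𝔭, h𝔭⟩)
  rw [h0, zero_add] at h2 h3
  rw [h2, h3]
  exact h1

include k in
/-- **dictionary**: the local ring at `z` of a scheme locally of finite type over a field is
equidimensional iff all irreducible components through `z` have the same dimension. -/
theorem isEquidim_stalk_iff (z : W) :
    EGA4.IsEquidim (W.presheaf.stalk z) ↔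
      ∃ e : ℕ, ∀ Z ∈ irreducibleComponents W, z ∈ Z →
        topologicalKrullDim Z = (e : WithBot ℕ∞) := by
  haveI : IsLocallyNoetherian W := LocallyOfFiniteType.isLocallyNoetherian
    (W ↘ Spec (CommRingCat.of k))
  constructor
  · intro hE
    obtain ⟨b, hb⟩ := exists_ringKrullDim_stalk_eq k W z
    refine ⟨b + trdegNat k W z, ?_⟩
    intro Z hZ hzZ
    obtain ⟨ζ, hζ⟩ := QuasiSober.sober hZ.1 (isClosed_of_mem_irreducibleComponents _ hZ)
    have hζcl : closure ({ζ} : Set W) = Z := hζ.def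
    have hζz : ζ ⤳ z := by rw [specializes_iff_mem_closure, hζcl]; exact hzZ
    obtain ⟨𝔭, h𝔭, h𝔭ζ⟩ := exists_prime_fromSpecStalk_eq hζz
    have hmin : 𝔭 ∈ minimalPrimes (W.presheaf.stalk z) := by
      rw [mem_minimalPrimes_iff_fromSpecStalk_maximal z 𝔭]
      intro x' hx'
      rw [h𝔭ζ] at hx' ⊢
      exact eq_of_specializes_generic ζ x' (by rw [hζcl]; exact hZ) hx'
    have h1 := dim_quotient_add_trdegNat k W z 𝔭
    rw [hE 𝔭 hmin, hb, h𝔭ζ] at h1
    rw [← hζcl, topologicalKrullDim_closure_singleton k W ζ, ← h1]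
    push_cast
    rfl
  · rintro ⟨e, he⟩ 𝔭 hmin
    haveI h𝔭 : 𝔭.IsPrime := hmin.1.1
    have key : ∀ (𝔮 : Ideal (W.presheaf.stalk z)) (hmin' : 𝔮 ∈ minimalPrimes (W.presheaf.stalk z)),
        ringKrullDim (W.presheaf.stalk z ⧸ 𝔮) + ((trdegNat k W z : ℕ) : WithBot ℕ∞) =
          (e : WithBot ℕ∞) := by
      intro 𝔮 hmin'
      haveI h𝔮 : 𝔮.IsPrime := hmin'.1.1
      have hmax := (mem_minimalPrimes_iff_fromSpecStalk_maximal z 𝔮).mp hmin'
      have hcomp := mem_irreducibleComponents_of_forall_specializes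
        (W.fromSpecStalk z ⟨𝔮, h𝔮⟩) hmax
      have hz : z ∈ closure ({W.fromSpecStalk z ⟨𝔮, h𝔮⟩} : Set W) := by
        rw [← specializes_iff_mem_closure]
        exact Groth.Agent.Lib.Helper4.DimFormula.fromSpecStalk_specializes z ⟨𝔮, h𝔮⟩
      have h1 := he _ hcomp hz
      rw [topologicalKrullDim_closure_singleton k W _] at h1
      rw [dim_quotient_add_trdegNat k W z 𝔮, h1]
    obtain ⟨𝔭₀, hmin₀, h₀⟩ := exists_minimalPrimes_ringKrullDim_quotient_eq
      (R := W.presheaf.stalk z)
    have h1 := key 𝔭 hmin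
    have h2 := key 𝔭₀ hmin₀
    rw [h₀] at h2
    exact withBot_enat_add_nat_cancel _ (h1.trans h2.symm)

end Field

section Fib

attribute [local instance] Curv2.resAlgebra

variable {X Y : Scheme.{u}} (f : X ⟶ Y) [LocallyOfFiniteType f]

/-- **dictionary**: the local ring of the fibre at `x` is equidimensional iff `x ∉ Lne f`. -/
theorem isEquidim_fibre_iff (x : X) :
    EGA4.IsEquidim ((f.fiber (f.base x)).presheaf.stalk (f.asFiber x)) ↔ x ∈ (Lne f)ᶜ := by
  letI : (f.fiber (f.base x)).Over (Spec (CommRingCat.of (Y.residueField (f.base x)))) :=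
    ⟨f.fiberToSpecResidueField (f.base x)⟩
  haveI : LocallyOfFiniteType ((f.fiber (f.base x)) ↘
      Spec (CommRingCat.of (Y.residueField (f.base x)))) :=
    locallyOfFiniteType_fiberToSpecResidueField f _
  rw [isEquidim_stalk_iff (Y.residueField (f.base x)) (f.fiber (f.base x)) (f.asFiber x),
    ← equidim_locus_eq f]
  rfl

end Fib

section DVR

variable (V : Type u) [CommRing V] [IsDomain V] [IsDiscreteValuationRing V]

/-- dimension of the fibre at a point of the closed fibre. -/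
theorem dim_fibre_add_one {Z : Scheme.{u}} (h : Z ⟶ Spec (CommRingCat.of V)) [Flat h]
    [LocallyOfFinitePresentation h]
    (c : Z) (hc : h c = (closedPoint V : Spec (CommRingCat.of V))) :
    fdim h c + 1 = ringKrullDim (Z.presheaf.stalk c) := by
  haveI : IsLocallyNoetherian Z := LocallyOfFiniteType.isLocallyNoetherian h
  obtain ⟨t, hmem, hreg, hmap, -⟩ := exists_uniformizer V h c hc
  obtain ⟨e⟩ := nonempty_stalk_asFiber_equiv h c
  let e' := e.trans (Ideal.quotEquivOfEq hmap)
  have h1 : fdim h c = ringKrullDim (Z.presheaf.stalk c ⧸ Ideal.span {t}) :=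
    ringKrullDim_eq_of_ringEquiv e'
  have hjac : t ∈ Ring.jacobson (Z.presheaf.stalk c) := by
    rw [IsLocalRing.ringJacobson_eq_maximalIdeal]; exact hmem
  have h2 := ringKrullDim_quotient_span_singleton_succ_eq_ringKrullDim_of_mem_jacobson hreg hjac
  rw [h1]
  exact h2

/-- **The DVR case** for geometric `(R_k)` + equidimensional: a point of the generic fibre of
fibre-codimension `≤ k` specializing to a point `z` of the closed fibre at which the fibre is
geometrically `(R_k)`, with `𝒪_{Z,z}` equidimensional and catenary, lies in the smooth locus. -/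
theorem mem_lsm_of_dvr' (k : ℕ) {Z : Scheme.{u}} (h : Z ⟶ Spec (CommRingCat.of V)) [Flat h]
    [LocallyOfFinitePresentation h] {z w : Z} (hwz : w ⤳ z)
    (hz : h z = (closedPoint V : Spec (CommRingCat.of V)))
    (hw : h w = (⟨⊥, Ideal.isPrime_bot⟩ : Spec (CommRingCat.of V)))
    (hdim : fdim h w ≤ (k : WithBot ℕ∞)) (hz1 : z ∈ Lgr k h)
    (hEq : EGA4.IsEquidim (Z.presheaf.stalk z)) (hcat : CAlg.IsCatenary (Z.presheaf.stalk z)) :
    w ∈ Lsm h := by
  haveI : IsLocallyNoetherian Z := LocallyOfFiniteType.isLocallyNoetherian h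
  obtain ⟨t, htm, htreg, htmap, htP⟩ := exists_uniformizer V h z hz
  -- the prime of `w`
  have htp : t ∉ genPrime Z hwz := by
    intro htp
    have h1 := htP ⟨genPrime Z hwz, inferInstance⟩ htp
    rw [fromSpecStalk_genPrime, hw, hz] at h1
    have h' : (⊥ : Ideal V) = maximalIdeal V := congrArg PrimeSpectrum.asIdeal h1
    exact IsDiscreteValuationRing.not_a_field V h'.symm
  have hp : (genPrime Z hwz).height ≤ (k : ℕ∞) := by
    have h1 := ringKrullDim_stalk_eq_height Z hwz
    obtain ⟨e⟩ := nonempty_fibre_stalk_equiv_of_generic V h w hw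
    have h2 : fdim h w = ringKrullDim (Z.presheaf.stalk w) := ringKrullDim_eq_of_ringEquiv e
    rw [h2, h1] at hdim
    exact_mod_cast hdim
  -- a prime minimal over `p + (t)`
  have hle : genPrime Z hwz ⊔ Ideal.span {t} ≤ maximalIdeal (Z.presheaf.stalk z) :=
    sup_le (IsLocalRing.le_maximalIdeal (Ideal.IsPrime.ne_top inferInstance))
      ((Ideal.span_singleton_le_iff_mem _).mpr htm)
  obtain ⟨q, hqmin, hqle⟩ := Ideal.exists_minimalPrimes_le hle
  haveI hqp : q.IsPrime := hqmin.1.1
  have hcz : Z.fromSpecStalk z ⟨q, hqp⟩ ⤳ z := fromSpecStalk_specializes Z z _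
  have hq : genPrime Z hcz = q := genPrime_fromSpecStalk Z z ⟨q, hqp⟩
  have htq : t ∈ q := hqmin.1.2 (le_sup_right (a := genPrime Z hwz) (Ideal.mem_span_singleton_self t))
  have hc : h (Z.fromSpecStalk z ⟨q, hqp⟩) = (closedPoint V : Spec (CommRingCat.of V)) := by
    rw [htP ⟨q, hqp⟩ htq, hz]
  have hwc : w ⤳ Z.fromSpecStalk z ⟨q, hqp⟩ := by
    have h1 : (⟨genPrime Z hwz, inferInstance⟩ : PrimeSpectrum (Z.presheaf.stalk z)) ⤳ ⟨q, hqp⟩ :=
      (PrimeSpectrum.le_iff_specializes _ _).mp (le_sup_left.trans hqmin.1.2)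
    have h2 := h1.map (Z.fromSpecStalk z).continuous
    rwa [fromSpecStalk_genPrime] at h2
  -- height count
  have hcov : (⟨genPrime Z hwz, inferInstance⟩ : PrimeSpectrum (Z.presheaf.stalk z)) ⋖ ⟨q, hqp⟩ :=
    covBy_of_mem_minimalPrimes_sup_span t (genPrime Z hwz) htp q hqmin
  have hht : q.height = (genPrime Z hwz).height + 1 :=
    height_eq_add_one_of_covBy_of_isEquidim (A := Z.presheaf.stalk z) hEq hcat
      (p := ⟨genPrime Z hwz, inferInstance⟩) (q := ⟨q, hqp⟩) hcov
  have h5 := dim_fibre_add_one V h _ hc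
  have h6 : ringKrullDim (Z.presheaf.stalk (Z.fromSpecStalk z ⟨q, hqp⟩)) = q.height := by
    rw [ringKrullDim_stalk_eq_height Z hcz, hq]
  have h8 : fdim h (Z.fromSpecStalk z ⟨q, hqp⟩) ≤ (k : WithBot ℕ∞) := by
    rw [h6, hht] at h5
    apply Groth.Agent.Lib.Helper4.DimFormula.withBot_enat_add_nat_le_cancel 1
    have : ((k : ℕ) : WithBot ℕ∞) + ((1 : ℕ) : WithBot ℕ∞) = (((k : ℕ∞) + 1 : ℕ∞) : WithBot ℕ∞) := by
      push_cast; rfl
    rw [Nat.cast_one, h5]
    have h7 : (genPrime Z hwz).height + 1 ≤ (k : ℕ∞) + 1 := add_le_add hp le_rfl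
    calc (((genPrime Z hwz).height + 1 : ℕ∞) : WithBot ℕ∞) ≤ (((k : ℕ∞) + 1 : ℕ∞) : WithBot ℕ∞) :=
          WithBot.coe_le_coe.mpr h7
      _ = ((k : ℕ) : WithBot ℕ∞) + 1 := by push_cast; rfl
  have h9 : Z.fromSpecStalk z ⟨q, hqp⟩ ∈ Lsm h :=
    (mem_lgr_iff k h z).mp hz1 _ (hc.trans hz.symm) hcz h8
  rw [lsm_eq_smoothLocus_of_flat] at h9 ⊢
  exact hwc.mem_open h.smoothLocus.2 h9

end DVR

end Groth.Agent.Lib.Helper6.FibEqR
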