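import Mathlib
import Groth.Agent.Lib.Helper6FibEqR

set_option autoImplicit false
set_option linter.style.haveILetI false
set_option linter.unusedVariables false
universe u
open CategoryTheory CategoryTheory.Limits AlgebraicGeometry Topology TopologicalSpace IsLocalRing
  TensorProduct

namespace Groth.Agent.Lib.Helper6.FibEqR

open Groth.Agent.Lib.Helper6.FibCodim Groth.Agent.Lib.Helper6.FibSk
  Groth.Agent.Lib.Helper6.FibNormal Groth.Agent.Lib.Helper5.TensorSk
  Groth.Agent.Lib.Helper5.FiberStalk Groth.Agent.Lib.Helper28 Groth.Agent.Lib.Helper4.DVRSch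
  Groth.Agent.Lib.Helper6.FibSkOpen Groth.Agent.Lib.Helper6.FibRk
  Groth.Agent.Lib.Helper6.FibCodimLocus Groth.Agent.Lib.Helper5.FibSmConstr
  Groth.Agent.Lib.Helper6.GenNowhere Groth.Agent.Lib.Helper6.FibRkOpen
  Groth.Agent.Lib.Helper6.FibEqui Groth.Agent.Lib.Helper5.RkLift
  Groth.Agent.Lib.Helper4.VarDim Groth.Agent.Lib.Helper4.FibDim
  Groth.Agent.Lib.Helper4.DimFormula Groth.Agent.Lib.Helper6.RedAscent

section Mono

theorem lgr_mono {k k' : ℕ} (hk : k' ≤ k) {X Y : Scheme.{u}} (f : X ⟶ Y) :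
    Lgr k f ⊆ Lgr k' f := by
  intro x hx
  rw [mem_lgr_iff] at hx ⊢
  intro z hfz hzx hd
  refine hx z hfz hzx (hd.trans ?_)
  exact_mod_cast hk

/-- at a point of `Lrs 0 f` the local ring of the fibre is reduced. -/
theorem isReduced_fibre_stalk_of_mem_lrs {X Y : Scheme.{u}} (f : X ⟶ Y)
    [LocallyOfFinitePresentation f] (x : X) (hx : x ∈ Lrs 0 f) :
    _root_.IsReduced ((f.fiber (f.base x)).presheaf.stalk (f.asFiber x)) := by
  haveI := lfp_fiberToSpecResidueField f (f x)
  haveI : Subsingleton ↥(Spec (CommRingCat.of (Y.residueField (f x)))) :=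
    inferInstanceAs (Subsingleton (PrimeSpectrum (Y.residueField (f x))))
  haveI : Flat (f.fiberToSpecResidueField (f x)) := inferInstance
  have hsq : IsPullback (f.fiberι (f x)) (f.fiberToSpecResidueField (f x)) f
      (Y.fromSpecResidueField (f x)) := IsPullback.of_hasPullback _ _
  have hbc := lrs_baseChange 0 f _ _ _ inferInstance hsq
  have hmem : f.asFiber x ∈ Lrs 0 (f.fiberToSpecResidueField (f x)) := by
    rw [hbc, Set.mem_preimage, f.fiberι_asFiber]
    exact hx
  exact isReduced_stalk_of_mem_lrs (f.fiberToSpecResidueField (f x)) (f.asFiber x)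
    inferInstance hmem

end Mono

section DVR2

variable (V : Type u) [CommRing V] [IsDomain V] [IsDiscreteValuationRing V]

/-- **The DVR case**: a generization in the generic fibre of a point `z` of the closed fibre at
which the fibre is geometrically `(R_k)`, `(S_1)` and equidimensional has the same properties. -/
theorem generization_dvr (k : ℕ) {Z : Scheme.{u}} (h : Z ⟶ Spec (CommRingCat.of V)) [Flat h]
    [LocallyOfFinitePresentation h] {z w : Z} (hwz : w ⤳ z)
    (hz : h z = (closedPoint V : Spec (CommRingCat.of V)))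
    (hw : h w = (⟨⊥, Ideal.isPrime_bot⟩ : Spec (CommRingCat.of V)))
    (hz1 : z ∈ Lgr k h) (hz2 : z ∈ Lsk 1 h) (hz3 : z ∉ Lne h) :
    w ∈ Lgr k h ∧ w ∉ Lne h := by
  haveI : IsLocallyNoetherian Z := LocallyOfFiniteType.isLocallyNoetherian h
  haveI : LocallyOfFiniteType h := inferInstance
  have hcat : CAlg.IsCatenary (Z.presheaf.stalk z) :=
    isCatenary_stalk h z (isUniversallyCatenary_stalk_spec V (h z))
  have hred : _root_.IsReduced ((h.fiber (h.base z)).presheaf.stalk (h.asFiber z)) :=
    isReduced_fibre_stalk_of_mem_lrs h z ⟨lgr_mono (Nat.zero_le k) h hz1, hz2⟩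
  have hEqF : EGA4.IsEquidim ((h.fiber (h.base z)).presheaf.stalk (h.asFiber z)) :=
    (isEquidim_fibre_iff h z).mpr hz3
  obtain ⟨t, htm, htreg, htmap, htP⟩ := exists_uniformizer V h z hz
  obtain ⟨e⟩ := nonempty_stalk_asFiber_equiv h z
  let e' := e.trans (Ideal.quotEquivOfEq htmap)
  haveI : _root_.IsReduced (Z.presheaf.stalk z ⧸ Ideal.span {t}) :=
    isReduced_of_injective e'.symm.toRingHom e'.symm.injective
  have hEq : EGA4.IsEquidim (Z.presheaf.stalk z) :=
    isEquidim_of_quotient t htm (mem_nzd_of_isSMulRegular htreg)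
      (isEquidim_of_ringEquiv e' hEqF)
  refine ⟨?_, ?_⟩
  · rw [mem_lgr_iff]
    intro ξ hξ hξw hdim
    exact mem_lsm_of_dvr' V k h (hξw.trans hwz) hz (hξ.trans hw) hdim hz1 hEq hcat
  · have h1 : EGA4.IsEquidim (Localization.AtPrime (genPrime Z hwz)) :=
      isEquidim_localization_atPrime hEq hcat (genPrime Z hwz)
    letI := (Z.presheaf.stalkSpecializes hwz).hom.toAlgebra
    haveI := isLocalization_genPrime Z hwz
    have e1 := IsLocalization.algEquiv (genPrime Z hwz).primeCompl
      (Localization.AtPrime (genPrime Z hwz)) (Z.presheaf.stalk w)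
    obtain ⟨e2⟩ := nonempty_fibre_stalk_equiv_of_generic V h w hw
    have h2 : EGA4.IsEquidim ((h.fiber (h.base w)).presheaf.stalk (h.asFiber w)) :=
      isEquidim_of_ringEquiv (e1.toRingEquiv.trans e2.symm) h1
    exact (isEquidim_fibre_iff h w).mp h2

end DVR2

section Noeth

/-- the fibrewise locus "geometrically `(R_k)`, `(S_1)` and equidimensional". -/
def Leq (k : ℕ) {X Y : Scheme.{u}} (f : X ⟶ Y) : Set X := (Lgr k f ∩ Lsk 1 f) ∩ (Lne f)ᶜ

theorem leq_baseChange (k : ℕ) {X Y X' Y' : Scheme.{u}} (f : X ⟶ Y) (g : Y' ⟶ Y) (g' : X' ⟶ X)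
    (f' : X' ⟶ Y') (hf : LocallyOfFinitePresentation f) (hsq : IsPullback g' f' f g) :
    Leq k f' = g' ⁻¹' Leq k f := by
  unfold Leq
  rw [lgr_baseChange k f g g' f' hf hsq, lsk_baseChange 1 f g g' f' hf hsq,
    lne_baseChange f g g' f' inferInstance hsq, Set.preimage_inter, Set.preimage_inter,
    Set.preimage_compl]

theorem leq_openImmersion (k : ℕ) {X Y U : Scheme.{u}} (f : X ⟶ Y) (j : U ⟶ X)
    (hj : IsOpenImmersion j) (hf : LocallyOfFinitePresentation f) :
    Leq k (j ≫ f) = j ⁻¹' Leq k f := by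
  unfold Leq
  rw [lgr_openImmersion k f j hj hf, lsk_openImmersion 1 f j hj hf, lne_openImmersion f j hj,
    Set.preimage_inter, Set.preimage_inter, Set.preimage_compl]

/-- over a locally Noetherian base, the locus `Leq k f` of a flat morphism locally of finite
presentation is stable under generization. -/
theorem leq_generization (k : ℕ) {X Y : Scheme.{u}} [IsLocallyNoetherian Y] (f : X ⟶ Y) [Flat f]
    [LocallyOfFinitePresentation f] {x x' : X} (hx : x' ⤳ x) (hmem : x ∈ Leq k f) :
    x' ∈ Leq k f := by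
  by_cases hne : x' = x
  · subst hne
    exact hmem
  haveI : IsLocallyNoetherian X := LocallyOfFiniteType.isLocallyNoetherian f
  haveI : LocallyOfFiniteType f := inferInstance
  obtain ⟨V, hV, g, hg1, hg2⟩ := exists_dvr_hom hx hne (L := X.residueField x')
    (𝟙 (X.residueField x')) (by
      show (RingHom.id _).EssFiniteType
      exact RingHom.FiniteType.essFiniteType (RingHom.FiniteType.id _))
  haveI := hV
  let t := g ≫ f
  let fT := pullback.snd f t
  have hpb := IsPullback.of_hasPullback f t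
  let σ : Spec (CommRingCat.of ↥V) ⟶ pullback f t := pullback.lift g (𝟙 _) (by simp [t])
  have hσ : σ ≫ fT = 𝟙 _ := pullback.lift_snd _ _ _
  have hσ1 : σ ≫ pullback.fst f t = g := pullback.lift_fst _ _ _
  have hgen : g (⟨⊥, Ideal.isPrime_bot⟩ : Spec (CommRingCat.of ↥V)) = x' := by
    let pt : Spec (CommRingCat.of (X.residueField x')) := ⟨⊥, Ideal.isPrime_bot⟩
    have h1 : Spec.map (CommRingCat.ofHom V.subtype) pt =
        (⟨⊥, Ideal.isPrime_bot⟩ : Spec (CommRingCat.of ↥V)) := by
      apply PrimeSpectrum.ext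
      show Ideal.comap V.subtype ⊥ = ⊥
      rw [← RingHom.ker_eq_comap_bot]
      exact (RingHom.injective_iff_ker_eq_bot _).mp Subtype.val_injective
    rw [← h1]
    show (Spec.map (CommRingCat.ofHom V.subtype) ≫ g) pt = x'
    rw [hg1, Scheme.Hom.comp_apply]
    exact Scheme.fromSpecResidueField_apply _ _
  -- the points of the section
  have hζ : pullback.fst f t (σ (⟨⊥, Ideal.isPrime_bot⟩ : Spec (CommRingCat.of ↥V))) = x' := by
    rw [← Scheme.Hom.comp_apply, hσ1, hgen]
  have hz : pullback.fst f t (σ (closedPoint ↥V : Spec (CommRingCat.of ↥V))) = x := by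
    rw [← Scheme.Hom.comp_apply, hσ1, hg2]
  have hfTζ : fT (σ (⟨⊥, Ideal.isPrime_bot⟩ : Spec (CommRingCat.of ↥V))) =
      (⟨⊥, Ideal.isPrime_bot⟩ : Spec (CommRingCat.of ↥V)) := by
    rw [← Scheme.Hom.comp_apply, hσ]; rfl
  have hfTz : fT (σ (closedPoint ↥V : Spec (CommRingCat.of ↥V))) =
      (closedPoint ↥V : Spec (CommRingCat.of ↥V)) := by
    rw [← Scheme.Hom.comp_apply, hσ]; rfl
  have hsp0 : (⟨⊥, Ideal.isPrime_bot⟩ : Spec (CommRingCat.of ↥V)) ⤳
      (closedPoint ↥V : Spec (CommRingCat.of ↥V)) :=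
    (PrimeSpectrum.le_iff_specializes _ _).mp bot_le
  have hspec := hsp0.map σ.continuous
  have hbc1 := lgr_baseChange k f t (pullback.fst f t) fT inferInstance hpb
  have hbc2 := lsk_baseChange 1 f t (pullback.fst f t) fT inferInstance hpb
  have hbc3 := lne_baseChange f t (pullback.fst f t) fT inferInstance hpb
  have hmem1 : σ (closedPoint ↥V : Spec (CommRingCat.of ↥V)) ∈ Lgr k fT := by
    rw [hbc1, Set.mem_preimage, hz]; exact hmem.1.1
  have hmem2 : σ (closedPoint ↥V : Spec (CommRingCat.of ↥V)) ∈ Lsk 1 fT := by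
    rw [hbc2, Set.mem_preimage, hz]; exact hmem.1.2
  have hmem3 : σ (closedPoint ↥V : Spec (CommRingCat.of ↥V)) ∉ Lne fT := by
    rw [hbc3, Set.mem_preimage, hz]; exact hmem.2
  obtain ⟨hres1, hres2⟩ := generization_dvr (↥V) k fT hspec hfTz hfTζ hmem1 hmem2 hmem3
  rw [hbc1, Set.mem_preimage, hζ] at hres1
  rw [hbc3, Set.mem_preimage, hζ] at hres2
  exact ⟨⟨hres1, lsk_generization 1 f hx hmem.1.2⟩, hres2⟩

end Noeth

section Open

theorem isLocallyConstructible_leq (k : ℕ) {X Y : Scheme.{u}} (f : X ⟶ Y)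
    [LocallyOfFinitePresentation f] : IsLocallyConstructible (Leq k f) := by
  unfold Leq
  refine ((?_ : IsLocallyConstructible (Lgr k f)).inter (isLocallyConstructible_sk f 1)).inter
    (Groth.Agent.Lib.Helper6.FibGeomLocus.isLocallyConstructible_compl
      (isLocallyConstructible_lne f))
  unfold Lgr
  rw [← rk_locus_eq]
  exact isLocallyConstructible_geomRk f k

/-- **EGA IV 12.1.1-type**: for `f` flat and locally of finite presentation, the set of points at
which the fibre is geometrically `(R_k)`, `(S_1)` and equidimensional is open. -/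
theorem isOpen_leq (k : ℕ) {X Y : Scheme.{u}} (f : X ⟶ Y) [Flat f]
    [LocallyOfFinitePresentation f] : IsOpen (Leq k f) := by
  refine isOpen_locus_of_int (fun {X Y} f => Leq k f) ?_ ?_ ?_ f
  · intro X Y X' Y' f g g' f' hf hsq
    exact leq_baseChange k f g g' f' hf hsq
  · intro X Y U f j hj hf
    exact leq_openImmersion k f j hj hf
  · intro A B φ hA hφ hφflat
    haveI : IsNoetherianRing A := Algebra.FiniteType.isNoetherianRing ℤ A
    haveI : Flat (Spec.map φ) := by rwa [Flat.SpecMap_iff]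
    haveI : LocallyOfFinitePresentation (Spec.map φ) := by
      rwa [LocallyOfFinitePresentation.SpecMap_iff]
    apply Groth.Agent.Lib.Helper3.FlatFibDim.isOpen_of_isLocallyConstructible_of_stableUnderGeneralization
    · exact isLocallyConstructible_leq k (Spec.map φ)
    · intro x x' hx hmem
      exact leq_generization k (Spec.map φ) hx hmem

end Open

end Groth.Agent.Lib.Helper6.FibEqR
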