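import Mathlib
import Groth.Agent.Lib.Helper6FibEqR2
import Groth.Agent.Lib.Helper4DimFormulaAM
import Groth.Agent.Lib.Helper4DimFormulaAO
import Groth.Agent.Lib.Helper3LocDimBC
import Groth.Agent.Lib.Helper28Equidim

/-!
# Constancy of the fibre dimension along generizations (helper22)

For a flat family over a DVR whose closed fibre is reduced and equidimensional at `z`, the fibre
dimension at a generization `w` of `z` in the generic fibre equals the fibre dimension at `z`.
-/

set_option autoImplicit false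
set_option linter.style.haveILetI false
set_option linter.unusedVariables false
universe u
open CategoryTheory CategoryTheory.Limits AlgebraicGeometry Topology TopologicalSpace IsLocalRing

namespace Groth.Agent.Lib.Helper22.EQ

open Groth.Agent.Lib.Helper6.FibCodim Groth.Agent.Lib.Helper6.FibSk
  Groth.Agent.Lib.Helper6.FibNormal Groth.Agent.Lib.Helper5.TensorSk
  Groth.Agent.Lib.Helper5.FiberStalk Groth.Agent.Lib.Helper28 Groth.Agent.Lib.Helper4.DVRSch
  Groth.Agent.Lib.Helper6.FibSkOpen Groth.Agent.Lib.Helper6.FibRk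
  Groth.Agent.Lib.Helper6.FibCodimLocus Groth.Agent.Lib.Helper5.FibSmConstr
  Groth.Agent.Lib.Helper6.GenNowhere Groth.Agent.Lib.Helper6.FibRkOpen
  Groth.Agent.Lib.Helper6.FibEqui Groth.Agent.Lib.Helper5.RkLift
  Groth.Agent.Lib.Helper4.VarDim Groth.Agent.Lib.Helper4.FibDim
  Groth.Agent.Lib.Helper4.DimFormula Groth.Agent.Lib.Helper6.RedAscent
  Groth.Agent.Lib.Helper6.FibEqR

/-- the local rings of the spectrum of a DVR have dimension at most one -/
theorem ringKrullDim_stalk_spec_le_one (V : Type u) [CommRing V] [IsDomain V]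
    [IsDiscreteValuationRing V] (p : Spec (CommRingCat.of V)) :
    ringKrullDim ((Spec (CommRingCat.of V)).presheaf.stalk p) ≤ 1 := by
  haveI : p.asIdeal.IsPrime := p.2
  have h1 : ringKrullDim (Localization.AtPrime p.asIdeal) ≤ 1 := by
    rw [IsLocalization.AtPrime.ringKrullDim_eq_height p.asIdeal (Localization.AtPrime p.asIdeal),
      ← IsDiscreteValuationRing.ringKrullDim_eq_one V]
    exact Ideal.height_le_ringKrullDim_of_ne_top (Ideal.IsPrime.ne_top inferInstance)
  have h2 : ringKrullDim (Localization.AtPrime p.asIdeal) =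
      ringKrullDim ((Spec (CommRingCat.of V)).presheaf.stalk p) :=
    ringKrullDim_eq_of_ringEquiv (AlgebraicGeometry.StructureSheaf.stalkIso V p).toRingEquiv
  rw [← h2]; exact h1

variable (V : Type u) [CommRing V] [IsDomain V] [IsDiscreteValuationRing V]

set_option maxHeartbeats 1000000 in
/-- **The DVR case**: the fibre dimension does not drop under generization to the generic fibre
at a point where the closed fibre is reduced and equidimensional. -/
theorem fibreDimAt_le_of_dvr {Z : Scheme.{u}} (h : Z ⟶ Spec (CommRingCat.of V)) [Flat h]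
    [LocallyOfFinitePresentation h] {z w : Z} (hwz : w ⤳ z)
    (hz : h z = (closedPoint V : Spec (CommRingCat.of V)))
    (hw : h w = (⟨⊥, Ideal.isPrime_bot⟩ : Spec (CommRingCat.of V)))
    (hred : _root_.IsReduced ((h.fiber (h.base z)).presheaf.stalk (h.asFiber z)))
    (hEqF : EGA4.IsEquidim ((h.fiber (h.base z)).presheaf.stalk (h.asFiber z))) :
    FlatMor.fibreDimAt h z ≤ FlatMor.fibreDimAt h w := by
  haveI : IsLocallyNoetherian Z := LocallyOfFiniteType.isLocallyNoetherian h
  haveI : LocallyOfFiniteType h := inferInstance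
  have hcatV := isUniversallyCatenary_stalk_spec V (h z)
  have hcat : CAlg.IsCatenary (Z.presheaf.stalk z) := isCatenary_stalk h z hcatV
  obtain ⟨t, htm, htreg, htmap, htP⟩ := exists_uniformizer V h z hz
  obtain ⟨e⟩ := nonempty_stalk_asFiber_equiv h z
  let e' := e.trans (Ideal.quotEquivOfEq htmap)
  haveI : _root_.IsReduced (Z.presheaf.stalk z ⧸ Ideal.span {t}) :=
    isReduced_of_injective e'.symm.toRingHom e'.symm.injective
  have hEq : EGA4.IsEquidim (Z.presheaf.stalk z) :=
    isEquidim_of_quotient t htm (mem_nzd_of_isSMulRegular htreg)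
      (isEquidim_of_ringEquiv e' hEqF)
  -- ht p + dim A/p = dim A
  have h1 := height_add_ringKrullDim_quotient_eq_of_isEquidim hEq hcat (genPrime Z hwz)
  -- dim of the fibre + 1 = dim A
  have h2 := dim_fibre_add_one V h z hz
  -- dimension inequality
  have h3 := ringKrullDim_quotient_add_ptTrdeg_le h z (genPrime Z hwz)
  rw [fromSpecStalk_genPrime] at h3
  have h4 : ringKrullDim ((Spec (CommRingCat.of V)).presheaf.stalk (h.base z) ⧸
      (genPrime Z hwz).comap (h.stalkMap z).hom) ≤ 1 :=
    (ringKrullDim_quotient_le _).trans (ringKrullDim_stalk_spec_le_one V (h z))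
  have h5 := fibreDimAt_eq_stalk_add_ptTrdeg h w
  obtain ⟨e2⟩ := nonempty_fibre_stalk_equiv_of_generic V h w hw
  have h6 : ringKrullDim ((h.fiber (h.base w)).presheaf.stalk (h.asFiber w)) =
      ringKrullDim (Z.presheaf.stalk w) := ringKrullDim_eq_of_ringEquiv e2
  have h7 := ringKrullDim_stalk_eq_height Z hwz
  have h8 := fibreDimAt_eq_stalk_add_ptTrdeg h z
  -- numerics
  obtain ⟨D, hD⟩ := Helper4.DimFormula.exists_nat_ringKrullDim_eq (Z.presheaf.stalk z)
  obtain ⟨F, hF⟩ := exists_ringKrullDim_stalk_asFiber_eq_nat h z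
  obtain ⟨a, ha⟩ := ENat.ne_top_iff_exists.mp
    (Ideal.height_ne_top_of_isPrime (I := genPrime Z hwz))
  obtain ⟨b, hb⟩ := Helper4.DimFormula.exists_nat_ringKrullDim_eq (Z.presheaf.stalk z ⧸ genPrime Z hwz)
  have h2' : (F : WithBot ℕ∞) + 1 = D := by rw [← hF, ← hD]; exact h2
  have h1' : (((a : ℕ∞)) : WithBot ℕ∞) + b = D := by rw [ha, ← hb, ← hD]; exact h1
  have h3' : (b : WithBot ℕ∞) + ptTrdeg h z ≤ 1 + ptTrdeg h w := by
    rw [← hb]; exact h3.trans (add_le_add_left h4 _)
  rw [h8, h5, h6, h7, hF, ← ha]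
  have e1 : F + 1 = D := by exact_mod_cast h2'
  have e2 : a + b = D := by exact_mod_cast h1'
  have e3 : b + ptTrdeg h z ≤ 1 + ptTrdeg h w := by exact_mod_cast h3'
  have e4 : F + ptTrdeg h z ≤ a + ptTrdeg h w := by omega
  exact_mod_cast e4

end Groth.Agent.Lib.Helper22.EQ
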