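import Mathlib

set_option autoImplicit false
universe u

open Polynomial

namespace Groth.Agent.Lib.Helper22.GI


/-- A constructible subset of the spectrum of a domain which misses the generic point misses a
nonempty basic open. -/
theorem exists_ne_zero_forall_mem_of_isConstructible {A : Type*} [CommRing A] [IsDomain A]
    {S : Set (PrimeSpectrum A)} (hS : Topology.IsConstructible S)
    (h0 : (⟨⊥, Ideal.isPrime_bot⟩ : PrimeSpectrum A) ∉ S) :
    ∃ a : A, a ≠ 0 ∧ ∀ p ∈ S, a ∈ p.asIdeal := by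
  obtain ⟨T, hT⟩ := PrimeSpectrum.exists_constructibleSetData_iff.mpr hS.compl
  have hmem : (⟨⊥, Ideal.isPrime_bot⟩ : PrimeSpectrum A) ∈ T.toSet := by
    rw [hT]; exact h0
  simp only [PrimeSpectrum.ConstructibleSetData.toSet, Set.mem_iUnion] at hmem
  obtain ⟨C, hC, hmem⟩ := hmem
  simp only [PrimeSpectrum.BasicConstructibleSetData.toSet, Set.mem_sdiff,
    PrimeSpectrum.mem_zeroLocus, Set.singleton_subset_iff, SetLike.mem_coe] at hmem
  obtain ⟨hg, hf⟩ := hmem
  have hg0 : ∀ i, C.g i = 0 := by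
    intro i
    have := hg ⟨i, rfl⟩
    simpa using this
  have hf0 : C.f ≠ 0 := by
    intro h
    apply hf
    simp [h]
  refine ⟨C.f, hf0, fun p hp => ?_⟩
  by_contra hnot
  have : p ∈ T.toSet := by
    simp only [PrimeSpectrum.ConstructibleSetData.toSet, Set.mem_iUnion]
    refine ⟨C, hC, ?_⟩
    simp only [PrimeSpectrum.BasicConstructibleSetData.toSet, Set.mem_sdiff,
      PrimeSpectrum.mem_zeroLocus, Set.singleton_subset_iff, SetLike.mem_coe]
    refine ⟨?_, hnot⟩
    rintro _ ⟨i, rfl⟩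
    rw [hg0 i]
    exact zero_mem _
  rw [hT] at this
  exact this hp


section univ

variable (σ : Type) [Fintype σ] [DecidableEq σ]

/-- exponent vectors bounded by `D` in each variable -/
noncomputable abbrev Nexp (D : ℕ) : Finset (σ →₀ ℕ) :=
  Finset.Icc 0 (Finsupp.equivFunOnFinite.symm (fun _ => D))

variable {σ}

theorem mem_Nexp_of_sum_le {D : ℕ} {ν : σ →₀ ℕ} (h : (ν.sum fun _ e => e) ≤ D) : ν ∈ Nexp σ D := by
  rw [Finset.mem_Icc]
  refine ⟨bot_le, fun s => ?_⟩
  show ν s ≤ D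
  refine le_trans ?_ h
  rw [Finsupp.sum_fintype _ _ (fun _ => rfl)]
  exact Finset.single_le_sum (f := fun i => ν i) (fun _ _ => Nat.zero_le _) (Finset.mem_univ s)

variable {J : Type} {U : Type*} [CommRing U]

/-- the generic monic polynomial of degree `e` with unknown coefficients indexed through `inj` -/
noncomputable def polyOf (D e : ℕ) (x : Fin e × ↥(Nexp σ D) → U) :
    Polynomial (MvPolynomial σ U) :=
  Polynomial.X ^ e + ∑ i : Fin e,
    Polynomial.C (∑ ν : ↥(Nexp σ D), MvPolynomial.monomial ν.1 (x (i, ν))) * Polynomial.X ^ (i : ℕ)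

theorem polyOf_map {V : Type*} [CommRing V] (D e : ℕ) (x : Fin e × ↥(Nexp σ D) → U) (χ : U →+* V) :
    (polyOf D e x).map (MvPolynomial.map χ) = polyOf D e (fun j => χ (x j)) := by
  simp only [polyOf, Polynomial.map_add, Polynomial.map_pow, Polynomial.map_X, Polynomial.map_sum,
    Polynomial.map_mul, Polynomial.map_C, map_sum, MvPolynomial.map_monomial]

theorem polyOf_monic [Nontrivial U] (D e : ℕ) (x : Fin e × ↥(Nexp σ D) → U) :
    (polyOf D e x).Monic ∧ (polyOf D e x).natDegree = e := by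
  have hdeg : (∑ i : Fin e,
      Polynomial.C (∑ ν : ↥(Nexp σ D), MvPolynomial.monomial ν.1 (x (i, ν))) *
        Polynomial.X ^ (i : ℕ) : Polynomial (MvPolynomial σ U)).degree < (e : WithBot ℕ) := by
    refine lt_of_le_of_lt (Polynomial.degree_sum_le _ _) ?_
    refine (Finset.sup_lt_iff (WithBot.bot_lt_coe e)).mpr ?_
    intro i _
    refine lt_of_le_of_lt (Polynomial.degree_C_mul_X_pow_le _ _) ?_
    exact WithBot.coe_lt_coe.mpr i.2
  have hm : (polyOf D e x).Monic := by
    unfold polyOf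
    exact Polynomial.monic_X_pow_add hdeg
  refine ⟨hm, ?_⟩
  unfold polyOf
  rw [Polynomial.natDegree_add_eq_left_of_degree_lt]
  · exact Polynomial.natDegree_X_pow e
  · rw [Polynomial.degree_X_pow]; exact hdeg

theorem polyOf_eq_of_coeff (D e : ℕ) (x : Fin e × ↥(Nexp σ D) → U)
    (G : Polynomial (MvPolynomial σ U)) (hG : G.Monic) (hdeg : G.natDegree = e)
    (hsupp : ∀ i, (G.coeff i).support ⊆ Nexp σ D)
    (hx : ∀ (i : Fin e) (ν : ↥(Nexp σ D)), x (i, ν) = (G.coeff i).coeff ν.1) :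
    polyOf D e x = G := by
  conv_rhs => rw [hG.as_sum]
  unfold polyOf
  rw [hdeg]
  congr 1
  rw [← Fin.sum_univ_eq_sum_range (fun i => Polynomial.C (G.coeff i) * Polynomial.X ^ i) e]
  refine Finset.sum_congr rfl fun i _ => ?_
  congr 2
  simp only [hx]
  rw [Finset.sum_coe_sort (Nexp σ D) (fun ν => MvPolynomial.monomial ν ((G.coeff i).coeff ν))]
  conv_rhs => rw [MvPolynomial.as_sum (G.coeff i)]
  symm
  refine Finset.sum_subset (hsupp i) fun ν _ hν => ?_
  rw [MvPolynomial.notMem_support_iff.mp hν, map_zero]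

end univ

section degbound

variable {σ : Type*} {Ω : Type*} [CommRing Ω]

theorem optionEquivLeft_symm_C (q : MvPolynomial σ Ω) :
    (MvPolynomial.optionEquivLeft Ω σ).symm (Polynomial.C q) = MvPolynomial.rename some q := by
  rw [AlgEquiv.symm_apply_eq]
  have : (Polynomial.CAlgHom (R := Ω) (A := MvPolynomial σ Ω)) =
      ((MvPolynomial.optionEquivLeft Ω σ).toAlgHom.comp (MvPolynomial.rename some)) := by
    apply MvPolynomial.algHom_ext
    intro i
    simp [MvPolynomial.optionEquivLeft_X_some]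
  exact congrArg (fun f => f q) this

theorem totalDegree_optionEquivLeft_symm_le (Pm : Polynomial (MvPolynomial σ Ω)) (d₀ : ℕ)
    (hd : ∀ i, (Pm.coeff i).totalDegree ≤ d₀) :
    ((MvPolynomial.optionEquivLeft Ω σ).symm Pm).totalDegree ≤ Pm.natDegree + d₀ := by
  conv_lhs => rw [Pm.as_sum_range_C_mul_X_pow]
  rw [map_sum]
  refine le_trans (MvPolynomial.totalDegree_finsetSum _ _) (Finset.sup_le fun i hi => ?_)
  rw [map_mul, map_pow, optionEquivLeft_symm_C, MvPolynomial.optionEquivLeft_symm_X]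
  refine le_trans (MvPolynomial.totalDegree_mul _ _) ?_
  have h1 := MvPolynomial.totalDegree_rename_le (some : σ → Option σ) (Pm.coeff i)
  have h2 : ((MvPolynomial.X none : MvPolynomial (Option σ) Ω) ^ i).totalDegree ≤ i := by
    rw [MvPolynomial.X_pow_eq_monomial]
    refine le_trans (MvPolynomial.totalDegree_monomial_le _ _) ?_
    rw [Finsupp.sum_single_index rfl]
    exact le_rfl
  have h3 : i ≤ Pm.natDegree := by
    have := Finset.mem_range.mp hi
    omega
  have := hd i
  omega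

theorem totalDegree_coeff_le_of_mul_eq [IsDomain Ω] (G H Pm : Polynomial (MvPolynomial σ Ω))
    (h : G * H = Pm) (h0 : Pm ≠ 0) (d₀ : ℕ) (hd : ∀ i, (Pm.coeff i).totalDegree ≤ d₀) (i : ℕ) :
    (G.coeff i).totalDegree ≤ Pm.natDegree + d₀ := by
  set e := (MvPolynomial.optionEquivLeft Ω σ).symm with he
  have hG0 : G ≠ 0 := by rintro rfl; exact h0 (by rw [← h, zero_mul])
  have hH0 : H ≠ 0 := by rintro rfl; exact h0 (by rw [← h, mul_zero])
  have h1 : e G * e H = e Pm := by rw [← map_mul, h]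
  have hG0' : e G ≠ 0 := (EmbeddingLike.map_ne_zero_iff (f := e)).mpr hG0
  have hH0' : e H ≠ 0 := (EmbeddingLike.map_ne_zero_iff (f := e)).mpr hH0
  have h2 : (e G).totalDegree ≤ (e Pm).totalDegree := by
    rw [← h1, MvPolynomial.totalDegree_mul_of_isDomain hG0' hH0']
    omega
  have h3 := MvPolynomial.totalDegree_coeff_optionEquivLeft_le (R := Ω) (S₁ := σ) (e G) i
  have h4 : MvPolynomial.optionEquivLeft Ω σ (e G) = G := by
    rw [he]; exact AlgEquiv.apply_symm_apply _ _
  rw [h4] at h3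
  exact le_trans h3 (le_trans h2 (totalDegree_optionEquivLeft_symm_le Pm d₀ hd))

end degbound

section universal

variable {σ : Type} [Fintype σ] [DecidableEq σ] {A : Type u} [CommRing A]
  (P : Polynomial (MvPolynomial σ A)) (D e₁ e₂ : ℕ)

/-- index type of the unknown coefficients -/
abbrev JJ (σ : Type) [Fintype σ] [DecidableEq σ] (D e₁ e₂ : ℕ) : Type :=
  (Fin e₁ × ↥(Nexp σ D)) ⊕ (Fin e₂ × ↥(Nexp σ D))

/-- the polynomial ring of unknown coefficients -/
abbrev UU (σ : Type) [Fintype σ] [DecidableEq σ] (A : Type u) [CommRing A] (D e₁ e₂ : ℕ) : Type u :=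
  MvPolynomial (JJ σ D e₁ e₂) A

/-- the relation polynomial `G * H - P` -/
noncomputable def Rel : Polynomial (MvPolynomial σ (UU σ A D e₁ e₂)) :=
  polyOf D e₁ (fun j => (MvPolynomial.X (Sum.inl j) : UU σ A D e₁ e₂)) *
    polyOf D e₂ (fun j => (MvPolynomial.X (Sum.inr j) : UU σ A D e₁ e₂)) -
    P.map (MvPolynomial.map (algebraMap A (UU σ A D e₁ e₂)))

open scoped Classical in
/-- the finite set of coefficients of the relation polynomial -/
noncomputable def relSet : Finset (UU σ A D e₁ e₂) :=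
  (Rel P D e₁ e₂).support.biUnion fun i =>
    ((Rel P D e₁ e₂).coeff i).support.image fun ν => ((Rel P D e₁ e₂).coeff i).coeff ν

theorem mvmap_comp {σ R S T : Type*} [CommSemiring R] [CommSemiring S] [CommSemiring T]
    (f : R →+* S) (g : S →+* T) :
    (MvPolynomial.map g).comp (MvPolynomial.map (σ := σ) f) = MvPolynomial.map (g.comp f) :=
  RingHom.ext fun p => MvPolynomial.map_map _ _ p

theorem map_Rel_eq_zero_iff {V : Type*} [CommRing V] (χ : UU σ A D e₁ e₂ →+* V) :
    (Rel P D e₁ e₂).map (MvPolynomial.map χ) = 0 ↔ ∀ r ∈ relSet P D e₁ e₂, χ r = 0 := by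
  constructor
  · intro h r hr
    simp only [relSet, Finset.mem_biUnion, Finset.mem_image] at hr
    obtain ⟨i, -, ν, -, rfl⟩ := hr
    have := congrArg (fun q => MvPolynomial.coeff ν (Polynomial.coeff q i)) h
    simpa [Polynomial.coeff_map, MvPolynomial.coeff_map] using this
  · intro h
    ext i ν
    rw [Polynomial.coeff_map, MvPolynomial.coeff_map, Polynomial.coeff_zero, MvPolynomial.coeff_zero]
    by_cases hi : i ∈ (Rel P D e₁ e₂).support
    · by_cases hν : ν ∈ ((Rel P D e₁ e₂).coeff i).support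
      · apply h
        simp only [relSet, Finset.mem_biUnion, Finset.mem_image]
        exact ⟨i, hi, ν, hν, rfl⟩
      · rw [MvPolynomial.notMem_support_iff.mp hν, map_zero]
    · rw [Polynomial.notMem_support_iff.mp hi, MvPolynomial.coeff_zero, map_zero]

/-- the universal ring of factorizations -/
abbrev QQ : Type u := UU σ A D e₁ e₂ ⧸ Ideal.span (relSet P D e₁ e₂ : Set (UU σ A D e₁ e₂))

instance : Algebra.FinitePresentation A (QQ P D e₁ e₂) :=
  Algebra.FinitePresentation.quotient ⟨relSet P D e₁ e₂, rfl⟩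

theorem nonempty_algHom_of_factorization {V : Type*} [CommRing V] [Algebra A V]
    (G H : Polynomial (MvPolynomial σ V)) (hG : G.Monic) (hH : H.Monic)
    (hdG : G.natDegree = e₁) (hdH : H.natDegree = e₂)
    (hsG : ∀ i, (G.coeff i).support ⊆ Nexp σ D) (hsH : ∀ i, (H.coeff i).support ⊆ Nexp σ D)
    (h : G * H = P.map (MvPolynomial.map (algebraMap A V))) :
    Nonempty (QQ P D e₁ e₂ →ₐ[A] V) := by
  let χ₀ : UU σ A D e₁ e₂ →ₐ[A] V := MvPolynomial.aeval
    (Sum.elim (fun j => (G.coeff j.1).coeff j.2.1) (fun j => (H.coeff j.1).coeff j.2.1))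
  have h1 : (Rel P D e₁ e₂).map (MvPolynomial.map (χ₀ : UU σ A D e₁ e₂ →+* V)) = 0 := by
    unfold Rel
    rw [Polynomial.map_sub, Polynomial.map_mul, polyOf_map, polyOf_map, Polynomial.map_map,
      mvmap_comp]
    rw [polyOf_eq_of_coeff D e₁ _ G hG hdG hsG (fun i ν => by simp [χ₀]),
      polyOf_eq_of_coeff D e₂ _ H hH hdH hsH (fun i ν => by simp [χ₀]), h]
    have : ((χ₀ : UU σ A D e₁ e₂ →+* V)).comp (algebraMap A (UU σ A D e₁ e₂)) = algebraMap A V :=
      χ₀.comp_algebraMap
    rw [this, sub_self]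
  have h2 := (map_Rel_eq_zero_iff P D e₁ e₂ (χ₀ : UU σ A D e₁ e₂ →+* V)).mp h1
  refine ⟨Ideal.Quotient.liftₐ _ χ₀ ?_⟩
  intro a ha
  have hle : Ideal.span (relSet P D e₁ e₂ : Set (UU σ A D e₁ e₂)) ≤ RingHom.ker (χ₀ : UU σ A D e₁ e₂ →+* V) := by
    rw [Ideal.span_le]
    intro r hr
    exact h2 r hr
  exact hle ha

theorem factorization_of_algHom {V : Type*} [CommRing V] [Nontrivial V] [Algebra A V]
    (χ : QQ P D e₁ e₂ →ₐ[A] V) :
    ∃ G H : Polynomial (MvPolynomial σ V), G.Monic ∧ H.Monic ∧ G.natDegree = e₁ ∧ H.natDegree = e₂ ∧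
      G * H = P.map (MvPolynomial.map (algebraMap A V)) := by
  let χ₀ : UU σ A D e₁ e₂ →ₐ[A] V := χ.comp (Ideal.Quotient.mkₐ A _)
  have h2 : ∀ r ∈ relSet P D e₁ e₂, (χ₀ : UU σ A D e₁ e₂ →+* V) r = 0 := by
    intro r hr
    show χ (Ideal.Quotient.mk _ r) = 0
    rw [Ideal.Quotient.eq_zero_iff_mem.mpr (Ideal.subset_span hr), map_zero]
  have h1 := (map_Rel_eq_zero_iff P D e₁ e₂ (χ₀ : UU σ A D e₁ e₂ →+* V)).mpr h2
  unfold Rel at h1
  rw [Polynomial.map_sub, Polynomial.map_mul, polyOf_map, polyOf_map, Polynomial.map_map,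
    mvmap_comp, sub_eq_zero] at h1
  have : ((χ₀ : UU σ A D e₁ e₂ →+* V)).comp (algebraMap A (UU σ A D e₁ e₂)) = algebraMap A V :=
    χ₀.comp_algebraMap
  rw [this] at h1
  exact ⟨_, _, (polyOf_monic D e₁ _).1, (polyOf_monic D e₂ _).1, (polyOf_monic D e₁ _).2,
    (polyOf_monic D e₂ _).2, h1⟩

end universal

section BN

variable {σ : Type} [Fintype σ] [DecidableEq σ] {A : Type u} [CommRing A]

/-- `P_Ω` has no nontrivial monic factorization -/
def NoFactor (P : Polynomial (MvPolynomial σ A)) (Ω : Type*) [CommRing Ω] [Algebra A Ω] : Prop :=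
  ∀ G H : Polynomial (MvPolynomial σ Ω), G.Monic → H.Monic →
    G * H = P.map (MvPolynomial.map (algebraMap A Ω)) → G.natDegree = 0 ∨ H.natDegree = 0

/-- the uniform degree bound -/
noncomputable def degBound (P : Polynomial (MvPolynomial σ A)) : ℕ :=
  P.natDegree + P.support.sup (fun i => (P.coeff i).totalDegree)

theorem support_subset_of_factor (P : Polynomial (MvPolynomial σ A)) (hP : P.Monic)
    {Ω : Type*} [CommRing Ω] [IsDomain Ω] [Algebra A Ω]
    (G H : Polynomial (MvPolynomial σ Ω))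
    (h : G * H = P.map (MvPolynomial.map (algebraMap A Ω))) (i : ℕ) :
    (G.coeff i).support ⊆ Nexp σ (degBound P) := by
  intro ν hν
  apply mem_Nexp_of_sum_le
  refine le_trans (MvPolynomial.le_totalDegree hν) ?_
  have hmon : (P.map (MvPolynomial.map (algebraMap A Ω))).Monic := hP.map _
  have hnd : (P.map (MvPolynomial.map (algebraMap A Ω))).natDegree = P.natDegree :=
    hP.natDegree_map _
  have := totalDegree_coeff_le_of_mul_eq G H _ h hmon.ne_zero
    (P.support.sup (fun i => (P.coeff i).totalDegree)) (fun j => ?_) i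
  · rw [hnd] at this
    exact this
  · rw [Polynomial.coeff_map]
    refine le_trans (Finset.sup_mono (MvPolynomial.support_map_subset _ _)) ?_
    show (P.coeff j).totalDegree ≤ _
    by_cases hj : j ∈ P.support
    · exact Finset.le_sup (f := fun i => (P.coeff i).totalDegree) hj
    · rw [Polynomial.notMem_support_iff.mp hj]
      simp

theorem exists_field_of_prime {A Q : Type u} [CommRing A] [CommRing Q] [Algebra A Q]
    (𝔓 : PrimeSpectrum Q) :
    ∃ (Ω : Type u) (_ : Field Ω) (_ : Algebra A Ω),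
      RingHom.ker (algebraMap A Ω) = (PrimeSpectrum.comap (algebraMap A Q) 𝔓).asIdeal ∧
        Nonempty (Q →ₐ[A] Ω) := by
  let F := FractionRing (Q ⧸ 𝔓.asIdeal)
  let φ : Q →+* F := (algebraMap (Q ⧸ 𝔓.asIdeal) F).comp (Ideal.Quotient.mk 𝔓.asIdeal)
  letI : Algebra A F := (φ.comp (algebraMap A Q)).toAlgebra
  let χ : Q →ₐ[A] F := { φ with commutes' := fun r => rfl }
  refine ⟨F, inferInstance, inferInstance, ?_, ⟨χ⟩⟩
  ext x
  simp only [PrimeSpectrum.comap_asIdeal, Ideal.mem_comap, RingHom.mem_ker]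
  show algebraMap (Q ⧸ 𝔓.asIdeal) F (Ideal.Quotient.mk 𝔓.asIdeal (algebraMap A _ x)) = 0 ↔ _
  rw [map_eq_zero_iff _ (IsFractionRing.injective _ F), Ideal.Quotient.eq_zero_iff_mem]

theorem exists_bad_set [IsDomain A] (P : Polynomial (MvPolynomial σ A)) (hP : P.Monic)
    (e₁ e₂ : ℕ) :
    ∃ S : Set (PrimeSpectrum A), Topology.IsConstructible S ∧
      (∀ (Ω : Type u) [Field Ω] [Algebra A Ω] (G H : Polynomial (MvPolynomial σ Ω)),
        G.Monic → H.Monic → G.natDegree = e₁ → H.natDegree = e₂ →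
        G * H = P.map (MvPolynomial.map (algebraMap A Ω)) →
        ∃ p ∈ S, p.asIdeal = RingHom.ker (algebraMap A Ω)) ∧
      (∀ p ∈ S, ∃ (Ω : Type u) (_ : Field Ω) (_ : Algebra A Ω),
        RingHom.ker (algebraMap A Ω) = p.asIdeal ∧
        ∃ G H : Polynomial (MvPolynomial σ Ω), G.Monic ∧ H.Monic ∧ G.natDegree = e₁ ∧
          H.natDegree = e₂ ∧ G * H = P.map (MvPolynomial.map (algebraMap A Ω))) := by
  refine ⟨Set.range (PrimeSpectrum.comap (algebraMap A (QQ P (degBound P) e₁ e₂))),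
    PrimeSpectrum.isConstructible_range_comap
      (RingHom.finitePresentation_algebraMap.mpr inferInstance), ?_, ?_⟩
  · intro Ω _ _ G H hG hH hdG hdH h
    obtain ⟨χ⟩ := nonempty_algHom_of_factorization P (degBound P) e₁ e₂ G H hG hH hdG hdH
      (support_subset_of_factor P hP G H h)
      (support_subset_of_factor P hP H G (by rw [mul_comm]; exact h)) h
    refine ⟨PrimeSpectrum.comap (algebraMap A (QQ P (degBound P) e₁ e₂))
      ⟨RingHom.ker (χ : QQ P (degBound P) e₁ e₂ →+* Ω), RingHom.ker_isPrime _⟩, ⟨_, rfl⟩, ?_⟩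
    ext x
    simp only [PrimeSpectrum.comap_asIdeal, Ideal.mem_comap, RingHom.mem_ker]
    show χ (algebraMap A _ x) = 0 ↔ _
    rw [χ.commutes]
  · rintro _ ⟨𝔓, rfl⟩
    obtain ⟨Ω, hF, hAlg, hker, ⟨χ⟩⟩ := exists_field_of_prime (A := A) 𝔓
    exact ⟨Ω, hF, hAlg, hker, factorization_of_algHom P (degBound P) e₁ e₂ χ⟩

/-- **Bertini–Noether via Chevalley**: absence of nontrivial monic factorizations over all fields
above the generic point spreads to a nonempty open. -/
theorem bertini_noether [IsDomain A] (P : Polynomial (MvPolynomial σ A)) (hP : P.Monic)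
    (hgen : ∀ (Ω : Type u) [Field Ω] [Algebra A Ω], Function.Injective (algebraMap A Ω) →
      NoFactor P Ω) :
    ∃ a : A, a ≠ 0 ∧ ∀ (Ω : Type u) [Field Ω] [Algebra A Ω], algebraMap A Ω a ≠ 0 →
      NoFactor P Ω := by
  classical
  have key : ∀ e₁ e₂ : ℕ, 0 < e₁ → 0 < e₂ → ∃ a : A, a ≠ 0 ∧
      ∀ (Ω : Type u) [Field Ω] [Algebra A Ω], algebraMap A Ω a ≠ 0 →
        ∀ G H : Polynomial (MvPolynomial σ Ω), G.Monic → H.Monic → G.natDegree = e₁ →
          H.natDegree = e₂ → G * H ≠ P.map (MvPolynomial.map (algebraMap A Ω)) := by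
    intro e₁ e₂ h1 h2
    obtain ⟨S, hS, hS1, hS2⟩ := exists_bad_set P hP e₁ e₂
    have h0 : (⟨⊥, Ideal.isPrime_bot⟩ : PrimeSpectrum A) ∉ S := by
      intro hmem
      obtain ⟨Ω, _, _, hker, G, H, hG, hH, hdG, hdH, h⟩ := hS2 _ hmem
      have hinj : Function.Injective (algebraMap A Ω) := by
        rw [RingHom.injective_iff_ker_eq_bot, hker]
      rcases hgen Ω hinj G H hG hH h with h' | h' <;> omega
    obtain ⟨a, ha, hmem⟩ := exists_ne_zero_forall_mem_of_isConstructible hS h0
    refine ⟨a, ha, fun Ω _ _ haΩ G H hG hH hdG hdH h => ?_⟩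
    obtain ⟨p, hp, hpk⟩ := hS1 Ω G H hG hH hdG hdH h
    have := hmem p hp
    rw [hpk, RingHom.mem_ker] at this
    exact haΩ this
  choose! a ha0 ha using key
  refine ⟨∏ e ∈ Finset.range (P.natDegree + 1), (if 0 < e ∧ 0 < P.natDegree - e then a e (P.natDegree - e) else 1),
    ?_, ?_⟩
  · rw [Finset.prod_ne_zero_iff]
    intro e _
    split_ifs with h
    · exact ha0 _ _ h.1 h.2
    · exact one_ne_zero
  · intro Ω _ _ haΩ G H hG hH h
    by_contra hcon
    push Not at hcon
    have hdeg : G.natDegree + H.natDegree = P.natDegree := by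
      rw [← hG.natDegree_mul hH, h, hP.natDegree_map]
    have hmem : G.natDegree ∈ Finset.range (P.natDegree + 1) := by
      rw [Finset.mem_range]; omega
    have hcond : 0 < G.natDegree ∧ 0 < P.natDegree - G.natDegree := by
      constructor <;> omega
    have hne : algebraMap A Ω (a G.natDegree (P.natDegree - G.natDegree)) ≠ 0 := by
      intro h0
      apply haΩ
      rw [map_prod]
      apply Finset.prod_eq_zero hmem
      rw [if_pos hcond, h0]
    exact ha _ _ hcond.1 hcond.2 Ω hne G H hG hH rfl (by omega) h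

end BN

end Groth.Agent.Lib.Helper22.GI
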