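import Mathlib
import Groth.Agent.Lib.Helper22GI1
import Groth.Agent.Lib.Helper14GeomIrrB

/-! Helper22 GI2: ring-level transfer lemmas for "prime nilradical of geometric fibres"
(localization, nil surjections, purely inseparable retractions, generic embeddings into a
field in which `Frac A` is separably closed) and the hypersurface theorem
(Bertini–Noether ⇒ `Ω ⊗[A] A[t][X]/(P)` is a domain over a nonempty open). -/

set_option autoImplicit false
set_option linter.style.haveILetI false
universe u

open Polynomial TensorProduct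

namespace Groth.Agent.Lib.Helper22.GI

open Groth.Agent.Lib.Helper14.GeomIrr

section transfer

/-- prime nilradical passes to nontrivial localizations -/
theorem isPrime_nilradical_of_isLocalization {T T' : Type*} [CommRing T] [CommRing T']
    [Algebra T T'] (M : Submonoid T) [IsLocalization M T'] [Nontrivial T']
    (h : (nilradical T).IsPrime) : (nilradical T').IsPrime := by
  rw [isPrime_nilradical_iff] at h ⊢
  refine ⟨inferInstance, fun a b hab => ?_⟩
  obtain ⟨⟨a₀, s⟩, rfl⟩ := IsLocalization.mk'_surjective M a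
  obtain ⟨⟨b₀, s'⟩, rfl⟩ := IsLocalization.mk'_surjective M b
  dsimp only at hab ⊢
  have hnil : ∀ (x : T) (m : M), IsNilpotent (IsLocalization.mk' T' x m) ↔
      ∃ m' : M, IsNilpotent ((m' : T) * x) := by
    intro x m
    constructor
    · rintro ⟨N, hN⟩
      rw [← IsLocalization.mk'_pow, IsLocalization.mk'_eq_zero_iff] at hN
      obtain ⟨m', hm'⟩ := hN
      refine ⟨m', N + 1, ?_⟩
      rw [mul_pow, pow_succ (m' : T), pow_succ x]
      calc (m' : T) ^ N * m' * (x ^ N * x) = (m' : T) ^ N * x * ((m' : T) * x ^ N) := by ring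
        _ = 0 := by rw [hm', mul_zero]
    · rintro ⟨m', N, hN⟩
      refine ⟨N, ?_⟩
      rw [← IsLocalization.mk'_pow, IsLocalization.mk'_eq_zero_iff]
      refine ⟨m' ^ N, ?_⟩
      rw [SubmonoidClass.coe_pow, ← mul_pow, hN]
  have hM : ∀ m : M, ¬ IsNilpotent (m : T) := by
    rintro m ⟨N, hN⟩
    have h0 : (0 : T) ∈ M := by rw [← hN]; exact pow_mem m.2 N
    have : (1 : T') = 0 := by
      have hu := IsLocalization.map_units T' (⟨0, h0⟩ : M)
      rw [map_zero] at hu
      exact (isUnit_zero_iff.mp hu).symm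
    exact one_ne_zero this
  rw [← IsLocalization.mk'_mul, hnil] at hab
  obtain ⟨m', hm'⟩ := hab
  rw [hnil, hnil]
  rcases h.2 _ _ hm' with h1 | h1
  · exact absurd h1 (hM m')
  · rcases h.2 _ _ h1 with h2 | h2
    · exact Or.inl ⟨1, by simpa using h2⟩
    · exact Or.inr ⟨1, by simpa using h2⟩

/-- prime nilradical passes along a surjection with nil kernel, in both directions -/
theorem isPrime_nilradical_iff_of_surjective {T T' : Type*} [CommRing T] [CommRing T']
    (φ : T →+* T') (hφ : Function.Surjective φ) (hker : ∀ x, φ x = 0 → IsNilpotent x) :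
    (nilradical T').IsPrime ↔ (nilradical T).IsPrime := by
  have hnil : ∀ x, IsNilpotent (φ x) ↔ IsNilpotent x := by
    intro x
    constructor
    · rintro ⟨N, hN⟩
      rw [← map_pow] at hN
      obtain ⟨M, hM⟩ := hker _ hN
      exact ⟨N * M, by rw [pow_mul, hM]⟩
    · exact fun h => h.map φ
  rw [isPrime_nilradical_iff, isPrime_nilradical_iff]
  constructor
  · rintro ⟨hnt, h⟩
    refine ⟨?_, fun a b hab => ?_⟩
    · exact φ.domain_nontrivial
    · have := h (φ a) (φ b) (by rw [← map_mul]; exact hab.map φ)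
      rwa [hnil, hnil] at this
  · rintro ⟨hnt, h⟩
    refine ⟨?_, fun a b hab => ?_⟩
    · by_contra hn
      rw [not_nontrivial_iff_subsingleton] at hn
      have : IsNilpotent (1 : T) := hker 1 (Subsingleton.elim _ _)
      exact not_isNilpotent_one this
    · obtain ⟨a, rfl⟩ := hφ a
      obtain ⟨b, rfl⟩ := hφ b
      rw [← map_mul, hnil] at hab
      rw [hnil, hnil]
      exact h a b hab

/-- Frobenius-type transfer: if `ψ ∘ φ` and `φ ∘ ψ` are `q`-th power maps, prime nilradical
passes from the source of `φ` to its target -/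
theorem isPrime_nilradical_of_pow_retraction {T T' : Type*} [CommRing T] [CommRing T']
    (φ : T →+* T') (ψ : T' →+* T) (q : ℕ) (hφψ : ∀ x, φ (ψ x) = x ^ q)
    (h : (nilradical T).IsPrime) : (nilradical T').IsPrime := by
  rw [isPrime_nilradical_iff] at h ⊢
  obtain ⟨hnt, h⟩ := h
  refine ⟨?_, fun a b hab => ?_⟩
  · exact ψ.domain_nontrivial
  · have h1 := h (ψ a) (ψ b) (by rw [← map_mul]; exact hab.map ψ)
    have key : ∀ x : T', IsNilpotent (ψ x) → IsNilpotent x := by
      rintro x ⟨N, hN⟩
      refine ⟨q * N, ?_⟩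
      rw [pow_mul, ← hφψ, ← map_pow, hN, map_zero]
    exact h1.imp (key a) (key b)

end transfer

section tensorAdjoin

variable {A : Type u} [CommRing A] {σ : Type} (Ω : Type u) [CommRing Ω] [Algebra A Ω]

/-- base change of a hypersurface algebra over a polynomial ring -/
noncomputable def adjoinRootTensorEquiv (P : Polynomial (MvPolynomial σ A)) :
    Ω ⊗[A] AdjoinRoot P ≃ₐ[Ω] AdjoinRoot (P.map (MvPolynomial.map (σ := σ) (algebraMap A Ω))) :=
  (AdjoinRoot.tensorAlgEquiv (R := A) (S := MvPolynomial σ A) (T := Ω) P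
    (P.map (Algebra.TensorProduct.includeRight :
      MvPolynomial σ A →ₐ[A] Ω ⊗[A] MvPolynomial σ A).toRingHom) rfl).trans
  (AdjoinRoot.mapAlgEquiv (MvPolynomial.algebraTensorAlgEquiv (σ := σ) A Ω)
    (P.map (Algebra.TensorProduct.includeRight :
      MvPolynomial σ A →ₐ[A] Ω ⊗[A] MvPolynomial σ A).toRingHom)
    (P.map (MvPolynomial.map (σ := σ) (algebraMap A Ω))) (by
      rw [Polynomial.map_map]
      have : ((MvPolynomial.algebraTensorAlgEquiv (σ := σ) A Ω :
            Ω ⊗[A] MvPolynomial σ A →+* MvPolynomial σ Ω)).comp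
          (Algebra.TensorProduct.includeRight :
            MvPolynomial σ A →ₐ[A] Ω ⊗[A] MvPolynomial σ A).toRingHom =
          MvPolynomial.map (σ := σ) (algebraMap A Ω) := by
        ext x
        · simp
        · simp
      rw [this]))

end tensorAdjoin

section hypersurface

variable {A : Type u} [CommRing A] [IsDomain A] {σ : Type} [Fintype σ] [DecidableEq σ]

theorem isDomain_tensor_adjoinRoot_of_noFactor (P : Polynomial (MvPolynomial σ A)) (hP : P.Monic)
    (hP1 : P.natDegree ≠ 0) (Ω : Type u) [Field Ω] [Algebra A Ω] (h : NoFactor P Ω) :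
    IsDomain (Ω ⊗[A] AdjoinRoot P) := by
  have hmon : (P.map (MvPolynomial.map (σ := σ) (algebraMap A Ω))).Monic := hP.map _
  have hne1 : P.map (MvPolynomial.map (σ := σ) (algebraMap A Ω)) ≠ 1 := by
    intro h1
    have := hP.natDegree_map (MvPolynomial.map (σ := σ) (algebraMap A Ω))
    rw [h1, natDegree_one] at this
    exact hP1 this.symm
  have hirr : Irreducible (P.map (MvPolynomial.map (σ := σ) (algebraMap A Ω))) :=
    hmon.irreducible_iff_natDegree.mpr ⟨hne1, fun G H hG hH hGH => h G H hG hH hGH⟩
  haveI : IsDomain (AdjoinRoot (P.map (MvPolynomial.map (σ := σ) (algebraMap A Ω)))) :=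
    AdjoinRoot.isDomain_of_prime hirr.prime
  exact (adjoinRootTensorEquiv Ω P).toMulEquiv.isDomain _

/-- **hypersurface theorem** -/
theorem hypersurface (P : Polynomial (MvPolynomial σ A)) (hP : P.Monic) (hP1 : P.natDegree ≠ 0)
    (hgen : ∀ (Ω : Type u) [Field Ω] [Algebra A Ω], Function.Injective (algebraMap A Ω) →
      NoFactor P Ω) :
    ∃ a : A, a ≠ 0 ∧ ∀ (Ω : Type u) [Field Ω] [Algebra A Ω], algebraMap A Ω a ≠ 0 →
      IsDomain (Ω ⊗[A] AdjoinRoot P) := by
  obtain ⟨a, ha, h⟩ := bertini_noether P hP hgen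
  exact ⟨a, ha, fun Ω _ _ haΩ => isDomain_tensor_adjoinRoot_of_noFactor P hP hP1 Ω (h Ω haΩ)⟩

/-- separability of `P` over the fraction field of `A[t]` passes to `Ω(t)` -/
theorem separable_bc (P : Polynomial (MvPolynomial σ A))
    (hsep : (P.map (algebraMap (MvPolynomial σ A) (FractionRing (MvPolynomial σ A)))).Separable)
    (Ω : Type u) [Field Ω] [Algebra A Ω] (hinj : Function.Injective (algebraMap A Ω)) :
    ((P.map (MvPolynomial.map (σ := σ) (algebraMap A Ω))).map
      (algebraMap (MvPolynomial σ Ω) (FractionRing (MvPolynomial σ Ω)))).Separable := by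
  let j : MvPolynomial σ A →+* FractionRing (MvPolynomial σ Ω) :=
    (algebraMap (MvPolynomial σ Ω) (FractionRing (MvPolynomial σ Ω))).comp
      (MvPolynomial.map (σ := σ) (algebraMap A Ω))
  have hj : Function.Injective j :=
    (IsFractionRing.injective _ _).comp (MvPolynomial.map_injective _ hinj)
  let l : FractionRing (MvPolynomial σ A) →+* FractionRing (MvPolynomial σ Ω) :=
    IsFractionRing.lift hj
  have hl : l.comp (algebraMap (MvPolynomial σ A) (FractionRing (MvPolynomial σ A))) = j := by
    ext x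
    · simp [l, IsFractionRing.lift_algebraMap]
    · simp [l, IsFractionRing.lift_algebraMap]
  rw [Polynomial.map_map]
  show (P.map j).Separable
  rw [← hl, ← Polynomial.map_map]
  exact hsep.map

theorem noFactor_of_isPrime_nilradical (P : Polynomial (MvPolynomial σ A)) (hP : P.Monic)
    (Ω : Type u) [Field Ω] [Algebra A Ω]
    (hsep : ((P.map (MvPolynomial.map (σ := σ) (algebraMap A Ω))).map
      (algebraMap (MvPolynomial σ Ω) (FractionRing (MvPolynomial σ Ω)))).Separable)
    (h : (nilradical (Ω ⊗[A] AdjoinRoot P)).IsPrime) : NoFactor P Ω := by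
  intro G H hG hH hGH
  by_contra hcon
  push Not at hcon
  set PΩ := P.map (MvPolynomial.map (σ := σ) (algebraMap A Ω)) with hPΩ
  have hmon : PΩ.Monic := hP.map _
  have h' : (nilradical (AdjoinRoot PΩ)).IsPrime :=
    isPrime_nilradical_of_ringEquiv (adjoinRootTensorEquiv Ω P).symm.toRingEquiv h
  have hdeg : G.natDegree + H.natDegree = PΩ.natDegree := by
    rw [← hG.natDegree_mul hH, hGH]
  have h0 : AdjoinRoot.mk PΩ G * AdjoinRoot.mk PΩ H ∈ nilradical (AdjoinRoot PΩ) := by
    rw [← map_mul, hGH, AdjoinRoot.mk_self]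
    exact zero_mem _
  -- a monic proper factor cannot be nilpotent modulo `PΩ`
  have key : ∀ G' : Polynomial (MvPolynomial σ Ω), G'.Monic → G'.natDegree < PΩ.natDegree →
      AdjoinRoot.mk PΩ G' ∉ nilradical (AdjoinRoot PΩ) := by
    intro G' hG' hlt hmem
    rw [mem_nilradical] at hmem
    obtain ⟨N, hN⟩ := hmem
    rw [← map_pow, AdjoinRoot.mk_eq_zero] at hN
    let F := FractionRing (MvPolynomial σ Ω)
    have hdvd : PΩ.map (algebraMap _ F) ∣ (G'.map (algebraMap _ F)) ^ N := by
      rw [← Polynomial.map_pow]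
      exact Polynomial.map_dvd _ hN
    have hdvd' : PΩ.map (algebraMap _ F) ∣ G'.map (algebraMap _ F) :=
      hsep.squarefree.isRadical _ _ hdvd
    have hG'0 : G'.map (algebraMap _ F) ≠ 0 := (hG'.map _).ne_zero
    have := Polynomial.natDegree_le_of_dvd hdvd' hG'0
    rw [hmon.natDegree_map, hG'.natDegree_map] at this
    omega
  rcases h'.mem_or_mem h0 with h1 | h1
  · exact key G hG (by omega) h1
  · exact key H hH (by omega) h1

end hypersurface

section frob

variable (A : Type*) [CommRing A] (p : ℕ) [ExpChar A p] (k : ℕ)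

/-- additivity of `p^k`-th powers in any algebra over a ring of exponential characteristic `p` -/
theorem add_pow_of_algebra {T : Type*} [CommRing T] [Algebra A T] (x y : T) :
    (x + y) ^ (p ^ k) = x ^ (p ^ k) + y ^ (p ^ k) := by
  rcases ‹ExpChar A p› with _ | ⟨hprime⟩
  · simp
  · rename_i hchar
    by_cases hT : Nontrivial T
    · have hp0 : (p : T) = 0 := by
        rw [← map_natCast (algebraMap A T), CharP.cast_eq_zero, map_zero]
      haveI : CharP T p := (CharP.charP_iff_prime_eq_zero hprime).mpr hp0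
      haveI : Fact p.Prime := ⟨hprime⟩
      exact add_pow_char_pow x y p k
    · rw [not_nontrivial_iff_subsingleton] at hT
      exact Subsingleton.elim _ _

/-- the `p^k`-th power map as a ring hom -/
noncomputable def powHom (T : Type*) [CommRing T] [Algebra A T] : T →+* T where
  toFun x := x ^ (p ^ k)
  map_one' := one_pow _
  map_mul' x y := mul_pow x y _
  map_zero' := zero_pow (pow_ne_zero _ (expChar_pos A p).ne')
  map_add' x y := add_pow_of_algebra A p k x y

@[simp] theorem powHom_apply (T : Type*) [CommRing T] [Algebra A T] (x : T) :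
    powHom A p k T x = x ^ (p ^ k) := rfl

theorem powHom_algebraMap (T : Type*) [CommRing T] [Algebra A T] (a : A) :
    powHom A p k T (algebraMap A T a) = algebraMap A T (a ^ (p ^ k)) := by
  simp

variable {C₂ B₁ : Type*} [CommRing C₂] [CommRing B₁] [Algebra A C₂] [Algebra A B₁]

/-- the twisted retraction `B₁ → C₂`, `b ↦ j⁻¹ (b ^ q)` -/
noncomputable def retr (j : C₂ →ₐ[A] B₁) (hj : Function.Injective j)
    (hpow : ∀ b : B₁, b ^ (p ^ k) ∈ Set.range j) : B₁ →+* C₂ where
  toFun b := (hpow b).choose
  map_one' := hj (by rw [(hpow 1).choose_spec, one_pow, map_one])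
  map_mul' x y := hj (by
    rw [(hpow (x * y)).choose_spec, map_mul, (hpow x).choose_spec, (hpow y).choose_spec, mul_pow])
  map_zero' := hj (by
    rw [(hpow 0).choose_spec, map_zero, zero_pow (pow_ne_zero _ (expChar_pos A p).ne')])
  map_add' x y := hj (by
    rw [(hpow (x + y)).choose_spec, map_add, (hpow x).choose_spec, (hpow y).choose_spec,
      add_pow_of_algebra A p k])

theorem j_retr (j : C₂ →ₐ[A] B₁) (hj : Function.Injective j)
    (hpow : ∀ b : B₁, b ^ (p ^ k) ∈ Set.range j) (b : B₁) :
    j (retr A p k j hj hpow b) = b ^ (p ^ k) := (hpow b).choose_spec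

theorem retr_algebraMap (j : C₂ →ₐ[A] B₁) (hj : Function.Injective j)
    (hpow : ∀ b : B₁, b ^ (p ^ k) ∈ Set.range j) (a : A) :
    retr A p k j hj hpow (algebraMap A B₁ a) = algebraMap A C₂ (a ^ (p ^ k)) := by
  apply hj
  rw [j_retr, j.commutes, map_pow]

variable (Ω : Type*) [CommRing Ω] [Algebra A Ω]

/-- the Frobenius-semilinear map `Ω ⊗ B₁ → Ω ⊗ C₂` as an additive map -/
noncomputable def tensorRetrAdd (j : C₂ →ₐ[A] B₁) (hj : Function.Injective j)
    (hpow : ∀ b : B₁, b ^ (p ^ k) ∈ Set.range j) : Ω ⊗[A] B₁ →+ Ω ⊗[A] C₂ :=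
  TensorProduct.liftAddHom
    (AddMonoidHom.mk' (fun ω : Ω =>
      ((TensorProduct.mk A Ω C₂ (powHom A p k Ω ω)).toAddMonoidHom).comp
        (retr A p k j hj hpow).toAddMonoidHom)
      (by
        intro ω ω'
        ext b
        simp only [AddMonoidHom.coe_comp, Function.comp_apply, AddMonoidHom.add_apply,
          LinearMap.toAddMonoidHom_coe, TensorProduct.mk_apply, map_add, LinearMap.add_apply]))
    (by
      intro a ω b
      simp only [AddMonoidHom.mk'_apply, AddMonoidHom.coe_comp, Function.comp_apply,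
        LinearMap.toAddMonoidHom_coe, TensorProduct.mk_apply]
      show (powHom A p k Ω (a • ω)) ⊗ₜ[A] (retr A p k j hj hpow b) =
        (powHom A p k Ω ω) ⊗ₜ[A] (retr A p k j hj hpow (a • b))
      rw [Algebra.smul_def, Algebra.smul_def, map_mul, map_mul, powHom_algebraMap,
        retr_algebraMap, ← Algebra.smul_def, ← Algebra.smul_def, TensorProduct.smul_tmul])

theorem tensorRetrAdd_tmul (j : C₂ →ₐ[A] B₁) (hj : Function.Injective j)
    (hpow : ∀ b : B₁, b ^ (p ^ k) ∈ Set.range j) (ω : Ω) (b : B₁) :
    tensorRetrAdd A p k Ω j hj hpow (ω ⊗ₜ b) = (ω ^ (p ^ k)) ⊗ₜ (retr A p k j hj hpow b) := rfl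

/-- the Frobenius-semilinear map `Ω ⊗ B₁ → Ω ⊗ C₂` as a ring hom -/
noncomputable def tensorRetr (j : C₂ →ₐ[A] B₁) (hj : Function.Injective j)
    (hpow : ∀ b : B₁, b ^ (p ^ k) ∈ Set.range j) : Ω ⊗[A] B₁ →+* Ω ⊗[A] C₂ where
  toFun := tensorRetrAdd A p k Ω j hj hpow
  map_zero' := map_zero _
  map_add' := map_add _
  map_one' := by
    rw [Algebra.TensorProduct.one_def, tensorRetrAdd_tmul, one_pow, map_one,
      Algebra.TensorProduct.one_def]
  map_mul' x y := by
    induction x using TensorProduct.induction_on with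
    | zero => simp
    | add x₁ x₂ h₁ h₂ => rw [add_mul, map_add, map_add, h₁, h₂, add_mul]
    | tmul ω b =>
      induction y using TensorProduct.induction_on with
      | zero => simp
      | add y₁ y₂ h₁ h₂ => rw [mul_add, map_add, map_add, h₁, h₂, mul_add]
      | tmul ω' b' =>
        rw [Algebra.TensorProduct.tmul_mul_tmul, tensorRetrAdd_tmul, tensorRetrAdd_tmul,
          tensorRetrAdd_tmul, Algebra.TensorProduct.tmul_mul_tmul, mul_pow, map_mul]

theorem map_tensorRetr (j : C₂ →ₐ[A] B₁) (hj : Function.Injective j)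
    (hpow : ∀ b : B₁, b ^ (p ^ k) ∈ Set.range j) (x : Ω ⊗[A] B₁) :
    Algebra.TensorProduct.map (AlgHom.id A Ω) j (tensorRetr A p k Ω j hj hpow x) = x ^ (p ^ k) := by
  induction x using TensorProduct.induction_on with
  | zero => simp [zero_pow (pow_ne_zero _ (expChar_pos A p).ne')]
  | add x₁ x₂ h₁ h₂ => rw [map_add, map_add, h₁, h₂, add_pow_of_algebra A p k]
  | tmul ω b =>
    show Algebra.TensorProduct.map (AlgHom.id A Ω) j (tensorRetrAdd A p k Ω j hj hpow (ω ⊗ₜ b)) = _
    rw [tensorRetrAdd_tmul, Algebra.TensorProduct.map_tmul, j_retr, AlgHom.id_apply,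
      Algebra.TensorProduct.tmul_pow]

/-- **purely inseparable transfer** -/
theorem isPrime_nilradical_tensor_of_pow_mem (j : C₂ →ₐ[A] B₁) (hj : Function.Injective j)
    (hpow : ∀ b : B₁, b ^ (p ^ k) ∈ Set.range j)
    (h : (nilradical (Ω ⊗[A] C₂)).IsPrime) : (nilradical (Ω ⊗[A] B₁)).IsPrime :=
  isPrime_nilradical_of_pow_retraction (Algebra.TensorProduct.map (AlgHom.id A Ω) j).toRingHom
    (tensorRetr A p k Ω j hj hpow) (p ^ k) (map_tensorRetr A p k Ω j hj hpow) h

end frob

section tensorLoc

variable {A : Type*} [CommRing A] {B B' : Type*} [CommRing B] [CommRing B'] [Algebra A B]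
  [Algebra A B'] [Algebra B B'] [IsScalarTower A B B']

/-- prime nilradical of a geometric fibre passes to nontrivial localizations -/
theorem isPrime_nilradical_tensor_of_isLocalization (M : Submonoid B) [IsLocalization M B']
    (Ω : Type*) [CommRing Ω] [Algebra A Ω] [Nontrivial (Ω ⊗[A] B')]
    (h : (nilradical (Ω ⊗[A] B)).IsPrime) : (nilradical (Ω ⊗[A] B')).IsPrime := by
  letI : Algebra (Ω ⊗[A] B) (Ω ⊗[A] B') :=
    (Algebra.TensorProduct.map (AlgHom.id A Ω) (IsScalarTower.toAlgHom A B B')).toRingHom.toAlgebra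
  haveI : IsScalarTower Ω (Ω ⊗[A] B) (Ω ⊗[A] B') := by
    refine IsScalarTower.of_algebraMap_eq' ?_
    ext x
    simp [RingHom.algebraMap_toAlgebra]
  haveI := IsLocalization.tensorProduct_tensorProduct_right A Ω M B' (by
    ext x
    simp [RingHom.algebraMap_toAlgebra])
  exact isPrime_nilradical_of_isLocalization
    (M.map (Algebra.TensorProduct.includeRight (R := A) (A := Ω))) h

end tensorLoc

section generic

variable {A : Type u} [CommRing A] [IsDomain A]

/-- a field `Ω` over the domain `A` with injective structure map is flat over `A` -/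
theorem flat_of_injective (Ω : Type u) [Field Ω] [Algebra A Ω]
    (hinj : Function.Injective (algebraMap A Ω)) : Module.Flat A Ω := by
  haveI : FaithfulSMul A Ω := (faithfulSMul_iff_algebraMap_injective A Ω).mpr hinj
  letI := FractionRing.liftAlgebra A Ω
  haveI := FractionRing.isScalarTower_liftAlgebra A Ω
  exact Module.Flat.trans A (FractionRing A) Ω

/-- if `K = Frac A` is separably closed in the field `L`, every `A`-algebra embedding into `L`
has geometrically irreducible generic fibre -/
theorem isPrime_nilradical_tensor_of_injective_field {L : Type u} [Field L] [Algebra A L]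
    [Algebra (FractionRing A) L] [IsScalarTower A (FractionRing A) L]
    (hK : ∀ α : L, IsSeparable (FractionRing A) α →
      α ∈ Set.range (algebraMap (FractionRing A) L))
    {C : Type u} [CommRing C] [Algebra A C] (ρ : C →ₐ[A] L) (hρ : Function.Injective ρ)
    (Ω : Type u) [Field Ω] [Algebra A Ω] (hinj : Function.Injective (algebraMap A Ω)) :
    (nilradical (Ω ⊗[A] C)).IsPrime := by
  haveI : FaithfulSMul A Ω := (faithfulSMul_iff_algebraMap_injective A Ω).mpr hinj
  letI := FractionRing.liftAlgebra A Ω
  haveI := FractionRing.isScalarTower_liftAlgebra A Ω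
  have h1 : (nilradical (Ω ⊗[FractionRing A] L)).IsPrime :=
    geomIrr_of_forall_isSeparable_mem hK Ω
  have h2 : (nilradical (Ω ⊗[A] L)).IsPrime :=
    isPrime_nilradical_of_ringEquiv
      (IsLocalization.algebraTensorEquiv (nonZeroDivisors A) (FractionRing A) Ω L).symm.toRingEquiv
      h1
  haveI := flat_of_injective Ω hinj
  have hinj' : Function.Injective (Algebra.TensorProduct.map (AlgHom.id A Ω) ρ) := by
    have : ⇑(Algebra.TensorProduct.map (AlgHom.id A Ω) ρ) =
        ⇑(LinearMap.lTensor Ω ρ.toLinearMap) := by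
      funext x
      induction x using TensorProduct.induction_on with
      | zero => simp
      | tmul a b => simp
      | add x y hx hy => rw [map_add, map_add, hx, hy]
    rw [this]
    exact Module.Flat.lTensor_preserves_injective_linearMap _ hρ
  exact isPrime_nilradical_of_injective
    (Algebra.TensorProduct.map (AlgHom.id A Ω) ρ).toRingHom hinj' h2

/-- geometric irreducibility of the generic fibre of a domain `B ⊇ A` forces `Frac A` to be
separably closed in `Frac B` -/
theorem mem_range_of_isSeparable_of_generic {B : Type u} [CommRing B] [IsDomain B] [Algebra A B]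
    [Algebra (FractionRing A) (FractionRing B)]
    [IsScalarTower A (FractionRing A) (FractionRing B)]
    (h : ∀ (Ω : Type u) [Field Ω] [Algebra A Ω], Function.Injective (algebraMap A Ω) →
      (nilradical (Ω ⊗[A] B)).IsPrime)
    (α : FractionRing B) (hα : IsSeparable (FractionRing A) α) :
    α ∈ Set.range (algebraMap (FractionRing A) (FractionRing B)) := by
  refine mem_range_of_isSeparable_of_geomIrr ?_ α hα
  intro k' _ _
  letI : Algebra A k' := Algebra.compHom k' (algebraMap A (FractionRing A))
  haveI : IsScalarTower A (FractionRing A) k' := IsScalarTower.of_algebraMap_eq fun _ => rfl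
  have hinj : Function.Injective (algebraMap A k') :=
    (algebraMap (FractionRing A) k').injective.comp (IsFractionRing.injective A (FractionRing A))
  have h1 := h k' hinj
  let e := IsLocalization.algebraTensorEquiv (nonZeroDivisors A) (FractionRing A) k'
    (FractionRing B)
  haveI : Nontrivial (k' ⊗[FractionRing A] FractionRing B) := inferInstance
  haveI : Nontrivial (k' ⊗[A] FractionRing B) := e.injective.nontrivial
  have h2 : (nilradical (k' ⊗[A] FractionRing B)).IsPrime :=
    isPrime_nilradical_tensor_of_isLocalization (nonZeroDivisors B) k' h1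
  exact isPrime_nilradical_of_ringEquiv e.toRingEquiv h2

end generic

end Groth.Agent.Lib.Helper22.GI
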