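import Mathlib

/-! Helper22 GI3: field theory for the generic irreducibility theorem: a finite transcendence basis
among generators, uniform `p`-power exponent making finitely many algebraic elements separable,
primitive element, scaling into the ring, and the resulting "hypersurface model"
`R[X]/(P) ↪ B` with `w • b ^ (p ^ k) ∈ R[θ]` for the generators `b`. -/

set_option autoImplicit false
set_option linter.style.haveILetI false
universe u

open Polynomial IntermediateField

namespace Groth.Agent.Lib.Helper22.GI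

section trbasis

variable {A B : Type u} [CommRing A] [IsDomain A] [CommRing B] [IsDomain B] [Algebra A B]

/-- a finite transcendence basis among the generators of a finite type domain -/
theorem exists_transcendence_data [Algebra.FiniteType A B]
    (hinj : Function.Injective (algebraMap A B)) :
    ∃ (d : ℕ) (x : Fin d → B), AlgebraicIndependent A x ∧
      ∀ b : B, ∃ Q : Polynomial (MvPolynomial (Fin d) A), Q ≠ 0 ∧
        Polynomial.eval₂ (MvPolynomial.aeval x : MvPolynomial (Fin d) A →ₐ[A] B).toRingHom b Q = 0 := by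
  classical
  haveI : FaithfulSMul A B := (faithfulSMul_iff_algebraMap_injective A B).mpr hinj
  obtain ⟨s, hs⟩ := (Algebra.FiniteType.out : (⊤ : Subalgebra A B).FG)
  haveI : Algebra.IsAlgebraic (Algebra.adjoin A (s : Set B)) B := by
    constructor
    intro b
    have hb : b ∈ Algebra.adjoin A (s : Set B) := by rw [hs]; trivial
    exact isAlgebraic_algebraMap (⟨b, hb⟩ : Algebra.adjoin A (s : Set B))
  obtain ⟨t, hts, ht⟩ := exists_isTranscendenceBasis_subset (R := A) (s : Set B)
  have htfin : t.Finite := s.finite_toSet.subset hts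
  haveI : Fintype t := htfin.fintype
  let e : Fin (Fintype.card t) ≃ t := (Fintype.equivFin t).symm
  let x : Fin (Fintype.card t) → B := fun i => (e i : B)
  have hx : AlgebraicIndependent A x := ht.1.comp e e.injective
  refine ⟨Fintype.card t, x, hx, fun b => ?_⟩
  have halg : IsAlgebraic (Algebra.adjoin A (Set.range ((↑) : t → B))) b :=
    (ht.isAlgebraic).isAlgebraic b
  letI : Algebra (MvPolynomial (Fin (Fintype.card t)) A) B :=
    (MvPolynomial.aeval x : MvPolynomial (Fin (Fintype.card t)) A →ₐ[A] B).toRingHom.toAlgebra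
  let f : MvPolynomial (Fin (Fintype.card t)) A ≃+*
      Algebra.adjoin A (Set.range ((↑) : t → B)) :=
    ((MvPolynomial.renameEquiv A e).trans ht.1.aevalEquiv).toRingEquiv
  have hcomp : (algebraMap (Algebra.adjoin A (Set.range ((↑) : t → B))) B).comp
      (f : MvPolynomial (Fin (Fintype.card t)) A →+* _) =
      (RingHom.id B).comp (algebraMap (MvPolynomial (Fin (Fintype.card t)) A) B) := by
    apply MvPolynomial.ringHom_ext
    · intro a
      simp [f, RingHom.algebraMap_toAlgebra]
    · intro i
      simp [f, RingHom.algebraMap_toAlgebra, x]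
  have := (isAlgebraic_ringHom_iff_of_comp_eq f (RingHom.id B) Function.injective_id hcomp
    (a := b)).mp halg
  obtain ⟨Q, hQ0, hQ⟩ := this
  refine ⟨Q, hQ0, ?_⟩
  rw [Polynomial.aeval_def] at hQ
  exact hQ

end trbasis

section fields

variable {E L : Type*} [Field E] [Field L] [Algebra E L] (p : ℕ) [ExpChar E p]

theorem exists_isSeparable_pow (x : L) (hx : IsAlgebraic E x) :
    ∃ n : ℕ, ∀ n' : ℕ, n ≤ n' → IsSeparable E (x ^ (p ^ n')) := by
  obtain ⟨g, h1, n, h2⟩ := (minpoly.irreducible hx.isIntegral).hasSeparableContraction p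
  have hsep : IsSeparable E (x ^ (p ^ n)) := by
    refine h1.of_dvd (minpoly.dvd E _ ?_)
    simpa only [expand_aeval, minpoly.aeval] using congr_arg (aeval x) h2
  refine ⟨n, fun n' hn' => ?_⟩
  obtain ⟨c, rfl⟩ := Nat.exists_eq_add_of_le hn'
  rw [pow_add, pow_mul]
  rw [← mem_separableClosure_iff] at hsep ⊢
  exact pow_mem hsep _

/-- uniform exponent for a finite family -/
theorem exists_isSeparable_pow_fin {m : ℕ} (y : Fin m → L) (hy : ∀ j, IsAlgebraic E (y j)) :
    ∃ k : ℕ, ∀ j, IsSeparable E ((y j) ^ (p ^ k)) := by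
  choose n hn using fun j => exists_isSeparable_pow p (y j) (hy j)
  exact ⟨Finset.univ.sup n, fun j => hn j _ (Finset.le_sup (Finset.mem_univ j))⟩

/-- a primitive element for the field generated by finitely many separable elements -/
theorem exists_primitive_of_separable {m : ℕ} (z : Fin m → L) (hz : ∀ j, IsSeparable E (z j)) :
    ∃ θ : L, IsSeparable E θ ∧ ∀ j, ∃ g : E[X], z j = aeval θ g := by
  classical
  let F' : IntermediateField E L := IntermediateField.adjoin E (Set.range z)
  haveI : FiniteDimensional E F' :=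
    IntermediateField.finiteDimensional_adjoin (fun x hx => by
      obtain ⟨j, rfl⟩ := hx
      exact (hz j).isIntegral)
  haveI : Algebra.IsSeparable E F' := by
    rw [IntermediateField.isSeparable_adjoin_iff_isSeparable]
    rintro _ ⟨j, rfl⟩
    exact hz j
  let pb := Field.powerBasisOfFiniteOfSeparable E F'
  refine ⟨(pb.gen : L), ?_, fun j => ?_⟩
  · have : IsSeparable E pb.gen := Algebra.IsSeparable.isSeparable E pb.gen
    unfold IsSeparable at this ⊢
    rwa [IntermediateField.minpoly_eq] at this
  · have hmem : z j ∈ F' := IntermediateField.subset_adjoin E _ ⟨j, rfl⟩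
    obtain ⟨g, hg⟩ := pb.exists_eq_aeval' ⟨z j, hmem⟩
    refine ⟨g, ?_⟩
    have := congrArg (algebraMap F' L) hg
    rw [← Polynomial.aeval_algebraMap_apply] at this
    exact this

end fields

section scale

variable {E L : Type*} [Field E] [Field L] [Algebra E L]

/-- the minimal polynomial of a scaled element is the scaled minimal polynomial -/
theorem minpoly_smul_eq_scaleRoots (θ₂ : L) (hθ₂ : IsIntegral E θ₂) (c : E) (hc : c ≠ 0) :
    minpoly E (algebraMap E L c * θ₂) = scaleRoots (minpoly E θ₂) c := by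
  set θ := algebraMap E L c * θ₂ with hθ
  have hθint : IsIntegral E θ := (isIntegral_algebraMap).mul hθ₂
  have h1 : aeval θ (scaleRoots (minpoly E θ₂) c) = 0 :=
    scaleRoots_aeval_eq_zero (minpoly.aeval E θ₂)
  have hmon : (scaleRoots (minpoly E θ₂) c).Monic :=
    (monic_scaleRoots_iff c).mpr (minpoly.monic hθ₂)
  have hdvd : minpoly E θ ∣ scaleRoots (minpoly E θ₂) c := minpoly.dvd E θ h1
  have h2 : aeval θ₂ (scaleRoots (minpoly E θ) c⁻¹) = 0 := by
    have := scaleRoots_aeval_eq_zero (r := c⁻¹) (minpoly.aeval E θ)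
    rwa [hθ, ← mul_assoc, ← map_mul, inv_mul_cancel₀ hc, map_one, one_mul] at this
  have hdvd2 : minpoly E θ₂ ∣ scaleRoots (minpoly E θ) c⁻¹ := minpoly.dvd E θ₂ h2
  have hmon2 : (scaleRoots (minpoly E θ) c⁻¹).Monic :=
    (monic_scaleRoots_iff c⁻¹).mpr (minpoly.monic hθint)
  have hdeg : (minpoly E θ₂).natDegree ≤ (minpoly E θ).natDegree := by
    have := natDegree_le_of_dvd hdvd2 hmon2.ne_zero
    rwa [natDegree_scaleRoots] at this
  exact (eq_of_monic_of_dvd_of_natDegree_le (minpoly.monic hθint) hmon hdvd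
    (by rw [natDegree_scaleRoots]; exact hdeg)).symm

end scale

section model

variable {R B : Type u} [CommRing R] [IsDomain R] [CommRing B] [IsDomain B] [Algebra R B]

theorem exists_hypersurface_model (hinj : Function.Injective (algebraMap R B))
    [Algebra.IsAlgebraic R B] (p : ℕ) [ExpChar R p] {m : ℕ} (b : Fin m → B) :
    ∃ (θ : B) (P : R[X]) (k : ℕ) (w : R), P.Monic ∧ P.natDegree ≠ 0 ∧
      (P.map (algebraMap R (FractionRing R))).Separable ∧ aeval θ P = 0 ∧
      (∀ Q : R[X], aeval θ Q = 0 → P ∣ Q) ∧ w ≠ 0 ∧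
      ∀ j, ∃ Q : R[X], w • (b j) ^ (p ^ k) = aeval θ Q := by
  classical
  haveI : FaithfulSMul R B := (faithfulSMul_iff_algebraMap_injective R B).mpr hinj
  let E := FractionRing R
  let L := FractionRing B
  letI : Algebra E L := FractionRing.liftAlgebra R L
  haveI : IsScalarTower R E L := FractionRing.isScalarTower_liftAlgebra R L
  haveI : ExpChar E p := expChar_of_injective_algebraMap (IsFractionRing.injective R E) p
  have hRL : Algebra.IsAlgebraic R L := (IsFractionRing.isAlgebraic_iff' R B L).mp inferInstance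
  have hEL : Algebra.IsAlgebraic E L := IsFractionRing.comap_isAlgebraic_iff.mp hRL
  have hBL : Function.Injective (algebraMap B L) := IsFractionRing.injective B L
  have hRE : Function.Injective (algebraMap R E) := IsFractionRing.injective R E
  obtain ⟨k, hk⟩ := exists_isSeparable_pow_fin (E := E) p (fun j => algebraMap B L (b j))
    (fun j => hEL.isAlgebraic _)
  obtain ⟨θ₂, hθ₂sep, hθ₂⟩ :=
    exists_primitive_of_separable (fun j => (algebraMap B L (b j)) ^ (p ^ k)) hk
  have hθ₂int : IsIntegral E θ₂ := hθ₂sep.isIntegral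
  -- denominators
  obtain ⟨⟨b', s⟩, hs⟩ :=
    IsLocalization.surj (Algebra.algebraMapSubmonoid B (nonZeroDivisors R)) θ₂
  obtain ⟨r, hr, hrs⟩ := s.2
  have hr0 : r ≠ 0 := nonZeroDivisors.ne_zero hr
  obtain ⟨c₂, hc₂⟩ := IsLocalization.exist_integer_multiples_of_finset (nonZeroDivisors R)
    ((minpoly E θ₂).coeffs)
  have hc₂0 : (c₂ : R) ≠ 0 := nonZeroDivisors.ne_zero c₂.2
  -- the scaled primitive element
  set c : R := r * c₂ with hc
  have hc0 : c ≠ 0 := mul_ne_zero hr0 hc₂0
  set cE : E := algebraMap R E c with hcE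
  have hcE0 : cE ≠ 0 := by
    rw [hcE, Ne, map_eq_zero_iff _ hRE]; exact hc0
  set θL : L := algebraMap E L cE * θ₂ with hθL
  let θ : B := algebraMap R B c₂ * b'
  have hθ : algebraMap B L θ = θL := by
    simp only [θ, hθL, hcE, hc, map_mul]
    rw [← hs, ← hrs, ← IsScalarTower.algebraMap_apply R E L, ← IsScalarTower.algebraMap_apply R E L,
      ← IsScalarTower.algebraMap_apply R B L, ← IsScalarTower.algebraMap_apply R B L]
    ring
  have hmin : minpoly E θL = scaleRoots (minpoly E θ₂) cE :=
    minpoly_smul_eq_scaleRoots θ₂ hθ₂int cE hcE0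
  have hθLint : IsIntegral E θL := (isIntegral_algebraMap).mul hθ₂int
  have hθLsep : IsSeparable E θL := by
    rw [← mem_separableClosure_iff] at hθ₂sep ⊢
    exact mul_mem (IntermediateField.algebraMap_mem _ _) hθ₂sep
  -- the minimal polynomial has coefficients in `R`
  have hlifts : minpoly E θL ∈ lifts (algebraMap R E) := by
    rw [lifts_iff_coeff_lifts]
    intro i
    rw [hmin, coeff_scaleRoots]
    by_cases hi : (minpoly E θ₂).coeff i = 0
    · rw [hi, zero_mul]; exact ⟨0, map_zero _⟩
    · have hmem : (minpoly E θ₂).coeff i ∈ (minpoly E θ₂).coeffs :=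
        coeff_mem_coeffs hi
      obtain ⟨ri, hri⟩ := hc₂ _ hmem
      have hile : i ≤ (minpoly E θ₂).natDegree := le_natDegree_of_ne_zero hi
      rcases hile.eq_or_lt with heq | hlt
      · rw [heq, Nat.sub_self, pow_zero, mul_one]
        have : (minpoly E θ₂).coeff (minpoly E θ₂).natDegree = 1 := minpoly.monic hθ₂int
        rw [this]; exact ⟨1, map_one _⟩
      · obtain ⟨e, he⟩ : ∃ e, (minpoly E θ₂).natDegree - i = e + 1 :=
          ⟨(minpoly E θ₂).natDegree - i - 1, by omega⟩
        rw [he, pow_succ]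
        refine ⟨ri * r * c ^ e, ?_⟩
        rw [map_mul, map_mul, map_pow, hri, hcE, hc, map_mul, Algebra.smul_def]
        ring
  obtain ⟨P, hPmap, hPdeg, hPmon⟩ :=
    lifts_and_natDegree_eq_and_monic hlifts (minpoly.monic hθLint)
  have haevalL : ∀ Q : R[X], algebraMap B L (aeval θ Q) = aeval θL (Q.map (algebraMap R E)) := by
    intro Q
    rw [← aeval_algebraMap_apply, hθ, aeval_map_algebraMap]
  -- the denominators for the generators
  have hgen : ∀ j, ∃ (wj : R) (Qj : R[X]), wj ≠ 0 ∧ wj • (b j) ^ (p ^ k) = aeval θ Qj := by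
    intro j
    obtain ⟨g, hg⟩ := hθ₂ j
    set g' : E[X] := g.comp (C cE⁻¹ * X) with hg'
    have hg'val : aeval θL g' = aeval θ₂ g := by
      rw [hg', aeval_comp]
      congr 1
      rw [map_mul, aeval_C, aeval_X, hθL, ← mul_assoc, ← map_mul, inv_mul_cancel₀ hcE0, map_one,
        one_mul]
    obtain ⟨wj, hwj, hspec⟩ := IsLocalization.integerNormalization_spec (nonZeroDivisors R) g'
    refine ⟨wj, IsLocalization.integerNormalization (nonZeroDivisors R) g',
      nonZeroDivisors.ne_zero hwj, ?_⟩
    apply hBL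
    rw [haevalL, hspec, Algebra.smul_def, map_mul, map_pow, hg, ← hg'val,
      ← IsScalarTower.algebraMap_apply R B L, ← Algebra.smul_def]
    rw [← algebraMap_smul E wj g', ← algebraMap_smul E wj (aeval θL g'), map_smul]
  choose wf Qf hwf hQf using hgen
  refine ⟨θ, P, k, ∏ j, wf j, hPmon, ?_, ?_, ?_, ?_, ?_, ?_⟩
  · rw [hPdeg]; exact (minpoly.natDegree_pos hθLint).ne'
  · show (P.map (algebraMap R E)).Separable
    rw [hPmap]; exact hθLsep
  · apply hBL
    rw [haevalL, hPmap, minpoly.aeval, map_zero]
  · intro Q hQ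
    have h1 : aeval θL (Q.map (algebraMap R E)) = 0 := by
      rw [← haevalL, hQ, map_zero]
    have h2 : P.map (algebraMap R E) ∣ Q.map (algebraMap R E) := by
      rw [hPmap]; exact minpoly.dvd E θL h1
    exact (map_dvd_map (algebraMap R E) hRE hPmon).mp h2
  · exact Finset.prod_ne_zero_iff.mpr fun j _ => hwf j
  · intro j
    refine ⟨C (∏ i ∈ Finset.univ.erase j, wf i) * Qf j, ?_⟩
    rw [map_mul, aeval_C, ← hQf j, ← Finset.prod_erase_mul _ _ (Finset.mem_univ j), mul_smul,
      Algebra.smul_def (∏ i ∈ Finset.univ.erase j, wf i)]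

end model

end Groth.Agent.Lib.Helper22.GI
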