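import Mathlib
import Groth.Agent.Lib.Helper22GI2
import Groth.Agent.Lib.Helper22GI3

/-! Helper22 GI4: the domain case of the generic geometric irreducibility theorem:
for a finite type domain `B` over a domain `A` whose generic fibre is geometrically irreducible
there are `a ≠ 0`, `s ≠ 0` such that all geometric fibres of `B_s` over `D(a)` are irreducible. -/

set_option autoImplicit false
set_option linter.style.haveILetI false
set_option linter.unusedSectionVars false
universe u

open Polynomial TensorProduct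

namespace Groth.Agent.Lib.Helper22.GI

open Groth.Agent.Lib.Helper14.GeomIrr

section tensorLoc'

variable {A : Type*} [CommRing A] {B B' : Type*} [CommRing B] [CommRing B'] [Algebra A B]
  [Algebra A B'] [Algebra B B'] [IsScalarTower A B B']

/-- variant of `isPrime_nilradical_tensor_of_isLocalization` with nontriviality derived from
non-vanishing of the images of the elements of `M` -/
theorem isPrime_nilradical_tensor_of_isLocalization' (M : Submonoid B) [IsLocalization M B']
    (Ω : Type*) [CommRing Ω] [Algebra A Ω]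
    (h : (nilradical (Ω ⊗[A] B)).IsPrime) (hM : ∀ m ∈ M, (1 : Ω) ⊗ₜ[A] m ≠ 0) :
    (nilradical (Ω ⊗[A] B')).IsPrime := by
  letI : Algebra (Ω ⊗[A] B) (Ω ⊗[A] B') :=
    (Algebra.TensorProduct.map (AlgHom.id A Ω) (IsScalarTower.toAlgHom A B B')).toRingHom.toAlgebra
  haveI : IsScalarTower Ω (Ω ⊗[A] B) (Ω ⊗[A] B') := by
    refine IsScalarTower.of_algebraMap_eq' ?_
    ext x
    simp [RingHom.algebraMap_toAlgebra]
  haveI := IsLocalization.tensorProduct_tensorProduct_right A Ω M B' (by
    ext x
    simp [RingHom.algebraMap_toAlgebra])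
  haveI : Nontrivial (Ω ⊗[A] B') := by
    rw [← not_subsingleton_iff_nontrivial,
      IsLocalization.subsingleton_iff
        (M := M.map (Algebra.TensorProduct.includeRight (R := A) (A := Ω)))]
    rintro ⟨m, hm, h0⟩
    exact hM m hm h0
  exact isPrime_nilradical_of_isLocalization
    (M.map (Algebra.TensorProduct.includeRight (R := A) (A := Ω))) h

end tensorLoc'

section powGen

variable {A B : Type u} [CommRing A] [IsDomain A] [CommRing B] [IsDomain B] [Algebra A B]

/-- closure of the "power lies in the model up to powers of `s`" condition -/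
theorem pow_mem_of_generators (p : ℕ) [ExpChar A p] (k : ℕ) {C : Type*} [CommRing C] [Algebra A C]
    (ρ : C →ₐ[A] B) (wC : C) (gens : Set B) (hgens : Algebra.adjoin A gens = ⊤)
    (h : ∀ b ∈ gens, ∃ (N : ℕ) (c : C), (ρ wC) ^ N * b ^ (p ^ k) = ρ c) (b : B) :
    ∃ (N : ℕ) (c : C), (ρ wC) ^ N * b ^ (p ^ k) = ρ c := by
  have hb : b ∈ Algebra.adjoin A gens := by rw [hgens]; trivial
  induction hb using Algebra.adjoin_induction with
  | mem x hx => exact h x hx
  | algebraMap a =>
    refine ⟨0, algebraMap A C (a ^ (p ^ k)), ?_⟩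
    rw [pow_zero, one_mul, AlgHom.commutes, map_pow]
  | add x y _ _ hx hy =>
    obtain ⟨N, c, hc⟩ := hx
    obtain ⟨N', c', hc'⟩ := hy
    refine ⟨N + N', wC ^ N' * c + wC ^ N * c', ?_⟩
    rw [add_pow_of_algebra A p k, map_add, map_mul, map_mul, map_pow, map_pow, ← hc, ← hc']
    ring
  | mul x y _ _ hx hy =>
    obtain ⟨N, c, hc⟩ := hx
    obtain ⟨N', c', hc'⟩ := hy
    refine ⟨N + N', c * c', ?_⟩
    rw [map_mul, ← hc, ← hc', mul_pow]
    ring

end powGen

section awayPow

variable {A : Type*} [CommRing A] {B C : Type*} [CommRing B] [CommRing C] [Algebra A B]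
  [Algebra A C]

theorem awayMapₐ_injective (ρ : C →ₐ[A] B) (hρ : Function.Injective ρ) (wC : C) :
    Function.Injective (Localization.awayMapₐ ρ wC) := by
  exact IsLocalization.Away.mapₐ_injective_of_injective wC hρ

theorem awayMapₐ_pow_mem (ρ : C →ₐ[A] B) (wC : C) (q : ℕ)
    (h : ∀ b : B, ∃ (N : ℕ) (c : C), (ρ wC) ^ N * b ^ q = ρ c)
    (y : Localization.Away (ρ wC)) : y ^ q ∈ Set.range (Localization.awayMapₐ ρ wC) := by
  obtain ⟨n, b₀, hb₀⟩ := IsLocalization.Away.surj (ρ wC) y
  obtain ⟨N, c, hc⟩ := h b₀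
  have hu : IsUnit (algebraMap C (Localization.Away wC) wC) :=
    IsLocalization.Away.algebraMap_isUnit wC
  obtain ⟨u, hu⟩ := hu
  set j := Localization.awayMapₐ ρ wC with hj
  have hjalg : ∀ c' : C, j (algebraMap C (Localization.Away wC) c') =
      algebraMap B (Localization.Away (ρ wC)) (ρ c') := by
    intro c'
    simp [j, Localization.awayMapₐ, IsLocalization.Away.mapₐ_apply, IsLocalization.Away.map,
      IsLocalization.map_eq]
  have h1 : j (↑u⁻¹ : Localization.Away wC) * algebraMap B (Localization.Away (ρ wC)) (ρ wC) = 1 := by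
    rw [← hjalg, ← hu, ← map_mul, Units.inv_mul, map_one]
  have h2 : y ^ q * algebraMap B (Localization.Away (ρ wC)) (ρ wC) ^ (n * q + N) =
      algebraMap B (Localization.Away (ρ wC)) (ρ c) := by
    rw [← hc, map_mul, map_pow, map_pow, ← hb₀, mul_pow, ← pow_mul, pow_add]
    ring
  refine ⟨(↑u⁻¹ : Localization.Away wC) ^ (n * q + N) * algebraMap C _ c, ?_⟩
  rw [map_mul, map_pow, hjalg, ← h2]
  calc j (↑u⁻¹ : Localization.Away wC) ^ (n * q + N) *
        (y ^ q * algebraMap B (Localization.Away (ρ wC)) (ρ wC) ^ (n * q + N))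
      = y ^ q * (j (↑u⁻¹ : Localization.Away wC) *
          algebraMap B (Localization.Away (ρ wC)) (ρ wC)) ^ (n * q + N) := by
        rw [mul_pow]; ring
    _ = y ^ q := by rw [h1, one_pow, mul_one]

end awayPow

section coreDomain

theorem adjoinRootTensorEquiv_tmul_of {A : Type u} [CommRing A] {σ : Type} (Ω : Type u)
    [CommRing Ω] [Algebra A Ω] (P : Polynomial (MvPolynomial σ A)) (w : MvPolynomial σ A) :
    adjoinRootTensorEquiv Ω P ((1 : Ω) ⊗ₜ[A] AdjoinRoot.of P w) =
      AdjoinRoot.of _ (MvPolynomial.map (algebraMap A Ω) w) := by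
  unfold adjoinRootTensorEquiv
  rw [AlgEquiv.trans_apply, AdjoinRoot.tensorAlgEquiv_of, AdjoinRoot.coe_mapAlgEquiv,
    AdjoinRoot.map_of]
  congr 1
  show MvPolynomial.algebraTensorAlgEquiv A Ω ((1 : Ω) ⊗ₜ[A] w) = _
  rw [MvPolynomial.algebraTensorAlgEquiv_tmul, one_smul]

variable {A B : Type u} [CommRing A] [IsDomain A] [CommRing B] [IsDomain B] [Algebra A B]

theorem core_domain [Algebra.FiniteType A B] (hinj : Function.Injective (algebraMap A B))
    (hgen : ∀ (Ω : Type u) [Field Ω] [Algebra A Ω], Function.Injective (algebraMap A Ω) →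
      (nilradical (Ω ⊗[A] B)).IsPrime) :
    ∃ (a : A) (s : B), a ≠ 0 ∧ s ≠ 0 ∧ ∀ (Ω : Type u) [Field Ω] [Algebra A Ω],
      algebraMap A Ω a ≠ 0 → (nilradical (Ω ⊗[A] Localization.Away s)).IsPrime := by
  classical
  haveI : FaithfulSMul A B := (faithfulSMul_iff_algebraMap_injective A B).mpr hinj
  set p := ringExpChar A with hp
  haveI : ExpChar A p := ringExpChar.expChar A
  obtain ⟨d, x, hx, halg⟩ := exists_transcendence_data hinj
  -- the polynomial ring over the transcendence basis
  let R := MvPolynomial (Fin d) A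
  letI : Algebra R B := (MvPolynomial.aeval x : R →ₐ[A] B).toRingHom.toAlgebra
  haveI : IsScalarTower A R B := IsScalarTower.of_algebraMap_eq' (by
    ext a
    simp [RingHom.algebraMap_toAlgebra])
  have hRinj : Function.Injective (algebraMap R B) := hx
  haveI : Algebra.IsAlgebraic R B := ⟨fun b => by
    obtain ⟨Q, hQ0, hQ⟩ := halg b
    exact ⟨Q, hQ0, hQ⟩⟩
  haveI : ExpChar R p := expChar_of_injective_algebraMap (MvPolynomial.C_injective (Fin d) A) p
  -- generators
  obtain ⟨sgen, hsgen⟩ := (Algebra.FiniteType.out : (⊤ : Subalgebra A B).FG)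
  let bgen : Fin sgen.card → B := fun j => (sgen.equivFin.symm j : B)
  have hrange : Set.range bgen = (sgen : Set B) := by
    ext y
    constructor
    · rintro ⟨j, rfl⟩
      exact (sgen.equivFin.symm j).2
    · intro hy
      exact ⟨sgen.equivFin ⟨y, hy⟩, by simp [bgen]⟩
  obtain ⟨θ, P, k, w, hPmon, hPdeg, hPsep, hPθ, hPdvd, hw0, hmodel⟩ :=
    exists_hypersurface_model hRinj p bgen
  -- the hypersurface algebra and its embedding into `B`
  have hθ' : P.eval₂ ((IsScalarTower.toAlgHom A R B : R →ₐ[A] B) : R →+* B) θ = 0 := by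
    rw [← hPθ, aeval_def]; rfl
  let ρ : AdjoinRoot P →ₐ[A] B := AdjoinRoot.liftAlgHom P (IsScalarTower.toAlgHom A R B) θ hθ'
  have hρmk : ∀ Q : R[X], ρ (AdjoinRoot.mk P Q) = aeval θ Q := by
    intro Q
    rw [aeval_def]; rfl
  have hρinj : Function.Injective ρ := by
    rw [injective_iff_map_eq_zero]
    intro c hc
    obtain ⟨Q, rfl⟩ := AdjoinRoot.mk_surjective c
    rw [hρmk] at hc
    exact AdjoinRoot.mk_eq_zero.mpr (hPdvd Q hc)
  set wC : AdjoinRoot P := AdjoinRoot.of P w with hwC
  have hρw : ρ wC = algebraMap R B w := by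
    rw [hwC]
    exact AdjoinRoot.liftAlgHom_of P _ θ hθ' w
  have hgens : Algebra.adjoin A (Set.range bgen) = ⊤ := by rw [hrange, hsgen]
  have hall : ∀ b : B, ∃ (N : ℕ) (c : AdjoinRoot P), (ρ wC) ^ N * b ^ (p ^ k) = ρ c := by
    refine pow_mem_of_generators p k ρ wC (Set.range bgen) hgens ?_
    rintro _ ⟨j, rfl⟩
    obtain ⟨Q, hQ⟩ := hmodel j
    refine ⟨1, AdjoinRoot.mk P Q, ?_⟩
    rw [hρmk, ← hQ, pow_one, hρw, Algebra.smul_def]
  -- the generic fibre of the model is geometrically irreducible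
  letI : Algebra (FractionRing A) (FractionRing B) := FractionRing.liftAlgebra A (FractionRing B)
  haveI : IsScalarTower A (FractionRing A) (FractionRing B) :=
    FractionRing.isScalarTower_liftAlgebra A (FractionRing B)
  have hK := mem_range_of_isSeparable_of_generic (A := A) (B := B) hgen
  have hρL : Function.Injective ((IsScalarTower.toAlgHom A B (FractionRing B)).comp ρ) :=
    (IsFractionRing.injective B (FractionRing B)).comp hρinj
  have hNF : ∀ (Ω : Type u) [Field Ω] [Algebra A Ω], Function.Injective (algebraMap A Ω) →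
      NoFactor P Ω := fun Ω _ _ hΩ =>
    noFactor_of_isPrime_nilradical P hPmon Ω (separable_bc P hPsep Ω hΩ)
      (isPrime_nilradical_tensor_of_injective_field hK _ hρL Ω hΩ)
  obtain ⟨a₁, ha₁, hdom⟩ := hypersurface P hPmon hPdeg hNF
  obtain ⟨ν, hν⟩ := MvPolynomial.ne_zero_iff.mp hw0
  refine ⟨a₁ * MvPolynomial.coeff ν w, ρ wC, mul_ne_zero ha₁ hν, ?_, fun Ω _ _ haΩ => ?_⟩
  · rw [hρw, Ne, map_eq_zero_iff _ hRinj]
    exact hw0
  · rw [map_mul] at haΩ
    have ha₁Ω : algebraMap A Ω a₁ ≠ 0 := left_ne_zero_of_mul haΩ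
    have ha₂Ω : algebraMap A Ω (MvPolynomial.coeff ν w) ≠ 0 := right_ne_zero_of_mul haΩ
    haveI := hdom Ω ha₁Ω
    have h1 : (nilradical (Ω ⊗[A] AdjoinRoot P)).IsPrime := by
      rw [nilradical_eq_zero]; exact Ideal.isPrime_bot
    have hne : (1 : Ω) ⊗ₜ[A] wC ≠ 0 := by
      intro h0
      have h3 := congrArg (adjoinRootTensorEquiv Ω P) h0
      rw [hwC, adjoinRootTensorEquiv_tmul_of, map_zero] at h3
      have hdeg : (P.map (MvPolynomial.map (σ := Fin d) (algebraMap A Ω))).degree ≠ 0 := by
        intro h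
        have hnd := hPmon.natDegree_map (MvPolynomial.map (σ := Fin d) (algebraMap A Ω))
        exact hPdeg (by
          rw [← hnd]; exact natDegree_eq_zero_iff_degree_le_zero.mpr (le_of_eq h))
      have h4 : MvPolynomial.map (σ := Fin d) (algebraMap A Ω) w = 0 :=
        AdjoinRoot.of.injective_of_degree_ne_zero hdeg (by rw [h3, map_zero])
      have h5 := congrArg (MvPolynomial.coeff ν) h4
      rw [MvPolynomial.coeff_map, MvPolynomial.coeff_zero] at h5
      exact ha₂Ω h5
    have h2 : (nilradical (Ω ⊗[A] Localization.Away wC)).IsPrime :=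
      isPrime_nilradical_tensor_of_isLocalization' (Submonoid.powers wC) Ω h1 (by
        rintro _ ⟨n, rfl⟩
        have : (1 : Ω) ⊗ₜ[A] (wC ^ n) = ((1 : Ω) ⊗ₜ[A] wC) ^ n := by
          rw [Algebra.TensorProduct.tmul_pow, one_pow]
        rw [this]
        exact pow_ne_zero n hne)
    exact isPrime_nilradical_tensor_of_pow_mem A p k Ω (Localization.awayMapₐ ρ wC)
      (awayMapₐ_injective ρ hρinj wC) (awayMapₐ_pow_mem ρ wC (p ^ k) hall) h2

end coreDomain

end Groth.Agent.Lib.Helper22.GI
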