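import Mathlib
import Groth.Agent.Lib.Helper22GI4
import Groth.Agent.Lib.Helper2GenFree

set_option autoImplicit false
set_option linter.style.haveILetI false
set_option linter.unusedSectionVars false
set_option linter.unnecessarySimpa false
universe u

open Polynomial TensorProduct

namespace Groth.Agent.Lib.Helper22.GI

open Groth.Agent.Lib.Helper14.GeomIrr

section general

/-- torsion elements are killed by a power of `f` when the module is free away from `f` -/
theorem exists_pow_smul_eq_zero_of_freeAway {A : Type*} [CommRing A] [IsDomain A] {M : Type*}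
    [AddCommGroup M] [Module A M] {f : A}
    (h : Groth.Agent.Lib.Helper2.GenFree.FreeAway A f M) (y : M) (a' : A) (ha' : a' ≠ 0)
    (hy : a' • y = 0) : ∃ n : ℕ, f ^ n • y = 0 := by
  obtain ⟨Bs, hli, hspan⟩ := h
  obtain ⟨n, hn⟩ := hspan y
  refine ⟨n, ?_⟩
  have hn' : f ^ n • y ∈ Submodule.span A (Set.range ((↑) : Bs → M)) := by
    rwa [Subtype.range_coe]
  obtain ⟨l, hl⟩ := (Finsupp.mem_span_range_iff_exists_finsupp).mp hn'
  have hl' : Finsupp.linearCombination A ((↑) : Bs → M) l = f ^ n • y := hl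
  have h0 : Finsupp.linearCombination A ((↑) : Bs → M) (a' • l) = 0 := by
    rw [map_smul, hl', smul_comm, hy, smul_zero]
  have h1 : a' • l = 0 := linearIndependent_iff.mp hli _ h0
  have h2 : l = 0 := (smul_eq_zero.mp h1).resolve_left ha'
  rw [← hl', h2, map_zero]

variable {A : Type*} [CommRing A] {B B' : Type*} [CommRing B] [CommRing B'] [Algebra A B]
  [Algebra A B']

/-- transfer of prime nilradical of a geometric fibre along a surjection with fibrewise nil
kernel -/
theorem isPrime_nilradical_tensor_iff_of_surjective (g : B →ₐ[A] B') (hg : Function.Surjective g)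
    (Ω : Type*) [CommRing Ω] [Algebra A Ω]
    (hker : ∀ x : B, g x = 0 → IsNilpotent ((1 : Ω) ⊗ₜ[A] x)) :
    (nilradical (Ω ⊗[A] B')).IsPrime ↔ (nilradical (Ω ⊗[A] B)).IsPrime := by
  refine isPrime_nilradical_iff_of_surjective
    (Algebra.TensorProduct.map (AlgHom.id A Ω) g).toRingHom
    (Algebra.TensorProduct.map_surjective (AlgHom.id A Ω) g Function.surjective_id hg) ?_
  intro z hz
  have hz' : z ∈ RingHom.ker (Algebra.TensorProduct.map (AlgHom.id A Ω) g) := hz
  rw [Algebra.TensorProduct.lTensor_ker g hg] at hz'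
  have hle : (RingHom.ker g).map
      (Algebra.TensorProduct.includeRight : B →ₐ[A] Ω ⊗[A] B) ≤ nilradical (Ω ⊗[A] B) := by
    rw [Ideal.map_le_iff_le_comap]
    intro x hx
    rw [Ideal.mem_comap, mem_nilradical]
    exact hker x hx
  exact mem_nilradical.mp (hle hz')

end general

section coreAffine

variable {A B : Type u} [CommRing A] [IsDomain A] [CommRing B] [Algebra A B]

/-- the affine core of EGA IV 9.7.7: if the generic fibre of `Spec B → Spec A` is geometrically
irreducible, then after inverting a nonzero `a ∈ A` and an element `s ∈ B` which is not nilpotent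
on the generic fibre, all geometric fibres of `Spec B_s` over `D(a)` are irreducible or empty. -/
theorem core_affine [Algebra.FiniteType A B]
    (hgen : ∀ (Ω : Type u) [Field Ω] [Algebra A Ω], Function.Injective (algebraMap A Ω) →
      (nilradical (Ω ⊗[A] B)).IsPrime) :
    ∃ (a : A) (s : B), a ≠ 0 ∧ ¬ IsNilpotent ((1 : FractionRing A) ⊗ₜ[A] s) ∧
      ∀ (Ω : Type u) [Field Ω] [Algebra A Ω], algebraMap A Ω a ≠ 0 →
        (nilradical (Ω ⊗[A] Localization.Away s)).IsPrime := by
  classical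
  let K := FractionRing A
  haveI hT : (nilradical (K ⊗[A] B)).IsPrime := hgen K (IsFractionRing.injective A K)
  let incl : B →+* K ⊗[A] B :=
    (Algebra.TensorProduct.includeRight : B →ₐ[A] K ⊗[A] B).toRingHom
  let 𝔮 : Ideal B := (nilradical (K ⊗[A] B)).comap incl
  haveI : 𝔮.IsPrime := Ideal.IsPrime.comap incl
  have hmem : ∀ x, x ∈ 𝔮 ↔ IsNilpotent ((1 : K) ⊗ₜ[A] x) := fun x => by
    rw [Ideal.mem_comap, mem_nilradical]; rfl
  obtain ⟨f, hf0, hfree, -, -, -⟩ := Groth.Agent.Lib.Helper2.GenFree.exists_freeAway A B B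
  -- fibrewise nilpotency of the elements of `𝔮`
  have hnil : ∀ (Ω : Type u) [Field Ω] [Algebra A Ω], algebraMap A Ω f ≠ 0 →
      ∀ x ∈ 𝔮, IsNilpotent ((1 : Ω) ⊗ₜ[A] x) := by
    intro Ω _ _ hfΩ x hx
    obtain ⟨n, hn⟩ := (hmem x).mp hx
    rw [Algebra.TensorProduct.tmul_pow, one_pow] at hn
    have h1 : (TensorProduct.mk A K B 1) (x ^ n) = 0 := hn
    obtain ⟨c, hc⟩ := (IsLocalizedModule.eq_zero_iff (nonZeroDivisors A)
      (TensorProduct.mk A K B 1)).mp h1
    obtain ⟨N, hN⟩ := exists_pow_smul_eq_zero_of_freeAway hfree (x ^ n) (c : A)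
      (nonZeroDivisors.ne_zero c.2) hc
    refine ⟨n, ?_⟩
    rw [Algebra.TensorProduct.tmul_pow, one_pow]
    have h2 : ((algebraMap A Ω f) ^ N) ⊗ₜ[A] (x ^ n) = (0 : Ω ⊗[A] B) := by
      rw [← map_pow, Algebra.algebraMap_eq_smul_one, TensorProduct.smul_tmul, hN,
        TensorProduct.tmul_zero]
    have h3 : (1 : Ω) ⊗ₜ[A] (x ^ n) =
        (((algebraMap A Ω f) ^ N)⁻¹ ⊗ₜ[A] (1 : B)) * (((algebraMap A Ω f) ^ N) ⊗ₜ[A] (x ^ n)) := by
      rw [Algebra.TensorProduct.tmul_mul_tmul, one_mul, inv_mul_cancel₀ (pow_ne_zero N hfΩ)]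
    rw [h3, h2, mul_zero]
  -- the reduced domain quotient
  let g : B →ₐ[A] B ⧸ 𝔮 := Ideal.Quotient.mkₐ A 𝔮
  have hg : Function.Surjective g := Ideal.Quotient.mkₐ_surjective A 𝔮
  haveI : IsDomain (B ⧸ 𝔮) := Ideal.Quotient.isDomain 𝔮
  haveI : Algebra.FiniteType A (B ⧸ 𝔮) := Algebra.FiniteType.of_surjective g hg
  have hgker : ∀ x : B, g x = 0 ↔ x ∈ 𝔮 := fun x => Ideal.Quotient.eq_zero_iff_mem
  haveI : Nontrivial (K ⊗[A] B) := by
    by_contra hnt
    rw [not_nontrivial_iff_subsingleton] at hnt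
    exact hT.ne_top (Ideal.eq_top_iff_one _ |>.mpr (by
      rw [mem_nilradical, Subsingleton.elim (1 : K ⊗[A] B) 0]; exact IsNilpotent.zero))
  have hinj' : Function.Injective (algebraMap A (B ⧸ 𝔮)) := by
    rw [injective_iff_map_eq_zero]
    intro a ha
    have h1 : g (algebraMap A B a) = 0 := by rw [AlgHom.commutes]; exact ha
    obtain ⟨n, hn⟩ := (hmem _).mp ((hgker _).mp h1)
    rw [Algebra.TensorProduct.tmul_pow, one_pow, ← map_pow] at hn
    have h2 : algebraMap K (K ⊗[A] B) (algebraMap A K (a ^ n)) = 0 := by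
      rw [Algebra.TensorProduct.algebraMap_apply]
      have hsw : (algebraMap A K (a ^ n)) ⊗ₜ[A] (1 : B) =
          (1 : K) ⊗ₜ[A] (algebraMap A B (a ^ n)) := by
        rw [Algebra.algebraMap_eq_smul_one, Algebra.algebraMap_eq_smul_one,
          TensorProduct.smul_tmul]
      rw [Algebra.algebraMap_self, RingHom.id_apply, hsw]
      exact hn
    have h3 : algebraMap A K (a ^ n) = 0 :=
      (map_eq_zero_iff _ (algebraMap K (K ⊗[A] B)).injective).mp h2
    have h4 : a ^ n = 0 := (map_eq_zero_iff _ (IsFractionRing.injective A K)).mp h3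
    exact IsNilpotent.eq_zero ⟨n, h4⟩
  have hgen' : ∀ (Ω : Type u) [Field Ω] [Algebra A Ω], Function.Injective (algebraMap A Ω) →
      (nilradical (Ω ⊗[A] (B ⧸ 𝔮))).IsPrime := by
    intro Ω _ _ hΩ
    rw [isPrime_nilradical_tensor_iff_of_surjective g hg Ω ?_]
    · exact hgen Ω hΩ
    · intro x hx
      exact hnil Ω (fun h => hf0 (hΩ (h.trans (map_zero _).symm))) x ((hgker x).mp hx)
  obtain ⟨a', s', ha', hs', hcore⟩ := core_domain hinj' hgen'
  obtain ⟨s, rfl⟩ := hg s'
  refine ⟨a' * f, s, mul_ne_zero ha' hf0, ?_, ?_⟩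
  · rw [← hmem]
    intro h
    exact hs' ((hgker s).mpr h)
  · intro Ω _ _ haΩ
    rw [map_mul] at haΩ
    have ha'Ω : algebraMap A Ω a' ≠ 0 := left_ne_zero_of_mul haΩ
    have hfΩ : algebraMap A Ω f ≠ 0 := right_ne_zero_of_mul haΩ
    have h1 := hcore Ω ha'Ω
    have hgs : Function.Surjective (Localization.awayMapₐ g s) :=
      IsLocalization.Away.mapₐ_surjective_of_surjective s hg
    rw [← isPrime_nilradical_tensor_iff_of_surjective (Localization.awayMapₐ g s) hgs Ω ?_]
    · exact h1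
    · intro z hz
      obtain ⟨n, b, hb⟩ := IsLocalization.Away.surj s z
      have hjalg : ∀ c' : B, Localization.awayMapₐ g s (algebraMap B (Localization.Away s) c') =
          algebraMap (B ⧸ 𝔮) (Localization.Away (g s)) (g c') := by
        intro c'
        simp [Localization.awayMapₐ, IsLocalization.Away.mapₐ_apply, IsLocalization.Away.map,
          IsLocalization.map_eq]
      have h2 : algebraMap (B ⧸ 𝔮) (Localization.Away (g s)) (g b) = 0 := by
        rw [← hjalg, ← hb, map_mul, hz, zero_mul]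
      have h3 : g b = 0 := by
        have hinjloc : Function.Injective (algebraMap (B ⧸ 𝔮) (Localization.Away (g s))) :=
          IsLocalization.injective (Localization.Away (g s))
            (powers_le_nonZeroDivisors_of_noZeroDivisors hs')
        exact (map_eq_zero_iff _ hinjloc).mp h2
      have h4 : IsNilpotent ((1 : Ω) ⊗ₜ[A] b) := hnil Ω hfΩ b ((hgker b).mp h3)
      have h5 : IsNilpotent ((1 : Ω) ⊗ₜ[A] (algebraMap B (Localization.Away s) b)) := by
        have := h4.map (Algebra.TensorProduct.map (AlgHom.id A Ω)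
          (IsScalarTower.toAlgHom A B (Localization.Away s)))
        simpa using this
      obtain ⟨u, hu⟩ := IsLocalization.Away.algebraMap_isUnit (S := Localization.Away s) s
      have h6 : z = algebraMap B (Localization.Away s) b * (↑u⁻¹ : Localization.Away s) ^ n := by
        rw [← hb, mul_assoc, ← hu, ← mul_pow, Units.mul_inv, one_pow, mul_one]
      rw [h6, ← one_mul (1 : Ω), ← Algebra.TensorProduct.tmul_mul_tmul]
      exact (Commute.all _ _).isNilpotent_mul_right h5

end coreAffine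

section nzd

/-- fibrewise regularity: if `s` is a nonzerodivisor of `B` and `B ⧸ (s)` is free over `A` away
from `f`, then `1 ⊗ s` is a nonzerodivisor of `Ω ⊗[A] B` whenever `f` is invertible in `Ω`. -/
theorem eq_zero_of_tmul_mul_eq_zero_of_freeAway {A : Type*} [CommRing A] {B : Type*} [CommRing B]
    [Algebra A B] (s : B) (hs : ∀ b : B, s * b = 0 → b = 0) {f : A}
    (hfree : Groth.Agent.Lib.Helper2.GenFree.FreeAway A f (B ⧸ Ideal.span {s}))
    (Ω : Type*) [CommRing Ω] [Algebra A Ω] (hf : IsUnit (algebraMap A Ω f))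
    (z : Ω ⊗[A] B) (hz : ((1 : Ω) ⊗ₜ[A] s) * z = 0) : z = 0 := by
  classical
  let S := Submonoid.powers f
  let σ : B →ₗ[A] B := LinearMap.mulLeft A s
  let π : B →ₗ[A] (B ⧸ Ideal.span {s}) := (Ideal.Quotient.mkₐ A (Ideal.span {s})).toLinearMap
  have hσ : Function.Injective σ := by
    rw [injective_iff_map_eq_zero]; intro b hb; exact hs b hb
  have hπ : Function.Surjective π := Ideal.Quotient.mkₐ_surjective A _
  have hex : Function.Exact σ π := by
    intro b
    constructor
    · intro hb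
      have hb' : b ∈ Ideal.span {s} := Ideal.Quotient.eq_zero_iff_mem.mp hb
      obtain ⟨c, hc⟩ := Ideal.mem_span_singleton'.mp hb'
      exact ⟨c, by simp [σ, ← hc, mul_comm]⟩
    · rintro ⟨c, rfl⟩
      exact Ideal.Quotient.eq_zero_iff_mem.mpr
        (Ideal.mem_span_singleton'.mpr ⟨c, by simp [σ, mul_comm]⟩)
  let mB := LocalizedModule.mkLinearMap S B
  let mP := LocalizedModule.mkLinearMap S (B ⧸ Ideal.span {s})
  let σf := IsLocalizedModule.map S mB mB σ
  let πf := IsLocalizedModule.map S mB mP π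
  have hσf : Function.Injective σf := IsLocalizedModule.map_injective S mB mB σ hσ
  have hπf : Function.Surjective πf := IsLocalizedModule.map_surjective S mB mP π hπ
  have hexf : Function.Exact σf πf := IsLocalizedModule.map_exact S mB mB mP σ π hex
  haveI : Module.Free (Localization S) (LocalizedModule S (B ⧸ Ideal.span {s})) :=
    hfree.free (Localization S) mP
  haveI : Module.Flat A (LocalizedModule S (B ⧸ Ideal.span {s})) :=
    Module.Flat.trans A (Localization S) _
  have hinj := LinearMap.lTensor_injective_of_exact_of_flat πf hπf σf hσf hexf Ω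
  -- a left inverse of the localization map on `Ω ⊗ B`
  let ι : B →ₗ[A] Ω ⊗[A] B := (TensorProduct.mk A Ω B 1)
  have hunit : ∀ x : S, IsUnit (algebraMap A (Module.End A (Ω ⊗[A] B)) x) := by
    rintro ⟨_, n, rfl⟩
    obtain ⟨u, hu⟩ := hf
    rw [Module.End.isUnit_iff]
    have hsm : ∀ w : Ω ⊗[A] B, algebraMap A (Module.End A (Ω ⊗[A] B)) (f ^ n) w =
        ((u : Ω) ^ n) • w := by
      intro w
      rw [Module.algebraMap_end_apply, hu, ← map_pow, algebraMap_smul]
    constructor
    · intro w w' hww'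
      rw [hsm, hsm] at hww'
      have := congrArg (fun t => ((↑(u⁻¹) : Ω) ^ n) • t) hww'
      simpa [smul_smul, ← mul_pow] using this
    · intro w
      refine ⟨((↑(u⁻¹) : Ω) ^ n) • w, ?_⟩
      rw [hsm, smul_smul, ← mul_pow, Units.mul_inv, one_pow, one_smul]
  let ρ : LocalizedModule S B →ₗ[A] Ω ⊗[A] B := IsLocalizedModule.lift S mB ι hunit
  have hρ : ∀ b : B, ρ (mB b) = (1 : Ω) ⊗ₜ[A] b := fun b =>
    IsLocalizedModule.lift_apply S mB ι hunit b
  let R : Ω ⊗[A] LocalizedModule S B →ₗ[Ω] Ω ⊗[A] B := LinearMap.liftBaseChange Ω ρ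
  let loc : Ω ⊗[A] B →ₗ[A] Ω ⊗[A] LocalizedModule S B := mB.lTensor Ω
  have hR : ∀ w : Ω ⊗[A] B, R (loc w) = w := by
    intro w
    induction w using TensorProduct.induction_on with
    | zero => simp
    | tmul ω b =>
      simp only [loc, LinearMap.lTensor_tmul, R, LinearMap.liftBaseChange_tmul, hρ]
      rw [TensorProduct.smul_tmul', smul_eq_mul, mul_one]
    | add x y hx hy => rw [map_add, map_add, hx, hy]
  have hcomm : ∀ w : Ω ⊗[A] B, σf.lTensor Ω (loc w) = loc (((1 : Ω) ⊗ₜ[A] s) * w) := by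
    intro w
    induction w using TensorProduct.induction_on with
    | zero => simp
    | tmul ω b =>
      simp only [loc, LinearMap.lTensor_tmul, Algebra.TensorProduct.tmul_mul_tmul, one_mul]
      congr 1
      have := congrArg (fun l => l b) (IsLocalizedModule.map_comp S mB mB σ)
      simpa [σf, σ] using this
    | add x y hx hy => rw [map_add, map_add, hx, hy, mul_add, map_add]
  have h1 : σf.lTensor Ω (loc z) = 0 := by rw [hcomm, hz, map_zero]
  have h2 : loc z = 0 := (map_eq_zero_iff _ hinj).mp h1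
  rw [← hR z, h2, map_zero]

variable {A : Type*} [CommRing A] {B B' : Type*} [CommRing B] [CommRing B'] [Algebra A B]
  [Algebra A B'] [Algebra B B'] [IsScalarTower A B B']

/-- the base change of a localization map at fibrewise nonzerodivisors is injective -/
theorem tensor_map_injective_of_isLocalization (M : Submonoid B) [IsLocalization M B']
    (Ω : Type*) [CommRing Ω] [Algebra A Ω]
    (hM : ∀ m ∈ M, ∀ z : Ω ⊗[A] B, ((1 : Ω) ⊗ₜ[A] m) * z = 0 → z = 0) :
    Function.Injective
      (Algebra.TensorProduct.map (AlgHom.id A Ω) (IsScalarTower.toAlgHom A B B')) := by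
  letI : Algebra (Ω ⊗[A] B) (Ω ⊗[A] B') :=
    (Algebra.TensorProduct.map (AlgHom.id A Ω) (IsScalarTower.toAlgHom A B B')).toRingHom.toAlgebra
  haveI : IsScalarTower Ω (Ω ⊗[A] B) (Ω ⊗[A] B') := by
    refine IsScalarTower.of_algebraMap_eq' ?_
    ext x
    simp [RingHom.algebraMap_toAlgebra]
  haveI := IsLocalization.tensorProduct_tensorProduct_right A Ω M B' (by
    ext x
    simp [RingHom.algebraMap_toAlgebra])
  have hle : M.map (Algebra.TensorProduct.includeRight (R := A) (A := Ω)) ≤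
      nonZeroDivisors (Ω ⊗[A] B) := by
    rintro _ ⟨m, hm, rfl⟩
    rw [mem_nonZeroDivisors_iff_right]
    intro z hz
    refine hM m hm z ?_
    rw [mul_comm]
    exact hz
  exact IsLocalization.injective (Ω ⊗[A] B') hle

end nzd

section coreAffine2

variable {A B : Type u} [CommRing A] [IsDomain A] [CommRing B] [Algebra A B]

/-- **EGA IV 9.7.7, affine case**: if the generic fibre of `Spec B → Spec A` (`A` a domain, `B` of
finite type) is geometrically irreducible, then the geometric fibres over a nonempty basic open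
`D(a)` are irreducible. -/
theorem core_affine2 [Algebra.FiniteType A B]
    (hgen : ∀ (Ω : Type u) [Field Ω] [Algebra A Ω], Function.Injective (algebraMap A Ω) →
      (nilradical (Ω ⊗[A] B)).IsPrime) :
    ∃ a : A, a ≠ 0 ∧ ∀ (Ω : Type u) [Field Ω] [Algebra A Ω], algebraMap A Ω a ≠ 0 →
        (nilradical (Ω ⊗[A] B)).IsPrime := by
  classical
  let K := FractionRing A
  haveI hT : (nilradical (K ⊗[A] B)).IsPrime := hgen K (IsFractionRing.injective A K)
  let incl : B →+* K ⊗[A] B :=
    (Algebra.TensorProduct.includeRight : B →ₐ[A] K ⊗[A] B).toRingHom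
  let 𝔮 : Ideal B := (nilradical (K ⊗[A] B)).comap incl
  haveI : 𝔮.IsPrime := Ideal.IsPrime.comap incl
  have hmem : ∀ x, x ∈ 𝔮 ↔ IsNilpotent ((1 : K) ⊗ₜ[A] x) := fun x => by
    rw [Ideal.mem_comap, mem_nilradical]; rfl
  obtain ⟨f, hf0, hfree, -, -, -⟩ := Groth.Agent.Lib.Helper2.GenFree.exists_freeAway A B B
  -- fibrewise nilpotency of the elements of `𝔮`
  have hnil : ∀ (Ω : Type u) [Field Ω] [Algebra A Ω], algebraMap A Ω f ≠ 0 →
      ∀ x ∈ 𝔮, IsNilpotent ((1 : Ω) ⊗ₜ[A] x) := by
    intro Ω _ _ hfΩ x hx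
    obtain ⟨n, hn⟩ := (hmem x).mp hx
    rw [Algebra.TensorProduct.tmul_pow, one_pow] at hn
    have h1 : (TensorProduct.mk A K B 1) (x ^ n) = 0 := hn
    obtain ⟨c, hc⟩ := (IsLocalizedModule.eq_zero_iff (nonZeroDivisors A)
      (TensorProduct.mk A K B 1)).mp h1
    obtain ⟨N, hN⟩ := exists_pow_smul_eq_zero_of_freeAway hfree (x ^ n) (c : A)
      (nonZeroDivisors.ne_zero c.2) hc
    refine ⟨n, ?_⟩
    rw [Algebra.TensorProduct.tmul_pow, one_pow]
    have h2 : ((algebraMap A Ω f) ^ N) ⊗ₜ[A] (x ^ n) = (0 : Ω ⊗[A] B) := by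
      rw [← map_pow, Algebra.algebraMap_eq_smul_one, TensorProduct.smul_tmul, hN,
        TensorProduct.tmul_zero]
    have h3 : (1 : Ω) ⊗ₜ[A] (x ^ n) =
        (((algebraMap A Ω f) ^ N)⁻¹ ⊗ₜ[A] (1 : B)) * (((algebraMap A Ω f) ^ N) ⊗ₜ[A] (x ^ n)) := by
      rw [Algebra.TensorProduct.tmul_mul_tmul, one_mul, inv_mul_cancel₀ (pow_ne_zero N hfΩ)]
    rw [h3, h2, mul_zero]
  -- the reduced domain quotient
  let g : B →ₐ[A] B ⧸ 𝔮 := Ideal.Quotient.mkₐ A 𝔮
  have hg : Function.Surjective g := Ideal.Quotient.mkₐ_surjective A 𝔮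
  haveI : IsDomain (B ⧸ 𝔮) := Ideal.Quotient.isDomain 𝔮
  haveI : Algebra.FiniteType A (B ⧸ 𝔮) := Algebra.FiniteType.of_surjective g hg
  have hgker : ∀ x : B, g x = 0 ↔ x ∈ 𝔮 := fun x => Ideal.Quotient.eq_zero_iff_mem
  haveI : Nontrivial (K ⊗[A] B) := by
    by_contra hnt
    rw [not_nontrivial_iff_subsingleton] at hnt
    exact hT.ne_top (Ideal.eq_top_iff_one _ |>.mpr (by
      rw [mem_nilradical, Subsingleton.elim (1 : K ⊗[A] B) 0]; exact IsNilpotent.zero))
  have hinj' : Function.Injective (algebraMap A (B ⧸ 𝔮)) := by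
    rw [injective_iff_map_eq_zero]
    intro a ha
    have h1 : g (algebraMap A B a) = 0 := by rw [AlgHom.commutes]; exact ha
    obtain ⟨n, hn⟩ := (hmem _).mp ((hgker _).mp h1)
    rw [Algebra.TensorProduct.tmul_pow, one_pow, ← map_pow] at hn
    have h2 : algebraMap K (K ⊗[A] B) (algebraMap A K (a ^ n)) = 0 := by
      rw [Algebra.TensorProduct.algebraMap_apply]
      have hsw : (algebraMap A K (a ^ n)) ⊗ₜ[A] (1 : B) =
          (1 : K) ⊗ₜ[A] (algebraMap A B (a ^ n)) := by
        rw [Algebra.algebraMap_eq_smul_one, Algebra.algebraMap_eq_smul_one,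
          TensorProduct.smul_tmul]
      rw [Algebra.algebraMap_self, RingHom.id_apply, hsw]
      exact hn
    have h3 : algebraMap A K (a ^ n) = 0 :=
      (map_eq_zero_iff _ (algebraMap K (K ⊗[A] B)).injective).mp h2
    have h4 : a ^ n = 0 := (map_eq_zero_iff _ (IsFractionRing.injective A K)).mp h3
    exact IsNilpotent.eq_zero ⟨n, h4⟩
  have hgen' : ∀ (Ω : Type u) [Field Ω] [Algebra A Ω], Function.Injective (algebraMap A Ω) →
      (nilradical (Ω ⊗[A] (B ⧸ 𝔮))).IsPrime := by
    intro Ω _ _ hΩ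
    rw [isPrime_nilradical_tensor_iff_of_surjective g hg Ω ?_]
    · exact hgen Ω hΩ
    · intro x hx
      exact hnil Ω (fun h => hf0 (hΩ (h.trans (map_zero _).symm))) x ((hgker x).mp hx)
  obtain ⟨a', s', ha', hs', hcore⟩ := core_domain hinj' hgen'
  obtain ⟨f₁, hf₁, -, hfree₁, -, -⟩ := Groth.Agent.Lib.Helper2.GenFree.exists_freeAway A (B ⧸ 𝔮)
    ((B ⧸ 𝔮) ⧸ Ideal.span {s'})
  refine ⟨a' * f * f₁, mul_ne_zero (mul_ne_zero ha' hf0) hf₁, ?_⟩
  intro Ω _ _ haΩ
  rw [map_mul, map_mul] at haΩ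
  have hf₁Ω : algebraMap A Ω f₁ ≠ 0 := right_ne_zero_of_mul haΩ
  have ha'Ω : algebraMap A Ω a' ≠ 0 := left_ne_zero_of_mul (left_ne_zero_of_mul haΩ)
  have hfΩ : algebraMap A Ω f ≠ 0 := right_ne_zero_of_mul (left_ne_zero_of_mul haΩ)
  have h1 := hcore Ω ha'Ω
  -- `1 ⊗ s'` is a nonzerodivisor on the fibre
  have hnzd : ∀ m ∈ Submonoid.powers s', ∀ z : Ω ⊗[A] (B ⧸ 𝔮),
      ((1 : Ω) ⊗ₜ[A] m) * z = 0 → z = 0 := by
    rintro _ ⟨n, rfl⟩ z hz
    change ((1 : Ω) ⊗ₜ[A] (s' ^ n)) * z = 0 at hz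
    induction n with
    | zero =>
      rw [pow_zero, ← Algebra.TensorProduct.one_def, one_mul] at hz
      exact hz
    | succ n ih =>
      apply ih
      apply eq_zero_of_tmul_mul_eq_zero_of_freeAway s'
        (fun b hb => (mul_eq_zero.mp hb).resolve_left hs') hfree₁ Ω (Ne.isUnit hf₁Ω)
      rw [← mul_assoc, Algebra.TensorProduct.tmul_mul_tmul, one_mul, ← pow_succ']
      exact hz
  have hinjloc := tensor_map_injective_of_isLocalization (A := A)
    (B' := Localization.Away s') (Submonoid.powers s') Ω hnzd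
  have h2 : (nilradical (Ω ⊗[A] (B ⧸ 𝔮))).IsPrime :=
    isPrime_nilradical_of_injective _ hinjloc h1
  rw [← isPrime_nilradical_tensor_iff_of_surjective g hg Ω ?_]
  · exact h2
  · intro x hx
    exact hnil Ω hfΩ x ((hgker x).mp hx)

end coreAffine2

end Groth.Agent.Lib.Helper22.GI
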