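import Mathlib

set_option autoImplicit false
universe u
open AlgebraicGeometry CategoryTheory Limits

namespace Groth.Agent.Lib.Helper2.GeomFibre

/-- `P` descends along base changes of morphisms between spectra of fields. -/
def Descends (P : ObjectProperty Scheme.{u}) : Prop :=
  ∀ ⦃L Ω : Type u⦄ [Field L] [Field Ω] (j : Spec (.of Ω) ⟶ Spec (.of L)) ⦃W W' : Scheme.{u}⦄
    (p : W' ⟶ W) (q : W ⟶ Spec (.of L)) (q' : W' ⟶ Spec (.of Ω)), IsPullback p q' q j → P W' → P W

/-- If the base change of `f : X ⟶ Spec K` to a field `K'` is geometrically `P`, so is `f`. -/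
theorem geometrically_of_baseChange_field {P : ObjectProperty Scheme.{u}} (hP : Descends P)
    {K K' : Type u} [Field K] [Field K'] (φ : Spec (.of K') ⟶ Spec (.of K)) {X X' : Scheme.{u}}
    (f : X ⟶ Spec (.of K)) (f' : X' ⟶ Spec (.of K')) (p : X' ⟶ X)
    (h : IsPullback p f' f φ) (hf' : geometrically P f') :
    geometrically P f := by
  intro L _ y Z fst snd hZ
  -- a point of Spec L ×_K Spec K'
  haveI : Surjective φ := ⟨fun x => ⟨IsLocalRing.closedPoint K', Subsingleton.elim (α := PrimeSpectrum K) _ _⟩⟩
  haveI : Nonempty ↑(pullback y φ) := by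
    obtain ⟨t, -⟩ := (pullback.fst y φ).surjective (IsLocalRing.closedPoint L)
    exact ⟨t⟩
  obtain ⟨t⟩ := ‹Nonempty ↑(pullback y φ)›
  let Ω : Type u := (pullback y φ).residueField t
  let j : Spec (.of Ω) ⟶ pullback y φ := (pullback y φ).fromSpecResidueField t
  let j1 : Spec (.of Ω) ⟶ Spec (.of L) := j ≫ pullback.fst y φ
  let j2 : Spec (.of Ω) ⟶ Spec (.of K') := j ≫ pullback.snd y φ
  have hj : j1 ≫ y = j2 ≫ φ := by simp only [j1, j2, Category.assoc, pullback.condition]
  refine hP j1 (pullback.fst snd j1) snd (pullback.snd snd j1) (IsPullback.of_hasPullback _ _) ?_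
  have outer : IsPullback (pullback.fst snd j1 ≫ fst) (pullback.snd snd j1) f (j1 ≫ y) :=
    (IsPullback.of_hasPullback snd j1).paste_horiz hZ
  rw [hj] at outer
  let ℓ : pullback snd j1 ⟶ X' := h.lift (pullback.fst snd j1 ≫ fst) (pullback.snd snd j1 ≫ j2)
    (by rw [Category.assoc, Category.assoc, hZ.w, ← hj, pullback.condition_assoc])
  have hℓ1 : ℓ ≫ p = pullback.fst snd j1 ≫ fst := h.lift_fst _ _ _
  have hℓ2 : ℓ ≫ f' = pullback.snd snd j1 ≫ j2 := h.lift_snd _ _ _
  rw [← hℓ1] at outer
  exact hf' j2 ℓ (pullback.snd snd j1) (IsPullback.of_right outer hℓ2 h)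

/-- base change of a morphism of field spectra is surjective -/
theorem surjective_of_isPullback {L Ω : Type u} [Field L] [Field Ω] (j : Spec (.of Ω) ⟶ Spec (.of L))
    {W W' : Scheme.{u}} (p : W' ⟶ W) (q : W ⟶ Spec (.of L)) (q' : W' ⟶ Spec (.of Ω))
    (h : IsPullback p q' q j) : Surjective p := by
  haveI : Surjective j := ⟨fun x => ⟨IsLocalRing.closedPoint Ω, Subsingleton.elim (α := PrimeSpectrum L) _ _⟩⟩
  exact MorphismProperty.of_isPullback (P := @Surjective) h.flip inferInstance

theorem flat_of_isPullback {L Ω : Type u} [Field L] [Field Ω] (j : Spec (.of Ω) ⟶ Spec (.of L))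
    {W W' : Scheme.{u}} (p : W' ⟶ W) (q : W ⟶ Spec (.of L)) (q' : W' ⟶ Spec (.of Ω))
    (h : IsPullback p q' q j) : Flat p := by
  haveI : Flat j := inferInstance
  exact MorphismProperty.of_isPullback (P := @Flat) h.flip inferInstance

theorem descends_irreducibleSpace : Descends (fun X : Scheme.{u} => IrreducibleSpace X) := by
  intro L Ω _ _ j W W' p q q' h hW'
  haveI := surjective_of_isPullback j p q q' h
  haveI : IrreducibleSpace W' := hW'
  have h1 : IsIrreducible (Set.range p) := by
    rw [← Set.image_univ]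
    exact (IrreducibleSpace.isIrreducible_univ W').image _ p.continuous.continuousOn
  rw [p.surjective.range_eq] at h1
  exact (irreducibleSpace_def W).2 h1

theorem descends_connectedSpace : Descends (fun X : Scheme.{u} => ConnectedSpace X) := by
  intro L Ω _ _ j W W' p q q' h hW'
  haveI := surjective_of_isPullback j p q q' h
  haveI : ConnectedSpace W' := hW'
  have h1 : _root_.IsConnected (Set.range p) := isConnected_range p.continuous
  rw [p.surjective.range_eq] at h1
  exact connectedSpace_iff_univ.2 h1

theorem descends_isReduced : Descends (IsReduced : ObjectProperty Scheme.{u}) := by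
  intro L Ω _ _ j W W' p q q' h hW'
  haveI := surjective_of_isPullback j p q q' h
  haveI := flat_of_isPullback j p q q' h
  haveI : IsReduced W' := hW'
  refine @isReduced_of_isReduced_stalk W (fun w => ?_)
  obtain ⟨w', rfl⟩ := p.surjective w
  have hfl : (p.stalkMap w').hom.Flat := Flat.stalkMap p w'
  have hinj : Function.Injective (p.stalkMap w').hom := by
    letI := (p.stalkMap w').hom.toAlgebra
    haveI : Module.Flat (W.presheaf.stalk (p w')) (W'.presheaf.stalk w') := hfl
    haveI : IsLocalHom (algebraMap (W.presheaf.stalk (p w')) (W'.presheaf.stalk w')) :=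
      inferInstanceAs (IsLocalHom (p.stalkMap w').hom)
    haveI : Module.FaithfullyFlat (W.presheaf.stalk (p w')) (W'.presheaf.stalk w') :=
      Module.FaithfullyFlat.of_flat_of_isLocalHom
    exact FaithfulSMul.algebraMap_injective _ _
  exact isReduced_of_injective _ hinj

end Groth.Agent.Lib.Helper2.GeomFibre
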