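import Mathlib
import Groth.Agent.Lib.Helper22GI5
import Groth.Agent.S1630
import Groth.Agent.S9764

set_option autoImplicit false
set_option linter.style.haveILetI false
set_option linter.unusedSectionVars false
universe u

open AlgebraicGeometry CategoryTheory Limits TensorProduct

namespace Groth.Agent.Lib.Helper22.GI

open Groth.Agent.Lib.Helper14.GeomIrr

section T0

variable {X Y : Scheme.{u}} (f : X ⟶ Y)

/-- a fibre is geometrically irreducible as soon as all its geometric fibres are irreducible -/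
theorem geomIrr_fiber_of_forall (y : Y)
    (H : ∀ (Ω : Type u) [Field Ω] (t : Spec (.of Ω) ⟶ Y), (∀ x, t x = y) →
      IrreducibleSpace ↥(pullback f t)) :
    GeometricallyIrreducible (f.fiberToSpecResidueField y) := by
  refine ⟨fun K _ y' Z fst snd hpb => ?_⟩
  have hbig : IsPullback (fst ≫ f.fiberι y) snd f (y' ≫ Y.fromSpecResidueField y) :=
    hpb.paste_horiz (IsPullback.of_hasPullback f (Y.fromSpecResidueField y))
  have h1 : ∀ x, (y' ≫ Y.fromSpecResidueField y) x = y := by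
    intro x
    rw [Scheme.Hom.comp_apply]
    exact Scheme.fromSpecResidueField_apply _ _
  haveI := H K (y' ≫ Y.fromSpecResidueField y) h1
  exact hbig.isoPullback.hom.homeomorph.irreducibleSpace_iff.mpr inferInstance

/-- geometric fibres over a point with geometrically irreducible fibre are irreducible -/
theorem irreducibleSpace_pullback_of_geomIrr_fiber (Ω : Type u) [Field Ω]
    (t : Spec (.of Ω) ⟶ Y) (x : ↥(Spec (.of Ω)))
    (h : GeometricallyIrreducible (f.fiberToSpecResidueField (t x))) :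
    IrreducibleSpace ↥(pullback f t) := by
  obtain ⟨⟨y, φ⟩, rfl⟩ := (Scheme.SpecToEquivOfField _ _).symm.surjective t
  have hy : ((Scheme.SpecToEquivOfField Ω Y).symm ⟨y, φ⟩) x = y := by
    simp only [Scheme.SpecToEquivOfField, Equiv.coe_fn_symm_mk]
    rw [Scheme.Hom.comp_apply]
    exact Scheme.fromSpecResidueField_apply _ _
  rw [hy] at h
  simp only [Scheme.SpecToEquivOfField, Equiv.coe_fn_symm_mk]
  have hbig := IsPullback.of_hasPullback f (Spec.map φ ≫ Y.fromSpecResidueField y)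
  let p : pullback f (Spec.map φ ≫ Y.fromSpecResidueField y) ⟶ f.fiber y :=
    pullback.lift (pullback.fst _ _) (pullback.snd _ _ ≫ Spec.map φ)
      (by simp [pullback.condition])
  have hleft : IsPullback p (pullback.snd f (Spec.map φ ≫ Y.fromSpecResidueField y))
      (f.fiberToSpecResidueField y) (Spec.map φ) := by
    refine IsPullback.of_right ?_ ?_ (IsPullback.of_hasPullback f (Y.fromSpecResidueField y))
    · convert hbig
      exact pullback.lift_fst _ _ _
    · exact pullback.lift_snd _ _ _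
  exact h.geometrically_irreducibleSpace (Spec.map φ) p _ hleft

end T0

section affBase

variable {A : Type u} [CommRing A] {X : Scheme.{u}} (f : X ⟶ Spec (.of A))

/-- an affine open of a scheme locally of finite type over `Spec A` is the spectrum of a finite
type `A`-algebra -/
theorem exists_algebra_of_isAffineOpen [LocallyOfFiniteType f] (U : X.Opens) (hU : IsAffineOpen U) :
    ∃ (B : Type u) (_ : CommRing B) (_ : Algebra A B) (e : (U : Scheme.{u}) ≅ Spec (.of B)),
      Algebra.FiniteType A B ∧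
      U.ι ≫ f = e.hom ≫ Spec.map (CommRingCat.ofHom (algebraMap A B)) := by
  obtain ⟨φ, hφ⟩ := Spec.map_surjective (hU.isoSpec.inv ≫ U.ι ≫ f)
  letI : Algebra A Γ(X, U) := φ.hom.toAlgebra
  have halg : CommRingCat.ofHom (algebraMap A Γ(X, U)) = φ := rfl
  refine ⟨Γ(X, U), inferInstance, inferInstance, hU.isoSpec, ?_, ?_⟩
  · have h1 : LocallyOfFiniteType (Spec.map φ) := by
      rw [hφ]; infer_instance
    have h2 := (HasRingHomProperty.Spec_iff (P := @LocallyOfFiniteType)).mp h1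
    rw [← halg] at h2
    exact (RingHom.finiteType_algebraMap (A := A) (B := Γ(X, U))).mp h2
  · rw [halg, hφ, Iso.hom_inv_id_assoc]

/-- the part of a geometric fibre lying over an affine open is the spectrum of a tensor product -/
theorem nonempty_iso_spec_tensor {B : Type u} [CommRing B] [Algebra A B] (U : X.Opens)
    (e : (U : Scheme.{u}) ≅ Spec (.of B))
    (he : U.ι ≫ f = e.hom ≫ Spec.map (CommRingCat.ofHom (algebraMap A B)))
    (Ω : Type u) [CommRing Ω] [Algebra A Ω] :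
    Nonempty ((((pullback.fst f (Spec.map (CommRingCat.ofHom (algebraMap A Ω)))) ⁻¹ᵁ U :
      Scheme.Opens _) : Scheme.{u}) ≅ Spec (.of (Ω ⊗[A] B))) := by
  set t := Spec.map (CommRingCat.ofHom (algebraMap A Ω)) with ht
  set fst := pullback.fst f t with hfst
  have h1 : IsPullback (fst ∣_ U) (fst ⁻¹ᵁ U).ι U.ι fst := isPullback_morphismRestrict fst U
  have h2 : IsPullback (fst ∣_ U) ((fst ⁻¹ᵁ U).ι ≫ pullback.snd f t) (U.ι ≫ f) t :=
    h1.paste_vert (IsPullback.of_hasPullback f t)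
  have h3 : IsPullback ((fst ∣_ U) ≫ e.hom) ((fst ⁻¹ᵁ U).ι ≫ pullback.snd f t)
      (Spec.map (CommRingCat.ofHom (algebraMap A B))) t := by
    refine IsPullback.of_iso h2 (Iso.refl _) e (Iso.refl _) (Iso.refl _) ?_ ?_ ?_ ?_
    · simp
    · simp
    · simpa using he
    · simp
  exact ⟨h3.flip.isoPullback ≪≫ pullbackSpecIso A Ω B⟩

/-- the point of `Spec A` below a geometric point -/
theorem mem_asIdeal_geomPt_iff (Ω : Type u) [Field Ω] [Algebra A Ω]
    (z : ↥(Spec (CommRingCat.of Ω))) (a : A) :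
    a ∈ (Spec.map (CommRingCat.ofHom (algebraMap A Ω)) z).asIdeal ↔ algebraMap A Ω a = 0 := by
  have h1 : (Spec.map (CommRingCat.ofHom (algebraMap A Ω)) z).asIdeal =
      z.asIdeal.comap (algebraMap A Ω) := rfl
  have h2 : z.asIdeal = ⊥ := by
    have := z.2
    exact (Ideal.eq_bot_or_top z.asIdeal).resolve_right z.2.ne_top
  rw [h1, h2, Ideal.mem_comap, Ideal.mem_bot]

/-- `U` meets the generic fibre -/
def Good (U : X.Opens) : Prop := ∃ x ∈ U, (f x).asIdeal = ⊥

variable {f}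

theorem exists_mem_pullback_of_good {U : X.Opens} (hU : Good f U) (Ω : Type u) [Field Ω]
    [Algebra A Ω] (hinj : Function.Injective (algebraMap A Ω)) :
    ∃ z : ↥(pullback f (Spec.map (CommRingCat.ofHom (algebraMap A Ω)))),
      pullback.fst f (Spec.map (CommRingCat.ofHom (algebraMap A Ω))) z ∈ U := by
  obtain ⟨x, hxU, hx⟩ := hU
  have hne : Nonempty ↥(Spec (CommRingCat.of Ω)) := inferInstance
  obtain ⟨pt⟩ := hne
  have hpt : f x = Spec.map (CommRingCat.ofHom (algebraMap A Ω)) pt := by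
    apply PrimeSpectrum.ext
    rw [hx]
    ext a
    rw [mem_asIdeal_geomPt_iff, Ideal.mem_bot]
    exact (map_eq_zero_iff _ hinj).symm
  obtain ⟨z, hz1, -⟩ := Scheme.Pullback.exists_preimage_pullback x pt hpt
  exact ⟨z, hz1 ▸ hxU⟩

theorem good_of_mem_pullback {U : X.Opens} (Ω : Type u) [Field Ω]
    [Algebra A Ω] (hinj : Function.Injective (algebraMap A Ω))
    (z : ↥(pullback f (Spec.map (CommRingCat.ofHom (algebraMap A Ω)))))
    (hz : pullback.fst f (Spec.map (CommRingCat.ofHom (algebraMap A Ω))) z ∈ U) : Good f U := by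
  refine ⟨_, hz, ?_⟩
  have h1 : f (pullback.fst f (Spec.map (CommRingCat.ofHom (algebraMap A Ω))) z) =
      Spec.map (CommRingCat.ofHom (algebraMap A Ω))
        (pullback.snd f (Spec.map (CommRingCat.ofHom (algebraMap A Ω))) z) := by
    rw [← Scheme.Hom.comp_apply, ← Scheme.Hom.comp_apply, pullback.condition]
  rw [h1]
  ext a
  rw [mem_asIdeal_geomPt_iff, Ideal.mem_bot]
  exact map_eq_zero_iff _ hinj

section domain

variable [IsDomain A]

/-- the hypothesis that the geometric generic fibres are irreducible -/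
def GenIrr (f : X ⟶ Spec (.of A)) : Prop :=
  ∀ (Ω : Type u) [Field Ω] [Algebra A Ω], Function.Injective (algebraMap A Ω) →
    IrreducibleSpace ↥(pullback f (Spec.map (CommRingCat.ofHom (algebraMap A Ω))))

theorem exists_ne_zero_isIrreducible_of_good [LocallyOfFiniteType f] (Hη : GenIrr f)
    (U : X.Opens) (hU : IsAffineOpen U) (hg : Good f U) :
    ∃ a : A, a ≠ 0 ∧ ∀ (Ω : Type u) [Field Ω] [Algebra A Ω], algebraMap A Ω a ≠ 0 →
      IsIrreducible ((pullback.fst f (Spec.map (CommRingCat.ofHom (algebraMap A Ω)))) ⁻¹' U) := by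
  obtain ⟨B, _, _, e, hft, he⟩ := exists_algebra_of_isAffineOpen f U hU
  have hgen : ∀ (Ω : Type u) [Field Ω] [Algebra A Ω], Function.Injective (algebraMap A Ω) →
      (nilradical (Ω ⊗[A] B)).IsPrime := by
    intro Ω _ _ hinj
    haveI := Hη Ω hinj
    obtain ⟨z, hz⟩ := exists_mem_pullback_of_good hg Ω hinj
    obtain ⟨i⟩ := nonempty_iso_spec_tensor f U e he Ω
    haveI : Nonempty ↥(((pullback.fst f (Spec.map (CommRingCat.ofHom (algebraMap A Ω)))) ⁻¹ᵁ U :
        Scheme.Opens _) : Scheme.{u}) := ⟨⟨z, hz⟩⟩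
    haveI : IrreducibleSpace
        ↥(((pullback.fst f (Spec.map (CommRingCat.ofHom (algebraMap A Ω)))) ⁻¹ᵁ U :
        Scheme.Opens _) : Scheme.{u}) :=
      ((pullback.fst f (Spec.map (CommRingCat.ofHom (algebraMap A Ω)))) ⁻¹ᵁ U).ι.isOpenEmbedding.irreducibleSpace
    have h1 : IrreducibleSpace ↥(Spec (CommRingCat.of (Ω ⊗[A] B))) :=
      i.hom.homeomorph.irreducibleSpace_iff.mp inferInstance
    exact irreducibleSpace_iff.mp h1
  obtain ⟨a, ha, hcore⟩ := core_affine2 hgen
  refine ⟨a, ha, fun Ω _ _ haΩ => ?_⟩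
  obtain ⟨i⟩ := nonempty_iso_spec_tensor f U e he Ω
  have h1 : IrreducibleSpace ↥(Spec (CommRingCat.of (Ω ⊗[A] B))) :=
    irreducibleSpace_iff.mpr (hcore Ω haΩ)
  have h2 : IrreducibleSpace
      ↥(((pullback.fst f (Spec.map (CommRingCat.ofHom (algebraMap A Ω)))) ⁻¹ᵁ U :
        Scheme.Opens _) : Scheme.{u}) :=
    i.hom.homeomorph.irreducibleSpace_iff.mpr h1
  exact isIrreducible_iff_irreducibleSpace.mpr h2

theorem exists_ne_zero_mem_of_not_good [LocallyOfFiniteType f]
    (U : X.Opens) (hU : IsAffineOpen U) (hg : ¬ Good f U) :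
    ∃ a : A, a ≠ 0 ∧ ∀ x ∈ U, a ∈ (f x).asIdeal := by
  obtain ⟨B, _, _, e, hft, he⟩ := exists_algebra_of_isAffineOpen f U hU
  have hpt : ∀ (x' : ↥(U : Scheme.{u})), f (U.ι x') =
      Spec.map (CommRingCat.ofHom (algebraMap A B)) (e.hom x') := by
    intro x'
    rw [← Scheme.Hom.comp_apply, he, Scheme.Hom.comp_apply]
  have hninj : ¬ Function.Injective (algebraMap A B) := by
    intro hinj
    apply hg
    have hmin : (⊥ : Ideal A) ∈ ((⊥ : Ideal B).comap (algebraMap A B)).minimalPrimes := by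
      have : (⊥ : Ideal B).comap (algebraMap A B) = ⊥ := by
        rw [← RingHom.ker_eq_comap_bot]
        exact (RingHom.injective_iff_ker_eq_bot _).mp hinj
      rw [this]
      exact ⟨⟨Ideal.isPrime_bot, le_rfl⟩, fun _ _ _ => bot_le⟩
    obtain ⟨p', hp', -, hcomap⟩ := Ideal.exists_comap_eq_of_mem_minimalPrimes (algebraMap A B) ⊥ hmin
    let y : ↥(Spec (CommRingCat.of B)) := (⟨p', hp'⟩ : PrimeSpectrum B)
    refine ⟨U.ι (e.inv y), (e.inv y).2, ?_⟩
    have h1 : f (U.ι (e.inv y)) = Spec.map (CommRingCat.ofHom (algebraMap A B)) y := by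
      rw [← Scheme.Hom.comp_apply, he, Scheme.Hom.comp_apply, ← Scheme.Hom.comp_apply e.inv,
        e.inv_hom_id]
      rfl
    rw [h1]
    exact hcomap
  obtain ⟨a, ha0, ha⟩ : ∃ a : A, algebraMap A B a = 0 ∧ a ≠ 0 := by
    rw [injective_iff_map_eq_zero] at hninj
    push Not at hninj
    exact hninj
  refine ⟨a, ha, fun x hx => ?_⟩
  have h2 : f x = Spec.map (CommRingCat.ofHom (algebraMap A B))
      (e.hom (⟨x, hx⟩ : ↥(U : Scheme.{u}))) := hpt ⟨x, hx⟩
  rw [h2]
  show a ∈ Ideal.comap (algebraMap A B) _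
  rw [Ideal.mem_comap, ha0]
  exact Ideal.zero_mem _

theorem exists_good_affine_le_inf (Hη : GenIrr f) {U₁ U₂ : X.Opens} (h₁ : Good f U₁)
    (h₂ : Good f U₂) : ∃ W : X.Opens, IsAffineOpen W ∧ W ≤ U₁ ⊓ U₂ ∧ Good f W := by
  have hinj : Function.Injective (algebraMap A (FractionRing A)) :=
    IsFractionRing.injective A (FractionRing A)
  haveI := Hη (FractionRing A) hinj
  obtain ⟨z₁, hz₁⟩ := exists_mem_pullback_of_good h₁ (FractionRing A) hinj
  obtain ⟨z₂, hz₂⟩ := exists_mem_pullback_of_good h₂ (FractionRing A) hinj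
  set fst := pullback.fst f (Spec.map (CommRingCat.ofHom (algebraMap A (FractionRing A))))
    with hfst
  obtain ⟨z, hz⟩ := nonempty_preirreducible_inter (s := fst ⁻¹' U₁) (t := fst ⁻¹' U₂)
    (U₁.2.preimage fst.continuous) (U₂.2.preimage fst.continuous) ⟨z₁, hz₁⟩ ⟨z₂, hz₂⟩
  obtain ⟨W, hW, hzW, hWU⟩ := (TopologicalSpace.Opens.isBasis_iff_nbhd.mp X.isBasis_affineOpens)
    (show fst z ∈ U₁ ⊓ U₂ from hz)
  exact ⟨W, hW, hWU, good_of_mem_pullback (FractionRing A) hinj z hzW⟩

/-- **EGA IV 9.7.7 over an affine integral base**: if the geometric generic fibres are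
irreducible, all geometric fibres over a nonempty basic open are irreducible -/
theorem exists_ne_zero_forall_irreducibleSpace [LocallyOfFiniteType f] [QuasiCompact f]
    (Hη : GenIrr f) :
    ∃ a : A, a ≠ 0 ∧ ∀ (Ω : Type u) [Field Ω] [Algebra A Ω], algebraMap A Ω a ≠ 0 →
      IrreducibleSpace ↥(pullback f (Spec.map (CommRingCat.ofHom (algebraMap A Ω)))) := by
  classical
  haveI : CompactSpace X := QuasiCompact.compactSpace_of_compactSpace f
  obtain ⟨s, hs, hcov⟩ := (isCompact_iff_finite_and_eq_biUnion_affineOpens (U := (⊤ : X.Opens))).mp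
    (by simpa using isCompact_univ)
  let T : Finset X.affineOpens := hs.toFinset
  have hcovT : ∀ x : X, ∃ U ∈ T, x ∈ (U : X.Opens) := by
    intro x
    have hx : x ∈ (⊤ : X.Opens) := trivial
    rw [hcov] at hx
    simp only [TopologicalSpace.Opens.mem_iSup] at hx
    obtain ⟨U, hU, hxU⟩ := hx
    exact ⟨U, hs.mem_toFinset.mpr hU, hxU⟩
  -- the elements attached to single opens
  have h1 : ∀ U : X.affineOpens, ∃ a : A, a ≠ 0 ∧
      (Good f U → ∀ (Ω : Type u) [Field Ω] [Algebra A Ω], algebraMap A Ω a ≠ 0 →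
        IsIrreducible ((pullback.fst f (Spec.map (CommRingCat.ofHom (algebraMap A Ω)))) ⁻¹'
          (U : X.Opens))) ∧
      (¬ Good f U → ∀ x ∈ (U : X.Opens), a ∈ (f x).asIdeal) := by
    intro U
    by_cases hg : Good f U
    · obtain ⟨a, ha, h⟩ := exists_ne_zero_isIrreducible_of_good Hη U U.2 hg
      exact ⟨a, ha, fun _ => h, fun h' => absurd hg h'⟩
    · obtain ⟨a, ha, h⟩ := exists_ne_zero_mem_of_not_good (f := f) U U.2 hg
      exact ⟨a, ha, fun h' => absurd h' hg, fun _ => h⟩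
  choose a₁ ha₁ hgood hbad using h1
  -- the elements attached to pairs
  have h2 : ∀ U₁ U₂ : X.affineOpens, ∃ a : A, a ≠ 0 ∧
      (Good f U₁ → Good f U₂ → ∀ (Ω : Type u) [Field Ω] [Algebra A Ω], algebraMap A Ω a ≠ 0 →
        (((pullback.fst f (Spec.map (CommRingCat.ofHom (algebraMap A Ω)))) ⁻¹' (U₁ : X.Opens)) ∩
          ((pullback.fst f (Spec.map (CommRingCat.ofHom (algebraMap A Ω)))) ⁻¹'
            (U₂ : X.Opens))).Nonempty) := by
    intro U₁ U₂
    by_cases hg : Good f U₁ ∧ Good f U₂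
    · obtain ⟨W, hW, hWU, hWg⟩ := exists_good_affine_le_inf Hη hg.1 hg.2
      obtain ⟨a, ha, h⟩ := exists_ne_zero_isIrreducible_of_good Hη W hW hWg
      refine ⟨a, ha, fun _ _ Ω _ _ haΩ => ?_⟩
      obtain ⟨z, hz⟩ := (h Ω haΩ).nonempty
      exact ⟨z, (hWU hz).1, (hWU hz).2⟩
    · exact ⟨1, one_ne_zero, fun h₁ h₂ => absurd ⟨h₁, h₂⟩ hg⟩
  choose a₂ ha₂ hpair using h2
  refine ⟨(∏ U ∈ T, a₁ U) * ∏ U₁ ∈ T, ∏ U₂ ∈ T, a₂ U₁ U₂, ?_, ?_⟩
  · refine mul_ne_zero (Finset.prod_ne_zero_iff.mpr fun U _ => ha₁ U)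
      (Finset.prod_ne_zero_iff.mpr fun U₁ _ => Finset.prod_ne_zero_iff.mpr fun U₂ _ => ha₂ U₁ U₂)
  intro Ω _ _ haΩ
  have hΩ₁ : ∀ U ∈ T, algebraMap A Ω (a₁ U) ≠ 0 := by
    intro U hU h0
    apply haΩ
    rw [map_mul, map_prod, Finset.prod_eq_zero hU h0, zero_mul]
  have hΩ₂ : ∀ U₁ ∈ T, ∀ U₂ ∈ T, algebraMap A Ω (a₂ U₁ U₂) ≠ 0 := by
    intro U₁ hU₁ U₂ hU₂ h0
    apply haΩ
    have hz : algebraMap A Ω (∏ U₁ ∈ T, ∏ U₂ ∈ T, a₂ U₁ U₂) = 0 := by
      rw [map_prod]
      refine Finset.prod_eq_zero hU₁ ?_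
      rw [map_prod]
      exact Finset.prod_eq_zero hU₂ h0
    rw [map_mul, hz, mul_zero]
  set t := Spec.map (CommRingCat.ofHom (algebraMap A Ω)) with ht
  set fst := pullback.fst f t with hfst
  -- points of the fibre lie over good opens
  have hfz : ∀ z : ↥(pullback f t), ∀ a : A, a ∈ (f (fst z)).asIdeal → algebraMap A Ω a = 0 := by
    intro z a ha
    have h1 : f (fst z) = t (pullback.snd f t z) := by
      rw [← Scheme.Hom.comp_apply, ← Scheme.Hom.comp_apply, pullback.condition]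
    rw [h1] at ha
    exact (mem_asIdeal_geomPt_iff Ω _ a).mp ha
  have hcovz : ∀ z : ↥(pullback f t), ∃ U : {U : X.affineOpens // U ∈ T ∧ Good f U},
      z ∈ fst ⁻¹' ((U : X.affineOpens) : X.Opens) := by
    intro z
    obtain ⟨U, hUT, hzU⟩ := hcovT (fst z)
    by_cases hg : Good f U
    · exact ⟨⟨U, hUT, hg⟩, hzU⟩
    · exact absurd (hfz z _ (hbad U hg _ hzU)) (hΩ₁ U hUT)
  -- the index set is nonempty
  have hne : Nonempty {U : X.affineOpens // U ∈ T ∧ Good f U} := by
    have hinj : Function.Injective (algebraMap A (FractionRing A)) :=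
      IsFractionRing.injective A (FractionRing A)
    haveI := Hη (FractionRing A) hinj
    obtain ⟨z⟩ : Nonempty ↥(pullback f (Spec.map (CommRingCat.ofHom
      (algebraMap A (FractionRing A))))) := inferInstance
    obtain ⟨U, hUT, hzU⟩ := hcovT (pullback.fst f _ z)
    exact ⟨⟨U, hUT, good_of_mem_pullback (FractionRing A) hinj z hzU⟩⟩
  exact Groth.Agent.S1630.irreducibleSpace_of_cover
    (fun U : {U : X.affineOpens // U ∈ T ∧ Good f U} => fst ⁻¹' ((U : X.affineOpens) : X.Opens))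
    (fun U => ((U : X.affineOpens) : X.Opens).2.preimage fst.continuous)
    hcovz
    (fun U => hgood U U.2.2 Ω (hΩ₁ U U.2.1))
    (fun U₁ U₂ => hpair U₁ U₂ U₁.2.2 U₂.2.2 Ω (hΩ₂ U₁ U₁.2.1 U₂ U₂.2.1))

/-- fibre form of `exists_ne_zero_forall_irreducibleSpace` -/
theorem exists_ne_zero_forall_geomIrr_fiber [LocallyOfFiniteType f] [QuasiCompact f]
    (η₀ : ↥(Spec (CommRingCat.of A))) (hη₀ : η₀.asIdeal = ⊥)
    (h : GeometricallyIrreducible (f.fiberToSpecResidueField η₀)) :
    ∃ a : A, a ≠ 0 ∧ ∀ y : ↥(Spec (CommRingCat.of A)), a ∉ y.asIdeal →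
      GeometricallyIrreducible (f.fiberToSpecResidueField y) := by
  have Hη : GenIrr f := by
    intro Ω _ _ hinj
    obtain ⟨pt⟩ : Nonempty ↥(Spec (CommRingCat.of Ω)) := inferInstance
    have hpt : Spec.map (CommRingCat.ofHom (algebraMap A Ω)) pt = η₀ := by
      apply PrimeSpectrum.ext
      rw [hη₀]
      ext a
      rw [mem_asIdeal_geomPt_iff, Ideal.mem_bot]
      exact map_eq_zero_iff _ hinj
    exact irreducibleSpace_pullback_of_geomIrr_fiber f Ω _ pt (hpt ▸ h)
  obtain ⟨a, ha, hcore⟩ := exists_ne_zero_forall_irreducibleSpace Hη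
  refine ⟨a, ha, fun y hy => geomIrr_fiber_of_forall f y fun Ω _ t ht => ?_⟩
  obtain ⟨ψ, rfl⟩ := Spec.map_surjective t
  letI : Algebra A Ω := ψ.hom.toAlgebra
  have halg : CommRingCat.ofHom (algebraMap A Ω) = ψ := rfl
  rw [← halg]
  apply hcore Ω
  intro h0
  obtain ⟨pt⟩ : Nonempty ↥(Spec (CommRingCat.of Ω)) := inferInstance
  apply hy
  rw [← ht pt, ← halg]
  exact (mem_asIdeal_geomPt_iff Ω pt a).mpr h0

end domain

end affBase

end Groth.Agent.Lib.Helper22.GI
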