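import Mathlib
import Groth.Agent.Lib.Helper22GI5
import Groth.Agent.S1630
import Groth.Agent.S9764
import Groth.Agent.Lib.Helper22GI6

set_option autoImplicit false
set_option linter.style.haveILetI false
set_option linter.unusedSectionVars false
universe u

open AlgebraicGeometry CategoryTheory Limits TensorProduct

namespace Groth.Agent.Lib.Helper22.GI

section general

variable {X Y : Scheme.{u}} (f : X ⟶ Y)

/-- geometric irreducibility of `f ∣_ V` from the fibres over `V` -/
theorem geomIrr_morphismRestrict_of_forall (V : Y.Opens)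
    (h : ∀ y ∈ V, GeometricallyIrreducible (f.fiberToSpecResidueField y)) :
    GeometricallyIrreducible (f ∣_ V) := by
  rw [GeometricallyIrreducible.iff_geometricallyIrreducible_fiber]
  intro v
  have hpb : IsPullback (f ⁻¹ᵁ V).ι (f ∣_ V) f V.ι := (isPullback_morphismRestrict f V).flip
  have := Groth.Agent.S9764.result f V.ι (f ∣_ V) (f ⁻¹ᵁ V).ι hpb
  have hv : v ∈ {y' : ↥(V : Scheme.{u}) |
      GeometricallyIrreducible ((f ∣_ V).fiberToSpecResidueField y')} := by
    rw [this]
    exact h _ v.2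
  exact hv

/-- **EGA IV 9.7.7** (irreducible case, generic step): if the generic fibre of a quasi-compact
morphism locally of finite type to an irreducible scheme is geometrically irreducible, so are the
fibres over a nonempty open. -/
theorem exists_open_forall_geomIrr_fiber [IrreducibleSpace ↑Y] [LocallyOfFiniteType f]
    [QuasiCompact f]
    (h : GeometricallyIrreducible (f.fiberToSpecResidueField (genericPoint ↑Y))) :
    ∃ V : Y.Opens, (V : Set ↑Y).Nonempty ∧
      ∀ y ∈ V, GeometricallyIrreducible (f.fiberToSpecResidueField y) := by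
  obtain ⟨y₀⟩ : Nonempty ↑Y := inferInstance
  obtain ⟨W, hW, hy₀W, -⟩ := (TopologicalSpace.Opens.isBasis_iff_nbhd.mp Y.isBasis_affineOpens)
    (show y₀ ∈ (⊤ : Y.Opens) from trivial)
  haveI : Nonempty ↥(W : Scheme.{u}) := ⟨⟨y₀, hy₀W⟩⟩
  haveI : IrreducibleSpace ↥(W : Scheme.{u}) :=
    (Scheme.Opens.ι W).isOpenEmbedding.irreducibleSpace
  haveI hirrR : IrreducibleSpace ↥(Spec Γ(Y, W)) :=
    hW.isoSpec.hom.homeomorph.irreducibleSpace_iff.mp inferInstance
  haveI hnil : (nilradical Γ(Y, W)).IsPrime :=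
    PrimeSpectrum.irreducibleSpace_iff_isPrime_nilradical.mp hirrR
  haveI : IsDomain (Γ(Y, W) ⧸ nilradical Γ(Y, W)) := Ideal.Quotient.isDomain _
  set q : Γ(Y, W) →+* (Γ(Y, W) ⧸ nilradical Γ(Y, W)) := Ideal.Quotient.mk (nilradical Γ(Y, W))
    with hqdef
  have hq : Function.Surjective q := Ideal.Quotient.mk_surjective
  have hker : (⊥ : Ideal (Γ(Y, W) ⧸ nilradical Γ(Y, W))).comap q = nilradical Γ(Y, W) := by
    rw [← RingHom.ker_eq_comap_bot, Ideal.mk_ker]
  set g : Spec (.of (Γ(Y, W) ⧸ nilradical Γ(Y, W))) ⟶ Y :=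
    Spec.map (CommRingCat.ofHom q) ≫ hW.fromSpec with hg
  -- lifting points of `W`
  have hlift : ∀ (y : ↑Y) (r : Γ(Y, W)), y ∈ Y.basicOpen r →
      ∃ p' : ↥(Spec (.of (Γ(Y, W) ⧸ nilradical Γ(Y, W)))), g p' = y ∧ q r ∉ p'.asIdeal := by
    intro y r hy
    have hyW : y ∈ W := Y.basicOpen_le r hy
    obtain ⟨p, rfl⟩ : y ∈ Set.range hW.fromSpec := by rw [hW.range_fromSpec]; exact hyW
    have hpr : r ∉ p.asIdeal := by
      have : p ∈ hW.fromSpec ⁻¹ᵁ Y.basicOpen r := hy
      rw [hW.fromSpec_preimage_basicOpen] at this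
      exact this
    haveI : p.asIdeal.IsPrime := p.isPrime
    have hle : RingHom.ker q ≤ p.asIdeal := by
      rw [Ideal.mk_ker]; exact nilradical_le_prime p.asIdeal
    have hcm : (p.asIdeal.map q).comap q = p.asIdeal := by
      rw [Ideal.comap_map_of_surjective q hq, hker]
      exact sup_eq_left.mpr (nilradical_le_prime p.asIdeal)
    let p' : ↥(Spec (.of (Γ(Y, W) ⧸ nilradical Γ(Y, W)))) :=
      (⟨p.asIdeal.map q, Ideal.map_isPrime_of_surjective hq hle⟩ :
        PrimeSpectrum (Γ(Y, W) ⧸ nilradical Γ(Y, W)))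
    refine ⟨p', ?_, ?_⟩
    · have h1 : Spec.map (CommRingCat.ofHom q) p' = p := PrimeSpectrum.ext hcm
      rw [hg, Scheme.Hom.comp_apply, h1]
    · intro hmem
      apply hpr
      rw [← hcm]
      exact hmem
  -- the generic point
  let η₀ : ↥(Spec (.of (Γ(Y, W) ⧸ nilradical Γ(Y, W)))) :=
    (⟨⊥, Ideal.isPrime_bot⟩ : PrimeSpectrum (Γ(Y, W) ⧸ nilradical Γ(Y, W)))
  have hgη : g η₀ = genericPoint ↑Y := by
    have hcl : closure ({η₀} : Set ↥(Spec (.of (Γ(Y, W) ⧸ nilradical Γ(Y, W))))) = Set.univ := by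
      have := PrimeSpectrum.closure_singleton
        (⟨⊥, Ideal.isPrime_bot⟩ : PrimeSpectrum (Γ(Y, W) ⧸ nilradical Γ(Y, W)))
      have hz : PrimeSpectrum.zeroLocus
          (((⊥ : Ideal (Γ(Y, W) ⧸ nilradical Γ(Y, W))) : Set (Γ(Y, W) ⧸ nilradical Γ(Y, W)))) =
          Set.univ := by simp
      exact this.trans hz
    have h2 : Set.range g ⊆ closure {g η₀} := by
      rw [← Set.image_univ, ← hcl]
      refine (image_closure_subset_closure_image g.continuous).trans ?_
      rw [Set.image_singleton]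
    have h3 : (W : Set ↑Y) ⊆ Set.range g := by
      intro y hy
      obtain ⟨p', hp', -⟩ := hlift y 1 (by rw [Scheme.basicOpen_of_isUnit _ isUnit_one]; exact hy)
      exact ⟨p', hp'⟩
    have h4 : Dense (W : Set ↑Y) := W.2.dense ⟨y₀, hy₀W⟩
    have h1 : IsGenericPoint (g η₀) (⊤ : Set ↑Y) := by
      show closure {g η₀} = Set.univ
      apply Set.eq_univ_of_univ_subset
      rw [← h4.closure_eq]
      exact closure_minimal (h3.trans h2) isClosed_closure
    exact h1.eq (genericPoint_spec ↑Y)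
  -- base change to `Spec A`
  have hS := Groth.Agent.S9764.result f g (pullback.snd f g) (pullback.fst f g)
    (IsPullback.of_hasPullback f g)
  have hη₀ : GeometricallyIrreducible ((pullback.snd f g).fiberToSpecResidueField η₀) := by
    have : η₀ ∈ {y' | GeometricallyIrreducible ((pullback.snd f g).fiberToSpecResidueField y')} := by
      rw [hS]
      show GeometricallyIrreducible (f.fiberToSpecResidueField (g η₀))
      rw [hgη]
      exact h
    exact this
  obtain ⟨a, ha, hcore⟩ := exists_ne_zero_forall_geomIrr_fiber (f := pullback.snd f g) η₀ rfl hη₀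
  obtain ⟨r, rfl⟩ := hq a
  refine ⟨Y.basicOpen r, ?_, ?_⟩
  · refine ⟨g η₀, ?_⟩
    -- `g η₀ ∈ D(r)`
    have hr : r ∉ nilradical Γ(Y, W) := by
      intro hr
      apply ha
      exact Ideal.Quotient.eq_zero_iff_mem.mpr hr
    have h1 : Spec.map (CommRingCat.ofHom q) η₀ ∈ hW.fromSpec ⁻¹ᵁ Y.basicOpen r := by
      rw [hW.fromSpec_preimage_basicOpen]
      show r ∉ (⊥ : Ideal (Γ(Y, W) ⧸ nilradical Γ(Y, W))).comap q
      rw [hker]
      exact hr
    rw [hg, Scheme.Hom.comp_apply]
    exact h1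
  · intro y hy
    obtain ⟨p', rfl, hp'⟩ := hlift y r hy
    have : p' ∈ {y' | GeometricallyIrreducible ((pullback.snd f g).fiberToSpecResidueField y')} :=
      hcore p' hp'
    rw [hS] at this
    exact this

end general

end Groth.Agent.Lib.Helper22.GI
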