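import Mathlib
import Groth.Agent.Lib.Helper22GI7
import Groth.Agent.Lib.Helper6Chevalley

set_option autoImplicit false
set_option linter.style.haveILetI false
set_option linter.unusedSectionVars false
universe u

open AlgebraicGeometry CategoryTheory Limits TensorProduct

namespace Groth.Agent.Lib.Helper22.GI

section T0gen

variable {X Y : Scheme.{u}} (f : X ⟶ Y)

/-- a fibre is geometrically `P` as soon as all its geometric fibres are `P` -/
theorem geometrically_fiber_of_forall (P : ObjectProperty Scheme.{u}) [P.IsClosedUnderIsomorphisms]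
    (y : Y)
    (H : ∀ (Ω : Type u) [Field Ω] (t : Spec (.of Ω) ⟶ Y), (∀ x, t x = y) → P (pullback f t)) :
    geometrically P (f.fiberToSpecResidueField y) := by
  intro K _ y' Z fst snd hpb
  have hbig : IsPullback (fst ≫ f.fiberι y) snd f (y' ≫ Y.fromSpecResidueField y) :=
    hpb.paste_horiz (IsPullback.of_hasPullback f (Y.fromSpecResidueField y))
  have h1 : ∀ x, (y' ≫ Y.fromSpecResidueField y) x = y := by
    intro x
    rw [Scheme.Hom.comp_apply]
    exact Scheme.fromSpecResidueField_apply _ _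
  exact P.prop_of_iso hbig.isoPullback.symm (H K (y' ≫ Y.fromSpecResidueField y) h1)

/-- geometric fibres over a point with geometrically `P` fibre are `P` -/
theorem prop_pullback_of_geometrically_fiber (P : ObjectProperty Scheme.{u}) (Ω : Type u) [Field Ω]
    (t : Spec (.of Ω) ⟶ Y) (x : ↥(Spec (.of Ω)))
    (h : geometrically P (f.fiberToSpecResidueField (t x))) :
    P (pullback f t) := by
  obtain ⟨⟨y, φ⟩, rfl⟩ := (Scheme.SpecToEquivOfField _ _).symm.surjective t
  have hy : ((Scheme.SpecToEquivOfField Ω Y).symm ⟨y, φ⟩) x = y := by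
    simp only [Scheme.SpecToEquivOfField, Equiv.coe_fn_symm_mk]
    rw [Scheme.Hom.comp_apply]
    exact Scheme.fromSpecResidueField_apply _ _
  rw [hy] at h
  simp only [Scheme.SpecToEquivOfField, Equiv.coe_fn_symm_mk]
  have hbig := IsPullback.of_hasPullback f (Spec.map φ ≫ Y.fromSpecResidueField y)
  let p : pullback f (Spec.map φ ≫ Y.fromSpecResidueField y) ⟶ f.fiber y :=
    pullback.lift (pullback.fst _ _) (pullback.snd _ _ ≫ Spec.map φ)
      (by simp [pullback.condition])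
  have hleft : IsPullback p (pullback.snd f (Spec.map φ ≫ Y.fromSpecResidueField y))
      (f.fiberToSpecResidueField y) (Spec.map φ) := by
    refine IsPullback.of_right ?_ ?_ (IsPullback.of_hasPullback f (Y.fromSpecResidueField y))
    · convert hbig
      exact pullback.lift_fst _ _ _
    · exact pullback.lift_snd _ _ _
  exact h (Spec.map φ) p _ hleft

theorem geomConn_fiber_of_forall (y : Y)
    (H : ∀ (Ω : Type u) [Field Ω] (t : Spec (.of Ω) ⟶ Y), (∀ x, t x = y) →
      ConnectedSpace ↥(pullback f t)) :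
    GeometricallyConnected (f.fiberToSpecResidueField y) :=
  ⟨geometrically_fiber_of_forall f (ConnectedSpace ·) y H⟩

theorem connectedSpace_pullback_of_geomConn_fiber (Ω : Type u) [Field Ω]
    (t : Spec (.of Ω) ⟶ Y) (x : ↥(Spec (.of Ω)))
    (h : GeometricallyConnected (f.fiberToSpecResidueField (t x))) :
    ConnectedSpace ↥(pullback f t) :=
  prop_pullback_of_geometrically_fiber f (ConnectedSpace ·) Ω t x h.geometrically_connectedSpace

end T0gen

section isoCompat

variable {A : Type u} [CommRing A] {X : Scheme.{u}} (f : X ⟶ Spec (.of A))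

/-- the part of a geometric fibre lying over an affine open is the spectrum of a tensor product,
compatibly with the projection to the affine open -/
theorem exists_iso_spec_tensor {B : Type u} [CommRing B] [Algebra A B] (U : X.Opens)
    (e : (U : Scheme.{u}) ≅ Spec (.of B))
    (he : U.ι ≫ f = e.hom ≫ Spec.map (CommRingCat.ofHom (algebraMap A B)))
    (Ω : Type u) [CommRing Ω] [Algebra A Ω] :
    ∃ i : (((pullback.fst f (Spec.map (CommRingCat.ofHom (algebraMap A Ω)))) ⁻¹ᵁ U :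
      Scheme.Opens _) : Scheme.{u}) ≅ Spec (.of (Ω ⊗[A] B)),
      i.inv ≫ ((pullback.fst f (Spec.map (CommRingCat.ofHom (algebraMap A Ω)))) ∣_ U) ≫ e.hom =
        Spec.map (CommRingCat.ofHom
          (Algebra.TensorProduct.includeRight : B →ₐ[A] Ω ⊗[A] B).toRingHom) := by
  set t := Spec.map (CommRingCat.ofHom (algebraMap A Ω)) with ht
  set fst := pullback.fst f t with hfst
  have h1 : IsPullback (fst ∣_ U) (fst ⁻¹ᵁ U).ι U.ι fst := isPullback_morphismRestrict fst U
  have h2 : IsPullback (fst ∣_ U) ((fst ⁻¹ᵁ U).ι ≫ pullback.snd f t) (U.ι ≫ f) t :=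
    h1.paste_vert (IsPullback.of_hasPullback f t)
  have h3 : IsPullback ((fst ∣_ U) ≫ e.hom) ((fst ⁻¹ᵁ U).ι ≫ pullback.snd f t)
      (Spec.map (CommRingCat.ofHom (algebraMap A B))) t := by
    refine IsPullback.of_iso h2 (Iso.refl _) e (Iso.refl _) (Iso.refl _) ?_ ?_ ?_ ?_
    · simp
    · simp
    · simpa using he
    · simp
  refine ⟨h3.flip.isoPullback ≪≫ pullbackSpecIso A Ω B, ?_⟩
  rw [Iso.trans_inv, Category.assoc, IsPullback.isoPullback_inv_snd, pullbackSpecIso_inv_snd]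
  rfl

end isoCompat

section nil

variable {A B : Type u} [CommRing A] [IsDomain A] [CommRing B] [Algebra A B]

/-- generic nilpotents stay nilpotent on the fibres over a nonempty open -/
theorem exists_ne_zero_forall_isNilpotent [Algebra.FiniteType A B] :
    ∃ f : A, f ≠ 0 ∧ ∀ (Ω : Type u) [Field Ω] [Algebra A Ω], algebraMap A Ω f ≠ 0 →
      ∀ x : B, IsNilpotent ((1 : FractionRing A) ⊗ₜ[A] x) → IsNilpotent ((1 : Ω) ⊗ₜ[A] x) := by
  obtain ⟨f, hf0, hfree, -, -, -⟩ := Groth.Agent.Lib.Helper2.GenFree.exists_freeAway A B B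
  refine ⟨f, hf0, ?_⟩
  intro Ω _ _ hfΩ x hx
  obtain ⟨n, hn⟩ := hx
  rw [Algebra.TensorProduct.tmul_pow, one_pow] at hn
  have h1 : (TensorProduct.mk A (FractionRing A) B 1) (x ^ n) = 0 := hn
  obtain ⟨c, hc⟩ := (IsLocalizedModule.eq_zero_iff (nonZeroDivisors A)
    (TensorProduct.mk A (FractionRing A) B 1)).mp h1
  obtain ⟨N, hN⟩ := exists_pow_smul_eq_zero_of_freeAway hfree (x ^ n) (c : A)
    (nonZeroDivisors.ne_zero c.2) hc
  refine ⟨n, ?_⟩
  rw [Algebra.TensorProduct.tmul_pow, one_pow]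
  have h2 : ((algebraMap A Ω f) ^ N) ⊗ₜ[A] (x ^ n) = (0 : Ω ⊗[A] B) := by
    rw [← map_pow, Algebra.algebraMap_eq_smul_one, TensorProduct.smul_tmul, hN,
      TensorProduct.tmul_zero]
  have h3 : (1 : Ω) ⊗ₜ[A] (x ^ n) =
      (((algebraMap A Ω f) ^ N)⁻¹ ⊗ₜ[A] (1 : B)) * (((algebraMap A Ω f) ^ N) ⊗ₜ[A] (x ^ n)) := by
    rw [Algebra.TensorProduct.tmul_mul_tmul, one_mul, inv_mul_cancel₀ (pow_ne_zero N hfΩ)]
  rw [h3, h2, mul_zero]

end nil

section closedPB

variable {Z X Y S : Scheme.{u}}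

/-- irreducibility of the base change of a closed subscheme, in terms of preimages -/
theorem irreducibleSpace_pullback_comp_iff (ι : Z ⟶ X) [IsClosedImmersion ι] (f : X ⟶ Y)
    (t : S ⟶ Y) :
    IrreducibleSpace ↥(pullback (ι ≫ f) t) ↔
      IsIrreducible ((pullback.fst f t) ⁻¹' (Set.range ι)) := by
  rw [← (pullbackRightPullbackFstIso f t ι).hom.homeomorph.irreducibleSpace_iff,
    ← Scheme.Pullback.range_snd, isIrreducible_iff_irreducibleSpace]
  exact (pullback.snd ι (pullback.fst f t)).isEmbedding.toHomeomorph.irreducibleSpace_iff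

end closedPB

theorem exists_isClosedImmersion_range_eq {X : Scheme.{u}} (C : Set X) (hC : IsClosed C) :
    ∃ (Z : Scheme.{u}) (ι : Z ⟶ X), IsClosedImmersion ι ∧ Set.range ι = C := by
  refine ⟨_, (Scheme.IdealSheafData.vanishingIdeal ⟨C, hC⟩).subschemeι, inferInstance, ?_⟩
  rw [Scheme.IdealSheafData.range_subschemeι, Scheme.IdealSheafData.coe_support_vanishingIdeal]
  rfl

section thmC

variable {A : Type u} [CommRing A] [IsDomain A] {X : Scheme.{u}} {f : X ⟶ Spec (.of A)}

/-- C1: irreducibility of the geometric fibres of a closed subset spreads from the generic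
geometric fibres to a nonempty open -/
theorem exists_ne_zero_isIrreducible_preimage_of_isClosed [LocallyOfFiniteType f] [QuasiCompact f]
    (C : Set X) (hC : IsClosed C)
    (H : ∀ (Ω : Type u) [Field Ω] [Algebra A Ω], Function.Injective (algebraMap A Ω) →
      IsIrreducible ((pullback.fst f (Spec.map (CommRingCat.ofHom (algebraMap A Ω)))) ⁻¹' C)) :
    ∃ a : A, a ≠ 0 ∧ ∀ (Ω : Type u) [Field Ω] [Algebra A Ω], algebraMap A Ω a ≠ 0 →
      IsIrreducible ((pullback.fst f (Spec.map (CommRingCat.ofHom (algebraMap A Ω)))) ⁻¹' C) := by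
  obtain ⟨Z, ι, hι, hr⟩ := exists_isClosedImmersion_range_eq C hC
  have Hη : GenIrr (ι ≫ f) := fun Ω _ _ hinj =>
    (irreducibleSpace_pullback_comp_iff ι f _).mpr (hr ▸ H Ω hinj)
  obtain ⟨a, ha, h⟩ := exists_ne_zero_forall_irreducibleSpace Hη
  exact ⟨a, ha, fun Ω _ _ haΩ => hr ▸ (irreducibleSpace_pullback_comp_iff ι f _).mp (h Ω haΩ)⟩

/-- C4: nonemptiness of the geometric fibres of a closed subset meeting the generic fibre -/
theorem exists_ne_zero_nonempty_preimage [LocallyOfFiniteType f] (C : Set X) (hC : IsClosed C)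
    (hne : ∃ x ∈ C, (f x).asIdeal = ⊥) :
    ∃ a : A, a ≠ 0 ∧ ∀ (Ω : Type u) [Field Ω] [Algebra A Ω], algebraMap A Ω a ≠ 0 →
      ((pullback.fst f (Spec.map (CommRingCat.ofHom (algebraMap A Ω)))) ⁻¹' C).Nonempty := by
  obtain ⟨Z, ι, hι, hr⟩ := exists_isClosedImmersion_range_eq C hC
  obtain ⟨x, hxC, hx⟩ := hne
  have hgen : genericPoint ↥(Spec (CommRingCat.of A)) = f x := by
    rw [genericPoint_eq_bot_of_affine]
    exact PrimeSpectrum.ext hx.symm
  obtain ⟨c, rfl⟩ : x ∈ Set.range ι := hr ▸ hxC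
  have hmem : genericPoint ↥(Spec (CommRingCat.of A)) ∈ Set.range (ι ≫ f).base :=
    ⟨c, by rw [hgen]; rfl⟩
  have hint := Groth.Agent.Lib.Helper6.genericPoint_mem_interior_range_of_locallyOfFiniteType
    (ι ≫ f) hmem
  obtain ⟨_, ⟨a, rfl⟩, haη, hasub⟩ :=
    PrimeSpectrum.isTopologicalBasis_basic_opens.exists_subset_of_mem_open hint isOpen_interior
  have ha0 : a ≠ 0 := by
    rintro rfl
    rw [genericPoint_eq_bot_of_affine] at haη
    exact haη (Ideal.zero_mem _)
  refine ⟨a, ha0, fun Ω _ _ haΩ => ?_⟩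
  obtain ⟨pt⟩ : Nonempty ↥(Spec (CommRingCat.of Ω)) := inferInstance
  have hy : Spec.map (CommRingCat.ofHom (algebraMap A Ω)) pt ∈
      (PrimeSpectrum.basicOpen a : Set (PrimeSpectrum A)) := by
    show a ∉ (Spec.map (CommRingCat.ofHom (algebraMap A Ω)) pt).asIdeal
    rw [mem_asIdeal_geomPt_iff]
    exact haΩ
  obtain ⟨c', hc'⟩ := interior_subset (hasub hy)
  have hc'' : f (ι c') = Spec.map (CommRingCat.ofHom (algebraMap A Ω)) pt := hc'
  obtain ⟨z, hz1, -⟩ := Scheme.Pullback.exists_preimage_pullback (ι c') pt hc''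
  exact ⟨z, by rw [Set.mem_preimage, hz1, ← hr]; exact ⟨c', rfl⟩⟩

/-- C2, single affine open: over a nonempty open of the base, the part of the geometric fibres
lying over an affine open `U` is contained in any closed set containing the generic fibre -/
theorem exists_ne_zero_forall_mem_of_mem_affineOpen [LocallyOfFiniteType f]
    (G : Set X) (hG : IsClosed G) (hη : ∀ x : X, (f x).asIdeal = ⊥ → x ∈ G)
    (U : X.Opens) (hU : IsAffineOpen U) :
    ∃ a : A, a ≠ 0 ∧ ∀ (Ω : Type u) [Field Ω] [Algebra A Ω], algebraMap A Ω a ≠ 0 →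
      ∀ z, pullback.fst f (Spec.map (CommRingCat.ofHom (algebraMap A Ω))) z ∈ U →
        pullback.fst f (Spec.map (CommRingCat.ofHom (algebraMap A Ω))) z ∈ G := by
  obtain ⟨B, _, _, e, hft, he⟩ := exists_algebra_of_isAffineOpen f U hU
  obtain ⟨a, ha, hnil⟩ := exists_ne_zero_forall_isNilpotent (A := A) (B := B)
  refine ⟨a, ha, fun Ω _ _ haΩ z hz => ?_⟩
  by_contra hzG
  obtain ⟨i, hi⟩ := exists_iso_spec_tensor f U e he Ω
  let fst := pullback.fst f (Spec.map (CommRingCat.ofHom (algebraMap A Ω)))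
  have hi' : i.inv ≫ (fst ∣_ U) ≫ e.hom = Spec.map (CommRingCat.ofHom
      (Algebra.TensorProduct.includeRight : B →ₐ[A] Ω ⊗[A] B).toRingHom) := hi
  let z' : ↥((fst ⁻¹ᵁ U : Scheme.Opens _) : Scheme.{u}) := ⟨z, hz⟩
  let w : ↥(Spec (CommRingCat.of (Ω ⊗[A] B))) := i.hom z'
  let u : ↥(U : Scheme.{u}) := (fst ∣_ U) z'
  have hu : U.ι u = fst z := by
    show (U.ι) ((fst ∣_ U) z') = fst z
    rw [← Scheme.Hom.comp_apply, morphismRestrict_ι, Scheme.Hom.comp_apply]
    rfl
  let p : ↥(Spec (CommRingCat.of B)) := e.hom u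
  -- `p` is the contraction of `w`
  have hpw : p = Spec.map (CommRingCat.ofHom
      (Algebra.TensorProduct.includeRight : B →ₐ[A] Ω ⊗[A] B).toRingHom) w := by
    rw [← hi']
    show e.hom ((fst ∣_ U) z') = (i.inv ≫ (fst ∣_ U) ≫ e.hom) (i.hom z')
    rw [Scheme.Hom.comp_apply, Scheme.Hom.comp_apply, ← Scheme.Hom.comp_apply i.hom i.inv,
      i.hom_inv_id]
    rfl
  -- the open set of points of `Spec B` outside `G`
  let toSpec : PrimeSpectrum B → ↥(Spec (CommRingCat.of B)) := fun q => q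
  let O : Set (PrimeSpectrum B) := {p' | U.ι (e.inv (toSpec p')) ∉ G}
  have hO : IsOpen O :=
    hG.isOpen_compl.preimage ((e.inv ≫ U.ι).continuous)
  have hpO : p ∈ O := by
    show U.ι (e.inv (e.hom u)) ∉ G
    rw [← Scheme.Hom.comp_apply e.hom e.inv, e.hom_inv_id]
    show U.ι u ∉ G
    rw [hu]
    exact hzG
  obtain ⟨_, ⟨b, rfl⟩, hpb, hbO⟩ :=
    PrimeSpectrum.isTopologicalBasis_basic_opens.exists_subset_of_mem_open hpO hO
  -- `1 ⊗ b` is nilpotent on the generic fibre
  have hbnil : IsNilpotent ((1 : FractionRing A) ⊗ₜ[A] b) := by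
    rw [← mem_nilradical, nilradical_eq_sInf, Ideal.mem_sInf]
    intro P hP
    haveI : P.IsPrime := hP
    let p' : PrimeSpectrum B := ⟨P.comap
      (Algebra.TensorProduct.includeRight : B →ₐ[A] FractionRing A ⊗[A] B).toRingHom,
      Ideal.comap_isPrime _ _⟩
    by_contra hbP
    have hp'b : p' ∈ (PrimeSpectrum.basicOpen b : Set (PrimeSpectrum B)) := hbP
    have hp'O : U.ι (e.inv (toSpec p')) ∉ G := hbO hp'b
    apply hp'O
    apply hη
    -- the image of `p'` in `Spec A` is the generic point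
    have h1 : f (U.ι (e.inv (toSpec p'))) =
        Spec.map (CommRingCat.ofHom (algebraMap A B)) (toSpec p') := by
      rw [← Scheme.Hom.comp_apply, he, Scheme.Hom.comp_apply, ← Scheme.Hom.comp_apply e.inv,
        e.inv_hom_id]
      rfl
    rw [h1]
    show (P.comap (Algebra.TensorProduct.includeRight :
      B →ₐ[A] FractionRing A ⊗[A] B).toRingHom).comap (algebraMap A B) = ⊥
    rw [eq_bot_iff]
    intro x hx
    rw [Ideal.mem_comap, Ideal.mem_comap] at hx
    rw [Ideal.mem_bot]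
    by_contra hx0
    apply hP.ne_top
    rw [Ideal.eq_top_iff_one]
    have h3 : (Algebra.TensorProduct.includeRight (R := A) (A := FractionRing A)
        (algebraMap A B x)) = (algebraMap A (FractionRing A) x) ⊗ₜ[A] (1 : B) := by
      rw [Algebra.TensorProduct.includeRight_apply, Algebra.algebraMap_eq_smul_one,
        Algebra.algebraMap_eq_smul_one, TensorProduct.smul_tmul]
    have h2 : ((algebraMap A (FractionRing A) x)⁻¹ ⊗ₜ[A] (1 : B)) *
        (Algebra.TensorProduct.includeRight (R := A) (A := FractionRing A) (algebraMap A B x)) =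
        1 := by
      rw [h3, Algebra.TensorProduct.tmul_mul_tmul, mul_one,
        inv_mul_cancel₀ ((map_ne_zero_iff _
          (IsFractionRing.injective A (FractionRing A))).mpr hx0),
        Algebra.TensorProduct.one_def]
    rw [← h2]
    exact Ideal.mul_mem_left _ _ hx
  have hbΩ : IsNilpotent ((1 : Ω) ⊗ₜ[A] b) := hnil Ω haΩ b hbnil
  apply hpb
  show b ∈ p.asIdeal
  rw [hpw]
  show b ∈ w.asIdeal.comap
    (Algebra.TensorProduct.includeRight : B →ₐ[A] Ω ⊗[A] B).toRingHom
  rw [Ideal.mem_comap]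
  haveI : w.asIdeal.IsPrime := w.isPrime
  obtain ⟨n, hn⟩ := hbΩ
  exact Ideal.IsPrime.mem_of_pow_mem inferInstance n (by
    show ((1 : Ω) ⊗ₜ[A] b) ^ n ∈ w.asIdeal
    rw [hn]; exact Ideal.zero_mem _)

/-- C2: over a nonempty open of the base, the geometric fibres lie over any closed set containing
the generic fibre -/
theorem exists_ne_zero_forall_mem_of_isClosed [LocallyOfFiniteType f] [QuasiCompact f]
    (G : Set X) (hG : IsClosed G) (hη : ∀ x : X, (f x).asIdeal = ⊥ → x ∈ G) :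
    ∃ a : A, a ≠ 0 ∧ ∀ (Ω : Type u) [Field Ω] [Algebra A Ω], algebraMap A Ω a ≠ 0 →
      ∀ z, pullback.fst f (Spec.map (CommRingCat.ofHom (algebraMap A Ω))) z ∈ G := by
  classical
  haveI : CompactSpace X := QuasiCompact.compactSpace_of_compactSpace f
  obtain ⟨s, hs, hcov⟩ := (isCompact_iff_finite_and_eq_biUnion_affineOpens (U := (⊤ : X.Opens))).mp
    (by simpa using isCompact_univ)
  let T : Finset X.affineOpens := hs.toFinset
  have hcovT : ∀ x : X, ∃ U ∈ T, x ∈ (U : X.Opens) := by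
    intro x
    have hx : x ∈ (⊤ : X.Opens) := trivial
    rw [hcov] at hx
    simp only [TopologicalSpace.Opens.mem_iSup] at hx
    obtain ⟨U, hU, hxU⟩ := hx
    exact ⟨U, hs.mem_toFinset.mpr hU, hxU⟩
  have h1 : ∀ U : X.affineOpens, ∃ a : A, a ≠ 0 ∧
      ∀ (Ω : Type u) [Field Ω] [Algebra A Ω], algebraMap A Ω a ≠ 0 →
      ∀ z, pullback.fst f (Spec.map (CommRingCat.ofHom (algebraMap A Ω))) z ∈ (U : X.Opens) →
        pullback.fst f (Spec.map (CommRingCat.ofHom (algebraMap A Ω))) z ∈ G :=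
    fun U => exists_ne_zero_forall_mem_of_mem_affineOpen G hG hη U U.2
  choose a₁ ha₁ h₁ using h1
  refine ⟨∏ U ∈ T, a₁ U, Finset.prod_ne_zero_iff.mpr fun U _ => ha₁ U, ?_⟩
  intro Ω _ _ haΩ z
  obtain ⟨U, hUT, hzU⟩ := hcovT (pullback.fst f (Spec.map (CommRingCat.ofHom (algebraMap A Ω))) z)
  refine h₁ U Ω ?_ z hzU
  intro h0
  apply haΩ
  rw [map_prod]
  exact Finset.prod_eq_zero hUT h0

/-- **Theorem C**: gluing geometrically irreducible closed pieces whose generic incidence graph is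
connected gives geometrically connected fibres over a nonempty open -/
theorem exists_ne_zero_forall_connectedSpace [LocallyOfFiniteType f] [QuasiCompact f]
    {J : Type*} [Finite J] [Nonempty J] (C : J → Set X) (hC : ∀ j, IsClosed (C j))
    (hirr : ∀ j, ∀ (Ω : Type u) [Field Ω] [Algebra A Ω], Function.Injective (algebraMap A Ω) →
      IsIrreducible ((pullback.fst f (Spec.map (CommRingCat.ofHom (algebraMap A Ω)))) ⁻¹' C j))
    (hcov : ∀ x : X, (f x).asIdeal = ⊥ → ∃ j, x ∈ C j)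
    (hgraph : ∀ j k, Relation.ReflTransGen
      (fun j k => ∃ x ∈ C j ∩ C k, (f x).asIdeal = ⊥) j k) :
    ∃ a : A, a ≠ 0 ∧ ∀ (Ω : Type u) [Field Ω] [Algebra A Ω], algebraMap A Ω a ≠ 0 →
      ConnectedSpace ↥(pullback f (Spec.map (CommRingCat.ofHom (algebraMap A Ω)))) := by
  classical
  haveI := Fintype.ofFinite J
  -- irreducibility of the pieces
  have h1 : ∀ j, ∃ a : A, a ≠ 0 ∧ ∀ (Ω : Type u) [Field Ω] [Algebra A Ω], algebraMap A Ω a ≠ 0 →
      IsIrreducible ((pullback.fst f (Spec.map (CommRingCat.ofHom (algebraMap A Ω)))) ⁻¹' C j) :=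
    fun j => exists_ne_zero_isIrreducible_preimage_of_isClosed (C j) (hC j) (hirr j)
  choose a₁ ha₁ h₁ using h1
  -- the pieces cover
  obtain ⟨a₀, ha₀, h₀⟩ := exists_ne_zero_forall_mem_of_isClosed (f := f) (⋃ j, C j)
    (isClosed_iUnion_of_finite hC) (fun x hx => Set.mem_iUnion.mpr (hcov x hx))
  -- the incidences
  have h2 : ∀ j k, ∃ a : A, a ≠ 0 ∧ ((∃ x ∈ C j ∩ C k, (f x).asIdeal = ⊥) →
      ∀ (Ω : Type u) [Field Ω] [Algebra A Ω], algebraMap A Ω a ≠ 0 →
      (((pullback.fst f (Spec.map (CommRingCat.ofHom (algebraMap A Ω)))) ⁻¹' C j) ∩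
        ((pullback.fst f (Spec.map (CommRingCat.ofHom (algebraMap A Ω)))) ⁻¹' C k)).Nonempty) := by
    intro j k
    by_cases hjk : ∃ x ∈ C j ∩ C k, (f x).asIdeal = ⊥
    · obtain ⟨a, ha, h⟩ := exists_ne_zero_nonempty_preimage (f := f) (C j ∩ C k)
        ((hC j).inter (hC k)) hjk
      exact ⟨a, ha, fun _ Ω _ _ haΩ => h Ω haΩ⟩
    · exact ⟨1, one_ne_zero, fun h => absurd h hjk⟩
  choose a₂ ha₂ h₂ using h2
  refine ⟨a₀ * (∏ j, a₁ j) * ∏ j, ∏ k, a₂ j k, ?_, ?_⟩
  · exact mul_ne_zero (mul_ne_zero ha₀ (Finset.prod_ne_zero_iff.mpr fun j _ => ha₁ j))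
      (Finset.prod_ne_zero_iff.mpr fun j _ => Finset.prod_ne_zero_iff.mpr fun k _ => ha₂ j k)
  intro Ω _ _ haΩ
  rw [map_mul, map_mul] at haΩ
  have hΩ₀ : algebraMap A Ω a₀ ≠ 0 := left_ne_zero_of_mul (left_ne_zero_of_mul haΩ)
  have hΩ₁ : ∀ j, algebraMap A Ω (a₁ j) ≠ 0 := by
    intro j h0
    apply right_ne_zero_of_mul (left_ne_zero_of_mul haΩ)
    rw [map_prod]
    exact Finset.prod_eq_zero (Finset.mem_univ j) h0
  have hΩ₂ : ∀ j k, algebraMap A Ω (a₂ j k) ≠ 0 := by
    intro j k h0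
    apply right_ne_zero_of_mul haΩ
    rw [map_prod]
    refine Finset.prod_eq_zero (Finset.mem_univ j) ?_
    rw [map_prod]
    exact Finset.prod_eq_zero (Finset.mem_univ k) h0
  set fst := pullback.fst f (Spec.map (CommRingCat.ofHom (algebraMap A Ω))) with hfst
  have hpre : _root_.IsPreconnected (⋃ j, fst ⁻¹' C j) := by
    refine _root_.IsPreconnected.iUnion_of_reflTransGen
      (fun j => (h₁ j Ω (hΩ₁ j)).isPreirreducible.isPreconnected) ?_
    intro j k
    exact Relation.ReflTransGen.mono (fun j k hjk => h₂ j k hjk Ω (hΩ₂ j k)) _ _ (hgraph j k)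
  have huniv : (⋃ j, fst ⁻¹' C j) = Set.univ := by
    rw [← Set.preimage_iUnion]
    exact Set.eq_univ_of_forall fun z => h₀ Ω hΩ₀ z
  rw [huniv] at hpre
  obtain ⟨j⟩ : Nonempty J := inferInstance
  obtain ⟨z, -⟩ := (h₁ j Ω (hΩ₁ j)).nonempty
  exact { toPreconnectedSpace := ⟨hpre⟩, toNonempty := ⟨z⟩ }

end thmC

end Groth.Agent.Lib.Helper22.GI
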