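import Mathlib
import Groth.Agent.Lib.Helper22GI8
import Groth.Agent.S1654
import Groth.Agent.S9765

set_option autoImplicit false
set_option linter.style.haveILetI false
set_option linter.unusedSectionVars false
universe u

open AlgebraicGeometry CategoryTheory Limits TensorProduct

namespace Groth.Agent.Lib.Helper22.GI

/-- a finite extension of the fraction field of a domain `A` is the fraction field of a finitely
generated `A`-subalgebra -/
theorem exists_fg_subalgebra_isFractionRing {A : Type*} [CommRing A] [IsDomain A] (L : Type*)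
    [Field L] [Algebra (FractionRing A) L] [Algebra A L] [IsScalarTower A (FractionRing A) L]
    [FiniteDimensional (FractionRing A) L] :
    ∃ S : Subalgebra A L, S.FG ∧ IsFractionRing S L := by
  classical
  let K := FractionRing A
  let b := Module.finBasis K L
  let S : Subalgebra A L := Algebra.adjoin A (Set.range b)
  have hb : ∀ i, b i ∈ S := fun i => Algebra.subset_adjoin ⟨i, rfl⟩
  refine ⟨S, Subalgebra.fg_def.mpr ⟨Set.range b, Set.finite_range b, rfl⟩, ?_⟩
  have hinj : Function.Injective (algebraMap S L) := Subtype.val_injective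
  rw [IsFractionRing, isLocalization_iff]
  refine ⟨?_, ?_, ?_⟩
  · rintro ⟨y, hy⟩
    exact IsUnit.mk0 _ ((map_ne_zero_iff _ hinj).mpr (nonZeroDivisors.ne_zero hy))
  · intro z
    obtain ⟨d, hd⟩ := IsLocalization.exist_integer_multiples (nonZeroDivisors A) Finset.univ
      (fun i => b.repr z i)
    have hd0 : (d : A) ≠ 0 := nonZeroDivisors.ne_zero d.2
    choose c hc using fun i => hd i (Finset.mem_univ i)
    have hz : (d : A) • z = ∑ i, c i • b i := by
      conv_lhs => rw [← b.sum_repr z]
      rw [Finset.smul_sum]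
      refine Finset.sum_congr rfl fun i _ => ?_
      rw [← smul_assoc, ← hc i, algebraMap_smul]
    have hmem : (d : A) • z ∈ S := by
      rw [hz]
      exact Subalgebra.sum_mem _ fun i _ => Subalgebra.smul_mem _ (hb i) _
    have hdS : algebraMap A S (d : A) ∈ nonZeroDivisors S := by
      rw [mem_nonZeroDivisors_iff_ne_zero]
      intro h0
      apply hd0
      have h1 : algebraMap A L (d : A) = 0 := by
        rw [IsScalarTower.algebraMap_apply A S L, h0, map_zero]
      have hinjAL : Function.Injective (algebraMap A L) := by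
        rw [IsScalarTower.algebraMap_eq A K L]
        exact (algebraMap K L).injective.comp (IsFractionRing.injective A K)
      exact (map_eq_zero_iff _ hinjAL).mp h1
    refine ⟨(⟨(d : A) • z, hmem⟩, ⟨algebraMap A S (d : A), hdS⟩), ?_⟩
    show z * algebraMap S L (algebraMap A S (d : A)) = (d : A) • z
    rw [← IsScalarTower.algebraMap_apply A S L, Algebra.smul_def, mul_comm]
  · intro x y hxy
    exact ⟨1, by rw [hinj hxy]⟩


/-- the incidence graph of a finite closed cover of a preconnected space by nonempty sets is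
connected -/
theorem reflTransGen_of_preconnectedSpace {α : Type*} {J : Type*} [TopologicalSpace α]
    [PreconnectedSpace α] [Finite J] (S : J → Set α) (hS : ∀ j, IsClosed (S j))
    (hne : ∀ j, (S j).Nonempty) (hcov : ∀ x, ∃ j, x ∈ S j) (j k : J) :
    Relation.ReflTransGen (fun j k => (S j ∩ S k).Nonempty) j k := by
  classical
  by_contra hk
  let J₁ : Set J := {l | Relation.ReflTransGen (fun j k => (S j ∩ S k).Nonempty) j l}
  let F₁ : Set α := ⋃ l ∈ J₁, S l
  let F₂ : Set α := ⋃ l ∈ J₁ᶜ, S l
  have hF₁ : IsClosed F₁ := (Set.toFinite J₁).isClosed_biUnion fun l _ => hS l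
  have hF₂ : IsClosed F₂ := (Set.toFinite J₁ᶜ).isClosed_biUnion fun l _ => hS l
  have hcov' : (Set.univ : Set α) ⊆ F₁ ∪ F₂ := by
    intro x _
    obtain ⟨l, hl⟩ := hcov x
    by_cases hlJ : l ∈ J₁
    · exact Or.inl (Set.mem_biUnion hlJ hl)
    · exact Or.inr (Set.mem_biUnion (show l ∈ J₁ᶜ from hlJ) hl)
  have h1 : (Set.univ ∩ F₁).Nonempty := by
    obtain ⟨x, hx⟩ := hne j
    exact ⟨x, trivial, Set.mem_biUnion (show j ∈ J₁ from Relation.ReflTransGen.refl) hx⟩
  have h2 : (Set.univ ∩ F₂).Nonempty := by
    obtain ⟨x, hx⟩ := hne k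
    exact ⟨x, trivial, Set.mem_biUnion (show k ∈ J₁ᶜ from hk) hx⟩
  obtain ⟨x, -, hx1, hx2⟩ := isPreconnected_closed_iff.mp isPreconnected_univ F₁ F₂ hF₁ hF₂ hcov' h1 h2
  simp only [F₁, F₂, Set.mem_iUnion, exists_prop] at hx1 hx2
  obtain ⟨l, hl, hxl⟩ := hx1
  obtain ⟨l', hl', hxl'⟩ := hx2
  exact hl' (Relation.ReflTransGen.tail hl ⟨x, hxl, hxl'⟩)


section tower

variable {A : Type u} [CommRing A] {X : Scheme.{u}} (f : X ⟶ Spec (.of A))

/-- the morphism `Spec R ⟶ Spec A` of an `A`-algebra -/
noncomputable abbrev gpt (A : Type u) [CommRing A] (R : Type u) [CommRing R] [Algebra A R] :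
    Spec (.of R) ⟶ Spec (.of A) :=
  Spec.map (CommRingCat.ofHom (algebraMap A R))

theorem gpt_comp (R R' : Type u) [CommRing R] [CommRing R'] [Algebra A R] [Algebra A R']
    [Algebra R R'] [IsScalarTower A R R'] : gpt R R' ≫ gpt A R = gpt A R' := by
  rw [gpt, gpt, gpt, ← Spec.map_comp, ← CommRingCat.ofHom_comp, IsScalarTower.algebraMap_eq A R R']

/-- the transition map between base changes along a tower `A → R → R'` -/
noncomputable def towerMap (R R' : Type u) [CommRing R] [CommRing R'] [Algebra A R] [Algebra A R']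
    [Algebra R R'] [IsScalarTower A R R'] :
    pullback f (gpt A R') ⟶ pullback f (gpt A R) :=
  pullback.lift (pullback.fst f (gpt A R')) (pullback.snd f (gpt A R') ≫ gpt R R')
    (by rw [Category.assoc, gpt_comp, pullback.condition])

variable (R R' : Type u) [CommRing R] [CommRing R'] [Algebra A R] [Algebra A R']
    [Algebra R R'] [IsScalarTower A R R']

@[reassoc (attr := simp)]
theorem towerMap_fst : towerMap f R R' ≫ pullback.fst f (gpt A R) = pullback.fst f (gpt A R') :=
  pullback.lift_fst _ _ _

@[reassoc (attr := simp)]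
theorem towerMap_snd : towerMap f R R' ≫ pullback.snd f (gpt A R) =
    pullback.snd f (gpt A R') ≫ gpt R R' :=
  pullback.lift_snd _ _ _

theorem isPullback_towerMap : IsPullback (towerMap f R R') (pullback.snd f (gpt A R'))
    (pullback.snd f (gpt A R)) (gpt R R') := by
  refine IsPullback.of_right ?_ (towerMap_snd f R R') (IsPullback.of_hasPullback f (gpt A R))
  rw [towerMap_fst, gpt_comp]
  exact IsPullback.of_hasPullback f (gpt A R')

theorem towerMap_comp (R'' : Type u) [CommRing R''] [Algebra A R''] [Algebra R' R'']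
    [Algebra R R''] [IsScalarTower A R' R''] [IsScalarTower A R R''] [IsScalarTower R R' R''] :
    towerMap f R' R'' ≫ towerMap f R R' = towerMap f R R'' := by
  apply pullback.hom_ext
  · simp
  · simp only [Category.assoc, towerMap_snd, towerMap_snd_assoc]
    rw [gpt_comp]

end tower

section pbgen

variable {W T S S' : Scheme.{u}} {p : W ⟶ T} {s : W ⟶ S'} {q : T ⟶ S} {t : S' ⟶ S}

/-- points of a pullback square -/
theorem IsPullback.exists_preimage (h : IsPullback p s q t) (x : T) (y : S') (hxy : q x = t y) :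
    ∃ w : W, p w = x ∧ s w = y := by
  obtain ⟨z, hz1, hz2⟩ := Scheme.Pullback.exists_preimage_pullback x y hxy
  refine ⟨h.isoPullback.inv z, ?_, ?_⟩
  · rw [← Scheme.Hom.comp_apply, h.isoPullback_inv_fst, hz1]
  · rw [← Scheme.Hom.comp_apply, h.isoPullback_inv_snd, hz2]

/-- preimages under the first projection of a pullback square do not depend on the square -/
theorem IsPullback.isIrreducible_preimage_iff (h : IsPullback p s q t) (C : Set T) :
    IsIrreducible ((pullback.fst q t) ⁻¹' C) ↔ IsIrreducible (p ⁻¹' C) := by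
  have h1 : p ⁻¹' C = h.isoPullback.hom ⁻¹' ((pullback.fst q t) ⁻¹' C) := by
    rw [← Set.preimage_comp]
    congr 1
    ext w
    simp only [Function.comp_apply]
    rw [← Scheme.Hom.comp_apply, h.isoPullback_hom_fst]
  rw [h1]
  have h2 : h.isoPullback.hom ⁻¹' ((pullback.fst q t) ⁻¹' C) =
      h.isoPullback.hom.homeomorph.symm '' ((pullback.fst q t) ⁻¹' C) := by
    rw [Homeomorph.image_symm]
    rfl
  rw [h2]
  constructor
  · intro hi
    exact hi.image _ (h.isoPullback.hom.homeomorph.symm.continuous.continuousOn)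
  · intro hi
    have := hi.image _ (h.isoPullback.hom.homeomorph.continuous.continuousOn)
    rwa [← Set.image_comp, Homeomorph.self_comp_symm, Set.image_id] at this

/-- a geometrically irreducible closed subscheme has irreducible preimage in every base change to
a field -/
theorem isIrreducible_preimage_of_geometricallyIrreducible {W T S Z : Scheme.{u}} {K : Type u}
    [Field K] {p : W ⟶ T} {s : W ⟶ Spec (.of K)} {q : T ⟶ S} {t : Spec (.of K) ⟶ S}
    (h : IsPullback p s q t) (ι : Z ⟶ T) (hι : GeometricallyIrreducible (ι ≫ q)) :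
    IsIrreducible (p ⁻¹' (Set.range ι)) := by
  have h1 : IsPullback (pullback.fst ι p) (pullback.snd ι p ≫ s) (ι ≫ q) t :=
    (IsPullback.of_hasPullback ι p).paste_vert h
  haveI : IrreducibleSpace ↥(pullback ι p) := hι.geometrically_irreducibleSpace t _ _ h1
  rw [← Scheme.Pullback.range_snd, ← Set.image_univ]
  exact (IrreducibleSpace.isIrreducible_univ _).image _
    (pullback.snd ι p).continuous.continuousOn

end pbgen

theorem range_subschemeι_vanishingIdeal {X : Scheme.{u}} (C : Set X) (hC : IsClosed C) :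
    Set.range ⇑((Scheme.IdealSheafData.vanishingIdeal ⟨C, hC⟩).subschemeι) = C := by
  rw [Scheme.IdealSheafData.range_subschemeι, Scheme.IdealSheafData.coe_support_vanishingIdeal]
  rfl

section dfield

variable {A : Type u} [CommRing A] [IsDomain A] {X : Scheme.{u}} (f : X ⟶ Spec (.of A))

/-- **finite extension making the components of the generic fibre geometrically irreducible**
(from S1654), phrased with geometric fibres -/
theorem exists_finite_ext_geomIrr_components [LocallyOfFiniteType f] [QuasiCompact f] :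
    ∃ (L : Type u) (_ : Field L) (_ : Algebra (FractionRing A) L) (_ : Algebra A L)
      (_ : IsScalarTower A (FractionRing A) L), FiniteDimensional (FractionRing A) L ∧
      ∀ T ∈ irreducibleComponents ↥(pullback f (gpt A L)),
        ∀ (Ω : Type u) [Field Ω] [Algebra A Ω] [Algebra L Ω] [IsScalarTower A L Ω],
          IsIrreducible ((towerMap f L Ω) ⁻¹' T) := by
  let K := FractionRing A
  letI : (pullback f (gpt A K)).Over (Spec (CommRingCat.of K)) := ⟨pullback.snd f (gpt A K)⟩
  haveI : LocallyOfFiniteType ((pullback f (gpt A K)) ↘ Spec (CommRingCat.of K)) := by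
    show LocallyOfFiniteType (pullback.snd f (gpt A K))
    infer_instance
  haveI : IsNoetherian (pullback f (gpt A K)) := { }
  obtain ⟨L, _, _, hfin, hsep, hL⟩ := Groth.Agent.S1654.result K (pullback f (gpt A K))
    finite_irreducibleComponents_of_isNoetherian
  letI : Algebra A L := ((algebraMap K L).comp (algebraMap A K)).toAlgebra
  haveI : IsScalarTower A K L := IsScalarTower.of_algebraMap_eq (fun _ => rfl)
  refine ⟨L, inferInstance, inferInstance, inferInstance, inferInstance, hfin, ?_⟩
  intro T hT Ω _ _ _ _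
  -- comparison with the iterated base change
  have hpb := isPullback_towerMap f K L
  let θ := hpb.isoPullback
  have hθ1 : θ.hom ≫ pullback.fst (pullback.snd f (gpt A K)) (gpt K L) = towerMap f K L :=
    hpb.isoPullback_hom_fst
  have hθ2 : θ.hom ≫ pullback.snd (pullback.snd f (gpt A K)) (gpt K L) =
      pullback.snd f (gpt A L) := hpb.isoPullback_hom_snd
  have hT₁ : θ.inv ⁻¹' T ∈ irreducibleComponents
      ↥(pullback (pullback.snd f (gpt A K)) (gpt K L)) := by
    refine preimage_mem_irreducibleComponents hT θ.inv.homeomorph.isOpenEmbedding ?_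
    obtain ⟨w, hw⟩ := hT.1.nonempty
    exact ⟨w, hw, ⟨θ.hom w, by rw [← Scheme.Hom.comp_apply, θ.hom_inv_id]; rfl⟩⟩
  have hgi := hL (θ.inv ⁻¹' T) hT₁
  have hsq : IsPullback (towerMap f L Ω ≫ θ.hom) (pullback.snd f (gpt A Ω))
      (pullback.snd (pullback.snd f (gpt A K)) (gpt K L)) (gpt L Ω) := by
    refine IsPullback.of_iso (isPullback_towerMap f L Ω) (Iso.refl _) θ (Iso.refl _) (Iso.refl _)
      ?_ ?_ ?_ ?_
    · simp
    · simp
    · simpa using hθ2.symm
    · simp
  have := isIrreducible_preimage_of_geometricallyIrreducible hsq _ hgi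
  have hr := range_subschemeι_vanishingIdeal (X := Curv2.bc K (pullback f (gpt A K)) L)
    (θ.inv ⁻¹' T) (isClosed_of_mem_irreducibleComponents _ hT₁)
  replace this : IsIrreducible ((towerMap f L Ω ≫ θ.hom) ⁻¹' (θ.inv ⁻¹' T)) :=
    (congrArg (fun S => IsIrreducible ((towerMap f L Ω ≫ θ.hom) ⁻¹' S)) hr).mp this
  have heq : (towerMap f L Ω ≫ θ.hom) ⁻¹' (θ.inv ⁻¹' T) = (towerMap f L Ω) ⁻¹' T := by
    ext w
    simp only [Set.mem_preimage]
    rw [Scheme.Hom.comp_apply, ← Scheme.Hom.comp_apply θ.hom θ.inv, θ.hom_inv_id]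
    rfl
  rw [← heq]
  exact this

end dfield

section dcore

variable {A : Type u} [CommRing A] [IsDomain A] {X : Scheme.{u}} (f : X ⟶ Spec (.of A))

/-- **Theorem D, core**: if the irreducible components of the geometric fibre over `L = Frac A'`
are geometrically irreducible and this fibre is connected, the geometric fibres of the base change
to `A'` are connected over a nonempty open of `Spec A'` -/
theorem exists_ne_zero_forall_connectedSpace_baseChange [LocallyOfFiniteType f] [QuasiCompact f]
    (L : Type u) [Field L] [Algebra A L] (A' : Type u) [CommRing A'] [IsDomain A'] [Algebra A A']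
    [Algebra A' L] [IsScalarTower A A' L] [IsFractionRing A' L]
    (hconn : ConnectedSpace ↥(pullback f (gpt A L)))
    (hfin : (irreducibleComponents ↥(pullback f (gpt A L))).Finite)
    (hgi : ∀ T ∈ irreducibleComponents ↥(pullback f (gpt A L)),
      ∀ (Ω : Type u) [Field Ω] [Algebra A Ω] [Algebra L Ω] [IsScalarTower A L Ω],
        IsIrreducible ((towerMap f L Ω) ⁻¹' T)) :
    ∃ a' : A', a' ≠ 0 ∧ ∀ (Ω' : Type u) [Field Ω'] [Algebra A' Ω'], algebraMap A' Ω' a' ≠ 0 →
      ConnectedSpace ↥(pullback (pullback.snd f (gpt A A')) (gpt A' Ω')) := by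
  set m := towerMap f A' L with hm
  have hsq := isPullback_towerMap f A' L
  have hinjL : Function.Injective (algebraMap A' L) := IsFractionRing.injective A' L
  -- `m` is a topological embedding
  haveI : IsPreimmersion (gpt A' L) := IsPreimmersion.of_isLocalization (nonZeroDivisors A')
  haveI : IsPreimmersion m := MorphismProperty.of_isPullback (P := @IsPreimmersion) hsq.flip ‹_›
  have hemb : Topology.IsEmbedding m := m.isEmbedding
  -- points of the generic fibre
  have hgenL : ∀ w : ↥(pullback f (gpt A L)),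
      ((pullback.snd f (gpt A A')) (m w)).asIdeal = ⊥ := by
    intro w
    have h1 : (pullback.snd f (gpt A A')) (m w) = gpt A' L (pullback.snd f (gpt A L) w) := by
      rw [← Scheme.Hom.comp_apply, hm, towerMap_snd, Scheme.Hom.comp_apply]
    rw [h1]
    ext a
    rw [mem_asIdeal_geomPt_iff, Ideal.mem_bot]
    exact map_eq_zero_iff _ hinjL
  haveI : Finite ↥(irreducibleComponents ↥(pullback f (gpt A L))) := hfin.to_subtype
  haveI : Nonempty ↥(irreducibleComponents ↥(pullback f (gpt A L))) := by
    obtain ⟨w⟩ := hconn.toNonempty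
    exact ⟨⟨irreducibleComponent w, irreducibleComponent_mem_irreducibleComponents w⟩⟩
  refine exists_ne_zero_forall_connectedSpace (f := pullback.snd f (gpt A A'))
    (fun T : ↥(irreducibleComponents ↥(pullback f (gpt A L))) => closure (m '' T.1))
    (fun _ => isClosed_closure) ?_ ?_ ?_
  · -- irreducibility of the generic geometric fibres of the pieces
    intro T Ω' _ _ hinj
    letI : Algebra A Ω' := ((algebraMap A' Ω').comp (algebraMap A A')).toAlgebra
    haveI : IsScalarTower A A' Ω' := IsScalarTower.of_algebraMap_eq (fun _ => rfl)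
    letI : Algebra L Ω' := (IsFractionRing.lift (K := L) hinj).toAlgebra
    haveI : IsScalarTower A' L Ω' := IsScalarTower.of_algebraMap_eq (fun x => by
      rw [RingHom.algebraMap_toAlgebra]
      exact (IsFractionRing.lift_algebraMap hinj x).symm)
    haveI : IsScalarTower A L Ω' := IsScalarTower.of_algebraMap_eq (fun x => by
      rw [IsScalarTower.algebraMap_apply A A' Ω', IsScalarTower.algebraMap_apply A' L Ω',
        ← IsScalarTower.algebraMap_apply A A' L])
    rw [IsPullback.isIrreducible_preimage_iff (isPullback_towerMap f A' Ω')]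
    have hcomp : towerMap f A' Ω' = towerMap f L Ω' ≫ m := (towerMap_comp f A' L Ω').symm
    have hpre : (towerMap f A' Ω') ⁻¹' closure (m '' T.1) = (towerMap f L Ω') ⁻¹' T.1 := by
      rw [hcomp]
      have : m ⁻¹' closure (m '' T.1) = T.1 := by
        rw [← hemb.isInducing.closure_eq_preimage_closure_image]
        exact (isClosed_of_mem_irreducibleComponents _ T.2).closure_eq
      ext z
      simp only [Set.mem_preimage]
      rw [Scheme.Hom.comp_apply, ← Set.mem_preimage, this]
    rw [hpre]
    exact hgi T.1 T.2 Ω'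
  · -- the pieces cover the generic fibre
    intro x' hx'
    obtain ⟨pt⟩ : Nonempty ↥(Spec (CommRingCat.of L)) := inferInstance
    have hpt : (pullback.snd f (gpt A A')) x' = gpt A' L pt := by
      apply PrimeSpectrum.ext
      rw [hx']
      ext a
      rw [mem_asIdeal_geomPt_iff, Ideal.mem_bot]
      exact (map_eq_zero_iff _ hinjL).symm
    obtain ⟨w, hw, -⟩ := IsPullback.exists_preimage hsq x' pt hpt
    exact ⟨⟨irreducibleComponent w, irreducibleComponent_mem_irreducibleComponents w⟩,
      subset_closure ⟨w, mem_irreducibleComponent, hw⟩⟩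
  · -- the incidence graph
    intro T T'
    have := reflTransGen_of_preconnectedSpace
      (fun T : ↥(irreducibleComponents ↥(pullback f (gpt A L))) => T.1)
      (fun T => isClosed_of_mem_irreducibleComponents _ T.2)
      (fun T => T.2.1.nonempty)
      (fun w => ⟨⟨irreducibleComponent w, irreducibleComponent_mem_irreducibleComponents w⟩,
        mem_irreducibleComponent⟩) T T'
    refine Relation.ReflTransGen.mono ?_ _ _ this
    rintro T₁ T₂ ⟨w, hw1, hw2⟩
    exact ⟨m w, ⟨subset_closure ⟨w, hw1, rfl⟩, subset_closure ⟨w, hw2, rfl⟩⟩, hgenL w⟩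

end dcore

section affBaseConn

variable {A : Type u} [CommRing A] [IsDomain A] {X : Scheme.{u}} (f : X ⟶ Spec (.of A))

/-- **EGA IV 9.7.7 (connected case) over an affine integral base** -/
theorem exists_ne_zero_forall_geomConn_fiber [LocallyOfFiniteType f] [QuasiCompact f]
    (η₀ : ↥(Spec (CommRingCat.of A))) (hη₀ : η₀.asIdeal = ⊥)
    (h : GeometricallyConnected (f.fiberToSpecResidueField η₀)) :
    ∃ a : A, a ≠ 0 ∧ ∀ y : ↥(Spec (CommRingCat.of A)), a ∉ y.asIdeal →
      GeometricallyConnected (f.fiberToSpecResidueField y) := by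
  -- generic geometric fibres are connected
  have Hη : ∀ (Ω : Type u) [Field Ω] [Algebra A Ω], Function.Injective (algebraMap A Ω) →
      ConnectedSpace ↥(pullback f (gpt A Ω)) := by
    intro Ω _ _ hinj
    obtain ⟨pt⟩ : Nonempty ↥(Spec (CommRingCat.of Ω)) := inferInstance
    have hpt : gpt A Ω pt = η₀ := by
      apply PrimeSpectrum.ext
      rw [hη₀]
      ext a
      rw [mem_asIdeal_geomPt_iff, Ideal.mem_bot]
      exact map_eq_zero_iff _ hinj
    exact connectedSpace_pullback_of_geomConn_fiber f Ω _ pt (hpt ▸ h)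
  obtain ⟨L, _, _, _, _, hfinL, hgi⟩ := exists_finite_ext_geomIrr_components f
  obtain ⟨S, hSfg, hSfrac⟩ := exists_fg_subalgebra_isFractionRing (A := A) L
  haveI : Algebra.FiniteType A S := (Subalgebra.fg_iff_finiteType S).mp hSfg
  have hinjAL : Function.Injective (algebraMap A L) := by
    rw [IsScalarTower.algebraMap_eq A (FractionRing A) L]
    exact (algebraMap (FractionRing A) L).injective.comp
      (IsFractionRing.injective A (FractionRing A))
  have hinjAS : Function.Injective (algebraMap A S) := by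
    intro x y hxy
    apply hinjAL
    rw [IsScalarTower.algebraMap_apply A S L, hxy, ← IsScalarTower.algebraMap_apply A S L]
  haveI : IsNoetherian (pullback f (gpt A L)) := { }
  obtain ⟨a', ha', hcore⟩ := exists_ne_zero_forall_connectedSpace_baseChange f L S (Hη L hinjAL)
    finite_irreducibleComponents_of_isNoetherian hgi
  -- fibre form over `Spec S`
  have hfib : ∀ y' : ↥(Spec (CommRingCat.of S)), a' ∉ y'.asIdeal →
      GeometricallyConnected ((pullback.snd f (gpt A S)).fiberToSpecResidueField y') := by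
    intro y' hy'
    refine geomConn_fiber_of_forall _ y' fun Ω _ t ht => ?_
    obtain ⟨ψ, rfl⟩ := Spec.map_surjective t
    letI : Algebra S Ω := ψ.hom.toAlgebra
    have halg : CommRingCat.ofHom (algebraMap S Ω) = ψ := rfl
    rw [← halg]
    apply hcore Ω
    intro h0
    obtain ⟨pt⟩ : Nonempty ↥(Spec (CommRingCat.of Ω)) := inferInstance
    apply hy'
    rw [← ht pt, ← halg]
    exact (mem_asIdeal_geomPt_iff Ω pt a').mpr h0
  have hS := Groth.Agent.S9765.result f (gpt A S) (pullback.snd f (gpt A S))
    (pullback.fst f (gpt A S)) (IsPullback.of_hasPullback f (gpt A S))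
  -- the image of `D(a')` contains a neighbourhood of the generic point
  let U : (Spec (CommRingCat.of S)).Opens := PrimeSpectrum.basicOpen a'
  haveI : LocallyOfFiniteType (gpt A S) := by
    rw [HasRingHomProperty.Spec_iff (P := @LocallyOfFiniteType)]
    exact (RingHom.finiteType_algebraMap (A := A) (B := S)).mpr inferInstance
  let η' : ↥(Spec (CommRingCat.of S)) := (⟨⊥, Ideal.isPrime_bot⟩ : PrimeSpectrum S)
  have hη'U : η' ∈ U := by
    show a' ∉ (⊥ : Ideal S)
    rwa [Ideal.mem_bot]
  have hgη' : gpt A S η' = genericPoint ↥(Spec (CommRingCat.of A)) := by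
    rw [genericPoint_eq_bot_of_affine]
    apply PrimeSpectrum.ext
    show (⊥ : Ideal S).comap (algebraMap A S) = ⊥
    rw [← RingHom.ker_eq_comap_bot]
    exact (RingHom.injective_iff_ker_eq_bot _).mp hinjAS
  have hmem : genericPoint ↥(Spec (CommRingCat.of A)) ∈ Set.range (U.ι ≫ gpt A S).base :=
    ⟨⟨η', hη'U⟩, hgη'⟩
  have hint := Groth.Agent.Lib.Helper6.genericPoint_mem_interior_range_of_locallyOfFiniteType
    (U.ι ≫ gpt A S) hmem
  obtain ⟨_, ⟨a, rfl⟩, haη, hasub⟩ :=
    PrimeSpectrum.isTopologicalBasis_basic_opens.exists_subset_of_mem_open hint isOpen_interior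
  have ha0 : a ≠ 0 := by
    rintro rfl
    rw [genericPoint_eq_bot_of_affine] at haη
    exact haη (Ideal.zero_mem _)
  refine ⟨a, ha0, fun y hy => ?_⟩
  obtain ⟨u, hu⟩ := interior_subset (hasub (show y ∈ (PrimeSpectrum.basicOpen a :
    Set (PrimeSpectrum A)) from hy))
  have hu' : gpt A S (U.ι u) = y := hu
  have h1 : U.ι u ∈ {y' | GeometricallyConnected
      ((pullback.snd f (gpt A S)).fiberToSpecResidueField y')} := hfib _ u.2
  rw [hS] at h1
  rw [← hu']
  exact h1

end affBaseConn

section generalConn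

variable {X Y : Scheme.{u}} (f : X ⟶ Y)

/-- geometric connectedness of `f ∣_ V` from the fibres over `V` -/
theorem geomConn_morphismRestrict_of_forall (V : Y.Opens)
    (h : ∀ y ∈ V, GeometricallyConnected (f.fiberToSpecResidueField y)) :
    GeometricallyConnected (f ∣_ V) := by
  rw [GeometricallyConnected.iff_geometricallyConnected_fiber]
  intro v
  have hpb : IsPullback (f ⁻¹ᵁ V).ι (f ∣_ V) f V.ι := (isPullback_morphismRestrict f V).flip
  have := Groth.Agent.S9765.result f V.ι (f ∣_ V) (f ⁻¹ᵁ V).ι hpb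
  have hv : v ∈ {y' : ↥(V : Scheme.{u}) |
      GeometricallyConnected ((f ∣_ V).fiberToSpecResidueField y')} := by
    rw [this]
    exact h _ v.2
  exact hv

/-- **EGA IV 9.7.7** (connected case, generic step): if the generic fibre of a quasi-compact
morphism locally of finite type to an irreducible scheme is geometrically connected, so are the
fibres over a nonempty open. -/
theorem exists_open_forall_geomConn_fiber [IrreducibleSpace ↑Y] [LocallyOfFiniteType f]
    [QuasiCompact f]
    (h : GeometricallyConnected (f.fiberToSpecResidueField (genericPoint ↑Y))) :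
    ∃ V : Y.Opens, (V : Set ↑Y).Nonempty ∧
      ∀ y ∈ V, GeometricallyConnected (f.fiberToSpecResidueField y) := by
  obtain ⟨y₀⟩ : Nonempty ↑Y := inferInstance
  obtain ⟨W, hW, hy₀W, -⟩ := (TopologicalSpace.Opens.isBasis_iff_nbhd.mp Y.isBasis_affineOpens)
    (show y₀ ∈ (⊤ : Y.Opens) from trivial)
  haveI : Nonempty ↥(W : Scheme.{u}) := ⟨⟨y₀, hy₀W⟩⟩
  haveI : IrreducibleSpace ↥(W : Scheme.{u}) :=
    (Scheme.Opens.ι W).isOpenEmbedding.irreducibleSpace
  haveI hirrR : IrreducibleSpace ↥(Spec Γ(Y, W)) :=
    hW.isoSpec.hom.homeomorph.irreducibleSpace_iff.mp inferInstance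
  haveI hnil : (nilradical Γ(Y, W)).IsPrime :=
    PrimeSpectrum.irreducibleSpace_iff_isPrime_nilradical.mp hirrR
  haveI : IsDomain (Γ(Y, W) ⧸ nilradical Γ(Y, W)) := Ideal.Quotient.isDomain _
  set q : Γ(Y, W) →+* (Γ(Y, W) ⧸ nilradical Γ(Y, W)) := Ideal.Quotient.mk (nilradical Γ(Y, W))
    with hqdef
  have hq : Function.Surjective q := Ideal.Quotient.mk_surjective
  have hker : (⊥ : Ideal (Γ(Y, W) ⧸ nilradical Γ(Y, W))).comap q = nilradical Γ(Y, W) := by
    rw [← RingHom.ker_eq_comap_bot, Ideal.mk_ker]
  set g : Spec (.of (Γ(Y, W) ⧸ nilradical Γ(Y, W))) ⟶ Y :=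
    Spec.map (CommRingCat.ofHom q) ≫ hW.fromSpec with hg
  -- lifting points of `W`
  have hlift : ∀ (y : ↑Y) (r : Γ(Y, W)), y ∈ Y.basicOpen r →
      ∃ p' : ↥(Spec (.of (Γ(Y, W) ⧸ nilradical Γ(Y, W)))), g p' = y ∧ q r ∉ p'.asIdeal := by
    intro y r hy
    have hyW : y ∈ W := Y.basicOpen_le r hy
    obtain ⟨p, rfl⟩ : y ∈ Set.range hW.fromSpec := by rw [hW.range_fromSpec]; exact hyW
    have hpr : r ∉ p.asIdeal := by
      have : p ∈ hW.fromSpec ⁻¹ᵁ Y.basicOpen r := hy
      rw [hW.fromSpec_preimage_basicOpen] at this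
      exact this
    haveI : p.asIdeal.IsPrime := p.isPrime
    have hle : RingHom.ker q ≤ p.asIdeal := by
      rw [Ideal.mk_ker]; exact nilradical_le_prime p.asIdeal
    have hcm : (p.asIdeal.map q).comap q = p.asIdeal := by
      rw [Ideal.comap_map_of_surjective q hq, hker]
      exact sup_eq_left.mpr (nilradical_le_prime p.asIdeal)
    let p' : ↥(Spec (.of (Γ(Y, W) ⧸ nilradical Γ(Y, W)))) :=
      (⟨p.asIdeal.map q, Ideal.map_isPrime_of_surjective hq hle⟩ :
        PrimeSpectrum (Γ(Y, W) ⧸ nilradical Γ(Y, W)))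
    refine ⟨p', ?_, ?_⟩
    · have h1 : Spec.map (CommRingCat.ofHom q) p' = p := PrimeSpectrum.ext hcm
      rw [hg, Scheme.Hom.comp_apply, h1]
    · intro hmem
      apply hpr
      rw [← hcm]
      exact hmem
  -- the generic point
  let η₀ : ↥(Spec (.of (Γ(Y, W) ⧸ nilradical Γ(Y, W)))) :=
    (⟨⊥, Ideal.isPrime_bot⟩ : PrimeSpectrum (Γ(Y, W) ⧸ nilradical Γ(Y, W)))
  have hgη : g η₀ = genericPoint ↑Y := by
    have hcl : closure ({η₀} : Set ↥(Spec (.of (Γ(Y, W) ⧸ nilradical Γ(Y, W))))) = Set.univ := by
      have := PrimeSpectrum.closure_singleton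
        (⟨⊥, Ideal.isPrime_bot⟩ : PrimeSpectrum (Γ(Y, W) ⧸ nilradical Γ(Y, W)))
      have hz : PrimeSpectrum.zeroLocus
          (((⊥ : Ideal (Γ(Y, W) ⧸ nilradical Γ(Y, W))) : Set (Γ(Y, W) ⧸ nilradical Γ(Y, W)))) =
          Set.univ := by simp
      exact this.trans hz
    have h2 : Set.range g ⊆ closure {g η₀} := by
      rw [← Set.image_univ, ← hcl]
      refine (image_closure_subset_closure_image g.continuous).trans ?_
      rw [Set.image_singleton]
    have h3 : (W : Set ↑Y) ⊆ Set.range g := by
      intro y hy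
      obtain ⟨p', hp', -⟩ := hlift y 1 (by rw [Scheme.basicOpen_of_isUnit _ isUnit_one]; exact hy)
      exact ⟨p', hp'⟩
    have h4 : Dense (W : Set ↑Y) := W.2.dense ⟨y₀, hy₀W⟩
    have h1 : IsGenericPoint (g η₀) (⊤ : Set ↑Y) := by
      show closure {g η₀} = Set.univ
      apply Set.eq_univ_of_univ_subset
      rw [← h4.closure_eq]
      exact closure_minimal (h3.trans h2) isClosed_closure
    exact h1.eq (genericPoint_spec ↑Y)
  -- base change to `Spec A`
  have hS := Groth.Agent.S9765.result f g (pullback.snd f g) (pullback.fst f g)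
    (IsPullback.of_hasPullback f g)
  have hη₀ : GeometricallyConnected ((pullback.snd f g).fiberToSpecResidueField η₀) := by
    have : η₀ ∈ {y' | GeometricallyConnected ((pullback.snd f g).fiberToSpecResidueField y')} := by
      rw [hS]
      show GeometricallyConnected (f.fiberToSpecResidueField (g η₀))
      rw [hgη]
      exact h
    exact this
  obtain ⟨a, ha, hcore⟩ := exists_ne_zero_forall_geomConn_fiber (pullback.snd f g) η₀ rfl hη₀
  obtain ⟨r, rfl⟩ := hq a
  refine ⟨Y.basicOpen r, ?_, ?_⟩
  · refine ⟨g η₀, ?_⟩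
    -- `g η₀ ∈ D(r)`
    have hr : r ∉ nilradical Γ(Y, W) := by
      intro hr
      apply ha
      exact Ideal.Quotient.eq_zero_iff_mem.mpr hr
    have h1 : Spec.map (CommRingCat.ofHom q) η₀ ∈ hW.fromSpec ⁻¹ᵁ Y.basicOpen r := by
      rw [hW.fromSpec_preimage_basicOpen]
      show r ∉ (⊥ : Ideal (Γ(Y, W) ⧸ nilradical Γ(Y, W))).comap q
      rw [hker]
      exact hr
    rw [hg, Scheme.Hom.comp_apply]
    exact h1
  · intro y hy
    obtain ⟨p', rfl, hp'⟩ := hlift y r hy
    have : p' ∈ {y' | GeometricallyConnected ((pullback.snd f g).fiberToSpecResidueField y')} :=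
      hcore p' hp'
    rw [hS] at this
    exact this

end generalConn

end Groth.Agent.Lib.Helper22.GI
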