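import Mathlib
import Groth.Agent.Lib.Helper22GI9
import Groth.Prelude.Def_MoreMor
import Groth.Agent.Lib.Helper2GeomFibBC

set_option autoImplicit false
set_option linter.style.haveILetI false
set_option linter.unusedSectionVars false
universe u

open AlgebraicGeometry CategoryTheory Limits TensorProduct

namespace Groth.Agent.Lib.Helper22.GI

/-- irreducible components of a space covered by finitely many irreducible closed sets, none
contained in another -/
theorem irreducibleComponents_eq_range_of_cover {α : Type*} {J : Type*} [TopologicalSpace α]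
    [Finite J] (S : J → Set α) (hS : ∀ j, IsClosed (S j)) (hirr : ∀ j, IsIrreducible (S j))
    (hcov : ∀ x, ∃ j, x ∈ S j) (hnc : ∀ j k, S j ⊆ S k → j = k) :
    irreducibleComponents α = Set.range S := by
  classical
  have key : ∀ T : Set α, IsIrreducible T → ∃ j, T ⊆ S j := by
    intro T hT
    have hsub : T ⊆ ⋃₀ (Set.range S) := by
      intro x _
      obtain ⟨j, hj⟩ := hcov x
      exact Set.mem_sUnion.mpr ⟨S j, ⟨j, rfl⟩, hj⟩
    obtain ⟨z, hz, hTz⟩ := (isIrreducible_iff_sUnion_isClosed.mp hT)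
      (Set.finite_range S).toFinset (by
        intro z hz
        obtain ⟨j, rfl⟩ := (Set.Finite.mem_toFinset _).mp hz
        exact hS j) (by simpa using hsub)
    obtain ⟨j, rfl⟩ := (Set.Finite.mem_toFinset _).mp hz
    exact ⟨j, hTz⟩
  ext T
  constructor
  · intro hT
    obtain ⟨j, hj⟩ := key T hT.1
    exact ⟨j, (hT.2 (hirr j) hj).antisymm hj |>.symm ▸ rfl⟩
  · rintro ⟨j, rfl⟩
    refine ⟨hirr j, fun T hT hjT => ?_⟩
    obtain ⟨k, hk⟩ := key T hT
    have : j = k := hnc j k (hjT.trans hk)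
    subst this
    exact hk

theorem encard_irreducibleComponents_of_cover {α : Type*} {J : Type*} [TopologicalSpace α]
    [Finite J] (S : J → Set α) (hS : ∀ j, IsClosed (S j)) (hirr : ∀ j, IsIrreducible (S j))
    (hcov : ∀ x, ∃ j, x ∈ S j) (hnc : ∀ j k, S j ⊆ S k → j = k) :
    (irreducibleComponents α).encard = ENat.card J := by
  rw [irreducibleComponents_eq_range_of_cover S hS hirr hcov hnc]
  have hinj : Function.Injective S := fun j k hjk => hnc j k hjk.le
  rw [← Set.image_univ, hinj.encard_image, Set.encard_univ]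


section thmCplus

variable {A : Type u} [CommRing A] [IsDomain A] {X : Scheme.{u}} {f : X ⟶ Spec (.of A)}

/-- C4': nonemptiness of the geometric fibres of a locally closed subset meeting the generic
fibre -/
theorem exists_ne_zero_nonempty_preimage_inter [LocallyOfFiniteType f] (C : Set X)
    (hC : IsClosed C) (U : X.Opens) (hne : ∃ x ∈ C ∩ (U : Set X), (f x).asIdeal = ⊥) :
    ∃ a : A, a ≠ 0 ∧ ∀ (Ω : Type u) [Field Ω] [Algebra A Ω], algebraMap A Ω a ≠ 0 →
      ((pullback.fst f (Spec.map (CommRingCat.ofHom (algebraMap A Ω)))) ⁻¹'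
        (C ∩ (U : Set X))).Nonempty := by
  obtain ⟨Z, ι, hι, hr⟩ := exists_isClosedImmersion_range_eq C hC
  obtain ⟨x, ⟨hxC, hxU⟩, hx⟩ := hne
  have hgen : genericPoint ↥(Spec (CommRingCat.of A)) = f x := by
    rw [genericPoint_eq_bot_of_affine]
    exact PrimeSpectrum.ext hx.symm
  obtain ⟨c, rfl⟩ : x ∈ Set.range ι := hr ▸ hxC
  let V : Z.Opens := ι ⁻¹ᵁ U
  have hcV : c ∈ V := hxU
  have hmem : genericPoint ↥(Spec (CommRingCat.of A)) ∈ Set.range (V.ι ≫ ι ≫ f).base :=
    ⟨⟨c, hcV⟩, by rw [hgen]; rfl⟩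
  have hint := Groth.Agent.Lib.Helper6.genericPoint_mem_interior_range_of_locallyOfFiniteType
    (V.ι ≫ ι ≫ f) hmem
  obtain ⟨_, ⟨a, rfl⟩, haη, hasub⟩ :=
    PrimeSpectrum.isTopologicalBasis_basic_opens.exists_subset_of_mem_open hint isOpen_interior
  have ha0 : a ≠ 0 := by
    rintro rfl
    rw [genericPoint_eq_bot_of_affine] at haη
    exact haη (Ideal.zero_mem _)
  refine ⟨a, ha0, fun Ω _ _ haΩ => ?_⟩
  obtain ⟨pt⟩ : Nonempty ↥(Spec (CommRingCat.of Ω)) := inferInstance
  have hy : Spec.map (CommRingCat.ofHom (algebraMap A Ω)) pt ∈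
      (PrimeSpectrum.basicOpen a : Set (PrimeSpectrum A)) := by
    show a ∉ (Spec.map (CommRingCat.ofHom (algebraMap A Ω)) pt).asIdeal
    rw [mem_asIdeal_geomPt_iff]
    exact haΩ
  obtain ⟨c', hc'⟩ := interior_subset (hasub hy)
  have hc'' : f (ι (V.ι c')) = Spec.map (CommRingCat.ofHom (algebraMap A Ω)) pt := hc'
  obtain ⟨z, hz1, -⟩ := Scheme.Pullback.exists_preimage_pullback (ι (V.ι c')) pt hc''
  refine ⟨z, ?_⟩
  rw [Set.mem_preimage, hz1]
  exact ⟨hr ▸ ⟨V.ι c', rfl⟩, c'.2⟩

/-- **Theorem C⁺**: the geometric fibres over a nonempty open have exactly as many irreducible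
components as there are geometrically irreducible closed pieces covering the generic fibre -/
theorem exists_ne_zero_forall_encard_irreducibleComponents [LocallyOfFiniteType f] [QuasiCompact f]
    {J : Type*} [Finite J] (C : J → Set X) (hC : ∀ j, IsClosed (C j))
    (hirr : ∀ j, ∀ (Ω : Type u) [Field Ω] [Algebra A Ω], Function.Injective (algebraMap A Ω) →
      IsIrreducible ((pullback.fst f (Spec.map (CommRingCat.ofHom (algebraMap A Ω)))) ⁻¹' C j))
    (hcov : ∀ x : X, (f x).asIdeal = ⊥ → ∃ j, x ∈ C j)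
    (hnc : ∀ j k, j ≠ k → ∃ x ∈ C j, x ∉ C k ∧ (f x).asIdeal = ⊥) :
    ∃ a : A, a ≠ 0 ∧ ∀ (Ω : Type u) [Field Ω] [Algebra A Ω], algebraMap A Ω a ≠ 0 →
      (irreducibleComponents
        ↥(pullback f (Spec.map (CommRingCat.ofHom (algebraMap A Ω))))).encard = ENat.card J := by
  classical
  haveI := Fintype.ofFinite J
  have h1 : ∀ j, ∃ a : A, a ≠ 0 ∧ ∀ (Ω : Type u) [Field Ω] [Algebra A Ω], algebraMap A Ω a ≠ 0 →
      IsIrreducible ((pullback.fst f (Spec.map (CommRingCat.ofHom (algebraMap A Ω)))) ⁻¹' C j) :=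
    fun j => exists_ne_zero_isIrreducible_preimage_of_isClosed (C j) (hC j) (hirr j)
  choose a₁ ha₁ h₁ using h1
  obtain ⟨a₀, ha₀, h₀⟩ := exists_ne_zero_forall_mem_of_isClosed (f := f) (⋃ j, C j)
    (isClosed_iUnion_of_finite hC) (fun x hx => Set.mem_iUnion.mpr (hcov x hx))
  have h2 : ∀ j k, ∃ a : A, a ≠ 0 ∧ (j ≠ k →
      ∀ (Ω : Type u) [Field Ω] [Algebra A Ω], algebraMap A Ω a ≠ 0 →
      ((pullback.fst f (Spec.map (CommRingCat.ofHom (algebraMap A Ω)))) ⁻¹'
        (C j ∩ (C k)ᶜ)).Nonempty) := by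
    intro j k
    by_cases hjk : j = k
    · exact ⟨1, one_ne_zero, fun h => absurd hjk h⟩
    · obtain ⟨x, hxj, hxk, hx⟩ := hnc j k hjk
      obtain ⟨a, ha, h⟩ := exists_ne_zero_nonempty_preimage_inter (f := f) (C j) (hC j)
        ⟨(C k)ᶜ, (hC k).isOpen_compl⟩ ⟨x, ⟨hxj, hxk⟩, hx⟩
      exact ⟨a, ha, fun _ Ω _ _ haΩ => h Ω haΩ⟩
  choose a₂ ha₂ h₂ using h2
  refine ⟨a₀ * (∏ j, a₁ j) * ∏ j, ∏ k, a₂ j k, ?_, ?_⟩
  · exact mul_ne_zero (mul_ne_zero ha₀ (Finset.prod_ne_zero_iff.mpr fun j _ => ha₁ j))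
      (Finset.prod_ne_zero_iff.mpr fun j _ => Finset.prod_ne_zero_iff.mpr fun k _ => ha₂ j k)
  intro Ω _ _ haΩ
  rw [map_mul, map_mul] at haΩ
  have hΩ₀ : algebraMap A Ω a₀ ≠ 0 := left_ne_zero_of_mul (left_ne_zero_of_mul haΩ)
  have hΩ₁ : ∀ j, algebraMap A Ω (a₁ j) ≠ 0 := by
    intro j h0
    apply right_ne_zero_of_mul (left_ne_zero_of_mul haΩ)
    rw [map_prod]
    exact Finset.prod_eq_zero (Finset.mem_univ j) h0
  have hΩ₂ : ∀ j k, algebraMap A Ω (a₂ j k) ≠ 0 := by
    intro j k h0
    apply right_ne_zero_of_mul haΩ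
    rw [map_prod]
    refine Finset.prod_eq_zero (Finset.mem_univ j) ?_
    rw [map_prod]
    exact Finset.prod_eq_zero (Finset.mem_univ k) h0
  set fst := pullback.fst f (Spec.map (CommRingCat.ofHom (algebraMap A Ω))) with hfst
  refine encard_irreducibleComponents_of_cover (fun j => fst ⁻¹' C j)
    (fun j => (hC j).preimage fst.continuous) (fun j => h₁ j Ω (hΩ₁ j)) ?_ ?_
  · intro z
    obtain ⟨j, hj⟩ := Set.mem_iUnion.mp (h₀ Ω hΩ₀ z)
    exact ⟨j, hj⟩
  · intro j k hjk
    by_contra hne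
    obtain ⟨z, hzj, hzk⟩ := h₂ j k hne Ω (hΩ₂ j k)
    exact hzk (hjk hzj)

end thmCplus

section dplus

variable {A : Type u} [CommRing A] [IsDomain A] {X : Scheme.{u}} (f : X ⟶ Spec (.of A))

/-- **Theorem D⁺, core**: if the irreducible components of the geometric fibre over `L = Frac A'`
are geometrically irreducible, the geometric fibres of the base change to `A'` have the same number
of irreducible components over a nonempty open of `Spec A'` -/
theorem exists_ne_zero_forall_encard_baseChange [LocallyOfFiniteType f] [QuasiCompact f]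
    (L : Type u) [Field L] [Algebra A L] (A' : Type u) [CommRing A'] [IsDomain A'] [Algebra A A']
    [Algebra A' L] [IsScalarTower A A' L] [IsFractionRing A' L]
    (hfin : (irreducibleComponents ↥(pullback f (gpt A L))).Finite)
    (hgi : ∀ T ∈ irreducibleComponents ↥(pullback f (gpt A L)),
      ∀ (Ω : Type u) [Field Ω] [Algebra A Ω] [Algebra L Ω] [IsScalarTower A L Ω],
        IsIrreducible ((towerMap f L Ω) ⁻¹' T)) :
    ∃ a' : A', a' ≠ 0 ∧ ∀ (Ω' : Type u) [Field Ω'] [Algebra A' Ω'], algebraMap A' Ω' a' ≠ 0 →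
      (irreducibleComponents ↥(pullback (pullback.snd f (gpt A A')) (gpt A' Ω'))).encard =
        (irreducibleComponents ↥(pullback f (gpt A L))).encard := by
  set m := towerMap f A' L with hm
  have hsq := isPullback_towerMap f A' L
  have hinjL : Function.Injective (algebraMap A' L) := IsFractionRing.injective A' L
  haveI : IsPreimmersion (gpt A' L) := IsPreimmersion.of_isLocalization (nonZeroDivisors A')
  haveI : IsPreimmersion m := MorphismProperty.of_isPullback (P := @IsPreimmersion) hsq.flip ‹_›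
  have hemb : Topology.IsEmbedding m := m.isEmbedding
  have hgenL : ∀ w : ↥(pullback f (gpt A L)),
      ((pullback.snd f (gpt A A')) (m w)).asIdeal = ⊥ := by
    intro w
    have h1 : (pullback.snd f (gpt A A')) (m w) = gpt A' L (pullback.snd f (gpt A L) w) := by
      rw [← Scheme.Hom.comp_apply, hm, towerMap_snd, Scheme.Hom.comp_apply]
    rw [h1]
    ext a
    rw [mem_asIdeal_geomPt_iff, Ideal.mem_bot]
    exact map_eq_zero_iff _ hinjL
  have hpreT : ∀ T : ↥(irreducibleComponents ↥(pullback f (gpt A L))),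
      m ⁻¹' closure (m '' T.1) = T.1 := by
    intro T
    rw [← hemb.isInducing.closure_eq_preimage_closure_image]
    exact (isClosed_of_mem_irreducibleComponents _ T.2).closure_eq
  haveI : Finite ↥(irreducibleComponents ↥(pullback f (gpt A L))) := hfin.to_subtype
  refine exists_ne_zero_forall_encard_irreducibleComponents (f := pullback.snd f (gpt A A'))
    (fun T : ↥(irreducibleComponents ↥(pullback f (gpt A L))) => closure (m '' T.1))
    (fun _ => isClosed_closure) ?_ ?_ ?_
  · intro T Ω' _ _ hinj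
    letI : Algebra A Ω' := ((algebraMap A' Ω').comp (algebraMap A A')).toAlgebra
    haveI : IsScalarTower A A' Ω' := IsScalarTower.of_algebraMap_eq (fun _ => rfl)
    letI : Algebra L Ω' := (IsFractionRing.lift (K := L) hinj).toAlgebra
    haveI : IsScalarTower A' L Ω' := IsScalarTower.of_algebraMap_eq (fun x => by
      rw [RingHom.algebraMap_toAlgebra]
      exact (IsFractionRing.lift_algebraMap hinj x).symm)
    haveI : IsScalarTower A L Ω' := IsScalarTower.of_algebraMap_eq (fun x => by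
      rw [IsScalarTower.algebraMap_apply A A' Ω', IsScalarTower.algebraMap_apply A' L Ω',
        ← IsScalarTower.algebraMap_apply A A' L])
    rw [IsPullback.isIrreducible_preimage_iff (isPullback_towerMap f A' Ω')]
    have hcomp : towerMap f A' Ω' = towerMap f L Ω' ≫ m := (towerMap_comp f A' L Ω').symm
    have hpre : (towerMap f A' Ω') ⁻¹' closure (m '' T.1) = (towerMap f L Ω') ⁻¹' T.1 := by
      rw [hcomp]
      ext z
      simp only [Set.mem_preimage]
      rw [Scheme.Hom.comp_apply, ← Set.mem_preimage, hpreT T]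
    rw [hpre]
    exact hgi T.1 T.2 Ω'
  · intro x' hx'
    obtain ⟨pt⟩ : Nonempty ↥(Spec (CommRingCat.of L)) := inferInstance
    have hpt : (pullback.snd f (gpt A A')) x' = gpt A' L pt := by
      apply PrimeSpectrum.ext
      rw [hx']
      ext a
      rw [mem_asIdeal_geomPt_iff, Ideal.mem_bot]
      exact (map_eq_zero_iff _ hinjL).symm
    obtain ⟨w, hw, -⟩ := IsPullback.exists_preimage hsq x' pt hpt
    exact ⟨⟨irreducibleComponent w, irreducibleComponent_mem_irreducibleComponents w⟩,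
      subset_closure ⟨w, mem_irreducibleComponent, hw⟩⟩
  · intro T T' hTT'
    have hnsub : ¬ T.1 ⊆ T'.1 := by
      intro hsub
      apply hTT'
      exact Subtype.ext (Set.Subset.antisymm hsub (T.2.2 T'.2.1 hsub))
    obtain ⟨w, hwT, hwT'⟩ := Set.not_subset.mp hnsub
    refine ⟨m w, subset_closure ⟨w, hwT, rfl⟩, ?_, hgenL w⟩
    intro hmem
    apply hwT'
    rw [← hpreT T']
    exact hmem

end dplus

section homeo

theorem encard_irreducibleComponents_congr {α β : Type*} [TopologicalSpace α] [TopologicalSpace β]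
    (e : α ≃ₜ β) : (irreducibleComponents α).encard = (irreducibleComponents β).encard :=
  (Set.encard_congr (irreducibleComponentsEquivOfIsPreirreducibleFiber e e.continuous e.isOpenMap
    (fun _ => (Set.subsingleton_singleton.preimage e.injective).isPreirreducible)
    e.surjective).toEquiv).symm

theorem card_connectedComponents_congr {α β : Type*} [TopologicalSpace α] [TopologicalSpace β]
    (e : α ≃ₜ β) :
    ENat.card (_root_.ConnectedComponents α) = ENat.card (_root_.ConnectedComponents β) := by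
  refine ENat.card_congr (e.isQuotientMap.isCoinducing.connectedComponentsHomeomorph ?_).toEquiv
  intro y
  have : e ⁻¹' {y} = {e.symm y} := by
    ext x
    simp only [Set.mem_preimage, Set.mem_singleton_iff]
    exact ⟨fun h => by rw [← h, e.symm_apply_apply], fun h => by rw [h, e.apply_symm_apply]⟩
  rw [this]
  exact isConnected_singleton

end homeo

section geomFib

variable {X Y : Scheme.{u}} (f : X ⟶ Y) (y : Y)

/-- the geometric point over `y` with values in the separable closure of the residue field -/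
noncomputable def sepPt : Spec (.of (SeparableClosure (Y.residueField y))) ⟶ Y :=
  Spec.map (CommRingCat.ofHom (algebraMap (Y.residueField y) (SeparableClosure (Y.residueField y))))
    ≫ Y.fromSpecResidueField y

theorem sepPt_apply (pt : ↥(Spec (.of (SeparableClosure (Y.residueField y))))) :
    sepPt y pt = y := by
  rw [sepPt, Scheme.Hom.comp_apply, Scheme.fromSpecResidueField_apply]

/-- the geometric fibre is the pullback along `sepPt` -/
noncomputable def geomFiberIso : MoreMor.geomFiber f y ≅ pullback f (sepPt y) :=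
  pullbackLeftPullbackSndIso f (Y.fromSpecResidueField y) _

theorem nGeomIrredComp_eq_encard :
    MoreMor.nGeomIrredComp f y = (irreducibleComponents ↥(pullback f (sepPt y))).encard :=
  encard_irreducibleComponents_congr (geomFiberIso f y).hom.homeomorph

theorem nGeomConnComp_eq_card :
    MoreMor.nGeomConnComp f y = ENat.card (_root_.ConnectedComponents ↥(pullback f (sepPt y))) :=
  card_connectedComponents_congr (geomFiberIso f y).hom.homeomorph

end geomFib

section affBaseIrr

variable {A : Type u} [CommRing A] [IsDomain A] {X : Scheme.{u}} (f : X ⟶ Spec (.of A))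

/-- transfer of a fibrewise invariant from a finite type domain over `A` down to `A` -/
theorem exists_ne_zero_forall_eq_of_baseChange_fg
    (ν : ∀ {X Y : Scheme.{u}} (_ : X ⟶ Y), Y → ℕ∞)
    (hbc : ∀ {X Y X' Y' : Scheme.{u}} (f : X ⟶ Y) (f' : X' ⟶ Y') (g' : X' ⟶ X) (g : Y' ⟶ Y),
      IsPullback g' f' f g → ∀ y' : Y', ν f' y' = ν f (g y'))
    (S : Type u) [CommRing S] [IsDomain S] [Algebra A S] [Algebra.FiniteType A S]
    (hinjAS : Function.Injective (algebraMap A S)) (N : ℕ∞) (a' : S) (ha' : a' ≠ 0)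
    (hfib : ∀ y' : ↥(Spec (CommRingCat.of S)), a' ∉ y'.asIdeal →
      ν (pullback.snd f (gpt A S)) y' = N)
    (η₀ : ↥(Spec (CommRingCat.of A))) (hη₀ : η₀.asIdeal = ⊥) :
    ∃ a : A, a ≠ 0 ∧ ∀ y : ↥(Spec (CommRingCat.of A)), a ∉ y.asIdeal → ν f y = ν f η₀ := by
  have hS := hbc f (pullback.snd f (gpt A S)) (pullback.fst f (gpt A S)) (gpt A S)
    (IsPullback.of_hasPullback f (gpt A S))
  let U : (Spec (CommRingCat.of S)).Opens := PrimeSpectrum.basicOpen a'
  haveI : LocallyOfFiniteType (gpt A S) := by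
    rw [HasRingHomProperty.Spec_iff (P := @LocallyOfFiniteType)]
    exact (RingHom.finiteType_algebraMap (A := A) (B := S)).mpr inferInstance
  let η' : ↥(Spec (CommRingCat.of S)) := (⟨⊥, Ideal.isPrime_bot⟩ : PrimeSpectrum S)
  have hη'U : η' ∈ U := by
    show a' ∉ (⊥ : Ideal S)
    rwa [Ideal.mem_bot]
  have hgη' : gpt A S η' = genericPoint ↥(Spec (CommRingCat.of A)) := by
    rw [genericPoint_eq_bot_of_affine]
    apply PrimeSpectrum.ext
    show (⊥ : Ideal S).comap (algebraMap A S) = ⊥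
    rw [← RingHom.ker_eq_comap_bot]
    exact (RingHom.injective_iff_ker_eq_bot _).mp hinjAS
  have hη₀' : gpt A S η' = η₀ := by
    rw [hgη', genericPoint_eq_bot_of_affine]
    exact PrimeSpectrum.ext hη₀.symm
  have hNη : ν f η₀ = N := by
    rw [← hη₀', ← hS η']
    exact hfib η' hη'U
  have hmem : genericPoint ↥(Spec (CommRingCat.of A)) ∈ Set.range (U.ι ≫ gpt A S).base :=
    ⟨⟨η', hη'U⟩, hgη'⟩
  have hint := Groth.Agent.Lib.Helper6.genericPoint_mem_interior_range_of_locallyOfFiniteType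
    (U.ι ≫ gpt A S) hmem
  obtain ⟨_, ⟨a, rfl⟩, haη, hasub⟩ :=
    PrimeSpectrum.isTopologicalBasis_basic_opens.exists_subset_of_mem_open hint isOpen_interior
  have ha0 : a ≠ 0 := by
    rintro rfl
    rw [genericPoint_eq_bot_of_affine] at haη
    exact haη (Ideal.zero_mem _)
  refine ⟨a, ha0, fun y hy => ?_⟩
  obtain ⟨u, hu⟩ := interior_subset (hasub (show y ∈ (PrimeSpectrum.basicOpen a :
    Set (PrimeSpectrum A)) from hy))
  have hu' : gpt A S (U.ι u) = y := hu
  rw [hNη, ← hu', ← hS (U.ι u)]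
  exact hfib _ u.2

/-- **EGA IV 9.7.8 (irreducible components) over an affine integral base** -/
theorem exists_ne_zero_forall_nGeomIrredComp_eq [LocallyOfFiniteType f] [QuasiCompact f]
    (η₀ : ↥(Spec (CommRingCat.of A))) (hη₀ : η₀.asIdeal = ⊥) :
    ∃ a : A, a ≠ 0 ∧ ∀ y : ↥(Spec (CommRingCat.of A)), a ∉ y.asIdeal →
      MoreMor.nGeomIrredComp f y = MoreMor.nGeomIrredComp f η₀ := by
  obtain ⟨L, _, _, _, _, hfinL, hgi⟩ := exists_finite_ext_geomIrr_components f
  obtain ⟨S, hSfg, hSfrac⟩ := exists_fg_subalgebra_isFractionRing (A := A) L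
  haveI : Algebra.FiniteType A S := (Subalgebra.fg_iff_finiteType S).mp hSfg
  have hinjAL : Function.Injective (algebraMap A L) := by
    rw [IsScalarTower.algebraMap_eq A (FractionRing A) L]
    exact (algebraMap (FractionRing A) L).injective.comp
      (IsFractionRing.injective A (FractionRing A))
  have hinjAS : Function.Injective (algebraMap A S) := by
    intro x y hxy
    apply hinjAL
    rw [IsScalarTower.algebraMap_apply A S L, hxy, ← IsScalarTower.algebraMap_apply A S L]
  haveI : IsNoetherian (pullback f (gpt A L)) := { }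
  obtain ⟨a', ha', hcore⟩ := exists_ne_zero_forall_encard_baseChange f L S
    finite_irreducibleComponents_of_isNoetherian hgi
  refine exists_ne_zero_forall_eq_of_baseChange_fg f (fun f y => MoreMor.nGeomIrredComp f y)
    (fun f f' g' g hc y' => Groth.Agent.Lib.Helper2.GeomFibBC.nGeomIrredComp_eq f f' g' g hc y')
    S hinjAS (irreducibleComponents ↥(pullback f (gpt A L))).encard a' ha' ?_ η₀ hη₀
  intro y' hy'
  show MoreMor.nGeomIrredComp _ y' = _
  rw [nGeomIrredComp_eq_encard]
  obtain ⟨ψ, hψ⟩ := Spec.map_surjective (sepPt y')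
  letI : Algebra S (SeparableClosure ((Spec (CommRingCat.of S)).residueField y')) :=
    ψ.hom.toAlgebra
  have halg : CommRingCat.ofHom
      (algebraMap S (SeparableClosure ((Spec (CommRingCat.of S)).residueField y'))) = ψ := rfl
  rw [← hψ, ← halg]
  apply hcore
  intro h0
  obtain ⟨pt⟩ : Nonempty ↥(Spec (CommRingCat.of
    (SeparableClosure ((Spec (CommRingCat.of S)).residueField y')))) := inferInstance
  apply hy'
  have hpt : Spec.map ψ pt = y' := by rw [hψ]; exact sepPt_apply y' pt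
  rw [← hpt, ← halg]
  exact (mem_asIdeal_geomPt_iff _ pt a').mpr h0

end affBaseIrr

section reduction

variable (ν : ∀ {X Y : Scheme.{u}} (_ : X ⟶ Y), Y → ℕ∞)
  (hbc : ∀ {X Y X' Y' : Scheme.{u}} (f : X ⟶ Y) (f' : X' ⟶ Y') (g' : X' ⟶ X) (g : Y' ⟶ Y),
    IsPullback g' f' f g → ∀ y' : Y', ν f' y' = ν f (g y'))
  (haff : ∀ (A : Type u) [CommRing A] [IsDomain A] {X : Scheme.{u}} (f : X ⟶ Spec (.of A))
    [LocallyOfFiniteType f] [QuasiCompact f] (η₀ : ↥(Spec (CommRingCat.of A))),
    η₀.asIdeal = ⊥ → ∃ a : A, a ≠ 0 ∧ ∀ y : ↥(Spec (CommRingCat.of A)), a ∉ y.asIdeal →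
      ν f y = ν f η₀)

include hbc haff

/-- a base-change invariant fibrewise invariant which is generically constant over affine integral
bases is generically constant over irreducible bases -/
theorem exists_open_forall_eq_genericPoint_of_baseChange {X Y : Scheme.{u}} (f : X ⟶ Y)
    [IrreducibleSpace ↑Y] [LocallyOfFiniteType f] [QuasiCompact f] :
    ∃ V : Y.Opens, (V : Set ↑Y).Nonempty ∧ ∀ y ∈ V, ν f y = ν f (genericPoint ↑Y) := by
  obtain ⟨y₀⟩ : Nonempty ↑Y := inferInstance
  obtain ⟨W, hW, hy₀W, -⟩ := (TopologicalSpace.Opens.isBasis_iff_nbhd.mp Y.isBasis_affineOpens)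
    (show y₀ ∈ (⊤ : Y.Opens) from trivial)
  haveI : Nonempty ↥(W : Scheme.{u}) := ⟨⟨y₀, hy₀W⟩⟩
  haveI : IrreducibleSpace ↥(W : Scheme.{u}) :=
    (Scheme.Opens.ι W).isOpenEmbedding.irreducibleSpace
  haveI hirrR : IrreducibleSpace ↥(Spec Γ(Y, W)) :=
    hW.isoSpec.hom.homeomorph.irreducibleSpace_iff.mp inferInstance
  haveI hnil : (nilradical Γ(Y, W)).IsPrime :=
    PrimeSpectrum.irreducibleSpace_iff_isPrime_nilradical.mp hirrR
  haveI : IsDomain (Γ(Y, W) ⧸ nilradical Γ(Y, W)) := Ideal.Quotient.isDomain _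
  set q : Γ(Y, W) →+* (Γ(Y, W) ⧸ nilradical Γ(Y, W)) := Ideal.Quotient.mk (nilradical Γ(Y, W))
    with hqdef
  have hq : Function.Surjective q := Ideal.Quotient.mk_surjective
  have hker : (⊥ : Ideal (Γ(Y, W) ⧸ nilradical Γ(Y, W))).comap q = nilradical Γ(Y, W) := by
    rw [← RingHom.ker_eq_comap_bot, Ideal.mk_ker]
  set g : Spec (.of (Γ(Y, W) ⧸ nilradical Γ(Y, W))) ⟶ Y :=
    Spec.map (CommRingCat.ofHom q) ≫ hW.fromSpec with hg
  have hlift : ∀ (y : ↑Y) (r : Γ(Y, W)), y ∈ Y.basicOpen r →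
      ∃ p' : ↥(Spec (.of (Γ(Y, W) ⧸ nilradical Γ(Y, W)))), g p' = y ∧ q r ∉ p'.asIdeal := by
    intro y r hy
    have hyW : y ∈ W := Y.basicOpen_le r hy
    obtain ⟨p, rfl⟩ : y ∈ Set.range hW.fromSpec := by rw [hW.range_fromSpec]; exact hyW
    have hpr : r ∉ p.asIdeal := by
      have : p ∈ hW.fromSpec ⁻¹ᵁ Y.basicOpen r := hy
      rw [hW.fromSpec_preimage_basicOpen] at this
      exact this
    haveI : p.asIdeal.IsPrime := p.isPrime
    have hle : RingHom.ker q ≤ p.asIdeal := by
      rw [Ideal.mk_ker]; exact nilradical_le_prime p.asIdeal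
    have hcm : (p.asIdeal.map q).comap q = p.asIdeal := by
      rw [Ideal.comap_map_of_surjective q hq, hker]
      exact sup_eq_left.mpr (nilradical_le_prime p.asIdeal)
    let p' : ↥(Spec (.of (Γ(Y, W) ⧸ nilradical Γ(Y, W)))) :=
      (⟨p.asIdeal.map q, Ideal.map_isPrime_of_surjective hq hle⟩ :
        PrimeSpectrum (Γ(Y, W) ⧸ nilradical Γ(Y, W)))
    refine ⟨p', ?_, ?_⟩
    · have h1 : Spec.map (CommRingCat.ofHom q) p' = p := PrimeSpectrum.ext hcm
      rw [hg, Scheme.Hom.comp_apply, h1]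
    · intro hmem
      apply hpr
      rw [← hcm]
      exact hmem
  let η₀ : ↥(Spec (.of (Γ(Y, W) ⧸ nilradical Γ(Y, W)))) :=
    (⟨⊥, Ideal.isPrime_bot⟩ : PrimeSpectrum (Γ(Y, W) ⧸ nilradical Γ(Y, W)))
  have hgη : g η₀ = genericPoint ↑Y := by
    have hcl : closure ({η₀} : Set ↥(Spec (.of (Γ(Y, W) ⧸ nilradical Γ(Y, W))))) = Set.univ := by
      have := PrimeSpectrum.closure_singleton
        (⟨⊥, Ideal.isPrime_bot⟩ : PrimeSpectrum (Γ(Y, W) ⧸ nilradical Γ(Y, W)))
      have hz : PrimeSpectrum.zeroLocus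
          (((⊥ : Ideal (Γ(Y, W) ⧸ nilradical Γ(Y, W))) : Set (Γ(Y, W) ⧸ nilradical Γ(Y, W)))) =
          Set.univ := by simp
      exact this.trans hz
    have h2 : Set.range g ⊆ closure {g η₀} := by
      rw [← Set.image_univ, ← hcl]
      refine (image_closure_subset_closure_image g.continuous).trans ?_
      rw [Set.image_singleton]
    have h3 : (W : Set ↑Y) ⊆ Set.range g := by
      intro y hy
      obtain ⟨p', hp', -⟩ := hlift y 1 (by rw [Scheme.basicOpen_of_isUnit _ isUnit_one]; exact hy)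
      exact ⟨p', hp'⟩
    have h4 : Dense (W : Set ↑Y) := W.2.dense ⟨y₀, hy₀W⟩
    have h1 : IsGenericPoint (g η₀) (⊤ : Set ↑Y) := by
      show closure {g η₀} = Set.univ
      apply Set.eq_univ_of_univ_subset
      rw [← h4.closure_eq]
      exact closure_minimal (h3.trans h2) isClosed_closure
    exact h1.eq (genericPoint_spec ↑Y)
  have hS := hbc f (pullback.snd f g) (pullback.fst f g) g (IsPullback.of_hasPullback f g)
  obtain ⟨a, ha, hcore⟩ := haff _ (pullback.snd f g) η₀ rfl
  obtain ⟨r, rfl⟩ := hq a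
  refine ⟨Y.basicOpen r, ?_, ?_⟩
  · refine ⟨g η₀, ?_⟩
    have hr : r ∉ nilradical Γ(Y, W) := by
      intro hr
      apply ha
      exact Ideal.Quotient.eq_zero_iff_mem.mpr hr
    have h1 : Spec.map (CommRingCat.ofHom q) η₀ ∈ hW.fromSpec ⁻¹ᵁ Y.basicOpen r := by
      rw [hW.fromSpec_preimage_basicOpen]
      show r ∉ (⊥ : Ideal (Γ(Y, W) ⧸ nilradical Γ(Y, W))).comap q
      rw [hker]
      exact hr
    rw [hg, Scheme.Hom.comp_apply]
    exact h1
  · intro y hy
    obtain ⟨p', rfl, hp'⟩ := hlift y r hy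
    rw [← hgη, ← hS p', ← hS η₀]
    exact hcore p' hp'

/-- **constancy near a point of its closure** for a base-change invariant fibrewise invariant -/
theorem exists_forall_eq_of_baseChange {X Y : Scheme.{u}} (f : X ⟶ Y)
    [LocallyOfFiniteType f] [QuasiCompact f] (y : Y) :
    ∃ V : Set ↑Y, V ⊆ closure {y} ∧ y ∈ V ∧
      IsOpen (Subtype.val ⁻¹' V : Set ↑(closure ({y} : Set ↑Y))) ∧
      ∀ y' ∈ V, ν f y' = ν f y := by
  set I := Scheme.IdealSheafData.vanishingIdeal ⟨closure ({y} : Set ↑Y), isClosed_closure⟩ with hI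
  set ι := I.subschemeι with hι
  have hr : Set.range ⇑ι = closure ({y} : Set ↑Y) :=
    range_subschemeι_vanishingIdeal (closure {y}) isClosed_closure
  have hind : Topology.IsInducing ⇑ι := ι.isEmbedding.isInducing
  obtain ⟨z₀, hz₀⟩ : y ∈ Set.range ⇑ι := hr ▸ subset_closure rfl
  have hcl : closure ({z₀} : Set ↥I.subscheme) = Set.univ := by
    rw [hind.closure_eq_preimage_closure_image, Set.image_singleton, hz₀, ← hr]
    exact Set.preimage_range _
  haveI : IrreducibleSpace ↥I.subscheme := by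
    have h1 : IsIrreducible (Set.univ : Set ↥I.subscheme) := hcl ▸ isIrreducible_singleton.closure
    exact (irreducibleSpace_def _).mpr h1
  have hgen : genericPoint ↥I.subscheme = z₀ := by
    have h1 : IsGenericPoint z₀ (⊤ : Set ↥I.subscheme) := hcl
    exact ((genericPoint_spec ↥I.subscheme).eq h1)
  obtain ⟨V, hVne, hV⟩ := exists_open_forall_eq_genericPoint_of_baseChange ν hbc haff
    (pullback.snd f ι)
  have hS := hbc f (pullback.snd f ι) (pullback.fst f ι) ι (IsPullback.of_hasPullback f ι)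
  have hz₀V : z₀ ∈ V := by
    rw [← hgen]
    exact ((genericPoint_spec ↥I.subscheme).mem_open_set_iff V.2).mpr (by simpa using hVne)
  refine ⟨ι '' (V : Set ↥I.subscheme), ?_, ⟨z₀, hz₀V, hz₀⟩, ?_, ?_⟩
  · rw [← hr]
    exact Set.image_subset_range _ _
  · obtain ⟨O, hO, hOV⟩ := hind.isOpen_iff.mp V.2
    have : (Subtype.val ⁻¹' (ι '' (V : Set ↥I.subscheme)) : Set ↑(closure ({y} : Set ↑Y))) =
        Subtype.val ⁻¹' O := by
      ext ⟨w, hw⟩
      simp only [Set.mem_preimage]
      constructor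
      · rintro ⟨z, hz, rfl⟩
        have hz' : z ∈ ⇑ι ⁻¹' O := hOV ▸ hz
        exact hz'
      · intro hwO
        obtain ⟨z, rfl⟩ : w ∈ Set.range ⇑ι := hr ▸ hw
        refine ⟨z, ?_, rfl⟩
        have hz' : z ∈ ⇑ι ⁻¹' O := hwO
        rw [hOV] at hz'
        exact hz'
    rw [this]
    exact hO.preimage continuous_subtype_val
  · rintro _ ⟨z, hz, rfl⟩
    rw [← hz₀, ← hS z, ← hS z₀, hV z hz, hgen]

end reduction

end Groth.Agent.Lib.Helper22.GI
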