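import Mathlib
import Groth.Agent.Lib.Helper22GI10

set_option autoImplicit false
set_option linter.style.haveILetI false
set_option linter.unusedSectionVars false
universe u

open AlgebraicGeometry CategoryTheory Limits TensorProduct

namespace Groth.Agent.Lib.Helper22.GI

/-- connected components of a space covered by finitely many closed connected sets are the classes
of the incidence relation -/
theorem card_connectedComponents_of_cover {α : Type*} {J : Type*} [TopologicalSpace α]
    [Finite J] (S : J → Set α) (hS : ∀ j, IsClosed (S j)) (hconn : ∀ j, IsConnected (S j))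
    (hcov : ∀ x, ∃ j, x ∈ S j) :
    ENat.card (_root_.ConnectedComponents α) =
      ENat.card (Quot (fun j k => (S j ∩ S k).Nonempty)) := by
  classical
  choose pt hpt using fun j => (hconn j).nonempty
  have hmk : ∀ j x, x ∈ S j → (ConnectedComponents.mk x : _root_.ConnectedComponents α) =
      ConnectedComponents.mk (pt j) := by
    intro j x hx
    exact ConnectedComponents.coe_eq_coe'.mpr
      ((hconn j).isPreconnected.subset_connectedComponent (hpt j) hx)
  let φ : Quot (fun j k => (S j ∩ S k).Nonempty) → _root_.ConnectedComponents α :=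
    Quot.lift (fun j => ConnectedComponents.mk (pt j)) (by
      rintro j k ⟨x, hxj, hxk⟩
      exact (hmk j x hxj).symm.trans (hmk k x hxk))
  refine (ENat.card_congr (Equiv.ofBijective φ ⟨?_, ?_⟩)).symm
  · rintro ⟨j⟩ ⟨k⟩ hjk
    have hjk' : (ConnectedComponents.mk (pt j) : _root_.ConnectedComponents α) =
        ConnectedComponents.mk (pt k) := hjk
    apply Quot.eq.mpr
    let J₁ : Set J := {i | Relation.EqvGen (fun j k => (S j ∩ S k).Nonempty) j i}
    let U₁ : Set α := ⋃ i ∈ J₁, S i
    let U₂ : Set α := ⋃ i ∈ J₁ᶜ, S i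
    have hU₁ : IsClosed U₁ := (Set.toFinite J₁).isClosed_biUnion fun i _ => hS i
    have hU₂ : IsClosed U₂ := (Set.toFinite J₁ᶜ).isClosed_biUnion fun i _ => hS i
    have hcompl : U₁ᶜ = U₂ := by
      ext x
      simp only [Set.mem_compl_iff, U₁, U₂, Set.mem_iUnion, exists_prop, not_exists, not_and]
      constructor
      · intro h
        obtain ⟨i, hi⟩ := hcov x
        exact ⟨i, fun hi₁ => h i hi₁ hi, hi⟩
      · rintro ⟨i, hi₁, hi⟩ i' hi'₁ hi'
        exact hi₁ (Relation.EqvGen.trans _ _ _ hi'₁ (Relation.EqvGen.rel _ _ ⟨x, hi', hi⟩))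
    have hclopen : IsClopen U₁ := ⟨hU₁, by rw [← isClosed_compl_iff, hcompl]; exact hU₂⟩
    have hj : pt j ∈ U₁ :=
      Set.mem_biUnion (show j ∈ J₁ from Relation.EqvGen.refl j) (hpt j)
    have hk : pt k ∈ U₁ := by
      apply hclopen.connectedComponent_subset hj
      exact ConnectedComponents.coe_eq_coe'.mp hjk'.symm
    simp only [U₁, Set.mem_iUnion, exists_prop] at hk
    obtain ⟨i, hi₁, hi⟩ := hk
    exact Relation.EqvGen.trans _ _ _ hi₁ (Relation.EqvGen.rel _ _ ⟨pt k, hi, hpt k⟩)
  · intro c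
    obtain ⟨x, rfl⟩ := ConnectedComponents.surjective_coe c
    obtain ⟨j, hj⟩ := hcov x
    exact ⟨Quot.mk _ j, (hmk j x hj).symm⟩

section thmCpp

variable {A : Type u} [CommRing A] [IsDomain A] {X : Scheme.{u}} {f : X ⟶ Spec (.of A)}

/-- C3: a closed subset missing the generic fibre misses the geometric fibres over a nonempty
open -/
theorem exists_ne_zero_preimage_eq_empty [LocallyOfFiniteType f] [QuasiCompact f] (C : Set X)
    (hC : IsClosed C) (hne : ∀ x ∈ C, (f x).asIdeal ≠ ⊥) :
    ∃ a : A, a ≠ 0 ∧ ∀ (Ω : Type u) [Field Ω] [Algebra A Ω], algebraMap A Ω a ≠ 0 →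
      (pullback.fst f (Spec.map (CommRingCat.ofHom (algebraMap A Ω)))) ⁻¹' C = ∅ := by
  obtain ⟨Z, ι, hι, hr⟩ := exists_isClosedImmersion_range_eq C hC
  obtain ⟨a, ha, h⟩ := exists_ne_zero_forall_mem_of_isClosed (f := ι ≫ f) (∅ : Set Z) isClosed_empty
    (fun z hz => absurd hz (hne (ι z) (hr ▸ ⟨z, rfl⟩)))
  refine ⟨a, ha, fun Ω _ _ haΩ => ?_⟩
  rw [Set.eq_empty_iff_forall_notMem]
  intro z hz
  obtain ⟨c, hc⟩ : pullback.fst f (Spec.map (CommRingCat.ofHom (algebraMap A Ω))) z ∈
      Set.range ι := hr ▸ hz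
  have hcz : (ι ≫ f) c = Spec.map (CommRingCat.ofHom (algebraMap A Ω))
      (pullback.snd f (Spec.map (CommRingCat.ofHom (algebraMap A Ω))) z) := by
    rw [Scheme.Hom.comp_apply, hc, ← Scheme.Hom.comp_apply, ← Scheme.Hom.comp_apply,
      pullback.condition]
  obtain ⟨w, -, -⟩ := Scheme.Pullback.exists_preimage_pullback c _ hcz
  exact h Ω haΩ w

/-- **Theorem C⁺⁺**: the number of connected components of the geometric fibres over a nonempty
open is the number of classes of the generic incidence relation of geometrically irreducible closed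
pieces covering the generic fibre -/
theorem exists_ne_zero_forall_card_connectedComponents [LocallyOfFiniteType f] [QuasiCompact f]
    {J : Type*} [Finite J] (C : J → Set X) (hC : ∀ j, IsClosed (C j))
    (hirr : ∀ j, ∀ (Ω : Type u) [Field Ω] [Algebra A Ω], Function.Injective (algebraMap A Ω) →
      IsIrreducible ((pullback.fst f (Spec.map (CommRingCat.ofHom (algebraMap A Ω)))) ⁻¹' C j))
    (hcov : ∀ x : X, (f x).asIdeal = ⊥ → ∃ j, x ∈ C j) :
    ∃ a : A, a ≠ 0 ∧ ∀ (Ω : Type u) [Field Ω] [Algebra A Ω], algebraMap A Ω a ≠ 0 →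
      ENat.card (_root_.ConnectedComponents
        ↥(pullback f (Spec.map (CommRingCat.ofHom (algebraMap A Ω))))) =
      ENat.card (Quot (fun j k => ∃ x ∈ C j ∩ C k, (f x).asIdeal = ⊥)) := by
  classical
  haveI := Fintype.ofFinite J
  have h1 : ∀ j, ∃ a : A, a ≠ 0 ∧ ∀ (Ω : Type u) [Field Ω] [Algebra A Ω], algebraMap A Ω a ≠ 0 →
      IsIrreducible ((pullback.fst f (Spec.map (CommRingCat.ofHom (algebraMap A Ω)))) ⁻¹' C j) :=
    fun j => exists_ne_zero_isIrreducible_preimage_of_isClosed (C j) (hC j) (hirr j)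
  choose a₁ ha₁ h₁ using h1
  obtain ⟨a₀, ha₀, h₀⟩ := exists_ne_zero_forall_mem_of_isClosed (f := f) (⋃ j, C j)
    (isClosed_iUnion_of_finite hC) (fun x hx => Set.mem_iUnion.mpr (hcov x hx))
  have h2 : ∀ j k, ∃ a : A, a ≠ 0 ∧
      ∀ (Ω : Type u) [Field Ω] [Algebra A Ω], algebraMap A Ω a ≠ 0 →
      ((((pullback.fst f (Spec.map (CommRingCat.ofHom (algebraMap A Ω)))) ⁻¹' C j) ∩
        ((pullback.fst f (Spec.map (CommRingCat.ofHom (algebraMap A Ω)))) ⁻¹' C k)).Nonempty ↔
        ∃ x ∈ C j ∩ C k, (f x).asIdeal = ⊥) := by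
    intro j k
    by_cases hjk : ∃ x ∈ C j ∩ C k, (f x).asIdeal = ⊥
    · obtain ⟨a, ha, h⟩ := exists_ne_zero_nonempty_preimage (f := f) (C j ∩ C k)
        ((hC j).inter (hC k)) hjk
      refine ⟨a, ha, fun Ω _ _ haΩ => ⟨fun _ => hjk, fun _ => ?_⟩⟩
      obtain ⟨z, hz⟩ := h Ω haΩ
      exact ⟨z, hz.1, hz.2⟩
    · obtain ⟨a, ha, h⟩ := exists_ne_zero_preimage_eq_empty (f := f) (C j ∩ C k)
        ((hC j).inter (hC k)) (fun x hx hx0 => hjk ⟨x, hx, hx0⟩)
      refine ⟨a, ha, fun Ω _ _ haΩ => ⟨fun hne => ?_, fun h' => absurd h' hjk⟩⟩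
      exfalso
      obtain ⟨z, hzj, hzk⟩ := hne
      have : z ∈ (pullback.fst f (Spec.map (CommRingCat.ofHom (algebraMap A Ω)))) ⁻¹'
          (C j ∩ C k) := ⟨hzj, hzk⟩
      rw [h Ω haΩ] at this
      exact this
  choose a₂ ha₂ h₂ using h2
  refine ⟨a₀ * (∏ j, a₁ j) * ∏ j, ∏ k, a₂ j k, ?_, ?_⟩
  · exact mul_ne_zero (mul_ne_zero ha₀ (Finset.prod_ne_zero_iff.mpr fun j _ => ha₁ j))
      (Finset.prod_ne_zero_iff.mpr fun j _ => Finset.prod_ne_zero_iff.mpr fun k _ => ha₂ j k)
  intro Ω _ _ haΩ
  rw [map_mul, map_mul] at haΩ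
  have hΩ₀ : algebraMap A Ω a₀ ≠ 0 := left_ne_zero_of_mul (left_ne_zero_of_mul haΩ)
  have hΩ₁ : ∀ j, algebraMap A Ω (a₁ j) ≠ 0 := by
    intro j h0
    apply right_ne_zero_of_mul (left_ne_zero_of_mul haΩ)
    rw [map_prod]
    exact Finset.prod_eq_zero (Finset.mem_univ j) h0
  have hΩ₂ : ∀ j k, algebraMap A Ω (a₂ j k) ≠ 0 := by
    intro j k h0
    apply right_ne_zero_of_mul haΩ
    rw [map_prod]
    refine Finset.prod_eq_zero (Finset.mem_univ j) ?_
    rw [map_prod]
    exact Finset.prod_eq_zero (Finset.mem_univ k) h0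
  set fst := pullback.fst f (Spec.map (CommRingCat.ofHom (algebraMap A Ω))) with hfst
  have hcard := card_connectedComponents_of_cover (fun j => fst ⁻¹' C j)
    (fun j => (hC j).preimage fst.continuous)
    (fun j => ⟨(h₁ j Ω (hΩ₁ j)).nonempty, (h₁ j Ω (hΩ₁ j)).isPreirreducible.isPreconnected⟩)
    (fun z => by
      obtain ⟨j, hj⟩ := Set.mem_iUnion.mp (h₀ Ω hΩ₀ z)
      exact ⟨j, hj⟩)
  rw [hcard]
  have hrel : (fun j k => ((fst ⁻¹' C j) ∩ (fst ⁻¹' C k)).Nonempty) =
      (fun j k => ∃ x ∈ C j ∩ C k, (f x).asIdeal = ⊥) := by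
    funext j k
    exact propext (h₂ j k Ω (hΩ₂ j k))
  rw [hrel]

end thmCpp

section dpp

variable {A : Type u} [CommRing A] [IsDomain A] {X : Scheme.{u}} (f : X ⟶ Spec (.of A))

/-- **Theorem D⁺⁺, core**: if the irreducible components of the geometric fibre over `L = Frac A'`
are geometrically irreducible, the geometric fibres of the base change to `A'` have a constant
number of connected components over a nonempty open of `Spec A'` -/
theorem exists_ne_zero_forall_card_baseChange [LocallyOfFiniteType f] [QuasiCompact f]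
    (L : Type u) [Field L] [Algebra A L] (A' : Type u) [CommRing A'] [IsDomain A'] [Algebra A A']
    [Algebra A' L] [IsScalarTower A A' L] [IsFractionRing A' L]
    (hfin : (irreducibleComponents ↥(pullback f (gpt A L))).Finite)
    (hgi : ∀ T ∈ irreducibleComponents ↥(pullback f (gpt A L)),
      ∀ (Ω : Type u) [Field Ω] [Algebra A Ω] [Algebra L Ω] [IsScalarTower A L Ω],
        IsIrreducible ((towerMap f L Ω) ⁻¹' T)) :
    ∃ (N : ℕ∞) (a' : A'), a' ≠ 0 ∧
      ∀ (Ω' : Type u) [Field Ω'] [Algebra A' Ω'], algebraMap A' Ω' a' ≠ 0 →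
      ENat.card (_root_.ConnectedComponents
        ↥(pullback (pullback.snd f (gpt A A')) (gpt A' Ω'))) = N := by
  set m := towerMap f A' L with hm
  have hsq := isPullback_towerMap f A' L
  have hinjL : Function.Injective (algebraMap A' L) := IsFractionRing.injective A' L
  haveI : IsPreimmersion (gpt A' L) := IsPreimmersion.of_isLocalization (nonZeroDivisors A')
  haveI : IsPreimmersion m := MorphismProperty.of_isPullback (P := @IsPreimmersion) hsq.flip ‹_›
  have hemb : Topology.IsEmbedding m := m.isEmbedding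
  have hpreT : ∀ T : ↥(irreducibleComponents ↥(pullback f (gpt A L))),
      m ⁻¹' closure (m '' T.1) = T.1 := by
    intro T
    rw [← hemb.isInducing.closure_eq_preimage_closure_image]
    exact (isClosed_of_mem_irreducibleComponents _ T.2).closure_eq
  haveI : Finite ↥(irreducibleComponents ↥(pullback f (gpt A L))) := hfin.to_subtype
  refine ⟨_, exists_ne_zero_forall_card_connectedComponents
    (f := pullback.snd f (gpt A A'))
    (fun T : ↥(irreducibleComponents ↥(pullback f (gpt A L))) => closure (m '' T.1))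
    (fun _ => isClosed_closure) ?_ ?_⟩
  · intro T Ω' _ _ hinj
    letI : Algebra A Ω' := ((algebraMap A' Ω').comp (algebraMap A A')).toAlgebra
    haveI : IsScalarTower A A' Ω' := IsScalarTower.of_algebraMap_eq (fun _ => rfl)
    letI : Algebra L Ω' := (IsFractionRing.lift (K := L) hinj).toAlgebra
    haveI : IsScalarTower A' L Ω' := IsScalarTower.of_algebraMap_eq (fun x => by
      rw [RingHom.algebraMap_toAlgebra]
      exact (IsFractionRing.lift_algebraMap hinj x).symm)
    haveI : IsScalarTower A L Ω' := IsScalarTower.of_algebraMap_eq (fun x => by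
      rw [IsScalarTower.algebraMap_apply A A' Ω', IsScalarTower.algebraMap_apply A' L Ω',
        ← IsScalarTower.algebraMap_apply A A' L])
    rw [IsPullback.isIrreducible_preimage_iff (isPullback_towerMap f A' Ω')]
    have hcomp : towerMap f A' Ω' = towerMap f L Ω' ≫ m := (towerMap_comp f A' L Ω').symm
    have hpre : (towerMap f A' Ω') ⁻¹' closure (m '' T.1) = (towerMap f L Ω') ⁻¹' T.1 := by
      rw [hcomp]
      ext z
      simp only [Set.mem_preimage]
      rw [Scheme.Hom.comp_apply, ← Set.mem_preimage, hpreT T]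
    rw [hpre]
    exact hgi T.1 T.2 Ω'
  · intro x' hx'
    obtain ⟨pt⟩ : Nonempty ↥(Spec (CommRingCat.of L)) := inferInstance
    have hpt : (pullback.snd f (gpt A A')) x' = gpt A' L pt := by
      apply PrimeSpectrum.ext
      rw [hx']
      ext a
      rw [mem_asIdeal_geomPt_iff, Ideal.mem_bot]
      exact (map_eq_zero_iff _ hinjL).symm
    obtain ⟨w, hw, -⟩ := IsPullback.exists_preimage hsq x' pt hpt
    exact ⟨⟨irreducibleComponent w, irreducibleComponent_mem_irreducibleComponents w⟩,
      subset_closure ⟨w, mem_irreducibleComponent, hw⟩⟩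

end dpp

section affBaseConn2

variable {A : Type u} [CommRing A] [IsDomain A] {X : Scheme.{u}} (f : X ⟶ Spec (.of A))

/-- **EGA IV 9.7.8 (connected components) over an affine integral base** -/
theorem exists_ne_zero_forall_nGeomConnComp_eq [LocallyOfFiniteType f] [QuasiCompact f]
    (η₀ : ↥(Spec (CommRingCat.of A))) (hη₀ : η₀.asIdeal = ⊥) :
    ∃ a : A, a ≠ 0 ∧ ∀ y : ↥(Spec (CommRingCat.of A)), a ∉ y.asIdeal →
      MoreMor.nGeomConnComp f y = MoreMor.nGeomConnComp f η₀ := by
  obtain ⟨L, _, _, _, _, hfinL, hgi⟩ := exists_finite_ext_geomIrr_components f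
  obtain ⟨S, hSfg, hSfrac⟩ := exists_fg_subalgebra_isFractionRing (A := A) L
  haveI : Algebra.FiniteType A S := (Subalgebra.fg_iff_finiteType S).mp hSfg
  have hinjAL : Function.Injective (algebraMap A L) := by
    rw [IsScalarTower.algebraMap_eq A (FractionRing A) L]
    exact (algebraMap (FractionRing A) L).injective.comp
      (IsFractionRing.injective A (FractionRing A))
  have hinjAS : Function.Injective (algebraMap A S) := by
    intro x y hxy
    apply hinjAL
    rw [IsScalarTower.algebraMap_apply A S L, hxy, ← IsScalarTower.algebraMap_apply A S L]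
  haveI : IsNoetherian (pullback f (gpt A L)) := { }
  obtain ⟨N, a', ha', hcore⟩ := exists_ne_zero_forall_card_baseChange f L S
    finite_irreducibleComponents_of_isNoetherian hgi
  refine exists_ne_zero_forall_eq_of_baseChange_fg f (fun f y => MoreMor.nGeomConnComp f y)
    (fun f f' g' g hc y' => Groth.Agent.Lib.Helper2.GeomFibBC.nGeomConnComp_eq f f' g' g hc y')
    S hinjAS N a' ha' ?_ η₀ hη₀
  intro y' hy'
  show MoreMor.nGeomConnComp _ y' = _
  rw [nGeomConnComp_eq_card]
  obtain ⟨ψ, hψ⟩ := Spec.map_surjective (sepPt y')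
  letI : Algebra S (SeparableClosure ((Spec (CommRingCat.of S)).residueField y')) :=
    ψ.hom.toAlgebra
  have halg : CommRingCat.ofHom
      (algebraMap S (SeparableClosure ((Spec (CommRingCat.of S)).residueField y'))) = ψ := rfl
  rw [← hψ, ← halg]
  apply hcore
  intro h0
  obtain ⟨pt⟩ : Nonempty ↥(Spec (CommRingCat.of
    (SeparableClosure ((Spec (CommRingCat.of S)).residueField y')))) := inferInstance
  apply hy'
  have hpt : Spec.map ψ pt = y' := by rw [hψ]; exact sepPt_apply y' pt
  rw [← hpt, ← halg]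
  exact (mem_asIdeal_geomPt_iff _ pt a').mpr h0

end affBaseConn2

end Groth.Agent.Lib.Helper22.GI
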