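import Mathlib
import Groth.Agent.Lib.Helper22GI11
import Groth.Agent.Lib.Helper12GeomConn
import Groth.Prelude.Def_MoreMor
import Groth.Agent.S1324

set_option autoImplicit false
set_option linter.style.haveILetI false
set_option linter.unusedSectionVars false
universe u

open AlgebraicGeometry CategoryTheory Limits TensorProduct

namespace Groth.Agent.Lib.Helper22.GI

/-- in a space with finitely many irreducible components the connected components are open -/
theorem isOpen_connectedComponent_of_finite_irreducibleComponents {α : Type*} [TopologicalSpace α]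
    (h : (irreducibleComponents α).Finite) (x : α) : IsOpen (connectedComponent x) := by
  have hcompl : (connectedComponent x)ᶜ =
      ⋃ T ∈ {T ∈ irreducibleComponents α | ¬ T ⊆ connectedComponent x}, T := by
    ext y
    simp only [Set.mem_compl_iff, Set.mem_iUnion, exists_prop, Set.mem_ofPred_eq]
    constructor
    · intro hy
      exact ⟨irreducibleComponent y, ⟨irreducibleComponent_mem_irreducibleComponents y,
        fun hsub => hy (hsub mem_irreducibleComponent)⟩, mem_irreducibleComponent⟩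
    · rintro ⟨T, ⟨hT, hnsub⟩, hyT⟩ hy
      apply hnsub
      have hpre : _root_.IsPreconnected T := hT.1.isPreirreducible.isPreconnected
      have := hpre.subset_connectedComponent hyT
      rwa [← connectedComponent_eq hy] at this
  rw [← isClosed_compl_iff, hcompl]
  exact (h.subset (fun T hT => hT.1)).isClosed_biUnion
    fun T hT => isClosed_of_mem_irreducibleComponents T hT.1

section pointwise

variable {A : Type u} [CommRing A] [IsDomain A] {X : Scheme.{u}} (f : X ⟶ Spec (.of A))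

/-- every point of `X` is the image of a point of a geometric fibre over its residue field -/
theorem exists_geomPt_of_point (x : X) :
    ∃ (Ω : Type u) (_ : Field Ω) (_ : Algebra A Ω) (z : ↥(pullback f (gpt A Ω))),
      pullback.fst f (gpt A Ω) z = x ∧ ∀ a : A, algebraMap A Ω a = 0 ↔ a ∈ (f x).asIdeal := by
  obtain ⟨ψ, hψ⟩ := Spec.map_surjective ((Spec (CommRingCat.of A)).fromSpecResidueField (f x))
  letI : Algebra A ((Spec (CommRingCat.of A)).residueField (f x)) := ψ.hom.toAlgebra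
  have halg : CommRingCat.ofHom
      (algebraMap A ((Spec (CommRingCat.of A)).residueField (f x))) = ψ := rfl
  obtain ⟨pt⟩ : Nonempty ↥(Spec (CommRingCat.of ((Spec (CommRingCat.of A)).residueField (f x)))) :=
    inferInstance
  have hpt : gpt A ((Spec (CommRingCat.of A)).residueField (f x)) pt = f x := by
    show Spec.map (CommRingCat.ofHom (algebraMap A _)) pt = f x
    rw [halg, hψ]
    exact Scheme.fromSpecResidueField_apply _ _
  obtain ⟨z, hz1, -⟩ := Scheme.Pullback.exists_preimage_pullback x pt hpt.symm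
  refine ⟨_, inferInstance, inferInstance, z, hz1, fun a => ?_⟩
  have h1 := mem_asIdeal_geomPt_iff ((Spec (CommRingCat.of A)).residueField (f x)) pt a
  have h2 : a ∈ (gpt A ((Spec (CommRingCat.of A)).residueField (f x)) pt).asIdeal ↔
      a ∈ (f x).asIdeal := by rw [hpt]
  exact h1.symm.trans h2

/-- pointwise form of C2 -/
theorem exists_ne_zero_forall_mem_of_isClosed' [LocallyOfFiniteType f] [QuasiCompact f]
    (G : Set X) (hG : IsClosed G) (hη : ∀ x : X, (f x).asIdeal = ⊥ → x ∈ G) :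
    ∃ a : A, a ≠ 0 ∧ ∀ x : X, a ∉ (f x).asIdeal → x ∈ G := by
  obtain ⟨a, ha, h⟩ := exists_ne_zero_forall_mem_of_isClosed (f := f) G hG hη
  refine ⟨a, ha, fun x hx => ?_⟩
  obtain ⟨Ω, _, _, z, hz, hker⟩ := exists_geomPt_of_point f x
  rw [← hz]
  exact h Ω (fun h0 => hx ((hker a).mp h0)) z

/-- pointwise form of C3 -/
theorem exists_ne_zero_forall_notMem_of_isClosed [LocallyOfFiniteType f] [QuasiCompact f]
    (C : Set X) (hC : IsClosed C) (hne : ∀ x ∈ C, (f x).asIdeal ≠ ⊥) :
    ∃ a : A, a ≠ 0 ∧ ∀ x : X, a ∉ (f x).asIdeal → x ∉ C := by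
  obtain ⟨a, ha, h⟩ := exists_ne_zero_preimage_eq_empty (f := f) C hC hne
  refine ⟨a, ha, fun x hx hxC => ?_⟩
  obtain ⟨Ω, _, _, z, hz, hker⟩ := exists_geomPt_of_point f x
  have : z ∈ (pullback.fst f (gpt A Ω)) ⁻¹' C := by
    rw [Set.mem_preimage, hz]; exact hxC
  rw [h Ω (fun h0 => hx ((hker a).mp h0))] at this
  exact this

end pointwise

section core

variable {A : Type u} [CommRing A] [IsDomain A] {X : Scheme.{u}} (f : X ⟶ Spec (.of A))

/-- **section components over an affine integral base**: over a nonempty open of the base the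
section components form an open and closed subset -/
theorem exists_opens_isClopen_sectionComponents [LocallyOfFiniteType f] [QuasiCompact f]
    (s : Spec (.of A) ⟶ X) (hs : s ≫ f = 𝟙 _) (η : ↥(Spec (CommRingCat.of A)))
    (hη : η.asIdeal = ⊥) :
    ∃ V : (Spec (CommRingCat.of A)).Opens, η ∈ V ∧
      IsClopen (Subtype.val ⁻¹' MoreMor.sectionComponents f s :
        Set ↑(f ⁻¹' (V : Set ↥(Spec (CommRingCat.of A))))) := by
  classical
  have hfs : ∀ y, f (s y) = y := fun y => by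
    rw [← Scheme.Hom.comp_apply, hs]; rfl
  have hηiff : ∀ x : X, (f x).asIdeal = ⊥ ↔ f x = η :=
    fun x => ⟨fun h => PrimeSpectrum.ext (h.trans hη.symm), fun h => h ▸ hη⟩
  let B : A → (Spec (CommRingCat.of A)).Opens := fun a => PrimeSpectrum.basicOpen a
  have hB : ∀ (a : A) (y : ↥(Spec (CommRingCat.of A))), y ∈ B a ↔ a ∉ y.asIdeal :=
    fun a y => Iff.rfl
  have hηB : ∀ a : A, a ≠ 0 → η ∈ B a := fun a ha => by
    rw [hB, hη, Ideal.mem_bot]; exact ha
  -- the generic fibre has finitely many irreducible components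
  set F : Set X := f ⁻¹' {η} with hF
  have hsη : s η ∈ F := hfs η
  haveI : LocallyOfFiniteType (f.fiberToSpecResidueField η) := by
    show LocallyOfFiniteType (pullback.snd f ((Spec (CommRingCat.of A)).fromSpecResidueField η))
    infer_instance
  haveI : QuasiCompact (f.fiberToSpecResidueField η) := by
    show QuasiCompact (pullback.snd f ((Spec (CommRingCat.of A)).fromSpecResidueField η))
    infer_instance
  haveI : IsLocallyNoetherian (f.fiber η) :=
    LocallyOfFiniteType.isLocallyNoetherian (f.fiberToSpecResidueField η)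
  haveI : CompactSpace ↥(f.fiber η) :=
    QuasiCompact.compactSpace_of_compactSpace (f.fiberToSpecResidueField η)
  haveI : IsNoetherian (f.fiber η) := { }
  have hfinF : (irreducibleComponents ↑F).Finite := by
    rw [← Set.encard_lt_top_iff, ← encard_irreducibleComponents_congr (f.fiberHomeo η),
      Set.encard_lt_top_iff]
    exact finite_irreducibleComponents_of_isNoetherian
  set C₁ : Set ↑F := connectedComponent (⟨s η, hsη⟩ : ↑F) with hC₁
  have hC₁o : IsOpen C₁ := isOpen_connectedComponent_of_finite_irreducibleComponents hfinF _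
  have hC₁c : IsClosed C₁ := isClosed_connectedComponent
  obtain ⟨K₁, hK₁c, hK₁⟩ := isClosed_induced_iff.mp hC₁c
  obtain ⟨K₂, hK₂c, hK₂⟩ := isClosed_induced_iff.mp hC₁o.isClosed_compl
  have hmemK₁ : ∀ (x : X) (hx : x ∈ F), x ∈ K₁ ↔ (⟨x, hx⟩ : ↑F) ∈ C₁ := fun x hx => by
    rw [← hK₁]; rfl
  have hmemK₂ : ∀ (x : X) (hx : x ∈ F), x ∈ K₂ ↔ (⟨x, hx⟩ : ↑F) ∉ C₁ := fun x hx => by
    rw [← Set.mem_compl_iff, ← hK₂]; rfl
  obtain ⟨a₁, ha₁, h₁⟩ := exists_ne_zero_forall_mem_of_isClosed' f (K₁ ∪ K₂) (hK₁c.union hK₂c)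
    (fun x hx => by
      have hxF : x ∈ F := (hηiff x).mp hx
      by_cases h : (⟨x, hxF⟩ : ↑F) ∈ C₁
      · exact Or.inl ((hmemK₁ x hxF).mpr h)
      · exact Or.inr ((hmemK₂ x hxF).mpr h))
  obtain ⟨a₂, ha₂, h₂⟩ := exists_ne_zero_forall_notMem_of_isClosed f (K₁ ∩ K₂)
    (hK₁c.inter hK₂c) (fun x hx hx0 => by
      have hxF : x ∈ F := (hηiff x).mp hx0
      exact (hmemK₂ x hxF).mp hx.2 ((hmemK₁ x hxF).mp hx.1))
  have ha₁₂ : a₁ * a₂ ≠ 0 := mul_ne_zero ha₁ ha₂
  -- the two open pieces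
  let W₁ : X.Opens := (f ⁻¹ᵁ B (a₁ * a₂)) ⊓ ⟨K₂ᶜ, hK₂c.isOpen_compl⟩
  let W₂ : X.Opens := (f ⁻¹ᵁ B (a₁ * a₂)) ⊓ ⟨K₁ᶜ, hK₁c.isOpen_compl⟩
  have hsplit : ∀ x : X, a₁ * a₂ ∉ (f x).asIdeal → (x ∈ K₁ ∧ x ∉ K₂) ∨ (x ∈ K₂ ∧ x ∉ K₁) := by
    intro x hx
    have hx₁ : a₁ ∉ (f x).asIdeal := fun h => hx (Ideal.mul_mem_right _ _ h)
    have hx₂ : a₂ ∉ (f x).asIdeal := fun h => hx (Ideal.mul_mem_left _ _ h)
    have h12 : ¬ (x ∈ K₁ ∧ x ∈ K₂) := fun h => h₂ x hx₂ h
    rcases h₁ x hx₁ with h | h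
    · exact Or.inl ⟨h, fun h' => h12 ⟨h, h'⟩⟩
    · exact Or.inr ⟨h, fun h' => h12 ⟨h', h⟩⟩
  have hW₁ : ∀ x : X, x ∈ W₁ ↔ a₁ * a₂ ∉ (f x).asIdeal ∧ x ∈ K₁ := by
    intro x
    constructor
    · rintro ⟨hx, hxK⟩
      rcases hsplit x hx with h | h
      · exact ⟨hx, h.1⟩
      · exact absurd h.1 hxK
    · rintro ⟨hx, hxK⟩
      rcases hsplit x hx with h | h
      · exact ⟨hx, h.2⟩
      · exact absurd hxK h.2
  have hW₁₂ : ∀ x : X, a₁ * a₂ ∉ (f x).asIdeal → x ∈ W₁ ∨ x ∈ W₂ := by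
    intro x hx
    rcases hsplit x hx with h | h
    · exact Or.inl ⟨hx, h.2⟩
    · exact Or.inr ⟨hx, h.2⟩
  have hdisj : Disjoint (W₁ : Set X) (W₂ : Set X) := by
    rw [Set.disjoint_left]
    rintro x ⟨hx, hx₂⟩ ⟨-, hx₁⟩
    rcases hsplit x hx with h | h
    · exact hx₁ h.1
    · exact hx₂ h.1
  -- `W₁` is quasi-compact over the base
  have hcompW₁ : IsCompact (W₁ : Set X) := by
    have h1 : IsCompact ((f ⁻¹ᵁ B (a₁ * a₂) : X.Opens) : Set X) :=
      QuasiCompact.isCompact_preimage (f := f) _ (B (a₁ * a₂)).2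
        (PrimeSpectrum.isCompact_basicOpen (a₁ * a₂))
    have h2 : (W₁ : Set X) = ((f ⁻¹ᵁ B (a₁ * a₂) : X.Opens) : Set X) ∩ K₁ := by
      ext x
      exact hW₁ x
    rw [h2]
    exact h1.inter_right hK₁c
  haveI : CompactSpace ↥(W₁ : Scheme.{u}) := isCompact_iff_compactSpace.mp hcompW₁
  set f₁ : (W₁ : Scheme.{u}) ⟶ Spec (CommRingCat.of A) := W₁.ι ≫ f with hf₁
  haveI : QuasiCompact f₁ := quasiCompact_of_compactSpace f₁
  -- the section lands in `W₁` generically
  have hsηW : s η ∈ W₁ := by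
    rw [hW₁, hfs η]
    exact ⟨hηB _ ha₁₂, (hmemK₁ _ hsη).mpr mem_connectedComponent⟩
  -- the generic fibre of `f₁` is the component of `s η`
  have hfib₁ : ∀ y : ↥(Spec (CommRingCat.of A)),
      W₁.ι '' (f₁ ⁻¹' {y}) = (W₁ : Set X) ∩ f ⁻¹' {y} := by
    intro y
    ext x
    constructor
    · rintro ⟨w, hw, rfl⟩
      exact ⟨w.2, hw⟩
    · rintro ⟨hxW, hxy⟩
      exact ⟨⟨x, hxW⟩, hxy, rfl⟩
  have hgenconn : _root_.IsConnected (f₁ ⁻¹' {η}) := by
    have h1 : W₁.ι '' (f₁ ⁻¹' {η}) = connectedComponentIn F (s η) := by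
      rw [hfib₁ η, connectedComponentIn_eq_image hsη]
      ext x
      constructor
      · rintro ⟨hxW, hxF⟩
        exact ⟨⟨x, hxF⟩, (hmemK₁ x hxF).mp ((hW₁ x).mp hxW).2, rfl⟩
      · rintro ⟨⟨x', hx'F⟩, hx'C, rfl⟩
        refine ⟨(hW₁ x').mpr ⟨?_, (hmemK₁ x' hx'F).mpr hx'C⟩, hx'F⟩
        have : f x' = η := hx'F
        rw [this]
        exact hηB _ ha₁₂
    have h2 : _root_.IsConnected (W₁.ι '' (f₁ ⁻¹' {η})) := by
      rw [h1]
      exact isConnected_connectedComponentIn_iff.mpr hsη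
    exact ⟨(Set.image_nonempty.mp h2.nonempty),
      (W₁.ι.isEmbedding.isInducing.isPreconnected_image).mp h2.isPreconnected⟩
  haveI : ConnectedSpace ↥(f₁.fiber η) := by
    haveI : ConnectedSpace ↑(f₁ ⁻¹' {η}) := isConnected_iff_connectedSpace.mp hgenconn
    exact (f₁.fiberHomeo η).connectedSpace_iff.mpr inferInstance
  -- the section of the generic fibre
  have hrange : Set.range ⇑((Spec (CommRingCat.of A)).fromSpecResidueField η ≫ s) ⊆
      Set.range ⇑W₁.ι := by
    rintro _ ⟨pt, rfl⟩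
    rw [Scheme.Opens.range_ι, Scheme.Hom.comp_apply, Scheme.fromSpecResidueField_apply]
    exact hsηW
  let t := IsOpenImmersion.lift W₁.ι ((Spec (CommRingCat.of A)).fromSpecResidueField η ≫ s) hrange
  have ht : t ≫ W₁.ι = (Spec (CommRingCat.of A)).fromSpecResidueField η ≫ s :=
    IsOpenImmersion.lift_fac _ _ _
  let σ : Spec ((Spec (CommRingCat.of A)).residueField η) ⟶ f₁.fiber η :=
    pullback.lift t (𝟙 _) (by
      rw [hf₁, ← Category.assoc, ht, Category.assoc, hs, Category.comp_id, Category.id_comp])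
  have hσ : σ ≫ f₁.fiberToSpecResidueField η = 𝟙 _ := pullback.lift_snd _ _ _
  have hgc : GeometricallyConnected (f₁.fiberToSpecResidueField η) :=
    Groth.Agent.Lib.Helper12.GeomConn.geometricallyConnected_of_section
      (k := (Spec (CommRingCat.of A)).residueField η) (f₁.fiberToSpecResidueField η) σ hσ
  obtain ⟨a₃, ha₃, h₃⟩ := exists_ne_zero_forall_geomConn_fiber f₁ η hη hgc
  -- where the section lands in `W₁`
  have hsW : IsOpen (s ⁻¹' (W₁ : Set X)) := W₁.2.preimage s.continuous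
  obtain ⟨_, ⟨a₄, rfl⟩, ha₄η, ha₄sub⟩ :=
    PrimeSpectrum.isTopologicalBasis_basic_opens.exists_subset_of_mem_open
      (show η ∈ s ⁻¹' (W₁ : Set X) from hsηW) hsW
  have ha₄ : a₄ ≠ 0 := by
    rintro rfl
    apply ha₄η
    show (0 : A) ∈ η.asIdeal
    exact Ideal.zero_mem _
  refine ⟨B (a₁ * a₂ * a₃ * a₄), hηB _ (mul_ne_zero (mul_ne_zero ha₁₂ ha₃) ha₄), ?_⟩
  -- the section components are the trace of `W₁`
  have hkey : ∀ x : X, f x ∈ B (a₁ * a₂ * a₃ * a₄) →
      (x ∈ MoreMor.sectionComponents f s ↔ x ∈ W₁) := by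
    intro x hx
    rw [hB] at hx
    have hx₁₂ : a₁ * a₂ ∉ (f x).asIdeal := fun h =>
      hx (Ideal.mul_mem_right _ _ (Ideal.mul_mem_right _ _ h))
    have hx₃ : a₃ ∉ (f x).asIdeal := fun h =>
      hx (Ideal.mul_mem_right _ _ (Ideal.mul_mem_left _ _ h))
    have hx₄ : a₄ ∉ (f x).asIdeal := fun h => hx (Ideal.mul_mem_left _ _ h)
    set y := f x with hy
    have hsyW : s y ∈ W₁ := ha₄sub (show y ∈ (PrimeSpectrum.basicOpen a₄ :
      Set (PrimeSpectrum A)) from hx₄)
    have hsy : s y ∈ f ⁻¹' {y} := hfs y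
    -- the fibre of `f₁` over `y` is connected
    have hconn : _root_.IsPreconnected ((W₁ : Set X) ∩ f ⁻¹' {y}) := by
      haveI := h₃ y hx₃
      haveI : ConnectedSpace ↥(f₁.fiber y) :=
        GeometricallyConnected.connectedSpace_of_subsingleton (f₁.fiberToSpecResidueField y)
      have h1 : _root_.IsConnected (f₁ ⁻¹' {y}) := by
        rw [← f₁.range_fiberι, ← Set.image_univ]
        exact isConnected_univ.image _ (f₁.fiberι _).continuous.continuousOn
      rw [← hfib₁ y]
      exact h1.isPreconnected.image _ W₁.ι.continuous.continuousOn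
    show x ∈ connectedComponentIn (f ⁻¹' {y}) (s y) ↔ x ∈ W₁
    constructor
    · intro hxC
      have hpre : _root_.IsPreconnected (connectedComponentIn (f ⁻¹' {y}) (s y)) :=
        isPreconnected_connectedComponentIn
      have hsub : connectedComponentIn (f ⁻¹' {y}) (s y) ⊆ (W₁ : Set X) ∪ (W₂ : Set X) := by
        intro z hz
        have hzy : z ∈ f ⁻¹' {y} := connectedComponentIn_subset _ _ hz
        have hzy' : f z = y := hzy
        exact hW₁₂ z (hzy' ▸ hx₁₂)
      exact hpre.subset_left_of_subset_union W₁.2 W₂.2 hdisj hsub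
        ⟨s y, mem_connectedComponentIn hsy, hsyW⟩ hxC
    · intro hxW
      exact hconn.subset_connectedComponentIn ⟨hsyW, hsy⟩ Set.inter_subset_right ⟨hxW, rfl⟩
  have heq : (Subtype.val ⁻¹' MoreMor.sectionComponents f s :
      Set ↑(f ⁻¹' ((B (a₁ * a₂ * a₃ * a₄) : (Spec (CommRingCat.of A)).Opens) :
        Set ↥(Spec (CommRingCat.of A))))) = Subtype.val ⁻¹' (W₁ : Set X) := by
    ext ⟨x, hx⟩
    exact hkey x hx
  rw [heq]
  refine ⟨?_, W₁.2.preimage continuous_subtype_val⟩
  have heq₂ : (Subtype.val ⁻¹' (W₁ : Set X) :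
      Set ↑(f ⁻¹' ((B (a₁ * a₂ * a₃ * a₄) : (Spec (CommRingCat.of A)).Opens) :
        Set ↥(Spec (CommRingCat.of A))))) = Subtype.val ⁻¹' K₁ := by
    ext ⟨x, hx⟩
    have hx' : a₁ * a₂ * a₃ * a₄ ∉ (f x).asIdeal := hx
    have hx₁₂ : a₁ * a₂ ∉ (f x).asIdeal := fun h =>
      hx' (Ideal.mul_mem_right _ _ (Ideal.mul_mem_right _ _ h))
    show x ∈ W₁ ↔ x ∈ K₁
    rw [hW₁]
    exact ⟨fun h => h.2, fun h => ⟨hx₁₂, h⟩⟩
  rw [heq₂]
  exact hK₁c.preimage continuous_subtype_val

end core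

section reductionSC

variable {X Y : Scheme.{u}} (f : X ⟶ Y) (s : Y ⟶ X) (hs : s ≫ f = 𝟙 Y)

include hs in
/-- transport of the clopen property of section components along a base change by a topological
embedding -/
theorem isClopen_sectionComponents_of_isPreimmersion {Y' : Scheme.{u}} (g : Y' ⟶ Y)
    [IsPreimmersion g] (V' : Set ↥Y')
    (h : IsClopen (Subtype.val ⁻¹' MoreMor.sectionComponents (pullback.snd f g)
      (pullback.lift (g ≫ s) (𝟙 Y') (by rw [Category.assoc, hs, Category.comp_id,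
        Category.id_comp])) : Set ↑((pullback.snd f g) ⁻¹' V'))) :
    IsClopen (Subtype.val ⁻¹' MoreMor.sectionComponents f s : Set ↑(f ⁻¹' (g '' V'))) := by
  set f' := pullback.snd f g with hf'
  set g' := pullback.fst f g with hg'
  set s' : Y' ⟶ pullback f g := pullback.lift (g ≫ s) (𝟙 Y') (by
    rw [Category.assoc, hs, Category.comp_id, Category.id_comp]) with hs'def
  have hs' : s' ≫ f' = 𝟙 Y' := pullback.lift_snd _ _ _
  have hs'g : s' ≫ g' = g ≫ s := pullback.lift_fst _ _ _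
  have hSC := Groth.Agent.S1324.result f s hs f' g' g (IsPullback.of_hasPullback f g) s' hs' hs'g
  have hcond : ∀ x', f (g' x') = g (f' x') := fun x' => by
    rw [← Scheme.Hom.comp_apply, ← Scheme.Hom.comp_apply, pullback.condition]
  let e : ↑(f' ⁻¹' V') → ↑(f ⁻¹' (g '' V')) := fun x' =>
    ⟨g' x'.1, ⟨f' x'.1, x'.2, (hcond x'.1).symm⟩⟩
  have hecont : Continuous e := (g'.continuous.comp continuous_subtype_val).subtype_mk _
  have hemb : Topology.IsEmbedding e := by
    refine Topology.IsEmbedding.of_comp hecont continuous_subtype_val ?_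
    exact g'.isEmbedding.comp Topology.IsEmbedding.subtypeVal
  have hsurj : Function.Surjective e := by
    rintro ⟨x, v', hv', hx⟩
    obtain ⟨x', hx'1, hx'2⟩ := Scheme.Pullback.exists_preimage_pullback x v' hx.symm
    exact ⟨⟨x', by show f' x' ∈ V'; rw [hx'2]; exact hv'⟩, Subtype.ext hx'1⟩
  let E := hemb.toHomeomorphOfSurjective hsurj
  have hpre : (Subtype.val ⁻¹' MoreMor.sectionComponents f' s' : Set ↑(f' ⁻¹' V')) =
      E ⁻¹' (Subtype.val ⁻¹' MoreMor.sectionComponents f s : Set ↑(f ⁻¹' (g '' V'))) := by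
    rw [hSC]
    rfl
  rw [hpre] at h
  exact ⟨E.isClosed_preimage.mp h.1, E.isOpen_preimage.mp h.2⟩

include hs in
/-- **section components are open and closed over an open of the closure of a point** -/
theorem exists_isClopen_sectionComponents [LocallyOfFiniteType f] [QuasiCompact f] (y : Y) :
    ∃ V : Set ↑Y, V ⊆ closure {y} ∧ y ∈ V ∧
      IsOpen (Subtype.val ⁻¹' V : Set ↑(closure ({y} : Set ↑Y))) ∧
      IsClopen (Subtype.val ⁻¹' MoreMor.sectionComponents f s : Set ↑(f ⁻¹' V)) := by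
  set I := Scheme.IdealSheafData.vanishingIdeal ⟨closure ({y} : Set ↑Y), isClosed_closure⟩ with hI
  set ι := I.subschemeι with hι
  have hr : Set.range ⇑ι = closure ({y} : Set ↑Y) :=
    range_subschemeι_vanishingIdeal (closure {y}) isClosed_closure
  have hind : Topology.IsInducing ⇑ι := ι.isEmbedding.isInducing
  obtain ⟨z₀, hz₀⟩ : y ∈ Set.range ⇑ι := hr ▸ subset_closure rfl
  have hcl : closure ({z₀} : Set ↥I.subscheme) = Set.univ := by
    rw [hind.closure_eq_preimage_closure_image, Set.image_singleton, hz₀, ← hr]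
    exact Set.preimage_range _
  haveI : IrreducibleSpace ↥I.subscheme := by
    have h1 : IsIrreducible (Set.univ : Set ↥I.subscheme) := hcl ▸ isIrreducible_singleton.closure
    exact (irreducibleSpace_def _).mpr h1
  -- an affine open neighbourhood of the generic point
  obtain ⟨W, hW₀, hz₀W, -⟩ := (TopologicalSpace.Opens.isBasis_iff_nbhd.mp
    I.subscheme.isBasis_affineOpens) (show z₀ ∈ (⊤ : I.subscheme.Opens) from trivial)
  have hW : IsAffineOpen W := hW₀
  haveI : Nonempty ↥(W : Scheme.{u}) := ⟨⟨z₀, hz₀W⟩⟩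
  haveI : IrreducibleSpace ↥(W : Scheme.{u}) :=
    (Scheme.Opens.ι W).isOpenEmbedding.irreducibleSpace
  haveI hirrR : IrreducibleSpace ↥(Spec Γ(I.subscheme, W)) :=
    hW.isoSpec.hom.homeomorph.irreducibleSpace_iff.mp inferInstance
  haveI hnil : (nilradical Γ(I.subscheme, W)).IsPrime :=
    PrimeSpectrum.irreducibleSpace_iff_isPrime_nilradical.mp hirrR
  haveI : IsDomain (Γ(I.subscheme, W) ⧸ nilradical Γ(I.subscheme, W)) :=
    Ideal.Quotient.isDomain _
  set q : Γ(I.subscheme, W) →+* (Γ(I.subscheme, W) ⧸ nilradical Γ(I.subscheme, W)) :=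
    Ideal.Quotient.mk (nilradical Γ(I.subscheme, W)) with hqdef
  have hq : Function.Surjective q := Ideal.Quotient.mk_surjective
  have hker : (⊥ : Ideal (Γ(I.subscheme, W) ⧸ nilradical Γ(I.subscheme, W))).comap q =
      nilradical Γ(I.subscheme, W) := by
    rw [← RingHom.ker_eq_comap_bot, Ideal.mk_ker]
  haveI : IsClosedImmersion (Spec.map (CommRingCat.ofHom q)) :=
    IsClosedImmersion.spec_of_surjective _ hq
  set g₀ : Spec (.of (Γ(I.subscheme, W) ⧸ nilradical Γ(I.subscheme, W))) ⟶ I.subscheme :=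
    Spec.map (CommRingCat.ofHom q) ≫ hW.fromSpec with hg₀
  -- the range of `g₀` is `W`
  have hrange₀ : Set.range ⇑g₀ = (W : Set ↥I.subscheme) := by
    apply Set.Subset.antisymm
    · rintro _ ⟨p', rfl⟩
      rw [hg₀, Scheme.Hom.comp_apply, ← hW.range_fromSpec]
      exact ⟨_, rfl⟩
    · intro z hzW
      obtain ⟨p, rfl⟩ : z ∈ Set.range hW.fromSpec := by rw [hW.range_fromSpec]; exact hzW
      haveI : p.asIdeal.IsPrime := p.isPrime
      have hle : RingHom.ker q ≤ p.asIdeal := by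
        rw [Ideal.mk_ker]; exact nilradical_le_prime p.asIdeal
      have hcm : (p.asIdeal.map q).comap q = p.asIdeal := by
        rw [Ideal.comap_map_of_surjective q hq, hker]
        exact sup_eq_left.mpr (nilradical_le_prime p.asIdeal)
      let p' : ↥(Spec (.of (Γ(I.subscheme, W) ⧸ nilradical Γ(I.subscheme, W)))) :=
        (⟨p.asIdeal.map q, Ideal.map_isPrime_of_surjective hq hle⟩ :
          PrimeSpectrum (Γ(I.subscheme, W) ⧸ nilradical Γ(I.subscheme, W)))
      have h1 : Spec.map (CommRingCat.ofHom q) p' = p := PrimeSpectrum.ext hcm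
      exact ⟨p', by rw [hg₀, Scheme.Hom.comp_apply, h1]⟩
  haveI : IsPreimmersion g₀ := by rw [hg₀]; infer_instance
  have hopen₀ : Topology.IsOpenEmbedding ⇑g₀ :=
    ⟨g₀.isEmbedding, by rw [hrange₀]; exact W.2⟩
  -- the generic point
  let η₀ : ↥(Spec (.of (Γ(I.subscheme, W) ⧸ nilradical Γ(I.subscheme, W)))) :=
    (⟨⊥, Ideal.isPrime_bot⟩ : PrimeSpectrum (Γ(I.subscheme, W) ⧸ nilradical Γ(I.subscheme, W)))
  have hgη : g₀ η₀ = z₀ := by
    have hclη : closure ({η₀} : Set ↥(Spec (.of (Γ(I.subscheme, W) ⧸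
        nilradical Γ(I.subscheme, W))))) = Set.univ := by
      have := PrimeSpectrum.closure_singleton
        (⟨⊥, Ideal.isPrime_bot⟩ : PrimeSpectrum (Γ(I.subscheme, W) ⧸ nilradical Γ(I.subscheme, W)))
      have hz : PrimeSpectrum.zeroLocus
          (((⊥ : Ideal (Γ(I.subscheme, W) ⧸ nilradical Γ(I.subscheme, W))) :
            Set (Γ(I.subscheme, W) ⧸ nilradical Γ(I.subscheme, W)))) = Set.univ := by simp
      exact this.trans hz
    have h2 : Set.range g₀ ⊆ closure {g₀ η₀} := by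
      rw [← Set.image_univ, ← hclη]
      refine (image_closure_subset_closure_image g₀.continuous).trans ?_
      rw [Set.image_singleton]
    have h4 : Dense (W : Set ↥I.subscheme) := W.2.dense ⟨z₀, hz₀W⟩
    have h1 : IsGenericPoint (g₀ η₀) (⊤ : Set ↥I.subscheme) := by
      show closure {g₀ η₀} = Set.univ
      apply Set.eq_univ_of_univ_subset
      rw [← h4.closure_eq]
      exact closure_minimal (hrange₀ ▸ h2) isClosed_closure
    have h0 : IsGenericPoint z₀ (⊤ : Set ↥I.subscheme) := hcl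
    exact h1.eq h0
  -- the core over the affine integral base
  set g := g₀ ≫ ι with hg
  haveI : IsPreimmersion g := by rw [hg]; infer_instance
  obtain ⟨V', hηV', hclopen⟩ := exists_opens_isClopen_sectionComponents (pullback.snd f g)
    (pullback.lift (g ≫ s) (𝟙 _) (by rw [Category.assoc, hs, Category.comp_id, Category.id_comp]))
    (pullback.lift_snd _ _ _) η₀ rfl
  have hfinal := isClopen_sectionComponents_of_isPreimmersion f s hs g (V' : Set _) hclopen
  refine ⟨g '' (V' : Set _), ?_, ⟨η₀, hηV', ?_⟩, ?_, hfinal⟩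
  · rintro _ ⟨v, -, rfl⟩
    rw [← hr, hg, Scheme.Hom.comp_apply]
    exact ⟨_, rfl⟩
  · rw [hg, Scheme.Hom.comp_apply, hgη, hz₀]
  · have hVZ : IsOpen (g₀ '' (V' : Set _)) := hopen₀.isOpenMap _ V'.2
    obtain ⟨O, hO, hOV⟩ := hind.isOpen_iff.mp hVZ
    have : (Subtype.val ⁻¹' (g '' (V' : Set _)) : Set ↑(closure ({y} : Set ↑Y))) =
        Subtype.val ⁻¹' O := by
      ext ⟨w, hw⟩
      simp only [Set.mem_preimage]
      constructor
      · rintro ⟨v, hv, rfl⟩
        have hz' : g₀ v ∈ ⇑ι ⁻¹' O := hOV ▸ ⟨v, hv, rfl⟩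
        show (g₀ ≫ ι) v ∈ O
        rw [Scheme.Hom.comp_apply]
        exact hz'
      · intro hwO
        obtain ⟨z, rfl⟩ : w ∈ Set.range ⇑ι := hr ▸ hw
        have hz' : z ∈ ⇑ι ⁻¹' O := hwO
        rw [hOV] at hz'
        obtain ⟨v, hv, rfl⟩ := hz'
        exact ⟨v, hv, Scheme.Hom.comp_apply g₀ ι v⟩
    rw [this]
    exact hO.preimage continuous_subtype_val

end reductionSC

end Groth.Agent.Lib.Helper22.GI
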