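import Mathlib
import Groth.Agent.Lib.Helper22GI14
import Groth.Agent.S2396
import Groth.Agent.S0591
import Groth.Agent.S9218
import Groth.Agent.Lib.Helper26FGZ
import Groth.Agent.Lib.Helper3LocusPair

set_option autoImplicit false
set_option linter.style.haveILetI false
set_option linter.unusedSectionVars false
universe u

open AlgebraicGeometry CategoryTheory Limits TensorProduct

namespace Groth.Agent.Lib.Helper22.GI

section noethSC

variable {X Y : Scheme.{u}} (f : X ⟶ Y) (s : Y ⟶ X) (hs : s ≫ f = 𝟙 Y)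

include hs in
/-- **constructibility of the section components over a Noetherian source** -/
theorem isConstructible_sectionComponents_of_noetherianSpace [LocallyOfFiniteType f]
    [QuasiCompact f] [TopologicalSpace.NoetherianSpace ↥X] :
    Topology.IsConstructible (MoreMor.sectionComponents f s) := by
  rw [Groth.Agent.S2396.result]
  intro T hTc hTi
  -- the generic point of `T`
  obtain ⟨ξ, hξ⟩ := QuasiSober.sober hTi hTc
  have hξT : ξ ∈ T := hξ.mem
  set y := f ξ with hy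
  obtain ⟨V, hVsub, hyV, hVopen, hclopen⟩ := exists_isClopen_sectionComponents f s hs y
  -- `V` is the trace of an open of `Y`
  obtain ⟨O, hO, hOV⟩ := isOpen_induced_iff.mp hVopen
  have hVO : ∀ w ∈ closure ({y} : Set ↑Y), (w ∈ V ↔ w ∈ O) := by
    intro w hw
    have : (⟨w, hw⟩ : ↑(closure ({y} : Set ↑Y))) ∈ Subtype.val ⁻¹' O ↔
        (⟨w, hw⟩ : ↑(closure ({y} : Set ↑Y))) ∈ Subtype.val ⁻¹' V := by rw [hOV]
    exact this.symm
  have hfT : ∀ x ∈ T, f x ∈ closure ({y} : Set ↑Y) := by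
    intro x hx
    have h1 : x ∈ closure ({ξ} : Set ↑X) := hξ.def ▸ hx
    have h2 := image_closure_subset_closure_image f.continuous ⟨x, h1, rfl⟩
    rwa [Set.image_singleton] at h2
  set U : Set ↑X := f ⁻¹' O with hU
  have hUo : IsOpen U := hO.preimage f.continuous
  have hξU : ξ ∈ U := (hVO y (subset_closure rfl)).mp hyV
  have hTU : ∀ x ∈ T, x ∈ U → x ∈ f ⁻¹' V := fun x hxT hxU => (hVO _ (hfT x hxT)).mpr hxU
  -- the trace of the section components on `T ∩ U` is clopen, hence everything or nothing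
  let E := MoreMor.sectionComponents f s
  obtain ⟨O₁, hO₁, hO₁E⟩ := isOpen_induced_iff.mp hclopen.2
  obtain ⟨O₂, hO₂, hO₂E⟩ := isOpen_induced_iff.mp hclopen.1.isOpen_compl
  have hmem₁ : ∀ z (hz : z ∈ f ⁻¹' V), z ∈ O₁ ↔ z ∈ E := fun z hz => by
    have : (⟨z, hz⟩ : ↑(f ⁻¹' V)) ∈ Subtype.val ⁻¹' O₁ ↔
        (⟨z, hz⟩ : ↑(f ⁻¹' V)) ∈ Subtype.val ⁻¹' E := by rw [hO₁E]
    exact this
  have hmem₂ : ∀ z (hz : z ∈ f ⁻¹' V), z ∈ O₂ ↔ z ∉ E := fun z hz => by
    have : (⟨z, hz⟩ : ↑(f ⁻¹' V)) ∈ Subtype.val ⁻¹' O₂ ↔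
        (⟨z, hz⟩ : ↑(f ⁻¹' V)) ∈ (Subtype.val ⁻¹' E)ᶜ := by rw [hO₂E]
    exact this
  -- two points of `T ∩ U` are both in `E` or both outside
  have hboth : ∀ x₁ x₂, x₁ ∈ T → x₁ ∈ U → x₂ ∈ T → x₂ ∈ U → x₁ ∈ E → x₂ ∉ E → False := by
    intro x₁ x₂ h1T h1U h2T h2U h1E h2E
    have h1 : x₁ ∈ O₁ := (hmem₁ x₁ (hTU x₁ h1T h1U)).mpr h1E
    have h2 : x₂ ∈ O₂ := (hmem₂ x₂ (hTU x₂ h2T h2U)).mpr h2E
    obtain ⟨z, hzT, ⟨hzU, hz₁⟩, -, hz₂⟩ := hTi.isPreirreducible (U ∩ O₁) (U ∩ O₂)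
      (hUo.inter hO₁) (hUo.inter hO₂) ⟨x₁, h1T, h1U, h1⟩ ⟨x₂, h2T, h2U, h2⟩
    exact (hmem₂ z (hTU z hzT hzU)).mp hz₂ ((hmem₁ z (hTU z hzT hzU)).mp hz₁)
  by_cases hE : ξ ∈ E
  · right
    refine ⟨U, hUo, ⟨ξ, hξU, hξT⟩, ?_⟩
    rintro x ⟨hxU, hxT⟩
    by_contra hxE
    exact hboth ξ x hξT hξU hxT hxU hE hxE
  · left
    haveI : PreirreducibleSpace ↑T := Subtype.preirreducibleSpace hTi.isPreirreducible
    have hdense : Dense (Subtype.val ⁻¹' U : Set ↑T) :=
      (hUo.preimage continuous_subtype_val).dense ⟨⟨ξ, hξT⟩, hξU⟩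
    have hsub : (Subtype.val ⁻¹' E : Set ↑T) ⊆ (Subtype.val ⁻¹' U : Set ↑T)ᶜ := by
      rintro ⟨x, hxT⟩ hxE hxU
      exact hboth x ξ hxT hxU hξT hξU hxE hE
    have hcl : closure (Subtype.val ⁻¹' E : Set ↑T) ⊆ (Subtype.val ⁻¹' U : Set ↑T)ᶜ :=
      closure_minimal hsub (hUo.preimage continuous_subtype_val).isClosed_compl
    show interior (closure (Subtype.val ⁻¹' E : Set ↑T)) = ∅
    apply Set.eq_empty_of_subset_empty
    refine (interior_mono hcl).trans ?_
    rw [interior_compl, hdense.closure_eq, Set.compl_univ]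

end noethSC

section affSC

open Groth.Agent.Lib.Helper26.FGZ Groth.Agent.Lib.Helper3.LocusPair

/-- section components do not change when the base is replaced by an isomorphic one -/
theorem sectionComponents_comp_iso {X Y Y' : Scheme.{u}} (f : X ⟶ Y) (s : Y ⟶ X) (e : Y ≅ Y') :
    MoreMor.sectionComponents (f ≫ e.hom) (e.inv ≫ s) = MoreMor.sectionComponents f s := by
  have hinj : Function.Injective ⇑e.hom := e.hom.homeomorph.injective
  ext x
  have h1 : (f ≫ e.hom) ⁻¹' {(f ≫ e.hom) x} = f ⁻¹' {f x} := by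
    ext z
    simp only [Set.mem_preimage, Set.mem_singleton_iff]
    rw [Scheme.Hom.comp_apply, Scheme.Hom.comp_apply]
    exact hinj.eq_iff
  have h2 : (e.inv ≫ s) ((f ≫ e.hom) x) = s (f x) := by
    rw [Scheme.Hom.comp_apply, Scheme.Hom.comp_apply, ← Scheme.Hom.comp_apply e.hom e.inv,
      e.hom_inv_id]
    rfl
  show x ∈ connectedComponentIn ((f ≫ e.hom) ⁻¹' {(f ≫ e.hom) x}) ((e.inv ≫ s) ((f ≫ e.hom) x)) ↔
    x ∈ connectedComponentIn (f ⁻¹' {f x}) (s (f x))
  rw [h1, h2]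

/-- **descent of a morphism with a section to a stage of a limit** -/
theorem exists_stage_sectionComponents {I : Type u} [SmallCategory I] [IsCofiltered I]
    (D : I ⥤ Scheme.{u}) (c : Limits.Cone D) (hc : Limits.IsLimit c)
    [∀ (i j : I) (f : i ⟶ j), IsAffineHom (D.map f)] [∀ i, CompactSpace (D.obj i)]
    [∀ i, QuasiSeparatedSpace (D.obj i)] {X : Scheme.{u}} (u : X ⟶ c.pt)
    [LocallyOfFinitePresentation u] [QuasiCompact u] [QuasiSeparated u] (σ : c.pt ⟶ X)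
    (hσ : σ ≫ u = 𝟙 c.pt) :
    ∃ (j : I) (XJ : Scheme.{u}) (fJ : XJ ⟶ D.obj j) (sJ : D.obj j ⟶ XJ) (sY : X ⟶ XJ),
      sJ ≫ fJ = 𝟙 _ ∧ LocallyOfFinitePresentation fJ ∧ QuasiCompact fJ ∧
      MoreMor.sectionComponents u σ = sY ⁻¹' MoreMor.sectionComponents fJ sJ := by
  obtain ⟨i, Xi, ui, qX, a1, a2, a3, hX⟩ := Groth.Agent.S0591.result D c hc X u
  have hY0 : IsPullback (c.π.app i) (𝟙 c.pt) (𝟙 (D.obj i)) (c.π.app i) := by
    haveI : IsIso (𝟙 c.pt) := IsIso.id _
    haveI : IsIso (𝟙 (D.obj i)) := IsIso.id _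
    exact IsPullback.of_vert_isIso ⟨(Category.comp_id _).trans (Category.id_comp _).symm⟩
  haveI : CompactSpace Xi := QuasiCompact.compactSpace_of_compactSpace ui
  haveI : QuasiSeparatedSpace Xi := quasiSeparatedSpace_of_quasiSeparated ui
  obtain ⟨j, φ, fj, sX, sY, hfj, hsX1, hsX2, hsY1, hsY2, hcomm⟩ :=
    Groth.Agent.S9218.result D c hc i (𝟙 (D.obj i)) ui (c.π.app i) (𝟙 c.pt) hY0 qX u hX σ hσ
  haveI : IsIso (pullback.snd (𝟙 (D.obj i)) (D.map φ)) := inferInstance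
  have hsJ : (inv (pullback.snd (𝟙 (D.obj i)) (D.map φ)) ≫ fj) ≫ pullback.snd ui (D.map φ) =
      𝟙 _ := by
    rw [Category.assoc, hfj, IsIso.inv_hom_id]
  have hXJ : IsPullback sY u (pullback.snd ui (D.map φ)) (c.π.app j) := by
    refine IsPullback.of_right ?_ hsY2 (IsPullback.of_hasPullback ui (D.map φ))
    rw [hsY1, c.w φ]
    exact hX
  have hsXeq : sX = c.π.app j ≫ inv (pullback.snd (𝟙 (D.obj i)) (D.map φ)) := by
    rw [← cancel_mono (pullback.snd (𝟙 (D.obj i)) (D.map φ)), Category.assoc,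
      IsIso.inv_hom_id, Category.comp_id]
    exact hsX2.trans (Category.id_comp _)
  refine ⟨j, pullback ui (D.map φ), pullback.snd ui (D.map φ),
    inv (pullback.snd (𝟙 (D.obj i)) (D.map φ)) ≫ fj, sY, hsJ, inferInstance, inferInstance, ?_⟩
  refine Groth.Agent.S1324.result _ _ hsJ u sY (c.π.app j) hXJ σ hσ ?_
  rw [← Category.assoc, ← hsXeq, hcomm]

variable {X Y : Scheme.{u}} (f : X ⟶ Y) (s : Y ⟶ X) (hs : s ≫ f = 𝟙 Y)

include hs in
/-- **constructibility of the section components over an affine base** -/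
theorem isConstructible_sectionComponents_of_isAffine [IsAffine Y]
    [LocallyOfFinitePresentation f] [QuasiCompact f] [QuasiSeparated f] :
    Topology.IsConstructible (MoreMor.sectionComponents f s) := by
  rw [← sectionComponents_comp_iso f s Y.isoSpec]
  let u : X ⟶ (specCone Γ(Y, ⊤)).pt := f ≫ Y.isoSpec.hom
  let σ : (specCone Γ(Y, ⊤)).pt ⟶ X := Y.isoSpec.inv ≫ s
  have hσ : σ ≫ u = 𝟙 (specCone Γ(Y, ⊤)).pt := by
    show (Y.isoSpec.inv ≫ s) ≫ f ≫ Y.isoSpec.hom = _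
    rw [Category.assoc, ← Category.assoc s, hs, Category.id_comp]
    exact Y.isoSpec.inv_hom_id
  haveI : LocallyOfFinitePresentation u := by
    show LocallyOfFinitePresentation (f ≫ Y.isoSpec.hom)
    infer_instance
  haveI : QuasiCompact u := by
    show QuasiCompact (f ≫ Y.isoSpec.hom)
    infer_instance
  haveI : QuasiSeparated u := by
    show QuasiSeparated (f ≫ Y.isoSpec.hom)
    infer_instance
  obtain ⟨j, XJ, fJ, sJ, sY, hsJ, h1, h2, hSC⟩ := exists_stage_sectionComponents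
    (specDiagram Γ(Y, ⊤)) (specCone Γ(Y, ⊤)) (specIsLimit Γ(Y, ⊤)) u σ hσ
  show Topology.IsConstructible (MoreMor.sectionComponents u σ)
  rw [hSC]
  -- the stage is Noetherian
  haveI : IsNoetherianRing ↑(CommRingCat.of ↥(j.unop.1)) := noeth_fgSub Γ(Y, ⊤) j.unop
  haveI : IsNoetherian ((specDiagram Γ(Y, ⊤)).obj j) := by
    show IsNoetherian (Spec (CommRingCat.of ↥(j.unop.1)))
    infer_instance
  haveI : IsLocallyNoetherian XJ := LocallyOfFiniteType.isLocallyNoetherian fJ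
  haveI : CompactSpace ↥XJ := QuasiCompact.compactSpace_of_compactSpace fJ
  haveI : IsNoetherian XJ := { }
  exact sY.isConstructible_preimage
    (isConstructible_sectionComponents_of_noetherianSpace fJ sJ hsJ)

include hs in
/-- **the section components of a morphism of finite presentation are locally constructible** -/
theorem isLocallyConstructible_sectionComponents
    [LocallyOfFinitePresentation f] [QuasiCompact f] [QuasiSeparated f] :
    Topology.IsLocallyConstructible (MoreMor.sectionComponents f s) := by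
  refine Topology.IsLocallyConstructible.of_isOpenCover
    (U := fun W : Y.affineOpens => f ⁻¹ᵁ W.1) ?_ ?_
  · show (⨆ W : Y.affineOpens, f ⁻¹ᵁ W.1) = ⊤
    rw [← Scheme.Hom.preimage_iSup, iSup_affineOpens_eq_top Y]
    rfl
  · intro W
    have hpb : IsPullback (f ⁻¹ᵁ W.1).ι (f ∣_ W.1) f W.1.ι :=
      (isPullback_morphismRestrict f W.1).flip
    let s' : (W.1 : Scheme.{u}) ⟶ (f ⁻¹ᵁ W.1 : Scheme.{u}) :=
      hpb.lift (W.1.ι ≫ s) (𝟙 _) (by rw [Category.assoc, hs, Category.comp_id, Category.id_comp])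
    have hs' : s' ≫ (f ∣_ W.1) = 𝟙 _ := hpb.lift_snd _ _ _
    have hs'g : s' ≫ (f ⁻¹ᵁ W.1).ι = W.1.ι ≫ s := hpb.lift_fst _ _ _
    have hSC := Groth.Agent.S1324.result f s hs (f ∣_ W.1) (f ⁻¹ᵁ W.1).ι W.1.ι hpb s' hs' hs'g
    haveI : IsAffine (W.1 : Scheme.{u}) := W.2
    have hcons := isConstructible_sectionComponents_of_isAffine (f ∣_ W.1) s' hs'
    rw [hSC] at hcons
    exact hcons.isLocallyConstructible

end affSC

end Groth.Agent.Lib.Helper22.GI
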