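import Mathlib

set_option autoImplicit false
set_option linter.style.haveILetI false

namespace Groth.Agent.Lib.Helper22.SC

open IsLocalRing

section Algebra

variable {R : Type*} [CommRing R]

/-- In a Noetherian local ring `R` with `ϖ ∈ 𝔪`, `R/ϖ` reduced and `ϖ` in no minimal prime,
`ϖ`-power torsion vanishes. -/
theorem eq_zero_of_pow_mul_eq_zero [IsLocalRing R] [IsNoetherianRing R] {ϖ : R}
    (hϖ : ϖ ∈ maximalIdeal R) [IsReduced (R ⧸ Ideal.span {ϖ})]
    (hmin : ∀ q ∈ minimalPrimes R, ϖ ∉ q) {r : R} {k : ℕ} (h : ϖ ^ k * r = 0) : r = 0 := by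
  -- the torsion ideal
  let N : Ideal R :=
    { carrier := {r | ∃ k : ℕ, ϖ ^ k * r = 0}
      add_mem' := by
        rintro a b ⟨k, hk⟩ ⟨l, hl⟩
        refine ⟨k + l, ?_⟩
        have e1 : ϖ ^ (k + l) * (a + b) = ϖ ^ l * (ϖ ^ k * a) + ϖ ^ k * (ϖ ^ l * b) := by ring
        rw [e1, hk, hl, mul_zero, mul_zero, add_zero]
      zero_mem' := ⟨0, by simp⟩
      smul_mem' := by
        rintro c a ⟨k, hk⟩
        refine ⟨k, ?_⟩
        rw [smul_eq_mul, mul_left_comm, hk, mul_zero] }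
  have hNmem : ∀ a : R, a ∈ N ↔ ∃ k : ℕ, ϖ ^ k * a = 0 := fun a => Iff.rfl
  -- `N ≤ nilradical`
  have hNnil : ∀ a ∈ N, IsNilpotent a := by
    intro a ha
    rw [← mem_nilradical, nilradical_eq_sInf, Ideal.mem_sInf]
    intro J hJ
    have hJ' : J.IsPrime := hJ
    obtain ⟨q, hq, hqJ⟩ := Ideal.exists_minimalPrimes_le (I := ⊥) (J := J) bot_le
    obtain ⟨k, hk⟩ := ha
    have hq' : q.IsPrime := hq.1.1
    have h0 : ϖ ^ k * a ∈ q := by rw [hk]; exact q.zero_mem
    rcases hq'.mem_or_mem h0 with h1 | h1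
    · exact absurd (hq'.mem_of_pow_mem k h1) (hmin q hq)
    · exact hqJ h1
  -- `N ≤ ϖ N`
  have hNle : N ≤ (Ideal.span {ϖ}) • N := by
    intro a ha
    have h1 : IsNilpotent (Ideal.Quotient.mk (Ideal.span {ϖ}) a) := (hNnil a ha).map _
    have h2 : Ideal.Quotient.mk (Ideal.span {ϖ}) a = 0 := h1.eq_zero
    rw [Ideal.Quotient.eq_zero_iff_mem, Ideal.mem_span_singleton'] at h2
    obtain ⟨m, hm⟩ := h2
    have hmN : m ∈ N := by
      obtain ⟨k, hk⟩ := ha
      refine ⟨k + 1, ?_⟩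
      rw [pow_succ, mul_assoc, mul_comm ϖ m, hm, hk]
    rw [← hm, mul_comm]
    exact Submodule.smul_mem_smul (Ideal.mem_span_singleton_self ϖ) hmN
  have hNbot : N = ⊥ := by
    refine Submodule.eq_bot_of_le_smul_of_le_jacobson_bot (Ideal.span {ϖ}) N
      (IsNoetherian.noetherian N) hNle ?_
    rw [IsLocalRing.jacobson_eq_maximalIdeal ⊥ bot_ne_top, Ideal.span_le]
    rintro _ rfl
    exact hϖ
  have : r ∈ N := ⟨k, h⟩
  rw [hNbot] at this
  exact this

/-- Under the same hypotheses, the spectrum of `R[1/ϖ]` is connected. -/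
theorem connectedSpace_away [IsLocalRing R] [IsNoetherianRing R] {ϖ : R}
    (hϖ : ϖ ∈ maximalIdeal R) [IsReduced (R ⧸ Ideal.span {ϖ})]
    (hmin : ∀ q ∈ minimalPrimes R, ϖ ∉ q) (S : Type*) [CommRing S] [Algebra R S]
    [IsLocalization.Away ϖ S] : ConnectedSpace (PrimeSpectrum S) := by
  have hinj : Function.Injective (algebraMap R S) := by
    rw [injective_iff_map_eq_zero]
    intro a ha
    rw [IsLocalization.map_eq_zero_iff (Submonoid.powers ϖ)] at ha
    obtain ⟨⟨_, k, rfl⟩, hk⟩ := ha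
    exact eq_zero_of_pow_mul_eq_zero hϖ hmin hk
  haveI : Nontrivial S := hinj.nontrivial
  have hu : IsUnit (algebraMap R S ϖ) := IsLocalization.Away.algebraMap_isUnit ϖ
  rw [connectedSpace_iff_clopen]
  refine ⟨inferInstance, ?_⟩
  intro s hs
  obtain ⟨e, he, rfl⟩ := PrimeSpectrum.isClopen_iff.mp hs
  -- `e` comes from `R`
  have hex : ∃ n : ℕ, ∃ a : R, e * algebraMap R S ϖ ^ n = algebraMap R S a :=
    IsLocalization.Away.surj ϖ e
  classical
  have h0 : Nat.find hex = 0 := by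
    by_contra hne
    obtain ⟨m, hm⟩ := Nat.exists_eq_succ_of_ne_zero hne
    obtain ⟨a, ha⟩ := Nat.find_spec hex
    rw [hm] at ha
    have h1 : algebraMap R S (a * a) = algebraMap R S (a * ϖ ^ (m + 1)) := by
      rw [map_mul, map_mul, map_pow, ← ha]
      have := he.eq
      calc e * algebraMap R S ϖ ^ (m + 1) * (e * algebraMap R S ϖ ^ (m + 1))
          = (e * e) * algebraMap R S ϖ ^ (m + 1) * algebraMap R S ϖ ^ (m + 1) := by ring
        _ = e * algebraMap R S ϖ ^ (m + 1) * algebraMap R S ϖ ^ (m + 1) := by rw [this]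
    have h2 : a * a = a * ϖ ^ (m + 1) := hinj h1
    have h3 : Ideal.Quotient.mk (Ideal.span {ϖ}) a = 0 := by
      have h4 : (Ideal.Quotient.mk (Ideal.span {ϖ}) a) ^ 2 = 0 := by
        rw [← map_pow, Ideal.Quotient.eq_zero_iff_mem, pow_two, h2, pow_succ, ← mul_assoc]
        exact Ideal.mul_mem_left _ _ (Ideal.mem_span_singleton_self ϖ)
      exact IsReduced.eq_zero _ ⟨2, h4⟩
    rw [Ideal.Quotient.eq_zero_iff_mem, Ideal.mem_span_singleton'] at h3
    obtain ⟨b, hb⟩ := h3
    have h5 : e * algebraMap R S ϖ ^ m = algebraMap R S b := by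
      have h6 : (e * algebraMap R S ϖ ^ m) * algebraMap R S ϖ = algebraMap R S b * algebraMap R S ϖ := by
        rw [← map_mul, hb, ← ha, pow_succ, mul_assoc]
      exact hu.mul_right_cancel h6
    have h7 : Nat.find hex ≤ m := Nat.find_min' hex ⟨b, h5⟩
    omega
  obtain ⟨a, ha⟩ := Nat.find_spec hex
  rw [h0, pow_zero, mul_one] at ha
  have ha2 : a * a = a := by
    apply hinj
    rw [map_mul, ← ha]
    exact he.eq
  have h1 : a * (1 - a) = 0 := by rw [mul_sub, mul_one, ha2, sub_self]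
  rcases IsLocalRing.isUnit_or_isUnit_one_sub_self a with h2 | h2
  · right
    have h3 : 1 - a = 0 := by
      have := h2.mul_left_cancel (h1.trans (mul_zero a).symm)
      exact this
    have h4 : a = 1 := by linear_combination -h3
    rw [ha, h4, map_one]
    simp
  · left
    have h3 : a = 0 := by
      rw [mul_comm] at h1
      exact h2.mul_left_cancel (h1.trans (mul_zero (1 - a)).symm)
    rw [ha, h3, map_zero]
    simp

end Algebra

end Groth.Agent.Lib.Helper22.SC
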