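import Mathlib
import Groth.Prelude.Def_EGA43
import Groth.Agent.Lib.Helper22SC1
import Groth.Agent.Lib.Helper14LocNoeth

set_option autoImplicit false
set_option linter.style.haveILetI false
universe u
open CategoryTheory CategoryTheory.Limits AlgebraicGeometry Topology TopologicalSpace IsLocalRing

namespace Groth.Agent.Lib.Helper22.SC

section Closure

/-- A point in the closure of a constructible subset of a prime spectrum is a specialization of a
point of that subset. -/
theorem exists_specializes_of_mem_closure_primeSpectrum {R : Type u} [CommRing R]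
    {T : Set (PrimeSpectrum R)} (hT : IsConstructible T) {x : PrimeSpectrum R}
    (hx : x ∈ closure T) : ∃ z ∈ T, z ⤳ x := by
  obtain ⟨S, _, φ, rfl⟩ := PrimeSpectrum.exists_range_eq_of_isConstructible hT
  rw [PrimeSpectrum.closure_range_comap, PrimeSpectrum.mem_zeroLocus] at hx
  -- a prime of `S` disjoint from `φ (R \ x)`
  have hdisj : Disjoint ((⊥ : Ideal S) : Set S) ((x.asIdeal.primeCompl.map φ : Submonoid S) : Set S) := by
    rw [Set.disjoint_left]
    rintro _ (h0 : _ = 0) ⟨r, hr, hr0⟩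
    rw [h0] at hr0
    exact hr (hx (show r ∈ RingHom.ker φ from hr0))
  obtain ⟨q, hq, -, hqd⟩ := Ideal.exists_le_prime_disjoint (⊥ : Ideal S)
    (x.asIdeal.primeCompl.map φ) hdisj
  refine ⟨PrimeSpectrum.comap φ ⟨q, hq⟩, ⟨_, rfl⟩, ?_⟩
  rw [← PrimeSpectrum.le_iff_specializes]
  intro r hr
  by_contra hrx
  exact (Set.disjoint_left.mp hqd) hr ⟨r, hrx, rfl⟩

/-- A point in the closure of a locally constructible subset of a scheme is a specialization
of a point of that subset. -/
theorem exists_specializes_of_mem_closure {X : Scheme.{u}} {T : Set X}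
    (hT : IsLocallyConstructible T) {x : X} (hx : x ∈ closure T) : ∃ z ∈ T, z ⤳ x := by
  obtain ⟨_, ⟨U, hU, rfl⟩, hxU, -⟩ := X.isBasis_affineOpens.exists_subset_of_mem_open
    (Set.mem_univ x) isOpen_univ
  replace hU : IsAffineOpen U := hU
  have hemb := hU.fromSpec.isOpenEmbedding
  have h1 : IsConstructible (hU.fromSpec ⁻¹' T) :=
    (hT.preimage_of_isOpenEmbedding hemb).isConstructible
  have hxr : x ∈ Set.range hU.fromSpec := by rw [hU.range_fromSpec]; exact hxU
  obtain ⟨x₀, rfl⟩ := hxr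
  have h2 : x₀ ∈ closure (hU.fromSpec ⁻¹' T) := by
    rw [← hemb.isOpenMap.preimage_closure_eq_closure_preimage hemb.continuous]
    exact hx
  obtain ⟨z₀, hz₀, hz₀x⟩ := exists_specializes_of_mem_closure_primeSpectrum h1 h2
  exact ⟨hU.fromSpec z₀, hz₀, hz₀x.map hemb.continuous⟩

/-- In a locally Noetherian scheme, a point in the closure of an open set is a specialization
of a point of that set. -/
theorem exists_specializes_of_mem_closure_of_isOpen {X : Scheme.{u}} [IsLocallyNoetherian X]
    {T : Set X} (hT : IsOpen T) {x : X} (hx : x ∈ closure T) : ∃ z ∈ T, z ⤳ x := by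
  refine exists_specializes_of_mem_closure ?_ hx
  refine IsRetrocompact.isLocallyConstructible hT ?_
  intro V hVc hVo
  let V' : X.Opens := ⟨V, hVo⟩
  haveI : CompactSpace ↥(V' : Scheme.{u}) := isCompact_iff_compactSpace.mp hVc
  haveI : IsNoetherian (V' : Scheme.{u}) :=
    { toIsLocallyNoetherian := inferInstance, toCompactSpace := inferInstance }
  have h1 : IsCompact (V'.ι ⁻¹' T) := NoetherianSpace.isCompact _
  have h2 := h1.image V'.ι.continuous
  rw [Set.image_preimage_eq_inter_range, Scheme.Opens.range_ι] at h2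
  exact h2

end Closure

section Gen

variable {X Y : Scheme.{u}} (f : X ⟶ Y)

/-- the local condition used in the DVR case: `f` is open at `x` and the local ring of the fibre
at `x` (in the form `O_{X,x} / m_{f x} O_{X,x}`) is reduced. -/
def Good (x : X) : Prop :=
  EGA43.IsOpenAt f.base x ∧
    IsReduced (X.presheaf.stalk x ⧸
      (maximalIdeal (Y.presheaf.stalk (f x))).map (f.stalkMap x).hom)

/-- the generizations of `x` lying outside the fibre through `x` -/
def genOut (x : X) : Set X := {x' | x' ⤳ x ∧ f x' ≠ f x}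

variable {f}

theorem apply_fromSpecStalk (x : X) (q : Spec (X.presheaf.stalk x)) :
    f (X.fromSpecStalk x q) = Y.fromSpecStalk (f x) (Spec.map (f.stalkMap x) q) := by
  rw [← Scheme.Hom.comp_apply, ← Scheme.Hom.comp_apply, Scheme.SpecMap_stalkMap_fromSpecStalk]

theorem apply_fromSpecStalk_eq_iff (x : X) (t0 : Y.presheaf.stalk (f x))
    (hmax : maximalIdeal (Y.presheaf.stalk (f x)) = Ideal.span {t0})
    (q : Spec (X.presheaf.stalk x)) :
    f (X.fromSpecStalk x q) = f x ↔ (f.stalkMap x).hom t0 ∈ q.asIdeal := by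
  rw [apply_fromSpecStalk]
  have hinj : Function.Injective (Y.fromSpecStalk (f x)) :=
    (Y.fromSpecStalk (f x)).isEmbedding.injective
  constructor
  · intro h
    have h1 : Spec.map (f.stalkMap x) q = closedPoint (Y.presheaf.stalk (f x)) := by
      apply hinj
      rw [h, Scheme.fromSpecStalk_closedPoint]
    have h2 : t0 ∈ (Spec.map (f.stalkMap x) q).asIdeal := by
      rw [h1]
      show t0 ∈ maximalIdeal _
      rw [hmax]; exact Ideal.mem_span_singleton_self t0
    exact h2
  · intro h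
    have h1 : Spec.map (f.stalkMap x) q = closedPoint (Y.presheaf.stalk (f x)) := by
      apply PrimeSpectrum.ext
      show (Spec.map (f.stalkMap x) q).asIdeal = maximalIdeal _
      refine le_antisymm (IsLocalRing.le_maximalIdeal (Spec.map (f.stalkMap x) q).2.ne_top) ?_
      rw [hmax, Ideal.span_le]
      rintro _ rfl
      exact h
    rw [h1, Scheme.fromSpecStalk_closedPoint]

theorem image_basicOpen_fromSpecStalk (x : X) (t0 : Y.presheaf.stalk (f x))
    (hmax : maximalIdeal (Y.presheaf.stalk (f x)) = Ideal.span {t0}) :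
    X.fromSpecStalk x '' (PrimeSpectrum.basicOpen ((f.stalkMap x).hom t0) : Set (PrimeSpectrum _)) =
      genOut f x := by
  ext x'
  constructor
  · rintro ⟨q, hq, rfl⟩
    refine ⟨?_, ?_⟩
    · have : X.fromSpecStalk x q ∈ Set.range (X.fromSpecStalk x) := ⟨q, rfl⟩
      rw [Scheme.range_fromSpecStalk] at this
      exact this
    · intro h
      exact hq ((apply_fromSpecStalk_eq_iff x t0 hmax q).mp h)
  · rintro ⟨h1, h2⟩
    have : x' ∈ Set.range (X.fromSpecStalk x) := by
      rw [Scheme.range_fromSpecStalk]; exact h1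
    obtain ⟨q, rfl⟩ := this
    refine ⟨q, ?_, rfl⟩
    intro hq
    exact h2 ((apply_fromSpecStalk_eq_iff x t0 hmax q).mpr hq)

/-- connectedness of the set of outside generizations -/
theorem isConnected_genOut [IsLocallyNoetherian X] (x : X) (t0 : Y.presheaf.stalk (f x))
    (hmax : maximalIdeal (Y.presheaf.stalk (f x)) = Ideal.span {t0})
    (hred : IsReduced (X.presheaf.stalk x ⧸
      (maximalIdeal (Y.presheaf.stalk (f x))).map (f.stalkMap x).hom))
    (hmin : ∀ q ∈ minimalPrimes (X.presheaf.stalk x), (f.stalkMap x).hom t0 ∉ q) :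
    _root_.IsConnected (genOut f x) := by
  set R := X.presheaf.stalk x with hR
  set ϖ : R := (f.stalkMap x).hom t0 with hϖdef
  have hmap : (maximalIdeal (Y.presheaf.stalk (f x))).map (f.stalkMap x).hom = Ideal.span {ϖ} := by
    rw [hmax, Ideal.map_span, Set.image_singleton]
  haveI : IsReduced (R ⧸ Ideal.span {ϖ}) := by
    rw [← hmap]; exact hred
  haveI : IsNoetherianRing R := inferInstance
  have hϖ : ϖ ∈ maximalIdeal R := by
    have : t0 ∈ maximalIdeal (Y.presheaf.stalk (f x)) := by
      rw [hmax]; exact Ideal.mem_span_singleton_self t0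
    rw [mem_maximalIdeal] at this ⊢
    exact (map_mem_nonunits_iff (f.stalkMap x).hom t0).mpr this
  haveI hconn : ConnectedSpace (PrimeSpectrum (Localization.Away ϖ)) :=
    connectedSpace_away hϖ hmin (Localization.Away ϖ)
  haveI : ConnectedSpace ↥(Spec (CommRingCat.of (Localization.Away ϖ))) := hconn
  let a : Spec (CommRingCat.of (Localization.Away ϖ)) ⟶ Spec R :=
    Spec.map (CommRingCat.ofHom (algebraMap R (Localization.Away ϖ)))
  have key : genOut f x = Set.range (a ≫ X.fromSpecStalk x) := by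
    rw [← image_basicOpen_fromSpecStalk x t0 hmax]
    ext x'
    constructor
    · rintro ⟨q, hq, rfl⟩
      have hq' : q ∈ Set.range (PrimeSpectrum.comap (algebraMap R (Localization.Away ϖ))) := by
        rw [PrimeSpectrum.localization_away_comap_range (Localization.Away ϖ) ϖ]; exact hq
      obtain ⟨p, rfl⟩ := hq'
      exact ⟨p, Scheme.Hom.comp_apply _ _ _⟩
    · rintro ⟨p, rfl⟩
      refine ⟨a p, ?_, (Scheme.Hom.comp_apply _ _ _).symm⟩
      have hq' : (PrimeSpectrum.comap (algebraMap R (Localization.Away ϖ))) p ∈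
          Set.range (PrimeSpectrum.comap (algebraMap R (Localization.Away ϖ))) := ⟨p, rfl⟩
      rw [PrimeSpectrum.localization_away_comap_range (Localization.Away ϖ) ϖ] at hq'
      exact hq'
  rw [key]
  exact isConnected_range (a ≫ X.fromSpecStalk x).continuous

/-- In a Noetherian space every point has an open neighbourhood all of whose irreducible
components pass through the point (copied from helper6's `GROpen`). -/
theorem exists_isOpen_forall_mem_irreducibleComponents {W : Type*} [TopologicalSpace W]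
    [NoetherianSpace W] (x₀ : W) :
    ∃ V : Set W, IsOpen V ∧ x₀ ∈ V ∧
      ∀ Z ∈ irreducibleComponents W, (Z ∩ V).Nonempty → x₀ ∈ Z := by
  classical
  have hfin : (irreducibleComponents W).Finite := NoetherianSpace.finite_irreducibleComponents
  let S : Set (Set W) := {Z ∈ irreducibleComponents W | x₀ ∉ Z}
  have hSfin : S.Finite := hfin.subset fun Z hZ => hZ.1
  have hC : IsClosed (⋃₀ S) := by
    rw [Set.sUnion_eq_biUnion]
    exact hSfin.isClosed_biUnion fun Z hZ => isClosed_of_mem_irreducibleComponents Z hZ.1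
  refine ⟨(⋃₀ S)ᶜ, hC.isOpen_compl, ?_, ?_⟩
  · rintro ⟨Z, hZ, hx⟩
    exact hZ.2 hx
  · rintro Z hZ ⟨y, hyZ, hy⟩
    by_contra hx
    exact hy ⟨Z, ⟨hZ, hx⟩, hyZ⟩

/-- openness at the generic points of the fibre components through `x` forces the uniformizer
to avoid the minimal primes of the local ring. -/
theorem notMem_of_mem_minimalPrimes [IsLocallyNoetherian X] (x : X)
    (t0 : Y.presheaf.stalk (f x))
    (hmax : maximalIdeal (Y.presheaf.stalk (f x)) = Ideal.span {t0}) (η : Y) (hη : η ⤳ f x)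
    (hη' : ¬ f x ⤳ η)
    (hopen : ∀ ξ : X, ξ ⤳ x → f ξ = f x → EGA43.IsOpenAt f.base ξ) :
    ∀ q ∈ minimalPrimes (X.presheaf.stalk x), (f.stalkMap x).hom t0 ∉ q := by
  intro q hq hϖq
  have hqp : q.IsPrime := hq.1.1
  let qq : Spec (X.presheaf.stalk x) := (⟨q, hqp⟩ : PrimeSpectrum (X.presheaf.stalk x))
  set ξ := X.fromSpecStalk x qq with hξdef
  have hξx : ξ ⤳ x := by
    have : ξ ∈ Set.range (X.fromSpecStalk x) := ⟨qq, rfl⟩
    rw [Scheme.range_fromSpecStalk] at this
    exact this
  have hfξ : f ξ = f x := (apply_fromSpecStalk_eq_iff x t0 hmax qq).mpr hϖq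
  have hO := hopen ξ hξx hfξ
  -- no proper generization
  have hgen : ∀ ζ : X, ζ ⤳ ξ → ζ = ξ := by
    intro ζ hζ
    have : ζ ∈ Set.range (X.fromSpecStalk x) := by
      rw [Scheme.range_fromSpecStalk]; exact hζ.trans hξx
    obtain ⟨q', rfl⟩ := this
    have h1 : q' ⤳ qq := (X.fromSpecStalk x).isEmbedding.isInducing.specializes_iff.mp hζ
    have h1' : q'.asIdeal ≤ q := (PrimeSpectrum.le_iff_specializes q' qq).mpr h1
    have h2 : q ≤ q'.asIdeal := hq.2 ⟨q'.2, bot_le⟩ h1'
    have : q' = qq := PrimeSpectrum.ext (le_antisymm h1' h2)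
    rw [this]
  -- open nbhd of ξ inside the closure of ξ
  obtain ⟨W, hWo, hξW, hW⟩ : ∃ W : Set X, IsOpen W ∧ ξ ∈ W ∧ ∀ w ∈ W, ξ ⤳ w := by
    obtain ⟨_, ⟨U, hU, rfl⟩, hξU, -⟩ := X.isBasis_affineOpens.exists_subset_of_mem_open
      (Set.mem_univ ξ) isOpen_univ
    replace hU : IsAffineOpen U := hU
    haveI : IsNoetherianRing Γ(X, U) := IsLocallyNoetherian.component_noetherian ⟨U, hU⟩
    haveI : NoetherianSpace {z // z ∈ U} := noetherianSpace_of_isAffineOpen U hU
    obtain ⟨V, hVo, hξV, hV⟩ := exists_isOpen_forall_mem_irreducibleComponents (⟨ξ, hξU⟩ : {z // z ∈ U})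
    refine ⟨Subtype.val '' V, U.2.isOpenEmbedding_subtypeVal.isOpenMap V hVo, ⟨_, hξV, rfl⟩, ?_⟩
    rintro _ ⟨w, hwV, rfl⟩
    have h1 := hV (irreducibleComponent w) (irreducibleComponent_mem_irreducibleComponents w)
      ⟨w, mem_irreducibleComponent, hwV⟩
    haveI : QuasiSober {z // z ∈ U} := U.2.isOpenEmbedding_subtypeVal.quasiSober
    obtain ⟨ζ, hζ⟩ := QuasiSober.sober (isIrreducible_irreducibleComponent (x := w))
      isClosed_irreducibleComponent
    have hζξ : ζ ⤳ (⟨ξ, hξU⟩ : {z // z ∈ U}) := hζ.specializes h1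
    have hζeq : ζ.val = ξ := hgen ζ.val (hζξ.map continuous_subtype_val)
    have hζw : ζ ⤳ w := hζ.specializes mem_irreducibleComponent
    have := hζw.map continuous_subtype_val
    rwa [hζeq] at this
  have h1 : f.base '' W ∈ nhds (f.base ξ) := hO W (hWo.mem_nhds hξW)
  have h2 : η ∈ f.base '' W := by
    have hfξ' : f.base ξ = f x := hfξ
    rw [hfξ'] at h1
    exact mem_of_mem_nhds (hη h1)
  obtain ⟨w, hw, hfw⟩ := h2
  apply hη'
  have h3 : f ξ ⤳ f w := (hW w hw).map f.continuous
  rw [hfξ] at h3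
  have hfw' : f w = η := hfw
  rwa [hfw'] at h3

end Gen

section DVR

variable (A : Type u) [CommRing A] [IsDomain A] [IsDiscreteValuationRing A]

theorem exists_maximalIdeal_stalk_eq_span (p : Spec (CommRingCat.of A)) (hp : p = closedPoint A) :
    ∃ t0 : (Spec (CommRingCat.of A)).presheaf.stalk p,
      maximalIdeal ((Spec (CommRingCat.of A)).presheaf.stalk p) = Ideal.span {t0} := by
  subst hp
  set t : Spec (CommRingCat.of A) := closedPoint A with ht
  haveI : t.asIdeal.IsPrime := t.isPrime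
  letI : Algebra A ↑((Spec (CommRingCat.of A)).presheaf.stalk t) :=
    StructureSheaf.stalkAlgebra A t
  haveI : IsLocalization.AtPrime (↑((Spec (CommRingCat.of A)).presheaf.stalk t)) t.asIdeal :=
    StructureSheaf.IsLocalization.to_stalk A t
  have h1 := IsLocalization.AtPrime.map_eq_maximalIdeal t.asIdeal
    ((Spec (CommRingCat.of A)).presheaf.stalk t)
  obtain ⟨ϖ, hϖ⟩ := IsDiscreteValuationRing.exists_irreducible A
  have h2 : t.asIdeal = Ideal.span {ϖ} := hϖ.maximalIdeal_eq
  refine ⟨algebraMap A _ ϖ, ?_⟩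
  rw [← h1, h2, Ideal.map_span, Set.image_singleton]

/-- the generic point of the spectrum of a domain -/
noncomputable abbrev genPt : Spec (CommRingCat.of A) := (⟨⊥, Ideal.isPrime_bot⟩ : PrimeSpectrum A)

theorem eq_closedPoint_or_eq_genPt (z : Spec (CommRingCat.of A)) :
    z = closedPoint A ∨ z = genPt A := by
  by_cases h : z.asIdeal = ⊥
  · right; exact PrimeSpectrum.ext h
  · left
    apply PrimeSpectrum.ext
    exact IsLocalRing.eq_maximalIdeal (z.2.isMaximal h)

theorem genPt_specializes_closedPoint :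
    genPt A ⤳ (closedPoint A : Spec (CommRingCat.of A)) :=
  (PrimeSpectrum.le_iff_specializes (genPt A) (closedPoint A)).mp bot_le

theorem not_closedPoint_specializes_genPt :
    ¬ (closedPoint A : Spec (CommRingCat.of A)) ⤳ genPt A := by
  intro h
  have h1 : maximalIdeal A ≤ ⊥ := (PrimeSpectrum.le_iff_specializes (closedPoint A) (genPt A)).mpr h
  exact IsDiscreteValuationRing.not_a_field A (le_bot_iff.mp h1)

theorem genPt_ne_closedPoint : genPt A ≠ (closedPoint A : Spec (CommRingCat.of A)) := by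
  intro h
  apply not_closedPoint_specializes_genPt A
  rw [h]

variable {A}

/-- **The DVR case.** -/
theorem mem_connectedComponentIn_genPt {X : Scheme.{u}} (f : X ⟶ Spec (CommRingCat.of A))
    [LocallyOfFiniteType f] (g h : Spec (CommRingCat.of A) ⟶ X) (hg : g ≫ f = 𝟙 _)
    (hh : h ≫ f = 𝟙 _)
    (hC : h (closedPoint A) ∈ connectedComponentIn (f ⁻¹' {closedPoint A}) (g (closedPoint A)))
    (H : ∀ x ∈ connectedComponentIn (f ⁻¹' {closedPoint A}) (g (closedPoint A)), Good f x) :
    h (genPt A) ∈ connectedComponentIn (f ⁻¹' {genPt A}) (g (genPt A)) := by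
  set s : Spec (CommRingCat.of A) := closedPoint A with hs
  set η : Spec (CommRingCat.of A) := genPt A with hη
  haveI : IsLocallyNoetherian X := LocallyOfFiniteType.isLocallyNoetherian f
  haveI : LocallyConnectedSpace X := by
    apply Groth.Agent.Lib.Helper14.locallyConnectedSpace_of_locally_noetherian
    intro x
    obtain ⟨_, ⟨U, hU, rfl⟩, hxU, -⟩ := X.isBasis_affineOpens.exists_subset_of_mem_open
      (Set.mem_univ x) isOpen_univ
    replace hU : IsAffineOpen U := hU
    haveI : IsNoetherianRing Γ(X, U) := IsLocallyNoetherian.component_noetherian ⟨U, hU⟩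
    exact ⟨U, U.2.mem_nhds hxU, noetherianSpace_of_isAffineOpen U hU⟩
  have hfg : ∀ z, f (g z) = z := fun z => by rw [← Scheme.Hom.comp_apply, hg]; rfl
  have hfh : ∀ z, f (h z) = z := fun z => by rw [← Scheme.Hom.comp_apply, hh]; rfl
  have hηs : η ≠ s := genPt_ne_closedPoint A
  set F : Set X := f ⁻¹' {s} with hF
  set C : Set X := connectedComponentIn F (g s) with hCdef
  set Fη : Set X := f ⁻¹' {η} with hFη
  set U : Set X := connectedComponentIn Fη (g η) with hUdef
  have hFηo : IsOpen Fη := by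
    have h1 : Fη = f ⁻¹' ({s}ᶜ) := by
      ext z
      simp only [hFη, Set.mem_preimage, Set.mem_singleton_iff, Set.mem_compl_iff]
      constructor
      · intro hz; rw [hz]; exact hηs
      · intro hz
        rcases eq_closedPoint_or_eq_genPt A (f z) with h2 | h2
        · exact absurd h2 hz
        · exact h2
    rw [h1]
    exact (IsLocalRing.isClosed_singleton_closedPoint A).isOpen_compl.preimage f.continuous
  have hUo : IsOpen U := hFηo.connectedComponentIn
  have hUF : U ⊆ Fη := connectedComponentIn_subset Fη _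
  set T : Set X := Fη \ U with hTdef
  have hTo : IsOpen T := by
    rw [isOpen_iff_forall_mem_open]
    intro z hz
    refine ⟨connectedComponentIn Fη z, ?_, hFηo.connectedComponentIn, mem_connectedComponentIn hz.1⟩
    intro w hw
    refine ⟨connectedComponentIn_subset Fη z hw, fun hwU => hz.2 ?_⟩
    have e1 : connectedComponentIn Fη z = connectedComponentIn Fη w := connectedComponentIn_eq hw
    have e2 : U = connectedComponentIn Fη w := connectedComponentIn_eq hwU
    rw [e2, ← e1]
    exact mem_connectedComponentIn hz.1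
  have hgηU : g η ∈ U := mem_connectedComponentIn (hfg η)
  have hCF : C ⊆ F := connectedComponentIn_subset F _
  have hgen_in_C : ∀ x₁ ∈ C, ∀ ξ : X, ξ ⤳ x₁ → f ξ = f x₁ → ξ ∈ C := by
    intro x₁ hx₁ ξ hξ hfξ
    have hξF : ξ ∈ F := by
      show f ξ = s
      rw [hfξ]; exact hCF hx₁
    have hpair : _root_.IsPreconnected ({ξ, x₁} : Set X) := by
      refine (isPreconnected_singleton (x := ξ)).subset_closure (s := {ξ}) (by simp) ?_
      rintro z (rfl | rfl)
      · exact subset_closure rfl
      · exact specializes_iff_mem_closure.mp hξ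
    have h1 := hpair.subset_connectedComponentIn (x := x₁) (by simp) (by
      rintro z (rfl | rfl)
      · exact hξF
      · exact hCF hx₁)
    have e1 : C = connectedComponentIn F x₁ := connectedComponentIn_eq hx₁
    rw [e1]
    exact h1 (by simp)
  have hconn : ∀ x₁ ∈ C, _root_.IsConnected (genOut f x₁) := by
    intro x₁ hx₁
    have hfx₁ : f x₁ = s := hCF hx₁
    obtain ⟨t0, hmax⟩ := exists_maximalIdeal_stalk_eq_span A (f x₁) hfx₁
    refine isConnected_genOut x₁ t0 hmax (H x₁ hx₁).2 ?_
    refine notMem_of_mem_minimalPrimes x₁ t0 hmax η ?_ ?_ ?_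
    · rw [hfx₁]; exact genPt_specializes_closedPoint A
    · rw [hfx₁]; exact not_closedPoint_specializes_genPt A
    · intro ξ hξ hfξ
      exact (H ξ (hgen_in_C x₁ hx₁ ξ hξ hfξ)).1
  have hsub : ∀ x₁ ∈ C, genOut f x₁ ⊆ Fη := by
    rintro x₁ hx₁ z ⟨-, hz⟩
    rcases eq_closedPoint_or_eq_genPt A (f z) with h1 | h1
    · exact absurd (h1.trans (hCF hx₁).symm) hz
    · exact h1
  have hU_of_mem : ∀ x₁ ∈ C, ∀ z ∈ genOut f x₁, z ∈ U → genOut f x₁ ⊆ U := by
    intro x₁ hx₁ z hz hzU
    have h1 : genOut f x₁ ⊆ connectedComponentIn Fη z :=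
      (hconn x₁ hx₁).isPreconnected.subset_connectedComponentIn hz (hsub x₁ hx₁)
    have e2 : U = connectedComponentIn Fη z := connectedComponentIn_eq hzU
    rwa [e2]
  have hT_of_mem : ∀ x₁ ∈ C, ∀ z ∈ genOut f x₁, z ∈ T → genOut f x₁ ⊆ T := by
    intro x₁ hx₁ z hz hzT w hw
    refine ⟨hsub x₁ hx₁ hw, fun hwU => hzT.2 ?_⟩
    exact hU_of_mem x₁ hx₁ w hw hwU hz
  have hdich : ∀ x₁ ∈ C, genOut f x₁ ⊆ U ∨ genOut f x₁ ⊆ T := by
    intro x₁ hx₁
    obtain ⟨z, hz⟩ := (hconn x₁ hx₁).nonempty
    by_cases hzU : z ∈ U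
    · exact Or.inl (hU_of_mem x₁ hx₁ z hz hzU)
    · exact Or.inr (hT_of_mem x₁ hx₁ z hz ⟨hsub x₁ hx₁ hz, hzU⟩)
  have hmemOut : ∀ x₁ ∈ C, ∀ z : X, z ⤳ x₁ → z ∈ Fη → z ∈ genOut f x₁ := by
    intro x₁ hx₁ z hz hzF
    refine ⟨hz, ?_⟩
    have h1 : f z = η := hzF
    have h2 : f x₁ = s := hCF hx₁
    rw [h1, h2]; exact hηs
  have hclT : ∀ x₁ ∈ C, genOut f x₁ ⊆ U → x₁ ∉ closure T := by
    intro x₁ hx₁ hsubU hcl
    obtain ⟨z, hzT, hz⟩ := exists_specializes_of_mem_closure_of_isOpen hTo hcl
    exact hzT.2 (hsubU (hmemOut x₁ hx₁ z hz hzT.1))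
  have hclU : ∀ x₁ ∈ C, genOut f x₁ ⊆ T → x₁ ∉ closure U := by
    intro x₁ hx₁ hsubT hcl
    obtain ⟨z, hzU, hz⟩ := exists_specializes_of_mem_closure_of_isOpen hUo hcl
    exact (hsubT (hmemOut x₁ hx₁ z hz (hUF hzU))).2 hzU
  by_contra hcon
  have hhηT : h η ∈ T := ⟨hfh η, hcon⟩
  have hgsC : g s ∈ C := mem_connectedComponentIn (hfg s)
  have hsp : η ⤳ s := genPt_specializes_closedPoint A
  have hpre : _root_.IsPreconnected C := isPreconnected_connectedComponentIn
  obtain ⟨x₁, hx₁C, hx₁T, hx₁U⟩ := hpre (closure T)ᶜ (closure U)ᶜ isClosed_closure.isOpen_compl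
    isClosed_closure.isOpen_compl
    (by
      intro x₁ hx₁
      rcases hdich x₁ hx₁ with h1 | h1
      · exact Or.inl (hclT x₁ hx₁ h1)
      · exact Or.inr (hclU x₁ hx₁ h1))
    ⟨g s, hgsC, hclT (g s) hgsC (hU_of_mem (g s) hgsC (g η)
      (hmemOut (g s) hgsC (g η) (hsp.map g.continuous) (hfg η)) hgηU)⟩
    ⟨h s, hC, hclU (h s) hC (hT_of_mem (h s) hC (h η)
      (hmemOut (h s) hC (h η) (hsp.map h.continuous) (hfh η)) hhηT)⟩
  obtain ⟨z, hz⟩ := (hconn x₁ hx₁C).nonempty
  have hzcl : x₁ ∈ closure {z} := specializes_iff_mem_closure.mp hz.1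
  by_cases hzU : z ∈ U
  · exact hx₁U (closure_mono (Set.singleton_subset_iff.mpr hzU) hzcl)
  · have hzT : z ∈ T := ⟨hsub x₁ hx₁C hz, hzU⟩
    exact hx₁T (closure_mono (Set.singleton_subset_iff.mpr hzT) hzcl)

end DVR

end Groth.Agent.Lib.Helper22.SC
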