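import Mathlib
import Groth.Prelude.Def_EGA43
import Groth.Prelude.Def_FDesc
import Groth.Agent.Lib.Helper22SC2
import Groth.Agent.Lib.Helper7UnivOpen
import Groth.Agent.Lib.Helper5FiberStalk

set_option autoImplicit false
set_option linter.style.haveILetI false
universe u
open CategoryTheory CategoryTheory.Limits AlgebraicGeometry Topology TopologicalSpace IsLocalRing

namespace Groth.Agent.Lib.Helper22.SC

section Transfer

variable {X Y X' Y' : Scheme.{u}} {f : X ⟶ Y} {f' : X' ⟶ Y'} {g' : X' ⟶ X} {g : Y' ⟶ Y}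

/-- geometric reducedness of the fibre at a point gives reducedness of the local ring of the
fibre of any base change at a point above. -/
theorem isReduced_stalk_fiber_of_isPullback (sq : IsPullback g' f' f g) (x' : X')
    (hGR : FBase.IsGeomReducedAt (f.fiberToSpecResidueField (f (g' x'))) (f.asFiber (g' x'))) :
    _root_.IsReduced ((f'.fiber (f' x')).presheaf.stalk (f'.asFiber x')) := by
  set x := g' x' with hx
  set y' := f' x' with hy'
  have hy : f x = g y' := by
    rw [hx, hy', ← Scheme.Hom.comp_apply, ← Scheme.Hom.comp_apply, sq.w]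
  let φ : Y.residueField (f x) ⟶ Y'.residueField y' :=
    (Y.residueFieldCongr hy).hom ≫ g.residueFieldMap y'
  have hφ : Spec.map φ ≫ Y.fromSpecResidueField (f x) = Y'.fromSpecResidueField y' ≫ g := by
    rw [Spec.map_comp, Category.assoc, Scheme.residueFieldCongr_fromSpecResidueField,
      Scheme.Hom.SpecMap_residueFieldMap_fromSpecResidueField]
  -- the comparison morphism of fibres
  let c₁ : f'.fiber y' ⟶ f.fiber (f x) :=
    pullback.lift (f'.fiberι y' ≫ g') (f'.fiberToSpecResidueField y' ≫ Spec.map φ) (by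
      rw [Category.assoc, sq.w, ← Category.assoc, Category.assoc _ (Spec.map φ), hφ,
        ← Category.assoc]
      congr 1
      exact pullback.condition)
  have hc₁1 : c₁ ≫ f.fiberι (f x) = f'.fiberι y' ≫ g' := pullback.lift_fst _ _ _
  have hc₁2 : c₁ ≫ f.fiberToSpecResidueField (f x) =
      f'.fiberToSpecResidueField y' ≫ Spec.map φ := pullback.lift_snd _ _ _
  have sqF : IsPullback (f.fiberι (f x)) (f.fiberToSpecResidueField (f x)) f
      (Y.fromSpecResidueField (f x)) := IsPullback.of_hasPullback _ _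
  have sqF' : IsPullback (f'.fiberι y') (f'.fiberToSpecResidueField y') f'
      (Y'.fromSpecResidueField y') := IsPullback.of_hasPullback _ _
  have sqO : IsPullback (c₁ ≫ f.fiberι (f x)) (f'.fiberToSpecResidueField y') f
      (Spec.map φ ≫ Y.fromSpecResidueField (f x)) := by
    rw [hc₁1, hφ]
    exact sqF'.paste_horiz sq
  have sqL : IsPullback c₁ (f'.fiberToSpecResidueField y') (f.fiberToSpecResidueField (f x))
      (Spec.map φ) := IsPullback.of_right sqO hc₁2 sqF
  -- the algebra structure
  letI : Algebra (IsLocalRing.ResidueField (Y.presheaf.stalk (f x)))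
      (IsLocalRing.ResidueField (Y'.presheaf.stalk y')) := φ.hom.toAlgebra
  have halg : Spec.map (CommRingCat.ofHom (algebraMap
      (IsLocalRing.ResidueField (Y.presheaf.stalk (f x)))
      (IsLocalRing.ResidueField (Y'.presheaf.stalk y')))) = Spec.map φ := rfl
  have sqL' : IsPullback c₁ (f'.fiberToSpecResidueField y') (f.fiberToSpecResidueField (f x))
      (Spec.map (CommRingCat.ofHom (algebraMap
      (IsLocalRing.ResidueField (Y.presheaf.stalk (f x)))
      (IsLocalRing.ResidueField (Y'.presheaf.stalk y'))))) := sqL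
  let e := sqL'.isoPullback
  have he : e.hom ≫ FBase.bcπ (f.fiberToSpecResidueField (f x))
      (IsLocalRing.ResidueField (Y'.presheaf.stalk y')) = c₁ :=
    sqL'.isoPullback_hom_fst
  let z' := e.hom (f'.asFiber x')
  have hz' : (FBase.bcπ (f.fiberToSpecResidueField (f x))
      (IsLocalRing.ResidueField (Y'.presheaf.stalk y'))).base z' = f.asFiber x := by
    apply (f.fiberι (f x)).isEmbedding.injective
    have e1 : e.hom ≫ FBase.bcπ (f.fiberToSpecResidueField (f x))
        (IsLocalRing.ResidueField (Y'.presheaf.stalk y')) ≫ f.fiberι (f x) =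
        f'.fiberι y' ≫ g' := by
      exact (Category.assoc _ _ _).symm.trans
        ((congrArg (fun m => m ≫ f.fiberι (f x)) he).trans hc₁1)
    have e2 := congrArg (fun m : f'.fiber y' ⟶ X => m (f'.asFiber x')) e1
    simp only [Scheme.Hom.comp_apply] at e2
    rw [Scheme.Hom.fiberι_asFiber] at e2
    exact e2.trans (Scheme.Hom.fiberι_asFiber f x).symm
  have hred := hGR (IsLocalRing.ResidueField (Y'.presheaf.stalk y')) z' hz'
  have hiso : IsIso (e.hom.stalkMap (f'.asFiber x')) := inferInstance
  let E := (asIso (e.hom.stalkMap (f'.asFiber x'))).commRingCatIsoToRingEquiv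
  refine ⟨fun a ha => ?_⟩
  have h1 : IsNilpotent (E.symm a) := ha.map E.symm
  have h2 : E.symm a = 0 := hred.eq_zero _ h1
  exact E.symm.injective (h2.trans (map_zero _).symm)

/-- (G1) transfer of the hypotheses of the theorem to a base change -/
theorem good_of_isPullback (sq : IsPullback g' f' f g) (x' : X')
    (hO : EGA43.IsUnivOpenAt f (g' x'))
    (hGR : FBase.IsGeomReducedAt (f.fiberToSpecResidueField (f (g' x'))) (f.asFiber (g' x'))) :
    Good f' x' := by
  refine ⟨Groth.Agent.Lib.Helper7.isOpenAt_of_isPullback sq (g' x') hO x' rfl, ?_⟩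
  obtain ⟨E⟩ := Groth.Agent.Lib.Helper5.FiberStalk.nonempty_stalk_asFiber_equiv f' x'
  have hred := isReduced_stalk_fiber_of_isPullback sq x' hGR
  refine ⟨fun a ha => ?_⟩
  have h1 : IsNilpotent (E.symm a) := ha.map E.symm
  have h2 : E.symm a = 0 := hred.eq_zero _ h1
  exact E.symm.injective (h2.trans (map_zero _).symm)

/-- (G2) `Good` is insensitive to open immersions into the source -/
theorem good_comp_of_isOpenImmersion {U : Scheme.{u}} (j : U ⟶ X) [IsOpenImmersion j]
    (f : X ⟶ Y) (v : U) (h : Good f (j v)) : Good (j ≫ f) v := by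
  refine ⟨?_, ?_⟩
  · have h1 : EGA43.IsOpenAt j.base v :=
      Groth.Agent.Lib.Helper7.isOpenAt_of_isOpenMap j.isOpenEmbedding.isOpenMap v
    exact Groth.Agent.Lib.Helper7.isOpenAt_comp j.base f.base v h1 h.1
  · have hred := h.2
    have hcomp : (j ≫ f).stalkMap v = f.stalkMap (j v) ≫ j.stalkMap v :=
      Scheme.Hom.stalkMap_comp j f v
    let E' : X.presheaf.stalk (j v) ≃+* U.presheaf.stalk v :=
      (asIso (j.stalkMap v)).commRingCatIsoToRingEquiv
    have hE' : ∀ a, E' a = (j.stalkMap v).hom a := fun a => rfl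
    have hI : (maximalIdeal (Y.presheaf.stalk ((j ≫ f) v))).map ((j ≫ f).stalkMap v).hom =
        ((maximalIdeal (Y.presheaf.stalk (f (j v)))).map (f.stalkMap (j v)).hom).map
          (E' : X.presheaf.stalk (j v) →+* U.presheaf.stalk v) := by
      rw [Ideal.map_map, hcomp]
      rfl
    let Q := Ideal.quotientEquiv _ _ E' hI
    refine ⟨fun a ha => ?_⟩
    have h1 : IsNilpotent (Q.symm a) := ha.map Q.symm
    have h2 : Q.symm a = 0 := hred.eq_zero _ h1
    exact Q.symm.injective (h2.trans (map_zero _).symm)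

end Transfer

section UGood

variable {X Y : Scheme.{u}}

/-- `Good` after every base change to the spectrum of a discrete valuation ring. -/
def UGood (f : X ⟶ Y) (x : X) : Prop :=
  ∀ (A : Type u) [CommRing A] [IsDomain A] [IsDiscreteValuationRing A]
    (t : Spec (CommRingCat.of A) ⟶ Y) (x' : ↥(pullback f t)),
    pullback.fst f t x' = x → Good (pullback.snd f t) x'

theorem uGood_of_isUnivOpenAt (f : X ⟶ Y) (x : X) (hO : EGA43.IsUnivOpenAt f x)
    (hGR : FBase.IsGeomReducedAt (f.fiberToSpecResidueField (f x)) (f.asFiber x)) :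
    UGood f x := by
  intro A _ _ _ t x' hx'
  subst hx'
  exact good_of_isPullback (IsPullback.of_hasPullback f t) x' hO hGR

theorem uGood_resLE (f : X ⟶ Y) (V : Y.Opens) (W : X.Opens) (e : W ≤ f ⁻¹ᵁ V) (x : W)
    (h : UGood f x.1) : UGood (f.resLE V W e) x := by
  intro A _ _ _ t x' hx'
  let j : pullback (f.resLE V W e) t ⟶ pullback f (t ≫ V.ι) :=
    pullback.map _ _ _ _ W.ι (𝟙 _) V.ι (by simp) (by simp)
  haveI : IsOpenImmersion j := inferInstance
  have hj1 : j ≫ pullback.fst f (t ≫ V.ι) = pullback.fst (f.resLE V W e) t ≫ W.ι :=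
    pullback.lift_fst _ _ _
  have hj2 : j ≫ pullback.snd f (t ≫ V.ι) = pullback.snd (f.resLE V W e) t :=
    (pullback.lift_snd _ _ _).trans (Category.comp_id _)
  have h1 := h A (t ≫ V.ι) (j x') (by
    rw [← Scheme.Hom.comp_apply, hj1, Scheme.Hom.comp_apply, hx']
    rfl)
  have h2 := good_comp_of_isOpenImmersion j (pullback.snd f (t ≫ V.ι)) x' h1
  rwa [hj2] at h2

end UGood

end Groth.Agent.Lib.Helper22.SC
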