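import Mathlib
import Groth.Prelude.Def_EGA43
import Groth.Prelude.Def_FDesc
import Groth.Prelude.Def_MoreMor
import Groth.Agent.Lib.Helper22SC3
import Groth.Agent.Lib.Helper22GI15
import Groth.Agent.Lib.Helper4DVRSch
import Groth.Agent.S1324

set_option autoImplicit false
set_option linter.style.haveILetI false
universe u
open CategoryTheory CategoryTheory.Limits AlgebraicGeometry Topology TopologicalSpace IsLocalRing

namespace Groth.Agent.Lib.Helper22.SC

section Main0

variable {X Y : Scheme.{u}}

theorem mem_sectionComponents_iff (f : X ⟶ Y) (g : Y ⟶ X) (x : X) (y : Y) (hy : f x = y) :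
    x ∈ MoreMor.sectionComponents f g ↔ x ∈ connectedComponentIn (f ⁻¹' {y}) (g y) := by
  subst hy
  rfl

/-- **Noetherian quasi-compact case.** -/
theorem subset_interior_sectionComponents_of_noetherianSpace [IsLocallyNoetherian Y]
    (f : X ⟶ Y) [LocallyOfFiniteType f] [QuasiCompact f] [NoetherianSpace X] (g : Y ⟶ X)
    (hg : g ≫ f = 𝟙 Y) (y : Y)
    (H : ∀ x ∈ connectedComponentIn (f ⁻¹' {y}) (g y), UGood f x) :
    connectedComponentIn (f ⁻¹' {y}) (g y) ⊆ interior (MoreMor.sectionComponents f g) := by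
  intro x hx
  have hfx : f x = y := connectedComponentIn_subset (f ⁻¹' {y}) (g y) hx
  have hxSC : x ∈ MoreMor.sectionComponents f g := (mem_sectionComponents_iff f g x y hfx).mpr hx
  by_contra hn
  have hcl : x ∈ closure (MoreMor.sectionComponents f g)ᶜ := by
    rw [closure_compl]; exact hn
  have hcons : IsLocallyConstructible (MoreMor.sectionComponents f g)ᶜ :=
    (Groth.Agent.Lib.Helper22.GI.isConstructible_sectionComponents_of_noetherianSpace
      f g hg).compl.isLocallyConstructible
  obtain ⟨x', hx'n, hx'x⟩ := exists_specializes_of_mem_closure hcons hcl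
  apply hx'n
  have hne : x' ≠ x := fun h => hx'n (h ▸ hxSC)
  haveI : IsLocallyNoetherian X := LocallyOfFiniteType.isLocallyNoetherian f
  obtain ⟨V, hV, k, hk1, hk2⟩ := Groth.Agent.Lib.Helper4.DVRSch.exists_dvr_hom hx'x hne
    (L := X.residueField x') (𝟙 (X.residueField x')) (by
      show (RingHom.id _).EssFiniteType
      exact RingHom.FiniteType.essFiniteType (RingHom.FiniteType.id _))
  haveI := hV
  have hkη : k (genPt ↥V) = x' := by
    let pt : Spec (CommRingCat.of (X.residueField x')) := ⟨⊥, Ideal.isPrime_bot⟩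
    have h1 : Spec.map (CommRingCat.ofHom V.subtype) pt = genPt ↥V := by
      apply PrimeSpectrum.ext
      show Ideal.comap V.subtype ⊥ = ⊥
      rw [← RingHom.ker_eq_comap_bot]
      exact (RingHom.injective_iff_ker_eq_bot _).mp Subtype.val_injective
    rw [← h1]
    show (Spec.map (CommRingCat.ofHom V.subtype) ≫ k) pt = x'
    rw [hk1, Scheme.Hom.comp_apply]
    exact Scheme.fromSpecResidueField_apply _ _
  set s : Spec (CommRingCat.of ↥V) := closedPoint ↥V with hs
  set η : Spec (CommRingCat.of ↥V) := genPt ↥V with hη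
  let t := k ≫ f
  let fT := pullback.snd f t
  have hpb : IsPullback (pullback.fst f t) fT f t := IsPullback.of_hasPullback f t
  let σh : Spec (CommRingCat.of ↥V) ⟶ pullback f t := pullback.lift k (𝟙 _) (by simp [t])
  let σg : Spec (CommRingCat.of ↥V) ⟶ pullback f t := pullback.lift (t ≫ g) (𝟙 _) (by
    rw [Category.assoc, hg, Category.comp_id, Category.id_comp])
  have hσh : σh ≫ fT = 𝟙 _ := pullback.lift_snd _ _ _
  have hσg : σg ≫ fT = 𝟙 _ := pullback.lift_snd _ _ _
  have hσh1 : σh ≫ pullback.fst f t = k := pullback.lift_fst _ _ _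
  have hσg1 : σg ≫ pullback.fst f t = t ≫ g := pullback.lift_fst _ _ _
  have hSC : MoreMor.sectionComponents fT σg =
      (pullback.fst f t) ⁻¹' MoreMor.sectionComponents f g :=
    Groth.Agent.S1324.result f g hg fT (pullback.fst f t) t hpb σg hσg hσg1
  have hfTh : ∀ z, fT (σh z) = z := fun z => by rw [← Scheme.Hom.comp_apply, hσh]; rfl
  have hfst_h : ∀ z, pullback.fst f t (σh z) = k z := fun z => by
    rw [← Scheme.Hom.comp_apply, hσh1]
  have hts : t s = y := by
    show (k ≫ f) s = y
    rw [Scheme.Hom.comp_apply, hk2, hfx]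
  -- the closed point of `σh` is in the component
  have hC : σh s ∈ connectedComponentIn (fT ⁻¹' {s}) (σg s) := by
    rw [← mem_sectionComponents_iff fT σg (σh s) s (hfTh s), hSC, Set.mem_preimage, hfst_h, hk2]
    exact hxSC
  have H' : ∀ x₁ ∈ connectedComponentIn (fT ⁻¹' {s}) (σg s), Good fT x₁ := by
    intro x₁ hx₁
    have hfx₁ : fT x₁ = s := connectedComponentIn_subset (fT ⁻¹' {s}) (σg s) hx₁
    have h1 : x₁ ∈ MoreMor.sectionComponents fT σg :=
      (mem_sectionComponents_iff fT σg x₁ s hfx₁).mpr hx₁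
    rw [hSC, Set.mem_preimage] at h1
    have h2 : f (pullback.fst f t x₁) = y := by
      rw [← Scheme.Hom.comp_apply, hpb.w, Scheme.Hom.comp_apply, hfx₁, hts]
    have h3 := (mem_sectionComponents_iff f g _ y h2).mp h1
    exact H _ h3 ↥V t x₁ rfl
  have hmain := mem_connectedComponentIn_genPt fT σg σh hσg hσh hC H'
  rw [← mem_sectionComponents_iff fT σg (σh η) η (hfTh η), hSC, Set.mem_preimage, hfst_h,
    hkη] at hmain
  exact hmain

end Main0

end Groth.Agent.Lib.Helper22.SC
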