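import Mathlib
import Groth.Agent.Lib.Helper22SC4

set_option autoImplicit false
set_option linter.style.haveILetI false
universe u
open CategoryTheory CategoryTheory.Limits AlgebraicGeometry Topology TopologicalSpace IsLocalRing

namespace Groth.Agent.Lib.Helper22.SC

section Top

/-- In a locally connected space covered by a directed family of opens through `p`, the connected
component of `p` is the union of the connected components of `p` in the members of the family. -/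
theorem connectedComponent_subset_iUnion_of_directed {F : Type*} [TopologicalSpace F]
    [LocallyConnectedSpace F] (p : F) {ι : Type*} (𝒲 : ι → Set F) (hopen : ∀ i, IsOpen (𝒲 i))
    (hp : ∀ i, p ∈ 𝒲 i) (hdir : ∀ i j, ∃ k, 𝒲 i ∪ 𝒲 j ⊆ 𝒲 k) (hcov : ∀ z, ∃ i, z ∈ 𝒲 i) :
    connectedComponent p ⊆ ⋃ i, connectedComponentIn (𝒲 i) p := by
  set K : Set F := ⋃ i, connectedComponentIn (𝒲 i) p with hK
  have hKo : IsOpen K := isOpen_iUnion fun i => (hopen i).connectedComponentIn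
  have hKc : IsClosed K := by
    rw [← closure_subset_iff_isClosed]
    intro z hz
    obtain ⟨i, hi⟩ := hcov z
    have hNo : IsOpen (connectedComponentIn (𝒲 i) z) := (hopen i).connectedComponentIn
    obtain ⟨w, hwN, hwK⟩ := mem_closure_iff.mp hz _ hNo (mem_connectedComponentIn hi)
    obtain ⟨j, hj⟩ := Set.mem_iUnion.mp hwK
    obtain ⟨k, hk⟩ := hdir i j
    have hpre : _root_.IsPreconnected
        (connectedComponentIn (𝒲 i) z ∪ connectedComponentIn (𝒲 j) p) :=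
      IsPreconnected.union w hwN hj isPreconnected_connectedComponentIn
        isPreconnected_connectedComponentIn
    have hsub : connectedComponentIn (𝒲 i) z ∪ connectedComponentIn (𝒲 j) p ⊆ 𝒲 k := by
      intro v hv
      rcases hv with hv | hv
      · exact hk (Or.inl (connectedComponentIn_subset _ _ hv))
      · exact hk (Or.inr (connectedComponentIn_subset _ _ hv))
    have h1 := hpre.subset_connectedComponentIn (x := p)
      (Or.inr (mem_connectedComponentIn (hp j))) hsub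
    exact Set.mem_iUnion.mpr ⟨k, h1 (Or.inl (mem_connectedComponentIn hi))⟩
  obtain ⟨i₀, -⟩ := hcov p
  have hpK : p ∈ K := Set.mem_iUnion.mpr ⟨i₀, mem_connectedComponentIn (hp i₀)⟩
  exact IsClopen.connectedComponent_subset ⟨hKc, hKo⟩ hpK

end Top

section Compact

theorem exists_compact_opens_mem_connectedComponentIn {X : Scheme.{u}} [IsLocallyNoetherian X]
    (F : Set X) (p : X) (hp : p ∈ F) (x : X) (hx : x ∈ connectedComponentIn F p) :
    ∃ W : X.Opens, IsCompact (W : Set X) ∧ p ∈ W ∧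
      x ∈ connectedComponentIn ((W : Set X) ∩ F) p := by
  -- affine neighbourhoods
  have haff : ∀ z : X, ∃ U : X.Opens, IsAffineOpen U ∧ z ∈ U := by
    intro z
    obtain ⟨_, ⟨U, hU, rfl⟩, hzU, -⟩ := X.isBasis_affineOpens.exists_subset_of_mem_open
      (Set.mem_univ z) isOpen_univ
    exact ⟨U, hU, hzU⟩
  haveI : LocallyConnectedSpace ↥F := by
    apply Groth.Agent.Lib.Helper14.locallyConnectedSpace_of_locally_noetherian
    intro z
    obtain ⟨U₀, hU₀, hzU₀⟩ := haff z.1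
    haveI : IsNoetherianRing Γ(X, U₀) := IsLocallyNoetherian.component_noetherian ⟨U₀, hU₀⟩
    haveI : NoetherianSpace {a // a ∈ (U₀ : Set X)} := noetherianSpace_of_isAffineOpen U₀ hU₀
    refine ⟨Subtype.val ⁻¹' (U₀ : Set X), (U₀.2.preimage continuous_subtype_val).mem_nhds hzU₀, ?_⟩
    let m : {a // a ∈ (Subtype.val ⁻¹' (U₀ : Set X) : Set ↥F)} → {a // a ∈ (U₀ : Set X)} :=
      fun a => ⟨a.1.1, a.2⟩
    have hm : IsInducing m := by
      have h1 : IsInducing ((Subtype.val : {a // a ∈ (U₀ : Set X)} → X) ∘ m) := by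
        have h2 : ((Subtype.val : {a // a ∈ (U₀ : Set X)} → X) ∘ m) =
            (Subtype.val : ↥F → X) ∘
              (Subtype.val : {a // a ∈ (Subtype.val ⁻¹' (U₀ : Set X) : Set ↥F)} → ↥F) := rfl
        rw [h2]
        exact IsInducing.subtypeVal.comp IsInducing.subtypeVal
      exact (IsInducing.subtypeVal.of_comp_iff).mp h1
    exact hm.noetherianSpace
  let I := {W : X.Opens // IsCompact (W : Set X) ∧ p ∈ W}
  let 𝒲 : I → Set ↥F := fun W => Subtype.val ⁻¹' (W.1 : Set X)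
  have h1 := connectedComponent_subset_iUnion_of_directed (⟨p, hp⟩ : ↥F) 𝒲
    (fun W => W.1.2.preimage continuous_subtype_val) (fun W => W.2.2)
    (fun W₁ W₂ => ⟨⟨W₁.1 ⊔ W₂.1, W₁.2.1.union W₂.2.1, Or.inl W₁.2.2⟩, by
      rintro z (hz | hz)
      · exact Or.inl hz
      · exact Or.inr hz⟩)
    (fun z => by
      obtain ⟨U₁, hU₁, hz₁⟩ := haff z.1
      obtain ⟨U₂, hU₂, hp₂⟩ := haff p
      exact ⟨⟨U₁ ⊔ U₂, hU₁.isCompact.union hU₂.isCompact, Or.inr hp₂⟩, Or.inl hz₁⟩)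
  rw [connectedComponentIn_eq_image hp] at hx
  obtain ⟨x₀, hx₀, rfl⟩ := hx
  obtain ⟨W, hW⟩ := Set.mem_iUnion.mp (h1 hx₀)
  refine ⟨W.1, W.2.1, W.2.2, ?_⟩
  have hpre : _root_.IsPreconnected (Subtype.val '' connectedComponentIn (𝒲 W) (⟨p, hp⟩ : ↥F)) :=
    isPreconnected_connectedComponentIn.image _ continuous_subtype_val.continuousOn
  have hsub : Subtype.val '' connectedComponentIn (𝒲 W) (⟨p, hp⟩ : ↥F) ⊆ (W.1 : Set X) ∩ F := by
    rintro _ ⟨a, ha, rfl⟩
    exact ⟨connectedComponentIn_subset (𝒲 W) _ ha, a.2⟩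
  have hpm : p ∈ Subtype.val '' connectedComponentIn (𝒲 W) (⟨p, hp⟩ : ↥F) :=
    ⟨⟨p, hp⟩, mem_connectedComponentIn W.2.2, rfl⟩
  exact hpre.subset_connectedComponentIn hpm hsub ⟨x₀, hW, rfl⟩

end Compact

section Main

variable {X Y : Scheme.{u}}

/-- **General case** (locally Noetherian base, `f` locally of finite type). -/
theorem subset_interior_sectionComponents [IsLocallyNoetherian Y] (f : X ⟶ Y)
    [LocallyOfFiniteType f] (g : Y ⟶ X) (hg : g ≫ f = 𝟙 Y) (y : Y)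
    (H : ∀ x ∈ connectedComponentIn (f ⁻¹' {y}) (g y), UGood f x) :
    connectedComponentIn (f ⁻¹' {y}) (g y) ⊆ interior (MoreMor.sectionComponents f g) := by
  intro x hx
  haveI : IsLocallyNoetherian X := LocallyOfFiniteType.isLocallyNoetherian f
  have hfg : ∀ z, f (g z) = z := fun z => by rw [← Scheme.Hom.comp_apply, hg]; rfl
  set F : Set X := f ⁻¹' {y} with hF
  have hpF : g y ∈ F := hfg y
  obtain ⟨W, hWc, hpW, hxW⟩ := exists_compact_opens_mem_connectedComponentIn F (g y) hpF x hx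
  obtain ⟨V, hV, hyV, hVW⟩ : ∃ V : Y.Opens, IsAffineOpen V ∧ y ∈ V ∧
      (V : Set Y) ⊆ g ⁻¹ᵁ W := by
    obtain ⟨_, ⟨V, hV, rfl⟩, hyV, hVW⟩ := Y.isBasis_affineOpens.exists_subset_of_mem_open
      (show y ∈ g ⁻¹ᵁ W from hpW) (g ⁻¹ᵁ W).2
    exact ⟨V, hV, hyV, hVW⟩
  let W' : X.Opens := W ⊓ f ⁻¹ᵁ V
  have e : W' ≤ f ⁻¹ᵁ V := inf_le_right
  have e' : V ≤ g ⁻¹ᵁ W' := fun z hz => ⟨hVW hz, by
    show f (g z) ∈ V
    rw [hfg]; exact hz⟩
  let f₃ := f.resLE V W' e
  let g₃ := g.resLE W' V e'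
  have hg₃ : g₃ ≫ f₃ = 𝟙 _ := by
    rw [← cancel_mono V.ι, Category.assoc, Scheme.Hom.resLE_comp_ι, ← Category.assoc,
      Scheme.Hom.resLE_comp_ι, Category.assoc, hg, Category.comp_id, Category.id_comp]
  -- Noetherian space
  haveI : CompactSpace ↥(W : Scheme.{u}) := isCompact_iff_compactSpace.mp hWc
  haveI : IsNoetherian (W : Scheme.{u}) :=
    { toIsLocallyNoetherian := inferInstance, toCompactSpace := inferInstance }
  haveI hWN : NoetherianSpace {a // a ∈ (W : Set X)} :=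
    (inferInstance : NoetherianSpace ↥(W : Scheme.{u}))
  haveI hW'N : NoetherianSpace {a // a ∈ (W' : Set X)} :=
    NoetherianSpace.of_subset (W := (W : Set X)) (V := (W' : Set X)) (fun a ha => ha.1)
  haveI : NoetherianSpace ↥(W' : Scheme.{u}) := hW'N
  -- pointwise descriptions
  have hf₃ : ∀ z : ↥(W' : Scheme.{u}), V.ι (f₃ z) = f (W'.ι z) := fun z => by
    rw [← Scheme.Hom.comp_apply, ← Scheme.Hom.comp_apply, Scheme.Hom.resLE_comp_ι]
  have hg₃p : ∀ z : ↥(V : Scheme.{u}), W'.ι (g₃ z) = g (V.ι z) := fun z => by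
    rw [← Scheme.Hom.comp_apply, ← Scheme.Hom.comp_apply, Scheme.Hom.resLE_comp_ι]
  have hVinj : Function.Injective V.ι := V.ι.isOpenEmbedding.injective
  let y₃ : ↥(V : Scheme.{u}) := ⟨y, hyV⟩
  have hy₃ : V.ι y₃ = y := rfl
  have hxWF : x ∈ (W : Set X) ∩ F := connectedComponentIn_subset ((W : Set X) ∩ F) (g y) hxW
  let x₃ : ↥(W' : Scheme.{u}) := ⟨x, hxWF.1, by
    show f x ∈ V
    rw [show f x = y from hxWF.2]; exact hyV⟩
  have hx₃ : W'.ι x₃ = x := rfl
  have hfib : ∀ a : ↥(W' : Scheme.{u}), f₃ a = y₃ ↔ f (W'.ι a) = y := by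
    intro a
    rw [← hVinj.eq_iff, hf₃, hy₃]
  -- hypotheses for the restricted morphism
  have H₃ : ∀ z ∈ connectedComponentIn (f₃ ⁻¹' {y₃}) (g₃ y₃), UGood f₃ z := by
    intro z hz
    apply uGood_resLE f V W' e z
    apply H
    have hpre := (isPreconnected_connectedComponentIn (F := f₃ ⁻¹' {y₃}) (x := g₃ y₃)).image
      W'.ι W'.ι.continuous.continuousOn
    have hsub : W'.ι '' connectedComponentIn (f₃ ⁻¹' {y₃}) (g₃ y₃) ⊆ F := by
      rintro _ ⟨a, ha, rfl⟩
      exact (hfib a).mp (connectedComponentIn_subset (f₃ ⁻¹' {y₃}) (g₃ y₃) ha)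
    have hmem : g y ∈ W'.ι '' connectedComponentIn (f₃ ⁻¹' {y₃}) (g₃ y₃) := by
      refine ⟨g₃ y₃, mem_connectedComponentIn ?_, ?_⟩
      · show f₃ (g₃ y₃) = y₃
        rw [← Scheme.Hom.comp_apply, hg₃]; rfl
      · rw [hg₃p, hy₃]
    exact hpre.subset_connectedComponentIn hmem hsub ⟨z, hz, rfl⟩
  have hM := subset_interior_sectionComponents_of_noetherianSpace f₃ g₃ hg₃ y₃ H₃
  -- `x₃` lies in the component
  have hx₃C : x₃ ∈ connectedComponentIn (f₃ ⁻¹' {y₃}) (g₃ y₃) := by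
    set K : Set X := connectedComponentIn ((W : Set X) ∩ F) (g y) with hK
    have hKsub : K ⊆ (W : Set X) ∩ F := connectedComponentIn_subset _ _
    have hKr : K ⊆ Set.range W'.ι := by
      intro a ha
      rw [Scheme.Opens.range_ι]
      refine ⟨(hKsub ha).1, ?_⟩
      show f a ∈ V
      rw [show f a = y from (hKsub ha).2]; exact hyV
    have hpre' : _root_.IsPreconnected (W'.ι ⁻¹' K) :=
      (isPreconnected_connectedComponentIn).preimage_of_isOpenMap
        W'.ι.isOpenEmbedding.injective W'.ι.isOpenEmbedding.isOpenMap hKr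
    have hsub' : W'.ι ⁻¹' K ⊆ f₃ ⁻¹' {y₃} := by
      intro a ha
      exact (hfib a).mpr (hKsub ha).2
    have hmem' : g₃ y₃ ∈ W'.ι ⁻¹' K := by
      show W'.ι (g₃ y₃) ∈ K
      rw [hg₃p, hy₃]
      exact mem_connectedComponentIn ⟨hpW, hpF⟩
    exact hpre'.subset_connectedComponentIn hmem' hsub' (show W'.ι x₃ ∈ K from hxW)
  have hx₃int := hM hx₃C
  rw [mem_interior]
  refine ⟨W'.ι '' interior (MoreMor.sectionComponents f₃ g₃), ?_,
    W'.ι.isOpenEmbedding.isOpenMap _ isOpen_interior, ⟨x₃, hx₃int, rfl⟩⟩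
  rintro _ ⟨a, ha, rfl⟩
  have ha'' : a ∈ MoreMor.sectionComponents f₃ g₃ := interior_subset ha
  have ha' : a ∈ connectedComponentIn (f₃ ⁻¹' {f₃ a}) (g₃ (f₃ a)) := ha''
  show W'.ι a ∈ connectedComponentIn (f ⁻¹' {f (W'.ι a)}) (g (f (W'.ι a)))
  have hpre := (isPreconnected_connectedComponentIn (F := f₃ ⁻¹' {f₃ a}) (x := g₃ (f₃ a))).image
    W'.ι W'.ι.continuous.continuousOn
  have hsub : W'.ι '' connectedComponentIn (f₃ ⁻¹' {f₃ a}) (g₃ (f₃ a)) ⊆
      f ⁻¹' {f (W'.ι a)} := by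
    rintro _ ⟨b, hb, rfl⟩
    have hb' : f₃ b = f₃ a := connectedComponentIn_subset (f₃ ⁻¹' {f₃ a}) (g₃ (f₃ a)) hb
    show f (W'.ι b) = f (W'.ι a)
    rw [← hf₃, ← hf₃, hb']
  have hmem : g (f (W'.ι a)) ∈ W'.ι '' connectedComponentIn (f₃ ⁻¹' {f₃ a}) (g₃ (f₃ a)) := by
    refine ⟨g₃ (f₃ a), mem_connectedComponentIn ?_, ?_⟩
    · show f₃ (g₃ (f₃ a)) = f₃ a
      rw [← Scheme.Hom.comp_apply, hg₃]; rfl
    · rw [hg₃p, hf₃]
  exact hpre.subset_connectedComponentIn hmem hsub ⟨a, ha', rfl⟩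

end Main

end Groth.Agent.Lib.Helper22.SC
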