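import Mathlib
import Groth.Prelude.Def_EGA43
import Groth.Prelude.Def_FDesc
import Groth.Agent.Lib.Helper22SC5

set_option autoImplicit false
set_option linter.style.haveILetI false
universe u
open CategoryTheory CategoryTheory.Limits AlgebraicGeometry Topology TopologicalSpace IsLocalRing

namespace Groth.Agent.Lib.Helper22.SC

section FiberMap

variable {X Y X' Y' : Scheme.{u}} {f : X ⟶ Y} {f' : X' ⟶ Y'} {g' : X' ⟶ X} {g : Y' ⟶ Y}

/-- the fibre of `f` through `a` is geometrically reduced at `a` -/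
def GRAt (f : X ⟶ Y) (a : X) : Prop :=
  FBase.IsGeomReducedAt (f.fiberToSpecResidueField (f a)) (f.asFiber a)

theorem isReduced_quot_of_gRAt (sq : IsPullback g' f' f g) (x' : X') (h : GRAt f (g' x')) :
    IsReduced (X'.presheaf.stalk x' ⧸
      (maximalIdeal (Y'.presheaf.stalk (f' x'))).map (f'.stalkMap x').hom) := by
  obtain ⟨E⟩ := Groth.Agent.Lib.Helper5.FiberStalk.nonempty_stalk_asFiber_equiv f' x'
  have hred := isReduced_stalk_fiber_of_isPullback sq x' h
  refine ⟨fun a ha => ?_⟩
  have h1 : IsNilpotent (E.symm a) := ha.map E.symm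
  have h2 : E.symm a = 0 := hred.eq_zero _ h1
  exact E.symm.injective (h2.trans (map_zero _).symm)

/-- the comparison map of fibres over `y'` and `g y'` -/
noncomputable def fiberMapY (sq : IsPullback g' f' f g) (y' : Y') :
    f'.fiber y' ⟶ f.fiber (g y') :=
  pullback.lift (f'.fiberι y' ≫ g') (f'.fiberToSpecResidueField y' ≫ Spec.map (g.residueFieldMap y'))
    (by
      rw [Category.assoc, sq.w, ← Category.assoc, Category.assoc _ (Spec.map _),
        Scheme.Hom.SpecMap_residueFieldMap_fromSpecResidueField, ← Category.assoc]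
      congr 1
      exact pullback.condition)

theorem fiberMapY_fiberι (sq : IsPullback g' f' f g) (y' : Y') :
    fiberMapY sq y' ≫ f.fiberι (g y') = f'.fiberι y' ≫ g' := pullback.lift_fst _ _ _

theorem fiberMapY_toSpec (sq : IsPullback g' f' f g) (y' : Y') :
    fiberMapY sq y' ≫ f.fiberToSpecResidueField (g y') =
      f'.fiberToSpecResidueField y' ≫ Spec.map (g.residueFieldMap y') := pullback.lift_snd _ _ _

theorem isPullback_fiberMapY (sq : IsPullback g' f' f g) (y' : Y') :
    IsPullback (fiberMapY sq y') (f'.fiberToSpecResidueField y')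
      (f.fiberToSpecResidueField (g y')) (Spec.map (g.residueFieldMap y')) := by
  have sqF : IsPullback (f.fiberι (g y')) (f.fiberToSpecResidueField (g y')) f
      (Y.fromSpecResidueField (g y')) := IsPullback.of_hasPullback _ _
  have sqF' : IsPullback (f'.fiberι y') (f'.fiberToSpecResidueField y') f'
      (Y'.fromSpecResidueField y') := IsPullback.of_hasPullback _ _
  have sqO : IsPullback (fiberMapY sq y' ≫ f.fiberι (g y')) (f'.fiberToSpecResidueField y') f
      (Spec.map (g.residueFieldMap y') ≫ Y.fromSpecResidueField (g y')) := by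
    rw [fiberMapY_fiberι, Scheme.Hom.SpecMap_residueFieldMap_fromSpecResidueField]
    exact sqF'.paste_horiz sq
  exact IsPullback.of_right sqO (fiberMapY_toSpec sq y') sqF

theorem surjective_fiberMapY (sq : IsPullback g' f' f g) (y' : Y') :
    Function.Surjective (fiberMapY sq y') := by
  haveI : Surjective (Spec.map (g.residueFieldMap y')) := by
    constructor
    intro a
    haveI : Subsingleton ↥(Spec (Y.residueField (g y'))) :=
      (inferInstance : Subsingleton (PrimeSpectrum (Y.residueField (g y'))))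
    let b : ↥(Spec (Y'.residueField y')) :=
      (⟨⊥, Ideal.isPrime_bot⟩ : PrimeSpectrum (Y'.residueField y'))
    exact ⟨b, Subsingleton.elim _ _⟩
  have : Surjective (fiberMapY sq y') :=
    MorphismProperty.of_isPullback (P := @Surjective) (isPullback_fiberMapY sq y').flip
      inferInstance
  exact this.surj

/-- surjectivity on the level of the ambient schemes -/
theorem exists_mem_fibre_of_mem (sq : IsPullback g' f' f g) (y' : Y') (a : X) (ha : f a = g y') :
    ∃ a' : X', f' a' = y' ∧ g' a' = a := by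
  have ha' : a ∈ Set.range (f.fiberι (g y')) := by
    rw [Scheme.Hom.range_fiberι]; exact ha
  obtain ⟨z, hz⟩ := ha'
  obtain ⟨z', hz'⟩ := surjective_fiberMapY sq y' z
  refine ⟨f'.fiberι y' z', ?_, ?_⟩
  · have : f'.fiberι y' z' ∈ Set.range (f'.fiberι y') := ⟨z', rfl⟩
    rw [Scheme.Hom.range_fiberι] at this
    exact this
  · rw [← Scheme.Hom.comp_apply, ← fiberMapY_fiberι sq y', Scheme.Hom.comp_apply, hz', hz]

/-- geometric irreducibility transfers to the fibres of a base change -/
theorem isIrreducible_preimage_inter_fibre (sq : IsPullback g' f' f g) (y' : Y') (C : Set X)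
    (hirr : ∀ (K : Type u) [Field K] [Algebra (IsLocalRing.ResidueField (Y.presheaf.stalk (g y'))) K],
      IsIrreducible ((FBase.bcπ (f.fiberToSpecResidueField (g y')) K ≫ f.fiberι (g y')).base ⁻¹' C)) :
    IsIrreducible (g' ⁻¹' C ∩ f' ⁻¹' {y'}) := by
  letI : Algebra (IsLocalRing.ResidueField (Y.presheaf.stalk (g y')))
      (IsLocalRing.ResidueField (Y'.presheaf.stalk y')) := (g.residueFieldMap y').hom.toAlgebra
  have sqL' : IsPullback (fiberMapY sq y') (f'.fiberToSpecResidueField y')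
      (f.fiberToSpecResidueField (g y'))
      (Spec.map (CommRingCat.ofHom (algebraMap
      (IsLocalRing.ResidueField (Y.presheaf.stalk (g y')))
      (IsLocalRing.ResidueField (Y'.presheaf.stalk y'))))) := isPullback_fiberMapY sq y'
  let e := sqL'.isoPullback
  have he : e.hom ≫ FBase.bcπ (f.fiberToSpecResidueField (g y'))
      (IsLocalRing.ResidueField (Y'.presheaf.stalk y')) = fiberMapY sq y' :=
    sqL'.isoPullback_hom_fst
  have h1 := hirr (IsLocalRing.ResidueField (Y'.presheaf.stalk y'))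
  set S : Set ↥(FBase.bc (f.fiberToSpecResidueField (g y'))
      (IsLocalRing.ResidueField (Y'.presheaf.stalk y'))) :=
    (FBase.bcπ (f.fiberToSpecResidueField (g y'))
        (IsLocalRing.ResidueField (Y'.presheaf.stalk y')) ≫ f.fiberι (g y')).base ⁻¹' C with hS
  -- pull back along the homeomorphism `e`
  have hset : e.hom ⁻¹' S = e.inv '' S := by
    ext z
    constructor
    · intro hz
      refine ⟨e.hom z, hz, ?_⟩
      rw [← Scheme.Hom.comp_apply, e.hom_inv_id]; rfl
    · rintro ⟨w, hw, rfl⟩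
      show e.hom (e.inv w) ∈ S
      rw [← Scheme.Hom.comp_apply, e.inv_hom_id]
      exact hw
  have h2 : IsIrreducible (e.hom ⁻¹' S) := by
    rw [hset]
    exact h1.image e.inv e.inv.continuous.continuousOn
  have h4 : e.hom ⁻¹' S = (f'.fiberι y' ≫ g') ⁻¹' C := by
    have e1 : e.hom ≫ FBase.bcπ (f.fiberToSpecResidueField (g y'))
        (IsLocalRing.ResidueField (Y'.presheaf.stalk y')) ≫ f.fiberι (g y') =
        f'.fiberι y' ≫ g' :=
      (Category.assoc _ _ _).symm.trans
        ((congrArg (fun m => m ≫ f.fiberι (g y')) he).trans (fiberMapY_fiberι sq y'))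
    ext z
    have e2 : (f.fiberι (g y')) ((FBase.bcπ (f.fiberToSpecResidueField (g y'))
        (IsLocalRing.ResidueField (Y'.presheaf.stalk y'))) (e.hom z)) = g' (f'.fiberι y' z) :=
      congrArg (fun m : f'.fiber y' ⟶ X => m z) e1
    show (f.fiberι (g y')) ((FBase.bcπ (f.fiberToSpecResidueField (g y'))
        (IsLocalRing.ResidueField (Y'.presheaf.stalk y'))) (e.hom z)) ∈ C ↔ g' (f'.fiberι y' z) ∈ C
    rw [e2]
  rw [h4] at h2
  have h5 := h2.image (f'.fiberι y') (f'.fiberι y').continuous.continuousOn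
  convert h5 using 1
  ext a
  constructor
  · rintro ⟨haC, hay⟩
    have : a ∈ Set.range (f'.fiberι y') := by
      rw [Scheme.Hom.range_fiberι]; exact hay
    obtain ⟨z, rfl⟩ := this
    exact ⟨z, haC, rfl⟩
  · rintro ⟨z, hz, rfl⟩
    refine ⟨hz, ?_⟩
    have : f'.fiberι y' z ∈ Set.range (f'.fiberι y') := ⟨z, rfl⟩
    rw [Scheme.Hom.range_fiberι] at this
    exact this

end FiberMap

section Gen'

variable {X Y : Scheme.{u}} {f : X ⟶ Y}

/-- variant of `notMem_of_mem_minimalPrimes`: openness is only required at the maximal points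
of `X` (lying in the fibre and generizing `x`). -/
theorem notMem_of_mem_minimalPrimes' [IsLocallyNoetherian X] (x : X)
    (t0 : Y.presheaf.stalk (f x))
    (hmax : maximalIdeal (Y.presheaf.stalk (f x)) = Ideal.span {t0}) (η : Y) (hη : η ⤳ f x)
    (hη' : ¬ f x ⤳ η)
    (hopen : ∀ ξ : X, ξ ⤳ x → f ξ = f x → (∀ ζ : X, ζ ⤳ ξ → ζ = ξ) → EGA43.IsOpenAt f.base ξ) :
    ∀ q ∈ minimalPrimes (X.presheaf.stalk x), (f.stalkMap x).hom t0 ∉ q := by
  intro q hq hϖq
  have hqp : q.IsPrime := hq.1.1
  let qq : Spec (X.presheaf.stalk x) := (⟨q, hqp⟩ : PrimeSpectrum (X.presheaf.stalk x))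
  set ξ := X.fromSpecStalk x qq with hξdef
  have hξx : ξ ⤳ x := by
    have : ξ ∈ Set.range (X.fromSpecStalk x) := ⟨qq, rfl⟩
    rw [Scheme.range_fromSpecStalk] at this
    exact this
  have hfξ : f ξ = f x := (apply_fromSpecStalk_eq_iff x t0 hmax qq).mpr hϖq
  -- no proper generization
  have hgen : ∀ ζ : X, ζ ⤳ ξ → ζ = ξ := by
    intro ζ hζ
    have : ζ ∈ Set.range (X.fromSpecStalk x) := by
      rw [Scheme.range_fromSpecStalk]; exact hζ.trans hξx
    obtain ⟨q', rfl⟩ := this
    have h1 : q' ⤳ qq := (X.fromSpecStalk x).isEmbedding.isInducing.specializes_iff.mp hζ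
    have h1' : q'.asIdeal ≤ q := (PrimeSpectrum.le_iff_specializes q' qq).mpr h1
    have h2 : q ≤ q'.asIdeal := hq.2 ⟨q'.2, bot_le⟩ h1'
    have : q' = qq := PrimeSpectrum.ext (le_antisymm h1' h2)
    rw [this]
  have hO := hopen ξ hξx hfξ hgen
  -- open nbhd of ξ inside the closure of ξ
  obtain ⟨W, hWo, hξW, hW⟩ : ∃ W : Set X, IsOpen W ∧ ξ ∈ W ∧ ∀ w ∈ W, ξ ⤳ w := by
    obtain ⟨_, ⟨U, hU, rfl⟩, hξU, -⟩ := X.isBasis_affineOpens.exists_subset_of_mem_open
      (Set.mem_univ ξ) isOpen_univ
    replace hU : IsAffineOpen U := hU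
    haveI : IsNoetherianRing Γ(X, U) := IsLocallyNoetherian.component_noetherian ⟨U, hU⟩
    haveI : NoetherianSpace {z // z ∈ U} := noetherianSpace_of_isAffineOpen U hU
    obtain ⟨V, hVo, hξV, hV⟩ :=
      exists_isOpen_forall_mem_irreducibleComponents (⟨ξ, hξU⟩ : {z // z ∈ U})
    refine ⟨Subtype.val '' V, U.2.isOpenEmbedding_subtypeVal.isOpenMap V hVo, ⟨_, hξV, rfl⟩, ?_⟩
    rintro _ ⟨w, hwV, rfl⟩
    have h1 := hV (irreducibleComponent w) (irreducibleComponent_mem_irreducibleComponents w)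
      ⟨w, mem_irreducibleComponent, hwV⟩
    haveI : QuasiSober {z // z ∈ U} := U.2.isOpenEmbedding_subtypeVal.quasiSober
    obtain ⟨ζ, hζ⟩ := QuasiSober.sober (isIrreducible_irreducibleComponent (x := w))
      isClosed_irreducibleComponent
    have hζξ : ζ ⤳ (⟨ξ, hξU⟩ : {z // z ∈ U}) := hζ.specializes h1
    have hζeq : ζ.val = ξ := hgen ζ.val (hζξ.map continuous_subtype_val)
    have hζw : ζ ⤳ w := hζ.specializes mem_irreducibleComponent
    have := hζw.map continuous_subtype_val
    rwa [hζeq] at this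
  have h1 : f.base '' W ∈ nhds (f.base ξ) := hO W (hWo.mem_nhds hξW)
  have h2 : η ∈ f.base '' W := by
    have hfξ' : f.base ξ = f x := hfξ
    rw [hfξ'] at h1
    exact mem_of_mem_nhds (hη h1)
  obtain ⟨w, hw, hfw⟩ := h2
  apply hη'
  have h3 : f ξ ⤳ f w := (hW w hw).map f.continuous
  rw [hfξ] at h3
  have hfw' : f w = η := hfw
  rwa [hfw'] at h3

theorem genOut_nonempty_of_notMem (x : X) (t0 : Y.presheaf.stalk (f x))
    (hmax : maximalIdeal (Y.presheaf.stalk (f x)) = Ideal.span {t0})
    (hmin : ∀ q ∈ minimalPrimes (X.presheaf.stalk x), (f.stalkMap x).hom t0 ∉ q) :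
    (genOut f x).Nonempty := by
  obtain ⟨q, hq⟩ := Ideal.nonempty_minimalPrimes (I := (⊥ : Ideal (X.presheaf.stalk x)))
    bot_ne_top
  have hqp : q.IsPrime := hq.1.1
  let qq : Spec (X.presheaf.stalk x) := (⟨q, hqp⟩ : PrimeSpectrum (X.presheaf.stalk x))
  rw [← image_basicOpen_fromSpecStalk x t0 hmax]
  exact ⟨X.fromSpecStalk x qq, qq, hmin q hq, rfl⟩

end Gen'

section DVR'

variable {A : Type u} [CommRing A] [IsDomain A] [IsDiscreteValuationRing A]

/-- **The DVR case, irreducible component version.** -/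
theorem mem_connectedComponentIn_genPt' {X : Scheme.{u}} (f : X ⟶ Spec (CommRingCat.of A))
    [LocallyOfFiniteType f] (g h : Spec (CommRingCat.of A) ⟶ X) (hg : g ≫ f = 𝟙 _)
    (hh : h ≫ f = 𝟙 _) (ξA : X)
    (hξC : ξA ∈ connectedComponentIn (f ⁻¹' {closedPoint A}) (g (closedPoint A)))
    (hCξ : connectedComponentIn (f ⁻¹' {closedPoint A}) (g (closedPoint A)) ⊆ closure {ξA})
    (hOξ : EGA43.IsOpenAt f.base ξA)
    (hC : h (closedPoint A) ∈ connectedComponentIn (f ⁻¹' {closedPoint A}) (g (closedPoint A)))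
    (Hg : IsReduced (X.presheaf.stalk (g (closedPoint A)) ⧸
      (maximalIdeal ((Spec (CommRingCat.of A)).presheaf.stalk (f (g (closedPoint A))))).map
        (f.stalkMap (g (closedPoint A))).hom))
    (Hh : IsReduced (X.presheaf.stalk (h (closedPoint A)) ⧸
      (maximalIdeal ((Spec (CommRingCat.of A)).presheaf.stalk (f (h (closedPoint A))))).map
        (f.stalkMap (h (closedPoint A))).hom)) :
    h (genPt A) ∈ connectedComponentIn (f ⁻¹' {genPt A}) (g (genPt A)) := by
  set s : Spec (CommRingCat.of A) := closedPoint A with hs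
  set η : Spec (CommRingCat.of A) := genPt A with hη
  haveI : IsLocallyNoetherian X := LocallyOfFiniteType.isLocallyNoetherian f
  have hfg : ∀ z, f (g z) = z := fun z => by rw [← Scheme.Hom.comp_apply, hg]; rfl
  have hfh : ∀ z, f (h z) = z := fun z => by rw [← Scheme.Hom.comp_apply, hh]; rfl
  have hηs : η ≠ s := genPt_ne_closedPoint A
  set F : Set X := f ⁻¹' {s} with hF
  set C : Set X := connectedComponentIn F (g s) with hCdef
  set Fη : Set X := f ⁻¹' {η} with hFη
  set U : Set X := connectedComponentIn Fη (g η) with hUdef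
  have hCF : C ⊆ F := connectedComponentIn_subset F _
  have hsp : η ⤳ s := genPt_specializes_closedPoint A
  have hgsC : g s ∈ C := mem_connectedComponentIn (hfg s)
  -- openness at the maximal points generizing points of `C`
  have hopenC : ∀ x₁ ∈ C, ∀ ξ : X, ξ ⤳ x₁ → f ξ = f x₁ → (∀ ζ : X, ζ ⤳ ξ → ζ = ξ) →
      EGA43.IsOpenAt f.base ξ := by
    intro x₁ hx₁ ξ hξ hfξ hgen
    have hξF : ξ ∈ F := by
      show f ξ = s
      rw [hfξ]; exact hCF hx₁
    have hpair : _root_.IsPreconnected ({ξ, x₁} : Set X) := by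
      refine (isPreconnected_singleton (x := ξ)).subset_closure (s := {ξ}) (by simp) ?_
      rintro z (rfl | rfl)
      · exact subset_closure rfl
      · exact specializes_iff_mem_closure.mp hξ
    have h1 := hpair.subset_connectedComponentIn (x := x₁) (by simp) (by
      rintro z (rfl | rfl)
      · exact hξF
      · exact hCF hx₁)
    have e1 : C = connectedComponentIn F x₁ := connectedComponentIn_eq hx₁
    have hξC' : ξ ∈ C := by
      rw [e1]; exact h1 (by simp)
    have h2 : ξA ⤳ ξ := specializes_iff_mem_closure.mpr (hCξ hξC')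
    have h3 : ξA = ξ := hgen ξA h2
    rw [← h3]; exact hOξ
  have hminC : ∀ x₁ ∈ C, ∀ (t0 : (Spec (CommRingCat.of A)).presheaf.stalk (f x₁))
      (hmax : maximalIdeal ((Spec (CommRingCat.of A)).presheaf.stalk (f x₁)) = Ideal.span {t0}),
      ∀ q ∈ minimalPrimes (X.presheaf.stalk x₁), (f.stalkMap x₁).hom t0 ∉ q := by
    intro x₁ hx₁ t0 hmax
    have hfx₁ : f x₁ = s := hCF hx₁
    refine notMem_of_mem_minimalPrimes' x₁ t0 hmax η ?_ ?_ (hopenC x₁ hx₁)
    · rw [hfx₁]; exact hsp
    · rw [hfx₁]; exact not_closedPoint_specializes_genPt A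
  have hsubη : ∀ x₁ ∈ C, genOut f x₁ ⊆ Fη := by
    rintro x₁ hx₁ z ⟨-, hz⟩
    rcases eq_closedPoint_or_eq_genPt A (f z) with h1 | h1
    · exact absurd (h1.trans (hCF hx₁).symm) hz
    · exact h1
  have hconn : ∀ x₁ ∈ C, IsReduced (X.presheaf.stalk x₁ ⧸
      (maximalIdeal ((Spec (CommRingCat.of A)).presheaf.stalk (f x₁))).map
        (f.stalkMap x₁).hom) → _root_.IsConnected (genOut f x₁) := by
    intro x₁ hx₁ hred
    obtain ⟨t0, hmax⟩ := exists_maximalIdeal_stalk_eq_span A (f x₁) (hCF hx₁)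
    exact isConnected_genOut x₁ t0 hmax hred (hminC x₁ hx₁ t0 hmax)
  have hincl : ∀ x₁ ∈ C, genOut f ξA ⊆ genOut f x₁ := by
    rintro x₁ hx₁ z ⟨hz1, hz2⟩
    refine ⟨hz1.trans (specializes_iff_mem_closure.mpr (hCξ hx₁)), ?_⟩
    have h1 : f ξA = s := hCF hξC
    have h2 : f x₁ = s := hCF hx₁
    rw [h2, ← h1]; exact hz2
  obtain ⟨t0, hmax⟩ := exists_maximalIdeal_stalk_eq_span A (f ξA) (hCF hξC)
  obtain ⟨z, hz⟩ := genOut_nonempty_of_notMem ξA t0 hmax (hminC ξA hξC t0 hmax)
  have hgη : g η ∈ genOut f (g s) := by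
    refine ⟨hsp.map g.continuous, ?_⟩
    rw [hfg, hfg]; exact hηs
  have hhη : h η ∈ genOut f (h s) := by
    refine ⟨hsp.map h.continuous, ?_⟩
    rw [hfh, hfh]; exact hηs
  have h1 : genOut f (g s) ⊆ U :=
    (hconn (g s) hgsC Hg).isPreconnected.subset_connectedComponentIn hgη (hsubη (g s) hgsC)
  have hzU : z ∈ U := h1 (hincl (g s) hgsC hz)
  have h2 : genOut f (h s) ⊆ connectedComponentIn Fη z :=
    (hconn (h s) hC Hh).isPreconnected.subset_connectedComponentIn (hincl (h s) hC hz)
      (hsubη (h s) hC)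
  have e2 : U = connectedComponentIn Fη z := connectedComponentIn_eq hzU
  rw [e2]
  exact h2 hhη

end DVR'

end Groth.Agent.Lib.Helper22.SC
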