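import Mathlib
import Groth.Prelude.Def_Curv2
import Groth.Agent.Lib.Helper6BcBridge
import Groth.Agent.Lib.Helper6BcAlg
import Groth.Agent.Lib.Helper6BcGeom
import Groth.Agent.Lib.Helper6BcRed
import Groth.Agent.Lib.Helper6BcRed2
import Groth.Agent.Lib.Helper14GeomRed

set_option autoImplicit false
universe u
open CategoryTheory CategoryTheory.Limits AlgebraicGeometry TensorProduct

namespace Groth.Agent.Lib.Helper6.BcRed4

open Groth.Agent.Lib.Helper6.BcBridge Groth.Agent.Lib.Helper6.BcAlg Groth.Agent.Lib.Helper6.BcGeom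
open Groth.Agent.Lib.Helper6.BcRed

section Scheme

attribute [local instance] Curv2.stalkAlgebra

variable (k : Type u) [Field k] (X : Scheme.{u}) [X.Over (Spec (CommRingCat.of k))]

/-- a point of `X_K` over a generization of `x` has reduced local ring once `K ⊗ O_{X,x}` is
reduced -/
theorem reduced_stalk_of_isReduced_tensor_of_specializes (K : Type u) [Field K] [Algebra k K]
    (x' : Curv2.bc k X K) (x : X) (hx : Curv2.bcFst k X K x' ⤳ x)
    (h3 : IsReduced (K ⊗[k] X.presheaf.stalk x)) :
    IsReduced ((Curv2.bc k X K).presheaf.stalk x') := by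
  obtain ⟨R, _, _, ι, _, hι, z, rfl⟩ := exists_chart k X x
  have hmem : Curv2.bcFst k X K x' ∈ Set.range ι :=
    hx.mem_open ι.isOpenEmbedding.isOpen_range ⟨z, rfl⟩
  obtain ⟨z', hz'⟩ := hmem
  obtain ⟨Q, hQ, ⟨e⟩⟩ := exists_prime_of_point_left k X K ι hι x' z' hz'
  have h3' : IsReduced (Localization.AtPrime z.asIdeal ⊗[k] K) :=
    reducedProp.equiv _ _ (tensorStalkEquiv k X K ι hι z) h3
  have hspec : z' ⤳ z := by
    rw [← hz'] at hx
    exact ι.isOpenEmbedding.isInducing.specializes_iff.mp hx
  have hle : Q.asIdeal.comap (Algebra.TensorProduct.includeLeftRingHom) ≤ z.asIdeal := by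
    have h1 : Q.asIdeal.comap (Algebra.TensorProduct.includeLeftRingHom) = z'.asIdeal :=
      congrArg PrimeSpectrum.asIdeal hQ
    rw [h1]
    exact (PrimeSpectrum.le_iff_specializes z' z).mpr hspec
  exact reducedProp.equiv _ _ e.symm
    (reduced_of_isReduced_tensor k R K z.asIdeal h3' Q.asIdeal hle)

/-- geometric reducedness at a point passes to generizations -/
theorem isGeomReducedAt_of_specializes (x x' : X) (h : x' ⤳ x)
    (hx : Curv2.IsGeomReducedAt k X x) : Curv2.IsGeomReducedAt k X x' := by
  haveI : Algebra.IsGeometricallyReduced k (X.presheaf.stalk x) :=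
    (isGeomReducedAt_iff k X x).mp hx
  intro K _ _ y hy
  exact reduced_stalk_of_isReduced_tensor_of_specializes k X K y x (hy ▸ h)
    (Groth.Agent.Lib.Helper14.GeomRed.isReduced_tensor_of_isGeometricallyReduced K)

end Scheme

/-- "domain" as a ring property -/
def domainProp : RingProp.{u} where
  P T _ := IsDomain T
  equiv T T' _ _ e h := by
    haveI := h
    exact e.symm.injective.isDomain e.symm.toRingHom

theorem domain_desc (A B : Type u) [CommRing A] [CommRing B] [IsLocalRing A] [IsLocalRing B]
    (f : A →+* B) [IsLocalHom f] (hf : f.Flat) (h : domainProp.P B) : domainProp.P A := by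
  algebraize [f]
  haveI : IsLocalHom (algebraMap A B) := by rwa [RingHom.algebraMap_toAlgebra]
  haveI : Module.FaithfullyFlat A B := Module.FaithfullyFlat.of_flat_of_isLocalHom
  haveI : IsDomain B := h
  exact (FaithfulSMul.algebraMap_injective A B).isDomain (algebraMap A B)

end Groth.Agent.Lib.Helper6.BcRed4
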