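import Mathlib
import Groth.Prelude.Def_EGA43
import Groth.Prelude.Def_FDesc
import Groth.Prelude.Def_MoreMor
import Groth.Agent.Lib.Helper22SC6
import Groth.Agent.Lib.Helper6BcRed4
import Groth.Agent.Lib.Helper4DimFormulaAP

set_option autoImplicit false
set_option linter.style.haveILetI false
universe u
open CategoryTheory CategoryTheory.Limits AlgebraicGeometry Topology TopologicalSpace IsLocalRing

namespace Groth.Agent.Lib.Helper22.SC

section Transport

variable {X Y : Scheme.{u}} (f : X ⟶ Y)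

theorem gRAt_iff (a : X) (y : Y) (hy : f a = y) :
    GRAt f a ↔ FBase.IsGeomReducedAt (f.fiberToSpecResidueField y)
      ((f.fiberHomeo y).symm ⟨a, hy⟩) := by
  subst hy; rfl

theorem isGeomReducedAt_of_specializes {k : Type u} [Field k] {Z : Scheme.{u}}
    (φ : Z ⟶ Spec (CommRingCat.of k)) (z z' : Z) (h : z' ⤳ z)
    (hz : FBase.IsGeomReducedAt φ z) : FBase.IsGeomReducedAt φ z' := by
  letI : Z.Over (Spec (CommRingCat.of k)) := ⟨φ⟩
  have h1 : Curv2.IsGeomReducedAt k Z z := fun K _ _ x' hx' => hz K x' hx'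
  have h2 := Groth.Agent.Lib.Helper6.BcRed4.isGeomReducedAt_of_specializes k Z z z' h h1
  exact fun K _ _ x' hx' => h2 K x' hx'

theorem gRAt_of_specializes (a a' : X) (h : a' ⤳ a) (hf : f a' = f a) (ha : GRAt f a) :
    GRAt f a' := by
  rw [gRAt_iff f a' (f a) hf]
  rw [gRAt_iff f a (f a) rfl] at ha
  refine isGeomReducedAt_of_specializes _ _ _ ?_ ha
  rw [← (f.fiberι (f a)).isEmbedding.isInducing.specializes_iff]
  rw [Scheme.Hom.fiberι_fiberHomeo_symm, Scheme.Hom.fiberι_fiberHomeo_symm]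
  exact h

end Transport

section GS

variable {X Y : Scheme.{u}}

/-- **Generization stability** of the section components at the generic point of `X⁰_{y₀}`. -/
theorem mem_sectionComponents_of_specializes [IsLocallyNoetherian Y] (f : X ⟶ Y)
    [LocallyOfFiniteType f] (g : Y ⟶ X) (hg : g ≫ f = 𝟙 Y)
    (hirr : ∀ y : Y, (∀ (K : Type u) [Field K]
        [Algebra (IsLocalRing.ResidueField (Y.presheaf.stalk y)) K],
        IsIrreducible ((FBase.bcπ (f.fiberToSpecResidueField y) K ≫ f.fiberι y).base ⁻¹'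
          connectedComponentIn (f.base ⁻¹' {y}) (g.base y))))
    (y₀ : Y) (ξ : X) (hξC : ξ ∈ connectedComponentIn (f ⁻¹' {y₀}) (g y₀))
    (hCξ : connectedComponentIn (f ⁻¹' {y₀}) (g y₀) ⊆ closure {ξ})
    (hO : EGA43.IsUnivOpenAt f ξ) (hGRξ : GRAt f ξ) (hGRg : GRAt f (g y₀))
    (x' : X) (hx' : x' ⤳ ξ) : x' ∈ MoreMor.sectionComponents f g := by
  have hfξ : f ξ = y₀ := connectedComponentIn_subset (f ⁻¹' {y₀}) (g y₀) hξC
  have hξSC : ξ ∈ MoreMor.sectionComponents f g :=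
    (mem_sectionComponents_iff f g ξ y₀ hfξ).mpr hξC
  by_cases hne : x' = ξ
  · rw [hne]; exact hξSC
  haveI : IsLocallyNoetherian X := LocallyOfFiniteType.isLocallyNoetherian f
  obtain ⟨V, hV, k, hk1, hk2⟩ := Groth.Agent.Lib.Helper4.DVRSch.exists_dvr_hom hx' hne
    (L := X.residueField x') (𝟙 (X.residueField x')) (by
      show (RingHom.id _).EssFiniteType
      exact RingHom.FiniteType.essFiniteType (RingHom.FiniteType.id _))
  haveI := hV
  have hkη : k (genPt ↥V) = x' := by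
    let pt : Spec (CommRingCat.of (X.residueField x')) := ⟨⊥, Ideal.isPrime_bot⟩
    have h1 : Spec.map (CommRingCat.ofHom V.subtype) pt = genPt ↥V := by
      apply PrimeSpectrum.ext
      show Ideal.comap V.subtype ⊥ = ⊥
      rw [← RingHom.ker_eq_comap_bot]
      exact (RingHom.injective_iff_ker_eq_bot _).mp Subtype.val_injective
    rw [← h1]
    show (Spec.map (CommRingCat.ofHom V.subtype) ≫ k) pt = x'
    rw [hk1, Scheme.Hom.comp_apply]
    exact Scheme.fromSpecResidueField_apply _ _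
  set s : Spec (CommRingCat.of ↥V) := closedPoint ↥V with hs
  set η : Spec (CommRingCat.of ↥V) := genPt ↥V with hη
  let t := k ≫ f
  let fT := pullback.snd f t
  have hpb : IsPullback (pullback.fst f t) fT f t := IsPullback.of_hasPullback f t
  let σh : Spec (CommRingCat.of ↥V) ⟶ pullback f t := pullback.lift k (𝟙 _) (by simp [t])
  let σg : Spec (CommRingCat.of ↥V) ⟶ pullback f t := pullback.lift (t ≫ g) (𝟙 _) (by
    rw [Category.assoc, hg, Category.comp_id, Category.id_comp])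
  have hσh : σh ≫ fT = 𝟙 _ := pullback.lift_snd _ _ _
  have hσg : σg ≫ fT = 𝟙 _ := pullback.lift_snd _ _ _
  have hσh1 : σh ≫ pullback.fst f t = k := pullback.lift_fst _ _ _
  have hσg1 : σg ≫ pullback.fst f t = t ≫ g := pullback.lift_fst _ _ _
  have hSC : MoreMor.sectionComponents fT σg =
      (pullback.fst f t) ⁻¹' MoreMor.sectionComponents f g :=
    Groth.Agent.S1324.result f g hg fT (pullback.fst f t) t hpb σg hσg hσg1
  have hfTh : ∀ z, fT (σh z) = z := fun z => by rw [← Scheme.Hom.comp_apply, hσh]; rfl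
  have hfTg : ∀ z, fT (σg z) = z := fun z => by rw [← Scheme.Hom.comp_apply, hσg]; rfl
  have hfst_h : ∀ z, pullback.fst f t (σh z) = k z := fun z => by
    rw [← Scheme.Hom.comp_apply, hσh1]
  have hfst_g : ∀ z, pullback.fst f t (σg z) = g (t z) := fun z => by
    rw [← Scheme.Hom.comp_apply, hσg1, Scheme.Hom.comp_apply]
  have hts : t s = y₀ := by
    show (k ≫ f) s = y₀
    rw [Scheme.Hom.comp_apply, hk2, hfξ]
  set C : Set X := connectedComponentIn (f ⁻¹' {y₀}) (g y₀) with hCdef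
  set CA : Set ↥(pullback f t) := connectedComponentIn (fT ⁻¹' {s}) (σg s) with hCA
  have hft : ∀ x₁ : ↥(pullback f t), fT x₁ = s → f (pullback.fst f t x₁) = y₀ := by
    intro x₁ hx₁
    rw [← Scheme.Hom.comp_apply, hpb.w, Scheme.Hom.comp_apply, hx₁, hts]
  -- description of `CA`
  have hCAeq : CA = (pullback.fst f t) ⁻¹' C ∩ fT ⁻¹' {s} := by
    ext x₁
    constructor
    · intro hx₁
      have hfx₁ : fT x₁ = s := connectedComponentIn_subset (fT ⁻¹' {s}) (σg s) hx₁
      have h1 : x₁ ∈ MoreMor.sectionComponents fT σg :=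
        (mem_sectionComponents_iff fT σg x₁ s hfx₁).mpr hx₁
      rw [hSC, Set.mem_preimage] at h1
      exact ⟨(mem_sectionComponents_iff f g _ y₀ (hft x₁ hfx₁)).mp h1, hfx₁⟩
    · rintro ⟨h1, hfx₁⟩
      have hfx₁' : fT x₁ = s := hfx₁
      have h3 : x₁ ∈ MoreMor.sectionComponents fT σg := by
        rw [hSC, Set.mem_preimage]
        exact (mem_sectionComponents_iff f g _ y₀ (hft x₁ hfx₁')).mpr h1
      exact (mem_sectionComponents_iff fT σg x₁ s hfx₁').mp h3
  have hCAirr : IsIrreducible CA := by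
    rw [hCAeq]
    refine isIrreducible_preimage_inter_fibre hpb s C ?_
    intro K _ _
    have h1 := hirr (t s) K
    have hC' : connectedComponentIn (f.base ⁻¹' {t s}) (g.base (t s)) = C := by
      rw [hts]
    rw [hC'] at h1
    exact h1
  have hCAsub : CA ⊆ fT ⁻¹' {s} := connectedComponentIn_subset _ _
  have hσgs : σg s ∈ fT ⁻¹' {s} := hfTg s
  have hCAmax : ∀ Z' : Set ↥(pullback f t), IsIrreducible Z' → Z' ⊆ fT.base ⁻¹' {s} →
      CA ⊆ Z' → Z' = CA := by
    intro Z' hZ' hZ'F hCZ'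
    exact le_antisymm (hZ'.isPreirreducible.isPreconnected.subset_connectedComponentIn
        (hCZ' (mem_connectedComponentIn hσgs)) hZ'F) hCZ'
  obtain ⟨ξA, hfξA, hCAcl, -⟩ :=
    Groth.Agent.Lib.Helper4.DimFormula.exists_generic_of_maximal_irreducible_subset_fibre fT s CA
      hCAsub hCAirr hCAmax
  have hξACA : ξA ∈ CA := by
    rw [hCAcl]; exact ⟨subset_closure rfl, hfξA⟩
  have hCAξA : CA ⊆ closure {ξA} := by
    rw [hCAcl]; exact Set.inter_subset_left
  -- the image of `ξA` is `ξ`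
  have hfstξA : pullback.fst f t ξA = ξ := by
    have h1 : pullback.fst f t ξA ∈ C := by
      have := hξACA
      rw [hCAeq] at this
      exact this.1
    have h2 : ξ ⤳ pullback.fst f t ξA := specializes_iff_mem_closure.mpr (hCξ h1)
    obtain ⟨a', ha's, ha'ξ⟩ := exists_mem_fibre_of_mem hpb s ξ (hfξ.trans hts.symm)
    have ha'CA : a' ∈ CA := by
      rw [hCAeq]
      refine ⟨?_, ha's⟩
      show pullback.fst f t a' ∈ C
      rw [ha'ξ]; exact hξC
    have h3 : ξA ⤳ a' := specializes_iff_mem_closure.mpr (hCAξA ha'CA)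
    have h4 : pullback.fst f t ξA ⤳ ξ := by
      have := h3.map (pullback.fst f t).continuous
      rwa [ha'ξ] at this
    exact (h4.antisymm h2).eq
  have hOξA : EGA43.IsOpenAt fT.base ξA :=
    Groth.Agent.Lib.Helper7.isOpenAt_of_isPullback hpb ξ hO ξA hfstξA
  -- the closed point of `σh` is in the component
  have hC : σh s ∈ CA := by
    rw [hCA, ← mem_sectionComponents_iff fT σg (σh s) s (hfTh s), hSC, Set.mem_preimage, hfst_h,
      hk2]
    exact hξSC
  have Hg := isReduced_quot_of_gRAt hpb (σg s) (by rw [hfst_g, hts]; exact hGRg)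
  have Hh := isReduced_quot_of_gRAt hpb (σh s) (by rw [hfst_h, hk2]; exact hGRξ)
  have hmain := mem_connectedComponentIn_genPt' fT σg σh hσg hσh ξA hξACA hCAξA hOξA hC Hg Hh
  rw [← mem_sectionComponents_iff fT σg (σh η) η (hfTh η), hSC, Set.mem_preimage, hfst_h,
    hkη] at hmain
  exact hmain

end GS

section Nhds

variable {X Y : Scheme.{u}}

theorem isPreirreducible_inter_of_isOpen {α : Type*} [TopologicalSpace α] {s W : Set α}
    (hs : IsPreirreducible s) (hW : IsOpen W) : IsPreirreducible (s ∩ W) := by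
  intro u v hu hv ⟨a, ⟨has, haW⟩, hau⟩ ⟨b, ⟨hbs, hbW⟩, hbv⟩
  obtain ⟨c, hcs, hcu, hcv⟩ := hs (u ∩ W) (v ∩ W) (hu.inter hW) (hv.inter hW)
    ⟨a, has, hau, haW⟩ ⟨b, hbs, hbv, hbW⟩
  exact ⟨c, ⟨hcs, hcu.2⟩, hcu.1, hcv.1⟩

/-- If all `X⁰_y` are irreducible and `X⁰` is stable under generization at `ξ ∈ X⁰`, then `X⁰` is a
neighbourhood of `ξ`. -/
theorem sectionComponents_mem_nhds [IsLocallyNoetherian Y] (f : X ⟶ Y) [LocallyOfFiniteType f]
    (g : Y ⟶ X) (hg : g ≫ f = 𝟙 Y)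
    (hirrC : ∀ y : Y, IsPreirreducible (connectedComponentIn (f ⁻¹' {y}) (g y)))
    (ξ : X) (hgen : ∀ x' : X, x' ⤳ ξ → x' ∈ MoreMor.sectionComponents f g) :
    MoreMor.sectionComponents f g ∈ nhds ξ := by
  haveI : IsLocallyNoetherian X := LocallyOfFiniteType.isLocallyNoetherian f
  have hfg : ∀ z, f (g z) = z := fun z => by rw [← Scheme.Hom.comp_apply, hg]; rfl
  have haff : ∀ z : X, ∃ U : X.Opens, IsAffineOpen U ∧ z ∈ U := by
    intro z
    obtain ⟨_, ⟨U, hU, rfl⟩, hzU, -⟩ := X.isBasis_affineOpens.exists_subset_of_mem_open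
      (Set.mem_univ z) isOpen_univ
    exact ⟨U, hU, hzU⟩
  set y := f ξ with hy
  obtain ⟨U₁, hU₁, hξU₁⟩ := haff ξ
  obtain ⟨U₂, hU₂, hpU₂⟩ := haff (g y)
  let W : X.Opens := U₁ ⊔ U₂
  have hWc : IsCompact (W : Set X) := hU₁.isCompact.union hU₂.isCompact
  have hpW : g y ∈ W := Or.inr hpU₂
  have hξW : ξ ∈ W := Or.inl hξU₁
  obtain ⟨V, hV, hyV, hVW⟩ : ∃ V : Y.Opens, IsAffineOpen V ∧ y ∈ V ∧
      (V : Set Y) ⊆ g ⁻¹ᵁ W := by
    obtain ⟨_, ⟨V, hV, rfl⟩, hyV, hVW⟩ := Y.isBasis_affineOpens.exists_subset_of_mem_open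
      (show y ∈ g ⁻¹ᵁ W from hpW) (g ⁻¹ᵁ W).2
    exact ⟨V, hV, hyV, hVW⟩
  let W' : X.Opens := W ⊓ f ⁻¹ᵁ V
  have e : W' ≤ f ⁻¹ᵁ V := inf_le_right
  have e' : V ≤ g ⁻¹ᵁ W' := fun z hz => ⟨hVW hz, by
    show f (g z) ∈ V
    rw [hfg]; exact hz⟩
  let f₃ := f.resLE V W' e
  let g₃ := g.resLE W' V e'
  have hg₃ : g₃ ≫ f₃ = 𝟙 _ := by
    rw [← cancel_mono V.ι, Category.assoc, Scheme.Hom.resLE_comp_ι, ← Category.assoc,
      Scheme.Hom.resLE_comp_ι, Category.assoc, hg, Category.comp_id, Category.id_comp]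
  -- Noetherian space
  haveI : CompactSpace ↥(W : Scheme.{u}) := isCompact_iff_compactSpace.mp hWc
  haveI : IsNoetherian (W : Scheme.{u}) :=
    { toIsLocallyNoetherian := inferInstance, toCompactSpace := inferInstance }
  haveI hWN : NoetherianSpace {a // a ∈ (W : Set X)} :=
    (inferInstance : NoetherianSpace ↥(W : Scheme.{u}))
  haveI hW'N : NoetherianSpace {a // a ∈ (W' : Set X)} :=
    NoetherianSpace.of_subset (W := (W : Set X)) (V := (W' : Set X)) (fun a ha => ha.1)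
  haveI : NoetherianSpace ↥(W' : Scheme.{u}) := hW'N
  -- pointwise descriptions
  have hf₃ : ∀ z : ↥(W' : Scheme.{u}), V.ι (f₃ z) = f (W'.ι z) := fun z => by
    rw [← Scheme.Hom.comp_apply, ← Scheme.Hom.comp_apply, Scheme.Hom.resLE_comp_ι]
  have hg₃p : ∀ z : ↥(V : Scheme.{u}), W'.ι (g₃ z) = g (V.ι z) := fun z => by
    rw [← Scheme.Hom.comp_apply, ← Scheme.Hom.comp_apply, Scheme.Hom.resLE_comp_ι]
  have hVinj : Function.Injective V.ι := V.ι.isOpenEmbedding.injective
  have hfg₃ : ∀ z, f₃ (g₃ z) = z := fun z => by rw [← Scheme.Hom.comp_apply, hg₃]; rfl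
  -- comparison of the section components
  have hcomp : ∀ a : ↥(W' : Scheme.{u}), a ∈ MoreMor.sectionComponents f₃ g₃ ↔
      W'.ι a ∈ MoreMor.sectionComponents f g := by
    intro a
    constructor
    · intro ha''
      have ha' : a ∈ connectedComponentIn (f₃ ⁻¹' {f₃ a}) (g₃ (f₃ a)) := ha''
      show W'.ι a ∈ connectedComponentIn (f ⁻¹' {f (W'.ι a)}) (g (f (W'.ι a)))
      have hpre := (isPreconnected_connectedComponentIn (F := f₃ ⁻¹' {f₃ a})
        (x := g₃ (f₃ a))).image W'.ι W'.ι.continuous.continuousOn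
      have hsub : W'.ι '' connectedComponentIn (f₃ ⁻¹' {f₃ a}) (g₃ (f₃ a)) ⊆
          f ⁻¹' {f (W'.ι a)} := by
        rintro _ ⟨b, hb, rfl⟩
        have hb' : f₃ b = f₃ a := connectedComponentIn_subset (f₃ ⁻¹' {f₃ a}) (g₃ (f₃ a)) hb
        show f (W'.ι b) = f (W'.ι a)
        rw [← hf₃, ← hf₃, hb']
      have hmem : g (f (W'.ι a)) ∈
          W'.ι '' connectedComponentIn (f₃ ⁻¹' {f₃ a}) (g₃ (f₃ a)) := by
        refine ⟨g₃ (f₃ a), mem_connectedComponentIn (hfg₃ _), ?_⟩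
        rw [hg₃p, hf₃]
      exact hpre.subset_connectedComponentIn hmem hsub ⟨a, ha', rfl⟩
    · intro ha
      have ha' : W'.ι a ∈ connectedComponentIn (f ⁻¹' {f (W'.ι a)}) (g (f (W'.ι a))) := ha
      show a ∈ connectedComponentIn (f₃ ⁻¹' {f₃ a}) (g₃ (f₃ a))
      set K : Set X := connectedComponentIn (f ⁻¹' {f (W'.ι a)}) (g (f (W'.ι a))) ∩
        (W' : Set X) with hK
      have hKpre : _root_.IsPreconnected K :=
        (isPreirreducible_inter_of_isOpen (hirrC (f (W'.ι a))) W'.2).isPreconnected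
      have hKr : K ⊆ Set.range W'.ι := by
        intro b hb
        rw [Scheme.Opens.range_ι]
        exact hb.2
      have hpre' : _root_.IsPreconnected (W'.ι ⁻¹' K) :=
        hKpre.preimage_of_isOpenMap
          W'.ι.isOpenEmbedding.injective W'.ι.isOpenEmbedding.isOpenMap hKr
      have hsub' : W'.ι ⁻¹' K ⊆ f₃ ⁻¹' {f₃ a} := by
        intro b hb
        have h1 : f (W'.ι b) = f (W'.ι a) :=
          connectedComponentIn_subset (f ⁻¹' {f (W'.ι a)}) _ hb.1
        show f₃ b = f₃ a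
        rw [← hVinj.eq_iff, hf₃, hf₃, h1]
      have hmem' : g₃ (f₃ a) ∈ W'.ι ⁻¹' K := by
        show W'.ι (g₃ (f₃ a)) ∈ K
        refine ⟨?_, ?_⟩
        · rw [hg₃p, hf₃]
          exact mem_connectedComponentIn (hfg _)
        · have : W'.ι (g₃ (f₃ a)) ∈ Set.range W'.ι := ⟨_, rfl⟩
          rwa [Scheme.Opens.range_ι] at this
      refine hpre'.subset_connectedComponentIn hmem' hsub' ⟨ha', ?_⟩
      have : W'.ι a ∈ Set.range W'.ι := ⟨_, rfl⟩
      rwa [Scheme.Opens.range_ι] at this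
  have hξW' : ξ ∈ W' := ⟨hξW, hyV⟩
  let ξ₃ : ↥(W' : Scheme.{u}) := ⟨ξ, hξW'⟩
  have hξ₃ : W'.ι ξ₃ = ξ := rfl
  have hint : ξ₃ ∈ interior (MoreMor.sectionComponents f₃ g₃) := by
    by_contra hn
    have hcl : ξ₃ ∈ closure (MoreMor.sectionComponents f₃ g₃)ᶜ := by
      rw [closure_compl]; exact hn
    have hcons : IsLocallyConstructible (MoreMor.sectionComponents f₃ g₃)ᶜ :=
      (Groth.Agent.Lib.Helper22.GI.isConstructible_sectionComponents_of_noetherianSpace
        f₃ g₃ hg₃).compl.isLocallyConstructible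
    obtain ⟨x₃, hx₃n, hx₃ξ⟩ := exists_specializes_of_mem_closure hcons hcl
    apply hx₃n
    rw [hcomp]
    apply hgen
    have := hx₃ξ.map W'.ι.continuous
    rwa [hξ₃] at this
  rw [mem_nhds_iff]
  refine ⟨W'.ι '' interior (MoreMor.sectionComponents f₃ g₃), ?_,
    W'.ι.isOpenEmbedding.isOpenMap _ isOpen_interior, ⟨ξ₃, hint, rfl⟩⟩
  rintro _ ⟨a, ha, rfl⟩
  exact (hcomp a).mp (interior_subset ha)

end Nhds

end Groth.Agent.Lib.Helper22.SC
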