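import Mathlib
import Groth.Prelude.Def_EGA43
import Groth.Prelude.Def_FDesc
import Groth.Prelude.Def_MoreMor
import Groth.Agent.Lib.Helper22SC7
import Groth.Agent.Lib.Helper6BcTrans
import Groth.Agent.Lib.Helper12GeomRed

set_option autoImplicit false
set_option linter.style.haveILetI false
universe u
open CategoryTheory CategoryTheory.Limits AlgebraicGeometry Topology TopologicalSpace IsLocalRing

namespace Groth.Agent.Lib.Helper22.SC

section GRpb

open Groth.Agent.Lib.Helper6.BcTrans Groth.Agent.Lib.Helper6.BcRed in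
/-- geometric reducedness at a point is insensitive to extension of the base field -/
theorem isGeomReducedAt_bc_iff {k : Type u} [Field k] {Z : Scheme.{u}}
    (φ : Z ⟶ Spec (CommRingCat.of k)) (K : Type u) [Field K] [Algebra k K]
    (z' : ↥(FBase.bc φ K)) :
    FBase.IsGeomReducedAt (FBase.bcStr φ K) z' ↔
      FBase.IsGeomReducedAt φ ((FBase.bcπ φ K).base z') := by
  letI : Z.Over (Spec (CommRingCat.of k)) := ⟨φ⟩
  constructor
  · intro h L _ _ y hy
    exact descend_of_bc reducedProp reduced_desc k Z K z'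
      (fun k'' _ _ x'' hx'' => h k'' x'' hx'') L y hy
  · intro h L _ _ x'' hx''
    exact ascend_to_bc reducedProp k Z K z' (fun L' _ _ y hy => h L' y hy) L x'' hx''

variable {X Y X' Y' : Scheme.{u}} {f : X ⟶ Y} {f' : X' ⟶ Y'} {g' : X' ⟶ X} {g : Y' ⟶ Y}

/-- geometric reducedness of the fibres at a point is insensitive to base change -/
theorem gRAt_iff_of_isPullback (sq : IsPullback g' f' f g) (x' : X') :
    GRAt f' x' ↔ GRAt f (g' x') := by
  set y' := f' x' with hy'
  have hfy : f (g' x') = g y' := by
    rw [hy', ← Scheme.Hom.comp_apply, ← Scheme.Hom.comp_apply, sq.w]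
  letI : Algebra (IsLocalRing.ResidueField (Y.presheaf.stalk (g y')))
      (IsLocalRing.ResidueField (Y'.presheaf.stalk y')) := (g.residueFieldMap y').hom.toAlgebra
  have sqL' : IsPullback (fiberMapY sq y') (f'.fiberToSpecResidueField y')
      (f.fiberToSpecResidueField (g y'))
      (Spec.map (CommRingCat.ofHom (algebraMap
      (IsLocalRing.ResidueField (Y.presheaf.stalk (g y')))
      (IsLocalRing.ResidueField (Y'.presheaf.stalk y'))))) := isPullback_fiberMapY sq y'
  let e := sqL'.isoPullback
  have he1 : e.hom ≫ FBase.bcπ (f.fiberToSpecResidueField (g y'))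
      (IsLocalRing.ResidueField (Y'.presheaf.stalk y')) = fiberMapY sq y' :=
    sqL'.isoPullback_hom_fst
  have he2 : e.hom ≫ FBase.bcStr (f.fiberToSpecResidueField (g y'))
      (IsLocalRing.ResidueField (Y'.presheaf.stalk y')) = f'.fiberToSpecResidueField y' :=
    sqL'.isoPullback_hom_snd
  rw [gRAt_iff f (g' x') (g y') hfy]
  show FBase.IsGeomReducedAt (f'.fiberToSpecResidueField y') (f'.asFiber x') ↔ _
  let E : f'.fiber y' ⟶ FBase.bc (f.fiberToSpecResidueField (g y'))
      (IsLocalRing.ResidueField (Y'.presheaf.stalk y')) := e.hom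
  haveI : IsIso E := (inferInstance : IsIso e.hom)
  have hE2 : E ≫ FBase.bcStr (f.fiberToSpecResidueField (g y'))
      (IsLocalRing.ResidueField (Y'.presheaf.stalk y')) = f'.fiberToSpecResidueField y' := he2
  have h1 : FBase.IsGeomReducedAt (f'.fiberToSpecResidueField y') (f'.asFiber x') ↔
      FBase.IsGeomReducedAt (E ≫ FBase.bcStr (f.fiberToSpecResidueField (g y'))
        (IsLocalRing.ResidueField (Y'.presheaf.stalk y'))) (f'.asFiber x') := by
    rw [hE2]
  have h2 := Groth.Agent.Lib.Helper12.GeomRed.isGeomReducedAt_iff_of_etale E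
    (FBase.bcStr (f.fiberToSpecResidueField (g y'))
      (IsLocalRing.ResidueField (Y'.presheaf.stalk y'))) (f'.asFiber x')
  have h3 := isGeomReducedAt_bc_iff (f.fiberToSpecResidueField (g y'))
    (IsLocalRing.ResidueField (Y'.presheaf.stalk y')) (E (f'.asFiber x'))
  have hpt : (FBase.bcπ (f.fiberToSpecResidueField (g y'))
      (IsLocalRing.ResidueField (Y'.presheaf.stalk y'))).base (E (f'.asFiber x')) =
      (f.fiberHomeo (g y')).symm ⟨g' x', hfy⟩ := by
    apply (f.fiberι (g y')).isEmbedding.injective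
    rw [Scheme.Hom.fiberι_fiberHomeo_symm]
    have e1 : e.hom ≫ FBase.bcπ (f.fiberToSpecResidueField (g y'))
        (IsLocalRing.ResidueField (Y'.presheaf.stalk y')) ≫ f.fiberι (g y') =
        f'.fiberι y' ≫ g' :=
      (Category.assoc _ _ _).symm.trans
        ((congrArg (fun m => m ≫ f.fiberι (g y')) he1).trans (fiberMapY_fiberι sq y'))
    have e2 := congrArg (fun m : f'.fiber y' ⟶ X => m (f'.asFiber x')) e1
    simp only [Scheme.Hom.comp_apply] at e2
    rw [Scheme.Hom.fiberι_asFiber] at e2
    exact e2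
  rw [hpt] at h3
  exact h1.trans (h2.trans h3)

end GRpb

end Groth.Agent.Lib.Helper22.SC
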