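import Mathlib
import Groth.Agent.Lib.Helper5LocalFlat3

/-!
# Valuative criterion of flatness, part 1 (helper22): elementwise flatness at a submonoid

`FlatAt A p M` : every element of the kernel of `M ⊗[A] J → M` is killed by an element of `p`.
This implies (and is equivalent to) flatness of `p⁻¹M` over `A`.
-/

set_option autoImplicit false
universe u

namespace Groth.Agent.Lib.Helper22.VC

open TensorProduct

section FlatAt

variable (A : Type u) {R : Type u} [CommRing A] [CommRing R] [Algebra A R]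

/-- elementwise form of "`p⁻¹ M` is flat over `A`" -/
def FlatAt (p : Submonoid R) (M : Type u) [AddCommGroup M] [Module R M] [Module A M]
    [IsScalarTower A R M] : Prop :=
  ∀ (J : Ideal A) (z : M ⊗[A] J), J.subtype.lTensor M z = 0 → ∃ c ∈ p, c • z = 0

variable {A}

theorem FlatAt.flat {p : Submonoid R} {M : Type u} [AddCommGroup M] [Module R M] [Module A M]
    [IsScalarTower A R M] (h : FlatAt A p M) : Module.Flat A (LocalizedModule p M) := by
  apply Groth.Agent.Lib.Helper5.flat_localizedModule_of_forall_exists_smul_eq_zero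
  intro J z hz
  obtain ⟨c, hc, hcz⟩ := h J z hz
  exact ⟨⟨c, hc⟩, hcz⟩

/-- trivial case: an element of `p` kills `M`. -/
theorem FlatAt.of_smul_eq_zero {p : Submonoid R} {M : Type u} [AddCommGroup M] [Module R M]
    [Module A M] [IsScalarTower A R M] (c : R) (hc : c ∈ p) (h : ∀ m : M, c • m = 0) :
    FlatAt A p M := by
  intro J z hz
  clear hz
  refine ⟨c, hc, ?_⟩
  induction z with
  | zero => simp
  | add x y hx hy => rw [smul_add, hx, hy, add_zero]
  | tmul m j => rw [TensorProduct.smul_tmul', h, TensorProduct.zero_tmul]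

/-- flat modules -/
theorem FlatAt.of_flat {p : Submonoid R} {M : Type u} [AddCommGroup M] [Module R M]
    [Module A M] [IsScalarTower A R M] [Module.Flat A M] : FlatAt A p M := by
  intro J z hz
  refine ⟨1, p.one_mem, ?_⟩
  rw [one_smul]
  have hinj := Module.Flat.lTensor_preserves_injective_linearMap (M := M) J.subtype
    Subtype.val_injective
  exact hinj (by rw [hz, map_zero])

section changeOfRings

variable {R₂ : Type u} [CommRing R₂] [Algebra R R₂] [Algebra A R₂] [IsScalarTower A R R₂]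
  {N : Type u} [AddCommGroup N] [Module R₂ N] [Module R N] [Module A N] [IsScalarTower R R₂ N]
  [IsScalarTower A R₂ N] [IsScalarTower A R N]

omit [IsScalarTower A R R₂] in
theorem algebraMap_smul_tmul (J : Ideal A) (c : R) (z : N ⊗[A] J) :
    algebraMap R R₂ c • z = c • z := by
  induction z with
  | zero => simp
  | add x y hx hy => rw [smul_add, smul_add, hx, hy]
  | tmul m j => rw [TensorProduct.smul_tmul', TensorProduct.smul_tmul', algebraMap_smul]

omit [IsScalarTower A R R₂] in
/-- pushing forward along a ring map -/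
theorem FlatAt.push {p : Submonoid R} {p₂ : Submonoid R₂} (h : FlatAt A p N)
    (hp : ∀ c ∈ p, algebraMap R R₂ c ∈ p₂) : FlatAt A p₂ N := by
  intro J z hz
  obtain ⟨c, hc, hcz⟩ := h J z hz
  exact ⟨algebraMap R R₂ c, hp c hc, by rw [algebraMap_smul_tmul]; exact hcz⟩

omit [IsScalarTower A R R₂] in
/-- pulling back along a surjective ring map -/
theorem FlatAt.pull_of_surjective {p : Submonoid R} {p₂ : Submonoid R₂} (h : FlatAt A p₂ N)
    (hsurj : Function.Surjective (algebraMap R R₂))
    (hp : ∀ c, algebraMap R R₂ c ∈ p₂ → c ∈ p) : FlatAt A p N := by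
  intro J z hz
  obtain ⟨c₂, hc₂, hcz⟩ := h J z hz
  obtain ⟨c, rfl⟩ := hsurj c₂
  exact ⟨c, hp c hc₂, by rw [← algebraMap_smul_tmul (R₂ := R₂)]; exact hcz⟩

end changeOfRings

section flatDescent

variable {R₂ : Type u} [CommRing R₂] [Algebra R R₂] [Algebra A R₂] [IsScalarTower A R R₂]
  [Module.Flat R R₂] (𝔯₂ : Ideal R₂) [𝔯₂.IsPrime]
  (N : Type u) [AddCommGroup N] [Module R N] [Module A N] [IsScalarTower A R N]

/-- descent of flatness along a flat ring map (at a prime). -/
theorem FlatAt.of_flat_baseChange (h : FlatAt A 𝔯₂.primeCompl (R₂ ⊗[R] N)) :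
    FlatAt A (𝔯₂.comap (algebraMap R R₂)).primeCompl N := by
  intro J z hz
  -- the map `N ⊗ J → (R₂ ⊗ N) ⊗ J`
  let g₀ : N →ₗ[A] R₂ ⊗[R] N := (TensorProduct.mk R R₂ N 1).restrictScalars A
  let g : N ⊗[A] J →ₗ[A] (R₂ ⊗[R] N) ⊗[A] J := g₀.rTensor J
  have hg : ∀ z : N ⊗[A] J,
      J.subtype.lTensor (R₂ ⊗[R] N) (g z) = g₀.rTensor A (J.subtype.lTensor N z) := by
    intro z
    induction z with
    | zero => simp
    | add x y hx hy => simp only [map_add, hx, hy]
    | tmul m j => simp [g, g₀]
  obtain ⟨c₂, hc₂, hcz⟩ := h J (g z) (by rw [hg z, hz, map_zero])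
  let Ψ := TensorProduct.AlgebraTensorModule.assoc A R R₂ R₂ N J
  have hΨ : ∀ z : N ⊗[A] J, Ψ (g z) = (1 : R₂) ⊗ₜ[R] z := by
    intro z
    induction z with
    | zero => simp
    | add x y hx hy => simp only [map_add, hx, hy, TensorProduct.tmul_add]
    | tmul m j => simp [Ψ, g, g₀]
  -- the map `r ↦ r • z`
  let fz : R →ₗ[R] N ⊗[A] J := LinearMap.toSpanSingleton R _ z
  have hker : (c₂ ⊗ₜ[R] (1 : R) : R₂ ⊗[R] R) ∈ LinearMap.ker (fz.lTensor R₂) := by
    rw [LinearMap.mem_ker, LinearMap.lTensor_tmul]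
    have : fz 1 = z := by simp [fz]
    rw [this]
    have h2 : Ψ (c₂ • g z) = c₂ ⊗ₜ[R] z := by
      rw [map_smul, hΨ z, TensorProduct.smul_tmul', smul_eq_mul, mul_one]
    rw [← h2, hcz, map_zero]
  have hex := Module.Flat.lTensor_exact R₂ (LinearMap.exact_subtype_ker_map fz)
  obtain ⟨ζ, hζ⟩ := (hex (c₂ ⊗ₜ[R] (1 : R))).mp hker
  by_contra hcon
  push Not at hcon
  have hle : LinearMap.ker fz ≤ (𝔯₂.comap (algebraMap R R₂)).restrictScalars R := by
    intro c hc
    by_contra hc'
    exact hcon c hc' (by simpa [fz] using hc)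
  -- `c₂ ∈ 𝔯₂`
  have key : ∀ ζ : R₂ ⊗[R] LinearMap.ker fz,
      (TensorProduct.rid R R₂) ((LinearMap.ker fz).subtype.lTensor R₂ ζ) ∈ 𝔯₂ := by
    intro ζ
    induction ζ with
    | zero => simp
    | add x y hx hy => simp only [map_add]; exact 𝔯₂.add_mem hx hy
    | tmul b a =>
      simp only [LinearMap.lTensor_tmul, Submodule.subtype_apply, TensorProduct.rid_tmul]
      rw [Algebra.smul_def, mul_comm]
      exact 𝔯₂.mul_mem_left _ (hle a.2)
  have := key ζ
  rw [hζ, TensorProduct.rid_tmul, one_smul] at this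
  exact hc₂ this

end flatDescent

end FlatAt

end Groth.Agent.Lib.Helper22.VC
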