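import Mathlib

/-!
# Valuative criterion of flatness, part 2 (helper22): elementwise torsion-freeness at a prime

`TFAt A' 𝔮 M` : for `M` a module over an `A'`-algebra `R'` and `𝔮` an ideal of `R'`, every element
of `M` killed by a nonzero element of `A'` is killed by an element of `R' ∖ 𝔮`.
-/

set_option autoImplicit false
universe u

namespace Groth.Agent.Lib.Helper22.VC

open TensorProduct

section TFAt

variable (A' : Type u) {R' : Type u} [CommRing A'] [CommRing R'] [Algebra A' R']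

/-- elementwise form of "`M_𝔮` is torsion-free over `A'`" -/
def TFAt (𝔮 : Ideal R') (M : Type u) [AddCommGroup M] [Module R' M] : Prop :=
  ∀ a : A', a ≠ 0 → ∀ z : M, algebraMap A' R' a • z = 0 → ∃ s, s ∉ 𝔮 ∧ s • z = 0

variable {A'}

/-- it suffices to treat a uniformizer -/
theorem TFAt.of_irreducible [IsDomain A'] [IsDiscreteValuationRing A'] {𝔮 : Ideal R'} [𝔮.IsPrime]
    {M : Type u} [AddCommGroup M] [Module R' M] (π : A') (hπ : Irreducible π)
    (h : ∀ z : M, algebraMap A' R' π • z = 0 → ∃ s, s ∉ 𝔮 ∧ s • z = 0) : TFAt A' 𝔮 M := by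
  have key : ∀ n : ℕ, ∀ z : M, algebraMap A' R' (π ^ n) • z = 0 → ∃ s, s ∉ 𝔮 ∧ s • z = 0 := by
    intro n
    induction n with
    | zero =>
      intro z hz
      refine ⟨1, fun h1 => ?_, ?_⟩
      · exact (Ideal.IsPrime.ne_top inferInstance) ((Ideal.eq_top_iff_one 𝔮).mpr h1)
      · simpa using hz
    | succ n ih =>
      intro z hz
      have h1 : algebraMap A' R' π • (algebraMap A' R' (π ^ n) • z) = 0 := by
        rw [smul_smul, ← map_mul, ← pow_succ']
        exact hz
      obtain ⟨s, hs, hsz⟩ := h _ h1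
      have h2 : algebraMap A' R' (π ^ n) • (s • z) = 0 := by
        rw [smul_comm]; exact hsz
      obtain ⟨s', hs', hsz'⟩ := ih _ h2
      refine ⟨s' * s, fun hmem => ?_, by rw [mul_smul]; exact hsz'⟩
      rcases Ideal.IsPrime.mem_or_mem inferInstance hmem with h3 | h3
      · exact hs' h3
      · exact hs h3
  intro a ha z hz
  obtain ⟨n, u, rfl⟩ := IsDiscreteValuationRing.eq_unit_mul_pow_irreducible ha hπ
  apply key n z
  have hu : IsUnit (algebraMap A' R' (u : A')) := u.isUnit.map _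
  rw [map_mul, mul_smul] at hz
  obtain ⟨v, hv⟩ := hu.exists_left_inv
  have := congrArg (fun w => v • w) hz
  simp only [smul_zero] at this
  rw [← mul_smul, hv, one_smul] at this
  exact this

/-- transfer along an injective semilinear map -/
theorem TFAt.of_injective {𝔮 : Ideal R'} {M₁ M₂ : Type u} [AddCommGroup M₁] [Module R' M₁]
    [AddCommGroup M₂] [Module R' M₂] (θ : M₁ →ₗ[R'] M₂) (hθ : Function.Injective θ)
    (h : TFAt A' 𝔮 M₂) : TFAt A' 𝔮 M₁ := by
  intro a ha z hz
  obtain ⟨s, hs, hsz⟩ := h a ha (θ z) (by rw [← map_smul, hz, map_zero])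
  exact ⟨s, hs, hθ (by rw [map_smul, hsz, map_zero])⟩

section flat

variable {R₂' : Type u} [CommRing R₂'] [Algebra R' R₂'] [Algebra A' R₂'] [IsScalarTower A' R' R₂']
  [Module.Flat R' R₂'] (𝔮₂ : Ideal R₂') [𝔮₂.IsPrime]
  (M : Type u) [AddCommGroup M] [Module R' M]

/-- flat base change preserves torsion-freeness at a prime -/
theorem TFAt.baseChange_of_flat (h : TFAt A' (𝔮₂.comap (algebraMap R' R₂')) M) :
    TFAt A' 𝔮₂ (R₂' ⊗[R'] M) := by
  intro a ha z hz
  let f : M →ₗ[R'] M := LinearMap.lsmul R' M (algebraMap A' R' a)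
  have hf : ∀ z : R₂' ⊗[R'] M, f.lTensor R₂' z = algebraMap A' R₂' a • z := by
    intro z
    induction z with
    | zero => simp
    | add x y hx hy => simp only [map_add, smul_add, hx, hy]
    | tmul b m =>
      simp only [f, LinearMap.lTensor_tmul, LinearMap.lsmul_apply]
      rw [← TensorProduct.smul_tmul, TensorProduct.smul_tmul', IsScalarTower.algebraMap_apply A' R' R₂',
        Algebra.smul_def, smul_eq_mul]
  have hex := Module.Flat.lTensor_exact R₂' (LinearMap.exact_subtype_ker_map f)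
  obtain ⟨ζ, hζ⟩ := (hex z).mp (by rw [hf]; exact hz)
  have key : ∀ ζ : R₂' ⊗[R'] LinearMap.ker f, ∃ s, s ∉ 𝔮₂.comap (algebraMap R' R₂') ∧
      algebraMap R' R₂' s • ((LinearMap.ker f).subtype.lTensor R₂' ζ) = 0 := by
    intro ζ
    induction ζ with
    | zero =>
      refine ⟨1, fun h1 => ?_, by simp⟩
      exact (Ideal.IsPrime.ne_top inferInstance) ((Ideal.eq_top_iff_one _).mpr h1)
    | add x y hx hy =>
      obtain ⟨s₁, hs₁, h₁⟩ := hx
      obtain ⟨s₂, hs₂, h₂⟩ := hy
      refine ⟨s₁ * s₂, fun hmem => ?_, ?_⟩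
      · rcases Ideal.IsPrime.mem_or_mem inferInstance hmem with h3 | h3
        · exact hs₁ h3
        · exact hs₂ h3
      · rw [map_add, smul_add, map_mul, mul_smul, mul_smul, h₂, smul_zero, smul_comm, h₁,
          smul_zero, add_zero]
    | tmul b κ =>
      have hκ : algebraMap A' R' a • (κ : M) = 0 := by
        have := κ.2
        rw [LinearMap.mem_ker] at this
        exact this
      obtain ⟨s, hs, hsκ⟩ := h a ha (κ : M) hκ
      refine ⟨s, hs, ?_⟩
      rw [LinearMap.lTensor_tmul, Submodule.subtype_apply, TensorProduct.smul_tmul', smul_eq_mul,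
        ← Algebra.smul_def, TensorProduct.smul_tmul, hsκ, TensorProduct.tmul_zero]
  obtain ⟨s, hs, hsz⟩ := key ζ
  exact ⟨algebraMap R' R₂' s, hs, by rw [← hζ]; exact hsz⟩

end flat

section integral

variable {R₂' : Type u} [CommRing R₂'] [Algebra R' R₂'] [Algebra A' R₂'] [IsScalarTower A' R' R₂']
  [Algebra.IsIntegral R' R₂'] (𝔮 : Ideal R') [𝔮.IsPrime]
  {M₁ M₂ : Type u} [AddCommGroup M₁] [Module R' M₁] [AddCommGroup M₂] [Module R₂' M₂]

/-- descent of torsion-freeness along an integral ring map: it suffices to check all primes above -/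
theorem TFAt.of_integral (θ : M₁ →+ M₂) (hθ : Function.Injective θ)
    (hθs : ∀ (s : R') (z : M₁), θ (s • z) = algebraMap R' R₂' s • θ z)
    (h : ∀ 𝔮₂ : Ideal R₂', 𝔮₂.IsPrime → 𝔮₂.comap (algebraMap R' R₂') = 𝔮 → TFAt A' 𝔮₂ M₂) :
    TFAt A' 𝔮 M₁ := by
  intro a ha z hz
  by_contra hcon
  push Not at hcon
  let I : Ideal R₂' := Ideal.torsionOf R₂' M₂ (θ z)
  have hI : I.comap (algebraMap R' R₂') ≤ 𝔮 := by
    intro s hs
    by_contra hs'
    apply hcon s hs'
    apply hθ
    rw [hθs, map_zero]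
    exact (Ideal.mem_torsionOf_iff _ _).mp hs
  obtain ⟨Q, hIQ, hQ, hQ𝔮⟩ := Ideal.exists_ideal_over_prime_of_isIntegral 𝔮 I hI
  have haz : algebraMap A' R₂' a • θ z = 0 := by
    rw [IsScalarTower.algebraMap_apply A' R' R₂', ← hθs, hz, map_zero]
  obtain ⟨s₂, hs₂, hsz₂⟩ := h Q hQ hQ𝔮 a ha (θ z) haz
  exact hs₂ (hIQ ((Ideal.mem_torsionOf_iff _ _).mpr hsz₂))

end integral

end TFAt

end Groth.Agent.Lib.Helper22.VC
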