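import Mathlib
import Groth.Agent.Lib.Helper22VC2

/-!
# Valuative criterion of flatness, part 3 (helper22): the DVR test and its transfers
-/

set_option autoImplicit false
set_option linter.style.haveILetI false
set_option linter.unusedSectionVars false
universe u

namespace Groth.Agent.Lib.Helper22.VC

open TensorProduct IsLocalRing

attribute [local instance] Algebra.TensorProduct.rightAlgebra

section Test

variable (A : Type u) [CommRing A] [IsLocalRing A]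

/-- The DVR test for a module `N` over an `A`-algebra `R` at an ideal `𝔯`: for every DVR `A'` with a
local homomorphism `A → A'`, every pushout `R'` of `A'` and `R` over `A` and every prime `𝔮` of `R'`
over `𝔯` and over the maximal ideal of `A'`, the `R'`-module `R' ⊗[R] N` is `A'`-torsion-free at `𝔮`. -/
def Test {R : Type u} [CommRing R] [Algebra A R] (𝔯 : Ideal R) (N : Type u) [AddCommGroup N]
    [Module R N] : Prop :=
  ∀ (A' : Type u) [CommRing A'] [IsDomain A'] [IsDiscreteValuationRing A'] [Algebra A A']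
    [IsLocalHom (algebraMap A A')] (R' : Type u) [CommRing R'] [Algebra A' R'] [Algebra R R']
    [Algebra A R'] [IsScalarTower A A' R'] [IsScalarTower A R R'] [Algebra.IsPushout A A' R R']
    (𝔮 : Ideal R') [𝔮.IsPrime], 𝔮.comap (algebraMap R R') = 𝔯 →
    (maximalIdeal A').map (algebraMap A' R') ≤ 𝔮 → TFAt A' 𝔮 (R' ⊗[R] N)

variable {A}

section pushoutModel

variable {A' R R' R₂ : Type u} [CommRing A'] [CommRing R] [CommRing R'] [CommRing R₂]
  [Algebra A A'] [Algebra A R] [Algebra A' R'] [Algebra R R'] [Algebra A R'] [IsScalarTower A A' R']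
  [IsScalarTower A R R'] [Algebra A R₂] [Algebra R R₂] [IsScalarTower A R R₂]

instance isScalarTower_tensor_right : IsScalarTower A R₂ (R' ⊗[R] R₂) := by
  refine IsScalarTower.of_algebraMap_eq fun a => ?_
  rw [Algebra.TensorProduct.algebraMap_apply, Algebra.TensorProduct.right_algebraMap_apply,
    IsScalarTower.algebraMap_apply A R R', IsScalarTower.algebraMap_apply A R R₂,
    Algebra.algebraMap_eq_smul_one (algebraMap A R a), Algebra.algebraMap_eq_smul_one (A := R₂) (algebraMap A R a),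
    TensorProduct.smul_tmul]

/-- `R' ⊗[R] R₂` is a pushout model for `R₂` if `R'` is one for `R`. -/
theorem isPushout_tensor [Algebra.IsPushout A A' R R'] :
    Algebra.IsPushout A A' R₂ (R' ⊗[R] R₂) := by
  haveI : Algebra.IsPushout A R A' R' := Algebra.IsPushout.symm inferInstance
  have h1 : Algebra.IsPushout R R₂ R' (R' ⊗[R] R₂) := inferInstance
  exact ((Algebra.IsPushout.comp_iff A R A' R' (T := R₂) (T' := R' ⊗[R] R₂)).mpr h1).symm

end pushoutModel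

section integral

variable {R R₂ : Type u} [CommRing R] [CommRing R₂] [Algebra A R] [Algebra A R₂] [Algebra R R₂]
  [IsScalarTower A R R₂] [Algebra.IsIntegral R R₂] (𝔯 : Ideal R) (𝔯₂ : Ideal R₂)
  (N : Type u) [AddCommGroup N] [Module R₂ N] [Module R N] [IsScalarTower R R₂ N]

/-- The test descends along an integral ring map, when there is at most one prime above. -/
theorem Test.of_integral
    (huniq : ∀ 𝔵 : Ideal R₂, 𝔵.IsPrime → 𝔵.comap (algebraMap R R₂) = 𝔯 → 𝔵 = 𝔯₂)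
    (h : Test A 𝔯₂ N) : Test A 𝔯 N := by
  intro A' _ _ _ _ _ R' _ _ _ _ _ _ _ 𝔮 _ h1 h2
  have hpo : Algebra.IsPushout A A' R₂ (R' ⊗[R] R₂) := isPushout_tensor
  haveI : Algebra.IsIntegral R' (R' ⊗[R] R₂) := Algebra.IsPushout.isIntegral (R := R) (S := R₂) (A := R') (SA := R' ⊗[R] R₂)
  let e := Algebra.IsPushout.cancelBaseChange R R' R₂ (R' ⊗[R] R₂) N
  refine TFAt.of_integral (R₂' := R' ⊗[R] R₂) 𝔮 (M₂ := (R' ⊗[R] R₂) ⊗[R₂] N)
    (e.symm : R' ⊗[R] N →+ (R' ⊗[R] R₂) ⊗[R₂] N) e.symm.injective ?_ ?_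
  · intro s z
    change e.symm (s • z) = _
    rw [map_smul, algebraMap_smul]
    rfl
  · intro 𝔮₂ h𝔮₂ hcomap
    haveI := h𝔮₂
    refine h A' (R' ⊗[R] R₂) 𝔮₂ ?_ ?_
    · apply huniq _ (Ideal.comap_isPrime _ _)
      rw [Ideal.comap_comap, ← IsScalarTower.algebraMap_eq, IsScalarTower.algebraMap_eq R R' (R' ⊗[R] R₂),
        ← Ideal.comap_comap, hcomap, h1]
    · rw [IsScalarTower.algebraMap_eq A' R' (R' ⊗[R] R₂), ← Ideal.map_map]
      rw [Ideal.map_le_iff_le_comap, hcomap]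
      exact h2

end integral

section model

variable {A' R R'₁ R'₂ : Type u} [CommRing A'] [CommRing R] [CommRing R'₁] [CommRing R'₂]
  [Algebra A A'] [Algebra A R]
  [Algebra A' R'₁] [Algebra R R'₁] [Algebra A R'₁] [IsScalarTower A A' R'₁] [IsScalarTower A R R'₁]
  [Algebra A' R'₂] [Algebra R R'₂] [Algebra A R'₂] [IsScalarTower A A' R'₂] [IsScalarTower A R R'₂]

/-- independence of the pushout model -/
theorem TFAt.of_model [Algebra.IsPushout A A' R R'₁] [Algebra.IsPushout A A' R R'₂]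
    (N : Type u) [AddCommGroup N] [Module R N] (𝔮₂ : Ideal R'₂) [𝔮₂.IsPrime]
    (h : ∀ 𝔮₁ : Ideal R'₁, 𝔮₁.IsPrime →
      𝔮₁.comap (algebraMap R R'₁) = 𝔮₂.comap (algebraMap R R'₂) →
      𝔮₁.comap (algebraMap A' R'₁) = 𝔮₂.comap (algebraMap A' R'₂) → TFAt A' 𝔮₁ (R'₁ ⊗[R] N)) :
    TFAt A' 𝔮₂ (R'₂ ⊗[R] N) := by
  -- the canonical isomorphism `R'₂ ≃ R'₁`
  let e : R'₂ ≃ₐ[A'] R'₁ :=
    (Algebra.IsPushout.equiv A A' R R'₂).symm.trans (Algebra.IsPushout.equiv A A' R R'₁)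
  have heR : ∀ r : R, e (algebraMap R R'₂ r) = algebraMap R R'₁ r := by
    intro r
    simp only [e, AlgEquiv.trans_apply]
    rw [Algebra.IsPushout.equiv_symm_algebraMap_right, Algebra.IsPushout.equiv_tmul, map_one,
      one_mul]
  letI : Algebra R'₂ R'₁ := e.toRingEquiv.toRingHom.toAlgebra
  have hmap : ∀ x : R'₂, algebraMap R'₂ R'₁ x = e x := fun _ => rfl
  haveI : IsScalarTower A' R'₂ R'₁ := IsScalarTower.of_algebraMap_eq fun a => by
    rw [hmap, AlgEquiv.commutes]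
  haveI : IsScalarTower R R'₂ R'₁ := IsScalarTower.of_algebraMap_eq fun r => by
    rw [hmap, heR]
  haveI : Algebra.IsIntegral R'₂ R'₁ :=
    Algebra.IsIntegral.of_surjective (f := (IsScalarTower.toAlgHom R'₂ R'₂ R'₁)) e.surjective
  let eR : R'₂ ≃ₗ[R] R'₁ := AddEquiv.toLinearEquiv e.toRingEquiv.toAddEquiv (fun c x => by
    change e (c • x) = c • e x
    rw [Algebra.smul_def, map_mul, heR, ← Algebra.smul_def])
  let θ : R'₂ ⊗[R] N ≃ₗ[R] R'₁ ⊗[R] N := TensorProduct.congr eR (LinearEquiv.refl R N)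
  have hθ : ∀ (x : R'₂) (n : N), θ (x ⊗ₜ n) = e x ⊗ₜ n := fun x n => rfl
  have hsemi : ∀ (s : R'₂) (z : R'₂ ⊗[R] N), θ (s • z) = algebraMap R'₂ R'₁ s • θ z := by
    intro s z
    induction z with
    | zero => simp
    | add x y hx hy => simp only [smul_add, map_add, hx, hy]
    | tmul x n =>
      rw [TensorProduct.smul_tmul', hθ, hθ, TensorProduct.smul_tmul', smul_eq_mul, map_mul,
        smul_eq_mul, hmap]
  refine TFAt.of_integral (R₂' := R'₁) 𝔮₂ (M₂ := R'₁ ⊗[R] N) (θ : R'₂ ⊗[R] N →+ R'₁ ⊗[R] N)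
    θ.injective hsemi ?_
  · intro 𝔮₁ h𝔮₁ hcomap
    refine h 𝔮₁ h𝔮₁ ?_ ?_
    · rw [← hcomap, Ideal.comap_comap, ← IsScalarTower.algebraMap_eq]
    · rw [← hcomap, Ideal.comap_comap, ← IsScalarTower.algebraMap_eq]

end model

section flat

variable {R R₂ : Type u} [CommRing R] [CommRing R₂] [Algebra A R] [Algebra A R₂] [Algebra R R₂]
  [IsScalarTower A R R₂] [Module.Flat R R₂] (𝔯₂ : Ideal R₂) [𝔯₂.IsPrime]
  (N : Type u) [AddCommGroup N] [Module R N]

/-- The test ascends along a flat ring map. -/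
theorem Test.baseChange_of_flat (h : Test A (𝔯₂.comap (algebraMap R R₂)) N) :
    Test A 𝔯₂ (R₂ ⊗[R] N) := by
  intro A' _ _ _ _ _ R₂' _ _ _ _ _ _ _ 𝔮₂ _ h1 h2
  haveI : Algebra.IsPushout A A' R₂ ((A' ⊗[A] R) ⊗[R] R₂) := isPushout_tensor
  refine TFAt.of_model (A := A) (R'₁ := (A' ⊗[A] R) ⊗[R] R₂) (R₂ ⊗[R] N) 𝔮₂ ?_
  intro 𝔮₁ h𝔮₁ hc1 hc2
  haveI := h𝔮₁
  have hT : TFAt A' (𝔮₁.comap (algebraMap (A' ⊗[A] R) ((A' ⊗[A] R) ⊗[R] R₂)))
      ((A' ⊗[A] R) ⊗[R] N) := by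
    refine h A' (A' ⊗[A] R) _ ?_ ?_
    · rw [Ideal.comap_comap, ← IsScalarTower.algebraMap_eq,
        IsScalarTower.algebraMap_eq R R₂ ((A' ⊗[A] R) ⊗[R] R₂), ← Ideal.comap_comap, hc1, h1]
    · rw [Ideal.map_le_iff_le_comap, Ideal.comap_comap, ← IsScalarTower.algebraMap_eq, hc2,
        ← Ideal.map_le_iff_le_comap]
      exact h2
  have hG := TFAt.baseChange_of_flat 𝔮₁ ((A' ⊗[A] R) ⊗[R] N) hT
  let Φ : ((A' ⊗[A] R) ⊗[R] R₂) ⊗[R₂] (R₂ ⊗[R] N) ≃ₗ[(A' ⊗[A] R) ⊗[R] R₂]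
      ((A' ⊗[A] R) ⊗[R] R₂) ⊗[A' ⊗[A] R] ((A' ⊗[A] R) ⊗[R] N) :=
    (TensorProduct.AlgebraTensorModule.cancelBaseChange R R₂ ((A' ⊗[A] R) ⊗[R] R₂)
      ((A' ⊗[A] R) ⊗[R] R₂) N) ≪≫ₗ
    (TensorProduct.AlgebraTensorModule.cancelBaseChange R (A' ⊗[A] R) ((A' ⊗[A] R) ⊗[R] R₂)
      ((A' ⊗[A] R) ⊗[R] R₂) N).symm
  exact TFAt.of_injective Φ.toLinearMap Φ.injective hG

end flat

end Test

end Groth.Agent.Lib.Helper22.VC
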