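import Mathlib
import Groth.Agent.Lib.Helper22VC3

/-!
# Valuative criterion of flatness, part 4 (helper22): fibrewise kernel inclusions survive base change
-/

set_option autoImplicit false
set_option linter.style.haveILetI false
set_option linter.unusedSectionVars false
universe u

namespace Groth.Agent.Lib.Helper22.VC

open TensorProduct IsLocalRing

section general

variable {R : Type u} [CommRing R] (I : Ideal R) {M : Type u} [AddCommGroup M] [Module R M]

theorem one_tmul_eq_zero_iff (y : M) : (1 : R ⧸ I) ⊗ₜ[R] y = 0 ↔ y ∈ (I • ⊤ : Submodule R M) := by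
  rw [← (TensorProduct.quotTensorEquivQuotSMul M I).map_eq_zero_iff,
    TensorProduct.quotTensorEquivQuotSMul_mk_one_tmul, Submodule.Quotient.mk_eq_zero]

end general

section fibreBC

variable {A A' : Type u} [CommRing A] [IsLocalRing A] [CommRing A'] [IsLocalRing A'] [Algebra A A']
  [IsLocalHom (algebraMap A A')]
variable {X Y : Type u} [AddCommGroup X] [Module A X] [AddCommGroup Y] [Module A Y]

/-- the residue map of `A'` as an `A`-linear map -/
noncomputable def resLin (A A' : Type u) [CommRing A] [CommRing A'] [IsLocalRing A'] [Algebra A A'] :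
    A' →ₗ[A] ResidueField A' :=
  (IsScalarTower.toAlgHom A A' (ResidueField A')).toLinearMap

theorem resLin_rTensor_eq_zero_iff (x' : A' ⊗[A] X) :
    (resLin A A').rTensor X x' = 0 ↔ x' ∈ (maximalIdeal A' • ⊤ : Submodule A' (A' ⊗[A] X)) := by
  rw [← one_tmul_eq_zero_iff]
  let e := TensorProduct.AlgebraTensorModule.cancelBaseChange A A' (ResidueField A')
    (ResidueField A') X
  have he : ∀ x' : A' ⊗[A] X, e ((1 : ResidueField A') ⊗ₜ[A'] x') = (resLin A A').rTensor X x' := by
    intro x'
    induction x' with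
    | zero => simp
    | add x y hx hy => simp only [TensorProduct.tmul_add, map_add, hx, hy]
    | tmul a x =>
      simp only [e, TensorProduct.AlgebraTensorModule.cancelBaseChange_tmul, LinearMap.rTensor_tmul,
        resLin]
      rw [Algebra.smul_def, mul_one]
      rfl
  rw [← he, LinearEquiv.map_eq_zero_iff]
  rfl

local notation "κ" => ResidueField A
local notation "k'" => ResidueField A'

theorem lTensor_residue_ker_le (u : X →ₗ[A] Y) (τ : X →ₗ[A] X)
    (h : ∀ x, u x ∈ (maximalIdeal A • ⊤ : Submodule A Y) →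
      τ x ∈ (maximalIdeal A • ⊤ : Submodule A X))
    (ξ : ResidueField A' ⊗[A] X) (hξ : u.lTensor (ResidueField A') ξ = 0) :
    τ.lTensor (ResidueField A') ξ = 0 := by
  let ub : κ ⊗[A] X →ₗ[κ] κ ⊗[A] Y := u.baseChange κ
  let tb : κ ⊗[A] X →ₗ[κ] κ ⊗[A] X := τ.baseChange κ
  have hker : ∀ ζ : κ ⊗[A] X, ub ζ = 0 → tb ζ = 0 := by
    intro ζ hζ
    obtain ⟨x, rfl⟩ := TensorProduct.mk_surjective A X κ Ideal.Quotient.mk_surjective ζ
    simp only [ub, tb, TensorProduct.mk_apply, LinearMap.baseChange_tmul] at hζ ⊢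
    exact (one_tmul_eq_zero_iff (maximalIdeal A) _).mpr (h x ((one_tmul_eq_zero_iff (maximalIdeal A) _).mp hζ))
  let eX := TensorProduct.AlgebraTensorModule.cancelBaseChange A κ k' k' X
  let eY := TensorProduct.AlgebraTensorModule.cancelBaseChange A κ k' k' Y
  have hnatu : ∀ ζ : k' ⊗[κ] (κ ⊗[A] X), u.lTensor k' (eX ζ) = eY (ub.lTensor k' ζ) := by
    intro ζ
    induction ζ with
    | zero => simp
    | add x y hx hy => simp only [map_add, hx, hy]
    | tmul c ζ =>
      induction ζ with
      | zero => simp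
      | add x y hx hy => simp only [TensorProduct.tmul_add, map_add, hx, hy]
      | tmul d x => simp [eX, eY, ub]
  have hnatτ : ∀ ζ : k' ⊗[κ] (κ ⊗[A] X), τ.lTensor k' (eX ζ) = eX (tb.lTensor k' ζ) := by
    intro ζ
    induction ζ with
    | zero => simp
    | add x y hx hy => simp only [map_add, hx, hy]
    | tmul c ζ =>
      induction ζ with
      | zero => simp
      | add x y hx hy => simp only [TensorProduct.tmul_add, map_add, hx, hy]
      | tmul d x => simp [eX, tb]
  obtain ⟨ζ, rfl⟩ := eX.surjective ξ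
  rw [hnatu, LinearEquiv.map_eq_zero_iff] at hξ
  rw [hnatτ, LinearEquiv.map_eq_zero_iff]
  have hex := Module.Flat.lTensor_exact (R := κ) k' (N := ↥(LinearMap.ker ub)) (N' := κ ⊗[A] X)
    (N'' := κ ⊗[A] Y) (f := (LinearMap.ker ub).subtype) (g := ub)
    (LinearMap.exact_subtype_ker_map ub)
  obtain ⟨ω, rfl⟩ := (hex ζ).mp hξ
  rw [← LinearMap.comp_apply, ← LinearMap.lTensor_comp]
  have hzero : tb ∘ₗ (LinearMap.ker ub).subtype = 0 := by
    ext ⟨ζ, hζ⟩
    exact hker ζ hζ
  rw [hzero, LinearMap.lTensor_zero, LinearMap.zero_apply]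

/-- **Fibrewise kernel inclusions survive base change.** -/
theorem fibre_ker_baseChange (u : X →ₗ[A] Y) (τ : X →ₗ[A] X)
    (h : ∀ x, u x ∈ (maximalIdeal A • ⊤ : Submodule A Y) →
      τ x ∈ (maximalIdeal A • ⊤ : Submodule A X))
    (x' : A' ⊗[A] X)
    (hx' : u.lTensor A' x' ∈ (maximalIdeal A' • ⊤ : Submodule A' (A' ⊗[A] Y))) :
    τ.lTensor A' x' ∈ (maximalIdeal A' • ⊤ : Submodule A' (A' ⊗[A] X)) := by
  rw [← resLin_rTensor_eq_zero_iff] at hx' ⊢
  have h1 : ∀ (v : X →ₗ[A] Y) (x' : A' ⊗[A] X),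
      (resLin A A').rTensor Y (v.lTensor A' x') = v.lTensor (ResidueField A') ((resLin A A').rTensor X x') := by
    intro v x'
    rw [← LinearMap.comp_apply, ← LinearMap.comp_apply, LinearMap.rTensor_comp_lTensor,
      LinearMap.lTensor_comp_rTensor]
  have h2 : ∀ (v : X →ₗ[A] X) (x' : A' ⊗[A] X),
      (resLin A A').rTensor X (v.lTensor A' x') = v.lTensor (ResidueField A') ((resLin A A').rTensor X x') := by
    intro v x'
    rw [← LinearMap.comp_apply, ← LinearMap.comp_apply, LinearMap.rTensor_comp_lTensor,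
      LinearMap.lTensor_comp_rTensor]
  rw [h1] at hx'
  rw [h2]
  exact lTensor_residue_ker_le u τ h _ hx'

end fibreBC

end Groth.Agent.Lib.Helper22.VC
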