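import Mathlib
import Groth.Agent.Lib.Helper22VC1
import Groth.Agent.Lib.Helper22VC4

/-!
# Valuative criterion of flatness, part 5 (helper22): the cokernel step (one generator)
-/

set_option autoImplicit false
set_option linter.style.haveILetI false
set_option linter.unusedSectionVars false
universe u

namespace Groth.Agent.Lib.Helper22.VC

open TensorProduct IsLocalRing

attribute [local instance] Algebra.TensorProduct.rightAlgebra

section cokerStep

variable {A : Type u} [CommRing A] [IsLocalRing A]
  {P' : Type u} [CommRing P'] [Algebra A P']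
  {N'' : Type u} [AddCommGroup N''] [Module P' N''] [Module A N''] [IsScalarTower A P' N'']
  (ν : N'') (t₀ : P')

/-- the fibre hypothesis: `ν` is torsion-free in the fibre up to `t₀`. -/
def FibreInj : Prop :=
  ∀ y : P', y • ν ∈ (maximalIdeal A • ⊤ : Submodule A N'') →
    t₀ * y ∈ (maximalIdeal A • ⊤ : Submodule A P')

section model

variable {A' : Type u} [CommRing A'] [IsDomain A'] [IsDiscreteValuationRing A'] [Algebra A A']
  [IsLocalHom (algebraMap A A')] {R' : Type u} [CommRing R'] [Algebra A' R'] [Algebra P' R']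
  [Algebra A R'] [IsScalarTower A A' R'] [IsScalarTower A P' R'] [Algebra.IsPushout A A' P' R']

variable {ν t₀}

/-- the fibre hypothesis after base change to a DVR -/
theorem FibreInj.baseChange (H : FibreInj (A := A) ν t₀) (π : A')
    (hπ : maximalIdeal A' = Ideal.span {π}) (w : R')
    (hw : ∃ z' : R' ⊗[P'] N'', w • ((1 : R') ⊗ₜ[P'] ν) = algebraMap A' R' π • z') :
    ∃ w₁ : R', algebraMap P' R' t₀ * w = algebraMap A' R' π * w₁ := by
  let e := Algebra.IsPushout.equiv A A' P' R'
  let ψ := Algebra.IsPushout.cancelBaseChange A A' P' R' N''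
  let u : P' →ₗ[A] N'' := (LinearMap.toSpanSingleton P' N'' ν).restrictScalars A
  let τ : P' →ₗ[A] P' := LinearMap.mulLeft A t₀
  have hψ : ∀ x' : A' ⊗[A] P', ψ (e x' • ((1 : R') ⊗ₜ[P'] ν)) = u.lTensor A' x' := by
    intro x'
    induction x' with
    | zero => simp
    | add x y hx hy => simp only [map_add, add_smul, hx, hy]
    | tmul a p =>
      have h1 : e (a ⊗ₜ[A] p) • ((1 : R') ⊗ₜ[P'] ν) = a • ((1 : R') ⊗ₜ[P'] (p • ν)) := by
        rw [Algebra.IsPushout.equiv_tmul, mul_smul, TensorProduct.smul_tmul', smul_eq_mul, mul_one,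
          Algebra.algebraMap_eq_smul_one p, TensorProduct.smul_tmul, algebraMap_smul]
      rw [h1, map_smul, Algebra.IsPushout.cancelBaseChange_tmul]
      simp [u, TensorProduct.smul_tmul']
  have hτ : ∀ x' : A' ⊗[A] P', e (τ.lTensor A' x') = algebraMap P' R' t₀ * e x' := by
    intro x'
    induction x' with
    | zero => simp
    | add x y hx hy => simp only [map_add, mul_add, hx, hy]
    | tmul a p =>
      simp only [τ, LinearMap.lTensor_tmul, LinearMap.mulLeft_apply]
      change Algebra.IsPushout.equiv A A' P' R' _ = _ * Algebra.IsPushout.equiv A A' P' R' _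
      rw [Algebra.IsPushout.equiv_tmul, Algebra.IsPushout.equiv_tmul, map_mul]
      ring
  obtain ⟨z', hz'⟩ := hw
  have hmem : u.lTensor A' (e.symm w) ∈ (maximalIdeal A' • ⊤ : Submodule A' (A' ⊗[A] N'')) := by
    rw [← hψ, AlgEquiv.apply_symm_apply, hz']
    have : algebraMap A' R' π • z' = π • z' := algebraMap_smul R' π z'
    rw [this, map_smul]
    exact Submodule.smul_mem_smul (by rw [hπ]; exact Ideal.mem_span_singleton_self π)
      Submodule.mem_top
  have hres := fibre_ker_baseChange u τ H (e.symm w) hmem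
  rw [hπ, Submodule.ideal_span_singleton_smul] at hres
  obtain ⟨x₁, -, hx₁⟩ := hres
  refine ⟨e x₁, ?_⟩
  have := hτ (e.symm w)
  rw [AlgEquiv.apply_symm_apply] at this
  rw [← this, ← hx₁]
  change e (π • x₁) = _
  rw [map_smul, Algebra.smul_def]

end model

variable {ν t₀}

/-- **Cokernel step, test part**: the DVR test passes to `N'' ⧸ P'ν`. -/
theorem Test.quotient_span (𝔭' : Ideal P') [𝔭'.IsPrime] (ht₀ : t₀ ∉ 𝔭')
    (H : FibreInj (A := A) ν t₀) (hT : Test A 𝔭' N'') :
    Test A 𝔭' (N'' ⧸ Submodule.span P' {ν}) := by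
  intro A' _ _ _ _ _ R' _ _ _ _ _ _ _ 𝔮 _ h1 h2
  obtain ⟨π, hπ⟩ := IsDiscreteValuationRing.exists_irreducible A'
  have hmax : maximalIdeal A' = Ideal.span {π} := hπ.maximalIdeal_eq
  have hTF := hT A' R' 𝔮 h1 h2
  apply TFAt.of_irreducible π hπ
  intro q hq
  let f : P' →ₗ[P'] N'' := LinearMap.toSpanSingleton P' N'' ν
  let g : N'' →ₗ[P'] N'' ⧸ Submodule.span P' {ν} := (Submodule.span P' {ν}).mkQ
  have hfg : Function.Exact f g := by
    rw [LinearMap.exact_iff, Submodule.ker_mkQ, LinearMap.range_toSpanSingleton]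
  have hg : Function.Surjective g := Submodule.mkQ_surjective _
  have hex := lTensor_exact R' hfg hg
  obtain ⟨n, rfl⟩ := LinearMap.lTensor_surjective R' hg q
  have hgl : ∀ (s : R') (x : R' ⊗[P'] N''), g.lTensor R' (s • x) = s • g.lTensor R' x := by
    intro s x
    induction x with
    | zero => simp
    | add x y hx hy => simp only [smul_add, map_add, hx, hy]
    | tmul b m => simp [TensorProduct.smul_tmul']
  have h3 : g.lTensor R' (algebraMap A' R' π • n) = 0 := by rw [hgl]; exact hq
  obtain ⟨ζ, hζ⟩ := (hex _).mp h3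
  set w : R' := TensorProduct.rid P' R' ζ with hw
  have hζ' : ζ = w ⊗ₜ[P'] (1 : P') := by
    rw [hw, ← TensorProduct.rid_symm_apply, LinearEquiv.symm_apply_apply]
  have h4 : w • ((1 : R') ⊗ₜ[P'] ν) = algebraMap A' R' π • n := by
    rw [← hζ, hζ', LinearMap.lTensor_tmul, TensorProduct.smul_tmul', smul_eq_mul, mul_one]
    simp [f]
  obtain ⟨w₁, hw₁⟩ := H.baseChange π hmax w ⟨n, h4⟩
  have h5 : algebraMap A' R' π • (algebraMap P' R' t₀ • n - w₁ • ((1 : R') ⊗ₜ[P'] ν)) = 0 := by
    rw [smul_sub, smul_comm, ← h4, smul_smul, smul_smul, hw₁, sub_self]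
  obtain ⟨s, hs, hsz⟩ := hTF π hπ.ne_zero _ h5
  refine ⟨s * algebraMap P' R' t₀, fun hmem => ?_, ?_⟩
  · rcases Ideal.IsPrime.mem_or_mem inferInstance hmem with h6 | h6
    · exact hs h6
    · apply ht₀
      rw [← h1]
      exact h6
  · rw [← hgl, mul_smul]
    rw [smul_sub, sub_eq_zero] at hsz
    rw [hsz, hgl, hgl, LinearMap.lTensor_tmul]
    have : g ν = 0 := by
      simp only [g, Submodule.mkQ_apply, Submodule.Quotient.mk_eq_zero]
      exact Submodule.mem_span_singleton_self ν
    rw [this, TensorProduct.tmul_zero, smul_zero, smul_zero]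

set_option maxHeartbeats 1000000 in
/-- **Cokernel step, flatness part**: if `P'` is `A`-flat, `y ↦ y • ν` is injective locally at
`𝔭'` and `N'' ⧸ P'ν` is `A`-flat at `𝔭'`, then `N''` is `A`-flat at `𝔭'`. -/
theorem FlatAt.of_quotient_span [Module.Flat A P'] (𝔭' : Ideal P') [𝔭'.IsPrime]
    (hinj : ∀ y : P', y • ν = 0 → ∃ s, s ∉ 𝔭' ∧ s * y = 0)
    (hQ : FlatAt A 𝔭'.primeCompl (N'' ⧸ Submodule.span P' {ν})) :
    FlatAt A 𝔭'.primeCompl N'' := by
  intro J z hz
  let f : P' →ₗ[A] N'' := (LinearMap.toSpanSingleton P' N'' ν).restrictScalars A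
  let g : N'' →ₗ[A] N'' ⧸ Submodule.span P' {ν} := ((Submodule.span P' {ν}).mkQ).restrictScalars A
  have hfg : Function.Exact f g := by
    intro x
    change (Submodule.span P' {ν}).mkQ x = 0 ↔ x ∈ Set.range (LinearMap.toSpanSingleton P' N'' ν)
    rw [Submodule.mkQ_apply, Submodule.Quotient.mk_eq_zero, ← LinearMap.range_toSpanSingleton]
    rfl
  have hg : Function.Surjective g := Submodule.mkQ_surjective _
  have hex := rTensor_exact J hfg hg
  -- `P'`-linearity of the tensored maps
  have hgs : ∀ (c : P') (x : N'' ⊗[A] J), g.rTensor J (c • x) = c • g.rTensor J x := by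
    intro c x
    induction x with
    | zero => simp
    | add x y hx hy => simp only [smul_add, map_add, hx, hy]
    | tmul m j => simp [TensorProduct.smul_tmul', g]
  have hfs : ∀ (c : P') (x : P' ⊗[A] J), f.rTensor J (c • x) = c • f.rTensor J x := by
    intro c x
    induction x with
    | zero => simp
    | add x y hx hy => simp only [smul_add, map_add, hx, hy]
    | tmul m j => simp [TensorProduct.smul_tmul', f, mul_smul]
  have hls : ∀ (M : Type u) [AddCommGroup M] [Module P' M] [Module A M] [IsScalarTower A P' M]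
      (c : P') (x : M ⊗[A] J), J.subtype.lTensor M (c • x) = c • J.subtype.lTensor M x := by
    intro M _ _ _ _ c x
    induction x with
    | zero => simp
    | add x y hx hy => simp only [smul_add, map_add, hx, hy]
    | tmul m j => simp [TensorProduct.smul_tmul']
  have hnat : ∀ (M₁ M₂ : Type u) [AddCommGroup M₁] [Module A M₁] [AddCommGroup M₂] [Module A M₂]
      (v : M₁ →ₗ[A] M₂) (x : M₁ ⊗[A] J),
      J.subtype.lTensor M₂ (v.rTensor J x) = v.rTensor A (J.subtype.lTensor M₁ x) := by
    intro M₁ M₂ _ _ _ _ v x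
    rw [← LinearMap.comp_apply, ← LinearMap.comp_apply, LinearMap.lTensor_comp_rTensor,
      LinearMap.rTensor_comp_lTensor]
  -- step 1: kill the image in the quotient
  obtain ⟨c₁, hc₁, hcz⟩ := hQ J (g.rTensor J z) (by rw [hnat, hz, map_zero])
  rw [← hgs] at hcz
  obtain ⟨ξ, hξ⟩ := (hex _).mp hcz
  -- step 2: the element `y`
  set y : P' := TensorProduct.rid A P' (J.subtype.lTensor P' ξ) with hy
  have hyν : y • ν = 0 := by
    have h1 : f.rTensor A (J.subtype.lTensor P' ξ) = 0 := by
      rw [← hnat, hξ, hls, hz, smul_zero]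
    have h2 : TensorProduct.rid A N'' (f.rTensor A (J.subtype.lTensor P' ξ)) = f y := by
      rw [hy]
      generalize J.subtype.lTensor P' ξ = η
      induction η with
      | zero => simp
      | add x y hx hy => simp only [map_add, hx, hy]
      | tmul p a => simp [f]
    rw [h1, map_zero] at h2
    simpa [f] using h2.symm
  obtain ⟨s, hs, hsy⟩ := hinj y hyν
  have hsξ : s • ξ = 0 := by
    have hinjJ := Module.Flat.lTensor_preserves_injective_linearMap (M := P') J.subtype
      Subtype.val_injective
    apply hinjJ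
    rw [map_zero, hls]
    apply (TensorProduct.rid A P').injective
    rw [map_zero]
    have : TensorProduct.rid A P' (s • J.subtype.lTensor P' ξ) = s * y := by
      rw [hy]
      generalize J.subtype.lTensor P' ξ = η
      induction η with
      | zero => simp
      | add x y hx hy => simp only [smul_add, map_add, mul_add, hx, hy]
      | tmul p a =>
        simp only [TensorProduct.smul_tmul', smul_eq_mul, TensorProduct.rid_tmul, Algebra.smul_def]
        ring
    rw [this, hsy]
  refine ⟨s * c₁, 𝔭'.primeCompl.mul_mem hs hc₁, ?_⟩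
  rw [mul_smul, ← hξ, ← hfs, hsξ, map_zero]

end cokerStep

end Groth.Agent.Lib.Helper22.VC
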