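import Mathlib
import Groth.Agent.Lib.Helper4DVRDom

/-!
# Valuative criterion of flatness over reduced Noetherian rings (helper5)

* `exists_dvr_algebra_ker_eq`: for a Noetherian local ring `A` and a non-maximal prime `p`, a DVR
  `B` with a local homomorphism `A → B` with kernel `p`.
* `free_of_forall_dvr_flat`: local reduced Noetherian case.
* `flat_of_forall_dvr_flat`: EGA IV 11.8.1-type criterion.
-/

set_option autoImplicit false
universe u

namespace Groth.Agent.Lib.Helper5

open IsLocalRing TensorProduct

theorem exists_dvr_algebra_ker_eq {A : Type u} [CommRing A] [IsNoetherianRing A] [IsLocalRing A]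
    (p : Ideal A) [p.IsPrime] (hp : p ≠ maximalIdeal A) :
    ∃ (B : Type u) (_ : CommRing B) (_ : IsDomain B) (_ : IsDiscreteValuationRing B)
      (_ : Algebra A B), IsLocalHom (algebraMap A B) ∧ RingHom.ker (algebraMap A B) = p := by
  have hpm : ¬ p.IsMaximal := fun h => hp (IsLocalRing.eq_maximalIdeal h)
  haveI : IsLocalRing (A ⧸ p) := IsLocalRing.of_surjective' (Ideal.Quotient.mk p)
    Ideal.Quotient.mk_surjective
  have hR : ¬ IsField (A ⧸ p) := fun h => hpm (Ideal.Quotient.maximal_of_isField p h)
  haveI : Algebra.EssFiniteType (A ⧸ p) (FractionRing (A ⧸ p)) :=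
    Algebra.EssFiniteType.of_isLocalization _ (nonZeroDivisors (A ⧸ p))
  obtain ⟨V, hV, hmem, hnon⟩ := Groth.Agent.Lib.Helper4.DVRDom.exists_dvr_dominating'
    (L := FractionRing (A ⧸ p)) (R := A ⧸ p) hR
  let g : A →+* V := ((algebraMap (A ⧸ p) (FractionRing (A ⧸ p))).comp
    (Ideal.Quotient.mk p)).codRestrict V.toSubring (fun a => hmem _)
  have hg : ∀ a, ((g a : V) : FractionRing (A ⧸ p)) =
      algebraMap (A ⧸ p) (FractionRing (A ⧸ p)) (Ideal.Quotient.mk p a) := fun a => rfl
  refine ⟨V, inferInstance, inferInstance, hV, g.toAlgebra, ?_, ?_⟩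
  · refine @IsLocalHom.mk _ _ _ _ _ _ _ ?_
    intro a ha
    change IsUnit (g a) at ha
    by_contra hna
    have h1 : a ∈ maximalIdeal A := (mem_maximalIdeal a).mpr hna
    have h2 : Ideal.Quotient.mk p a ∈ maximalIdeal (A ⧸ p) := by
      rw [mem_maximalIdeal, mem_nonunits_iff]
      intro hu
      obtain ⟨c, hc⟩ := hu.exists_right_inv
      obtain ⟨c, rfl⟩ := Ideal.Quotient.mk_surjective c
      rw [← map_mul, ← map_one (Ideal.Quotient.mk p), Ideal.Quotient.eq] at hc
      have h3 : a * c - 1 ∈ maximalIdeal A := IsLocalRing.le_maximalIdeal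
        (Ideal.IsPrime.ne_top inferInstance) hc
      have h4 : (1 : A) ∈ maximalIdeal A := by
        have := (maximalIdeal A).sub_mem ((maximalIdeal A).mul_mem_right c h1) h3
        simpa using this
      exact (Ideal.ne_top_iff_one _).mp (Ideal.IsPrime.ne_top inferInstance) h4
    have h5 := hnon _ h2
    rw [← hg a] at h5
    exact (ValuationSubring.mem_nonunits_iff_exists_mem_maximalIdeal.mp h5).elim
      (fun hmemV hmax => (mem_maximalIdeal _).mp hmax (by convert ha))
  · ext a
    change g a = 0 ↔ a ∈ p
    rw [← Subtype.coe_inj, hg a]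
    simp only [ZeroMemClass.coe_zero]
    rw [map_eq_zero_iff _ (IsFractionRing.injective (A ⧸ p) (FractionRing (A ⧸ p))),
      Ideal.Quotient.eq_zero_iff_mem]

/-- Linear independence mod the maximal ideal passes to a flat base change along a local
homomorphism. -/
theorem linearIndependent_baseChange_of_flat {A : Type u} [CommRing A] [IsLocalRing A]
    {B : Type u} [CommRing B] [IsLocalRing B] [Algebra A B] [IsLocalHom (algebraMap A B)]
    (M : Type u) [AddCommGroup M] [Module A M] [Module.Flat B (B ⊗[A] M)]
    {ι : Type u} (v : ι → M)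
    (w : Module.Basis ι (ResidueField A) (ResidueField A ⊗[A] M))
    (hw : ∀ i, (1 : ResidueField A) ⊗ₜ[A] v i = w i) :
    LinearIndependent B (fun i => (1 : B) ⊗ₜ[A] v i) := by
  apply Module.IsLocalRing.linearIndependent_of_flat
  -- transfer from the base change of the basis `w`
  let e1 := TensorProduct.AlgebraTensorModule.cancelBaseChange A B (ResidueField B)
    (ResidueField B) M
  let e2 := TensorProduct.AlgebraTensorModule.cancelBaseChange A (ResidueField A) (ResidueField B)
    (ResidueField B) M
  have hb := (w.baseChange (ResidueField B)).linearIndependent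
  have h2 := hb.map' (e2.toLinearMap) (LinearMap.ker_eq_bot.mpr e2.injective)
  have h1 := h2.map' (e1.symm.toLinearMap) (LinearMap.ker_eq_bot.mpr e1.symm.injective)
  have hfun : (⇑(TensorProduct.mk B (ResidueField B) (B ⊗[A] M) 1) ∘
      fun i => (1 : B) ⊗ₜ[A] v i) =
      (⇑e1.symm.toLinearMap ∘ ⇑e2.toLinearMap ∘ ⇑(Module.Basis.baseChange (ResidueField B) w)) := by
    ext i
    simp only [Function.comp_apply, TensorProduct.mk_apply, LinearEquiv.coe_coe,
      Module.Basis.baseChange_apply]
    rw [← hw i, LinearEquiv.eq_symm_apply]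
    simp [e1, e2]
  rw [hfun]
  exact h1

theorem free_of_forall_dvr_flat {A : Type u} [CommRing A] [IsNoetherianRing A] [IsReduced A]
    [IsLocalRing A] (M : Type u) [AddCommGroup M] [Module A M] [Module.Finite A M]
    (h : ∀ (B : Type u) [CommRing B] [IsDomain B] [IsDiscreteValuationRing B] [Algebra A B],
      Module.Flat B (B ⊗[A] M)) : Module.Free A M := by
  by_cases hF : IsField A
  · letI := hF.toField
    infer_instance
  let w := Module.Free.chooseBasis (ResidueField A) (ResidueField A ⊗[A] M)
  have ⟨v, eq⟩ := (TensorProduct.mk_surjective A M (ResidueField A)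
    Ideal.Quotient.mk_surjective).comp_left w
  have hw : ∀ i, (1 : ResidueField A) ⊗ₜ[A] v i = w i := fun i => congr_fun eq i
  have hspan : Submodule.span A (Set.range v) = ⊤ :=
    IsLocalRing.span_eq_top_of_tmul_eq_basis v w hw
  -- there is a prime other than the maximal ideal
  have hex : ∃ q : Ideal A, q.IsPrime ∧ q ≠ maximalIdeal A := by
    by_contra hcon
    push Not at hcon
    have h1 : nilradical A = maximalIdeal A := by
      rw [nilradical_eq_sInf]
      apply le_antisymm
      · exact sInf_le (inferInstanceAs (maximalIdeal A).IsPrime)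
      · exact le_sInf fun q hq => (hcon q hq).ge
    rw [nilradical_eq_zero] at h1
    exact hF (IsLocalRing.isField_iff_maximalIdeal_eq.mpr h1.symm)
  obtain ⟨q₀, hq₀, hq₀m⟩ := hex
  have hli : LinearIndependent A v := by
    haveI : Fintype (Module.Free.ChooseBasisIndex (ResidueField A) (ResidueField A ⊗[A] M)) :=
      inferInstance
    rw [Fintype.linearIndependent_iff]
    intro g hg i
    -- `g i` lies in every prime other than the maximal ideal
    have key : ∀ (p : Ideal A) [p.IsPrime], p ≠ maximalIdeal A → g i ∈ p := by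
      intro p _ hp
      obtain ⟨B, _, _, _, _, hloc, hker⟩ := exists_dvr_algebra_ker_eq p hp
      haveI := h B
      have hliB := linearIndependent_baseChange_of_flat (B := B) M v w hw
      rw [Fintype.linearIndependent_iff] at hliB
      have h0 : ∑ j, algebraMap A B (g j) • ((1 : B) ⊗ₜ[A] v j) = 0 := by
        have : ∀ j, algebraMap A B (g j) • ((1 : B) ⊗ₜ[A] v j) = (1 : B) ⊗ₜ[A] (g j • v j) := by
          intro j
          rw [TensorProduct.tmul_smul, algebraMap_smul]
        simp_rw [this]
        rw [← TensorProduct.tmul_sum, hg, TensorProduct.tmul_zero]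
      have := hliB _ h0 i
      rw [← hker]
      exact this
    have hall : g i ∈ nilradical A := by
      rw [nilradical_eq_sInf, Ideal.mem_sInf]
      intro p hp
      haveI : p.IsPrime := hp
      by_cases hpm : p = maximalIdeal A
      · rw [hpm]
        haveI := hq₀
        exact IsLocalRing.le_maximalIdeal hq₀.ne_top (key q₀ hq₀m)
      · exact key p hpm
    rw [nilradical_eq_zero] at hall
    exact hall
  exact Module.Free.of_basis (Module.Basis.mk hli hspan.ge)

theorem flat_of_forall_dvr_flat {A : Type u} [CommRing A] [IsNoetherianRing A] [IsReduced A]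
    (M : Type u) [AddCommGroup M] [Module A M] [Module.Finite A M]
    (h : ∀ (B : Type u) [CommRing B] [IsDomain B] [IsDiscreteValuationRing B] [Algebra A B],
      Module.Flat B (B ⊗[A] M)) : Module.Flat A M := by
  apply Module.flat_of_localized_maximal
  intro P hP
  haveI : IsReduced (Localization.AtPrime P) := inferInstance
  suffices hfree : Module.Free (Localization.AtPrime P) (LocalizedModule P.primeCompl M) by
    haveI : Module.Flat (Localization.AtPrime P) (LocalizedModule P.primeCompl M) := inferInstance
    exact Module.Flat.trans A (Localization.AtPrime P) _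
  apply free_of_forall_dvr_flat
  intro B _ _ _ _
  letI : Algebra A B := ((algebraMap (Localization.AtPrime P) B).comp
    (algebraMap A (Localization.AtPrime P))).toAlgebra
  haveI : IsScalarTower A (Localization.AtPrime P) B := IsScalarTower.of_algebraMap_eq fun _ => rfl
  have hB := h B
  -- `B ⊗[A_P] M_P ≃ B ⊗[A] M`
  have hbc : IsBaseChange (Localization.AtPrime P)
      (LocalizedModule.mkLinearMap P.primeCompl M) :=
    IsLocalizedModule.isBaseChange P.primeCompl (Localization.AtPrime P) _
  let e1 : (Localization.AtPrime P) ⊗[A] M ≃ₗ[Localization.AtPrime P]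
      LocalizedModule P.primeCompl M := hbc.equiv
  let e2 : B ⊗[Localization.AtPrime P] ((Localization.AtPrime P) ⊗[A] M) ≃ₗ[B] B ⊗[A] M :=
    TensorProduct.AlgebraTensorModule.cancelBaseChange A (Localization.AtPrime P) B B M
  let e3 : B ⊗[Localization.AtPrime P] ((Localization.AtPrime P) ⊗[A] M) ≃ₗ[B]
      B ⊗[Localization.AtPrime P] (LocalizedModule P.primeCompl M) :=
    TensorProduct.AlgebraTensorModule.congr (LinearEquiv.refl B B) e1
  exact Module.Flat.of_linearEquiv (e2.symm.trans e3).symm

end Groth.Agent.Lib.Helper5
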