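import Mathlib
import Groth.Agent.Lib.Helper22VC5
import Groth.Agent.Lib.Helper5DvrFlat

/-!
# Valuative criterion of flatness, part 6 (helper22): local injectivity from the DVR test
-/

set_option autoImplicit false
set_option linter.style.haveILetI false
set_option linter.unusedSectionVars false
universe u

namespace Groth.Agent.Lib.Helper22.VC

open TensorProduct IsLocalRing

attribute [local instance] Algebra.TensorProduct.rightAlgebra

section injStep

variable {A : Type u} [CommRing A] [IsLocalRing A]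
  {P' : Type u} [CommRing P'] [Algebra A P']
  {N'' : Type u} [AddCommGroup N''] [Module P' N''] [Module A N''] [IsScalarTower A P' N'']
  {ν : N''} {t₀ : P'}

/-- `A → P'_𝔭'` is local when `𝔭'` lies over the maximal ideal. -/
theorem isLocalHom_algebraMap_localization (𝔭' : Ideal P') [𝔭'.IsPrime]
    (h𝔭' : (maximalIdeal A).map (algebraMap A P') ≤ 𝔭') :
    IsLocalHom (algebraMap A (Localization.AtPrime 𝔭')) := by
  constructor
  intro a ha
  by_contra hna
  have h1 : a ∈ maximalIdeal A := (mem_maximalIdeal a).mpr hna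
  have h2 : algebraMap A P' a ∈ 𝔭' := h𝔭' (Ideal.mem_map_of_mem _ h1)
  have h3 : algebraMap P' (Localization.AtPrime 𝔭') (algebraMap A P' a) ∈
      maximalIdeal (Localization.AtPrime 𝔭') :=
    (IsLocalization.AtPrime.to_map_mem_maximal_iff _ 𝔭' _).mpr h2
  rw [← IsScalarTower.algebraMap_apply] at h3
  exact (mem_maximalIdeal _).mp h3 ha

set_option maxHeartbeats 1600000 in
/-- **Cokernel step, injectivity part**: under the DVR test, multiplication on `ν` is injective
locally at `𝔭'`, provided `P'_𝔭'` is reduced. -/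
theorem exists_mul_eq_zero_of_smul_eq_zero [IsNoetherianRing A] [Algebra.FiniteType A P']
    [Module.Flat A P'] (hA : ¬ IsField A) (𝔭' : Ideal P') [𝔭'.IsPrime]
    (h𝔭' : (maximalIdeal A).map (algebraMap A P') ≤ 𝔭')
    [IsReduced (Localization.AtPrime 𝔭')] (ht₀ : t₀ ∉ 𝔭') (H : FibreInj (A := A) ν t₀)
    (hT : Test A 𝔭' N'') (y : P') (hy : y • ν = 0) : ∃ s, s ∉ 𝔭' ∧ s * y = 0 := by
  haveI : IsNoetherianRing P' := Algebra.FiniteType.isNoetherianRing A P'
  haveI : IsNoetherianRing (Localization.AtPrime 𝔭') :=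
    IsLocalization.isNoetherianRing 𝔭'.primeCompl _ inferInstance
  suffices h0 : algebraMap P' (Localization.AtPrime 𝔭') y = 0 by
    obtain ⟨⟨s, hs⟩, hsy⟩ := (IsLocalization.map_eq_zero_iff 𝔭'.primeCompl _ y).mp h0
    exact ⟨s, hs, hsy⟩
  haveI hlocC : IsLocalHom (algebraMap A (Localization.AtPrime 𝔭')) :=
    isLocalHom_algebraMap_localization 𝔭' h𝔭'
  -- `C` is not a field
  have hC : ¬ IsField (Localization.AtPrime 𝔭') := by
    intro hF
    haveI : Module.Flat P' (Localization.AtPrime 𝔭') := IsLocalization.flat _ 𝔭'.primeCompl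
    haveI : Module.Flat A (Localization.AtPrime 𝔭') := Module.Flat.trans A P' _
    haveI : Module.FaithfullyFlat A (Localization.AtPrime 𝔭') :=
      Module.FaithfullyFlat.of_flat_of_isLocalHom
    have hinj : Function.Injective (algebraMap A (Localization.AtPrime 𝔭')) :=
      FaithfulSMul.algebraMap_injective A _
    apply hA
    rw [IsLocalRing.isField_iff_maximalIdeal_eq] at hF ⊢
    rw [eq_bot_iff]
    intro a ha
    have h1 : algebraMap A (Localization.AtPrime 𝔭') a ∈ maximalIdeal (Localization.AtPrime 𝔭') := by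
      rw [IsScalarTower.algebraMap_apply A P']
      exact (IsLocalization.AtPrime.to_map_mem_maximal_iff _ 𝔭' _).mpr
        (h𝔭' (Ideal.mem_map_of_mem _ ha))
    rw [hF, Ideal.mem_bot] at h1
    rw [Ideal.mem_bot]
    exact hinj (by rw [h1, map_zero])
  -- the key claim
  have key : ∀ (𝔠 : Ideal (Localization.AtPrime 𝔭')) [𝔠.IsPrime],
      𝔠 ≠ maximalIdeal (Localization.AtPrime 𝔭') →
      algebraMap P' (Localization.AtPrime 𝔭') y ∈ 𝔠 := by
    intro 𝔠 _ h𝔠
    obtain ⟨V, _, _, _, _, hloc, hker⟩ := Groth.Agent.Lib.Helper5.exists_dvr_algebra_ker_eq 𝔠 h𝔠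
    letI : Algebra A V :=
      ((algebraMap (Localization.AtPrime 𝔭') V).comp (algebraMap A _)).toAlgebra
    haveI : IsLocalHom (algebraMap A V) := by
      change IsLocalHom ((algebraMap (Localization.AtPrime 𝔭') V).comp (algebraMap A _))
      exact RingHom.isLocalHom_comp _ _
    let φ : P' →ₐ[A] V :=
      { (algebraMap (Localization.AtPrime 𝔭') V).comp (algebraMap P' _) with
        commutes' := fun a => by
          change algebraMap (Localization.AtPrime 𝔭') V (algebraMap P' _ (algebraMap A P' a)) =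
            algebraMap (Localization.AtPrime 𝔭') V (algebraMap A _ a)
          rw [← IsScalarTower.algebraMap_apply A P'] }
    have hPV : ∀ p : P', φ p =
        algebraMap (Localization.AtPrime 𝔭') V (algebraMap P' _ p) := fun _ => rfl
    -- the model
    let μ : V ⊗[A] P' →ₐ[V] V :=
      Algebra.TensorProduct.lift (AlgHom.id V V) φ (fun _ _ => Commute.all _ _)
    have hμ : ∀ p : P', μ (algebraMap P' (V ⊗[A] P') p) = φ p := by
      intro p
      rw [Algebra.TensorProduct.right_algebraMap_apply]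
      simp [μ]
    let 𝔮 : Ideal (V ⊗[A] P') := (maximalIdeal V).comap μ.toRingHom
    haveI : 𝔮.IsPrime := Ideal.comap_isPrime _ _
    have h1 : 𝔮.comap (algebraMap P' (V ⊗[A] P')) = 𝔭' := by
      ext p
      simp only [𝔮, Ideal.mem_comap]
      change μ (algebraMap P' (V ⊗[A] P') p) ∈ maximalIdeal V ↔ _
      rw [hμ, hPV, ← Ideal.mem_comap, maximalIdeal_comap,
        IsLocalization.AtPrime.to_map_mem_maximal_iff _ 𝔭']
    have h2 : (maximalIdeal V).map (algebraMap V (V ⊗[A] P')) ≤ 𝔮 := by
      rw [Ideal.map_le_iff_le_comap]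
      intro v hv
      simp only [𝔮, Ideal.mem_comap]
      change μ (algebraMap V (V ⊗[A] P') v) ∈ maximalIdeal V
      rw [AlgHom.commutes]
      exact hv
    have hTF := hT V (V ⊗[A] P') 𝔮 h1 h2
    obtain ⟨π, hπ⟩ := IsDiscreteValuationRing.exists_irreducible V
    have hmax : maximalIdeal V = Ideal.span {π} := hπ.maximalIdeal_eq
    set w : V ⊗[A] P' := algebraMap P' (V ⊗[A] P') y with hw
    have hw0 : w • ((1 : V ⊗[A] P') ⊗ₜ[P'] ν) = 0 := by
      rw [hw, TensorProduct.smul_tmul', smul_eq_mul, mul_one, Algebra.algebraMap_eq_smul_one y,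
        TensorProduct.smul_tmul, hy, TensorProduct.tmul_zero]
    have ht₀𝔮 : algebraMap P' (V ⊗[A] P') t₀ ∉ 𝔮 := by
      intro hmem
      apply ht₀
      rw [← h1]
      exact hmem
    have claim : ∀ j : ℕ, ∃ s, s ∉ 𝔮 ∧ ∃ w₀, s * w = algebraMap V (V ⊗[A] P') (π ^ j) * w₀ := by
      intro j
      induction j with
      | zero =>
        refine ⟨1, fun h1' => ?_, w, by rw [pow_zero, map_one]⟩
        exact (Ideal.IsPrime.ne_top inferInstance) ((Ideal.eq_top_iff_one 𝔮).mpr h1')
      | succ j ih =>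
        obtain ⟨s, hs, w₀, hsw⟩ := ih
        have h3 : algebraMap V (V ⊗[A] P') (π ^ j) • (w₀ • ((1 : V ⊗[A] P') ⊗ₜ[P'] ν)) = 0 := by
          rw [smul_smul, ← hsw, mul_smul, hw0, smul_zero]
        obtain ⟨s₂, hs₂, hs₂z⟩ := hTF (π ^ j) (pow_ne_zero _ hπ.ne_zero)
          (w₀ • ((1 : V ⊗[A] P') ⊗ₜ[P'] ν)) h3
        obtain ⟨w₁, hw₁⟩ := H.baseChange π hmax (s₂ * w₀)
          ⟨0, by rw [mul_smul, hs₂z, smul_zero]⟩
        refine ⟨algebraMap P' (V ⊗[A] P') t₀ * s₂ * s, fun hmem => ?_, w₁, ?_⟩
        · rcases Ideal.IsPrime.mem_or_mem inferInstance hmem with h4 | h4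
          · rcases Ideal.IsPrime.mem_or_mem inferInstance h4 with h5 | h5
            · exact ht₀𝔮 h5
            · exact hs₂ h5
          · exact hs h4
        · rw [mul_assoc, hsw, pow_succ, map_mul]
          calc algebraMap P' (V ⊗[A] P') t₀ * s₂ * (algebraMap V (V ⊗[A] P') (π ^ j) * w₀)
              = algebraMap V (V ⊗[A] P') (π ^ j) * (algebraMap P' (V ⊗[A] P') t₀ * (s₂ * w₀)) := by
                ring
            _ = _ := by rw [hw₁]; ring
    -- Krull intersection in the local ring at `𝔮`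
    haveI : IsNoetherianRing (V ⊗[A] P') := Algebra.FiniteType.isNoetherianRing V _
    haveI : IsNoetherianRing (Localization.AtPrime 𝔮) :=
      IsLocalization.isNoetherianRing 𝔮.primeCompl _ inferInstance
    let πL : Localization.AtPrime 𝔮 := algebraMap _ _ (algebraMap V (V ⊗[A] P') π)
    have hπL : πL ∈ maximalIdeal (Localization.AtPrime 𝔮) := by
      apply (IsLocalization.AtPrime.to_map_mem_maximal_iff _ 𝔮 _).mpr
      apply h2
      apply Ideal.mem_map_of_mem
      rw [hmax]
      exact Ideal.mem_span_singleton_self π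
    have hI : Ideal.span {πL} ≠ ⊤ := by
      intro htop
      have hle : Ideal.span {πL} ≤ maximalIdeal (Localization.AtPrime 𝔮) :=
        (Ideal.span_singleton_le_iff_mem _).mpr hπL
      rw [htop, top_le_iff] at hle
      exact (Ideal.IsPrime.ne_top inferInstance) hle
    have hkrull := Ideal.iInf_pow_eq_bot_of_isLocalRing (Ideal.span {πL}) hI
    have hwL : algebraMap (V ⊗[A] P') (Localization.AtPrime 𝔮) w ∈ ⨅ j : ℕ, Ideal.span {πL} ^ j := by
      rw [Ideal.mem_iInf]
      intro j
      obtain ⟨s, hs, w₀, hsw⟩ := claim j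
      have hu : IsUnit (algebraMap (V ⊗[A] P') (Localization.AtPrime 𝔮) s) :=
        IsLocalization.map_units _ (⟨s, hs⟩ : 𝔮.primeCompl)
      obtain ⟨v, hv⟩ := hu.exists_left_inv
      have h4 : algebraMap (V ⊗[A] P') (Localization.AtPrime 𝔮) w =
          v * algebraMap _ _ w₀ * πL ^ j := by
        have := congrArg (algebraMap (V ⊗[A] P') (Localization.AtPrime 𝔮)) hsw
        rw [map_mul, map_mul, map_pow, map_pow] at this
        calc algebraMap (V ⊗[A] P') (Localization.AtPrime 𝔮) w
            = v * (algebraMap _ _ s * algebraMap _ _ w) := by rw [← mul_assoc, hv, one_mul]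
          _ = _ := by rw [this]; ring
      rw [h4]
      exact Ideal.mul_mem_left _ _ (Ideal.pow_mem_pow (Ideal.mem_span_singleton_self _) j)
    rw [hkrull, Ideal.mem_bot] at hwL
    obtain ⟨⟨s, hs⟩, hsw⟩ := (IsLocalization.map_eq_zero_iff 𝔮.primeCompl _ w).mp hwL
    have h5 : μ s * μ w = 0 := by rw [← map_mul, hsw, map_zero]
    have h6 : IsUnit (μ s) := by
      by_contra hnu
      exact hs ((mem_maximalIdeal _).mpr hnu)
    have h7 : μ w = 0 := by
      obtain ⟨v, hv⟩ := h6.exists_left_inv
      calc μ w = v * (μ s * μ w) := by rw [← mul_assoc, hv, one_mul]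
        _ = 0 := by rw [h5, mul_zero]
    rw [hw, hμ, hPV] at h7
    rw [← hker]
    exact h7
  -- conclude using reducedness
  have hex : ∃ q : Ideal (Localization.AtPrime 𝔭'), q.IsPrime ∧ q ≠ maximalIdeal _ := by
    by_contra hcon
    push Not at hcon
    have h1 : nilradical (Localization.AtPrime 𝔭') = maximalIdeal _ := by
      rw [nilradical_eq_sInf]
      apply le_antisymm
      · exact sInf_le (inferInstanceAs (maximalIdeal (Localization.AtPrime 𝔭')).IsPrime)
      · exact le_sInf fun q hq => (hcon q hq).ge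
    rw [nilradical_eq_zero] at h1
    exact hC (IsLocalRing.isField_iff_maximalIdeal_eq.mpr h1.symm)
  obtain ⟨q₀, hq₀, hq₀m⟩ := hex
  have hall : algebraMap P' (Localization.AtPrime 𝔭') y ∈ nilradical (Localization.AtPrime 𝔭') := by
    rw [nilradical_eq_sInf, Ideal.mem_sInf]
    intro p hp
    haveI : p.IsPrime := hp
    by_cases hpm : p = maximalIdeal _
    · rw [hpm]
      haveI := hq₀
      exact IsLocalRing.le_maximalIdeal hq₀.ne_top (key q₀ hq₀m)
    · exact key p hpm
  rw [nilradical_eq_zero] at hall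
  exact hall

end injStep

end Groth.Agent.Lib.Helper22.VC
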