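import Mathlib
import Groth.Agent.Lib.Helper22VC6

/-!
# Valuative criterion of flatness, part 7 (helper22): induction on the generic rank
-/

set_option autoImplicit false
set_option linter.style.haveILetI false
set_option linter.unusedSectionVars false
universe u

namespace Groth.Agent.Lib.Helper22.VC

open TensorProduct IsLocalRing

section smulTop

variable {A : Type u} [CommRing A] {P' : Type u} [CommRing P'] [Algebra A P']
  {N : Type u} [AddCommGroup N] [Module P' N] [Module A N] [IsScalarTower A P' N]

/-- `(I P') N` and `I N` have the same elements. -/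
theorem mem_map_smul_top_iff (I : Ideal A) (n : N) :
    n ∈ ((I.map (algebraMap A P')) • (⊤ : Submodule P' N)) ↔ n ∈ (I • ⊤ : Submodule A N) := by
  constructor
  · intro h
    refine Submodule.smul_induction_on h ?_ ?_
    · intro c hc n _
      -- induction on `c ∈ I.map`
      have : ∀ c ∈ I.map (algebraMap A P'), ∀ n : N, c • n ∈ (I • ⊤ : Submodule A N) := by
        intro c hc
        refine Submodule.span_induction ?_ ?_ ?_ ?_ hc
        · rintro _ ⟨a, ha, rfl⟩ n
          rw [algebraMap_smul]
          exact Submodule.smul_mem_smul ha Submodule.mem_top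
        · intro n; simp
        · intro x y _ _ hx hy n
          rw [add_smul]; exact Submodule.add_mem _ (hx n) (hy n)
        · intro p x _ hx n
          rw [smul_eq_mul, mul_comm, mul_smul]
          exact hx (p • n)
      exact this c hc n
    · intro x y hx hy
      exact Submodule.add_mem _ hx hy
  · intro h
    refine Submodule.smul_induction_on h ?_ ?_
    · intro a ha n _
      rw [← algebraMap_smul P' a n]
      exact Submodule.smul_mem_smul (Ideal.mem_map_of_mem _ ha) Submodule.mem_top
    · intro x y hx hy
      exact Submodule.add_mem _ hx hy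

end smulTop

section rankInduction

variable {A : Type u} [CommRing A] [IsLocalRing A] [IsNoetherianRing A]
  {P' : Type u} [CommRing P'] [Algebra A P'] [Algebra.FiniteType A P'] [Module.Flat A P']
  (𝔭' : Ideal P') [𝔭'.IsPrime]
  {D : Type u} [CommRing D] [IsDomain D] [Algebra P' D]

omit [IsNoetherianRing A] [Algebra.FiniteType A P'] [Module.Flat A P'] [𝔭'.IsPrime] [IsDomain D] in
theorem one_tmul_eq_zero_of_mem_smul_top
    (hD2 : ∀ a ∈ maximalIdeal A, algebraMap P' D (algebraMap A P' a) = 0)
    {N'' : Type u} [AddCommGroup N''] [Module P' N''] [Module A N''] [IsScalarTower A P' N'']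
    (n : N'') (hn : n ∈ (maximalIdeal A • ⊤ : Submodule A N'')) :
    (1 : D) ⊗ₜ[P'] n = 0 := by
  refine Submodule.smul_induction_on hn ?_ ?_
  · intro a ha n _
    rw [← algebraMap_smul P' a n, ← TensorProduct.smul_tmul, Algebra.smul_def, mul_one, hD2 a ha,
      TensorProduct.zero_tmul]
  · intro x y hx hy
    rw [TensorProduct.tmul_add, hx, hy, add_zero]

set_option maxHeartbeats 1000000 in
/-- **Induction on the generic rank.** -/
theorem flatAt_of_finrank_le (hA : ¬ IsField A)
    (h𝔭' : (maximalIdeal A).map (algebraMap A P') ≤ 𝔭') [IsReduced (Localization.AtPrime 𝔭')]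
    (hD1 : ∀ y : P', algebraMap P' D y = 0 →
      ∃ t, t ∉ 𝔭' ∧ t * y ∈ (maximalIdeal A • ⊤ : Submodule A P'))
    (hD2 : ∀ a ∈ maximalIdeal A, algebraMap P' D (algebraMap A P' a) = 0)
    (htors : ∀ (N'' : Type u) [AddCommGroup N''] [Module P' N''] [Module A N'']
      [IsScalarTower A P' N''] [Module.Finite P' N''],
      Module.IsTorsion D (D ⊗[P'] N'') → Test A 𝔭' N'' → FlatAt A 𝔭'.primeCompl N'')
    (r : ℕ) : ∀ (N'' : Type u) [AddCommGroup N''] [Module P' N''] [Module A N'']
      [IsScalarTower A P' N''] [Module.Finite P' N''],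
      Module.finrank D (D ⊗[P'] N'') ≤ r → Test A 𝔭' N'' → FlatAt A 𝔭'.primeCompl N'' := by
  haveI : IsNoetherianRing P' := Algebra.FiniteType.isNoetherianRing A P'
  classical
  induction r with
  | zero =>
    intro N'' _ _ _ _ _ hr hT
    refine htors N'' ?_ hT
    exact (Module.finrank_eq_zero_iff_isTorsion).mp (Nat.le_zero.mp hr)
  | succ r ih =>
    intro N'' _ _ _ _ _ hr hT
    by_cases htor : Module.IsTorsion D (D ⊗[P'] N'')
    · exact htors N'' htor hT
    -- a non-torsion element `1 ⊗ ν`
    have hex : ∃ ν : N'', ∀ d : D, d • ((1 : D) ⊗ₜ[P'] ν) = 0 → d = 0 := by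
      by_contra hcon
      push Not at hcon
      apply htor
      have hle : (⊤ : Submodule D (D ⊗[P'] N'')) ≤ Submodule.torsion D (D ⊗[P'] N'') := by
        have hspan : Submodule.span D {t : D ⊗[P'] N'' | ∃ n : N'', (1 : D) ⊗ₜ[P'] n = t} = ⊤ := by
          rw [eq_top_iff]
          intro x hx
          clear hx
          induction x with
          | zero => exact Submodule.zero_mem _
          | add x y hx hy => exact Submodule.add_mem _ hx hy
          | tmul d n =>
            have : d ⊗ₜ[P'] n = d • ((1 : D) ⊗ₜ[P'] n) := by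
              rw [TensorProduct.smul_tmul', smul_eq_mul, mul_one]
            rw [this]
            exact Submodule.smul_mem _ _ (Submodule.subset_span ⟨n, rfl⟩)
        rw [← hspan, Submodule.span_le]
        rintro _ ⟨n, rfl⟩
        obtain ⟨d, hd, hd0⟩ := hcon n
        exact (Submodule.mem_torsion_iff _).mpr ⟨⟨d, mem_nonZeroDivisors_of_ne_zero hd0⟩, hd⟩
      intro x
      exact (Submodule.mem_torsion_iff x).mp (hle Submodule.mem_top)
    obtain ⟨ν, hν⟩ := hex
    -- the ideal of `y` with `y ν ∈ m N''`
    let M₀ : Submodule P' N'' := ((maximalIdeal A).map (algebraMap A P')) • ⊤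
    let 𝔞 : Ideal P' := M₀.comap (LinearMap.toSpanSingleton P' N'' ν)
    have h𝔞 : ∀ y : P', y ∈ 𝔞 ↔ y • ν ∈ (maximalIdeal A • ⊤ : Submodule A N'') := by
      intro y
      simp only [𝔞, Submodule.mem_comap, LinearMap.toSpanSingleton_apply, M₀]
      exact mem_map_smul_top_iff _ _
    have hgen : ∀ y ∈ 𝔞, ∃ t, t ∉ 𝔭' ∧ t * y ∈ (maximalIdeal A • ⊤ : Submodule A P') := by
      intro y hy
      apply hD1
      have h1 : (1 : D) ⊗ₜ[P'] (y • ν) = 0 :=
        one_tmul_eq_zero_of_mem_smul_top hD2 _ ((h𝔞 y).mp hy)
      apply hν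
      rw [TensorProduct.smul_tmul', smul_eq_mul, mul_one, ← h1,
        ← TensorProduct.smul_tmul, Algebra.smul_def, mul_one]
    -- uniform `t₀`
    have hunif : ∃ t₀, t₀ ∉ 𝔭' ∧ ∀ y ∈ 𝔞, t₀ * y ∈ (maximalIdeal A • ⊤ : Submodule A P') := by
      obtain ⟨G, hG⟩ := (isNoetherianRing_iff_ideal_fg P').mp inferInstance 𝔞
      have hG' : ∀ y ∈ G, y ∈ 𝔞 := fun y hy => hG ▸ Ideal.subset_span hy
      choose! t ht1 ht2 using hgen
      refine ⟨∏ y ∈ G, t y, ?_, ?_⟩
      · intro hmem
        obtain ⟨y, hyG, hy⟩ := Ideal.IsPrime.prod_mem_iff.mp hmem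
        exact ht1 y (hG' y hyG) hy
      · -- the set of `y` with `t₀ y ∈ m P'` is an ideal containing `G`
        let M₁ : Submodule P' P' := ((maximalIdeal A).map (algebraMap A P')) • ⊤
        have hM₁ : ∀ z : P', z ∈ M₁ ↔ z ∈ (maximalIdeal A • ⊤ : Submodule A P') :=
          fun z => mem_map_smul_top_iff _ _
        intro y hy
        rw [← hM₁]
        rw [← hG] at hy
        refine Submodule.span_induction ?_ ?_ ?_ ?_ hy
        · intro g hg
          have h1 := (hM₁ _).mpr (ht2 g (hG' g hg))
          rw [← Finset.mul_prod_erase G t hg, mul_comm (t g), mul_assoc]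
          exact Submodule.smul_mem M₁ _ h1
        · simp
        · intro x y _ _ hx hy
          rw [mul_add]; exact Submodule.add_mem _ hx hy
        · intro c x _ hx
          rw [smul_eq_mul, mul_left_comm]
          exact Submodule.smul_mem M₁ c hx
    obtain ⟨t₀, ht₀, ht₀y⟩ := hunif
    have H : FibreInj (A := A) ν t₀ := fun y hy => ht₀y y ((h𝔞 y).mpr hy)
    -- rank of the quotient
    have hrank : Module.finrank D (D ⊗[P'] (N'' ⧸ Submodule.span P' {ν})) ≤ r := by
      let x : D ⊗[P'] N'' := (1 : D) ⊗ₜ[P'] ν
      -- `D ≃ span {x}`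
      have hx1 : Module.finrank D (Submodule.span D {x}) = 1 := by
        let f : D →ₗ[D] Submodule.span D {x} :=
          (LinearMap.toSpanSingleton D _ x).codRestrict _ (fun d => by
            rw [LinearMap.toSpanSingleton_apply]
            exact Submodule.smul_mem _ _ (Submodule.mem_span_singleton_self x))
        have hf : Function.Bijective f := by
          constructor
          · rw [injective_iff_map_eq_zero]
            intro d hd
            apply hν
            have := congrArg Subtype.val hd
            simpa [f] using this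
          · rintro ⟨y, hy⟩
            obtain ⟨d, rfl⟩ := Submodule.mem_span_singleton.mp hy
            exact ⟨d, Subtype.ext (by simp [f])⟩
        rw [← (LinearEquiv.ofBijective f hf).finrank_eq, Module.finrank_self]
      have hsum := Submodule.finrank_quotient_add_finrank (Submodule.span D {x})
      rw [hx1] at hsum
      -- surjection from the quotient
      let g : D ⊗[P'] N'' →ₗ[D] D ⊗[P'] (N'' ⧸ Submodule.span P' {ν}) :=
        ((Submodule.span P' {ν}).mkQ).baseChange D
      have hgx : Submodule.span D {x} ≤ LinearMap.ker g := by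
        rw [Submodule.span_le, Set.singleton_subset_iff]
        simp only [SetLike.mem_coe, LinearMap.mem_ker, g, x, LinearMap.baseChange_tmul,
          Submodule.mkQ_apply]
        rw [(Submodule.Quotient.mk_eq_zero _).mpr (Submodule.mem_span_singleton_self ν),
          TensorProduct.tmul_zero]
      let g' := (Submodule.span D {x}).liftQ g hgx
      have hg' : Function.Surjective g' := by
        have hg : Function.Surjective g :=
          LinearMap.lTensor_surjective D (Submodule.mkQ_surjective _)
        intro z
        obtain ⟨w, rfl⟩ := hg z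
        exact ⟨Submodule.Quotient.mk w, rfl⟩
      have := LinearMap.finrank_le_finrank_of_surjective hg'
      omega
    have hTQ := Test.quotient_span 𝔭' ht₀ H hT
    have hFQ := ih (N'' ⧸ Submodule.span P' {ν}) hrank hTQ
    exact FlatAt.of_quotient_span 𝔭'
      (exists_mul_eq_zero_of_smul_eq_zero hA 𝔭' h𝔭' ht₀ H hT) hFQ

end rankInduction

end Groth.Agent.Lib.Helper22.VC
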