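import Mathlib
import Groth.Agent.Lib.Helper22VC7

/-!
# Valuative criterion of flatness, part 8 (helper22): the fibre ring and the vanishing lemma
-/

set_option autoImplicit false
set_option linter.style.haveILetI false
set_option linter.unusedSectionVars false
universe u

namespace Groth.Agent.Lib.Helper22.VC

open TensorProduct IsLocalRing

section fibre

variable {P' : Type u} [CommRing P'] {Fb : Type u} [CommRing Fb] [Algebra P' Fb]

/-- `1 ⊗ x = 0` in `Fb ⊗ N` for a quotient `Fb` of `P'` iff `x ∈ (ker) N`. -/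
theorem one_tmul_eq_zero_iff_of_surjective (hs : Function.Surjective (algebraMap P' Fb))
    {N : Type u} [AddCommGroup N] [Module P' N] (x : N) :
    (1 : Fb) ⊗ₜ[P'] x = 0 ↔ x ∈ (RingHom.ker (algebraMap P' Fb) • ⊤ : Submodule P' N) := by
  constructor
  · intro h
    have hs' : Function.Surjective (Algebra.ofId P' Fb) := hs
    let e := Ideal.quotientKerAlgEquivOfSurjective hs'
    have h2 := congrArg (e.symm.toLinearMap.rTensor N) h
    rw [LinearMap.rTensor_tmul, map_zero] at h2
    have h1 : e.symm.toLinearMap 1 = 1 := map_one e.symm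
    rw [h1] at h2
    exact (one_tmul_eq_zero_iff _ x).mp h2
  · intro h
    refine Submodule.smul_induction_on h ?_ ?_
    · intro c hc n _
      rw [← TensorProduct.smul_tmul, Algebra.smul_def, mul_one, (RingHom.mem_ker).mp hc,
        TensorProduct.zero_tmul]
    · intro x y hx hy
      rw [TensorProduct.tmul_add, hx, hy, add_zero]

variable {A : Type u} [CommRing A] [IsLocalRing A] [Algebra A P']

theorem one_tmul_fibre_eq_zero_iff (hs : Function.Surjective (algebraMap P' Fb))
    (hker : RingHom.ker (algebraMap P' Fb) = (maximalIdeal A).map (algebraMap A P'))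
    {N : Type u} [AddCommGroup N] [Module P' N] [Module A N] [IsScalarTower A P' N] (x : N) :
    (1 : Fb) ⊗ₜ[P'] x = 0 ↔ x ∈ (maximalIdeal A • ⊤ : Submodule A N) := by
  rw [one_tmul_eq_zero_iff_of_surjective hs, hker, mem_map_smul_top_iff]

variable {D : Type u} [CommRing D] [Algebra Fb D] [Algebra P' D] [IsScalarTower P' Fb D]
  (𝔭F : Ideal Fb) [𝔭F.IsPrime] [IsLocalization.AtPrime D 𝔭F]

/-- **Vanishing lemma.** -/
theorem exists_smul_mem_of_one_tmul_eq_zero (hs : Function.Surjective (algebraMap P' Fb))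
    (hker : RingHom.ker (algebraMap P' Fb) = (maximalIdeal A).map (algebraMap A P'))
    {N : Type u} [AddCommGroup N] [Module P' N] [Module A N] [IsScalarTower A P' N] (n' : N)
    (h : (1 : D) ⊗ₜ[P'] n' = 0) :
    ∃ t, t ∉ 𝔭F.comap (algebraMap P' Fb) ∧ t • n' ∈ (maximalIdeal A • ⊤ : Submodule A N) := by
  let e := TensorProduct.AlgebraTensorModule.cancelBaseChange P' Fb D D N
  have h1 : (1 : D) ⊗ₜ[Fb] ((1 : Fb) ⊗ₜ[P'] n') = 0 := by
    apply e.injective
    rw [map_zero, TensorProduct.AlgebraTensorModule.cancelBaseChange_tmul, one_smul]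
    exact h
  haveI : IsLocalizedModule 𝔭F.primeCompl (TensorProduct.mk Fb D (Fb ⊗[P'] N) 1) :=
    (isLocalizedModule_iff_isBaseChange 𝔭F.primeCompl D _).mpr
      (TensorProduct.isBaseChange Fb (Fb ⊗[P'] N) D)
  have h2 : TensorProduct.mk Fb D (Fb ⊗[P'] N) 1 ((1 : Fb) ⊗ₜ[P'] n') = 0 := h1
  obtain ⟨c, hc⟩ := (IsLocalizedModule.eq_zero_iff 𝔭F.primeCompl
    (TensorProduct.mk Fb D (Fb ⊗[P'] N) 1)).mp h2
  obtain ⟨t, ht⟩ := hs c.1
  refine ⟨t, ?_, ?_⟩
  · rw [Ideal.mem_comap, ht]
    exact c.2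
  · rw [← one_tmul_fibre_eq_zero_iff (Fb := Fb) hs hker]
    rw [← hc, Submonoid.smul_def, ← ht, TensorProduct.smul_tmul', smul_eq_mul, mul_one,
      ← TensorProduct.smul_tmul, Algebra.smul_def, mul_one]

end fibre

end Groth.Agent.Lib.Helper22.VC
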