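import Mathlib
import Groth.Agent.Lib.Helper22VC8

/-!
# Valuative criterion of flatness, part 9 (helper22): the torsion case (drop of the fibre dimension)
-/

set_option autoImplicit false
set_option linter.style.haveILetI false
set_option linter.unusedSectionVars false
universe u

namespace Groth.Agent.Lib.Helper22.VC

open TensorProduct IsLocalRing

section aux

variable {P' : Type u} [CommRing P']

/-- Cayley–Hamilton consequence. -/
theorem exists_pow_eq_add_of_smul_mem (I : Ideal P') {N : Type u} [AddCommGroup N] [Module P' N]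
    [Module.Finite P' N] (g' : P') (h : ∀ n : N, g' • n ∈ (I • ⊤ : Submodule P' N)) :
    ∃ (j : ℕ) (a b : P'), a ∈ Module.annihilator P' N ∧ b ∈ I ∧ g' ^ j = a + b := by
  obtain ⟨p, hmonic, -, hcoeff, hp⟩ :=
    LinearMap.exists_monic_and_natDegree_eq_and_coeff_mem_pow_and_aeval_eq_zero P'
      (algebraMap P' (Module.End P' N) g') I (by
        rintro _ ⟨n, rfl⟩
        exact h n)
  rw [Polynomial.aeval_algebraMap_apply, Polynomial.coe_aeval_eq_eval] at hp
  refine ⟨p.natDegree, p.eval g', g' ^ p.natDegree - p.eval g', ?_, ?_, by ring⟩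
  · rw [Module.mem_annihilator]
    intro n
    have := LinearMap.congr_fun hp n
    simpa using this
  · rw [Polynomial.eval_eq_sum_range, Finset.sum_range_succ, hmonic.coeff_natDegree, one_mul]
    rw [show g' ^ p.natDegree - (∑ x ∈ Finset.range p.natDegree, p.coeff x * g' ^ x +
      g' ^ p.natDegree) = - ∑ x ∈ Finset.range p.natDegree, p.coeff x * g' ^ x by ring]
    refine I.neg_mem (I.sum_mem fun k hk => ?_)
    refine I.mul_mem_right _ (Ideal.pow_le_self ?_ (hcoeff k))
    have := Finset.mem_range.mp hk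
    omega

/-- nonzerodivisor on the localized fibre -/
theorem mk_mem_nonZeroDivisors_away (K' : Ideal P') (g h : P')
    (hgh : ∀ y, h * y ∈ K' → g * y ∈ K') :
    Ideal.Quotient.mk (K'.map (algebraMap P' (Localization.Away g)))
      (algebraMap P' (Localization.Away g) h) ∈
      nonZeroDivisors (Localization.Away g ⧸ K'.map (algebraMap P' (Localization.Away g))) := by
  rw [mem_nonZeroDivisors_iff_right]
  intro x hx
  obtain ⟨x, rfl⟩ := Ideal.Quotient.mk_surjective x
  rw [← map_mul, Ideal.Quotient.eq_zero_iff_mem] at hx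
  rw [Ideal.Quotient.eq_zero_iff_mem]
  obtain ⟨k, y, hy⟩ := IsLocalization.Away.surj g x
  -- `y h / 1 ∈ K' S`
  have h1 : algebraMap P' (Localization.Away g) (h * y) ∈
      K'.map (algebraMap P' (Localization.Away g)) := by
    rw [map_mul, ← hy, mul_comm, mul_assoc, mul_comm _ (algebraMap P' (Localization.Away g) h),
      ← mul_assoc, mul_comm]
    exact Ideal.mul_mem_left _ _ hx
  obtain ⟨⟨⟨z, hz⟩, ⟨_, l, rfl⟩⟩, hzl⟩ :=
    (IsLocalization.mem_map_algebraMap_iff (Submonoid.powers g) (Localization.Away g)).mp h1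
  simp only at hzl
  rw [← map_mul] at hzl
  obtain ⟨⟨_, l', rfl⟩, hc⟩ := (IsLocalization.eq_iff_exists (Submonoid.powers g)
    (Localization.Away g)).mp hzl
  simp only at hc
  have h2 : h * (g ^ l' * g ^ l * y) ∈ K' := by
    have : h * (g ^ l' * g ^ l * y) = g ^ l' * z := by rw [← hc]; ring
    rw [this]
    exact K'.mul_mem_left _ hz
  have h3 := hgh _ h2
  -- `g^(..) y ∈ K'`, so `y/1 ∈ K' S`, so `x ∈ K' S`
  have hu : IsUnit (algebraMap P' (Localization.Away g) (g * (g ^ l' * g ^ l) * g ^ k)) := by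
    rw [map_mul, map_mul, map_mul, map_pow, map_pow, map_pow]
    have := IsLocalization.Away.algebraMap_isUnit (S := Localization.Away g) g
    exact ((this.mul ((this.pow _).mul (this.pow _))).mul (this.pow _))
  have h4 : algebraMap P' (Localization.Away g) (g * (g ^ l' * g ^ l) * g ^ k) * x ∈
      K'.map (algebraMap P' (Localization.Away g)) := by
    have : algebraMap P' (Localization.Away g) (g * (g ^ l' * g ^ l) * g ^ k) * x =
        algebraMap P' (Localization.Away g) (g * (g ^ l' * g ^ l * y)) := by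
      rw [map_mul _ _ (g ^ k), map_pow, mul_assoc, mul_comm _ x, hy, ← map_mul]
      congr 1; ring
    rw [this]
    exact Ideal.mem_map_of_mem _ h3
  obtain ⟨u, hu'⟩ := hu
  have : x = (↑u⁻¹ : Localization.Away g) *
      (algebraMap P' (Localization.Away g) (g * (g ^ l' * g ^ l) * g ^ k) * x) := by
    rw [← hu', ← mul_assoc, Units.inv_mul, one_mul]
  rw [this]
  exact Ideal.mul_mem_left _ _ h4

theorem lt_of_add_one_le_natCast (x : WithBot ℕ∞) (s : ℕ) (h : x + 1 ≤ (s : WithBot ℕ∞)) :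
    x < (s : WithBot ℕ∞) := by
  induction x using WithBot.recBotCoe with
  | bot => exact WithBot.bot_lt_coe _
  | coe e =>
    have h' : e + 1 ≤ (s : ℕ∞) := by exact_mod_cast h
    have he : e ≠ ⊤ := by
      rintro rfl
      simp at h'
    have : e < (s : ℕ∞) := (ENat.add_one_le_iff he).mp h'
    exact_mod_cast this

end aux

section torsion

/-- The core statement with fibre-support dimension `< n`. -/
def Core (A : Type u) [CommRing A] [IsLocalRing A] (n : ℕ) : Prop :=
  ∀ (S : Type u) [CommRing S] [Algebra A S] [Algebra.FiniteType A S] (𝔫 : Ideal S) [𝔫.IsPrime],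
    (maximalIdeal A).map (algebraMap A S) ≤ 𝔫 →
    ∀ (N : Type u) [AddCommGroup N] [Module S N] [Module A N] [IsScalarTower A S N]
      [Module.Finite S N],
      ringKrullDim (S ⧸ ((maximalIdeal A).map (algebraMap A S) ⊔ Module.annihilator S N)) < n →
      Test A 𝔫 N → FlatAt A 𝔫.primeCompl N

variable {A : Type u} [CommRing A] [IsLocalRing A] [IsNoetherianRing A]
  {P' : Type u} [CommRing P'] [Algebra A P'] [Algebra.FiniteType A P']
  (𝔭' : Ideal P') [𝔭'.IsPrime]
  {D : Type u} [CommRing D] [IsDomain D] [Algebra P' D]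

set_option maxHeartbeats 1000000 in
theorem flatAt_of_isTorsion (s : ℕ) (hcore : Core A s)
    (h𝔭' : (maximalIdeal A).map (algebraMap A P') ≤ 𝔭')
    (hdim : ∀ g : P', ringKrullDim (Localization.Away g ⧸
        (maximalIdeal A).map (algebraMap A (Localization.Away g))) ≤ s)
    (hD1 : ∀ y : P', algebraMap P' D y = 0 →
      ∃ t, t ∉ 𝔭' ∧ t * y ∈ (maximalIdeal A • ⊤ : Submodule A P'))
    (hD2 : ∀ a ∈ maximalIdeal A, algebraMap P' D (algebraMap A P' a) = 0)
    (hVL : ∀ (N'' : Type u) [AddCommGroup N''] [Module P' N''] [Module A N'']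
      [IsScalarTower A P' N''] (n' : N''), (1 : D) ⊗ₜ[P'] n' = 0 →
      ∃ t, t ∉ 𝔭' ∧ t • n' ∈ (maximalIdeal A • ⊤ : Submodule A N''))
    (hfrac : ∀ d : D, ∃ t f, t ∉ 𝔭' ∧ algebraMap P' D f = algebraMap P' D t * d)
    (hne : ∀ t, t ∉ 𝔭' → algebraMap P' D t ≠ 0)
    (N'' : Type u) [AddCommGroup N''] [Module P' N''] [Module A N'']
      [IsScalarTower A P' N''] [Module.Finite P' N'']
    (htor : Module.IsTorsion D (D ⊗[P'] N'')) (hT : Test A 𝔭' N'') :
    FlatAt A 𝔭'.primeCompl N'' := by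
  haveI : IsNoetherianRing P' := Algebra.FiniteType.isNoetherianRing A P'
  classical
  set K' : Ideal P' := (maximalIdeal A).map (algebraMap A P') with hK'
  -- `ρ` kills `K'`
  have hρK : ∀ z ∈ K', algebraMap P' D z = 0 := by
    have : K' ≤ RingHom.ker (algebraMap P' D) := by
      rw [hK', Ideal.map_le_iff_le_comap]
      intro a ha
      exact hD2 a ha
    exact fun z hz => this hz
  -- membership in `K'` vs `m • ⊤`
  have hK'mem : ∀ z : P', z ∈ K' ↔ z ∈ (maximalIdeal A • ⊤ : Submodule A P') := by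
    intro z
    rw [← mem_map_smul_top_iff (P' := P'), smul_eq_mul, Ideal.mul_top]
  -- Step 2: `f₁`
  obtain ⟨d, hdann, hdnz⟩ := Submodule.annihilator_top_inter_nonZeroDivisors htor
  have hd0 : d ≠ 0 := nonZeroDivisors.ne_zero hdnz
  obtain ⟨t, f₁, ht, hf₁⟩ := hfrac d
  have hρf₁ : algebraMap P' D f₁ ≠ 0 := by
    rw [hf₁]
    exact mul_ne_zero (hne t ht) hd0
  have hkill : ∀ x : D ⊗[P'] N'', algebraMap P' D f₁ • x = 0 := by
    intro x
    rw [hf₁, mul_smul, Submodule.mem_annihilator.mp hdann x Submodule.mem_top, smul_zero]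
  -- Step 3
  let M₀ : Submodule P' N'' := K' • ⊤
  have hM₀ : ∀ n : N'', n ∈ M₀ ↔ n ∈ (maximalIdeal A • ⊤ : Submodule A N'') :=
    fun n => mem_map_smul_top_iff _ _
  have hgen : ∀ n : N'', ∃ t, t ∉ 𝔭' ∧ t • f₁ • n ∈ M₀ := by
    intro n
    obtain ⟨t, ht, htn⟩ := hVL N'' (f₁ • n) (by
      have := hkill ((1 : D) ⊗ₜ[P'] n)
      rw [TensorProduct.smul_tmul', smul_eq_mul, mul_one] at this
      rw [← TensorProduct.smul_tmul, Algebra.smul_def, mul_one]
      exact this)
    exact ⟨t, ht, (hM₀ _).mpr htn⟩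
  -- Step 4: uniform `g'`
  obtain ⟨G, hG⟩ := (Module.Finite.fg_top : (⊤ : Submodule P' N'').FG)
  choose! τ hτ1 hτ2 using hgen
  let T : P' := ∏ n ∈ G, τ n
  have hT𝔭 : T ∉ 𝔭' := by
    intro hmem
    obtain ⟨y, -, hy⟩ := Ideal.IsPrime.prod_mem_iff.mp hmem
    exact hτ1 y hy
  let g' : P' := T * f₁
  have hg'M : ∀ n : N'', g' • n ∈ M₀ := by
    intro n
    have hn : n ∈ Submodule.span P' (G : Set N'') := by rw [hG]; exact Submodule.mem_top
    refine Submodule.span_induction ?_ ?_ ?_ ?_ hn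
    · intro x hx
      have h1 := hτ2 x
      have : g' • x = (∏ n ∈ G.erase x, τ n) • (τ x • f₁ • x) := by
        simp only [g', T]
        rw [← Finset.mul_prod_erase G τ hx, mul_smul, mul_smul, smul_comm (τ x)]
      rw [this]
      exact Submodule.smul_mem M₀ _ h1
    · simp
    · intro x y _ _ hx hy
      rw [smul_add]; exact Submodule.add_mem _ hx hy
    · intro c x _ hx
      rw [smul_comm]
      exact Submodule.smul_mem M₀ c hx
  -- Step 5: Cayley–Hamilton
  obtain ⟨j, a, b, ha, hb, hjab⟩ := exists_pow_eq_add_of_smul_mem K' g' hg'M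
  -- Step 6
  have hρg' : algebraMap P' D (g' ^ j) ≠ 0 := by
    rw [map_pow]
    refine pow_ne_zero _ ?_
    simp only [g', map_mul]
    exact mul_ne_zero (hne T hT𝔭) hρf₁
  -- Step 7: the colon ideal
  let 𝔟 : Ideal P' := Submodule.comap (LinearMap.mulLeft P' (g' ^ j)) K'
  have h𝔟 : ∀ y, y ∈ 𝔟 ↔ g' ^ j * y ∈ K' := by
    intro y
    simp only [𝔟, Submodule.mem_comap, LinearMap.mulLeft_apply]
  have hgen2 : ∀ y ∈ 𝔟, ∃ t, t ∉ 𝔭' ∧ t * y ∈ K' := by
    intro y hy
    have h1 : algebraMap P' D y = 0 := by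
      have := hρK _ ((h𝔟 y).mp hy)
      rw [map_mul] at this
      exact (mul_eq_zero.mp this).resolve_left hρg'
    obtain ⟨t, ht, hty⟩ := hD1 y h1
    exact ⟨t, ht, (hK'mem _).mpr hty⟩
  have hunif : ∃ g, g ∉ 𝔭' ∧ ∀ y, g' ^ j * y ∈ K' → g * y ∈ K' := by
    obtain ⟨G₂, hG₂⟩ := (isNoetherianRing_iff_ideal_fg P').mp inferInstance 𝔟
    have hG₂' : ∀ y ∈ G₂, y ∈ 𝔟 := fun y hy => hG₂ ▸ Ideal.subset_span hy
    choose! t ht1 ht2 using hgen2
    refine ⟨∏ y ∈ G₂, t y, ?_, ?_⟩
    · intro hmem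
      obtain ⟨y, hyG, hy⟩ := Ideal.IsPrime.prod_mem_iff.mp hmem
      exact ht1 y (hG₂' y hyG) hy
    · intro y hy
      have hy' : y ∈ 𝔟 := (h𝔟 y).mpr hy
      rw [← hG₂] at hy'
      refine Submodule.span_induction ?_ ?_ ?_ ?_ hy'
      · intro x hx
        have h1 := ht2 x (hG₂' x hx)
        rw [← Finset.mul_prod_erase G₂ t hx, mul_comm (t x), mul_assoc]
        exact K'.mul_mem_left _ h1
      · simp
      · intro x y _ _ hx hy
        rw [mul_add]; exact K'.add_mem hx hy
      · intro c x _ hx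
        rw [smul_eq_mul, mul_left_comm]
        exact K'.mul_mem_left c hx
  obtain ⟨g, hg𝔭, hgcol⟩ := hunif
  -- the new ring
  let S₂ := Localization.Away g
  haveI : Algebra.FiniteType A S₂ := Algebra.FiniteType.trans (S := P') inferInstance inferInstance
  have hdisj : Disjoint (Submonoid.powers g : Set P') (𝔭' : Set P') := by
    rw [Set.disjoint_left]
    rintro _ ⟨k, rfl⟩ hk
    exact hg𝔭 (Ideal.IsPrime.mem_of_pow_mem inferInstance k hk)
  let 𝔫₂ : Ideal S₂ := 𝔭'.map (algebraMap P' S₂)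
  haveI : 𝔫₂.IsPrime :=
    IsLocalization.isPrime_of_isPrime_disjoint (Submonoid.powers g) S₂ 𝔭' inferInstance hdisj
  have hcomap : 𝔫₂.comap (algebraMap P' S₂) = 𝔭' :=
    IsLocalization.under_map_of_isPrime_disjoint (Submonoid.powers g) S₂ inferInstance hdisj
  have hKn : (maximalIdeal A).map (algebraMap A S₂) = K'.map (algebraMap P' S₂) := by
    rw [hK', Ideal.map_map, ← IsScalarTower.algebraMap_eq]
  have hm𝔫 : (maximalIdeal A).map (algebraMap A S₂) ≤ 𝔫₂ := by
    rw [hKn]; exact Ideal.map_mono h𝔭'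
  -- dimension
  have hdimlt : ringKrullDim (S₂ ⧸ ((maximalIdeal A).map (algebraMap A S₂) ⊔
      Module.annihilator S₂ (S₂ ⊗[P'] N''))) < s := by
    apply lt_of_add_one_le_natCast
    refine le_trans ?_ (hdim g)
    have hr := mk_mem_nonZeroDivisors_away K' g (g' ^ j) hgcol
    rw [← hKn] at hr
    refine ringKrullDim_succ_le_of_surjective (Ideal.Quotient.factor le_sup_left)
      (Ideal.Quotient.factor_surjective _) hr ?_
    rw [Ideal.Quotient.factor_mk, Ideal.Quotient.eq_zero_iff_mem, hjab, map_add]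
    refine Ideal.add_mem _ (Ideal.mem_sup_right ?_) (Ideal.mem_sup_left ?_)
    · rw [Module.mem_annihilator]
      intro x
      induction x with
      | zero => simp
      | add x y hx hy => rw [smul_add, hx, hy, add_zero]
      | tmul s n =>
        rw [TensorProduct.smul_tmul', smul_eq_mul, ← Algebra.smul_def, TensorProduct.smul_tmul,
          Module.mem_annihilator.mp ha, TensorProduct.tmul_zero]
    · rw [hKn]; exact Ideal.mem_map_of_mem _ hb
  have hT₂ : Test A 𝔫₂ (S₂ ⊗[P'] N'') :=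
    Test.baseChange_of_flat 𝔫₂ N'' (by rw [hcomap]; exact hT)
  have hF₂ := hcore S₂ 𝔫₂ hm𝔫 (S₂ ⊗[P'] N'') hdimlt hT₂
  have hfin := FlatAt.of_flat_baseChange 𝔫₂ N'' hF₂
  intro J z hz
  obtain ⟨c, hc, hcz⟩ := hfin J z hz
  refine ⟨c, ?_, hcz⟩
  show c ∉ 𝔭'
  intro h
  apply hc
  show c ∈ 𝔫₂.comap (algebraMap P' S₂)
  rw [hcomap]
  exact h

end torsion

end Groth.Agent.Lib.Helper22.VC
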