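import Mathlib
import Groth.Agent.Lib.Helper22VC9
import Groth.Agent.Lib.Helper3EtNormal

/-!
# Valuative criterion of flatness, part 10 (helper22): the fibre domain of an étale algebra over
a polynomial ring
-/

set_option autoImplicit false
set_option linter.style.haveILetI false
set_option linter.unusedSectionVars false
universe u

namespace Groth.Agent.Lib.Helper22.VC

open TensorProduct IsLocalRing

section fibreDomain

variable {A : Type u} [CommRing A] [IsLocalRing A]
  {P' : Type u} [CommRing P'] [Algebra A P']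

/-- the package of data used by the rank induction and the torsion case -/
def FibreData (A : Type u) [CommRing A] [IsLocalRing A] {P' : Type u} [CommRing P'] [Algebra A P']
    (𝔭' : Ideal P') (D : Type u) [CommRing D] [Algebra P' D] : Prop :=
  (∀ y : P', algebraMap P' D y = 0 →
      ∃ t, t ∉ 𝔭' ∧ t * y ∈ (maximalIdeal A • ⊤ : Submodule A P')) ∧
  (∀ a ∈ maximalIdeal A, algebraMap P' D (algebraMap A P' a) = 0) ∧
  (∀ (N'' : Type u) [AddCommGroup N''] [Module P' N''] [Module A N'']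
      [IsScalarTower A P' N''] (n' : N''), (1 : D) ⊗ₜ[P'] n' = 0 →
      ∃ t, t ∉ 𝔭' ∧ t • n' ∈ (maximalIdeal A • ⊤ : Submodule A N'')) ∧
  (∀ d : D, ∃ t f, t ∉ 𝔭' ∧ algebraMap P' D f = algebraMap P' D t * d) ∧
  (∀ t, t ∉ 𝔭' → algebraMap P' D t ≠ 0)

theorem exists_fibreData_aux {Fb : Type u} [CommRing Fb] [Algebra P' Fb]
    (hs : Function.Surjective (algebraMap P' Fb))
    (hker : RingHom.ker (algebraMap P' Fb) = (maximalIdeal A).map (algebraMap A P'))
    (hdom : ∀ (Q : Ideal Fb) [Q.IsPrime], IsDomain (Localization.AtPrime Q))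
    (𝔭' : Ideal P') [𝔭'.IsPrime] (h𝔭' : (maximalIdeal A).map (algebraMap A P') ≤ 𝔭') :
    ∃ (D : Type u) (_ : CommRing D) (_ : IsDomain D) (_ : Algebra P' D), FibreData A 𝔭' D := by
  let 𝔭F : Ideal Fb := 𝔭'.map (algebraMap P' Fb)
  haveI h𝔭Fp : 𝔭F.IsPrime := Ideal.map_isPrime_of_surjective hs (by rw [hker]; exact h𝔭')
  have hcomap : 𝔭F.comap (algebraMap P' Fb) = 𝔭' := by
    rw [Ideal.comap_map_of_surjective _ hs, sup_eq_left]
    have : Ideal.comap (algebraMap P' Fb) ⊥ = RingHom.ker (algebraMap P' Fb) := rfl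
    rw [this, hker]
    exact h𝔭'
  haveI := hdom 𝔭F
  have hVL : ∀ (N'' : Type u) [AddCommGroup N''] [Module P' N''] [Module A N'']
      [IsScalarTower A P' N''] (n' : N''), (1 : Localization.AtPrime 𝔭F) ⊗ₜ[P'] n' = 0 →
      ∃ t, t ∉ 𝔭' ∧ t • n' ∈ (maximalIdeal A • ⊤ : Submodule A N'') := by
    intro N'' _ _ _ _ n' h
    obtain ⟨t, ht, htn⟩ := exists_smul_mem_of_one_tmul_eq_zero (D := Localization.AtPrime 𝔭F)
      𝔭F hs hker n' h
    rw [hcomap] at ht
    exact ⟨t, ht, htn⟩
  refine ⟨Localization.AtPrime 𝔭F, inferInstance, inferInstance, inferInstance, ?_, ?_, hVL, ?_, ?_⟩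
  · intro y hy
    obtain ⟨t, ht, hty⟩ := hVL P' y (by
      have : (1 : Localization.AtPrime 𝔭F) ⊗ₜ[P'] y = (y • (1 : Localization.AtPrime 𝔭F)) ⊗ₜ[P'] (1 : P') := by
        rw [TensorProduct.smul_tmul, smul_eq_mul, mul_one]
      rw [this, Algebra.smul_def, mul_one, hy, TensorProduct.zero_tmul])
    exact ⟨t, ht, hty⟩
  · intro a ha
    have h1 : algebraMap A P' a ∈ RingHom.ker (algebraMap P' Fb) := by
      rw [hker]; exact Ideal.mem_map_of_mem _ ha
    rw [IsScalarTower.algebraMap_apply P' Fb (Localization.AtPrime 𝔭F), (RingHom.mem_ker).mp h1,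
      map_zero]
  · intro d
    obtain ⟨⟨x, sd⟩, hx⟩ := IsLocalization.surj 𝔭F.primeCompl d
    obtain ⟨t, ht⟩ := hs sd.1
    obtain ⟨f, hf⟩ := hs x
    refine ⟨t, f, ?_, ?_⟩
    · intro h
      apply sd.2
      rw [← ht]
      exact Ideal.mem_map_of_mem _ h
    · rw [IsScalarTower.algebraMap_apply P' Fb (Localization.AtPrime 𝔭F),
        IsScalarTower.algebraMap_apply P' Fb (Localization.AtPrime 𝔭F) t, hf, ht, mul_comm]
      exact hx.symm
  · intro t ht
    have h1 : algebraMap P' Fb t ∈ 𝔭F.primeCompl := by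
      show algebraMap P' Fb t ∉ 𝔭F
      intro h
      apply ht
      rw [← hcomap]
      exact h
    have := IsLocalization.map_units (Localization.AtPrime 𝔭F) ⟨_, h1⟩
    rw [IsScalarTower.algebraMap_apply P' Fb (Localization.AtPrime 𝔭F)]
    exact this.ne_zero

end fibreDomain

section concrete

attribute [local instance] Algebra.TensorProduct.rightAlgebra

set_option maxHeartbeats 1000000 in
theorem exists_fibreData {A : Type u} [CommRing A] [IsLocalRing A] (s : ℕ)
    {P' : Type u} [CommRing P'] [Algebra (MvPolynomial (Fin s) A) P'] [Algebra A P']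
    [IsScalarTower A (MvPolynomial (Fin s) A) P'] [Algebra.Etale (MvPolynomial (Fin s) A) P']
    (𝔭' : Ideal P') [𝔭'.IsPrime]
    (h𝔭' : (maximalIdeal A).map (algebraMap A P') ≤ 𝔭') :
    ∃ (D : Type u) (_ : CommRing D) (_ : IsDomain D) (_ : Algebra P' D), FibreData A 𝔭' D := by
  let K : Ideal (MvPolynomial (Fin s) A) := Ideal.map MvPolynomial.C (maximalIdeal A)
  have hK : K = (maximalIdeal A).map (algebraMap A (MvPolynomial (Fin s) A)) := by
    rw [MvPolynomial.algebraMap_eq]
  letI : Field (A ⧸ maximalIdeal A) := Ideal.Quotient.field _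
  let e₀ : MvPolynomial (Fin s) (A ⧸ maximalIdeal A) ≃+* (MvPolynomial (Fin s) A ⧸ K) :=
    (MvPolynomial.quotientEquivQuotientMvPolynomial (maximalIdeal A)).toRingEquiv
  haveI : IsDomain (MvPolynomial (Fin s) A ⧸ K) :=
    MulEquiv.isDomain (MvPolynomial (Fin s) (A ⧸ maximalIdeal A)) e₀.symm.toMulEquiv
  haveI : IsIntegrallyClosed (MvPolynomial (Fin s) A ⧸ K) := IsIntegrallyClosed.of_equiv e₀
  refine exists_fibreData_aux (Fb := (MvPolynomial (Fin s) A ⧸ K) ⊗[MvPolynomial (Fin s) A] P')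
    ?hs ?hker ?hdom 𝔭' h𝔭'
  · exact Algebra.TensorProduct.includeRight_surjective _ Ideal.Quotient.mk_surjective
  · ext x
    rw [RingHom.mem_ker, Algebra.TensorProduct.right_algebraMap_apply, one_tmul_eq_zero_iff K x,
      Ideal.smul_top_eq_map, Submodule.restrictScalars_mem, hK, Ideal.map_map,
      ← IsScalarTower.algebraMap_eq]
  · intro Q _
    exact (Groth.Agent.Lib.Helper3.EtNormal.isDomain_and_isIntegrallyClosed_localization
      (MvPolynomial (Fin s) A ⧸ K) _ Q).1

end concrete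

end Groth.Agent.Lib.Helper22.VC
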