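import Mathlib
import Groth.Prelude.Def_Flat
import Groth.Agent.Lib.Helper7TopDim
import Groth.Agent.Lib.Helper14LocalDim

/-!
# Fibre dimension, ring level (part A)

* `exists_basicOpen_one_tmul_le`: basic opens `D(1 ⊗ g)`, `g : S`, form a basis of `Spec (κ(p) ⊗ S)`.
* `ringKrullDim_fiber_away`: `dim (κ(p) ⊗ S_g) = dim D(1 ⊗ g)`.
* `ringKrullDim_le_of_quasiFinite`: quasi-finite algebras do not raise dimension.
* `ringKrullDim_fiber_le_of_quasiFinite`: if `B` is quasi-finite over `R[t₁..tₙ]` then all fibre rings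
  `κ(p) ⊗[R] B` have dimension `≤ n`.
-/

set_option autoImplicit false
set_option linter.style.haveILetI false
universe u

open TensorProduct PrimeSpectrum TopologicalSpace

namespace Groth.Agent.Lib.Helper4.FibDim

section basic

variable {R S : Type*} [CommRing R] [CommRing S] [Algebra R S] (p : Ideal R) [p.IsPrime]

lemma basicOpen_eq_top_of_isUnit {A : Type*} [CommRing A] {u : A} (hu : IsUnit u) :
    PrimeSpectrum.basicOpen u = ⊤ := by
  refine top_unique fun x _ => ?_
  exact fun h => x.2.ne_top (Ideal.eq_top_of_isUnit_mem _ h hu)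

lemma isUnit_algebraMap_fiber {r : R} (hr : r ∉ p) : IsUnit (algebraMap R (p.Fiber S) r) := by
  have h1 : algebraMap R p.ResidueField r ≠ 0 := by
    rwa [Ne, Ideal.algebraMap_residueField_eq_zero]
  have h2 : IsUnit (algebraMap R p.ResidueField r) := isUnit_iff_ne_zero.mpr h1
  have := h2.map (algebraMap p.ResidueField (p.Fiber S))
  rwa [← IsScalarTower.algebraMap_apply] at this

theorem exists_basicOpen_one_tmul_le (U : Opens (PrimeSpectrum (p.Fiber S)))
    (Q : PrimeSpectrum (p.Fiber S)) (hQ : Q ∈ U) :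
    ∃ g : S, (1 ⊗ₜ[R] g : p.Fiber S) ∉ Q.asIdeal ∧
      PrimeSpectrum.basicOpen (1 ⊗ₜ[R] g : p.Fiber S) ≤ U := by
  obtain ⟨_, ⟨_, ⟨z, rfl⟩, rfl⟩, hQz, hzU⟩ :=
    PrimeSpectrum.isBasis_basic_opens.exists_subset_of_mem_open hQ U.isOpen
  obtain ⟨r, hr, s, e⟩ := Ideal.Fiber.exists_smul_eq_one_tmul p z
  have hu := isUnit_algebraMap_fiber (S := S) p hr
  have h1 : PrimeSpectrum.basicOpen (1 ⊗ₜ[R] s : p.Fiber S) = PrimeSpectrum.basicOpen z := by
    rw [← e, Algebra.smul_def, PrimeSpectrum.basicOpen_mul, basicOpen_eq_top_of_isUnit hu,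
      top_inf_eq]
  refine ⟨s, ?_, ?_⟩
  · have : Q ∈ PrimeSpectrum.basicOpen (1 ⊗ₜ[R] s : p.Fiber S) := by rw [h1]; exact hQz
    exact this
  · rw [h1]; exact hzU

theorem ringKrullDim_fiber_away (g : S) :
    ringKrullDim (p.Fiber (Localization.Away g)) =
      topologicalKrullDim ((PrimeSpectrum.basicOpen (1 ⊗ₜ[R] g : p.Fiber S) :
        Opens (PrimeSpectrum (p.Fiber S))) : Set (PrimeSpectrum (p.Fiber S))) := by
  rw [Groth.Agent.Lib.Helper14.LocalDim.topologicalKrullDim_basicOpen]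
  exact ringKrullDim_eq_of_ringEquiv
    (IsLocalization.Away.tensorProductEquivTMulRight R p.ResidueField g
      (Localization.Away g)).toRingEquiv

end basic

section quasiFinite

theorem ringKrullDim_le_of_quasiFinite (A B : Type*) [CommRing A] [CommRing B] [Algebra A B]
    [Algebra.QuasiFinite A B] : ringKrullDim B ≤ ringKrullDim A := by
  unfold ringKrullDim
  apply Order.krullDim_le_of_strictMono (f := PrimeSpectrum.comap (algebraMap A B))
  intro P Q hPQ
  have hle : PrimeSpectrum.comap (algebraMap A B) P ≤ PrimeSpectrum.comap (algebraMap A B) Q :=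
    Ideal.comap_mono (show P.asIdeal ≤ Q.asIdeal from hPQ.le)
  refine lt_of_le_of_ne hle (fun h => ?_)
  have h2 : P.asIdeal = Q.asIdeal :=
    Algebra.QuasiFinite.eq_of_le_of_under_eq (R := A) P.asIdeal Q.asIdeal hPQ.le
      (congrArg PrimeSpectrum.asIdeal h)
  exact hPQ.ne (PrimeSpectrum.ext h2)

variable {R P B : Type*} [CommRing R] [CommRing P] [CommRing B] [Algebra R P] [Algebra P B]
  [Algebra R B] [IsScalarTower R P B] (p : Ideal R) [p.IsPrime]

theorem ringKrullDim_fiber_le_of_quasiFinite [Algebra.QuasiFinite P B] :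
    ringKrullDim (p.Fiber B) ≤ ringKrullDim (p.Fiber P) := by
  unfold ringKrullDim
  rw [← Order.krullDim_eq_of_orderIso (PrimeSpectrum.preimageOrderIsoFiber R B ⟨p, inferInstance⟩),
    ← Order.krullDim_eq_of_orderIso (PrimeSpectrum.preimageOrderIsoFiber R P ⟨p, inferInstance⟩)]
  let f : (PrimeSpectrum.comap (algebraMap R B) ⁻¹' {⟨p, inferInstance⟩}) →
      (PrimeSpectrum.comap (algebraMap R P) ⁻¹' {⟨p, inferInstance⟩}) := fun q =>
    ⟨PrimeSpectrum.comap (algebraMap P B) q.1, by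
      have h1 : PrimeSpectrum.comap (algebraMap R B) q.1 = ⟨p, inferInstance⟩ := q.2
      have h2 : PrimeSpectrum.comap (algebraMap R P) (PrimeSpectrum.comap (algebraMap P B) q.1) =
          PrimeSpectrum.comap (algebraMap R B) q.1 := by
        rw [← PrimeSpectrum.comap_comp_apply, ← IsScalarTower.algebraMap_eq]
      exact h2.trans h1⟩
  apply Order.krullDim_le_of_strictMono (f := f)
  intro q₁ q₂ h
  have hle : q₁.1 ≤ q₂.1 := h.le
  have hle' : f q₁ ≤ f q₂ :=
    Ideal.comap_mono (f := algebraMap P B) (show q₁.1.asIdeal ≤ q₂.1.asIdeal from hle)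
  refine lt_of_le_of_ne hle' (fun heq => ?_)
  have h2 : q₁.1.asIdeal = q₂.1.asIdeal :=
    Algebra.QuasiFinite.eq_of_le_of_under_eq (R := P) q₁.1.asIdeal q₂.1.asIdeal hle
      (congrArg (fun z => z.1.asIdeal) heq)
  exact h.ne (Subtype.ext (PrimeSpectrum.ext h2))

theorem ringKrullDim_fiber_mvPolynomial (n : ℕ) :
    ringKrullDim (p.Fiber (MvPolynomial (Fin n) R)) = n := by
  rw [ringKrullDim_eq_of_ringEquiv
    (MvPolynomial.algebraTensorAlgEquiv (σ := Fin n) R p.ResidueField).toRingEquiv,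
    MvPolynomial.ringKrullDim_of_isNoetherianRing, ringKrullDim_eq_zero_of_field, zero_add,
    Nat.card_fin]

theorem ringKrullDim_fiber_le_of_quasiFinite_mvPolynomial {B : Type*} [CommRing B] [Algebra R B]
    (n : ℕ) [Algebra (MvPolynomial (Fin n) R) B] [IsScalarTower R (MvPolynomial (Fin n) R) B]
    [Algebra.QuasiFinite (MvPolynomial (Fin n) R) B] :
    ringKrullDim (p.Fiber B) ≤ n :=
  (ringKrullDim_fiber_le_of_quasiFinite (P := MvPolynomial (Fin n) R) p).trans
    (ringKrullDim_fiber_mvPolynomial p n).le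

end quasiFinite

end Groth.Agent.Lib.Helper4.FibDim
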