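import Mathlib
import Groth.Agent.Lib.Helper22VC10
import Groth.Agent.Lib.Helper4FibDimA
import Groth.Agent.Lib.Helper4FibDimC
import Groth.Agent.Lib.Helper4TensorDim

/-!
# Valuative criterion of flatness, part 11 (helper22): dimension of fibres, quasi-finiteness from a
finite fibre, Noether normalization of the closed fibre
-/

set_option autoImplicit false
set_option linter.style.haveILetI false
set_option linter.unusedSectionVars false
universe u

namespace Groth.Agent.Lib.Helper22.VC

open TensorProduct IsLocalRing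

theorem ringKrullDim_quotient_mvPolynomial {A : Type u} [CommRing A] [IsLocalRing A] (s : ℕ) :
    ringKrullDim (MvPolynomial (Fin s) A ⧸
      (maximalIdeal A).map (algebraMap A (MvPolynomial (Fin s) A))) = s := by
  letI : Field (A ⧸ maximalIdeal A) := Ideal.Quotient.field _
  have hK : Ideal.map MvPolynomial.C (maximalIdeal A) =
      (maximalIdeal A).map (algebraMap A (MvPolynomial (Fin s) A)) := by
    rw [MvPolynomial.algebraMap_eq]
  rw [← hK, ← ringKrullDim_eq_of_ringEquiv
    (MvPolynomial.quotientEquivQuotientMvPolynomial (σ := Fin s) (maximalIdeal A)).toRingEquiv,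
    MvPolynomial.ringKrullDim_of_isNoetherianRing, ringKrullDim_eq_zero_of_field, zero_add,
    Nat.card_fin]

theorem ringKrullDim_fibre_le_of_quasiFinite {A : Type u} [CommRing A] [IsLocalRing A] (s : ℕ)
    (S₂ : Type u) [CommRing S₂] [Algebra (MvPolynomial (Fin s) A) S₂] [Algebra A S₂]
    [IsScalarTower A (MvPolynomial (Fin s) A) S₂] [Algebra.QuasiFinite (MvPolynomial (Fin s) A) S₂] :
    ringKrullDim (S₂ ⧸ (maximalIdeal A).map (algebraMap A S₂)) ≤ s := by
  set K : Ideal (MvPolynomial (Fin s) A) :=
    (maximalIdeal A).map (algebraMap A (MvPolynomial (Fin s) A)) with hK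
  have h1 : K.map (algebraMap (MvPolynomial (Fin s) A) S₂) =
      (maximalIdeal A).map (algebraMap A S₂) := by
    rw [hK, Ideal.map_map, ← IsScalarTower.algebraMap_eq]
  rw [← h1]
  haveI : Algebra.QuasiFinite (MvPolynomial (Fin s) A ⧸ K)
      (S₂ ⧸ K.map (algebraMap (MvPolynomial (Fin s) A) S₂)) :=
    Algebra.QuasiFinite.of_restrictScalars (MvPolynomial (Fin s) A) _ _
  refine (Groth.Agent.Lib.Helper4.FibDim.ringKrullDim_le_of_quasiFinite
    (MvPolynomial (Fin s) A ⧸ K) _).trans ?_
  rw [hK, ringKrullDim_quotient_mvPolynomial]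

section QF

variable {P S : Type u} [CommRing P] [CommRing S] [Algebra P S]

/-- the fibre over a prime containing `I` only depends on `S ⧸ I S` -/
theorem finite_fiber_of_finite_quotient (I : Ideal P) (p : Ideal P) [p.IsPrime] (hI : I ≤ p)
    [Module.Finite P (S ⧸ I.map (algebraMap P S))] :
    Module.Finite p.ResidueField (p.ResidueField ⊗[P] S) := by
  set J : Ideal S := I.map (algebraMap P S) with hJ
  let f : S →ₗ[P] S ⧸ J := (Ideal.Quotient.mkₐ P J).toLinearMap
  let i : ↥(J.restrictScalars P) →ₗ[P] S := Submodule.subtype _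
  have hex : Function.Exact i f := by
    intro y
    simp only [f, i, AlgHom.toLinearMap_apply, Ideal.Quotient.mkₐ_eq_mk,
      Ideal.Quotient.eq_zero_iff_mem]
    constructor
    · intro hy
      exact ⟨⟨y, hy⟩, rfl⟩
    · rintro ⟨⟨z, hz⟩, rfl⟩
      exact hz
  have hsurj : Function.Surjective f := Ideal.Quotient.mk_surjective
  have hex2 := lTensor_exact p.ResidueField hex hsurj
  -- tensors with elements of `J` vanish
  have hJ0 : ∀ z ∈ J, ∀ c : p.ResidueField, c ⊗ₜ[P] z = 0 := by
    intro z hz
    refine Submodule.span_induction ?_ ?_ ?_ ?_ hz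
    · rintro _ ⟨a, ha, rfl⟩ c
      rw [Algebra.algebraMap_eq_smul_one, ← TensorProduct.smul_tmul, Algebra.smul_def]
      have : algebraMap P p.ResidueField a = 0 := by
        rw [Ideal.algebraMap_residueField_eq_zero]; exact hI ha
      rw [this, zero_mul, TensorProduct.zero_tmul]
    · intro c; rw [TensorProduct.tmul_zero]
    · intro x y _ _ hx hy c
      rw [TensorProduct.tmul_add, hx, hy, add_zero]
    · intro s' x _ hx c
      have : c ⊗ₜ[P] (s' • x) = ((1 : p.ResidueField) ⊗ₜ[P] s') * (c ⊗ₜ[P] x) := by
        rw [Algebra.TensorProduct.tmul_mul_tmul, one_mul, smul_eq_mul]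
      rw [this, hx, mul_zero]
  have hi0 : i.lTensor p.ResidueField = 0 := by
    apply TensorProduct.ext'
    intro c z
    rw [LinearMap.lTensor_tmul, LinearMap.zero_apply]
    exact hJ0 z.1 z.2 c
  have hinj : Function.Injective (f.baseChange p.ResidueField) := by
    rw [injective_iff_map_eq_zero]
    intro x hx
    have hx' : f.lTensor p.ResidueField x = 0 := by
      rw [← LinearMap.baseChange_eq_ltensor]; exact hx
    obtain ⟨w, rfl⟩ := (hex2 x).mp hx'
    rw [hi0, LinearMap.zero_apply]
  exact Module.Finite.of_injective (f.baseChange p.ResidueField) hinj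

theorem quasiFiniteAt_of_finite_fiber [Algebra.FiniteType P S] (q : Ideal S) [q.IsPrime]
    (hfin : Module.Finite (q.under P).ResidueField ((q.under P).ResidueField ⊗[P] S)) :
    Algebra.QuasiFiniteAt P q := by
  let p : Ideal P := q.under P
  haveI : q.LiesOver p := ⟨rfl⟩
  let pp : PrimeSpectrum P := ⟨p, inferInstance⟩
  let e := PrimeSpectrum.preimageHomeomorphFiber P S pp
  let qq : PrimeSpectrum.comap (algebraMap P S) ⁻¹' {pp} := ⟨⟨q, inferInstance⟩, rfl⟩
  have hQ : (e qq).asIdeal.comap Algebra.TensorProduct.includeRight.toRingHom = q :=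
    congrArg PrimeSpectrum.asIdeal
      (Groth.Agent.Lib.Helper4.FibDim.comap_includeRight_preimageHomeomorphFiber p qq)
  haveI : Module.Finite p.ResidueField (p.Fiber S) := hfin
  haveI : Algebra.QuasiFinite p.ResidueField (p.Fiber S) := inferInstance
  haveI : Algebra.QuasiFiniteAt p.ResidueField (e qq).asIdeal := inferInstance
  exact Algebra.QuasiFiniteAt.of_quasiFiniteAt_residueField p q (e qq).asIdeal hQ

end QF

theorem exists_noether_normalization {A : Type u} [CommRing A] [IsLocalRing A] (S : Type u)
    [CommRing S] [Algebra A S] [Algebra.FiniteType A S]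
    (hne : (maximalIdeal A).map (algebraMap A S) ≠ ⊤) :
    ∃ (s : ℕ) (x : Fin s → S),
      ringKrullDim (S ⧸ (maximalIdeal A).map (algebraMap A S)) = s ∧
      ((Ideal.Quotient.mk ((maximalIdeal A).map (algebraMap A S))).comp
        (MvPolynomial.aeval x : MvPolynomial (Fin s) A →ₐ[A] S).toRingHom).Finite := by
  letI : Field (A ⧸ maximalIdeal A) := Ideal.Quotient.field _
  set mS : Ideal S := (maximalIdeal A).map (algebraMap A S) with hmS
  haveI : Nontrivial (S ⧸ mS) := Ideal.Quotient.nontrivial_iff.mpr hne
  haveI h1 : Algebra.FiniteType A (S ⧸ mS) :=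
    Algebra.FiniteType.of_surjective (Ideal.Quotient.mkₐ A mS) Ideal.Quotient.mk_surjective
  haveI : Algebra.FiniteType (A ⧸ maximalIdeal A) (S ⧸ mS) :=
    Algebra.FiniteType.of_restrictScalars_finiteType A (A ⧸ maximalIdeal A) (S ⧸ mS)
  obtain ⟨s, g, hinj, hfin⟩ := exists_finite_inj_algHom_of_fg (A ⧸ maximalIdeal A) (S ⧸ mS)
  choose x hx using fun i : Fin s => Ideal.Quotient.mk_surjective (g (MvPolynomial.X i))
  refine ⟨s, x, ?_, ?_⟩
  · exact Groth.Agent.Lib.Helper4.TensorDim.ringKrullDim_eq_of_integral_injective _ _ s g hinj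
      hfin.to_isIntegral
  · have hcomp : (Ideal.Quotient.mk mS).comp
        (MvPolynomial.aeval x : MvPolynomial (Fin s) A →ₐ[A] S).toRingHom =
        g.toRingHom.comp (MvPolynomial.map (Ideal.Quotient.mk (maximalIdeal A))) := by
      apply MvPolynomial.ringHom_ext
      · intro a
        simp only [AlgHom.toRingHom_eq_coe, RingHom.coe_comp, RingHom.coe_coe, Function.comp_apply,
          MvPolynomial.aeval_C, MvPolynomial.map_C]
        rw [← MvPolynomial.algebraMap_eq, AlgHom.commutes]
        rfl
      · intro i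
        simp only [AlgHom.toRingHom_eq_coe, RingHom.coe_comp, RingHom.coe_coe, Function.comp_apply,
          MvPolynomial.aeval_X, MvPolynomial.map_X, hx]
    rw [hcomp]
    exact RingHom.Finite.comp (show g.toRingHom.Finite from hfin) (RingHom.Finite.of_surjective _
      (MvPolynomial.map_surjective _ Ideal.Quotient.mk_surjective))

end Groth.Agent.Lib.Helper22.VC
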