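import Mathlib
import Groth.Agent.Lib.Helper22VC11

/-!
# Valuative criterion of flatness, part 12 (helper22): the induction on the fibre dimension

`flatAt_of_test`: for a reduced Noetherian local ring `A`, a finite type `A`-algebra `S`, a prime `𝔫`
of `S` over the maximal ideal and a finite `S`-module `N`: if `N` passes the DVR test at `𝔫`, then
`N_𝔫` is flat over `A`.
-/

set_option autoImplicit false
set_option linter.style.haveILetI false
set_option linter.unusedSectionVars false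
universe u

namespace Groth.Agent.Lib.Helper22.VC

open TensorProduct IsLocalRing

attribute [local instance] Algebra.TensorProduct.rightAlgebra

section ringHom

theorem TFAt.of_algebraMap {A' : Type u} [CommRing A'] {R' R₂' : Type u} [CommRing R']
    [CommRing R₂'] [Algebra A' R'] [Algebra R' R₂'] [Algebra A' R₂'] [IsScalarTower A' R' R₂']
    {M₁ M₂ : Type u} [AddCommGroup M₁] [Module R' M₁] [AddCommGroup M₂] [Module R₂' M₂]
    (𝔮₂ : Ideal R₂') (θ : M₂ →+ M₁) (hθ : Function.Injective θ)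
    (hθs : ∀ (s : R') (z : M₂), θ (algebraMap R' R₂' s • z) = s • θ z)
    (h : TFAt A' (𝔮₂.comap (algebraMap R' R₂')) M₁) : TFAt A' 𝔮₂ M₂ := by
  intro a ha z hz
  obtain ⟨s, hs, hsz⟩ := h a ha (θ z)
    (by rw [← hθs, ← IsScalarTower.algebraMap_apply, hz, map_zero])
  exact ⟨algebraMap R' R₂' s, hs, hθ (by rw [hθs, hsz, map_zero])⟩

variable {A : Type u} [CommRing A] [IsLocalRing A]
  {R R₂ : Type u} [CommRing R] [CommRing R₂] [Algebra A R] [Algebra A R₂]
  [Algebra R R₂] [IsScalarTower A R R₂] (𝔯₂ : Ideal R₂) [𝔯₂.IsPrime] (N : Type u) [AddCommGroup N]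
  [Module R₂ N] [Module R N] [IsScalarTower R R₂ N]

/-- The test passes from `R` to an `R`-algebra `R₂`, for an `R₂`-module. -/
theorem Test.of_algebraMap (h : Test A (𝔯₂.comap (algebraMap R R₂)) N) : Test A 𝔯₂ N := by
  intro A' _ _ _ _ _ R₂' _ _ _ _ _ _ _ 𝔮₂ _ h1 h2
  haveI : Algebra.IsPushout A A' R₂ ((A' ⊗[A] R) ⊗[R] R₂) := isPushout_tensor
  refine TFAt.of_model (A := A) (R'₁ := (A' ⊗[A] R) ⊗[R] R₂) N 𝔮₂ ?_
  intro 𝔮₁ h𝔮₁ hc1 hc2
  haveI := h𝔮₁
  have hT : TFAt A' (𝔮₁.comap (algebraMap (A' ⊗[A] R) ((A' ⊗[A] R) ⊗[R] R₂)))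
      ((A' ⊗[A] R) ⊗[R] N) := by
    refine h A' (A' ⊗[A] R) _ ?_ ?_
    · rw [Ideal.comap_comap, ← IsScalarTower.algebraMap_eq,
        IsScalarTower.algebraMap_eq R R₂ ((A' ⊗[A] R) ⊗[R] R₂), ← Ideal.comap_comap, hc1, h1]
    · rw [Ideal.map_le_iff_le_comap, Ideal.comap_comap, ← IsScalarTower.algebraMap_eq, hc2,
        ← Ideal.map_le_iff_le_comap]
      exact h2
  let e := Algebra.IsPushout.cancelBaseChange R (A' ⊗[A] R) R₂ ((A' ⊗[A] R) ⊗[R] R₂) N
  refine TFAt.of_algebraMap 𝔮₁ (e : ((A' ⊗[A] R) ⊗[R] R₂) ⊗[R₂] N →+ (A' ⊗[A] R) ⊗[R] N)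
    e.injective ?_ hT
  intro s z
  change e (algebraMap _ _ s • z) = s • e z
  rw [algebraMap_smul, map_smul]

end ringHom

theorem Core.mono {A : Type u} [CommRing A] [IsLocalRing A] {s n : ℕ} (h : s ≤ n) (hc : Core A n) :
    Core A s := by
  intro S _ _ _ 𝔫 _ h𝔫 N _ _ _ _ _ hdim hT
  refine hc S 𝔫 h𝔫 N (lt_of_lt_of_le hdim ?_) hT
  exact_mod_cast h

set_option maxHeartbeats 4000000 in
theorem core_step {A : Type u} [CommRing A] [IsLocalRing A] [IsNoetherianRing A] [IsReduced A]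
    (hA : ¬ IsField A) (n : ℕ) (ih : Core A n)
    (S : Type u) [CommRing S] [Algebra A S] [Algebra.FiniteType A S] (𝔫 : Ideal S) [𝔫.IsPrime]
    (h𝔫 : (maximalIdeal A).map (algebraMap A S) ≤ 𝔫)
    (N : Type u) [AddCommGroup N] [Module S N] [Module A N] [IsScalarTower A S N]
    [Module.Finite S N]
    (hdim : ringKrullDim (S ⧸ (maximalIdeal A).map (algebraMap A S)) < ((n + 1 : ℕ) : WithBot ℕ∞))
    (hT : Test A 𝔫 N) : FlatAt A 𝔫.primeCompl N := by
  have hne : (maximalIdeal A).map (algebraMap A S) ≠ ⊤ := fun h =>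
    (inferInstance : 𝔫.IsPrime).ne_top (top_le_iff.mp (h ▸ h𝔫))
  obtain ⟨s, x, hs, hfin⟩ := exists_noether_normalization S hne
  have hsn : s ≤ n := by
    rw [hs] at hdim
    have : (s : ℕ∞) < ((n + 1 : ℕ) : ℕ∞) := by exact_mod_cast hdim
    have : s < n + 1 := by exact_mod_cast this
    omega
  have hcore : Core A s := Core.mono hsn ih
  -- `S` as an algebra over the polynomial ring
  let φ : MvPolynomial (Fin s) A →ₐ[A] S := MvPolynomial.aeval x
  letI algPS : Algebra (MvPolynomial (Fin s) A) S := φ.toRingHom.toAlgebra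
  haveI : IsScalarTower A (MvPolynomial (Fin s) A) S :=
    IsScalarTower.of_algebraMap_eq (fun a => (φ.commutes a).symm)
  haveI : Algebra.FiniteType (MvPolynomial (Fin s) A) S :=
    Algebra.FiniteType.of_restrictScalars_finiteType A _ S
  set K : Ideal (MvPolynomial (Fin s) A) :=
    (maximalIdeal A).map (algebraMap A (MvPolynomial (Fin s) A)) with hK
  have hKS : K.map (algebraMap (MvPolynomial (Fin s) A) S) =
      (maximalIdeal A).map (algebraMap A S) := by
    rw [hK, Ideal.map_map, ← IsScalarTower.algebraMap_eq]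
  haveI : Module.Finite (MvPolynomial (Fin s) A)
      (S ⧸ K.map (algebraMap (MvPolynomial (Fin s) A) S)) := by
    rw [hKS]
    have : (algebraMap (MvPolynomial (Fin s) A)
        (S ⧸ (maximalIdeal A).map (algebraMap A S))).Finite := hfin
    exact RingHom.finite_algebraMap.mp this
  have hKp : K ≤ 𝔫.under (MvPolynomial (Fin s) A) := by
    rw [hK, Ideal.map_le_iff_le_comap]
    intro a ha
    show algebraMap (MvPolynomial (Fin s) A) S (algebraMap A _ a) ∈ 𝔫
    rw [← IsScalarTower.algebraMap_apply]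
    exact h𝔫 (Ideal.mem_map_of_mem _ ha)
  have hfinfib := finite_fiber_of_finite_quotient (S := S) K
    (𝔫.under (MvPolynomial (Fin s) A)) hKp
  haveI : Algebra.QuasiFiniteAt (MvPolynomial (Fin s) A) 𝔫 :=
    quasiFiniteAt_of_finite_fiber 𝔫 hfinfib
  haveI : 𝔫.LiesOver (𝔫.under (MvPolynomial (Fin s) A)) := ⟨rfl⟩
  obtain ⟨P', _, _, _, 𝔭', _, _, e, he, 𝔔, _, _, h𝔔𝔫, he𝔔, -, hfinT, huniq⟩ :=
    Algebra.exists_etale_isIdempotentElem_forall_liesOver_eq
      (𝔫.under (MvPolynomial (Fin s) A)) 𝔫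
  letI algAP' : Algebra A P' :=
    ((algebraMap (MvPolynomial (Fin s) A) P').comp (algebraMap A (MvPolynomial (Fin s) A))).toAlgebra
  haveI : IsScalarTower A (MvPolynomial (Fin s) A) P' := IsScalarTower.of_algebraMap_eq (fun _ => rfl)
  haveI : Algebra.FiniteType A P' := Algebra.FiniteType.trans (S := MvPolynomial (Fin s) A) inferInstance inferInstance
  haveI : Module.Flat A P' := Module.Flat.trans A (MvPolynomial (Fin s) A) P'
  haveI : IsReduced P' := Groth.Agent.Lib.Helper3.EtRed.isReduced_of_etale (MvPolynomial (Fin s) A) P'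
  have h𝔭' : (maximalIdeal A).map (algebraMap A P') ≤ 𝔭' := by
    rw [IsScalarTower.algebraMap_eq A (MvPolynomial (Fin s) A) P', ← Ideal.map_map,
      Ideal.map_le_iff_le_comap]
    rw [← hK]
    have := 𝔭'.over_def (𝔫.under (MvPolynomial (Fin s) A))
    rw [← Ideal.under_def, ← this]
    exact hKp
  -- the ring `T_e`
  let T := P' ⊗[MvPolynomial (Fin s) A] S
  let Te := Localization.Away e
  haveI : IsScalarTower A S T := inferInstance
  haveI : IsScalarTower A P' T := inferInstance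
  haveI : IsScalarTower A S Te := inferInstance
  haveI : IsScalarTower A P' Te := inferInstance
  haveI : IsScalarTower S T Te := inferInstance
  haveI : IsScalarTower P' T Te := inferInstance
  haveI : Module.Flat S T := by
    have hpo : Algebra.IsPushout (MvPolynomial (Fin s) A) S P' T := inferInstance
    exact Module.Flat.isBaseChange (MvPolynomial (Fin s) A) S P' T hpo.out
  haveI : Module.Flat S Te := Module.Flat.trans S T Te
  have hdisj : Disjoint (Submonoid.powers e : Set T) (𝔔 : Set T) := by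
    rw [Ideal.disjoint_powers_iff_notMem_of_isPrime]; exact he𝔔
  let 𝔔e : Ideal Te := 𝔔.map (algebraMap T Te)
  haveI : 𝔔e.IsPrime :=
    IsLocalization.isPrime_of_isPrime_disjoint (Submonoid.powers e) Te 𝔔 inferInstance hdisj
  have hcomapT : 𝔔e.comap (algebraMap T Te) = 𝔔 :=
    IsLocalization.under_map_of_isPrime_disjoint (Submonoid.powers e) Te inferInstance hdisj
  have hcomapS : 𝔔e.comap (algebraMap S Te) = 𝔫 := by
    rw [IsScalarTower.algebraMap_eq S T Te, ← Ideal.comap_comap, hcomapT]; exact h𝔔𝔫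
  have hcomapP' : 𝔔e.comap (algebraMap P' Te) = 𝔭' := by
    rw [IsScalarTower.algebraMap_eq P' T Te, ← Ideal.comap_comap, hcomapT]
    exact (𝔔.over_def 𝔭').symm
  -- the module `N'`
  haveI : Module.Finite P' Te := hfinT
  haveI : Module.Finite P' (Te ⊗[S] N) := Module.Finite.trans Te (Te ⊗[S] N)
  haveI : Algebra.IsIntegral P' Te := Algebra.IsIntegral.of_finite P' Te
  have huniq' : ∀ 𝔵 : Ideal Te, 𝔵.IsPrime → 𝔵.comap (algebraMap P' Te) = 𝔭' → 𝔵 = 𝔔e := by
    intro 𝔵 h𝔵 hc
    haveI := h𝔵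
    have h1 : 𝔵.comap (algebraMap T Te) = 𝔔 := by
      refine huniq _ inferInstance ⟨?_⟩ ?_
      · rw [Ideal.under_def, Ideal.comap_comap, ← IsScalarTower.algebraMap_eq]; exact hc.symm
      · intro hmem
        exact h𝔵.ne_top (Ideal.eq_top_of_isUnit_mem _ hmem
          (IsLocalization.Away.algebraMap_isUnit e))
    have h2 := IsLocalization.map_under (Submonoid.powers e) Te 𝔵
    rw [Ideal.under_def, h1] at h2
    exact h2.symm
  have hT1 : Test A 𝔔e (Te ⊗[S] N) := Test.baseChange_of_flat 𝔔e N (by rw [hcomapS]; exact hT)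
  have hT2 : Test A 𝔭' (Te ⊗[S] N) := Test.of_integral 𝔭' 𝔔e (Te ⊗[S] N) huniq' hT1
  have hF1 : FlatAt A 𝔭'.primeCompl (Te ⊗[S] N) := by
    obtain ⟨D, _, _, _, hD1, hD2, hVL, hfrac, hneD⟩ := exists_fibreData s 𝔭' h𝔭'
    have hdim' : ∀ g : P', ringKrullDim (Localization.Away g ⧸
        (maximalIdeal A).map (algebraMap A (Localization.Away g))) ≤ s :=
      fun g => ringKrullDim_fibre_le_of_quasiFinite s (Localization.Away g)
    have htors : ∀ (N'' : Type u) [AddCommGroup N''] [Module P' N''] [Module A N'']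
        [IsScalarTower A P' N''] [Module.Finite P' N''],
        Module.IsTorsion D (D ⊗[P'] N'') → Test A 𝔭' N'' → FlatAt A 𝔭'.primeCompl N'' := by
      intro N'' _ _ _ _ _ htor hT''
      exact flatAt_of_isTorsion 𝔭' s hcore h𝔭' hdim' hD1 hD2 hVL hfrac hneD N'' htor hT''
    exact flatAt_of_finrank_le 𝔭' hA h𝔭' hD1 hD2 htors (Module.finrank D (D ⊗[P'] (Te ⊗[S] N)))
      (Te ⊗[S] N) le_rfl hT2
  have hF2 : FlatAt A 𝔔e.primeCompl (Te ⊗[S] N) := FlatAt.push hF1 (by
    intro c hc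
    show algebraMap P' Te c ∉ 𝔔e
    intro h
    apply hc
    show c ∈ 𝔭'
    rw [← hcomapP']
    exact h)
  have hF3 := FlatAt.of_flat_baseChange 𝔔e N hF2
  intro J z hz
  obtain ⟨c, hc, hcz⟩ := hF3 J z hz
  refine ⟨c, ?_, hcz⟩
  show c ∉ 𝔫
  intro h
  apply hc
  show c ∈ 𝔔e.comap (algebraMap S Te)
  rw [hcomapS]
  exact h

set_option maxHeartbeats 1000000 in
theorem core_all {A : Type u} [CommRing A] [IsLocalRing A] [IsNoetherianRing A] [IsReduced A]
    (n : ℕ) : Core A n := by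
  by_cases hA : IsField A
  · intro S _ _ _ 𝔫 _ h𝔫 N _ _ _ _ _ _ _
    letI := hA.toField
    exact FlatAt.of_flat
  induction n with
  | zero =>
    intro S _ _ _ 𝔫 _ h𝔫 N _ _ _ _ _ hdim hT
    by_cases hJ : Module.annihilator S N ≤ 𝔫
    · exfalso
      have hne : (maximalIdeal A).map (algebraMap A S) ⊔ Module.annihilator S N ≠ ⊤ := fun h =>
        (inferInstance : 𝔫.IsPrime).ne_top (top_le_iff.mp (h ▸ sup_le h𝔫 hJ))
      haveI : Nontrivial (S ⧸ ((maximalIdeal A).map (algebraMap A S) ⊔ Module.annihilator S N)) :=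
        Ideal.Quotient.nontrivial_iff.mpr hne
      have := ringKrullDim_nonneg_of_nontrivial
        (R := S ⧸ ((maximalIdeal A).map (algebraMap A S) ⊔ Module.annihilator S N))
      exact absurd (lt_of_le_of_lt this hdim) (by simp)
    · obtain ⟨b, hb, hb𝔫⟩ := SetLike.not_le_iff_exists.mp hJ
      exact FlatAt.of_smul_eq_zero b hb𝔫 (fun m => Module.mem_annihilator.mp hb m)
  | succ n ih =>
    intro S _ _ _ 𝔫 _ h𝔫 N _ _ _ _ _ hdim hT
    by_cases hJ : Module.annihilator S N ≤ 𝔫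
    · set Ann : Ideal S := Module.annihilator S N with hAnn
      letI modS₁ : Module (S ⧸ Ann) N := Module.quotientAnnihilator
      haveI : IsScalarTower S (S ⧸ Ann) N := (Module.isTorsionBySet_annihilator S N).isScalarTower
      haveI : IsScalarTower A (S ⧸ Ann) N := (Module.isTorsionBySet_annihilator S N).isScalarTower
      haveI : Module.Finite (S ⧸ Ann) N := Module.Finite.of_restrictScalars_finite S (S ⧸ Ann) N
      haveI : Algebra.FiniteType A (S ⧸ Ann) :=
        Algebra.FiniteType.of_surjective (Ideal.Quotient.mkₐ A Ann) Ideal.Quotient.mk_surjective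
      let 𝔫₁ : Ideal (S ⧸ Ann) := 𝔫.map (Ideal.Quotient.mk Ann)
      haveI : 𝔫₁.IsPrime := Ideal.map_isPrime_of_surjective Ideal.Quotient.mk_surjective
        (by rw [Ideal.mk_ker]; exact hJ)
      have hcomap₁ : 𝔫₁.comap (algebraMap S (S ⧸ Ann)) = 𝔫 := by
        show (𝔫.map (Ideal.Quotient.mk Ann)).comap (Ideal.Quotient.mk Ann) = 𝔫
        rw [Ideal.comap_map_of_surjective _ Ideal.Quotient.mk_surjective, sup_eq_left]
        have : Ideal.comap (Ideal.Quotient.mk Ann) ⊥ = RingHom.ker (Ideal.Quotient.mk Ann) := rfl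
        rw [this, Ideal.mk_ker]
        exact hJ
      have hmap₁ : (maximalIdeal A).map (algebraMap A (S ⧸ Ann)) =
          ((maximalIdeal A).map (algebraMap A S)).map (Ideal.Quotient.mk Ann) := by
        rw [IsScalarTower.algebraMap_eq A S (S ⧸ Ann), ← Ideal.map_map]
        rfl
      have h𝔫₁ : (maximalIdeal A).map (algebraMap A (S ⧸ Ann)) ≤ 𝔫₁ := by
        rw [hmap₁]; exact Ideal.map_mono h𝔫
      have hdim₁ : ringKrullDim ((S ⧸ Ann) ⧸ (maximalIdeal A).map (algebraMap A (S ⧸ Ann))) <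
          ((n + 1 : ℕ) : WithBot ℕ∞) := by
        rw [hmap₁, ringKrullDim_eq_of_ringEquiv (DoubleQuot.quotQuotEquivQuotSup Ann _), sup_comm]
        exact hdim
      have hT₁ : Test A 𝔫₁ N := Test.of_algebraMap 𝔫₁ N (by rw [hcomap₁]; exact hT)
      have hF₁ := core_step hA n ih (S ⧸ Ann) 𝔫₁ h𝔫₁ N hdim₁ hT₁
      refine FlatAt.pull_of_surjective hF₁ Ideal.Quotient.mk_surjective ?_
      intro c hc
      show c ∉ 𝔫
      intro h
      apply hc
      show algebraMap S (S ⧸ Ann) c ∈ 𝔫₁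
      exact Ideal.mem_map_of_mem _ h
    · obtain ⟨b, hb, hb𝔫⟩ := SetLike.not_le_iff_exists.mp hJ
      exact FlatAt.of_smul_eq_zero b hb𝔫 (fun m => Module.mem_annihilator.mp hb m)


/-- **Valuative criterion of flatness, algebraic core.** -/
theorem flatAt_of_test {A : Type u} [CommRing A] [IsLocalRing A] [IsNoetherianRing A] [IsReduced A]
    (S : Type u) [CommRing S] [Algebra A S] [Algebra.FiniteType A S] (𝔫 : Ideal S) [𝔫.IsPrime]
    (h𝔫 : (maximalIdeal A).map (algebraMap A S) ≤ 𝔫)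
    (N : Type u) [AddCommGroup N] [Module S N] [Module A N] [IsScalarTower A S N]
    [Module.Finite S N] (hT : Test A 𝔫 N) : FlatAt A 𝔫.primeCompl N := by
  have hne : (maximalIdeal A).map (algebraMap A S) ≠ ⊤ := fun h =>
    (inferInstance : 𝔫.IsPrime).ne_top (top_le_iff.mp (h ▸ h𝔫))
  obtain ⟨s, x, hs, -⟩ := exists_noether_normalization S hne
  refine core_all (s + 1) S 𝔫 h𝔫 N ?_ hT
  refine lt_of_le_of_lt (ringKrullDim_le_of_surjective (Ideal.Quotient.factor le_sup_left)
    (Ideal.Quotient.factor_surjective _)) ?_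
  rw [hs]
  exact_mod_cast Nat.lt_succ_self s

end Groth.Agent.Lib.Helper22.VC
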