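import Mathlib
import Groth.Agent.Lib.Helper22VC12

/-!
# Valuative criterion of flatness, part 13 (helper22): ring-level statement over a chart

`flat_localization_of_forall_dvr`: `B` of finite type over `R`, `𝔮x` a prime of `B`, `A` the (reduced,
Noetherian) localization of `R` at the prime below `𝔮x`.  If for every DVR `A'` with a local map
`A → A'` the ring `B ⊗[R] A'` is flat over `A'` at all primes over `𝔮x` and the closed point, then
`B_𝔮x` is flat over `R`.
-/

set_option autoImplicit false
set_option linter.style.haveILetI false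
set_option linter.unusedSectionVars false
universe u

namespace Groth.Agent.Lib.Helper22.VC
open TensorProduct IsLocalRing

attribute [local instance] Algebra.TensorProduct.rightAlgebra

/-- flat over a domain implies torsion-free at the prime -/
theorem TFAt.of_flat_localization {A' R' : Type u} [CommRing A'] [IsDomain A'] [CommRing R']
    [Algebra A' R'] (𝔮 : Ideal R') [𝔮.IsPrime] [Module.Flat A' (Localization.AtPrime 𝔮)] :
    TFAt A' 𝔮 R' := by
  intro a ha z hz
  have h1 : a • (algebraMap R' (Localization.AtPrime 𝔮) z) = 0 := by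
    rw [Algebra.smul_def, IsScalarTower.algebraMap_apply A' R' (Localization.AtPrime 𝔮), ← map_mul,
      ← smul_eq_mul, hz, map_zero]
  have hreg : IsSMulRegular (Localization.AtPrime 𝔮) a :=
    Module.Flat.isSMulRegular_of_nonZeroDivisors (mem_nonZeroDivisors_of_ne_zero ha)
  have h2 : algebraMap R' (Localization.AtPrime 𝔮) z = 0 := hreg (by simp only [h1, smul_zero])
  obtain ⟨s, hs⟩ := (IsLocalization.map_eq_zero_iff 𝔮.primeCompl (Localization.AtPrime 𝔮) z).mp h2
  exact ⟨s.1, s.2, by rw [smul_eq_mul]; exact hs⟩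

end Groth.Agent.Lib.Helper22.VC

namespace Groth.Agent.Lib.Helper22.VC
open TensorProduct IsLocalRing

attribute [local instance] Algebra.TensorProduct.rightAlgebra

set_option maxHeartbeats 2000000 in
theorem flat_localization_of_forall_dvr {R B A : Type u} [CommRing R] [CommRing B] [CommRing A]
    [Algebra R B] [Algebra.FiniteType R B] [Algebra R A]
    (𝔮x : Ideal B) [𝔮x.IsPrime] [IsLocalization.AtPrime A (𝔮x.comap (algebraMap R B))]
    [IsNoetherianRing A] [IsReduced A]
    (H : ∀ (A' : Type u) [CommRing A'] [IsDomain A'] [IsDiscreteValuationRing A'] [Algebra A A']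
      [IsLocalHom (algebraMap A A')] [Algebra R A'] [IsScalarTower R A A'],
      ∀ (q : Ideal (B ⊗[R] A')) [q.IsPrime], q.comap (algebraMap B (B ⊗[R] A')) = 𝔮x →
        q.comap (algebraMap A' (B ⊗[R] A')) = maximalIdeal A' →
        Module.Flat A' (Localization.AtPrime q)) :
    Module.Flat R (Localization.AtPrime 𝔮x) := by
  set 𝔭y := 𝔮x.comap (algebraMap R B) with h𝔭y
  haveI : IsLocalRing A := IsLocalization.AtPrime.isLocalRing A 𝔭y
  let S := A ⊗[R] B
  let M : Submonoid B := Algebra.algebraMapSubmonoid B 𝔭y.primeCompl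
  haveI : IsLocalization M S := inferInstance
  have hdisj : Disjoint (M : Set B) (𝔮x : Set B) := by
    rw [Set.disjoint_left]
    rintro _ ⟨r, hr, rfl⟩ hmem
    exact hr hmem
  let 𝔫 : Ideal S := 𝔮x.map (algebraMap B S)
  haveI : 𝔫.IsPrime := IsLocalization.isPrime_of_isPrime_disjoint M S 𝔮x inferInstance hdisj
  have hcomap𝔫 : 𝔫.comap (algebraMap B S) = 𝔮x :=
    IsLocalization.under_map_of_isPrime_disjoint M S inferInstance hdisj
  have h𝔫 : (maximalIdeal A).map (algebraMap A S) ≤ 𝔫 := by
    rw [← IsLocalization.AtPrime.map_eq_maximalIdeal 𝔭y A, Ideal.map_map,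
      ← IsScalarTower.algebraMap_eq, IsScalarTower.algebraMap_eq R B S, ← Ideal.map_map]
    exact Ideal.map_mono Ideal.map_comap_le
  have hTest : Test A 𝔫 S := by
    intro A' _ _ _ _ _ R' _ _ _ _ _ _ _ 𝔮 _ h1 h2
    letI algRA' : Algebra R A' := ((algebraMap A A').comp (algebraMap R A)).toAlgebra
    haveI : IsScalarTower R A A' := IsScalarTower.of_algebraMap_eq (fun _ => rfl)
    letI algAT' : Algebra A (B ⊗[R] A') :=
      ((algebraMap A' (B ⊗[R] A')).comp (algebraMap A A')).toAlgebra
    haveI : IsScalarTower A A' (B ⊗[R] A') := IsScalarTower.of_algebraMap_eq (fun _ => rfl)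
    let ψ : S →ₐ[R] B ⊗[R] A' :=
      (Algebra.TensorProduct.map (AlgHom.id R B) (IsScalarTower.toAlgHom R A A')).comp
        (Algebra.TensorProduct.comm R A B).toAlgHom
    letI algST' : Algebra S (B ⊗[R] A') := ψ.toRingHom.toAlgebra
    have hψ : ∀ (a : A) (b : B), algebraMap S (B ⊗[R] A') (a ⊗ₜ b) = b ⊗ₜ (algebraMap A A' a) :=
      fun a b => rfl
    haveI : IsScalarTower A S (B ⊗[R] A') := IsScalarTower.of_algebraMap_eq (fun a => by
      rw [Algebra.TensorProduct.algebraMap_apply, hψ, Algebra.algebraMap_self, RingHom.id_apply]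
      rfl)
    haveI : IsScalarTower R S (B ⊗[R] A') := IsScalarTower.of_algebraMap_eq (fun r => by
      exact (ψ.commutes r).symm)
    haveI : IsScalarTower B S (B ⊗[R] A') := IsScalarTower.of_algebraMap_eq (fun b => by
      rw [Algebra.TensorProduct.right_algebraMap_apply, hψ, map_one]
      rfl)
    haveI hpo : Algebra.IsPushout A A' S (B ⊗[R] A') :=
      (Algebra.IsPushout.comp_iff R A B S (T := A') (T' := B ⊗[R] A')).mp inferInstance
    refine TFAt.of_model (A := A) (R'₁ := B ⊗[R] A') S 𝔮 ?_
    intro 𝔮₁ h𝔮₁ hc1 hc2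
    haveI := h𝔮₁
    haveI : Module.Flat A' (Localization.AtPrime 𝔮₁) := by
      refine H A' 𝔮₁ ?_ ?_
      · rw [IsScalarTower.algebraMap_eq B S (B ⊗[R] A'), ← Ideal.comap_comap, hc1, h1, hcomap𝔫]
      · rw [hc2]
        refine le_antisymm (IsLocalRing.le_maximalIdeal (Ideal.IsPrime.ne_top inferInstance)) ?_
        exact Ideal.map_le_iff_le_comap.mp h2
    have hTF := TFAt.of_flat_localization (A' := A') 𝔮₁
    exact TFAt.of_injective (TensorProduct.AlgebraTensorModule.rid S (B ⊗[R] A')
      (B ⊗[R] A')).toLinearMap (LinearEquiv.injective _) hTF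
  have hF := flatAt_of_test S 𝔫 h𝔫 S hTest
  have hflat : Module.Flat A (Localization.AtPrime 𝔫) := hF.flat
  haveI : Module.Flat R A := IsLocalization.flat A 𝔭y.primeCompl
  have hflatR : Module.Flat R (Localization.AtPrime 𝔫) := Module.Flat.trans R A _
  haveI h1 : IsLocalization.AtPrime (Localization.AtPrime 𝔫) (𝔫.comap (algebraMap B S)) :=
    IsLocalization.isLocalization_isLocalization_atPrime_isLocalization M (Localization.AtPrime 𝔫) 𝔫
  have hM : (𝔫.comap (algebraMap B S)).primeCompl = 𝔮x.primeCompl := by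
    ext x
    simp only [Ideal.mem_primeCompl_iff, hcomap𝔫]
  haveI h1' : IsLocalization 𝔮x.primeCompl (Localization.AtPrime 𝔫) := hM ▸ h1
  let e : Localization.AtPrime 𝔮x ≃ₐ[B] Localization.AtPrime 𝔫 :=
    IsLocalization.algEquiv 𝔮x.primeCompl _ _
  exact Module.Flat.of_linearEquiv (e.toLinearEquiv.restrictScalars R)

end Groth.Agent.Lib.Helper22.VC
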