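import Mathlib
import Groth.Agent.Lib.Helper22VC13
import Groth.Agent.Lib.Helper25FlatBC

/-!
# Valuative criterion of flatness, part 14 (helper22): the scheme-level statement

`flat_stalkMap_of_forall_dvr`: EGA IV 11.8.1, the direction "flat after all DVR base changes implies
flat", for `f` locally of finite presentation and `O_{Y,y}` reduced Noetherian.
-/

set_option autoImplicit false
set_option linter.style.haveILetI false
set_option linter.unusedSectionVars false
universe u

open CategoryTheory CategoryTheory.Limits AlgebraicGeometry TensorProduct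

namespace Groth.Agent.Lib.Helper22.VC

open Groth.Agent.Lib.Helper20.EtLocal Groth.Agent.Lib.Helper20.FlatDesc
open Groth.Agent.Lib.Helper25.FlatBC

set_option maxHeartbeats 2000000 in
theorem flat_stalkMap_of_forall_dvr {X Y : Scheme.{u}} (f : X ⟶ Y) [LocallyOfFinitePresentation f]
    (x : X) [IsNoetherianRing (Y.presheaf.stalk (f.base x))]
    [_root_.IsReduced (Y.presheaf.stalk (f.base x))]
    (H : ∀ (A' : Type u) [CommRing A'] [IsDomain A'] [IsDiscreteValuationRing A']
        (φ : (Y.presheaf.stalk (f.base x) : Type u) →+* A') [IsLocalHom φ],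
        ∀ x' : ↥(pullback f (Spec.map (CommRingCat.ofHom φ) ≫ Y.fromSpecStalk (f.base x))),
          (pullback.fst f _).base x' = x →
          (pullback.snd f _).base x' = IsLocalRing.closedPoint A' →
          ((pullback.snd f (Spec.map (CommRingCat.ofHom φ) ≫
            Y.fromSpecStalk (f.base x))).stalkMap x').hom.Flat) :
    (f.stalkMap x).hom.Flat := by
  obtain ⟨_, ⟨W, hW, rfl⟩, hyW, -⟩ := Y.isBasis_affineOpens.exists_subset_of_mem_open
    (Set.mem_univ (f x)) isOpen_univ
  obtain ⟨_, ⟨V, hV, rfl⟩, hxV, hVW⟩ := X.isBasis_affineOpens.exists_subset_of_mem_open hyW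
    (W.2.preimage f.continuous)
  algebraize [(f.appLE W V hVW).hom]
  rw [flat_stalkMap_iff_chart' W hW V hV hVW hxV]
  letI algRA : Algebra Γ(Y, W) (Y.presheaf.stalk (f x)) :=
    Y.presheaf.algebra_section_stalk ⟨f x, hyW⟩
  have hloc := hW.isLocalization_stalk ⟨f x, hyW⟩
  have hcomap : (hV.primeIdealOf ⟨x, hxV⟩).asIdeal.comap (algebraMap Γ(Y, W) Γ(X, V)) =
      (hW.primeIdealOf ⟨f x, hyW⟩).asIdeal :=
    congr($(IsAffineOpen.comap_primeIdealOf_appLE W hW V hV hVW hxV).1)
  haveI : IsLocalization.AtPrime (Y.presheaf.stalk (f x))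
      ((hV.primeIdealOf ⟨x, hxV⟩).asIdeal.comap (algebraMap Γ(Y, W) Γ(X, V))) := by
    have hM : (hW.primeIdealOf ⟨f x, hyW⟩).asIdeal.primeCompl =
        ((hV.primeIdealOf ⟨x, hxV⟩).asIdeal.comap (algebraMap Γ(Y, W) Γ(X, V))).primeCompl := by
      ext r
      simp only [Ideal.mem_primeCompl_iff, hcomap]
    have h1 : IsLocalization (hW.primeIdealOf ⟨f x, hyW⟩).asIdeal.primeCompl
        (Y.presheaf.stalk (f x)) := hloc
    show IsLocalization ((hV.primeIdealOf ⟨x, hxV⟩).asIdeal.comap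
      (algebraMap Γ(Y, W) Γ(X, V))).primeCompl (Y.presheaf.stalk (f x))
    rw [← hM]
    exact h1
  haveI : Algebra.FiniteType Γ(Y, W) Γ(X, V) := f.finiteType_appLE hW hV hVW
  refine flat_localization_of_forall_dvr (A := Y.presheaf.stalk (f x))
    (hV.primeIdealOf ⟨x, hxV⟩).asIdeal ?_
  intro A' _ _ _ _ _ _ _ q _ hqB hqA'
  let _ : Algebra A' (Γ(X, V) ⊗[Γ(Y, W)] A') := Algebra.TensorProduct.rightAlgebra
  let φ : (Y.presheaf.stalk (f x) : Type u) →+* A' := algebraMap (Y.presheaf.stalk (f x)) A'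
  let g : Spec (CommRingCat.of A') ⟶ Y := Spec.map (CommRingCat.ofHom φ) ≫ Y.fromSpecStalk (f x)
  have e₁ : Spec.map (CommRingCat.ofHom (algebraMap Γ(Y, W) Γ(X, V))) ≫ hW.fromSpec =
      hV.fromSpec ≫ f := IsAffineOpen.SpecMap_appLE_fromSpec f hW hV hVW
  have e₂ : Spec.map (CommRingCat.ofHom (algebraMap Γ(Y, W) A')) ≫ hW.fromSpec =
      𝟙 (Spec (CommRingCat.of A')) ≫ g := by
    rw [Category.id_comp]
    simp only [g]
    rw [← hW.fromSpecStalk_eq_fromSpecStalk hyW]
    unfold IsAffineOpen.fromSpecStalk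
    rw [← Category.assoc, ← Spec.map_comp]
    congr 2
    ext r
    exact IsScalarTower.algebraMap_apply Γ(Y, W) (Y.presheaf.stalk (f x)) A' r
  let j0 := pullback.map _ _ f g hV.fromSpec (𝟙 (Spec (CommRingCat.of A'))) hW.fromSpec e₁ e₂
  let j := (pullbackSpecIso Γ(Y, W) Γ(X, V) A').inv ≫ j0
  have hj1 : j ≫ pullback.fst f g =
      Spec.map (CommRingCat.ofHom (algebraMap Γ(X, V) (Γ(X, V) ⊗[Γ(Y, W)] A'))) ≫
        hV.fromSpec := by
    simp only [j, j0, Category.assoc, pullback.lift_fst, pullback.map]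
    rw [← Category.assoc, pullbackSpecIso_inv_fst']
  have hj2 : j ≫ pullback.snd f g =
      Spec.map (CommRingCat.ofHom (algebraMap A' (Γ(X, V) ⊗[Γ(Y, W)] A'))) := by
    simp only [j, j0, Category.assoc, pullback.lift_snd, pullback.map, Category.comp_id]
    rw [pullbackSpecIso_inv_snd]
    rfl
  have : IsOpenImmersion hW.fromSpec := hW.isOpenImmersion_fromSpec
  have : IsOpenImmersion hV.fromSpec := hV.isOpenImmersion_fromSpec
  have : IsOpenImmersion j0 := inferInstance
  have : IsOpenImmersion j := inferInstance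
  let qq : Spec (CommRingCat.of (Γ(X, V) ⊗[Γ(Y, W)] A')) := ⟨q, inferInstance⟩
  have hfst : (pullback.fst f g).base (j qq) = x := by
    have h3 : pullback.fst f g (j qq) = hV.fromSpec ((Spec.map (CommRingCat.ofHom
        (algebraMap Γ(X, V) (Γ(X, V) ⊗[Γ(Y, W)] A')))) qq) := by
      rw [← Scheme.Hom.comp_apply, ← Scheme.Hom.comp_apply, hj1]
    have h4 : (Spec.map (CommRingCat.ofHom
        (algebraMap Γ(X, V) (Γ(X, V) ⊗[Γ(Y, W)] A')))) qq = hV.primeIdealOf ⟨x, hxV⟩ :=
      PrimeSpectrum.ext hqB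
    exact h3.trans (by rw [h4, hV.fromSpec_primeIdealOf])
  have hsnd : (pullback.snd f g).base (j qq) = IsLocalRing.closedPoint A' := by
    have h3 : pullback.snd f g (j qq) = (Spec.map (CommRingCat.ofHom
        (algebraMap A' (Γ(X, V) ⊗[Γ(Y, W)] A')))) qq := by
      rw [← Scheme.Hom.comp_apply, hj2]
    exact h3.trans (PrimeSpectrum.ext hqA')
  have hflat := H A' φ (j qq) hfst hsnd
  have hQ := RingHom.Flat.respectsIso
  have hA1 := (stalkMap_comp_iff_left hQ j (pullback.snd f g) qq).mpr hflat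
  have hA2 := (stalkMap_congr_iff (Q := RingHom.Flat) hj2 qq).mp hA1
  have hA3 := (hQ.arrow_mk_iso_iff (Scheme.arrowStalkMapSpecIso (CommRingCat.ofHom
    (algebraMap A' (Γ(X, V) ⊗[Γ(Y, W)] A'))) qq)).mp hA2
  exact (flat_localRingHom_iff (A := A') q).mp hA3

end Groth.Agent.Lib.Helper22.VC
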