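import Mathlib
import Groth.Prelude.Def_EGA43
import Groth.Prelude.Def_FDesc
import Groth.Agent.Lib.Helper22VC14
import Groth.Agent.Lib.Helper22SC6
import Groth.Agent.Lib.Helper10DVRFibre7

/-!
# Valuative criterion of flatness, part 15 (helper22): EGA IV 15.2.2 / 15.2.3

`flat_stalkMap_of_isUnivOpenAt_of_geomReducedAt`: `Y` locally Noetherian, `f` locally of finite type,
universally open at the maximal points of the fibre through `x`, fibre geometrically reduced at `x`,
`O_{Y,y}` reduced: then `f` is flat at `x`.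
-/

set_option autoImplicit false
set_option linter.style.haveILetI false
universe u

open CategoryTheory CategoryTheory.Limits AlgebraicGeometry TensorProduct

namespace Groth.Agent.Lib.Helper22.VC

open Groth.Agent.Lib.Helper22.SC

section FibreGen

variable {X Y X' Y' : Scheme.{u}} {f : X ⟶ Y} {f' : X' ⟶ Y'} {g' : X' ⟶ X} {g : Y' ⟶ Y}

theorem flat_fiberMapY (sq : IsPullback g' f' f g) (y' : Y') : Flat (fiberMapY sq y') := by
  haveI : Flat (Spec.map (g.residueFieldMap y')) := by
    rw [Flat.SpecMap_iff]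
    letI : Algebra (Y.residueField (g y')) (Y'.residueField y') :=
      (g.residueFieldMap y').hom.toAlgebra
    show Module.Flat (Y.residueField (g y')) (Y'.residueField y')
    infer_instance
  exact MorphismProperty.of_isPullback (P := @Flat) (isPullback_fiberMapY sq y').flip
    inferInstance

/-- maximal points of a fibre of a base change map to maximal points of the fibre -/
theorem eq_of_specializes_of_maximal (sq : IsPullback g' f' f g) (ξ : X')
    (hξ : ∀ ξ' : X', f' ξ' = f' ξ → ξ' ⤳ ξ → ξ' = ξ)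
    (a' : X) (ha' : f a' = f (g' ξ)) (hsp : a' ⤳ g' ξ) : a' = g' ξ := by
  set s := f' ξ with hs
  have hgs : f (g' ξ) = g s := by
    rw [hs, ← Scheme.Hom.comp_apply, ← Scheme.Hom.comp_apply, sq.w]
  have hflat := flat_fiberMapY sq s
  have hgen : GeneralizingMap (fiberMapY sq s) := Flat.generalizingMap (fiberMapY sq s)
  -- `z` over `ξ`
  have hξr : ξ ∈ Set.range (f'.fiberι s) := by
    rw [Scheme.Hom.range_fiberι]; rfl
  obtain ⟨z, hz⟩ := hξr
  have ha'r : a' ∈ Set.range (f.fiberι (g s)) := by
    rw [Scheme.Hom.range_fiberι]; exact ha'.trans hgs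
  obtain ⟨w, hw⟩ := ha'r
  have hcomp : f.fiberι (g s) (fiberMapY sq s z) = g' ξ := by
    rw [← Scheme.Hom.comp_apply, fiberMapY_fiberι, Scheme.Hom.comp_apply, hz]
  have hwsp : w ⤳ fiberMapY sq s z := by
    rw [← (f.fiberι (g s)).isEmbedding.isInducing.specializes_iff, hw, hcomp]
    exact hsp
  obtain ⟨z'', hz''1, hz''2⟩ := hgen hwsp
  have h1 : f'.fiberι s z'' = ξ := by
    apply hξ
    · have : f'.fiberι s z'' ∈ Set.range (f'.fiberι s) := ⟨z'', rfl⟩
      rw [Scheme.Hom.range_fiberι] at this
      exact this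
    · rw [← hz]
      exact hz''1.map (f'.fiberι s).continuous
  have h2 : z'' = z := (f'.fiberι s).isEmbedding.injective (h1.trans hz.symm)
  rw [← hw, ← hz''2, h2, hcomp]

end FibreGen

end Groth.Agent.Lib.Helper22.VC

namespace Groth.Agent.Lib.Helper22.VC
open Groth.Agent.Lib.Helper22.SC

set_option maxHeartbeats 1000000 in
/-- the DVR case -/
theorem flat_stalkMap_of_dvr {X Y X' : Scheme.{u}}
    (f : X ⟶ Y) (x : X)
    (hopen' : ∀ a : X, f a = f x → a ⤳ x →
      (∀ a' : X, f a' = f x → a' ⤳ a → a' = a) → EGA43.IsUnivOpenAt f a)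
    (hred : FBase.IsGeomReducedAt (f.fiberToSpecResidueField (f.base x)) (f.asFiber x))
    (A' : Type u) [CommRing A'] [IsDomain A'] [IsDiscreteValuationRing A']
    (g : Spec (CommRingCat.of A') ⟶ Y) (g' : X' ⟶ X) (f' : X' ⟶ Spec (CommRingCat.of A'))
    [LocallyOfFiniteType f']
    (sq : IsPullback g' f' f g) (x' : X')
    (hx1 : g' x' = x)
    (hx2 : f' x' = IsLocalRing.closedPoint A') :
    (f'.stalkMap x').hom.Flat := by
  have hsq : ∀ p : X', f (g' p) = g (f' p) := fun p => by
    rw [← Scheme.Hom.comp_apply, ← Scheme.Hom.comp_apply, sq.w]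
  have hfx : f x = g (f' x') := by
    rw [← hsq]
    exact congrArg f hx1.symm
  refine Groth.Agent.Lib.Helper10.DVRFibre.flat_stalkMap_of_isOpenAt f' x' hx2 ?_ ?_
  · intro z hz1 hz2 U hU
    have hξs : f' (f'.fiberι (f' x') z) = f' x' := by
      have : f'.fiberι (f' x') z ∈ Set.range (f'.fiberι (f' x')) := ⟨z, rfl⟩
      rw [Scheme.Hom.range_fiberι] at this
      exact this
    have hξx' : f'.fiberι (f' x') z ⤳ x' := by
      rw [← specializes_iff_mem_closure] at hz1
      have := hz1.map (f'.fiberι (f' x')).continuous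
      rwa [Scheme.Hom.fiberι_asFiber] at this
    have hξmax : ∀ ξ' : X', f' ξ' = f' (f'.fiberι (f' x') z) → ξ' ⤳ f'.fiberι (f' x') z →
        ξ' = f'.fiberι (f' x') z := by
      intro ξ' h1 h2
      have hr : ξ' ∈ Set.range (f'.fiberι (f' x')) := by
        rw [Scheme.Hom.range_fiberι]; exact h1.trans hξs
      obtain ⟨z', hz'⟩ := hr
      have h3 : z' ⤳ z := by
        rw [← (f'.fiberι (f' x')).isEmbedding.isInducing.specializes_iff, hz']
        exact h2
      have h4 := hz2 z' (specializes_iff_mem_closure.mp h3)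
      rw [← hz', h4]
    have hfa : f (g' (f'.fiberι (f' x') z)) = f x := by
      rw [hsq, hξs, hfx]
    have hax : g' (f'.fiberι (f' x') z) ⤳ x := by
      have := hξx'.map g'.continuous
      rwa [hx1] at this
    have hUO := hopen' (g' (f'.fiberι (f' x') z)) hfa hax (by
      intro a' ha' hsp
      exact eq_of_specializes_of_maximal sq _ hξmax a' (ha'.trans hfa.symm) hsp)
    exact Groth.Agent.Lib.Helper7.isOpenAt_of_isPullback sq _ hUO (f'.fiberι (f' x') z) rfl U hU
  · exact isReduced_stalk_fiber_of_isPullback sq x' (by rw [hx1]; exact hred)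

set_option maxHeartbeats 1000000 in
theorem flat_stalkMap_of_isUnivOpenAt_of_geomReducedAt {X Y : Scheme.{u}} [IsLocallyNoetherian Y]
    (f : X ⟶ Y) [LocallyOfFiniteType f] (x : X)
    (hopen : ∀ z : ↥(f.fiber (f.base x)), f.asFiber x ∈ closure {z} →
      (∀ z' : ↥(f.fiber (f.base x)), z ∈ closure {z'} → z' = z) →
      EGA43.IsUnivOpenAt f ((f.fiberι (f.base x)).base z))
    (hred : FBase.IsGeomReducedAt (f.fiberToSpecResidueField (f.base x)) (f.asFiber x))
    (hy : _root_.IsReduced (Y.presheaf.stalk (f.base x))) :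
    (f.stalkMap x).hom.Flat := by
  haveI := hy
  -- ambient form of `hopen`
  have hopen' : ∀ a : X, f a = f x → a ⤳ x →
      (∀ a' : X, f a' = f x → a' ⤳ a → a' = a) → EGA43.IsUnivOpenAt f a := by
    intro a ha hax hamax
    have har : a ∈ Set.range (f.fiberι (f x)) := by
      rw [Scheme.Hom.range_fiberι]; exact ha
    obtain ⟨z₀, hz₀⟩ := har
    have h := hopen z₀ ?_ ?_
    · rw [← hz₀]; exact h
    · rw [← specializes_iff_mem_closure,
        ← (f.fiberι (f x)).isEmbedding.isInducing.specializes_iff, hz₀, Scheme.Hom.fiberι_asFiber]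
      exact hax
    · intro z' hz'
      rw [← specializes_iff_mem_closure] at hz'
      have h1 : f.fiberι (f x) z' ⤳ a := by
        rw [← hz₀]; exact hz'.map (f.fiberι (f x)).continuous
      have h2 : f (f.fiberι (f x) z') = f x := by
        have : f.fiberι (f x) z' ∈ Set.range (f.fiberι (f x)) := ⟨z', rfl⟩
        rw [Scheme.Hom.range_fiberι] at this
        exact this
      have h3 := hamax _ h2 h1
      exact (f.fiberι (f x)).isEmbedding.injective (h3.trans hz₀.symm)
  refine flat_stalkMap_of_forall_dvr f x ?_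
  intro A' _ _ _ φ _ x' hx1 hx2
  exact flat_stalkMap_of_dvr f x hopen' hred A' _ _ _ (IsPullback.of_hasPullback f _) x' hx1 hx2

end Groth.Agent.Lib.Helper22.VC
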