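import Mathlib
import Groth.Prelude.Def_EGA43
import Groth.Prelude.Def_FDesc
import Groth.Agent.Lib.Helper22VC15
import Groth.Agent.Lib.Helper6FibRkOpenC
import Groth.Agent.Lib.Helper6RedAscent
import Groth.Agent.Lib.Helper6GROpen

/-!
# Consequences of EGA IV 15.2.2 (helper22): flat and reduced neighbourhoods
-/

set_option autoImplicit false
set_option linter.style.haveILetI false
universe u
open CategoryTheory CategoryTheory.Limits AlgebraicGeometry

namespace Groth.Agent.Lib.Helper22.VC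
open Groth.Agent.Lib.Helper6.FibSkOpenC Groth.Agent.Lib.Helper6.FibRkOpen
  Groth.Agent.Lib.Helper6.FibRkOpenC Groth.Agent.Lib.Helper6.RedAscent

set_option maxHeartbeats 1000000 in
theorem exists_nhd_flat_reduced {X Y : Scheme.{u}} [IsLocallyNoetherian Y] (f : X ⟶ Y)
    [LocallyOfFiniteType f] (x : X)
    (hopen : ∀ z : ↥(f.fiber (f.base x)), f.asFiber x ∈ closure {z} →
      (∀ z' : ↥(f.fiber (f.base x)), z ∈ closure {z'} → z' = z) →
      EGA43.IsUnivOpenAt f ((f.fiberι (f.base x)).base z))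
    (hred : FBase.IsGeomReducedAt (f.fiberToSpecResidueField (f.base x)) (f.asFiber x))
    (hy : _root_.IsReduced (Y.presheaf.stalk (f.base x))) :
    ∃ U : X.Opens, x ∈ U ∧ Flat (U.ι ≫ f) ∧ IsReduced (U : Scheme.{u}) := by
  have hflat : (f.stalkMap x).hom.Flat := flat_stalkMap_of_isUnivOpenAt_of_geomReducedAt f x hopen hred hy
  haveI : IsLocallyNoetherian X := LocallyOfFiniteType.isLocallyNoetherian f
  have hxF : x ∈ flatOpens f := hflat
  -- reducedness of the local ring
  let w : (flatOpens f).toScheme := ⟨x, hxF⟩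
  have hxL : w ∈ Lrs 0 ((flatOpens f).ι ≫ f) := by
    rw [lrs_openImmersion f 0 (flatOpens f).ι inferInstance inferInstance, ← geomReduced_locus_eq]
    exact hred
  have hred1 : _root_.IsReduced ((flatOpens f).toScheme.presheaf.stalk w) :=
    isReduced_stalk_of_mem_lrs ((flatOpens f).ι ≫ f) w hy hxL
  have hred2 : _root_.IsReduced (X.presheaf.stalk x) :=
    isReduced_of_injective ((flatOpens f).ι.stalkMap w).hom
      (ConcreteCategory.bijective_of_isIso ((flatOpens f).ι.stalkMap w)).1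
  obtain ⟨U₁, hxU₁, hU₁red, -⟩ :=
    Groth.Agent.Lib.Helper6.GROpen.exists_opens_isReduced_forall_mem x hred2
  refine ⟨U₁ ⊓ flatOpens f, ⟨hxU₁, hxF⟩, ?_, ?_⟩
  · apply Flat.of_stalkMap
    intro u
    rw [Scheme.Hom.stalkMap_comp]
    have h1 : (f.stalkMap ((U₁ ⊓ flatOpens f).ι u)).hom.Flat := u.2.2
    have h2 : ((U₁ ⊓ flatOpens f).ι.stalkMap u).hom.Flat :=
      RingHom.Flat.of_bijective
        (ConcreteCategory.bijective_of_isIso ((U₁ ⊓ flatOpens f).ι.stalkMap u))
    exact RingHom.Flat.comp h1 h2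
  · haveI := hU₁red
    exact isReduced_of_isOpenImmersion (X.homOfLE (inf_le_left : U₁ ⊓ flatOpens f ≤ U₁))

end Groth.Agent.Lib.Helper22.VC
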