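import Mathlib
import Groth.Prelude.Def_EGA43
import Groth.Prelude.Def_FDesc
import Groth.Agent.Lib.Helper22VC16
import Groth.Agent.Lib.Helper10RedInd
import Groth.Agent.Lib.Helper12Submersive2

/-!
# EGA IV 15.2.3 without reducedness of the base (helper22): passing to `Y_red`
-/

set_option autoImplicit false
set_option linter.style.haveILetI false
universe u
open CategoryTheory CategoryTheory.Limits AlgebraicGeometry

namespace Groth.Agent.Lib.Helper22.VC
open Groth.Agent.Lib.Helper22.SC

/-- ambient form of the hypothesis "universally open at the generic points of the components of the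
fibre through `x`" -/
theorem ambient_of_hopen {X Y : Scheme.{u}} (f : X ⟶ Y) (x : X)
    (hopen : ∀ z : ↥(f.fiber (f.base x)), f.asFiber x ∈ closure {z} →
      (∀ z' : ↥(f.fiber (f.base x)), z ∈ closure {z'} → z' = z) →
      EGA43.IsUnivOpenAt f ((f.fiberι (f.base x)).base z)) :
    ∀ a : X, f a = f x → a ⤳ x →
      (∀ a' : X, f a' = f x → a' ⤳ a → a' = a) → EGA43.IsUnivOpenAt f a := by
  intro a ha hax hamax
  have har : a ∈ Set.range (f.fiberι (f x)) := by
    rw [Scheme.Hom.range_fiberι]; exact ha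
  obtain ⟨z₀, hz₀⟩ := har
  have h := hopen z₀ ?_ ?_
  · rw [← hz₀]; exact h
  · rw [← specializes_iff_mem_closure,
      ← (f.fiberι (f x)).isEmbedding.isInducing.specializes_iff, hz₀, Scheme.Hom.fiberι_asFiber]
    exact hax
  · intro z' hz'
    rw [← specializes_iff_mem_closure] at hz'
    have h1 : f.fiberι (f x) z' ⤳ a := by
      rw [← hz₀]; exact hz'.map (f.fiberι (f x)).continuous
    have h2 : f (f.fiberι (f x) z') = f x := by
      have : f.fiberι (f x) z' ∈ Set.range (f.fiberι (f x)) := ⟨z', rfl⟩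
      rw [Scheme.Hom.range_fiberι] at this
      exact this
    have h3 := hamax _ h2 h1
    exact (f.fiberι (f x)).isEmbedding.injective (h3.trans hz₀.symm)

set_option maxHeartbeats 1000000 in
theorem flat_stalkMap_of_ambient {X Y : Scheme.{u}} [IsLocallyNoetherian Y]
    (f : X ⟶ Y) [LocallyOfFiniteType f] (x : X)
    (hopen' : ∀ a : X, f a = f x → a ⤳ x →
      (∀ a' : X, f a' = f x → a' ⤳ a → a' = a) → EGA43.IsUnivOpenAt f a)
    (hred : FBase.IsGeomReducedAt (f.fiberToSpecResidueField (f.base x)) (f.asFiber x))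
    (hy : _root_.IsReduced (Y.presheaf.stalk (f.base x))) :
    (f.stalkMap x).hom.Flat := by
  haveI := hy
  refine flat_stalkMap_of_forall_dvr f x ?_
  intro A' _ _ _ φ _ x' hx1 hx2
  exact flat_stalkMap_of_dvr f x hopen' hred A' _ _ _ (IsPullback.of_hasPullback f _) x' hx1 hx2

/-- transfer of the ambient hypothesis along a base change by a universal homeomorphism-like
closed immersion (only injectivity of `i`, surjectivity and inducingness of `g` are used) -/
theorem ambient_of_isPullback {X Y X₀ Y₀ : Scheme.{u}} {f : X ⟶ Y} {f₀ : X₀ ⟶ Y₀} {g : X₀ ⟶ X}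
    {i : Y₀ ⟶ Y} (sq : IsPullback g f₀ f i) (hi : Function.Injective i)
    (hg : Function.Surjective g) (hgi : Topology.IsInducing g) (x₀ : X₀)
    (hopen' : ∀ a : X, f a = f (g x₀) → a ⤳ g x₀ →
      (∀ a' : X, f a' = f (g x₀) → a' ⤳ a → a' = a) → EGA43.IsUnivOpenAt f a) :
    ∀ a : X₀, f₀ a = f₀ x₀ → a ⤳ x₀ →
      (∀ a' : X₀, f₀ a' = f₀ x₀ → a' ⤳ a → a' = a) → EGA43.IsUnivOpenAt f₀ a := by
  have hsq : ∀ p : X₀, f (g p) = i (f₀ p) := fun p => by
    rw [← Scheme.Hom.comp_apply, ← Scheme.Hom.comp_apply, sq.w]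
  intro a ha hax hamax
  refine Groth.Agent.Lib.Helper7.isUnivOpenAt_of_isPullback sq (g a) ?_ a rfl
  refine hopen' (g a) ?_ (hax.map g.continuous) ?_
  · rw [hsq, hsq, ha]
  · intro a' ha' hsp
    obtain ⟨p, rfl⟩ := hg a'
    have h1 : f₀ p = f₀ x₀ := by
      apply hi
      rw [← hsq, ← hsq]; exact ha'
    have h2 : p ⤳ a := hgi.specializes_iff.mp hsp
    rw [hamax p h1 h2]

end Groth.Agent.Lib.Helper22.VC
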