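import Mathlib
import Groth.Prelude.Def_EGA43
import Groth.Prelude.Def_FDesc
import Groth.Agent.Lib.Helper22VC17
import Groth.Agent.Lib.Helper22GRpb

/-!
# EGA IV 15.2.3 (helper22): universally open and geometrically reduced neighbourhoods
-/

set_option autoImplicit false
set_option linter.style.haveILetI false
universe u
open CategoryTheory CategoryTheory.Limits AlgebraicGeometry

namespace Groth.Agent.Lib.Helper22.VC
open Groth.Agent.Lib.Helper22.SC Groth.Agent.Lib.Helper12.Submersive

set_option maxHeartbeats 1000000 in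
theorem exists_nhd_universallyOpen_geomReduced {X Y : Scheme.{u}} [IsLocallyNoetherian Y]
    (f : X ⟶ Y) [LocallyOfFiniteType f] (x : X)
    (hopen : ∀ z : ↥(f.fiber (f.base x)), f.asFiber x ∈ closure {z} →
      (∀ z' : ↥(f.fiber (f.base x)), z ∈ closure {z'} → z' = z) →
      EGA43.IsUnivOpenAt f ((f.fiberι (f.base x)).base z))
    (hred : FBase.IsGeomReducedAt (f.fiberToSpecResidueField (f.base x)) (f.asFiber x)) :
    ∃ U : X.Opens, x ∈ U ∧ UniversallyOpen (U.ι ≫ f) ∧
      ∀ x' : X, x' ∈ U →
        FBase.IsGeomReducedAt (f.fiberToSpecResidueField (f.base x')) (f.asFiber x') := by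
  have hopen' := ambient_of_hopen f x hopen
  -- the reduction of `Y`
  let I : Y.IdealSheafData := Scheme.IdealSheafData.vanishingIdeal (⊤ : TopologicalSpace.Closeds Y)
  let i : I.subscheme ⟶ Y := I.subschemeι
  haveI : IsReduced I.subscheme :=
    Groth.Agent.Lib.Helper10.RedInd.isReduced_subscheme_vanishingIdeal _
  have hirange : Set.range i = Set.univ := by
    rw [Scheme.IdealSheafData.range_subschemeι, Scheme.IdealSheafData.coe_support_vanishingIdeal]
    rfl
  haveI : Surjective i := ⟨Set.range_eq_univ.mp hirange⟩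
  haveI : IsLocallyNoetherian I.subscheme := LocallyOfFiniteType.isLocallyNoetherian i
  have hiinj : Function.Injective i := i.isClosedEmbedding.injective
  -- the base change
  let g : pullback f i ⟶ X := pullback.fst f i
  let f₀ : pullback f i ⟶ I.subscheme := pullback.snd f i
  have sq : IsPullback g f₀ f i := IsPullback.of_hasPullback f i
  haveI : IsClosedImmersion g := inferInstance
  haveI : Surjective g := inferInstance
  have hgsurj : Function.Surjective g := g.surjective
  have hginj : Function.Injective g := g.isClosedEmbedding.injective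
  obtain ⟨x₀, hx₀⟩ := hgsurj x
  have hopen₀ := ambient_of_isPullback sq hiinj hgsurj g.isClosedEmbedding.isInducing x₀
    (by rw [hx₀]; exact hopen')
  have hred₀ : GRAt f₀ x₀ := (gRAt_iff_of_isPullback sq x₀).mpr (by rw [hx₀]; exact hred)
  have hflat₀ : (f₀.stalkMap x₀).hom.Flat :=
    flat_stalkMap_of_ambient f₀ x₀ hopen₀ hred₀ inferInstance
  have hWopen := Groth.Agent.Lib.Helper6.FibRkOpenC.isOpen_flat_geomReduced f₀
  set W : Set ↥(pullback f i) := {p | (f₀.stalkMap p).hom.Flat ∧
      FBase.IsGeomReducedAt (f₀.fiberToSpecResidueField (f₀.base p)) (f₀.asFiber p)} with hW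
  have hx₀W : x₀ ∈ W := ⟨hflat₀, hred₀⟩
  have hUopen : IsOpen ((g '' Wᶜ)ᶜ : Set X) :=
    (g.isClosedEmbedding.isClosedMap _ hWopen.isClosed_compl).isOpen_compl
  let U : X.Opens := ⟨(g '' Wᶜ)ᶜ, hUopen⟩
  have hmemU : ∀ p : ↥(pullback f i), g p ∈ U → p ∈ W := by
    intro p hp
    by_contra hpW
    exact hp ⟨p, hpW, rfl⟩
  refine ⟨U, ?_, ?_, ?_⟩
  · rintro ⟨p, hpW, hp⟩
    have : p = x₀ := hginj (hp.trans hx₀.symm)
    exact hpW (this ▸ hx₀W)
  · have sqP : IsPullback (pullback.fst U.ι g) (pullback.snd U.ι g) U.ι g :=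
      IsPullback.of_hasPullback _ _
    have sqB : IsPullback (pullback.snd U.ι g ≫ f₀) (pullback.fst U.ι g) i (U.ι ≫ f) :=
      sqP.flip.paste_horiz sq.flip
    refine universallyOpen_of_isPullback sqB (us_of_universallyClosed i) ?_
    haveI : Flat (pullback.snd U.ι g ≫ f₀) := by
      apply Flat.of_stalkMap
      intro p
      rw [Scheme.Hom.stalkMap_comp]
      have h1 : (f₀.stalkMap ((pullback.snd U.ι g) p)).hom.Flat := by
        refine (hmemU _ ?_).1
        have : g ((pullback.snd U.ι g) p) = U.ι ((pullback.fst U.ι g) p) := by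
          rw [← Scheme.Hom.comp_apply, ← Scheme.Hom.comp_apply, sqP.w]
        rw [this]
        exact ((pullback.fst U.ι g) p).2
      have h2 : ((pullback.snd U.ι g).stalkMap p).hom.Flat :=
        RingHom.Flat.of_bijective
          (ConcreteCategory.bijective_of_isIso ((pullback.snd U.ι g).stalkMap p))
      exact RingHom.Flat.comp h1 h2
    infer_instance
  · intro x' hx'
    obtain ⟨p, rfl⟩ := hgsurj x'
    exact (gRAt_iff_of_isPullback sq p).mp (hmemU p hx').2

end Groth.Agent.Lib.Helper22.VC
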