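import Mathlib
import Groth.Agent.Lib.Helper22EQ1
import Groth.Agent.Lib.Helper22VC18

/-!
# Constancy of the fibre dimension along generizations, general base (helper22)
-/

set_option autoImplicit false
set_option linter.style.haveILetI false
set_option linter.unusedVariables false
universe u
open CategoryTheory CategoryTheory.Limits AlgebraicGeometry Topology TopologicalSpace IsLocalRing

namespace Groth.Agent.Lib.Helper22.EQ

open Groth.Agent.Lib.Helper6.FibCodim Groth.Agent.Lib.Helper6.FibSk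
  Groth.Agent.Lib.Helper6.FibNormal Groth.Agent.Lib.Helper5.TensorSk
  Groth.Agent.Lib.Helper5.FiberStalk Groth.Agent.Lib.Helper28 Groth.Agent.Lib.Helper4.DVRSch
  Groth.Agent.Lib.Helper6.FibSkOpen Groth.Agent.Lib.Helper6.FibRk
  Groth.Agent.Lib.Helper6.FibCodimLocus Groth.Agent.Lib.Helper5.FibSmConstr
  Groth.Agent.Lib.Helper6.GenNowhere Groth.Agent.Lib.Helper6.FibRkOpen
  Groth.Agent.Lib.Helper6.FibEqui Groth.Agent.Lib.Helper5.RkLift
  Groth.Agent.Lib.Helper4.VarDim Groth.Agent.Lib.Helper4.FibDim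
  Groth.Agent.Lib.Helper4.DimFormula Groth.Agent.Lib.Helper6.RedAscent
  Groth.Agent.Lib.Helper6.FibEqR Groth.Agent.Lib.Helper6.FibSkOpenC
  Groth.Agent.Lib.Helper6.FibRkOpenC

set_option maxHeartbeats 2000000 in
theorem fibreDimAt_le_of_specializes_of_isUnivOpenAt {X Y : Scheme.{u}} [IsLocallyNoetherian Y]
    (f : X ⟶ Y) [LocallyOfFiniteType f] (x : X)
    (hopen' : ∀ a : X, f a = f x → a ⤳ x →
      (∀ a' : X, f a' = f x → a' ⤳ a → a' = a) → EGA43.IsUnivOpenAt f a)
    (hred : FBase.IsGeomReducedAt (f.fiberToSpecResidueField (f.base x)) (f.asFiber x))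
    (hne : x ∉ Lne f) (ξ : X) (hξ : ξ ⤳ x) :
    FlatMor.fibreDimAt f x ≤ FlatMor.fibreDimAt f ξ := by
  by_cases hne' : ξ = x
  · subst hne'; exact le_rfl
  haveI : IsLocallyNoetherian X := LocallyOfFiniteType.isLocallyNoetherian f
  obtain ⟨V, hV, g, hg1, hg2⟩ := exists_dvr_hom hξ hne' (L := X.residueField ξ)
    (𝟙 (X.residueField ξ)) (by
      show (RingHom.id _).EssFiniteType
      exact RingHom.FiniteType.essFiniteType (RingHom.FiniteType.id _))
  haveI := hV
  let t := g ≫ f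
  let fT := pullback.snd f t
  have hpb := IsPullback.of_hasPullback f t
  let σ : Spec (CommRingCat.of ↥V) ⟶ pullback f t := pullback.lift g (𝟙 _) (by simp [t])
  have hσ : σ ≫ fT = 𝟙 _ := pullback.lift_snd _ _ _
  have hσ1 : σ ≫ pullback.fst f t = g := pullback.lift_fst _ _ _
  have hgen : g (⟨⊥, Ideal.isPrime_bot⟩ : Spec (CommRingCat.of ↥V)) = ξ := by
    let pt : Spec (CommRingCat.of (X.residueField ξ)) := ⟨⊥, Ideal.isPrime_bot⟩
    have h1 : Spec.map (CommRingCat.ofHom V.subtype) pt =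
        (⟨⊥, Ideal.isPrime_bot⟩ : Spec (CommRingCat.of ↥V)) := by
      apply PrimeSpectrum.ext
      show Ideal.comap V.subtype ⊥ = ⊥
      rw [← RingHom.ker_eq_comap_bot]
      exact (RingHom.injective_iff_ker_eq_bot _).mp Subtype.val_injective
    rw [← h1]
    show (Spec.map (CommRingCat.ofHom V.subtype) ≫ g) pt = ξ
    rw [hg1, Scheme.Hom.comp_apply]
    exact Scheme.fromSpecResidueField_apply _ _
  have hζ : pullback.fst f t (σ (⟨⊥, Ideal.isPrime_bot⟩ : Spec (CommRingCat.of ↥V))) = ξ := by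
    rw [← Scheme.Hom.comp_apply, hσ1, hgen]
  have hz : pullback.fst f t (σ (closedPoint ↥V : Spec (CommRingCat.of ↥V))) = x := by
    rw [← Scheme.Hom.comp_apply, hσ1, hg2]
  have hfTζ : fT (σ (⟨⊥, Ideal.isPrime_bot⟩ : Spec (CommRingCat.of ↥V))) =
      (⟨⊥, Ideal.isPrime_bot⟩ : Spec (CommRingCat.of ↥V)) := by
    rw [← Scheme.Hom.comp_apply, hσ]; rfl
  have hfTz : fT (σ (closedPoint ↥V : Spec (CommRingCat.of ↥V))) =
      (closedPoint ↥V : Spec (CommRingCat.of ↥V)) := by
    rw [← Scheme.Hom.comp_apply, hσ]; rfl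
  have hsp0 : (⟨⊥, Ideal.isPrime_bot⟩ : Spec (CommRingCat.of ↥V)) ⤳
      (closedPoint ↥V : Spec (CommRingCat.of ↥V)) :=
    (PrimeSpectrum.le_iff_specializes _ _).mp bot_le
  have hspec := hsp0.map σ.continuous
  -- flatness at the closed point of the section
  have hflat : (fT.stalkMap (σ (closedPoint ↥V : Spec (CommRingCat.of ↥V)))).hom.Flat :=
    Groth.Agent.Lib.Helper22.VC.flat_stalkMap_of_dvr f x hopen' hred ↥V t (pullback.fst f t) fT hpb
      _ hz hfTz
  -- restrict to the flat locus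
  haveI : LocallyOfFinitePresentation fT := inferInstance
  let Zo : (pullback f t).Opens := flatOpens fT
  let h : Zo.toScheme ⟶ Spec (CommRingCat.of ↥V) := Zo.ι ≫ fT
  haveI : Flat h := flat_flatOpens_ι_comp fT
  haveI : LocallyOfFinitePresentation h := inferInstance
  have hzmem : σ (closedPoint ↥V : Spec (CommRingCat.of ↥V)) ∈ Zo := hflat
  have hwmem : σ (⟨⊥, Ideal.isPrime_bot⟩ : Spec (CommRingCat.of ↥V)) ∈ Zo :=
    hspec.mem_open Zo.2 hzmem
  let z : Zo.toScheme := ⟨σ (closedPoint ↥V : Spec (CommRingCat.of ↥V)), hzmem⟩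
  let w : Zo.toScheme := ⟨σ (⟨⊥, Ideal.isPrime_bot⟩ : Spec (CommRingCat.of ↥V)), hwmem⟩
  have hwz : w ⤳ z := Zo.ι.isOpenEmbedding.isInducing.specializes_iff.mp hspec
  have hhz : h z = (closedPoint ↥V : Spec (CommRingCat.of ↥V)) := hfTz
  have hhw : h w = (⟨⊥, Ideal.isPrime_bot⟩ : Spec (CommRingCat.of ↥V)) := hfTζ
  have hxL : x ∈ Lrs 0 f := by rw [← geomReduced_locus_eq]; exact hred
  have hzL : z ∈ Lrs 0 h := by
    rw [lrs_openImmersion fT 0 Zo.ι inferInstance inferInstance, Set.mem_preimage,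
      lrs_baseChange 0 f t (pullback.fst f t) fT inferInstance hpb, Set.mem_preimage]
    show pullback.fst f t (σ (closedPoint ↥V : Spec (CommRingCat.of ↥V))) ∈ _
    rw [hz]; exact hxL
  have hredz := isReduced_fibre_stalk_of_mem_lrs h z hzL
  have hznL : z ∉ Lne h := by
    rw [lne_openImmersion fT Zo.ι inferInstance, Set.mem_preimage,
      lne_baseChange f t (pullback.fst f t) fT inferInstance hpb, Set.mem_preimage]
    show pullback.fst f t (σ (closedPoint ↥V : Spec (CommRingCat.of ↥V))) ∉ _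
    rw [hz]; exact hne
  have hEqF := (isEquidim_fibre_iff h z).mpr hznL
  have key := fibreDimAt_le_of_dvr ↥V h hwz hhz hhw hredz hEqF
  have e1 : FlatMor.fibreDimAt h z = FlatMor.fibreDimAt fT _ := fibreDimAt_opens_ι_comp fT Zo z
  have e2 : FlatMor.fibreDimAt h w = FlatMor.fibreDimAt fT _ := fibreDimAt_opens_ι_comp fT Zo w
  have e3 := Groth.Agent.Lib.Helper3.LocDimBC.fibreDimAt_eq_of_isPullback f t (pullback.fst f t) fT hpb
    (σ (closedPoint ↥V : Spec (CommRingCat.of ↥V)))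
  have e4 := Groth.Agent.Lib.Helper3.LocDimBC.fibreDimAt_eq_of_isPullback f t (pullback.fst f t) fT hpb
    (σ (⟨⊥, Ideal.isPrime_bot⟩ : Spec (CommRingCat.of ↥V)))
  rw [hz] at e3
  rw [hζ] at e4
  rw [← e3, ← e4]
  exact (e1.symm.le.trans key).trans e2.le

end Groth.Agent.Lib.Helper22.EQ
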