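import Mathlib
import Groth.Agent.Lib.Helper22EQ2
import Groth.Agent.Lib.Helper6UniE
import Groth.Agent.Lib.Helper6OpenDimB
import Groth.Agent.Lib.Helper4DimFormulaAM

/-!
# EGA IV 15.2.3, last assertion (helper22): equidimensionality at a point
-/

set_option autoImplicit false
set_option linter.style.haveILetI false
set_option linter.unusedVariables false
universe u
open CategoryTheory CategoryTheory.Limits AlgebraicGeometry Topology TopologicalSpace IsLocalRing

namespace Groth.Agent.Lib.Helper22.EQ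

open Groth.Agent.Lib.Helper6.FibEqui Groth.Agent.Lib.Helper4.DimFormula
  Groth.Agent.Lib.Helper22.VC

set_option maxHeartbeats 2000000 in
theorem isEquidimAt_of_univOpen_geomReduced {X Y : Scheme.{u}} [IsLocallyNoetherian Y] (f : X ⟶ Y)
    [LocallyOfFiniteType f] (x : X)
    (hopen : ∀ z : ↥(f.fiber (f.base x)), f.asFiber x ∈ closure {z} →
      (∀ z' : ↥(f.fiber (f.base x)), z ∈ closure {z'} → z' = z) →
      EGA43.IsUnivOpenAt f ((f.fiberι (f.base x)).base z))
    (hred : FBase.IsGeomReducedAt (f.fiberToSpecResidueField (f.base x)) (f.asFiber x))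
    (heq : ∃ e : ℕ, ∀ Z ∈ irreducibleComponents (↥(f.fiber (f.base x)) : Type u), f.asFiber x ∈ Z →
      topologicalKrullDim (↥Z : Type u) = e) :
    EGA43.IsEquidimAt f x := by
  haveI : IsLocallyNoetherian X := LocallyOfFiniteType.isLocallyNoetherian f
  have hopen' := ambient_of_hopen f x hopen
  have hne : x ∉ Lne f := by
    have h : x ∈ {x : X | ∃ e : ℕ, ∀ Z ∈ irreducibleComponents (↥(f.fiber (f.base x)) : Type u),
        f.asFiber x ∈ Z → topologicalKrullDim (↥Z : Type u) = e} := heq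
    rw [equidim_locus_eq f] at h
    exact h
  obtain ⟨e, he⟩ := heq
  have hfd : FlatMor.fibreDimAt f x = e := by
    obtain ⟨w, hw1, hw2, hw3, hw4⟩ :=
      Groth.Agent.Lib.Helper6.Uni.exists_maximal_ptTrdeg_eq_fibreDimAt f x
    obtain ⟨z, hz1, hz2, hz3⟩ := exists_component_of_maximal f (f.base x) w hw1 hw3
    have hmem : f.asFiber x ∈ closure ({z} : Set ↥(f.fiber (f.base x))) := by
      rw [← specializes_iff_mem_closure,
        ← (f.fiberι (f.base x)).isEmbedding.isInducing.specializes_iff, hz1,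
        Scheme.Hom.fiberι_asFiber]
      exact hw2
    have h1 := he _ hz2 hmem
    rw [hz3] at h1
    rw [hw4, h1]
  obtain ⟨U, hxU, hUO, -⟩ := exists_nhd_universallyOpen_geomReduced f x hopen hred
  refine isEquidimAt_of_forall_maximal f x e hfd ?_
  intro ξ hξmax hξx
  constructor
  · have h1 := fibreDimAt_le_of_specializes_of_isUnivOpenAt f x hopen' hred hne ξ hξx
    have h2 := fibreDimAt_le_of_specializes f ξ x hξx
    have h3 := fibreDimAt_eq_ptTrdeg_of_maximal f ξ (fun y _ hy => hξmax y hy)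
    have h4 : FlatMor.fibreDimAt f ξ = e := by rw [← hfd]; exact le_antisymm h2 h1
    rw [h3] at h4
    exact_mod_cast h4
  · intro y' hy'
    have hξU : ξ ∈ U := hξx.mem_open U.2 hxU
    have hopenξ : EGA43.IsOpenAt f.base ξ := by
      have hom : IsOpenMap (U.ι ≫ f).base := (U.ι ≫ f).isOpenMap
      have h1 : EGA43.IsOpenAt (f.base ∘ U.ι.base) (⟨ξ, hξU⟩ : ↥U) :=
        Groth.Agent.Lib.Helper7.isOpenAt_of_isOpenMap hom _
      exact Groth.Agent.Lib.Helper7.isOpenAt_of_isOpenAt_comp U.ι.base U.ι.continuous f.base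
        (⟨ξ, hξU⟩ : ↥U) h1
    obtain ⟨x', hx'1, hx'2⟩ :=
      Groth.Agent.Lib.Helper6.OpenDim.exists_specializes_of_isOpenAt f ξ hopenξ y' hy'
    rw [← hx'2, hξmax x' hx'1]

end Groth.Agent.Lib.Helper22.EQ
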