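import Mathlib
import Groth.Agent.Lib.Helper14FlatAboveC

set_option autoImplicit false
set_option linter.style.haveILetI false
set_option linter.unusedSectionVars false

open TensorProduct

namespace Groth.Agent.Lib.Helper22.ElemDev

open Groth.Agent.Lib.Helper14.FlatAbove

section Etale

variable {R S R' S' : Type*} [CommRing R] [CommRing S] [CommRing R'] [CommRing S']
  [Algebra R S] [Algebra R R'] [Algebra S S'] [Algebra R' S'] [Algebra R S']
  [IsScalarTower R S S'] [IsScalarTower R R' S']
variable {N X : Type*} [AddCommGroup N] [Module S N] [Module R N] [IsScalarTower R S N]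
  [AddCommGroup X] [Module S' X] [Module S X] [IsScalarTower S S' X]
  [Module R' X] [IsScalarTower R' S' X] [Module R X] [IsScalarTower R S' X]

/-- `R`- and `R'`-scalars on a localization of `X` are compatible. -/
theorem isScalarTower_localizedModule (T : Submonoid S') :
    IsScalarTower R R' (LocalizedModule T X) :=
  IsScalarTower.of_algebraMap_smul fun r y => by
    rw [algebra_compatible_smul S' (algebraMap R R' r) y, algebra_compatible_smul S' r y,
      ← IsScalarTower.algebraMap_apply]

/-- Flatness over the base transfers between a localization of `X` over `R` and over an unramified,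
flat `R'`. -/
theorem flat_localizedModule_base_iff [Algebra.Etale R R'] (T : Submonoid S') :
    Module.Flat R (LocalizedModule T X) ↔ Module.Flat R' (LocalizedModule T X) := by
  haveI := isScalarTower_localizedModule (R := R) (R' := R') (X := X) T
  constructor
  · intro h
    haveI := h
    exact Algebra.FormallyUnramified.flat_of_restrictScalars (R := R) (S := R') _
  · intro h
    haveI := h
    exact Module.Flat.trans R R' _

/-- Elementary étale neighbourhoods: flatness of `N` at `q` over `R` is equivalent to flatness of
the base change at `q'` over `R'`. -/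
theorem flat_atPrime_etale_iff [Algebra.Etale R R'] [Algebra.Etale S S']
    (f : N →ₗ[S] X) (hf : IsBaseChange S' f) (q : Ideal S) [q.IsPrime] (q' : Ideal S') [q'.IsPrime]
    [q'.LiesOver q] :
    Module.Flat R (LocalizedModule q.primeCompl N) ↔
      Module.Flat R' (LocalizedModule q'.primeCompl X) := by
  rw [← flat_localizedModule_base_iff (R := R) (R' := R') (X := X) q'.primeCompl]
  constructor
  · intro h
    exact flat_localized_of_flat (A' := R) hf q q' h
  · intro h
    exact flat_localized_of_flat_localized (A' := R) hf q q' h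

end Etale


section Loc

variable {A' D : Type*} [CommRing A'] [CommRing D] [Algebra A' D]
variable {P : Type*} [AddCommGroup P] [Module A' P] [Module D P] [IsScalarTower A' D P]

/-- Flatness of a localization at an element is flatness at the primes of the basic open. -/
theorem flat_localizedModule_powers_iff (g : D) :
    Module.Flat A' (LocalizedModule (Submonoid.powers g) P) ↔
      ∀ (Q : Ideal D) [Q.IsPrime], g ∉ Q → Module.Flat A' (LocalizedModule Q.primeCompl P) := by
  constructor
  · intro h Q _ hg
    refine flat_localizedModule_of_le (A' := A') ?_ h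
    rw [Submonoid.powers_le]
    exact hg
  · intro h
    refine flat_localizedModule_of_forall_maximal (A' := A') _ ?_
    intro Q _ hdisj _
    refine h Q ?_
    intro hg
    exact Set.disjoint_left.mp hdisj (Submonoid.mem_powers g) hg

end Loc

section Integral

variable {A' B' C' : Type*} [CommRing A'] [CommRing B'] [CommRing C'] [Algebra A' B'] [Algebra B' C']
  [Algebra A' C'] [IsScalarTower A' B' C']
variable {N' : Type*} [AddCommGroup N'] [Module A' N'] [Module B' N'] [Module C' N']
  [IsScalarTower B' C' N'] [IsScalarTower A' C' N'] [IsScalarTower A' B' N']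

/-- For an integral map with a unique prime `z` over `y`, flatness at `y` and at `z` agree. -/
theorem flat_atPrime_iff_of_unique_over [Algebra.IsIntegral B' C'] (y : Ideal B') [y.IsPrime]
    (z : Ideal C') [z.IsPrime] (hz : z.comap (algebraMap B' C') = y)
    (uniq : ∀ (Q : Ideal C') [Q.IsPrime], Q.comap (algebraMap B' C') = y → Q = z) :
    Module.Flat A' (LocalizedModule y.primeCompl N') ↔
      Module.Flat A' (LocalizedModule z.primeCompl N') := by
  constructor
  · intro h
    exact flat_localizedModule_of_over (A' := A') y z hz h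
  · intro h
    refine flat_localizedModule_of_forall_over (A' := A') (C' := C') y ?_
    intro Q _ hQ
    have := uniq Q hQ
    subst this
    exact h

/-- For an integral map with a unique prime `z` over `y`, an element outside `z` divides the image
of an element outside `y`. -/
theorem exists_dvd_of_unique_over [Algebra.IsIntegral B' C'] (y : Ideal B') [y.IsPrime]
    (z : Ideal C') [z.IsPrime]
    (uniq : ∀ (Q : Ideal C') [Q.IsPrime], Q.comap (algebraMap B' C') = y → Q = z)
    (g : C') (hg : g ∉ z) : ∃ h : B', h ∉ y ∧ ∃ c : C', algebraMap B' C' h = g * c := by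
  by_contra hcon
  push Not at hcon
  have hle : (Ideal.span {g}).comap (algebraMap B' C') ≤ y := by
    intro h hh
    by_contra hy
    rw [Ideal.mem_comap, Ideal.mem_span_singleton'] at hh
    obtain ⟨c, hc⟩ := hh
    exact hcon h hy c (by rw [← hc, mul_comm])
  obtain ⟨Q, hQge, hQprime, hQy⟩ := Ideal.exists_ideal_over_prime_of_isIntegral y (Ideal.span {g}) hle
  have := uniq Q hQy
  subst this
  exact hg (hQge (Ideal.mem_span_singleton_self g))

end Integral


section Main

universe u

variable {R S R' S' C D : Type u} [CommRing R] [CommRing S] [CommRing R'] [CommRing S']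
  [CommRing C] [CommRing D]
  [Algebra R S] [Algebra R R'] [Algebra S S'] [Algebra R' S'] [Algebra R S']
  [IsScalarTower R R' S'] [IsScalarTower R S S']
  [Algebra S' C] [Algebra D C] [Algebra R' D] [Algebra R' C] [IsScalarTower R' D C]
  [IsScalarTower R' S' C]
  {N G : Type u} [AddCommGroup N] [Module S N] [Module R N] [IsScalarTower R S N]
  [AddCommGroup G] [Module C G] [Module S' G] [IsScalarTower S' C G] [Module D G]
  [IsScalarTower D C G] [Module R' G] [IsScalarTower R' C G] [IsScalarTower R' D G]
  [Module S G] [IsScalarTower S S' G] [Module R G] [IsScalarTower R S' G] [IsScalarTower R' S' G]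
  [Algebra.Etale R R'] [Algebra.Etale S S']
  (f : N →ₗ[S] G) (hf : IsBaseChange S' f) (surjC : Function.Surjective (algebraMap S' C))

include hf surjC in
/-- pointwise comparison: `N` at `P` over `R` versus `G` at `Q` over `R'`. -/
theorem flat_point_iff (Q : Ideal C) [Q.IsPrime] (P' : Ideal S') [P'.IsPrime] (P : Ideal S)
    [P.IsPrime] [Q.LiesOver P'] [P'.LiesOver P] :
    Module.Flat R (LocalizedModule P.primeCompl N) ↔
      Module.Flat R' (LocalizedModule Q.primeCompl G) := by
  haveI : Algebra.IsIntegral S' C := Algebra.isIntegral_of_surjective surjC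
  rw [flat_atPrime_etale_iff (R := R) (R' := R') f hf P P']
  refine flat_atPrime_iff_of_unique_over (A' := R') (B' := S') (C' := C) P' Q
    (Ideal.LiesOver.over (p := P') (P := Q)).symm ?_
  intro Q₁ _ hQ₁
  apply Ideal.comap_injective_of_surjective _ surjC
  rw [hQ₁]
  exact Ideal.LiesOver.over (p := P') (P := Q)

include hf surjC in
theorem tfae_point (q : Ideal S) [q.IsPrime] (q' : Ideal S') [q'.IsPrime] (z : Ideal C) [z.IsPrime]
    (y : Ideal D) [y.IsPrime] [q'.LiesOver q] [z.LiesOver q'] [z.LiesOver y]
    [Module.Finite D C]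
    (uniq : ∀ (z₁ : Ideal C) [z₁.IsPrime], z₁.LiesOver y → z₁ = z) :
    [Module.Flat R (LocalizedModule q.primeCompl N),
      Module.Flat R' (LocalizedModule z.primeCompl G),
      Module.Flat R' (LocalizedModule y.primeCompl G)].TFAE := by
  tfae_have 1 ↔ 2 := flat_point_iff (R := R) (R' := R') f hf surjC z q' q
  tfae_have 3 ↔ 2 := flat_atPrime_iff_of_unique_over (A' := R') (B' := D) (C' := C) y z
    (Ideal.LiesOver.over (p := y) (P := z)).symm (fun Q _ hQ => uniq Q ⟨hQ.symm⟩)
  tfae_finish

include hf surjC in
theorem tfae_open (q : Ideal S) [q.IsPrime] (q' : Ideal S') [q'.IsPrime] (z : Ideal C) [z.IsPrime]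
    (y : Ideal D) [y.IsPrime] [q'.LiesOver q] [z.LiesOver q'] [z.LiesOver y]
    [Module.Finite D C]
    (uniq : ∀ (z₁ : Ideal C) [z₁.IsPrime], z₁.LiesOver y → z₁ = z) :
    [∃ g : S, g ∉ q ∧ Module.Flat R (LocalizedModule (Submonoid.powers g) N),
      ∃ g : C, g ∉ z ∧ Module.Flat R' (LocalizedModule (Submonoid.powers g) G),
      ∃ g : D, g ∉ y ∧ Module.Flat R' (LocalizedModule (Submonoid.powers g) G)].TFAE := by
  haveI : Algebra.IsIntegral S' C := Algebra.isIntegral_of_surjective surjC
  have hzq' : z.comap (algebraMap S' C) = q' := (Ideal.LiesOver.over (p := q') (P := z)).symm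
  have hq'q : q'.comap (algebraMap S S') = q := (Ideal.LiesOver.over (p := q) (P := q')).symm
  have hzy : z.comap (algebraMap D C) = y := (Ideal.LiesOver.over (p := y) (P := z)).symm
  tfae_have 1 → 2 := by
    rintro ⟨g, hg, hflat⟩
    refine ⟨algebraMap S' C (algebraMap S S' g), ?_, ?_⟩
    · intro hmem
      apply hg
      rw [← hq'q, Ideal.mem_comap, ← hzq', Ideal.mem_comap]
      exact hmem
    · rw [flat_localizedModule_powers_iff]
      intro Q _ hQ
      haveI : Q.LiesOver (Q.comap (algebraMap S' C)) := ⟨rfl⟩
      haveI : (Q.comap (algebraMap S' C)).LiesOver ((Q.comap (algebraMap S' C)).comap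
        (algebraMap S S')) := ⟨rfl⟩
      rw [← flat_point_iff (R := R) (R' := R') f hf surjC Q (Q.comap (algebraMap S' C))
        ((Q.comap (algebraMap S' C)).comap (algebraMap S S'))]
      exact (flat_localizedModule_powers_iff (A' := R) g).mp hflat _ (fun hmem => hQ hmem)
  tfae_have 2 → 1 := by
    rintro ⟨g', hg', hflat⟩
    obtain ⟨s', rfl⟩ := surjC g'
    have hs'q' : s' ∉ q' := by
      intro hmem
      apply hg'
      rw [← hzq'] at hmem
      exact hmem
    -- openness of the image of `D(s')`
    have hopen : IsOpenMap (PrimeSpectrum.comap (algebraMap S S')) :=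
      PrimeSpectrum.isOpenMap_comap_of_hasGoingDown_of_finitePresentation
    have hU : IsOpen (PrimeSpectrum.comap (algebraMap S S') ''
        (PrimeSpectrum.basicOpen s' : Set (PrimeSpectrum S'))) :=
      hopen _ (PrimeSpectrum.basicOpen s').isOpen
    have hqU : (⟨q, inferInstance⟩ : PrimeSpectrum S) ∈ PrimeSpectrum.comap (algebraMap S S') ''
        (PrimeSpectrum.basicOpen s' : Set (PrimeSpectrum S')) := by
      refine ⟨⟨q', inferInstance⟩, hs'q', ?_⟩
      apply PrimeSpectrum.ext
      exact hq'q
    obtain ⟨_, ⟨_, ⟨g, rfl⟩, rfl⟩, hqg, hgU⟩ :=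
      PrimeSpectrum.isBasis_basic_opens.exists_subset_of_mem_open hqU hU
    refine ⟨g, hqg, ?_⟩
    rw [flat_localizedModule_powers_iff]
    intro P _ hgP
    obtain ⟨P', hP's', hP'P⟩ := hgU (show (⟨P, inferInstance⟩ : PrimeSpectrum S) ∈
      (PrimeSpectrum.basicOpen g : Set (PrimeSpectrum S)) from hgP)
    haveI : P'.asIdeal.LiesOver P := ⟨by
      have := congrArg PrimeSpectrum.asIdeal hP'P
      exact this.symm⟩
    rw [flat_atPrime_etale_iff (R := R) (R' := R') f hf P P'.asIdeal]
    refine flat_localizedModule_of_forall_over (A' := R') (C' := C) P'.asIdeal ?_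
    intro Q _ hQ
    refine (flat_localizedModule_powers_iff (A' := R') (algebraMap S' C s')).mp hflat Q ?_
    intro hmem
    apply hP's'
    show s' ∈ P'.asIdeal
    rw [← hQ]
    exact hmem
  tfae_have 3 → 2 := by
    rintro ⟨h, hh, hflat⟩
    refine ⟨algebraMap D C h, ?_, ?_⟩
    · intro hmem
      apply hh
      rw [← hzy]
      exact hmem
    · rw [flat_localizedModule_powers_iff]
      intro Q _ hQ
      refine flat_localizedModule_of_over (A' := R') (B' := D) (C' := C)
        (Q.comap (algebraMap D C)) Q rfl ?_
      exact (flat_localizedModule_powers_iff (A' := R') h).mp hflat _ (fun hmem => hQ hmem)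
  tfae_have 2 → 3 := by
    rintro ⟨g', hg', hflat⟩
    obtain ⟨h, hy, c, hc⟩ := exists_dvd_of_unique_over (B' := D) (C' := C) y z
      (fun Q _ hQ => uniq Q ⟨hQ.symm⟩) g' hg'
    refine ⟨h, hy, ?_⟩
    rw [flat_localizedModule_powers_iff]
    intro P _ hP
    refine flat_localizedModule_of_forall_over (A' := R') (C' := C) P ?_
    intro Q _ hQ
    refine (flat_localizedModule_powers_iff (A' := R') g').mp hflat Q ?_
    intro hmem
    apply hP
    rw [← hQ, Ideal.mem_comap, hc]
    exact Ideal.mul_mem_right _ _ hmem
  tfae_finish

end Main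

end Groth.Agent.Lib.Helper22.ElemDev
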