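/-
helper22: finite presentation in an elementary dévissage (S1251): finite presentation of modules
under finite change of rings, faithfully flat descent of finite presentation, localized base change
for general submonoids, and the pointwise / open TFAE statements.
-/
import Mathlib
import Groth.Agent.Lib.Helper22ElemDev

set_option autoImplicit false
set_option linter.style.haveILetI false
set_option linter.unusedSectionVars false

open TensorProduct

namespace Groth.Agent.Lib.Helper22.ElemDevFP

section Basic

/-- A module over a finite `A`-algebra `B` which is finitely presented over `A` is finitely presented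
over `B`. -/
theorem finitePresentation_of_finite_of_restrictScalars {A B : Type*} [CommRing A] [CommRing B]
    [Algebra A B] [Module.Finite A B] {M : Type*} [AddCommGroup M] [Module B M] [Module A M]
    [IsScalarTower A B M] [Module.FinitePresentation A M] : Module.FinitePresentation B M := by
  classical
  let l : B ⊗[A] M →ₗ[B] M := LinearMap.liftBaseChange B (LinearMap.id : M →ₗ[A] M)
  have hl : ∀ b m, l (b ⊗ₜ m) = b • m := fun b m => by simp [l]
  have hsurj : Function.Surjective l := fun m => ⟨1 ⊗ₜ m, by rw [hl, one_smul]⟩
  refine Module.finitePresentation_of_surjective l hsurj ?_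
  obtain ⟨sB, hsB⟩ := (Module.Finite.fg_top : (⊤ : Submodule A B).FG)
  obtain ⟨sM, hsM⟩ := (Module.Finite.fg_top : (⊤ : Submodule A M).FG)
  let gen : B × M → B ⊗[A] M := fun p => p.1 ⊗ₜ p.2 - 1 ⊗ₜ (p.1 • p.2)
  let W : Submodule B (B ⊗[A] M) := Submodule.span B (gen '' ((sB ×ˢ sM : Finset (B × M)) : Set (B × M)))
  have hWfg : W.FG := ⟨(sB ×ˢ sM).image gen, by simp only [Finset.coe_image]; rfl⟩
  have hAW : ∀ (a : A) (w : B ⊗[A] M), w ∈ W → a • w ∈ W := fun a w hw => by
    rw [← algebraMap_smul B a w]
    exact W.smul_mem _ hw
  have hW1 : ∀ b ∈ sB, ∀ m ∈ sM, gen (b, m) ∈ W := fun b hb m hm =>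
    Submodule.subset_span ⟨(b, m), by simp [hb, hm], rfl⟩
  have hW2 : ∀ (b : B), ∀ m ∈ sM, gen (b, m) ∈ W := by
    intro b m hm
    have hb : b ∈ Submodule.span A (sB : Set B) := by rw [hsB]; trivial
    induction hb using Submodule.span_induction with
    | mem x hx => exact hW1 x hx m hm
    | zero => simp [gen]
    | add x y _ _ hx hy =>
      have : gen (x + y, m) = gen (x, m) + gen (y, m) := by
        simp only [gen, add_tmul, add_smul, tmul_add]; abel
      rw [this]; exact W.add_mem hx hy
    | smul a x _ hx =>
      have : gen (a • x, m) = a • gen (x, m) := by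
        simp only [gen, smul_sub, smul_assoc, tmul_smul, smul_tmul']
      rw [this]; exact hAW a _ hx
  have hW3 : ∀ (b : B) (m : M), gen (b, m) ∈ W := by
    intro b m
    have hm : m ∈ Submodule.span A (sM : Set M) := by rw [hsM]; trivial
    induction hm using Submodule.span_induction with
    | mem x hx => exact hW2 b x hx
    | zero => simp [gen]
    | add x y _ _ hx hy =>
      have : gen (b, x + y) = gen (b, x) + gen (b, y) := by
        simp only [gen, tmul_add, smul_add]; abel
      rw [this]; exact W.add_mem hx hy
    | smul a x _ hx =>
      have : gen (b, a • x) = a • gen (b, x) := by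
        simp only [gen, smul_sub, tmul_smul, smul_comm b a x]
      rw [this]; exact hAW a _ hx
  have key : ∀ x : B ⊗[A] M, x - 1 ⊗ₜ (l x) ∈ W := by
    intro x
    induction x using TensorProduct.induction_on with
    | zero => simp
    | tmul b m => rw [hl]; exact hW3 b m
    | add x y hx hy =>
      have : x + y - 1 ⊗ₜ[A] l (x + y) = (x - 1 ⊗ₜ l x) + (y - 1 ⊗ₜ l y) := by
        rw [map_add, tmul_add]; abel
      rw [this]; exact W.add_mem hx hy
  have hker : LinearMap.ker l = W := by
    apply le_antisymm
    · intro x hx
      have := key x
      rw [LinearMap.mem_ker.mp hx, tmul_zero, sub_zero] at this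
      exact this
    · rw [Submodule.span_le]
      rintro _ ⟨⟨b, m⟩, _, rfl⟩
      simp only [SetLike.mem_coe, LinearMap.mem_ker, gen, map_sub, hl, one_smul, sub_self]
  rw [hker]; exact hWfg

/-- Descent of finite presentation along a faithfully flat ring map. -/
theorem finitePresentation_of_faithfullyFlat {A' A'' : Type*} [CommRing A'] [CommRing A'']
    [Algebra A' A''] [Module.FaithfullyFlat A' A''] {M' : Type*} [AddCommGroup M'] [Module A' M']
    [Module.Finite A' M'] [Module.FinitePresentation A'' (A'' ⊗[A'] M')] :
    Module.FinitePresentation A' M' := by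
  obtain ⟨n, π, hπ⟩ := Module.Finite.exists_fin' A' M'
  refine Module.finitePresentation_of_surjective π hπ ?_
  rw [← Module.Finite.iff_fg]
  let ιb : A'' ⊗[A'] LinearMap.ker π →ₗ[A''] A'' ⊗[A'] (Fin n → A') :=
    (LinearMap.ker π).subtype.baseChange A''
  let πb : A'' ⊗[A'] (Fin n → A') →ₗ[A''] A'' ⊗[A'] M' := π.baseChange A''
  have hinj : Function.Injective ιb :=
    Module.Flat.lTensor_preserves_injective_linearMap (LinearMap.ker π).subtype
      (LinearMap.ker π).subtype_injective
  have hsurj : Function.Surjective πb := LinearMap.lTensor_surjective A'' hπ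
  have hex : Function.Exact ιb πb :=
    lTensor_exact A'' (LinearMap.exact_subtype_ker_map π) hπ
  have hfg : (LinearMap.ker πb).FG := Module.FinitePresentation.fg_ker πb hsurj
  have hrange : LinearMap.range ιb = LinearMap.ker πb := (LinearMap.exact_iff.mp hex).symm
  haveI : Module.Finite A'' (LinearMap.range ιb) := by
    rw [Module.Finite.iff_fg, hrange]
    exact hfg
  haveI : Module.Finite A'' (A'' ⊗[A'] LinearMap.ker π) :=
    Module.Finite.equiv (LinearEquiv.ofInjective ιb hinj).symm
  exact Module.Finite.of_finite_tensorProduct_of_faithfullyFlat A''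

end Basic

section ChangeOfRings

variable {A B : Type*} [CommRing A] [CommRing B] [Algebra A B] (T : Submonoid A) (U : Submonoid B)

/-- The `A`-algebra map between localizations induced by `A → B` when `T` maps into `U`. -/
noncomputable def locAlgHom (hTU : ∀ t ∈ T, algebraMap A B t ∈ U) :
    Localization T →ₐ[A] Localization U :=
  IsLocalization.liftAlgHom (M := T) (f := Algebra.ofId A (Localization U)) (fun t => by
    rw [Algebra.ofId_apply, IsScalarTower.algebraMap_apply A B (Localization U)]
    exact IsLocalization.map_units (Localization U) ⟨algebraMap A B t, hTU t t.2⟩)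

/-- The algebra structure between localizations induced by `A → B` when `T` maps into `U`. -/
noncomputable abbrev locAlgebra (hTU : ∀ t ∈ T, algebraMap A B t ∈ U) :
    Algebra (Localization T) (Localization U) :=
  (locAlgHom T U hTU).toRingHom.toAlgebra

theorem locAlgebra_isScalarTower (hTU : ∀ t ∈ T, algebraMap A B t ∈ U) :
    letI := locAlgebra T U hTU
    IsScalarTower A (Localization T) (Localization U) :=
  letI := locAlgebra T U hTU
  IsScalarTower.of_algebraMap_eq fun a => ((locAlgHom T U hTU).commutes a).symm

variable (hTU : ∀ t ∈ T, algebraMap A B t ∈ U)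
  (hUT : ∀ u ∈ U, ∃ b : B, ∃ t ∈ T, u * b = algebraMap A B t)

include hTU hUT in
/-- A localization at `U` is a localization at `T` over `A`, when `T` maps into `U` and every element
of `U` divides the image of an element of `T`. -/
theorem isLocalizedModule_restrictScalars {M X : Type*} [AddCommGroup M] [Module B M] [Module A M]
    [IsScalarTower A B M] [AddCommGroup X] [Module B X] [Module A X] [IsScalarTower A B X]
    (g : M →ₗ[B] X) [IsLocalizedModule U g] : IsLocalizedModule T (g.restrictScalars A) where
  map_units t := by
    have h := IsLocalizedModule.map_units g ⟨algebraMap A B t, hTU t t.2⟩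
    rw [Module.End.isUnit_iff] at h ⊢
    convert h using 1
    ext x
    simp [algebraMap_smul]
  surj x := by
    obtain ⟨⟨m, u⟩, hmu⟩ := IsLocalizedModule.surj U g x
    obtain ⟨b, t, ht, hbt⟩ := hUT u u.2
    refine ⟨⟨b • m, ⟨t, ht⟩⟩, ?_⟩
    change t • x = g (b • m)
    rw [map_smul, ← hmu, ← algebraMap_smul B t x, ← hbt, mul_comm, mul_smul]
    rfl
  exists_of_eq {m₁ m₂} h := by
    obtain ⟨u, hu⟩ := IsLocalizedModule.exists_of_eq (S := U) (f := g) h
    obtain ⟨b, t, ht, hbt⟩ := hUT u u.2
    refine ⟨⟨t, ht⟩, ?_⟩
    change t • m₁ = t • m₂
    rw [← algebraMap_smul B t m₁, ← algebraMap_smul B t m₂, ← hbt, mul_comm, mul_smul, mul_smul]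
    exact congrArg (b • ·) hu

include hTU hUT in
/-- Finite presentation of a localized module can be tested over `A` or over a finite finitely
presented `A`-algebra `B`. -/
theorem finitePresentation_localized_iff [Module.FinitePresentation A B]
    {M : Type*} [AddCommGroup M] [Module B M] [Module A M] [IsScalarTower A B M] :
    Module.FinitePresentation (Localization T) (LocalizedModule T M) ↔
      Module.FinitePresentation (Localization U) (LocalizedModule U M) := by
  letI := locAlgebra T U hTU
  haveI := locAlgebra_isScalarTower T U hTU
  letI : Module (Localization T) (LocalizedModule U M) :=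
    Module.compHom _ (algebraMap (Localization T) (Localization U))
  haveI : IsScalarTower (Localization T) (Localization U) (LocalizedModule U M) :=
    IsScalarTower.of_algebraMap_smul fun _ _ => rfl
  haveI : IsScalarTower A (Localization T) (LocalizedModule U M) :=
    IsScalarTower.of_algebraMap_smul fun a x => by
      change algebraMap (Localization T) (Localization U) (algebraMap A (Localization T) a) • x =
        a • x
      rw [← IsScalarTower.algebraMap_apply, algebraMap_smul]
  haveI hX : IsLocalizedModule T ((LocalizedModule.mkLinearMap U M).restrictScalars A) :=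
    isLocalizedModule_restrictScalars T U hTU hUT _
  haveI hB : IsLocalizedModule T ((Algebra.linearMap B (Localization U)).restrictScalars A) :=
    isLocalizedModule_restrictScalars T U hTU hUT _
  haveI : Module.FinitePresentation (Localization T) (Localization U) :=
    FinitePresentation.of_isBaseChange _
      ((isLocalizedModule_iff_isBaseChange T (Localization T) _).mp hB)
  let e : LocalizedModule T M ≃ₗ[Localization T] LocalizedModule U M :=
    (IsLocalizedModule.linearEquiv T (LocalizedModule.mkLinearMap T M)
      ((LocalizedModule.mkLinearMap U M).restrictScalars A)).extendScalarsOfIsLocalization T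
        (Localization T)
  constructor
  · intro h
    haveI : Module.FinitePresentation (Localization T) (LocalizedModule U M) :=
      Module.FinitePresentation.of_equiv e
    exact finitePresentation_of_finite_of_restrictScalars (A := Localization T)
      (B := Localization U)
  · intro h
    haveI : Module.FinitePresentation (Localization T) (LocalizedModule U M) :=
      Module.FinitePresentation.trans (Localization T) (LocalizedModule U M) (Localization U)
    exact Module.FinitePresentation.of_equiv e.symm

end ChangeOfRings

section LocBC

variable {A B : Type*} [CommRing A] [CommRing B] [Algebra A B] (T : Submonoid A) (U : Submonoid B)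
  (hTU : ∀ t ∈ T, algebraMap A B t ∈ U)
variable {M M₁ : Type*} [AddCommGroup M] [Module A M] [AddCommGroup M₁] [Module A M₁] [Module B M₁]
  [IsScalarTower A B M₁] {f : M →ₗ[A] M₁} (hf : IsBaseChange B f)

include hf in
/-- localized base change: `M_T → (M₁)_U` is a base change along `A_T → B_U`. -/
theorem exists_localized_isBaseChange :
    letI := locAlgebra T U hTU
    letI : Module (Localization T) (LocalizedModule U M₁) :=
      Module.compHom _ (algebraMap (Localization T) (Localization U))
    ∃ (_ : IsScalarTower (Localization T) (Localization U) (LocalizedModule U M₁))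
      (g : LocalizedModule T M →ₗ[Localization T] LocalizedModule U M₁),
      IsBaseChange (Localization U) g := by
  letI := locAlgebra T U hTU
  haveI := locAlgebra_isScalarTower T U hTU
  letI : Module (Localization T) (LocalizedModule U M₁) :=
    Module.compHom _ (algebraMap (Localization T) (Localization U))
  haveI t1 : IsScalarTower (Localization T) (Localization U) (LocalizedModule U M₁) :=
    IsScalarTower.of_algebraMap_smul fun _ _ => rfl
  haveI t2 : IsScalarTower A (Localization T) (LocalizedModule U M₁) :=
    IsScalarTower.of_algebraMap_smul fun a x => by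
      change algebraMap (Localization T) (Localization U) (algebraMap A (Localization T) a) • x =
        a • x
      rw [← IsScalarTower.algebraMap_apply, algebraMap_smul]
  have hM : IsBaseChange (Localization T) (LocalizedModule.mkLinearMap T M) :=
    IsLocalizedModule.isBaseChange T _ _
  have hN : IsBaseChange (Localization U) (LocalizedModule.mkLinearMap U M₁) :=
    IsLocalizedModule.isBaseChange U _ _
  have hc := hf.comp hN
  let g := hM.lift (((LocalizedModule.mkLinearMap U M₁).restrictScalars A).comp f)
  refine ⟨t1, g, ?_⟩
  refine IsBaseChange.of_comp hM ?_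
  have : (g.restrictScalars A).comp (LocalizedModule.mkLinearMap T M) =
      ((LocalizedModule.mkLinearMap U M₁).restrictScalars A).comp f :=
    hM.lift_comp _
  rw [this]
  exact hc

include hf hTU in
/-- ascent of finite presentation from `M_T` over `A_T` to `(M₁)_U` over `B_U`. -/
theorem finitePresentation_localized_of_localized
    (h : Module.FinitePresentation (Localization T) (LocalizedModule T M)) :
    Module.FinitePresentation (Localization U) (LocalizedModule U M₁) := by
  letI := locAlgebra T U hTU
  letI : Module (Localization T) (LocalizedModule U M₁) :=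
    Module.compHom _ (algebraMap (Localization T) (Localization U))
  obtain ⟨t1, g, hg⟩ := exists_localized_isBaseChange T U hTU hf
  exact FinitePresentation.of_isBaseChange g hg

include hTU in
/-- `A_T → B_U` is faithfully flat when `A → B` is flat and primes away from `T` lift to primes away
from `U`. -/
theorem faithfullyFlat_localization [Module.Flat A B]
    (hsurj : ∀ (P : Ideal A), P.IsPrime → Disjoint (T : Set A) P →
      ∃ Q : Ideal B, Q.IsPrime ∧ Disjoint (U : Set B) Q ∧ Q.comap (algebraMap A B) = P) :
    letI := locAlgebra T U hTU
    Module.FaithfullyFlat (Localization T) (Localization U) := by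
  letI := locAlgebra T U hTU
  haveI := locAlgebra_isScalarTower T U hTU
  haveI : Module.Flat (Localization T) (Localization U) :=
    (Module.flat_iff_of_isLocalization (Localization T) T (Localization U)).mpr inferInstance
  apply Module.FaithfullyFlat.of_comap_surjective
  intro P'
  have hP := (IsLocalization.isPrime_iff_isPrime_disjoint T (Localization T) P'.asIdeal).mp
    P'.isPrime
  obtain ⟨Q, hQ, hQU, hQP⟩ := hsurj _ hP.1 hP.2
  have hQ' : (Q.map (algebraMap B (Localization U))).IsPrime :=
    IsLocalization.isPrime_of_isPrime_disjoint U (Localization U) Q hQ hQU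
  refine ⟨⟨Q.map (algebraMap B (Localization U)), hQ'⟩, ?_⟩
  apply PrimeSpectrum.ext
  change (Q.map (algebraMap B (Localization U))).comap
    (algebraMap (Localization T) (Localization U)) = P'.asIdeal
  rw [← IsLocalization.map_under T (Localization T) P'.asIdeal,
    ← IsLocalization.map_under T (Localization T) ((Q.map (algebraMap B (Localization U))).comap
      (algebraMap (Localization T) (Localization U)))]
  congr 1
  rw [Ideal.under_def, Ideal.under_def, Ideal.comap_comap, ← IsScalarTower.algebraMap_eq,
    IsScalarTower.algebraMap_eq A B (Localization U), ← Ideal.comap_comap,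
    ← Ideal.under_def B (Q.map (algebraMap B (Localization U))),
    IsLocalization.under_map_of_isPrime_disjoint U (Localization U) hQ hQU, hQP, Ideal.under_def]

include hf hTU in
/-- descent of finite presentation from `(M₁)_U` over `B_U` to `M_T` over `A_T`. -/
theorem finitePresentation_localized_of_localized_of_flat [Module.Flat A B] [Module.Finite A M]
    (hsurj : ∀ (P : Ideal A), P.IsPrime → Disjoint (T : Set A) P →
      ∃ Q : Ideal B, Q.IsPrime ∧ Disjoint (U : Set B) Q ∧ Q.comap (algebraMap A B) = P)
    (h : Module.FinitePresentation (Localization U) (LocalizedModule U M₁)) :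
    Module.FinitePresentation (Localization T) (LocalizedModule T M) := by
  letI := locAlgebra T U hTU
  letI : Module (Localization T) (LocalizedModule U M₁) :=
    Module.compHom _ (algebraMap (Localization T) (Localization U))
  obtain ⟨t1, g, hg⟩ := exists_localized_isBaseChange T U hTU hf
  haveI := faithfullyFlat_localization T U hTU hsurj
  haveI : Module.FinitePresentation (Localization U)
      (Localization U ⊗[Localization T] LocalizedModule T M) :=
    Module.FinitePresentation.of_equiv hg.equiv.symm
  exact finitePresentation_of_faithfullyFlat (A' := Localization T) (A'' := Localization U)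

end LocBC

section Smooth

universe u

open AlgebraicGeometry in
/-- a ring map whose `Spec` is smooth of relative dimension `n` is of finite presentation. -/
theorem finitePresentation_of_smoothOfRelativeDimension {R D : Type u} [CommRing R] [CommRing D]
    [Algebra R D] (n : ℕ)
    (h : SmoothOfRelativeDimension n (Spec.map (CommRingCat.ofHom (algebraMap R D)))) :
    Algebra.FinitePresentation R D := by
  have : SmoothOfRelativeDimension n (Spec.map (CommRingCat.ofHom (algebraMap R D))) := h
  have : Smooth (Spec.map (CommRingCat.ofHom (algebraMap R D))) :=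
    SmoothOfRelativeDimension.smooth n _
  have : LocallyOfFinitePresentation (Spec.map (CommRingCat.ofHom (algebraMap R D))) :=
    inferInstance
  have h2 := (HasRingHomProperty.Spec_iff (P := @LocallyOfFinitePresentation)).mp this
  exact RingHom.finitePresentation_algebraMap.mp h2

/-- finite presentation of `C` over `D` in the situation of an elementary dévissage. -/
theorem finitePresentation_DC {R S R' S' C D : Type u} [CommRing R] [CommRing S] [CommRing R']
    [CommRing S'] [CommRing C] [CommRing D]
    [Algebra R S] [Algebra R R'] [Algebra S S'] [Algebra R' S'] [Algebra R S']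
    [IsScalarTower R R' S'] [IsScalarTower R S S']
    [Algebra S' C] [Algebra D C] [Algebra R' D] [Algebra R' C] [IsScalarTower R' D C]
    [IsScalarTower R' S' C]
    [Algebra.FinitePresentation R S] [Algebra.FinitePresentation S S']
    [Algebra.FiniteType R R'] [Algebra.FinitePresentation S' C] [Algebra.FiniteType R' D] :
    Algebra.FinitePresentation D C := by
  haveI : Algebra.FinitePresentation R S' := Algebra.FinitePresentation.trans R S S'
  haveI : Algebra.FinitePresentation R' S' :=
    Algebra.FinitePresentation.of_restrict_scalars_finitePresentation R R' S'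
  haveI : Algebra.FinitePresentation R' C := Algebra.FinitePresentation.trans R' S' C
  exact Algebra.FinitePresentation.of_restrict_scalars_finitePresentation R' D C

end Smooth

section Main

universe u

variable {S S' C D : Type u} [CommRing S] [CommRing S'] [CommRing C] [CommRing D]
  [Algebra S S'] [Algebra S' C] [Algebra D C]
  {N G : Type u} [AddCommGroup N] [Module S N]
  [AddCommGroup G] [Module C G] [Module S' G] [IsScalarTower S' C G] [Module D G]
  [IsScalarTower D C G] [Module S G] [IsScalarTower S S' G]
  [Module.Flat S S'] [Algebra.FinitePresentation S S'] [Module.Finite S N]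
  [Module.FinitePresentation S' C] [Module.Finite D C] [Module.FinitePresentation D C]
  (f : N →ₗ[S] G) (hf : IsBaseChange S' f) (surjC : Function.Surjective (algebraMap S' C))

include hf in
/-- étale-local nature of finite presentation at a prime. -/
theorem fp_atPrime_iff (q : Ideal S) [q.IsPrime] (q' : Ideal S') [q'.IsPrime] [q'.LiesOver q] :
    Module.FinitePresentation (Localization.AtPrime q) (LocalizedModule q.primeCompl N) ↔
      Module.FinitePresentation (Localization.AtPrime q') (LocalizedModule q'.primeCompl G) := by
  have hq'q : q'.comap (algebraMap S S') = q := (Ideal.LiesOver.over (p := q) (P := q')).symm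
  have hTU : ∀ t ∈ q.primeCompl, algebraMap S S' t ∈ q'.primeCompl := by
    intro t ht hmem
    apply ht
    rw [← hq'q]
    exact hmem
  constructor
  · intro h
    exact finitePresentation_localized_of_localized q.primeCompl q'.primeCompl hTU hf h
  · intro h
    refine finitePresentation_localized_of_localized_of_flat q.primeCompl q'.primeCompl hTU hf ?_ h
    intro P hP hdisj
    haveI := hP
    have hPq : P ≤ q := by
      intro x hx
      by_contra hxq
      exact Set.disjoint_left.mp hdisj hxq hx
    obtain ⟨Q, hQq', hQ, hQP⟩ := Ideal.exists_ideal_le_liesOver_of_le q' hPq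
    refine ⟨Q, hQ, ?_, (Ideal.LiesOver.over (p := P) (P := Q)).symm⟩
    rw [Set.disjoint_left]
    intro x hx hxQ
    exact hx (hQq' hxQ)

include hf surjC in
theorem tfae_point (q : Ideal S) [q.IsPrime] (q' : Ideal S') [q'.IsPrime] (z : Ideal C) [z.IsPrime]
    (y : Ideal D) [y.IsPrime] [q'.LiesOver q] [z.LiesOver q'] [z.LiesOver y]
    (uniq : ∀ (z₁ : Ideal C) [z₁.IsPrime], z₁.LiesOver y → z₁ = z) :
    [Module.FinitePresentation (Localization.AtPrime q) (LocalizedModule q.primeCompl N),
      Module.FinitePresentation (Localization.AtPrime z) (LocalizedModule z.primeCompl G),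
      Module.FinitePresentation (Localization.AtPrime y) (LocalizedModule y.primeCompl G)].TFAE := by
  have hzq' : z.comap (algebraMap S' C) = q' := (Ideal.LiesOver.over (p := q') (P := z)).symm
  have hzy : z.comap (algebraMap D C) = y := (Ideal.LiesOver.over (p := y) (P := z)).symm
  tfae_have 1 ↔ 2 := by
    rw [fp_atPrime_iff f hf q q']
    refine finitePresentation_localized_iff (A := S') (B := C) q'.primeCompl z.primeCompl ?_ ?_
    · intro t ht hmem
      apply ht
      rw [← hzq']
      exact hmem
    · intro u hu
      obtain ⟨s, rfl⟩ := surjC u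
      refine ⟨1, s, ?_, by rw [mul_one]⟩
      intro hs
      apply hu
      rw [← hzq'] at hs
      exact hs
  tfae_have 3 ↔ 2 := by
    refine finitePresentation_localized_iff (A := D) (B := C) y.primeCompl z.primeCompl ?_ ?_
    · intro t ht hmem
      apply ht
      rw [← hzy]
      exact hmem
    · intro u hu
      obtain ⟨h, hy, c, hc⟩ := Groth.Agent.Lib.Helper22.ElemDev.exists_dvd_of_unique_over
        (B' := D) (C' := C) y z (fun Q _ hQ => uniq Q ⟨hQ.symm⟩) u hu
      exact ⟨c, h, hy, hc.symm⟩
  tfae_finish

include hf surjC in
theorem tfae_open (q : Ideal S) [q.IsPrime] (q' : Ideal S') [q'.IsPrime] (z : Ideal C) [z.IsPrime]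
    (y : Ideal D) [y.IsPrime] [q'.LiesOver q] [z.LiesOver q'] [z.LiesOver y]
    (uniq : ∀ (z₁ : Ideal C) [z₁.IsPrime], z₁.LiesOver y → z₁ = z) :
    [∃ g : S, g ∉ q ∧ Module.FinitePresentation (Localization.Away g)
        (LocalizedModule (Submonoid.powers g) N),
      ∃ g : C, g ∉ z ∧ Module.FinitePresentation (Localization.Away g)
        (LocalizedModule (Submonoid.powers g) G),
      ∃ g : D, g ∉ y ∧ Module.FinitePresentation (Localization.Away g)
        (LocalizedModule (Submonoid.powers g) G)].TFAE := by
  have hzq' : z.comap (algebraMap S' C) = q' := (Ideal.LiesOver.over (p := q') (P := z)).symm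
  have hq'q : q'.comap (algebraMap S S') = q := (Ideal.LiesOver.over (p := q) (P := q')).symm
  have hzy : z.comap (algebraMap D C) = y := (Ideal.LiesOver.over (p := y) (P := z)).symm
  -- powers of an element map to powers of its image
  have hpow : ∀ {X Y : Type u} [CommRing X] [CommRing Y] [Algebra X Y] (x : X),
      ∀ t ∈ Submonoid.powers x, algebraMap X Y t ∈ Submonoid.powers (algebraMap X Y x) := by
    intro X Y _ _ _ x t ht
    obtain ⟨k, rfl⟩ := ht
    exact ⟨k, by rw [map_pow]⟩
  have hpow' : ∀ {X Y : Type u} [CommRing X] [CommRing Y] [Algebra X Y] (x : X),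
      ∀ u ∈ Submonoid.powers (algebraMap X Y x), ∃ b : Y, ∃ t ∈ Submonoid.powers x,
        u * b = algebraMap X Y t := by
    intro X Y _ _ _ x u hu
    obtain ⟨k, rfl⟩ := hu
    exact ⟨1, x ^ k, ⟨k, rfl⟩, by rw [mul_one, map_pow]⟩
  tfae_have 1 → 2 := by
    rintro ⟨g, hg, h⟩
    refine ⟨algebraMap S' C (algebraMap S S' g), ?_, ?_⟩
    · intro hmem
      apply hg
      rw [← hq'q, Ideal.mem_comap, ← hzq', Ideal.mem_comap]
      exact hmem
    · have h1 : Module.FinitePresentation (Localization.Away (algebraMap S S' g))
          (LocalizedModule (Submonoid.powers (algebraMap S S' g)) G) :=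
        finitePresentation_localized_of_localized (Submonoid.powers g)
          (Submonoid.powers (algebraMap S S' g)) (hpow g) hf h
      exact (finitePresentation_localized_iff (A := S') (B := C)
        (Submonoid.powers (algebraMap S S' g))
        (Submonoid.powers (algebraMap S' C (algebraMap S S' g))) (hpow _) (hpow' _)).mp h1
  tfae_have 2 → 1 := by
    rintro ⟨g', hg', h⟩
    obtain ⟨s', rfl⟩ := surjC g'
    have hs'q' : s' ∉ q' := by
      intro hmem
      apply hg'
      rw [← hzq'] at hmem
      exact hmem
    have h1 : Module.FinitePresentation (Localization.Away s')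
        (LocalizedModule (Submonoid.powers s') G) :=
      (finitePresentation_localized_iff (A := S') (B := C) (Submonoid.powers s')
        (Submonoid.powers (algebraMap S' C s')) (hpow _) (hpow' _)).mpr h
    -- openness of the image of `D(s')`
    have hopen : IsOpenMap (PrimeSpectrum.comap (algebraMap S S')) :=
      PrimeSpectrum.isOpenMap_comap_of_hasGoingDown_of_finitePresentation
    have hU : IsOpen (PrimeSpectrum.comap (algebraMap S S') ''
        (PrimeSpectrum.basicOpen s' : Set (PrimeSpectrum S'))) :=
      hopen _ (PrimeSpectrum.basicOpen s').isOpen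
    have hqU : (⟨q, inferInstance⟩ : PrimeSpectrum S) ∈ PrimeSpectrum.comap (algebraMap S S') ''
        (PrimeSpectrum.basicOpen s' : Set (PrimeSpectrum S')) := by
      refine ⟨⟨q', inferInstance⟩, hs'q', ?_⟩
      apply PrimeSpectrum.ext
      exact hq'q
    obtain ⟨_, ⟨_, ⟨g, rfl⟩, rfl⟩, hqg, hgU⟩ :=
      PrimeSpectrum.isBasis_basic_opens.exists_subset_of_mem_open hqU hU
    refine ⟨g, hqg, ?_⟩
    let U : Submonoid S' := Submonoid.closure {s', algebraMap S S' g}
    have hs'U : s' ∈ U := Submonoid.subset_closure (by simp)
    have hgU' : algebraMap S S' g ∈ U := Submonoid.subset_closure (by simp)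
    have h2 : Module.FinitePresentation (Localization U) (LocalizedModule U G) := by
      refine finitePresentation_localized_of_localized (A := S') (B := S') (Submonoid.powers s') U
        ?_ (IsBaseChange.ofEquiv (LinearEquiv.refl S' G)) h1
      intro t ht
      obtain ⟨k, rfl⟩ := ht
      exact pow_mem hs'U k
    refine finitePresentation_localized_of_localized_of_flat (Submonoid.powers g) U ?_ hf ?_ h2
    · intro t ht
      obtain ⟨k, rfl⟩ := ht
      rw [map_pow]
      exact pow_mem hgU' k
    · intro P hP hdisj
      haveI := hP
      have hgP : g ∉ P := fun hmem =>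
        Set.disjoint_left.mp hdisj (Submonoid.mem_powers g) hmem
      obtain ⟨P', hP's', hP'P⟩ := hgU (show (⟨P, hP⟩ : PrimeSpectrum S) ∈
        (PrimeSpectrum.basicOpen g : Set (PrimeSpectrum S)) from hgP)
      have hcomap : P'.asIdeal.comap (algebraMap S S') = P :=
        congrArg PrimeSpectrum.asIdeal hP'P
      refine ⟨P'.asIdeal, P'.isPrime, ?_, hcomap⟩
      have hle : U ≤ P'.asIdeal.primeCompl := by
        rw [Submonoid.closure_le]
        rintro x (rfl | rfl)
        · exact hP's'
        · intro hmem
          apply hgP
          rw [← hcomap]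
          exact hmem
      rw [Set.disjoint_left]
      intro x hx hxP
      exact hle hx hxP
  tfae_have 3 → 2 := by
    rintro ⟨h, hh, hfp⟩
    refine ⟨algebraMap D C h, ?_, ?_⟩
    · intro hmem
      apply hh
      rw [← hzy]
      exact hmem
    · exact (finitePresentation_localized_iff (A := D) (B := C) (Submonoid.powers h)
        (Submonoid.powers (algebraMap D C h)) (hpow _) (hpow' _)).mp hfp
  tfae_have 2 → 3 := by
    rintro ⟨g', hg', hfp⟩
    obtain ⟨h, hy, c, hc⟩ := Groth.Agent.Lib.Helper22.ElemDev.exists_dvd_of_unique_over
      (B' := D) (C' := C) y z (fun Q _ hQ => uniq Q ⟨hQ.symm⟩) g' hg'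
    refine ⟨h, hy, ?_⟩
    let U : Submonoid C := Submonoid.closure {g', algebraMap D C h}
    have hg'U : g' ∈ U := Submonoid.subset_closure (by simp)
    have hhU : algebraMap D C h ∈ U := Submonoid.subset_closure (by simp)
    have h2 : Module.FinitePresentation (Localization U) (LocalizedModule U G) := by
      refine finitePresentation_localized_of_localized (A := C) (B := C) (Submonoid.powers g') U
        ?_ (IsBaseChange.ofEquiv (LinearEquiv.refl C G)) hfp
      intro t ht
      obtain ⟨k, rfl⟩ := ht
      exact pow_mem hg'U k
    refine (finitePresentation_localized_iff (A := D) (B := C) (Submonoid.powers h) U ?_ ?_).mpr h2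
    · intro t ht
      obtain ⟨k, rfl⟩ := ht
      rw [map_pow]
      exact pow_mem hhU k
    · intro u hu
      induction hu using Submonoid.closure_induction with
      | mem x hx =>
        rcases hx with rfl | rfl
        · exact ⟨c, h, Submonoid.mem_powers h, hc.symm⟩
        · exact ⟨1, h, Submonoid.mem_powers h, mul_one _⟩
      | one => exact ⟨1, 1, one_mem _, by rw [mul_one, map_one]⟩
      | mul a b _ _ ha hb =>
        obtain ⟨b₁, t₁, ht₁, h₁⟩ := ha
        obtain ⟨b₂, t₂, ht₂, h₂⟩ := hb
        refine ⟨b₁ * b₂, t₁ * t₂, mul_mem ht₁ ht₂, ?_⟩
        rw [map_mul, ← h₁, ← h₂]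
        ring
  tfae_finish

end Main

end Groth.Agent.Lib.Helper22.ElemDevFP
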