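import Mathlib
import Groth.Agent.Lib.Helper4FEtFull
import Groth.Agent.Lib.Helper20FEtFaith

set_option autoImplicit false
set_option linter.style.haveILetI false
set_option linter.unusedSectionVars false
set_option linter.unusedVariables false
universe u
open CategoryTheory CategoryTheory.Limits AlgebraicGeometry

namespace Groth.Agent.Lib.Helper22.FEtFF

/-- the union of the connected components meeting a given set. -/
def sat {Z : Type*} [TopologicalSpace Z] (R : Set Z) : Set Z :=
  {z | (connectedComponent z ∩ R).Nonempty}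

theorem subset_sat {Z : Type*} [TopologicalSpace Z] (R : Set Z) : R ⊆ sat R :=
  fun _ hz => ⟨_, mem_connectedComponent, hz⟩

theorem connectedComponent_subset_sat {Z : Type*} [TopologicalSpace Z] (R : Set Z) {z : Z}
    (hz : z ∈ sat R) : connectedComponent z ⊆ sat R := by
  intro z' hz'
  change (connectedComponent z' ∩ R).Nonempty
  rw [← connectedComponent_eq hz']
  exact hz

theorem connectedComponent_subset_compl_sat {Z : Type*} [TopologicalSpace Z] (R : Set Z) {z : Z}
    (hz : z ∉ sat R) : connectedComponent z ⊆ (sat R)ᶜ := by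
  intro z' hz' hz''
  apply hz
  change (connectedComponent z ∩ R).Nonempty
  rw [connectedComponent_eq hz']
  exact hz''

theorem isClopen_sat {Z : Type*} [TopologicalSpace Z]
    (hopen : ∀ z : Z, IsOpen (connectedComponent z)) (R : Set Z) : IsClopen (sat R) := by
  constructor
  · rw [← isOpen_compl_iff, isOpen_iff_forall_mem_open]
    intro z hz
    exact ⟨connectedComponent z, connectedComponent_subset_compl_sat R hz, hopen z,
      mem_connectedComponent⟩
  · rw [isOpen_iff_forall_mem_open]
    intro z hz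
    exact ⟨connectedComponent z, connectedComponent_subset_sat R hz, hopen z,
      mem_connectedComponent⟩

theorem prop_ι_of_isClopen {Y : Scheme.{u}} (W : Y.Opens) (hW : IsClosed (W : Set Y)) :
    IsFinite W.ι ∧ Etale W.ι := by
  have hc : IsClosedImmersion W.ι :=
    IsClosedImmersion.of_isPreimmersion W.ι (by rw [Scheme.Opens.range_ι]; exact hW)
  exact ⟨inferInstance, inferInstance⟩

theorem inj_of_h {X X₀ : Scheme.{u}} (i : X₀ ⟶ X)
    (h : ∀ Y : FEt.Cat X,
      Function.Bijective (pullback.fst Y.hom i).continuous.connectedComponentsMap)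
    {W : Scheme.{u}} (w : W ⟶ X) [IsFinite w] [Etale w] (t₁ t₂ : ↥(pullback w i))
    (hc : connectedComponent ((pullback.fst w i) t₁) = connectedComponent ((pullback.fst w i) t₂)) :
    connectedComponent t₁ = connectedComponent t₂ := by
  let Wo : FEt.Cat X := MorphismProperty.Over.mk ⊤ w ⟨inferInstance, inferInstance⟩
  have hW := (h Wo).1
  let t₁' : ↥(pullback Wo.hom i) := t₁
  let t₂' : ↥(pullback Wo.hom i) := t₂
  have h2 : (pullback.fst Wo.hom i).continuous.connectedComponentsMap
      (ConnectedComponents.mk t₁') =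
      (pullback.fst Wo.hom i).continuous.connectedComponentsMap
      (ConnectedComponents.mk t₂') := by
    rw [Continuous.connectedComponentsMap_mk, Continuous.connectedComponentsMap_mk]
    exact ConnectedComponents.coe_eq_coe.mpr hc
  exact ConnectedComponents.coe_eq_coe.mp (hW h2)

theorem surj_of_h {X X₀ : Scheme.{u}} (i : X₀ ⟶ X)
    (h : ∀ Y : FEt.Cat X,
      Function.Bijective (pullback.fst Y.hom i).continuous.connectedComponentsMap)
    {W : Scheme.{u}} (w : W ⟶ X) [IsFinite w] [Etale w] (y₀ : W) :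
    ∃ t : ↥(pullback w i), connectedComponent ((pullback.fst w i) t) = connectedComponent y₀ := by
  let Wo : FEt.Cat X := MorphismProperty.Over.mk ⊤ w ⟨inferInstance, inferInstance⟩
  obtain ⟨c, hc⟩ := (h Wo).2 (ConnectedComponents.mk (α := ↥Wo.left) y₀)
  obtain ⟨t, rfl⟩ := ConnectedComponents.surjective_coe c
  rw [Continuous.connectedComponentsMap_mk] at hc
  exact ⟨t, ConnectedComponents.coe_eq_coe.mp hc⟩

theorem exists_extension {X X₀ : Scheme.{u}} (i : X₀ ⟶ X)
    (hopen : ∀ (W : Scheme.{u}) (w : W ⟶ X) [IsFinite w] [Etale w] (z : W),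
      IsOpen (connectedComponent z))
    (h : ∀ Y : FEt.Cat X,
      Function.Bijective (pullback.fst Y.hom i).continuous.connectedComponentsMap)
    {Y Y' : Scheme.{u}} (y : Y ⟶ X) (y' : Y' ⟶ X)
    [IsFinite y] [Etale y] [IsFinite y'] [Etale y']
    (a : pullback y i ⟶ Y') (ha : a ≫ y' = pullback.fst y i ≫ y) :
    ∃ φ : Y ⟶ Y', φ ≫ y' = y ∧ pullback.fst y i ≫ φ = a := by
  let p₁ : pullback y i ⟶ Y := pullback.fst y i
  let p₂ : pullback y i ⟶ X₀ := pullback.snd y i
  let q₁ : pullback y y' ⟶ Y := pullback.fst y y'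
  let q₂ : pullback y y' ⟶ Y' := pullback.snd y y'
  let γ : pullback y i ⟶ pullback y y' := pullback.lift p₁ a ha.symm
  have hγ1 : γ ≫ q₁ = p₁ := pullback.lift_fst _ _ _
  have hγ2 : γ ≫ q₂ = a := pullback.lift_snd _ _ _
  have hΓc : IsClopen (sat (Set.range γ)) := isClopen_sat (hopen (pullback y y') (q₁ ≫ y)) _
  let Γ : (pullback y y').Opens := ⟨sat (Set.range γ), hΓc.isOpen⟩
  have hΓprop := prop_ι_of_isClopen Γ hΓc.isClosed
  haveI := hΓprop.1
  haveI := hΓprop.2
  let γ' : pullback y i ⟶ Γ := IsOpenImmersion.lift Γ.ι γ (by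
    rw [Scheme.Opens.range_ι]
    exact subset_sat _)
  have hγ' : γ' ≫ Γ.ι = γ := IsOpenImmersion.lift_fac _ _ _
  let r : (Γ : Scheme) ⟶ Y := Γ.ι ≫ q₁
  have hγr : γ' ≫ r = p₁ := by rw [← hγ1, ← hγ', Category.assoc]
  let π₁ : pullback r p₁ ⟶ Γ := pullback.fst r p₁
  let π₂ : pullback r p₁ ⟶ pullback y i := pullback.snd r p₁
  let σ : pullback y i ⟶ pullback r p₁ := pullback.lift γ' (𝟙 _) (by rw [hγr, Category.id_comp])
  have hσ1 : σ ≫ π₁ = γ' := pullback.lift_fst _ _ _
  have hσ2 : σ ≫ π₂ = 𝟙 _ := pullback.lift_snd _ _ _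
  obtain ⟨C, hC, hC1, hC2⟩ := Groth.Agent.Lib.Helper20.FEtFaith.exists_isClopen_agree π₂ π₂
    (𝟙 _) (π₂ ≫ σ) (Category.id_comp _) (by rw [Category.assoc, hσ2, Category.comp_id])
  have hσC : Set.range σ ⊆ C := hC1 σ (by rw [Category.comp_id, reassoc_of% hσ2])
  have HT : IsPullback π₁ (π₂ ≫ p₂) (r ≫ y) i :=
    (IsPullback.of_hasPullback r p₁).paste_vert (IsPullback.of_hasPullback y i)
  have hCuniv : C = Set.univ := by
    rw [Set.eq_univ_iff_forall]
    intro t
    -- the component of `π₁ t` meets the graph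
    obtain ⟨z', hz', w, hw⟩ : (connectedComponent (Γ.ι (π₁ t)) ∩ Set.range γ).Nonempty := (π₁ t).2
    -- `γ' w` and `π₁ t` lie in the same component of `Γ`
    have hsame : connectedComponent (γ' w) = connectedComponent (π₁ t) := by
      have hK : connectedComponent (Γ.ι (π₁ t)) ⊆ Set.range Γ.ι := by
        rw [Scheme.Opens.range_ι]
        exact connectedComponent_subset_sat _ (π₁ t).2
      have hpre : _root_.IsPreconnected (Γ.ι ⁻¹' connectedComponent (Γ.ι (π₁ t))) := by
        rw [← Γ.ι.isEmbedding.toIsInducing.isPreconnected_image,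
          Set.image_preimage_eq_of_subset hK]
        exact isPreconnected_connectedComponent
      have h1 : Γ.ι ⁻¹' connectedComponent (Γ.ι (π₁ t)) ⊆ connectedComponent (π₁ t) :=
        hpre.subset_connectedComponent (by exact mem_connectedComponent)
      refine (connectedComponent_eq (h1 ?_)).symm
      have e1 : Γ.ι (γ' w) = γ w := by rw [← Scheme.Hom.comp_apply, hγ']
      change Γ.ι (γ' w) ∈ connectedComponent (Γ.ι (π₁ t))
      rw [e1, hw]
      exact hz'
    -- transport to `pullback (r ≫ y) i`
    let e := HT.isoPullback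
    have he : e.hom ≫ pullback.fst (r ≫ y) i = π₁ := HT.isoPullback_hom_fst
    have hcc : connectedComponent (e.hom (σ w)) = connectedComponent (e.hom t) := by
      apply inj_of_h i h (r ≫ y)
      have e2 : (pullback.fst (r ≫ y) i) (e.hom (σ w)) = γ' w := by
        rw [← Scheme.Hom.comp_apply, he, ← Scheme.Hom.comp_apply, hσ1]
      have e3 : (pullback.fst (r ≫ y) i) (e.hom t) = π₁ t := by
        rw [← Scheme.Hom.comp_apply, he]
      rw [e2, e3]
      exact hsame
    have hpre2 : _root_.IsPreconnected (e.inv '' connectedComponent (e.hom t)) :=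
      isPreconnected_connectedComponent.image _ e.inv.continuous.continuousOn
    have hmem1 : σ w ∈ e.inv '' connectedComponent (e.hom t) := by
      refine ⟨e.hom (σ w), ?_, ?_⟩
      · rw [← hcc]; exact mem_connectedComponent
      · rw [← Scheme.Hom.comp_apply, e.hom_inv_id]; rfl
    have hmem2 : t ∈ e.inv '' connectedComponent (e.hom t) := by
      refine ⟨e.hom t, mem_connectedComponent, ?_⟩
      rw [← Scheme.Hom.comp_apply, e.hom_inv_id]; rfl
    exact hpre2.subset_isClopen hC ⟨σ w, hmem1, hσC ⟨w, rfl⟩⟩ hmem2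
  have hid : 𝟙 _ = π₂ ≫ σ := hC2 hCuniv
  haveI : IsIso π₂ := ⟨σ, hid.symm, hσ2⟩
  -- `r` has rank one
  have hrank : Scheme.Hom.finrank r = 1 := by
    have hloc := Scheme.Hom.isLocallyConstant_finrank r
    have hW : IsClopen (Scheme.Hom.finrank r ⁻¹' {1}) := hloc.isClopen_fiber 1
    have hP : ∀ w : ↥(pullback y i), p₁ w ∈ Scheme.Hom.finrank r ⁻¹' {1} := by
      intro w
      change Scheme.Hom.finrank r (p₁ w) = 1
      rw [← Scheme.Hom.finrank_pullback_snd r p₁ w]
      change Scheme.Hom.finrank π₂ w = 1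
      rw [Scheme.Hom.finrank_eq_one_of_isIso]
      rfl
    funext y₀
    obtain ⟨w, hc'⟩ := surj_of_h i h y y₀
    have : y₀ ∈ Scheme.Hom.finrank r ⁻¹' {1} := by
      apply hW.connectedComponent_subset (hP w)
      rw [hc']
      exact mem_connectedComponent
    exact this
  haveI : IsIso r := (Scheme.Hom.isIso_iff_finrank_eq r).mpr hrank
  refine ⟨inv r ≫ Γ.ι ≫ q₂, ?_, ?_⟩
  · rw [Category.assoc, Category.assoc, ← pullback.condition, IsIso.inv_comp_eq]
    simp only [r, Category.assoc, q₁]
  · change p₁ ≫ _ = a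
    rw [← hγr, Category.assoc, IsIso.hom_inv_id_assoc, reassoc_of% hγ', hγ2]

/-- Let `i : X₀ ⟶ X` be a morphism such that the connected components of every finite étale
cover of `X` are open and, for every finite étale `Y → X`, the projection `Y ×_X X₀ → Y` induces a
bijection on connected components. Then restriction of finite étale covers from `X` to `X₀` is
full and faithful. -/
theorem full_faithful_of_connectedComponents_bijective {X X₀ : Scheme.{u}} (i : X₀ ⟶ X)
    (hopen : ∀ (W : Scheme.{u}) (w : W ⟶ X) [IsFinite w] [Etale w] (z : W),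
      IsOpen (connectedComponent z))
    (h : ∀ Y : FEt.Cat X,
      Function.Bijective (pullback.fst Y.hom i).continuous.connectedComponentsMap) :
    (FEt.restrict i).Full ∧ (FEt.restrict i).Faithful := by
  refine ⟨?_, ?_⟩
  · apply Groth.Agent.Lib.Helper4.FEtFull.full_restrict_of_exists_extension
    intro Y Y' a ha
    have hY : IsFinite Y.hom ∧ Etale Y.hom := Y.prop
    have hY' : IsFinite Y'.hom ∧ Etale Y'.hom := Y'.prop
    haveI := hY.1
    haveI := hY.2
    haveI := hY'.1
    haveI := hY'.2
    exact exists_extension i hopen h Y.hom Y'.hom a ha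
  · apply Groth.Agent.Lib.Helper20.FEtFaith.faithful_of_forall_clopen
    intro A C hC hsub
    rw [Set.eq_univ_iff_forall]
    intro y₀
    have hA : IsFinite A.hom ∧ Etale A.hom := A.prop
    haveI := hA.1
    haveI := hA.2
    obtain ⟨w, hc'⟩ := surj_of_h i h A.hom y₀
    have hw : (pullback.fst A.hom i) w ∈ C := by
      apply hsub
      change A.hom ((pullback.fst A.hom i) w) ∈ Set.range i
      rw [← Scheme.Hom.comp_apply, pullback.condition, Scheme.Hom.comp_apply]
      exact ⟨_, rfl⟩
    apply hC.connectedComponent_subset hw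
    rw [hc']
    exact mem_connectedComponent

end Groth.Agent.Lib.Helper22.FEtFF
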