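import Mathlib

/-!
# Abstract two-step extension of scalars computations (helper24)

For ring maps `φ : A → B`, `φ' : B → C`, `χ = φ' ∘ φ` and a comparison iso
`α : C ⊗_A N ≅ C ⊗_B (B ⊗_A N)` with `α (1 ⊗ n) = 1 ⊗ (1 ⊗ n)`, compute `α⁻¹ (1 ⊗ x)` and relate it
to `lTensor N φ'` after swapping the tensor factors.
-/

open CategoryTheory TensorProduct ModuleCat
open scoped ChangeOfRings

universe u

namespace Helper24WDesc

variable {A B C : Type u} [CommRing A] [CommRing B] [CommRing C]

set_option backward.isDefEq.respectTransparency false in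
theorem inv_one_tmul_tmul (φ : A →+* B) (φ' : B →+* C) (χ : A →+* C) (N : ModuleCat.{u} A)
    (α : (extendScalars χ).obj N ≅ (extendScalars φ').obj ((extendScalars φ).obj N))
    (hα : ∀ n : N, α.hom.hom ((1 : C) ⊗ₜ[A,χ] n) = (1 : C) ⊗ₜ[B,φ'] ((1 : B) ⊗ₜ[A,φ] n))
    (r : B) (n : N) :
    α.inv.hom ((1 : C) ⊗ₜ[B,φ'] (r ⊗ₜ[A,φ] n)) = (φ' r) ⊗ₜ[A,χ] n := by
  have e1 : ((1 : C) ⊗ₜ[B,φ'] (r ⊗ₜ[A,φ] n) : (extendScalars φ').obj ((extendScalars φ).obj N)) =
      (φ' r) • ((1 : C) ⊗ₜ[B,φ'] ((1 : B) ⊗ₜ[A,φ] n)) := by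
    have h1 : (r ⊗ₜ[A,φ] n : (extendScalars φ).obj N) = r • ((1 : B) ⊗ₜ[A,φ] n) := by
      change _ = (r * 1) ⊗ₜ[A,φ] n
      rw [mul_one]
    have h2 : (φ' r) • ((1 : C) ⊗ₜ[B,φ'] ((1 : B) ⊗ₜ[A,φ] n) :
        (extendScalars φ').obj ((extendScalars φ).obj N)) =
        (φ' r * 1) ⊗ₜ[B,φ'] ((1 : B) ⊗ₜ[A,φ] n) := rfl
    rw [h1, h2]
    exact (TensorProduct.smul_tmul (R := B) (R' := B) r
      (show ((restrictScalars φ').obj (of C C)) from (1 : C))
      (((1 : B) ⊗ₜ[A,φ] n : (extendScalars φ).obj N))).symm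
  rw [e1, map_smul, ← hα]
  have : α.inv.hom (α.hom.hom ((1 : C) ⊗ₜ[A,χ] n)) = (1 : C) ⊗ₜ[A,χ] n := by
    have := congrArg (fun f => f.hom ((1 : C) ⊗ₜ[A,χ] n)) α.hom_inv_id
    simpa using this
  rw [this, ExtendScalars.smul_tmul, mul_one]


section swap

variable [Algebra A B] [Algebra A C]

set_option backward.isDefEq.respectTransparency false in
/-- swap `B ⊗_A N → N ⊗_A B` on the extension of scalars along `φ` (which is the algebra map). -/
noncomputable def swap (φ : A →+* B) (hφ : ∀ a, algebraMap A B a = φ a) (N : ModuleCat.{u} A) :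
    ((extendScalars φ).obj N) →+ (N ⊗[A] B) :=
  TensorProduct.liftAddHom
    (M := (restrictScalars φ).obj (of B B)) (N := N) (R := A)
    { toFun := fun b =>
        { toFun := fun n => n ⊗ₜ[A] (show B from b)
          map_zero' := TensorProduct.zero_tmul _ _
          map_add' := fun n n' => TensorProduct.add_tmul _ _ _ }
      map_zero' := by ext n; exact TensorProduct.tmul_zero _ _
      map_add' := fun b b' => by ext n; exact TensorProduct.tmul_add _ _ _ }
    (by
      intro a b n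
      change n ⊗ₜ[A] (φ a * (show B from b)) = (a • n) ⊗ₜ[A] (show B from b)
      rw [TensorProduct.smul_tmul, Algebra.smul_def, hφ])

set_option backward.isDefEq.respectTransparency false in
theorem swap_tmul (φ : A →+* B) (hφ : ∀ a, algebraMap A B a = φ a) (N : ModuleCat.{u} A) (b : B) (n : N) :
    swap φ hφ N (b ⊗ₜ[A,φ] n) = n ⊗ₜ[A] b := rfl

set_option backward.isDefEq.respectTransparency false in
/-- inverse swap. -/
noncomputable def unswap (φ : A →+* B) (hφ : ∀ a, algebraMap A B a = φ a) (N : ModuleCat.{u} A) :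
    (N ⊗[A] B) →+ ((extendScalars φ).obj N) :=
  TensorProduct.liftAddHom (R := A)
    { toFun := fun n =>
        { toFun := fun b => (b ⊗ₜ[A,φ] n : (extendScalars φ).obj N)
          map_zero' := TensorProduct.zero_tmul _ _
          map_add' := fun b b' => TensorProduct.add_tmul _ _ _ }
      map_zero' := by ext b; exact TensorProduct.tmul_zero _ _
      map_add' := fun n n' => by ext b; exact TensorProduct.tmul_add _ _ _ }
    (by
      intro a n b
      change ((show B from b) ⊗ₜ[A,φ] (a • n) : (extendScalars φ).obj N) =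
        ((a • (show B from b)) ⊗ₜ[A,φ] n)
      rw [Algebra.smul_def, hφ]
      exact (TensorProduct.smul_tmul (R := A) (R' := A) a
        (show ((restrictScalars φ).obj (of B B)) from b) n).symm)

set_option backward.isDefEq.respectTransparency false in
theorem unswap_swap (φ : A →+* B) (hφ : ∀ a, algebraMap A B a = φ a) (N : ModuleCat.{u} A)
    (x : (extendScalars φ).obj N) :
    unswap φ hφ N (swap φ hφ N x) = x := by
  induction x using TensorProduct.induction_on with
  | zero => simp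
  | tmul b n => rfl
  | add x y hx hy => rw [map_add, map_add, hx, hy]

theorem swap_injective (φ : A →+* B) (hφ : ∀ a, algebraMap A B a = φ a) (N : ModuleCat.{u} A) :
    Function.Injective (swap φ hφ N) :=
  Function.LeftInverse.injective (unswap_swap φ hφ N)

set_option backward.isDefEq.respectTransparency false in
theorem swap_inv_one_tmul (φ : A →+* B) (hφ : ∀ a, algebraMap A B a = φ a)
    (χ : A →+* C) (hχ : ∀ a, algebraMap A C a = χ a) (φ' : B →+* C)
    (ψ : B →ₐ[A] C) (hψ : ∀ b, ψ b = φ' b) (N : ModuleCat.{u} A)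
    (α : (extendScalars χ).obj N ≅ (extendScalars φ').obj ((extendScalars φ).obj N))
    (hα : ∀ n : N, α.hom.hom ((1 : C) ⊗ₜ[A,χ] n) = (1 : C) ⊗ₜ[B,φ'] ((1 : B) ⊗ₜ[A,φ] n))
    (x : (extendScalars φ).obj N) :
    swap χ hχ N (α.inv.hom ((1 : C) ⊗ₜ[B,φ'] x)) =
      LinearMap.lTensor N ψ.toLinearMap (swap φ hφ N x) := by
  induction x using TensorProduct.induction_on with
  | zero =>
    rw [TensorProduct.tmul_zero]
    simp
  | tmul b n =>
    rw [inv_one_tmul_tmul φ φ' χ N α hα b n]
    change n ⊗ₜ[A] (φ' b) = n ⊗ₜ[A] (ψ b)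
    rw [hψ]
  | add x y hx hy =>
    rw [TensorProduct.tmul_add, map_add, map_add, hx, hy, map_add, map_add]

end swap

end Helper24WDesc
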