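import Mathlib
import Groth.Agent.Lib.Helper24WDesc2

/-!
# Faithfully flat descent of modules: generic element-level helpers (helper22)
-/

open CategoryTheory TensorProduct ModuleCat
open scoped ChangeOfRings

universe u

namespace Groth.Agent.Lib.Helper22.FFD

section generic

variable {A B C : Type u} [CommRing A] [CommRing B] [CommRing C]

set_option backward.isDefEq.respectTransparency false in
/-- Additive maps out of an extension of scalars. -/
noncomputable def liftES (g : A →+* B) (X : ModuleCat.{u} A) {P : Type*} [AddCommMonoid P]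
    (h : B →+ X →+ P) (hbal : ∀ (a : A) (b : B) (x : X), h (g a * b) x = h b (a • x)) :
    ((extendScalars g).obj X) →+ P :=
  TensorProduct.liftAddHom (R := A) (M := (restrictScalars g).obj (of B B)) (N := X) h
    (fun a b x => hbal a b x)

set_option backward.isDefEq.respectTransparency false in
@[simp]
theorem liftES_tmul (g : A →+* B) (X : ModuleCat.{u} A) {P : Type*} [AddCommMonoid P]
    (h : B →+ X →+ P) (hbal : ∀ (a : A) (b : B) (x : X), h (g a * b) x = h b (a • x))
    (b : B) (x : X) :
    liftES g X h hbal (b ⊗ₜ[A,g] x) = h b x := rfl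

set_option backward.isDefEq.respectTransparency false in
/-- Two additive maps out of an extension of scalars agreeing on pure tensors are equal. -/
theorem addHom_ext_ES (g : A →+* B) (X : ModuleCat.{u} A) {P : Type*} [AddCommMonoid P]
    (F G : ((extendScalars g).obj X) →+ P)
    (h : ∀ (b : B) (x : X), F (b ⊗ₜ[A,g] x) = G (b ⊗ₜ[A,g] x)) : F = G := by
  ext y
  induction y using TensorProduct.induction_on with
  | zero => rw [map_zero, map_zero]
  | tmul b x => exact h b x
  | add y z hy hz => rw [map_add, map_add, hy, hz]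

set_option backward.isDefEq.respectTransparency false in
theorem tmul_eq_smul_one_tmul (g : A →+* B) (X : ModuleCat.{u} A) (b : B) (x : X) :
    (b ⊗ₜ[A,g] x : (extendScalars g).obj X) = b • ((1 : B) ⊗ₜ[A,g] x) := by
  rw [ExtendScalars.smul_tmul, mul_one]

set_option backward.isDefEq.respectTransparency false in
/-- the comparison iso on general pure tensors. -/
theorem hom_tmul (φ : A →+* B) (φ' : B →+* C) (χ : A →+* C) 
    (N : ModuleCat.{u} A)
    (α : (extendScalars χ).obj N ≅ (extendScalars φ').obj ((extendScalars φ).obj N))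
    (hα : ∀ n : N, α.hom.hom ((1 : C) ⊗ₜ[A,χ] n) = (1 : C) ⊗ₜ[B,φ'] ((1 : B) ⊗ₜ[A,φ] n))
    (c : C) (n : N) :
    α.hom.hom (c ⊗ₜ[A,χ] n) = c ⊗ₜ[B,φ'] ((1 : B) ⊗ₜ[A,φ] n) := by
  rw [tmul_eq_smul_one_tmul χ N c n, map_smul, hα]
  exact (tmul_eq_smul_one_tmul φ' ((extendScalars φ).obj N) c ((1 : B) ⊗ₜ[A,φ] n)).symm

set_option backward.isDefEq.respectTransparency false in
/-- the inverse comparison iso on general pure tensors. -/
theorem inv_tmul_tmul (φ : A →+* B) (φ' : B →+* C) (χ : A →+* C) (N : ModuleCat.{u} A)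
    (α : (extendScalars χ).obj N ≅ (extendScalars φ').obj ((extendScalars φ).obj N))
    (hα : ∀ n : N, α.hom.hom ((1 : C) ⊗ₜ[A,χ] n) = (1 : C) ⊗ₜ[B,φ'] ((1 : B) ⊗ₜ[A,φ] n))
    (c : C) (r : B) (n : N) :
    α.inv.hom (c ⊗ₜ[B,φ'] (r ⊗ₜ[A,φ] n)) = (c * φ' r) ⊗ₜ[A,χ] n := by
  rw [tmul_eq_smul_one_tmul φ' ((extendScalars φ).obj N) c (r ⊗ₜ[A,φ] n), map_smul,
    Helper24WDesc.inv_one_tmul_tmul φ φ' χ N α hα r n, ExtendScalars.smul_tmul]

set_option backward.isDefEq.respectTransparency false in
theorem inv_hom_apply {X Y : ModuleCat.{u} A} (α : X ≅ Y) (x : X) :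
    α.inv.hom (α.hom.hom x) = x := by
  have := congrArg (fun f => f.hom x) α.hom_inv_id
  simpa only [ModuleCat.hom_comp, LinearMap.comp_apply, ModuleCat.hom_id, LinearMap.id_apply] using this

set_option backward.isDefEq.respectTransparency false in
theorem hom_inv_apply {X Y : ModuleCat.{u} A} (α : X ≅ Y) (y : Y) :
    α.hom.hom (α.inv.hom y) = y := by
  have := congrArg (fun f => f.hom y) α.inv_hom_id
  simpa only [ModuleCat.hom_comp, LinearMap.comp_apply, ModuleCat.hom_id, LinearMap.id_apply] using this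

end generic

end Groth.Agent.Lib.Helper22.FFD
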