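import Mathlib
import Groth.Agent.Lib.Helper22FFD1

/-!
# Faithfully flat descent of modules: the coalgebra attached to a descent datum (helper22)
-/

open CategoryTheory TensorProduct ModuleCat
open scoped ChangeOfRings

universe u

namespace Groth.Agent.Lib.Helper22.FFD

section rings

variable (R S : Type u) [CommRing R] [CommRing S] [Algebra R S]

/-- the structure map -/
noncomputable def fR : R →+* S := algebraMap R S
/-- first inclusion -/
noncomputable def i1 : S →+* S ⊗[R] S := Algebra.TensorProduct.includeLeftRingHom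
/-- second inclusion -/
noncomputable def i2 : S →+* S ⊗[R] S :=
  (Algebra.TensorProduct.includeRight : S →ₐ[R] S ⊗[R] S).toRingHom
/-- the structure map of `S ⊗ S` -/
noncomputable def c2 : R →+* S ⊗[R] S := algebraMap R (S ⊗[R] S)
/-- multiplication -/
noncomputable def dg : S ⊗[R] S →+* S := (Algebra.TensorProduct.lmul' R : S ⊗[R] S →ₐ[R] S).toRingHom
/-- `s₁ ⊗ s₂ ↦ s₁ ⊗ (s₂ ⊗ 1)` -/
noncomputable def p12 : S ⊗[R] S →+* S ⊗[R] (S ⊗[R] S) :=
  (Algebra.TensorProduct.map (AlgHom.id R S)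
    (Algebra.TensorProduct.includeLeft : S →ₐ[R] S ⊗[R] S)).toRingHom
/-- `s₁ ⊗ s₂ ↦ s₁ ⊗ (1 ⊗ s₂)` -/
noncomputable def p13 : S ⊗[R] S →+* S ⊗[R] (S ⊗[R] S) :=
  (Algebra.TensorProduct.map (AlgHom.id R S)
    (Algebra.TensorProduct.includeRight : S →ₐ[R] S ⊗[R] S)).toRingHom
/-- `t ↦ 1 ⊗ t` -/
noncomputable def p23 : S ⊗[R] S →+* S ⊗[R] (S ⊗[R] S) :=
  (Algebra.TensorProduct.includeRight : (S ⊗[R] S) →ₐ[R] S ⊗[R] (S ⊗[R] S)).toRingHom
/-- `s ↦ s ⊗ (1 ⊗ 1)` -/
noncomputable def q1 : S →+* S ⊗[R] (S ⊗[R] S) := Algebra.TensorProduct.includeLeftRingHom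
/-- `s ↦ 1 ⊗ (s ⊗ 1)` -/
noncomputable def q2 : S →+* S ⊗[R] (S ⊗[R] S) := (p23 R S).comp (i1 R S)
/-- `s ↦ 1 ⊗ (1 ⊗ s)` -/
noncomputable def q3 : S →+* S ⊗[R] (S ⊗[R] S) := (p23 R S).comp (i2 R S)

variable {R S}

@[simp] theorem i1_apply (s : S) : i1 R S s = s ⊗ₜ[R] (1 : S) := rfl
@[simp] theorem i2_apply (s : S) : i2 R S s = (1 : S) ⊗ₜ[R] s := rfl
@[simp] theorem dg_tmul (s₁ s₂ : S) : dg R S (s₁ ⊗ₜ[R] s₂) = s₁ * s₂ := by
  simp [dg]
@[simp] theorem p12_tmul (s₁ s₂ : S) : p12 R S (s₁ ⊗ₜ[R] s₂) = s₁ ⊗ₜ[R] (s₂ ⊗ₜ[R] (1 : S)) := by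
  simp [p12]
@[simp] theorem p13_tmul (s₁ s₂ : S) : p13 R S (s₁ ⊗ₜ[R] s₂) = s₁ ⊗ₜ[R] ((1 : S) ⊗ₜ[R] s₂) := by
  simp [p13]
@[simp] theorem p23_apply (t : S ⊗[R] S) : p23 R S t = (1 : S) ⊗ₜ[R] t := rfl

theorem p12_comp_i1 : (p12 R S).comp (i1 R S) = q1 R S := by
  ext s; simp [q1]; rfl
theorem p12_comp_i2 : (p12 R S).comp (i2 R S) = q2 R S := by
  ext s; simp [q2]
theorem p13_comp_i1 : (p13 R S).comp (i1 R S) = q1 R S := by
  ext s; simp [q1]; rfl
theorem p13_comp_i2 : (p13 R S).comp (i2 R S) = q3 R S := by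
  ext s; simp [q3]
theorem dg_comp_i1 : (dg R S).comp (i1 R S) = RingHom.id S := by
  ext s; simp
theorem dg_comp_i2 : (dg R S).comp (i2 R S) = RingHom.id S := by
  ext s; simp
theorem i1_comp_fR : (i1 R S).comp (fR R S) = c2 R S := by
  ext r; simp [fR, c2, Algebra.TensorProduct.algebraMap_apply]
theorem i2_comp_fR : (i2 R S).comp (fR R S) = c2 R S := by
  ext r
  simp only [fR, c2, RingHom.comp_apply, i2_apply, Algebra.TensorProduct.algebraMap_apply]
  rw [Algebra.algebraMap_eq_smul_one, TensorProduct.tmul_smul, TensorProduct.smul_tmul']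

end rings

section psi

variable {R S : Type u} [CommRing R] [CommRing S] [Algebra R S] (N : ModuleCat.{u} S)

/-- `G N = S ⊗_R N`, the comonad applied to `N`. -/
noncomputable abbrev GG (N : ModuleCat.{u} S) : ModuleCat.{u} S :=
  (extendScalars (fR R S)).obj ((restrictScalars (fR R S)).obj N)

set_option backward.isDefEq.respectTransparency false in
/-- `(s₁ ⊗ s₂, n) ↦ s₁ ⊗ s₂ n`. -/
noncomputable def sig : (S ⊗[R] S) →+ N →+ (GG (R := R) N) :=
  TensorProduct.liftAddHom (R := R)
    (AddMonoidHom.mk' (fun s₁ : S => AddMonoidHom.mk' (fun s₂ : S =>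
      AddMonoidHom.mk' (fun n : N =>
        (s₁ ⊗ₜ[R,fR R S] (show (restrictScalars (fR R S)).obj N from s₂ • n) : GG (R := R) N))
        (fun n n' => by
          rw [smul_add]
          exact TensorProduct.tmul_add _ _ _))
      (fun s₂ s₂' => by
        ext n
        change (s₁ ⊗ₜ[R,fR R S] (show (restrictScalars (fR R S)).obj N from (s₂ + s₂') • n)
          : GG (R := R) N) = _
        rw [add_smul]
        exact TensorProduct.tmul_add _ _ _))
      (fun s₁ s₁' => by
        ext s₂ n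
        exact TensorProduct.add_tmul _ _ _))
    (fun r s₁ s₂ => by
      ext n
      change ((r • s₁) ⊗ₜ[R,fR R S] (show (restrictScalars (fR R S)).obj N from s₂ • n)
          : GG (R := R) N) =
        (s₁ ⊗ₜ[R,fR R S] (show (restrictScalars (fR R S)).obj N from (r • s₂) • n)
          : GG (R := R) N)
      rw [Algebra.smul_def, Algebra.smul_def, mul_smul]
      exact TensorProduct.smul_tmul (R := R) (R' := R) r
        (show ((restrictScalars (fR R S)).obj (of S S)) from s₁)
        (show (restrictScalars (fR R S)).obj N from s₂ • n))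

set_option backward.isDefEq.respectTransparency false in
@[simp]
theorem sig_tmul (s₁ s₂ : S) (n : N) :
    sig (R := R) N (s₁ ⊗ₜ[R] s₂) n =
      (s₁ ⊗ₜ[R,fR R S] (show (restrictScalars (fR R S)).obj N from s₂ • n) : GG (R := R) N) := rfl

set_option backward.isDefEq.respectTransparency false in
theorem sig_mul_i2 (t : S ⊗[R] S) (s : S) (n : N) :
    sig (R := R) N (i2 R S s * t) n = sig (R := R) N t (s • n) := by
  induction t using TensorProduct.induction_on with
  | zero => simp
  | tmul s₁ s₂ =>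
    rw [i2_apply, Algebra.TensorProduct.tmul_mul_tmul, one_mul, sig_tmul, sig_tmul, mul_smul,
      smul_comm]
  | add x y hx hy => rw [mul_add, map_add, map_add, AddMonoidHom.add_apply, AddMonoidHom.add_apply, hx, hy]

set_option backward.isDefEq.respectTransparency false in
/-- `ψ : (S ⊗ S) ⊗_{i₂} N → S ⊗_R N`, `(s₁ ⊗ s₂) ⊗ n ↦ s₁ ⊗ s₂ n`. -/
noncomputable def psi : ((extendScalars (i2 R S)).obj N) →+ (GG (R := R) N) :=
  liftES (i2 R S) N (sig (R := R) N) (fun a b x => sig_mul_i2 N b a x)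

set_option backward.isDefEq.respectTransparency false in
@[simp]
theorem psi_tmul (t : S ⊗[R] S) (n : N) :
    psi (R := R) N (t ⊗ₜ[S,i2 R S] n) = sig (R := R) N t n := rfl

set_option backward.isDefEq.respectTransparency false in
/-- the inverse of `ψ`. -/
noncomputable def psiInv : (GG (R := R) N) →+ ((extendScalars (i2 R S)).obj N) :=
  liftES (fR R S) ((restrictScalars (fR R S)).obj N)
    (AddMonoidHom.mk' (fun s : S => AddMonoidHom.mk'
      (fun n : (restrictScalars (fR R S)).obj N =>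
        ((s ⊗ₜ[R] (1 : S)) ⊗ₜ[S,i2 R S] (show N from n) : (extendScalars (i2 R S)).obj N))
      (fun n n' => TensorProduct.tmul_add _ _ _))
      (fun s s' => by
        ext n
        change (((s + s') ⊗ₜ[R] (1 : S)) ⊗ₜ[S,i2 R S] (show N from n) :
          (extendScalars (i2 R S)).obj N) = _
        rw [TensorProduct.add_tmul]
        exact TensorProduct.add_tmul _ _ _))
    (fun r s n => by
      change (((fR R S r * s) ⊗ₜ[R] (1 : S)) ⊗ₜ[S,i2 R S] (show N from n) :
          (extendScalars (i2 R S)).obj N) =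
        ((s ⊗ₜ[R] (1 : S)) ⊗ₜ[S,i2 R S] (show N from (fR R S r) • (show N from n)) :
          (extendScalars (i2 R S)).obj N)
      have h1 : ((fR R S r * s) ⊗ₜ[R] (1 : S) : S ⊗[R] S) =
          i2 R S (fR R S r) * (s ⊗ₜ[R] (1 : S)) := by
        rw [i2_apply, Algebra.TensorProduct.tmul_mul_tmul, one_mul, mul_one, fR,
          ← Algebra.smul_def, TensorProduct.smul_tmul, Algebra.smul_def, mul_one]
      rw [h1]
      exact TensorProduct.smul_tmul (R := S) (R' := S) (fR R S r)
        (show ((restrictScalars (i2 R S)).obj (of (S ⊗[R] S) (S ⊗[R] S))) from (s ⊗ₜ[R] (1 : S)))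
        (show N from n))

set_option backward.isDefEq.respectTransparency false in
@[simp]
theorem psiInv_tmul (s : S) (n : N) :
    psiInv (R := R) N (s ⊗ₜ[R,fR R S] (show (restrictScalars (fR R S)).obj N from n)) =
      ((s ⊗ₜ[R] (1 : S)) ⊗ₜ[S,i2 R S] n : (extendScalars (i2 R S)).obj N) := rfl

set_option backward.isDefEq.respectTransparency false in
theorem psiInv_psi (y : (extendScalars (i2 R S)).obj N) : psiInv (R := R) N (psi (R := R) N y) = y := by
  induction y using TensorProduct.induction_on with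
  | zero => simp
  | tmul t n =>
    induction t using TensorProduct.induction_on with
    | zero =>
      rw [TensorProduct.zero_tmul]; simp
    | tmul s₁ s₂ =>
      change psiInv (R := R) N (psi (R := R) N ((s₁ ⊗ₜ[R] s₂) ⊗ₜ[S,i2 R S] n)) =
        ((s₁ ⊗ₜ[R] s₂) ⊗ₜ[S,i2 R S] n : (extendScalars (i2 R S)).obj N)
      rw [psi_tmul, sig_tmul, psiInv_tmul]
      have h1 : (s₁ ⊗ₜ[R] s₂ : S ⊗[R] S) = i2 R S s₂ * (s₁ ⊗ₜ[R] (1 : S)) := by
        rw [i2_apply, Algebra.TensorProduct.tmul_mul_tmul, one_mul, mul_one]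
      rw [h1]
      exact (TensorProduct.smul_tmul (R := S) (R' := S) s₂
        (show ((restrictScalars (i2 R S)).obj (of (S ⊗[R] S) (S ⊗[R] S))) from (s₁ ⊗ₜ[R] (1 : S)))
        n).symm
    | add x y hx hy =>
      rw [TensorProduct.add_tmul, map_add, map_add, hx, hy]
  | add x y hx hy => rw [map_add, map_add, hx, hy]

theorem psi_injective : Function.Injective (psi (R := R) N) :=
  Function.LeftInverse.injective (psiInv_psi N)

set_option backward.isDefEq.respectTransparency false in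
/-- `ψ` is semilinear for the first inclusion. -/
theorem psi_i1_smul (s : S) (y : (extendScalars (i2 R S)).obj N) :
    psi (R := R) N (i1 R S s • y) = s • psi (R := R) N y := by
  induction y using TensorProduct.induction_on with
  | zero => simp
  | tmul t n =>
    induction t using TensorProduct.induction_on with
    | zero =>
      rw [TensorProduct.zero_tmul]; simp
    | tmul s₁ s₂ =>
      change psi (R := R) N (i1 R S s • ((s₁ ⊗ₜ[R] s₂) ⊗ₜ[S,i2 R S] n :
        (extendScalars (i2 R S)).obj N)) = s • psi (R := R) N ((s₁ ⊗ₜ[R] s₂) ⊗ₜ[S,i2 R S] n)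
      rw [ExtendScalars.smul_tmul, i1_apply, Algebra.TensorProduct.tmul_mul_tmul, one_mul,
        psi_tmul, psi_tmul, sig_tmul, sig_tmul, ExtendScalars.smul_tmul]
    | add x y hx hy =>
      rw [TensorProduct.add_tmul, smul_add, map_add, map_add, hx, hy, smul_add]
  | add x y hx hy => rw [smul_add, map_add, map_add, hx, hy, smul_add]

end psi

end Groth.Agent.Lib.Helper22.FFD
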