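import Groth.Agent.Lib.Helper24WDesc2

/-!
# Abstract descent of morphisms along a two-step extension of scalars (helper24)

Pure algebra: rings `A → B ⇉ C`, modules `M N` over `A`, a `B`-linear `ψ₀ : B ⊗ M → B ⊗ N`
compatible with comparison isos, and the equalizer property for `N`; then `ψ₀` is the base change
of a unique `A`-linear map `M → N`.
-/

open CategoryTheory TensorProduct ModuleCat
open scoped ChangeOfRings

universe u

namespace Helper24WDesc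

variable {A B C : Type u} [CommRing A] [CommRing B] [CommRing C] [Algebra A B] [Algebra A C]

set_option backward.isDefEq.respectTransparency false in
theorem one_tmul_smul (φ : A →+* B) (N : ModuleCat.{u} A) (a : A) (x : N) :
    ((1 : B) ⊗ₜ[A,φ] (a • x) : (extendScalars φ).obj N) = φ a • ((1 : B) ⊗ₜ[A,φ] x) := by
  rw [ExtendScalars.smul_tmul]
  exact (TensorProduct.smul_tmul (R := A) (R' := A) a
    (show ((restrictScalars φ).obj (of B B)) from (1 : B)) x).symm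

set_option backward.isDefEq.respectTransparency false in
theorem swap_smul (φ : A →+* B) (hφ : ∀ a, algebraMap A B a = φ a) (N : ModuleCat.{u} A) (a : A)
    (y : (extendScalars φ).obj N) :
    swap φ hφ N (φ a • y) = a • swap φ hφ N y := by
  induction y using TensorProduct.induction_on with
  | zero => rw [smul_zero, map_zero, smul_zero]
  | tmul b x =>
    rw [ExtendScalars.smul_tmul, swap_tmul, swap_tmul, TensorProduct.smul_tmul', TensorProduct.smul_tmul,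
      Algebra.smul_def, hφ]
  | add y z hy hz => rw [smul_add, map_add, hy, hz, map_add, smul_add]

set_option backward.isDefEq.respectTransparency false in
theorem ext_map_injective (φ : A →+* B) (hφ : ∀ a, algebraMap A B a = φ a) (M N : ModuleCat.{u} A)
    (H1 : Function.Injective (fun x : N => x ⊗ₜ[A] (1 : B)))
    (φ₁ φ₂ : M ⟶ N) (h : (extendScalars φ).map φ₁ = (extendScalars φ).map φ₂) : φ₁ = φ₂ := by
  ext x
  apply H1
  have h1 : ((extendScalars φ).map φ₁).hom ((1 : B) ⊗ₜ[A,φ] x) =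
      ((extendScalars φ).map φ₂).hom ((1 : B) ⊗ₜ[A,φ] x) := by rw [h]
  have h2 := congrArg (swap φ hφ N) h1
  exact h2


section main

set_option backward.isDefEq.respectTransparency false

variable (φ : A →+* B) (hφ : ∀ a, algebraMap A B a = φ a)
    (χ : A →+* C) (hχ : ∀ a, algebraMap A C a = χ a) (φ₁ φ₂ : B →+* C)
    (ψ₁ ψ₂ : B →ₐ[A] C) (hψ₁ : ∀ b, ψ₁ b = φ₁ b) (hψ₂ : ∀ b, ψ₂ b = φ₂ b)
    (M N : ModuleCat.{u} A)
    (α₁M : (extendScalars χ).obj M ≅ (extendScalars φ₁).obj ((extendScalars φ).obj M))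
    (hα₁M : ∀ x : M, α₁M.hom.hom ((1 : C) ⊗ₜ[A,χ] x) = (1 : C) ⊗ₜ[B,φ₁] ((1 : B) ⊗ₜ[A,φ] x))
    (α₂M : (extendScalars χ).obj M ≅ (extendScalars φ₂).obj ((extendScalars φ).obj M))
    (hα₂M : ∀ x : M, α₂M.hom.hom ((1 : C) ⊗ₜ[A,χ] x) = (1 : C) ⊗ₜ[B,φ₂] ((1 : B) ⊗ₜ[A,φ] x))
    (α₁N : (extendScalars χ).obj N ≅ (extendScalars φ₁).obj ((extendScalars φ).obj N))
    (hα₁N : ∀ x : N, α₁N.hom.hom ((1 : C) ⊗ₜ[A,χ] x) = (1 : C) ⊗ₜ[B,φ₁] ((1 : B) ⊗ₜ[A,φ] x))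
    (α₂N : (extendScalars χ).obj N ≅ (extendScalars φ₂).obj ((extendScalars φ).obj N))
    (hα₂N : ∀ x : N, α₂N.hom.hom ((1 : C) ⊗ₜ[A,χ] x) = (1 : C) ⊗ₜ[B,φ₂] ((1 : B) ⊗ₜ[A,φ] x))
    (ψ₀ : (extendScalars φ).obj M ⟶ (extendScalars φ).obj N)
    (hcomm : (extendScalars φ₁).map ψ₀ ≫ α₁N.inv ≫ α₂N.hom =
      α₁M.inv ≫ α₂M.hom ≫ (extendScalars φ₂).map ψ₀)

include hα₁M hα₂M hcomm in
set_option backward.isDefEq.respectTransparency false in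
theorem key_eq (m : M) :
    α₁N.inv.hom ((1 : C) ⊗ₜ[B,φ₁] (ψ₀.hom ((1 : B) ⊗ₜ[A,φ] m))) =
      α₂N.inv.hom ((1 : C) ⊗ₜ[B,φ₂] (ψ₀.hom ((1 : B) ⊗ₜ[A,φ] m))) := by
  have h1 := congrArg (fun t => t.hom (α₁M.hom.hom ((1 : C) ⊗ₜ[A,χ] m))) hcomm
  simp only [ModuleCat.hom_comp, LinearMap.comp_apply] at h1
  have e1 : α₁M.inv.hom (α₁M.hom.hom ((1 : C) ⊗ₜ[A,χ] m)) = (1 : C) ⊗ₜ[A,χ] m := by
    have := congrArg (fun t => t.hom ((1 : C) ⊗ₜ[A,χ] m)) α₁M.hom_inv_id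
    simpa using this
  rw [e1, hα₂M, hα₁M] at h1
  have e2 : ((extendScalars φ₁).map ψ₀).hom ((1 : C) ⊗ₜ[B,φ₁] ((1 : B) ⊗ₜ[A,φ] m)) =
      (1 : C) ⊗ₜ[B,φ₁] (ψ₀.hom ((1 : B) ⊗ₜ[A,φ] m)) := rfl
  have e3 : ((extendScalars φ₂).map ψ₀).hom ((1 : C) ⊗ₜ[B,φ₂] ((1 : B) ⊗ₜ[A,φ] m)) =
      (1 : C) ⊗ₜ[B,φ₂] (ψ₀.hom ((1 : B) ⊗ₜ[A,φ] m)) := rfl
  rw [e2, e3] at h1
  have h2 := congrArg (fun t => α₂N.inv.hom t) h1
  have e4 : ∀ t, α₂N.inv.hom (α₂N.hom.hom t) = t := by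
    intro t
    have := congrArg (fun s => s.hom t) α₂N.hom_inv_id
    simpa using this
  simp only [e4] at h2
  exact h2

include hφ hχ hα₁M hα₂M hα₁N hα₂N hcomm hψ₁ hψ₂ in
set_option backward.isDefEq.respectTransparency false in
theorem key_lTensor (m : M) :
    LinearMap.lTensor N ψ₁.toLinearMap (swap φ hφ N (ψ₀.hom ((1 : B) ⊗ₜ[A,φ] m))) =
      LinearMap.lTensor N ψ₂.toLinearMap (swap φ hφ N (ψ₀.hom ((1 : B) ⊗ₜ[A,φ] m))) := by
  rw [← swap_inv_one_tmul φ hφ χ hχ φ₁ ψ₁ hψ₁ N α₁N hα₁N, ← swap_inv_one_tmul φ hφ χ hχ φ₂ ψ₂ hψ₂ N α₂N hα₂N,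
    key_eq φ χ φ₁ φ₂ M N α₁M hα₁M α₂M hα₂M α₁N α₂N ψ₀ hcomm m]

include hφ hχ hα₁M hα₂M hα₁N hα₂N hcomm hψ₁ hψ₂ in
set_option backward.isDefEq.respectTransparency false in
theorem exists_descent
    (H1 : Function.Injective (fun x : N => x ⊗ₜ[A] (1 : B)))
    (H2 : ∀ x : N ⊗[A] B, LinearMap.lTensor N ψ₁.toLinearMap x = LinearMap.lTensor N ψ₂.toLinearMap x →
      x ∈ Set.range (fun x : N => x ⊗ₜ[A] (1 : B))) :
    ∃ φ₀ : M ⟶ N, (extendScalars φ).map φ₀ = ψ₀ := by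
  have hex : ∀ m : M, ∃ x : N, x ⊗ₜ[A] (1 : B) = swap φ hφ N (ψ₀.hom ((1 : B) ⊗ₜ[A,φ] m)) := fun m =>
    H2 _ (key_lTensor φ hφ χ hχ φ₁ φ₂ ψ₁ ψ₂ hψ₁ hψ₂ M N α₁M hα₁M α₂M hα₂M α₁N hα₁N α₂N hα₂N ψ₀ hcomm m)
  choose φf hφf using hex
  have hadd : ∀ m m' : M, φf (m + m') = φf m + φf m' := by
    intro m m'
    apply H1
    change φf (m + m') ⊗ₜ[A] (1 : B) = (φf m + φf m') ⊗ₜ[A] (1 : B)
    rw [TensorProduct.add_tmul, hφf, hφf, hφf, TensorProduct.tmul_add, map_add, map_add]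
  have hsmul : ∀ (a : A) (m : M), φf (a • m) = a • φf m := by
    intro a m
    apply H1
    change φf (a • m) ⊗ₜ[A] (1 : B) = (a • φf m) ⊗ₜ[A] (1 : B)
    rw [← TensorProduct.smul_tmul', hφf, hφf, one_tmul_smul, map_smul, swap_smul]
  refine ⟨ModuleCat.ofHom { toFun := φf, map_add' := hadd, map_smul' := hsmul }, ?_⟩
  apply ExtendScalars.hom_ext
  intro m
  apply swap_injective φ hφ N
  change swap φ hφ N ((1 : B) ⊗ₜ[A,φ] (φf m)) = swap φ hφ N (ψ₀.hom ((1 : B) ⊗ₜ[A,φ] m))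
  rw [swap_tmul, hφf]

end main

end Helper24WDesc
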