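import Mathlib
import Groth.Agent.Lib.Helper22FFD2
import Groth.Agent.Lib.Helper24WDescC

/-!
# Faithfully flat descent of modules: coalgebra axioms (helper22)
-/

open CategoryTheory TensorProduct ModuleCat
open scoped ChangeOfRings

universe u

set_option backward.isDefEq.respectTransparency false

namespace Groth.Agent.Lib.Helper22.FFD

variable {R S : Type u} [CommRing R] [CommRing S] [Algebra R S] (N : ModuleCat.{u} S)
  (φ : (extendScalars (i1 R S)).obj N ⟶ (extendScalars (i2 R S)).obj N)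

/-- the coalgebra structure map `n ↦ ψ(φ(1 ⊗ n))`. -/
noncomputable def aMap : N ⟶ GG (R := R) N :=
  ModuleCat.ofHom
    { toFun := fun n => psi (R := R) N (φ.hom ((1 : S ⊗[R] S) ⊗ₜ[S,i1 R S] n))
      map_add' := fun n n' => by
        have e : ((1 : S ⊗[R] S) ⊗ₜ[S,i1 R S] (n + n') : (extendScalars (i1 R S)).obj N) =
            ((1 : S ⊗[R] S) ⊗ₜ[S,i1 R S] n : (extendScalars (i1 R S)).obj N) +
            ((1 : S ⊗[R] S) ⊗ₜ[S,i1 R S] n' : (extendScalars (i1 R S)).obj N) :=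
          TensorProduct.tmul_add _ _ _
        rw [e, map_add, map_add]
      map_smul' := fun s n => by
        have e := Helper24WDesc.one_tmul_smul (i1 R S) N s n
        rw [e, map_smul, psi_i1_smul]
        rfl }

theorem aMap_apply (n : N) :
    (aMap N φ).hom n = psi (R := R) N (φ.hom ((1 : S ⊗[R] S) ⊗ₜ[S,i1 R S] n)) := rfl

theorem counit_tmul (s : S) (m : (restrictScalars (fR R S)).obj N) :
    ((extendRestrictScalarsAdj (fR R S)).counit.app N).hom (s ⊗ₜ[R,fR R S] m) = s • (show N from m) := by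
  rw [tmul_eq_smul_one_tmul (fR R S) _ s m, map_smul]
  congr 1
  exact extendRestrictScalarsAdj_counit_app_apply_one_tmul (f := fR R S) N m

/-- `s ⊗ n ↦ s • n` on `id^* N`. -/
noncomputable def muId : ((extendScalars (RingHom.id S)).obj N) →+ N :=
  liftES (RingHom.id S) N
    (AddMonoidHom.mk' (fun s : S => AddMonoidHom.mk' (fun n : N => s • n) (fun n n' => smul_add s n n'))
      (fun s s' => by ext n; exact add_smul s s' n))
    (fun a b x => by
      change (RingHom.id S a * b) • x = b • (a • x)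
      rw [RingHom.id_apply, mul_comm, mul_smul])

@[simp]
theorem muId_tmul (s : S) (n : N) : muId N (s ⊗ₜ[S,RingHom.id S] n) = s • n := rfl

section counit

variable
  (αΔ1 : (extendScalars (RingHom.id S)).obj N ≅
    (extendScalars (dg R S)).obj ((extendScalars (i1 R S)).obj N))
  (hαΔ1 : ∀ n : N, αΔ1.hom.hom ((1 : S) ⊗ₜ[S,RingHom.id S] n) =
    (1 : S) ⊗ₜ[S ⊗[R] S,dg R S] ((1 : S ⊗[R] S) ⊗ₜ[S,i1 R S] n))
  (αΔ2 : (extendScalars (RingHom.id S)).obj N ≅
    (extendScalars (dg R S)).obj ((extendScalars (i2 R S)).obj N))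
  (hαΔ2 : ∀ n : N, αΔ2.hom.hom ((1 : S) ⊗ₜ[S,RingHom.id S] n) =
    (1 : S) ⊗ₜ[S ⊗[R] S,dg R S] ((1 : S ⊗[R] S) ⊗ₜ[S,i2 R S] n))
  (hself : αΔ1.hom ≫ (extendScalars (dg R S)).map φ ≫ αΔ2.inv = 𝟙 _)

include hαΔ2 in
theorem counit_psi (y : (extendScalars (i2 R S)).obj N) :
    ((extendRestrictScalarsAdj (fR R S)).counit.app N).hom (psi (R := R) N y) =
      muId N (αΔ2.inv.hom ((1 : S) ⊗ₜ[S ⊗[R] S,dg R S] y)) := by
  induction y using TensorProduct.induction_on with
  | zero => rw [TensorProduct.tmul_zero, map_zero, map_zero, map_zero, map_zero]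
  | tmul t n =>
    induction t using TensorProduct.induction_on with
    | zero =>
      rw [TensorProduct.zero_tmul, TensorProduct.tmul_zero, map_zero, map_zero, map_zero, map_zero]
    | tmul s₁ s₂ =>
      change ((extendRestrictScalarsAdj (fR R S)).counit.app N).hom
        (psi (R := R) N ((s₁ ⊗ₜ[R] s₂) ⊗ₜ[S,i2 R S] n)) =
        muId N (αΔ2.inv.hom ((1 : S) ⊗ₜ[S ⊗[R] S,dg R S] ((s₁ ⊗ₜ[R] s₂) ⊗ₜ[S,i2 R S] n)))
      rw [psi_tmul, sig_tmul, counit_tmul,
        inv_tmul_tmul (i2 R S) (dg R S) (RingHom.id S) N αΔ2 hαΔ2, dg_tmul, muId_tmul, one_mul,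
        mul_smul]
    | add x y hx hy =>
      rw [TensorProduct.add_tmul, TensorProduct.tmul_add, map_add, map_add, map_add, map_add, hx, hy]
  | add x y hx hy =>
    rw [TensorProduct.tmul_add, map_add, map_add, map_add, map_add, hx, hy]

include hαΔ1 hαΔ2 hself in
theorem aMap_counit :
    aMap N φ ≫ (extendRestrictScalarsAdj (fR R S)).counit.app N = 𝟙 N := by
  refine ModuleCat.hom_ext (LinearMap.ext fun n => ?_)
  change ((extendRestrictScalarsAdj (fR R S)).counit.app N).hom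
    (psi (R := R) N (φ.hom ((1 : S ⊗[R] S) ⊗ₜ[S,i1 R S] n))) = n
  rw [counit_psi N αΔ2 hαΔ2]
  have h1 := congrArg (fun g => g.hom ((1 : S) ⊗ₜ[S,RingHom.id S] n)) hself
  simp only [ModuleCat.hom_comp, LinearMap.comp_apply, ModuleCat.hom_id, LinearMap.id_apply] at h1
  rw [hαΔ1] at h1
  have h2 : ((extendScalars (dg R S)).map φ).hom
      ((1 : S) ⊗ₜ[S ⊗[R] S,dg R S] ((1 : S ⊗[R] S) ⊗ₜ[S,i1 R S] n)) =
      (1 : S) ⊗ₜ[S ⊗[R] S,dg R S] (φ.hom ((1 : S ⊗[R] S) ⊗ₜ[S,i1 R S] n)) := rfl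
  rw [h2] at h1
  rw [h1, muId_tmul, one_smul]

end counit

end Groth.Agent.Lib.Helper22.FFD
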