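import Mathlib
import Groth.Agent.Lib.Helper22FFD3

/-!
# Faithfully flat descent of modules: coassociativity from the cocycle condition (helper22)
-/

open CategoryTheory TensorProduct ModuleCat
open scoped ChangeOfRings

universe u

set_option backward.isDefEq.respectTransparency false

namespace Groth.Agent.Lib.Helper22.FFD

variable {R S : Type u} [CommRing R] [CommRing S] [Algebra R S] (N : ModuleCat.{u} S)

theorem sig_smul (r : R) (t : S ⊗[R] S) (n : N) :
    sig (R := R) N (r • t) n = fR R S r • sig (R := R) N t n := by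
  induction t using TensorProduct.induction_on with
  | zero => simp
  | tmul s₁ s₂ =>
    rw [TensorProduct.smul_tmul', sig_tmul, sig_tmul, ExtendScalars.smul_tmul, Algebra.smul_def]
    rfl
  | add x y hx hy =>
    rw [smul_add, map_add, map_add, AddMonoidHom.add_apply, AddMonoidHom.add_apply, hx, hy, smul_add]

/-- `(x ⊗ t, n) ↦ x ⊗ σ(t, n)`. -/
noncomputable def sig3 : (S ⊗[R] (S ⊗[R] S)) →+ N →+ (GG (R := R) (GG (R := R) N)) :=
  TensorProduct.liftAddHom (R := R)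
    (AddMonoidHom.mk' (fun x : S => AddMonoidHom.mk' (fun t : S ⊗[R] S =>
      AddMonoidHom.mk' (fun n : N =>
        (x ⊗ₜ[R,fR R S] (show (restrictScalars (fR R S)).obj (GG (R := R) N) from
          sig (R := R) N t n) : GG (R := R) (GG (R := R) N)))
        (fun n n' => by
          rw [map_add]
          exact TensorProduct.tmul_add _ _ _))
      (fun t t' => by
        ext n
        change (x ⊗ₜ[R,fR R S] (show (restrictScalars (fR R S)).obj (GG (R := R) N) from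
          sig (R := R) N (t + t') n) : GG (R := R) (GG (R := R) N)) = _
        rw [map_add, AddMonoidHom.add_apply]
        exact TensorProduct.tmul_add _ _ _))
      (fun x x' => by
        ext t n
        exact TensorProduct.add_tmul _ _ _))
    (fun r x t => by
      ext n
      change ((r • x) ⊗ₜ[R,fR R S] (show (restrictScalars (fR R S)).obj (GG (R := R) N) from
          sig (R := R) N t n) : GG (R := R) (GG (R := R) N)) =
        (x ⊗ₜ[R,fR R S] (show (restrictScalars (fR R S)).obj (GG (R := R) N) from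
          sig (R := R) N (r • t) n) : GG (R := R) (GG (R := R) N))
      rw [sig_smul, Algebra.smul_def]
      exact TensorProduct.smul_tmul (R := R) (R' := R) r
        (show ((restrictScalars (fR R S)).obj (of S S)) from x)
        (show (restrictScalars (fR R S)).obj (GG (R := R) N) from sig (R := R) N t n))

@[simp]
theorem sig3_tmul (x : S) (t : S ⊗[R] S) (n : N) :
    sig3 (R := R) N (x ⊗ₜ[R] t) n =
      (x ⊗ₜ[R,fR R S] (show (restrictScalars (fR R S)).obj (GG (R := R) N) from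
          sig (R := R) N t n) : GG (R := R) (GG (R := R) N)) := rfl

theorem sig3_mul_q3 (w : S ⊗[R] (S ⊗[R] S)) (s : S) (n : N) :
    sig3 (R := R) N (q3 R S s * w) n = sig3 (R := R) N w (s • n) := by
  induction w using TensorProduct.induction_on with
  | zero => simp
  | tmul x t =>
    have h1 : q3 R S s * (x ⊗ₜ[R] t) = x ⊗ₜ[R] (i2 R S s * t) := by
      simp [q3, Algebra.TensorProduct.tmul_mul_tmul]
    rw [h1, sig3_tmul, sig3_tmul, sig_mul_i2]
  | add x y hx hy =>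
    rw [mul_add, map_add, map_add, AddMonoidHom.add_apply, AddMonoidHom.add_apply, hx, hy]

/-- `Ψ₃ : T₃ ⊗_{q₃} N → S ⊗ (S ⊗ N)`. -/
noncomputable def psi3 : ((extendScalars (q3 R S)).obj N) →+ (GG (R := R) (GG (R := R) N)) :=
  liftES (q3 R S) N (sig3 (R := R) N) (fun a b x => sig3_mul_q3 N b a x)

@[simp]
theorem psi3_tmul (w : S ⊗[R] (S ⊗[R] S)) (n : N) :
    psi3 (R := R) N (w ⊗ₜ[S,q3 R S] n) = sig3 (R := R) N w n := rfl

section coassoc

variable (φ : (extendScalars (i1 R S)).obj N ⟶ (extendScalars (i2 R S)).obj N)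

section A'

variable
  (β233 : (extendScalars (q3 R S)).obj N ≅
    (extendScalars (p23 R S)).obj ((extendScalars (i2 R S)).obj N))
  (hβ233 : ∀ n : N, β233.hom.hom ((1 : S ⊗[R] (S ⊗[R] S)) ⊗ₜ[S,q3 R S] n) =
    (1 : S ⊗[R] (S ⊗[R] S)) ⊗ₜ[S ⊗[R] S,p23 R S]
      (((1 : S ⊗[R] S) ⊗ₜ[S,i2 R S] n : (extendScalars (i2 R S)).obj N)))

include hβ233 in
theorem claimA' (s₁ s₂ : S) (y' : (extendScalars (i2 R S)).obj N) :
    psi3 (R := R) N (β233.inv.hom
      ((s₁ ⊗ₜ[R] (s₂ ⊗ₜ[R] (1 : S)) : S ⊗[R] (S ⊗[R] S)) ⊗ₜ[S ⊗[R] S,p23 R S] y')) =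
    (s₁ ⊗ₜ[R,fR R S] (show (restrictScalars (fR R S)).obj (GG (R := R) N) from
      s₂ • psi (R := R) N y') : GG (R := R) (GG (R := R) N)) := by
  induction y' using TensorProduct.induction_on with
  | zero =>
    rw [TensorProduct.tmul_zero, map_zero, map_zero, map_zero, smul_zero]
    exact (TensorProduct.tmul_zero _ _).symm
  | tmul t n =>
    induction t using TensorProduct.induction_on with
    | zero =>
      rw [TensorProduct.zero_tmul, TensorProduct.tmul_zero, map_zero, map_zero, map_zero, smul_zero]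
      exact (TensorProduct.tmul_zero _ _).symm
    | tmul u v =>
      change psi3 (R := R) N (β233.inv.hom
        ((s₁ ⊗ₜ[R] (s₂ ⊗ₜ[R] (1 : S)) : S ⊗[R] (S ⊗[R] S)) ⊗ₜ[S ⊗[R] S,p23 R S]
          (((u ⊗ₜ[R] v : S ⊗[R] S) ⊗ₜ[S,i2 R S] n : (extendScalars (i2 R S)).obj N)))) =
        (s₁ ⊗ₜ[R,fR R S] (show (restrictScalars (fR R S)).obj (GG (R := R) N) from
          s₂ • psi (R := R) N ((u ⊗ₜ[R] v : S ⊗[R] S) ⊗ₜ[S,i2 R S] n)) :
          GG (R := R) (GG (R := R) N))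
      rw [inv_tmul_tmul (i2 R S) (p23 R S) (q3 R S) N β233 hβ233, p23_apply,
        Algebra.TensorProduct.tmul_mul_tmul, Algebra.TensorProduct.tmul_mul_tmul, mul_one, one_mul,
        psi3_tmul, sig3_tmul, sig_tmul, psi_tmul, sig_tmul, ExtendScalars.smul_tmul]
    | add x y hx hy =>
      rw [TensorProduct.add_tmul, TensorProduct.tmul_add, map_add, map_add, hx, hy, map_add,
        smul_add]
      exact (TensorProduct.tmul_add _ _ _).symm
  | add x y hx hy =>
    rw [TensorProduct.tmul_add, map_add, map_add, hx, hy, map_add, smul_add]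
    exact (TensorProduct.tmul_add _ _ _).symm

end A'

section AB

variable
  (β121 : (extendScalars (q1 R S)).obj N ≅
    (extendScalars (p12 R S)).obj ((extendScalars (i1 R S)).obj N))
  (hβ121 : ∀ n : N, β121.hom.hom ((1 : S ⊗[R] (S ⊗[R] S)) ⊗ₜ[S,q1 R S] n) =
    (1 : S ⊗[R] (S ⊗[R] S)) ⊗ₜ[S ⊗[R] S,p12 R S]
      (((1 : S ⊗[R] S) ⊗ₜ[S,i1 R S] n : (extendScalars (i1 R S)).obj N)))
  (β122 : (extendScalars (q2 R S)).obj N ≅
    (extendScalars (p12 R S)).obj ((extendScalars (i2 R S)).obj N))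
  (hβ122 : ∀ n : N, β122.hom.hom ((1 : S ⊗[R] (S ⊗[R] S)) ⊗ₜ[S,q2 R S] n) =
    (1 : S ⊗[R] (S ⊗[R] S)) ⊗ₜ[S ⊗[R] S,p12 R S]
      (((1 : S ⊗[R] S) ⊗ₜ[S,i2 R S] n : (extendScalars (i2 R S)).obj N)))
  (β232 : (extendScalars (q2 R S)).obj N ≅
    (extendScalars (p23 R S)).obj ((extendScalars (i1 R S)).obj N))
  (hβ232 : ∀ n : N, β232.hom.hom ((1 : S ⊗[R] (S ⊗[R] S)) ⊗ₜ[S,q2 R S] n) =
    (1 : S ⊗[R] (S ⊗[R] S)) ⊗ₜ[S ⊗[R] S,p23 R S]
      (((1 : S ⊗[R] S) ⊗ₜ[S,i1 R S] n : (extendScalars (i1 R S)).obj N)))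
  (β233 : (extendScalars (q3 R S)).obj N ≅
    (extendScalars (p23 R S)).obj ((extendScalars (i2 R S)).obj N))
  (hβ233 : ∀ n : N, β233.hom.hom ((1 : S ⊗[R] (S ⊗[R] S)) ⊗ₜ[S,q3 R S] n) =
    (1 : S ⊗[R] (S ⊗[R] S)) ⊗ₜ[S ⊗[R] S,p23 R S]
      (((1 : S ⊗[R] S) ⊗ₜ[S,i2 R S] n : (extendScalars (i2 R S)).obj N)))
  (β131 : (extendScalars (q1 R S)).obj N ≅
    (extendScalars (p13 R S)).obj ((extendScalars (i1 R S)).obj N))
  (hβ131 : ∀ n : N, β131.hom.hom ((1 : S ⊗[R] (S ⊗[R] S)) ⊗ₜ[S,q1 R S] n) =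
    (1 : S ⊗[R] (S ⊗[R] S)) ⊗ₜ[S ⊗[R] S,p13 R S]
      (((1 : S ⊗[R] S) ⊗ₜ[S,i1 R S] n : (extendScalars (i1 R S)).obj N)))
  (β133 : (extendScalars (q3 R S)).obj N ≅
    (extendScalars (p13 R S)).obj ((extendScalars (i2 R S)).obj N))
  (hβ133 : ∀ n : N, β133.hom.hom ((1 : S ⊗[R] (S ⊗[R] S)) ⊗ₜ[S,q3 R S] n) =
    (1 : S ⊗[R] (S ⊗[R] S)) ⊗ₜ[S ⊗[R] S,p13 R S]
      (((1 : S ⊗[R] S) ⊗ₜ[S,i2 R S] n : (extendScalars (i2 R S)).obj N)))
  (hcomp : (β121.hom ≫ (extendScalars (p12 R S)).map φ ≫ β122.inv) ≫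
      (β232.hom ≫ (extendScalars (p23 R S)).map φ ≫ β233.inv) =
    β131.hom ≫ (extendScalars (p13 R S)).map φ ≫ β133.inv)

include hβ122 hβ232 hβ233 in
theorem claimA (y : (extendScalars (i2 R S)).obj N) :
    psi3 (R := R) N (β233.inv.hom (((extendScalars (p23 R S)).map φ).hom (β232.hom.hom
      (β122.inv.hom ((1 : S ⊗[R] (S ⊗[R] S)) ⊗ₜ[S ⊗[R] S,p12 R S] y))))) =
    ((extendScalars (fR R S)).map ((restrictScalars (fR R S)).map (aMap N φ))).hom
      (psi (R := R) N y) := by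
  induction y using TensorProduct.induction_on with
  | zero =>
    rw [TensorProduct.tmul_zero, map_zero, map_zero, map_zero, map_zero, map_zero, map_zero,
      map_zero]
  | tmul t n =>
    induction t using TensorProduct.induction_on with
    | zero =>
      rw [TensorProduct.zero_tmul, TensorProduct.tmul_zero, map_zero, map_zero, map_zero, map_zero,
        map_zero, map_zero, map_zero]
    | tmul s₁ s₂ =>
      change psi3 (R := R) N (β233.inv.hom (((extendScalars (p23 R S)).map φ).hom (β232.hom.hom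
        (β122.inv.hom ((1 : S ⊗[R] (S ⊗[R] S)) ⊗ₜ[S ⊗[R] S,p12 R S]
          (((s₁ ⊗ₜ[R] s₂ : S ⊗[R] S) ⊗ₜ[S,i2 R S] n : (extendScalars (i2 R S)).obj N))))))) =
        ((extendScalars (fR R S)).map ((restrictScalars (fR R S)).map (aMap N φ))).hom
          (psi (R := R) N ((s₁ ⊗ₜ[R] s₂ : S ⊗[R] S) ⊗ₜ[S,i2 R S] n))
      rw [inv_tmul_tmul (i2 R S) (p12 R S) (q2 R S) N β122 hβ122, one_mul, p12_tmul,
        hom_tmul (i1 R S) (p23 R S) (q2 R S) N β232 hβ232]
      have h2 : ((extendScalars (p23 R S)).map φ).hom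
          ((s₁ ⊗ₜ[R] (s₂ ⊗ₜ[R] (1 : S)) : S ⊗[R] (S ⊗[R] S)) ⊗ₜ[S ⊗[R] S,p23 R S]
            (((1 : S ⊗[R] S) ⊗ₜ[S,i1 R S] n : (extendScalars (i1 R S)).obj N))) =
          (s₁ ⊗ₜ[R] (s₂ ⊗ₜ[R] (1 : S)) : S ⊗[R] (S ⊗[R] S)) ⊗ₜ[S ⊗[R] S,p23 R S]
            (φ.hom ((1 : S ⊗[R] S) ⊗ₜ[S,i1 R S] n)) := rfl
      rw [h2, claimA' N β233 hβ233, psi_tmul, sig_tmul]
      have h3 : ((extendScalars (fR R S)).map ((restrictScalars (fR R S)).map (aMap N φ))).hom
          (s₁ ⊗ₜ[R,fR R S] (show (restrictScalars (fR R S)).obj N from s₂ • n)) =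
          (s₁ ⊗ₜ[R,fR R S] (show (restrictScalars (fR R S)).obj (GG (R := R) N) from
            (aMap N φ).hom (s₂ • n)) : GG (R := R) (GG (R := R) N)) := rfl
      rw [h3, map_smul, aMap_apply]
    | add x y hx hy =>
      rw [TensorProduct.add_tmul, TensorProduct.tmul_add, map_add, map_add, map_add, map_add,
        map_add, map_add, map_add, hx, hy]
  | add x y hx hy =>
    rw [TensorProduct.tmul_add, map_add, map_add, map_add, map_add, map_add, map_add, map_add,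
      hx, hy]

include hβ133 in
theorem claimB (y : (extendScalars (i2 R S)).obj N) :
    psi3 (R := R) N (β133.inv.hom ((1 : S ⊗[R] (S ⊗[R] S)) ⊗ₜ[S ⊗[R] S,p13 R S] y)) =
    ((extendScalars (fR R S)).map
      ((extendRestrictScalarsAdj (fR R S)).unit.app ((restrictScalars (fR R S)).obj N))).hom
      (psi (R := R) N y) := by
  induction y using TensorProduct.induction_on with
  | zero =>
    rw [TensorProduct.tmul_zero, map_zero, map_zero, map_zero, map_zero]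
  | tmul t n =>
    induction t using TensorProduct.induction_on with
    | zero =>
      rw [TensorProduct.zero_tmul, TensorProduct.tmul_zero, map_zero, map_zero, map_zero, map_zero]
    | tmul s₁ s₂ =>
      change psi3 (R := R) N (β133.inv.hom ((1 : S ⊗[R] (S ⊗[R] S)) ⊗ₜ[S ⊗[R] S,p13 R S]
          (((s₁ ⊗ₜ[R] s₂ : S ⊗[R] S) ⊗ₜ[S,i2 R S] n : (extendScalars (i2 R S)).obj N)))) =
        ((extendScalars (fR R S)).map
          ((extendRestrictScalarsAdj (fR R S)).unit.app ((restrictScalars (fR R S)).obj N))).hom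
          (psi (R := R) N ((s₁ ⊗ₜ[R] s₂ : S ⊗[R] S) ⊗ₜ[S,i2 R S] n))
      rw [inv_tmul_tmul (i2 R S) (p13 R S) (q3 R S) N β133 hβ133, one_mul, p13_tmul,
        psi3_tmul, sig3_tmul, sig_tmul, psi_tmul, sig_tmul]
      rfl
    | add x y hx hy =>
      rw [TensorProduct.add_tmul, TensorProduct.tmul_add, map_add, map_add, map_add, map_add,
        hx, hy]
  | add x y hx hy =>
    rw [TensorProduct.tmul_add, map_add, map_add, map_add, map_add, hx, hy]

include hβ121 hβ122 hβ232 hβ233 hβ131 hβ133 hcomp in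
theorem aMap_coassoc :
    aMap N φ ≫ (extendScalars (fR R S)).map
      ((extendRestrictScalarsAdj (fR R S)).unit.app ((restrictScalars (fR R S)).obj N)) =
    aMap N φ ≫ (extendScalars (fR R S)).map ((restrictScalars (fR R S)).map (aMap N φ)) := by
  refine ModuleCat.hom_ext (LinearMap.ext fun n => ?_)
  change ((extendScalars (fR R S)).map
      ((extendRestrictScalarsAdj (fR R S)).unit.app ((restrictScalars (fR R S)).obj N))).hom
      (psi (R := R) N (φ.hom ((1 : S ⊗[R] S) ⊗ₜ[S,i1 R S] n))) =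
    ((extendScalars (fR R S)).map ((restrictScalars (fR R S)).map (aMap N φ))).hom
      (psi (R := R) N (φ.hom ((1 : S ⊗[R] S) ⊗ₜ[S,i1 R S] n)))
  rw [← claimA N φ β122 hβ122 β232 hβ232 β233 hβ233, ← claimB N β133 hβ133]
  have h1 := congrArg (fun g => g.hom ((1 : S ⊗[R] (S ⊗[R] S)) ⊗ₜ[S,q1 R S] n)) hcomp
  simp only [ModuleCat.hom_comp, LinearMap.comp_apply] at h1
  rw [hβ121, hβ131] at h1
  have h2 : ((extendScalars (p12 R S)).map φ).hom
      ((1 : S ⊗[R] (S ⊗[R] S)) ⊗ₜ[S ⊗[R] S,p12 R S]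
        (((1 : S ⊗[R] S) ⊗ₜ[S,i1 R S] n : (extendScalars (i1 R S)).obj N))) =
      (1 : S ⊗[R] (S ⊗[R] S)) ⊗ₜ[S ⊗[R] S,p12 R S] (φ.hom ((1 : S ⊗[R] S) ⊗ₜ[S,i1 R S] n)) := rfl
  have h3 : ((extendScalars (p13 R S)).map φ).hom
      ((1 : S ⊗[R] (S ⊗[R] S)) ⊗ₜ[S ⊗[R] S,p13 R S]
        (((1 : S ⊗[R] S) ⊗ₜ[S,i1 R S] n : (extendScalars (i1 R S)).obj N))) =
      (1 : S ⊗[R] (S ⊗[R] S)) ⊗ₜ[S ⊗[R] S,p13 R S] (φ.hom ((1 : S ⊗[R] S) ⊗ₜ[S,i1 R S] n)) := rfl
  rw [h2, h3] at h1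
  rw [h1]

end AB

end coassoc

end Groth.Agent.Lib.Helper22.FFD
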