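import Mathlib
import Groth.Agent.Lib.Helper22FFD4

/-!
# Faithfully flat descent of modules: effectivity via comonadicity (helper22)
-/

open CategoryTheory TensorProduct ModuleCat
open scoped ChangeOfRings

universe u

set_option backward.isDefEq.respectTransparency false

namespace Groth.Agent.Lib.Helper22.FFD

variable {R S : Type u} [CommRing R] [CommRing S] [Algebra R S]

theorem comparison_isEquivalence [Module.FaithfullyFlat R S] :
    (Comonad.comparison (extendRestrictScalarsAdj.{u} (fR R S))).IsEquivalence := by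
  have hf : (fR R S).FaithfullyFlat := (RingHom.faithfullyFlat_algebraMap_iff).mpr inferInstance
  have := preservesFiniteLimits_extendScalars_of_flat hf.flat
  have := reflectsIsomorphisms_extendScalars_of_faithfullyFlat hf
  have h1 : Comonad.HasEqualizerOfIsCosplitPair (extendScalars.{u, u, u} (fR R S)) := ⟨inferInstance⟩
  have h2 : Comonad.PreservesLimitOfIsCosplitPair (extendScalars.{u, u, u} (fR R S)) := ⟨inferInstance⟩
  exact (Comonad.comonadicOfHasPreservesFSplitEqualizersOfReflectsIsomorphisms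
    (extendRestrictScalarsAdj.{u} (fR R S))).eqv

variable (N : ModuleCat.{u} S)
  (φ : (extendScalars (i1 R S)).obj N ⟶ (extendScalars (i2 R S)).obj N)

/-- the coalgebra attached to `(N, φ)` given the two coalgebra axioms. -/
noncomputable def coalg
    (h1 : aMap N φ ≫ (extendRestrictScalarsAdj (fR R S)).counit.app N = 𝟙 N)
    (h2 : aMap N φ ≫ (extendScalars (fR R S)).map
      ((extendRestrictScalarsAdj (fR R S)).unit.app ((restrictScalars (fR R S)).obj N)) =
    aMap N φ ≫ (extendScalars (fR R S)).map ((restrictScalars (fR R S)).map (aMap N φ))) :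
    (extendRestrictScalarsAdj.{u} (fR R S)).toComonad.Coalgebra where
  A := N
  a := aMap N φ
  counit := h1
  coassoc := h2

theorem psi_one_tmul (n : N) :
    psi (R := R) N ((1 : S ⊗[R] S) ⊗ₜ[S,i2 R S] n) =
      ((1 : S) ⊗ₜ[R,fR R S] (show (restrictScalars (fR R S)).obj N from n) : GG (R := R) N) := by
  rw [Algebra.TensorProduct.one_def, psi_tmul, sig_tmul, one_smul]

theorem exists_descent [Module.FaithfullyFlat R S]
    (h1 : aMap N φ ≫ (extendRestrictScalarsAdj (fR R S)).counit.app N = 𝟙 N)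
    (h2 : aMap N φ ≫ (extendScalars (fR R S)).map
      ((extendRestrictScalarsAdj (fR R S)).unit.app ((restrictScalars (fR R S)).obj N)) =
    aMap N φ ≫ (extendScalars (fR R S)).map ((restrictScalars (fR R S)).map (aMap N φ))) :
    ∃ (M : ModuleCat.{u} R) (e : (extendScalars (fR R S)).obj M ≅ N), ∀ m : M,
      φ.hom ((1 : S ⊗[R] S) ⊗ₜ[S,i1 R S] (e.hom.hom ((1 : S) ⊗ₜ[R,fR R S] m))) =
        ((1 : S ⊗[R] S) ⊗ₜ[S,i2 R S] (e.hom.hom ((1 : S) ⊗ₜ[R,fR R S] m)) :
          (extendScalars (i2 R S)).obj N) := by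
  have := comparison_isEquivalence (R := R) (S := S)
  obtain ⟨M, ⟨iso⟩⟩ := Functor.EssSurj.mem_essImage
    (Comonad.comparison (extendRestrictScalarsAdj.{u} (fR R S))) (coalg N φ h1 h2)
  let e : (extendScalars (fR R S)).obj M ≅ N :=
    (Comonad.forget (extendRestrictScalarsAdj.{u} (fR R S)).toComonad).mapIso iso
  refine ⟨M, e, fun m => ?_⟩
  apply psi_injective (R := R) N
  rw [psi_one_tmul]
  have hh := iso.hom.h
  have h3 := congrArg (fun g => g.hom ((1 : S) ⊗ₜ[R,fR R S] m)) hh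
  simp only [ModuleCat.hom_comp, LinearMap.comp_apply] at h3
  exact h3.symm

theorem comm_of_descent (M : ModuleCat.{u} R) (e : (extendScalars (fR R S)).obj M ≅ N)
    (he : ∀ m : M,
      φ.hom ((1 : S ⊗[R] S) ⊗ₜ[S,i1 R S] (e.hom.hom ((1 : S) ⊗ₜ[R,fR R S] m))) =
        ((1 : S ⊗[R] S) ⊗ₜ[S,i2 R S] (e.hom.hom ((1 : S) ⊗ₜ[R,fR R S] m)) :
          (extendScalars (i2 R S)).obj N))
    (γ1 : (extendScalars (c2 R S)).obj M ≅
      (extendScalars (i1 R S)).obj ((extendScalars (fR R S)).obj M))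
    (hγ1 : ∀ m : M, γ1.hom.hom ((1 : S ⊗[R] S) ⊗ₜ[R,c2 R S] m) =
      (1 : S ⊗[R] S) ⊗ₜ[S,i1 R S] (((1 : S) ⊗ₜ[R,fR R S] m : (extendScalars (fR R S)).obj M)))
    (γ2 : (extendScalars (c2 R S)).obj M ≅
      (extendScalars (i2 R S)).obj ((extendScalars (fR R S)).obj M))
    (hγ2 : ∀ m : M, γ2.hom.hom ((1 : S ⊗[R] S) ⊗ₜ[R,c2 R S] m) =
      (1 : S ⊗[R] S) ⊗ₜ[S,i2 R S] (((1 : S) ⊗ₜ[R,fR R S] m : (extendScalars (fR R S)).obj M))) :
    (extendScalars (i1 R S)).map e.hom ≫ φ =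
      γ1.inv ≫ γ2.hom ≫ (extendScalars (i2 R S)).map e.hom := by
  rw [← cancel_epi γ1.hom, Iso.hom_inv_id_assoc]
  apply ExtendScalars.hom_ext
  intro m
  change φ.hom (((extendScalars (i1 R S)).map e.hom).hom
      (γ1.hom.hom ((1 : S ⊗[R] S) ⊗ₜ[R,c2 R S] m))) =
    ((extendScalars (i2 R S)).map e.hom).hom (γ2.hom.hom ((1 : S ⊗[R] S) ⊗ₜ[R,c2 R S] m))
  rw [hγ1, hγ2]
  exact he m

end Groth.Agent.Lib.Helper22.FFD
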