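import Mathlib

/-!
# DescentData unpacking for module pseudofunctors `R ↦ Mod (W R)` (helper24)

`W : CommRingCat ⥤ CommRingCat` is an arbitrary functor (later: truncated Witt vectors); keeping it
generic keeps all ring instances opaque, which the kernel needs.

Key lemma `alphaHom_one_tmul`: the comparison iso sends `1 ⊗ m` to `1 ⊗ (1 ⊗ m)`.
Tensor literals are only ever elaborated against `extendScalars`-typed expected types (otherwise
the elaborator fills their implicit arguments by unification with pseudofunctor-shaped terms,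
producing megabyte-sized terms on which the kernel times out).
-/

open CategoryTheory Opposite TensorProduct ModuleCat
open scoped ChangeOfRings

universe t v' v u' u

namespace Helper24WDesc

section generic

variable {C : Type u} [Category.{v} C] (F : Pseudofunctor (LocallyDiscrete Cᵒᵖ) Cat.{v', u'})
  {ι : Type t} {S : C} {X : ι → C} (f : ∀ i, X i ⟶ S)

set_option backward.isDefEq.respectTransparency false in
/-- the compatibility of a morphism of canonical descent data, spelled out. -/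
theorem comm_ofObj {M N : F.obj (.mk (op S))}
    (ψ : (F.toDescentData f).obj M ⟶ (F.toDescentData f).obj N)
    ⦃Y : C⦄ (q : Y ⟶ S) ⦃i₁ i₂ : ι⦄ (f₁ : Y ⟶ X i₁) (f₂ : Y ⟶ X i₂)
    (hf₁ : f₁ ≫ f i₁ = q) (hf₂ : f₂ ≫ f i₂ = q)
    (h₁ : (f i₁).op.toLoc ≫ f₁.op.toLoc = q.op.toLoc) (h₂ : (f i₂).op.toLoc ≫ f₂.op.toLoc = q.op.toLoc) :
    (F.map f₁.op.toLoc).toFunctor.map (ψ.hom i₁) ≫
      (F.mapComp' (f i₁).op.toLoc f₁.op.toLoc q.op.toLoc h₁).inv.toNatTrans.app N ≫
      (F.mapComp' (f i₂).op.toLoc f₂.op.toLoc q.op.toLoc h₂).hom.toNatTrans.app N =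
    (F.mapComp' (f i₁).op.toLoc f₁.op.toLoc q.op.toLoc h₁).inv.toNatTrans.app M ≫
      (F.mapComp' (f i₂).op.toLoc f₂.op.toLoc q.op.toLoc h₂).hom.toNatTrans.app M ≫
      (F.map f₂.op.toLoc).toFunctor.map (ψ.hom i₂) := by
  have := ψ.comm q f₁ f₂ hf₁ hf₂
  exact this.trans (Category.assoc _ _ _)

end generic

variable (W : CommRingCat.{u} ⥤ CommRingCat.{u})

noncomputable abbrev G : Pseudofunctor (LocallyDiscrete (CommRingCat.{u}ᵒᵖ)ᵒᵖ) (LocallyDiscrete CommRingCat.{u}) :=
  ((unopUnop CommRingCat.{u}) ⋙ W).toPseudofunctor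

noncomputable abbrev H := CommRingCat.moduleCatExtendScalarsPseudofunctor.{u}

/-- the module pseudofunctor attached to `W`. -/
noncomputable abbrev F : Pseudofunctor (LocallyDiscrete (CommRingCat.{u}ᵒᵖ)ᵒᵖ) Cat.{u, u + 1} :=
  (G W).comp H

/-- eqToHom between extensions of scalars along equal ring maps is the identity on elements. -/
theorem eqToHom_extendScalars_apply {R S : Type u} [CommRing R] [CommRing S] (φ φ' : R →+* S) (h : φ = φ')
    (M : ModuleCat.{u} R) (h' : (extendScalars φ).obj M = (extendScalars φ').obj M) (s : S) (m : M) :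
    (eqToHom h').hom (s ⊗ₜ[R,φ] m) = s ⊗ₜ[R,φ'] m := by
  subst h
  rfl

set_option backward.isDefEq.respectTransparency false in
theorem mapComp_hom_app {b₀ b₁ b₂ : LocallyDiscrete (CommRingCat.{u}ᵒᵖ)ᵒᵖ} (f : b₀ ⟶ b₁) (g : b₁ ⟶ b₂)
    (M : ((G W).comp H).obj b₀) :
    ∃ h', ((((G W).comp H).mapComp f g).hom.toNatTrans.app M) =
      eqToHom h' ≫ (extendScalarsComp (CommRingCat.Hom.hom ((G W).map f).as)
                  (CommRingCat.Hom.hom ((G W).map g).as)).hom.app M := by
  rw [Pseudofunctor.comp_mapComp, Iso.trans_hom, Cat.Hom₂.comp_app]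
  have e1 : (G W).mapComp f g = eqToIso (LocallyDiscrete.eq_of_hom ((G W).mapComp f g).hom) := by
    ext
    apply Subsingleton.elim
  rw [e1, PrelaxFunctor.map₂Iso_eqToIso, eqToIso.hom, Cat.eqToHom_app]
  rw [CommRingCat.moduleCatExtendScalarsPseudofunctor_mapComp]
  exact ⟨_, rfl⟩

/-- the ring attached to an object. -/
abbrev WR (b : LocallyDiscrete (CommRingCat.{u}ᵒᵖ)ᵒᵖ) : Type u := W.obj b.as.unop.unop

/-- the ring map of a 1-morphism. -/
noncomputable abbrev W1 {b₀ b₁ : LocallyDiscrete (CommRingCat.{u}ᵒᵖ)ᵒᵖ} (f : b₀ ⟶ b₁) :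
    WR W b₀ →+* WR W b₁ :=
  (W.map f.as.unop.unop).hom

theorem W1_comp {b₀ b₁ b₂ : LocallyDiscrete (CommRingCat.{u}ᵒᵖ)ᵒᵖ} (f : b₀ ⟶ b₁) (g : b₁ ⟶ b₂) :
    W1 W (f ≫ g) = (W1 W g).comp (W1 W f) := by
  change (W.map (f.as.unop.unop ≫ g.as.unop.unop)).hom = _
  rw [W.map_comp]
  rfl

variable {b₀ b₁ b₂ : LocallyDiscrete (CommRingCat.{u}ᵒᵖ)ᵒᵖ} (f : b₀ ⟶ b₁) (g : b₁ ⟶ b₂) (c : b₀ ⟶ b₂)
  (h : f ≫ g = c)

set_option backward.isDefEq.respectTransparency false in
/-- the comparison morphism, typed with `extendScalars`. -/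
noncomputable def alphaHom (N : ModuleCat.{u} (WR W b₀)) :
    (extendScalars (W1 W c)).obj N ⟶
      (extendScalars (W1 W g)).obj ((extendScalars (W1 W f)).obj N) :=
  ((F W).mapComp' f g c h).hom.toNatTrans.app N

set_option backward.isDefEq.respectTransparency false in
/-- the inverse comparison morphism, typed with `extendScalars`. -/
noncomputable def alphaInv (N : ModuleCat.{u} (WR W b₀)) :
    (extendScalars (W1 W g)).obj ((extendScalars (W1 W f)).obj N) ⟶
      (extendScalars (W1 W c)).obj N :=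
  ((F W).mapComp' f g c h).inv.toNatTrans.app N

set_option backward.isDefEq.respectTransparency false in
theorem alpha_hom_inv (N : ModuleCat.{u} (WR W b₀)) :
    alphaHom W f g c h N ≫ alphaInv W f g c h N = 𝟙 _ :=
  Cat.Hom.hom_inv_id_toNatTrans_app _ _

set_option backward.isDefEq.respectTransparency false in
theorem alpha_inv_hom (N : ModuleCat.{u} (WR W b₀)) :
    alphaInv W f g c h N ≫ alphaHom W f g c h N = 𝟙 _ :=
  Cat.Hom.inv_hom_id_toNatTrans_app _ _

/-- the comparison iso, typed with `extendScalars`. -/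
noncomputable def alpha (N : ModuleCat.{u} (WR W b₀)) :
    (extendScalars (W1 W c)).obj N ≅
      (extendScalars (W1 W g)).obj ((extendScalars (W1 W f)).obj N) where
  hom := alphaHom W f g c h N
  inv := alphaInv W f g c h N
  hom_inv_id := alpha_hom_inv W f g c h N
  inv_hom_id := alpha_inv_hom W f g c h N

set_option backward.isDefEq.respectTransparency false in
theorem alphaHom_one_tmul (N : ModuleCat.{u} (WR W b₀)) (x : N) :
    (alphaHom W f g c h N).hom ((1 : WR W b₂) ⊗ₜ[WR W b₀,W1 W c] x) =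
      (1 : WR W b₂) ⊗ₜ[WR W b₁,W1 W g] ((1 : WR W b₁) ⊗ₜ[WR W b₀,W1 W f] x) := by
  subst h
  unfold alphaHom
  rw [Pseudofunctor.mapComp'_eq_mapComp]
  obtain ⟨h', e⟩ := mapComp_hom_app W f g N
  erw [e]
  rw [ModuleCat.hom_comp, LinearMap.comp_apply]
  erw [eqToHom_extendScalars_apply (W1 W (f ≫ g)) ((W1 W g).comp (W1 W f))
    (W1_comp W f g) N h' 1 x]
  exact extendScalarsComp_hom_app_one_tmul _ _ N x

set_option backward.isDefEq.respectTransparency false in
theorem alpha_one_tmul (N : ModuleCat.{u} (WR W b₀)) (x : N) :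
    (alpha W f g c h N).hom.hom ((1 : WR W b₂) ⊗ₜ[WR W b₀,W1 W c] x) =
      (1 : WR W b₂) ⊗ₜ[WR W b₁,W1 W g] ((1 : WR W b₁) ⊗ₜ[WR W b₀,W1 W f] x) :=
  alphaHom_one_tmul W f g c h N x

end Helper24WDesc
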