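import Mathlib
import Groth.Prelude.Def_Desc
import Groth.Agent.Lib.Helper24WDesc
import Groth.Agent.Lib.Helper22FFD5

/-!
# Faithfully flat descent of modules: Mathlib `DescentData` form (helper22)
-/

open CategoryTheory Opposite TensorProduct ModuleCat
open scoped ChangeOfRings

universe u

set_option backward.isDefEq.respectTransparency false

namespace Groth.Agent.Lib.Helper22.FFD

/-- the pseudofunctor `R ↦ Mod_R` (equal to `Desc.ringModPF`). -/
noncomputable abbrev PF : Pseudofunctor (LocallyDiscrete (CommRingCat.{u}ᵒᵖ)ᵒᵖ) Cat.{u, u + 1} :=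
  Helper24WDesc.F (𝟭 CommRingCat.{u})

theorem PF_eq : PF.{u} = Desc.ringModPF.{u} := rfl

/-- the morphism of `CommRingCatᵒᵖ` attached to a ring map. -/
abbrev cm {A B : Type u} [CommRing A] [CommRing B] (g : A →+* B) :
    op (CommRingCat.of B) ⟶ op (CommRingCat.of A) := (CommRingCat.ofHom g).op

theorem cm_comp {A B C : Type u} [CommRing A] [CommRing B] [CommRing C] (g : A →+* B) (h : B →+* C)
    (k : A →+* C) (hk : h.comp g = k) : cm h ≫ cm g = cm k := by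
  subst hk
  rfl

theorem W1_cm {A B : Type u} [CommRing A] [CommRing B] (g : A →+* B) :
    Helper24WDesc.W1 (𝟭 CommRingCat.{u}) (cm g).op.toLoc = g := rfl

theorem toLoc_comp {A B C : Type u} [CommRing A] [CommRing B] [CommRing C] (g : A →+* B) (h : B →+* C)
    (k : A →+* C) (hk : h.comp g = k) :
    (cm g).op.toLoc ≫ (cm h).op.toLoc = (cm k).op.toLoc := by
  subst hk
  rfl

section al

variable {A B C : Type u} [CommRing A] [CommRing B] [CommRing C]

/-- comparison iso for a composite of ring maps, typed with `extendScalars`. -/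
noncomputable def al (g : A →+* B) (h : B →+* C) (k : A →+* C) (hk : h.comp g = k)
    (N : ModuleCat.{u} A) :
    (extendScalars k).obj N ≅ (extendScalars h).obj ((extendScalars g).obj N) :=
  Helper24WDesc.alpha (𝟭 CommRingCat.{u}) (cm g).op.toLoc (cm h).op.toLoc (cm k).op.toLoc
    (toLoc_comp g h k hk) N

theorem al_one_tmul (g : A →+* B) (h : B →+* C) (k : A →+* C) (hk : h.comp g = k)
    (N : ModuleCat.{u} A) (x : N) :
    (al g h k hk N).hom.hom ((1 : C) ⊗ₜ[A,k] x) =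
      (1 : C) ⊗ₜ[B,h] (((1 : B) ⊗ₜ[A,g] x : (extendScalars g).obj N)) :=
  Helper24WDesc.alpha_one_tmul (𝟭 CommRingCat.{u}) (cm g).op.toLoc (cm h).op.toLoc (cm k).op.toLoc
    (toLoc_comp g h k hk) N x

open Pseudofunctor.LocallyDiscreteOpToCat in
theorem pullHom_eq (g₁ g₂ : A →+* B) (h : B →+* C) (k₁ k₂ : A →+* C)
    (hk₁ : h.comp g₁ = k₁) (hk₂ : h.comp g₂ = k₂) (N : ModuleCat.{u} A)
    (φ : (extendScalars g₁).obj N ⟶ (extendScalars g₂).obj N) :
    pullHom (F := PF.{u}) (X₁ := op (CommRingCat.of A)) (X₂ := op (CommRingCat.of A))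
      (M₁ := N) (M₂ := N) (f₁ := cm g₁) (f₂ := cm g₂) φ (cm h) (cm k₁) (cm k₂)
      (cm_comp _ _ _ hk₁) (cm_comp _ _ _ hk₂) =
    (al g₁ h k₁ hk₁ N).hom ≫ (extendScalars h).map φ ≫ (al g₂ h k₂ hk₂ N).inv := rfl

end al

section main

variable (R S : Type u) [CommRing R] [CommRing S] [Algebra R S]

theorem dg_comp_c2 : (dg R S).comp (c2 R S) = fR R S := by
  ext r
  simp [dg, c2, fR]

theorem q1_comp_fR : (q1 R S).comp (fR R S) = algebraMap R (S ⊗[R] (S ⊗[R] S)) := by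
  ext r
  simp [q1, fR, Algebra.TensorProduct.algebraMap_apply]

theorem p12_comp_c2 : (p12 R S).comp (c2 R S) = algebraMap R (S ⊗[R] (S ⊗[R] S)) := by
  rw [← i1_comp_fR, ← RingHom.comp_assoc, p12_comp_i1, q1_comp_fR]

theorem p13_comp_c2 : (p13 R S).comp (c2 R S) = algebraMap R (S ⊗[R] (S ⊗[R] S)) := by
  rw [← i1_comp_fR, ← RingHom.comp_assoc, p13_comp_i1, q1_comp_fR]

theorem p23_comp_c2 : (p23 R S).comp (c2 R S) = algebraMap R (S ⊗[R] (S ⊗[R] S)) := by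
  ext r
  exact (Algebra.TensorProduct.includeRight :
    (S ⊗[R] S) →ₐ[R] S ⊗[R] (S ⊗[R] S)).commutes r

theorem q2_comp_fR : (q2 R S).comp (fR R S) = algebraMap R (S ⊗[R] (S ⊗[R] S)) := by
  rw [← p12_comp_i2, RingHom.comp_assoc, i2_comp_fR, p12_comp_c2]

theorem q3_comp_fR : (q3 R S).comp (fR R S) = algebraMap R (S ⊗[R] (S ⊗[R] S)) := by
  rw [← p13_comp_i2, RingHom.comp_assoc, i2_comp_fR, p13_comp_c2]

variable (D : PF.{u}.DescentData (fun _ : PUnit.{u + 1} => cm (fR R S)))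

/-- the module underlying a descent datum. -/
noncomputable def NN : ModuleCat.{u} S := D.obj PUnit.unit

/-- the gluing isomorphism over `S ⊗ S`. -/
noncomputable def phi :
    (extendScalars (i1 R S)).obj (NN R S D) ⟶ (extendScalars (i2 R S)).obj (NN R S D) :=
  D.hom (i₁ := PUnit.unit) (i₂ := PUnit.unit) (cm (c2 R S)) (cm (i1 R S)) (cm (i2 R S)) (cm_comp _ _ _ i1_comp_fR)
    (cm_comp _ _ _ i2_comp_fR)

/-- the structure map of the triple tensor product -/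
noncomputable def c3 : R →+* S ⊗[R] (S ⊗[R] S) := algebraMap R (S ⊗[R] (S ⊗[R] S))

theorem hself :
    (al (i1 R S) (dg R S) (RingHom.id S) dg_comp_i1 (NN R S D)).hom ≫
      (extendScalars (dg R S)).map (phi R S D) ≫
      (al (i2 R S) (dg R S) (RingHom.id S) dg_comp_i2 (NN R S D)).inv = 𝟙 _ := by
  refine (pullHom_eq (i1 R S) (i2 R S) (dg R S) (RingHom.id S) (RingHom.id S) dg_comp_i1
    dg_comp_i2 (NN R S D) (phi R S D)).symm.trans ?_
  have h := D.pullHom_hom (i₁ := PUnit.unit) (i₂ := PUnit.unit) (cm (dg R S)) (cm (c2 R S)) (cm (fR R S))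
    (cm_comp _ _ _ (dg_comp_c2 R S)) (cm (i1 R S)) (cm (i2 R S)) (cm_comp _ _ _ i1_comp_fR)
    (cm_comp _ _ _ i2_comp_fR) (cm (RingHom.id S)) (cm (RingHom.id S))
    (cm_comp _ _ _ dg_comp_i1) (cm_comp _ _ _ dg_comp_i2)
  rw [D.hom_self (i := PUnit.unit) (cm (fR R S)) (cm (RingHom.id S)) (cm_comp _ _ _ (RingHom.id_comp _))] at h
  exact h

theorem hom_eq_pull (g₁ g₂ : S →+* S ⊗[R] S) (p : S ⊗[R] S →+* S ⊗[R] (S ⊗[R] S))
    (k₁ k₂ : S →+* S ⊗[R] (S ⊗[R] S))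
    (hg₁ : g₁.comp (fR R S) = c2 R S) (hg₂ : g₂.comp (fR R S) = c2 R S)
    (hp : p.comp (c2 R S) = c3 R S) (hk₁ : p.comp g₁ = k₁) (hk₂ : p.comp g₂ = k₂)
    (hk₁' : k₁.comp (fR R S) = c3 R S) (hk₂' : k₂.comp (fR R S) = c3 R S) :
    D.hom (i₁ := PUnit.unit) (i₂ := PUnit.unit) (cm (c3 R S)) (cm k₁) (cm k₂) (cm_comp _ _ _ hk₁') (cm_comp _ _ _ hk₂') =
      (al g₁ p k₁ hk₁ (NN R S D)).hom ≫
        (extendScalars p).map (D.hom (i₁ := PUnit.unit) (i₂ := PUnit.unit) (cm (c2 R S)) (cm g₁) (cm g₂) (cm_comp _ _ _ hg₁)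
          (cm_comp _ _ _ hg₂)) ≫ (al g₂ p k₂ hk₂ (NN R S D)).inv := by
  have h := D.pullHom_hom (i₁ := PUnit.unit) (i₂ := PUnit.unit) (cm p) (cm (c2 R S)) (cm (c3 R S))
    (cm_comp _ _ _ hp) (cm g₁) (cm g₂) (cm_comp _ _ _ hg₁)
    (cm_comp _ _ _ hg₂) (cm k₁) (cm k₂)
    (cm_comp _ _ _ hk₁) (cm_comp _ _ _ hk₂)
  exact h.symm.trans (pullHom_eq g₁ g₂ p k₁ k₂ hk₁ hk₂ (NN R S D) _)

end main

end Groth.Agent.Lib.Helper22.FFD
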