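import Mathlib

/-!
# Reducing the compatibility of a morphism of descent data to the universal case (helper22)
-/

open CategoryTheory Opposite

universe t v' v u' u

namespace Groth.Agent.Lib.Helper22.FFD

open Pseudofunctor Pseudofunctor.LocallyDiscreteOpToCat

variable {C : Type u} [Category.{v} C] {F : Pseudofunctor (LocallyDiscrete Cᵒᵖ) Cat.{v', u'}}
  {ι : Type t} {S : C} {X : ι → C} {f : ∀ i, X i ⟶ S}

set_option backward.isDefEq.respectTransparency false in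
/-- If the compatibility holds over `(P, p₁, p₂)` and `(f₁, f₂)` factors through it, then it holds
for `(f₁, f₂)`. -/
theorem comm_of_universal (D₁ D₂ : F.DescentData f) (e : ∀ i, D₁.obj i ⟶ D₂.obj i)
    {i₁ i₂ : ι} {P : C} (p : P ⟶ S) (p₁ : P ⟶ X i₁) (p₂ : P ⟶ X i₂)
    (hp₁ : p₁ ≫ f i₁ = p) (hp₂ : p₂ ≫ f i₂ = p)
    (hcomm : (F.map p₁.op.toLoc).toFunctor.map (e i₁) ≫ D₂.hom p p₁ p₂ hp₁ hp₂ =
      D₁.hom p p₁ p₂ hp₁ hp₂ ≫ (F.map p₂.op.toLoc).toFunctor.map (e i₂))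
    {Y : C} (q : Y ⟶ S) (f₁ : Y ⟶ X i₁) (f₂ : Y ⟶ X i₂) (hf₁ : f₁ ≫ f i₁ = q) (hf₂ : f₂ ≫ f i₂ = q)
    (g : Y ⟶ P) (hg₁ : g ≫ p₁ = f₁) (hg₂ : g ≫ p₂ = f₂) :
    (F.map f₁.op.toLoc).toFunctor.map (e i₁) ≫ D₂.hom q f₁ f₂ hf₁ hf₂ =
      D₁.hom q f₁ f₂ hf₁ hf₂ ≫ (F.map f₂.op.toLoc).toFunctor.map (e i₂) := by
  have hq : g ≫ p = q := by rw [← hp₁, ← Category.assoc, hg₁, hf₁]
  rw [← D₁.pullHom_hom g p q hq p₁ p₂ hp₁ hp₂ f₁ f₂ hg₁ hg₂,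
    ← D₂.pullHom_hom g p q hq p₁ p₂ hp₁ hp₂ f₁ f₂ hg₁ hg₂]
  dsimp only [pullHom]
  rw [NatTrans.naturality_assoc]
  dsimp
  rw [← Functor.map_comp_assoc, hcomm, Functor.map_comp_assoc, mapComp'_inv_naturality]
  simp only [Category.assoc]

end Groth.Agent.Lib.Helper22.FFD
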