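import Mathlib
import Groth.Agent.Lib.Helper22FFD6
import Groth.Agent.Lib.Helper22FFD7

/-!
# Faithfully flat descent of modules: effectivity in Mathlib `DescentData` form (helper22)
-/

open CategoryTheory Opposite TensorProduct ModuleCat
open scoped ChangeOfRings

universe u

set_option backward.isDefEq.respectTransparency false

namespace Groth.Agent.Lib.Helper22.FFD

section generic

variable {A B C : Type u} [CommRing A] [CommRing B] [CommRing C]

theorem comm_iff (g : A →+* B) (h₁ h₂ : B →+* C) (k : A →+* C) (hk₁ : h₁.comp g = k)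
    (hk₂ : h₂.comp g = k) (M : ModuleCat.{u} A) (N : ModuleCat.{u} B)
    (e : (extendScalars g).obj M ⟶ N)
    (φ : (extendScalars h₁).obj N ⟶ (extendScalars h₂).obj N) :
    ((PF.{u}.map (cm h₁).op.toLoc).toFunctor.map e ≫ φ =
      ((PF.{u}.toDescentData (fun _ : PUnit.{u + 1} => cm g)).obj M).hom
          (i₁ := PUnit.unit) (i₂ := PUnit.unit) (cm k) (cm h₁) (cm h₂)
          (cm_comp _ _ _ hk₁) (cm_comp _ _ _ hk₂) ≫
        (PF.{u}.map (cm h₂).op.toLoc).toFunctor.map e) ↔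
    ((extendScalars h₁).map e ≫ φ =
      (al g h₁ k hk₁ M).inv ≫ (al g h₂ k hk₂ M).hom ≫ (extendScalars h₂).map e) := by
  rw [← Category.assoc ((al g h₁ k hk₁ M).inv)]
  exact Iff.rfl

end generic

variable (R S : Type u) [CommRing R] [CommRing S] [Algebra R S]
  (D : PF.{u}.DescentData (fun _ : PUnit.{u + 1} => cm (fR R S)))

theorem counit_D :
    aMap (NN R S D) (phi R S D) ≫
      (extendRestrictScalarsAdj (fR R S)).counit.app (NN R S D) = 𝟙 (NN R S D) :=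
  aMap_counit (NN R S D) (phi R S D)
    (al (i1 R S) (dg R S) (RingHom.id S) dg_comp_i1 (NN R S D))
    (al_one_tmul (i1 R S) (dg R S) (RingHom.id S) dg_comp_i1 (NN R S D))
    (al (i2 R S) (dg R S) (RingHom.id S) dg_comp_i2 (NN R S D))
    (al_one_tmul (i2 R S) (dg R S) (RingHom.id S) dg_comp_i2 (NN R S D))
    (hself R S D)

theorem hcomp_D :
    ((al (i1 R S) (p12 R S) (q1 R S) p12_comp_i1 (NN R S D)).hom ≫
        (extendScalars (p12 R S)).map (phi R S D) ≫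
        (al (i2 R S) (p12 R S) (q2 R S) p12_comp_i2 (NN R S D)).inv) ≫
      ((al (i1 R S) (p23 R S) (q2 R S) rfl (NN R S D)).hom ≫
        (extendScalars (p23 R S)).map (phi R S D) ≫
        (al (i2 R S) (p23 R S) (q3 R S) rfl (NN R S D)).inv) =
    (al (i1 R S) (p13 R S) (q1 R S) p13_comp_i1 (NN R S D)).hom ≫
      (extendScalars (p13 R S)).map (phi R S D) ≫
      (al (i2 R S) (p13 R S) (q3 R S) p13_comp_i2 (NN R S D)).inv := by
  have h12 := hom_eq_pull R S D (i1 R S) (i2 R S) (p12 R S) (q1 R S) (q2 R S) i1_comp_fR i2_comp_fR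
    (p12_comp_c2 R S) p12_comp_i1 p12_comp_i2 (q1_comp_fR R S) (q2_comp_fR R S)
  have h23 := hom_eq_pull R S D (i1 R S) (i2 R S) (p23 R S) (q2 R S) (q3 R S) i1_comp_fR i2_comp_fR
    (p23_comp_c2 R S) rfl rfl (q2_comp_fR R S) (q3_comp_fR R S)
  have h13 := hom_eq_pull R S D (i1 R S) (i2 R S) (p13 R S) (q1 R S) (q3 R S) i1_comp_fR i2_comp_fR
    (p13_comp_c2 R S) p13_comp_i1 p13_comp_i2 (q1_comp_fR R S) (q3_comp_fR R S)
  have hc := D.hom_comp (i₁ := PUnit.unit) (i₂ := PUnit.unit) (i₃ := PUnit.unit)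
    (cm (c3 R S)) (cm (q1 R S)) (cm (q2 R S)) (cm (q3 R S))
    (cm_comp _ _ _ (q1_comp_fR R S)) (cm_comp _ _ _ (q2_comp_fR R S))
    (cm_comp _ _ _ (q3_comp_fR R S))
  rw [h12, h23, h13] at hc
  exact hc

theorem coassoc_D :
    aMap (NN R S D) (phi R S D) ≫ (extendScalars (fR R S)).map
      ((extendRestrictScalarsAdj (fR R S)).unit.app ((restrictScalars (fR R S)).obj (NN R S D))) =
    aMap (NN R S D) (phi R S D) ≫
      (extendScalars (fR R S)).map ((restrictScalars (fR R S)).map (aMap (NN R S D) (phi R S D))) :=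
  aMap_coassoc (NN R S D) (phi R S D)
    (al (i1 R S) (p12 R S) (q1 R S) p12_comp_i1 (NN R S D))
    (al_one_tmul (i1 R S) (p12 R S) (q1 R S) p12_comp_i1 (NN R S D))
    (al (i2 R S) (p12 R S) (q2 R S) p12_comp_i2 (NN R S D))
    (al_one_tmul (i2 R S) (p12 R S) (q2 R S) p12_comp_i2 (NN R S D))
    (al (i1 R S) (p23 R S) (q2 R S) rfl (NN R S D))
    (al_one_tmul (i1 R S) (p23 R S) (q2 R S) rfl (NN R S D))
    (al (i2 R S) (p23 R S) (q3 R S) rfl (NN R S D))
    (al_one_tmul (i2 R S) (p23 R S) (q3 R S) rfl (NN R S D))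
    (al (i1 R S) (p13 R S) (q1 R S) p13_comp_i1 (NN R S D))
    (al_one_tmul (i1 R S) (p13 R S) (q1 R S) p13_comp_i1 (NN R S D))
    (al (i2 R S) (p13 R S) (q3 R S) p13_comp_i2 (NN R S D))
    (al_one_tmul (i2 R S) (p13 R S) (q3 R S) p13_comp_i2 (NN R S D))
    (hcomp_D R S D)

/-- lifting a pair of maps to the tensor product (pullback property in `CommRingCatᵒᵖ`). -/
theorem exists_lift_cm {Y : CommRingCat.{u}ᵒᵖ} (q : Y ⟶ op (CommRingCat.of R))
    (f₁ f₂ : Y ⟶ op (CommRingCat.of S)) (hf₁ : f₁ ≫ cm (fR R S) = q) (hf₂ : f₂ ≫ cm (fR R S) = q) :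
    ∃ g : Y ⟶ op (CommRingCat.of (S ⊗[R] S)), g ≫ cm (i1 R S) = f₁ ∧ g ≫ cm (i2 R S) = f₂ := by
  have hpo := CommRingCat.isPushout_tensorProduct R S S
  have hw : CommRingCat.ofHom (algebraMap R S) ≫ f₁.unop =
      CommRingCat.ofHom (algebraMap R S) ≫ f₂.unop := by
    have h1 := congrArg Quiver.Hom.unop hf₁
    have h2 := congrArg Quiver.Hom.unop hf₂
    exact h1.trans h2.symm
  refine ⟨(hpo.desc f₁.unop f₂.unop hw).op, ?_, ?_⟩
  · apply Quiver.Hom.unop_inj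
    exact hpo.inl_desc _ _ _
  · apply Quiver.Hom.unop_inj
    exact hpo.inr_desc _ _ _

theorem hcomm_D' (M : ModuleCat.{u} R) (e : (extendScalars (fR R S)).obj M ≅ NN R S D)
    (he : ∀ m : M,
      (phi R S D).hom ((1 : S ⊗[R] S) ⊗ₜ[S,i1 R S] (e.hom.hom ((1 : S) ⊗ₜ[R,fR R S] m))) =
        ((1 : S ⊗[R] S) ⊗ₜ[S,i2 R S] (e.hom.hom ((1 : S) ⊗ₜ[R,fR R S] m)) :
          (extendScalars (i2 R S)).obj (NN R S D))) :
    (extendScalars (i1 R S)).map e.hom ≫ phi R S D =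
      (al (fR R S) (i1 R S) (c2 R S) i1_comp_fR M).inv ≫
        (al (fR R S) (i2 R S) (c2 R S) i2_comp_fR M).hom ≫ (extendScalars (i2 R S)).map e.hom := by
  refine comm_of_descent (NN R S D) (phi R S D) M e he
    (al (fR R S) (i1 R S) (c2 R S) i1_comp_fR M) ?_
    (al (fR R S) (i2 R S) (c2 R S) i2_comp_fR M)
    ?_
  · intro m
    have h := al_one_tmul (fR R S) (i1 R S) (c2 R S) i1_comp_fR M m
    refine Eq.trans ?_ (h.trans ?_)
    · refine congrArg (al (fR R S) (i1 R S) (c2 R S) i1_comp_fR M).hom.hom ?_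
      rfl
    · rfl
  · intro m
    have h := al_one_tmul (fR R S) (i2 R S) (c2 R S) i2_comp_fR M m
    refine Eq.trans ?_ (h.trans ?_)
    · refine congrArg (al (fR R S) (i2 R S) (c2 R S) i2_comp_fR M).hom.hom ?_
      rfl
    · rfl

theorem hcomm_D (M : ModuleCat.{u} R) (e : (extendScalars (fR R S)).obj M ≅ NN R S D)
    (he : ∀ m : M,
      (phi R S D).hom ((1 : S ⊗[R] S) ⊗ₜ[S,i1 R S] (e.hom.hom ((1 : S) ⊗ₜ[R,fR R S] m))) =
        ((1 : S ⊗[R] S) ⊗ₜ[S,i2 R S] (e.hom.hom ((1 : S) ⊗ₜ[R,fR R S] m)) :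
          (extendScalars (i2 R S)).obj (NN R S D))) :
    (PF.{u}.map (cm (i1 R S)).op.toLoc).toFunctor.map e.hom ≫ phi R S D =
      ((PF.{u}.toDescentData (fun _ : PUnit.{u + 1} => cm (fR R S))).obj M).hom
          (i₁ := PUnit.unit) (i₂ := PUnit.unit) (cm (c2 R S)) (cm (i1 R S)) (cm (i2 R S))
          (cm_comp _ _ _ i1_comp_fR) (cm_comp _ _ _ i2_comp_fR) ≫
        (PF.{u}.map (cm (i2 R S)).op.toLoc).toFunctor.map e.hom :=
  (comm_iff (fR R S) (i1 R S) (i2 R S) (c2 R S) i1_comp_fR i2_comp_fR M (NN R S D) e.hom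
    (phi R S D)).mpr (hcomm_D' R S D M e he)


end Groth.Agent.Lib.Helper22.FFD
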