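import Mathlib
import Groth.Prelude.Def_Desc
import Groth.Agent.Lib.Helper22FFD8

open CategoryTheory Opposite TensorProduct ModuleCat
open scoped ChangeOfRings

universe u

set_option backward.isDefEq.respectTransparency false

namespace Groth.Agent.Lib.Helper22.FFD

variable (R S : Type u) [CommRing R] [CommRing S] [Algebra R S]
  (D : PF.{u}.DescentData (fun _ : PUnit.{u + 1} => cm (fR R S)))

theorem effective [Module.FaithfullyFlat R S] :
    ∃ M : ModuleCat.{u} R,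
      Nonempty ((PF.{u}.toDescentData (fun _ : PUnit.{u + 1} => cm (fR R S))).obj M ≅ D) := by
  obtain ⟨M, e, he⟩ := exists_descent (NN R S D) (phi R S D) (counit_D R S D) (coassoc_D R S D)
  have hcomm := hcomm_D R S D M e he
  have key : ∀ ⦃Y : CommRingCat.{u}ᵒᵖ⦄ (q : Y ⟶ op (CommRingCat.of R)) ⦃i₁ i₂ : PUnit.{u+1}⦄
      (f₁ f₂ : Y ⟶ op (CommRingCat.of S)) (hf₁ : f₁ ≫ cm (fR R S) = q) (hf₂ : f₂ ≫ cm (fR R S) = q),
      (PF.{u}.map f₁.op.toLoc).toFunctor.map e.hom ≫ D.hom (i₁ := i₁) (i₂ := i₂) q f₁ f₂ hf₁ hf₂ =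
        ((PF.{u}.toDescentData (fun _ : PUnit.{u + 1} => cm (fR R S))).obj M).hom
          (i₁ := i₁) (i₂ := i₂) q f₁ f₂ hf₁ hf₂ ≫
          (PF.{u}.map f₂.op.toLoc).toFunctor.map e.hom := by
    intro Y q i₁ i₂ f₁ f₂ hf₁ hf₂
    cases i₁
    cases i₂
    obtain ⟨g, hg₁, hg₂⟩ := exists_lift_cm R S q f₁ f₂ hf₁ hf₂
    exact comm_of_universal ((PF.{u}.toDescentData (fun _ : PUnit.{u + 1} => cm (fR R S))).obj M) D
      (fun _ => e.hom) (i₁ := PUnit.unit) (i₂ := PUnit.unit) (cm (c2 R S)) (cm (i1 R S)) (cm (i2 R S))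
      (cm_comp _ _ _ i1_comp_fR) (cm_comp _ _ _ i2_comp_fR) hcomm q f₁ f₂ hf₁ hf₂ g hg₁ hg₂
  exact ⟨M, ⟨Pseudofunctor.DescentData.isoMk (fun _ => e) key⟩⟩

end Groth.Agent.Lib.Helper22.FFD
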