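import Mathlib

universe u

namespace Groth.Agent.Lib.Helper22.SpPO

variable {A A' B R : Type u} [CommRing A] [CommRing A'] [CommRing B] [CommRing R]

/-- Elementwise fibre square of commutative rings: `R = B ×_A A'`. -/
structure FS (p : A' →+* A) (q : B →+* A) (φB : R →+* B) (φA : R →+* A') : Prop where
  comm : ∀ r, q (φB r) = p (φA r)
  inj : ∀ r, φB r = 0 → φA r = 0 → r = 0
  ex : ∀ b a, q b = p a → ∃ r, φB r = b ∧ φA r = a

variable {p : A' →+* A} {q : B →+* A} {φB : R →+* B} {φA : R →+* A'}

theorem FS.ext (hs : FS p q φB φA) {r r' : R} (h1 : φB r = φB r') (h2 : φA r = φA r') : r = r' := by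
  have := hs.inj (r - r') (by simp [h1]) (by simp [h2])
  exact sub_eq_zero.mp this

theorem FS.exists_lift (hs : FS p q φB φA) {C : Type u} [CommRing C] (α : C →+* A') (β : C →+* B)
    (h : ∀ c, q (β c) = p (α c)) : ∃ ψ : C →+* R, φB.comp ψ = β ∧ φA.comp ψ = α := by
  choose f hf using fun c => hs.ex (β c) (α c) (h c)
  refine ⟨{ toFun := f, map_one' := ?_, map_mul' := ?_, map_zero' := ?_, map_add' := ?_ }, ?_, ?_⟩
  · apply hs.ext <;> simp [hf]
  · intro x y; apply hs.ext <;> simp [hf]
  · apply hs.ext <;> simp [hf]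
  · intro x y; apply hs.ext <;> simp [hf]
  · ext c; exact (hf c).1
  · ext c; exact (hf c).2

theorem FS.surjective_fst (hs : FS p q φB φA) (hp : Function.Surjective p) :
    Function.Surjective φB := by
  intro b
  obtain ⟨a, ha⟩ := hp (q b)
  obtain ⟨r, hr, -⟩ := hs.ex b a ha.symm
  exact ⟨r, hr⟩

section Localize

variable {Rr Br Ar' Ar : Type u} [CommRing Rr] [CommRing Br] [CommRing Ar'] [CommRing Ar]
  [Algebra R Rr] [Algebra B Br] [Algebra A' Ar'] [Algebra A Ar]

theorem FS.localize (hs : FS p q φB φA) (r : R)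
    [IsLocalization.Away r Rr] [IsLocalization.Away (φB r) Br]
    [IsLocalization.Away (φA r) Ar'] [IsLocalization.Away (q (φB r)) Ar]
    (φBr : Rr →+* Br) (φAr : Rr →+* Ar') (qr : Br →+* Ar) (pr : Ar' →+* Ar)
    (h1 : ∀ x, φBr (algebraMap R Rr x) = algebraMap B Br (φB x))
    (h2 : ∀ x, φAr (algebraMap R Rr x) = algebraMap A' Ar' (φA x))
    (h3 : ∀ x, qr (algebraMap B Br x) = algebraMap A Ar (q x))
    (h4 : ∀ x, pr (algebraMap A' Ar' x) = algebraMap A Ar (p x)) :
    FS pr qr φBr φAr := by
  have ur : IsUnit (algebraMap R Rr r) := IsLocalization.Away.algebraMap_isUnit r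
  have ub : IsUnit (algebraMap B Br (φB r)) := IsLocalization.Away.algebraMap_isUnit (φB r)
  have ua' : IsUnit (algebraMap A' Ar' (φA r)) := IsLocalization.Away.algebraMap_isUnit (φA r)
  have ua : IsUnit (algebraMap A Ar (q (φB r))) := IsLocalization.Away.algebraMap_isUnit (q (φB r))
  refine ⟨?_, ?_, ?_⟩
  · intro x
    obtain ⟨n, a, hx⟩ := IsLocalization.Away.surj r x
    have e1 : qr (φBr x) * algebraMap A Ar (q (φB r)) ^ n = algebraMap A Ar (q (φB a)) := by
      rw [← h3, ← h3, ← h1, ← h1, ← hx]; simp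
    have e2 : pr (φAr x) * algebraMap A Ar (q (φB r)) ^ n = algebraMap A Ar (q (φB a)) := by
      rw [hs.comm r, hs.comm a, ← h4, ← h4, ← h2, ← h2, ← hx]; simp
    exact (ua.pow n).mul_left_injective (e1.trans e2.symm)
  · intro x hx1 hx2
    obtain ⟨n, a, hx⟩ := IsLocalization.Away.surj r x
    have e1 : algebraMap B Br (φB a) = 0 := by
      rw [← h1, ← hx]; simp [hx1]
    have e2 : algebraMap A' Ar' (φA a) = 0 := by
      rw [← h2, ← hx]; simp [hx2]
    obtain ⟨m1, hm1⟩ := IsLocalization.Away.exists_of_eq (φB r) (e1.trans (map_zero _).symm)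
    obtain ⟨m2, hm2⟩ := IsLocalization.Away.exists_of_eq (φA r) (e2.trans (map_zero _).symm)
    have e3 : r ^ (m1 + m2) * a = 0 := by
      apply hs.inj
      · rw [map_mul, map_pow, pow_add]
        linear_combination (φB r ^ m2) * hm1
      · rw [map_mul, map_pow, pow_add]
        linear_combination (φA r ^ m1) * hm2
    have e4 : algebraMap R Rr a = 0 := by
      have : algebraMap R Rr r ^ (m1 + m2) * algebraMap R Rr a = 0 := by
        rw [← map_pow, ← map_mul, e3, map_zero]
      exact (ur.pow _).mul_right_eq_zero.mp this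
    rw [e4] at hx
    exact (ur.pow n).mul_left_eq_zero.mp hx
  · intro β α hβα
    obtain ⟨n1, b, hb⟩ := IsLocalization.Away.surj (φB r) β
    obtain ⟨n2, a, ha⟩ := IsLocalization.Away.surj (φA r) α
    -- common exponent
    have hb' : β * algebraMap B Br (φB r) ^ (n1 + n2) = algebraMap B Br (b * φB r ^ n2) := by
      rw [pow_add, ← mul_assoc, hb, map_mul, map_pow]
    have ha' : α * algebraMap A' Ar' (φA r) ^ (n1 + n2) = algebraMap A' Ar' (a * φA r ^ n1) := by
      rw [pow_add, mul_comm (_ ^ n1), ← mul_assoc, ha, map_mul, map_pow]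
    have e1 : algebraMap A Ar (q (b * φB r ^ n2)) = algebraMap A Ar (p (a * φA r ^ n1)) := by
      rw [← h3, ← h4, ← hb', ← ha', map_mul, map_mul, hβα, map_pow, map_pow, h3, h4, hs.comm r]
    obtain ⟨m, hm⟩ := IsLocalization.Away.exists_of_eq (q (φB r)) e1
    have e2 : q (φB r ^ m * (b * φB r ^ n2)) = p (φA r ^ m * (a * φA r ^ n1)) := by
      rw [map_mul, map_pow, hm, hs.comm r]; simp [map_mul, map_pow]
    obtain ⟨r0, hr1, hr2⟩ := hs.ex _ _ e2
    obtain ⟨v, hv⟩ := ur.exists_right_inv
    refine ⟨algebraMap R Rr r0 * v ^ (m + (n1 + n2)), ?_, ?_⟩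
    · have hv' : algebraMap B Br (φB r) * φBr v = 1 := by
        rw [← h1, ← map_mul, hv, map_one]
      apply (ub.pow (m + (n1 + n2))).mul_left_injective
      simp only
      have hv'' : (algebraMap B Br (φB r) * φBr v) ^ (m + (n1 + n2)) = 1 := by rw [hv', one_pow]
      rw [map_mul, map_pow, h1, hr1, map_mul, map_pow]
      rw [mul_pow] at hv''
      linear_combination (algebraMap B Br (φB r) ^ m * algebraMap B Br (b * φB r ^ n2)) * hv''
        - algebraMap B Br (φB r) ^ m * hb'
    · have hv' : algebraMap A' Ar' (φA r) * φAr v = 1 := by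
        rw [← h2, ← map_mul, hv, map_one]
      apply (ua'.pow (m + (n1 + n2))).mul_left_injective
      simp only
      have hv'' : (algebraMap A' Ar' (φA r) * φAr v) ^ (m + (n1 + n2)) = 1 := by rw [hv', one_pow]
      rw [map_mul, map_pow, h2, hr2, map_mul, map_pow]
      rw [mul_pow] at hv''
      linear_combination (algebraMap A' Ar' (φA r) ^ m * algebraMap A' Ar' (a * φA r ^ n1)) * hv''
        - algebraMap A' Ar' (φA r) ^ m * ha'

theorem FS.localize_surjective (hs : FS p q φB φA) (hp : Function.Surjective p) (r : R)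
    [IsLocalization.Away (φA r) Ar'] [IsLocalization.Away (q (φB r)) Ar]
    (pr : Ar' →+* Ar)
    (h4 : ∀ x, pr (algebraMap A' Ar' x) = algebraMap A Ar (p x)) :
    Function.Surjective pr := by
  have ua' : IsUnit (algebraMap A' Ar' (φA r)) := IsLocalization.Away.algebraMap_isUnit (φA r)
  have ua : IsUnit (algebraMap A Ar (q (φB r))) := IsLocalization.Away.algebraMap_isUnit (q (φB r))
  intro α
  obtain ⟨n, a, ha⟩ := IsLocalization.Away.surj (q (φB r)) α
  obtain ⟨a', rfl⟩ := hp a
  obtain ⟨v, hv⟩ := ua'.exists_right_inv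
  refine ⟨algebraMap A' Ar' a' * v ^ n, ?_⟩
  apply (ua.pow n).mul_left_injective
  simp only
  have hv' : (pr (algebraMap A' Ar' (φA r)) * pr v) ^ n = 1 := by
    rw [← map_mul, hv, map_one, one_pow]
  rw [h4, ← hs.comm r, mul_pow] at hv'
  rw [ha, map_mul, h4, map_pow]
  linear_combination (algebraMap A Ar (p a')) * hv'

end Localize

section Concrete

/-- The localized map `A'_{φA r} → A_{q (φB r)}`. -/
noncomputable def locp (hs : FS p q φB φA) (r : R) :
    Localization.Away (φA r) →+* Localization.Away (q (φB r)) :=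
  Localization.awayLift ((algebraMap A (Localization.Away (q (φB r)))).comp p) (φA r) (by
    rw [RingHom.comp_apply, ← hs.comm]; exact IsLocalization.Away.algebraMap_isUnit _)

theorem locp_algebraMap (hs : FS p q φB φA) (r : R) (x : A') :
    locp hs r (algebraMap A' _ x) = algebraMap A _ (p x) := by
  unfold locp
  rw [Localization.awayLift, IsLocalization.Away.lift_eq]; rfl

theorem awayMap_algebraMap {X Y : Type u} [CommRing X] [CommRing Y] (f : X →+* Y) (r x : X) :
    Localization.awayMap f r (algebraMap X _ x) = algebraMap Y _ (f x) := by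
  unfold Localization.awayMap IsLocalization.Away.map
  rw [IsLocalization.map_eq]

theorem FS.loc (hs : FS p q φB φA) (r : R) :
    FS (locp hs r) (Localization.awayMap q (φB r)) (Localization.awayMap φB r)
      (Localization.awayMap φA r) :=
  hs.localize r _ _ _ _ (awayMap_algebraMap φB r) (awayMap_algebraMap φA r)
    (awayMap_algebraMap q (φB r)) (locp_algebraMap hs r)

theorem FS.loc_surjective (hs : FS p q φB φA) (hp : Function.Surjective p) (r : R) :
    Function.Surjective (locp hs r) :=
  hs.localize_surjective hp r _ (locp_algebraMap hs r)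

end Concrete

end Groth.Agent.Lib.Helper22.SpPO
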