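import Mathlib
import Groth.Agent.Lib.Helper22SpecPushoutAlg

universe u
open AlgebraicGeometry CategoryTheory Limits

namespace Groth.Agent.Lib.Helper22.SpPO

variable {A A' B R : Type u} [CommRing A] [CommRing A'] [CommRing B] [CommRing R]
variable {p : A' →+* A} {q : B →+* A} {φB : R →+* B} {φA : R →+* A'}

/-- `Spec` of a ring hom between unbundled rings. -/
noncomputable abbrev sp {X Y : Type u} [CommRing X] [CommRing Y] (f : X →+* Y) :
    Spec (CommRingCat.of Y) ⟶ Spec (CommRingCat.of X) := Spec.map (CommRingCat.ofHom f)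

theorem sp_comp {X Y Z : Type u} [CommRing X] [CommRing Y] [CommRing Z] (f : X →+* Y)
    (g : Y →+* Z) : sp g ≫ sp f = sp (g.comp f) := by
  simp only [sp, ← Spec.map_comp, ← CommRingCat.ofHom_comp]

theorem sp_comp_assoc {X Y Z : Type u} [CommRing X] [CommRing Y] [CommRing Z] (f : X →+* Y)
    (g : Y →+* Z) {T : Scheme.{u}} (c : Spec (CommRingCat.of X) ⟶ T) :
    sp g ≫ sp f ≫ c = sp (g.comp f) ≫ c := by
  rw [← Category.assoc, sp_comp]

theorem sp_square (hs : FS p q φB φA) : sp p ≫ sp φA = sp q ≫ sp φB := by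
  rw [sp_comp, sp_comp]
  congr 1
  ext r
  exact (hs.comm r).symm

theorem aff_ext (hs : FS p q φB φA) {T : Scheme.{u}} [IsAffine T]
    (c c' : Spec (CommRingCat.of R) ⟶ T)
    (h1 : sp φB ≫ c = sp φB ≫ c') (h2 : sp φA ≫ c = sp φA ≫ c') : c = c' := by
  rw [← cancel_mono T.isoSpec.hom]
  obtain ⟨ψ, hψ⟩ := Spec.map_surjective (c ≫ T.isoSpec.hom)
  obtain ⟨ψ', hψ'⟩ := Spec.map_surjective (c' ≫ T.isoSpec.hom)
  rw [← hψ, ← hψ']
  congr 1
  have e1 : ψ ≫ CommRingCat.ofHom φB = ψ' ≫ CommRingCat.ofHom φB := by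
    apply Spec.map_injective
    rw [Spec.map_comp, Spec.map_comp, hψ, hψ', reassoc_of% h1]
  have e2 : ψ ≫ CommRingCat.ofHom φA = ψ' ≫ CommRingCat.ofHom φA := by
    apply Spec.map_injective
    rw [Spec.map_comp, Spec.map_comp, hψ, hψ', reassoc_of% h2]
  ext x
  apply hs.ext
  · exact congr($(e1).hom x)
  · exact congr($(e2).hom x)

theorem aff_exists (hs : FS p q φB φA) {T : Scheme.{u}} [IsAffine T]
    (a : Spec (CommRingCat.of A') ⟶ T) (b : Spec (CommRingCat.of B) ⟶ T)
    (hab : sp p ≫ a = sp q ≫ b) :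
    ∃ c : Spec (CommRingCat.of R) ⟶ T, sp φA ≫ c = a ∧ sp φB ≫ c = b := by
  obtain ⟨α, hα⟩ := Spec.map_surjective (a ≫ T.isoSpec.hom)
  obtain ⟨β, hβ⟩ := Spec.map_surjective (b ≫ T.isoSpec.hom)
  have e : α ≫ CommRingCat.ofHom p = β ≫ CommRingCat.ofHom q := by
    apply Spec.map_injective
    rw [Spec.map_comp, Spec.map_comp, hα, hβ, reassoc_of% hab]
  obtain ⟨ψ, hψ1, hψ2⟩ := hs.exists_lift α.hom β.hom (fun c => (congr($(e).hom c)).symm)
  refine ⟨sp ψ ≫ T.isoSpec.inv, ?_, ?_⟩
  · rw [← Category.assoc, sp_comp, hψ2, ← cancel_mono T.isoSpec.hom, Category.assoc,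
      Iso.inv_hom_id, Category.comp_id, ← hα]
    rfl
  · rw [← Category.assoc, sp_comp, hψ1, ← cancel_mono T.isoSpec.hom, Category.assoc,
      Iso.inv_hom_id, Category.comp_id, ← hβ]
    rfl

/-- The localization open immersion `Spec X_r ⟶ Spec X`. -/
noncomputable abbrev lc {X : Type u} [CommRing X] (r : X) :
    Spec (CommRingCat.of (Localization.Away r)) ⟶ Spec (CommRingCat.of X) :=
  sp (algebraMap X (Localization.Away r))

theorem range_lc {X : Type u} [CommRing X] (r : X) :
    Set.range (lc r).base = {x : PrimeSpectrum X | r ∉ x.asIdeal} := by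
  have := PrimeSpectrum.localization_away_comap_range (Localization.Away r) r
  ext x
  exact (Set.ext_iff.mp this x)

theorem lc_not_mem {X : Type u} [CommRing X] (r : X)
    (x : Spec (CommRingCat.of (Localization.Away r))) :
    r ∉ ((lc r).base x).asIdeal := by
  have : (lc r).base x ∈ Set.range (lc r).base := ⟨x, rfl⟩
  rw [range_lc] at this
  exact this

theorem loc_square {X Y : Type u} [CommRing X] [CommRing Y] (f : X →+* Y) (r : X) :
    sp (Localization.awayMap f r) ≫ lc r = lc (f r) ≫ sp f := by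
  rw [sp_comp, sp_comp]
  congr 1
  ext x
  exact awayMap_algebraMap f r x

theorem isPullback_loc {X Y : Type u} [CommRing X] [CommRing Y] (f : X →+* Y) (r : X) :
    IsPullback (lc (f r)) (sp (Localization.awayMap f r)) (sp f) (lc r) := by
  haveI : IsLocalization ((Submonoid.powers r).map f) (Localization.Away (f r)) := by
    rw [Submonoid.map_powers]; infer_instance
  exact isPullback_SpecMap_of_isPushout _ _ _ _
    (CommRingCat.isPushout_of_isLocalization f (Localization.awayMap f r)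
      (RingHom.ext (awayMap_algebraMap f r)) (Submonoid.powers r))

theorem locp_square (hs : FS p q φB φA) (r : R) :
    sp (locp hs r) ≫ lc (φA r) = lc (q (φB r)) ≫ sp p := by
  rw [sp_comp, sp_comp]
  congr 1
  ext x
  exact locp_algebraMap hs r x

theorem joint_surj (hs : FS p q φB φA) (hp : Function.Surjective p)
    (z : Spec (CommRingCat.of R)) :
    z ∈ Set.range (sp φB).base ∨ z ∈ Set.range (sp φA).base := by
  by_cases h : RingHom.ker φB ≤ (z).asIdeal
  · left
    have := range_comap_of_surjective _ φB (hs.surjective_fst hp)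
    have hz : (show PrimeSpectrum R from z) ∈ PrimeSpectrum.zeroLocus (RingHom.ker φB : Set R) := h
    rw [← this] at hz
    exact hz
  · right
    obtain ⟨e₀, he₀, hz⟩ := SetLike.not_le_iff_exists.mp h
    have hB0 : φB e₀ = 0 := he₀
    -- the localized map `R_{e₀} → A'_{φA e₀}` is bijective
    have hbij : Function.Bijective (Localization.awayMap φA e₀) := by
      have hl := hs.loc e₀
      have : Subsingleton (Localization.Away (φB e₀)) := by
        rw [hB0]
        exact IsLocalization.subsingleton (M := Submonoid.powers (0 : B)) ⟨1, by simp⟩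
      have : Subsingleton (Localization.Away (q (φB e₀))) := by
        rw [hB0, map_zero]
        exact IsLocalization.subsingleton (M := Submonoid.powers (0 : A)) ⟨1, by simp⟩
      constructor
      · rw [injective_iff_map_eq_zero]
        intro x hx
        exact hl.inj x (Subsingleton.elim _ _) hx
      · intro α
        obtain ⟨x, -, hx⟩ := hl.ex 0 α (Subsingleton.elim _ _)
        exact ⟨x, hx⟩
    have : IsIso (CommRingCat.ofHom (Localization.awayMap φA e₀)) :=
      (ConcreteCategory.isIso_iff_bijective _).mpr hbij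
    have : IsIso (sp (Localization.awayMap φA e₀)) := by
      unfold sp; infer_instance
    have hz' : z ∈ Set.range (lc e₀).base := by
      rw [range_lc]; exact hz
    obtain ⟨z', rfl⟩ := hz'
    obtain ⟨x', rfl⟩ := (sp (Localization.awayMap φA e₀)).surjective z'
    refine ⟨(lc (φA e₀)).base x', ?_⟩
    have := congr($(loc_square φA e₀).base x')
    simpa using this.symm

theorem exists_affine_nhd {T : Scheme.{u}} (t : T) : ∃ W : T.Opens, IsAffineOpen W ∧ t ∈ W := by
  obtain ⟨W, hW, htW, -⟩ := (TopologicalSpace.Opens.isBasis_iff_nbhd.mp T.isBasis_affineOpens)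
    (show t ∈ (⊤ : T.Opens) from trivial)
  exact ⟨W, hW, htW⟩

theorem exists_basicOpen_le {X : Type u} [CommRing X] (U : (Spec (CommRingCat.of X)).Opens)
    (x : Spec (CommRingCat.of X)) (hx : x ∈ U) :
    ∃ f : X, f ∉ (x).asIdeal ∧
      ∀ y : Spec (CommRingCat.of X), f ∉ (y).asIdeal → y ∈ U := by
  have hb : ∀ {U : TopologicalSpace.Opens (PrimeSpectrum X)} {x : PrimeSpectrum X}, x ∈ U →
      ∃ U' ∈ Set.range PrimeSpectrum.basicOpen, x ∈ U' ∧ U' ≤ U :=
    TopologicalSpace.Opens.isBasis_iff_nbhd.mp (PrimeSpectrum.isBasis_basic_opens (R := X))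
  obtain ⟨_, ⟨f, rfl⟩, hxf, hfU⟩ := @hb U x hx
  exact ⟨f, hxf, fun y hy => hfU hy⟩

theorem exists_basicOpen_affine (hs : FS p q φB φA) (hp : Function.Surjective p)
    {T : Scheme.{u}} (a : Spec (CommRingCat.of A') ⟶ T) (b : Spec (CommRingCat.of B) ⟶ T)
    (hab : sp p ≫ a = sp q ≫ b) (z : Spec (CommRingCat.of R)) :
    ∃ (r : R) (W : T.Opens), IsAffineOpen W ∧ r ∉ (z).asIdeal ∧
      (∀ x : Spec (CommRingCat.of A'), φA r ∉ (x).asIdeal →
        a.base x ∈ W) ∧
      (∀ y : Spec (CommRingCat.of B), φB r ∉ (y).asIdeal →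
        b.base y ∈ W) := by
  by_cases hz : z ∈ Set.range (sp φB).base
  · obtain ⟨y, rfl⟩ := hz
    obtain ⟨W, hW, hyW⟩ := exists_affine_nhd (b.base y)
    obtain ⟨β, hβy, hβW⟩ := exists_basicOpen_le (b ⁻¹ᵁ W) y hyW
    -- the closed complement of `a⁻¹ W`
    let C : Set (PrimeSpectrum A') := {x | a.base x ∉ W}
    have hC : IsClosed C := by
      rw [← isOpen_compl_iff]
      have : Cᶜ = a.base ⁻¹' (W : Set T) := by ext x; simp [C]; rfl
      rw [this]
      exact W.isOpen.preimage a.continuous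
    let K : Ideal A' := PrimeSpectrum.vanishingIdeal C
    have hK : PrimeSpectrum.zeroLocus (K : Set A') = C := by
      rw [PrimeSpectrum.zeroLocus_vanishingIdeal_eq_closure, hC.closure_eq]
    obtain ⟨α₀, hα₀⟩ := hp (q β)
    have hrad : α₀ ∈ (K ⊔ RingHom.ker p).radical := by
      rw [Ideal.radical_eq_sInf, Ideal.mem_sInf]
      rintro J ⟨hJ, hJp⟩
      let x : PrimeSpectrum A' := ⟨J, hJp⟩
      have hxC : x ∈ C := by
        rw [← hK]
        exact le_sup_left.trans hJ
      have hxr : x ∈ Set.range (PrimeSpectrum.comap p) := by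
        rw [range_comap_of_surjective _ p hp]
        exact le_sup_right.trans hJ
      obtain ⟨ζ, hζ⟩ := hxr
      have h1 : a.base x = b.base ((sp q).base ζ) := by
        have := congr($(hab).base ζ)
        rw [← hζ]
        exact this
      have h2 : β ∈ ((sp q).base ζ).asIdeal := by
        by_contra hcon
        have := hβW _ hcon
        exact hxC (h1 ▸ this)
      have h3 : p α₀ ∈ ζ.asIdeal := by
        rw [hα₀]; exact h2
      have : α₀ ∈ (PrimeSpectrum.comap p ζ).asIdeal := h3
      rw [hζ] at this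
      exact this
    obtain ⟨n, hn⟩ := hrad
    have hn' : α₀ ^ (n + 1) ∈ K ⊔ RingHom.ker p := by
      rw [pow_succ]; exact Ideal.mul_mem_right _ _ hn
    obtain ⟨κ, hκ, ι, hι, hκι⟩ := Submodule.mem_sup.mp hn'
    have hpκ : q (β ^ (n + 1)) = p κ := by
      have : p κ = p (α₀ ^ (n + 1)) := by
        rw [← hκι, map_add, (RingHom.mem_ker).mp hι, add_zero]
      rw [this, map_pow, map_pow, hα₀]
    obtain ⟨r, hr1, hr2⟩ := hs.ex _ _ hpκ
    refine ⟨r, W, hW, ?_, ?_, ?_⟩
    · intro hrz
      have : φB r ∈ (y).asIdeal := hrz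
      rw [hr1] at this
      exact hβy (Ideal.IsPrime.mem_of_pow_mem (show PrimeSpectrum B from y).2 _ this)
    · intro x hx
      by_contra hcon
      have hxC : (show PrimeSpectrum A' from x) ∈ PrimeSpectrum.zeroLocus (K : Set A') := by
        rw [hK]; exact hcon
      apply hx
      rw [hr2]
      exact hxC hκ
    · intro y' hy'
      apply hβW
      intro hcon
      apply hy'
      rw [hr1]
      exact Ideal.pow_mem_of_mem _ hcon _ (Nat.succ_pos n)
  · obtain ⟨x, rfl⟩ := (joint_surj hs hp z).resolve_left hz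
    have hker : ¬ RingHom.ker φB ≤
        ((sp φA).base x).asIdeal := by
      intro h
      apply hz
      have := range_comap_of_surjective _ φB (hs.surjective_fst hp)
      have hz' : (show PrimeSpectrum R from (sp φA).base x) ∈
          PrimeSpectrum.zeroLocus (RingHom.ker φB : Set R) := h
      rw [← this] at hz'
      exact hz'
    obtain ⟨e₀, he₀, he₀z⟩ := SetLike.not_le_iff_exists.mp hker
    have hB0 : φB e₀ = 0 := he₀
    obtain ⟨W, hW, hxW⟩ := exists_affine_nhd (a.base x)
    obtain ⟨α, hαx, hαW⟩ := exists_basicOpen_le (a ⁻¹ᵁ W) x hxW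
    have hcomp : q 0 = p (φA e₀ * α) := by
      rw [map_zero, map_mul, ← hs.comm, hB0, map_zero, zero_mul]
    obtain ⟨r, hr1, hr2⟩ := hs.ex _ _ hcomp
    refine ⟨r, W, hW, ?_, ?_, ?_⟩
    · intro hrz
      have h1 : φA r ∈ (x).asIdeal := hrz
      rw [hr2] at h1
      rcases (show PrimeSpectrum A' from x).2.mem_or_mem h1 with h2 | h2
      · exact he₀z h2
      · exact hαx h2
    · intro x' hx'
      apply hαW
      intro hcon
      apply hx'
      rw [hr2]
      exact Ideal.mul_mem_left _ _ hcon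
    · intro y' hy'
      exfalso
      apply hy'
      rw [hr1]
      exact Ideal.zero_mem _

theorem hom_ext_local (hs : FS p q φB φA) {V T : Scheme.{u}}
    (e : V ⟶ Spec (CommRingCat.of R)) (c c' : V ⟶ T)
    (H1 : pullback.snd (sp φA) e ≫ c = pullback.snd (sp φA) e ≫ c')
    (H2 : pullback.snd (sp φB) e ≫ c = pullback.snd (sp φB) e ≫ c')
    (r : R) (k : Spec (CommRingCat.of (Localization.Away r)) ⟶ V) (hk : k ≫ e = lc r)
    (W : T.Opens) (hW : IsAffineOpen W)
    (hc : ∀ x, (k ≫ c).base x ∈ W) (hc' : ∀ x, (k ≫ c').base x ∈ W) :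
    k ≫ c = k ≫ c' := by
  have hr1 : Set.range (k ≫ c).base ⊆ Set.range W.ι.base := by
    rw [Scheme.Opens.range_ι]; rintro _ ⟨x, rfl⟩; exact hc x
  have hr2 : Set.range (k ≫ c').base ⊆ Set.range W.ι.base := by
    rw [Scheme.Opens.range_ι]; rintro _ ⟨x, rfl⟩; exact hc' x
  have : IsAffine W.toScheme := hW
  rw [← IsOpenImmersion.lift_fac W.ι (k ≫ c) hr1, ← IsOpenImmersion.lift_fac W.ι (k ≫ c') hr2]
  congr 1
  apply aff_ext (hs.loc r)
  · rw [← cancel_mono W.ι, Category.assoc, Category.assoc, IsOpenImmersion.lift_fac,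
      IsOpenImmersion.lift_fac]
    have hcond : lc (φB r) ≫ sp φB = (sp (Localization.awayMap φB r) ≫ k) ≫ e := by
      rw [Category.assoc, hk, loc_square]
    have e1 : pullback.lift _ _ hcond ≫ pullback.snd (sp φB) e =
        sp (Localization.awayMap φB r) ≫ k := pullback.lift_snd _ _ _
    rw [← Category.assoc, ← e1, Category.assoc, H2, ← Category.assoc, e1, Category.assoc]
  · rw [← cancel_mono W.ι, Category.assoc, Category.assoc, IsOpenImmersion.lift_fac,
      IsOpenImmersion.lift_fac]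
    have hcond : lc (φA r) ≫ sp φA = (sp (Localization.awayMap φA r) ≫ k) ≫ e := by
      rw [Category.assoc, hk, loc_square]
    have e1 : pullback.lift _ _ hcond ≫ pullback.snd (sp φA) e =
        sp (Localization.awayMap φA r) ≫ k := pullback.lift_snd _ _ _
    rw [← Category.assoc, ← e1, Category.assoc, H1, ← Category.assoc, e1, Category.assoc]

theorem hom_ext_of_isOpenImmersion (hs : FS p q φB φA) (hp : Function.Surjective p)
    {V T : Scheme.{u}} (e : V ⟶ Spec (CommRingCat.of R)) [IsOpenImmersion e] (c c' : V ⟶ T)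
    (H1 : pullback.snd (sp φA) e ≫ c = pullback.snd (sp φA) e ≫ c')
    (H2 : pullback.snd (sp φB) e ≫ c = pullback.snd (sp φB) e ≫ c') : c = c' := by
  -- agreement on points
  have hpt : ∀ v : V, c.base v = c'.base v := by
    intro v
    rcases joint_surj hs hp (e.base v) with ⟨y, hy⟩ | ⟨x, hx⟩
    · obtain ⟨w, -, hw2⟩ := Scheme.Pullback.exists_preimage_pullback (f := sp φB) (g := e) y v hy
      have := congr($(H2).base w)
      rw [← hw2]
      exact this
    · obtain ⟨w, -, hw2⟩ := Scheme.Pullback.exists_preimage_pullback (f := sp φA) (g := e) x v hx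
      have := congr($(H1).base w)
      rw [← hw2]
      exact this
  -- local statement
  have hloc : ∀ v : V, ∃ (r : R) (k : Spec (CommRingCat.of (Localization.Away r)) ⟶ V),
      IsOpenImmersion k ∧ v ∈ Set.range k.base ∧ k ≫ c = k ≫ c' := by
    intro v
    obtain ⟨W, hW, hvW⟩ := exists_affine_nhd (c.base v)
    let U : V.Opens := c ⁻¹ᵁ W ⊓ c' ⁻¹ᵁ W
    have hvU : v ∈ U := ⟨hvW, by show c'.base v ∈ W; rw [← hpt v]; exact hvW⟩
    obtain ⟨r, hrv, hrU⟩ := exists_basicOpen_le (e ''ᵁ U) (e.base v) ⟨v, hvU, rfl⟩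
    have hrange : Set.range (lc r).base ⊆ Set.range e.base := by
      rw [range_lc]
      intro x hx
      obtain ⟨u, -, hu⟩ := hrU x hx
      exact ⟨u, hu⟩
    let k : Spec (CommRingCat.of (Localization.Away r)) ⟶ V := IsOpenImmersion.lift e (lc r) hrange
    have hk : k ≫ e = lc r := IsOpenImmersion.lift_fac _ _ _
    have hkU : ∀ x, k.base x ∈ U := by
      intro x
      have h1 : (lc r).base x ∈ Set.range (lc r).base := ⟨x, rfl⟩
      rw [range_lc] at h1
      obtain ⟨u, huU, hu⟩ := hrU _ h1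
      have h2 : e.base u = e.base (k.base x) := hu.trans (congr($(hk).base x)).symm
      have := e.isOpenEmbedding.injective h2
      rw [← this]; exact huU
    have hkimm : IsOpenImmersion k := by
      have : IsOpenImmersion (k ≫ e) := by rw [hk]; infer_instance
      exact IsOpenImmersion.of_comp k e
    refine ⟨r, k, hkimm, ?_, ?_⟩
    · have h1 : e.base v ∈ Set.range (lc r).base := by rw [range_lc]; exact hrv
      obtain ⟨x, hx⟩ := h1
      refine ⟨x, e.isOpenEmbedding.injective ?_⟩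
      rw [← hx]; exact congr($(hk).base x)
    · exact hom_ext_local hs e c c' H1 H2 r k hk W hW (fun x => (hkU x).1) (fun x => (hkU x).2)
  choose r k hk1 hk2 hk3 using hloc
  let 𝒰 : V.OpenCover := Scheme.Cover.mkOfCovers V (fun v => Spec (CommRingCat.of (Localization.Away (r v))))
    (fun v => k v) (fun v => ⟨v, hk2 v⟩) hk1
  exact Scheme.Cover.hom_ext 𝒰 c c' (fun v => hk3 v)

/-- Restriction of a "good" morphism along `k`. -/
theorem good_restrict {X Y : Type u} [CommRing X] [CommRing Y] (f : X →+* Y)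
    {V' V T : Scheme.{u}} (a : Spec (CommRingCat.of Y) ⟶ T)
    (e : V ⟶ Spec (CommRingCat.of X)) (u : V ⟶ T)
    (hu : pullback.snd (sp f) e ≫ u = pullback.fst (sp f) e ≫ a)
    (k : V' ⟶ V) (e' : V' ⟶ Spec (CommRingCat.of X)) (he : e' = k ≫ e) :
    pullback.snd (sp f) e' ≫ k ≫ u = pullback.fst (sp f) e' ≫ a := by
  subst he
  have hcond : pullback.fst (sp f) (k ≫ e) ≫ sp f = (pullback.snd (sp f) (k ≫ e) ≫ k) ≫ e := by
    rw [Category.assoc]; exact pullback.condition
  have e1 : pullback.lift _ _ hcond ≫ pullback.snd (sp f) e = pullback.snd (sp f) (k ≫ e) ≫ k :=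
    pullback.lift_snd _ _ _
  have e2 : pullback.lift _ _ hcond ≫ pullback.fst (sp f) e = pullback.fst (sp f) (k ≫ e) :=
    pullback.lift_fst _ _ _
  rw [← Category.assoc, ← e1, Category.assoc, hu, ← Category.assoc, e2]

theorem exists_local_desc (hs : FS p q φB φA) (hp : Function.Surjective p)
    {T : Scheme.{u}} (a : Spec (CommRingCat.of A') ⟶ T) (b : Spec (CommRingCat.of B) ⟶ T)
    (hab : sp p ≫ a = sp q ≫ b) (z : Spec (CommRingCat.of R)) :
    ∃ (r : R), r ∉ z.asIdeal ∧ ∃ u : Spec (CommRingCat.of (Localization.Away r)) ⟶ T,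
      pullback.snd (sp φA) (lc r) ≫ u = pullback.fst (sp φA) (lc r) ≫ a ∧
      pullback.snd (sp φB) (lc r) ≫ u = pullback.fst (sp φB) (lc r) ≫ b := by
  obtain ⟨r, W, hW, hrz, haW, hbW⟩ := exists_basicOpen_affine hs hp a b hab z
  refine ⟨r, hrz, ?_⟩
  have : IsAffine W.toScheme := hW
  have hr1 : Set.range (lc (φA r) ≫ a).base ⊆ Set.range W.ι.base := by
    rw [Scheme.Opens.range_ι]; rintro _ ⟨x, rfl⟩
    exact haW _ (lc_not_mem (φA r) x)
  have hr2 : Set.range (lc (φB r) ≫ b).base ⊆ Set.range W.ι.base := by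
    rw [Scheme.Opens.range_ι]; rintro _ ⟨x, rfl⟩
    exact hbW _ (lc_not_mem (φB r) x)
  let a₁ := IsOpenImmersion.lift W.ι (lc (φA r) ≫ a) hr1
  let b₁ := IsOpenImmersion.lift W.ι (lc (φB r) ≫ b) hr2
  have ha₁ : a₁ ≫ W.ι = lc (φA r) ≫ a := IsOpenImmersion.lift_fac _ _ _
  have hb₁ : b₁ ≫ W.ι = lc (φB r) ≫ b := IsOpenImmersion.lift_fac _ _ _
  have hcompat : sp (locp hs r) ≫ a₁ = sp (Localization.awayMap q (φB r)) ≫ b₁ := by
    rw [← cancel_mono W.ι, Category.assoc, Category.assoc, ha₁, hb₁, ← Category.assoc,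
      locp_square, ← Category.assoc, loc_square, Category.assoc, Category.assoc, hab]
  obtain ⟨c₁, hc1, hc2⟩ := aff_exists (hs.loc r) a₁ b₁ hcompat
  refine ⟨c₁ ≫ W.ι, ?_, ?_⟩
  · have hPB := isPullback_loc φA r
    rw [← cancel_epi hPB.isoPullback.hom, hPB.isoPullback_hom_snd_assoc,
      hPB.isoPullback_hom_fst_assoc, ← Category.assoc, hc1, ha₁]
  · have hPB := isPullback_loc φB r
    rw [← cancel_epi hPB.isoPullback.hom, hPB.isoPullback_hom_snd_assoc,
      hPB.isoPullback_hom_fst_assoc, ← Category.assoc, hc2, hb₁]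

theorem exists_desc (hs : FS p q φB φA) (hp : Function.Surjective p)
    {T : Scheme.{u}} (a : Spec (CommRingCat.of A') ⟶ T) (b : Spec (CommRingCat.of B) ⟶ T)
    (hab : sp p ≫ a = sp q ≫ b) :
    ∃ c : Spec (CommRingCat.of R) ⟶ T, sp φA ≫ c = a ∧ sp φB ≫ c = b := by
  choose r hr u hu1 hu2 using exists_local_desc hs hp a b hab
  let 𝒰 : (Spec (CommRingCat.of R)).OpenCover :=
    Scheme.Cover.mkOfCovers (Spec (CommRingCat.of R))
      (fun z => Spec (CommRingCat.of (Localization.Away (r z))))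
      (fun z => lc (r z)) (fun z => ⟨z, by
        have : z ∈ Set.range (lc (r z)).base := by rw [range_lc]; exact hr z
        exact this⟩) (fun z => inferInstance)
  have hcompat : ∀ z z', pullback.fst (𝒰.f z) (𝒰.f z') ≫ u z = pullback.snd _ _ ≫ u z' := by
    intro z z'
    apply hom_ext_of_isOpenImmersion hs hp (pullback.fst (𝒰.f z) (𝒰.f z') ≫ 𝒰.f z)
    · exact (good_restrict φA a (lc (r z)) (u z) (hu1 z) (pullback.fst (𝒰.f z) (𝒰.f z')) _ rfl).trans
        (good_restrict φA a (lc (r z')) (u z') (hu1 z') (pullback.snd (𝒰.f z) (𝒰.f z')) _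
          pullback.condition).symm
    · exact (good_restrict φB b (lc (r z)) (u z) (hu2 z) (pullback.fst (𝒰.f z) (𝒰.f z')) _ rfl).trans
        (good_restrict φB b (lc (r z')) (u z') (hu2 z') (pullback.snd (𝒰.f z) (𝒰.f z')) _
          pullback.condition).symm
  refine ⟨𝒰.glueMorphisms u hcompat, ?_, ?_⟩
  · apply Scheme.Cover.hom_ext (𝒰.pullback₁ (sp φA))
    intro z'
    let z : 𝒰.I₀ := z'
    have h1 : 𝒰.f z ≫ 𝒰.glueMorphisms u hcompat = u z := Scheme.Cover.ι_glueMorphisms 𝒰 u hcompat z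
    show pullback.fst (sp φA) (𝒰.f z) ≫ sp φA ≫ _ = pullback.fst (sp φA) (𝒰.f z) ≫ a
    rw [pullback.condition_assoc, h1]
    exact hu1 z
  · apply Scheme.Cover.hom_ext (𝒰.pullback₁ (sp φB))
    intro z'
    let z : 𝒰.I₀ := z'
    have h1 : 𝒰.f z ≫ 𝒰.glueMorphisms u hcompat = u z := Scheme.Cover.ι_glueMorphisms 𝒰 u hcompat z
    show pullback.fst (sp φB) (𝒰.f z) ≫ sp φB ≫ _ = pullback.fst (sp φB) (𝒰.f z) ≫ b
    rw [pullback.condition_assoc, h1]
    exact hu2 z

/-- **Ferrand / Stacks 0B7J (affine case).** For an elementwise fibre square of rings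
`R = B ×_A A'` with `A' → A` surjective, `Spec R` is the pushout of
`Spec A' ← Spec A → Spec B` in the category of schemes. -/
theorem isPushout_of_FS (hs : FS p q φB φA) (hp : Function.Surjective p) :
    IsPushout (sp p) (sp q) (sp φA) (sp φB) := by
  refine ⟨⟨sp_square hs⟩, ⟨PushoutCocone.IsColimit.mk _
    (fun s => (exists_desc hs hp s.inl s.inr s.condition).choose)
    (fun s => (exists_desc hs hp s.inl s.inr s.condition).choose_spec.1)
    (fun s => (exists_desc hs hp s.inl s.inr s.condition).choose_spec.2)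
    (fun s m h1 h2 => ?_)⟩⟩
  obtain ⟨g1, g2⟩ := (exists_desc hs hp s.inl s.inr s.condition).choose_spec
  have key : ∀ {X : Type u} [CommRing X] (f : R →+* X),
      pullback.snd (sp f) (𝟙 (Spec (CommRingCat.of R))) = pullback.fst (sp f) (𝟙 _) ≫ sp f := by
    intro X _ f
    have := pullback.condition (f := sp f) (g := 𝟙 (Spec (CommRingCat.of R)))
    rw [Category.comp_id] at this
    exact this.symm
  apply hom_ext_of_isOpenImmersion hs hp (𝟙 _)
  · rw [key, Category.assoc, Category.assoc, h1, g1]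
  · rw [key, Category.assoc, Category.assoc, h2, g2]

end Groth.Agent.Lib.Helper22.SpPO
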