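import Mathlib
import Groth.Agent.Lib.Helper22SpecPushout

universe u
open AlgebraicGeometry CategoryTheory Limits PrimeSpectrum

namespace Groth.Agent.Lib.Helper22.SpPO

variable {A A' B R : Type u} [CommRing A] [CommRing A'] [CommRing B] [CommRing R]
variable {p : A' →+* A} {q : B →+* A} {φB : R →+* B} {φA : R →+* A'}

theorem comap_comm (hs : FS p q φB φA) (ζ : PrimeSpectrum A) :
    comap φB (comap q ζ) = comap φA (comap p ζ) := by
  ext r
  show q (φB r) ∈ ζ.asIdeal ↔ p (φA r) ∈ ζ.asIdeal
  rw [hs.comm]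

theorem joint_surj_top (hs : FS p q φB φA) (hp : Function.Surjective p) (z : PrimeSpectrum R) :
    z ∈ Set.range (comap φB) ∨ z ∈ Set.range (comap φA) :=
  joint_surj hs hp z

theorem range_fst (hs : FS p q φB φA) (hp : Function.Surjective p) :
    Set.range (comap φB) = zeroLocus (RingHom.ker φB : Set R) :=
  range_comap_of_surjective _ φB (hs.surjective_fst hp)

/-- An element of `ker p` lifts to `ker φB`. -/
theorem exists_ker_lift (hs : FS p q φB φA) (a : A') (ha : p a = 0) :
    ∃ r, φB r = 0 ∧ φA r = a := hs.ex 0 a (by rw [map_zero, ha])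

theorem exists_of_eq (hs : FS p q φB φA) (hp : Function.Surjective p) {y : PrimeSpectrum B}
    {x : PrimeSpectrum A'} (h : comap φB y = comap φA x) :
    ∃ ζ, comap q ζ = y ∧ comap p ζ = x := by
  have hx : x ∈ Set.range (comap p) := by
    rw [range_comap_of_surjective _ p hp]
    intro a ha
    obtain ⟨r, hr1, hr2⟩ := exists_ker_lift hs a ha
    have : r ∈ (comap φB y).asIdeal := by
      show φB r ∈ y.asIdeal
      rw [hr1]; exact Ideal.zero_mem _
    rw [h] at this
    have h2 : φA r ∈ x.asIdeal := this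
    rwa [hr2] at h2
  obtain ⟨ζ, rfl⟩ := hx
  refine ⟨ζ, ?_, rfl⟩
  apply comap_injective_of_surjective φB (hs.surjective_fst hp)
  rw [comap_comm hs, h]

theorem inj_outside (hs : FS p q φB φA) (hp : Function.Surjective p) {x x' : PrimeSpectrum A'}
    (h : comap φA x = comap φA x') (hz : comap φA x ∉ Set.range (comap φB)) : x = x' := by
  rw [range_fst hs hp] at hz
  have hz' : ¬ RingHom.ker φB ≤ (comap φA x).asIdeal := hz
  obtain ⟨e₀, he₀, he₀z⟩ := SetLike.not_le_iff_exists.mp hz'
  have hB0 : φB e₀ = 0 := he₀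
  have key : ∀ x x' : PrimeSpectrum A', comap φA x = comap φA x' → φA e₀ ∉ x'.asIdeal →
      x.asIdeal ≤ x'.asIdeal := by
    intro x x' h hε a ha
    have hpa : p (φA e₀ * a) = 0 := by
      rw [map_mul, ← hs.comm, hB0, map_zero, zero_mul]
    obtain ⟨r, -, hr2⟩ := exists_ker_lift hs _ hpa
    have h1 : r ∈ (comap φA x).asIdeal := by
      show φA r ∈ x.asIdeal
      rw [hr2]; exact Ideal.mul_mem_left _ _ ha
    rw [h] at h1
    have h2 : φA r ∈ x'.asIdeal := h1
    rw [hr2] at h2
    exact (x'.2.mem_or_mem h2).resolve_left hε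
  have hε : φA e₀ ∉ x.asIdeal := he₀z
  have hε' : φA e₀ ∉ x'.asIdeal := by
    have : e₀ ∉ (comap φA x').asIdeal := by rw [← h]; exact he₀z
    exact this
  ext1
  exact le_antisymm (key x x' h hε') (key x' x h.symm hε)

theorem isClosed_of_preimages (hs : FS p q φB φA) (hp : Function.Surjective p)
    (S : Set (PrimeSpectrum R)) (h1 : IsClosed (comap φB ⁻¹' S))
    (h2 : IsClosed (comap φA ⁻¹' S)) : IsClosed S := by
  have hcl1 : IsClosed (comap φB '' (comap φB ⁻¹' S)) :=
    (isClosedEmbedding_comap_of_surjective _ φB (hs.surjective_fst hp)).isClosedMap _ h1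
  obtain ⟨K, hK⟩ := (isClosed_iff_zeroLocus_ideal _).mp h2
  -- the closure of the second image is contained in `S`
  have hcl2 : closure (comap φA '' (comap φA ⁻¹' S)) ⊆ S := by
    rw [hK, closure_image_comap_zeroLocus]
    intro z hz
    have hzK : Ideal.comap φA K ≤ z.asIdeal := hz
    by_cases hzr : z ∈ Set.range (comap φB)
    · obtain ⟨y, rfl⟩ := hzr
      by_contra hyS
      -- a basic open neighbourhood of `y` missing the closed set
      have hopen : IsOpen (comap φB ⁻¹' S)ᶜ := h1.isOpen_compl
      obtain ⟨_, ⟨β, rfl⟩, hyβ, hβS⟩ :=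
        isTopologicalBasis_basic_opens.exists_subset_of_mem_open (show y ∈ (comap φB ⁻¹' S)ᶜ from hyS)
          hopen
      obtain ⟨α₀, hα₀⟩ := hp (q β)
      have hrad : α₀ ∈ (K ⊔ RingHom.ker p).radical := by
        rw [Ideal.radical_eq_sInf, Ideal.mem_sInf]
        rintro J ⟨hJ, hJp⟩
        let x : PrimeSpectrum A' := ⟨J, hJp⟩
        have hxK : x ∈ comap φA ⁻¹' S := by
          rw [hK]
          exact le_sup_left.trans hJ
        have hxr : x ∈ Set.range (comap p) := by
          rw [range_comap_of_surjective _ p hp]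
          exact le_sup_right.trans hJ
        obtain ⟨ζ, hζ⟩ := hxr
        have h3 : comap φB (comap q ζ) ∈ S := by
          rw [comap_comm hs, hζ]; exact hxK
        have h4 : β ∈ (comap q ζ).asIdeal := by
          by_contra hcon
          exact hβS (show comap q ζ ∈ (basicOpen β : Set _) from hcon) h3
        have h5 : p α₀ ∈ ζ.asIdeal := by rw [hα₀]; exact h4
        have : α₀ ∈ (comap p ζ).asIdeal := h5
        rw [hζ] at this
        exact this
      obtain ⟨n, hn⟩ := hrad
      have hn' : α₀ ^ (n + 1) ∈ K ⊔ RingHom.ker p := by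
        rw [pow_succ]; exact Ideal.mul_mem_right _ _ hn
      obtain ⟨κ, hκ, ι, hι, hκι⟩ := Submodule.mem_sup.mp hn'
      have hpκ : q (β ^ (n + 1)) = p κ := by
        have : p κ = p (α₀ ^ (n + 1)) := by
          rw [← hκι, map_add, (RingHom.mem_ker).mp hι, add_zero]
        rw [this, map_pow, map_pow, hα₀]
      obtain ⟨r, hr1, hr2⟩ := hs.ex _ _ hpκ
      have hrz : r ∈ (comap φB y).asIdeal := hzK (show φA r ∈ K by rw [hr2]; exact hκ)
      have : φB r ∈ y.asIdeal := hrz
      rw [hr1] at this
      exact hyβ (y.2.mem_of_pow_mem _ this)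
    · obtain ⟨x, rfl⟩ := (joint_surj_top hs hp z).resolve_left hzr
      have hzr' := hzr
      rw [range_fst hs hp] at hzr'
      have hz' : ¬ RingHom.ker φB ≤ (comap φA x).asIdeal := hzr'
      obtain ⟨e₀, he₀, he₀z⟩ := SetLike.not_le_iff_exists.mp hz'
      have hB0 : φB e₀ = 0 := he₀
      have hε : φA e₀ ∉ x.asIdeal := he₀z
      have hxK : x ∈ zeroLocus (K : Set A') := by
        intro k hk
        have hpa : p (φA e₀ * k) = 0 := by
          rw [map_mul, ← hs.comm, hB0, map_zero, zero_mul]
        obtain ⟨r, -, hr2⟩ := exists_ker_lift hs _ hpa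
        have h3 : r ∈ (comap φA x).asIdeal :=
          hzK (show φA r ∈ K by rw [hr2]; exact Ideal.mul_mem_left _ _ hk)
        have h4 : φA r ∈ x.asIdeal := h3
        rw [hr2] at h4
        exact (x.2.mem_or_mem h4).resolve_left hε
      rw [← hK] at hxK
      exact hxK
  have hS' : S = comap φB '' (comap φB ⁻¹' S) ∪ closure (comap φA '' (comap φA ⁻¹' S)) := by
    apply Set.Subset.antisymm
    · intro z hz
      rcases joint_surj_top hs hp z with ⟨y, rfl⟩ | ⟨x, rfl⟩
      · exact Or.inl ⟨y, hz, rfl⟩
      · exact Or.inr (subset_closure ⟨x, hz, rfl⟩)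
    · rintro z (⟨y, hy, rfl⟩ | hz)
      · exact hy
      · exact hcl2 hz
  rw [hS']
  exact hcl1.union isClosed_closure

open Classical in
/-- The glued map on `Spec R`. -/
noncomputable def descFun (hs : FS p q φB φA) (hp : Function.Surjective p) {T : Type u}
    (α : PrimeSpectrum B → T) (β : PrimeSpectrum A' → T) (z : PrimeSpectrum R) : T :=
  if h : z ∈ Set.range (comap φB) then α h.choose
  else β ((joint_surj_top hs hp z).resolve_left h).choose

theorem descFun_fst (hs : FS p q φB φA) (hp : Function.Surjective p) {T : Type u}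
    (α : PrimeSpectrum B → T) (β : PrimeSpectrum A' → T) (y : PrimeSpectrum B) :
    descFun hs hp α β (comap φB y) = α y := by
  unfold descFun
  have h : comap φB y ∈ Set.range (comap φB) := ⟨y, rfl⟩
  rw [dif_pos h]
  congr 1
  exact comap_injective_of_surjective φB (hs.surjective_fst hp) h.choose_spec

theorem descFun_snd (hs : FS p q φB φA) (hp : Function.Surjective p) {T : Type u}
    (α : PrimeSpectrum B → T) (β : PrimeSpectrum A' → T)
    (hαβ : ∀ ζ, α (comap q ζ) = β (comap p ζ)) (x : PrimeSpectrum A') :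
    descFun hs hp α β (comap φA x) = β x := by
  unfold descFun
  by_cases h : comap φA x ∈ Set.range (comap φB)
  · rw [dif_pos h]
    obtain ⟨ζ, h1, h2⟩ := exists_of_eq hs hp h.choose_spec
    rw [← h1, hαβ, h2]
  · rw [dif_neg h]
    congr 1
    have hc := ((joint_surj_top hs hp (comap φA x)).resolve_left h).choose_spec
    exact inj_outside hs hp hc (by rw [hc]; exact h)

theorem continuous_descFun (hs : FS p q φB φA) (hp : Function.Surjective p) {T : Type u}
    [TopologicalSpace T] (α : PrimeSpectrum B → T) (β : PrimeSpectrum A' → T)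
    (hα : Continuous α) (hβ : Continuous β)
    (hαβ : ∀ ζ, α (comap q ζ) = β (comap p ζ)) : Continuous (descFun hs hp α β) := by
  rw [continuous_iff_isClosed]
  intro C hC
  apply isClosed_of_preimages hs hp
  · have : comap φB ⁻¹' (descFun hs hp α β ⁻¹' C) = α ⁻¹' C := by
      ext y; simp only [Set.mem_preimage, descFun_fst]
    rw [this]; exact hC.preimage hα
  · have : comap φA ⁻¹' (descFun hs hp α β ⁻¹' C) = β ⁻¹' C := by
      ext x; simp only [Set.mem_preimage, descFun_snd hs hp α β hαβ]
    rw [this]; exact hC.preimage hβ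

/-- **Topological pushout of a Milnor square**: `Spec R = Spec B ⊔_{Spec A} Spec A'`. -/
theorem isPushout_top (hs : FS p q φB φA) (hp : Function.Surjective p) :
    IsPushout
      (TopCat.ofHom (ContinuousMap.mk (comap q) (continuous_comap q)) :
        TopCat.of (PrimeSpectrum A) ⟶ TopCat.of (PrimeSpectrum B))
      (TopCat.ofHom (ContinuousMap.mk (comap p) (continuous_comap p)) :
        TopCat.of (PrimeSpectrum A) ⟶ TopCat.of (PrimeSpectrum A'))
      (TopCat.ofHom (ContinuousMap.mk (comap φB) (continuous_comap φB)) :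
        TopCat.of (PrimeSpectrum B) ⟶ TopCat.of (PrimeSpectrum R))
      (TopCat.ofHom (ContinuousMap.mk (comap φA) (continuous_comap φA)) :
        TopCat.of (PrimeSpectrum A') ⟶ TopCat.of (PrimeSpectrum R)) := by
  have w : (TopCat.ofHom (ContinuousMap.mk (comap q) (continuous_comap q)) :
        TopCat.of (PrimeSpectrum A) ⟶ TopCat.of (PrimeSpectrum B)) ≫
      (TopCat.ofHom (ContinuousMap.mk (comap φB) (continuous_comap φB)) :
        TopCat.of (PrimeSpectrum B) ⟶ TopCat.of (PrimeSpectrum R)) =
      (TopCat.ofHom (ContinuousMap.mk (comap p) (continuous_comap p)) :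
        TopCat.of (PrimeSpectrum A) ⟶ TopCat.of (PrimeSpectrum A')) ≫
      (TopCat.ofHom (ContinuousMap.mk (comap φA) (continuous_comap φA)) :
        TopCat.of (PrimeSpectrum A') ⟶ TopCat.of (PrimeSpectrum R)) := by
    ext1 ζ
    exact comap_comm hs ζ
  have hcond : ∀ (s : PushoutCocone
      (TopCat.ofHom (ContinuousMap.mk (comap q) (continuous_comap q)) :
        TopCat.of (PrimeSpectrum A) ⟶ TopCat.of (PrimeSpectrum B))
      (TopCat.ofHom (ContinuousMap.mk (comap p) (continuous_comap p)) :
        TopCat.of (PrimeSpectrum A) ⟶ TopCat.of (PrimeSpectrum A'))) (ζ : PrimeSpectrum A),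
      s.inl (comap q ζ) = s.inr (comap p ζ) := by
    intro s ζ
    exact congr($(s.condition) ζ)
  refine ⟨⟨w⟩, ⟨PushoutCocone.IsColimit.mk _
    (fun s => TopCat.ofHom ⟨descFun hs hp s.inl s.inr,
      continuous_descFun hs hp _ _ s.inl.hom.continuous s.inr.hom.continuous (hcond s)⟩)
    (fun s => ?_) (fun s => ?_) (fun s m h1 h2 => ?_)⟩⟩
  · ext y
    exact descFun_fst hs hp _ _ y
  · ext x
    exact descFun_snd hs hp _ _ (hcond s) x
  · ext z
    rcases joint_surj_top hs hp z with ⟨y, rfl⟩ | ⟨x, rfl⟩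
    · have := congr($(h1) y)
      exact this.trans (descFun_fst hs hp _ _ y).symm
    · have := congr($(h2) x)
      exact this.trans (descFun_snd hs hp _ _ (hcond s) x).symm

end Groth.Agent.Lib.Helper22.SpPO
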