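import Mathlib
import Groth.Agent.Lib.Helper22SpecPushoutTop

universe u
open PrimeSpectrum

namespace Groth.Agent.Lib.Helper22.SpPO

section MapBij

variable {A A' B R : Type u} [CommRing A] [CommRing A'] [CommRing B] [CommRing R]
variable {p : A' →+* A} {q : B →+* A} {φB : R →+* B} {φA : R →+* A'}
variable {A₁ A₁' B₁ R₁ : Type u} [CommRing A₁] [CommRing A₁'] [CommRing B₁] [CommRing R₁]
variable {p₁ : A₁' →+* A₁} {q₁ : B₁ →+* A₁} {φB₁ : R₁ →+* B₁} {φA₁ : R₁ →+* A₁'}

/-- A map of fibre squares which is bijective on `A'`, `B` and injective on `A` is bijective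
on the fibre products. -/
theorem fs_map_bijective (hs : FS p q φB φA) (hs₁ : FS p₁ q₁ φB₁ φA₁)
    (ρ : R →+* R₁) (α' : A' →+* A₁') (β : B →+* B₁) (α : A →+* A₁)
    (hA : ∀ r, φA₁ (ρ r) = α' (φA r)) (hB : ∀ r, φB₁ (ρ r) = β (φB r))
    (hp : ∀ a, p₁ (α' a) = α (p a)) (hq : ∀ b, q₁ (β b) = α (q b))
    (hα' : Function.Bijective α') (hβ : Function.Bijective β) (hα : Function.Injective α) :
    Function.Bijective ρ := by
  constructor
  · rw [injective_iff_map_eq_zero]
    intro r hr
    apply hs.inj
    · apply hβ.1; rw [← hB, hr, map_zero, map_zero]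
    · apply hα'.1; rw [← hA, hr, map_zero, map_zero]
  · intro y
    obtain ⟨b, hb⟩ := hβ.2 (φB₁ y)
    obtain ⟨a, ha⟩ := hα'.2 (φA₁ y)
    have : q b = p a := by
      apply hα
      rw [← hq, ← hp, hb, ha, hs₁.comm]
    obtain ⟨r, hr1, hr2⟩ := hs.ex b a this
    refine ⟨r, hs₁.ext ?_ ?_⟩
    · rw [hB, hr1, hb]
    · rw [hA, hr2, ha]

/-- If `T` is simultaneously the localization of `S` at `s` and of `S'` at `f s`, compatibly,
then `S_s → S'_{f s}` is bijective. -/
theorem awayMap_bijective_of_isLocalization {S S' T : Type u} [CommRing S] [CommRing S']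
    [CommRing T] (f : S →+* S') (s : S) (gS : S →+* T) (gS' : S' →+* T)
    (h : ∀ x, gS' (f x) = gS x)
    (h1 : @IsLocalization.Away S _ s T _ gS.toAlgebra)
    (h2 : @IsLocalization.Away S' _ (f s) T _ gS'.toAlgebra) :
    Function.Bijective (Localization.awayMap f s) := by
  letI := gS.toAlgebra
  letI := gS'.toAlgebra
  let e1 := IsLocalization.algEquiv (Submonoid.powers s) (Localization.Away s) T
  let e2 := IsLocalization.algEquiv (Submonoid.powers (f s)) (Localization.Away (f s)) T
  have key : ∀ x, e2 (Localization.awayMap f s x) = e1 x := by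
    intro x
    have : (e2.toAlgHom.toRingHom.comp (Localization.awayMap f s)) =
        e1.toAlgHom.toRingHom := by
      apply IsLocalization.ringHom_ext (Submonoid.powers s)
      ext x
      simp only [RingHom.comp_apply, awayMap_algebraMap]
      show e2 (algebraMap S' _ (f x)) = e1 (algebraMap S _ x)
      rw [AlgEquiv.commutes, AlgEquiv.commutes]
      exact h x
    exact congr($this x)
  have : (Localization.awayMap f s : _ → _) = e2.symm ∘ e1 := by
    funext x
    simp only [Function.comp_apply]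
    rw [← key x, AlgEquiv.symm_apply_apply]
  rw [this]
  exact e2.symm.bijective.comp e1.bijective

end MapBij

section Sat

variable {A A' B R : Type u} [CommRing A] [CommRing A'] [CommRing B] [CommRing R]
variable {p : A' →+* A} {q : B →+* A} {φB : R →+* B} {φA : R →+* A'}

/-- The points of `Spec R` all of whose preimages lie in `U'` resp. `V'`. -/
def satSet (φB : R →+* B) (φA : R →+* A') (U' : Set (PrimeSpectrum A'))
    (V' : Set (PrimeSpectrum B)) : Set (PrimeSpectrum R) :=
  {w | (∀ x, comap φA x = w → x ∈ U') ∧ (∀ y, comap φB y = w → y ∈ V')}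

theorem preimage_satSet_snd (hs : FS p q φB φA) (hp : Function.Surjective p)
    {U' : Set (PrimeSpectrum A')} {V' : Set (PrimeSpectrum B)}
    (hUV : comap p ⁻¹' U' = comap q ⁻¹' V') :
    comap φA ⁻¹' satSet φB φA U' V' = U' := by
  ext x
  constructor
  · intro hx
    exact hx.1 x rfl
  · intro hx
    have key : ∀ y, comap φB y = comap φA x → y ∈ V' := by
      intro y hy
      obtain ⟨ζ, h1, h2⟩ := exists_of_eq hs hp hy
      have : ζ ∈ comap p ⁻¹' U' := by
        show comap p ζ ∈ U'
        rw [h2]; exact hx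
      rw [hUV] at this
      rw [← h1]; exact this
    refine ⟨?_, key⟩
    intro x' hx'
    by_cases hr : comap φA x ∈ Set.range (comap φB)
    · obtain ⟨y, hy⟩ := hr
      have hyV := key y hy
      obtain ⟨ζ', h1', h2'⟩ := exists_of_eq hs hp (hy.trans hx'.symm)
      have : ζ' ∈ comap q ⁻¹' V' := by
        show comap q ζ' ∈ V'
        rw [h1']; exact hyV
      rw [← hUV] at this
      rw [← h2']; exact this
    · have := inj_outside hs hp hx'.symm hr
      rw [← this]; exact hx

theorem preimage_satSet_fst (hs : FS p q φB φA) (hp : Function.Surjective p)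
    {U' : Set (PrimeSpectrum A')} {V' : Set (PrimeSpectrum B)}
    (hUV : comap p ⁻¹' U' = comap q ⁻¹' V') :
    comap φB ⁻¹' satSet φB φA U' V' = V' := by
  ext y
  constructor
  · intro hy
    exact hy.2 y rfl
  · intro hy
    refine ⟨?_, ?_⟩
    · intro x hx
      obtain ⟨ζ, h1, h2⟩ := exists_of_eq hs hp hx.symm
      have : ζ ∈ comap q ⁻¹' V' := by
        show comap q ζ ∈ V'
        rw [h1]; exact hy
      rw [← hUV] at this
      rw [← h2]; exact this
    · intro y' hy'
      have := comap_injective_of_surjective φB (hs.surjective_fst hp) hy'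
      rw [this]; exact hy

theorem isOpen_satSet (hs : FS p q φB φA) (hp : Function.Surjective p)
    {U' : Set (PrimeSpectrum A')} {V' : Set (PrimeSpectrum B)}
    (hU' : IsOpen U') (hV' : IsOpen V')
    (hUV : comap p ⁻¹' U' = comap q ⁻¹' V') :
    IsOpen (satSet φB φA U' V') := by
  rw [← isClosed_compl_iff]
  apply isClosed_of_preimages hs hp
  · rw [Set.preimage_compl, preimage_satSet_fst hs hp hUV]
    exact isClosed_compl_iff.mpr hV'
  · rw [Set.preimage_compl, preimage_satSet_snd hs hp hUV]
    exact isClosed_compl_iff.mpr hU'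

theorem exists_basic_satSet (hs : FS p q φB φA) (hp : Function.Surjective p)
    {U' : Set (PrimeSpectrum A')} {V' : Set (PrimeSpectrum B)}
    (hU' : IsOpen U') (hV' : IsOpen V')
    (hUV : comap p ⁻¹' U' = comap q ⁻¹' V') (w : PrimeSpectrum R)
    (hw : w ∈ satSet φB φA U' V') :
    ∃ r : R, r ∉ w.asIdeal ∧ (∀ x : PrimeSpectrum A', φA r ∉ x.asIdeal → x ∈ U') ∧
      (∀ y : PrimeSpectrum B, φB r ∉ y.asIdeal → y ∈ V') := by
  have ho := isOpen_satSet hs hp hU' hV' hUV
  obtain ⟨_, ⟨_, ⟨r, rfl⟩, rfl⟩, hwr, hr⟩ :=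
    (PrimeSpectrum.isBasis_basic_opens (R := R)).exists_subset_of_mem_open hw ho
  refine ⟨r, hwr, ?_, ?_⟩
  · intro x hx
    have : comap φA x ∈ satSet φB φA U' V' := hr hx
    exact this.1 x rfl
  · intro y hy
    have : comap φB y ∈ satSet φB φA U' V' := hr hy
    exact this.2 y rfl

theorem mem_satSet_of_snd (hs : FS p q φB φA) (hp : Function.Surjective p)
    {U' : Set (PrimeSpectrum A')} {V' : Set (PrimeSpectrum B)}
    (hUV : comap p ⁻¹' U' = comap q ⁻¹' V') {x : PrimeSpectrum A'} (hx : x ∈ U') :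
    comap φA x ∈ satSet φB φA U' V' := by
  have : x ∈ comap φA ⁻¹' satSet φB φA U' V' := by
    rw [preimage_satSet_snd hs hp hUV]; exact hx
  exact this

theorem mem_satSet_of_fst (hs : FS p q φB φA) (hp : Function.Surjective p)
    {U' : Set (PrimeSpectrum A')} {V' : Set (PrimeSpectrum B)}
    (hUV : comap p ⁻¹' U' = comap q ⁻¹' V') {y : PrimeSpectrum B} (hy : y ∈ V') :
    comap φB y ∈ satSet φB φA U' V' := by
  have : y ∈ comap φB ⁻¹' satSet φB φA U' V' := by
    rw [preimage_satSet_fst hs hp hUV]; exact hy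
  exact this

end Sat

end Groth.Agent.Lib.Helper22.SpPO
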