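import Mathlib
import Groth.Agent.Lib.Helper22FerrandAlg

universe u
open AlgebraicGeometry CategoryTheory Limits TopologicalSpace Opposite

namespace Groth.Agent.Lib.Helper22.Ferrand

open Groth.Agent.Lib.Helper22.SpPO

/-- Restriction of sections as a plain ring hom. -/
noncomputable def res {X : Scheme.{u}} {U V : X.Opens} (h : U ≤ V) : Γ(X, V) →+* Γ(X, U) :=
  (X.presheaf.map (homOfLE h).op).hom

theorem res_res {X : Scheme.{u}} {U V W : X.Opens} (h1 : U ≤ V) (h2 : V ≤ W) (x : Γ(X, W)) :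
    res h1 (res h2 x) = res (h1.trans h2) x := by
  unfold res
  rw [← CommRingCat.comp_apply, ← Functor.map_comp]
  rfl

theorem res_self {X : Scheme.{u}} {U : X.Opens} (h : U ≤ U) (x : Γ(X, U)) : res h x = x := by
  unfold res
  have : (homOfLE h) = 𝟙 U := Subsingleton.elim _ _
  rw [this]
  simp

variable {X Y Z : Scheme.{u}} (i : Z ⟶ X) (j : Z ⟶ Y)

/-- An adapted pair: affine opens `U ⊆ X`, `V ⊆ Y` with the same preimage in `Z`. -/
structure AdPair where
  U : X.Opens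
  V : Y.Opens
  hU : IsAffineOpen U
  hV : IsAffineOpen V
  eq : i ⁻¹ᵁ U = j ⁻¹ᵁ V

namespace AdPair

variable {i j}

instance : Preorder (AdPair i j) where
  le k l := k.U ≤ l.U ∧ k.V ≤ l.V
  le_refl k := ⟨le_rfl, le_rfl⟩
  le_trans a b c h1 h2 := ⟨h1.1.trans h2.1, h1.2.trans h2.2⟩

/-- The common preimage in `Z`. -/
def W (k : AdPair i j) : Z.Opens := i ⁻¹ᵁ k.U

theorem W_le_i (k : AdPair i j) : k.W ≤ i ⁻¹ᵁ k.U := le_rfl
theorem W_le_j (k : AdPair i j) : k.W ≤ j ⁻¹ᵁ k.V := k.eq.le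

theorem mem_W_iff_i (k : AdPair i j) (z : Z) : z ∈ k.W ↔ i.base z ∈ k.U := Iff.rfl
theorem mem_W_iff_j (k : AdPair i j) (z : Z) : z ∈ k.W ↔ j.base z ∈ k.V := by
  show z ∈ i ⁻¹ᵁ k.U ↔ _
  rw [k.eq]; rfl

theorem W_mono {k l : AdPair i j} (h : k ≤ l) : k.W ≤ l.W := fun z hz => h.1 hz

theorem hW [IsClosedImmersion i] (k : AdPair i j) : IsAffineOpen k.W := k.hU.preimage i

/-- The rings. -/
abbrev A' (k : AdPair i j) : Type u := Γ(X, k.U)
abbrev B (k : AdPair i j) : Type u := Γ(Y, k.V)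
abbrev A (k : AdPair i j) : Type u := Γ(Z, k.W)

noncomputable def p (k : AdPair i j) : k.A' →+* k.A := (i.appLE k.U k.W k.W_le_i).hom
noncomputable def q (k : AdPair i j) : k.B →+* k.A := (j.appLE k.V k.W k.W_le_j).hom

theorem p_surjective [IsClosedImmersion i] (k : AdPair i j) : Function.Surjective k.p := by
  have := i.app_surjective k.U k.hU
  rw [Scheme.Hom.app_eq_appLE] at this
  exact this

theorem p_res {k l : AdPair i j} (h : k ≤ l) (a : l.A') :
    k.p (res h.1 a) = res (W_mono h) (l.p a) := by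
  unfold p res
  rw [← CommRingCat.comp_apply, ← CommRingCat.comp_apply, Scheme.Hom.map_appLE,
    Scheme.Hom.appLE_map]

theorem q_res {k l : AdPair i j} (h : k ≤ l) (b : l.B) :
    k.q (res h.2 b) = res (W_mono h) (l.q b) := by
  unfold q res
  rw [← CommRingCat.comp_apply, ← CommRingCat.comp_apply, Scheme.Hom.map_appLE,
    Scheme.Hom.appLE_map]

/-- The fibre product ring. -/
def R (k : AdPair i j) : Type u :=
  RingHom.eqLocus (k.q.comp (RingHom.fst k.B k.A')) (k.p.comp (RingHom.snd k.B k.A'))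

noncomputable instance (k : AdPair i j) : CommRing k.R :=
  inferInstanceAs (CommRing (RingHom.eqLocus (k.q.comp (RingHom.fst k.B k.A'))
    (k.p.comp (RingHom.snd k.B k.A'))))

noncomputable def φB (k : AdPair i j) : k.R →+* k.B :=
  (RingHom.fst k.B k.A').comp (Subring.subtype _)
noncomputable def φA (k : AdPair i j) : k.R →+* k.A' :=
  (RingHom.snd k.B k.A').comp (Subring.subtype _)

theorem fs (k : AdPair i j) : FS k.p k.q k.φB k.φA where
  comm r := r.2
  inj r h1 h2 := Subtype.ext (Prod.ext h1 h2)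
  ex b a h := ⟨⟨(b, a), h⟩, rfl, rfl⟩

theorem R_ext {k : AdPair i j} {r r' : k.R} (h1 : k.φB r = k.φB r') (h2 : k.φA r = k.φA r') :
    r = r' := k.fs.ext h1 h2

/-- The restriction map on fibre products. -/
noncomputable def ρ {k l : AdPair i j} (h : k ≤ l) : l.R →+* k.R :=
  (((res h.2).comp (RingHom.fst l.B l.A')).prod ((res h.1).comp (RingHom.snd l.B l.A'))).comp
    (Subring.subtype _) |>.codRestrict _ (fun r => by
      show k.q (res h.2 r.1.1) = k.p (res h.1 r.1.2)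
      rw [q_res h, p_res h]
      exact congrArg _ r.2)

@[simp] theorem φB_ρ {k l : AdPair i j} (h : k ≤ l) (r : l.R) :
    k.φB (ρ h r) = res h.2 (l.φB r) := rfl
@[simp] theorem φA_ρ {k l : AdPair i j} (h : k ≤ l) (r : l.R) :
    k.φA (ρ h r) = res h.1 (l.φA r) := rfl

theorem ρ_self {k : AdPair i j} (h : k ≤ k) : ρ h = RingHom.id _ := by
  ext r
  apply R_ext
  · rw [φB_ρ, res_self]; rfl
  · rw [φA_ρ, res_self]; rfl

theorem ρ_comp {k l m : AdPair i j} (h1 : k ≤ l) (h2 : l ≤ m) :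
    (ρ h1).comp (ρ h2) = ρ (h1.trans h2) := by
  ext r
  apply R_ext
  · rw [RingHom.comp_apply, φB_ρ, φB_ρ, φB_ρ, res_res]
  · rw [RingHom.comp_apply, φA_ρ, φA_ρ, φA_ρ, res_res]

end AdPair

/-- The diagram of affine charts. -/
noncomputable def F (i : Z ⟶ X) (j : Z ⟶ Y) : AdPair i j ⥤ Scheme.{u} where
  obj k := Spec (CommRingCat.of k.R)
  map {k l} f := sp (AdPair.ρ (leOfHom f))
  map_id k := by
    show sp _ = _
    rw [AdPair.ρ_self]
    simp [sp]
  map_comp {k l m} f g := by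
    show sp _ = sp _ ≫ sp _
    rw [sp_comp, AdPair.ρ_comp]

end Groth.Agent.Lib.Helper22.Ferrand
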