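import Mathlib
import Groth.Agent.Lib.Helper22FerrandData

universe u
open AlgebraicGeometry CategoryTheory Limits TopologicalSpace Opposite PrimeSpectrum

namespace Groth.Agent.Lib.Helper22.Ferrand

open Groth.Agent.Lib.Helper22.SpPO

variable {X Y Z : Scheme.{u}} {i : Z ⟶ X} {j : Z ⟶ Y} [IsClosedImmersion i]

namespace AdPair

/-- Chart maps. -/
noncomputable def cX (k : AdPair i j) : Spec (CommRingCat.of k.A') ⟶ X := k.hU.fromSpec
noncomputable def cY (k : AdPair i j) : Spec (CommRingCat.of k.B) ⟶ Y := k.hV.fromSpec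
noncomputable def cZ (k : AdPair i j) : Spec (CommRingCat.of k.A) ⟶ Z := k.hW.fromSpec

instance (k : AdPair i j) : IsOpenImmersion k.cX := by unfold cX; infer_instance
instance (k : AdPair i j) : IsOpenImmersion k.cY := by unfold cY; infer_instance
instance (k : AdPair i j) : IsOpenImmersion k.cZ := by unfold cZ; infer_instance

theorem range_cX (k : AdPair i j) : Set.range k.cX.base = (k.U : Set X) := k.hU.range_fromSpec
theorem range_cY (k : AdPair i j) : Set.range k.cY.base = (k.V : Set Y) := k.hV.range_fromSpec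
theorem range_cZ (k : AdPair i j) : Set.range k.cZ.base = (k.W : Set Z) := k.hW.range_fromSpec

theorem cZ_i (k : AdPair i j) : k.cZ ≫ i = sp k.p ≫ k.cX :=
  (IsAffineOpen.SpecMap_appLE_fromSpec i k.hU k.hW k.W_le_i).symm

theorem cZ_j (k : AdPair i j) : k.cZ ≫ j = sp k.q ≫ k.cY :=
  (IsAffineOpen.SpecMap_appLE_fromSpec j k.hV k.hW k.W_le_j).symm

theorem res_cX {k l : AdPair i j} (h : k ≤ l) : sp (res h.1) ≫ l.cX = k.cX :=
  l.hU.map_fromSpec k.hU (homOfLE h.1).op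

theorem res_cY {k l : AdPair i j} (h : k ≤ l) : sp (res h.2) ≫ l.cY = k.cY :=
  l.hV.map_fromSpec k.hV (homOfLE h.2).op

theorem res_cZ {k l : AdPair i j} (h : k ≤ l) : sp (res (W_mono h)) ≫ l.cZ = k.cZ :=
  l.hW.map_fromSpec k.hW (homOfLE (W_mono h)).op

theorem cX_mem (k : AdPair i j) (x : PrimeSpectrum k.A') : k.cX.base x ∈ k.U := by
  have : k.cX.base x ∈ Set.range k.cX.base := ⟨x, rfl⟩
  rw [range_cX] at this; exact this

theorem cY_mem (k : AdPair i j) (y : PrimeSpectrum k.B) : k.cY.base y ∈ k.V := by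
  have : k.cY.base y ∈ Set.range k.cY.base := ⟨y, rfl⟩
  rw [range_cY] at this; exact this

/-- Compatibility of the saturation condition. -/
theorem sat_compat (l : AdPair i j) (U₀ : X.Opens) (V₀ : Y.Opens) (h₀ : i ⁻¹ᵁ U₀ = j ⁻¹ᵁ V₀) :
    comap l.p ⁻¹' (l.cX.base ⁻¹' (U₀ : Set X)) = comap l.q ⁻¹' (l.cY.base ⁻¹' (V₀ : Set Y)) := by
  ext ζ
  have h1 : l.cX.base (comap l.p ζ) = i.base (l.cZ.base ζ) := by
    have := congr($(l.cZ_i).base ζ)
    exact this.symm
  have h2 : l.cY.base (comap l.q ζ) = j.base (l.cZ.base ζ) := by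
    have := congr($(l.cZ_j).base ζ)
    exact this.symm
  show l.cX.base (comap l.p ζ) ∈ U₀ ↔ l.cY.base (comap l.q ζ) ∈ V₀
  rw [h1, h2]
  have : l.cZ.base ζ ∈ i ⁻¹ᵁ U₀ ↔ l.cZ.base ζ ∈ j ⁻¹ᵁ V₀ := by rw [h₀]
  exact this

theorem exists_sub (l : AdPair i j) (U₀ : X.Opens) (V₀ : Y.Opens) (h₀ : i ⁻¹ᵁ U₀ = j ⁻¹ᵁ V₀)
    (w : PrimeSpectrum l.R)
    (hw : w ∈ satSet l.φB l.φA (l.cX.base ⁻¹' (U₀ : Set X)) (l.cY.base ⁻¹' (V₀ : Set Y))) :
    ∃ r : l.R, r ∉ w.asIdeal ∧ X.basicOpen (l.φA r) ≤ U₀ ∧ Y.basicOpen (l.φB r) ≤ V₀ := by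
  obtain ⟨r, hr, h1, h2⟩ := exists_basic_satSet l.fs l.p_surjective
    (U₀.2.preimage l.cX.continuous) (V₀.2.preimage l.cY.continuous)
    (l.sat_compat U₀ V₀ h₀) w hw
  refine ⟨r, hr, ?_, ?_⟩
  · intro x₀ hx₀
    have hx₀U : x₀ ∈ (l.U : Set X) := X.basicOpen_le _ hx₀
    rw [← l.range_cX] at hx₀U
    obtain ⟨x, rfl⟩ := hx₀U
    apply h1 x
    have : x ∈ l.hU.fromSpec ⁻¹ᵁ X.basicOpen (l.φA r) := hx₀
    rw [l.hU.fromSpec_preimage_basicOpen] at this
    exact this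
  · intro y₀ hy₀
    have hy₀V : y₀ ∈ (l.V : Set Y) := Y.basicOpen_le _ hy₀
    rw [← l.range_cY] at hy₀V
    obtain ⟨y, rfl⟩ := hy₀V
    apply h2 y
    have : y ∈ l.hV.fromSpec ⁻¹ᵁ Y.basicOpen (l.φB r) := hy₀
    rw [l.hV.fromSpec_preimage_basicOpen] at this
    exact this

omit [IsClosedImmersion i] in
theorem preimage_basicOpen_A' (l : AdPair i j) (f : l.A') :
    i ⁻¹ᵁ X.basicOpen f = Z.basicOpen (l.p f) := by
  unfold p
  rw [Scheme.basicOpen_appLE]
  exact (inf_eq_right.mpr (fun z hz => X.basicOpen_le _ hz)).symm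

omit [IsClosedImmersion i] in
theorem preimage_basicOpen_B (l : AdPair i j) (g : l.B) :
    j ⁻¹ᵁ Y.basicOpen g = Z.basicOpen (l.q g) := by
  unfold q
  rw [Scheme.basicOpen_appLE]
  refine (inf_eq_right.mpr (fun z hz => ?_)).symm
  rw [l.mem_W_iff_j]
  exact Y.basicOpen_le _ hz

/-- The basic sub-pair. -/
noncomputable def sub (l : AdPair i j) (r : l.R) : AdPair i j where
  U := X.basicOpen (l.φA r)
  V := Y.basicOpen (l.φB r)
  hU := l.hU.basicOpen _
  hV := l.hV.basicOpen _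
  eq := by
    rw [l.preimage_basicOpen_A', l.preimage_basicOpen_B, l.fs.comm]

omit [IsClosedImmersion i] in
theorem sub_le (l : AdPair i j) (r : l.R) : l.sub r ≤ l :=
  ⟨X.basicOpen_le _, Y.basicOpen_le _⟩

omit [IsClosedImmersion i] in
theorem W_eq_basicOpen {n l : AdPair i j} (r : l.R) (eU : n.U = X.basicOpen (l.φA r)) :
    n.W = Z.basicOpen (l.p (l.φA r)) := by
  rw [← l.preimage_basicOpen_A', ← eU]
  rfl

theorem exists_loc_iso {n l : AdPair i j} (h : n ≤ l) (r : l.R)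
    (eU : n.U = X.basicOpen (l.φA r)) (eV : n.V = Y.basicOpen (l.φB r)) :
    ∃ ρ' : Localization.Away r →+* n.R, Function.Bijective ρ' ∧
      ∀ x, ρ' (algebraMap l.R (Localization.Away r) x) = ρ h x := by
  letI algB : Algebra l.B n.B := (res h.2).toAlgebra
  letI algA' : Algebra l.A' n.A' := (res h.1).toAlgebra
  letI algA : Algebra l.A n.A := (res (W_mono h)).toAlgebra
  haveI locB : IsLocalization.Away (l.φB r) n.B :=
    l.hV.isLocalization_of_eq_basicOpen _ (homOfLE h.2) eV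
  haveI locA' : IsLocalization.Away (l.φA r) n.A' :=
    l.hU.isLocalization_of_eq_basicOpen _ (homOfLE h.1) eU
  haveI locA : IsLocalization.Away (l.q (l.φB r)) n.A := by
    have : IsLocalization.Away (l.p (l.φA r)) n.A :=
      l.hW.isLocalization_of_eq_basicOpen _ (homOfLE (W_mono h)) (W_eq_basicOpen r eU)
    rw [l.fs.comm]
    exact this
  have uB : IsUnit (((res h.2).comp l.φB) r) :=
    IsLocalization.Away.algebraMap_isUnit (S := n.B) (l.φB r)
  have uA' : IsUnit (((res h.1).comp l.φA) r) :=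
    IsLocalization.Away.algebraMap_isUnit (S := n.A') (l.φA r)
  let β : Localization.Away r →+* n.B := IsLocalization.Away.lift r uB
  let α : Localization.Away r →+* n.A' := IsLocalization.Away.lift r uA'
  have hβ : ∀ x, β (algebraMap _ _ x) = res h.2 (l.φB x) :=
    fun x => IsLocalization.Away.lift_eq r uB x
  have hα : ∀ x, α (algebraMap _ _ x) = res h.1 (l.φA x) :=
    fun x => IsLocalization.Away.lift_eq r uA' x
  have hloc : FS n.p n.q β α :=
    l.fs.localize r β α n.q n.p hβ hα (fun x => q_res h x) (fun x => p_res h x)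
  obtain ⟨ψ, hψB, hψA⟩ := n.fs.exists_lift α β (fun c => hloc.comm c)
  refine ⟨ψ, ?_, ?_⟩
  · exact fs_map_bijective hloc n.fs ψ (RingHom.id _) (RingHom.id _) (RingHom.id _)
      (fun c => congr($hψA c)) (fun c => congr($hψB c)) (fun _ => rfl) (fun _ => rfl)
      Function.bijective_id Function.bijective_id Function.injective_id
  · intro x
    apply R_ext
    · have : n.φB (ψ (algebraMap _ _ x)) = β (algebraMap _ _ x) := congr($hψB _)
      rw [this, hβ]; rfl
    · have : n.φA (ψ (algebraMap _ _ x)) = α (algebraMap _ _ x) := congr($hψA _)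
      rw [this, hα]; rfl

/-- `Spec R_n → Spec R_l` is an open immersion onto `D(r)` when `n` is the basic sub-pair. -/
theorem isOpenImmersion_of_basic {n l : AdPair i j} (h : n ≤ l) (r : l.R)
    (eU : n.U = X.basicOpen (l.φA r)) (eV : n.V = Y.basicOpen (l.φB r)) :
    IsOpenImmersion (sp (ρ h)) ∧
      Set.range (sp (ρ h)).base = {z : PrimeSpectrum l.R | r ∉ z.asIdeal} := by
  obtain ⟨ρ', hbij, hρ'⟩ := exists_loc_iso h r eU eV
  have hiso : IsIso (CommRingCat.ofHom ρ') := (ConcreteCategory.isIso_iff_bijective _).mpr hbij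
  have hiso' : IsIso (sp ρ') := by unfold sp; infer_instance
  have hfac : sp (ρ h) = sp ρ' ≫ lc r := by
    rw [sp_comp]
    congr 1
    ext x
    exact (hρ' x).symm
  rw [hfac]
  refine ⟨inferInstance, ?_⟩
  rw [Scheme.Hom.comp_base, TopCat.coe_comp, Set.range_comp,
    Set.range_eq_univ.mpr (sp ρ').surjective, Set.image_univ, range_lc]

omit [IsClosedImmersion i] in
theorem comap_ρ_φA {k l : AdPair i j} (h : k ≤ l) (x : PrimeSpectrum k.A') :
    comap (ρ h) (comap k.φA x) = comap l.φA (comap (res h.1) x) := by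
  have : k.φA.comp (ρ h) = (res h.1).comp l.φA := RingHom.ext fun r => rfl
  rw [← comap_comp_apply, this, comap_comp_apply]

omit [IsClosedImmersion i] in
theorem comap_ρ_φB {k l : AdPair i j} (h : k ≤ l) (y : PrimeSpectrum k.B) :
    comap (ρ h) (comap k.φB y) = comap l.φB (comap (res h.2) y) := by
  have : k.φB.comp (ρ h) = (res h.2).comp l.φB := RingHom.ext fun r => rfl
  rw [← comap_comp_apply, this, comap_comp_apply]

omit [IsClosedImmersion i] in
theorem comap_ρ_ρ {k l m : AdPair i j} (h1 : k ≤ l) (h2 : l ≤ m) (z : PrimeSpectrum k.R) :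
    comap (ρ h2) (comap (ρ h1) z) = comap (ρ (h1.trans h2)) z := by
  rw [← comap_comp_apply, ρ_comp]

theorem cX_res_apply {k l : AdPair i j} (h : k ≤ l) (x : PrimeSpectrum k.A') :
    l.cX.base (comap (res h.1) x) = k.cX.base x :=
  congr($(res_cX h).base x)

theorem cY_res_apply {k l : AdPair i j} (h : k ≤ l) (y : PrimeSpectrum k.B) :
    l.cY.base (comap (res h.2) y) = k.cY.base y :=
  congr($(res_cY h).base y)

theorem range_ρ_subset {k l : AdPair i j} (h : k ≤ l) (z : PrimeSpectrum k.R) :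
    comap (ρ h) z ∈ satSet l.φB l.φA (l.cX.base ⁻¹' (k.U : Set X))
      (l.cY.base ⁻¹' (k.V : Set Y)) := by
  rcases joint_surj_top k.fs k.p_surjective z with ⟨y, rfl⟩ | ⟨x, rfl⟩
  · rw [comap_ρ_φB h y]
    apply mem_satSet_of_fst l.fs l.p_surjective (l.sat_compat k.U k.V k.eq)
    show l.cY.base (comap (res h.2) y) ∈ k.V
    rw [cY_res_apply h]; exact k.cY_mem y
  · rw [comap_ρ_φA h x]
    apply mem_satSet_of_snd l.fs l.p_surjective (l.sat_compat k.U k.V k.eq)
    show l.cX.base (comap (res h.1) x) ∈ k.U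
    rw [cX_res_apply h]; exact k.cX_mem x

theorem local_structure {k l : AdPair i j} (h : k ≤ l) (z : PrimeSpectrum k.R) :
    ∃ (n : AdPair i j) (hnk : n ≤ k), IsOpenImmersion (sp (ρ hnk)) ∧
      z ∈ Set.range (sp (ρ hnk)).base ∧ IsOpenImmersion (sp (ρ (hnk.trans h))) ∧
      (∀ z', comap (ρ h) z' = comap (ρ h) z → z' ∈ Set.range (sp (ρ hnk)).base) := by
  obtain ⟨r, hr, hrU, hrV⟩ := l.exists_sub k.U k.V k.eq (comap (ρ h) z) (range_ρ_subset h z)
  have hnk : l.sub r ≤ k := ⟨hrU, hrV⟩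
  have eU : (l.sub r).U = X.basicOpen (k.φA (ρ h r)) := by
    show X.basicOpen (l.φA r) = X.basicOpen (res h.1 (l.φA r))
    unfold res
    rw [Scheme.basicOpen_res]
    exact (inf_eq_right.mpr hrU).symm
  have eV : (l.sub r).V = Y.basicOpen (k.φB (ρ h r)) := by
    show Y.basicOpen (l.φB r) = Y.basicOpen (res h.2 (l.φB r))
    unfold res
    rw [Scheme.basicOpen_res]
    exact (inf_eq_right.mpr hrV).symm
  obtain ⟨h1, h2⟩ := isOpenImmersion_of_basic hnk (ρ h r) eU eV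
  obtain ⟨h3, -⟩ := isOpenImmersion_of_basic (l.sub_le r) r rfl rfl
  refine ⟨l.sub r, hnk, h1, ?_, h3, ?_⟩
  · rw [h2]; exact hr
  · intro z' hz'
    rw [h2]
    have : r ∉ (comap (ρ h) z').asIdeal := by rw [hz']; exact hr
    exact this

theorem injective_comap_ρ {k l : AdPair i j} (h : k ≤ l) :
    Function.Injective (comap (ρ h)) := by
  intro z z' hzz'
  obtain ⟨n, hnk, h1, ⟨zh, hzh⟩, h3, h4⟩ := local_structure h z
  obtain ⟨zh', hzh'⟩ := h4 z' hzz'.symm
  have e1 : (sp (ρ (hnk.trans h))).base zh = comap (ρ h) z := by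
    rw [← hzh]; exact (comap_ρ_ρ hnk h zh).symm
  have e2 : (sp (ρ (hnk.trans h))).base zh' = comap (ρ h) z' := by
    rw [← hzh']; exact (comap_ρ_ρ hnk h zh').symm
  have := (sp (ρ (hnk.trans h))).isOpenEmbedding.injective (e1.trans (hzz'.trans e2.symm))
  rw [← hzh, ← hzh', this]

theorem isOpenImmersion_ρ {k l : AdPair i j} (h : k ≤ l) : IsOpenImmersion (sp (ρ h)) := by
  apply IsOpenImmersion.of_forall_source_exists
  · exact injective_comap_ρ h
  · intro z
    obtain ⟨n, hnk, h1, hz, h3, -⟩ := local_structure h z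
    refine ⟨_, sp (ρ hnk), h1, hz, ?_⟩
    rw [sp_comp, ρ_comp]; exact h3

end AdPair

instance (i : Z ⟶ X) (j : Z ⟶ Y) [IsClosedImmersion i] {k l : AdPair i j} (f : k ⟶ l) :
    IsOpenImmersion ((F i j).map f) := AdPair.isOpenImmersion_ρ (leOfHom f)

theorem F_map_base (i : Z ⟶ X) (j : Z ⟶ Y) {k l : AdPair i j} (f : k ⟶ l)
    (z : PrimeSpectrum k.R) : ((F i j).map f).base z = comap (AdPair.ρ (leOfHom f)) z := rfl

namespace AdPair

omit [IsClosedImmersion i] in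
theorem preimage_inf_eq (k l : AdPair i j) : i ⁻¹ᵁ (k.U ⊓ l.U) = j ⁻¹ᵁ (k.V ⊓ l.V) := by
  ext z
  show (i.base z ∈ k.U ∧ i.base z ∈ l.U) ↔ (j.base z ∈ k.V ∧ j.base z ∈ l.V)
  rw [← k.mem_W_iff_i, ← l.mem_W_iff_i, ← k.mem_W_iff_j, ← l.mem_W_iff_j]

theorem locally_directed {k l m : AdPair i j} (hk : k ≤ m) (hl : l ≤ m) (zk : PrimeSpectrum k.R)
    (zl : PrimeSpectrum l.R) (hz : comap (ρ hk) zk = comap (ρ hl) zl) :
    ∃ (n : AdPair i j) (hnk : n ≤ k) (hnl : n ≤ l) (z : PrimeSpectrum n.R),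
      comap (ρ hnk) z = zk ∧ comap (ρ hnl) z = zl := by
  have hw1 := range_ρ_subset hk zk
  have hw2 := range_ρ_subset hl zl
  rw [hz] at hw1
  have hw : comap (ρ hl) zl ∈ satSet m.φB m.φA (m.cX.base ⁻¹' ((k.U ⊓ l.U : X.Opens) : Set X))
      (m.cY.base ⁻¹' ((k.V ⊓ l.V : Y.Opens) : Set Y)) :=
    ⟨fun x hx => ⟨hw1.1 x hx, hw2.1 x hx⟩, fun y hy => ⟨hw1.2 y hy, hw2.2 y hy⟩⟩
  obtain ⟨r, hr, hrU, hrV⟩ := m.exists_sub (k.U ⊓ l.U) (k.V ⊓ l.V) (preimage_inf_eq k l) _ hw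
  have hnk : m.sub r ≤ k := ⟨hrU.trans inf_le_left, hrV.trans inf_le_left⟩
  have hnl : m.sub r ≤ l := ⟨hrU.trans inf_le_right, hrV.trans inf_le_right⟩
  obtain ⟨-, h2⟩ := isOpenImmersion_of_basic (m.sub_le r) r rfl rfl
  have : comap (ρ hl) zl ∈ Set.range (sp (ρ (m.sub_le r))).base := by
    rw [h2]; exact hr
  obtain ⟨z, hz'⟩ : ∃ z : PrimeSpectrum (m.sub r).R,
      comap (ρ (m.sub_le r)) z = comap (ρ hl) zl := this
  refine ⟨m.sub r, hnk, hnl, z, ?_, ?_⟩
  · apply injective_comap_ρ hk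
    rw [comap_ρ_ρ, hz]; exact hz'
  · apply injective_comap_ρ hl
    rw [comap_ρ_ρ]; exact hz'

end AdPair

instance (i : Z ⟶ X) (j : Z ⟶ Y) [IsClosedImmersion i] :
    (F i j ⋙ Scheme.forget).IsLocallyDirected where
  cond {k l m} fk fl zk zl h := by
    obtain ⟨n, hnk, hnl, z, h1, h2⟩ := AdPair.locally_directed (leOfHom fk) (leOfHom fl) zk zl h
    exact ⟨n, homOfLE hnk, homOfLE hnl, z, h1, h2⟩

end Groth.Agent.Lib.Helper22.Ferrand
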