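import Mathlib
import Groth.Agent.Lib.Helper22SpecPushout

universe u
open AlgebraicGeometry CategoryTheory Limits

namespace Groth.Agent.Lib.Helper22.SpPO

/-- Restriction of a "good" morphism along `k` (general version). -/
theorem good_restrict' {X P V' V T : Scheme.{u}} (g : X ⟶ P) (a : X ⟶ T)
    (e : V ⟶ P) (u : V ⟶ T)
    (hu : pullback.snd g e ≫ u = pullback.fst g e ≫ a)
    (k : V' ⟶ V) (e' : V' ⟶ P) (he : e' = k ≫ e) :
    pullback.snd g e' ≫ k ≫ u = pullback.fst g e' ≫ a := by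
  subst he
  have hcond : pullback.fst g (k ≫ e) ≫ g = (pullback.snd g (k ≫ e) ≫ k) ≫ e := by
    rw [Category.assoc]; exact pullback.condition
  have e1 : pullback.lift _ _ hcond ≫ pullback.snd g e = pullback.snd g (k ≫ e) ≫ k :=
    pullback.lift_snd _ _ _
  have e2 : pullback.lift _ _ hcond ≫ pullback.fst g e = pullback.fst g (k ≫ e) :=
    pullback.lift_fst _ _ _
  rw [← Category.assoc, ← e1, Category.assoc, hu, ← Category.assoc, e2]

section Chart

variable {A A' B R : Type u} [CommRing A] [CommRing A'] [CommRing B] [CommRing R]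
variable {p : A' →+* A} {q : B →+* A} {φB : R →+* B} {φA : R →+* A'}

theorem hom_ext_chart (hs : FS p q φB φA) (hp : Function.Surjective p)
    {X Y P V T : Scheme.{u}} (g : X ⟶ P) (h : Y ⟶ P)
    (cP : Spec (CommRingCat.of R) ⟶ P) (cX : Spec (CommRingCat.of A') ⟶ X)
    (cY : Spec (CommRingCat.of B) ⟶ Y)
    (hX : cX ≫ g = sp φA ≫ cP) (hY : cY ≫ h = sp φB ≫ cP)
    (e : V ⟶ Spec (CommRingCat.of R)) [IsOpenImmersion e] (e' : V ⟶ P) (he : e' = e ≫ cP)
    (c c' : V ⟶ T)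
    (H1 : pullback.snd g e' ≫ c = pullback.snd g e' ≫ c')
    (H2 : pullback.snd h e' ≫ c = pullback.snd h e' ≫ c') : c = c' := by
  subst he
  apply hom_ext_of_isOpenImmersion hs hp e
  · have hcond : (pullback.fst (sp φA) e ≫ cX) ≫ g = pullback.snd (sp φA) e ≫ e ≫ cP := by
      rw [Category.assoc, hX, ← Category.assoc, pullback.condition, Category.assoc]
    have e1 : pullback.lift _ _ hcond ≫ pullback.snd g (e ≫ cP) = pullback.snd (sp φA) e :=
      pullback.lift_snd _ _ _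
    rw [← e1, Category.assoc, H1, Category.assoc]
  · have hcond : (pullback.fst (sp φB) e ≫ cY) ≫ h = pullback.snd (sp φB) e ≫ e ≫ cP := by
      rw [Category.assoc, hY, ← Category.assoc, pullback.condition, Category.assoc]
    have e1 : pullback.lift _ _ hcond ≫ pullback.snd h (e ≫ cP) = pullback.snd (sp φB) e :=
      pullback.lift_snd _ _ _
    rw [← e1, Category.assoc, H2, Category.assoc]

theorem exists_desc_chart (hs : FS p q φB φA) (hp : Function.Surjective p)
    {Z X Y P T : Scheme.{u}} (i : Z ⟶ X) (j : Z ⟶ Y) (g : X ⟶ P) (h : Y ⟶ P)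
    (cP : Spec (CommRingCat.of R) ⟶ P) (cX : Spec (CommRingCat.of A') ⟶ X)
    (cY : Spec (CommRingCat.of B) ⟶ Y) (cZ : Spec (CommRingCat.of A) ⟶ Z)
    (hZX : cZ ≫ i = sp p ≫ cX) (hZY : cZ ≫ j = sp q ≫ cY)
    (pbX : IsPullback cX (sp φA) g cP) (pbY : IsPullback cY (sp φB) h cP)
    (a : X ⟶ T) (b : Y ⟶ T) (hab : i ≫ a = j ≫ b) :
    ∃ u : Spec (CommRingCat.of R) ⟶ T,
      pullback.snd g cP ≫ u = pullback.fst g cP ≫ a ∧
      pullback.snd h cP ≫ u = pullback.fst h cP ≫ b := by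
  have hcompat : sp p ≫ cX ≫ a = sp q ≫ cY ≫ b := by
    rw [← Category.assoc, ← hZX, ← Category.assoc, ← hZY, Category.assoc, Category.assoc, hab]
  obtain ⟨u, hu1, hu2⟩ := exists_desc hs hp (cX ≫ a) (cY ≫ b) hcompat
  refine ⟨u, ?_, ?_⟩
  · rw [← cancel_epi pbX.isoPullback.hom, pbX.isoPullback_hom_snd_assoc,
      pbX.isoPullback_hom_fst_assoc, hu1]
  · rw [← cancel_epi pbY.isoPullback.hom, pbY.isoPullback_hom_snd_assoc,
      pbY.isoPullback_hom_fst_assoc, hu2]

end Chart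

/-- **Local-to-global for Ferrand pushouts.** A commutative square of schemes with target `P`
which, over an open cover of `P` by affine charts, is given by spectra of ring fibre squares
`R = B ×_A A'` with `A' → A` surjective, is a pushout square in the category of schemes. -/
theorem isPushout_of_locally_FS {Z X Y P : Scheme.{u}} (i : Z ⟶ X) (j : Z ⟶ Y) (g : X ⟶ P)
    (h : Y ⟶ P) (w : i ≫ g = j ≫ h) {ι : Type u}
    (R A A' B : ι → Type u) [∀ k, CommRing (R k)] [∀ k, CommRing (A k)] [∀ k, CommRing (A' k)]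
    [∀ k, CommRing (B k)]
    (p : ∀ k, A' k →+* A k) (q : ∀ k, B k →+* A k) (φB : ∀ k, R k →+* B k)
    (φA : ∀ k, R k →+* A' k)
    (hs : ∀ k, FS (p k) (q k) (φB k) (φA k)) (hp : ∀ k, Function.Surjective (p k))
    (cP : ∀ k, Spec (CommRingCat.of (R k)) ⟶ P) [∀ k, IsOpenImmersion (cP k)]
    (hcov : ∀ z : P, ∃ k, z ∈ Set.range (cP k).base)
    (cX : ∀ k, Spec (CommRingCat.of (A' k)) ⟶ X) (cY : ∀ k, Spec (CommRingCat.of (B k)) ⟶ Y)
    (cZ : ∀ k, Spec (CommRingCat.of (A k)) ⟶ Z)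
    (hZX : ∀ k, cZ k ≫ i = sp (p k) ≫ cX k) (hZY : ∀ k, cZ k ≫ j = sp (q k) ≫ cY k)
    (pbX : ∀ k, IsPullback (cX k) (sp (φA k)) g (cP k))
    (pbY : ∀ k, IsPullback (cY k) (sp (φB k)) h (cP k)) :
    IsPushout i j g h := by
  let 𝒰 : P.OpenCover := Scheme.Cover.mkOfCovers ι (fun k => Spec (CommRingCat.of (R k))) cP
    (fun z => by obtain ⟨k, y, hy⟩ := hcov z; exact ⟨k, y, hy⟩) (fun k => inferInstance)
  -- uniqueness
  have huniq : ∀ {T : Scheme.{u}} (m m' : P ⟶ T), g ≫ m = g ≫ m' → h ≫ m = h ≫ m' → m = m' := by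
    intro T m m' h1 h2
    apply Scheme.Cover.hom_ext 𝒰
    intro k'
    obtain ⟨k, rfl⟩ : ∃ k : ι, k = k' := ⟨k', rfl⟩
    show cP k ≫ m = cP k ≫ m'
    apply hom_ext_chart (hs k) (hp k) g h (cP k) (cX k) (cY k) (pbX k).w (pbY k).w (𝟙 _) (cP k)
      (Category.id_comp _).symm
    · rw [← pullback.condition_assoc, ← pullback.condition_assoc, h1]
    · rw [← pullback.condition_assoc, ← pullback.condition_assoc, h2]
  -- existence
  have hex : ∀ {T : Scheme.{u}} (a : X ⟶ T) (b : Y ⟶ T), i ≫ a = j ≫ b →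
      ∃ c : P ⟶ T, g ≫ c = a ∧ h ≫ c = b := by
    intro T a b hab
    choose u hu1 hu2 using fun k => exists_desc_chart (hs k) (hp k) i j g h (cP k) (cX k) (cY k)
      (cZ k) (hZX k) (hZY k) (pbX k) (pbY k) a b hab
    have hcompat : ∀ k l : 𝒰.I₀, pullback.fst (𝒰.f k) (𝒰.f l) ≫ u k = pullback.snd _ _ ≫ u l := by
      intro k' l'
      obtain ⟨k, rfl⟩ : ∃ k : ι, k = k' := ⟨k', rfl⟩
      obtain ⟨l, rfl⟩ : ∃ l : ι, l = l' := ⟨l', rfl⟩
      show pullback.fst (cP k) (cP l) ≫ u k = pullback.snd (cP k) (cP l) ≫ u l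
      apply hom_ext_chart (hs k) (hp k) g h (cP k) (cX k) (cY k) (pbX k).w (pbY k).w
        (pullback.fst (cP k) (cP l)) (pullback.fst (cP k) (cP l) ≫ cP k) rfl
      · exact (good_restrict' g a (cP k) (u k) (hu1 k) (pullback.fst (cP k) (cP l)) _ rfl).trans
          (good_restrict' g a (cP l) (u l) (hu1 l) (pullback.snd (cP k) (cP l)) _
            pullback.condition).symm
      · exact (good_restrict' h b (cP k) (u k) (hu2 k) (pullback.fst (cP k) (cP l)) _ rfl).trans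
          (good_restrict' h b (cP l) (u l) (hu2 l) (pullback.snd (cP k) (cP l)) _
            pullback.condition).symm
    refine ⟨𝒰.glueMorphisms u hcompat, ?_, ?_⟩
    · apply Scheme.Cover.hom_ext (𝒰.pullback₁ g)
      intro k'
      let k : 𝒰.I₀ := k'
      have h1 : 𝒰.f k ≫ 𝒰.glueMorphisms u hcompat = u k :=
        Scheme.Cover.ι_glueMorphisms 𝒰 u hcompat k
      show pullback.fst g (𝒰.f k) ≫ g ≫ _ = pullback.fst g (𝒰.f k) ≫ a
      rw [pullback.condition_assoc, h1]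
      exact hu1 k
    · apply Scheme.Cover.hom_ext (𝒰.pullback₁ h)
      intro k'
      let k : 𝒰.I₀ := k'
      have h1 : 𝒰.f k ≫ 𝒰.glueMorphisms u hcompat = u k :=
        Scheme.Cover.ι_glueMorphisms 𝒰 u hcompat k
      show pullback.fst h (𝒰.f k) ≫ h ≫ _ = pullback.fst h (𝒰.f k) ≫ b
      rw [pullback.condition_assoc, h1]
      exact hu2 k
  refine ⟨⟨w⟩, ⟨PushoutCocone.IsColimit.mk _
    (fun s => (hex s.inl s.inr s.condition).choose)
    (fun s => (hex s.inl s.inr s.condition).choose_spec.1)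
    (fun s => (hex s.inl s.inr s.condition).choose_spec.2)
    (fun s m h1 h2 => ?_)⟩⟩
  obtain ⟨g1, g2⟩ := (hex s.inl s.inr s.condition).choose_spec
  exact huniq _ _ (h1.trans g1.symm) (h2.trans g2.symm)

end Groth.Agent.Lib.Helper22.SpPO
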