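import Mathlib
import Groth.Agent.Lib.Helper22FerrandChart
import Groth.Agent.Lib.Helper22SpecPushoutLocal

universe u
open AlgebraicGeometry CategoryTheory Limits TopologicalSpace Opposite PrimeSpectrum

namespace Groth.Agent.Lib.Helper22.Ferrand

open Groth.Agent.Lib.Helper22.SpPO

section Glue

variable {X T : Scheme.{u}} {ι : Type u} [Preorder ι] (U : ι → X.Opens)

/-- The open cover given by a covering family of opens. -/
noncomputable def opensCover (hcov : ∀ x : X, ∃ k, x ∈ U k) : X.OpenCover where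
  I₀ := ι
  X k := (U k).toScheme
  f k := (U k).ι
  mem₀ := by
    rw [Scheme.presieve₀_mem_precoverage_iff]
    refine ⟨fun x => ?_, fun k => inferInstance⟩
    obtain ⟨k, hk⟩ := hcov x
    exact ⟨k, ⟨x, hk⟩, rfl⟩

instance (hcov : ∀ x : X, ∃ k, x ∈ U k) : Preorder (opensCover U hcov).I₀ :=
  inferInstanceAs (Preorder ι)

theorem directed_aux
    (hmono : ∀ {k l}, k ≤ l → U k ≤ U l)
    (hdir : ∀ k l (x : X), x ∈ U k → x ∈ U l → ∃ n, n ≤ k ∧ n ≤ l ∧ x ∈ U n)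
    (k l : ι) (x : ↥(pullback (U k).ι (U l).ι)) :
    ∃ (n : ι) (hnk : n ≤ k) (hnl : n ≤ l) (y : (U n).toScheme),
      (pullback.lift (X.homOfLE (hmono hnk)) (X.homOfLE (hmono hnl))
        (by rw [X.homOfLE_ι, X.homOfLE_ι])).base y = x := by
  let x₀ : X := (pullback.fst ((U k).ι) ((U l).ι) ≫ (U k).ι).base x
  have h1 : x₀ ∈ U k := ((pullback.fst ((U k).ι) ((U l).ι)).base x).2
  have h2 : x₀ ∈ U l := by
    have : x₀ = (pullback.snd ((U k).ι) ((U l).ι) ≫ (U l).ι).base x := by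
      show (pullback.fst ((U k).ι) ((U l).ι) ≫ (U k).ι).base x = _
      rw [pullback.condition]
    rw [this]
    exact ((pullback.snd ((U k).ι) ((U l).ι)).base x).2
  obtain ⟨n, hnk, hnl, hxn⟩ := hdir k l x₀ h1 h2
  let y : ↥((U n).toScheme) := ⟨x₀, hxn⟩
  have hy : (U n).ι.base y = x₀ := rfl
  refine ⟨n, hnk, hnl, y, ?_⟩
  apply (pullback.fst ((U k).ι) ((U l).ι) ≫ (U k).ι).isOpenEmbedding.injective
  have e : pullback.lift (X.homOfLE (hmono hnk)) (X.homOfLE (hmono hnl))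
      (by rw [X.homOfLE_ι, X.homOfLE_ι]) ≫ pullback.fst ((U k).ι) ((U l).ι) ≫ (U k).ι =
      (U n).ι := by
    rw [pullback.lift_fst_assoc, X.homOfLE_ι]
  exact (congr($(e).base y)).trans hy

/-- A monotone, locally directed covering family of opens is a locally directed cover. -/
@[instance_reducible]
noncomputable def opensCover_locallyDirected (hcov : ∀ x : X, ∃ k, x ∈ U k)
    (hmono : ∀ {k l}, k ≤ l → U k ≤ U l)
    (hdir : ∀ k l (x : X), x ∈ U k → x ∈ U l → ∃ n, n ≤ k ∧ n ≤ l ∧ x ∈ U n) :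
    Scheme.Cover.LocallyDirected (opensCover U hcov) where
  trans {k l} hkl := X.homOfLE (hmono (leOfHom hkl))
  trans_id k := X.homOfLE_rfl _
  trans_comp hkl hlm := (X.homOfLE_homOfLE _ _).symm
  w hkl := X.homOfLE_ι _
  directed {k l} x := by
    obtain ⟨n, hnk, hnl, y, hy⟩ := directed_aux U hmono hdir k l x
    exact ⟨n, homOfLE hnk, homOfLE hnl, y, hy⟩
  property_trans {k l} hkl := by
    show IsOpenImmersion (X.homOfLE _)
    infer_instance

theorem exists_glue (hcov : ∀ x : X, ∃ k, x ∈ U k)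
    (hmono : ∀ {k l}, k ≤ l → U k ≤ U l)
    (hdir : ∀ k l (x : X), x ∈ U k → x ∈ U l → ∃ n, n ≤ k ∧ n ≤ l ∧ x ∈ U n)
    (g : ∀ k, (U k).toScheme ⟶ T)
    (hg : ∀ {k l} (h : k ≤ l), X.homOfLE (hmono h) ≫ g l = g k) :
    ∃ a : X ⟶ T, ∀ k, (U k).ι ≫ a = g k := by
  let _ := opensCover_locallyDirected U hcov hmono hdir
  refine ⟨(opensCover U hcov).glueMorphismsOfLocallyDirected g (fun {k l} hkl => ?_), fun k => ?_⟩
  · exact hg (leOfHom hkl)
  · exact Scheme.OpenCover.map_glueMorphismsOfLocallyDirected (opensCover U hcov) g _ k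

end Glue

section Main

variable {X Y Z : Scheme.{u}} (i : Z ⟶ X) (j : Z ⟶ Y) [IsClosedImmersion i]

/-- The glued scheme. -/
noncomputable def P : Scheme.{u} := colimit (F i j)

/-- The charts of the glued scheme. -/
noncomputable def cP (k : AdPair i j) : Spec (CommRingCat.of k.R) ⟶ P i j :=
  colimit.ι (F i j) k

instance (k : AdPair i j) : IsOpenImmersion (cP i j k) :=
  inferInstanceAs (IsOpenImmersion (colimit.ι (F i j) k))

theorem cP_w {k l : AdPair i j} (h : k ≤ l) : sp (AdPair.ρ h) ≫ cP i j l = cP i j k :=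
  colimit.w (F i j) (homOfLE h)

theorem cP_jointly_surjective (z : ↥(P i j)) : ∃ k, z ∈ Set.range (cP i j k).base := by
  obtain ⟨k, zk, h⟩ := Scheme.IsLocallyDirected.ι_jointly_surjective (F i j) z
  exact ⟨k, zk, h⟩

theorem cP_eq {k l : AdPair i j} (zk : PrimeSpectrum k.R) (zl : PrimeSpectrum l.R)
    (h : (cP i j k).base zk = (cP i j l).base zl) :
    ∃ (n : AdPair i j) (hnk : n ≤ k) (hnl : n ≤ l) (z : PrimeSpectrum n.R),
      comap (AdPair.ρ hnk) z = zk ∧ comap (AdPair.ρ hnl) z = zl := by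
  obtain ⟨n, fk, fl, z, h1, h2⟩ := (Scheme.IsLocallyDirected.ι_eq_ι_iff (F i j)).mp h
  exact ⟨n, leOfHom fk, leOfHom fl, z, h1, h2⟩

variable {i j}

theorem AdPair.exists_le_of_mem_U (k l : AdPair i j) (x₀ : X) (hk : x₀ ∈ k.U) (hl : x₀ ∈ l.U) :
    ∃ n, n ≤ k ∧ n ≤ l ∧ x₀ ∈ n.U := by
  have hk' : x₀ ∈ (k.U : Set X) := hk
  rw [← k.range_cX] at hk'
  obtain ⟨x, rfl⟩ := hk'
  have hw : comap k.φA x ∈ satSet k.φB k.φA (k.cX.base ⁻¹' ((k.U ⊓ l.U : X.Opens) : Set X))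
      (k.cY.base ⁻¹' ((k.V ⊓ l.V : Y.Opens) : Set Y)) :=
    mem_satSet_of_snd k.fs k.p_surjective (k.sat_compat _ _ (AdPair.preimage_inf_eq k l))
      ⟨k.cX_mem x, hl⟩
  obtain ⟨r, hr, hrU, hrV⟩ := k.exists_sub _ _ (AdPair.preimage_inf_eq k l) _ hw
  refine ⟨k.sub r, ⟨hrU.trans inf_le_left, hrV.trans inf_le_left⟩,
    ⟨hrU.trans inf_le_right, hrV.trans inf_le_right⟩, ?_⟩
  show k.cX.base x ∈ X.basicOpen (k.φA r)
  have : x ∈ k.hU.fromSpec ⁻¹ᵁ X.basicOpen (k.φA r) := by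
    rw [k.hU.fromSpec_preimage_basicOpen]; exact hr
  exact this

theorem AdPair.exists_le_of_mem_V (k l : AdPair i j) (y₀ : Y) (hk : y₀ ∈ k.V) (hl : y₀ ∈ l.V) :
    ∃ n, n ≤ k ∧ n ≤ l ∧ y₀ ∈ n.V := by
  have hk' : y₀ ∈ (k.V : Set Y) := hk
  rw [← k.range_cY] at hk'
  obtain ⟨y, rfl⟩ := hk'
  have hw : comap k.φB y ∈ satSet k.φB k.φA (k.cX.base ⁻¹' ((k.U ⊓ l.U : X.Opens) : Set X))
      (k.cY.base ⁻¹' ((k.V ⊓ l.V : Y.Opens) : Set Y)) :=
    mem_satSet_of_fst k.fs k.p_surjective (k.sat_compat _ _ (AdPair.preimage_inf_eq k l))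
      ⟨k.cY_mem y, hl⟩
  obtain ⟨r, hr, hrU, hrV⟩ := k.exists_sub _ _ (AdPair.preimage_inf_eq k l) _ hw
  refine ⟨k.sub r, ⟨hrU.trans inf_le_left, hrV.trans inf_le_left⟩,
    ⟨hrU.trans inf_le_right, hrV.trans inf_le_right⟩, ?_⟩
  show k.cY.base y ∈ Y.basicOpen (k.φB r)
  have : y ∈ k.hV.fromSpec ⁻¹ᵁ Y.basicOpen (k.φB r) := by
    rw [k.hV.fromSpec_preimage_basicOpen]; exact hr
  exact this

variable (i j)

/-- Local pieces of the map `X ⟶ P`. -/
noncomputable def gX (k : AdPair i j) : (k.U).toScheme ⟶ P i j :=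
  k.U.toSpecΓ ≫ sp k.φA ≫ cP i j k

/-- Local pieces of the map `Y ⟶ P`. -/
noncomputable def gY (k : AdPair i j) : (k.V).toScheme ⟶ P i j :=
  k.V.toSpecΓ ≫ sp k.φB ≫ cP i j k

theorem gX_compat {k l : AdPair i j} (h : k ≤ l) : X.homOfLE h.1 ≫ gX i j l = gX i j k := by
  unfold gX
  rw [← Scheme.Opens.toSpecΓ_SpecMap_presheaf_map_assoc]
  show k.U.toSpecΓ ≫ sp (res h.1) ≫ sp l.φA ≫ cP i j l = _
  rw [sp_comp_assoc, show (res h.1).comp l.φA = k.φA.comp (AdPair.ρ h) from RingHom.ext fun _ => rfl,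
    ← sp_comp_assoc, cP_w]

theorem gY_compat {k l : AdPair i j} (h : k ≤ l) : Y.homOfLE h.2 ≫ gY i j l = gY i j k := by
  unfold gY
  rw [← Scheme.Opens.toSpecΓ_SpecMap_presheaf_map_assoc]
  show k.V.toSpecΓ ≫ sp (res h.2) ≫ sp l.φB ≫ cP i j l = _
  rw [sp_comp_assoc, show (res h.2).comp l.φB = k.φB.comp (AdPair.ρ h) from RingHom.ext fun _ => rfl,
    ← sp_comp_assoc, cP_w]

theorem exists_a (hX : ∀ x : X, ∃ k : AdPair i j, x ∈ k.U) :
    ∃ a : X ⟶ P i j, ∀ k : AdPair i j, k.U.ι ≫ a = gX i j k :=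
  exists_glue (fun k : AdPair i j => k.U) hX (fun {k l} (h : k ≤ l) => h.1)
    (fun k l x => AdPair.exists_le_of_mem_U k l x) (gX i j) (fun h => gX_compat i j h)

theorem exists_b (hY : ∀ y : Y, ∃ k : AdPair i j, y ∈ k.V) :
    ∃ b : Y ⟶ P i j, ∀ k : AdPair i j, k.V.ι ≫ b = gY i j k :=
  exists_glue (fun k : AdPair i j => k.V) hY (fun {k l} (h : k ≤ l) => h.2)
    (fun k l y => AdPair.exists_le_of_mem_V k l y) (gY i j) (fun h => gY_compat i j h)

theorem cX_a (a : X ⟶ P i j) (ha : ∀ k : AdPair i j, k.U.ι ≫ a = gX i j k) (k : AdPair i j) :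
    k.cX ≫ a = sp k.φA ≫ cP i j k := by
  unfold AdPair.cX IsAffineOpen.fromSpec
  rw [Category.assoc, ha, gX, IsAffineOpen.isoSpec_inv_toSpecΓ_assoc]

theorem cY_b (b : Y ⟶ P i j) (hb : ∀ k : AdPair i j, k.V.ι ≫ b = gY i j k) (k : AdPair i j) :
    k.cY ≫ b = sp k.φB ≫ cP i j k := by
  unfold AdPair.cY IsAffineOpen.fromSpec
  rw [Category.assoc, hb, gY, IsAffineOpen.isoSpec_inv_toSpecΓ_assoc]

theorem comm_of (hX : ∀ x : X, ∃ k : AdPair i j, x ∈ k.U)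
    (a : X ⟶ P i j) (ha : ∀ k : AdPair i j, k.U.ι ≫ a = gX i j k)
    (b : Y ⟶ P i j) (hb : ∀ k : AdPair i j, k.V.ι ≫ b = gY i j k) : i ≫ a = j ≫ b := by
  let 𝒰 : Z.OpenCover := Scheme.Cover.mkOfCovers (AdPair i j)
    (fun k => Spec (CommRingCat.of k.A)) (fun k => k.cZ)
    (fun z => by
      obtain ⟨k, hk⟩ := hX (i.base z)
      have : z ∈ (k.W : Set Z) := hk
      rw [← k.range_cZ] at this
      obtain ⟨ζ, hζ⟩ := this
      exact ⟨k, ζ, hζ⟩) (fun k => inferInstance)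
  apply Scheme.Cover.hom_ext 𝒰
  intro k'
  obtain ⟨k, rfl⟩ : ∃ k : AdPair i j, k = k' := ⟨k', rfl⟩
  show k.cZ ≫ i ≫ a = k.cZ ≫ j ≫ b
  rw [← Category.assoc, k.cZ_i, ← Category.assoc k.cZ, k.cZ_j, Category.assoc, Category.assoc,
    cX_a i j a ha, cY_b i j b hb, ← Category.assoc, ← Category.assoc, sp_square k.fs]

theorem pbX (hX : ∀ x : X, ∃ k : AdPair i j, x ∈ k.U)
    (a : X ⟶ P i j) (ha : ∀ k : AdPair i j, k.U.ι ≫ a = gX i j k) (k : AdPair i j) :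
    IsPullback k.cX (sp k.φA) a (cP i j k) := by
  refine (IsOpenImmersion.isPullback (sp k.φA) k.cX (cP i j k) a (cX_a i j a ha k) ?_).flip
  apply le_antisymm
  rotate_left
  · rintro _ ⟨x, rfl⟩
    show a.base (k.cX.base x) ∈ Set.range (cP i j k).base
    exact ⟨comap k.φA x, (congr($(cX_a i j a ha k).base x)).symm⟩
  · intro x₀ hx₀
    obtain ⟨z, hz⟩ : ∃ z : PrimeSpectrum k.R, (cP i j k).base z = a.base x₀ := hx₀
    obtain ⟨l, hl⟩ := hX x₀
    have hl' : x₀ ∈ (l.U : Set X) := hl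
    rw [← l.range_cX] at hl'
    obtain ⟨x, rfl⟩ := hl'
    have h1 : (cP i j l).base (comap l.φA x) = (cP i j k).base z :=
      (congr($(cX_a i j a ha l).base x)).symm.trans hz.symm
    obtain ⟨n, hnl, hnk, zn, e1, e2⟩ := cP_eq i j _ _ h1
    have h2 := AdPair.range_ρ_subset hnl zn
    rw [e1] at h2
    have hx : l.cX.base x ∈ n.U := h2.1 x rfl
    show l.cX.base x ∈ Set.range k.cX.base
    rw [k.range_cX]
    exact hnk.1 hx

theorem pbY (hY : ∀ y : Y, ∃ k : AdPair i j, y ∈ k.V)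
    (b : Y ⟶ P i j) (hb : ∀ k : AdPair i j, k.V.ι ≫ b = gY i j k) (k : AdPair i j) :
    IsPullback k.cY (sp k.φB) b (cP i j k) := by
  refine (IsOpenImmersion.isPullback (sp k.φB) k.cY (cP i j k) b (cY_b i j b hb k) ?_).flip
  apply le_antisymm
  rotate_left
  · rintro _ ⟨y, rfl⟩
    show b.base (k.cY.base y) ∈ Set.range (cP i j k).base
    exact ⟨comap k.φB y, (congr($(cY_b i j b hb k).base y)).symm⟩
  · intro y₀ hy₀
    obtain ⟨z, hz⟩ : ∃ z : PrimeSpectrum k.R, (cP i j k).base z = b.base y₀ := hy₀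
    obtain ⟨l, hl⟩ := hY y₀
    have hl' : y₀ ∈ (l.V : Set Y) := hl
    rw [← l.range_cY] at hl'
    obtain ⟨y, rfl⟩ := hl'
    have h1 : (cP i j l).base (comap l.φB y) = (cP i j k).base z :=
      (congr($(cY_b i j b hb l).base y)).symm.trans hz.symm
    obtain ⟨n, hnl, hnk, zn, e1, e2⟩ := cP_eq i j _ _ h1
    have h2 := AdPair.range_ρ_subset hnl zn
    rw [e1] at h2
    have hy : l.cY.base y ∈ n.V := h2.2 y rfl
    show l.cY.base y ∈ Set.range k.cY.base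
    rw [k.range_cY]
    exact hnk.2 hy

/-- **Existence of Ferrand pushouts**, with affine charts. -/
theorem exists_pushout (hX : ∀ x : X, ∃ k : AdPair i j, x ∈ k.U)
    (hY : ∀ y : Y, ∃ k : AdPair i j, y ∈ k.V) :
    ∃ (P : Scheme.{u}) (a : X ⟶ P) (b : Y ⟶ P), IsPushout i j a b ∧
      ∃ (c : ∀ k : AdPair i j, Spec (CommRingCat.of k.R) ⟶ P),
        (∀ k, IsOpenImmersion (c k)) ∧ (∀ z : P, ∃ k, z ∈ Set.range (c k).base) ∧
        (∀ k, IsPullback k.cX (sp k.φA) a (c k)) ∧ (∀ k, IsPullback k.cY (sp k.φB) b (c k)) := by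
  obtain ⟨a, ha⟩ := exists_a i j hX
  obtain ⟨b, hb⟩ := exists_b i j hY
  have w := comm_of i j hX a ha b hb
  refine ⟨P i j, a, b, ?_, cP i j, fun k => inferInstance, cP_jointly_surjective i j,
    pbX i j hX a ha, pbY i j hY b hb⟩
  exact isPushout_of_locally_FS i j a b w (ι := AdPair i j)
    (fun k => k.R) (fun k => k.A) (fun k => k.A') (fun k => k.B)
    (fun k => k.p) (fun k => k.q) (fun k => k.φB) (fun k => k.φA)
    (fun k => k.fs) (fun k => k.p_surjective) (cP i j) (cP_jointly_surjective i j)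
    (fun k => k.cX) (fun k => k.cY) (fun k => k.cZ) (fun k => k.cZ_i) (fun k => k.cZ_j)
    (pbX i j hX a ha) (pbY i j hY b hb)

end Main

end Groth.Agent.Lib.Helper22.Ferrand
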