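import Mathlib
import Groth.Agent.Lib.Helper22FerrandGlue

universe u
open AlgebraicGeometry CategoryTheory Limits TopologicalSpace Opposite PrimeSpectrum

namespace Groth.Agent.Lib.Helper22.Ferrand

open Groth.Agent.Lib.Helper22.SpPO

/-- Covering `X` by adapted pairs follows from covering `Y`. -/
theorem hX_of_hY {X Y Z : Scheme.{u}} (i : Z ⟶ X) (j : Z ⟶ Y) [IsClosedImmersion i]
    (hY : ∀ y : Y, ∃ k : AdPair i j, y ∈ k.V) (x : X) : ∃ k : AdPair i j, x ∈ k.U := by
  by_cases hx : x ∈ Set.range i.base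
  · obtain ⟨z, rfl⟩ := hx
    obtain ⟨k, hk⟩ := hY (j.base z)
    exact ⟨k, (k.mem_W_iff_i z).mp ((k.mem_W_iff_j z).mpr hk)⟩
  · have hcl : IsClosed (Set.range i.base) := i.isClosedEmbedding.isClosed_range
    let O : X.Opens := ⟨(Set.range i.base)ᶜ, hcl.isOpen_compl⟩
    obtain ⟨U, hU, hxU, hUO⟩ := Opens.isBasis_iff_nbhd.mp X.isBasis_affineOpens
      (show x ∈ O from hx)
    refine ⟨⟨U, ⊥, hU, isAffineOpen_bot Y, ?_⟩, hxU⟩
    ext z
    constructor
    · intro hz
      exact absurd ⟨z, rfl⟩ (hUO hz)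
    · intro hz
      exact absurd hz (by simp)

end Groth.Agent.Lib.Helper22.Ferrand
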