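import Mathlib
import Groth.Agent.Lib.Helper22FerrandApp

universe u
open AlgebraicGeometry CategoryTheory Limits TopologicalSpace Opposite PrimeSpectrum

namespace Groth.Agent.Lib.Helper22.Ferrand

open Groth.Agent.Lib.Helper22.SpPO

/-- A property local at the target can be checked on a family of pullback charts. -/
theorem of_charts (Q : MorphismProperty Scheme.{u}) [IsZariskiLocalAtTarget Q]
    {Y P : Scheme.{u}} (b : Y ⟶ P)
    {ι : Type u} {S Y' : ι → Scheme.{u}} (c : ∀ k, S k ⟶ P) [∀ k, IsOpenImmersion (c k)]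
    (hcov : ∀ z : P, ∃ k, z ∈ Set.range (c k).base)
    (cY : ∀ k, Y' k ⟶ Y) (b' : ∀ k, Y' k ⟶ S k) (pb : ∀ k, IsPullback (cY k) (b' k) b (c k))
    (h : ∀ k, Q (b' k)) : Q b := by
  let 𝒰 : P.OpenCover := Scheme.Cover.mkOfCovers ι S c
    (fun z => by obtain ⟨k, y, hy⟩ := hcov z; exact ⟨k, y, hy⟩) (fun k => inferInstance)
  apply IsZariskiLocalAtTarget.of_openCover 𝒰
  intro k'
  obtain ⟨k, rfl⟩ : ∃ k : ι, k = k' := ⟨k', rfl⟩
  show Q (pullback.snd b (c k))
  have e : (pb k).isoPullback.hom ≫ pullback.snd b (c k) = b' k := (pb k).isoPullback_hom_snd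
  exact (Q.cancel_left_of_respectsIso (pb k).isoPullback.hom (pullback.snd b (c k))).mp
    (by rw [e]; exact h k)

section Ring

variable {A A' B R : Type u} [CommRing A] [CommRing A'] [CommRing B] [CommRing R]
variable {p : A' →+* A} {q : B →+* A} {φB : R →+* B} {φA : R →+* A'}

theorem FS.surjective_snd (hs : FS p q φB φA) (hq : Function.Surjective q) :
    Function.Surjective φA := by
  intro a
  obtain ⟨b, hb⟩ := hq (p a)
  obtain ⟨r, -, hr⟩ := hs.ex b a hb
  exact ⟨r, hr⟩

/-- For a fibre square with `p` surjective, `A = A' ⊗_R B`. -/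
theorem isPushout_ring (hs : FS p q φB φA) (hp : Function.Surjective p) :
    IsPushout (CommRingCat.ofHom φA) (CommRingCat.ofHom φB) (CommRingCat.ofHom p)
      (CommRingCat.ofHom q) := by
  have w : CommRingCat.ofHom φA ≫ CommRingCat.ofHom p =
      CommRingCat.ofHom φB ≫ CommRingCat.ofHom q := by
    ext r
    exact (hs.comm r).symm
  have hker : ∀ (s : PushoutCocone (CommRingCat.ofHom φA) (CommRingCat.ofHom φB)),
      RingHom.ker p ≤ RingHom.ker s.inl.hom := by
    intro s a ha
    obtain ⟨r, hr1, hr2⟩ := exists_ker_lift hs a ha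
    show s.inl.hom a = 0
    rw [← hr2]
    have : s.inl.hom (φA r) = s.inr.hom (φB r) := congr($(s.condition).hom r)
    rw [this, hr1, map_zero]
  refine ⟨⟨w⟩, ⟨PushoutCocone.IsColimit.mk _
    (fun s => CommRingCat.ofHom (p.liftOfSurjective hp ⟨s.inl.hom, hker s⟩))
    (fun s => ?_) (fun s => ?_) (fun s m h1 h2 => ?_)⟩⟩
  · ext a
    exact RingHom.liftOfSurjective_comp_apply p hp ⟨s.inl.hom, hker s⟩ a
  · ext b
    obtain ⟨a, ha⟩ := hp (q b)
    obtain ⟨r, hr1, hr2⟩ := hs.ex b a ha.symm
    show (p.liftOfSurjective hp ⟨s.inl.hom, hker s⟩) (q b) = s.inr.hom b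
    rw [← ha, RingHom.liftOfSurjective_comp_apply]
    show s.inl.hom a = s.inr.hom b
    rw [← hr1, ← hr2]
    exact congr($(s.condition).hom r)
  · ext x
    obtain ⟨a, rfl⟩ := hp x
    show m.hom (p a) = (p.liftOfSurjective hp ⟨s.inl.hom, hker s⟩) (p a)
    rw [RingHom.liftOfSurjective_comp_apply]
    exact congr($(h1).hom a)

theorem isPullback_sp (hs : FS p q φB φA) (hp : Function.Surjective p) :
    IsPullback (sp p) (sp q) (sp φA) (sp φB) :=
  isPullback_SpecMap_of_isPushout _ _ _ _ (isPushout_ring hs hp)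

/-- Finiteness passes from `q` to `φA`. -/
theorem finite_φA (hs : FS p q φB φA) (hp : Function.Surjective p) (hq : q.Finite) :
    φA.Finite := by
  letI := q.toAlgebra
  letI := φA.toAlgebra
  obtain ⟨s, hs'⟩ := (hq : Module.Finite B A).fg_top
  let g : A → A' := Function.surjInv hp
  have hg : ∀ x, p (g x) = x := Function.surjInv_eq hp
  let σ : B → R := Function.surjInv (hs.surjective_fst hp)
  have hσ : ∀ b, φB (σ b) = b := Function.surjInv_eq (hs.surjective_fst hp)
  classical
  refine ⟨⟨insert 1 (s.image g), ?_⟩⟩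
  rw [eq_top_iff]
  rintro a' -
  have hmem : p a' ∈ Submodule.span B (s : Set A) := by rw [hs']; trivial
  obtain ⟨f, -, hf⟩ := Submodule.mem_span_finset.mp hmem
  let a'' : A' := ∑ x ∈ s, φA (σ (f x)) * g x
  have hpa'' : p a'' = p a' := by
    rw [← hf, map_sum]
    apply Finset.sum_congr rfl
    intro x _
    rw [map_mul, hg, ← hs.comm, hσ]
    rfl
  obtain ⟨r₀, -, hr₀⟩ := exists_ker_lift hs (a' - a'') (by rw [map_sub, hpa'', sub_self])
  have : a' = r₀ • (1 : A') + ∑ x ∈ s, (σ (f x)) • g x := by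
    show a' = φA r₀ * 1 + ∑ x ∈ s, φA (σ (f x)) * g x
    rw [hr₀, mul_one]
    show a' = a' - a'' + a''
    ring
  rw [this]
  apply Submodule.add_mem
  · apply Submodule.smul_mem
    apply Submodule.subset_span
    simp
  · apply Submodule.sum_mem
    intro x hx
    apply Submodule.smul_mem
    apply Submodule.subset_span
    simp only [Finset.coe_insert, Finset.coe_image, Set.mem_insert_iff, Set.mem_image,
      Finset.mem_coe]
    exact Or.inr ⟨x, hx, rfl⟩

/-- Integrality passes from `q` to `φA`. -/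
theorem isIntegral_φA (hs : FS p q φB φA) (hp : Function.Surjective p) (hq : q.IsIntegral) :
    φA.IsIntegral := by
  intro a'
  have hsurj := hs.surjective_fst hp
  have key : p a' = 0 → φA.IsIntegralElem a' := by
    intro h0
    obtain ⟨r, -, hr⟩ := exists_ker_lift hs a' h0
    rw [← hr]; exact φA.isIntegralElem_map
  rcases subsingleton_or_nontrivial B with hB | hB
  · apply key
    have h10 : (1 : A) = 0 := by rw [← map_one q, Subsingleton.elim (1 : B) 0, map_zero]
    calc p a' = p a' * 1 := (mul_one _).symm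
      _ = 0 := by rw [h10, mul_zero]
  · obtain ⟨f, hf, hfa⟩ := hq (p a')
    obtain ⟨F, hF1, hF2, hF3⟩ := Polynomial.lifts_and_degree_eq_and_monic
      (Polynomial.mem_lifts_of_surjective hsurj f) hf
    have hpe : p (Polynomial.eval₂ φA a' F) = 0 := by
      rw [Polynomial.hom_eval₂]
      have : p.comp φA = q.comp φB := RingHom.ext fun r => (hs.comm r).symm
      rw [this, ← Polynomial.eval₂_map, hF1]; exact hfa
    by_cases hd : F.natDegree = 0
    · have hF : F = 1 := (Polynomial.Monic.natDegree_eq_zero (p := F) hF3).mp hd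
      apply key
      rw [hF, Polynomial.eval₂_one, map_one] at hpe
      calc p a' = p a' * 1 := (mul_one _).symm
        _ = 0 := by rw [hpe, mul_zero]
    · obtain ⟨r₀, -, hr₀⟩ := exists_ker_lift hs _ hpe
      refine ⟨F - Polynomial.C r₀, Polynomial.Monic.sub_of_left (p := F) hF3 ?_, ?_⟩
      · exact lt_of_le_of_lt Polynomial.degree_C_le
          (Polynomial.natDegree_pos_iff_degree_pos.mp (Nat.pos_of_ne_zero hd))
      · rw [Polynomial.eval₂_sub, Polynomial.eval₂_C, hr₀, sub_self]

end Ring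

section Props

variable {X Y Z : Scheme.{u}} (i : Z ⟶ X) (j : Z ⟶ Y) [IsClosedImmersion i]

theorem pbZ (k : AdPair i j) : IsPullback k.cZ (sp k.p) i k.cX := by
  refine (IsOpenImmersion.isPullback (sp k.p) k.cZ k.cX i k.cZ_i ?_).flip
  show i ⁻¹ᵁ k.hU.fromSpec.opensRange = k.hW.fromSpec.opensRange
  rw [k.hU.opensRange_fromSpec, k.hW.opensRange_fromSpec]; rfl

theorem isPullback_of_charts {P : Scheme.{u}} (a : X ⟶ P) (b : Y ⟶ P)
    (c : ∀ k : AdPair i j, Spec (CommRingCat.of k.R) ⟶ P)
    (hX : ∀ x : X, ∃ k : AdPair i j, x ∈ k.U)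
    (hpbX : ∀ k, IsPullback k.cX (sp k.φA) a (c k))
    (hpbY : ∀ k, IsPullback k.cY (sp k.φB) b (c k)) :
    IsPullback i j a b := by
  let 𝒰 : X.OpenCover := Scheme.Cover.mkOfCovers (AdPair i j)
    (fun k => Spec (CommRingCat.of k.A')) (fun k => k.cX)
    (fun x => by
      obtain ⟨k, hk⟩ := hX x
      have : x ∈ (k.U : Set X) := hk
      rw [← k.range_cX] at this
      obtain ⟨ζ, hζ⟩ := this
      exact ⟨k, ζ, hζ⟩) (fun k => inferInstance)
  apply Scheme.isPullback_of_openCover i j a b 𝒰
  intro k'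
  obtain ⟨k, rfl⟩ : ∃ k : AdPair i j, k = k' := ⟨k', rfl⟩
  show IsPullback (pullback.snd i k.cX) (pullback.fst i k.cX ≫ j) (k.cX ≫ a) b
  have h1 : IsPullback (sp k.p) (k.cZ ≫ j) (k.cX ≫ a) b := by
    rw [k.cZ_j, (hpbX k).w]
    exact ((isPullback_sp k.fs k.p_surjective).flip.paste_horiz (hpbY k)).flip
  exact h1.of_iso (pbZ i j k).isoPullback (Iso.refl _) (Iso.refl _) (Iso.refl _)
    (by simp) (by simp) (by simp) (by simp)

omit [IsClosedImmersion i] in
/-- `q` is the section map of `j` up to a ring isomorphism. -/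
theorem q_eq (k : AdPair i j) : ∃ e : Γ(Z, j ⁻¹ᵁ k.V) ≃+* k.A,
    k.q = e.toRingHom.comp (j.app k.V).hom := by
  have hiso : IsIso (Z.presheaf.map (homOfLE k.W_le_j).op) := by
    have : IsIso (homOfLE k.W_le_j) :=
      ⟨homOfLE k.eq.ge, Subsingleton.elim _ _, Subsingleton.elim _ _⟩
    infer_instance
  refine ⟨(asIso (Z.presheaf.map (homOfLE k.W_le_j).op)).commRingCatIsoToRingEquiv, ?_⟩
  ext x
  rfl

omit [IsClosedImmersion i] in
theorem q_surjective [IsClosedImmersion j] (k : AdPair i j) : Function.Surjective k.q := by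
  obtain ⟨e, he⟩ := q_eq i j k
  rw [he]
  exact e.surjective.comp (j.app_surjective k.V k.hV)

omit [IsClosedImmersion i] in
theorem q_finite [IsFinite j] (k : AdPair i j) : k.q.Finite := by
  obtain ⟨e, he⟩ := q_eq i j k
  rw [he]
  exact RingHom.Finite.comp (RingHom.Finite.of_surjective _ e.surjective) (j.finite_app k.V k.hV)

omit [IsClosedImmersion i] in
theorem q_isIntegral [IsIntegralHom j] (k : AdPair i j) : k.q.IsIntegral := by
  obtain ⟨e, he⟩ := q_eq i j k
  rw [he]
  exact RingHom.IsIntegral.trans _ _ (j.isIntegral_app k.V k.hV)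
    (RingHom.isIntegral_of_surjective _ e.surjective)

set_option backward.isDefEq.respectTransparency.types false in
/-- **Ferrand pushouts with their basic properties.** -/
theorem exists_pushout_props (hY : ∀ y : Y, ∃ k : AdPair i j, y ∈ k.V) :
    ∃ (P : Scheme.{u}) (a : X ⟶ P) (b : Y ⟶ P), IsPushout i j a b ∧ IsPullback i j a b ∧
      IsClosedImmersion b ∧ (IsClosedImmersion j → IsClosedImmersion a) ∧
      (IsFinite j → IsFinite a) ∧ (IsIntegralHom j → IsIntegralHom a) := by
  have hX := hX_of_hY i j hY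
  obtain ⟨P, a, b, hP, c, hc, hcov, hpbX, hpbY⟩ := exists_pushout i j hX hY
  refine ⟨P, a, b, hP, isPullback_of_charts i j a b c hX hpbX hpbY, ?_, ?_, ?_, ?_⟩
  · exact of_charts @IsClosedImmersion b c hcov (fun k => k.cY) (fun k => sp k.φB) hpbY
      (fun k => IsClosedImmersion.spec_of_surjective _ (k.fs.surjective_fst k.p_surjective))
  · intro hj
    exact of_charts @IsClosedImmersion a c hcov (fun k => k.cX) (fun k => sp k.φA) hpbX
      (fun k => IsClosedImmersion.spec_of_surjective _
        (FS.surjective_snd k.fs (q_surjective i j k)))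
  · intro hj
    exact of_charts @IsFinite a c hcov (fun k => k.cX) (fun k => sp k.φA) hpbX
      (fun k => (IsFinite.SpecMap_iff _).mpr (finite_φA k.fs k.p_surjective (q_finite i j k)))
  · intro hj
    exact of_charts @IsIntegralHom a c hcov (fun k => k.cX) (fun k => sp k.φA) hpbX
      (fun k => IsIntegralHom.SpecMap_iff.mpr (isIntegral_φA k.fs k.p_surjective
        (q_isIntegral i j k)))

end Props

end Groth.Agent.Lib.Helper22.Ferrand
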