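import Mathlib
import Groth.Agent.Lib.Helper22FerrandProp

universe u
open AlgebraicGeometry CategoryTheory Limits TopologicalSpace Opposite PrimeSpectrum

namespace Groth.Agent.Lib.Helper22.Ferrand

open Groth.Agent.Lib.Helper22.SpPO

section AT

variable {A A' B R Λ : Type u} [CommRing A] [CommRing A'] [CommRing B] [CommRing R] [CommRing Λ]
variable {p : A' →+* A} {q : B →+* A} {φB : R →+* B} {φA : R →+* A'}

/-- **Artin–Tate for fibre squares**: over a Noetherian base, a fibre product `R = B ×_A A'` of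
finite type algebras with `A' → A` surjective and `B → A` finite is of finite type. -/
theorem finiteType_of_FS (hs : FS p q φB φA) (hp : Function.Surjective p) (hq : q.Finite)
    [IsNoetherianRing Λ] (lR : Λ →+* R) (hB : (φB.comp lR).FiniteType)
    (hA' : (φA.comp lR).FiniteType) : lR.FiniteType := by
  letI : Algebra Λ R := lR.toAlgebra
  letI : Algebra R B := φB.toAlgebra
  letI : Algebra R A' := φA.toAlgebra
  letI : Algebra Λ B := (φB.comp lR).toAlgebra
  letI : Algebra Λ A' := (φA.comp lR).toAlgebra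
  haveI : IsScalarTower Λ R B := IsScalarTower.of_algebraMap_eq (fun _ => rfl)
  haveI : IsScalarTower Λ R A' := IsScalarTower.of_algebraMap_eq (fun _ => rfl)
  haveI : IsScalarTower Λ R (B × A') := IsScalarTower.of_algebraMap_eq (fun _ => rfl)
  haveI : Algebra.FiniteType Λ B := hB
  haveI : Algebra.FiniteType Λ A' := hA'
  haveI : Module.Finite R B := RingHom.Finite.of_surjective φB (hs.surjective_fst hp)
  haveI : Module.Finite R A' := finite_φA hs hp hq
  have hAC : (⊤ : Subalgebra Λ (B × A')).FG := (inferInstance : Algebra.FiniteType Λ (B × A')).out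
  have hBC : (⊤ : Submodule R (B × A')).FG := (inferInstance : Module.Finite R (B × A')).fg_top
  have hinj : Function.Injective (algebraMap R (B × A')) := by
    rw [injective_iff_map_eq_zero]
    intro r hr
    have h1 : φB r = 0 := congrArg Prod.fst hr
    have h2 : φA r = 0 := congrArg Prod.snd hr
    exact hs.inj r h1 h2
  exact ⟨fg_of_fg_of_fg Λ R (B × A') hAC hBC hinj⟩

end AT

section Charts

variable {X Y Z : Scheme.{u}} (i : Z ⟶ X) (j : Z ⟶ Y) [IsClosedImmersion i]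

/-- A system of affine charts on a pushout of `i` and `j`. -/
structure Charts {P : Scheme.{u}} (a : X ⟶ P) (b : Y ⟶ P) where
  c : ∀ k : AdPair i j, Spec (CommRingCat.of k.R) ⟶ P
  isOpenImmersion : ∀ k, IsOpenImmersion (c k)
  cover : ∀ z : P, ∃ k, z ∈ Set.range (c k).base
  pbX : ∀ k, IsPullback k.cX (sp k.φA) a (c k)
  pbY : ∀ k, IsPullback k.cY (sp k.φB) b (c k)
  w : ∀ {k l : AdPair i j} (h : k ≤ l), sp (AdPair.ρ h) ≫ c l = c k

attribute [instance] Charts.isOpenImmersion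

/-- Any pushout of `i` and `j` (with an adapted cover) carries a system of charts. -/
theorem exists_charts_of_isPushout (hY : ∀ y : Y, ∃ k : AdPair i j, y ∈ k.V)
    {P : Scheme.{u}} (a : X ⟶ P) (b : Y ⟶ P) (hP : IsPushout i j a b) :
    Nonempty (Charts i j a b) := by
  have hX := hX_of_hY i j hY
  obtain ⟨a₀, ha₀⟩ := exists_a i j hX
  obtain ⟨b₀, hb₀⟩ := exists_b i j hY
  have w := comm_of i j hX a₀ ha₀ b₀ hb₀
  have h0 : IsPushout i j a₀ b₀ :=
    isPushout_of_locally_FS i j a₀ b₀ w (ι := AdPair i j)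
      (fun k => k.R) (fun k => k.A) (fun k => k.A') (fun k => k.B)
      (fun k => k.p) (fun k => k.q) (fun k => k.φB) (fun k => k.φA)
      (fun k => k.fs) (fun k => k.p_surjective) (cP i j) (cP_jointly_surjective i j)
      (fun k => k.cX) (fun k => k.cY) (fun k => k.cZ) (fun k => k.cZ_i) (fun k => k.cZ_j)
      (pbX i j hX a₀ ha₀) (pbY i j hY b₀ hb₀)
  let e : Ferrand.P i j ≅ P := h0.isoIsPushout _ _ hP
  have ha : a₀ ≫ e.hom = a := IsPushout.inl_isoIsPushout_hom _ _ h0 hP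
  have hb : b₀ ≫ e.hom = b := IsPushout.inr_isoIsPushout_hom _ _ h0 hP
  refine ⟨{
    c := fun k => cP i j k ≫ e.hom
    isOpenImmersion := fun k => inferInstance
    cover := fun z => by
      obtain ⟨k, w, hw⟩ := cP_jointly_surjective i j (e.inv.base z)
      refine ⟨k, w, ?_⟩
      show e.hom.base ((cP i j k).base w) = z
      rw [hw]
      exact congr($(e.inv_hom_id).base z)
    pbX := fun k => (pbX i j hX a₀ ha₀ k).of_iso (Iso.refl _) (Iso.refl _) (Iso.refl _) e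
      (by simp) (by simp) (by simp [ha]) (by simp)
    pbY := fun k => (pbY i j hY b₀ hb₀ k).of_iso (Iso.refl _) (Iso.refl _) (Iso.refl _) e
      (by simp) (by simp) (by simp [hb]) (by simp)
    w := fun h => by rw [← Category.assoc, cP_w] }⟩

theorem appLE_congr_hom {X Y : Scheme.{u}} {f g : X ⟶ Y} (h : f = g) (U : Y.Opens) (V : X.Opens)
    (e : V ≤ f ⁻¹ᵁ U) (e' : V ≤ g ⁻¹ᵁ U) : f.appLE U V e = g.appLE U V e' := by
  subst h; rfl

namespace Charts

variable {i j} {P : Scheme.{u}} {a : X ⟶ P} {b : Y ⟶ P} (ch : Charts i j a b)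

theorem cX_a (k : AdPair i j) : k.cX ≫ a = sp k.φA ≫ ch.c k := (ch.pbX k).w
theorem cY_b (k : AdPair i j) : k.cY ≫ b = sp k.φB ≫ ch.c k := (ch.pbY k).w

include ch in
theorem jointly_surjective (z : P) : z ∈ Set.range a.base ∨ z ∈ Set.range b.base := by
  obtain ⟨k, w, rfl⟩ := ch.cover z
  rcases joint_surj_top k.fs k.p_surjective w with ⟨y, rfl⟩ | ⟨x, rfl⟩
  · right; exact ⟨k.cY.base y, congr($(ch.cY_b k).base y)⟩
  · left; exact ⟨k.cX.base x, congr($(ch.cX_a k).base x)⟩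

theorem small_cover {S : Scheme.{u}} (r : P ⟶ S) (z : P) :
    ∃ (k : AdPair i j) (Ω : S.Opens), IsAffineOpen Ω ∧ z ∈ Set.range (ch.c k).base ∧
      k.U ≤ (a ≫ r) ⁻¹ᵁ Ω ∧ k.V ≤ (b ≫ r) ⁻¹ᵁ Ω := by
  obtain ⟨k, w, rfl⟩ := ch.cover z
  obtain ⟨Ω, hΩ, hzΩ⟩ := exists_affine_nhd (r.base ((ch.c k).base w))
  obtain ⟨ρ₀, hρ₀w, hρ₀⟩ := exists_basicOpen_le ((ch.c k ≫ r) ⁻¹ᵁ Ω) w hzΩ
  refine ⟨k.sub ρ₀, Ω, hΩ, ?_, ?_, ?_⟩
  · obtain ⟨-, h2⟩ := AdPair.isOpenImmersion_of_basic (k.sub_le ρ₀) ρ₀ rfl rfl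
    have : w ∈ Set.range (sp (AdPair.ρ (k.sub_le ρ₀))).base := by rw [h2]; exact hρ₀w
    obtain ⟨w', hw'⟩ := this
    refine ⟨w', ?_⟩
    rw [← ch.w (k.sub_le ρ₀)]
    show (ch.c k).base ((sp (AdPair.ρ (k.sub_le ρ₀))).base w') = _
    rw [hw']
  · intro x hx
    have hx' : x ∈ X.basicOpen (k.φA ρ₀) := hx
    have hxU : x ∈ (k.U : Set X) := X.basicOpen_le _ hx'
    rw [← k.range_cX] at hxU
    obtain ⟨x', rfl⟩ := hxU
    have h1 : x' ∈ k.hU.fromSpec ⁻¹ᵁ X.basicOpen (k.φA ρ₀) := hx'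
    rw [k.hU.fromSpec_preimage_basicOpen] at h1
    have h2 := hρ₀ (comap k.φA x') h1
    show r.base (a.base (k.cX.base x')) ∈ Ω
    have : a.base (k.cX.base x') = (ch.c k).base (comap k.φA x') := congr($(ch.cX_a k).base x')
    rw [this]; exact h2
  · intro y hy
    have hy' : y ∈ Y.basicOpen (k.φB ρ₀) := hy
    have hyV : y ∈ (k.V : Set Y) := Y.basicOpen_le _ hy'
    rw [← k.range_cY] at hyV
    obtain ⟨y', rfl⟩ := hyV
    have h1 : y' ∈ k.hV.fromSpec ⁻¹ᵁ Y.basicOpen (k.φB ρ₀) := hy'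
    rw [k.hV.fromSpec_preimage_basicOpen] at h1
    have h2 := hρ₀ (comap k.φB y') h1
    show r.base (b.base (k.cY.base y')) ∈ Ω
    have : b.base (k.cY.base y') = (ch.c k).base (comap k.φB y') := congr($(ch.cY_b k).base y')
    rw [this]; exact h2

theorem chart_factor (hw : i ≫ a = j ≫ b) {S : Scheme.{u}} (r : P ⟶ S) (k : AdPair i j)
    (Ω : S.Opens) (hΩ : IsAffineOpen Ω)
    (hU : k.U ≤ (a ≫ r) ⁻¹ᵁ Ω) (hV : k.V ≤ (b ≫ r) ⁻¹ᵁ Ω) :
    ∃ lR : Γ(S, Ω) →+* k.R, k.φA.comp lR = ((a ≫ r).appLE Ω k.U hU).hom ∧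
      k.φB.comp lR = ((b ≫ r).appLE Ω k.V hV).hom ∧
      ch.c k ≫ r = sp lR ≫ hΩ.fromSpec := by
  have hcompat : ∀ s, k.q (((b ≫ r).appLE Ω k.V hV).hom s) =
      k.p (((a ≫ r).appLE Ω k.U hU).hom s) := by
    intro s
    unfold AdPair.p AdPair.q
    rw [← CommRingCat.comp_apply, ← CommRingCat.comp_apply, Scheme.Hom.appLE_comp_appLE,
      Scheme.Hom.appLE_comp_appLE]
    have h : j ≫ b ≫ r = i ≫ a ≫ r := by rw [← Category.assoc, ← hw, Category.assoc]
    rw [appLE_congr_hom h]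
  obtain ⟨lR, h1, h2⟩ := k.fs.exists_lift _ _ hcompat
  refine ⟨lR, h2, h1, ?_⟩
  apply (isPushout_of_FS k.fs k.p_surjective).hom_ext
  · rw [← Category.assoc, ← ch.cX_a k, Category.assoc, sp_comp_assoc, h2]
    exact (IsAffineOpen.SpecMap_appLE_fromSpec (a ≫ r) hΩ k.hU hU).symm
  · rw [← Category.assoc, ← ch.cY_b k, Category.assoc, sp_comp_assoc, h1]
    exact (IsAffineOpen.SpecMap_appLE_fromSpec (b ≫ r) hΩ k.hV hV).symm

set_option backward.isDefEq.respectTransparency.types false in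
include ch in
theorem locallyOfFiniteType (hw : i ≫ a = j ≫ b) [IsFinite j] {S : Scheme.{u}}
    [IsLocallyNoetherian S] (r : P ⟶ S)
    [LocallyOfFiniteType (a ≫ r)] [LocallyOfFiniteType (b ≫ r)] : LocallyOfFiniteType r := by
  choose k Ω hΩ hz hU hV using ch.small_cover r
  let 𝒰 : P.OpenCover := Scheme.Cover.mkOfCovers P (fun z => Spec (CommRingCat.of (k z).R))
    (fun z => ch.c (k z)) (fun z => ⟨z, hz z⟩) (fun z => inferInstance)
  apply IsZariskiLocalAtSource.of_openCover 𝒰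
  intro z'
  obtain ⟨z, rfl⟩ : ∃ z : P, z = z' := ⟨z', rfl⟩
  show LocallyOfFiniteType (ch.c (k z) ≫ r)
  obtain ⟨lR, h1, h2, h3⟩ := ch.chart_factor hw r (k z) (Ω z) (hΩ z) (hU z) (hV z)
  rw [h3]
  haveI : IsNoetherianRing Γ(S, Ω z) := IsLocallyNoetherian.component_noetherian ⟨Ω z, hΩ z⟩
  have hft : lR.FiniteType := finiteType_of_FS (k z).fs (k z).p_surjective (q_finite i j (k z)) lR
    (by rw [h2]; exact HasRingHomProperty.appLE @LocallyOfFiniteType (b ≫ r) inferInstance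
          ⟨Ω z, hΩ z⟩ ⟨(k z).V, (k z).hV⟩ _)
    (by rw [h1]; exact HasRingHomProperty.appLE @LocallyOfFiniteType (a ≫ r) inferInstance
          ⟨Ω z, hΩ z⟩ ⟨(k z).U, (k z).hU⟩ _)
  haveI : LocallyOfFiniteType (sp lR) :=
    (HasRingHomProperty.Spec_iff (P := @LocallyOfFiniteType)).mpr hft
  infer_instance

end Charts

end Charts

end Groth.Agent.Lib.Helper22.Ferrand
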