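import Mathlib
import Groth.Agent.Lib.Helper22FerrandFT

/-!
# Helper22: base change of Ferrand pushouts, abstract chart form

Given a pushout `P = X ⊔_Z Y` (`i : Z ⟶ X` a closed immersion, adapted cover) with its system of
charts, a morphism `q : F ⟶ P` and the base changes `FX, FY, FZ`, the base-changed square is a
pushout as soon as `F` is covered by affine charts over which the base-changed square is the
spectrum of a ring fibre square (`FChart`).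
-/

universe u
open AlgebraicGeometry CategoryTheory Limits TopologicalSpace Opposite PrimeSpectrum

namespace Groth.Agent.Lib.Helper22.Ferrand

open Groth.Agent.Lib.Helper22.SpPO

variable {X Y Z : Scheme.{u}} {i : Z ⟶ X} {j : Z ⟶ Y} [IsClosedImmersion i]

/-- Chart data on `F` over a chart of `P`: an affine open `Spec R' ⟶ F` lying over the chart
`Spec k.R ⟶ P`, with the tensored rings and the fibre square property. -/
structure FChart {P : Scheme.{u}} {a : X ⟶ P} {b : Y ⟶ P} (ch : Charts i j a b)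
    {F : Scheme.{u}} (q : F ⟶ P) where
  k : AdPair i j
  R' : Type u
  TA : Type u
  TB : Type u
  TC : Type u
  [cR' : CommRing R']
  [cTA : CommRing TA]
  [cTB : CommRing TB]
  [cTC : CommRing TC]
  ψ : k.R →+* R'
  ιA : R' →+* TA
  κA : k.A' →+* TA
  ιB : R' →+* TB
  κB : k.B →+* TB
  κC : k.A →+* TC
  p' : TA →+* TC
  q' : TB →+* TC
  d : Spec (CommRingCat.of R') ⟶ F
  [hd : IsOpenImmersion d]
  w : d ≫ q = sp ψ ≫ ch.c k
  poA : IsPushout (CommRingCat.ofHom ψ) (CommRingCat.ofHom k.φA) (CommRingCat.ofHom ιA)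
    (CommRingCat.ofHom κA)
  poB : IsPushout (CommRingCat.ofHom ψ) (CommRingCat.ofHom k.φB) (CommRingCat.ofHom ιB)
    (CommRingCat.ofHom κB)
  hpA : p'.comp κA = κC.comp k.p
  hqB : q'.comp κB = κC.comp k.q
  fs : FS p' q' ιB ιA
  hp' : Function.Surjective p'

attribute [instance] FChart.cR' FChart.cTA FChart.cTB FChart.cTC FChart.hd

namespace FChart

variable {P : Scheme.{u}} {a : X ⟶ P} {b : Y ⟶ P} {ch : Charts i j a b}
  {F FX FY FZ : Scheme.{u}} {q : F ⟶ P} (fc : FChart ch q)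
  {pX : FX ⟶ X} {aF : FX ⟶ F} (hFX : IsPullback pX aF a q)
  {pY : FY ⟶ Y} {bF : FY ⟶ F} (hFY : IsPullback pY bF b q)
  {pZ : FZ ⟶ Z} {iF : FZ ⟶ FX} (hFZ : IsPullback pZ iF i pX)

theorem compatX : (sp fc.κA ≫ fc.k.cX) ≫ a = (sp fc.ιA ≫ fc.d) ≫ q := by
  rw [Category.assoc, Category.assoc, ch.cX_a, fc.w, sp_comp_assoc, sp_comp_assoc]
  congr 2
  have := fc.poA.w
  ext x
  exact (congr($(this).hom x)).symm

theorem compatY : (sp fc.κB ≫ fc.k.cY) ≫ b = (sp fc.ιB ≫ fc.d) ≫ q := by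
  rw [Category.assoc, Category.assoc, ch.cY_b, fc.w, sp_comp_assoc, sp_comp_assoc]
  congr 2
  have := fc.poB.w
  ext x
  exact (congr($(this).hom x)).symm

/-- chart of `FX` -/
noncomputable def cFX : Spec (CommRingCat.of fc.TA) ⟶ FX :=
  hFX.lift (sp fc.κA ≫ fc.k.cX) (sp fc.ιA ≫ fc.d) fc.compatX

/-- chart of `FY` -/
noncomputable def cFY : Spec (CommRingCat.of fc.TB) ⟶ FY :=
  hFY.lift (sp fc.κB ≫ fc.k.cY) (sp fc.ιB ≫ fc.d) fc.compatY

@[reassoc]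
theorem cFX_pX : fc.cFX hFX ≫ pX = sp fc.κA ≫ fc.k.cX := hFX.lift_fst _ _ _
@[reassoc]
theorem cFX_aF : fc.cFX hFX ≫ aF = sp fc.ιA ≫ fc.d := hFX.lift_snd _ _ _
@[reassoc]
theorem cFY_pY : fc.cFY hFY ≫ pY = sp fc.κB ≫ fc.k.cY := hFY.lift_fst _ _ _
@[reassoc]
theorem cFY_bF : fc.cFY hFY ≫ bF = sp fc.ιB ≫ fc.d := hFY.lift_snd _ _ _

theorem pbX : IsPullback (fc.cFX hFX) (sp fc.ιA) aF fc.d := by
  have h1 : IsPullback (sp fc.κA) (sp fc.ιA) (sp fc.k.φA) (sp fc.ψ) :=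
    (isPullback_SpecMap_of_isPushout _ _ _ _ fc.poA).flip
  have h2 := h1.paste_horiz (ch.pbX fc.k)
  rw [← fc.w, ← fc.cFX_pX hFX] at h2
  exact IsPullback.of_right h2 (fc.cFX_aF hFX) hFX

theorem pbY : IsPullback (fc.cFY hFY) (sp fc.ιB) bF fc.d := by
  have h1 : IsPullback (sp fc.κB) (sp fc.ιB) (sp fc.k.φB) (sp fc.ψ) :=
    (isPullback_SpecMap_of_isPushout _ _ _ _ fc.poB).flip
  have h2 := h1.paste_horiz (ch.pbY fc.k)
  rw [← fc.w, ← fc.cFY_pY hFY] at h2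
  exact IsPullback.of_right h2 (fc.cFY_bF hFY) hFY

theorem compatZ : (sp fc.κC ≫ fc.k.cZ) ≫ i = (sp fc.p' ≫ fc.cFX hFX) ≫ pX := by
  rw [Category.assoc, Category.assoc, fc.k.cZ_i, fc.cFX_pX hFX, sp_comp_assoc, sp_comp_assoc,
    fc.hpA]

/-- chart of `FZ` -/
noncomputable def cFZ : Spec (CommRingCat.of fc.TC) ⟶ FZ :=
  hFZ.lift (sp fc.κC ≫ fc.k.cZ) (sp fc.p' ≫ fc.cFX hFX) (fc.compatZ hFX)

@[reassoc]
theorem cFZ_pZ : fc.cFZ hFX hFZ ≫ pZ = sp fc.κC ≫ fc.k.cZ := hFZ.lift_fst _ _ _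
@[reassoc]
theorem cFZ_iF : fc.cFZ hFX hFZ ≫ iF = sp fc.p' ≫ fc.cFX hFX := hFZ.lift_snd _ _ _

theorem cFZ_jF {jF : FZ ⟶ FY} (h1 : jF ≫ pY = pZ ≫ j) (h2 : jF ≫ bF = iF ≫ aF) :
    fc.cFZ hFX hFZ ≫ jF = sp fc.q' ≫ fc.cFY hFY := by
  apply hFY.hom_ext
  · rw [Category.assoc, h1, fc.cFZ_pZ_assoc hFX hFZ, Category.assoc, fc.k.cZ_j,
      fc.cFY_pY hFY, sp_comp_assoc, sp_comp_assoc, fc.hqB]
  · rw [Category.assoc, h2, fc.cFZ_iF_assoc hFX hFZ, Category.assoc, fc.cFX_aF hFX,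
      fc.cFY_bF hFY, sp_comp_assoc, sp_comp_assoc]
    congr 2
    ext r
    exact (fc.fs.comm r).symm

end FChart

/-- **Base change of a Ferrand pushout, abstract chart form.** -/
theorem isPushout_of_fcharts {P : Scheme.{u}} {a : X ⟶ P} {b : Y ⟶ P} (ch : Charts i j a b)
    {F FX FY FZ : Scheme.{u}} (q : F ⟶ P)
    {pX : FX ⟶ X} {aF : FX ⟶ F} (hFX : IsPullback pX aF a q)
    {pY : FY ⟶ Y} {bF : FY ⟶ F} (hFY : IsPullback pY bF b q)
    {pZ : FZ ⟶ Z} {iF : FZ ⟶ FX} (hFZ : IsPullback pZ iF i pX)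
    {jF : FZ ⟶ FY} (h1 : jF ≫ pY = pZ ≫ j) (h2 : jF ≫ bF = iF ≫ aF)
    (hcov : ∀ x : F, ∃ fc : FChart ch q, x ∈ Set.range fc.d.base) :
    IsPushout iF jF aF bF := by
  choose fc hfc using hcov
  exact isPushout_of_locally_FS iF jF aF bF h2.symm (ι := F)
    (fun x => (fc x).R') (fun x => (fc x).TC) (fun x => (fc x).TA) (fun x => (fc x).TB)
    (fun x => (fc x).p') (fun x => (fc x).q') (fun x => (fc x).ιB) (fun x => (fc x).ιA)
    (fun x => (fc x).fs) (fun x => (fc x).hp') (fun x => (fc x).d) (fun x => ⟨x, hfc x⟩)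
    (fun x => (fc x).cFX hFX) (fun x => (fc x).cFY hFY) (fun x => (fc x).cFZ hFX hFZ)
    (fun x => (fc x).cFZ_iF hFX hFZ) (fun x => (fc x).cFZ_jF hFX hFY hFZ h1 h2)
    (fun x => (fc x).pbX hFX) (fun x => (fc x).pbY hFY)

end Groth.Agent.Lib.Helper22.Ferrand
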