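import Mathlib
import Groth.Agent.Lib.Helper22SpecPushoutAlg

/-!
# Helper22: tensoring a ring fibre square

`R = B ×_A A'` with `A' → A` surjective, all `Λ`-algebras.  If tensoring with `N` keeps
`R → B × A'` injective, then `N ⊗ R = (N ⊗ B) ×_{N ⊗ A} (N ⊗ A')`.
-/

universe u

namespace Groth.Agent.Lib.Helper22.Ferrand

open Groth.Agent.Lib.Helper22.SpPO TensorProduct

section Tensor

variable {Λ R A A' B : Type u} [CommRing Λ] [CommRing R] [CommRing A] [CommRing A'] [CommRing B]
  [Algebra Λ R] [Algebra Λ A] [Algebra Λ A'] [Algebra Λ B]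
  (p : A' →ₐ[Λ] A) (q : B →ₐ[Λ] A) (φB : R →ₐ[Λ] B) (φA : R →ₐ[Λ] A')

/-- `R → B × A'` -/
noncomputable def fι : R →ₗ[Λ] B × A' := φB.toLinearMap.prod φA.toLinearMap

/-- `B × A' → A`, the difference map. -/
noncomputable def fδ : B × A' →ₗ[Λ] A := q.toLinearMap.coprod (-p.toLinearMap)

theorem fι_apply (x : R) : fι φB φA x = (φB x, φA x) := rfl

theorem fδ_apply (x : B × A') : fδ p q x = q x.1 - p x.2 := by
  simp [fδ, sub_eq_add_neg]

variable {p q φB φA}

theorem fι_injective (hs : FS p.toRingHom q.toRingHom φB.toRingHom φA.toRingHom) :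
    Function.Injective (fι φB φA) := by
  intro x y h
  rw [fι_apply, fι_apply, Prod.mk.injEq] at h
  exact hs.ext h.1 h.2

theorem fδ_surjective (hp : Function.Surjective p) : Function.Surjective (fδ p q) := by
  intro a
  obtain ⟨a', ha'⟩ := hp (-a)
  exact ⟨(0, a'), by rw [fδ_apply, map_zero, ha', zero_sub, neg_neg]⟩

theorem f_exact (hs : FS p.toRingHom q.toRingHom φB.toRingHom φA.toRingHom) :
    Function.Exact (fι φB φA) (fδ p q) := by
  intro x
  constructor
  · intro h
    rw [fδ_apply, sub_eq_zero] at h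
    obtain ⟨r, h1, h2⟩ := hs.ex x.1 x.2 h
    exact ⟨r, Prod.ext h1 h2⟩
  · rintro ⟨r, rfl⟩
    rw [fι_apply, fδ_apply, sub_eq_zero]
    exact hs.comm r

/-- If `A` is flat over `Λ`, tensoring keeps `R → B × A'` injective. -/
theorem lTensor_fι_injective_of_flat (hs : FS p.toRingHom q.toRingHom φB.toRingHom φA.toRingHom)
    (hp : Function.Surjective p) [Module.Flat Λ A]
    (N : Type u) [AddCommGroup N] [Module Λ N] :
    Function.Injective ((fι φB φA).lTensor N) :=
  LinearMap.lTensor_injective_of_exact_of_flat (fδ p q) (fδ_surjective hp)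
    (fι φB φA) (fι_injective hs) (f_exact hs) N

/-- If `N` is flat over `Λ`, tensoring keeps `R → B × A'` injective. -/
theorem lTensor_fι_injective_of_flat' (hs : FS p.toRingHom q.toRingHom φB.toRingHom φA.toRingHom)
    (N : Type u) [AddCommGroup N] [Module Λ N] [Module.Flat Λ N] :
    Function.Injective ((fι φB φA).lTensor N) :=
  Module.Flat.lTensor_preserves_injective_linearMap _ (fι_injective hs)

variable (N : Type u) [CommRing N] [Algebra Λ N]

/-- The tensored square is again a fibre square. -/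
theorem tensor_FS (hs : FS p.toRingHom q.toRingHom φB.toRingHom φA.toRingHom)
    (hp : Function.Surjective p)
    (hinj : Function.Injective ((fι φB φA).lTensor N)) :
    FS (Algebra.TensorProduct.map (AlgHom.id Λ N) p).toRingHom
      (Algebra.TensorProduct.map (AlgHom.id Λ N) q).toRingHom
      (Algebra.TensorProduct.map (AlgHom.id Λ N) φB).toRingHom
      (Algebra.TensorProduct.map (AlgHom.id Λ N) φA).toRingHom := by
  have hex : Function.Exact ((fι φB φA).lTensor N) ((fδ p q).lTensor N) :=
    lTensor_exact N (f_exact hs) (fδ_surjective hp)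
  have hfst : (LinearMap.fst Λ B A') ∘ₗ (fι φB φA) = φB.toLinearMap := by ext; rfl
  have hsnd : (LinearMap.snd Λ B A') ∘ₗ (fι φB φA) = φA.toLinearMap := by ext; rfl
  have hid : (LinearMap.inl Λ B A') ∘ₗ (LinearMap.fst Λ B A') +
      (LinearMap.inr Λ B A') ∘ₗ (LinearMap.snd Λ B A') = LinearMap.id := by
    ext <;> simp
  have hdecomp : ∀ t : N ⊗[Λ] (B × A'),
      t = (LinearMap.inl Λ B A').lTensor N ((LinearMap.fst Λ B A').lTensor N t) +
        (LinearMap.inr Λ B A').lTensor N ((LinearMap.snd Λ B A').lTensor N t) := by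
    intro t
    rw [← LinearMap.comp_apply, ← LinearMap.comp_apply, ← LinearMap.lTensor_comp,
      ← LinearMap.lTensor_comp, ← LinearMap.add_apply, ← LinearMap.lTensor_add, hid,
      LinearMap.lTensor_id, LinearMap.id_apply]
  have hδl : (fδ p q) ∘ₗ (LinearMap.inl Λ B A') = q.toLinearMap := by
    rw [fδ, LinearMap.coprod_inl]
  have hδr : (fδ p q) ∘ₗ (LinearMap.inr Λ B A') = -p.toLinearMap := by
    rw [fδ, LinearMap.coprod_inr]
  have key : ∀ t : N ⊗[Λ] R, (fι φB φA).lTensor N t =
      (LinearMap.inl Λ B A').lTensor N (φB.toLinearMap.lTensor N t) +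
      (LinearMap.inr Λ B A').lTensor N (φA.toLinearMap.lTensor N t) := by
    intro t
    conv_lhs => rw [hdecomp ((fι φB φA).lTensor N t)]
    rw [← hfst, ← hsnd, LinearMap.lTensor_comp, LinearMap.lTensor_comp, LinearMap.comp_apply,
      LinearMap.comp_apply]
  have hmap : ∀ {S T : Type u} [CommRing S] [CommRing T] [Algebra Λ S] [Algebra Λ T]
      (f : S →ₐ[Λ] T) (t : N ⊗[Λ] S),
      (Algebra.TensorProduct.map (AlgHom.id Λ N) f).toRingHom t = f.toLinearMap.lTensor N t := by
    intro S T _ _ _ _ f t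
    rfl
  refine ⟨?_, ?_, ?_⟩
  · intro r
    rw [hmap, hmap, hmap, hmap, ← LinearMap.comp_apply, ← LinearMap.comp_apply,
      ← LinearMap.lTensor_comp, ← LinearMap.lTensor_comp]
    congr 2
    ext x
    exact hs.comm x
  · intro r h1 h2
    rw [hmap] at h1 h2
    apply hinj
    rw [key, h1, h2, map_zero, map_zero, add_zero, map_zero]
  · intro x y hxy
    rw [hmap, hmap] at hxy
    have hw : (fδ p q).lTensor N ((LinearMap.inl Λ B A').lTensor N x +
        (LinearMap.inr Λ B A').lTensor N y) = 0 := by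
      rw [map_add, ← LinearMap.comp_apply, ← LinearMap.comp_apply, ← LinearMap.lTensor_comp,
        ← LinearMap.lTensor_comp, hδl, hδr, LinearMap.lTensor_neg, LinearMap.neg_apply, hxy,
        add_neg_cancel]
    obtain ⟨z, hz⟩ := (hex _).mp hw
    refine ⟨z, ?_, ?_⟩
    · rw [hmap, ← hfst, LinearMap.lTensor_comp, LinearMap.comp_apply, hz, map_add,
        ← LinearMap.comp_apply, ← LinearMap.comp_apply, ← LinearMap.lTensor_comp,
        ← LinearMap.lTensor_comp, LinearMap.fst_comp_inl, LinearMap.fst_comp_inr,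
        LinearMap.lTensor_id, LinearMap.lTensor_zero, LinearMap.id_apply, LinearMap.zero_apply,
        add_zero]
    · rw [hmap, ← hsnd, LinearMap.lTensor_comp, LinearMap.comp_apply, hz, map_add,
        ← LinearMap.comp_apply, ← LinearMap.comp_apply, ← LinearMap.lTensor_comp,
        ← LinearMap.lTensor_comp, LinearMap.snd_comp_inl, LinearMap.snd_comp_inr,
        LinearMap.lTensor_id, LinearMap.lTensor_zero, LinearMap.id_apply, LinearMap.zero_apply,
        zero_add]

theorem tensor_surjective (hp : Function.Surjective p) :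
    Function.Surjective (Algebra.TensorProduct.map (AlgHom.id Λ N) p).toRingHom :=
  LinearMap.lTensor_surjective N (g := p.toLinearMap) hp

end Tensor

end Groth.Agent.Lib.Helper22.Ferrand
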