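import Mathlib
import Groth.Agent.Lib.Helper22FerrandBC
import Groth.Agent.Lib.Helper22FerrandTensor

/-!
# Helper22: tensor charts for base change of Ferrand pushouts; the flat case
-/

universe u
open AlgebraicGeometry CategoryTheory Limits TopologicalSpace Opposite PrimeSpectrum TensorProduct

namespace Groth.Agent.Lib.Helper22.Ferrand

open Groth.Agent.Lib.Helper22.SpPO

theorem tensor_pushout {Λ R S N : Type u} [CommRing Λ] [CommRing R] [CommRing S] [CommRing N]
    [Algebra Λ R] [Algebra Λ S] [Algebra Λ N] (φ : R →ₐ[Λ] S) :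
    IsPushout (CommRingCat.ofHom (Algebra.TensorProduct.includeRight.toRingHom : R →+* N ⊗[Λ] R))
      (CommRingCat.ofHom φ.toRingHom)
      (CommRingCat.ofHom (Algebra.TensorProduct.map (AlgHom.id Λ N) φ).toRingHom)
      (CommRingCat.ofHom (Algebra.TensorProduct.includeRight.toRingHom : S →+* N ⊗[Λ] S)) := by
  have t := (CommRingCat.isPushout_tensorProduct Λ N R).flip
  have s0 := (CommRingCat.isPushout_tensorProduct Λ N S).flip
  have e1 : CommRingCat.ofHom (algebraMap Λ S) =
      CommRingCat.ofHom (algebraMap Λ R) ≫ CommRingCat.ofHom φ.toRingHom := by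
    ext x
    exact (φ.commutes x).symm
  have e2 : CommRingCat.ofHom (S := N ⊗[Λ] S) Algebra.TensorProduct.includeLeftRingHom =
      CommRingCat.ofHom (S := N ⊗[Λ] R) Algebra.TensorProduct.includeLeftRingHom ≫
        CommRingCat.ofHom (Algebra.TensorProduct.map (AlgHom.id Λ N) φ).toRingHom := by
    ext x
    simp
  rw [e1, e2] at s0
  refine (IsPushout.of_left s0 ?_ t).flip
  ext x
  simp

variable {X Y Z : Scheme.{u}} {i : Z ⟶ X} {j : Z ⟶ Y} [IsClosedImmersion i]

/-- A chart of `F` of tensor form. -/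
theorem exists_fchart_tensor {P : Scheme.{u}} {a : X ⟶ P} {b : Y ⟶ P} (ch : Charts i j a b)
    {F : Scheme.{u}} (q : F ⟶ P) (k : AdPair i j)
    {Λ N : Type u} [CommRing Λ] [CommRing N] [Algebra Λ N]
    [Algebra Λ k.R] [Algebra Λ k.A'] [Algebra Λ k.B] [Algebra Λ k.A]
    (pA : k.A' →ₐ[Λ] k.A) (qA : k.B →ₐ[Λ] k.A) (φBA : k.R →ₐ[Λ] k.B) (φAA : k.R →ₐ[Λ] k.A')
    (hp : pA.toRingHom = k.p) (hq : qA.toRingHom = k.q) (hφB : φBA.toRingHom = k.φB)
    (hφA : φAA.toRingHom = k.φA)
    (hinj : Function.Injective ((fι φBA φAA).lTensor N))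
    (d : Spec (CommRingCat.of (N ⊗[Λ] k.R)) ⟶ F) [IsOpenImmersion d]
    (w : d ≫ q = sp (Algebra.TensorProduct.includeRight.toRingHom : k.R →+* N ⊗[Λ] k.R) ≫ ch.c k) :
    ∃ fc : FChart ch q, Set.range fc.d.base = Set.range d.base := by
  have hs : FS pA.toRingHom qA.toRingHom φBA.toRingHom φAA.toRingHom := by
    rw [hp, hq, hφB, hφA]; exact k.fs
  have hps : Function.Surjective pA := by
    have := k.p_surjective
    rw [← hp] at this
    exact this
  refine ⟨{ k := k, R' := N ⊗[Λ] k.R, TA := N ⊗[Λ] k.A', TB := N ⊗[Λ] k.B, TC := N ⊗[Λ] k.A,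
            ψ := Algebra.TensorProduct.includeRight.toRingHom
            ιA := (Algebra.TensorProduct.map (AlgHom.id Λ N) φAA).toRingHom
            κA := Algebra.TensorProduct.includeRight.toRingHom
            ιB := (Algebra.TensorProduct.map (AlgHom.id Λ N) φBA).toRingHom
            κB := Algebra.TensorProduct.includeRight.toRingHom
            κC := Algebra.TensorProduct.includeRight.toRingHom
            p' := (Algebra.TensorProduct.map (AlgHom.id Λ N) pA).toRingHom
            q' := (Algebra.TensorProduct.map (AlgHom.id Λ N) qA).toRingHom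
            d := d
            w := w
            poA := ?_, poB := ?_, hpA := ?_, hqB := ?_
            fs := tensor_FS N hs hps hinj
            hp' := tensor_surjective N hps }, rfl⟩
  · rw [← hφA]; exact tensor_pushout φAA
  · rw [← hφB]; exact tensor_pushout φBA
  · rw [← hp]; ext x; simp
  · rw [← hq]; ext x; simp

/-- A chart of `F` from an affine open of `F` flat over a chart of `P`. -/
theorem exists_fchart_flat {P : Scheme.{u}} {a : X ⟶ P} {b : Y ⟶ P} (ch : Charts i j a b)
    {F : Scheme.{u}} (q : F ⟶ P) (k : AdPair i j)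
    {N : Type u} [CommRing N] (ψ₀ : k.R →+* N) (hψ₀ : ψ₀.Flat)
    (d₀ : Spec (CommRingCat.of N) ⟶ F) [IsOpenImmersion d₀]
    (w₀ : d₀ ≫ q = sp ψ₀ ≫ ch.c k) :
    ∃ fc : FChart ch q, Set.range fc.d.base = Set.range d₀.base := by
  let _ : Algebra k.R N := ψ₀.toAlgebra
  let _ : Algebra k.R k.A' := k.φA.toAlgebra
  let _ : Algebra k.R k.B := k.φB.toAlgebra
  let _ : Algebra k.R k.A := (k.p.comp k.φA).toAlgebra
  have : Module.Flat k.R N := hψ₀
  let pA : k.A' →ₐ[k.R] k.A := { k.p with commutes' := fun _ => rfl }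
  let qA : k.B →ₐ[k.R] k.A := { k.q with commutes' := fun r => k.fs.comm r }
  let φBA : k.R →ₐ[k.R] k.B := { k.φB with commutes' := fun _ => rfl }
  let φAA : k.R →ₐ[k.R] k.A' := { k.φA with commutes' := fun _ => rfl }
  have hs : FS pA.toRingHom qA.toRingHom φBA.toRingHom φAA.toRingHom := k.fs
  let e : N →+* N ⊗[k.R] k.R := Algebra.TensorProduct.includeLeftRingHom
  have he : Function.Bijective e := (Algebra.TensorProduct.rid k.R k.R N).symm.bijective
  have : IsIso (CommRingCat.ofHom e) := by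
    rw [ConcreteCategory.isIso_iff_bijective]; exact he
  have : IsIso (sp e) := by unfold sp; infer_instance
  have hw : (sp e ≫ d₀) ≫ q =
      sp (Algebra.TensorProduct.includeRight.toRingHom : k.R →+* N ⊗[k.R] k.R) ≫ ch.c k := by
    rw [Category.assoc, w₀, sp_comp_assoc]
    congr 2
    ext r
    show (ψ₀ r) ⊗ₜ[k.R] (1 : k.R) = (1 : N) ⊗ₜ[k.R] r
    have : ψ₀ r = r • (1 : N) := by rw [Algebra.smul_def, mul_one]; rfl
    rw [this, TensorProduct.smul_tmul, smul_eq_mul, mul_one]
  obtain ⟨fc, hfc⟩ := exists_fchart_tensor ch q k pA qA φBA φAA rfl rfl rfl rfl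
    (lTensor_fι_injective_of_flat' hs N) (sp e ≫ d₀) hw
  refine ⟨fc, ?_⟩
  rw [hfc, Scheme.Hom.comp_base, TopCat.coe_comp, Set.range_comp, Set.range_eq_univ.mpr,
    Set.image_univ]
  exact (sp e).surjective

end Groth.Agent.Lib.Helper22.Ferrand
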