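import Mathlib
import Groth.Agent.Lib.Helper22FerrandBC2

/-!
# Helper22: flat base change of Ferrand pushouts
-/

universe u
open AlgebraicGeometry CategoryTheory Limits TopologicalSpace Opposite PrimeSpectrum TensorProduct

namespace Groth.Agent.Lib.Helper22.Ferrand

open Groth.Agent.Lib.Helper22.SpPO

variable {X Y Z : Scheme.{u}} (i : Z ⟶ X) (j : Z ⟶ Y) [IsClosedImmersion i]

/-- **Flat base change of a Ferrand pushout.** -/
theorem isPushout_of_flat (hY : ∀ y : Y, ∃ k : AdPair i j, y ∈ k.V)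
    {P : Scheme.{u}} {a : X ⟶ P} {b : Y ⟶ P} (hP : IsPushout i j a b)
    {F FX FY FZ : Scheme.{u}} (q : F ⟶ P) [Flat q]
    {pX : FX ⟶ X} {aF : FX ⟶ F} (hFX : IsPullback pX aF a q)
    {pY : FY ⟶ Y} {bF : FY ⟶ F} (hFY : IsPullback pY bF b q)
    {pZ : FZ ⟶ Z} {iF : FZ ⟶ FX} (hFZ : IsPullback pZ iF i pX)
    {jF : FZ ⟶ FY} (h1 : jF ≫ pY = pZ ≫ j) (h2 : jF ≫ bF = iF ≫ aF) :
    IsPushout iF jF aF bF := by
  obtain ⟨ch⟩ := exists_charts_of_isPushout i j hY a b hP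
  apply isPushout_of_fcharts ch q hFX hFY hFZ h1 h2
  intro x
  obtain ⟨k, hk⟩ := ch.cover (q.base x)
  have hx : x ∈ q ⁻¹ᵁ (ch.c k).opensRange := hk
  obtain ⟨D, hD, hxD, hDle⟩ := (Opens.isBasis_iff_nbhd.mp F.isBasis_affineOpens) hx
  have hD : IsAffineOpen D := hD
  have hrange : Set.range (hD.fromSpec ≫ q).base ⊆ Set.range (ch.c k).base := by
    rintro _ ⟨w, rfl⟩
    have : hD.fromSpec.base w ∈ (D : Set F) := by
      rw [← hD.range_fromSpec]; exact ⟨w, rfl⟩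
    exact hDle this
  let l : Spec Γ(F, D) ⟶ Spec (CommRingCat.of k.R) :=
    IsOpenImmersion.lift (ch.c k) (hD.fromSpec ≫ q) hrange
  have hl : l ≫ ch.c k = hD.fromSpec ≫ q := IsOpenImmersion.lift_fac _ _ _
  let ψ₀ : k.R →+* Γ(F, D) := (Spec.preimage l).hom
  have hψ₀ : sp ψ₀ = l := Spec.map_preimage l
  have hfl : Flat l := by
    have h0 : Flat (l ≫ ch.c k) := by rw [hl]; infer_instance
    have : MorphismProperty.HasOfPostcompProperty @Flat.{u} @IsOpenImmersion.{u} :=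
      instHasOfPostcompPropertySchemeIsOpenImmersionOfIsStableUnderBaseChange _
    exact MorphismProperty.of_postcomp (W := @Flat) (W' := @IsOpenImmersion) l (ch.c k)
      inferInstance h0
  have hψfl : ψ₀.Flat := by
    rw [← hψ₀] at hfl
    exact (HasRingHomProperty.Spec_iff (P := @Flat)).mp hfl
  have w₀ : hD.fromSpec ≫ q = sp ψ₀ ≫ ch.c k := by rw [hψ₀, hl]
  obtain ⟨fc, hfc⟩ := exists_fchart_flat ch q k ψ₀ hψfl hD.fromSpec w₀
  refine ⟨fc, ?_⟩
  rw [hfc, hD.range_fromSpec]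
  exact hxD

end Groth.Agent.Lib.Helper22.Ferrand
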