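import Mathlib
import Groth.Agent.Lib.Helper22FerrandBC2

/-!
# Helper22: base change of Ferrand pushouts along `T ⟶ S` (charts `Spec (Γ(T,D') ⊗ k.R)`)
-/

universe u
open AlgebraicGeometry CategoryTheory Limits TopologicalSpace Opposite PrimeSpectrum TensorProduct

namespace Groth.Agent.Lib.Helper22.Ferrand

open Groth.Agent.Lib.Helper22.SpPO

variable {X Y Z : Scheme.{u}} {i : Z ⟶ X} {j : Z ⟶ Y} [IsClosedImmersion i]

/-- Core construction of a chart of `PT = P ×_S T` of the form `Spec (Γ(T,D') ⊗_{Γ(S,Ω)} k.R)`. -/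
theorem exists_fchart_base_core {P : Scheme.{u}} {a : X ⟶ P} {b : Y ⟶ P} (ch : Charts i j a b)
    {S T PT : Scheme.{u}} (sP : P ⟶ S) (g : T ⟶ S) {pP : PT ⟶ P} {sPT : PT ⟶ T}
    (hPT : IsPullback pP sPT sP g) (k : AdPair i j)
    (Ω : S.Opens) (hΩ : IsAffineOpen Ω) (D' : T.Opens) (hD' : IsAffineOpen D')
    (hle : D' ≤ g ⁻¹ᵁ Ω)
    [Algebra Γ(S, Ω) k.R] [Algebra Γ(S, Ω) k.A'] [Algebra Γ(S, Ω) k.B] [Algebra Γ(S, Ω) k.A]
    [Algebra Γ(S, Ω) Γ(T, D')]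
    (hN : algebraMap Γ(S, Ω) Γ(T, D') = (g.appLE Ω D' hle).hom)
    (pA : k.A' →ₐ[Γ(S, Ω)] k.A) (qA : k.B →ₐ[Γ(S, Ω)] k.A) (φBA : k.R →ₐ[Γ(S, Ω)] k.B)
    (φAA : k.R →ₐ[Γ(S, Ω)] k.A')
    (hp : pA.toRingHom = k.p) (hq : qA.toRingHom = k.q) (hφB : φBA.toRingHom = k.φB)
    (hφA : φAA.toRingHom = k.φA)
    (hc : ch.c k ≫ sP = sp (algebraMap Γ(S, Ω) k.R) ≫ hΩ.fromSpec)
    (hinj : Function.Injective ((fι φBA φAA).lTensor Γ(T, D'))) :
    ∃ fc : FChart ch pP, ∀ x : PT, pP.base x ∈ Set.range (ch.c k).base → sPT.base x ∈ D' →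
      x ∈ Set.range fc.d.base := by
  have e₁ : sp (algebraMap Γ(S, Ω) Γ(T, D')) ≫ hΩ.fromSpec = hD'.fromSpec ≫ g := by
    rw [hN]; exact IsAffineOpen.SpecMap_appLE_fromSpec g hΩ hD' hle
  have e₂ : sp (algebraMap Γ(S, Ω) k.R) ≫ hΩ.fromSpec = ch.c k ≫ sP := hc.symm
  let m := pullback.map (sp (algebraMap Γ(S, Ω) Γ(T, D'))) (sp (algebraMap Γ(S, Ω) k.R)) g sP
    hD'.fromSpec (ch.c k) hΩ.fromSpec e₁ e₂
  have hm : IsOpenImmersion m := by infer_instance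
  let d : Spec (CommRingCat.of (Γ(T, D') ⊗[Γ(S, Ω)] k.R)) ⟶ PT :=
    (pullbackSpecIso Γ(S, Ω) Γ(T, D') k.R).inv ≫ m ≫ hPT.flip.isoPullback.inv
  have hd : IsOpenImmersion d := by infer_instance
  have w : d ≫ pP = sp (Algebra.TensorProduct.includeRight.toRingHom :
      k.R →+* Γ(T, D') ⊗[Γ(S, Ω)] k.R) ≫ ch.c k := by
    simp only [d, m, Category.assoc, IsPullback.isoPullback_inv_snd, pullback.map]
    rw [pullback.lift_snd, ← Category.assoc, pullbackSpecIso_inv_snd]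
    rfl
  obtain ⟨fc, hfc⟩ := exists_fchart_tensor ch pP k pA qA φBA φAA hp hq hφB hφA hinj d w
  refine ⟨fc, ?_⟩
  intro x hx1 hx2
  rw [hfc]
  have hxm : hPT.flip.isoPullback.hom.base x ∈ Set.range m.base := by
    rw [Scheme.Pullback.range_map, Set.mem_inter_iff, Set.mem_preimage, Set.mem_preimage,
      ← Scheme.Hom.comp_apply, ← Scheme.Hom.comp_apply, IsPullback.isoPullback_hom_fst,
      IsPullback.isoPullback_hom_snd, hD'.range_fromSpec]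
    exact ⟨hx2, hx1⟩
  obtain ⟨y, hy⟩ := hxm
  obtain ⟨y', rfl⟩ := (pullbackSpecIso Γ(S, Ω) Γ(T, D') k.R).inv.surjective y
  refine ⟨y', ?_⟩
  have h3 : d.base y' = hPT.flip.isoPullback.inv.base
      (m.base ((pullbackSpecIso Γ(S, Ω) Γ(T, D') k.R).inv.base y')) := rfl
  rw [h3]
  have h4 : hPT.flip.isoPullback.inv.base (hPT.flip.isoPullback.hom.base x) = x := by
    have := congr($(hPT.flip.isoPullback.hom_inv_id).base x)
    exact this
  exact (congrArg hPT.flip.isoPullback.inv.base hy).trans h4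

end Groth.Agent.Lib.Helper22.Ferrand

namespace Groth.Agent.Lib.Helper22.Ferrand

open Groth.Agent.Lib.Helper22.SpPO

variable {X Y Z : Scheme.{u}} (i : Z ⟶ X) (j : Z ⟶ Y) [IsClosedImmersion i]

/-- **Arbitrary base change of a Ferrand pushout over `S` when `Z` is flat over `S`.** -/
theorem isPushout_of_flat_corner (hY : ∀ y : Y, ∃ k : AdPair i j, y ∈ k.V)
    {P : Scheme.{u}} {a : X ⟶ P} {b : Y ⟶ P} (hP : IsPushout i j a b)
    {S T PT : Scheme.{u}} (sP : P ⟶ S) (hfl : Flat (i ≫ a ≫ sP)) (g : T ⟶ S)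
    {pP : PT ⟶ P} {sPT : PT ⟶ T} (hPT : IsPullback pP sPT sP g)
    {FX FY FZ : Scheme.{u}}
    {pX : FX ⟶ X} {aF : FX ⟶ PT} (hFX : IsPullback pX aF a pP)
    {pY : FY ⟶ Y} {bF : FY ⟶ PT} (hFY : IsPullback pY bF b pP)
    {pZ : FZ ⟶ Z} {iF : FZ ⟶ FX} (hFZ : IsPullback pZ iF i pX)
    {jF : FZ ⟶ FY} (h1 : jF ≫ pY = pZ ≫ j) (h2 : jF ≫ bF = iF ≫ aF) :
    IsPushout iF jF aF bF := by
  obtain ⟨ch⟩ := exists_charts_of_isPushout i j hY a b hP
  apply isPushout_of_fcharts ch pP hFX hFY hFZ h1 h2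
  intro x
  obtain ⟨k, Ω, hΩ, hz, hU, hV⟩ := ch.small_cover sP (pP.base x)
  obtain ⟨lR, hl1, hl2, hl3⟩ := ch.chart_factor hP.w sP k Ω hΩ hU hV
  have hxΩ : sPT.base x ∈ g ⁻¹ᵁ Ω := by
    obtain ⟨w, hw⟩ := hz
    have e1 : g.base (sPT.base x) = sP.base (pP.base x) := (congr($(hPT.w).base x)).symm
    have e2 : sP.base ((ch.c k).base w) = hΩ.fromSpec.base ((sp lR).base w) :=
      congr($(hl3).base w)
    show g.base (sPT.base x) ∈ Ω
    rw [e1, ← hw, e2]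
    have : hΩ.fromSpec.base ((sp lR).base w) ∈ Set.range hΩ.fromSpec.base := ⟨_, rfl⟩
    rw [hΩ.range_fromSpec] at this
    exact this
  obtain ⟨D', hD', hxD', hD'le⟩ := (Opens.isBasis_iff_nbhd.mp T.isBasis_affineOpens) hxΩ
  have hD' : IsAffineOpen D' := hD'
  let _ : Algebra Γ(S, Ω) Γ(T, D') := (g.appLE Ω D' hD'le).hom.toAlgebra
  let _ : Algebra Γ(S, Ω) k.R := lR.toAlgebra
  let _ : Algebra Γ(S, Ω) k.A' := (k.φA.comp lR).toAlgebra
  let _ : Algebra Γ(S, Ω) k.B := (k.φB.comp lR).toAlgebra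
  let _ : Algebra Γ(S, Ω) k.A := (k.p.comp (k.φA.comp lR)).toAlgebra
  let pA : k.A' →ₐ[Γ(S, Ω)] k.A := { k.p with commutes' := fun _ => rfl }
  let qA : k.B →ₐ[Γ(S, Ω)] k.A := { k.q with commutes' := fun r => k.fs.comm (lR r) }
  let φBA : k.R →ₐ[Γ(S, Ω)] k.B := { k.φB with commutes' := fun _ => rfl }
  let φAA : k.R →ₐ[Γ(S, Ω)] k.A' := { k.φA with commutes' := fun _ => rfl }
  have hs : FS pA.toRingHom qA.toRingHom φBA.toRingHom φAA.toRingHom := k.fs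
  have hps : Function.Surjective pA := k.p_surjective
  have hflat : (k.p.comp (k.φA.comp lR)).Flat := by
    rw [hl1]
    unfold AdPair.p
    rw [← CommRingCat.hom_comp, Scheme.Hom.appLE_comp_appLE]
    exact HasRingHomProperty.appLE @Flat (i ≫ a ≫ sP) hfl ⟨Ω, hΩ⟩ ⟨k.W, k.hW⟩ _
  have : Module.Flat Γ(S, Ω) k.A := hflat
  have hinj := lTensor_fι_injective_of_flat hs hps Γ(T, D')
  obtain ⟨fc, hfc⟩ := exists_fchart_base_core ch sP g hPT k Ω hΩ D' hD' hD'le rfl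
    pA qA φBA φAA rfl rfl rfl rfl hl3 hinj
  exact ⟨fc, hfc x hz hxD'⟩

end Groth.Agent.Lib.Helper22.Ferrand
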