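import Mathlib
import Groth.Agent.Lib.Helper22FerrandBC4
import Groth.Agent.Lib.Helper22FlatExact

/-!
# Helper22: flatness of a Ferrand pushout over a base
-/

universe u
open AlgebraicGeometry CategoryTheory Limits TopologicalSpace Opposite PrimeSpectrum TensorProduct

namespace Groth.Agent.Lib.Helper22.Ferrand

open Groth.Agent.Lib.Helper22.SpPO

section Alg

variable {Λ R A A' B : Type u} [CommRing Λ] [CommRing R] [CommRing A] [CommRing A'] [CommRing B]
  [Algebra Λ R] [Algebra Λ A] [Algebra Λ A'] [Algebra Λ B]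
  {p : A' →ₐ[Λ] A} {q : B →ₐ[Λ] A} {φB : R →ₐ[Λ] B} {φA : R →ₐ[Λ] A'}

/-- A fibre product of flat algebras over a flat corner is flat. -/
theorem flat_of_FS (hs : FS p.toRingHom q.toRingHom φB.toRingHom φA.toRingHom)
    (hp : Function.Surjective p) [Module.Flat Λ B] [Module.Flat Λ A'] [Module.Flat Λ A] :
    Module.Flat Λ R := by
  have : Module.Flat Λ (B × A') := Groth.Agent.Lib.Helper22.flat_prod
  exact Groth.Agent.Lib.Helper22.flat_of_exact_of_flat_flat (fι φB φA) (fδ p q) (fι_injective hs)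
    (fδ_surjective hp) (f_exact hs)

end Alg

variable {X Y Z : Scheme.{u}} {i : Z ⟶ X} {j : Z ⟶ Y} [IsClosedImmersion i]

namespace Charts

variable {P : Scheme.{u}} {a : X ⟶ P} {b : Y ⟶ P} (ch : Charts i j a b)

set_option backward.isDefEq.respectTransparency.types false in
include ch in
theorem flat (hw : i ≫ a = j ≫ b) {S : Scheme.{u}} (r : P ⟶ S)
    (hA : Flat (a ≫ r)) (hB : Flat (b ≫ r)) (hC : Flat (i ≫ a ≫ r)) : Flat r := by
  choose k Ω hΩ hz hU hV using ch.small_cover r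
  let 𝒰 : P.OpenCover := Scheme.Cover.mkOfCovers P (fun z => Spec (CommRingCat.of (k z).R))
    (fun z => ch.c (k z)) (fun z => ⟨z, hz z⟩) (fun z => inferInstance)
  apply IsZariskiLocalAtSource.of_openCover 𝒰
  intro z'
  obtain ⟨z, rfl⟩ : ∃ z : P, z = z' := ⟨z', rfl⟩
  show Flat (ch.c (k z) ≫ r)
  obtain ⟨lR, h1, h2, h3⟩ := ch.chart_factor hw r (k z) (Ω z) (hΩ z) (hU z) (hV z)
  rw [h3]
  let _ : Algebra Γ(S, Ω z) (k z).R := lR.toAlgebra
  let _ : Algebra Γ(S, Ω z) (k z).A' := ((k z).φA.comp lR).toAlgebra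
  let _ : Algebra Γ(S, Ω z) (k z).B := ((k z).φB.comp lR).toAlgebra
  let _ : Algebra Γ(S, Ω z) (k z).A := ((k z).p.comp ((k z).φA.comp lR)).toAlgebra
  let pA : (k z).A' →ₐ[Γ(S, Ω z)] (k z).A := { (k z).p with commutes' := fun _ => rfl }
  let qA : (k z).B →ₐ[Γ(S, Ω z)] (k z).A :=
    { (k z).q with commutes' := fun r => (k z).fs.comm (lR r) }
  let φBA : (k z).R →ₐ[Γ(S, Ω z)] (k z).B := { (k z).φB with commutes' := fun _ => rfl }
  let φAA : (k z).R →ₐ[Γ(S, Ω z)] (k z).A' := { (k z).φA with commutes' := fun _ => rfl }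
  have hs : FS pA.toRingHom qA.toRingHom φBA.toRingHom φAA.toRingHom := (k z).fs
  have hps : Function.Surjective pA := (k z).p_surjective
  have hflA' : ((k z).φA.comp lR).Flat := by
    rw [h1]
    exact HasRingHomProperty.appLE @Flat (a ≫ r) hA ⟨Ω z, hΩ z⟩ ⟨(k z).U, (k z).hU⟩ _
  have hflB : ((k z).φB.comp lR).Flat := by
    rw [h2]
    exact HasRingHomProperty.appLE @Flat (b ≫ r) hB ⟨Ω z, hΩ z⟩ ⟨(k z).V, (k z).hV⟩ _
  have hflA : ((k z).p.comp ((k z).φA.comp lR)).Flat := by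
    rw [h1]
    unfold AdPair.p
    rw [← CommRingCat.hom_comp, Scheme.Hom.appLE_comp_appLE]
    exact HasRingHomProperty.appLE @Flat (i ≫ a ≫ r) hC ⟨Ω z, hΩ z⟩ ⟨(k z).W, (k z).hW⟩ _
  have : Module.Flat Γ(S, Ω z) (k z).A' := hflA'
  have : Module.Flat Γ(S, Ω z) (k z).B := hflB
  have : Module.Flat Γ(S, Ω z) (k z).A := hflA
  have hfl : lR.Flat := flat_of_FS hs hps
  have : Flat (sp lR) := (HasRingHomProperty.Spec_iff (P := @Flat)).mpr hfl
  infer_instance

end Charts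

end Groth.Agent.Lib.Helper22.Ferrand
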