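import Mathlib
import Groth.Agent.Lib.Helper22FerrandBC4

/-!
# Helper22: auxiliary facts for base change of Ferrand pushouts with projective cokernel
-/

universe u
open AlgebraicGeometry CategoryTheory Limits TopologicalSpace Opposite PrimeSpectrum TensorProduct

namespace Groth.Agent.Lib.Helper22.Ferrand

open Groth.Agent.Lib.Helper22.SpPO

section Alg

variable {Λ R A A' B : Type u} [CommRing Λ] [CommRing R] [CommRing A] [CommRing A'] [CommRing B]
  [Algebra Λ R] [Algebra Λ A] [Algebra Λ A'] [Algebra Λ B]
  {p : A' →ₐ[Λ] A} {q : B →ₐ[Λ] A} {φB : R →ₐ[Λ] B} {φA : R →ₐ[Λ] A'}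

theorem φA_injective_of_q_injective
    (hs : FS p.toRingHom q.toRingHom φB.toRingHom φA.toRingHom) (hq : Function.Injective q) :
    Function.Injective φA := by
  rw [injective_iff_map_eq_zero]
  intro r hr
  have h1 : q (φB r) = p (φA r) := hs.comm r
  rw [hr, map_zero] at h1
  have h2 : φB r = 0 := hq (by rw [h1, map_zero])
  exact hs.inj r h2 hr

/-- If `R → A'` is injective with flat cokernel `Q`, tensoring keeps `R → B × A'` injective. -/
theorem lTensor_fι_injective_of_exact {Q : Type u} [AddCommGroup Q] [Module Λ Q] [Module.Flat Λ Q]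
    (π : A' →ₗ[Λ] Q) (hπ : Function.Surjective π) (hφA : Function.Injective φA)
    (hex : Function.Exact φA.toLinearMap π)
    (N : Type u) [AddCommGroup N] [Module Λ N] :
    Function.Injective ((fι φB φA).lTensor N) := by
  have h1 : Function.Injective (φA.toLinearMap.lTensor N) :=
    LinearMap.lTensor_injective_of_exact_of_flat π hπ φA.toLinearMap hφA hex N
  have h2 : (LinearMap.snd Λ B A').lTensor N ∘ₗ (fι φB φA).lTensor N = φA.toLinearMap.lTensor N := by
    rw [← LinearMap.lTensor_comp]
    rfl
  have h3 : Function.Injective ((LinearMap.snd Λ B A').lTensor N ∘ₗ (fι φB φA).lTensor N) := by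
    rw [h2]; exact h1
  exact Function.Injective.of_comp h3

end Alg

variable {X Y Z : Scheme.{u}} (i : Z ⟶ X) (j : Z ⟶ Y) [IsClosedImmersion i]

theorem pbZ' (k : AdPair i j) : IsPullback k.cZ (sp k.q) j k.cY := by
  refine (IsOpenImmersion.isPullback (sp k.q) k.cZ k.cY j k.cZ_j ?_).flip
  show j ⁻¹ᵁ k.hV.fromSpec.opensRange = k.hW.fromSpec.opensRange
  rw [k.hV.opensRange_fromSpec, k.hW.opensRange_fromSpec]
  exact k.eq.symm

theorem q_injective [Flat j] [Surjective j] (k : AdPair i j) : Function.Injective k.q := by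
  have h1 : Flat (sp k.q) :=
    MorphismProperty.of_isPullback (P := @Flat) (pbZ' i j k) inferInstance
  have h2 : Surjective (sp k.q) :=
    MorphismProperty.of_isPullback (P := @Surjective) (pbZ' i j k) inferInstance
  have := (flat_and_surjective_SpecMap_iff (CommRingCat.ofHom k.q)).mp ⟨h1, h2⟩
  exact this.injective

end Groth.Agent.Lib.Helper22.Ferrand
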