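import Mathlib
import Groth.Agent.Lib.Helper22FerrandProp

universe u
open AlgebraicGeometry CategoryTheory Limits TopologicalSpace Opposite PrimeSpectrum

namespace Groth.Agent.Lib.Helper22.Ferrand

open Groth.Agent.Lib.Helper22.SpPO

/-- **Avoidance over an integral fibre.** If `C₁` is integral over `B₁`, `P` is a prime of `B₁`,
and finitely many elements `a ∈ s` of `C₀` have no common zero (after `ψ : C₀ → C₁`) on the fibre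
over `P`, then a single element of the ideal they generate is nowhere zero on that fibre. -/
theorem exists_mem_span_notMem_of_isIntegral {C₀ C₁ B₁ : Type u} [CommRing C₀] [CommRing C₁]
    [CommRing B₁] [Algebra B₁ C₁] [Algebra.IsIntegral B₁ C₁]
    (ψ : C₀ →+* C₁) (s : Finset C₀) (P : PrimeSpectrum B₁)
    (hs : ∀ 𝔮 : PrimeSpectrum C₁, comap (algebraMap B₁ C₁) 𝔮 = P → ∃ a ∈ s, ψ a ∉ 𝔮.asIdeal) :
    ∃ a ∈ Ideal.span (s : Set C₀), ∀ 𝔮 : PrimeSpectrum C₁,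
      comap (algebraMap B₁ C₁) 𝔮 = P → ψ a ∉ 𝔮.asIdeal := by
  classical
  let B' : Subalgebra B₁ C₁ := Algebra.adjoin B₁ (ψ '' (s : Set C₀))
  haveI : Module.Finite B₁ B' := Algebra.finite_adjoin_of_finite_of_isIntegral
    (s.finite_toSet.image ψ) (fun x _ => Algebra.IsIntegral.isIntegral x)
  let A₁ : Subring C₀ := B'.toSubring.comap ψ
  have hsA : ∀ a ∈ s, a ∈ A₁ := fun a ha =>
    Algebra.subset_adjoin (Set.mem_image_of_mem ψ ha)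
  let ψ₁ : A₁ →+* B' := (ψ.comp A₁.subtype).codRestrict B'.toSubring (fun x => x.2)
  have hψ₁ : ∀ x : A₁, ((ψ₁ x : B') : C₁) = ψ (x : C₀) := fun x => rfl
  let I : Ideal A₁ := Ideal.span {x : A₁ | (x : C₀) ∈ s}
  have hfin : (comap (algebraMap B₁ B') ⁻¹' {P}).Finite :=
    Algebra.QuasiFinite.finite_comap_preimage_singleton P
  let S₀ : Set (PrimeSpectrum A₁) :=
    {𝔭 | 𝔭 ∈ comap ψ₁ '' (comap (algebraMap B₁ B') ⁻¹' {P}) ∧ ¬ I ≤ 𝔭.asIdeal}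
  have hS₀ : S₀.Finite := (hfin.image _).subset (fun 𝔭 h => h.1)
  -- prime avoidance
  have havoid : ∃ x ∈ I, ∀ 𝔭 ∈ S₀, x ∉ 𝔭.asIdeal := by
    by_contra h
    push_neg at h
    obtain ⟨𝔭₀, -, -⟩ := h 0 I.zero_mem
    have hsub : (I : Set A₁) ⊆ ⋃ 𝔭 ∈ (hS₀.toFinset : Set (PrimeSpectrum A₁)), 𝔭.asIdeal := by
      intro x hx
      obtain ⟨𝔭, h𝔭, hx𝔭⟩ := h x hx
      exact Set.mem_biUnion (by simpa using h𝔭) hx𝔭
    obtain ⟨𝔭, h𝔭, hI𝔭⟩ := (Ideal.subset_union_prime (f := fun 𝔭 : PrimeSpectrum A₁ => 𝔭.asIdeal)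
      𝔭₀ 𝔭₀ (fun 𝔭 _ _ _ => 𝔭.2)).mp hsub
    have : 𝔭 ∈ S₀ := by simpa using h𝔭
    exact this.2 hI𝔭
  obtain ⟨x, hxI, hx⟩ := havoid
  refine ⟨(x : C₀), ?_, ?_⟩
  · have : (A₁.subtype x) ∈ Ideal.map A₁.subtype I := Ideal.mem_map_of_mem _ hxI
    rw [Ideal.map_span] at this
    refine Ideal.span_mono ?_ this
    rintro _ ⟨y, hy, rfl⟩
    exact hy
  · intro 𝔮 h𝔮
    let 𝔓 : PrimeSpectrum B' := comap (algebraMap B' C₁) 𝔮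
    have h𝔓 : 𝔓 ∈ comap (algebraMap B₁ B') ⁻¹' {P} := by
      show comap (algebraMap B₁ B') (comap (algebraMap B' C₁) 𝔮) = P
      rw [← comap_comp_apply, ← IsScalarTower.algebraMap_eq]
      exact h𝔮
    have hI : ¬ I ≤ (comap ψ₁ 𝔓).asIdeal := by
      intro hle
      obtain ⟨a, ha, haq⟩ := hs 𝔮 h𝔮
      have : (⟨a, hsA a ha⟩ : A₁) ∈ I := Ideal.subset_span ha
      have h2 := hle this
      exact haq h2
    have := hx (comap ψ₁ 𝔓) ⟨⟨𝔓, h𝔓, rfl⟩, hI⟩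
    exact this

theorem mem_basicOpen_iff_primeIdealOf {X : Scheme.{u}} {U : X.Opens} (hU : IsAffineOpen U)
    (x : U) (f : Γ(X, U)) :
    (x : X) ∈ X.basicOpen f ↔ f ∉ (hU.primeIdealOf x).asIdeal := by
  have h1 : hU.primeIdealOf x ∈ hU.fromSpec ⁻¹ᵁ X.basicOpen f ↔ (x : X) ∈ X.basicOpen f := by
    show hU.fromSpec.base (hU.primeIdealOf x) ∈ X.basicOpen f ↔ _
    rw [hU.fromSpec_primeIdealOf x]
  rw [← h1, hU.fromSpec_preimage_basicOpen]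
  rfl

/-- For an integral morphism, a fibre contained in an affine open `W₀` of the source has a
principal open neighbourhood in `W₀` inside any `j⁻¹ V₁ ⊆ W₀`. -/
theorem exists_basicOpen_fibre {Y Z : Scheme.{u}} (j : Z ⟶ Y) [IsIntegralHom j] (y : Y)
    (V₁ : Y.Opens) (hV₁ : IsAffineOpen V₁) (hy : y ∈ V₁) (W₀ : Z.Opens) (hW₀ : IsAffineOpen W₀)
    (hle : j ⁻¹ᵁ V₁ ≤ W₀) :
    ∃ f : Γ(Z, W₀), j.base ⁻¹' {y} ⊆ (Z.basicOpen f : Set Z) ∧ Z.basicOpen f ≤ j ⁻¹ᵁ V₁ := by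
  classical
  have hW₁ : IsAffineOpen (j ⁻¹ᵁ V₁) := hV₁.preimage j
  -- finite cover of `W₁` by basic opens of `W₀`
  have hex : ∀ ζ : (j ⁻¹ᵁ V₁ : Z.Opens), ∃ f : Γ(Z, W₀), Z.basicOpen f ≤ j ⁻¹ᵁ V₁ ∧
      (ζ : Z) ∈ Z.basicOpen f := fun ζ => hW₀.exists_basicOpen_le ζ (hle ζ.2)
  choose F hF1 hF2 using hex
  obtain ⟨t, ht⟩ := hW₁.isCompact.elim_finite_subcover
    (fun ζ : (j ⁻¹ᵁ V₁ : Z.Opens) => (Z.basicOpen (F ζ) : Set Z))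
    (fun ζ => (Z.basicOpen (F ζ)).isOpen)
    (fun ζ hζ => Set.mem_iUnion.mpr ⟨⟨ζ, hζ⟩, hF2 ⟨ζ, hζ⟩⟩)
  let s : Finset Γ(Z, W₀) := t.image F
  have hs1 : ∀ a ∈ s, Z.basicOpen a ≤ j ⁻¹ᵁ V₁ := by
    intro a ha
    obtain ⟨ζ, -, rfl⟩ := Finset.mem_image.mp ha
    exact hF1 ζ
  have hs2 : ∀ ζ : Z, ζ ∈ j ⁻¹ᵁ V₁ → ∃ a ∈ s, ζ ∈ Z.basicOpen a := by
    intro ζ hζ
    obtain ⟨ζ', hζ', hmem⟩ := Set.mem_iUnion₂.mp (ht hζ)
    exact ⟨F ζ', Finset.mem_image_of_mem F hζ', hmem⟩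
  letI : Algebra Γ(Y, V₁) Γ(Z, j ⁻¹ᵁ V₁) := (j.app V₁).hom.toAlgebra
  haveI : Algebra.IsIntegral Γ(Y, V₁) Γ(Z, j ⁻¹ᵁ V₁) := ⟨j.isIntegral_app V₁ hV₁⟩
  have hres : ∀ a : Γ(Z, W₀), Z.basicOpen (res hle a) = j ⁻¹ᵁ V₁ ⊓ Z.basicOpen a := by
    intro a
    unfold res
    rw [Scheme.basicOpen_res]
  obtain ⟨a, haspan, ha⟩ := exists_mem_span_notMem_of_isIntegral (res hle) s
    (hV₁.primeIdealOf ⟨y, hy⟩) (by
      intro 𝔮 _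
      have hζ : hW₁.fromSpec.base 𝔮 ∈ j ⁻¹ᵁ V₁ := by
        have : hW₁.fromSpec.base 𝔮 ∈ Set.range hW₁.fromSpec.base := ⟨𝔮, rfl⟩
        rw [hW₁.range_fromSpec] at this
        exact this
      obtain ⟨a, has, hmem⟩ := hs2 _ hζ
      refine ⟨a, has, ?_⟩
      have h2 : hW₁.fromSpec.base 𝔮 ∈ Z.basicOpen (res hle a) := by
        rw [hres]; exact ⟨hζ, hmem⟩
      have h3 : 𝔮 ∈ hW₁.fromSpec ⁻¹ᵁ Z.basicOpen (res hle a) := h2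
      rw [hW₁.fromSpec_preimage_basicOpen] at h3
      exact h3)
  refine ⟨a, ?_, ?_⟩
  · intro ζ hζy
    have hζy' : j.base ζ = y := hζy
    have hζ : ζ ∈ j ⁻¹ᵁ V₁ := by
      show j.base ζ ∈ V₁
      rw [hζy']; exact hy
    have hcomap : comap (algebraMap Γ(Y, V₁) Γ(Z, j ⁻¹ᵁ V₁)) (hW₁.primeIdealOf ⟨ζ, hζ⟩) =
        hV₁.primeIdealOf ⟨y, hy⟩ := by
      have := IsAffineOpen.comap_primeIdealOf_appLE (f := j) (x := ζ) V₁ hV₁ (j ⁻¹ᵁ V₁) hW₁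
        le_rfl hζ
      have e : (⟨j.base ζ, hζ⟩ : V₁) = ⟨y, hy⟩ := Subtype.ext hζy'
      rw [e] at this
      rw [← this]
      congr 1
      show (j.app V₁).hom = (j.appLE V₁ (j ⁻¹ᵁ V₁) le_rfl).hom
      rw [Scheme.Hom.appLE_eq_app]
    have h1 := ha _ hcomap
    have h2 : ζ ∈ Z.basicOpen (res hle a) :=
      (mem_basicOpen_iff_primeIdealOf hW₁ ⟨ζ, hζ⟩ (res hle a)).mpr h1
    rw [hres] at h2
    exact h2.2
  · intro x hx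
    have hxW₀ : x ∈ W₀ := Z.basicOpen_le _ hx
    have h1 : a ∉ (hW₀.primeIdealOf ⟨x, hxW₀⟩).asIdeal :=
      (mem_basicOpen_iff_primeIdealOf hW₀ ⟨x, hxW₀⟩ a).mp hx
    have h2 : ∃ b ∈ s, b ∉ (hW₀.primeIdealOf ⟨x, hxW₀⟩).asIdeal := by
      by_contra hcon
      push_neg at hcon
      exact h1 (Ideal.span_le.mpr (fun b hb => hcon b hb) haspan)
    obtain ⟨b, hbs, hb⟩ := h2
    exact hs1 b hbs ((mem_basicOpen_iff_primeIdealOf hW₀ ⟨x, hxW₀⟩ b).mpr hb)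

/-- Shrinking for closed maps: a basic open neighbourhood of `y` whose preimage lies in a given
open neighbourhood of the fibre. -/
theorem exists_basicOpen_fibre_le {Y Z : Scheme.{u}} (j : Z ⟶ Y) (hj : IsClosedMap j.base) (y : Y)
    (V₀ : Y.Opens) (hV₀ : IsAffineOpen V₀) (hy : y ∈ V₀) (O : Z.Opens)
    (hO : j.base ⁻¹' {y} ⊆ (O : Set Z)) :
    ∃ g : Γ(Y, V₀), y ∈ Y.basicOpen g ∧ j ⁻¹ᵁ Y.basicOpen g ≤ O := by
  have hcl : IsClosed (j.base '' (O : Set Z)ᶜ) := hj _ O.2.isClosed_compl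
  let V : Y.Opens := ⟨(j.base '' (O : Set Z)ᶜ)ᶜ, hcl.isOpen_compl⟩
  have hyV : y ∈ V := by
    rintro ⟨z', hz', e⟩
    exact hz' (hO e)
  obtain ⟨g, hg1, hg2⟩ := hV₀.exists_basicOpen_le ⟨y, hyV⟩ hy
  refine ⟨g, hg2, ?_⟩
  intro z' hz'
  by_contra hcon
  exact hg1 hz' ⟨z', hcon, rfl⟩

theorem exists_adPair_integral {X Y Z : Scheme.{u}} (i : Z ⟶ X) (j : Z ⟶ Y)
    [IsClosedImmersion i] [IsIntegralHom j]
    (haff : ∀ y : Y, ∃ U : X.Opens, IsAffineOpen U ∧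
      j.base ⁻¹' {y} ⊆ ((i ⁻¹ᵁ U : Z.Opens) : Set Z)) (y : Y) :
    ∃ k : AdPair i j, y ∈ k.V := by
  obtain ⟨U₀, hU₀, hfib⟩ := haff y
  obtain ⟨V₀, hV₀, hyV₀⟩ := exists_affine_nhd y
  have hW₀ : IsAffineOpen (i ⁻¹ᵁ U₀) := hU₀.preimage i
  -- step 1
  obtain ⟨g₁, hg₁y, hg₁⟩ := exists_basicOpen_fibre_le j j.isClosedMap y V₀ hV₀ hyV₀ (i ⁻¹ᵁ U₀) hfib
  have hV₁ : IsAffineOpen (Y.basicOpen g₁) := hV₀.basicOpen g₁
  -- step 2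
  obtain ⟨fbar, hf1, hf2⟩ := exists_basicOpen_fibre j y (Y.basicOpen g₁) hV₁ hg₁y (i ⁻¹ᵁ U₀) hW₀ hg₁
  -- step 3
  obtain ⟨f, hf⟩ := i.app_surjective U₀ hU₀ fbar
  have hU₁ : IsAffineOpen (X.basicOpen f) := hU₀.basicOpen f
  have hiU₁ : i ⁻¹ᵁ X.basicOpen f = Z.basicOpen fbar := by
    rw [Scheme.preimage_basicOpen]
    exact congrArg _ hf
  -- step 4
  obtain ⟨g₂, hg₂y, hg₂⟩ := exists_basicOpen_fibre_le j j.isClosedMap y (Y.basicOpen g₁) hV₁ hg₁y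
    (i ⁻¹ᵁ X.basicOpen f) (by rw [hiU₁]; exact hf1)
  have hV₂ : IsAffineOpen (Y.basicOpen g₂) := hV₁.basicOpen g₂
  -- step 5
  have hle : i ⁻¹ᵁ X.basicOpen f ≤ j ⁻¹ᵁ Y.basicOpen g₁ := by rw [hiU₁]; exact hf2
  let g' : Γ(Z, i ⁻¹ᵁ X.basicOpen f) := (j.appLE (Y.basicOpen g₁) (i ⁻¹ᵁ X.basicOpen f) hle).hom g₂
  have hg' : Z.basicOpen g' = j ⁻¹ᵁ Y.basicOpen g₂ := by
    show Z.basicOpen ((j.appLE (Y.basicOpen g₁) (i ⁻¹ᵁ X.basicOpen f) hle).hom g₂) = _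
    rw [Scheme.basicOpen_appLE]
    exact inf_eq_right.mpr hg₂
  obtain ⟨h, hh⟩ := i.app_surjective (X.basicOpen f) hU₁ g'
  have hh' : i ⁻¹ᵁ X.basicOpen h = j ⁻¹ᵁ Y.basicOpen g₂ := by
    rw [Scheme.preimage_basicOpen, ← hg']
    exact congrArg _ hh
  exact ⟨⟨X.basicOpen h, Y.basicOpen g₂, hU₁.basicOpen h, hV₂, hh'⟩, hg₂y⟩

end Groth.Agent.Lib.Helper22.Ferrand
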