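import Mathlib

set_option autoImplicit false
set_option linter.style.haveILetI false
set_option linter.unusedSectionVars false
set_option linter.unusedVariables false

universe u
open AlgebraicGeometry CategoryTheory CategoryTheory.Limits TopologicalSpace Opposite

namespace Groth.Agent.Lib.Helper22.FibAff

/-- **Avoidance over a zero-dimensional algebra.** If `C` is integral over a field and finitely
many elements of `Γ` generate the unit ideal of `C`, then a suitable `Γ`-combination of them becomes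
a unit of `C`. -/
theorem exists_mem_span_isUnit_map {Γ C κ : Type u} [CommRing Γ] [CommRing C] [Field κ]
    [Algebra κ C] [Algebra.IsIntegral κ C] (φ : Γ →+* C) (s : Finset Γ)
    (hs' : Ideal.span (φ '' (s : Set Γ)) = ⊤) :
    ∃ f₀ ∈ Ideal.span (s : Set Γ), IsUnit (φ f₀) := by
  classical
  rcases subsingleton_or_nontrivial C with hsub | hnt
  · exact ⟨0, Ideal.zero_mem _, isUnit_of_subsingleton _⟩
  have hs : Ideal.span ((s.image φ : Finset C) : Set C) = ⊤ := by
    rw [Finset.coe_image]; exact hs'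
  have h1 : (1 : C) ∈ Ideal.span ((s.image φ : Finset C) : Set C) := by rw [hs]; trivial
  obtain ⟨c, -, hc⟩ := Submodule.mem_span_finset.mp h1
  -- the finite subalgebra
  let gens : Finset C := s.image φ ∪ (s.image φ).image c
  let C₀ : Subalgebra κ C := Algebra.adjoin κ (gens : Set C)
  have hφmem : ∀ a ∈ s, φ a ∈ C₀ := fun a ha =>
    Algebra.subset_adjoin (Finset.mem_coe.mpr (Finset.mem_union_left _ (Finset.mem_image_of_mem φ ha)))
  have hcmem : ∀ b ∈ s.image φ, c b ∈ C₀ := fun b hb =>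
    Algebra.subset_adjoin (Finset.mem_coe.mpr (Finset.mem_union_right _ (Finset.mem_image_of_mem c hb)))
  haveI : Algebra.FiniteType κ C₀ := (Subalgebra.fg_iff_finiteType _).mp ⟨gens, rfl⟩
  haveI : Algebra.IsIntegral κ C₀ :=
    ⟨fun x => (isIntegral_algHom_iff C₀.val Subtype.val_injective).mp
      (Algebra.IsIntegral.isIntegral x.1)⟩
  haveI : Module.Finite κ C₀ := Algebra.IsIntegral.finite
  haveI : IsArtinianRing C₀ := IsArtinianRing.of_finite κ C₀
  -- the polynomial ring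
  let ψ₀ : MvPolynomial s ℤ →+* C₀ :=
    MvPolynomial.eval₂Hom (Int.castRingHom C₀) (fun a => ⟨φ a.1, hφmem a.1 a.2⟩)
  let ev : MvPolynomial s ℤ →+* Γ := MvPolynomial.eval₂Hom (Int.castRingHom Γ) (fun a => a.1)
  have hcomp : C₀.val.toRingHom.comp ψ₀ = φ.comp ev := by
    apply MvPolynomial.ringHom_ext
    · intro n; simp [ψ₀, ev]
    · intro a; simp [ψ₀, ev]
  let 𝔞₀ : Ideal (MvPolynomial s ℤ) := Ideal.span (Set.range MvPolynomial.X)
  haveI : Fintype (PrimeSpectrum C₀) := Fintype.ofFinite _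
  have havoid : ¬ ((𝔞₀ : Set (MvPolynomial s ℤ)) ⊆
      ⋃ 𝔮 ∈ ((Finset.univ : Finset (PrimeSpectrum C₀)) : Set (PrimeSpectrum C₀)),
        (Ideal.comap ψ₀ 𝔮.asIdeal : Set (MvPolynomial s ℤ))) := by
    intro hsub
    obtain ⟨𝔮, -, h𝔮⟩ := (Ideal.subset_union_prime (f := fun 𝔮 : PrimeSpectrum C₀ =>
      Ideal.comap ψ₀ 𝔮.asIdeal) (Classical.arbitrary _) (Classical.arbitrary _)
      (fun 𝔮 _ _ _ => Ideal.comap_isPrime ψ₀ 𝔮.asIdeal)).mp hsub
    -- all `φ a` lie in `𝔮`
    have hall : ∀ a (ha : a ∈ s), (⟨φ a, hφmem a ha⟩ : C₀) ∈ 𝔮.asIdeal := by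
      intro a ha
      have : (MvPolynomial.X ⟨a, ha⟩ : MvPolynomial s ℤ) ∈ 𝔞₀ :=
        Ideal.subset_span ⟨⟨a, ha⟩, rfl⟩
      have h2 := h𝔮 this
      simpa [ψ₀] using h2
    -- hence `1 ∈ 𝔮`
    have hone : (1 : C₀) ∈ 𝔮.asIdeal := by
      have : (1 : C₀) = ∑ b ∈ (s.image φ).attach, (⟨c b.1, hcmem b.1 b.2⟩ : C₀) *
          ⟨b.1, by obtain ⟨a, ha, hab⟩ := Finset.mem_image.mp b.2; rw [← hab]; exact hφmem a ha⟩ := by
        apply Subtype.ext
        rw [AddSubmonoidClass.coe_finsetSum]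
        simp only [MulMemClass.coe_mul, OneMemClass.coe_one]
        rw [Finset.sum_attach (s.image φ) (fun b => c b * b)]
        exact hc.symm
      rw [this]
      refine Ideal.sum_mem _ fun b _ => Ideal.mul_mem_left _ _ ?_
      obtain ⟨a, ha, hab⟩ := Finset.mem_image.mp b.2
      have := hall a ha
      convert this using 2
      exact hab.symm
    exact 𝔮.isPrime.ne_top ((Ideal.eq_top_iff_one _).mpr hone)
  obtain ⟨f₀', hf₀', hf₀'n⟩ := Set.not_subset.mp havoid
  refine ⟨ev f₀', ?_, ?_⟩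
  · have : Ideal.map ev 𝔞₀ ≤ Ideal.span (s : Set Γ) := by
      rw [Ideal.map_span, Ideal.span_le]
      rintro _ ⟨_, ⟨a, rfl⟩, rfl⟩
      have : ev (MvPolynomial.X a) = a.1 := by simp [ev]
      rw [this]
      exact Ideal.subset_span a.2
    exact this (Ideal.mem_map_of_mem ev hf₀')
  · have hu : IsUnit (ψ₀ f₀') := by
      by_contra hnu
      obtain ⟨M, hM, hfM⟩ := exists_max_ideal_of_mem_nonunits hnu
      apply hf₀'n
      simp only [Set.mem_iUnion]
      exact ⟨⟨M, hM.isPrime⟩, Finset.mem_coe.mpr (Finset.mem_univ _), hfM⟩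
    have e : φ (ev f₀') = C₀.val.toRingHom (ψ₀ f₀') := (congr($(hcomp) f₀')).symm
    rw [e]
    exact hu.map _

end Groth.Agent.Lib.Helper22.FibAff
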