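import Mathlib
import Groth.Agent.Lib.Helper22FibAffA

set_option autoImplicit false
set_option linter.style.haveILetI false
set_option linter.unusedSectionVars false
set_option linter.unusedVariables false

universe u
open AlgebraicGeometry CategoryTheory CategoryTheory.Limits TopologicalSpace Opposite

namespace Groth.Agent.Lib.Helper22.FibAff

/-- a compact subset of an open of a scheme lies in a quasi-compact open inside it. -/
theorem exists_compact_open {X : Scheme.{u}} (O : X.Opens) (T : Set X) (hT : IsCompact T)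
    (hTO : T ⊆ O) : ∃ W : X.Opens, T ⊆ W ∧ W ≤ O ∧ IsCompact (W : Set X) := by
  have hb : ∀ (t : X), t ∈ O → ∃ U' ∈ X.affineOpens, t ∈ U' ∧ U' ≤ O := fun t ht =>
    Opens.isBasis_iff_nbhd.mp X.isBasis_affineOpens ht
  choose! W hWaff hWt hWO using hb
  obtain ⟨s, hsT, hsfin, hs⟩ := hT.elim_finite_subcover_image (b := T) (c := fun t => ((W t : X.Opens) : Set X))
    (fun t _ => (W t).isOpen) (fun t ht => Set.mem_biUnion ht (hWt t (hTO ht)))
  refine ⟨⨆ t ∈ s, W t, ?_, ?_, ?_⟩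
  · intro t ht
    obtain ⟨t', ht', htt'⟩ := Set.mem_iUnion₂.mp (hs ht)
    simp only [Opens.coe_iSup, Set.mem_iUnion]
    exact ⟨t', ht', htt'⟩
  · exact iSup₂_le fun t ht => hWO t (hTO (hsT ht))
  · have : ((⨆ t ∈ s, W t : X.Opens) : Set X) = ⋃ t ∈ s, ((W t : X.Opens) : Set X) := by
      simp only [Opens.coe_iSup]
    rw [this]
    exact hsfin.isCompact_biUnion fun t ht => (hWaff t (hTO (hsT ht))).isCompact

/-- **Core**: an affine scheme whose ring is integral over a field, mapping to a scheme `X''` which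
is open in an affine scheme, lands in an affine open of `X''`. -/
theorem exists_affine_open_of_integral_field {X'' N Fz : Scheme.{u}} [IsAffine N] [IsAffine Fz]
    (ν : X'' ⟶ N) [IsOpenImmersion ν] (σ : Fz ⟶ X'') {κ : Type u} [Field κ]
    (ψ : κ →+* Γ(Fz, ⊤)) (hψ : ψ.IsIntegral) :
    ∃ U'' : X''.Opens, IsAffineOpen U'' ∧ Set.range σ.base ⊆ U'' := by
  classical
  let τ : Fz ⟶ N := σ ≫ ν
  let φ : Γ(N, ⊤) →+* Γ(Fz, ⊤) := τ.appTop.hom
  have hτ : ∀ ζ : Fz, τ.base ζ ∈ ν.opensRange := fun ζ => ⟨σ.base ζ, rfl⟩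
  have hb : ∀ ζ : Fz, ∃ γ : Γ(N, ⊤), τ.base ζ ∈ N.basicOpen γ ∧ N.basicOpen γ ≤ ν.opensRange := by
    intro ζ
    obtain ⟨_, ⟨γ, rfl⟩, h1, h2⟩ := Opens.isBasis_iff_nbhd.mp (isBasis_basicOpen N) (hτ ζ)
    exact ⟨γ, h1, h2⟩
  choose γ hγ1 hγ2 using hb
  obtain ⟨s, hs⟩ := isCompact_univ.elim_finite_subcover
    (fun ζ : Fz => ((τ ⁻¹ᵁ N.basicOpen (γ ζ) : Fz.Opens) : Set Fz))
    (fun ζ => (τ ⁻¹ᵁ N.basicOpen (γ ζ)).isOpen)
    (fun ζ _ => Set.mem_iUnion.mpr ⟨ζ, hγ1 ζ⟩)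
  let S : Finset Γ(N, ⊤) := s.image γ
  have hspan : Ideal.span (φ '' (S : Set Γ(N, ⊤))) = ⊤ := by
    rw [← (isAffineOpen_top Fz).self_le_iSup_basicOpen_iff]
    intro ζ _
    obtain ⟨ζ', hζ', hmem⟩ := Set.mem_iUnion₂.mp (hs (Set.mem_univ ζ))
    have h1 : ζ ∈ τ ⁻¹ᵁ N.basicOpen (γ ζ') := hmem
    rw [Scheme.preimage_basicOpen_top] at h1
    exact Opens.mem_iSup.mpr
      ⟨⟨φ (γ ζ'), ⟨γ ζ', Finset.mem_coe.mpr (Finset.mem_image_of_mem γ hζ'), rfl⟩⟩, h1⟩
  letI : Algebra κ Γ(Fz, ⊤) := ψ.toAlgebra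
  haveI : Algebra.IsIntegral κ Γ(Fz, ⊤) := ⟨hψ⟩
  obtain ⟨f₀, hf₀, hu⟩ := exists_mem_span_isUnit_map (κ := κ) φ S hspan
  -- the basic open of `f₀` is inside the image of `ν`
  have hle : N.basicOpen f₀ ≤ ν.opensRange := by
    intro x hx
    by_contra hcon
    have hz : x ∈ N.zeroLocus (U := ⊤) (S : Set Γ(N, ⊤)) := by
      rw [Scheme.mem_zeroLocus_iff]
      intro γ' hγ' hxγ'
      obtain ⟨ζ', -, rfl⟩ := Finset.mem_image.mp (Finset.mem_coe.mp hγ')
      exact hcon (hγ2 ζ' hxγ')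
    rw [← Scheme.zeroLocus_span, Scheme.mem_zeroLocus_iff] at hz
    exact hz f₀ hf₀ hx
  refine ⟨ν ⁻¹ᵁ N.basicOpen f₀, ?_, ?_⟩
  · exact ((isAffineOpen_top N).basicOpen f₀).preimage_of_isOpenImmersion ν hle
  · rintro _ ⟨ζ, rfl⟩
    show τ.base ζ ∈ N.basicOpen f₀
    have h1 : τ ⁻¹ᵁ N.basicOpen f₀ = ⊤ := by
      rw [Scheme.preimage_basicOpen_top]
      exact Scheme.basicOpen_of_isUnit _ hu
    have : ζ ∈ τ ⁻¹ᵁ N.basicOpen f₀ := by rw [h1]; trivial
    exact this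

/-- **Fibres of an integral morphism stay inside affine opens after a separated locally
quasi-finite base change** (via Zariski's main theorem). -/
theorem exists_affine_open_fibre {X X' Y' Z' : Scheme.{u}} (f : X' ⟶ X) [IsSeparated f]
    [LocallyQuasiFinite f] [LocallyOfFiniteType f]
    (i' : Z' ⟶ X') (j' : Z' ⟶ Y') [IsIntegralHom j'] (y' : Y') (U : X.Opens) (hU : IsAffineOpen U)
    (hfib : ∀ z' : Z', j'.base z' = y' → f.base (i'.base z') ∈ U) :
    ∃ U' : X'.Opens, IsAffineOpen U' ∧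
      j'.base ⁻¹' {y'} ⊆ ((i' ⁻¹ᵁ U' : Z'.Opens) : Set Z') := by
  let Fz := j'.fiber y'
  let ιF : Fz ⟶ Z' := j'.fiberι y'
  have hιF : ∀ ζ : Fz, j'.base (ιF.base ζ) = y' := by
    intro ζ
    have : ιF.base ζ ∈ Set.range ιF.base := ⟨ζ, rfl⟩
    rw [show Set.range ιF.base = j'.base ⁻¹' {y'} from j'.range_fiberι y'] at this
    exact this
  let T : Set X' := Set.range (ιF ≫ i').base
  have hT : IsCompact T := isCompact_range (ιF ≫ i').continuous
  have hTO : T ⊆ (f ⁻¹ᵁ U : X'.Opens) := by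
    rintro _ ⟨ζ, rfl⟩
    exact hfib _ (hιF ζ)
  obtain ⟨W, hTW, hWU, hWc⟩ := exists_compact_open (f ⁻¹ᵁ U) T hT hTO
  let f'' : W.toScheme ⟶ U.toScheme := f.resLE U W hWU
  haveI : IsAffine U.toScheme := hU
  haveI : CompactSpace W.toScheme := isCompact_iff_compactSpace.mp hWc
  haveI : QuasiCompact f'' := (HasAffineProperty.iff_of_isAffine (P := @QuasiCompact)).mpr
    inferInstance
  let N := f''.normalization
  let ν : W.toScheme ⟶ N := f''.toNormalization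
  haveI : IsAffine N := isAffine_of_isAffineHom f''.fromNormalization
  have hσ : Set.range (ιF ≫ i').base ⊆ Set.range W.ι.base := by
    rw [Scheme.Opens.range_ι]
    exact hTW
  let σ : Fz ⟶ W.toScheme := IsOpenImmersion.lift W.ι (ιF ≫ i') hσ
  have hσfac : σ ≫ W.ι = ιF ≫ i' := IsOpenImmersion.lift_fac _ _ _
  let κ := Y'.residueField y'
  let ψ : κ →+* Γ(Fz, ⊤) :=
    ((Scheme.ΓSpecIso (CommRingCat.of κ)).inv ≫ (j'.fiberToSpecResidueField y').appTop).hom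
  have hψ : ψ.IsIntegral := by
    haveI : IsIntegralHom (j'.fiberToSpecResidueField y') :=
      MorphismProperty.pullback_snd _ _ inferInstance
    have h1 : ((j'.fiberToSpecResidueField y').appTop).hom.IsIntegral :=
      (j'.fiberToSpecResidueField y').isIntegral_app ⊤ (isAffineOpen_top _)
    have h2 : ((Scheme.ΓSpecIso (CommRingCat.of κ)).inv).hom.IsIntegral :=
      RingHom.isIntegral_of_surjective _
        (ConcreteCategory.bijective_of_isIso (Scheme.ΓSpecIso (CommRingCat.of κ)).inv).2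
    exact RingHom.IsIntegral.trans _ _ h2 h1
  obtain ⟨U'', hU'', hσU⟩ := exists_affine_open_of_integral_field ν σ ψ hψ
  refine ⟨W.ι ''ᵁ U'', hU''.image_of_isOpenImmersion W.ι, ?_⟩
  intro z' hz'
  have hz'' : z' ∈ Set.range ιF.base := by
    rw [show Set.range ιF.base = j'.base ⁻¹' {y'} from j'.range_fiberι y']
    exact hz'
  obtain ⟨ζ, rfl⟩ := hz''
  show i'.base (ιF.base ζ) ∈ W.ι ''ᵁ U''
  have e : i'.base (ιF.base ζ) = W.ι.base (σ.base ζ) := (congr($(hσfac).base ζ)).symm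
  rw [e]
  exact ⟨σ.base ζ, hσU ⟨ζ, rfl⟩, rfl⟩

end Groth.Agent.Lib.Helper22.FibAff
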