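import Mathlib
import Groth.Prelude.Def_FlatCA
import Groth.Agent.Lib.Helper3FlatLocA

set_option autoImplicit false
set_option linter.style.haveILetI false
set_option linter.unusedSectionVars false

open scoped TensorProduct

namespace Groth.Agent.Lib.Helper22.FiberBasisA

open Groth.Agent.Lib.Helper3.FlatLoc

universe u

section Flat

variable {R : Type*} [CommRing R]

/-- Extension of flat by flat is flat (copied from helper13's `Helper13GenFlat.flat_of_exact`). -/
theorem flat_of_exact {M' M M'' : Type*} [AddCommGroup M'] [AddCommGroup M] [AddCommGroup M'']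
    [Module R M'] [Module R M] [Module R M''] [Module.Flat R M'] [Module.Flat R M'']
    (ι : M' →ₗ[R] M) (δ : M →ₗ[R] M'') (hι : Function.Injective ι) (hδ : Function.Surjective δ)
    (hex : Function.Exact ι δ) : Module.Flat R M := by
  rw [Module.Flat.iff_rTensor_injective']
  intro I
  have hex2 : Function.Exact (ι.lTensor I) (δ.lTensor I) := lTensor_exact I hex hδ
  have h1 : Function.Injective (LinearMap.rTensor M' (Submodule.subtype I)) :=
    Module.Flat.rTensor_preserves_injective_linearMap _ (Submodule.subtype_injective I)
  have h2 : Function.Injective (LinearMap.rTensor M'' (Submodule.subtype I)) :=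
    Module.Flat.rTensor_preserves_injective_linearMap _ (Submodule.subtype_injective I)
  have hιR : Function.Injective (ι.lTensor R) :=
    Module.Flat.lTensor_preserves_injective_linearMap _ hι
  rw [injective_iff_map_eq_zero]
  intro x hx
  have e1 : (LinearMap.rTensor M'' (Submodule.subtype I)) ((δ.lTensor I) x) = 0 := by
    rw [← LinearMap.comp_apply, LinearMap.rTensor_comp_lTensor, ← LinearMap.lTensor_comp_rTensor,
      LinearMap.comp_apply, hx, map_zero]
  have e2 : (δ.lTensor I) x = 0 := h2 (by rw [e1, map_zero])
  obtain ⟨y, rfl⟩ := (hex2 x).mp e2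
  have e3 : (ι.lTensor R) ((LinearMap.rTensor M' (Submodule.subtype I)) y) = 0 := by
    rw [← LinearMap.comp_apply, LinearMap.lTensor_comp_rTensor, ← LinearMap.rTensor_comp_lTensor,
      LinearMap.comp_apply, hx]
  have e4 : y = 0 := h1 (by rw [map_zero]; exact hιR (by rw [e3, map_zero]))
  rw [e4, map_zero]

/-- The cokernel of a map into a flat module which stays injective modulo every ideal is flat. -/
theorem flat_of_injective_quotients {M' M M'' : Type*} [AddCommGroup M'] [AddCommGroup M]
    [AddCommGroup M''] [Module R M'] [Module R M] [Module R M''] [Module.Flat R M]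
    (ι : M' →ₗ[R] M) (δ : M →ₗ[R] M'') (hδ : Function.Surjective δ)
    (hex : Function.Exact ι δ)
    (huniv : ∀ I : Ideal R, Function.Injective (ι.lTensor (R ⧸ I))) : Module.Flat R M'' := by
  rw [Module.Flat.iff_rTensor_injective']
  intro I
  have hb : Function.Injective (LinearMap.rTensor M (Submodule.subtype I)) :=
    Module.Flat.rTensor_preserves_injective_linearMap _ (Submodule.subtype_injective I)
  have hexI : Function.Exact (ι.lTensor I) (δ.lTensor I) := lTensor_exact I hex hδ
  have hexR : Function.Exact (ι.lTensor R) (δ.lTensor R) := lTensor_exact R hex hδ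
  have hexM' : Function.Exact (I.subtype.rTensor M') (I.mkQ.rTensor M') :=
    rTensor_exact M' (LinearMap.exact_subtype_mkQ I) (Submodule.mkQ_surjective I)
  have hexM : Function.Exact (I.subtype.rTensor M) (I.mkQ.rTensor M) :=
    rTensor_exact M (LinearMap.exact_subtype_mkQ I) (Submodule.mkQ_surjective I)
  rw [injective_iff_map_eq_zero]
  intro x hx
  obtain ⟨y, rfl⟩ := LinearMap.lTensor_surjective I hδ x
  have e1 : (δ.lTensor R) ((I.subtype.rTensor M) y) = 0 := by
    rw [← LinearMap.comp_apply, LinearMap.lTensor_comp_rTensor, ← LinearMap.rTensor_comp_lTensor,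
      LinearMap.comp_apply, hx]
  obtain ⟨z, hz⟩ := (hexR _).mp e1
  have e2 : (ι.lTensor (R ⧸ I)) ((I.mkQ.rTensor M') z) = 0 := by
    rw [← LinearMap.comp_apply, LinearMap.lTensor_comp_rTensor, ← LinearMap.rTensor_comp_lTensor,
      LinearMap.comp_apply, hz]
    exact hexM.apply_apply_eq_zero y
  have e3 : (I.mkQ.rTensor M') z = 0 := huniv I (by rw [e2, map_zero])
  obtain ⟨w, rfl⟩ := (hexM' z).mp e3
  have e4 : (I.subtype.rTensor M) ((ι.lTensor I) w) = (I.subtype.rTensor M) y := by
    rw [← hz, ← LinearMap.comp_apply, LinearMap.rTensor_comp_lTensor,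
      ← LinearMap.lTensor_comp_rTensor, LinearMap.comp_apply]
  rw [← hb e4]
  exact hexI.apply_apply_eq_zero w

end Flat


section Pi

variable {R S : Type*} [CommRing R] [CommRing S] [Algebra R S]

/-- Regularity of `u` on `S ⊗ X` gives regularity on `S^r ⊗ X`. -/
theorem isSMulRegular_pi_tensor (r : ℕ) (X : Type*) [AddCommGroup X] [Module R X] (u : S)
    (h : IsSMulRegular (S ⊗[R] X) u) : IsSMulRegular ((Fin r → S) ⊗[R] X) u := by
  have h' : ∀ y : S ⊗[R] X, u • y = 0 → y = 0 := fun y hy => h (hy.trans (smul_zero u).symm)
  suffices H : ∀ z : (Fin r → S) ⊗[R] X, u • z = 0 → z = 0 by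
    intro a b hab
    have hab' : u • a = u • b := hab
    exact sub_eq_zero.mp (H (a - b) (by rw [smul_sub, hab', sub_self]))
  intro z hz
  have hdec : ∀ z : (Fin r → S) ⊗[R] X,
      z = ∑ i : Fin r, TensorProduct.AlgebraTensorModule.rTensor R X
        (LinearMap.single S (fun _ : Fin r => S) i)
        (TensorProduct.AlgebraTensorModule.rTensor R X
          (LinearMap.proj (R := S) (φ := fun _ : Fin r => S) i) z) := by
    intro z
    induction z using TensorProduct.induction_on with
    | zero => simp
    | tmul a x =>
      simp only [TensorProduct.AlgebraTensorModule.rTensor_tmul, LinearMap.proj_apply,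
        LinearMap.single_apply]
      rw [← TensorProduct.sum_tmul, Finset.univ_sum_single]
    | add z₁ z₂ h₁ h₂ =>
      conv_lhs => rw [h₁, h₂]
      rw [← Finset.sum_add_distrib]
      simp only [map_add]
  rw [hdec z]
  refine Finset.sum_eq_zero fun i _ => ?_
  have : TensorProduct.AlgebraTensorModule.rTensor R X
      (LinearMap.proj (R := S) (φ := fun _ : Fin r => S) i) z = 0 := by
    apply h'
    rw [← map_smul, hz, map_zero]
  rw [this, map_zero]

end Pi

section Loc

variable {R S : Type u} [CommRing R] [CommRing S] [Algebra R S] (T : Submonoid S)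
  {A B : Type u} [AddCommGroup A] [AddCommGroup B] [Module S A] [Module S B] [Module R A]
  [Module R B] [IsScalarTower R S A] [IsScalarTower R S B] (α : A →ₗ[S] B)

/-- Injectivity of a localized map, elementwise. -/
theorem locMap_injective_iff :
    Function.Injective (LocalizedModule.map T α) ↔ ∀ x, α x = 0 → ∃ s ∈ T, s • x = 0 := by
  rw [← IsLocalizedModule.map_injective_iff_localizedModuleMap_injective
    (LocalizedModule.mkLinearMap T A) (LocalizedModule.mkLinearMap T B)]
  exact isLocalizedModule_map_injective_iff T _ _ α

/-- Surjectivity of a localized map, elementwise. -/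
theorem locMap_surjective_of (h : ∀ b, ∃ s ∈ T, s • b ∈ LinearMap.range α) :
    Function.Surjective (LocalizedModule.map T α) := by
  intro y
  induction y using LocalizedModule.induction_on with
  | h b t =>
    obtain ⟨s, hs, a, ha⟩ := h b
    refine ⟨LocalizedModule.mk a (⟨s, hs⟩ * t), ?_⟩
    rw [LocalizedModule.map_mk, ha, LocalizedModule.mk_eq]
    refine ⟨1, ?_⟩
    simp only [one_smul, Submonoid.smul_def, mul_smul]
    rw [smul_comm]

/-- Universal injectivity over `R` of a localized map, elementwise. -/
theorem univInj_locMap_iff :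
    FlatCA.UnivInj R ((LocalizedModule.map T α).restrictScalars R) ↔
      ∀ (Q : Type u) [AddCommGroup Q] [Module R Q] (x : A ⊗[R] Q),
        TensorProduct.AlgebraTensorModule.rTensor R Q α x = 0 → ∃ s ∈ T, s • x = 0 := by
  have key : ∀ (Q : Type u) [AddCommGroup Q] [Module R Q],
      Function.Injective (((LocalizedModule.map T α).restrictScalars R).lTensor Q) ↔
        ∀ x : A ⊗[R] Q,
          TensorProduct.AlgebraTensorModule.rTensor R Q α x = 0 → ∃ s ∈ T, s • x = 0 := by
    intro Q _ _
    rw [LinearMap.lTensor_inj_iff_rTensor_inj]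
    have h1 : IsLocalizedModule.map T
        (TensorProduct.AlgebraTensorModule.rTensor R Q (LocalizedModule.mkLinearMap T A))
        (TensorProduct.AlgebraTensorModule.rTensor R Q (LocalizedModule.mkLinearMap T B))
        (TensorProduct.AlgebraTensorModule.rTensor R Q α) =
        TensorProduct.AlgebraTensorModule.rTensor R Q
          ((LocalizedModule.map T α).restrictScalars S) := by
      apply IsLocalizedModule.linearMap_ext T
        (TensorProduct.AlgebraTensorModule.rTensor R Q (LocalizedModule.mkLinearMap T A))
        (TensorProduct.AlgebraTensorModule.rTensor R Q (LocalizedModule.mkLinearMap T B))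
      rw [IsLocalizedModule.map_comp]
      ext a q
      simp [LocalizedModule.mkLinearMap_apply]
    have h2 := isLocalizedModule_map_injective_iff T
      (TensorProduct.AlgebraTensorModule.rTensor R Q (LocalizedModule.mkLinearMap T A))
      (TensorProduct.AlgebraTensorModule.rTensor R Q (LocalizedModule.mkLinearMap T B))
      (TensorProduct.AlgebraTensorModule.rTensor R Q α)
    rw [h1] at h2
    exact h2
  constructor
  · intro h Q _ _
    exact (key Q).mp (h Q)
  · intro h Q _ _
    exact (key Q).mpr (h Q)

end Loc


section Nak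

variable {S : Type u} [CommRing S] (p : Ideal S) [p.IsPrime]

/-- Surjectivity after base change to the residue field gives surjectivity at the prime. -/
theorem exists_smul_mem_range_of_baseChange_surjective {A N : Type u} [AddCommGroup A]
    [AddCommGroup N] [Module S A] [Module S N] [Module.Finite S N] (α : A →ₗ[S] N)
    (h : Function.Surjective (α.baseChange p.ResidueField)) (n : N) :
    ∃ t ∈ p.primeCompl, t • n ∈ LinearMap.range α := by
  have hsub : Subsingleton (p.ResidueField ⊗[S] (N ⧸ LinearMap.range α)) := by
    refine subsingleton_of_forall_eq 0 fun y => ?_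
    obtain ⟨z, rfl⟩ := LinearMap.lTensor_surjective p.ResidueField
      (Submodule.mkQ_surjective (LinearMap.range α)) y
    obtain ⟨w, rfl⟩ := h z
    rw [LinearMap.baseChange_eq_ltensor, ← LinearMap.comp_apply, ← LinearMap.lTensor_comp]
    have : (LinearMap.range α).mkQ ∘ₗ α = 0 := by
      ext a
      simp
    rw [this, LinearMap.lTensor_zero, LinearMap.zero_apply]
  have hns : (⟨p, inferInstance⟩ : PrimeSpectrum S) ∉ Module.support S (N ⧸ LinearMap.range α) := by
    rw [Module.mem_support_iff_nontrivial_residueField_tensorProduct]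
    exact not_nontrivial_iff_subsingleton.mpr hsub
  rw [Module.notMem_support_iff'] at hns
  obtain ⟨t, ht, htn⟩ := hns ((LinearMap.range α).mkQ n)
  refine ⟨t, ht, ?_⟩
  rw [← map_smul, Submodule.mkQ_apply, Submodule.Quotient.mk_eq_zero] at htn
  exact htn

/-- Existence of a map from a finite free module which is bijective on the fibre at `p`. -/
theorem exists_map_baseChange_bijective (N : Type u) [AddCommGroup N] [Module S N]
    [Module.Finite S N] :
    ∃ (r : ℕ) (α : (Fin r → S) →ₗ[S] N),
      Function.Bijective (α.baseChange p.ResidueField) := by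
  classical
  let κ := p.ResidueField
  let V := κ ⊗[S] N
  have hspan : Submodule.span κ (Set.range (TensorProduct.mk S κ N 1)) = ⊤ := by
    rw [eq_top_iff]
    rintro x -
    induction x using TensorProduct.induction_on with
    | zero => exact Submodule.zero_mem _
    | tmul c n =>
      have : c ⊗ₜ[S] n = c • ((1 : κ) ⊗ₜ[S] n) := by
        rw [TensorProduct.smul_tmul', smul_eq_mul, mul_one]
      rw [this]
      exact Submodule.smul_mem _ _ (Submodule.subset_span ⟨n, rfl⟩)
    | add x y hx hy => exact Submodule.add_mem _ hx hy
  obtain ⟨b, hbt, hbspan, hbli⟩ := exists_linearIndependent κ (Set.range (TensorProduct.mk S κ N 1))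
  have hbfin : b.Finite := hbli.setFinite
  haveI : Fintype b := hbfin.fintype
  let e : Fin (Fintype.card b) ≃ b := (Fintype.equivFin b).symm
  let v : Fin (Fintype.card b) → V := fun i => (e i : V)
  have hvli : LinearIndependent κ v := hbli.comp e e.injective
  have hvsp : ⊤ ≤ Submodule.span κ (Set.range v) := by
    have : Set.range v = b := by
      ext x
      constructor
      · rintro ⟨i, rfl⟩
        exact (e i).2
      · intro hx
        exact ⟨e.symm ⟨x, hx⟩, by simp [v]⟩
    rw [this, hbspan, hspan]
  have hn : ∀ i, ∃ n : N, (1 : κ) ⊗ₜ[S] n = v i := fun i => hbt (e i).2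
  choose n hn using hn
  let α : (Fin (Fintype.card b) → S) →ₗ[S] N := (Pi.basisFun S (Fin (Fintype.card b))).constr S n
  refine ⟨Fintype.card b, α, ?_⟩
  let B1 := (Pi.basisFun S (Fin (Fintype.card b))).baseChange κ
  let B2 : Module.Basis (Fin (Fintype.card b)) κ V := Module.Basis.mk hvli hvsp
  have heq : α.baseChange κ = (B1.equiv B2 (Equiv.refl _)).toLinearMap := by
    apply B1.ext
    intro i
    rw [LinearEquiv.coe_coe, Module.Basis.equiv_apply, Equiv.refl_apply, Module.Basis.mk_apply,
      Module.Basis.baseChange_apply, LinearMap.baseChange_tmul, Module.Basis.constr_basis, hn]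
  rw [heq]
  exact (B1.equiv B2 (Equiv.refl _)).bijective

end Nak

end Groth.Agent.Lib.Helper22.FiberBasisA
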