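/-
helper22: ring form of geometric integrality of fibres (fibres over fields are domains; stability
under pushout) and its consequence for purity: over a flat algebra with geometrically integral
fibres, primes associated to a fibre are contained in primes over any specialization (S1223).
-/
import Mathlib
import Groth.Prelude.Def_FlatCA

set_option autoImplicit false
set_option linter.style.haveILetI false
set_option linter.unusedSectionVars false
universe u
open TensorProduct AlgebraicGeometry CategoryTheory

namespace Groth.Agent.Lib.Helper22.GeomInt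

/-- ring form of geometric integrality: fibres over fields are domains. -/
theorem isDomain_tensor_of_geometricallyIntegral {A B : Type u} [CommRing A] [CommRing B]
    [Algebra A B]
    (h : GeometricallyIntegral (Spec.map (CommRingCat.ofHom (algebraMap A B))))
    (K : Type u) [Field K] [Algebra A K] : IsDomain (K ⊗[A] B) := by
  have hpo := CommRingCat.isPushout_tensorProduct A B K
  have hpb := isPullback_SpecMap_of_isPushout _ _ _ _ hpo
  have hint : IsIntegral (Spec (CommRingCat.of (B ⊗[A] K))) :=
    h.geometrically_isIntegral _ _ _ hpb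
  have hdom : IsDomain (B ⊗[A] K) := (affine_isIntegral_iff (CommRingCat.of (B ⊗[A] K))).mp hint
  exact (Algebra.TensorProduct.comm A K B).toRingEquiv.toMulEquiv.isDomain

/-- geometric integrality of `Spec` maps passes to a pushout. -/
theorem geometricallyIntegral_of_isPushout {A B A' B' : Type u} [CommRing A] [CommRing B]
    [CommRing A'] [CommRing B'] [Algebra A B] [Algebra A A'] [Algebra B B'] [Algebra A' B']
    [Algebra A B'] [IsScalarTower A B B'] [IsScalarTower A A' B'] [Algebra.IsPushout A B A' B']
    (h : GeometricallyIntegral (Spec.map (CommRingCat.ofHom (algebraMap A B)))) :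
    GeometricallyIntegral (Spec.map (CommRingCat.ofHom (algebraMap A' B'))) := by
  have hpo := CommRingCat.isPushout_of_isPushout A B A' B'
  have hpb := isPullback_SpecMap_of_isPushout _ _ _ _ hpo
  exact MorphismProperty.of_isPullback (P := @GeometricallyIntegral) hpb h

section Pure

attribute [local instance] Algebra.TensorProduct.rightAlgebra

variable {A' B' : Type u} [CommRing A'] [CommRing B'] [Algebra A' B']

/-- For flat `B'` over `A'`, the kernel of `B' → κ(t') ⊗ B'` is `t' B'`. -/
theorem mem_map_of_one_tmul_eq_zero [Module.Flat A' B'] (t' : Ideal A') [t'.IsPrime] (b : B')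
    (hb : (1 : t'.ResidueField) ⊗ₜ[A'] b = 0) : b ∈ t'.map (algebraMap A' B') := by
  -- the injective map `A'/t' → κ(t')`
  let ι : (A' ⧸ t') →ₗ[A'] t'.ResidueField :=
    (IsScalarTower.toAlgHom A' (A' ⧸ t') t'.ResidueField).toLinearMap
  have hι : Function.Injective ι := by
    intro x y hxy
    exact FaithfulSMul.algebraMap_injective (A' ⧸ t') t'.ResidueField hxy
  have hinj : Function.Injective (ι.rTensor B') :=
    Module.Flat.rTensor_preserves_injective_linearMap ι hι
  have h1 : (ι.rTensor B') ((1 : A' ⧸ t') ⊗ₜ[A'] b) = 0 := by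
    rw [LinearMap.rTensor_tmul]
    have : ι 1 = 1 := map_one (IsScalarTower.toAlgHom A' (A' ⧸ t') t'.ResidueField)
    rw [this]
    exact hb
  have h2 : (1 : A' ⧸ t') ⊗ₜ[A'] b = 0 := hinj (h1.trans (map_zero _).symm)
  have h3 : (TensorProduct.quotTensorEquivQuotSMul B' t') ((1 : A' ⧸ t') ⊗ₜ[A'] b) = 0 := by
    rw [h2, map_zero]
  have h4 : (Submodule.Quotient.mk b : B' ⧸ (t' • (⊤ : Submodule A' B'))) = 0 := by
    rw [← h3, ← map_one (Ideal.Quotient.mk t'), TensorProduct.quotTensorEquivQuotSMul_mk_tmul,
      one_smul]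
  rw [Submodule.Quotient.mk_eq_zero, Ideal.smul_top_eq_map] at h4
  exact h4

/-- In a domain, the only associated prime of the ring as a module over itself is `⊥`. -/
theorem eq_bot_of_mem_associatedPrimes_self {D : Type*} [CommRing D] [IsDomain D] {I : Ideal D}
    (hI : I ∈ associatedPrimes D D) : I = ⊥ := by
  obtain ⟨hp, x, hx⟩ := hI
  have hx0 : x ≠ 0 := by
    rintro rfl
    apply hp.ne_top
    rw [hx, eq_top_iff]
    intro y _
    apply Ideal.le_radical
    rw [Submodule.mem_colon_singleton]
    simp
  rw [eq_bot_iff]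
  intro a ha
  rw [hx] at ha
  obtain ⟨n, hn⟩ := ha
  rw [Submodule.mem_colon_singleton, Submodule.mem_bot, smul_eq_mul] at hn
  rcases mul_eq_zero.mp hn with h | h
  · exact eq_zero_of_pow_eq_zero h
  · exact absurd h hx0

/-- With flat `B'` over `A'` and all field-fibres domains: a prime `P` of `B'` whose extension to the
fibre over `t'` is associated to the fibre of `N' ≅ B'` is contained in a prime over `t ⊇ t'`. -/
theorem exists_prime_ge_liesOver [Module.Flat A' B']
    (hGI : ∀ (K : Type u) [Field K] [Algebra A' K], IsDomain (K ⊗[A'] B'))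
    {N' : Type u} [AddCommGroup N'] [Module B' N'] [Module A' N'] [IsScalarTower A' B' N']
    (e : N' ≃ₗ[B'] B') (t' t : Ideal A') [t'.IsPrime] [t.IsPrime] (hle : t' ≤ t) (P : Ideal B')
    [P.IsPrime]
    (hass : FlatCA.fiberIdeal t' P ∈
      associatedPrimes (t'.Fiber B') (FlatCA.fiberMod t' B' N')) :
    ∃ P' : Ideal B', P'.IsPrime ∧ P ≤ P' ∧ P'.LiesOver t := by
  haveI := hGI t'.ResidueField
  haveI := hGI t.ResidueField
  let e1 : FlatCA.fiberMod t' B' N' ≃ₗ[t'.Fiber B'] t'.Fiber B' :=
    (TensorProduct.AlgebraTensorModule.congr (LinearEquiv.refl (t'.Fiber B') (t'.Fiber B')) e) ≪≫ₗ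
      (TensorProduct.AlgebraTensorModule.rid B' (t'.Fiber B') (t'.Fiber B'))
  have h1 : FlatCA.fiberIdeal t' P ∈ associatedPrimes (t'.Fiber B') (t'.Fiber B') := by
    rw [← LinearEquiv.AssociatedPrimes.eq e1]
    exact hass
  have h2 : FlatCA.fiberIdeal t' P = ⊥ := eq_bot_of_mem_associatedPrimes_self h1
  have h3 : ∀ b ∈ P, (1 : t'.ResidueField) ⊗ₜ[A'] b = 0 := fun b hb => by
    have hmem : (Algebra.TensorProduct.includeRight (R := A') (A := t'.ResidueField)
        (B := B')).toRingHom b ∈ FlatCA.fiberIdeal t' P := Ideal.mem_map_of_mem _ hb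
    rw [h2, Ideal.mem_bot] at hmem
    exact hmem
  have h4 : P ≤ t'.map (algebraMap A' B') := fun b hb =>
    mem_map_of_one_tmul_eq_zero t' b (h3 b hb)
  let φ : B' →ₐ[A'] t.ResidueField ⊗[A'] B' := Algebra.TensorProduct.includeRight
  have hφ : ∀ a : A', φ (algebraMap A' B' a) = (algebraMap A' t.ResidueField a) ⊗ₜ[A'] 1 := by
    intro a
    rw [AlgHom.commutes, Algebra.TensorProduct.algebraMap_apply]
  refine ⟨RingHom.ker φ.toRingHom, RingHom.ker_isPrime _, ?_, ⟨?_⟩⟩
  · intro b hb
    have hker : t.map (algebraMap A' B') ≤ RingHom.ker φ.toRingHom := by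
      rw [Ideal.map_le_iff_le_comap]
      intro a ha
      rw [Ideal.mem_comap, RingHom.mem_ker]
      change φ (algebraMap A' B' a) = 0
      rw [hφ, Ideal.algebraMap_residueField_eq_zero.mpr ha, zero_tmul]
    exact hker (Ideal.map_mono hle (h4 hb))
  · ext a
    rw [Ideal.under_def, Ideal.mem_comap, RingHom.mem_ker]
    change a ∈ t ↔ φ (algebraMap A' B' a) = 0
    rw [hφ, ← Ideal.algebraMap_residueField_eq_zero (I := t)]
    have hinj : Function.Injective
        (algebraMap t.ResidueField (t.ResidueField ⊗[A'] B')) := RingHom.injective _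
    constructor
    · intro h
      rw [h, zero_tmul]
    · intro h
      apply hinj
      rw [map_zero, Algebra.TensorProduct.algebraMap_apply]
      exact h

end Pure

end Groth.Agent.Lib.Helper22.GeomInt
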