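import Mathlib
import Groth.Prelude.Def_FlatCA
import Groth.Agent.Lib.Helper22FiberBasisA
import Groth.Agent.Lib.Helper22UnivInjGlob
import Groth.Agent.Lib.Helper22GeomInt

set_option autoImplicit false
set_option linter.style.haveILetI false
set_option linter.unusedSectionVars false

open scoped TensorProduct

namespace Groth.Agent.Lib.Helper22.FiberBasisB

open Groth.Agent.Lib.Helper22.FiberBasisA Groth.Agent.Lib.Helper22.GeomInt
  Groth.Agent.Lib.Helper22.UnivInjGlob Groth.Agent.Lib.Helper3.FlatLoc

universe u

section Reg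

variable {R S : Type u} [CommRing R] [CommRing S] [Algebra R S] [Module.Flat R S]

/-- An element outside a prime over `p'` is regular on the (integral) fibre of `S^r` over `p'`. -/
theorem isSMulRegular_fibre (hgi : FlatCA.GeomIntegralFibres R S) (p' : Ideal R) [p'.IsPrime]
    (q' : Ideal S) [q'.IsPrime] [q'.LiesOver p'] (u : S) (hu : u ∉ q') (r : ℕ) :
    IsSMulRegular ((Fin r → S) ⊗[R] p'.ResidueField) u := by
  apply isSMulRegular_pi_tensor
  haveI : IsDomain (p'.ResidueField ⊗[R] S) :=
    isDomain_tensor_of_geometricallyIntegral hgi p'.ResidueField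
  haveI : IsDomain (S ⊗[R] p'.ResidueField) :=
    (Algebra.TensorProduct.comm R S p'.ResidueField).toRingEquiv.toMulEquiv.isDomain
  have hne : (u ⊗ₜ[R] (1 : p'.ResidueField)) ≠ 0 := by
    intro h0
    apply hu
    have h1 : (1 : p'.ResidueField) ⊗ₜ[R] u = 0 := by
      have := congrArg (Algebra.TensorProduct.comm R S p'.ResidueField) h0
      simpa using this
    have h2 := mem_map_of_one_tmul_eq_zero p' u h1
    have hle : p'.map (algebraMap R S) ≤ q' := by
      rw [Ideal.map_le_iff_le_comap]
      exact (Ideal.LiesOver.over (p := p') (P := q')).le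
    exact hle h2
  intro a b hab
  have hab' : u • a = u • b := hab
  have hmul : ∀ z : S ⊗[R] p'.ResidueField, u • z = (u ⊗ₜ[R] (1 : p'.ResidueField)) * z := by
    intro z
    induction z using TensorProduct.induction_on with
    | zero => simp
    | tmul s c =>
      rw [TensorProduct.smul_tmul', Algebra.TensorProduct.tmul_mul_tmul, one_mul, smul_eq_mul]
    | add z₁ z₂ h₁ h₂ => rw [smul_add, mul_add, h₁, h₂]
  rw [hmul, hmul] at hab'
  exact mul_left_cancel₀ hne hab'

end Reg

section Local

variable {R S : Type u} [CommRing R] [CommRing S] [Algebra R S] [Algebra.FinitePresentation R S]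

/-- Local regularity, elementwise: if `u` is regular on the fibre of `N` over `𝔮 ∩ R`, then `u`
is regular on `N_𝔮 ⊗ Q`. -/
theorem torsion_of_smul_torsion (N : Type u) [AddCommGroup N] [Module S N] [Module R N]
    [IsScalarTower R S N] [Module.FinitePresentation S N] [Module.Flat R N]
    (p' : Ideal R) [p'.IsPrime] (𝔮 : Ideal S) [𝔮.IsPrime] (hp' : p' = 𝔮.comap (algebraMap R S))
    (u : S) (hu : IsSMulRegular (N ⊗[R] p'.ResidueField) u)
    (Q : Type u) [AddCommGroup Q] [Module R Q] (x : N ⊗[R] Q)
    (hx : ∃ t ∈ 𝔮.primeCompl, t • u • x = 0) : ∃ t ∈ 𝔮.primeCompl, t • x = 0 := by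
  have hreg := isSMulRegular_localized_tensor N p' 𝔮 hp' u hu Q
  obtain ⟨t, ht, htx⟩ := hx
  have h1 : TensorProduct.AlgebraTensorModule.rTensor R Q
      (LocalizedModule.mkLinearMap 𝔮.primeCompl N) (u • x) = 0 := by
    rw [IsLocalizedModule.eq_zero_iff 𝔮.primeCompl]
    exact ⟨⟨t, ht⟩, htx⟩
  rw [map_smul] at h1
  have h2 := hreg (h1.trans (smul_zero u).symm)
  obtain ⟨c, hc⟩ := (IsLocalizedModule.eq_zero_iff 𝔮.primeCompl
    (TensorProduct.AlgebraTensorModule.rTensor R Q
      (LocalizedModule.mkLinearMap 𝔮.primeCompl N))).mp h2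
  exact ⟨c.1, c.2, hc⟩

end Local


section Open

variable {R S : Type u} [CommRing R] [CommRing S] [Algebra R S] [Algebra.FinitePresentation R S]
  [Module.Flat R S]

instance flat_pi (r : ℕ) : Module.Flat R (Fin r → S) := Module.Flat.trans R S (Fin r → S)

/-- Openness version of regularity: an element outside a prime `P` over `rr` is regular on
`(S^r ⊗ Q)_f` for some `f ∉ rr`, uniformly in `Q`. -/
theorem exists_basicOpen_regular (hgi : FlatCA.GeomIntegralFibres R S) (rr : Ideal R)
    [rr.IsPrime] (P : Ideal S) [P.IsPrime] [P.LiesOver rr] (u : S) (hu : u ∉ P) (r : ℕ) :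
    ∃ f : R, f ∉ rr ∧ ∀ (Q : Type u) [AddCommGroup Q] [Module R Q] (x : (Fin r → S) ⊗[R] Q),
      (∃ s ∈ Submonoid.powers (algebraMap R S f), s • u • x = 0) →
      ∃ s ∈ Submonoid.powers (algebraMap R S f), s • x = 0 := by
  have hopen := PrimeSpectrum.isOpenMap_comap_of_hasGoingDown_of_finitePresentation
    (R := R) (S := S)
  have hU : IsOpen (PrimeSpectrum.comap (algebraMap R S) ''
      (PrimeSpectrum.basicOpen u : Set (PrimeSpectrum S))) :=
    hopen _ (PrimeSpectrum.basicOpen u).2
  have hmem : (⟨rr, inferInstance⟩ : PrimeSpectrum R) ∈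
      PrimeSpectrum.comap (algebraMap R S) '' (PrimeSpectrum.basicOpen u : Set _) := by
    refine ⟨⟨P, inferInstance⟩, hu, ?_⟩
    ext1
    exact (Ideal.LiesOver.over (p := rr) (P := P)).symm
  obtain ⟨_, ⟨_, ⟨f, rfl⟩, rfl⟩, hrf, hfU⟩ :=
    PrimeSpectrum.isBasis_basic_opens.exists_subset_of_mem_open hmem hU
  refine ⟨f, hrf, ?_⟩
  rintro Q _ _ x ⟨s, hs, hsx⟩
  by_contra hcon
  push Not at hcon
  let I : Ideal S := LinearMap.ker (LinearMap.toSpanSingleton S _ x)
  have hI : ∀ a : S, a ∈ I ↔ a • x = 0 := fun a => by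
    simp only [I, LinearMap.mem_ker, LinearMap.toSpanSingleton_apply]
  have hdisj : Disjoint (I : Set S) (Submonoid.powers (algebraMap R S f) : Set S) := by
    rw [Set.disjoint_left]
    intro a ha ha'
    exact hcon a ha' ((hI a).mp ha)
  obtain ⟨𝔮, h𝔮, hI𝔮, h𝔮d⟩ := Ideal.exists_le_prime_disjoint I _ hdisj
  haveI := h𝔮
  have hf𝔮 : algebraMap R S f ∉ 𝔮 := fun h =>
    Set.disjoint_left.mp h𝔮d h (Submonoid.mem_powers _)
  haveI : (𝔮.comap (algebraMap R S)).IsPrime := Ideal.comap_isPrime _ _
  have hp'f : (⟨𝔮.comap (algebraMap R S), inferInstance⟩ : PrimeSpectrum R) ∈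
      (PrimeSpectrum.basicOpen f : Set _) := hf𝔮
  obtain ⟨q'', hq''u, hq''⟩ := hfU hp'f
  haveI : q''.asIdeal.LiesOver (𝔮.comap (algebraMap R S)) :=
    ⟨by rw [Ideal.under_def]; exact (congrArg PrimeSpectrum.asIdeal hq'').symm⟩
  have hreg := isSMulRegular_fibre hgi (𝔮.comap (algebraMap R S)) q''.asIdeal u hq''u r
  have hs𝔮 : s ∈ 𝔮.primeCompl := fun hs𝔮 => Set.disjoint_left.mp h𝔮d hs𝔮 hs
  obtain ⟨t, ht, htx⟩ := torsion_of_smul_torsion (Fin r → S) (𝔮.comap (algebraMap R S)) 𝔮 rfl u hreg
    Q x ⟨s, hs𝔮, hsx⟩
  exact ht (hI𝔮 ((hI t).mpr htx))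

end Open


section Bij

variable {R S : Type u} [CommRing R] [CommRing S] [Algebra R S]

/-- Scalars from the extended ideal `rr S` push any element into `rr • ⊤`. -/
theorem smul_mem_smul_top_of_mem_map (rr : Ideal R) {X : Type*} [AddCommGroup X] [Module S X]
    [Module R X] [IsScalarTower R S X] {c : S} (hc : c ∈ rr.map (algebraMap R S)) (y : X) :
    c • y ∈ rr • (⊤ : Submodule R X) := by
  revert y
  induction hc using Submodule.span_induction with
  | mem c hc =>
    obtain ⟨ρ, hρ, rfl⟩ := hc
    intro y
    rw [algebraMap_smul]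
    exact Submodule.smul_mem_smul hρ Submodule.mem_top
  | zero =>
    intro y
    rw [zero_smul]
    exact Submodule.zero_mem _
  | add c d _ _ hc hd =>
    intro y
    rw [add_smul]
    exact Submodule.add_mem _ (hc y) (hd y)
  | smul s c _ hc =>
    intro y
    rw [smul_eq_mul, mul_comm, mul_smul]
    exact hc (s • y)

/-- Abstract form: if `N` is flat over `R` at `p = rr S`, `α : A → N` is surjective at `p` and its
kernel lies in `p A`, then `α_p` is injective. -/
theorem locMap_injective_of_flat_aux (rr : Ideal R) [rr.IsPrime] (p : Ideal S) [p.IsPrime]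
    (hp : p = rr.map (algebraMap R S))
    (N : Type u) [AddCommGroup N] [Module S N] [Module R N] [IsScalarTower R S N]
    [Module.FinitePresentation S N]
    (A : Type u) [AddCommGroup A] [Module S A] [Module R A] [IsScalarTower R S A] [Module.Finite S A]
    (α : A →ₗ[S] N)
    (hsurj : Function.Surjective (LocalizedModule.map p.primeCompl α))
    (hker : ∀ a, α a = 0 → a ∈ p • (⊤ : Submodule S A))
    (hflat : Module.Flat R (LocalizedModule p.primeCompl N)) :
    Function.Injective (LocalizedModule.map p.primeCompl α) := by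
  classical
  set αp := LocalizedModule.map p.primeCompl α with hαp
  have hfg : (LinearMap.ker αp).FG := Module.FinitePresentation.fg_ker αp hsurj
  -- the `R`-linear kernel
  let f : LocalizedModule p.primeCompl A →ₗ[R] LocalizedModule p.primeCompl N :=
    αp.restrictScalars R
  have hinj : Function.Injective ((LinearMap.ker f).subtype.lTensor (R ⧸ rr)) :=
    LinearMap.lTensor_injective_of_exact_of_flat f hsurj (LinearMap.ker f).subtype
      (LinearMap.ker f).subtype_injective (LinearMap.exact_subtype_ker_map f) (R ⧸ rr)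
  -- step (3b)
  have h3b : ∀ k ∈ LinearMap.ker f,
      k ∈ rr • (⊤ : Submodule R (LocalizedModule p.primeCompl A)) →
      k ∈ rr • LinearMap.ker f := by
    intro k hk hk'
    have h1 : (1 : R ⧸ rr) ⊗ₜ[R] (⟨k, hk⟩ : LinearMap.ker f) = 0 := by
      apply hinj
      rw [LinearMap.lTensor_tmul, map_zero]
      apply (TensorProduct.quotTensorEquivQuotSMul _ rr).injective
      rw [TensorProduct.quotTensorEquivQuotSMul_mk_one_tmul, map_zero,
        Submodule.Quotient.mk_eq_zero]
      exact hk'
    have h2 : (⟨k, hk⟩ : LinearMap.ker f) ∈ rr • (⊤ : Submodule R (LinearMap.ker f)) := by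
      have := congrArg (TensorProduct.quotTensorEquivQuotSMul (LinearMap.ker f) rr) h1
      rw [TensorProduct.quotTensorEquivQuotSMul_mk_one_tmul, map_zero,
        Submodule.Quotient.mk_eq_zero] at this
      exact this
    have h3 : (LinearMap.ker f).subtype ⟨k, hk⟩ ∈
        Submodule.map (LinearMap.ker f).subtype (rr • (⊤ : Submodule R (LinearMap.ker f))) :=
      Submodule.mem_map_of_mem h2
    rw [Submodule.map_smul'', Submodule.map_subtype_top] at h3
    exact h3
  -- step (3c)
  have h3c : rr • LinearMap.ker f ≤ ((IsLocalRing.maximalIdeal (Localization.AtPrime p)) •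
      (LinearMap.ker αp)).restrictScalars R := by
    rw [Submodule.smul_le]
    intro ρ hρ k hk
    rw [Submodule.restrictScalars_mem, ← algebraMap_smul (Localization.AtPrime p) ρ k]
    refine Submodule.smul_mem_smul ?_ hk
    rw [IsScalarTower.algebraMap_apply R S (Localization.AtPrime p),
      IsLocalization.AtPrime.to_map_mem_maximal_iff (Localization.AtPrime p) p, hp]
    exact Ideal.mem_map_of_mem _ hρ
  -- elements of `p A` land in `rr • ⊤`
  have hC : ∀ a ∈ p • (⊤ : Submodule S A), LocalizedModule.mk a (1 : p.primeCompl) ∈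
      rr • (⊤ : Submodule R (LocalizedModule p.primeCompl A)) := by
    intro a ha
    refine Submodule.smul_induction_on ha ?_ ?_
    · intro c hc y _
      have : LocalizedModule.mk (c • y) (1 : p.primeCompl) =
          c • LocalizedModule.mk y (1 : p.primeCompl) := by
        rw [← LocalizedModule.mkLinearMap_apply, map_smul, LocalizedModule.mkLinearMap_apply]
      rw [this]
      exact smul_mem_smul_top_of_mem_map rr (hp ▸ hc) _
    · intro x y hx hy
      have : LocalizedModule.mk (x + y) (1 : p.primeCompl) =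
          LocalizedModule.mk x (1 : p.primeCompl) + LocalizedModule.mk y (1 : p.primeCompl) := by
        rw [← LocalizedModule.mkLinearMap_apply, map_add, LocalizedModule.mkLinearMap_apply,
          LocalizedModule.mkLinearMap_apply]
      rw [this]
      exact Submodule.add_mem _ hx hy
  -- Nakayama
  have hle : LinearMap.ker αp ≤
      (IsLocalRing.maximalIdeal (Localization.AtPrime p)) • (LinearMap.ker αp) := by
    intro k hk
    induction k using LocalizedModule.induction_on with
    | h a t =>
      rw [LinearMap.mem_ker, hαp, LocalizedModule.map_mk, IsLocalizedModule.mk_eq_mk',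
        IsLocalizedModule.mk'_eq_zero'] at hk
      obtain ⟨t', ht'⟩ := hk
      have hb : α (t' • a) = 0 := by
        rw [Submonoid.smul_def] at ht' ⊢
        rw [map_smul]
        exact ht'
      have hmkb := hC _ (hker _ hb)
      have hmkK : LocalizedModule.mk (t' • a) (1 : p.primeCompl) ∈ LinearMap.ker f := by
        change αp _ = 0
        rw [hαp, LocalizedModule.map_mk, hb, LocalizedModule.zero_mk]
      have h4 := h3c (h3b _ hmkK hmkb)
      rw [Submodule.restrictScalars_mem] at h4
      have h5 : LocalizedModule.mk a t =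
          (Localization.mk (1 : S) (t' * t)) • LocalizedModule.mk (t' • a) (1 : p.primeCompl) := by
        rw [LocalizedModule.mk_smul_mk, one_smul, mul_one, LocalizedModule.mk_cancel_common_left]
      rw [h5]
      exact Submodule.smul_mem _ _ h4
  have hbot := Submodule.eq_bot_of_le_smul_of_le_jacobson_bot _ _ hfg hle
    (IsLocalRing.maximalIdeal_le_jacobson ⊥)
  exact LinearMap.ker_eq_bot.mp hbot

/-- If `N` is flat over `R` at `p = rr S` and `α : S^r → N` is bijective on the fibre at `p`, then
`α_p` is bijective. -/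
theorem locMap_bijective_of_flat (rr : Ideal R) [rr.IsPrime] (p : Ideal S) [p.IsPrime]
    (hp : p = rr.map (algebraMap R S))
    (N : Type u) [AddCommGroup N] [Module S N] [Module R N] [IsScalarTower R S N]
    [Module.FinitePresentation S N] (r : ℕ) (α : (Fin r → S) →ₗ[S] N)
    (hbij : Function.Bijective (α.baseChange p.ResidueField))
    (hflat : Module.Flat R (LocalizedModule p.primeCompl N)) :
    Function.Bijective (LocalizedModule.map p.primeCompl α) := by
  classical
  have hsurj : Function.Surjective (LocalizedModule.map p.primeCompl α) :=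
    locMap_surjective_of p.primeCompl α
      (fun b => exists_smul_mem_range_of_baseChange_surjective p α hbij.2 b)
  refine ⟨locMap_injective_of_flat_aux rr p hp N (Fin r → S) α hsurj ?_ hflat, hsurj⟩
  intro b hb
  have hcoord : ∀ i, b i ∈ p := by
    have h0 : (α.baseChange p.ResidueField) ((1 : p.ResidueField) ⊗ₜ[S] b) = 0 := by
      rw [LinearMap.baseChange_tmul, hb, TensorProduct.tmul_zero]
    have h1 : (1 : p.ResidueField) ⊗ₜ[S] b = 0 := hbij.1 (h0.trans (map_zero _).symm)
    have h2 := congrArg (TensorProduct.piScalarRight S p.ResidueField p.ResidueField (Fin r)) h1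
    rw [map_zero, TensorProduct.piScalarRight_apply, TensorProduct.piScalarRightHom_tmul] at h2
    intro i
    have h3 := congrFun h2 i
    rw [Pi.zero_apply, Algebra.smul_def, mul_one] at h3
    exact Ideal.algebraMap_residueField_eq_zero.mp h3
  rw [pi_eq_sum_univ b]
  refine Submodule.sum_mem _ fun i _ => ?_
  exact Submodule.smul_mem_smul (hcoord i) Submodule.mem_top

end Bij

end Groth.Agent.Lib.Helper22.FiberBasisB
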