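import Mathlib
import Groth.Prelude.Def_FlatCA
import Groth.Agent.Lib.Helper22FiberBasisB
import Groth.Agent.Lib.Helper22ElemDev
import Groth.Agent.Lib.Helper3FlatOpenFP

set_option autoImplicit false
set_option linter.style.haveILetI false
set_option linter.unusedSectionVars false

open scoped TensorProduct

namespace Groth.Agent.Lib.Helper22.FiberBasisC

open Groth.Agent.Lib.Helper22.FiberBasisA Groth.Agent.Lib.Helper22.FiberBasisB
  Groth.Agent.Lib.Helper3.FlatLoc

universe u

section General

variable {R S : Type u} [CommRing R] [CommRing S] [Algebra R S]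

/-- A bijective linear map is universally injective. -/
theorem univInj_of_bijective {M M' : Type u} [AddCommGroup M] [AddCommGroup M'] [Module R M]
    [Module R M'] (f : M →ₗ[R] M') (hf : Function.Bijective f) : FlatCA.UnivInj R f := by
  intro Q _ _
  have h := ((LinearEquiv.ofBijective f hf).lTensor Q).injective
  have e : ⇑((LinearEquiv.ofBijective f hf).lTensor Q) = ⇑(f.lTensor Q) := by
    ext x
    rfl
  rw [e] at h
  exact h

/-- Iterating regularity of `u` up to `f'`-torsion. -/
theorem torsion_powers_of_regular (f' u : S) {X : Type*} [AddCommGroup X] [Module S X]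
    (hreg : ∀ x : X, (∃ s ∈ Submonoid.powers f', s • u • x = 0) →
      ∃ s ∈ Submonoid.powers f', s • x = 0)
    (x : X) (hx : ∃ s ∈ Submonoid.powers u, s • x = 0) : ∃ s ∈ Submonoid.powers f', s • x = 0 := by
  obtain ⟨_, ⟨k, rfl⟩, hk⟩ := hx
  replace hk : u ^ k • x = 0 := hk
  induction k generalizing x with
  | zero =>
    rw [pow_zero, one_smul] at hk
    exact ⟨1, Submonoid.one_mem _, by rw [hk, smul_zero]⟩
  | succ k ih =>
    have h1 : ∃ s ∈ Submonoid.powers f', s • u • (u ^ k • x) = 0 :=
      ⟨1, Submonoid.one_mem _, by rw [one_smul, ← mul_smul, ← pow_succ', hk]⟩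
    obtain ⟨s, hs, hsx⟩ := hreg _ h1
    have h2 : u ^ k • (s • x) = 0 := by rw [smul_comm]; exact hsx
    obtain ⟨s', hs', hs'x⟩ := ih (s • x) h2
    exact ⟨s' * s, Submonoid.mul_mem _ hs' hs, by rw [mul_smul]; exact hs'x⟩

variable (T : Submonoid S)
  {A N : Type u} [AddCommGroup A] [AddCommGroup N] [Module S A] [Module S N] [Module R A]
  [Module R N] [IsScalarTower R S A] [IsScalarTower R S N] (α : A →ₗ[S] N)

/-- Universal injectivity of a localized map implies its injectivity. -/
theorem locMap_injective_of_univInj
    (h : FlatCA.UnivInj R ((LocalizedModule.map T α).restrictScalars R)) :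
    Function.Injective (LocalizedModule.map T α) := by
  rw [locMap_injective_iff]
  intro a ha
  have h1 := (univInj_locMap_iff T α).mp h R (a ⊗ₜ[R] (1 : R))
    (by rw [TensorProduct.AlgebraTensorModule.rTensor_tmul, ha, TensorProduct.zero_tmul])
  obtain ⟨s, hs, hsa⟩ := h1
  refine ⟨s, hs, ?_⟩
  rw [TensorProduct.smul_tmul'] at hsa
  have := congrArg (TensorProduct.rid R A) hsa
  rw [TensorProduct.rid_tmul, one_smul, map_zero] at this
  exact this

/-- Universal injectivity passes to a larger multiplicative set. -/
theorem univInj_locMap_of_le {T T' : Submonoid S} (hTT' : T ≤ T')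
    (h : FlatCA.UnivInj R ((LocalizedModule.map T α).restrictScalars R)) :
    FlatCA.UnivInj R ((LocalizedModule.map T' α).restrictScalars R) := by
  rw [univInj_locMap_iff] at h ⊢
  intro Q _ _ x hx
  obtain ⟨s, hs, hsx⟩ := h Q x hx
  exact ⟨s, hTT' hs, hsx⟩

/-- Injectivity of a localized map passes to a larger multiplicative set. -/
theorem locMap_injective_of_le {T T' : Submonoid S} (hTT' : T ≤ T')
    (h : Function.Injective (LocalizedModule.map T α)) :
    Function.Injective (LocalizedModule.map T' α) := by
  rw [locMap_injective_iff] at h ⊢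
  intro x hx
  obtain ⟨s, hs, hsx⟩ := h x hx
  exact ⟨s, hTT' hs, hsx⟩

/-- If `α_T` is universally injective and `N_T` is flat over `R` then `Coker(α)_T` is flat. -/
theorem flat_coker_of_univInj [Module.Flat R (LocalizedModule T N)]
    (h : FlatCA.UnivInj R ((LocalizedModule.map T α).restrictScalars R)) :
    Module.Flat R (LocalizedModule T (N ⧸ LinearMap.range α)) := by
  refine flat_of_injective_quotients ((LocalizedModule.map T α).restrictScalars R)
    ((LocalizedModule.map T (LinearMap.range α).mkQ).restrictScalars R)
    (LocalizedModule.map_surjective T _ (Submodule.mkQ_surjective _))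
    (LocalizedModule.map_exact T α _ (LinearMap.exact_map_mkQ_range α))
    (fun I => h (R ⧸ I))

/-- If `α_T` is injective, `A` is flat over `R` and `Coker(α)_T` is flat then `N_T` is flat. -/
theorem flat_of_injective_of_flat_coker [Module.Flat R A]
    (hinj : Function.Injective (LocalizedModule.map T α))
    (hC : Module.Flat R (LocalizedModule T (N ⧸ LinearMap.range α))) :
    Module.Flat R (LocalizedModule T N) := by
  haveI : Module.Flat R (LocalizedModule T A) := flat_localizedModule_of_flat T
  exact flat_of_exact ((LocalizedModule.map T α).restrictScalars R)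
    ((LocalizedModule.map T (LinearMap.range α).mkQ).restrictScalars R) hinj
    (LocalizedModule.map_surjective T _ (Submodule.mkQ_surjective _))
    (LocalizedModule.map_exact T α _ (LinearMap.exact_map_mkQ_range α))

end General

section Open

variable {R S : Type u} [CommRing R] [CommRing S] [Algebra R S] [Algebra.FinitePresentation R S]

/-- Flatness at a prime spreads to a basic open neighbourhood (finitely presented case). -/
theorem exists_flat_powers_of_flatAt (C : Type u) [AddCommGroup C] [Module S C] [Module R C]
    [IsScalarTower R S C] [Module.FinitePresentation S C] (q : Ideal S) [q.IsPrime]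
    (h : Module.Flat R (LocalizedModule q.primeCompl C)) :
    ∃ g : S, g ∉ q ∧ Module.Flat R (LocalizedModule (Submonoid.powers g) C) := by
  have hopen := Groth.Agent.Lib.Helper3.FlatOpen.isOpen_flatLocus_of_finitePresentation
    (R := R) (S := S) (M := C)
  have hmem : (⟨q, inferInstance⟩ : PrimeSpectrum S) ∈
      {q : PrimeSpectrum S | Module.Flat R (LocalizedModule q.asIdeal.primeCompl C)} := h
  obtain ⟨_, ⟨_, ⟨g, rfl⟩, rfl⟩, hqg, hgU⟩ :=
    PrimeSpectrum.isBasis_basic_opens.exists_subset_of_mem_open hmem hopen
  refine ⟨g, hqg, ?_⟩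
  rw [Groth.Agent.Lib.Helper22.ElemDev.flat_localizedModule_powers_iff]
  intro Q _ hgQ
  exact hgU (a := ⟨Q, inferInstance⟩) hgQ

end Open


section Main

variable {R S : Type u} [CommRing R] [CommRing S] [Algebra R S]

theorem map_le_of_liesOver (rr : Ideal R) (q : Ideal S) [q.LiesOver rr] :
    rr.map (algebraMap R S) ≤ q := by
  rw [Ideal.map_le_iff_le_comap]
  exact (Ideal.LiesOver.over (p := rr) (P := q)).le

theorem liesOver_map (rr : Ideal R) (q : Ideal S) [q.LiesOver rr] :
    (rr.map (algebraMap R S)).LiesOver rr := by
  refine ⟨le_antisymm Ideal.le_comap_map ?_⟩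
  have h1 : (rr.map (algebraMap R S)).under R ≤ q.under R :=
    Ideal.comap_mono (map_le_of_liesOver rr q)
  rw [← Ideal.LiesOver.over (p := rr) (P := q)] at h1
  exact h1

theorem primeCompl_le_primeCompl (rr : Ideal R) (q : Ideal S) [q.IsPrime] [q.LiesOver rr]
    [(rr.map (algebraMap R S)).IsPrime] :
    q.primeCompl ≤ (rr.map (algebraMap R S)).primeCompl :=
  fun _ hx hx' => hx (map_le_of_liesOver rr q hx')

theorem algebraMapSubmonoid_le (rr : Ideal R) [rr.IsPrime] (q : Ideal S) [q.IsPrime]
    [q.LiesOver rr] : Algebra.algebraMapSubmonoid S rr.primeCompl ≤ q.primeCompl := by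
  rintro _ ⟨ρ, hρ, rfl⟩ hq
  apply hρ
  rw [Ideal.LiesOver.over (p := rr) (P := q)]
  exact hq

theorem powers_le_algebraMapSubmonoid (rr : Ideal R) [rr.IsPrime] (f : R) (hf : f ∉ rr) :
    Submonoid.powers (algebraMap R S f) ≤ Algebra.algebraMapSubmonoid S rr.primeCompl := by
  rw [Submonoid.powers_le]
  exact ⟨f, hf, rfl⟩

theorem finitePresentation_coker {A N : Type u} [AddCommGroup A] [AddCommGroup N] [Module S A]
    [Module S N] [Module.Finite S A] [Module.FinitePresentation S N] (α : A →ₗ[S] N) :
    Module.FinitePresentation S (N ⧸ LinearMap.range α) := by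
  refine Module.finitePresentation_of_surjective (LinearMap.range α).mkQ
    (Submodule.mkQ_surjective _) ?_
  rw [Submodule.ker_mkQ, LinearMap.range_eq_map]
  exact (Module.Finite.fg_top).map α

variable [Algebra.FinitePresentation R S] [Module.Flat R S]
  (hgi : FlatCA.GeomIntegralFibres R S) (rr : Ideal R) [rr.IsPrime]
  [(rr.map (algebraMap R S)).IsPrime] (q : Ideal S) [q.IsPrime] [q.LiesOver rr]
  (N : Type u) [AddCommGroup N] [Module S N] [Module R N] [IsScalarTower R S N]
  [Module.FinitePresentation S N] (r : ℕ) (α : (Fin r → S) →ₗ[S] N)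

include hgi in
/-- If `α` is bijective at the generic point `rr S` of the fibre, it is universally injective at
every point `q` of the fibre. -/
theorem univInj_of_bijective_at_generic
    (hbij : Function.Bijective (LocalizedModule.map (rr.map (algebraMap R S)).primeCompl α)) :
    FlatCA.UnivInj R ((LocalizedModule.map q.primeCompl α).restrictScalars R) := by
  haveI := liesOver_map rr q
  rw [univInj_locMap_iff]
  intro Q _ _ x hx
  have hU : FlatCA.UnivInj R
      ((LocalizedModule.map (rr.map (algebraMap R S)).primeCompl α).restrictScalars R) :=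
    univInj_of_bijective _ hbij
  obtain ⟨u, hu, hux⟩ := (univInj_locMap_iff _ α).mp hU Q x hx
  have hreg := isSMulRegular_fibre hgi rr (rr.map (algebraMap R S)) u hu r
  exact torsion_of_smul_torsion (Fin r → S) rr q (Ideal.LiesOver.over (p := rr) (P := q)) u hreg Q x
    ⟨1, Submonoid.one_mem _, by rw [one_smul]; exact hux⟩

include hgi q in
/-- If `α` is bijective at the generic point `rr S` of the fibre, it is universally injective over
a basic open neighbourhood of `rr`. -/
theorem exists_univInj_powers
    (hbij : Function.Bijective (LocalizedModule.map (rr.map (algebraMap R S)).primeCompl α)) :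
    ∃ f : R, f ∉ rr ∧ FlatCA.UnivInj R
      ((LocalizedModule.map (Submonoid.powers (algebraMap R S f)) α).restrictScalars R) := by
  haveI := liesOver_map rr q
  have hbij' := (IsLocalizedModule.map_bijective_iff_localizedModuleMap_bijective
    (LocalizedModule.mkLinearMap (rr.map (algebraMap R S)).primeCompl (Fin r → S))
    (LocalizedModule.mkLinearMap (rr.map (algebraMap R S)).primeCompl N) (l := α)).mpr hbij
  obtain ⟨u, hu, hubij⟩ := Module.FinitePresentation.exists_notMem_bijective α
    (rr.map (algebraMap R S)) _ _ hbij'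
  obtain ⟨f, hf, hreg⟩ := exists_basicOpen_regular hgi rr (rr.map (algebraMap R S)) u hu r
  refine ⟨f, hf, ?_⟩
  rw [univInj_locMap_iff]
  intro Q _ _ x hx
  have hU := univInj_of_bijective
    ((LocalizedModule.map (Submonoid.powers u) α).restrictScalars R) hubij
  have h1 := (univInj_locMap_iff _ α).mp hU Q x hx
  exact torsion_powers_of_regular (algebraMap R S f) u (hreg Q) x h1

end Main

end Groth.Agent.Lib.Helper22.FiberBasisC
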