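import Mathlib

/-!
# Dimension of a finite flat module of constant rank over a finite-dimensional algebra (helper22)

`finrank_eq_mul_of_rankAtStalk`: if `A` is a finite-dimensional `K`-algebra and `M` a finite flat
`A`-module of constant rank `m`, then `dim_K M = m * dim_K A`.  (Dévissage on the second factor of
`M ⊗ N`, following helper12's `finrank_tensor_le`.)
-/

set_option autoImplicit false
set_option linter.style.haveILetI false
set_option linter.unusedSectionVars false
set_option linter.unusedVariables false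
universe u
open TensorProduct

namespace Groth.Agent.Lib.Helper22.FinrankTower

section
variable {K A M : Type u} [Field K] [CommRing A] [Algebra K A] [Module.Finite K A]
  [AddCommGroup M] [Module A M] [Module K M] [IsScalarTower K A M] [Module.Finite A M]
  [Module.Flat A M]

lemma finrank_tensor_eq (n : ℕ)
    (hfib : ∀ 𝔪 : Ideal A, 𝔪.IsMaximal →
      Module.finrank K (M ⊗[A] (A ⧸ 𝔪)) = n * Module.finrank K (A ⧸ 𝔪)) :
    ∀ (d : ℕ) (N : Type u) [AddCommGroup N] [Module A N] [Module K N] [IsScalarTower K A N]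
      [Module.Finite K N], Module.finrank K N = d →
      Module.finrank K (M ⊗[A] N) = n * Module.finrank K N := by
  intro d
  induction d using Nat.strong_induction_on with
  | _ d ih =>
  intro N _ _ _ _ _ hd
  by_cases hN : Subsingleton N
  · haveI := hN
    rw [Module.finrank_zero_of_subsingleton, Module.finrank_zero_of_subsingleton, Nat.mul_zero]
  rw [not_subsingleton_iff_nontrivial] at hN
  haveI := hN
  haveI : IsNoetherian K N := inferInstance
  haveI : IsNoetherian A N := isNoetherian_of_tower K inferInstance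
  obtain ⟨N', hN'⟩ : ∃ N' : Submodule A N, IsCoatom N' := by
    obtain h | ⟨N', h, -⟩ := eq_top_or_exists_le_coatom (⊥ : Submodule A N)
    · exact absurd h bot_ne_top
    · exact ⟨N', h⟩
  haveI : IsSimpleModule A (N ⧸ N') := isSimpleModule_iff_isCoatom.2 hN'
  obtain ⟨𝔪, h𝔪, ⟨e⟩⟩ := isSimpleModule_iff_quot_maximal.1 ‹IsSimpleModule A (N ⧸ N')›
  haveI : Module.Finite A N := Module.Finite.of_restrictScalars_finite K A N
  haveI : Module.Finite K (M ⊗[A] N) := Module.Finite.trans A _
  haveI : Module.Finite K ↥N' :=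
    Module.Finite.of_injective (N'.subtype.restrictScalars K) N'.injective_subtype
  haveI : Module.Finite A ↥N' := Module.Finite.of_restrictScalars_finite K A ↥N'
  haveI : Module.Finite K (M ⊗[A] ↥N') := Module.Finite.trans A _
  have hdimq : Module.finrank K (N ⧸ N') = Module.finrank K (A ⧸ 𝔪) :=
    LinearEquiv.finrank_eq (e.restrictScalars K)
  have hdim : Module.finrank K N = Module.finrank K N' + Module.finrank K (A ⧸ 𝔪) := by
    rw [← hdimq]
    have := Submodule.finrank_quotient_add_finrank (N'.restrictScalars K)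
    have h2 : Module.finrank K (N ⧸ N'.restrictScalars K) = Module.finrank K (N ⧸ N') :=
      LinearEquiv.finrank_eq (Submodule.Quotient.restrictScalarsEquiv K N')
    rw [h2] at this
    rw [← this, add_comm]
    rfl
  haveI : Nontrivial (A ⧸ 𝔪) := Ideal.Quotient.nontrivial_iff.2 h𝔪.ne_top
  have hpos : 0 < Module.finrank K (A ⧸ 𝔪) := Module.finrank_pos
  have ih' := ih (Module.finrank K N') (by omega) N' rfl
  have hex : Function.Exact N'.subtype N'.mkQ := LinearMap.exact_subtype_mkQ N'
  have hsurj : Function.Surjective N'.mkQ := N'.mkQ_surjective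
  have hex' := lTensor_exact M hex hsurj
  have hsurj' := LinearMap.lTensor_surjective M hsurj
  have hinj' : Function.Injective (LinearMap.lTensor M N'.subtype) :=
    Module.Flat.lTensor_preserves_injective_linearMap _ N'.injective_subtype
  let f' : M ⊗[A] N' →ₗ[K] M ⊗[A] N := (LinearMap.lTensor M N'.subtype).restrictScalars K
  let g' : M ⊗[A] N →ₗ[K] M ⊗[A] (N ⧸ N') := (LinearMap.lTensor M N'.mkQ).restrictScalars K
  have h1 := LinearMap.finrank_range_add_finrank_ker g'
  have h2 : Module.finrank K (LinearMap.range g') = Module.finrank K (M ⊗[A] (N ⧸ N')) := by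
    have : LinearMap.range g' = ⊤ := LinearMap.range_eq_top.2 hsurj'
    rw [this, finrank_top]
  have h3 : LinearMap.ker g' = LinearMap.range f' := by
    ext x
    exact hex' x
  have h4 : Module.finrank K (LinearMap.range f') = Module.finrank K (M ⊗[A] N') :=
    LinearMap.finrank_range_of_inj (f := f') hinj'
  have h5 : Module.finrank K (M ⊗[A] (N ⧸ N')) = Module.finrank K (M ⊗[A] (A ⧸ 𝔪)) :=
    LinearEquiv.finrank_eq ((LinearEquiv.lTensor M e).restrictScalars K)
  have h6 := hfib 𝔪 h𝔪
  rw [h3] at h1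
  rw [hdim, Nat.mul_add]
  omega

lemma finrank_eq_mul (n : ℕ)
    (hfib : ∀ 𝔪 : Ideal A, 𝔪.IsMaximal →
      Module.finrank K (M ⊗[A] (A ⧸ 𝔪)) = n * Module.finrank K (A ⧸ 𝔪)) :
    Module.finrank K M = n * Module.finrank K A := by
  have h := finrank_tensor_eq (M := M) n hfib _ A rfl
  rwa [LinearEquiv.finrank_eq ((TensorProduct.rid A M).restrictScalars K)] at h

set_option maxHeartbeats 1000000 in
lemma finrank_fibre (𝔪 : Ideal A) [h𝔪 : 𝔪.IsMaximal] (m : ℕ)
    (h : Module.rankAtStalk (R := A) M ⟨𝔪, inferInstance⟩ = m) :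
    Module.finrank K (M ⊗[A] (A ⧸ 𝔪)) = m * Module.finrank K (A ⧸ 𝔪) := by
  letI := Ideal.Quotient.field 𝔪
  have h1 : Module.finrank (A ⧸ 𝔪) ((A ⧸ 𝔪) ⊗[A] M) = m := by
    rw [← h, Module.rankAtStalk_eq]
    change _ = Module.finrank 𝔪.ResidueField (𝔪.ResidueField ⊗[A] M)
    have h2 : Module.finrank 𝔪.ResidueField (𝔪.ResidueField ⊗[A] M) =
        Module.finrank 𝔪.ResidueField (𝔪.ResidueField ⊗[A ⧸ 𝔪] ((A ⧸ 𝔪) ⊗[A] M)) :=
      (LinearEquiv.finrank_eq
        (AlgebraTensorModule.cancelBaseChange A (A ⧸ 𝔪) 𝔪.ResidueField 𝔪.ResidueField M)).symm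
    have h3 : Module.finrank 𝔪.ResidueField (𝔪.ResidueField ⊗[A ⧸ 𝔪] ((A ⧸ 𝔪) ⊗[A] M)) =
        Module.finrank (A ⧸ 𝔪) ((A ⧸ 𝔪) ⊗[A] M) :=
      Module.finrank_baseChange (R := 𝔪.ResidueField) (S := A ⧸ 𝔪) (M' := (A ⧸ 𝔪) ⊗[A] M)
    rw [h2, h3]
  rw [LinearEquiv.finrank_eq ((TensorProduct.comm A M (A ⧸ 𝔪)).restrictScalars K),
    ← Module.finrank_mul_finrank K (A ⧸ 𝔪) ((A ⧸ 𝔪) ⊗[A] M), h1, mul_comm]

theorem finrank_eq_mul_of_rankAtStalk (m : ℕ)
    (h : ∀ p : PrimeSpectrum A, Module.rankAtStalk (R := A) M p = m) :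
    Module.finrank K M = m * Module.finrank K A :=
  finrank_eq_mul m (fun 𝔪 h𝔪 => by
    haveI := h𝔪
    exact finrank_fibre 𝔪 m (h ⟨𝔪, inferInstance⟩))

end

end Groth.Agent.Lib.Helper22.FinrankTower
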