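import Mathlib
import Groth.Agent.Lib.Helper22FinrankTowerA
import Groth.Agent.Lib.Helper12UnivBdd2
import Groth.Agent.Lib.Helper18FinFlat2

/-!
# The degree of a composition of finite flat morphisms (helper22)

`finrank_comp`: if `g : T ⟶ Y` is finite flat of constant rank `m` and `f : Y ⟶ S` finite flat, then
`(g ≫ f).finrank s = m * f.finrank s`.
-/

set_option autoImplicit false
set_option linter.style.haveILetI false
set_option linter.unusedSectionVars false
set_option linter.unusedVariables false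
universe u
open CategoryTheory CategoryTheory.Limits AlgebraicGeometry

namespace Groth.Agent.Lib.Helper22.FinrankTower

open Groth.Agent.Lib.Helper12.UnivBdd in
/-- the tower formula over a field. -/
lemma finrank_comp_field {T T' : Scheme.{u}} {K : Type u} [Field K]
    (c' : T' ⟶ Spec (CommRingCat.of K)) [IsFinite c'] (r : T ⟶ T') [IsFinite r] [Flat r] (m : ℕ)
    (hr : ∀ y, r.finrank y = m) (s : ↥(Spec (CommRingCat.of K))) :
    (r ≫ c').finrank s = m * c'.finrank s := by
  haveI : IsAffine T' := isAffine_of_isAffineHom c'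
  haveI : IsAffine T := isAffine_of_isAffineHom r
  letI algKA : Algebra K Γ(T', ⊤) :=
    ((Scheme.ΓSpecIso (CommRingCat.of K)).inv ≫ c'.appTop).hom.toAlgebra
  letI algAB : Algebra Γ(T', ⊤) Γ(T, ⊤) := r.appTop.hom.toAlgebra
  letI algKB : Algebra K Γ(T, ⊤) :=
    ((algebraMap Γ(T', ⊤) Γ(T, ⊤)).comp (algebraMap K Γ(T', ⊤))).toAlgebra
  haveI : IsScalarTower K Γ(T', ⊤) Γ(T, ⊤) := IsScalarTower.of_algebraMap_eq' rfl
  obtain ⟨hfinA, hA⟩ := finrank_eq' c' s rfl
  obtain ⟨hfinB, hB⟩ := finrank_eq' (r ≫ c') s (by rw [Scheme.Hom.comp_appTop]; rfl)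
  haveI : Module.Finite Γ(T', ⊤) Γ(T, ⊤) := r.finite_appTop
  haveI : Module.Flat Γ(T', ⊤) Γ(T, ⊤) := r.flat_appTop
  rw [hA, hB]
  refine finrank_eq_mul_of_rankAtStalk m (fun p => ?_)
  have h1 := Groth.Agent.Helper18FinFlat.finrank_eq_of_isAffine' r (T'.isoSpec.inv p)
  rw [hr] at h1
  have h2 : T'.isoSpec.hom (T'.isoSpec.inv p) = p := by
    rw [← Scheme.Hom.comp_apply, Iso.inv_hom_id]
    rfl
  rw [h2] at h1
  exact h1.symm

/-- **the tower formula** for the rank of finite flat morphisms. -/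
theorem finrank_comp {T Y S : Scheme.{u}} (g : T ⟶ Y) (f : Y ⟶ S) [IsFinite g] [Flat g]
    [IsFinite f] [Flat f] (m : ℕ) (hg : ∀ y, g.finrank y = m) (s : S) :
    (g ≫ f).finrank s = m * f.finrank s := by
  let ξ : Spec (S.residueField s) ⟶ S := S.fromSpecResidueField s
  let pt : ↥(Spec (S.residueField s)) := IsLocalRing.closedPoint (S.residueField s)
  have hpt : ξ pt = s := Scheme.fromSpecResidueField_apply s pt
  let c' : pullback f ξ ⟶ Spec (S.residueField s) := pullback.snd f ξ
  let pY : pullback f ξ ⟶ Y := pullback.fst f ξ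
  let r : pullback g pY ⟶ pullback f ξ := pullback.snd g pY
  have H : IsPullback (pullback.fst g pY) (r ≫ c') (g ≫ f) ξ :=
    ((IsPullback.of_hasPullback g pY).flip.paste_horiz (IsPullback.of_hasPullback f ξ).flip).flip
  have h1 : (r ≫ c').finrank pt = (g ≫ f).finrank (ξ pt) :=
    Scheme.Hom.finrank_of_isPullback _ _ _ _ H pt
  have h2 : c'.finrank pt = f.finrank (ξ pt) := Scheme.Hom.finrank_pullback_snd f ξ pt
  have h3 : ∀ y, r.finrank y = m := fun y => by
    rw [Scheme.Hom.finrank_pullback_snd g pY y]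
    exact hg _
  rw [← hpt, ← h1, ← h2]
  haveI : IsFinite c' := inferInstanceAs (IsFinite (pullback.snd f ξ))
  haveI : IsFinite r := inferInstanceAs (IsFinite (pullback.snd g pY))
  haveI : Flat r := inferInstanceAs (Flat (pullback.snd g pY))
  exact finrank_comp_field (K := S.residueField s) c' r m h3 pt

end Groth.Agent.Lib.Helper22.FinrankTower
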