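import Mathlib

/-!
# Helper22: Fitting decomposition for semilinear endomorphisms of finite-length modules

`R` a (commutative) ring, `σ : R →+* R` surjective, `M` a Noetherian and Artinian `R`-module,
`T : M →ₛₗ[σ] M`.  Then `M = I ⊕ K` with `T` bijective on `I` and `T^[N]` zero on `K`.
-/

set_option autoImplicit false

namespace Groth.Agent.Lib.Helper22.FittingSemilinear

universe u v

variable {R : Type u} [Ring R] {σ : R →+* R}
  {M : Type v} [AddCommGroup M] [Module R M]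

theorem iterate_add (T : M →ₛₗ[σ] M) (n : ℕ) (x y : M) :
    (⇑T)^[n] (x + y) = (⇑T)^[n] x + (⇑T)^[n] y := by
  induction n generalizing x y with
  | zero => rfl
  | succ n ih => rw [Function.iterate_succ_apply, Function.iterate_succ_apply,
      Function.iterate_succ_apply, map_add, ih]

theorem iterate_sub (T : M →ₛₗ[σ] M) (n : ℕ) (x y : M) :
    (⇑T)^[n] (x - y) = (⇑T)^[n] x - (⇑T)^[n] y := by
  induction n generalizing x y with
  | zero => rfl
  | succ n ih => rw [Function.iterate_succ_apply, Function.iterate_succ_apply,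
      Function.iterate_succ_apply, map_sub, ih]

theorem iterate_smul (T : M →ₛₗ[σ] M) (n : ℕ) (c : R) (x : M) :
    (⇑T)^[n] (c • x) = ((⇑σ)^[n] c) • (⇑T)^[n] x := by
  induction n generalizing c x with
  | zero => rfl
  | succ n ih => rw [Function.iterate_succ_apply, Function.iterate_succ_apply,
      Function.iterate_succ_apply, map_smulₛₗ, ih]

theorem iterate_zero_eq (T : M →ₛₗ[σ] M) (n : ℕ) : (⇑T)^[n] (0 : M) = 0 :=
  iterate_map_zero T n

/-- kernel of the `n`-th iterate -/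
def K (T : M →ₛₗ[σ] M) (n : ℕ) : Submodule R M where
  carrier := {v | (⇑T)^[n] v = 0}
  add_mem' := by
    intro a b ha hb
    show (⇑T)^[n] (a + b) = 0
    rw [iterate_add, ha, hb, add_zero]
  zero_mem' := iterate_zero_eq T n
  smul_mem' := by
    intro c x hx
    show (⇑T)^[n] (c • x) = 0
    rw [iterate_smul, hx, smul_zero]

theorem mem_K (T : M →ₛₗ[σ] M) (n : ℕ) (v : M) : v ∈ K T n ↔ (⇑T)^[n] v = 0 := Iff.rfl

theorem K_mono (T : M →ₛₗ[σ] M) : Monotone (K T) := by
  apply monotone_nat_of_le_succ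
  intro n v hv
  rw [mem_K] at hv ⊢
  rw [Function.iterate_succ_apply', hv, map_zero]

/-- image of the `n`-th iterate (a submodule since `σ` is surjective) -/
def I (hσ : Function.Surjective σ) (T : M →ₛₗ[σ] M) (n : ℕ) : Submodule R M where
  carrier := {v | ∃ u, (⇑T)^[n] u = v}
  add_mem' := by
    rintro _ _ ⟨a, rfl⟩ ⟨b, rfl⟩
    exact ⟨a + b, iterate_add T n a b⟩
  zero_mem' := ⟨0, iterate_zero_eq T n⟩
  smul_mem' := by
    rintro c _ ⟨a, rfl⟩
    obtain ⟨c', rfl⟩ := (hσ.iterate n) c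
    exact ⟨c' • a, iterate_smul T n c' a⟩

theorem mem_I (hσ : Function.Surjective σ) (T : M →ₛₗ[σ] M) (n : ℕ) (v : M) :
    v ∈ I hσ T n ↔ ∃ u, (⇑T)^[n] u = v := Iff.rfl

theorem I_antitone (hσ : Function.Surjective σ) (T : M →ₛₗ[σ] M) : Antitone (I hσ T) := by
  apply antitone_nat_of_succ_le
  rintro n _ ⟨u, rfl⟩
  exact ⟨T u, (Function.iterate_succ_apply _ _ _).symm⟩

theorem exists_K_stable [IsNoetherian R M] (T : M →ₛₗ[σ] M) :
    ∃ N : ℕ, ∀ m : ℕ, N ≤ m → K T m = K T N := by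
  obtain ⟨N, hN⟩ := monotone_stabilizes_iff_noetherian.mpr (inferInstance : IsNoetherian R M)
    (⟨K T, K_mono T⟩ : ℕ →o Submodule R M)
  exact ⟨N, fun m hm => (hN m hm).symm⟩

theorem exists_I_stable [IsArtinian R M] (hσ : Function.Surjective σ) (T : M →ₛₗ[σ] M) :
    ∃ N : ℕ, ∀ m : ℕ, N ≤ m → I hσ T m = I hσ T N := by
  obtain ⟨N, hN⟩ := IsArtinian.monotone_stabilizes
    (⟨fun n => OrderDual.toDual (I hσ T n), fun i j hij =>
      OrderDual.toDual_le_toDual.mpr (I_antitone hσ T hij)⟩ : ℕ →o (Submodule R M)ᵒᵈ)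
  exact ⟨N, fun m hm => (congrArg OrderDual.ofDual (hN m hm)).symm⟩

/-- Fitting decomposition for a semilinear endomorphism of a finite-length module. -/
theorem fitting [IsNoetherian R M] [IsArtinian R M] (hσ : Function.Surjective σ)
    (T : M →ₛₗ[σ] M) :
    ∃ Ms Mn : Submodule R M, IsCompl Ms Mn ∧
      Set.MapsTo T Ms Ms ∧ Set.MapsTo T Mn Mn ∧ Set.BijOn T Ms Ms ∧
      ∃ r : ℕ, ∀ x ∈ Mn, (⇑T)^[r] x = 0 := by
  obtain ⟨N1, hN1⟩ := exists_I_stable hσ T
  obtain ⟨N2, hN2⟩ := exists_K_stable T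
  set N := max N1 N2 with hNdef
  have hI : ∀ m, N ≤ m → I hσ T m = I hσ T N := fun m hm => by
    rw [hN1 m (le_trans (le_max_left _ _) hm), hN1 _ (le_max_left _ _)]
  have hK : ∀ m, N ≤ m → K T m = K T N := fun m hm => by
    rw [hN2 m (le_trans (le_max_right _ _) hm), hN2 _ (le_max_right _ _)]
  have hmaps : Set.MapsTo T (I hσ T N) (I hσ T N) := by
    rintro _ ⟨u, rfl⟩
    exact ⟨T u, Function.iterate_succ_apply _ _ _ |>.symm ▸ (Function.iterate_succ_apply' _ _ _)⟩
  have hdisj : ∀ v, v ∈ I hσ T N → v ∈ K T N → v = 0 := by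
    rintro _ ⟨u, rfl⟩ hv
    rw [mem_K, ← Function.iterate_add_apply] at hv
    have : u ∈ K T (N + N) := hv
    rw [hK _ (Nat.le_add_right _ _)] at this
    exact this
  refine ⟨I hσ T N, K T N, ⟨?_, ?_⟩, hmaps, ?_, ⟨hmaps, ?_, ?_⟩, N, fun x hx => hx⟩
  · rw [Submodule.disjoint_def]
    exact hdisj
  · rw [Submodule.codisjoint_iff_exists_add_eq]
    intro z
    have h1 : (⇑T)^[N] z ∈ I hσ T (N + N) := by
      rw [hI _ (Nat.le_add_right _ _)]
      exact ⟨z, rfl⟩
    obtain ⟨u, hu⟩ := h1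
    rw [Function.iterate_add_apply] at hu
    refine ⟨(⇑T)^[N] u, z - (⇑T)^[N] u, ⟨u, rfl⟩, ?_, by abel⟩
    rw [mem_K, iterate_sub, hu, sub_self]
  · intro v hv
    show (⇑T)^[N] (T v) = 0
    rw [← Function.iterate_succ_apply, Function.iterate_succ_apply', (hv : (⇑T)^[N] v = 0),
      map_zero]
  · intro x hx y hy hxy
    have hxy' : x - y ∈ K T N := by
      have h1 : x - y ∈ K T 1 := by
        show (⇑T)^[1] (x - y) = 0
        rw [Function.iterate_one, map_sub, hxy, sub_self]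
      have h2 : x - y ∈ K T (N + 1) := K_mono T (Nat.le_add_left 1 N) h1
      rwa [hK _ (Nat.le_succ N)] at h2
    have := hdisj (x - y) (Submodule.sub_mem _ hx hy) hxy'
    exact sub_eq_zero.mp this
  · intro w hw
    have hw' : w ∈ I hσ T (N + 1) := by rw [hI _ (Nat.le_succ N)]; exact hw
    obtain ⟨u, hu⟩ := hw'
    refine ⟨(⇑T)^[N] u, ⟨u, rfl⟩, ?_⟩
    rw [← hu, Function.iterate_succ_apply']

end Groth.Agent.Lib.Helper22.FittingSemilinear
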