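import Mathlib
import Groth.Agent.Lib.Helper14FlatAboveA
import Groth.Agent.Lib.Helper2PullbackFlat2

/-!
# Descent of flatness at primes along a base change flat and surjective near `V(I)` (helper22)

* `exists_prime_over_pair`: in a pushout square, two primes over the same prime come from a common prime.
* `flat_localized_of_flat_localized'`: variant of helper14's descent lemma with flatness only at `Q`.
* `flat_localizedModule_of_flat_atPrime`: `N_Q` flat over `R'`, `R'_{p'}` flat over `R` ⇒ `N_Q` flat over `R`.
* `main`: Stacks-style descent of `FlatAt` over pairs `(R, I) → (R', I')`.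
-/

set_option autoImplicit false
set_option linter.style.haveILetI false
set_option linter.unusedSectionVars false

open TensorProduct

namespace Groth.Agent.Lib.Helper22.FlatIdealsDesc

open Groth.Agent.Lib.Helper14.FlatAbove Groth.Agent.Lib.Helper2.PullbackFlat

universe u

section Prime

/-- In a pushout square `S' = S ⊗[R] R'`, two primes `q ⊂ S`, `p' ⊂ R'` over the same prime of `R` are
the contractions of a common prime of `S'`. -/
theorem exists_prime_over_pair {R S R' S' : Type u} [CommRing R] [CommRing S] [CommRing R']
    [CommRing S'] [Algebra R S] [Algebra R R'] [Algebra S S'] [Algebra R' S'] [Algebra R S']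
    [IsScalarTower R S S'] [IsScalarTower R R' S'] [Algebra.IsPushout R S R' S']
    (q : Ideal S) [q.IsPrime] (p' : Ideal R') [p'.IsPrime]
    (hpq : q.comap (algebraMap R S) = p'.comap (algebraMap R R')) :
    ∃ Q : Ideal S', Q.IsPrime ∧ Q.comap (algebraMap S S') = q ∧
      Q.comap (algebraMap R' S') = p' := by
  set p : Ideal R := q.comap (algebraMap R S) with hp
  haveI : p.IsPrime := Ideal.comap_isPrime _ _
  let φ₁ : p.ResidueField →+* q.ResidueField := Ideal.ResidueField.map p q (algebraMap R S) rfl
  let φ₂ : p.ResidueField →+* p'.ResidueField :=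
    Ideal.ResidueField.map p p' (algebraMap R R') hpq
  letI a₁ : Algebra p.ResidueField q.ResidueField := φ₁.toAlgebra
  letI a₂ : Algebra p.ResidueField p'.ResidueField := φ₂.toAlgebra
  let T := q.ResidueField ⊗[p.ResidueField] p'.ResidueField
  letI aRT : Algebra R T := ((algebraMap p.ResidueField T).comp (algebraMap R p.ResidueField)).toAlgebra
  have hRT : ∀ r : R, algebraMap R T r = algebraMap p.ResidueField T (algebraMap R p.ResidueField r) :=
    fun r => rfl
  let f : S →ₐ[R] T :=
    { toRingHom := (Algebra.TensorProduct.includeLeftRingHom).comp (algebraMap S q.ResidueField)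
      commutes' := fun r => by
        rw [hRT, Algebra.TensorProduct.algebraMap_apply]
        simp only [RingHom.toMonoidHom_eq_coe, OneHom.toFun_eq_coe, MonoidHom.toOneHom_coe,
          MonoidHom.coe_coe, RingHom.coe_comp, Function.comp_apply,
          Algebra.TensorProduct.includeLeftRingHom_apply]
        congr 1
        exact (Ideal.ResidueField.map_algebraMap p q (algebraMap R S) rfl r).symm }
  let g : R' →ₐ[R] T :=
    { toRingHom := (Algebra.TensorProduct.includeRight (R := p.ResidueField)
        (A := q.ResidueField) (B := p'.ResidueField)).toRingHom.comp (algebraMap R' p'.ResidueField)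
      commutes' := fun r => by
        rw [hRT]
        simp only [AlgHom.toRingHom_eq_coe, RingHom.toMonoidHom_eq_coe, OneHom.toFun_eq_coe,
          MonoidHom.toOneHom_coe, MonoidHom.coe_coe, RingHom.coe_comp, RingHom.coe_coe,
          Function.comp_apply, Algebra.TensorProduct.includeRight_apply]
        rw [← Ideal.ResidueField.map_algebraMap p p' (algebraMap R R') hpq r]
        change (1 : q.ResidueField) ⊗ₜ[p.ResidueField]
          (algebraMap p.ResidueField p'.ResidueField (algebraMap R p.ResidueField r)) = _
        rw [Algebra.TensorProduct.algebraMap_apply, Algebra.TensorProduct.tmul_one_eq_one_tmul] }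
  let ψ : S' →ₐ[R] T := Algebra.pushoutDesc S' f g (fun _ _ => mul_comm _ _)
  haveI : Nontrivial T := by
    have hinj : Function.Injective (Algebra.TensorProduct.includeRight (R := p.ResidueField)
        (A := q.ResidueField) (B := p'.ResidueField)) :=
      Algebra.TensorProduct.includeRight_injective
        (algebraMap p.ResidueField q.ResidueField).injective
    exact hinj.nontrivial
  obtain ⟨P, hP⟩ := Ideal.exists_maximal T
  refine ⟨P.comap ψ.toRingHom, inferInstance, ?_, ?_⟩
  · ext x
    have h1 : ψ (algebraMap S S' x) = f x := Algebra.pushoutDesc_left S' f g _ x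
    have h2 : P.comap (Algebra.TensorProduct.includeLeftRingHom :
        q.ResidueField →+* T) = ⊥ :=
      (Ideal.eq_bot_or_top _).resolve_right (Ideal.comap_ne_top _ hP.ne_top)
    rw [Ideal.mem_comap, Ideal.mem_comap]
    change ψ (algebraMap S S' x) ∈ P ↔ _
    rw [h1]
    change (algebraMap S q.ResidueField x) ∈ P.comap (Algebra.TensorProduct.includeLeftRingHom :
        q.ResidueField →+* T) ↔ _
    rw [h2, Ideal.mem_bot, Ideal.algebraMap_residueField_eq_zero]
  · ext x
    have h1 : ψ (algebraMap R' S' x) = g x := Algebra.pushoutDesc_right S' f g _ x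
    have h2 : P.comap (Algebra.TensorProduct.includeRight (R := p.ResidueField)
        (A := q.ResidueField) (B := p'.ResidueField)).toRingHom = ⊥ :=
      (Ideal.eq_bot_or_top _).resolve_right (Ideal.comap_ne_top _ hP.ne_top)
    rw [Ideal.mem_comap, Ideal.mem_comap]
    change ψ (algebraMap R' S' x) ∈ P ↔ _
    rw [h1]
    change (algebraMap R' p'.ResidueField x) ∈ P.comap (Algebra.TensorProduct.includeRight
      (R := p.ResidueField) (A := q.ResidueField) (B := p'.ResidueField)).toRingHom ↔ _
    rw [h2, Ideal.mem_bot, Ideal.algebraMap_residueField_eq_zero]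

end Prime


section Descent

variable {A' B' C' : Type*} [CommRing A'] [CommRing B'] [CommRing C'] [Algebra A' B'] [Algebra B' C']
  [Algebra A' C'] [IsScalarTower A' B' C']
variable {M' N' : Type*} [AddCommGroup M'] [AddCommGroup N'] [Module A' M'] [Module B' M']
  [IsScalarTower A' B' M']
  [Module A' N'] [Module B' N'] [Module C' N'] [IsScalarTower B' C' N'] [IsScalarTower A' C' N']
variable {h : M' →ₗ[B'] N'} (hh : IsBaseChange C' h)
variable (q : Ideal B') [q.IsPrime] (Q : Ideal C') [Q.IsPrime] [Q.LiesOver q]

include hh in
/-- descent of flatness over `A'` from `N'_Q` to `M'_q`, when `C'_Q` is flat over `B'`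
(variant of helper14's `flat_localized_of_flat_localized` with flatness only at `Q`). -/
theorem flat_localized_of_flat_localized' (hfl : Module.Flat B' (Localization.AtPrime Q))
    (hQ : Module.Flat A' (LocalizedModule Q.primeCompl N')) :
    Module.Flat A' (LocalizedModule q.primeCompl M') := by
  letI := Localization.AtPrime.algebraOfLiesOver q Q
  letI : Module (Localization.AtPrime q) (LocalizedModule Q.primeCompl N') :=
      Module.compHom _ (algebraMap (Localization.AtPrime q) (Localization.AtPrime Q))
  obtain ⟨t1, g, hg⟩ := exists_localized_isBaseChange hh q Q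
  haveI : IsLocalHom (algebraMap (Localization.AtPrime q) (Localization.AtPrime Q)) :=
    Localization.isLocalHom_localRingHom q Q (algebraMap B' C') Ideal.LiesOver.over
  haveI : Module.Flat (Localization.AtPrime q) (Localization.AtPrime Q) :=
    (Module.flat_iff_of_isLocalization (Localization.AtPrime q) q.primeCompl _).mpr hfl
  haveI : Module.FaithfullyFlat (Localization.AtPrime q) (Localization.AtPrime Q) :=
    Module.FaithfullyFlat.of_flat_of_isLocalHom
  exact flat_of_isBaseChange_of_faithfullyFlat (A' := A') hg

end Descent

section Base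

/-- If `N_Q` is flat over `R'` and `R'_{p'}` is flat over `R` (`Q` over `p'`), then `N_Q` is flat
over `R`. -/
theorem flat_localizedModule_of_flat_atPrime {R R' S' N : Type*} [CommRing R] [CommRing R']
    [CommRing S'] [Algebra R R'] [Algebra R' S'] [Algebra R S'] [IsScalarTower R R' S']
    (p' : Ideal R') [p'.IsPrime] (Q : Ideal S') [Q.IsPrime] [Q.LiesOver p']
    [AddCommGroup N] [Module S' N] [Module R' N] [IsScalarTower R' S' N] [Module R N]
    [IsScalarTower R S' N]
    (hflat : Module.Flat R (Localization.AtPrime p'))
    (h : Module.Flat R' (LocalizedModule Q.primeCompl N)) :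
    Module.Flat R (LocalizedModule Q.primeCompl N) := by
  letI := Localization.AtPrime.algebraOfLiesOver p' Q
  letI mΛ : Module (Localization.AtPrime p') (LocalizedModule Q.primeCompl N) :=
    Module.compHom _ (algebraMap (Localization.AtPrime p') (Localization.AtPrime Q))
  have hsm : ∀ (b : Localization.AtPrime p') (n : LocalizedModule Q.primeCompl N),
      b • n = algebraMap (Localization.AtPrime p') (Localization.AtPrime Q) b • n := fun _ _ => rfl
  haveI t1 : IsScalarTower R' (Localization.AtPrime p') (LocalizedModule Q.primeCompl N) :=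
    ⟨fun a x n => by
      rw [hsm, hsm, Algebra.smul_def, map_mul,
        ← IsScalarTower.algebraMap_apply R' (Localization.AtPrime p') (Localization.AtPrime Q),
        mul_smul, algebraMap_smul]⟩
  haveI t2 : IsScalarTower R (Localization.AtPrime p') (LocalizedModule Q.primeCompl N) :=
    ⟨fun a x n => by
      rw [hsm, hsm, Algebra.smul_def, map_mul,
        ← IsScalarTower.algebraMap_apply R (Localization.AtPrime p') (Localization.AtPrime Q),
        mul_smul, algebraMap_smul]⟩
  haveI : Module.Flat (Localization.AtPrime p') (LocalizedModule Q.primeCompl N) :=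
    (Module.flat_iff_of_isLocalization (Localization.AtPrime p') p'.primeCompl _).mpr h
  haveI := hflat
  exact Module.Flat.trans R (Localization.AtPrime p') (LocalizedModule Q.primeCompl N)

end Base

section Main

/-- Descent of flatness at the primes above `V(I) ∩ V(J)` along a base change `R → R'` which is
flat at, and surjective onto, the primes of `V(I)`. -/
theorem main {R S R' S' : Type u} [CommRing R] [CommRing S] [CommRing R'] [CommRing S']
    [Algebra R S] [Algebra R R'] [Algebra S S'] [Algebra R' S'] [Algebra R S'] [IsScalarTower R S S']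
    [IsScalarTower R R' S'] [Algebra.IsPushout R S R' S']
    (I : Ideal R) (I' : Ideal R') (_hII' : I.map (algebraMap R R') ≤ I')
    {M M' : Type u} [AddCommGroup M] [Module S M] [Module R M] [IsScalarTower R S M]
    [AddCommGroup M'] [Module S' M'] [Module R' M'] [IsScalarTower R' S' M'] [Module S M']
    [IsScalarTower S S' M']
    (f : M →ₗ[S] M') (hf : IsBaseChange S' f) (J : Ideal S)
    (hsurj : ∀ (p : Ideal R) [p.IsPrime], I ≤ p →
      ∃ (p' : Ideal R') (_ : p'.IsPrime), I' ≤ p' ∧ p'.comap (algebraMap R R') = p)
    (hflat : ∀ (p' : Ideal R') [p'.IsPrime], I' ≤ p' → Module.Flat R (Localization.AtPrime p'))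
    (h : ∀ (q : Ideal S') [q.IsPrime],
      I'.map (algebraMap R' S') ⊔ J.map (algebraMap S S') ≤ q →
        Module.Flat R' (LocalizedModule q.primeCompl M'))
    (q : Ideal S) [q.IsPrime] (hq : I.map (algebraMap R S) ⊔ J ≤ q) :
    Module.Flat R (LocalizedModule q.primeCompl M) := by
  haveI hpprime : (q.comap (algebraMap R S)).IsPrime := Ideal.comap_isPrime _ _
  have hIp : I ≤ q.comap (algebraMap R S) := by
    rw [← Ideal.map_le_iff_le_comap]
    exact le_sup_left.trans hq
  obtain ⟨p', hp', hI'p', hp'p⟩ := hsurj (q.comap (algebraMap R S)) hIp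
  obtain ⟨Q, hQprime, hQq, hQp'⟩ := exists_prime_over_pair (S' := S') q p' hp'p.symm
  have hQle : I'.map (algebraMap R' S') ⊔ J.map (algebraMap S S') ≤ Q := by
    refine sup_le ?_ ?_
    · rw [Ideal.map_le_iff_le_comap, hQp']
      exact hI'p'
    · rw [Ideal.map_le_iff_le_comap, hQq]
      exact le_sup_right.trans hq
  have h1 := h Q hQle
  letI mR : Module R M' := Module.compHom M' (algebraMap R S')
  haveI tR : IsScalarTower R S' M' :=
    ⟨fun r s m => by
      change (r • s) • m = algebraMap R S' r • (s • m)
      rw [Algebra.smul_def, mul_smul]⟩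
  haveI : Q.LiesOver q := ⟨hQq.symm⟩
  haveI : Q.LiesOver p' := ⟨hQp'.symm⟩
  have h2 : Module.Flat R (LocalizedModule Q.primeCompl M') :=
    flat_localizedModule_of_flat_atPrime p' Q (hflat p' hI'p') h1
  have hle : Algebra.algebraMapSubmonoid S' p'.primeCompl ≤ Q.primeCompl := by
    rintro _ ⟨r, hr, rfl⟩ hmem
    apply hr
    rw [← hQp']
    exact hmem
  haveI := hflat p' hI'p'
  haveI : Algebra.IsPushout R R' S S' := Algebra.IsPushout.symm inferInstance
  have h3 : Module.Flat S (Localization.AtPrime Q) :=
    flat_localization_of_isPushout (A := R) (A' := R') (B := S) (B' := S') p' Q hle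
      (Localization.AtPrime p') (Localization.AtPrime Q)
  exact flat_localized_of_flat_localized' (A' := R) hf q Q h3 h2

end Main

end Groth.Agent.Lib.Helper22.FlatIdealsDesc
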