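import Mathlib

set_option autoImplicit false
set_option linter.style.haveILetI false
universe u

namespace Groth.Agent.Lib.Helper22.FrobAlg
open MvPolynomial

variable {R : Type u} [CommRing R] (p : ℕ) (n : ℕ) (a : Fin n → Fin n → R)

/-- the relations `x_i^(p^2) - x_i - ∑ a_ij x_j^p` -/
noncomputable def g (i : Fin n) : MvPolynomial (Fin n) R :=
  X i ^ (p ^ 2) - X i - ∑ j, C (a i j) * X j ^ p

/-- the ideal of relations -/
noncomputable abbrev J : Ideal (MvPolynomial (Fin n) R) := Ideal.span (Set.range (g p n a))

/-- the algebra `R[x]/(x_i^(p^2) - x_i - ∑ a_ij x_j^p)` -/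
abbrev Cq : Type u := MvPolynomial (Fin n) R ⧸ J p n a

/-- the standard monomials -/
noncomputable def stdMon (f : Fin n → Fin (p ^ 2)) : Cq p n a :=
  Ideal.Quotient.mk (J p n a) (monomial (Finsupp.equivFunOnFinite.symm fun i => (f i : ℕ)) 1)

theorem mk_X_pow (i : Fin n) : Ideal.Quotient.mk (J p n a) (X i ^ (p ^ 2)) =
    Ideal.Quotient.mk (J p n a) (X i + ∑ j, C (a i j) * X j ^ p) := by
  rw [Ideal.Quotient.eq]
  have : X i ^ (p ^ 2) - (X i + ∑ j, C (a i j) * X j ^ p) = g p n a i := by
    rw [g]; ring
  rw [this]
  exact Ideal.subset_span ⟨i, rfl⟩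

theorem mk_monomial_mem (hp : 2 ≤ p) (α : Fin n →₀ ℕ) :
    Ideal.Quotient.mk (J p n a) (monomial α 1) ∈
      Submodule.span R (Set.range (stdMon p n a)) := by
  induction' h : α.degree using Nat.strong_induction_on with d ih generalizing α
  by_cases hα : ∀ i, α i < p ^ 2
  · refine Submodule.subset_span ⟨fun i => ⟨α i, hα i⟩, ?_⟩
    rw [stdMon]
    congr 2
    ext i
    simp
  · push Not at hα
    obtain ⟨i, hi⟩ := hα
    have hle : Finsupp.single i (p ^ 2) ≤ α := Finsupp.single_le_iff.mpr hi
    obtain ⟨β, rfl⟩ : ∃ β, α = β + Finsupp.single i (p ^ 2) :=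
      ⟨α - Finsupp.single i (p ^ 2), (tsub_add_cancel_of_le hle).symm⟩
    have hdeg : (β + Finsupp.single i (p ^ 2)).degree = β.degree + p ^ 2 := by
      rw [map_add, Finsupp.degree_single]
    have hpp : p < p ^ 2 := by nlinarith
    rw [monomial_add_single, map_mul, mk_X_pow, ← map_mul, mul_add, Finset.mul_sum, map_add,
      map_sum]
    refine Submodule.add_mem _ ?_ (Submodule.sum_mem _ fun j _ => ?_)
    · have : monomial β (1 : R) * X i = monomial (β + Finsupp.single i 1) 1 := by
        rw [monomial_add_single, pow_one]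
      rw [this]
      refine ih (β + Finsupp.single i 1).degree ?_ _ rfl
      rw [← h, hdeg, map_add, Finsupp.degree_single]
      omega
    · have : monomial β (1 : R) * (C (a i j) * X j ^ p) =
          a i j • monomial (β + Finsupp.single j p) 1 := by
        rw [monomial_add_single, smul_eq_C_mul]; ring
      rw [this]
      have h2 : Ideal.Quotient.mk (J p n a) (a i j • monomial (β + Finsupp.single j p) 1) =
          a i j • Ideal.Quotient.mk (J p n a) (monomial (β + Finsupp.single j p) 1) := rfl
      rw [h2]
      refine Submodule.smul_mem _ _ (ih (β + Finsupp.single j p).degree ?_ _ rfl)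
      rw [← h, hdeg, map_add, Finsupp.degree_single]
      omega

theorem span_stdMon (hp : 2 ≤ p) : Submodule.span R (Set.range (stdMon p n a)) = ⊤ := by
  rw [eq_top_iff]
  intro x _
  obtain ⟨f, rfl⟩ := Ideal.Quotient.mk_surjective x
  rw [f.as_sum, map_sum]
  refine Submodule.sum_mem _ fun α _ => ?_
  have : monomial α (coeff α f) = coeff α f • monomial α (1 : R) := by
    rw [smul_monomial, smul_eq_mul, mul_one]
  rw [this]
  have h2 : Ideal.Quotient.mk (J p n a) (coeff α f • monomial α (1 : R)) =
      coeff α f • Ideal.Quotient.mk (J p n a) (monomial α 1) := rfl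
  rw [h2]
  exact Submodule.smul_mem _ _ (mk_monomial_mem p n a hp α)

theorem finite (hp : 2 ≤ p) : Module.Finite R (Cq p n a) :=
  ⟨by rw [← span_stdMon p n a hp]; exact Submodule.fg_span (Set.finite_range _)⟩

section Etale

variable [CharP R p]

theorem pderiv_g (i j : Fin n) : pderiv i (g p n a j) = if i = j then -1 else 0 := by
  have hq : ((p ^ 2 : ℕ) : MvPolynomial (Fin n) R) = 0 := by
    rw [Nat.cast_pow, CharP.cast_eq_zero, zero_pow two_ne_zero]
  have hp0 : ((p : ℕ) : MvPolynomial (Fin n) R) = 0 := CharP.cast_eq_zero _ p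
  have h1 : pderiv i ((X j : MvPolynomial (Fin n) R) ^ (p ^ 2)) = 0 := by
    rw [Derivation.leibniz_pow, nsmul_eq_mul, hq, zero_mul]
  have h2 : ∀ l, pderiv i (C (a j l) * (X l : MvPolynomial (Fin n) R) ^ p) = 0 := by
    intro l
    rw [Derivation.leibniz, Derivation.leibniz_pow, nsmul_eq_mul, hp0, zero_mul, smul_zero,
      pderiv_C, smul_zero, add_zero]
  rw [g, map_sub, map_sub, h1, map_sum, Finset.sum_eq_zero (fun l _ => h2 l), pderiv_X]
  by_cases hij : i = j
  · subst hij; simp
  · have : j ≠ i := fun h => hij h.symm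
    simp [hij, this]

/-- the submersive presentation -/
noncomputable def pres : Algebra.SubmersivePresentation R (Cq p n a) (Fin n) (Fin n) where
  __ := Algebra.Presentation.naive (v := g p n a)
  map := id
  map_inj := Function.injective_id
  jacobian_isUnit := by
    rw [Algebra.PreSubmersivePresentation.jacobian_eq_jacobiMatrix_det]
    have : (Algebra.PreSubmersivePresentation.jacobiMatrix
        { toPresentation := Algebra.Presentation.naive (v := g p n a), map := id,
          map_inj := Function.injective_id }) = -1 := by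
      ext i j
      rw [Algebra.PreSubmersivePresentation.jacobiMatrix_apply]
      simp only [id_eq, Algebra.Presentation.naive_relation_apply]
      rw [pderiv_g]
      by_cases hij : i = j
      · subst hij; simp
      · simp [hij]
    rw [this, Matrix.det_neg, Matrix.det_one, mul_one, map_pow, map_neg, map_one]
    exact (isUnit_one (M := Cq p n a)).neg.pow _

theorem etale : Algebra.Etale R (Cq p n a) := by
  haveI : Algebra.IsStandardSmoothOfRelativeDimension 0 R (Cq p n a) :=
    (pres p n a).isStandardSmoothOfRelativeDimension (by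
      simp [Algebra.Presentation.dimension])
  infer_instance

end Etale

end Groth.Agent.Lib.Helper22.FrobAlg
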