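import Mathlib

set_option autoImplicit false
set_option linter.style.haveILetI false
universe u

namespace Groth.Agent.Lib.Helper22.FrobGen
open TensorProduct

/-- the span of all `q`-th powers -/
def S (k : Type*) (T : Type*) [CommRing k] [CommRing T] [Algebra k T] (q : ℕ) : Submodule k T :=
  Submodule.span k (Set.range fun t : T => t ^ q)

theorem S_of_algEquiv {k T T' : Type*} [CommRing k] [CommRing T] [CommRing T'] [Algebra k T]
    [Algebra k T'] (e : T ≃ₐ[k] T') (q : ℕ) (h : S k T' q = ⊤) : S k T q = ⊤ := by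
  rw [eq_top_iff]
  intro x _
  have hx : e x ∈ S k T' q := by rw [h]; trivial
  have : (S k T' q).map e.symm.toLinearMap ≤ S k T q := by
    rw [S, Submodule.map_span, Submodule.span_le]
    rintro _ ⟨_, ⟨t, rfl⟩, rfl⟩
    refine Submodule.subset_span ⟨e.symm t, ?_⟩
    simp
  have h2 := this (Submodule.mem_map_of_mem hx)
  simpa using h2

theorem S_pi {k : Type*} [CommRing k] {I : Type*} [Finite I] (L : I → Type*)
    [∀ i, CommRing (L i)] [∀ i, Algebra k (L i)] (q : ℕ) (hq : q ≠ 0) (h : ∀ i, S k (L i) q = ⊤) :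
    S k (Π i, L i) q = ⊤ := by
  classical
  have := Fintype.ofFinite I
  rw [eq_top_iff]
  intro x _
  have hx : x = ∑ i, Pi.single i (x i) := (Finset.univ_sum_single x).symm
  rw [hx]
  refine Submodule.sum_mem _ fun i _ => ?_
  have hi : x i ∈ S k (L i) q := by rw [h i]; trivial
  have : (S k (L i) q).map (LinearMap.single k L i) ≤ S k (Π i, L i) q := by
    rw [S, Submodule.map_span, Submodule.span_le]
    rintro _ ⟨_, ⟨t, rfl⟩, rfl⟩
    refine Submodule.subset_span ⟨Pi.single i t, ?_⟩
    simp only [LinearMap.coe_single]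
    funext j
    by_cases hj : j = i
    · subst hj; simp
    · simp [hj, zero_pow hq]
  exact this (Submodule.mem_map_of_mem hi)

theorem S_field_etale (k : Type u) [Field k] (T : Type u) [CommRing T] [Algebra k T]
    [Algebra.Etale k T] (p : ℕ) [Fact p.Prime] [CharP k p] (n : ℕ) : S k T (p ^ n) = ⊤ := by
  obtain ⟨I, hI, L, hL, hA, e, he⟩ := (Algebra.Etale.iff_exists_algEquiv_prod k T).mp inferInstance
  haveI : ExpChar k p := ExpChar.prime Fact.out
  refine S_of_algEquiv e _ (S_pi L _ (pow_ne_zero _ (Fact.out : p.Prime).ne_zero) fun i => ?_)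
  haveI := (he i).2
  exact Field.span_map_pow_expChar_pow_eq_top_of_isSeparable (F := k) (E := L i) p n (v := id)
    (by simp)

theorem span_pow_field (k : Type u) [Field k] (T : Type u) [CommRing T] [Algebra k T]
    [Algebra.Etale k T] (p : ℕ) [Fact p.Prime] [CharP k p] (n : ℕ) {ι : Type*} (v : ι → T)
    (hv : Submodule.span k (Set.range v) = ⊤) :
    Submodule.span k (Set.range fun i => v i ^ p ^ n) = ⊤ := by
  rcases subsingleton_or_nontrivial T with hT | hT
  · rw [eq_top_iff]
    intro x _
    rw [Subsingleton.elim x 0]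
    exact Submodule.zero_mem _
  haveI : CharP T p := charP_of_injective_algebraMap (algebraMap k T).injective p
  have key : ∀ t : T, t ^ p ^ n ∈ Submodule.span k (Set.range fun i => v i ^ p ^ n) := by
    intro t
    have ht : t ∈ Submodule.span k (Set.range v) := by rw [hv]; trivial
    induction ht using Submodule.span_induction with
    | mem x hx =>
      obtain ⟨i, rfl⟩ := hx
      exact Submodule.subset_span ⟨i, rfl⟩
    | zero =>
      rw [zero_pow (pow_ne_zero _ (Fact.out : p.Prime).ne_zero)]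
      exact Submodule.zero_mem _
    | add x y _ _ hx hy =>
      rw [add_pow_char_pow]
      exact Submodule.add_mem _ hx hy
    | smul a x _ hx =>
      rw [smul_pow]
      exact Submodule.smul_mem _ _ hx
  rw [eq_top_iff, ← S_field_etale k T p n, S, Submodule.span_le]
  rintro _ ⟨t, rfl⟩
  exact key t

open scoped Pointwise in
theorem eq_top_of_forall_maximal {A M : Type*} [CommRing A] [AddCommGroup M] [Module A M]
    [Module.Finite A M] (N : Submodule A M)
    (h : ∀ m : Ideal A, m.IsMaximal → N ⊔ m • (⊤ : Submodule A M) = ⊤) : N = ⊤ := by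
  by_contra hN
  have hJ : N.colon ((⊤ : Submodule A M) : Set M) ≠ ⊤ := by
    intro hJ
    apply hN
    rw [eq_top_iff]
    intro x _
    have h1 : (1 : A) ∈ N.colon ((⊤ : Submodule A M) : Set M) := by rw [hJ]; trivial
    rw [Submodule.mem_colon] at h1
    simpa using h1 x trivial
  obtain ⟨m, hm, hJm⟩ := Ideal.exists_le_maximal _ hJ
  obtain ⟨r, hr1, hr2⟩ := Submodule.exists_sub_one_mem_and_smul_le_of_fg_of_le_sup
    (I := m) (N := N) (N' := ⊤) (P := ⊤) Module.Finite.fg_top le_rfl (h m hm).ge
  have hrJ : r ∈ N.colon ((⊤ : Submodule A M) : Set M) := by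
    rw [Submodule.mem_colon]
    intro x hx
    exact hr2 (Submodule.smul_mem_pointwise_smul x r ⊤ hx)
  have h1 : (1 : A) ∈ m := by
    have := m.sub_mem (hJm hrJ) hr1
    simpa using this
  exact hm.ne_top ((Ideal.eq_top_iff_one m).mpr h1)

theorem span_pow_eq_top {A B : Type u} [CommRing A] [CommRing B] [Algebra A B] [Module.Finite A B]
    [Algebra.Etale A B] (p : ℕ) [Fact p.Prime] (hp : (p : A) = 0) (n : ℕ) {ι : Type*} (b : ι → B)
    (hb : Submodule.span A (Set.range b) = ⊤) :
    Submodule.span A (Set.range fun i => b i ^ p ^ n) = ⊤ := by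
  apply eq_top_of_forall_maximal
  intro m hm
  letI : Field (A ⧸ m) := Ideal.Quotient.field m
  haveI : CharP (A ⧸ m) p := (CharP.charP_iff_prime_eq_zero Fact.out).mpr (by
    rw [← map_natCast (Ideal.Quotient.mk m), hp, map_zero])
  have hspanT : Submodule.span (A ⧸ m) (Set.range fun i => (1 : A ⧸ m) ⊗ₜ[A] b i) = ⊤ := by
    have := Submodule.baseChange_span (R := A) (M := B) (A := A ⧸ m) (Set.range b)
    rw [hb, Submodule.baseChange_top] at this
    rw [this, ← Set.range_comp]
    rfl
  have h2 := span_pow_field (A ⧸ m) ((A ⧸ m) ⊗[A] B) p n _ hspanT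
  have h3 : (fun i => ((1 : A ⧸ m) ⊗ₜ[A] b i) ^ p ^ n) =
      fun i => TensorProduct.mk A (A ⧸ m) B 1 (b i ^ p ^ n) := by
    funext i
    simp [Algebra.TensorProduct.tmul_pow]
  rw [h3] at h2
  rw [eq_top_iff]
  intro x _
  have hx : TensorProduct.mk A (A ⧸ m) B 1 x ∈ Submodule.span (A ⧸ m)
      (Set.range fun i => TensorProduct.mk A (A ⧸ m) B 1 (b i ^ p ^ n)) := by rw [h2]; trivial
  have hx' : TensorProduct.mk A (A ⧸ m) B 1 x ∈ Submodule.span A
      (Set.range fun i => TensorProduct.mk A (A ⧸ m) B 1 (b i ^ p ^ n)) := by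
    rw [← Submodule.restrictScalars_span A (A ⧸ m) Ideal.Quotient.mk_surjective]
    exact hx
  have hrange : (Set.range fun i => TensorProduct.mk A (A ⧸ m) B 1 (b i ^ p ^ n)) =
      (TensorProduct.mk A (A ⧸ m) B 1) '' (Set.range fun i => b i ^ p ^ n) := by
    rw [← Set.range_comp]
    rfl
  rw [hrange, ← Submodule.map_span] at hx'
  obtain ⟨y, hy, hyx⟩ := hx'
  have hker : x - y ∈ m • (⊤ : Submodule A B) := by
    rw [← Submodule.Quotient.mk_eq_zero, ← Submodule.mkQ_apply,
      ← TensorProduct.quotTensorEquivQuotSMul_comp_mk]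
    simp only [LinearMap.coe_comp, LinearEquiv.coe_coe, Function.comp_apply, map_sub]
    rw [hyx, sub_self]
  have : x = y + (x - y) := by ring
  rw [this]
  exact Submodule.add_mem _ (Submodule.mem_sup_left hy) (Submodule.mem_sup_right hker)

end Groth.Agent.Lib.Helper22.FrobGen
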