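import Mathlib
import Groth.Prelude
import Groth.Agent.Lib.Helper23AlgGen2
import Groth.Agent.Lib.Helper23FTsub
import Groth.Agent.Lib.Helper10RelSpecHom
import Groth.Agent.Lib.Helper10QAffRelSpec
import Groth.Agent.S8255

/-!
# ZMT finite factorization, part C (helper22): finite approximation of an integral morphism
* `exists_finite_through`: `π : T' ⟶ S` integral, `S` qcqs, finitely many sections of `π_*O_{T'}` over
  affine opens ⇒ factorization `T' ⟶ T ⟶ S` with `T ⟶ S` finite, `O_T(p⁻¹V) ⟶ O_{T'}(π⁻¹V)` injective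
  for all affine `V`, with the given sections in the image (uses helper23 `AlgGen.subAlg`,
  `FTsub.exists_ft_sub_list`, helper10 `RelSpecHom.glued`, `S8255`).
-/

set_option autoImplicit false
set_option linter.style.haveILetI false
set_option linter.unusedSectionVars false
set_option linter.unusedVariables false
universe u

open AlgebraicGeometry CategoryTheory TopologicalSpace Opposite

namespace Groth.Agent.Lib.Helper22.ZmtFin

open Groth.Agent.Lib.Helper23.AlgGen Groth.Agent.Lib.Helper2.Push Groth.Agent.Lib.Helper23.FinType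
  Groth.Agent.Lib.Helper10.RelSpecHom

/-- Given an integral morphism `π : T' ⟶ S` to a qcqs scheme and finitely many sections of
`π_* O_{T'}` over affine opens, there is a factorization `T' ⟶ T ⟶ S` with `T ⟶ S` finite such that
`O_T ⟶ τ_* O_{T'}` is injective on preimages of affine opens, with image containing the given
sections. -/
theorem exists_finite_through {T' S : Scheme.{u}} [CompactSpace S] [QuasiSeparatedSpace S]
    (π : T' ⟶ S) [IsIntegralHom π] (l : List (Σ U : S.affineOpens, Γ(T', π ⁻¹ᵁ U.1))) :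
    ∃ (T : Scheme.{u}) (τ : T' ⟶ T) (p : T ⟶ S) (h : τ ≫ p = π), IsFinite p ∧
      (∀ V : S.affineOpens, Function.Injective
        (τ.appLE (p ⁻¹ᵁ V.1) (π ⁻¹ᵁ V.1) (by rw [← Scheme.Hom.comp_preimage, h])).hom) ∧
      (∀ x ∈ l, x.2 ∈ (τ.appLE (p ⁻¹ᵁ x.1.1) (π ⁻¹ᵁ x.1.1)
        (by rw [← Scheme.Hom.comp_preimage, h])).hom.range) := by
  classical
  let B : RelSpec.QCAlg S := RelSpec.QCAlg.directImage π
  haveI : B.toModule.IsQuasicoherent := Groth.Agent.Helper18QCAlg.isQuasicoherent_toModule B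
  let a₀ : Σ U : S.affineOpens, Γ(B.toModule, U.1) := ⟨⟨⊥, isAffineOpen_bot S⟩, 0⟩
  let l' : List (Σ U : S.affineOpens, Γ(B.toModule, U.1)) := l.map fun x => ⟨x.1, x.2⟩
  obtain ⟨E, j, hj, hq, hf, hmem⟩ :=
    Groth.Agent.Lib.Helper23.FTsub.exists_ft_sub_list B.toModule a₀ l'
  haveI : E.IsQuasicoherent := hq
  haveI : SheafOfModules.IsFiniteType (R := S.ringCatSheaf) E := hf
  have hE : ∀ V : S.Opens, IsAffineOpen V → IsLocOn E V := fun V hV => IsLocOn.of_isQuasicoherent hV E
  let B' : RelSpec.QCAlg S := subAlg B E j hE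
  let φ : B' ⟶ B := subAlgι B E j hE
  let ω : AffAlg.alg B'.π ⟶ AffAlg.alg π := B'.gammaMap ≫ φ.hom
  have hω : B'.π.c ≫ ω = π.c := by
    change B'.π.c ≫ B'.gammaMap ≫ φ.hom = π.c
    rw [← Category.assoc, B'.π_c_gammaMap]
    exact φ.comm
  let τ : T' ⟶ B'.spec := glued B'.π π ω
  have hτ : τ ≫ B'.π = π := glued_comp B'.π π ω hω
  have halg : AffAlg.algHom B'.π π τ hτ = ω := algHom_glued B'.π π ω hω
  have hiso : IsIso B'.gammaMap := Groth.Agent.S8255.result B'
  have happ : ∀ V : S.Opens, τ.appLE (B'.π ⁻¹ᵁ V) (π ⁻¹ᵁ V) (by rw [← Scheme.Hom.comp_preimage, hτ]) =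
      B'.gammaMap.app (op V) ≫ φ.hom.app (op V) := by
    intro V
    rw [← algHom_app B'.π π τ hτ V, halg]
    rfl
  have happ' : ∀ (V : S.Opens) (t : Γ(B'.spec, B'.π ⁻¹ᵁ V)),
      (τ.appLE (B'.π ⁻¹ᵁ V) (π ⁻¹ᵁ V) (by rw [← Scheme.Hom.comp_preimage, hτ])).hom t =
        (φ.hom.app (op V)).hom ((B'.gammaMap.app (op V)).hom t) := by
    intro V t
    exact congrArg (fun f => (CommRingCat.Hom.hom f) t) (happ V)
  have hbij : ∀ V : S.Opens, Function.Bijective (B'.gammaMap.app (op V)).hom := by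
    intro V
    haveI : IsIso (B'.gammaMap.app (op V)) := NatIso.isIso_app_of_isIso _ _
    exact (ConcreteCategory.isIso_iff_bijective (B'.gammaMap.app (op V))).mp inferInstance
  refine ⟨B'.spec, τ, B'.π, hτ, ?_, ?_, ?_⟩
  · refine ⟨fun U hU => ?_⟩
    have h1 : B'.π.app U ≫ B'.gammaMap.app (op U) = B'.str.app (op U) := by
      rw [B'.gammaMap_app U hU]
      exact B'.π_app_gammaAff U hU
    have hft : (B'.str.app (op U)).hom.FiniteType :=
      subAlg_finiteType B E j hE hU (finite_of_isFiniteType E hU)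
    have hint : (B'.str.app (op U)).hom.IsIntegral := by
      have h2 : B'.str.app (op U) ≫ φ.hom.app (op U) = π.app U :=
        congrArg (fun α => α.app (op U)) φ.comm
      have h3 : (π.app U).hom.IsIntegral := π.isIntegral_app U hU
      have e : (φ.hom.app (op U)).hom.comp (B'.str.app (op U)).hom = (π.app U).hom :=
        RingHom.ext fun r => congrArg (fun f => (CommRingCat.Hom.hom f) r) h2
      rw [← e] at h3
      exact RingHom.IsIntegral.tower_bot _ _ (subAlgι_injective B E j hE U) h3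
    have hfin : (B'.str.app (op U)).hom.Finite := RingHom.IsIntegral.to_finite hint hft
    haveI : IsIso (B'.gammaMap.app (op U)) := NatIso.isIso_app_of_isIso _ _
    have h4 : B'.π.app U = B'.str.app (op U) ≫ inv (B'.gammaMap.app (op U)) := by
      rw [← h1, Category.assoc, IsIso.hom_inv_id, Category.comp_id]
    rw [h4, CommRingCat.hom_comp]
    refine RingHom.Finite.comp ?_ hfin
    apply RingHom.Finite.of_surjective
    exact ((ConcreteCategory.isIso_iff_bijective (inv (B'.gammaMap.app (op U)))).mp inferInstance).2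
  · intro V a b hab
    rw [happ', happ'] at hab
    exact (hbij V.1).1 (subAlgι_injective B E j hE V.1 hab)
  · intro x hx
    obtain ⟨g, hg⟩ := hmem ⟨x.1, x.2⟩ (List.mem_cons_of_mem _ (List.mem_map_of_mem hx))
    obtain ⟨b', hb'⟩ := mem_range_subAlgι B E j hE x.1.1 g
    obtain ⟨t, ht⟩ := (hbij x.1.1).2 b'
    refine ⟨t, ?_⟩
    rw [happ', ht, hb']
    exact hg

end Groth.Agent.Lib.Helper22.ZmtFin
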