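import Mathlib

/-!
# ZMT finite factorization, part A (helper22): algebra
ns `Groth.Agent.Lib.Helper22.ZmtFin`:
* `exists_finset_pow_mul_mem`: if `A[1/g]` is f.t. over `R`, a finite `s ⊆ A` such that any subring
  `C ⊇ im R ∪ s ∪ {g}` contains a `g`-power multiple of every element of `A`.
* `bijective_of_away`: an injective ring map that is surjective up to powers of `g` induces a
  bijection on localizations away from `g`.
-/

set_option autoImplicit false
set_option linter.style.haveILetI false
set_option linter.unusedSectionVars false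
set_option linter.unusedVariables false
universe u

namespace Groth.Agent.Lib.Helper22.ZmtFin

/-- If `A[1/g]` is of finite type over `R`, there is a finite set `s ⊆ A` such that any subring of
`A` containing the image of `R`, `s` and `g` contains a `g`-power multiple of every element. -/
theorem exists_finset_pow_mul_mem {R A A' : Type*} [CommRing R] [CommRing A] [CommRing A']
    (φ : R →+* A) (ρ : A →+* A') (g : A)
    (hloc : letI := ρ.toAlgebra; IsLocalization.Away g A') (hft : (ρ.comp φ).FiniteType) :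
    ∃ s : Finset A, ∀ C : Subring A, Set.range φ ⊆ C → (↑s : Set A) ⊆ C → g ∈ C →
      ∀ a : A, ∃ n : ℕ, g ^ n * a ∈ C := by
  classical
  letI := ρ.toAlgebra
  letI := φ.toAlgebra
  letI := (ρ.comp φ).toAlgebra
  haveI : IsScalarTower R A A' := IsScalarTower.of_algebraMap_eq' rfl
  haveI : Algebra.FiniteType R A' := hft
  obtain ⟨t, ht⟩ := (Algebra.FiniteType.out : (⊤ : Subalgebra R A').FG)
  -- numerators
  have hnum : ∀ x : A', ∃ (a : A) (n : ℕ), x * ρ g ^ n = ρ a := by
    intro x
    obtain ⟨⟨a, ⟨_, n, rfl⟩⟩, h⟩ := IsLocalization.surj (Submonoid.powers g) x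
    have h0 : algebraMap A A' = ρ := rfl
    exact ⟨a, n, by simpa [h0] using h⟩
  choose num ex hnumex using hnum
  refine ⟨t.image num, ?_⟩
  intro C hφC hsC hgC a
  -- the subalgebra of `A'` of fractions with numerator in `C`
  let C' : Subalgebra R A' :=
    { carrier := {y | ∃ (n : ℕ) (c : A), c ∈ C ∧ y * ρ g ^ n = ρ c}
      mul_mem' := by
        rintro y z ⟨n, c, hc, e⟩ ⟨m, d, hd, e'⟩
        refine ⟨n + m, c * d, C.mul_mem hc hd, ?_⟩
        rw [map_mul, ← e, ← e', pow_add]; ring
      add_mem' := by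
        rintro y z ⟨n, c, hc, e⟩ ⟨m, d, hd, e'⟩
        refine ⟨n + m, c * g ^ m + d * g ^ n,
          C.add_mem (C.mul_mem hc (C.pow_mem hgC _)) (C.mul_mem hd (C.pow_mem hgC _)), ?_⟩
        rw [map_add, map_mul, map_mul, map_pow, map_pow, ← e, ← e', pow_add]; ring
      algebraMap_mem' := by
        intro r
        refine ⟨0, φ r, hφC ⟨r, rfl⟩, ?_⟩
        simp only [pow_zero, mul_one]
        rfl }
  have hC' : C' = ⊤ := by
    rw [eq_top_iff, ← ht]
    refine Algebra.adjoin_le ?_
    intro x hx
    exact ⟨ex x, num x, hsC (Finset.mem_coe.2 (Finset.mem_image_of_mem num hx)), hnumex x⟩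
  have : ρ a ∈ C' := by rw [hC']; trivial
  obtain ⟨n, c, hc, e⟩ := this
  have e' : ρ (a * g ^ n) = ρ c := by rw [map_mul, map_pow]; exact e
  obtain ⟨⟨_, k, rfl⟩, hk⟩ := (IsLocalization.eq_iff_exists (Submonoid.powers g) A').mp e'
  refine ⟨k + n, ?_⟩
  have : g ^ (k + n) * a = g ^ k * c := by
    rw [pow_add, mul_assoc, mul_comm (g ^ n) a]; exact hk
  rw [this]
  exact C.mul_mem (C.pow_mem hgC _) hc

/-- A map between localizations induced by an injective map which becomes surjective after
inverting `g` is bijective. -/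
theorem bijective_of_away {C A C' A' : Type*} [CommRing C] [CommRing A] [CommRing C'] [CommRing A']
    (θ : C →+* A) (θ' : C' →+* A') (ρC : C →+* C') (ρA : A →+* A') (g : C)
    (hC : letI := ρC.toAlgebra; IsLocalization.Away g C')
    (hA : letI := ρA.toAlgebra; IsLocalization.Away (θ g) A')
    (hcomm : θ'.comp ρC = ρA.comp θ) (hinj : Function.Injective θ)
    (hsurj : ∀ a : A, ∃ n : ℕ, θ g ^ n * a ∈ θ.range) : Function.Bijective θ' := by
  letI := ρC.toAlgebra
  letI := ρA.toAlgebra
  have hc : ∀ c : C, θ' (ρC c) = ρA (θ c) := fun c => RingHom.congr_fun hcomm c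
  have hunitC : IsUnit (ρC g) := IsLocalization.Away.algebraMap_isUnit (S := C') g
  have hunitA : IsUnit (ρA (θ g)) := IsLocalization.Away.algebraMap_isUnit (S := A') (θ g)
  constructor
  · rw [injective_iff_map_eq_zero]
    intro c' hc'
    obtain ⟨⟨c, ⟨_, m, rfl⟩⟩, h⟩ := IsLocalization.surj (Submonoid.powers g) c'
    have h0 : algebraMap C C' = ρC := rfl
    have h' : c' * ρC g ^ m = ρC c := by simpa [h0] using h
    have h1 : ρA (θ c) = 0 := by
      rw [← hc, ← h', map_mul, hc', zero_mul]
    have h2 : ρA (θ c) = ρA 0 := by rw [h1, map_zero]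
    obtain ⟨⟨_, k, rfl⟩, hk⟩ := (IsLocalization.eq_iff_exists (Submonoid.powers (θ g)) A').mp h2
    have h3 : θ (g ^ k * c) = 0 := by
      rw [map_mul, map_pow]; simpa using hk
    have h4 : g ^ k * c = 0 := hinj (by rw [h3, map_zero])
    have h5 : ρC g ^ k * ρC c = 0 := by rw [← map_pow, ← map_mul, h4, map_zero]
    have h6 : ρC c = 0 := by
      have := (hunitC.pow k).mul_right_eq_zero.mp h5
      exact this
    have h7 : c' * ρC g ^ m = 0 := by rw [h', h6]
    exact (hunitC.pow m).mul_left_eq_zero.mp h7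
  · intro a'
    obtain ⟨⟨a, ⟨_, m, rfl⟩⟩, h⟩ := IsLocalization.surj (Submonoid.powers (θ g)) a'
    have h0 : algebraMap A A' = ρA := rfl
    have h' : a' * ρA (θ g) ^ m = ρA a := by simpa [h0] using h
    obtain ⟨n, c, hcn⟩ := hsurj a
    obtain ⟨u, hu⟩ := hunitC.pow (n + m)
    refine ⟨ρC c * ↑u⁻¹, ?_⟩
    have hu' : θ' (↑u⁻¹ : C') * ρA (θ g) ^ (n + m) = 1 := by
      rw [← map_pow, ← map_pow, ← hc, map_pow, ← hu, ← map_mul]
      simp
    have hAu : IsUnit (ρA (θ g) ^ (n + m)) := hunitA.pow _
    apply hAu.mul_left_injective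
    simp only
    rw [map_mul, mul_assoc, hu', mul_one, hc, hcn, map_mul, map_pow, pow_add]
    rw [← h']; ring

end Groth.Agent.Lib.Helper22.ZmtFin
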