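import Mathlib

/-!
# ZMT finite factorization, part B (helper22): local data
* `exists_finset_basicOpen`: a compact open inside an affine open is a finite union of basic opens.
* `exists_basicOpens`: for a qc open immersion `ν : X ⟶ T'`, `π : T' ⟶ S` affine with `ν ≫ π` lft and
  `V ⊆ S` affine: `ν(X) ∩ π⁻¹V = ⋃ D(g)` (finitely many `g`), each `O(D(g))` f.t. over `O_S(V)`.
-/

set_option autoImplicit false
set_option linter.style.haveILetI false
set_option linter.unusedSectionVars false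
set_option linter.unusedVariables false
universe u

open AlgebraicGeometry CategoryTheory TopologicalSpace

namespace Groth.Agent.Lib.Helper22.ZmtFin

/-- a compact open inside an affine open is a finite union of basic opens -/
theorem exists_finset_basicOpen {Y : Scheme.{u}} {W : Y.Opens} (hW : IsAffineOpen W) (O : Y.Opens)
    (hO : IsCompact (O : Set Y)) (hOW : O ≤ W) :
    ∃ G : Finset Γ(Y, W), O = ⨆ g ∈ G, Y.basicOpen g := by
  classical
  have h1 : ∀ x : O, ∃ f : Γ(Y, W), Y.basicOpen f ≤ O ∧ x.1 ∈ Y.basicOpen f := fun x =>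
    hW.exists_basicOpen_le x (hOW x.2)
  choose f hfO hxf using h1
  obtain ⟨t, ht⟩ := hO.elim_finite_subcover (fun x : O => (Y.basicOpen (f x) : Set Y))
    (fun x => (Y.basicOpen (f x)).2) (fun x hx => Set.mem_iUnion.2 ⟨⟨x, hx⟩, hxf ⟨x, hx⟩⟩)
  refine ⟨t.image f, le_antisymm ?_ ?_⟩
  · intro x hx
    obtain ⟨i, hi⟩ := Set.mem_iUnion.1 (ht hx)
    obtain ⟨hit, hxi⟩ := Set.mem_iUnion.1 hi
    simp only [Opens.mem_iSup]
    exact ⟨f i, Finset.mem_image_of_mem f hit, hxi⟩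
  · refine iSup₂_le ?_
    intro g hg
    obtain ⟨x, -, rfl⟩ := Finset.mem_image.1 hg
    exact hfO x

/-- the local data of a quasi-compact open immersion into an `S`-affine scheme -/
theorem exists_basicOpens {X T' S : Scheme.{u}} (ν : X ⟶ T') [IsOpenImmersion ν] [QuasiCompact ν]
    (π : T' ⟶ S) [IsAffineHom π] [LocallyOfFiniteType (ν ≫ π)] (V : S.Opens) (hV : IsAffineOpen V) :
    ∃ G : Finset Γ(T', π ⁻¹ᵁ V), ν.opensRange ⊓ π ⁻¹ᵁ V = ⨆ g ∈ G, T'.basicOpen g ∧
      ∀ g ∈ G, (π.appLE V (T'.basicOpen g) (T'.basicOpen_le g)).hom.FiniteType := by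
  have hW : IsAffineOpen (π ⁻¹ᵁ V) := hV.preimage π
  have hcomp : IsCompact ((ν.opensRange ⊓ π ⁻¹ᵁ V : T'.Opens) : Set T') := by
    have h1 : IsCompact ((ν ⁻¹ᵁ (π ⁻¹ᵁ V) : X.Opens) : Set X) :=
      ν.isCompact_preimage hW.isCompact
    have h2 : ((ν.opensRange ⊓ π ⁻¹ᵁ V : T'.Opens) : Set T') =
        ν.base '' ((ν ⁻¹ᵁ (π ⁻¹ᵁ V) : X.Opens) : Set X) := by
      ext y
      simp only [Opens.coe_inf, Set.mem_inter_iff, Set.mem_image]
      constructor
      · rintro ⟨⟨x, rfl⟩, hy⟩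
        exact ⟨x, hy, rfl⟩
      · rintro ⟨x, hx, rfl⟩
        exact ⟨⟨x, rfl⟩, hx⟩
    rw [h2]
    exact h1.image ν.continuous
  obtain ⟨G, hG⟩ := exists_finset_basicOpen hW _ hcomp inf_le_right
  refine ⟨G, hG, ?_⟩
  intro g hg
  have hD : T'.basicOpen g ≤ ν.opensRange := by
    have : T'.basicOpen g ≤ ν.opensRange ⊓ π ⁻¹ᵁ V := by
      rw [hG]; exact le_iSup₂ (f := fun g (_ : g ∈ G) => T'.basicOpen g) g hg
    exact this.trans inf_le_left
  have hDaff : IsAffineOpen (T'.basicOpen g) := hW.basicOpen g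
  have hD' : IsAffineOpen (ν ⁻¹ᵁ T'.basicOpen g) := hDaff.preimage_of_isOpenImmersion ν hD
  have hle : ν ⁻¹ᵁ T'.basicOpen g ≤ (ν ≫ π) ⁻¹ᵁ V := by
    intro x hx
    exact T'.basicOpen_le g hx
  have hft := (ν ≫ π).finiteType_appLE hV hD' hle
  have hiso : IsIso (ν.app (T'.basicOpen g)) := ν.isIso_app _ hD
  have e1 : (ν ≫ π).appLE V (ν ⁻¹ᵁ T'.basicOpen g) hle =
      π.appLE V (T'.basicOpen g) (T'.basicOpen_le g) ≫ ν.app (T'.basicOpen g) := by
    rw [Scheme.Hom.app_eq_appLE, Scheme.Hom.appLE_comp_appLE]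
  have e2 : π.appLE V (T'.basicOpen g) (T'.basicOpen_le g) =
      (ν ≫ π).appLE V (ν ⁻¹ᵁ T'.basicOpen g) hle ≫ inv (ν.app (T'.basicOpen g)) := by
    rw [e1, Category.assoc, IsIso.hom_inv_id, Category.comp_id]
  rw [e2, CommRingCat.hom_comp]
  refine RingHom.FiniteType.comp ?_ hft
  apply RingHom.FiniteType.of_surjective
  exact ((ConcreteCategory.isIso_iff_bijective (inv (ν.app (T'.basicOpen g)))).mp inferInstance).2

end Groth.Agent.Lib.Helper22.ZmtFin
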