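import Mathlib
import Groth.Agent.Lib.Helper22ZmtFinA
import Groth.Agent.Lib.Helper22ZmtFinB

/-!
# ZMT finite factorization, part D (helper22): isomorphism over a basic open
* `appLE_congr`, `isLocalization_of_eq_basicOpen`
* `isIso_morphismRestrict_basicOpen`: an affine morphism is an iso over `D(g')` if the ring map on an
  affine open is injective and surjective up to powers of `g'`.
-/

set_option autoImplicit false
set_option linter.style.haveILetI false
set_option linter.unusedSectionVars false
set_option linter.unusedVariables false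
universe u

open AlgebraicGeometry CategoryTheory TopologicalSpace Opposite

namespace Groth.Agent.Lib.Helper22.ZmtFin

theorem appLE_congr {X Y : Scheme.{u}} {f g : X ⟶ Y} (e : f = g) (U : Y.Opens) (V : X.Opens)
    (h : V ≤ f ⁻¹ᵁ U) : f.appLE U V h = g.appLE U V (e ▸ h) := by
  subst e; rfl

/-- localization property of sections over an open equal to a basic open -/
theorem isLocalization_of_eq_basicOpen {Y : Scheme.{u}} {W : Y.Opens} (hW : IsAffineOpen W)
    (g : Γ(Y, W)) (D : Y.Opens) (hD : D = Y.basicOpen g) :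
    letI := (Y.presheaf.map (homOfLE (hD.le.trans (Y.basicOpen_le g))).op).hom.toAlgebra
    IsLocalization.Away g Γ(Y, D) := by
  subst hD
  exact hW.isLocalization_basicOpen g

/-- an affine morphism `τ : T' ⟶ T` is an isomorphism over the basic open `D(g')` of an affine open
`P` of `T`, provided `O_T(P) ⟶ O_{T'}(W)` (`W` an affine open with `τ⁻¹ P = W`) is injective and
surjective up to powers of `g'`. -/
theorem isIso_morphismRestrict_basicOpen {T' T : Scheme.{u}} (τ : T' ⟶ T) [IsAffineHom τ]
    {P : T.Opens} (hP : IsAffineOpen P) {W : T'.Opens} (hW : IsAffineOpen W)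
    (hWP : W = τ ⁻¹ᵁ P) (g' : Γ(T, P))
    (hinj : Function.Injective (τ.appLE P W hWP.le).hom)
    (hsurj : ∀ a : Γ(T', W), ∃ n : ℕ,
      (τ.appLE P W hWP.le).hom g' ^ n * a ∈ (τ.appLE P W hWP.le).hom.range) :
    IsIso (τ ∣_ T.basicOpen g') := by
  have hDaff : IsAffineOpen (T.basicOpen g') := hP.basicOpen g'
  rw [isIso_morphismRestrict_iff_isIso_app τ hDaff]
  rw [ConcreteCategory.isIso_iff_bijective]
  have hpre : τ ⁻¹ᵁ T.basicOpen g' = T'.basicOpen ((τ.appLE P W hWP.le).hom g') := by
    have h1 := Scheme.basicOpen_appLE τ W P hWP.le g'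
    have h2 : τ ⁻¹ᵁ T.basicOpen g' ≤ W := by
      rw [hWP]; exact τ.preimage_mono (T.basicOpen_le g')
    have h1' : T'.basicOpen ((τ.appLE P W hWP.le).hom g') = W ⊓ τ ⁻¹ᵁ T.basicOpen g' := h1
    rw [h1', inf_eq_right.mpr h2]
  have hle : τ ⁻¹ᵁ T.basicOpen g' ≤ W := hpre.le.trans (T'.basicOpen_le _)
  refine bijective_of_away (τ.appLE P W hWP.le).hom (τ.app (T.basicOpen g')).hom
    (T.presheaf.map (homOfLE (T.basicOpen_le g')).op).hom
    (T'.presheaf.map (homOfLE hle).op).hom g' (hP.isLocalization_basicOpen g')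
    (isLocalization_of_eq_basicOpen hW _ _ hpre) ?_ hinj hsurj
  rw [← CommRingCat.hom_comp, ← CommRingCat.hom_comp]
  congr 1
  rw [Scheme.Hom.app_eq_appLE, Scheme.Hom.map_appLE, Scheme.Hom.appLE_map]

end Groth.Agent.Lib.Helper22.ZmtFin
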