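import Mathlib
import Groth.Agent.Lib.Helper22GI11
import Groth.Agent.Lib.Helper3LocusOne

set_option autoImplicit false
set_option linter.style.haveILetI false
set_option linter.unusedSectionVars false
universe u

open AlgebraicGeometry CategoryTheory Limits TensorProduct

namespace Groth.Agent.Lib.Helper22.GI

section consν

variable (ν : ∀ {X Y : Scheme.{u}} (_ : X ⟶ Y), Y → ℕ∞)
  (hbc : ∀ {X Y X' Y' : Scheme.{u}} (f : X ⟶ Y) (f' : X' ⟶ Y') (g' : X' ⟶ X) (g : Y' ⟶ Y),
    IsPullback g' f' f g → ∀ y' : Y', ν f' y' = ν f (g y'))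
  (haff : ∀ (A : Type u) [CommRing A] [IsDomain A] {X : Scheme.{u}} (f : X ⟶ Spec (.of A))
    [LocallyOfFiniteType f] [QuasiCompact f] (η₀ : ↥(Spec (CommRingCat.of A))),
    η₀.asIdeal = ⊥ → ∃ a : A, a ≠ 0 ∧ ∀ y : ↥(Spec (CommRingCat.of A)), a ∉ y.asIdeal →
      ν f y = ν f η₀)

include hbc in
theorem locus_eq_of_baseChange (n : ℕ∞) {X S : Scheme.{u}} (u : X ⟶ S) :
    ConsProp.locus (fun Y T g => ∀ t : T, ν g t = n) u = {s | ν u s = n} := by
  ext s
  have hsq : IsPullback (u.fiberι s) (u.fiberToSpecResidueField s) u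
      (S.fromSpecResidueField s) := IsPullback.of_hasPullback _ _
  have h := hbc u (u.fiberToSpecResidueField s) (u.fiberι s) (S.fromSpecResidueField s) hsq
  constructor
  · intro hP
    obtain ⟨t⟩ : Nonempty ↥(Spec (S.residueField s)) := inferInstance
    have h1 : ν (u.fiberToSpecResidueField s) t = n := hP t
    rw [h t, Scheme.fromSpecResidueField_apply] at h1
    exact h1
  · intro hs t
    show ν (u.fiberToSpecResidueField s) t = n
    rw [h t, Scheme.fromSpecResidueField_apply]
    exact hs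

include hbc haff in
theorem isCons_of_baseChange (n : ℕ∞) :
    ConsProp.IsCons (fun Y T g => ∀ t : T, ν g t = n) := by
  refine ⟨?_, ?_⟩
  · intro Y Y' T T' g g' e h _ _ _ _ _ _ hsq
    have hb := hbc g g' e h hsq
    constructor
    · intro hP t'
      rw [hb t']
      exact hP _
    · intro hP t
      obtain ⟨t'⟩ : Nonempty ↥T' := inferInstance
      have : h t' = t := Subsingleton.elim _ _
      rw [← this, ← hb t']
      exact hP t'
  · intro X S u _ _ _ _
    rw [locus_eq_of_baseChange ν hbc n u]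
    obtain ⟨V, hVne, hV⟩ := exists_open_forall_eq_genericPoint_of_baseChange ν hbc haff u
    obtain ⟨v, hv⟩ := hVne
    by_cases hn : ν u (genericPoint ↥S) = n
    · left
      exact ⟨v, mem_interior.mpr ⟨V, fun y hy => (hV y hy).trans hn, V.2, hv⟩⟩
    · right
      refine ⟨v, mem_interior.mpr ⟨V, fun y hy hy' => hn ?_, V.2, hv⟩⟩
      rw [← hV y hy]
      exact hy'

include hbc haff in
theorem isLocallyConstructible_eq_of_baseChange (n : ℕ∞) {X Y : Scheme.{u}} (f : X ⟶ Y)
    [LocallyOfFinitePresentation f] [QuasiCompact f] [QuasiSeparated f] :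
    Topology.IsLocallyConstructible {y : ↑Y | ν f y = n} := by
  rw [← locus_eq_of_baseChange ν hbc n f]
  exact Groth.Agent.Lib.Helper3.LocusOne.isLocallyConstructible_locus
    (isCons_of_baseChange ν hbc haff n) f

end consν

theorem isLocallyConstructible_nGeomIrredComp_eq {X Y : Scheme.{u}} (f : X ⟶ Y)
    [LocallyOfFinitePresentation f] [QuasiCompact f] [QuasiSeparated f] (n : ℕ∞) :
    Topology.IsLocallyConstructible {y : ↑Y | MoreMor.nGeomIrredComp f y = n} :=
  isLocallyConstructible_eq_of_baseChange (fun f y => MoreMor.nGeomIrredComp f y)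
    (fun f f' g' g hc y' => Groth.Agent.Lib.Helper2.GeomFibBC.nGeomIrredComp_eq f f' g' g hc y')
    (fun A _ _ _ f _ _ η₀ hη₀ => exists_ne_zero_forall_nGeomIrredComp_eq f η₀ hη₀) n f

theorem isLocallyConstructible_nGeomConnComp_eq {X Y : Scheme.{u}} (f : X ⟶ Y)
    [LocallyOfFinitePresentation f] [QuasiCompact f] [QuasiSeparated f] (n : ℕ∞) :
    Topology.IsLocallyConstructible {y : ↑Y | MoreMor.nGeomConnComp f y = n} :=
  isLocallyConstructible_eq_of_baseChange (fun f y => MoreMor.nGeomConnComp f y)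
    (fun f f' g' g hc y' => Groth.Agent.Lib.Helper2.GeomFibBC.nGeomConnComp_eq f f' g' g hc y')
    (fun A _ _ _ f _ _ η₀ hη₀ => exists_ne_zero_forall_nGeomConnComp_eq f η₀ hη₀) n f

end Groth.Agent.Lib.Helper22.GI
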