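import Mathlib
import Groth.Prelude.Def_ProCons
import Groth.Agent.S4787
import Groth.Agent.Lib.Helper5ProCons

set_option autoImplicit false
set_option linter.style.haveILetI false
universe u
open CategoryTheory CategoryTheory.Limits AlgebraicGeometry Topology

namespace Groth.Agent.Lib.Helper3.IndConsLim

theorem isProConstructible_univ {X : Type*} [TopologicalSpace X] :
    ProCons.IsProConstructible (Set.univ : Set X) := by
  intro x
  refine ⟨Set.univ, isOpen_univ, trivial, ∅, fun T hT => absurd hT (Set.notMem_empty T), ?_⟩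
  simp

/-- If the preimage in the limit of an ind-constructible subset of a quasi-compact stage is
everything, this already holds at some stage. -/
theorem forall_mem_iff_eventually {I : Type u} [SmallCategory I] [IsCofiltered I]
    (D : I ⥤ Scheme.{u}) (c : Cone D) (hc : IsLimit c)
    [∀ (i j : I) (f : i ⟶ j), IsAffineHom (D.map f)] (i₀ : I) [CompactSpace (D.obj i₀)]
    {E₀ : Set (D.obj i₀)} (hE : ProCons.IsIndConstructible E₀) :
    (∀ s : c.pt, c.π.app i₀ s ∈ E₀) ↔
      ∃ (j : I) (φ : j ⟶ i₀), ∀ t : D.obj j, D.map φ t ∈ E₀ := by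
  constructor
  swap
  · rintro ⟨j, φ, h⟩ s
    have := h (c.π.app j s)
    rwa [← Scheme.Hom.comp_apply, c.w φ] at this
  intro hall
  let D' : Over i₀ ⥤ Scheme.{u} := Over.forget i₀ ⋙ D
  let c' : Cone D' := c.whisker (Over.forget i₀)
  have hc' : IsLimit c' := (Functor.Initial.isLimitWhiskerEquiv (Over.forget i₀) c).symm hc
  haveI : ∀ (i j : Over i₀) (f : i ⟶ j), IsAffineHom (D'.map f) := fun i j f =>
    inferInstanceAs (IsAffineHom (D.map f.left))
  haveI : CompactSpace (D'.obj (Over.mk (𝟙 i₀))) := inferInstanceAs (CompactSpace (D.obj i₀))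
  have key := (Groth.Agent.S4787.result D' c' hc' (Over.mk (𝟙 i₀))
    (fun _ => Set.univ) (fun j => D.map j.hom ⁻¹' E₀)
    (fun _ => isProConstructible_univ)
    (fun j => Groth.Agent.Lib.Helper5.isIndConstructible_preimage (D.map j.hom) E₀ hE)
    (fun _ _ _ _ _ => trivial)
    (fun i j φ x hx => by
      show D.map i.hom x ∈ E₀
      have h1 : D.map φ.left ≫ D.map j.hom = D.map i.hom := by
        rw [← D.map_comp, Over.w φ]
      rw [← h1]
      exact hx)).mp (by
    intro s _
    refine Set.mem_iUnion.mpr ⟨Over.mk (𝟙 i₀), ?_⟩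
    show D.map (𝟙 i₀) (c.π.app i₀ s) ∈ E₀
    rw [D.map_id]
    exact hall s)
  obtain ⟨i, _, h⟩ := key
  exact ⟨i.left, i.hom, fun t => h i (𝟙 i) (Set.mem_univ t)⟩

end Groth.Agent.Lib.Helper3.IndConsLim
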