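import Mathlib

set_option autoImplicit false
set_option linter.style.haveILetI false
set_option linter.unusedSectionVars false
set_option linter.unusedVariables false
universe u
open CategoryTheory CategoryTheory.Limits AlgebraicGeometry

namespace Groth.Agent.Lib.Helper22.GIntA

/-- in a Noetherian local ring, every nonzero element is `π ^ n * a'` with `a' ∉ (π)`. -/
theorem exists_eq_pow_mul_notMem {A : Type*} [CommRing A] [IsLocalRing A] [IsNoetherianRing A]
    (π : A) (hπm : π ∈ IsLocalRing.maximalIdeal A) (a : A) (ha : a ≠ 0) :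
    ∃ (n : ℕ) (a' : A), a = π ^ n * a' ∧ a' ∉ Ideal.span {π} := by
  classical
  have hne : Ideal.span {π} ≠ ⊤ := by
    intro h
    have h1 : Ideal.span {π} ≤ IsLocalRing.maximalIdeal A := by
      rw [Ideal.span_le]
      exact Set.singleton_subset_iff.mpr hπm
    rw [h] at h1
    exact (IsLocalRing.maximalIdeal.isMaximal A).ne_top (top_le_iff.mp h1)
  have hK := Ideal.iInf_pow_eq_bot_of_isLocalRing (Ideal.span {π}) hne
  have hex : ∃ i, a ∉ Ideal.span {π} ^ i := by
    by_contra hcon
    have hcon' : ∀ i, a ∈ Ideal.span {π} ^ i := fun i => by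
      by_contra hi
      exact hcon ⟨i, hi⟩
    have : a ∈ ⨅ i, Ideal.span {π} ^ i := by
      rw [Ideal.mem_iInf]
      exact hcon'
    rw [hK] at this
    exact ha this
  let m := Nat.find hex
  have hm : a ∉ Ideal.span {π} ^ m := Nat.find_spec hex
  have hm0 : m ≠ 0 := by
    intro h0
    rw [h0, pow_zero, Ideal.one_eq_top] at hm
    exact hm trivial
  obtain ⟨n, hn⟩ := Nat.exists_eq_succ_of_ne_zero hm0
  have hn' : a ∈ Ideal.span {π} ^ n := by
    by_contra hcon
    have := Nat.find_min' hex hcon
    omega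
  rw [Ideal.span_singleton_pow, Ideal.mem_span_singleton'] at hn'
  obtain ⟨a', ha'⟩ := hn'
  refine ⟨n, a', by rw [← ha', mul_comm], ?_⟩
  intro hmem
  apply hm
  rw [hn, Ideal.span_singleton_pow, Ideal.mem_span_singleton']
  rw [Ideal.mem_span_singleton'] at hmem
  obtain ⟨c, hc⟩ := hmem
  refine ⟨c, ?_⟩
  rw [← ha', ← hc, pow_succ]
  ring

/-- a Noetherian local ring in which a nonzerodivisor of the maximal ideal generates a prime ideal
is a domain. -/
theorem isDomain_of_isPrime_span_singleton {A : Type*} [CommRing A] [IsLocalRing A]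
    [IsNoetherianRing A] (π : A) (hπm : π ∈ IsLocalRing.maximalIdeal A)
    (hπ : π ∈ nonZeroDivisors A) (hP : (Ideal.span {π}).IsPrime) : IsDomain A := by
  haveI : NoZeroDivisors A := by
    refine ⟨fun {a b} hab => ?_⟩
    by_contra hcon
    have ha : a ≠ 0 := fun h => hcon (Or.inl h)
    have hb : b ≠ 0 := fun h => hcon (Or.inr h)
    obtain ⟨n, a', rfl, ha'⟩ := exists_eq_pow_mul_notMem π hπm a ha
    obtain ⟨m, b', rfl, hb'⟩ := exists_eq_pow_mul_notMem π hπm b hb
    have h1 : π ^ (n + m) * (a' * b') = 0 := by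
      rw [← hab, pow_add]; ring
    have h2 : a' * b' = 0 := by
      have h3 : π ^ (n + m) ∈ nonZeroDivisors A := pow_mem hπ _
      rw [mul_comm] at h1
      exact (mem_nonZeroDivisors_iff_right.mp h3) _ h1
    have h4 : a' * b' ∈ Ideal.span {π} := by rw [h2]; exact Ideal.zero_mem _
    rcases hP.mem_or_mem h4 with h | h
    · exact ha' h
    · exact hb' h
  exact NoZeroDivisors.to_isDomain A

end Groth.Agent.Lib.Helper22.GIntA
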