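import Mathlib
import Groth.Agent.Lib.Helper22GIntA
import Groth.Agent.Lib.Helper5FiberStalk

set_option autoImplicit false
set_option linter.style.haveILetI false
set_option linter.unusedSectionVars false
set_option linter.unusedVariables false
universe u
open CategoryTheory CategoryTheory.Limits AlgebraicGeometry

namespace Groth.Agent.Lib.Helper22.GIntB

open Groth.Agent.Lib.Helper22.GIntA

/-- the local ring of the spectrum of a discrete valuation ring at the closed point has a
principal maximal ideal generated by a nonzerodivisor. -/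
theorem exists_generator_maximalIdeal_stalk (V : Type u) [CommRing V] [IsDomain V]
    [IsDiscreteValuationRing V] (y : ↥(Spec (CommRingCat.of V)))
    (hy : y = (IsLocalRing.closedPoint V : PrimeSpectrum V)) :
    ∃ ϖ : (Spec (CommRingCat.of V)).presheaf.stalk y,
      IsLocalRing.maximalIdeal ((Spec (CommRingCat.of V)).presheaf.stalk y) = Ideal.span {ϖ} ∧
      ϖ ∈ nonZeroDivisors ((Spec (CommRingCat.of V)).presheaf.stalk y) := by
  let B := (Spec (CommRingCat.of V)).presheaf.stalk y
  letI k : Algebra V B := StructureSheaf.stalkAlgebra V y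
  haveI hloc : IsLocalization.AtPrime B y.asIdeal := StructureSheaf.IsLocalization.to_stalk V y
  have hyI : y.asIdeal = IsLocalRing.maximalIdeal V := by rw [hy]; rfl
  haveI : IsDomain B :=
    IsLocalization.isDomain_of_le_nonZeroDivisors (R := V) (M := y.asIdeal.primeCompl) B
      (Ideal.primeCompl_le_nonZeroDivisors y.asIdeal)
  have hne : y.asIdeal ≠ ⊥ := by
    rw [hyI]
    exact IsDiscreteValuationRing.not_a_field V
  haveI : IsDiscreteValuationRing B :=
    IsLocalization.AtPrime.isDiscreteValuationRing_of_dedekind_domain V hne B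
  obtain ⟨ϖ, hϖ⟩ := IsDiscreteValuationRing.exists_irreducible B
  refine ⟨ϖ, hϖ.maximalIdeal_eq, ?_⟩
  exact mem_nonZeroDivisors_of_ne_zero hϖ.ne_zero

/-- for a flat morphism locally of finite type to the spectrum of a discrete valuation ring,
the local rings of the source at the points of an integral closed fibre are domains. -/
theorem isDomain_stalk_of_isIntegral_fiber (V : Type u) [CommRing V] [IsDomain V]
    [IsDiscreteValuationRing V] {W : Scheme.{u}} (p : W ⟶ Spec (CommRingCat.of V)) [Flat p]
    [LocallyOfFiniteType p] (x : W)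
    (hx : p.base x = (IsLocalRing.closedPoint V : PrimeSpectrum V))
    (hint : IsDomain ((p.fiber (p.base x)).presheaf.stalk (p.asFiber x))) :
    IsDomain (W.presheaf.stalk x) := by
  haveI : IsLocallyNoetherian W := LocallyOfFiniteType.isLocallyNoetherian p
  obtain ⟨ϖ, hϖ1, hϖ2⟩ := exists_generator_maximalIdeal_stalk V (p.base x) hx
  let φ := (p.stalkMap x).hom
  have hflat : φ.Flat := Flat.stalkMap p x
  obtain ⟨e⟩ := Groth.Agent.Lib.Helper5.FiberStalk.nonempty_stalk_asFiber_equiv p x
  have hmap : (IsLocalRing.maximalIdeal ((Spec (CommRingCat.of V)).presheaf.stalk (p.base x))).map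
      φ = Ideal.span {φ ϖ} := by
    rw [hϖ1, Ideal.map_span, Set.image_singleton]
  have hprime : (Ideal.span {φ ϖ}).IsPrime := by
    rw [← hmap, ← Ideal.Quotient.isDomain_iff_prime]
    exact e.symm.toMulEquiv.isDomain _
  have hmem : φ ϖ ∈ IsLocalRing.maximalIdeal (W.presheaf.stalk x) := by
    have h1 : ϖ ∈ IsLocalRing.maximalIdeal
        ((Spec (CommRingCat.of V)).presheaf.stalk (p.base x)) := by
      rw [hϖ1]; exact Ideal.mem_span_singleton_self ϖ
    have h2 : ¬ IsUnit ϖ := (IsLocalRing.mem_maximalIdeal _).mp h1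
    rw [IsLocalRing.mem_maximalIdeal]
    intro h3
    exact h2 (isUnit_of_map_unit φ ϖ h3)
  have hreg : φ ϖ ∈ nonZeroDivisors (W.presheaf.stalk x) := by
    letI : Algebra ((Spec (CommRingCat.of V)).presheaf.stalk (p.base x)) (W.presheaf.stalk x) :=
      φ.toAlgebra
    haveI : Module.Flat ((Spec (CommRingCat.of V)).presheaf.stalk (p.base x))
        (W.presheaf.stalk x) := hflat
    have h1 : IsSMulRegular ((Spec (CommRingCat.of V)).presheaf.stalk (p.base x)) ϖ :=
      (IsRegular.of_ne_zero' (nonZeroDivisors.ne_zero hϖ2)).left.isSMulRegular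
    have h2 : IsSMulRegular (W.presheaf.stalk x) (φ ϖ) := IsSMulRegular.of_flat h1
    rw [mem_nonZeroDivisors_iff_right]
    intro z hz
    apply h2
    simp only [smul_eq_mul, mul_zero]
    rw [mul_comm]; exact hz
  exact isDomain_of_isPrime_span_singleton (φ ϖ) hmem hreg hprime

end Groth.Agent.Lib.Helper22.GIntB
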