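import Mathlib

set_option autoImplicit false
set_option linter.style.haveILetI false
set_option linter.unusedSectionVars false
set_option linter.unusedVariables false
universe u

namespace Groth.Agent.Lib.Helper22.GIntC

variable {T : Type*} [TopologicalSpace T]

/-- the union of two open preirreducible sets with nonempty intersection is preirreducible. -/
theorem isPreirreducible_union_of_isOpen {U₁ U₂ : Set T} (h₁o : IsOpen U₁) (h₂o : IsOpen U₂)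
    (h₁ : IsPreirreducible U₁) (h₂ : IsPreirreducible U₂) (h₁₂ : (U₁ ∩ U₂).Nonempty) :
    IsPreirreducible (U₁ ∪ U₂) := by
  have key : ∀ V : Set T, IsOpen V → ((U₁ ∪ U₂) ∩ V).Nonempty → (U₁ ∩ V).Nonempty := by
    intro V hV ⟨a, ha, haV⟩
    rcases ha with ha | ha
    · exact ⟨a, ha, haV⟩
    · -- `V` meets `U₂`; then `U₂ ∩ V ∩ U₁` is nonempty
      obtain ⟨b, hb2, hbV, hb1⟩ := h₂ V U₁ hV h₁o ⟨a, ha, haV⟩
        (by obtain ⟨c, hc1, hc2⟩ := h₁₂; exact ⟨c, hc2, hc1⟩)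
      exact ⟨b, hb1, hbV⟩
  intro V₁ V₂ hV₁ hV₂ hm₁ hm₂
  obtain ⟨c, hc, hcV⟩ := h₁ V₁ V₂ hV₁ hV₂ (key V₁ hV₁ hm₁) (key V₂ hV₂ hm₂)
  exact ⟨c, Or.inl hc, hcV⟩

/-- a connected space covered by irreducible open subsets is irreducible. -/
theorem irreducibleSpace_of_connected_of_cover [ConnectedSpace T]
    (h : ∀ x : T, ∃ U : Set T, IsOpen U ∧ x ∈ U ∧ IsPreirreducible U) : IrreducibleSpace T := by
  obtain ⟨x₀⟩ := (inferInstance : Nonempty T)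
  let F : Set (Set T) := {U | IsOpen U ∧ x₀ ∈ U ∧ IsPreirreducible U}
  let A : Set T := ⋃₀ F
  have hAo : IsOpen A := isOpen_sUnion fun U hU => hU.1
  have hx₀A : x₀ ∈ A := by
    obtain ⟨U, hU1, hU2, hU3⟩ := h x₀
    exact ⟨U, ⟨hU1, hU2, hU3⟩, hU2⟩
  have hunion : ∀ U₁ ∈ F, ∀ U₂ ∈ F, U₁ ∪ U₂ ∈ F := by
    intro U₁ hU₁ U₂ hU₂
    exact ⟨hU₁.1.union hU₂.1, Or.inl hU₁.2.1,
      isPreirreducible_union_of_isOpen hU₁.1 hU₂.1 hU₁.2.2 hU₂.2.2 ⟨x₀, hU₁.2.1, hU₂.2.1⟩⟩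
  have hAirr : IsPreirreducible A := by
    intro V₁ V₂ hV₁ hV₂ ⟨a₁, ⟨U₁, hU₁, ha₁U⟩, ha₁V⟩ ⟨a₂, ⟨U₂, hU₂, ha₂U⟩, ha₂V⟩
    have hF := hunion U₁ hU₁ U₂ hU₂
    obtain ⟨c, hc, hcV⟩ := hF.2.2 V₁ V₂ hV₁ hV₂ ⟨a₁, Or.inl ha₁U, ha₁V⟩ ⟨a₂, Or.inr ha₂U, ha₂V⟩
    exact ⟨c, ⟨U₁ ∪ U₂, hF, hc⟩, hcV⟩
  have hAc : IsClosed A := by
    rw [← closure_subset_iff_isClosed]
    intro y hy
    obtain ⟨Uy, hUy1, hUy2, hUy3⟩ := h y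
    obtain ⟨a, haUy, U₁, hU₁, haU₁⟩ := mem_closure_iff.mp hy Uy hUy1 hUy2
    have hmem : Uy ∪ U₁ ∈ F :=
      ⟨hUy1.union hU₁.1, Or.inr hU₁.2.1,
        isPreirreducible_union_of_isOpen hUy1 hU₁.1 hUy3 hU₁.2.2 ⟨a, haUy, haU₁⟩⟩
    exact ⟨Uy ∪ U₁, hmem, Or.inl hUy2⟩
  have hAuniv : A = Set.univ := IsClopen.eq_univ ⟨hAc, hAo⟩ ⟨x₀, hx₀A⟩
  haveI : PreirreducibleSpace T := ⟨by rw [← hAuniv]; exact hAirr⟩
  exact { toNonempty := ⟨x₀⟩ }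

end Groth.Agent.Lib.Helper22.GIntC
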