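import Mathlib
import Groth.Agent.Lib.Helper22GIntB
import Groth.Agent.Lib.Helper22GIntC

set_option autoImplicit false
set_option linter.style.haveILetI false
set_option linter.unusedSectionVars false
set_option linter.unusedVariables false
universe u
open CategoryTheory CategoryTheory.Limits AlgebraicGeometry

namespace Groth.Agent.Lib.Helper22.GIntD

open Groth.Agent.Lib.Helper22.GIntA Groth.Agent.Lib.Helper22.GIntB Groth.Agent.Lib.Helper22.GIntC

/-- a point of a locally Noetherian scheme whose local ring is a domain has an irreducible open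
neighbourhood. -/
theorem exists_isOpen_isPreirreducible_of_isDomain_stalk {W : Scheme.{u}} [IsLocallyNoetherian W]
    (x : W) (hx : IsDomain (W.presheaf.stalk x)) :
    ∃ U : Set W, IsOpen U ∧ x ∈ U ∧ IsPreirreducible U := by
  obtain ⟨U, hxU, hU, hinj⟩ := W.exists_germ_injective x
  haveI : IsDomain Γ(W, U) := Function.Injective.isDomain _ hinj
  haveI : IsAffine (U : Scheme.{u}) := hU
  haveI : IsDomain Γ((U : Scheme.{u}), ⊤) :=
    (U.topIso.commRingCatIsoToRingEquiv).toMulEquiv.isDomain _
  haveI : Nonempty ↥(U : Scheme.{u}) := ⟨⟨x, hxU⟩⟩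
  haveI : IsIntegral (U : Scheme.{u}) := isIntegral_of_isAffine_of_isDomain _
  have hirr : IrreducibleSpace ↥(U : Scheme.{u}) := inferInstance
  have hirr' : IrreducibleSpace ↥(U : Set W) := hirr
  exact ⟨(U : Set W), U.2, hxU, (isIrreducible_iff_irreducibleSpace.mpr hirr').isPreirreducible⟩

/-- **the total space of a proper flat family over a discrete valuation ring with integral closed
fibre is irreducible.** -/
theorem irreducibleSpace_of_proper_flat_dvr (V : Type u) [CommRing V] [IsDomain V]
    [IsDiscreteValuationRing V] {W : Scheme.{u}} (p : W ⟶ Spec (CommRingCat.of V)) [IsProper p]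
    [Flat p]
    (hs : IsIntegral (p.fiber ((IsLocalRing.closedPoint V : PrimeSpectrum V) :
      ↥(Spec (CommRingCat.of V))))) : IrreducibleSpace W := by
  let s : ↥(Spec (CommRingCat.of V)) := (IsLocalRing.closedPoint V : PrimeSpectrum V)
  haveI : IsLocallyNoetherian W := LocallyOfFiniteType.isLocallyNoetherian p
  have hsp : ∀ y : ↥(Spec (CommRingCat.of V)), y ⤳ s := fun y =>
    IsLocalRing.specializes_closedPoint (R := V) y
  haveI hFirr : IrreducibleSpace ↥(p.fiber s) := inferInstance
  -- every nonempty closed subset meets the closed fibre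
  have hmeet : ∀ C : Set W, IsClosed C → C.Nonempty → ∃ x ∈ C, p.base x = s := by
    intro C hC ⟨c, hc⟩
    have hcl : IsClosed (p.base '' C) := p.isClosedMap _ hC
    have : s ∈ p.base '' C := (hsp (p.base c)).mem_closed hcl ⟨c, hc, rfl⟩
    obtain ⟨x, hxC, hx⟩ := this
    exact ⟨x, hxC, hx⟩
  -- connectedness
  haveI : ConnectedSpace W := by
    rw [connectedSpace_iff_clopen]
    refine ⟨?_, ?_⟩
    · obtain ⟨a⟩ := (inferInstance : Nonempty ↥(p.fiber s))
      exact ⟨(p.fiberι s).base a⟩
    · intro C hC
      by_contra hcon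
      have hne1 : C.Nonempty := by
        rw [Set.nonempty_iff_ne_empty]
        exact fun h => hcon (Or.inl h)
      have hne2 : Cᶜ.Nonempty := by
        rw [Set.nonempty_iff_ne_empty]
        intro h
        exact hcon (Or.inr (Set.compl_empty_iff.mp h))
      obtain ⟨x₁, hx₁C, hx₁⟩ := hmeet C hC.1 hne1
      obtain ⟨x₂, hx₂C, hx₂⟩ := hmeet Cᶜ hC.2.isClosed_compl hne2
      have hr : ∀ x : W, p.base x = s → x ∈ Set.range (p.fiberι s).base := by
        intro x hx
        rw [Scheme.Hom.range_fiberι]
        exact hx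
      obtain ⟨a₁, rfl⟩ := hr x₁ hx₁
      obtain ⟨a₂, rfl⟩ := hr x₂ hx₂
      have hclopen : IsClopen ((p.fiberι s).base ⁻¹' C) := hC.preimage (p.fiberι s).continuous
      rcases isClopen_iff.mp hclopen with h | h
      · have : a₁ ∈ (p.fiberι s).base ⁻¹' C := hx₁C
        rw [h] at this
        exact this
      · have : a₂ ∈ (p.fiberι s).base ⁻¹' C := by rw [h]; trivial
        exact hx₂C this
  apply irreducibleSpace_of_connected_of_cover
  intro x'
  obtain ⟨x, hxcl, hx⟩ := hmeet (closure {x'}) isClosed_closure ⟨x', subset_closure rfl⟩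
  have hspec : x' ⤳ x := specializes_iff_mem_closure.mpr hxcl
  have hfib : IsIntegral (p.fiber (p.base x)) := by rw [hx]; exact hs
  have hdom : IsDomain (W.presheaf.stalk x) :=
    isDomain_stalk_of_isIntegral_fiber V p x hx inferInstance
  obtain ⟨U, hUo, hxU, hUirr⟩ := exists_isOpen_isPreirreducible_of_isDomain_stalk x hdom
  exact ⟨U, hUo, hspec.mem_open hUo hxU, hUirr⟩

end Groth.Agent.Lib.Helper22.GIntD
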