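import Mathlib
import Groth.Agent.Lib.Helper22GIntD

set_option autoImplicit false
set_option linter.style.haveILetI false
set_option linter.unusedSectionVars false
set_option linter.unusedVariables false
universe u
open CategoryTheory CategoryTheory.Limits AlgebraicGeometry

namespace Groth.Agent.Lib.Helper22.GIntE

open Groth.Agent.Lib.Helper22.GIntD

/-- the fraction field of a discrete valuation ring is the localisation away from a
uniformiser. -/
theorem isLocalization_away_of_irreducible (V : Type*) [CommRing V] [IsDomain V]
    [IsDiscreteValuationRing V] (K : Type*) [Field K] [Algebra V K] [IsFractionRing V K]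
    (ϖ : V) (hϖ : Irreducible ϖ) : IsLocalization.Away ϖ K := by
  have h₁ : Submonoid.powers ϖ ≤ nonZeroDivisors V := by
    rintro _ ⟨n, rfl⟩
    exact pow_mem (mem_nonZeroDivisors_of_ne_zero hϖ.ne_zero) n
  have h₂ : ∀ n ∈ nonZeroDivisors V, ∃ m ∈ Submonoid.powers ϖ, n ∣ m := by
    intro x hx
    obtain ⟨n, u, rfl⟩ := IsDiscreteValuationRing.eq_unit_mul_pow_irreducible
      (nonZeroDivisors.ne_zero hx) hϖ
    refine ⟨ϖ ^ n, ⟨n, rfl⟩, ?_⟩
    exact ⟨(↑u⁻¹ : V), by rw [mul_comm (u : V), mul_assoc, Units.mul_inv, mul_one]⟩
  exact (IsLocalization.iff_of_le_of_exists_dvd (M := Submonoid.powers ϖ) (S := K)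
    (nonZeroDivisors V) h₁ h₂).mpr (inferInstance : IsFractionRing V K)

/-- the generic point of the spectrum of a discrete valuation ring is an open immersion. -/
theorem isOpenImmersion_generic (V : Type u) [CommRing V] [IsDomain V]
    [IsDiscreteValuationRing V] (K : Type u) [Field K] [Algebra V K] [IsFractionRing V K] :
    IsOpenImmersion (Spec.map (CommRingCat.ofHom (algebraMap V K))) := by
  obtain ⟨ϖ, hϖ⟩ := IsDiscreteValuationRing.exists_irreducible V
  haveI := isLocalization_away_of_irreducible V K ϖ hϖ
  exact IsOpenImmersion.of_isLocalization ϖ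

/-- **the generic fibre of a proper flat family over a discrete valuation ring with integral closed
fibre is irreducible.** -/
theorem irreducibleSpace_generic_fibre (V : Type u) [CommRing V] [IsDomain V]
    [IsDiscreteValuationRing V] (K : Type u) [Field K] [Algebra V K] [IsFractionRing V K]
    {W : Scheme.{u}} (p : W ⟶ Spec (CommRingCat.of V)) [IsProper p] [Flat p]
    (hs : IsIntegral (p.fiber ((IsLocalRing.closedPoint V : PrimeSpectrum V) :
      ↥(Spec (CommRingCat.of V))))) :
    IrreducibleSpace ↥(pullback p (Spec.map (CommRingCat.ofHom (algebraMap V K)))) := by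
  haveI hW : IrreducibleSpace W := irreducibleSpace_of_proper_flat_dvr V p hs
  let j := Spec.map (CommRingCat.ofHom (algebraMap V K))
  haveI : IsOpenImmersion j := isOpenImmersion_generic V K
  haveI : LocallyOfFinitePresentation p :=
    LocallyOfFinitePresentation.iff_locallyOfFiniteType.mpr inferInstance
  -- nonemptiness
  have hne : Nonempty ↥(pullback p j) := by
    obtain ⟨w⟩ := (inferInstance : Nonempty W)
    let pt : ↥(Spec (CommRingCat.of K)) := (IsLocalRing.closedPoint K : PrimeSpectrum K)
    have hopen : IsOpen (Set.range p.base) := p.isOpenMap.isOpen_range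
    have hgen : j.base pt ⤳ p.base w := by
      have h1 : (j.base pt).asIdeal = ⊥ := by
        show Ideal.comap (algebraMap V K) pt.asIdeal = ⊥
        have h2 : pt.asIdeal = ⊥ := by
          show IsLocalRing.maximalIdeal K = ⊥
          exact IsLocalRing.maximalIdeal_eq_bot
        rw [h2, ← RingHom.ker_eq_comap_bot]
        exact (RingHom.injective_iff_ker_eq_bot _).mp (IsFractionRing.injective V K)
      have h3 : (j.base pt).asIdeal ≤ (p.base w).asIdeal := by
        rw [h1]
        exact bot_le
      exact (PrimeSpectrum.le_iff_specializes (R := V) (j.base pt) (p.base w)).mp h3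
    have hmem : j.base pt ∈ Set.range p.base := hgen.mem_open hopen ⟨w, rfl⟩
    obtain ⟨w', hw'⟩ := hmem
    obtain ⟨z, -, -⟩ := Scheme.Pullback.exists_preimage_pullback (f := p) (g := j) w' pt hw'
    exact ⟨z⟩
  haveI : IsOpenImmersion (pullback.fst p j) := inferInstance
  have hemb : Topology.IsOpenEmbedding (pullback.fst p j).base :=
    (pullback.fst p j).isOpenEmbedding
  have hpre : IsPreirreducible ((pullback.fst p j).base ⁻¹' Set.univ) :=
    IsPreirreducible.preimage (PreirreducibleSpace.isPreirreducible_univ) hemb
  rw [Set.preimage_univ] at hpre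
  haveI : PreirreducibleSpace ↥(pullback p j) := ⟨hpre⟩
  exact { toNonempty := hne }

end Groth.Agent.Lib.Helper22.GIntE
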