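import Mathlib
import Groth.Agent.Lib.Helper22GIntE
import Groth.Agent.Lib.Helper4DVRSch
import Groth.Agent.S1539

set_option autoImplicit false
set_option linter.style.haveILetI false
set_option linter.unusedSectionVars false
set_option linter.unusedVariables false
universe u
open CategoryTheory CategoryTheory.Limits AlgebraicGeometry

namespace Groth.Agent.Lib.Helper22.GIntF

open Groth.Agent.Lib.Helper22.GIntE

/-- irreducibility is invariant under isomorphisms of schemes. -/
theorem irreducibleSpace_of_iso {A B : Scheme.{u}} (e : A ≅ B) [IrreducibleSpace A] :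
    IrreducibleSpace B := by
  have hsurj : Function.Surjective e.hom.base := e.hom.homeomorph.surjective
  have h1 : IsIrreducible (e.hom.base '' Set.univ) :=
    (IrreducibleSpace.isIrreducible_univ A).image _ e.hom.continuous.continuousOn
  rw [Set.image_univ, hsurj.range_eq] at h1
  haveI : PreirreducibleSpace B := ⟨h1.isPreirreducible⟩
  obtain ⟨a⟩ := (inferInstance : Nonempty A)
  exact { toNonempty := ⟨e.hom.base a⟩ }

/-- **generization of geometric irreducibility**: over a locally Noetherian base, for a proper
flat morphism, a generization of a point with geometrically integral fibre has geometrically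
irreducible fibre. -/
theorem geometricallyIrreducible_fibre_of_specializes {X Y : Scheme.{u}} [IsLocallyNoetherian Y]
    (f : X ⟶ Y) [IsProper f] [Flat f] {y z : Y} (h : z ⤳ y)
    (hy : GeometricallyIntegral (f.fiberToSpecResidueField y)) :
    GeometricallyIrreducible (f.fiberToSpecResidueField z) := by
  by_cases hne : z = y
  · subst hne
    infer_instance
  letI := f.fiberOverSpecResidueField z
  refine Groth.Agent.S1539.result (Y.residueField z) (f.fiber z) ?_
  intro k' _ _ _ _
  let φ : Y.residueField z ⟶ CommRingCat.of k' :=
    CommRingCat.ofHom (algebraMap (Y.residueField z) k')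
  have hφ : φ.hom.EssFiniteType := by
    have h1 : (algebraMap (Y.residueField z) k').Finite :=
      RingHom.finite_algebraMap.mpr inferInstance
    exact h1.finiteType.essFiniteType
  obtain ⟨V, hV, g, hg1, hg2⟩ :=
    Groth.Agent.Lib.Helper4.DVRSch.exists_dvr_hom (L := k') h hne φ hφ
  haveI := hV
  let p := pullback.snd f g
  let s : ↥(Spec (CommRingCat.of V)) := (IsLocalRing.closedPoint V : PrimeSpectrum V)
  have hgs : g.base s = y := hg2
  -- the closed fibre is integral
  have hs : IsIntegral (p.fiber s) := by
    have sq := isPullback_fiberToSpecResidueField_of_isPullback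
      (IsPullback.of_hasPullback f g) s
    haveI hGI : GeometricallyIntegral (f.fiberToSpecResidueField (g.base s)) := by
      rw [hgs]; exact hy
    haveI : GeometricallyIntegral (p.fiberToSpecResidueField s) :=
      MorphismProperty.of_isPullback (P := @GeometricallyIntegral) sq hGI
    haveI : Subsingleton ↥(Spec ((Spec (CommRingCat.of V)).residueField s)) :=
      inferInstanceAs (Subsingleton (PrimeSpectrum ((Spec (CommRingCat.of V)).residueField s)))
    exact GeometricallyIntegral.isIntegral_of_subsingleton (p.fiberToSpecResidueField s)
  haveI hirr : IrreducibleSpace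
      ↥(pullback p (Spec.map (CommRingCat.ofHom (algebraMap V k')))) :=
    irreducibleSpace_generic_fibre V k' p hs
  let j := Spec.map (CommRingCat.ofHom (algebraMap V k'))
  have hj : j ≫ g = Spec.map φ ≫ Y.fromSpecResidueField z := hg1
  let e1 : pullback p j ≅ pullback f (j ≫ g) := pullbackLeftPullbackSndIso f g j
  let e2 : pullback f (j ≫ g) ≅ pullback f (Spec.map φ ≫ Y.fromSpecResidueField z) :=
    pullback.congrHom rfl hj
  let e3 : pullback (pullback.snd f (Y.fromSpecResidueField z)) (Spec.map φ) ≅
      pullback f (Spec.map φ ≫ Y.fromSpecResidueField z) :=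
    pullbackLeftPullbackSndIso f (Y.fromSpecResidueField z) (Spec.map φ)
  exact irreducibleSpace_of_iso (e1 ≪≫ e2 ≪≫ e3.symm)

end Groth.Agent.Lib.Helper22.GIntF
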