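import Mathlib

set_option autoImplicit false
set_option linter.style.haveILetI false
set_option linter.unusedSectionVars false
set_option linter.unusedVariables false

universe u

open CategoryTheory CategoryTheory.Limits AlgebraicGeometry Topology

namespace Groth.Agent.Lib.Helper22.LscD

/-- a constructible subset of a prime spectrum containing all generizations of a point contains a
basic open neighbourhood of the point. -/
theorem exists_basicOpen_subset {R : Type u} [CommRing R] (E : Set (PrimeSpectrum R))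
    (hE : IsConstructible E) (p : PrimeSpectrum R) (h : ∀ q : PrimeSpectrum R, q ⤳ p → q ∈ E) :
    ∃ s : R, s ∉ p.asIdeal ∧ (PrimeSpectrum.basicOpen s : Set (PrimeSpectrum R)) ⊆ E := by
  obtain ⟨S, _, f, hf⟩ := PrimeSpectrum.exists_range_eq_of_isConstructible hE.compl
  let M : Submonoid S := Submonoid.map f p.asIdeal.primeCompl
  have h0 : (0 : S) ∈ M := by
    by_contra h0
    have hdisj : Disjoint ((⊥ : Ideal S) : Set S) (M : Set S) := by
      rw [Set.disjoint_left]
      intro x hx hxM
      rw [SetLike.mem_coe, Ideal.mem_bot] at hx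
      exact h0 (hx ▸ hxM)
    obtain ⟨q, hq, -, hqM⟩ := Ideal.exists_le_prime_disjoint (⊥ : Ideal S) M hdisj
    let q' : PrimeSpectrum S := ⟨q, hq⟩
    have hle : (PrimeSpectrum.comap f q') ≤ p := by
      intro x hx
      by_contra hxp
      have hx1 : f x ∈ (q : Set S) := hx
      have hx2 : f x ∈ (M : Set S) := ⟨x, hxp, rfl⟩
      exact Set.disjoint_left.mp hqM hx1 hx2
    have hspec : PrimeSpectrum.comap f q' ⤳ p := (PrimeSpectrum.le_iff_specializes _ _).mp hle
    have hmem : PrimeSpectrum.comap f q' ∈ Eᶜ := hf ▸ ⟨q', rfl⟩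
    exact hmem (h _ hspec)
  obtain ⟨s, hs, hfs⟩ := h0
  refine ⟨s, hs, ?_⟩
  intro q hq
  by_contra hqE
  have hq' : q ∈ Set.range (PrimeSpectrum.comap f) := hf ▸ hqE
  obtain ⟨q₀, rfl⟩ := hq'
  apply hq
  show f s ∈ q₀.asIdeal
  rw [hfs]
  exact zero_mem _

/-- a locally constructible subset of a scheme containing all generizations of a point is a
neighbourhood of the point. -/
theorem mem_nhds_of_isLocallyConstructible {Y : Scheme.{u}} (E : Set Y)
    (hE : IsLocallyConstructible E) (y : Y) (h : ∀ z : Y, z ⤳ y → z ∈ E) : E ∈ nhds y := by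
  obtain ⟨W, hW, hyW, -⟩ := exists_isAffineOpen_mem_and_subset (x := y) (U := (⊤ : Y.Opens)) trivial
  let φ := hW.fromSpec
  have hφ : IsOpenEmbedding φ.base := φ.isOpenEmbedding
  have hy : y ∈ Set.range φ.base := by
    rw [hW.range_fromSpec]
    exact hyW
  obtain ⟨p, hp⟩ := hy
  have hE' : IsConstructible (φ.base ⁻¹' E) :=
    (hE.preimage_of_isOpenEmbedding hφ).isConstructible
  obtain ⟨s, hs, hsub⟩ := exists_basicOpen_subset (R := Γ(Y, W)) (φ.base ⁻¹' E) hE' p (by
    intro q hq
    apply h
    rw [← hp]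
    exact hq.map φ.continuous)
  have hopen : IsOpen (φ.base '' (PrimeSpectrum.basicOpen s : Set (PrimeSpectrum Γ(Y, W)))) :=
    hφ.isOpenMap _ (PrimeSpectrum.basicOpen s).2
  refine Filter.mem_of_superset (hopen.mem_nhds ⟨p, hs, hp⟩) ?_
  rintro _ ⟨q, hq, rfl⟩
  exact hsub hq

end Groth.Agent.Lib.Helper22.LscD
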