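import Mathlib
import Groth.Agent.Lib.Helper22GIntF
import Groth.Agent.Lib.Helper22GI12
import Groth.Agent.Lib.Helper22LscD
import Groth.Agent.Lib.Helper6GRProper
import Groth.Agent.S1538

set_option autoImplicit false
set_option linter.style.haveILetI false
set_option linter.unusedSectionVars false
set_option linter.unusedVariables false
universe u
open CategoryTheory CategoryTheory.Limits AlgebraicGeometry

namespace Groth.Agent.Lib.Helper22.GIntG

/-- a topological space is irreducible iff it has exactly one irreducible component. -/
theorem irreducibleSpace_iff_encard_irreducibleComponents {α : Type*} [TopologicalSpace α] :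
    IrreducibleSpace α ↔ (irreducibleComponents α).encard = 1 := by
  constructor
  · intro h
    have : irreducibleComponents α = {Set.univ} := by
      ext s
      simp only [Set.mem_singleton_iff]
      constructor
      · intro hs
        have h1 : IsIrreducible (Set.univ : Set α) := IrreducibleSpace.isIrreducible_univ α
        exact Set.Subset.antisymm (Set.subset_univ _) (hs.2 h1 (Set.subset_univ _))
      · rintro rfl
        exact ⟨IrreducibleSpace.isIrreducible_univ α, fun t _ _ => Set.subset_univ _⟩
    rw [this, Set.encard_singleton]
  · intro h
    obtain ⟨C, hC⟩ := Set.encard_eq_one.mp h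
    have hCmem : C ∈ irreducibleComponents α := by rw [hC]; rfl
    have huniv : C = Set.univ := by
      have := sUnion_irreducibleComponents (X := α)
      rw [hC, Set.sUnion_singleton] at this
      exact this
    have hirr : IsIrreducible (Set.univ : Set α) := huniv ▸ hCmem.1
    haveI : PreirreducibleSpace α := ⟨hirr.isPreirreducible⟩
    obtain ⟨a, -⟩ := hirr.nonempty
    exact { toNonempty := ⟨a⟩ }

/-- the fibre over `y` is geometrically irreducible iff the geometric fibre over `y` has exactly
one irreducible component. -/
theorem geometricallyIrreducible_fibre_iff {X Y : Scheme.{u}} (f : X ⟶ Y) (y : Y) :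
    GeometricallyIrreducible (f.fiberToSpecResidueField y) ↔ MoreMor.nGeomIrredComp f y = 1 := by
  unfold MoreMor.nGeomIrredComp
  rw [← irreducibleSpace_iff_encard_irreducibleComponents]
  constructor
  · intro h
    exact h.geometrically_irreducibleSpace _ _ _ (IsPullback.of_hasPullback _ _)
  · intro h
    letI := f.fiberOverSpecResidueField y
    haveI : IrreducibleSpace ↥(Curv2.bc (Y.residueField y) (f.fiber y)
        (SeparableClosure (Y.residueField y))) := h
    exact Groth.Agent.S1538.result (Y.residueField y) (f.fiber y)

/-- **Noetherian case**: for a proper flat morphism to a locally Noetherian scheme, the locus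
of points of the base with geometrically integral fibre is open. -/
theorem isOpen_geometricallyIntegral_fibre_of_isLocallyNoetherian {X Y : Scheme.{u}}
    [IsLocallyNoetherian Y] (f : X ⟶ Y) [IsProper f] [Flat f] :
    IsOpen {y : Y | GeometricallyIntegral (f.fiberToSpecResidueField y)} := by
  haveI : LocallyOfFinitePresentation f :=
    LocallyOfFinitePresentation.iff_locallyOfFiniteType.mpr inferInstance
  rw [isOpen_iff_mem_nhds]
  intro y hy
  replace hy : GeometricallyIntegral (f.fiberToSpecResidueField y) := hy
  have hGR : {y : Y | GeometricallyReduced (f.fiberToSpecResidueField y)} ∈ nhds y :=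
    (Groth.Agent.Lib.Helper6.GRProper.isOpen_geometricallyReduced_fibre f).mem_nhds
      (show GeometricallyReduced (f.fiberToSpecResidueField y) from inferInstance)
  have hIrr : {y : Y | GeometricallyIrreducible (f.fiberToSpecResidueField y)} ∈ nhds y := by
    refine Groth.Agent.Lib.Helper22.LscD.mem_nhds_of_isLocallyConstructible _ ?_ y ?_
    · have : {y : Y | GeometricallyIrreducible (f.fiberToSpecResidueField y)} =
          {y : Y | MoreMor.nGeomIrredComp f y = 1} := by
        ext z
        exact geometricallyIrreducible_fibre_iff f z
      rw [this]
      exact Groth.Agent.Lib.Helper22.GI.isLocallyConstructible_nGeomIrredComp_eq f 1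
    · intro z hz
      exact Groth.Agent.Lib.Helper22.GIntF.geometricallyIrreducible_fibre_of_specializes f hz hy
  filter_upwards [hGR, hIrr] with z h1 h2
  haveI : GeometricallyReduced (f.fiberToSpecResidueField z) := h1
  haveI : GeometricallyIrreducible (f.fiberToSpecResidueField z) := h2
  exact GeometricallyIntegral.of_geometricallyReduced_of_geometricallyIrreducible _

end Groth.Agent.Lib.Helper22.GIntG
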