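import Mathlib
import Groth.Agent.Lib.Helper22GIntG
import Groth.Agent.Lib.Helper21UnitFibE
import Groth.Agent.S9735
import Groth.Agent.S9764

set_option autoImplicit false
set_option linter.style.haveILetI false
set_option linter.unusedSectionVars false
set_option linter.unusedVariables false
universe u
open CategoryTheory CategoryTheory.Limits AlgebraicGeometry

namespace Groth.Agent.Lib.Helper22.GIntH

/-- the locus of geometrically integral fibres commutes with base change. -/
theorem geometricallyIntegral_fibre_preimage {X Y X' Y' : Scheme.{u}} (f : X ⟶ Y) (g : Y' ⟶ Y)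
    (f' : X' ⟶ Y') (g' : X' ⟶ X) (hc : IsPullback g' f' f g) :
    {y' : Y' | GeometricallyIntegral (f'.fiberToSpecResidueField y')} =
      g ⁻¹' {y : Y | GeometricallyIntegral (f.fiberToSpecResidueField y)} := by
  ext y'
  have h1 := Set.ext_iff.mp (Groth.Agent.S9735.result f g f' g' hc) y'
  have h2 := Set.ext_iff.mp (Groth.Agent.S9764.result f g f' g' hc) y'
  simp only [Set.mem_ofPred_eq, Set.mem_preimage] at h1 h2 ⊢
  constructor
  · intro h
    haveI := h1.mp inferInstance
    haveI := h2.mp inferInstance
    exact GeometricallyIntegral.of_geometricallyReduced_of_geometricallyIrreducible _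
  · intro h
    haveI := h1.mpr inferInstance
    haveI := h2.mpr inferInstance
    exact GeometricallyIntegral.of_geometricallyReduced_of_geometricallyIrreducible _

/-- **EGA IV 12.2.4 (viii)**: for a proper flat finitely presented morphism, the locus
of points of the base with geometrically integral fibre is open. -/
theorem isOpen_geometricallyIntegral_fibre {X Y : Scheme.{u}}
    (f : X ⟶ Y) [IsProper f] [Flat f] [LocallyOfFinitePresentation f] :
    IsOpen {y : Y | GeometricallyIntegral (f.fiberToSpecResidueField y)} := by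
  rw [isOpen_iff_mem_nhds]
  intro y hy
  obtain ⟨U, hU, hyU, -⟩ :=
    exists_isAffineOpen_mem_and_subset (x := y) (U := (⊤ : Y.Opens)) trivial
  haveI : IsAffine U := hU
  obtain ⟨X₀, Y₀, f₀, g, p, hN, hP, hF, hpb⟩ :=
    Groth.Agent.Lib.Helper21.TBridge.exists_noetherian_model (f ∣_ U)
  haveI := hN
  haveI := hP
  haveI := hF
  have h0 := Groth.Agent.Lib.Helper22.GIntG.isOpen_geometricallyIntegral_fibre_of_isLocallyNoetherian f₀
  have h1 : IsOpen {u : ↥(U.toScheme) | GeometricallyIntegral ((f ∣_ U).fiberToSpecResidueField u)} := by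
    rw [geometricallyIntegral_fibre_preimage f₀ g (f ∣_ U) p hpb]
    exact h0.preimage g.continuous
  have h2 : {u : ↥(U.toScheme) | GeometricallyIntegral ((f ∣_ U).fiberToSpecResidueField u)} =
      U.ι ⁻¹' {y : Y | GeometricallyIntegral (f.fiberToSpecResidueField y)} :=
    geometricallyIntegral_fibre_preimage f U.ι (f ∣_ U) (f ⁻¹ᵁ U).ι (isPullback_morphismRestrict f U).flip
  rw [h2] at h1
  have h3 : IsOpen (U.ι '' (U.ι ⁻¹' {y : Y | GeometricallyIntegral (f.fiberToSpecResidueField y)})) :=
    U.ι.isOpenEmbedding.isOpenMap _ h1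
  refine Filter.mem_of_superset (h3.mem_nhds ⟨⟨y, hyU⟩, hy, rfl⟩) ?_
  rintro _ ⟨u, hu, rfl⟩
  exact hu

end Groth.Agent.Lib.Helper22.GIntH
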