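import Mathlib
import Groth.Agent.Lib.Helper22GIntC

set_option autoImplicit false
set_option linter.style.haveILetI false
set_option linter.unusedSectionVars false
set_option linter.unusedVariables false
universe u

namespace Groth.Agent.Lib.Helper22.GPtA

open Groth.Agent.Lib.Helper22.GIntC

/-- a topological space is *locally irreducible* if every point has a preirreducible open
neighbourhood. -/
def LocIrr (α : Type*) [TopologicalSpace α] : Prop :=
  ∀ x : α, ∃ U : Set α, IsOpen U ∧ x ∈ U ∧ IsPreirreducible U

variable {α : Type*} [TopologicalSpace α]

theorem LocIrr.of_isOpenEmbedding {β : Type*} [TopologicalSpace β] {j : α → β}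
    (hj : Topology.IsOpenEmbedding j) (h : LocIrr β) : LocIrr α := by
  intro x
  obtain ⟨U, hU, hxU, hirr⟩ := h (j x)
  exact ⟨j ⁻¹' U, hU.preimage hj.continuous, hxU, hirr.preimage hj⟩

/-- a space covered by preirreducible open sets is locally irreducible -/
theorem LocIrr.of_cover {ι : Type*} (C : ι → Set α) (hCo : ∀ i, IsOpen (C i))
    (hCi : ∀ i, IsPreirreducible (C i)) (hcov : ∀ x : α, ∃ i, x ∈ C i) : LocIrr α := by
  intro x
  obtain ⟨i, hi⟩ := hcov x
  exact ⟨C i, hCo i, hi, hCi i⟩

/-- in a locally irreducible space, preirreducible open neighbourhoods lie in the connected
component -/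
theorem subset_connectedComponent_of_isPreirreducible {U : Set α} (hU : IsPreirreducible U)
    {x y : α} (hy : y ∈ connectedComponent x) (hyU : y ∈ U) : U ⊆ connectedComponent x := by
  have := hU.isPreconnected.subset_connectedComponent hyU
  rwa [← connectedComponent_eq hy] at this

theorem LocIrr.isOpen_connectedComponent (h : LocIrr α) (x : α) :
    IsOpen (connectedComponent x) := by
  rw [isOpen_iff_forall_mem_open]
  intro y hy
  obtain ⟨U, hU, hyU, hirr⟩ := h y
  exact ⟨U, subset_connectedComponent_of_isPreirreducible hirr hy hyU, hU, hyU⟩

theorem LocIrr.isIrreducible_connectedComponent (h : LocIrr α) (x : α) :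
    IsIrreducible (connectedComponent x) := by
  have hopen := h.isOpen_connectedComponent x
  haveI : ConnectedSpace ↥(connectedComponent x) :=
    isConnected_iff_connectedSpace.mp isConnected_connectedComponent
  have hemb : Topology.IsOpenEmbedding (Subtype.val : ↥(connectedComponent x) → α) :=
    hopen.isOpenEmbedding_subtypeVal
  haveI : IrreducibleSpace ↥(connectedComponent x) := by
    apply irreducibleSpace_of_connected_of_cover
    intro y
    obtain ⟨U, hU, hyU, hirr⟩ := h y.1
    exact ⟨Subtype.val ⁻¹' U, hU.preimage continuous_subtype_val, hyU, hirr.preimage hemb⟩
  exact isIrreducible_iff_irreducibleSpace.mpr inferInstance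

/-- in a locally irreducible space the irreducible components are the connected components -/
theorem LocIrr.irreducibleComponents_eq (h : LocIrr α) :
    irreducibleComponents α = Set.range (connectedComponent : α → Set α) := by
  ext T
  constructor
  · intro hT
    obtain ⟨x, hx⟩ := hT.1.nonempty
    refine ⟨x, ?_⟩
    have h1 : T ⊆ connectedComponent x :=
      hT.1.isPreirreducible.isPreconnected.subset_connectedComponent hx
    exact (Set.Subset.antisymm (hT.2 (h.isIrreducible_connectedComponent x) h1) h1)
  · rintro ⟨x, rfl⟩
    refine ⟨h.isIrreducible_connectedComponent x, ?_⟩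
    intro S hS hCS
    have hxS : x ∈ S := hCS mem_connectedComponent
    exact hS.isPreirreducible.isPreconnected.subset_connectedComponent hxS

/-- in a locally irreducible space there are as many irreducible components as connected
components -/
theorem LocIrr.encard_irreducibleComponents (h : LocIrr α) :
    (irreducibleComponents α).encard = ENat.card (ConnectedComponents α) := by
  rw [h.irreducibleComponents_eq]
  let g : ConnectedComponents α → Set α :=
    Quotient.lift (connectedComponent : α → Set α) (fun a b hab => hab)
  have hg : Function.Injective g := by
    intro a b
    induction a using Quotient.inductionOn with | _ a => ?_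
    induction b using Quotient.inductionOn with | _ b => ?_
    intro hab
    exact Quotient.sound hab
  have hr : Set.range (connectedComponent : α → Set α) = Set.range g := by
    ext S
    constructor
    · rintro ⟨x, rfl⟩
      exact ⟨Quotient.mk _ x, rfl⟩
    · rintro ⟨c, rfl⟩
      induction c using Quotient.inductionOn with | _ a => ?_
      exact ⟨a, rfl⟩
  rw [hr, ← Set.image_univ, hg.encard_image, Set.encard_univ]

/-- in a space with finitely many irreducible components the connected components are open -/
theorem isOpen_connectedComponent_of_finite
    (h : (irreducibleComponents α).Finite) (x : α) : IsOpen (connectedComponent x) := by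
  have hcompl : (connectedComponent x)ᶜ =
      ⋃ T ∈ {T ∈ irreducibleComponents α | ¬ T ⊆ connectedComponent x}, T := by
    ext y
    simp only [Set.mem_compl_iff, Set.mem_iUnion, exists_prop, Set.mem_ofPred_eq]
    constructor
    · intro hy
      exact ⟨irreducibleComponent y, ⟨irreducibleComponent_mem_irreducibleComponents y,
        fun hsub => hy (hsub mem_irreducibleComponent)⟩, mem_irreducibleComponent⟩
    · rintro ⟨T, ⟨hT, hnsub⟩, hyT⟩ hy
      apply hnsub
      have hpre : _root_.IsPreconnected T := hT.1.isPreirreducible.isPreconnected
      have := hpre.subset_connectedComponent hyT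
      rwa [← connectedComponent_eq hy] at this
  rw [← isClosed_compl_iff, hcompl]
  exact (h.subset (fun T hT => hT.1)).isClosed_biUnion
    fun T hT => isClosed_of_mem_irreducibleComponents T hT.1

/-- conversely, a space with finitely many irreducible components, as many as connected components,
is locally irreducible. -/
theorem LocIrr.of_encard_eq (hfin : (irreducibleComponents α).Finite)
    (heq : (irreducibleComponents α).encard = ENat.card (ConnectedComponents α)) : LocIrr α := by
  haveI : Finite ↥(irreducibleComponents α) := hfin
  haveI : Finite (ConnectedComponents α) := by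
    rw [← ENat.card_lt_top, ← heq]
    exact hfin.encard_lt_top
  -- the map sending an irreducible component to the connected component containing it
  have hne : ∀ T : ↥(irreducibleComponents α), (T : Set α).Nonempty := fun T => T.2.1.nonempty
  let φ : ↥(irreducibleComponents α) → ConnectedComponents α :=
    fun T => ConnectedComponents.mk (hne T).some
  have hφ : ∀ (T : ↥(irreducibleComponents α)) (y : α), y ∈ (T : Set α) →
      φ T = ConnectedComponents.mk y := by
    intro T y hy
    rw [ConnectedComponents.coe_eq_coe']
    have h1 : (T : Set α) ⊆ connectedComponent y :=
      T.2.1.isPreirreducible.isPreconnected.subset_connectedComponent hy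
    exact h1 (hne T).some_mem
  have hsurj : Function.Surjective φ := by
    intro c
    obtain ⟨y, rfl⟩ := ConnectedComponents.surjective_coe c
    exact ⟨⟨irreducibleComponent y, irreducibleComponent_mem_irreducibleComponents y⟩,
      hφ _ y mem_irreducibleComponent⟩
  have hcard : Nat.card ↥(irreducibleComponents α) = Nat.card (ConnectedComponents α) := by
    have h1 : ((Nat.card ↥(irreducibleComponents α) : ℕ) : ℕ∞) =
        (irreducibleComponents α).encard := by
      rw [Set.encard, ENat.card_eq_coe_natCard]
    have h2 : ((Nat.card (ConnectedComponents α) : ℕ) : ℕ∞) = ENat.card (ConnectedComponents α) :=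
      (ENat.card_eq_coe_natCard _).symm
    have : ((Nat.card ↥(irreducibleComponents α) : ℕ) : ℕ∞) =
        ((Nat.card (ConnectedComponents α) : ℕ) : ℕ∞) := by rw [h1, h2, heq]
    exact_mod_cast this
  have hinj : Function.Injective φ :=
    (Function.Surjective.bijective_of_nat_card_le hsurj hcard.le).1
  intro x
  refine ⟨connectedComponent x,
    Groth.Agent.Lib.Helper22.GPtA.isOpen_connectedComponent_of_finite hfin x,
    mem_connectedComponent, ?_⟩
  have hC : connectedComponent x = irreducibleComponent x := by
    apply Set.Subset.antisymm
    · intro y hy
      have h1 : φ ⟨irreducibleComponent y, irreducibleComponent_mem_irreducibleComponents y⟩ =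
          φ ⟨irreducibleComponent x, irreducibleComponent_mem_irreducibleComponents x⟩ := by
        rw [hφ _ y mem_irreducibleComponent, hφ _ x mem_irreducibleComponent,
          ConnectedComponents.coe_eq_coe']
        exact hy
      have h2 := congrArg Subtype.val (hinj h1)
      simp only at h2
      rw [← h2]
      exact mem_irreducibleComponent
    · exact isIrreducible_irreducibleComponent.isPreirreducible.isPreconnected.subset_connectedComponent
        mem_irreducibleComponent
  rw [hC]
  exact isIrreducible_irreducibleComponent.isPreirreducible

/-- a space with finitely many irreducible components has finitely many connected components -/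
theorem finite_connectedComponents_of_finite (hfin : (irreducibleComponents α).Finite) :
    Finite (ConnectedComponents α) := by
  haveI : Finite ↥(irreducibleComponents α) := hfin
  let φ : ↥(irreducibleComponents α) → ConnectedComponents α :=
    fun T => ConnectedComponents.mk (T.2.1.nonempty).some
  refine Finite.of_surjective φ ?_
  intro c
  obtain ⟨y, rfl⟩ := ConnectedComponents.surjective_coe c
  refine ⟨⟨irreducibleComponent y, irreducibleComponent_mem_irreducibleComponents y⟩, ?_⟩
  show ConnectedComponents.mk _ = ConnectedComponents.mk y
  rw [ConnectedComponents.coe_eq_coe']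
  have h1 : irreducibleComponent y ⊆ connectedComponent y :=
    isIrreducible_irreducibleComponent.isPreirreducible.isPreconnected.subset_connectedComponent
      mem_irreducibleComponent
  exact h1 (Set.Nonempty.some_mem _)

/-- for finitely many irreducible components, equality of the `Nat.card`s and of the extended
cardinalities are equivalent -/
theorem natCard_eq_iff_encard_eq (hfin : (irreducibleComponents α).Finite) :
    Nat.card ↥(irreducibleComponents α) = Nat.card (ConnectedComponents α) ↔
      (irreducibleComponents α).encard = ENat.card (ConnectedComponents α) := by
  haveI : Finite ↥(irreducibleComponents α) := hfin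
  haveI := finite_connectedComponents_of_finite hfin
  have h1 : (irreducibleComponents α).encard =
      ((Nat.card ↥(irreducibleComponents α) : ℕ) : ℕ∞) := by
    rw [Set.encard, ENat.card_eq_coe_natCard]
  have h2 : ENat.card (ConnectedComponents α) = ((Nat.card (ConnectedComponents α) : ℕ) : ℕ∞) :=
    ENat.card_eq_coe_natCard _
  rw [h1, h2]
  exact_mod_cast Iff.rfl

end Groth.Agent.Lib.Helper22.GPtA
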