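import Mathlib
import Groth.Agent.Lib.Helper22GIntD
import Groth.Agent.Lib.Helper22GPtA

set_option autoImplicit false
set_option linter.style.haveILetI false
set_option linter.unusedSectionVars false
set_option linter.unusedVariables false
universe u
open CategoryTheory CategoryTheory.Limits AlgebraicGeometry

namespace Groth.Agent.Lib.Helper22.GPtB

open Groth.Agent.Lib.Helper22.GPtA

/-- a locally Noetherian scheme all of whose local rings are domains is locally irreducible -/
theorem locIrr_of_isDomain_stalk {W : Scheme.{u}} [IsLocallyNoetherian W]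
    (h : ∀ x : W, IsDomain (W.presheaf.stalk x)) : LocIrr W := fun x =>
  Groth.Agent.Lib.Helper22.GIntD.exists_isOpen_isPreirreducible_of_isDomain_stalk x (h x)

/-- the local rings of a reduced locally irreducible scheme are domains -/
theorem isDomain_stalk_of_locIrr {W : Scheme.{u}} [IsReduced W] (h : LocIrr W) (x : W) :
    IsDomain (W.presheaf.stalk x) := by
  obtain ⟨U, hU, hxU, hirr⟩ := h x
  let U' : W.Opens := ⟨U, hU⟩
  haveI : Nonempty ↥(U' : Scheme.{u}) := ⟨⟨x, hxU⟩⟩
  have hirr' : IrreducibleSpace ↥(U : Set W) :=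
    isIrreducible_iff_irreducibleSpace.mp ⟨⟨x, hxU⟩, hirr⟩
  haveI : IrreducibleSpace ↥(U' : Scheme.{u}) := hirr'
  haveI : IsIntegral (U' : Scheme.{u}) := isIntegral_of_irreducibleSpace_of_isReduced _
  let x' : ↥(U' : Scheme.{u}) := ⟨x, hxU⟩
  haveI : IsDomain ((U' : Scheme.{u}).presheaf.stalk x') := inferInstance
  have e : W.presheaf.stalk (U'.ι.base x') ≅ (U' : Scheme.{u}).presheaf.stalk x' :=
    asIso (U'.ι.stalkMap x')
  exact e.commRingCatIsoToRingEquiv.toMulEquiv.isDomain _

end Groth.Agent.Lib.Helper22.GPtB
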