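import Mathlib
import Groth.Agent.Lib.Helper22GPtB
import Groth.Agent.Lib.Helper6GRProper
import Groth.Agent.S4630
import Groth.Agent.S4631

set_option autoImplicit false
set_option linter.style.haveILetI false
set_option linter.unusedSectionVars false
set_option linter.unusedVariables false
universe u
open CategoryTheory CategoryTheory.Limits AlgebraicGeometry

namespace Groth.Agent.Lib.Helper22.GPtC

open Groth.Agent.Lib.Helper22.GPtA Groth.Agent.Lib.Helper22.GPtB

variable {k : Type u} [Field k] {X : Scheme.{u}} (f : X ⟶ Spec (CommRingCat.of k))

/-- the projection from a base change to an extension field is surjective. -/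
theorem bcπ_surjective (K : Type u) [Field K] [Algebra k K] :
    Function.Surjective (FBase.bcπ f K).base := by
  intro x
  let y : ↥(Spec (CommRingCat.of K)) := (⊥ : PrimeSpectrum K)
  haveI : Subsingleton ↥(Spec (CommRingCat.of k)) :=
    inferInstanceAs (Subsingleton (PrimeSpectrum k))
  obtain ⟨z, hz1, -⟩ := Scheme.Pullback.exists_preimage_pullback (f := f)
    (g := Spec.map (CommRingCat.ofHom (algebraMap k K))) x y (Subsingleton.elim _ _)
  exact ⟨z, hz1⟩

/-- the base change of a scheme locally of finite type over a field is locally Noetherian. -/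
theorem isLocallyNoetherian_bc [LocallyOfFiniteType f] (K : Type u) [Field K] [Algebra k K] :
    IsLocallyNoetherian (FBase.bc f K) := by
  haveI : LocallyOfFiniteType (FBase.bcStr f K) := by
    unfold FBase.bcStr
    exact MorphismProperty.pullback_snd (P := @LocallyOfFiniteType) f _ inferInstance
  exact LocallyOfFiniteType.isLocallyNoetherian (FBase.bcStr f K)

/-- geometrically pointwise integral schemes have locally irreducible base changes. -/
theorem locIrr_bc_of_geomPtIntegral [LocallyOfFiniteType f]
    (h : ∀ x : X, FBase.IsGeomPtIntegralAt f x) (K : Type u) [Field K] [Algebra k K] :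
    LocIrr ↥(FBase.bc f K) := by
  haveI := isLocallyNoetherian_bc f K
  exact locIrr_of_isDomain_stalk fun x' => h ((FBase.bcπ f K).base x') K x' rfl

/-- geometrically pointwise integral schemes are geometrically reduced. -/
theorem geometricallyReduced_of_geomPtIntegral
    (h : ∀ x : X, FBase.IsGeomPtIntegralAt f x) : GeometricallyReduced f := by
  rw [Groth.Agent.Lib.Helper6.GRProper.geometricallyReduced_iff_forall]
  intro z K _ _ x' hx'
  haveI : IsDomain ((FBase.bc f K).presheaf.stalk x') := h z K x' hx'
  infer_instance

/-- **key lemma**: if the base change to an algebraically closed field is reduced and locally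
irreducible, the scheme is geometrically pointwise integral. -/
theorem geomPtIntegral_of_locIrr (Ω : Type u) [Field Ω] [Algebra k Ω] [IsAlgClosed Ω]
    (hred : IsReduced (FBase.bc f Ω)) (h : LocIrr ↥(FBase.bc f Ω)) (x : X) :
    FBase.IsGeomPtIntegralAt f x := by
  obtain ⟨x', rfl⟩ := bcπ_surjective f Ω x
  rw [Groth.Agent.S4630.result f x', Groth.Agent.S4631.result (FBase.bcStr f Ω) x']
  exact isDomain_stalk_of_locIrr h x'

/-- the base change of a quasi-compact scheme locally of finite type over a field has finitely many
irreducible components. -/
theorem finite_irreducibleComponents_bc [LocallyOfFiniteType f] [QuasiCompact f]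
    (K : Type u) [Field K] [Algebra k K] :
    (irreducibleComponents ↥(FBase.bc f K)).Finite := by
  haveI := isLocallyNoetherian_bc f K
  haveI : QuasiCompact (FBase.bcStr f K) := by
    unfold FBase.bcStr
    exact MorphismProperty.pullback_snd (P := @QuasiCompact) f _ inferInstance
  haveI : CompactSpace ↥(FBase.bc f K) := by
    have := QuasiCompact.compactSpace_of_compactSpace (FBase.bcStr f K)
    exact this
  haveI : IsNoetherian (FBase.bc f K) := { }
  exact TopologicalSpace.NoetherianSpace.finite_irreducibleComponents

/-- **EGA IV 4.6.?** (statement S4649, for any algebraically closed extension). -/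
theorem geomPtIntegral_iff (Ω : Type u) [Field Ω] [Algebra k Ω] [IsAlgClosed Ω]
    [LocallyOfFiniteType f] [QuasiCompact f] :
    (∀ x : X, FBase.IsGeomPtIntegralAt f x) ↔
      (GeometricallyReduced f ∧
        (irreducibleComponents ↥(FBase.bc f Ω)).encard =
          ENat.card (_root_.ConnectedComponents ↥(FBase.bc f Ω))) := by
  constructor
  · intro h
    exact ⟨geometricallyReduced_of_geomPtIntegral f h,
      (locIrr_bc_of_geomPtIntegral f h Ω).encard_irreducibleComponents⟩
  · rintro ⟨hGR, hcard⟩
    have hred : IsReduced (FBase.bc f Ω) :=
      hGR.geometrically_isReduced (Spec.map (CommRingCat.ofHom (algebraMap k Ω)))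
        (FBase.bcπ f Ω) (FBase.bcStr f Ω) (IsPullback.of_hasPullback _ _)
    exact geomPtIntegral_of_locIrr f Ω hred
      (LocIrr.of_encard_eq (finite_irreducibleComponents_bc f Ω) hcard)

end Groth.Agent.Lib.Helper22.GPtC
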