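import Mathlib
import Groth.Agent.Lib.Helper2GenFree2

set_option autoImplicit false
universe u v w

namespace Groth.Agent.Lib.Helper6.GenNonRed

open TensorProduct Groth.Agent.Lib.Helper2.GenFree

section core

variable {A : Type u} [CommRing A] [IsDomain A] {B : Type v} [CommRing B] [Algebra A B]
  [Algebra.FiniteType A B]

/-- If `b ∈ B` is not `A`-torsion (`B` a finite type algebra over the domain `A`), then there is a
nonzero `a ∈ A` such that `1 ⊗ b ≠ 0` in `κ ⊗[A] B` for every field `κ` over `A` in which `a` is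
invertible. -/
theorem exists_ne_zero_forall_one_tmul_ne_zero (b : B) (hb : ∀ s : A, s ≠ 0 → s • b ≠ 0) :
    ∃ a : A, a ≠ 0 ∧ ∀ (κ : Type w) [Field κ] [Algebra A κ], IsUnit (algebraMap A κ a) →
      (1 : κ) ⊗ₜ[A] b ≠ 0 := by
  classical
  set N : Ideal B := Ideal.span {b} with hN
  obtain ⟨f₁, hf₁, -, hM₁, -, -⟩ := exists_freeAway A B (B ⧸ N)
  obtain ⟨f₂, hf₂, -, hN₂, -, -⟩ := exists_freeAway A B N
  refine ⟨f₁ * f₂, mul_ne_zero hf₁ hf₂, ?_⟩
  intro κ _ _ hκ
  rw [map_mul, IsUnit.mul_iff] at hκ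
  obtain ⟨hκ₁, hκ₂⟩ := hκ
  -- the inclusion
  set v : N →ₗ[A] B := N.subtype.restrictScalars A with hv
  have hrange : LinearMap.range v = N.restrictScalars A := by
    ext x
    simp [hv]
  -- flatness of the cokernel
  have hfree : FreeAway A f₁ (B ⧸ LinearMap.range v) := by
    rw [hrange]
    exact hM₁.of_linearEquiv (Submodule.Quotient.restrictScalarsEquiv A N).symm
  haveI : Module.Free (Localization.Away f₁) (Localization.Away f₁ ⊗[A] (B ⧸ LinearMap.range v)) :=
    hfree.free (Localization.Away f₁) (TensorProduct.mk A (Localization.Away f₁) _ 1)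
  have hex := exact_baseChange_of_flat_coker_away f₁ (0 : N →ₗ[A] N) v
    (fun x => ⟨0, by simp⟩)
    (fun y hy => ⟨0, by
      have : y = 0 := Subtype.ext (by simpa [hv] using hy)
      simp [this]⟩) inferInstance κ hκ₁
  have hinj : Function.Injective (v.baseChange κ) := by
    rw [injective_iff_map_eq_zero]
    intro z hz
    obtain ⟨w, hw⟩ := (hex z).mp hz
    rw [← hw]
    simp
  -- nontriviality of `κ ⊗ N`
  set b₀ : N := ⟨b, Ideal.subset_span rfl⟩ with hb₀
  haveI : Module.Free (Localization.Away f₂) (Localization.Away f₂ ⊗[A] N) :=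
    hN₂.free (Localization.Away f₂) (TensorProduct.mk A (Localization.Away f₂) _ 1)
  haveI : Nontrivial (Localization.Away f₂ ⊗[A] N) := by
    refine ⟨⟨(1 : Localization.Away f₂) ⊗ₜ[A] b₀, 0, fun h0 => ?_⟩⟩
    obtain ⟨n, hn⟩ := exists_pow_smul_eq_zero_of_one_tmul f₂ h0
    have : f₂ ^ n • b = 0 := congrArg Subtype.val hn
    exact hb _ (pow_ne_zero n hf₂) this
  letI : Algebra (Localization.Away f₂) κ := (IsLocalization.Away.lift f₂ hκ₂).toAlgebra
  haveI : IsScalarTower A (Localization.Away f₂) κ := IsScalarTower.of_algebraMap_eq' (by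
    ext r
    rw [RingHom.algebraMap_toAlgebra, RingHom.comp_apply, IsLocalization.Away.lift_eq])
  haveI : Nontrivial (κ ⊗[Localization.Away f₂] (Localization.Away f₂ ⊗[A] N)) := inferInstance
  haveI : Nontrivial (κ ⊗[A] N) :=
    (AlgebraTensorModule.cancelBaseChange A (Localization.Away f₂) κ κ N).symm.toEquiv.nontrivial
  -- `κ ⊗ N` is generated by `1 ⊗ b₀`
  intro h0
  have h1 : (1 : κ) ⊗ₜ[A] b₀ = 0 := by
    apply hinj
    rw [map_zero, LinearMap.baseChange_tmul]
    exact h0
  have hall : ∀ z : κ ⊗[A] N, z = 0 := by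
    intro z
    induction z using TensorProduct.induction_on with
    | zero => rfl
    | tmul k x =>
      obtain ⟨c, hc⟩ := Ideal.mem_span_singleton'.mp x.2
      let mc : N →ₗ[A] N := (LinearMap.lsmul B N c).restrictScalars A
      have : k ⊗ₜ[A] x = k • (mc.baseChange κ ((1 : κ) ⊗ₜ[A] b₀)) := by
        rw [LinearMap.baseChange_tmul, TensorProduct.smul_tmul', smul_eq_mul, mul_one]
        congr 1
        apply Subtype.ext
        simp [mc, hb₀, hc]
      rw [this, h1, map_zero, smul_zero]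
    | add x y hx hy => rw [hx, hy, add_zero]
  obtain ⟨x, y, hxy⟩ := exists_pair_ne (κ ⊗[A] N)
  exact hxy ((hall x).trans (hall y).symm)

end core

section general

variable {A : Type u} [CommRing A]

/-- Ring-theoretic core of "generic fibre non-reduced ⇒ nearby fibres non-reduced": `η` is a prime
contained in all primes of `A`, `B` is a finite type `A`-algebra with non-reduced fibre over `η`. Then
all the fibres of `B` over a principal open neighbourhood of `η` are non-reduced. -/
theorem exists_notMem_forall_not_isReduced_fiber (η : Ideal A) [η.IsPrime]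
    (hη : ∀ q : Ideal A, q.IsPrime → η ≤ q) (B : Type v) [CommRing B] [Algebra A B]
    [Algebra.FiniteType A B] (h : ¬ IsReduced (η.Fiber B)) :
    ∃ a ∉ η, ∀ (q : Ideal A) [q.IsPrime], a ∉ q → ¬ IsReduced (q.Fiber B) := by
  classical
  -- notation
  let A' := A ⧸ η
  let B' := A' ⊗[A] B
  let K := η.ResidueField
  let e : K ⊗[A'] B' ≃ₐ[K] K ⊗[A] B := Algebra.TensorProduct.cancelBaseChange A A' K K B
  have h' : ¬ IsReduced (K ⊗[A'] B') := fun hred =>
    h (isReduced_of_injective e.symm.toRingHom e.symm.injective)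
  rw [isReduced_iff] at h'
  push Not at h'
  obtain ⟨z, hznil, hz0⟩ := h'
  obtain ⟨⟨b', s⟩, hs⟩ := IsLocalizedModule.surj (nonZeroDivisors A')
    (TensorProduct.mk A' K B' 1) z
  replace hs : s • z = (1 : K) ⊗ₜ[A'] b' := hs
  have hunit : ∀ t : A', t ≠ 0 → IsUnit (algebraMap A' K t) := fun t ht =>
    IsLocalization.map_units K (⟨t, mem_nonZeroDivisors_of_ne_zero ht⟩ : nonZeroDivisors A')
  have hs0 : (s : A') ≠ 0 := nonZeroDivisors.ne_zero s.2
  have hb' : ∀ t : A', t ≠ 0 → t • b' ≠ 0 := by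
    intro t ht h0
    have h1 : t • ((1 : K) ⊗ₜ[A'] b') = 0 := by
      rw [← TensorProduct.tmul_smul, h0, TensorProduct.tmul_zero]
    rw [← hs, Submonoid.smul_def, smul_smul, ← algebraMap_smul K] at h1
    have h2 := (hunit _ (mul_ne_zero ht hs0)).smul_eq_zero.mp h1
    exact hz0 h2
  obtain ⟨n, hn⟩ := hznil
  have hpow : (1 : K) ⊗ₜ[A'] (b' ^ n) = 0 := by
    have : ((1 : K) ⊗ₜ[A'] b') ^ n = 0 := by
      rw [← hs, Submonoid.smul_def, smul_pow, hn, smul_zero]
    rwa [Algebra.TensorProduct.tmul_pow, one_pow] at this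
  obtain ⟨t, ht⟩ := (IsLocalizedModule.eq_zero_iff (nonZeroDivisors A')
    (TensorProduct.mk A' K B' 1) (m := b' ^ n)).mp hpow
  have ht0 : (t : A') ≠ 0 := nonZeroDivisors.ne_zero t.2
  obtain ⟨a', ha', hcore⟩ := exists_ne_zero_forall_one_tmul_ne_zero.{u, max u v, u} (A := A') b' hb'
  obtain ⟨a, ha⟩ := Ideal.Quotient.mk_surjective (a' * (t : A'))
  refine ⟨a, fun hmem => ?_, ?_⟩
  · have : (Ideal.Quotient.mk η) a = 0 := Ideal.Quotient.eq_zero_iff_mem.mpr hmem
    rw [ha] at this
    exact mul_ne_zero ha' ht0 this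
  · intro q _ haq
    let κ := q.ResidueField
    have hker : ∀ x ∈ η, algebraMap A κ x = 0 := fun x hx =>
      Ideal.algebraMap_residueField_eq_zero.mpr (hη q inferInstance hx)
    letI : Algebra A' κ := (Ideal.Quotient.lift η (algebraMap A κ) hker).toAlgebra
    haveI : IsScalarTower A A' κ := IsScalarTower.of_algebraMap_eq' (by
      ext r
      rw [RingHom.algebraMap_toAlgebra, RingHom.comp_apply]
      exact (Ideal.Quotient.lift_mk η (algebraMap A κ) hker).symm)
    have hmap : algebraMap A' κ (a' * (t : A')) ≠ 0 := by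
      rw [← ha, RingHom.algebraMap_toAlgebra, Ideal.Quotient.lift_mk]
      exact fun h0 => haq (Ideal.algebraMap_residueField_eq_zero.mp h0)
    rw [map_mul] at hmap
    have hua : IsUnit (algebraMap A' κ a') := (left_ne_zero_of_mul hmap).isUnit
    have hut : IsUnit (algebraMap A' κ (t : A')) := (right_ne_zero_of_mul hmap).isUnit
    have hne := hcore κ hua
    let eq : κ ⊗[A'] B' ≃ₐ[κ] κ ⊗[A] B := Algebra.TensorProduct.cancelBaseChange A A' κ κ B
    intro hred
    haveI : IsReduced (κ ⊗[A'] B') := isReduced_of_injective eq.toRingHom eq.injective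
    apply hne
    apply IsNilpotent.eq_zero
    refine ⟨n, ?_⟩
    rw [Algebra.TensorProduct.tmul_pow, one_pow]
    have h1 : (t : A') • ((1 : κ) ⊗ₜ[A'] (b' ^ n)) = 0 := by
      rw [← TensorProduct.tmul_smul]
      have : (t : A') • b' ^ n = 0 := ht
      rw [this, TensorProduct.tmul_zero]
    rw [← algebraMap_smul κ] at h1
    exact hut.smul_eq_zero.mp h1

end general

end Groth.Agent.Lib.Helper6.GenNonRed
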