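import Mathlib
import Groth.Agent.Lib.Helper6GenNonRed

set_option autoImplicit false
universe u v w w'

namespace Groth.Agent.Lib.Helper6.GenNonRed

open TensorProduct Groth.Agent.Lib.Helper2.GenFree

section lemmaE

variable {R : Type u} [CommRing R] [IsDomain R] {S : Type v} [CommRing S] [Algebra R S]
  [Algebra.FiniteType R S]

/-- Generic surjectivity: a finite type injective algebra over a domain hits all primes of a
nonempty principal open. -/
theorem exists_ne_zero_forall_exists_comap_eq (hinj : Function.Injective (algebraMap R S)) :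
    ∃ f : R, f ≠ 0 ∧ ∀ (q : Ideal R) [q.IsPrime], f ∉ q →
      ∃ Q : Ideal S, Q.IsPrime ∧ Q.comap (algebraMap R S) = q := by
  obtain ⟨f, hf, hS, -, -, -⟩ := exists_freeAway R S S
  refine ⟨f, hf, ?_⟩
  intro q _ hfq
  haveI : Module.Free (Localization.Away f) (Localization.Away f ⊗[R] S) :=
    hS.free (Localization.Away f) (TensorProduct.mk R (Localization.Away f) _ 1)
  haveI : Nontrivial (Localization.Away f ⊗[R] S) := by
    refine ⟨⟨(1 : Localization.Away f) ⊗ₜ[R] (1 : S), 0, fun h0 => ?_⟩⟩
    obtain ⟨n, hn⟩ := exists_pow_smul_eq_zero_of_one_tmul f h0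
    rw [Algebra.smul_def, mul_one] at hn
    exact pow_ne_zero n hf (hinj (by rw [hn, map_zero]))
  have hκ : IsUnit (algebraMap R q.ResidueField f) := by
    have hne : algebraMap R q.ResidueField f ≠ 0 := fun h0 =>
      hfq (Ideal.algebraMap_residueField_eq_zero.mp h0)
    exact hne.isUnit
  letI : Algebra (Localization.Away f) q.ResidueField := (IsLocalization.Away.lift f hκ).toAlgebra
  haveI : IsScalarTower R (Localization.Away f) q.ResidueField := IsScalarTower.of_algebraMap_eq' (by
    ext r
    rw [RingHom.algebraMap_toAlgebra, RingHom.comp_apply, IsLocalization.Away.lift_eq])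
  haveI : Nontrivial (q.ResidueField ⊗[Localization.Away f] (Localization.Away f ⊗[R] S)) :=
    inferInstance
  haveI : Nontrivial (q.ResidueField ⊗[R] S) :=
    (AlgebraTensorModule.cancelBaseChange R (Localization.Away f) q.ResidueField q.ResidueField
      S).symm.toEquiv.nontrivial
  obtain ⟨Q, hQ⟩ := (PrimeSpectrum.nontrivial_iff_mem_rangeComap (S := S) ⟨q, inferInstance⟩).mp
    inferInstance
  exact ⟨Q.asIdeal, Q.2, congrArg PrimeSpectrum.asIdeal hQ⟩

end lemmaE

section lemmaD

variable {A : Type u} [CommRing A] [IsDomain A] {B : Type v} [CommRing B] [Algebra A B]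
  [Algebra.FiniteType A B]

/-- If `1 ⊗ b` is a nonzero nilpotent of `K ⊗[A] B` (`K` a field containing the domain `A`, `B` of
finite type), then `κ ⊗[A] B` is non-reduced for all fields `κ` over `A` away from some nonzero
`a ∈ A`. -/
theorem exists_ne_zero_forall_not_isReduced_of_tmul (K : Type w) [Field K] [Algebra A K]
    (hinj : Function.Injective (algebraMap A K)) (b : B)
    (hnil : IsNilpotent ((1 : K) ⊗ₜ[A] b)) (hne : (1 : K) ⊗ₜ[A] b ≠ 0) :
    ∃ a : A, a ≠ 0 ∧ ∀ (κ : Type w') [Field κ] [Algebra A κ], IsUnit (algebraMap A κ a) →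
      ¬ IsReduced (κ ⊗[A] B) := by
  classical
  have hunit : ∀ t : A, t ≠ 0 → IsUnit (algebraMap A K t) := by
    intro t ht
    have hne : algebraMap A K t ≠ 0 := fun h0 => ht (hinj (by rw [h0, map_zero]))
    exact hne.isUnit
  have hb : ∀ s : A, s ≠ 0 → s • b ≠ 0 := by
    intro s hs h0
    have h1 : s • ((1 : K) ⊗ₜ[A] b) = 0 := by
      rw [← TensorProduct.tmul_smul, h0, TensorProduct.tmul_zero]
    rw [← algebraMap_smul K] at h1
    exact hne ((hunit s hs).smul_eq_zero.mp h1)
  obtain ⟨n, hn⟩ := hnil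
  rw [Algebra.TensorProduct.tmul_pow, one_pow] at hn
  -- descend to the fraction field
  let K₀ := FractionRing A
  letI : Algebra K₀ K := (IsFractionRing.lift (K := K₀) hinj).toAlgebra
  haveI : IsScalarTower A K₀ K := IsScalarTower.of_algebraMap_eq' (by
    ext r
    rw [RingHom.algebraMap_toAlgebra, RingHom.comp_apply, IsFractionRing.lift_algebraMap])
  obtain ⟨r, hr⟩ := LinearMap.exists_leftInverse_of_injective (Algebra.linearMap K₀ K)
    (LinearMap.ker_eq_bot.mpr (algebraMap K₀ K).injective)
  have hr1 : r 1 = 1 := by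
    have := LinearMap.congr_fun hr 1
    simpa using this
  have h0 : (1 : K₀) ⊗ₜ[A] (b ^ n) = 0 := by
    have := congrArg ((r.restrictScalars A).rTensor B) hn
    rw [LinearMap.rTensor_tmul, map_zero] at this
    rw [← this]
    congr 1
    exact hr1.symm
  obtain ⟨t, ht⟩ := (IsLocalizedModule.eq_zero_iff (nonZeroDivisors A)
    (TensorProduct.mk A K₀ B 1) (m := b ^ n)).mp h0
  have ht0 : (t : A) ≠ 0 := nonZeroDivisors.ne_zero t.2
  obtain ⟨a₁, ha₁, hcore⟩ := exists_ne_zero_forall_one_tmul_ne_zero.{u, v, w'} b hb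
  refine ⟨a₁ * t, mul_ne_zero ha₁ ht0, ?_⟩
  intro κ _ _ hκ
  rw [map_mul, IsUnit.mul_iff] at hκ
  intro hred
  apply hcore κ hκ.1
  apply IsNilpotent.eq_zero
  refine ⟨n, ?_⟩
  rw [Algebra.TensorProduct.tmul_pow, one_pow]
  have h1 : (t : A) • ((1 : κ) ⊗ₜ[A] (b ^ n)) = 0 := by
    rw [← TensorProduct.tmul_smul]
    have : (t : A) • b ^ n = 0 := ht
    rw [this, TensorProduct.tmul_zero]
  rw [← algebraMap_smul κ] at h1
  exact hκ.2.smul_eq_zero.mp h1

end lemmaD

section piece3

variable {A : Type u} [CommRing A] [IsDomain A] (B : Type v) [CommRing B] [Algebra A B]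
  [Algebra.FiniteType A B]

/-- Domain case: if `K ⊗[A] B` is non-reduced for a field `K ⊇ A`, then over every point `q` of a
nonempty principal open of `Spec A` there is a field `L` with `L ⊗[A] B` non-reduced. -/
theorem exists_ne_zero_forall_exists_field_of_isDomain (K : Type w) [Field K] [Algebra A K]
    (hinj : Function.Injective (algebraMap A K)) (h : ¬ IsReduced (K ⊗[A] B)) :
    ∃ a : A, a ≠ 0 ∧ ∀ (q : Ideal A) [q.IsPrime], a ∉ q →
      ∃ (L : Type w) (_ : Field L) (_ : Algebra A L),
        RingHom.ker (algebraMap A L) = q ∧ ¬ IsReduced (L ⊗[A] B) := by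
  classical
  rw [isReduced_iff] at h
  push Not at h
  obtain ⟨z, hznil, hz0⟩ := h
  obtain ⟨T, hT⟩ := TensorProduct.exists_finset z
  let A' : Subalgebra A K := Algebra.adjoin A ((T.image Prod.fst : Finset K) : Set K)
  haveI : Algebra.FiniteType A A' := (Subalgebra.fg_iff_finiteType A').mp
    (Subalgebra.fg_adjoin_finset _)
  have hmem : ∀ i ∈ T, i.1 ∈ A' := fun i hi =>
    Algebra.subset_adjoin (Finset.mem_coe.mpr (Finset.mem_image_of_mem _ hi))
  let B' := A' ⊗[A] B
  let b' : B' := ∑ i ∈ T.attach, (⟨i.1.1, hmem i.1 i.2⟩ : A') ⊗ₜ[A] i.1.2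
  let e : K ⊗[A'] B' ≃ₐ[K] K ⊗[A] B := Algebra.TensorProduct.cancelBaseChange A A' K K B
  have he : e ((1 : K) ⊗ₜ[A'] b') = z := by
    have hsum : ∑ i ∈ T, i.1 ⊗ₜ[A] i.2 = ∑ i ∈ T.attach, (i.1.1 ⊗ₜ[A] i.1.2 : K ⊗[A] B) :=
      (Finset.sum_attach T (fun i => (i.1 ⊗ₜ[A] i.2 : K ⊗[A] B))).symm
    rw [hT, hsum, TensorProduct.tmul_sum, map_sum]
    refine Finset.sum_congr rfl fun i _ => ?_
    rw [Algebra.TensorProduct.cancelBaseChange_tmul, Subalgebra.smul_def, smul_eq_mul, mul_one]
  have hnil' : IsNilpotent ((1 : K) ⊗ₜ[A'] b') := by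
    obtain ⟨n, hn⟩ := hznil
    refine ⟨n, e.injective ?_⟩
    rw [map_pow, he, hn, map_zero]
  have hne' : (1 : K) ⊗ₜ[A'] b' ≠ 0 := by
    intro h0
    rw [h0, map_zero] at he
    exact hz0 he.symm
  have hinj' : Function.Injective (algebraMap A' K) := Subtype.val_injective
  obtain ⟨a', ha', hD⟩ := exists_ne_zero_forall_not_isReduced_of_tmul.{w, max w v, w, w}
    (A := A') (B := B') K hinj' b' hnil' hne'
  -- generic surjectivity of `Spec A'[1/a'] → Spec A`
  let S := Localization.Away a'
  haveI : Algebra.FiniteType A' S := IsLocalization.finiteType_of_monoid_fg (Submonoid.powers a') S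
  haveI : Algebra.FiniteType A S := Algebra.FiniteType.trans (R := A) (S := A') (A := S) inferInstance inferInstance
  have hinjA' : Function.Injective (algebraMap A A') := by
    intro x y hxy
    apply hinj
    have := congrArg (algebraMap A' K) hxy
    rwa [← IsScalarTower.algebraMap_apply, ← IsScalarTower.algebraMap_apply] at this
  have hinjS : Function.Injective (algebraMap A S) := by
    rw [IsScalarTower.algebraMap_eq A A' S]
    exact (IsLocalization.injective S
      (powers_le_nonZeroDivisors_of_noZeroDivisors ha')).comp hinjA'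
  obtain ⟨f, hf, hE⟩ := exists_ne_zero_forall_exists_comap_eq (R := A) (S := S) hinjS
  refine ⟨f, hf, ?_⟩
  intro q _ hfq
  obtain ⟨Q, hQ, hQq⟩ := hE q hfq
  let q' : Ideal A' := Q.comap (algebraMap A' S)
  haveI : q'.IsPrime := Ideal.comap_isPrime _ _
  have ha'q' : a' ∉ q' := by
    intro hmem
    have h1 : algebraMap A' S a' ∈ Q := hmem
    exact hQ.ne_top (Ideal.eq_top_of_isUnit_mem _ h1 (IsLocalization.Away.algebraMap_isUnit a'))
  refine ⟨q'.ResidueField, inferInstance, inferInstance, ?_, ?_⟩
  · rw [IsScalarTower.algebraMap_eq A A' q'.ResidueField, ← RingHom.comap_ker,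
      Ideal.ker_algebraMap_residueField, ← hQq, IsScalarTower.algebraMap_eq A A' S,
      ← Ideal.comap_comap]
  · have hu : IsUnit (algebraMap A' q'.ResidueField a') := by
      have hne : algebraMap A' q'.ResidueField a' ≠ 0 := fun h0 =>
        ha'q' (Ideal.algebraMap_residueField_eq_zero.mp h0)
      exact hne.isUnit
    have hnr := hD q'.ResidueField hu
    let eL : q'.ResidueField ⊗[A'] B' ≃ₐ[q'.ResidueField] q'.ResidueField ⊗[A] B :=
      Algebra.TensorProduct.cancelBaseChange A A' q'.ResidueField q'.ResidueField B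
    intro hred
    exact hnr (isReduced_of_injective eL.toRingHom eL.injective)

end piece3

section piece4

variable {A : Type u} [CommRing A]

/-- General case: `η` a prime contained in all primes of `A`, `K` a field over `A` with kernel `η`
such that `K ⊗[A] B` is non-reduced (`B` of finite type). Then over every point `q` of a principal
open neighbourhood of `η` there is a field `L` with `L ⊗[A] B` non-reduced. -/
theorem exists_notMem_forall_exists_field (η : Ideal A) [η.IsPrime]
    (hη : ∀ q : Ideal A, q.IsPrime → η ≤ q) (B : Type v) [CommRing B] [Algebra A B]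
    [Algebra.FiniteType A B] (K : Type w) [Field K] [Algebra A K]
    (hK : RingHom.ker (algebraMap A K) = η) (h : ¬ IsReduced (K ⊗[A] B)) :
    ∃ a ∉ η, ∀ (q : Ideal A) [q.IsPrime], a ∉ q →
      ∃ (L : Type w) (_ : Field L) (_ : Algebra A L),
        RingHom.ker (algebraMap A L) = q ∧ ¬ IsReduced (L ⊗[A] B) := by
  classical
  let A' := A ⧸ η
  have hker : ∀ x ∈ η, algebraMap A K x = 0 := fun x hx => by
    rw [← hK] at hx; exact hx
  letI : Algebra A' K := (Ideal.Quotient.lift η (algebraMap A K) hker).toAlgebra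
  haveI : IsScalarTower A A' K := IsScalarTower.of_algebraMap_eq' (by
    ext r
    rw [RingHom.algebraMap_toAlgebra, RingHom.comp_apply]
    exact (Ideal.Quotient.lift_mk η (algebraMap A K) hker).symm)
  have hinj : Function.Injective (algebraMap A' K) := by
    rw [RingHom.algebraMap_toAlgebra]
    exact RingHom.lift_injective_of_ker_le_ideal η hker hK.le
  let B' := A' ⊗[A] B
  let e : K ⊗[A'] B' ≃ₐ[K] K ⊗[A] B := Algebra.TensorProduct.cancelBaseChange A A' K K B
  have h' : ¬ IsReduced (K ⊗[A'] B') := fun hred =>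
    h (isReduced_of_injective e.symm.toRingHom e.symm.injective)
  obtain ⟨a', ha', h3⟩ := exists_ne_zero_forall_exists_field_of_isDomain.{u, max u v, w}
    (A := A') B' K hinj h'
  obtain ⟨a, ha⟩ := Ideal.Quotient.mk_surjective a'
  refine ⟨a, fun hmem => ?_, ?_⟩
  · have : (Ideal.Quotient.mk η) a = 0 := Ideal.Quotient.eq_zero_iff_mem.mpr hmem
    rw [ha] at this
    exact ha' this
  · intro q _ haq
    have hηq : η ≤ q := hη q inferInstance
    let q' : Ideal A' := q.map (Ideal.Quotient.mk η)
    have hcomap : q'.comap (Ideal.Quotient.mk η) = q := by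
      rw [Ideal.comap_map_of_surjective _ Ideal.Quotient.mk_surjective, ← RingHom.ker_eq_comap_bot,
        Ideal.mk_ker, sup_eq_left]
      exact hηq
    haveI : q'.IsPrime := Ideal.map_isPrime_of_surjective Ideal.Quotient.mk_surjective
      (by rw [Ideal.mk_ker]; exact hηq)
    have ha'q' : a' ∉ q' := by
      intro hmem
      apply haq
      rw [← hcomap, Ideal.mem_comap, ha]
      exact hmem
    obtain ⟨L, instF, instA, hkerL, hnr⟩ := h3 q' ha'q'
    letI : Algebra A L := ((algebraMap A' L).comp (Ideal.Quotient.mk η)).toAlgebra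
    haveI : IsScalarTower A A' L := IsScalarTower.of_algebraMap_eq' rfl
    refine ⟨L, instF, inferInstance, ?_, ?_⟩
    · rw [RingHom.algebraMap_toAlgebra, ← RingHom.comap_ker, hkerL, hcomap]
    · let eL : L ⊗[A'] B' ≃ₐ[L] L ⊗[A] B := Algebra.TensorProduct.cancelBaseChange A A' L L B
      intro hred
      exact hnr (isReduced_of_injective eL.toRingHom eL.injective)

end piece4

end Groth.Agent.Lib.Helper6.GenNonRed
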