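import Mathlib
import Groth.Agent.Lib.Helper6GenNonRed
import Groth.Agent.Lib.Helper10DVRFibre7

set_option autoImplicit false
universe u

namespace Groth.Agent.Lib.Helper6.GenNonRedSch

open AlgebraicGeometry CategoryTheory CategoryTheory.Limits TopologicalSpace
open Groth.Agent.Lib.Helper10.DVRFibre

/-- Fibres are insensitive to base change along an open immersion. -/
theorem isReduced_fiber_iff_of_isPullback {P X Y Z : Scheme.{u}} {fst : P ⟶ X} {snd : P ⟶ Y}
    {f : X ⟶ Z} {g : Y ⟶ Z} [IsOpenImmersion g] (h : IsPullback fst snd f g) (y : Y) :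
    IsReduced (snd.fiber y) ↔ IsReduced (f.fiber (g y)) := by
  have h' := isPullback_fiberToSpecResidueField_of_isPullback h y
  obtain ⟨m, hm⟩ : ∃ m : snd.fiber y ⟶ f.fiber (g y), IsIso m :=
    ⟨_, h'.isIso_fst_of_isIso⟩
  exact ⟨fun _ => isReduced_of_isOpenImmersion (inv m), fun _ => isReduced_of_isOpenImmersion m⟩

/-- `phi f U` is of finite type for `f` locally of finite type and `U` affine. -/
theorem phi_finiteType {A : Type u} [CommRing A] {X : Scheme.{u}}
    (f : X ⟶ Spec (CommRingCat.of A)) [LocallyOfFiniteType f] {W : X.Opens} (hW : IsAffineOpen W) :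
    (phi f W).FiniteType := by
  have h1 : (f.appLE ⊤ W le_top).hom.FiniteType :=
    HasRingHomProperty.appLE (P := @LocallyOfFiniteType) f inferInstance
      ⟨⊤, isAffineOpen_top _⟩ ⟨W, hW⟩ le_top
  have h2 : (Scheme.ΓSpecIso (CommRingCat.of A)).inv.hom.FiniteType :=
    RingHom.FiniteType.of_surjective _
      (ConcreteCategory.bijective_of_isIso (Scheme.ΓSpecIso (CommRingCat.of A)).inv).2
  exact RingHom.FiniteType.comp h1 h2

/-- The affine-base case. -/
theorem exists_notMem_forall_not_isReduced_fiber_Spec {A : Type u} [CommRing A] {X : Scheme.{u}}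
    (f : X ⟶ Spec (CommRingCat.of A)) [LocallyOfFiniteType f] (η : PrimeSpectrum A)
    (hη : ∀ q : PrimeSpectrum A, η ⤳ q) (h : ¬ IsReduced (f.fiber η)) :
    ∃ a ∉ η.asIdeal, ∀ q : PrimeSpectrum A, a ∉ q.asIdeal → ¬ IsReduced (f.fiber q) := by
  obtain ⟨x, hx⟩ : ∃ x : X, ∀ U : X.Opens, IsAffineOpen U → x ∈ U →
      ¬ (letI : Algebra A Γ(X, U) := (phi f U).toAlgebra
        _root_.IsReduced (η.asIdeal.Fiber Γ(X, U))) := by
    by_contra hcon
    refine h (isReduced_fiber_of_forall_exists_affine f η fun x => ?_)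
    by_contra hx
    exact hcon ⟨x, fun U hU hxU hred => hx ⟨U, hU, hxU, hred⟩⟩
  obtain ⟨U, hU, hxU⟩ := exists_affineOpen_mem x
  have hnr := hx U hU hxU
  letI : Algebra A Γ(X, U) := (phi f U).toAlgebra
  haveI : Algebra.FiniteType A Γ(X, U) := phi_finiteType f hU
  obtain ⟨a, ha, hall⟩ := GenNonRed.exists_notMem_forall_not_isReduced_fiber η.asIdeal
    (fun q hq => (PrimeSpectrum.le_iff_specializes η ⟨q, hq⟩).mpr (hη ⟨q, hq⟩)) Γ(X, U) hnr
  refine ⟨a, ha, fun q haq hred => ?_⟩
  haveI := hred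
  have h1 : IsReduced ((hU.fromSpec ≫ f).fiber q) := isReduced_fiber_fromSpec f hU q
  rw [fromSpec_comp] at h1
  haveI := h1
  exact hall q.asIdeal haq (isReduced_fiber_ring Γ(X, U) q)

/-- If the generic fibre of a morphism locally of finite type to an irreducible scheme is not
reduced, then no fibre over some nonempty open is reduced. -/
theorem not_isReduced_fibre_near_generic_point {X Y : Scheme.{u}} (f : X ⟶ Y) [IrreducibleSpace ↑Y]
    [LocallyOfFiniteType f] (h : ¬ IsReduced (f.fiber (genericPoint ↑Y))) :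
    ∃ V : Y.Opens, (V : Set ↑Y).Nonempty ∧ ∀ y ∈ V, ¬ IsReduced (f.fiber y) := by
  obtain ⟨V₀, hV₀, hηV₀⟩ := exists_affineOpen_mem (genericPoint Y)
  let g : Spec (CommRingCat.of Γ(Y, V₀)) ⟶ Y := hV₀.fromSpec
  let f' : pullback f g ⟶ Spec (CommRingCat.of Γ(Y, V₀)) := pullback.snd f g
  have hpb : IsPullback (pullback.fst f g) f' f g := IsPullback.of_hasPullback f g
  obtain ⟨η', hη'⟩ : ∃ η' : Spec (CommRingCat.of Γ(Y, V₀)), g η' = genericPoint Y := by
    have : genericPoint Y ∈ Set.range g := by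
      rw [hV₀.range_fromSpec]; exact hηV₀
    exact this
  have h1 : ¬ IsReduced (f'.fiber η') := by
    rw [isReduced_fiber_iff_of_isPullback hpb η', hη']; exact h
  have hgen : ∀ q : PrimeSpectrum Γ(Y, V₀), η' ⤳ q := by
    intro q
    have : g η' ⤳ g q := by
      rw [hη']; exact genericPoint_specializes _
    exact (g.isOpenEmbedding.isInducing.specializes_iff).mp this
  obtain ⟨a, ha, hall⟩ := exists_notMem_forall_not_isReduced_fiber_Spec f' η' hgen h1
  refine ⟨g ''ᵁ (PrimeSpectrum.basicOpen a), ⟨g η', η', ha, rfl⟩, ?_⟩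
  rintro _ ⟨q, hq, rfl⟩
  intro hred
  exact hall q hq ((isReduced_fiber_iff_of_isPullback hpb q).mpr hred)

end Groth.Agent.Lib.Helper6.GenNonRedSch
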