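import Mathlib
import Groth.Agent.Lib.Helper6GenNonRed2
import Groth.Agent.Lib.Helper6GenNonRedSch

set_option autoImplicit false
universe u

namespace Groth.Agent.Lib.Helper6.GenNonRedSch

open AlgebraicGeometry CategoryTheory CategoryTheory.Limits TopologicalSpace
open scoped TensorProduct

variable {X Y : Scheme.{u}}

/-- `NR f y`: some field-valued point of `Y` over `y` has non-reduced pullback. -/
def NR (f : X ⟶ Y) (y : Y) : Prop :=
  ∃ (K : Type u) (_ : Field K) (s : Spec (CommRingCat.of K) ⟶ Y),
    (∀ p, s p = y) ∧ ¬ IsReduced (pullback f s)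

theorem nr_of_not_geometricallyReduced (f : X ⟶ Y) (y : Y)
    (h : ¬ GeometricallyReduced (f.fiberToSpecResidueField y)) : NR f y := by
  rw [geometricallyReduced_iff] at h
  unfold geometrically at h
  push Not at h
  obtain ⟨K, _, y', Z, fst, snd, hpb, hZ⟩ := h
  refine ⟨K, inferInstance, y' ≫ Y.fromSpecResidueField y, fun p => ?_, fun hred => hZ ?_⟩
  · rw [Scheme.Hom.comp_apply, Scheme.fromSpecResidueField_apply]
  · have h2 : IsPullback (f.fiberι y) (f.fiberToSpecResidueField y) f
        (Y.fromSpecResidueField y) := IsPullback.of_hasPullback f (Y.fromSpecResidueField y)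
    have h3 := hpb.paste_horiz h2
    haveI := hred
    exact isReduced_of_isOpenImmersion h3.isoPullback.hom

theorem not_geometricallyReduced_of_nr (f : X ⟶ Y) (y : Y) (h : NR f y) :
    ¬ GeometricallyReduced (f.fiberToSpecResidueField y) := by
  obtain ⟨K, _, s, hs, hnr⟩ := h
  intro hgr
  apply hnr
  obtain ⟨⟨y₀, φ⟩, rfl⟩ := (Scheme.SpecToEquivOfField K Y).symm.surjective s
  have hy : y₀ = y := by
    have := hs (IsLocalRing.closedPoint K)
    simpa [Scheme.SpecToEquivOfField, Scheme.fromSpecResidueField_apply] using this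
  subst hy
  simp only [Scheme.SpecToEquivOfField, Equiv.coe_fn_symm_mk] at hnr ⊢
  set s := Spec.map φ ≫ Y.fromSpecResidueField y₀ with hs'
  let p : pullback f s ⟶ f.fiber y₀ :=
    pullback.lift (pullback.fst f s) (pullback.snd f s ≫ Spec.map φ)
      (by rw [pullback.condition, Category.assoc])
  have h1 : IsPullback (p ≫ f.fiberι y₀) (pullback.snd f s) f
      (Spec.map φ ≫ Y.fromSpecResidueField y₀) := by
    have : p ≫ f.fiberι y₀ = pullback.fst f s := pullback.lift_fst _ _ _
    rw [this]
    exact IsPullback.of_hasPullback f s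
  have h2 : IsPullback p (pullback.snd f s) (f.fiberToSpecResidueField y₀) (Spec.map φ) :=
    IsPullback.of_right h1 (pullback.lift_snd _ _ _)
      (IsPullback.of_hasPullback f (Y.fromSpecResidueField y₀))
  exact GeometricallyReduced.geometrically_isReduced _ _ _ h2

section affine

variable {A : Type u} [CommRing A]

/-- Pullback of `Spec R ⟶ Spec A` along a field point, in ring terms. -/
theorem isReduced_pullback_iff_of_Spec {R : CommRingCat.{u}} (j : Spec R ⟶ Spec (CommRingCat.of A))
    (K : Type u) [Field K] [Algebra A K] :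
    letI : Algebra A R := (Spec.preimage j).hom.toAlgebra
    IsReduced (pullback j (Spec.map (CommRingCat.ofHom (algebraMap A K)))) ↔
      _root_.IsReduced (K ⊗[A] R) := by
  letI : Algebra A R := (Spec.preimage j).hom.toAlgebra
  have hj : j = Spec.map (CommRingCat.ofHom (algebraMap A R)) := by
    rw [RingHom.algebraMap_toAlgebra, CommRingCat.ofHom_hom, Spec.map_preimage]
  let e₁ : pullback j (Spec.map (CommRingCat.ofHom (algebraMap A K))) ≅
      pullback (Spec.map (CommRingCat.ofHom (algebraMap A R)))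
        (Spec.map (CommRingCat.ofHom (algebraMap A K))) := pullback.congrHom hj rfl
  let e₂ := pullbackSpecIso A R K
  let e := e₁ ≪≫ e₂
  let c : K ⊗[A] R ≃ₐ[A] R ⊗[A] K := Algebra.TensorProduct.comm A K R
  constructor
  · intro h
    haveI : IsReduced (Spec (CommRingCat.of (R ⊗[A] K))) := isReduced_of_isOpenImmersion e.inv
    haveI : _root_.IsReduced (R ⊗[A] K) :=
      (affine_isReduced_iff (CommRingCat.of (R ⊗[A] K))).1 inferInstance
    exact isReduced_of_injective c.toRingHom c.injective
  · intro h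
    haveI : _root_.IsReduced (R ⊗[A] K) := isReduced_of_injective c.symm.toRingHom c.symm.injective
    haveI : IsReduced (Spec (CommRingCat.of (R ⊗[A] K))) :=
      (affine_isReduced_iff (CommRingCat.of (R ⊗[A] K))).2 inferInstance
    exact isReduced_of_isOpenImmersion e.hom

/-- Pullback of `X' ⟶ Spec A` along a field point is reduced iff all the tensor products with the
members of the affine open cover are. -/
theorem isReduced_pullback_Spec_iff {X' : Scheme.{u}} (f' : X' ⟶ Spec (CommRingCat.of A))
    (K : Type u) [Field K] [Algebra A K] :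
    IsReduced (pullback f' (Spec.map (CommRingCat.ofHom (algebraMap A K)))) ↔
      ∀ i : X'.affineOpenCover.I₀,
        letI : Algebra A (X'.affineOpenCover.X i) :=
          (Spec.preimage (X'.affineOpenCover.f i ≫ f')).hom.toAlgebra
        _root_.IsReduced (K ⊗[A] X'.affineOpenCover.X i) := by
  let s₀ := Spec.map (CommRingCat.ofHom (algebraMap A K))
  let 𝒱 := Scheme.Pullback.openCoverOfLeft X'.affineOpenCover.openCover f' s₀
  constructor
  · intro h i
    haveI : IsOpenImmersion (𝒱.f i) := 𝒱.map_prop i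
    have h1 : IsReduced (𝒱.X i) := isReduced_of_isOpenImmersion (𝒱.f i)
    exact (isReduced_pullback_iff_of_Spec (X'.affineOpenCover.f i ≫ f') K).mp h1
  · intro h
    haveI : ∀ i, IsReduced (𝒱.X i) := fun i =>
      (isReduced_pullback_iff_of_Spec (X'.affineOpenCover.f i ≫ f') K).mpr (h i)
    exact IsReduced.of_openCover _ 𝒱

theorem finiteType_affineOpenCover {X' : Scheme.{u}} (f' : X' ⟶ Spec (CommRingCat.of A))
    [LocallyOfFiniteType f'] (i : X'.affineOpenCover.I₀) :
    (Spec.preimage (X'.affineOpenCover.f i ≫ f')).hom.FiniteType := by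
  haveI : IsOpenImmersion (X'.affineOpenCover.f i) := X'.affineOpenCover.map_prop i
  have h1 : LocallyOfFiniteType (X'.affineOpenCover.f i ≫ f') := inferInstance
  rw [← Spec.map_preimage (X'.affineOpenCover.f i ≫ f')] at h1
  exact (HasRingHomProperty.Spec_iff (P := @LocallyOfFiniteType)).mp h1

end affine

section main

open Groth.Agent.Lib.Helper10.DVRFibre

theorem isReduced_pullback_comp_iff (f : X ⟶ Y) {Y' : Scheme.{u}} (g : Y' ⟶ Y) {T : Scheme.{u}}
    (s₀ : T ⟶ Y') :
    IsReduced (pullback (pullback.snd f g) s₀) ↔ IsReduced (pullback f (s₀ ≫ g)) := by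
  let e : pullback (pullback.snd f g) s₀ ≅ pullback f (s₀ ≫ g) := pullbackLeftPullbackSndIso f g s₀
  exact ⟨fun _ => isReduced_of_isOpenImmersion e.inv, fun _ => isReduced_of_isOpenImmersion e.hom⟩

theorem Spec_map_apply_of_field {A : Type u} [CommRing A] (L : Type u) [Field L] [Algebra A L]
    (p : Spec (CommRingCat.of L)) :
    ((Spec.map (CommRingCat.ofHom (algebraMap A L))) p : PrimeSpectrum A).asIdeal =
      RingHom.ker (algebraMap A L) := by
  have hp : (p : PrimeSpectrum L).asIdeal = ⊥ := by
    haveI := (p : PrimeSpectrum L).2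
    exact Ideal.eq_bot_of_prime _
  show Ideal.comap (algebraMap A L) (p : PrimeSpectrum L).asIdeal = _
  rw [hp, RingHom.ker_eq_comap_bot]

/-- If the generic fibre of a morphism locally of finite type to an irreducible scheme is not
geometrically reduced, then no fibre over some nonempty open is geometrically reduced. -/
theorem not_geometricallyReduced_fibre_near_generic_point (f : X ⟶ Y) [IrreducibleSpace ↑Y]
    [LocallyOfFiniteType f]
    (h : ¬ GeometricallyReduced (f.fiberToSpecResidueField (genericPoint ↑Y))) :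
    ∃ V : Y.Opens, (V : Set ↑Y).Nonempty ∧
      ∀ y ∈ V, ¬ GeometricallyReduced (f.fiberToSpecResidueField y) := by
  obtain ⟨K, _, s, hs, hnr⟩ := nr_of_not_geometricallyReduced f _ h
  obtain ⟨V₀, hV₀, hηV₀⟩ := exists_affineOpen_mem (genericPoint Y)
  let g : Spec (CommRingCat.of Γ(Y, V₀)) ⟶ Y := hV₀.fromSpec
  let f' : pullback f g ⟶ Spec (CommRingCat.of Γ(Y, V₀)) := pullback.snd f g
  have hrange : Set.range s ⊆ Set.range g := by
    rintro _ ⟨p, rfl⟩
    rw [hs p, hV₀.range_fromSpec]
    exact hηV₀
  obtain ⟨s₀, hs₀⟩ : ∃ s₀ : Spec (CommRingCat.of K) ⟶ Spec (CommRingCat.of Γ(Y, V₀)), s₀ ≫ g = s :=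
    ⟨IsOpenImmersion.lift g s hrange, IsOpenImmersion.lift_fac g s hrange⟩
  subst hs₀
  obtain ⟨ψ, rfl⟩ := Spec.map_surjective s₀
  letI : Algebra Γ(Y, V₀) K := ψ.hom.toAlgebra
  have hψ : ψ = CommRingCat.ofHom (algebraMap Γ(Y, V₀) K) := rfl
  rw [hψ] at hs hnr
  have h1 : ¬ IsReduced (pullback f' (Spec.map (CommRingCat.ofHom (algebraMap Γ(Y, V₀) K)))) :=
    fun hred => hnr ((isReduced_pullback_comp_iff f g _).mp hred)
  -- the generic point of `Spec A`
  let pt : Spec (CommRingCat.of K) := IsLocalRing.closedPoint K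
  let η' : PrimeSpectrum Γ(Y, V₀) := (Spec.map (CommRingCat.ofHom (algebraMap Γ(Y, V₀) K))) pt
  have hη' : g η' = genericPoint Y := by
    rw [← hs pt, Scheme.Hom.comp_apply]
  have hgen : ∀ q : PrimeSpectrum Γ(Y, V₀), η' ⤳ q := by
    intro q
    have : g η' ⤳ g q := by
      rw [hη']; exact genericPoint_specializes _
    exact (g.isOpenEmbedding.isInducing.specializes_iff).mp this
  have hker : RingHom.ker (algebraMap Γ(Y, V₀) K) = η'.asIdeal :=
    (Spec_map_apply_of_field K pt).symm
  -- an affine piece with non-reduced tensor product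
  rw [isReduced_pullback_Spec_iff f' K] at h1
  push Not at h1
  obtain ⟨i, hi⟩ := h1
  letI : Algebra Γ(Y, V₀) ((pullback f g).affineOpenCover.X i) :=
    (Spec.preimage ((pullback f g).affineOpenCover.f i ≫ f')).hom.toAlgebra
  haveI : Algebra.FiniteType Γ(Y, V₀) ((pullback f g).affineOpenCover.X i) :=
    finiteType_affineOpenCover f' i
  obtain ⟨a, ha, hall⟩ := GenNonRed.exists_notMem_forall_exists_field η'.asIdeal
    (fun q hq => (PrimeSpectrum.le_iff_specializes η' ⟨q, hq⟩).mpr (hgen ⟨q, hq⟩))
    ((pullback f g).affineOpenCover.X i) K hker hi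
  refine ⟨g ''ᵁ (PrimeSpectrum.basicOpen a), ⟨g η', η', ha, rfl⟩, ?_⟩
  rintro _ ⟨q, hq, rfl⟩
  obtain ⟨L, instF, instA, hkerL, hnrL⟩ := hall q.asIdeal hq
  apply not_geometricallyReduced_of_nr
  refine ⟨L, instF, Spec.map (CommRingCat.ofHom (algebraMap Γ(Y, V₀) L)) ≫ g, fun p => ?_, ?_⟩
  · rw [Scheme.Hom.comp_apply]
    congr 1
    apply PrimeSpectrum.ext
    rw [Spec_map_apply_of_field L p, hkerL]
  · intro hred
    have h2 := (isReduced_pullback_comp_iff f g _).mpr hred
    rw [isReduced_pullback_Spec_iff f' L] at h2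
    exact hnrL (h2 i)

end main

end Groth.Agent.Lib.Helper6.GenNonRedSch
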