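import Mathlib
import Groth.Agent.Lib.Helper6GenNonRed2

set_option autoImplicit false
universe u v w

namespace Groth.Agent.Lib.Helper6.GenComp

open TensorProduct Groth.Agent.Lib.Helper2.GenFree Groth.Agent.Lib.Helper6.GenNonRed

variable {A : Type u} [CommRing A] (η : Ideal A) [η.IsPrime] (B : Type v) [CommRing B] [Algebra A B]

/-- The map `(A ⧸ η) ⊗[A] B → B ⧸ P` for a prime `P` of `B` lying over an ideal containing `η`. -/
noncomputable def rho (P : Ideal B) (hP : η ≤ P.comap (algebraMap A B)) :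
    (A ⧸ η) ⊗[A] B →ₐ[A] B ⧸ P :=
  Algebra.TensorProduct.lift
    (Ideal.Quotient.liftₐ η (Algebra.ofId A (B ⧸ P)) (fun x hx => by
      have : algebraMap A B x ∈ P := hP hx
      rw [Algebra.ofId_apply, IsScalarTower.algebraMap_apply A B (B ⧸ P)]
      exact Ideal.Quotient.eq_zero_iff_mem.mpr this))
    (Ideal.Quotient.mkₐ A P) (fun _ _ => Commute.all _ _)

omit [η.IsPrime] in
theorem rho_one_tmul (P : Ideal B) (hP : η ≤ P.comap (algebraMap A B)) (x : B) :
    rho η B P hP ((1 : A ⧸ η) ⊗ₜ[A] x) = Ideal.Quotient.mk P x := by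
  simp [rho]

omit [η.IsPrime] in
theorem rho_mk_tmul (P : Ideal B) (hP : η ≤ P.comap (algebraMap A B)) (a : A) (x : B) :
    rho η B P hP ((Ideal.Quotient.mk η a) ⊗ₜ[A] x) = Ideal.Quotient.mk P (a • x) := by
  have : (Ideal.Quotient.mk η a) ⊗ₜ[A] x = (1 : A ⧸ η) ⊗ₜ[A] (a • x) := by
    rw [TensorProduct.tmul_smul, TensorProduct.smul_tmul', ← Algebra.algebraMap_eq_smul_one]
    rfl
  rw [this, rho_one_tmul]

section lemmas

variable (hη : ∀ q : Ideal A, q.IsPrime → η ≤ q)
include hη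

/-- Generic going-down: away from some `a ∉ η` every prime of `B` has a generization over `η`. -/
theorem exists_notMem_forall_exists_le_comap_eq [Algebra.FiniteType A B] :
    ∃ a ∉ η, ∀ P : Ideal B, P.IsPrime → a ∉ P.comap (algebraMap A B) →
      ∃ P' : Ideal B, P'.IsPrime ∧ P' ≤ P ∧ P'.comap (algebraMap A B) = η := by
  classical
  obtain ⟨f', hf', hfree, -, -, -⟩ := exists_freeAway (A ⧸ η) ((A ⧸ η) ⊗[A] B) ((A ⧸ η) ⊗[A] B)
  obtain ⟨a, ha⟩ := Ideal.Quotient.mk_surjective f'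
  refine ⟨a, ?_, ?_⟩
  · intro hmem
    apply hf'
    rw [← ha]
    exact Ideal.Quotient.eq_zero_iff_mem.mpr hmem
  intro P hP haP
  have hηP : η ≤ P.comap (algebraMap A B) := hη _ (Ideal.comap_isPrime _ _)
  let S : Submonoid B := (Algebra.algebraMapSubmonoid B η.primeCompl) ⊔ P.primeCompl
  have hdisj : Disjoint (((⊥ : Ideal B) : Set B)) (S : Set B) := by
    rw [Set.disjoint_left]
    intro x hx hxS
    have hx0 : x = 0 := hx
    obtain ⟨y, hy, t, ht, hyt⟩ := Submonoid.mem_sup.mp hxS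
    obtain ⟨s, hs, rfl⟩ := hy
    have h0 : s • t = 0 := by rw [Algebra.smul_def, hyt, hx0]
    have h1 : (Ideal.Quotient.mk η s) • ((1 : A ⧸ η) ⊗ₜ[A] t : (A ⧸ η) ⊗[A] B) = 0 := by
      have : (Ideal.Quotient.mk η s) • ((1 : A ⧸ η) ⊗ₜ[A] t : (A ⧸ η) ⊗[A] B) =
          (1 : A ⧸ η) ⊗ₜ[A] (s • t) := by
        rw [TensorProduct.tmul_smul, TensorProduct.smul_tmul', TensorProduct.smul_tmul', smul_eq_mul,
          mul_one, ← Algebra.algebraMap_eq_smul_one]
        rfl
      rw [this, h0, TensorProduct.tmul_zero]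
    have hs0 : Ideal.Quotient.mk η s ≠ 0 := fun h => hs (Ideal.Quotient.eq_zero_iff_mem.mp h)
    obtain ⟨n, hn⟩ := hfree.exists_pow_smul_eq_zero hs0 h1
    have h2 := congrArg (rho η B P hηP) hn
    rw [← ha, ← map_pow, TensorProduct.smul_tmul', smul_eq_mul, mul_one, rho_mk_tmul, map_zero] at h2
    have h3 : (a ^ n) • t ∈ P := Ideal.Quotient.eq_zero_iff_mem.mp h2
    rw [Algebra.smul_def] at h3
    rcases hP.mem_or_mem h3 with h4 | h4
    · rw [map_pow] at h4
      exact haP (hP.mem_of_pow_mem n h4)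
    · exact ht h4
  obtain ⟨P', hP', -, hP'S⟩ := Ideal.exists_le_prime_disjoint ⊥ S hdisj
  refine ⟨P', hP', ?_, ?_⟩
  · intro x hx
    by_contra hxP
    exact Set.disjoint_left.mp hP'S hx (Submonoid.mem_sup_right hxP)
  · apply le_antisymm
    · intro s hs
      by_contra hsη
      exact Set.disjoint_left.mp hP'S hs (Submonoid.mem_sup_left ⟨s, hsη, rfl⟩)
    · exact hη _ (Ideal.comap_isPrime _ _)

/-- Generic surjectivity: if some prime of `B` lies over `η`, then all the primes in a principal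
open neighbourhood of `η` lift to `B`. -/
theorem exists_notMem_forall_exists_comap_eq [Algebra.FiniteType A B] (P₀ : Ideal B) [P₀.IsPrime]
    (hP₀ : P₀.comap (algebraMap A B) = η) :
    ∃ a ∉ η, ∀ q : Ideal A, q.IsPrime → a ∉ q →
      ∃ Q : Ideal B, Q.IsPrime ∧ Q.comap (algebraMap A B) = q := by
  classical
  have hinj : Function.Injective (algebraMap (A ⧸ η) ((A ⧸ η) ⊗[A] B)) := by
    rw [injective_iff_map_eq_zero]
    intro x hx
    obtain ⟨a, rfl⟩ := Ideal.Quotient.mk_surjective x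
    have h1 := congrArg (rho η B P₀ hP₀.ge) hx
    rw [Algebra.TensorProduct.algebraMap_apply, Algebra.algebraMap_self, RingHom.id_apply,
      rho_mk_tmul, map_zero] at h1
    have h2 : a • (1 : B) ∈ P₀ := Ideal.Quotient.eq_zero_iff_mem.mp h1
    rw [Algebra.smul_def, mul_one] at h2
    have h3 : a ∈ P₀.comap (algebraMap A B) := h2
    rw [hP₀] at h3
    exact Ideal.Quotient.eq_zero_iff_mem.mpr h3
  obtain ⟨f', hf', hE⟩ := exists_ne_zero_forall_exists_comap_eq
    (R := A ⧸ η) (S := (A ⧸ η) ⊗[A] B) hinj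
  obtain ⟨a, ha⟩ := Ideal.Quotient.mk_surjective f'
  refine ⟨a, ?_, ?_⟩
  · intro hmem
    apply hf'
    rw [← ha]
    exact Ideal.Quotient.eq_zero_iff_mem.mpr hmem
  intro q hq haq
  have hηq : η ≤ q := hη q hq
  let q' : Ideal (A ⧸ η) := q.map (Ideal.Quotient.mk η)
  have hcomap : q'.comap (Ideal.Quotient.mk η) = q := by
    rw [Ideal.comap_map_of_surjective _ Ideal.Quotient.mk_surjective, ← RingHom.ker_eq_comap_bot,
      Ideal.mk_ker, sup_eq_left]
    exact hηq
  haveI : q'.IsPrime := Ideal.map_isPrime_of_surjective Ideal.Quotient.mk_surjective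
    (by rw [Ideal.mk_ker]; exact hηq)
  have hf'q' : f' ∉ q' := by
    intro hmem
    apply haq
    rw [← hcomap, Ideal.mem_comap, ha]
    exact hmem
  obtain ⟨Q', hQ', hQ'q'⟩ := hE q' hf'q'
  refine ⟨Q'.comap (Algebra.TensorProduct.includeRight : B →ₐ[A] (A ⧸ η) ⊗[A] B).toRingHom,
    Ideal.comap_isPrime _ _, ?_⟩
  rw [Ideal.comap_comap, ← hcomap, ← hQ'q', Ideal.comap_comap]
  congr 1
  ext x
  show (Algebra.TensorProduct.includeRight : B →ₐ[A] (A ⧸ η) ⊗[A] B) (algebraMap A B x) =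
    algebraMap (A ⧸ η) ((A ⧸ η) ⊗[A] B) (Ideal.Quotient.mk η x)
  rw [AlgHom.commutes]
  exact IsScalarTower.algebraMap_apply A (A ⧸ η) ((A ⧸ η) ⊗[A] B) x

end lemmas

/-- A closed subset with empty generic fibre has empty fibres over a principal open. -/
theorem exists_notMem_forall_ne_comap (hη : ∀ q : Ideal A, q.IsPrime → η ≤ q)
    (h : ∀ P : Ideal B, P.IsPrime → P.comap (algebraMap A B) ≠ η) :
    ∃ a ∉ η, ∀ Q : Ideal B, Q.IsPrime → a ∈ Q.comap (algebraMap A B) := by
  classical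
  by_contra hcon
  push Not at hcon
  -- the multiplicative set `A ∖ η` does not meet the zero ideal of `B`... find a prime
  let S : Submonoid B := Algebra.algebraMapSubmonoid B η.primeCompl
  have hdisj : Disjoint (((⊥ : Ideal B) : Set B)) (S : Set B) := by
    rw [Set.disjoint_left]
    rintro x hx ⟨s, hs, rfl⟩
    obtain ⟨Q, hQ, hsQ⟩ := hcon s hs
    apply hsQ
    have hx0 : algebraMap A B s = 0 := hx
    rw [Ideal.mem_comap, hx0]
    exact Q.zero_mem
  obtain ⟨P, hP, -, hPS⟩ := Ideal.exists_le_prime_disjoint ⊥ S hdisj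
  apply h P hP
  apply le_antisymm
  · intro s hs
    by_contra hsη
    exact Set.disjoint_left.mp hPS hs ⟨s, hsη, rfl⟩
  · exact hη _ (Ideal.comap_isPrime _ _)

end Groth.Agent.Lib.Helper6.GenComp
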