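import Mathlib
import Groth.Agent.Lib.Helper12SepGen

set_option autoImplicit false
universe u v

namespace Groth.Agent.Lib.Helper6.GeomRedGen

open TensorProduct

section loc

variable (K : Type u) [Field K] (C : Type v) [CommRing C] [Algebra K C]

/-- geometric reducedness passes to localizations -/
theorem isGeometricallyReduced_of_isLocalization [Algebra.IsGeometricallyReduced K C]
    (M : Submonoid C) (L : Type v) [CommRing L] [Algebra C L] [Algebra K L] [IsScalarTower K C L]
    [IsLocalization M L] : Algebra.IsGeometricallyReduced K L := by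
  rw [Algebra.isGeometricallyReduced_field_iff]
  letI : Algebra (AlgebraicClosure K ⊗[K] C) (AlgebraicClosure K ⊗[K] L) :=
    (Algebra.TensorProduct.map (AlgHom.id (AlgebraicClosure K) (AlgebraicClosure K))
      (IsScalarTower.toAlgHom K C L)).toRingHom.toAlgebra
  haveI : IsScalarTower (AlgebraicClosure K) (AlgebraicClosure K ⊗[K] C)
      (AlgebraicClosure K ⊗[K] L) := IsScalarTower.of_algebraMap_eq' (by
    ext x
    simp [RingHom.algebraMap_toAlgebra])
  haveI : IsLocalization (M.map (Algebra.TensorProduct.includeRight (R := K)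
      (A := AlgebraicClosure K))) (AlgebraicClosure K ⊗[K] L) :=
    IsLocalization.tensorProduct_tensorProduct_right K (AlgebraicClosure K) M L (by
      ext x
      simp [RingHom.algebraMap_toAlgebra])
  have hred : IsReduced (AlgebraicClosure K ⊗[K] C) := inferInstance
  exact isReduced_localizationPreserves (M.map (Algebra.TensorProduct.includeRight (R := K)
      (A := AlgebraicClosure K))) (AlgebraicClosure K ⊗[K] L) hred

end loc

section smooth

variable (K : Type u) [Field K] (C : Type v) [CommRing C] [Algebra K C] [Algebra.FiniteType K C]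
  [Algebra.IsGeometricallyReduced K C]

/-- A geometrically reduced algebra of finite type over a field is smooth at its minimal primes. -/
theorem mem_smoothLocus_of_mem_minimalPrimes (P : Ideal C) (hP : P ∈ minimalPrimes C) :
    haveI := Ideal.minimalPrimes_isPrime hP
    (⟨P, Ideal.minimalPrimes_isPrime hP⟩ : PrimeSpectrum C) ∈ Algebra.smoothLocus K C := by
  haveI := Ideal.minimalPrimes_isPrime hP
  haveI : IsReduced C := Algebra.isReduced_of_isGeometricallyReduced K
  let L := Localization.AtPrime P
  haveI : Subsingleton (PrimeSpectrum L) :=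
    IsLocalization.subsingleton_primeSpectrum_of_mem_minimalPrimes P hP L
  haveI : IsReduced L := inferInstance
  have hfield : IsField L := PrimeSpectrum.subsingleton_iff_isField_of_isReduced.mp inferInstance
  letI : Field L := hfield.toField
  haveI : Algebra.IsGeometricallyReduced K L :=
    isGeometricallyReduced_of_isLocalization K C P.primeCompl L
  haveI : Algebra.EssFiniteType C L := Algebra.EssFiniteType.of_isLocalization L P.primeCompl
  haveI : Algebra.EssFiniteType K L := Algebra.EssFiniteType.comp K C L
  show Algebra.FormallySmooth K L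
  exact Groth.Agent.Lib.Helper12.SepGen.formallySmooth K L

/-- Generic smoothness: there is an ideal `J`, contained in no minimal prime, such that `C_g` is
smooth for all `g ∈ J`. -/
theorem exists_ideal_smooth_away :
    ∃ J : Ideal C, (∀ P ∈ minimalPrimes C, ¬ J ≤ P) ∧
      ∀ g ∈ J, Algebra.Smooth K (Localization.Away g) := by
  haveI : IsNoetherianRing C := Algebra.FiniteType.isNoetherianRing K C
  haveI : Algebra.FinitePresentation K C := Algebra.FinitePresentation.of_finiteType.mp inferInstance
  have hopen : IsOpen (Algebra.smoothLocus K C) := Algebra.isOpen_smoothLocus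
  set Z : Set (PrimeSpectrum C) := (Algebra.smoothLocus K C)ᶜ with hZ
  have hZcl : IsClosed Z := hopen.isClosed_compl
  refine ⟨PrimeSpectrum.vanishingIdeal Z, ?_, ?_⟩
  · intro P hP hle
    haveI := Ideal.minimalPrimes_isPrime hP
    have hmem : (⟨P, Ideal.minimalPrimes_isPrime hP⟩ : PrimeSpectrum C) ∈ Z := by
      rw [← hZcl.closure_eq, ← PrimeSpectrum.zeroLocus_vanishingIdeal_eq_closure,
        PrimeSpectrum.mem_zeroLocus]
      exact hle
    exact hmem (mem_smoothLocus_of_mem_minimalPrimes K C P hP)
  · intro g hg
    rw [← Algebra.basicOpen_subset_smoothLocus_iff_smooth]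
    intro Q hQ
    by_contra hcon
    have : g ∈ Q.asIdeal := (PrimeSpectrum.mem_vanishingIdeal _ _).mp hg Q hcon
    exact hQ this

end smooth

section nzd

/-- Elements outside all minimal primes of a reduced ring are nonzerodivisors. -/
theorem eq_zero_of_mul_eq_zero_of_notMem_minimalPrimes {C : Type v} [CommRing C] [IsReduced C]
    {g c : C} (hg : ∀ P ∈ minimalPrimes C, g ∉ P) (h : g * c = 0) : c = 0 := by
  have hc : c ∈ sInf (minimalPrimes C) := by
    rw [Ideal.mem_sInf]
    intro P hP
    haveI := Ideal.minimalPrimes_isPrime hP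
    have : g * c ∈ P := by rw [h]; exact P.zero_mem
    exact ((Ideal.IsPrime.mem_or_mem inferInstance this).resolve_left (hg P hP))
  have h2 : sInf (minimalPrimes C) = nilradical C := by
    rw [minimalPrimes, Ideal.sInf_minimalPrimes]
    rfl
  rw [h2, nilradical_eq_zero] at hc
  exact hc

end nzd

section avoid

/-- prime avoidance for the minimal primes of a Noetherian ring -/
theorem exists_mem_notMem_minimalPrimes {C : Type v} [CommRing C] [IsNoetherianRing C]
    (J : Ideal C) (hJ : ∀ P ∈ minimalPrimes C, ¬ J ≤ P) :
    ∃ g ∈ J, ∀ P ∈ minimalPrimes C, g ∉ P := by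
  classical
  have hfin : (minimalPrimes C).Finite := minimalPrimes.finite_of_isNoetherianRing C
  by_contra hcon
  push Not at hcon
  have hsub : (J : Set C) ⊆ ⋃ P ∈ (hfin.toFinset : Set (Ideal C)), ((fun P : Ideal C => P) P : Set C) := by
    intro g hg
    obtain ⟨P, hP, hgP⟩ := hcon g hg
    simp only [Set.mem_iUnion]
    exact ⟨P, by simpa using hP, hgP⟩
  obtain ⟨P, hP, hle⟩ := (Ideal.subset_union_prime (R := C) (s := hfin.toFinset)
    (f := fun P : Ideal C => P) ⊥ ⊥ (fun P hP _ _ =>
      Ideal.minimalPrimes_isPrime (hfin.mem_toFinset.mp hP))).mp hsub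
  exact hJ P (hfin.mem_toFinset.mp hP) hle

end avoid

end Groth.Agent.Lib.Helper6.GeomRedGen
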