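import Mathlib
import Groth.Agent.Lib.Helper6GeomRedGen1
import Groth.Agent.Lib.Helper6GenComp
import Groth.Agent.Lib.Helper6ReducedSmooth

set_option autoImplicit false
universe u v w

namespace Groth.Agent.Lib.Helper6.GeomRedGen

open TensorProduct Groth.Agent.Lib.Helper2.GenFree

section ZR

variable {A : Type u} [CommRing A] (η : Ideal A) [η.IsPrime]
  (hη : ∀ q : Ideal A, q.IsPrime → η ≤ q) (S : Type v) [CommRing S] [Algebra A S]
include hη

/-- A closed subset of `Spec S` with no point over `η` lies in `V(a)` for some `a ∉ η`. -/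
theorem exists_notMem_forall_mem_of_isClosed_ring (Z : Set (PrimeSpectrum S)) (hZ : IsClosed Z)
    (h : ∀ Q ∈ Z, Q.asIdeal.comap (algebraMap A S) ≠ η) :
    ∃ a ∉ η, ∀ Q ∈ Z, algebraMap A S a ∈ Q.asIdeal := by
  set I : Ideal S := PrimeSpectrum.vanishingIdeal Z with hI
  have hzl : PrimeSpectrum.zeroLocus (I : Set S) = Z := by
    rw [hI, PrimeSpectrum.zeroLocus_vanishingIdeal_eq_closure, hZ.closure_eq]
  obtain ⟨a, ha, hall⟩ := GenComp.exists_notMem_forall_ne_comap η (S ⧸ I) hη (by
    intro Pb hPb heq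
    have hPprime : (Pb.comap (Ideal.Quotient.mk I)).IsPrime := Ideal.comap_isPrime _ _
    set P : PrimeSpectrum S := ⟨Pb.comap (Ideal.Quotient.mk I), hPprime⟩ with hP
    have hPT : P ∈ Z := by
      rw [← hzl, PrimeSpectrum.mem_zeroLocus]
      intro x hx
      show Ideal.Quotient.mk I x ∈ Pb
      rw [Ideal.Quotient.eq_zero_iff_mem.mpr hx]
      exact Pb.zero_mem
    apply h P hPT
    rw [← heq]
    rfl)
  refine ⟨a, ha, fun Q hQ => ?_⟩
  have hIQ : I ≤ Q.asIdeal := by
    rw [← hzl, PrimeSpectrum.mem_zeroLocus] at hQ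
    exact hQ
  have hker : RingHom.ker (Ideal.Quotient.mk I) ≤ Q.asIdeal := by rwa [Ideal.mk_ker]
  haveI : (Q.asIdeal.map (Ideal.Quotient.mk I)).IsPrime :=
    Ideal.map_isPrime_of_surjective Ideal.Quotient.mk_surjective hker
  have h1 := hall (Q.asIdeal.map (Ideal.Quotient.mk I)) inferInstance
  have h2 : (Q.asIdeal.map (Ideal.Quotient.mk I)).comap (Ideal.Quotient.mk I) = Q.asIdeal := by
    rw [Ideal.comap_map_of_surjective _ Ideal.Quotient.mk_surjective, ← RingHom.ker_eq_comap_bot,
      sup_eq_left]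
    exact hker
  rw [← h2]
  exact h1

end ZR

section locus

variable {R : Type u} [CommRing R] {S : Type v} [CommRing S] [Algebra R S]

/-- smooth locus and localization (general submonoid) -/
theorem mem_smoothLocus_comap_of_isLocalization (M : Submonoid S) (T : Type v) [CommRing T]
    [Algebra S T] [Algebra R T] [IsScalarTower R S T] [IsLocalization M T] (p : PrimeSpectrum T)
    (hp : p ∈ Algebra.smoothLocus R T) :
    PrimeSpectrum.comap (algebraMap S T) p ∈ Algebra.smoothLocus R S := by
  let q := PrimeSpectrum.comap (algebraMap S T) p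
  have : IsLocalization.AtPrime (Localization.AtPrime p.asIdeal) q.asIdeal :=
    IsLocalization.isLocalization_isLocalization_atPrime_isLocalization M _ p.asIdeal
  have hp' : Algebra.FormallySmooth R (Localization.AtPrime p.asIdeal) := hp
  show Algebra.FormallySmooth R (Localization.AtPrime q.asIdeal)
  exact Algebra.FormallySmooth.of_equiv
    ((IsLocalization.algEquiv q.asIdeal.primeCompl (Localization.AtPrime p.asIdeal)
      (Localization.AtPrime q.asIdeal)).restrictScalars R)

/-- primes disjoint from `M` lie in the smooth locus if the localization at `M` is formally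
smooth. -/
theorem mem_smoothLocus_of_disjoint (M : Submonoid S) (T : Type v) [CommRing T]
    [Algebra S T] [Algebra R T] [IsScalarTower R S T] [IsLocalization M T]
    [Algebra.FormallySmooth R T] (Q : PrimeSpectrum S)
    (hdisj : Disjoint (M : Set S) (Q.asIdeal : Set S)) : Q ∈ Algebra.smoothLocus R S := by
  have hprime : (Q.asIdeal.map (algebraMap S T)).IsPrime :=
    IsLocalization.isPrime_of_isPrime_disjoint M T Q.asIdeal Q.2 hdisj
  have hcomap : (Q.asIdeal.map (algebraMap S T)).comap (algebraMap S T) = Q.asIdeal :=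
    IsLocalization.comap_map_of_isPrime_disjoint M T Q.2 hdisj
  have hQeq : Q = PrimeSpectrum.comap (algebraMap S T) ⟨_, hprime⟩ :=
    PrimeSpectrum.ext hcomap.symm
  rw [hQeq]
  apply mem_smoothLocus_comap_of_isLocalization M T
  show Algebra.FormallySmooth R (Localization.AtPrime (Q.asIdeal.map (algebraMap S T)))
  haveI : Algebra.FormallySmooth T (Localization.AtPrime (Q.asIdeal.map (algebraMap S T))) :=
    Algebra.FormallySmooth.of_isLocalization (Q.asIdeal.map (algebraMap S T)).primeCompl
  exact Algebra.FormallySmooth.comp R T _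

end locus

section NZD

variable {A : Type u} [CommRing A] [IsDomain A] {B : Type v} [CommRing B] [Algebra A B]
  [Algebra.FiniteType A B]

/-- Spreading out a nonzerodivisor: if `1 ⊗ g₀` is a nonzerodivisor on the generic fibre, then
it is one on all fibres over a nonempty principal open. -/
theorem exists_ne_zero_forall_mul_eq_zero_imp (g₀ : B)
    (hg : ∀ c : FractionRing A ⊗[A] B, ((1 : FractionRing A) ⊗ₜ[A] g₀) * c = 0 → c = 0) :
    ∃ a : A, a ≠ 0 ∧ ∀ (L : Type w) [CommRing L] [Algebra A L], IsUnit (algebraMap A L a) →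
      ∀ z : L ⊗[A] B, ((1 : L) ⊗ₜ[A] g₀) * z = 0 → z = 0 := by
  classical
  set N : Ideal B := Ideal.span {g₀} with hN
  obtain ⟨f₁, hf₁, hS₁, hM₁, -, -⟩ := exists_freeAway A B (B ⧸ N)
  refine ⟨f₁, hf₁, ?_⟩
  intro L _ _ hL
  set v : B →ₗ[A] B := LinearMap.mulLeft A g₀ with hv
  have hrange : LinearMap.range v = N.restrictScalars A := by
    ext x
    simp only [LinearMap.mem_range, hv, LinearMap.mulLeft_apply, Submodule.restrictScalars_mem, hN,
      Ideal.mem_span_singleton']
    constructor
    · rintro ⟨y, rfl⟩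
      exact ⟨y, mul_comm _ _⟩
    · rintro ⟨y, rfl⟩
      exact ⟨y, mul_comm _ _⟩
  have hfree : FreeAway A f₁ (B ⧸ LinearMap.range v) := by
    rw [hrange]
    exact hM₁.of_linearEquiv (Submodule.Quotient.restrictScalarsEquiv A N).symm
  haveI : Module.Free (Localization.Away f₁) (Localization.Away f₁ ⊗[A] (B ⧸ LinearMap.range v)) :=
    hfree.free (Localization.Away f₁) (TensorProduct.mk A (Localization.Away f₁) _ 1)
  have hex := exact_baseChange_of_flat_coker_away f₁ (0 : B →ₗ[A] B) v
    (fun x => ⟨0, by simp⟩)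
    (fun y hy => by
      have hy' : g₀ * y = 0 := hy
      have h1 : ((1 : FractionRing A) ⊗ₜ[A] g₀) * ((1 : FractionRing A) ⊗ₜ[A] y) = 0 := by
        rw [Algebra.TensorProduct.tmul_mul_tmul, hy', TensorProduct.tmul_zero]
      have h2 := hg _ h1
      obtain ⟨s, hs⟩ := (IsLocalizedModule.eq_zero_iff (nonZeroDivisors A)
        (TensorProduct.mk A (FractionRing A) B 1) (m := y)).mp h2
      obtain ⟨n, hn⟩ := hS₁.exists_pow_smul_eq_zero (nonZeroDivisors.ne_zero s.2) hs
      exact ⟨n, by rw [hn]; exact zero_mem _⟩) inferInstance L hL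
  have hvL : ∀ z : L ⊗[A] B, v.baseChange L z = ((1 : L) ⊗ₜ[A] g₀) * z := by
    intro z
    induction z using TensorProduct.induction_on with
    | zero => simp
    | tmul k x =>
      rw [LinearMap.baseChange_tmul, Algebra.TensorProduct.tmul_mul_tmul, one_mul]
      rfl
    | add x y hx hy => rw [map_add, hx, hy, mul_add]
  intro z hz
  rw [← hvL] at hz
  obtain ⟨w, hw⟩ := (hex z).mp hz
  rw [← hw]
  simp

end NZD

section SM2

/-- If `S_g` is smooth over `R` and `1 ⊗ g` is a unit of `L ⊗ S` (`L` a field), then `L ⊗ S` is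
reduced. -/
theorem isReduced_tensor_of_smooth_away {R : Type u} [CommRing R] (S : Type u) [CommRing S]
    [Algebra R S] (g : S) [Algebra.Smooth R (Localization.Away g)] (L : Type u) [Field L]
    [Algebra R L] (hu : IsUnit ((1 : L) ⊗ₜ[R] g)) : IsReduced (L ⊗[R] S) := by
  haveI : IsReduced (L ⊗[R] Localization.Away g) :=
    Groth.Agent.Lib.Helper6.isReduced_of_smooth L (L ⊗[R] Localization.Away g)
  have hle : (Submonoid.powers g).map (Algebra.TensorProduct.includeRight (R := R) (A := L)) ≤
      IsUnit.submonoid (L ⊗[R] S) := by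
    rintro _ ⟨_, ⟨k, rfl⟩, rfl⟩
    rw [map_pow]
    exact IsUnit.pow _ hu
  haveI : IsLocalization ((Submonoid.powers g).map
      (Algebra.TensorProduct.includeRight (R := R) (A := L))) (L ⊗[R] S) :=
    IsLocalization.of_le_isUnit hle
  let e := IsLocalization.tensorProductEquivOfMapIncludeRight R L (Submonoid.powers g)
    (Localization.Away g) (L ⊗[R] S)
  exact isReduced_of_injective e.symm.toRingHom e.symm.injective

theorem isUnit_one_tmul_algebraMap {A : Type*} [CommRing A] (A₁ S₂ L : Type*) [CommRing A₁]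
    [Algebra A A₁] [CommRing S₂] [Algebra A S₂] [Algebra A₁ S₂] [IsScalarTower A A₁ S₂] [CommRing L]
    [Algebra A L] [Algebra A₁ L] [IsScalarTower A A₁ L] (a : A) (h : IsUnit (algebraMap A L a)) :
    IsUnit ((1 : L) ⊗ₜ[A₁] (algebraMap A S₂ a)) := by
  have : (1 : L) ⊗ₜ[A₁] (algebraMap A S₂ a) = algebraMap L (L ⊗[A₁] S₂) (algebraMap A L a) := by
    rw [Algebra.TensorProduct.algebraMap_apply,
      Algebra.algebraMap_self, RingHom.id_apply, IsScalarTower.algebraMap_apply A A₁ S₂,
      IsScalarTower.algebraMap_apply A A₁ L, Algebra.algebraMap_eq_smul_one (A := S₂),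
      Algebra.algebraMap_eq_smul_one (A := L) (algebraMap A A₁ a), TensorProduct.smul_tmul]
  rw [this]
  exact h.map _

end SM2

section SM

variable {A : Type u} [CommRing A] [IsDomain A]

/-- Spreading out smoothness of the generic fibre: the fibres over a nonempty principal open are
reduced. -/
theorem exists_ne_zero_forall_isReduced_of_formallySmooth (B₁ : Type u) [CommRing B₁] [Algebra A B₁]
    [Algebra.FiniteType A B₁]
    (hsm : Algebra.FormallySmooth (FractionRing A) (FractionRing A ⊗[A] B₁)) :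
    ∃ a : A, a ≠ 0 ∧ ∀ (L : Type u) [Field L] [Algebra A L], IsUnit (algebraMap A L a) →
      IsReduced (L ⊗[A] B₁) := by
  classical
  obtain ⟨f₁, hf₁, -, -, ⟨n, φ, G, hφ, hG, hker⟩, -⟩ := exists_freeAway A B₁ B₁
  let A₁ := Localization.Away f₁
  let S₂ := A₁ ⊗[A] B₁
  haveI fp : Algebra.FinitePresentation A₁ S₂ := finitePresentation_tensor φ hφ f₁ G hG hker A₁
  haveI : IsDomain A₁ := IsLocalization.isDomain_of_le_nonZeroDivisors A₁
    (powers_le_nonZeroDivisors_of_noZeroDivisors hf₁)
  let K := FractionRing A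
  have hu : IsUnit (algebraMap A K f₁) :=
    (IsFractionRing.to_map_ne_zero_of_mem_nonZeroDivisors
      (mem_nonZeroDivisors_of_ne_zero hf₁)).isUnit
  letI : Algebra A₁ K := (IsLocalization.Away.lift f₁ hu).toAlgebra
  haveI : IsScalarTower A A₁ K := IsScalarTower.of_algebraMap_eq' (by
    ext r
    rw [RingHom.algebraMap_toAlgebra, RingHom.comp_apply, IsLocalization.Away.lift_eq])
  haveI : IsFractionRing A₁ K :=
    IsFractionRing.isFractionRing_of_isDomain_of_isLocalization (Submonoid.powers f₁) A₁ K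
  let T₀ := K ⊗[A₁] S₂
  let eT : T₀ ≃ₐ[K] K ⊗[A] B₁ := Algebra.TensorProduct.cancelBaseChange A A₁ K K B₁
  haveI : Algebra.FormallySmooth K T₀ := Algebra.FormallySmooth.of_equiv eT.symm
  haveI : Algebra.FormallySmooth A₁ K :=
    Algebra.FormallySmooth.of_isLocalization (R := A₁) (Rₘ := K) (nonZeroDivisors A₁)
  haveI : Algebra.FormallySmooth A₁ T₀ := Algebra.FormallySmooth.comp A₁ K T₀
  let T := S₂ ⊗[A₁] K
  haveI : Algebra.FormallySmooth A₁ T :=
    Algebra.FormallySmooth.of_equiv (R := A₁) (A := T₀) (B := T) (Algebra.TensorProduct.comm A₁ K S₂)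
  haveI hloc : IsLocalization (Algebra.algebraMapSubmonoid S₂ (nonZeroDivisors A₁)) T :=
    IsLocalization.tensor (S := S₂) K (nonZeroDivisors A₁)
  -- primes over the generic point are in the smooth locus
  have hgen : ∀ Q : PrimeSpectrum S₂, Q.asIdeal.comap (algebraMap A S₂) = ⊥ →
      Q ∈ Algebra.smoothLocus A₁ S₂ := by
    intro Q hQ
    have hQ₁ : ∀ s : A₁, algebraMap A₁ S₂ s ∈ Q.asIdeal → s = 0 := by
      intro s hs
      obtain ⟨⟨y, m⟩, hym⟩ := IsLocalization.surj (Submonoid.powers f₁) s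
      have h1 : algebraMap A S₂ y ∈ Q.asIdeal := by
        rw [IsScalarTower.algebraMap_apply A A₁ S₂, ← hym, map_mul]
        exact Ideal.mul_mem_right _ _ hs
      have h2 : y ∈ Q.asIdeal.comap (algebraMap A S₂) := h1
      rw [hQ, Ideal.mem_bot] at h2
      rw [h2, map_zero] at hym
      have hmu : IsUnit (algebraMap A A₁ m) := IsLocalization.map_units A₁ m
      exact (hmu.mul_left_eq_zero).mp hym
    have hdisj : Disjoint ((Algebra.algebraMapSubmonoid S₂ (nonZeroDivisors A₁) : Submonoid S₂) :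
        Set S₂) (Q.asIdeal : Set S₂) := by
      rw [Set.disjoint_left]
      rintro _ ⟨s, hs, rfl⟩ hmem
      exact nonZeroDivisors.ne_zero hs (hQ₁ s hmem)
    exact mem_smoothLocus_of_disjoint (Algebra.algebraMapSubmonoid S₂ (nonZeroDivisors A₁)) T Q hdisj
  -- the complement of the smooth locus misses a principal open of the base
  have hopen : IsOpen (Algebra.smoothLocus A₁ S₂) := Algebra.isOpen_smoothLocus
  haveI : (⊥ : Ideal A).IsPrime := Ideal.isPrime_bot
  obtain ⟨a₂, ha₂, hZ⟩ := exists_notMem_forall_mem_of_isClosed_ring (⊥ : Ideal A)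
    (fun q _ => bot_le) S₂ (Algebra.smoothLocus A₁ S₂)ᶜ hopen.isClosed_compl
    (fun Q hQ heq => hQ (hgen Q heq))
  have ha₂0 : a₂ ≠ 0 := fun h => ha₂ (by rw [h]; exact Ideal.zero_mem _)
  set g₂ : S₂ := algebraMap A S₂ a₂ with hg₂
  have hsub : (PrimeSpectrum.basicOpen g₂ : Set (PrimeSpectrum S₂)) ⊆ Algebra.smoothLocus A₁ S₂ := by
    intro Q hQ
    by_contra hcon
    exact hQ (hZ Q hcon)
  haveI hS₃ : Algebra.Smooth A₁ (Localization.Away g₂) :=
    Algebra.basicOpen_subset_smoothLocus_iff_smooth.mp hsub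
  refine ⟨f₁ * a₂, mul_ne_zero hf₁ ha₂0, ?_⟩
  intro L _ _ hL
  rw [map_mul, IsUnit.mul_iff] at hL
  obtain ⟨hL₁, hL₂⟩ := hL
  letI : Algebra A₁ L := (IsLocalization.Away.lift f₁ hL₁).toAlgebra
  haveI : IsScalarTower A A₁ L := IsScalarTower.of_algebraMap_eq' (by
    ext r
    rw [RingHom.algebraMap_toAlgebra, RingHom.comp_apply, IsLocalization.Away.lift_eq])
  have hunit : IsUnit ((1 : L) ⊗ₜ[A₁] g₂) := isUnit_one_tmul_algebraMap A₁ S₂ L a₂ hL₂
  haveI : IsReduced (L ⊗[A₁] S₂) := isReduced_tensor_of_smooth_away S₂ g₂ L hunit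
  let eL : L ⊗[A₁] S₂ ≃ₐ[L] L ⊗[A] B₁ := Algebra.TensorProduct.cancelBaseChange A A₁ L L B₁
  exact isReduced_of_injective eL.symm.toRingHom eL.symm.injective

end SM

section FIN

/-- If `1 ⊗ g` is a nonzerodivisor on `L ⊗ S` and `L ⊗ S_g` is reduced then `L ⊗ S` is reduced. -/
theorem isReduced_tensor_of_isReduced_away {R : Type*} [CommRing R] (S : Type*) [CommRing S]
    [Algebra R S] (g : S) (L : Type*) [CommRing L] [Algebra R L]
    (hnz : ∀ z : L ⊗[R] S, ((1 : L) ⊗ₜ[R] g) * z = 0 → z = 0)
    [IsReduced (L ⊗[R] Localization.Away g)] : IsReduced (L ⊗[R] S) := by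
  let M' : Submonoid (L ⊗[R] S) :=
    (Submonoid.powers g).map (Algebra.TensorProduct.includeRight (R := R) (A := L))
  have hle : M' ≤ nonZeroDivisors (L ⊗[R] S) := by
    rintro _ ⟨_, ⟨k, rfl⟩, rfl⟩
    rw [map_pow]
    apply pow_mem
    rw [mem_nonZeroDivisors_iff_left]
    exact hnz
  let e := IsLocalization.tensorProductEquivOfMapIncludeRight R L (Submonoid.powers g)
    (Localization.Away g) (Localization M')
  haveI : IsReduced (Localization M') := isReduced_of_injective e.symm.toRingHom e.symm.injective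
  exact isReduced_of_injective (algebraMap (L ⊗[R] S) (Localization M'))
    (IsLocalization.injective _ hle)

end FIN

section GRD

variable {A : Type u} [CommRing A] [IsDomain A] (B : Type u) [CommRing B] [Algebra A B]
  [Algebra.FiniteType A B]

/-- Spreading out geometric reducedness of the generic fibre, domain case. -/
theorem exists_ne_zero_forall_isReduced_of_domain
    (h : ∀ (K : Type u) [Field K] [Algebra A K], Function.Injective (algebraMap A K) →
      IsReduced (K ⊗[A] B)) :
    ∃ a : A, a ≠ 0 ∧ ∀ (L : Type u) [Field L] [Algebra A L], IsUnit (algebraMap A L a) →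
      IsReduced (L ⊗[A] B) := by
  classical
  let K := FractionRing A
  let C := K ⊗[A] B
  -- geometric reducedness of the generic fibre
  haveI hgr : Algebra.IsGeometricallyReduced K C := by
    rw [Algebra.isGeometricallyReduced_field_iff]
    haveI : IsReduced (AlgebraicClosure K ⊗[A] B) := h (AlgebraicClosure K) (by
      rw [IsScalarTower.algebraMap_eq A K (AlgebraicClosure K)]
      exact (algebraMap K (AlgebraicClosure K)).injective.comp (IsFractionRing.injective A K))
    let e : AlgebraicClosure K ⊗[K] C ≃ₐ[AlgebraicClosure K] AlgebraicClosure K ⊗[A] B :=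
      Algebra.TensorProduct.cancelBaseChange A K (AlgebraicClosure K) (AlgebraicClosure K) B
    exact isReduced_of_injective e.toRingHom e.injective
  haveI : IsNoetherianRing C := Algebra.FiniteType.isNoetherianRing K C
  haveI : IsReduced C := Algebra.isReduced_of_isGeometricallyReduced K
  obtain ⟨J, hJ, hsm⟩ := exists_ideal_smooth_away K C
  obtain ⟨g, hgJ, hgmin⟩ := exists_mem_notMem_minimalPrimes J hJ
  -- descend `g` to `B`
  obtain ⟨⟨g₀, s⟩, hs⟩ := IsLocalizedModule.surj (nonZeroDivisors A) (TensorProduct.mk A K B 1) g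
  replace hs : s • g = (1 : K) ⊗ₜ[A] g₀ := hs
  have hsu : IsUnit (algebraMap A K (s : A)) := IsLocalization.map_units K s
  have hg' : (1 : K) ⊗ₜ[A] g₀ = algebraMap K C (algebraMap A K (s : A)) * g := by
    rw [← hs, Submonoid.smul_def, ← algebraMap_smul K]
    exact Algebra.smul_def (R := K) (A := C) _ _
  have hg'J : (1 : K) ⊗ₜ[A] g₀ ∈ J := by rw [hg']; exact J.mul_mem_left _ hgJ
  have hg'min : ∀ P ∈ minimalPrimes C, (1 : K) ⊗ₜ[A] g₀ ∉ P := by
    intro P hP hmem
    haveI := Ideal.minimalPrimes_isPrime hP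
    rw [hg'] at hmem
    rcases Ideal.IsPrime.mem_or_mem inferInstance hmem with h1 | h1
    · exact (Ideal.IsPrime.ne_top inferInstance) (Ideal.eq_top_of_isUnit_mem _ h1 (hsu.map _))
    · exact hgmin P hP h1
  haveI hsm' : Algebra.Smooth K (Localization.Away ((1 : K) ⊗ₜ[A] g₀)) := hsm _ hg'J
  have hnzd : ∀ c : C, ((1 : K) ⊗ₜ[A] g₀) * c = 0 → c = 0 := fun c hc =>
    eq_zero_of_mul_eq_zero_of_notMem_minimalPrimes hg'min hc
  -- the localization `B₁ = B[1/g₀]`
  haveI : IsLocalization ((Submonoid.powers g₀).map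
      (Algebra.TensorProduct.includeRight (R := A) (A := K)))
      (Localization.Away ((1 : K) ⊗ₜ[A] g₀)) := by
    have h0 : (Submonoid.powers g₀).map (Algebra.TensorProduct.includeRight (R := A) (A := K)) =
        Submonoid.powers ((1 : K) ⊗ₜ[A] g₀) := by
      rw [Submonoid.map_powers]
      rfl
    rw [h0]
    exact Localization.isLocalization
  let e₁ := IsLocalization.tensorProductEquivOfMapIncludeRight A K (Submonoid.powers g₀)
    (Localization.Away g₀) (Localization.Away ((1 : K) ⊗ₜ[A] g₀))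
  have hfs : Algebra.FormallySmooth K (K ⊗[A] Localization.Away g₀) :=
    Algebra.FormallySmooth.of_equiv e₁.symm
  obtain ⟨a₁, ha₁, hred₁⟩ :=
    exists_ne_zero_forall_isReduced_of_formallySmooth (A := A) (Localization.Away g₀) hfs
  obtain ⟨a₂, ha₂, hnz₂⟩ := exists_ne_zero_forall_mul_eq_zero_imp g₀ hnzd
  refine ⟨a₁ * a₂, mul_ne_zero ha₁ ha₂, ?_⟩
  intro L _ _ hL
  rw [map_mul, IsUnit.mul_iff] at hL
  haveI := hred₁ L hL.1
  exact isReduced_tensor_of_isReduced_away B g₀ L (hnz₂ L hL.2)

end GRD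

section GRG

variable {A : Type u} [CommRing A] (η : Ideal A) [η.IsPrime]
  (hη : ∀ q : Ideal A, q.IsPrime → η ≤ q) (B : Type u) [CommRing B] [Algebra A B]
  [Algebra.FiniteType A B]
include hη

/-- Spreading out geometric reducedness of the generic fibre: `η` is a prime contained in all
primes of `A`. -/
theorem exists_notMem_forall_isReduced
    (h : ∀ (K : Type u) [Field K] [Algebra A K], RingHom.ker (algebraMap A K) = η →
      IsReduced (K ⊗[A] B)) :
    ∃ a ∉ η, ∀ (L : Type u) [Field L] [Algebra A L], IsUnit (algebraMap A L a) →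
      IsReduced (L ⊗[A] B) := by
  classical
  let A' := A ⧸ η
  let B' := A' ⊗[A] B
  obtain ⟨a', ha', hall⟩ := exists_ne_zero_forall_isReduced_of_domain (A := A') B' (by
    intro K _ _ hinj
    letI : Algebra A K := ((algebraMap A' K).comp (Ideal.Quotient.mk η)).toAlgebra
    haveI : IsScalarTower A A' K := IsScalarTower.of_algebraMap_eq' rfl
    have hker : RingHom.ker (algebraMap A K) = η := by
      ext x
      rw [RingHom.mem_ker, RingHom.algebraMap_toAlgebra, RingHom.comp_apply,
        map_eq_zero_iff _ hinj, Ideal.Quotient.eq_zero_iff_mem]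
    haveI := h K hker
    let e : K ⊗[A'] B' ≃ₐ[K] K ⊗[A] B := Algebra.TensorProduct.cancelBaseChange A A' K K B
    exact isReduced_of_injective e.toRingHom e.injective)
  obtain ⟨a, rfl⟩ := Ideal.Quotient.mk_surjective a'
  refine ⟨a, fun hmem => ha' (Ideal.Quotient.eq_zero_iff_mem.mpr hmem), ?_⟩
  intro L _ _ hL
  have hle : ∀ x ∈ η, algebraMap A L x = 0 := fun x hx =>
    hη _ (RingHom.ker_isPrime (algebraMap A L)) hx
  letI : Algebra A' L := (Ideal.Quotient.lift η (algebraMap A L) hle).toAlgebra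
  haveI : IsScalarTower A A' L := IsScalarTower.of_algebraMap_eq' (by
    ext r
    rw [RingHom.algebraMap_toAlgebra, RingHom.comp_apply]
    exact (Ideal.Quotient.lift_mk η (algebraMap A L) hle).symm)
  have hL' : IsUnit (algebraMap A' L (Ideal.Quotient.mk η a)) := by
    rw [RingHom.algebraMap_toAlgebra, Ideal.Quotient.lift_mk]
    exact hL
  haveI := hall L hL'
  let e : L ⊗[A'] B' ≃ₐ[L] L ⊗[A] B := Algebra.TensorProduct.cancelBaseChange A A' L L B
  exact isReduced_of_injective e.symm.toRingHom e.symm.injective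

end GRG

end Groth.Agent.Lib.Helper6.GeomRedGen
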