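import Mathlib
import Groth.Agent.Lib.Helper6GeomRedGen2
import Groth.Agent.Lib.Helper6GenNonRedSch2

set_option autoImplicit false
universe u

namespace Groth.Agent.Lib.Helper6.GeomRedGen

open AlgebraicGeometry CategoryTheory CategoryTheory.Limits TopologicalSpace
open Groth.Agent.Lib.Helper6.GenNonRedSch
open scoped TensorProduct

section affbase

variable {A : Type u} [CommRing A]

/-- Affine base: spreading out reducedness of the pullbacks to field points over `η`. -/
theorem exists_notMem_forall_isReduced_pullback (η : Ideal A) [η.IsPrime]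
    (hη : ∀ q : Ideal A, q.IsPrime → η ≤ q) {X' : Scheme.{u}} (f' : X' ⟶ Spec (CommRingCat.of A))
    [LocallyOfFiniteType f'] [QuasiCompact f']
    (h : ∀ (K : Type u) [Field K] [Algebra A K], RingHom.ker (algebraMap A K) = η →
      IsReduced (pullback f' (Spec.map (CommRingCat.ofHom (algebraMap A K))))) :
    ∃ a ∉ η, ∀ (L : Type u) [Field L] [Algebra A L], IsUnit (algebraMap A L a) →
      IsReduced (pullback f' (Spec.map (CommRingCat.ofHom (algebraMap A L)))) := by
  classical
  haveI : CompactSpace X' := QuasiCompact.compactSpace_of_compactSpace f'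
  -- finite subcover
  obtain ⟨t, ht⟩ := isCompact_univ.elim_finite_subcover
    (fun i : X'.affineOpenCover.I₀ => Set.range (X'.affineOpenCover.f i))
    (fun i => by
      haveI : IsOpenImmersion (X'.affineOpenCover.f i) := X'.affineOpenCover.map_prop i
      exact (X'.affineOpenCover.f i).isOpenEmbedding.isOpen_range)
    (fun x _ => Set.mem_iUnion.mpr ⟨X'.affineOpenCover.idx x, X'.affineOpenCover.covers x⟩)
  -- ring-level choice
  have key : ∀ i : X'.affineOpenCover.I₀, ∃ a ∉ η, ∀ (L : Type u) [Field L] [Algebra A L],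
      IsUnit (algebraMap A L a) →
      letI : Algebra A (X'.affineOpenCover.X i) :=
        (Spec.preimage (X'.affineOpenCover.f i ≫ f')).hom.toAlgebra
      _root_.IsReduced (L ⊗[A] X'.affineOpenCover.X i) := by
    intro i
    letI : Algebra A (X'.affineOpenCover.X i) :=
      (Spec.preimage (X'.affineOpenCover.f i ≫ f')).hom.toAlgebra
    haveI : Algebra.FiniteType A (X'.affineOpenCover.X i) := finiteType_affineOpenCover f' i
    exact exists_notMem_forall_isReduced η hη (X'.affineOpenCover.X i)
      (fun K _ _ hK => (isReduced_pullback_Spec_iff f' K).mp (h K hK) i)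
  choose a ha hred using key
  refine ⟨∏ i ∈ t, a i, ?_, ?_⟩
  · intro hmem
    obtain ⟨i, -, hi⟩ := (Ideal.IsPrime.prod_mem_iff).mp hmem
    exact ha i hi
  · intro L _ _ hL
    have hLi : ∀ i ∈ t, IsUnit (algebraMap A L (a i)) := by
      rw [map_prod] at hL
      exact IsUnit.prod_iff.mp hL
    let s₀ := Spec.map (CommRingCat.ofHom (algebraMap A L))
    let 𝒲 : X'.OpenCover := Scheme.Cover.mkOfCovers t (fun i => Spec (X'.affineOpenCover.X i.1))
      (fun i => X'.affineOpenCover.f i.1)
      (fun x => by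
        have hx : x ∈ ⋃ i ∈ t, Set.range (X'.affineOpenCover.f i) := ht (Set.mem_univ x)
        simp only [Set.mem_iUnion] at hx
        obtain ⟨i, hi, y, hy⟩ := hx
        exact ⟨⟨i, hi⟩, y, hy⟩) (fun i => X'.affineOpenCover.map_prop i.1)
    let 𝒱 := Scheme.Pullback.openCoverOfLeft 𝒲 f' s₀
    haveI : ∀ j, IsReduced (𝒱.X j) := fun j =>
      (isReduced_pullback_iff_of_Spec (X'.affineOpenCover.f j.1 ≫ f') L).mpr
        (hred j.1 L (hLi j.1 j.2))
    exact IsReduced.of_openCover _ 𝒱

end affbase

section main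

open Groth.Agent.Lib.Helper10.DVRFibre

variable {X Y : Scheme.{u}}

/-- If the generic fibre of a morphism of finite type to an irreducible scheme is geometrically
reduced, then the morphism is geometrically reduced over a nonempty open of the target. -/
theorem geometricallyReduced_near_generic_point (f : X ⟶ Y) [IrreducibleSpace ↑Y]
    [LocallyOfFiniteType f] [QuasiCompact f]
    (h : GeometricallyReduced (f.fiberToSpecResidueField (genericPoint ↑Y))) :
    ∃ V : Y.Opens, (V : Set ↑Y).Nonempty ∧ GeometricallyReduced (f ∣_ V) := by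
  have hpt : ∀ (K : Type u) [Field K] (s : Spec (CommRingCat.of K) ⟶ Y),
      (∀ p, s p = genericPoint Y) → IsReduced (pullback f s) := by
    intro K _ s hs
    by_contra hnr
    exact not_geometricallyReduced_of_nr f _ ⟨K, inferInstance, s, hs, hnr⟩ h
  obtain ⟨V₀, hV₀, hηV₀⟩ := exists_affineOpen_mem (genericPoint Y)
  let g : Spec (CommRingCat.of Γ(Y, V₀)) ⟶ Y := hV₀.fromSpec
  let f' : pullback f g ⟶ Spec (CommRingCat.of Γ(Y, V₀)) := pullback.snd f g
  obtain ⟨η', hη'⟩ : ∃ η' : Spec (CommRingCat.of Γ(Y, V₀)), g η' = genericPoint Y := by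
    have : genericPoint Y ∈ Set.range g := by
      rw [hV₀.range_fromSpec]; exact hηV₀
    exact this
  have hgen : ∀ q : PrimeSpectrum Γ(Y, V₀), η' ⤳ q := by
    intro q
    have : g η' ⤳ g q := by
      rw [hη']; exact genericPoint_specializes _
    exact (g.isOpenEmbedding.isInducing.specializes_iff).mp this
  obtain ⟨a, ha, hall⟩ := exists_notMem_forall_isReduced_pullback (A := Γ(Y, V₀))
    (η' : PrimeSpectrum Γ(Y, V₀)).asIdeal
    (fun q hq => (PrimeSpectrum.le_iff_specializes η' ⟨q, hq⟩).mpr (hgen ⟨q, hq⟩)) f'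
    (fun K _ _ hK => by
      apply (isReduced_pullback_comp_iff f g _).mpr
      apply hpt
      intro p
      rw [Scheme.Hom.comp_apply, ← hη']
      congr 1
      apply PrimeSpectrum.ext
      rw [Spec_map_apply_of_field K p, hK])
  -- the open
  let U : (Spec (CommRingCat.of Γ(Y, V₀))).Opens := PrimeSpectrum.basicOpen a
  let j : (U : Scheme) ⟶ Y := U.ι ≫ g
  haveI : IsOpenImmersion j := inferInstance
  refine ⟨j.opensRange, ⟨j ⟨η', ha⟩, ⟨_, rfl⟩⟩, ?_⟩
  rw [MorphismProperty.arrow_mk_iso_iff @GeometricallyReduced (morphismRestrictOpensRange f j)]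
  rw [geometricallyReduced_iff]
  intro K _ y Z fst snd hpb
  have e : Z ≅ pullback (pullback.snd f j) y := hpb.isoPullback
  suffices IsReduced (pullback (pullback.snd f j) y) from isReduced_of_isOpenImmersion e.hom
  rw [isReduced_pullback_comp_iff f j y]
  obtain ⟨ψ, hψ⟩ := Spec.map_surjective (y ≫ U.ι)
  letI : Algebra Γ(Y, V₀) K := ψ.hom.toAlgebra
  have hψ' : ψ = CommRingCat.ofHom (algebraMap Γ(Y, V₀) K) := rfl
  have hyj : y ≫ j = Spec.map (CommRingCat.ofHom (algebraMap Γ(Y, V₀) K)) ≫ g := by
    rw [← hψ', hψ, Category.assoc]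
  rw [hyj, ← isReduced_pullback_comp_iff f g _]
  apply hall K
  let pt : Spec (CommRingCat.of K) := IsLocalRing.closedPoint K
  have hmem : (y ≫ U.ι) pt ∈ U := by
    rw [Scheme.Hom.comp_apply]
    exact (y pt).2
  have hnot : a ∉ RingHom.ker (algebraMap Γ(Y, V₀) K) := by
    rw [← Spec_map_apply_of_field K pt, ← hψ', hψ]
    exact hmem
  have hne : algebraMap Γ(Y, V₀) K a ≠ 0 := fun h0 => hnot (RingHom.mem_ker.mpr h0)
  exact hne.isUnit

end main

end Groth.Agent.Lib.Helper6.GeomRedGen
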