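import Mathlib
import Groth.Agent.Lib.Helper6GeomRedGen3
import Groth.Agent.Lib.Helper5LocusGeneric

set_option autoImplicit false
universe u

namespace Groth.Agent.Lib.Helper6.GeomRedConstr

open AlgebraicGeometry CategoryTheory CategoryTheory.Limits TopologicalSpace Topology
open Groth.Agent.Lib.Helper6.GenNonRedSch
open scoped TensorProduct

variable {X Y : Scheme.{u}}

/-- The locus of points of the target with geometrically reduced fibre. -/
def GR (f : X ⟶ Y) : Set Y := {y | GeometricallyReduced (f.fiberToSpecResidueField y)}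

theorem mem_GR_iff (f : X ⟶ Y) (y : Y) : y ∈ GR f ↔ ¬ NR f y := by
  constructor
  · intro h hnr
    exact not_geometricallyReduced_of_nr f y hnr h
  · intro h
    by_contra hcon
    exact h (nr_of_not_geometricallyReduced f y hcon)

/-- Reducedness descends along a field extension of the base. -/
theorem isReduced_of_isReduced_pullback_field {K : Type u} [Field K] {W : Scheme.{u}}
    (h : W ⟶ Spec (CommRingCat.of K)) (Ω : Type u) [Field Ω] [Algebra K Ω]
    (hred : IsReduced (pullback h (Spec.map (CommRingCat.ofHom (algebraMap K Ω))))) :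
    IsReduced W := by
  rw [isReduced_pullback_Spec_iff h Ω] at hred
  haveI : ∀ i, IsReduced (W.affineOpenCover.openCover.X i) := by
    intro i
    letI : Algebra K (W.affineOpenCover.X i) :=
      (Spec.preimage (W.affineOpenCover.f i ≫ h)).hom.toAlgebra
    haveI := hred i
    haveI : _root_.IsReduced (W.affineOpenCover.X i) :=
      isReduced_of_injective
        (Algebra.TensorProduct.includeRight (R := K) (A := Ω) (B := W.affineOpenCover.X i))
        (Algebra.TensorProduct.includeRight_injective (algebraMap K Ω).injective)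
    exact (affine_isReduced_iff (W.affineOpenCover.X i)).2 inferInstance
  exact IsReduced.of_openCover _ W.affineOpenCover.openCover

theorem isReduced_pullback_iff_of_isPullback {X' Y' : Scheme.{u}} {f : X ⟶ Y} {g : Y' ⟶ Y}
    {g' : X' ⟶ X} {f' : X' ⟶ Y'} (h : IsPullback g' f' f g) {T : Scheme.{u}} (s' : T ⟶ Y') :
    IsReduced (pullback f' s') ↔ IsReduced (pullback f (s' ≫ g)) := by
  have h1 : IsPullback (pullback.fst f' s' ≫ g') (pullback.snd f' s') f (s' ≫ g) :=
    (IsPullback.of_hasPullback f' s').paste_horiz h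
  let e : pullback f' s' ≅ pullback f (s' ≫ g) := h1.isoPullback
  exact ⟨fun _ => isReduced_of_isOpenImmersion e.inv, fun _ => isReduced_of_isOpenImmersion e.hom⟩

/-- The locus of geometrically reduced fibres is compatible with arbitrary base change. -/
theorem GR_eq_preimage {X' Y' : Scheme.{u}} {f : X ⟶ Y} {g : Y' ⟶ Y}
    {g' : X' ⟶ X} {f' : X' ⟶ Y'} (h : IsPullback g' f' f g) : GR f' = g ⁻¹' GR f := by
  ext y'
  constructor
  · intro hy'
    show g y' ∈ GR f
    rw [mem_GR_iff] at hy' ⊢
    rintro ⟨K, _, s, hs, hnr⟩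
    apply hy'
    obtain ⟨⟨y₀, φ⟩, rfl⟩ := (Scheme.SpecToEquivOfField K Y).symm.surjective s
    have hy : y₀ = g y' := by
      have := hs (IsLocalRing.closedPoint K)
      simpa [Scheme.SpecToEquivOfField, Scheme.fromSpecResidueField_apply] using this
    subst hy
    simp only [Scheme.SpecToEquivOfField, Equiv.coe_fn_symm_mk] at hnr hs
    let ψ := g.residueFieldMap y'
    letI : Algebra (Y.residueField (g y')) K := φ.hom.toAlgebra
    letI : Algebra (Y.residueField (g y')) (Y'.residueField y') := ψ.hom.toAlgebra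
    let T := K ⊗[Y.residueField (g y')] (Y'.residueField y')
    obtain ⟨m, hm⟩ := Ideal.exists_maximal T
    let Ω := T ⧸ m
    letI : Field Ω := Ideal.Quotient.field m
    let a : K →+* Ω := (Ideal.Quotient.mk m).comp
      (Algebra.TensorProduct.includeLeftRingHom (R := Y.residueField (g y')) (A := K)
        (B := Y'.residueField y'))
    let b : Y'.residueField y' →+* Ω := (Ideal.Quotient.mk m).comp
      (Algebra.TensorProduct.includeRight (R := Y.residueField (g y')) (A := K)
        (B := Y'.residueField y')).toRingHom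
    have hab : a.comp φ.hom = b.comp ψ.hom := by
      ext x
      show Ideal.Quotient.mk m ((φ.hom x) ⊗ₜ[Y.residueField (g y')] (1 : Y'.residueField y')) =
        Ideal.Quotient.mk m ((1 : K) ⊗ₜ[Y.residueField (g y')] (ψ.hom x))
      congr 1
      have h1 : φ.hom x = algebraMap (Y.residueField (g y')) K x := rfl
      have h2 : ψ.hom x = algebraMap (Y.residueField (g y')) (Y'.residueField y') x := rfl
      rw [h1, h2, Algebra.algebraMap_eq_smul_one, Algebra.algebraMap_eq_smul_one,
        TensorProduct.smul_tmul]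
    letI : Algebra K Ω := a.toAlgebra
    let s' : Spec (CommRingCat.of Ω) ⟶ Y' :=
      Spec.map (CommRingCat.ofHom b) ≫ Y'.fromSpecResidueField y'
    have hs'g : s' ≫ g = Spec.map (CommRingCat.ofHom (algebraMap K Ω)) ≫
        (Spec.map φ ≫ Y.fromSpecResidueField (g y')) := by
      show (Spec.map (CommRingCat.ofHom b) ≫ Y'.fromSpecResidueField y') ≫ g = _
      rw [Category.assoc, ← Scheme.Hom.SpecMap_residueFieldMap_fromSpecResidueField,
        ← Category.assoc, ← Category.assoc, ← Spec.map_comp, ← Spec.map_comp]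
      congr 2
      ext x
      exact (DFunLike.congr_fun hab x).symm
    refine ⟨Ω, inferInstance, s', fun p => ?_, fun hred => hnr ?_⟩
    · show (Spec.map (CommRingCat.ofHom b) ≫ Y'.fromSpecResidueField y') p = y'
      rw [Scheme.Hom.comp_apply, Scheme.fromSpecResidueField_apply]
    · rw [isReduced_pullback_iff_of_isPullback h s', hs'g,
        ← isReduced_pullback_comp_iff f (Spec.map φ ≫ Y.fromSpecResidueField (g y'))
          (Spec.map (CommRingCat.ofHom (algebraMap K Ω)))] at hred
      exact isReduced_of_isReduced_pullback_field _ Ω hred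
  · intro hy'
    have hy'' : GeometricallyReduced (f.fiberToSpecResidueField (g y')) := hy'
    have hpb := isPullback_fiberToSpecResidueField_of_isPullback h y'
    exact MorphismProperty.of_isPullback (P := @GeometricallyReduced) hpb hy''

/-- The locus can be computed on an open cover of the source. -/
theorem GR_eq_iInter (f : X ⟶ Y) (𝒰 : X.OpenCover) : GR f = ⋂ i, GR (𝒰.f i ≫ f) := by
  ext y
  simp only [Set.mem_iInter, mem_GR_iff]
  constructor
  · rintro h i ⟨K, _, s, hs, hnr⟩
    apply h
    refine ⟨K, inferInstance, s, hs, fun hred => hnr ?_⟩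
    let 𝒱 := Scheme.Pullback.openCoverOfLeft 𝒰 f s
    haveI : IsOpenImmersion (𝒱.f i) := 𝒱.map_prop i
    have h1 : IsReduced (𝒱.X i) := isReduced_of_isOpenImmersion (𝒱.f i)
    exact h1
  · rintro h ⟨K, _, s, hs, hnr⟩
    apply hnr
    let 𝒱 := Scheme.Pullback.openCoverOfLeft 𝒰 f s
    haveI : ∀ i, IsReduced (𝒱.X i) := fun i => by
      by_contra hcon
      exact h i ⟨K, inferInstance, s, hs, hcon⟩
    exact IsReduced.of_openCover _ 𝒱

theorem mem_GR_of_geometricallyReduced_restrict (f : X ⟶ Y) (V : Y.Opens)
    (h : GeometricallyReduced (f ∣_ V)) {y : Y} (hy : y ∈ V) : y ∈ GR f := by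
  have hbc := GR_eq_preimage (isPullback_morphismRestrict f V).flip
  have h1 : (⟨y, hy⟩ : V) ∈ GR (f ∣_ V) :=
    MorphismProperty.pullback_snd (P := @GeometricallyReduced) _ _ h
  rw [hbc] at h1
  exact h1

/-- Noetherian affine base. -/
theorem isConstructible_GR_of_isNoetherianRing {A : CommRingCat.{u}} [IsNoetherianRing A]
    {X : Scheme.{u}} (f : X ⟶ Spec A) [LocallyOfFiniteType f] [QuasiCompact f] :
    IsConstructible (GR f) := by
  haveI : NoetherianSpace ↥(Spec A) := inferInstanceAs (NoetherianSpace (PrimeSpectrum A))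
  refine Groth.Agent.Lib.Helper5.LocusGeneric.isConstructible_of_forall_irreducible
    (id : Spec A → Spec A) (GR f) fun Z hZc hZi => ?_
  haveI h𝔭 : (PrimeSpectrum.vanishingIdeal (Z : Set (PrimeSpectrum A))).IsPrime :=
    PrimeSpectrum.isIrreducible_iff_vanishingIdeal_isPrime.mp hZi
  set 𝔭 : Ideal A := PrimeSpectrum.vanishingIdeal (Z : Set (PrimeSpectrum A)) with h𝔭def
  have hZ : PrimeSpectrum.zeroLocus (𝔭 : Set A) = Z := by
    rw [h𝔭def, PrimeSpectrum.zeroLocus_vanishingIdeal_eq_closure]
    exact hZc.closure_eq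
  let i : Spec (CommRingCat.of (A ⧸ 𝔭)) ⟶ Spec A :=
    Spec.map (CommRingCat.ofHom (Ideal.Quotient.mk 𝔭))
  have hemb : Topology.IsClosedEmbedding i :=
    PrimeSpectrum.isClosedEmbedding_comap_of_surjective _ _ Ideal.Quotient.mk_surjective
  have hrange : Set.range i = Z := by
    have := _root_.range_comap_of_surjective (A ⧸ 𝔭) (Ideal.Quotient.mk 𝔭)
      Ideal.Quotient.mk_surjective
    rw [Ideal.mk_ker, hZ] at this
    exact this
  haveI : IrreducibleSpace ↥(Spec (CommRingCat.of (A ⧸ 𝔭))) :=
    inferInstanceAs (IrreducibleSpace (PrimeSpectrum (A ⧸ 𝔭)))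
  let f₁ : pullback f i ⟶ Spec (CommRingCat.of (A ⧸ 𝔭)) := pullback.snd f i
  have hbc : GR f₁ = i ⁻¹' GR f := GR_eq_preimage (IsPullback.of_hasPullback f i)
  -- a nonempty open of `Spec (A ⧸ 𝔭)` on which the locus is everything or nothing
  obtain ⟨V₁, hV₁ne, hV₁⟩ : ∃ V₁ : (Spec (CommRingCat.of (A ⧸ 𝔭))).Opens,
      (V₁ : Set ↥(Spec (CommRingCat.of (A ⧸ 𝔭)))).Nonempty ∧
      ((∀ y ∈ V₁, y ∈ GR f₁) ∨ (∀ y ∈ V₁, y ∉ GR f₁)) := by
    by_cases hgen : GeometricallyReduced (f₁.fiberToSpecResidueField (genericPoint _))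
    · obtain ⟨V₁, hV₁ne, hV₁⟩ := GeomRedGen.geometricallyReduced_near_generic_point f₁ hgen
      exact ⟨V₁, hV₁ne, Or.inl fun y hy => mem_GR_of_geometricallyReduced_restrict f₁ V₁ hV₁ hy⟩
    · obtain ⟨V₁, hV₁ne, hV₁⟩ := not_geometricallyReduced_fibre_near_generic_point f₁ hgen
      exact ⟨V₁, hV₁ne, Or.inr hV₁⟩
  obtain ⟨U, hUo, hUV⟩ := hemb.isInducing.isOpen_iff.mp V₁.2
  refine ⟨U, hUo, ?_, ?_⟩
  · obtain ⟨y, hy⟩ := hV₁ne
    refine ⟨i y, ?_, ?_⟩
    · rw [← hrange]; exact ⟨y, rfl⟩
    · have : y ∈ i ⁻¹' U := by rw [hUV]; exact hy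
      exact this
  · have hZU : IsConstructible (Z ∩ U) := by
      apply IsConstructible.inter
      · rw [← isConstructible_compl]
        exact Groth.Agent.Lib.Helper5.LocusGeneric.IsOpen.isConstructible_of_noetherianSpace
          hZc.isOpen_compl
      · exact Groth.Agent.Lib.Helper5.LocusGeneric.IsOpen.isConstructible_of_noetherianSpace hUo
    rcases hV₁ with hall | hnone
    · have : GR f ∩ id ⁻¹' (Z ∩ U) = Z ∩ U := by
        ext x
        simp only [Set.mem_inter_iff, Set.mem_preimage, id_eq, and_iff_right_iff_imp]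
        rintro ⟨hxZ, hxU⟩
        rw [← hrange] at hxZ
        obtain ⟨y, rfl⟩ := hxZ
        have hy : y ∈ V₁ := by
          have : y ∈ i ⁻¹' U := hxU
          rwa [hUV] at this
        have := hall y hy
        rw [hbc] at this
        exact this
      rw [this]
      exact hZU
    · have : GR f ∩ id ⁻¹' (Z ∩ U) = ∅ := by
        ext x
        simp only [Set.mem_inter_iff, Set.mem_preimage, id_eq, Set.mem_empty_iff_false, iff_false,
          not_and]
        rintro hx hxZ hxU
        rw [← hrange] at hxZ
        obtain ⟨y, rfl⟩ := hxZ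
        have hy : y ∈ V₁ := by
          have : y ∈ i ⁻¹' U := hxU
          rwa [hUV] at this
        apply hnone y hy
        rw [hbc]
        exact hx
      rw [this]
      exact IsConstructible.empty

/-- Affine source and target. -/
theorem isConstructible_GR_of_isAffine {X Y : Scheme.{u}} [IsAffine X] [IsAffine Y] (f : X ⟶ Y)
    [LocallyOfFinitePresentation f] : IsConstructible (GR f) := by
  obtain ⟨A₀, B₀, φ₀, xZ, yZ, hA₀, hφ₀, hpb⟩ :=
    Groth.Agent.Lib.Helper5.LocusGeneric.exists_int_model f
  rw [GR_eq_preimage hpb]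
  haveI : IsNoetherianRing A₀ := Algebra.FiniteType.isNoetherianRing ℤ A₀
  haveI : LocallyOfFinitePresentation (Spec.map φ₀) := by
    rwa [LocallyOfFinitePresentation.SpecMap_iff]
  exact yZ.isConstructible_preimage (isConstructible_GR_of_isNoetherianRing (Spec.map φ₀))

/-- Affine target. -/
theorem isConstructible_GR_of_isAffine_target {X Y : Scheme.{u}} [IsAffine Y] (f : X ⟶ Y)
    [QuasiCompact f] [LocallyOfFinitePresentation f] : IsConstructible (GR f) := by
  haveI : CompactSpace X := QuasiCompact.compactSpace_of_compactSpace f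
  rw [GR_eq_iInter f X.affineCover.finiteSubcover]
  apply IsConstructible.iInter
  intro i
  exact isConstructible_GR_of_isAffine (X.affineCover.finiteSubcover.f i ≫ f)

/-- For a quasi-compact morphism locally of finite presentation, the locus of points of the target
with geometrically reduced fibre is locally constructible. -/
theorem isLocallyConstructible_GR {X Y : Scheme.{u}} (f : X ⟶ Y) [QuasiCompact f]
    [LocallyOfFinitePresentation f] : IsLocallyConstructible (GR f) := by
  have hU : IsOpenCover (fun V : Y.affineOpens => (V : Y.Opens)) := iSup_affineOpens_eq_top Y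
  refine IsLocallyConstructible.of_isOpenCover hU fun V => ?_
  apply IsConstructible.isLocallyConstructible
  haveI : IsAffine ((V : Y.Opens) : Scheme) := V.2
  have h1 : IsConstructible (GR (f ∣_ (V : Y.Opens))) :=
    isConstructible_GR_of_isAffine_target (f ∣_ (V : Y.Opens))
  rw [GR_eq_preimage (isPullback_morphismRestrict f (V : Y.Opens)).flip] at h1
  exact h1

end Groth.Agent.Lib.Helper6.GeomRedConstr
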