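import Mathlib
import Groth.Agent.Lib.Helper22GPtC
import Groth.Agent.Lib.Helper22GI12
import Groth.Agent.Lib.Helper2GeomFibBC
import Groth.Agent.S1301

set_option autoImplicit false
set_option linter.style.haveILetI false
set_option linter.unusedSectionVars false
set_option linter.unusedVariables false
universe u
open CategoryTheory CategoryTheory.Limits AlgebraicGeometry

namespace Groth.Agent.Lib.Helper22.GPtD

open Groth.Agent.Lib.Helper22.GPtA Groth.Agent.Lib.Helper22.GPtB Groth.Agent.Lib.Helper22.GPtC

section field

variable {k : Type u} [Field k] {Z : Scheme.{u}} (φ : Z ⟶ Spec (CommRingCat.of k))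

/-- the base change to an algebraic closure of the separable closure, as a base change of the
base change to the separable closure. -/
theorem exists_isPullback_bc_algClosure :
    ∃ p : FBase.bc φ (AlgebraicClosure (SeparableClosure k)) ⟶
        pullback φ (Spec.map (CommRingCat.ofHom (algebraMap k (SeparableClosure k)))),
      IsPullback p (FBase.bcStr φ (AlgebraicClosure (SeparableClosure k)))
        (pullback.snd φ (Spec.map (CommRingCat.ofHom (algebraMap k (SeparableClosure k)))))
        (Spec.map (CommRingCat.ofHom
          (algebraMap (SeparableClosure k) (AlgebraicClosure (SeparableClosure k))))) := by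
  let Ω := AlgebraicClosure (SeparableClosure k)
  let j₁ := Spec.map (CommRingCat.ofHom (algebraMap k (SeparableClosure k)))
  let j₂ := Spec.map (CommRingCat.ofHom (algebraMap (SeparableClosure k) Ω))
  have hj : Spec.map (CommRingCat.ofHom (algebraMap k Ω)) = j₂ ≫ j₁ := by
    rw [← Spec.map_comp]
    congr 1
  have hbig : IsPullback (FBase.bcπ φ Ω) (FBase.bcStr φ Ω) φ (j₂ ≫ j₁) := by
    rw [← hj]
    exact IsPullback.of_hasPullback _ _
  let p : FBase.bc φ Ω ⟶ pullback φ j₁ :=
    pullback.lift (FBase.bcπ φ Ω) (FBase.bcStr φ Ω ≫ j₂) (by rw [Category.assoc]; exact hbig.w)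
  refine ⟨p, ?_⟩
  refine IsPullback.of_right ?_ (pullback.lift_snd _ _ _) (IsPullback.of_hasPullback φ j₁)
  rw [pullback.lift_fst]
  exact hbig

end field

/-- the locus in the base of geometrically pointwise integral fibres: geometrically reduced, and
as many geometric irreducible components as geometric connected components. -/
theorem forall_geomPtIntegral_fibre_iff {X S : Scheme.{u}} (f : X ⟶ S) [LocallyOfFiniteType f]
    [QuasiCompact f] (s : S) :
    (∀ x : ↥(f.fiber s), FBase.IsGeomPtIntegralAt (f.fiberToSpecResidueField s) x) ↔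
      (GeometricallyReduced (f.fiberToSpecResidueField s) ∧
        MoreMor.nGeomIrredComp f s = MoreMor.nGeomConnComp f s) := by
  let k := IsLocalRing.ResidueField (S.presheaf.stalk s)
  let φ : f.fiber s ⟶ Spec (CommRingCat.of k) := f.fiberToSpecResidueField s
  let Ω := AlgebraicClosure (SeparableClosure k)
  haveI : LocallyOfFiniteType φ := by
    show LocallyOfFiniteType (f.fiberToSpecResidueField s)
    infer_instance
  haveI : QuasiCompact φ := by
    show QuasiCompact (f.fiberToSpecResidueField s)
    infer_instance
  obtain ⟨p, hp⟩ := exists_isPullback_bc_algClosure φ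
  have h1 : (irreducibleComponents ↥(FBase.bc φ Ω)).encard = MoreMor.nGeomIrredComp f s :=
    Groth.Agent.Lib.Helper2.GeomFibBC.encard_irreducibleComponents_eq_of_isPullback
      (SeparableClosure k) Ω p _ _ hp
  have h2 : ENat.card (_root_.ConnectedComponents ↥(FBase.bc φ Ω)) = MoreMor.nGeomConnComp f s :=
    Groth.Agent.Lib.Helper2.GeomFibBC.card_connectedComponents_eq_of_isPullback
      (SeparableClosure k) Ω p _ _ hp
  have := geomPtIntegral_iff φ Ω
  rw [h1, h2] at this
  exact this

section cons

/-- the indicator function of the locus where the two geometric numbers of components agree -/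
noncomputable def ν {X Y : Scheme.{u}} (f : X ⟶ Y) (y : Y) : ℕ∞ :=
  open Classical in
  if MoreMor.nGeomIrredComp f y = MoreMor.nGeomConnComp f y then 1 else 0

theorem ν_eq_one_iff {X Y : Scheme.{u}} (f : X ⟶ Y) (y : Y) :
    ν f y = 1 ↔ MoreMor.nGeomIrredComp f y = MoreMor.nGeomConnComp f y := by
  unfold ν
  split_ifs with h
  · simp [h]
  · simp [h]

/-- the locus where the geometric numbers of irreducible and of connected components of the fibres
agree is locally constructible. -/
theorem isLocallyConstructible_nGeomIrredComp_eq_nGeomConnComp {X Y : Scheme.{u}} (f : X ⟶ Y)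
    [LocallyOfFinitePresentation f] [QuasiCompact f] [QuasiSeparated f] :
    Topology.IsLocallyConstructible
      {y : Y | MoreMor.nGeomIrredComp f y = MoreMor.nGeomConnComp f y} := by
  have h := Groth.Agent.Lib.Helper22.GI.isLocallyConstructible_eq_of_baseChange
    (fun {X Y} f y => ν f y) ?_ ?_ 1 f
  · have heq : {y : Y | ν f y = 1} =
        {y : Y | MoreMor.nGeomIrredComp f y = MoreMor.nGeomConnComp f y} := by
      ext y
      exact ν_eq_one_iff f y
    rw [← heq]
    exact h
  · intro X Y X' Y' f f' g' g hc y'
    unfold ν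
    rw [Groth.Agent.Lib.Helper2.GeomFibBC.nGeomIrredComp_eq f f' g' g hc y',
      Groth.Agent.Lib.Helper2.GeomFibBC.nGeomConnComp_eq f f' g' g hc y']
  · intro A _ _ X f _ _ η₀ hη₀
    obtain ⟨a, ha, hA⟩ := Groth.Agent.Lib.Helper22.GI.exists_ne_zero_forall_nGeomIrredComp_eq f η₀ hη₀
    obtain ⟨b, hb, hB⟩ := Groth.Agent.Lib.Helper22.GI.exists_ne_zero_forall_nGeomConnComp_eq f η₀ hη₀
    refine ⟨a * b, mul_ne_zero ha hb, ?_⟩
    intro y hy
    have hya : a ∉ y.asIdeal := fun h => hy (Ideal.mul_mem_right _ _ h)
    have hyb : b ∉ y.asIdeal := fun h => hy (Ideal.mul_mem_left _ _ h)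
    unfold ν
    rw [hA y hya, hB y hyb]

/-- **EGA IV 9.7.?** (statement S4838): the locus of geometrically pointwise integral fibres of a
morphism of finite presentation is locally constructible. -/
theorem isLocallyConstructible_geomPtIntegral_fibre {X S : Scheme.{u}} (f : X ⟶ S)
    [LocallyOfFinitePresentation f] [QuasiCompact f] [QuasiSeparated f] :
    Topology.IsLocallyConstructible {s : S |
      ∀ x : ↥(f.fiber s), FBase.IsGeomPtIntegralAt (f.fiberToSpecResidueField s) x} := by
  have heq : {s : S | ∀ x : ↥(f.fiber s),
      FBase.IsGeomPtIntegralAt (f.fiberToSpecResidueField s) x} =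
      {s : S | GeometricallyReduced (f.fiberToSpecResidueField s)} ∩
        {s : S | MoreMor.nGeomIrredComp f s = MoreMor.nGeomConnComp f s} := by
    ext s
    exact forall_geomPtIntegral_fibre_iff f s
  rw [heq]
  exact (Groth.Agent.S1301.result f).inter (isLocallyConstructible_nGeomIrredComp_eq_nGeomConnComp f)

end cons

end Groth.Agent.Lib.Helper22.GPtD
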