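import Mathlib
import Groth.Agent.Lib.Helper22GPtD
import Groth.Agent.Lib.Helper22GI9
import Groth.Agent.S9735

set_option autoImplicit false
set_option linter.style.haveILetI false
set_option linter.unusedSectionVars false
set_option linter.unusedVariables false
universe u
open CategoryTheory CategoryTheory.Limits AlgebraicGeometry

namespace Groth.Agent.Lib.Helper22.GPtE

open Groth.Agent.Lib.Helper22.GPtA Groth.Agent.Lib.Helper22.GPtB Groth.Agent.Lib.Helper22.GPtC
  Groth.Agent.Lib.Helper22.GPtD Groth.Agent.Lib.Helper22.GI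

section field

variable {k : Type u} [Field k] {Z : Scheme.{u}} (φ : Z ⟶ Spec (CommRingCat.of k))

/-- the local ring at a geometrically pointwise integral point is a domain. -/
theorem isDomain_stalk_of_geomPtIntegral (x : Z) (h : FBase.IsGeomPtIntegralAt φ x) :
    IsDomain (Z.presheaf.stalk x) := by
  haveI hiso : IsIso (Spec.map (CommRingCat.ofHom (algebraMap k k))) := by
    have : CommRingCat.ofHom (algebraMap k k) = 𝟙 (CommRingCat.of k) := rfl
    rw [this, Spec.map_id]
    infer_instance
  haveI : IsIso (FBase.bcπ φ k) :=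
    (IsPullback.of_hasPullback φ (Spec.map (CommRingCat.ofHom (algebraMap k k)))).isIso_fst_of_isIso
  obtain ⟨x', rfl⟩ := (FBase.bcπ φ k).homeomorph.surjective x
  have hx' : ((FBase.bcπ φ k).homeomorph x') = (FBase.bcπ φ k).base x' := rfl
  rw [hx'] at h ⊢
  haveI := h k x' rfl
  have e : Z.presheaf.stalk ((FBase.bcπ φ k).base x') ≅ (FBase.bc φ k).presheaf.stalk x' :=
    asIso ((FBase.bcπ φ k).stalkMap x')
  exact e.commRingCatIsoToRingEquiv.toMulEquiv.isDomain _

/-- **descent from a finite extension**: if `φ` is geometrically reduced and after base change to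
an extension `k'` the scheme is locally irreducible with geometrically irreducible irreducible
components, then `φ` is geometrically pointwise integral. -/
theorem geomPtIntegral_of_locIrr_ext [GeometricallyReduced φ] (k' : Type u) [Field k']
    [Algebra k k']
    (hgi : ∀ (T : Set ↥(pullback φ (gpt k k')))
      (hT : T ∈ irreducibleComponents ↥(pullback φ (gpt k k'))),
      GeometricallyIrreducible
        ((Scheme.IdealSheafData.vanishingIdeal
          ⟨T, isClosed_of_mem_irreducibleComponents T hT⟩).subschemeι ≫
            pullback.snd φ (gpt k k')))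
    (hloc : LocIrr ↥(pullback φ (gpt k k'))) (x : Z) :
    FBase.IsGeomPtIntegralAt φ x := by
  let Ω := AlgebraicClosure k'
  have hred : IsReduced (FBase.bc φ Ω) :=
    (inferInstance : GeometricallyReduced φ).geometrically_isReduced
      (Spec.map (CommRingCat.ofHom (algebraMap k Ω)))
      (FBase.bcπ φ Ω) (FBase.bcStr φ Ω) (IsPullback.of_hasPullback _ _)
  refine geomPtIntegral_of_locIrr φ Ω hred ?_ x
  let π : pullback φ (gpt k Ω) ⟶ pullback φ (gpt k k') := towerMap φ k' Ω
  have hsq := isPullback_towerMap φ k' Ω
  intro w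
  let T : Set ↥(pullback φ (gpt k k')) := connectedComponent (π.base w)
  have hT : T ∈ irreducibleComponents ↥(pullback φ (gpt k k')) := by
    rw [hloc.irreducibleComponents_eq]
    exact ⟨_, rfl⟩
  have hTo : IsOpen T := hloc.isOpen_connectedComponent _
  have hirr := isIrreducible_preimage_of_geometricallyIrreducible hsq _ (hgi T hT)
  rw [range_subschemeι_vanishingIdeal] at hirr
  exact ⟨π.base ⁻¹' T, hTo.preimage π.continuous, mem_connectedComponent, hirr.isPreirreducible⟩

end field

/-- the locus of geometrically pointwise integral fibres commutes with base change. -/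
theorem geomPtIntegral_fibre_preimage {X Y X' Y' : Scheme.{u}} (f : X ⟶ Y) (g : Y' ⟶ Y)
    (f' : X' ⟶ Y') (g' : X' ⟶ X) (hc : IsPullback g' f' f g) [LocallyOfFiniteType f]
    [QuasiCompact f] :
    {y' : Y' | ∀ x : ↥(f'.fiber y'), FBase.IsGeomPtIntegralAt (f'.fiberToSpecResidueField y') x} =
      g ⁻¹' {y : Y | ∀ x : ↥(f.fiber y),
        FBase.IsGeomPtIntegralAt (f.fiberToSpecResidueField y) x} := by
  haveI : LocallyOfFiniteType f' :=
    MorphismProperty.of_isPullback (P := @LocallyOfFiniteType) hc inferInstance
  haveI : QuasiCompact f' :=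
    MorphismProperty.of_isPullback (P := @QuasiCompact) hc inferInstance
  ext y'
  have h1 := Set.ext_iff.mp (Groth.Agent.S9735.result f g f' g' hc) y'
  simp only [Set.mem_ofPred_eq, Set.mem_preimage] at h1 ⊢
  rw [forall_geomPtIntegral_fibre_iff f' y', forall_geomPtIntegral_fibre_iff f (g y'), h1,
    Groth.Agent.Lib.Helper2.GeomFibBC.nGeomIrredComp_eq f f' g' g hc y',
    Groth.Agent.Lib.Helper2.GeomFibBC.nGeomConnComp_eq f f' g' g hc y']

end Groth.Agent.Lib.Helper22.GPtE
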