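import Mathlib
import Groth.Agent.Lib.Helper22GPtE
import Groth.Agent.Lib.Helper22GIntH
import Groth.Agent.S1654

set_option autoImplicit false
set_option linter.style.haveILetI false
set_option linter.unusedSectionVars false
set_option linter.unusedVariables false
universe u
open CategoryTheory CategoryTheory.Limits AlgebraicGeometry

namespace Groth.Agent.Lib.Helper22.GPtF

open Groth.Agent.Lib.Helper22.GPtA Groth.Agent.Lib.Helper22.GPtB Groth.Agent.Lib.Helper22.GPtC
  Groth.Agent.Lib.Helper22.GPtD Groth.Agent.Lib.Helper22.GPtE Groth.Agent.Lib.Helper22.GI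
  Groth.Agent.Lib.Helper22.GIntB Groth.Agent.Lib.Helper22.GIntD Groth.Agent.Lib.Helper22.GIntE

/-- **the total space of a proper flat family over a discrete valuation ring whose closed fibre
has only domains as local rings is locally irreducible.** -/
theorem locIrr_of_proper_flat_dvr (V : Type u) [CommRing V] [IsDomain V]
    [IsDiscreteValuationRing V] {W : Scheme.{u}} (p : W ⟶ Spec (CommRingCat.of V)) [IsProper p]
    [Flat p]
    (hs : ∀ x : W, p.base x = (IsLocalRing.closedPoint V : PrimeSpectrum V) →
      IsDomain ((p.fiber (p.base x)).presheaf.stalk (p.asFiber x))) : LocIrr W := by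
  let s : ↥(Spec (CommRingCat.of V)) := (IsLocalRing.closedPoint V : PrimeSpectrum V)
  haveI : IsLocallyNoetherian W := LocallyOfFiniteType.isLocallyNoetherian p
  have hsp : ∀ y : ↥(Spec (CommRingCat.of V)), y ⤳ s := fun y =>
    IsLocalRing.specializes_closedPoint (R := V) y
  intro x'
  have hcl : IsClosed (p.base '' closure {x'}) := p.isClosedMap _ isClosed_closure
  have : s ∈ p.base '' closure {x'} :=
    (hsp (p.base x')).mem_closed hcl ⟨x', subset_closure rfl, rfl⟩
  obtain ⟨x, hxcl, hx⟩ := this
  have hspec : x' ⤳ x := specializes_iff_mem_closure.mpr hxcl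
  have hdom : IsDomain (W.presheaf.stalk x) :=
    isDomain_stalk_of_isIntegral_fiber V p x hx (hs x hx)
  obtain ⟨U, hUo, hxU, hUirr⟩ := exists_isOpen_isPreirreducible_of_isDomain_stalk x hdom
  exact ⟨U, hUo, hspec.mem_open hUo hxU, hUirr⟩

/-- local irreducibility is invariant under isomorphisms of schemes. -/
theorem locIrr_of_iso {A B : Scheme.{u}} (e : A ≅ B) (h : LocIrr A) : LocIrr B :=
  LocIrr.of_isOpenEmbedding e.inv.homeomorph.isOpenEmbedding h

/-- **generization of geometric pointwise integrality**: over a locally Noetherian base, for a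
proper flat morphism, a generization of a point with geometrically pointwise integral fibre has
geometrically pointwise integral fibre. -/
theorem geomPtIntegral_fibre_of_specializes {X Y : Scheme.{u}} [IsLocallyNoetherian Y]
    (f : X ⟶ Y) [IsProper f] [Flat f] {y z : Y} (h : z ⤳ y)
    (hy : ∀ x : ↥(f.fiber y), FBase.IsGeomPtIntegralAt (f.fiberToSpecResidueField y) x) :
    ∀ x : ↥(f.fiber z), FBase.IsGeomPtIntegralAt (f.fiberToSpecResidueField z) x := by
  by_cases hne : z = y
  · subst hne
    exact hy
  haveI : LocallyOfFinitePresentation f :=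
    LocallyOfFinitePresentation.iff_locallyOfFiniteType.mpr inferInstance
  -- the fibre over `z` is geometrically reduced
  have hGRy : GeometricallyReduced (f.fiberToSpecResidueField y) :=
    geometricallyReduced_of_geomPtIntegral
      (k := IsLocalRing.ResidueField (Y.presheaf.stalk y)) (f.fiberToSpecResidueField y) hy
  have hGRz : GeometricallyReduced (f.fiberToSpecResidueField z) :=
    h.mem_open (Groth.Agent.Lib.Helper6.GRProper.isOpen_geometricallyReduced_fibre f) hGRy
  -- a finite separable extension making the components of the fibre geometrically irreducible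
  let k := IsLocalRing.ResidueField (Y.presheaf.stalk z)
  let φz : f.fiber z ⟶ Spec (CommRingCat.of k) := f.fiberToSpecResidueField z
  letI : (f.fiber z).Over (Spec (CommRingCat.of k)) := ⟨φz⟩
  haveI : LocallyOfFiniteType ((f.fiber z) ↘ Spec (CommRingCat.of k)) := by
    show LocallyOfFiniteType (f.fiberToSpecResidueField z)
    infer_instance
  haveI : IsNoetherian (f.fiber z) := by
    haveI : LocallyOfFiniteType φz := by
      show LocallyOfFiniteType (f.fiberToSpecResidueField z)
      infer_instance
    haveI : QuasiCompact φz := by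
      show QuasiCompact (f.fiberToSpecResidueField z)
      infer_instance
    haveI : IsLocallyNoetherian (f.fiber z) := LocallyOfFiniteType.isLocallyNoetherian φz
    haveI : CompactSpace ↥(f.fiber z) := QuasiCompact.compactSpace_of_compactSpace φz
    exact { }
  obtain ⟨k', _, _, hfin, hsep, hgi⟩ := Groth.Agent.S1654.result k (f.fiber z)
    TopologicalSpace.NoetherianSpace.finite_irreducibleComponents
  -- a discrete valuation ring through `z ⤳ y` with fraction field `k'`
  let φ : Y.residueField z ⟶ CommRingCat.of k' := CommRingCat.ofHom (algebraMap k k')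
  have hφ : φ.hom.EssFiniteType := by
    have h1 : (algebraMap k k').Finite := RingHom.finite_algebraMap.mpr hfin
    exact h1.finiteType.essFiniteType
  obtain ⟨V, hV, g, hg1, hg2⟩ :=
    Groth.Agent.Lib.Helper4.DVRSch.exists_dvr_hom (L := k') h hne φ hφ
  haveI := hV
  let p := pullback.snd f g
  -- the total space is locally irreducible
  have hW : LocIrr ↥(pullback f g) := by
    refine locIrr_of_proper_flat_dvr V p ?_
    intro x hx
    have hloc := geomPtIntegral_fibre_preimage f g p (pullback.fst f g)
      (IsPullback.of_hasPullback f g)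
    have hmem : p.base x ∈ g ⁻¹' {y : Y | ∀ x : ↥(f.fiber y),
        FBase.IsGeomPtIntegralAt (f.fiberToSpecResidueField y) x} := by
      show ∀ x' : ↥(f.fiber (g.base (p.base x))),
        FBase.IsGeomPtIntegralAt (f.fiberToSpecResidueField (g.base (p.base x))) x'
      rw [hx]
      have : g.base ((IsLocalRing.closedPoint V : PrimeSpectrum V) :
          ↥(Spec (CommRingCat.of V))) = y := hg2
      rw [this]
      exact hy
    rw [← hloc] at hmem
    exact isDomain_stalk_of_geomPtIntegral
      (k := IsLocalRing.ResidueField ((Spec (CommRingCat.of V)).presheaf.stalk (p.base x)))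
      (p.fiberToSpecResidueField (p.base x)) _ (hmem (p.asFiber x))
  -- the generic fibre
  let j := Spec.map (CommRingCat.ofHom (algebraMap V k'))
  haveI : IsOpenImmersion j := isOpenImmersion_generic V k'
  have hgen : LocIrr ↥(pullback p j) :=
    LocIrr.of_isOpenEmbedding (pullback.fst p j).isOpenEmbedding hW
  have hj : j ≫ g = Spec.map φ ≫ Y.fromSpecResidueField z := hg1
  let e1 : pullback p j ≅ pullback f (j ≫ g) := pullbackLeftPullbackSndIso f g j
  let e2 : pullback f (j ≫ g) ≅ pullback f (Spec.map φ ≫ Y.fromSpecResidueField z) :=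
    pullback.congrHom rfl hj
  let e3 : pullback (pullback.snd f (Y.fromSpecResidueField z)) (Spec.map φ) ≅
      pullback f (Spec.map φ ≫ Y.fromSpecResidueField z) :=
    pullbackLeftPullbackSndIso f (Y.fromSpecResidueField z) (Spec.map φ)
  have hloc' : LocIrr ↥(pullback φz (gpt k k')) := locIrr_of_iso (e1 ≪≫ e2 ≪≫ e3.symm) hgen
  haveI : GeometricallyReduced φz := hGRz
  exact geomPtIntegral_of_locIrr_ext φz k' hgi hloc'

end Groth.Agent.Lib.Helper22.GPtF
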