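import Mathlib
import Groth.Agent.Lib.Helper22GPtF

set_option autoImplicit false
set_option linter.style.haveILetI false
set_option linter.unusedSectionVars false
set_option linter.unusedVariables false
universe u
open CategoryTheory CategoryTheory.Limits AlgebraicGeometry

namespace Groth.Agent.Lib.Helper22.GPtG

open Groth.Agent.Lib.Helper22.GPtD Groth.Agent.Lib.Helper22.GPtE Groth.Agent.Lib.Helper22.GPtF

/-- **Noetherian case**: for a proper flat morphism to a locally Noetherian scheme, the locus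
of points of the base with geometrically pointwise integral fibre is open. -/
theorem isOpen_geomPtIntegral_fibre_of_isLocallyNoetherian {X Y : Scheme.{u}}
    [IsLocallyNoetherian Y] (f : X ⟶ Y) [IsProper f] [Flat f] :
    IsOpen {y : Y | ∀ x : ↥(f.fiber y),
      FBase.IsGeomPtIntegralAt (f.fiberToSpecResidueField y) x} := by
  haveI : LocallyOfFinitePresentation f :=
    LocallyOfFinitePresentation.iff_locallyOfFiniteType.mpr inferInstance
  rw [isOpen_iff_mem_nhds]
  intro y hy
  exact Groth.Agent.Lib.Helper22.LscD.mem_nhds_of_isLocallyConstructible _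
    (isLocallyConstructible_geomPtIntegral_fibre f) y
    (fun z hz => geomPtIntegral_fibre_of_specializes f hz hy)

/-- **EGA IV 12.2.4 (vii)**: for a proper flat finitely presented morphism, the locus
of points of the base with geometrically pointwise integral fibre is open. -/
theorem isOpen_geomPtIntegral_fibre {X Y : Scheme.{u}}
    (f : X ⟶ Y) [IsProper f] [Flat f] [LocallyOfFinitePresentation f] :
    IsOpen {y : Y | ∀ x : ↥(f.fiber y),
      FBase.IsGeomPtIntegralAt (f.fiberToSpecResidueField y) x} := by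
  rw [isOpen_iff_mem_nhds]
  intro y hy
  obtain ⟨U, hU, hyU, -⟩ :=
    exists_isAffineOpen_mem_and_subset (x := y) (U := (⊤ : Y.Opens)) trivial
  haveI : IsAffine U := hU
  obtain ⟨X₀, Y₀, f₀, g, p, hN, hP, hF, hpb⟩ :=
    Groth.Agent.Lib.Helper21.TBridge.exists_noetherian_model (f ∣_ U)
  haveI := hN
  haveI := hP
  haveI := hF
  have h0 := isOpen_geomPtIntegral_fibre_of_isLocallyNoetherian f₀
  have h1 : IsOpen {u : ↥(U.toScheme) | ∀ x : ↥((f ∣_ U).fiber u),
      FBase.IsGeomPtIntegralAt ((f ∣_ U).fiberToSpecResidueField u) x} := by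
    rw [geomPtIntegral_fibre_preimage f₀ g (f ∣_ U) p hpb]
    exact h0.preimage g.continuous
  have h2 : {u : ↥(U.toScheme) | ∀ x : ↥((f ∣_ U).fiber u),
      FBase.IsGeomPtIntegralAt ((f ∣_ U).fiberToSpecResidueField u) x} =
      U.ι ⁻¹' {y : Y | ∀ x : ↥(f.fiber y),
        FBase.IsGeomPtIntegralAt (f.fiberToSpecResidueField y) x} :=
    geomPtIntegral_fibre_preimage f U.ι (f ∣_ U) (f ⁻¹ᵁ U).ι (isPullback_morphismRestrict f U).flip
  rw [h2] at h1
  have h3 : IsOpen (U.ι '' (U.ι ⁻¹' {y : Y | ∀ x : ↥(f.fiber y),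
      FBase.IsGeomPtIntegralAt (f.fiberToSpecResidueField y) x})) :=
    U.ι.isOpenEmbedding.isOpenMap _ h1
  refine Filter.mem_of_superset (h3.mem_nhds ⟨⟨y, hyU⟩, hy, rfl⟩) ?_
  rintro _ ⟨u, hu, rfl⟩
  exact hu

end Groth.Agent.Lib.Helper22.GPtG
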