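import Mathlib

/-!
# Helper22: homogeneous prime avoidance in positive degree

`𝒜` an ℕ-grading of a commutative ring `A`, `I` a homogeneous ideal contained in the irrelevant
ideal, `P` a finite set of (not necessarily homogeneous) prime ideals none of which contains `I`.
Then there is a homogeneous `x ∈ I` of positive degree outside every member of `P`.
-/

set_option autoImplicit false

namespace Groth.Agent.Lib.Helper22.GrAvoid

variable {R A : Type*} [CommRing R] [CommRing A] [Algebra R A] (𝒜 : ℕ → Submodule R A)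
  [GradedRing 𝒜]

theorem exists_single (I : Ideal A) (hIh : I.IsHomogeneous 𝒜)
    (hI : I ≤ (HomogeneousIdeal.irrelevant 𝒜).toIdeal) (p : Ideal A) (h : ¬ I ≤ p) :
    ∃ (x : A) (d : ℕ), 0 < d ∧ x ∈ 𝒜 d ∧ x ∈ I ∧ x ∉ p := by
  classical
  obtain ⟨z, hzI, hzp⟩ := Set.not_subset.mp h
  by_contra hcon
  push Not at hcon
  apply hzp
  rw [← DirectSum.sum_support_decompose 𝒜 z]
  apply Ideal.sum_mem
  intro d _
  by_cases hd : d = 0
  · subst hd
    have hz : z ∈ HomogeneousIdeal.irrelevant 𝒜 := hI hzI
    rw [HomogeneousIdeal.mem_irrelevant_iff, GradedRing.proj_apply] at hz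
    rw [hz]
    exact Ideal.zero_mem _
  · exact hcon _ d (Nat.pos_of_ne_zero hd) (SetLike.coe_mem _) (hIh d hzI)

theorem exists_homogeneous_avoid (I : Ideal A) (hIh : I.IsHomogeneous 𝒜)
    (hI : I ≤ (HomogeneousIdeal.irrelevant 𝒜).toIdeal) (P : Finset (Ideal A))
    (hP : ∀ p ∈ P, p.IsPrime ∧ ¬ I ≤ p) :
    ∃ (x : A) (d : ℕ), 0 < d ∧ x ∈ 𝒜 d ∧ x ∈ I ∧ ∀ p ∈ P, x ∉ p := by
  classical
  induction P using Finset.strongInduction with
  | H P ih =>
    rcases P.eq_empty_or_nonempty with rfl | ⟨q, hq⟩
    · exact ⟨0, 1, one_pos, zero_mem _, zero_mem _, by simp⟩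
    · by_cases hE : P.erase q = ∅
      · obtain ⟨x, d, hd, hxd, hxI, hxq⟩ := exists_single 𝒜 I hIh hI q (hP q hq).2
        refine ⟨x, d, hd, hxd, hxI, fun p hp => ?_⟩
        have : p = q := by
          by_contra hne
          have : p ∈ P.erase q := Finset.mem_erase.mpr ⟨hne, hp⟩
          rw [hE] at this
          simp at this
        rw [this]
        exact hxq
      · have key : ∀ p ∈ P, ∃ (x : A) (d : ℕ), 0 < d ∧ x ∈ 𝒜 d ∧ x ∈ I ∧
            ∀ p' ∈ P.erase p, x ∉ p' := fun p hp =>
          ih (P.erase p) (Finset.erase_ssubset hp)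
            (fun p' hp' => hP p' (Finset.mem_of_mem_erase hp'))
        choose! x d hd hxd hxI hxa using key
        by_cases hex : ∃ p ∈ P, x p ∉ p
        · obtain ⟨p, hp, hxp⟩ := hex
          refine ⟨x p, d p, hd p hp, hxd p hp, hxI p hp, fun p' hp' => ?_⟩
          by_cases h : p' = p
          · rw [h]; exact hxp
          · exact hxa p hp p' (Finset.mem_erase.mpr ⟨h, hp'⟩)
        · push Not at hex
          obtain ⟨p0, hp0⟩ := Finset.nonempty_iff_ne_empty.mpr hE
          have hp0P : p0 ∈ P := Finset.mem_of_mem_erase hp0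
          set y := ∏ p ∈ P.erase q, x p with hy
          set a := ∑ p ∈ P.erase q, d p with ha'
          have hya : y ∈ 𝒜 a :=
            SetLike.prod_mem_graded 𝒜 d x (fun p hp => hxd p (Finset.mem_of_mem_erase hp))
          have ha : 0 < a :=
            lt_of_lt_of_le (hd p0 hp0P)
              (Finset.single_le_sum (f := d) (fun _ _ => Nat.zero_le _) hp0)
          have hb : 0 < d q := hd q hq
          have hyI : y ∈ I := Ideal.prod_mem I hp0 (hxI p0 hp0P)
          refine ⟨y ^ d q + x q ^ a, a * d q, Nat.mul_pos ha hb, ?_, ?_, ?_⟩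
          · apply Submodule.add_mem
            · have := SetLike.pow_mem_graded (d q) hya
              rwa [smul_eq_mul, mul_comm] at this
            · have := SetLike.pow_mem_graded a (hxd q hq)
              rwa [smul_eq_mul] at this
          · exact Ideal.add_mem _ (Ideal.pow_mem_of_mem _ hyI _ hb)
              (Ideal.pow_mem_of_mem _ (hxI q hq) _ ha)
          · intro p hp
            haveI hpp : p.IsPrime := (hP p hp).1
            by_cases h : p = q
            · intro hmem
              have h1 : x q ^ a ∈ p := by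
                rw [h]; exact Ideal.pow_mem_of_mem _ (hex q hq) _ ha
              have h2 : y ^ d q ∈ p := (Ideal.add_mem_iff_left _ h1).mp hmem
              have h3 : y ∈ p := hpp.mem_of_pow_mem _ h2
              obtain ⟨p', hp', hxp'⟩ := (Ideal.IsPrime.prod_mem_iff).mp h3
              rw [h] at hxp'
              exact hxa p' (Finset.mem_of_mem_erase hp') q
                (Finset.mem_erase.mpr ⟨(Finset.ne_of_mem_erase hp').symm, hq⟩) hxp'
            · intro hmem
              have hyp : y ∈ p := Ideal.prod_mem p (Finset.mem_erase.mpr ⟨h, hp⟩) (hex p hp)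
              have h1 : y ^ d q ∈ p := Ideal.pow_mem_of_mem _ hyp _ hb
              have h2 : x q ^ a ∈ p := (Ideal.add_mem_iff_right _ h1).mp hmem
              have h3 := hpp.mem_of_pow_mem _ h2
              exact hxa q hq p (Finset.mem_erase.mpr ⟨h, hp⟩) h3

end Groth.Agent.Lib.Helper22.GrAvoid
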