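import Mathlib
import Groth.Agent.Lib.Helper5NilFlat

/-!
# Flatness over a ring with a nilpotent ideal from injectivity of `gr(A) ⊗ M/IM → gr(M)` (helper22)
-/

open TensorProduct

universe u

namespace Groth.Agent.Lib.Helper22.GrFlat

variable {A : Type u} [CommRing A] (I : Ideal A) (M : Type u) [AddCommGroup M] [Module A M]

/-- inclusion `I^(n+1) → I^n`. -/
def incl (n : ℕ) : ↥(I ^ (n + 1)) →ₗ[A] ↥(I ^ n) :=
  Submodule.inclusion (Ideal.pow_le_pow_right (Nat.le_succ n))

theorem subtype_comp_incl (n : ℕ) :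
    (Submodule.subtype (I ^ n)) ∘ₗ incl I n = Submodule.subtype (I ^ (n + 1)) := rfl

variable {G : ℕ → Type u} [∀ n, AddCommGroup (G n)] [∀ n, Module A (G n)]
  (π : ∀ n, ↥(I ^ n) →ₗ[A] G n)

theorem smul_tmul_mem_range (n : ℕ) (m : M) (hm : m ∈ I • (⊤ : Submodule A M)) (a : ↥(I ^ n)) :
    m ⊗ₜ[A] a ∈ LinearMap.range ((incl I n).lTensor M) := by
  refine Submodule.smul_induction_on hm (fun b hb m' _ => ?_) (fun x y hx hy => ?_)
  · have hba : b * (a : A) ∈ I ^ (n + 1) := by
      rw [pow_succ']
      exact Ideal.mul_mem_mul hb a.2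
    refine ⟨m' ⊗ₜ[A] ⟨b * (a : A), hba⟩, ?_⟩
    rw [LinearMap.lTensor_tmul, TensorProduct.smul_tmul]
    congr 1
  · rw [TensorProduct.add_tmul]
    exact Submodule.add_mem _ hx hy

theorem ker_map_le (n : ℕ) (hπ : Function.Surjective (π n))
    (hker : ∀ a : ↥(I ^ n), π n a = 0 → (a : A) ∈ I ^ (n + 1)) :
    LinearMap.ker (TensorProduct.map (I • (⊤ : Submodule A M)).mkQ (π n)) ≤
      LinearMap.range ((incl I n).lTensor M) := by
  rw [TensorProduct.map_ker (LinearMap.exact_subtype_mkQ _) (Submodule.mkQ_surjective _)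
    (LinearMap.exact_subtype_ker_map (π n)) hπ]
  refine sup_le ?_ ?_
  · rintro _ ⟨y, rfl⟩
    induction y using TensorProduct.induction_on with
    | zero => rw [map_zero]; exact Submodule.zero_mem _
    | tmul m a =>
      refine ⟨m ⊗ₜ[A] ⟨((a : ↥(I ^ n)) : A), hker a a.2⟩, ?_⟩
      rw [LinearMap.lTensor_tmul, LinearMap.lTensor_tmul]
      congr 1
    | add x y hx hy => rw [map_add]; exact Submodule.add_mem _ hx hy
  · rintro _ ⟨y, rfl⟩
    induction y using TensorProduct.induction_on with
    | zero => rw [map_zero]; exact Submodule.zero_mem _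
    | tmul m a =>
      rw [LinearMap.rTensor_tmul]
      exact smul_tmul_mem_range I M n _ m.2 a
    | add x y hx hy => rw [map_add]; exact Submodule.add_mem _ hx hy

/-- Every element of `M ⊗ N` is a finite sum of pure tensors indexed by `Fin k`. -/
theorem exists_fin_sum {N : Type u} [AddCommGroup N] [Module A N] (x : M ⊗[A] N) :
    ∃ (k : ℕ) (m : Fin k → M) (a : Fin k → N), x = ∑ i, m i ⊗ₜ[A] a i := by
  induction x using TensorProduct.induction_on with
  | zero => exact ⟨0, Fin.elim0, Fin.elim0, by simp⟩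
  | tmul m a => exact ⟨1, fun _ => m, fun _ => a, by simp⟩
  | add x y hx hy =>
    obtain ⟨k, m, a, rfl⟩ := hx
    obtain ⟨l, m', a', rfl⟩ := hy
    refine ⟨k + l, Fin.append m m', Fin.append a a', ?_⟩
    rw [Fin.sum_univ_add]
    simp

variable (hπ : ∀ n, Function.Surjective (π n))
  (hker : ∀ n (a : ↥(I ^ n)), π n a = 0 → (a : A) ∈ I ^ (n + 1))
  (hinj : ∀ (n k : ℕ) (a : Fin k → ↥(I ^ n)) (x : Fin k → M),
    (∑ i, ((a i : ↥(I ^ n)) : A) • x i) = 0 →
    (∑ i, π n (a i) ⊗ₜ[A] ((I • (⊤ : Submodule A M)).mkQ (x i))) = 0)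

include hπ hker hinj in
theorem lTensor_pow_injective_of_succ (n : ℕ)
    (h : Function.Injective ((Submodule.subtype (I ^ (n + 1))).lTensor M)) :
    Function.Injective ((Submodule.subtype (I ^ n)).lTensor M) := by
  rw [injective_iff_map_eq_zero]
  intro x hx
  obtain ⟨k, m, a, rfl⟩ := exists_fin_sum M x
  have h0 : (∑ i, ((a i : ↥(I ^ n)) : A) • m i) = 0 := by
    have := congrArg (TensorProduct.rid A M) hx
    simpa [map_sum, LinearMap.lTensor_tmul, TensorProduct.rid_tmul] using this
  have h1 := hinj n k a m h0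
  have hmem : (∑ i, m i ⊗ₜ[A] a i) ∈
      LinearMap.ker (TensorProduct.map (I • (⊤ : Submodule A M)).mkQ (π n)) := by
    rw [LinearMap.mem_ker, map_sum]
    simp only [TensorProduct.map_tmul]
    have := congrArg (TensorProduct.comm A (G n) (M ⧸ I • (⊤ : Submodule A M))) h1
    simpa [map_sum] using this
  obtain ⟨y, hy⟩ := ker_map_le I M π n (hπ n) (hker n) hmem
  have hy0 : y = 0 := by
    apply h
    rw [map_zero, ← subtype_comp_incl, LinearMap.lTensor_comp, LinearMap.comp_apply, hy, hx]
  rw [← hy, hy0, map_zero]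

include hπ hker hinj in
theorem lTensor_pow_injective (hI : IsNilpotent I) (n : ℕ) :
    Function.Injective ((Submodule.subtype (I ^ n)).lTensor M) := by
  obtain ⟨N, hN⟩ := hI
  have key : ∀ d : ℕ, ∀ n, n + d = N → Function.Injective ((Submodule.subtype (I ^ n)).lTensor M) := by
    intro d
    induction d with
    | zero =>
      intro n hn
      have hbot : I ^ n = ⊥ := by
        rw [add_zero] at hn
        rw [hn, hN, Ideal.zero_eq_bot]
      have : Subsingleton ↥(I ^ n) := by
        rw [hbot]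
        infer_instance
      have : Subsingleton (M ⊗[A] ↥(I ^ n)) := inferInstance
      exact Function.injective_of_subsingleton _
    | succ d ih =>
      intro n hn
      exact lTensor_pow_injective_of_succ I M π hπ hker hinj n (ih (n + 1) (by omega))
  by_cases hn : n ≤ N
  · exact key (N - n) n (by omega)
  · have hbot : I ^ n = ⊥ := by
      apply le_bot_iff.mp
      rw [← Ideal.zero_eq_bot, ← hN]
      exact Ideal.pow_le_pow_right (by omega)
    have : Subsingleton ↥(I ^ n) := by
      rw [hbot]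
      infer_instance
    have : Subsingleton (M ⊗[A] ↥(I ^ n)) := inferInstance
    exact Function.injective_of_subsingleton _

include hπ hker hinj in
theorem flat_of_gr_injective (hI : IsNilpotent I)
    (hflat : Module.Flat (A ⧸ I) (M ⧸ (I • (⊤ : Submodule A M)))) : Module.Flat A M := by
  have h1 := lTensor_pow_injective I M π hπ hker hinj hI 1
  have hH1 : Function.Injective ((Submodule.subtype I).lTensor M) := by
    have e : ∀ J : Ideal A, J = I → Function.Injective ((Submodule.subtype J).lTensor M) →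
        Function.Injective ((Submodule.subtype I).lTensor M) := by
      rintro J rfl h
      exact h
    exact e (I ^ 1) (pow_one I) h1
  refine Groth.Agent.Lib.Helper5.flat_of_isNilpotent I hI hH1 ?_
  let e0 : ((A ⧸ I) ⊗[A] M) ≃ₗ[A] (M ⧸ (I • (⊤ : Submodule A M))) :=
    TensorProduct.quotTensorEquivQuotSMul M I
  let e1 : ((A ⧸ I) ⊗[A] M) ≃ₗ[A ⧸ I] (M ⧸ (I • (⊤ : Submodule A M))) :=
    e0.extendScalarsOfSurjective Ideal.Quotient.mk_surjective
  exact Module.Flat.of_linearEquiv e1

end Groth.Agent.Lib.Helper22.GrFlat
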