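import Mathlib

/-! Helper lemmas for the graded ring `S♮` with `S♮_n = S_{≥ n}` (S8277, S8278). -/

set_option autoImplicit false
universe u

namespace Groth.Agent.Lib.Helper22.GradedNat
open DirectSum

variable {R A : Type u} [CommRing R] [CommRing A] [Algebra R A]

/-- `S_{≥ n}`. -/
def Sg (𝒜 : ℕ → Submodule R A) (n : ℕ) : Submodule R A := ⨆ (m : ℕ) (_ : n ≤ m), 𝒜 m

/-- the `R`-linear monomial map. -/
noncomputable def mon (n : ℕ) : A →ₗ[R] Polynomial A :=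
  (Polynomial.monomial n : A →ₗ[A] Polynomial A).restrictScalars R

lemma mon_injective (n : ℕ) : Function.Injective (mon (R := R) (A := A) n) :=
  Polynomial.monomial_injective n

lemma map_mon_mul (a b : ℕ) (P Q : Submodule R A) :
    Submodule.map (mon a) P * Submodule.map (mon b) Q = Submodule.map (mon (a + b)) (P * Q) := by
  apply le_antisymm
  · rw [Submodule.mul_le]
    rintro _ ⟨p, hp, rfl⟩ _ ⟨q, hq, rfl⟩
    refine ⟨p * q, Submodule.mul_mem_mul hp hq, ?_⟩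
    show Polynomial.monomial (a + b) (p * q) = Polynomial.monomial a p * Polynomial.monomial b q
    rw [Polynomial.monomial_mul_monomial]
  · rw [Submodule.map_le_iff_le_comap, Submodule.mul_le]
    intro p hp q hq
    show Polynomial.monomial (a + b) (p * q) ∈ Submodule.map (mon a) P * Submodule.map (mon b) Q
    rw [← Polynomial.monomial_mul_monomial]
    exact Submodule.mul_mem_mul ⟨p, hp, rfl⟩ ⟨q, hq, rfl⟩

lemma map_mon_pow (P : Submodule R A) (n : ℕ) (hn : 1 ≤ n) :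
    Submodule.map (mon 1) P ^ n = Submodule.map (mon n) (P ^ n) := by
  induction n, hn using Nat.le_induction with
  | base => simp
  | succ n hn ih => rw [pow_succ, ih, map_mon_mul, pow_succ]

variable (𝒜 : ℕ → Submodule R A) [GradedAlgebra 𝒜]

omit [GradedAlgebra 𝒜] in
lemma le_Sg {n m : ℕ} (h : n ≤ m) : 𝒜 m ≤ Sg 𝒜 n := le_iSup₂ (f := fun m (_ : n ≤ m) => 𝒜 m) m h

omit [GradedAlgebra 𝒜] in
lemma Sg_anti {n n' : ℕ} (h : n ≤ n') : Sg 𝒜 n' ≤ Sg 𝒜 n :=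
  iSup₂_le fun _ hm => le_Sg 𝒜 (h.trans hm)

lemma graded_mul_le (i j : ℕ) : 𝒜 i * 𝒜 j ≤ 𝒜 (i + j) :=
  Submodule.mul_le.mpr fun _ hx _ hy => SetLike.mul_mem_graded hx hy

omit [GradedAlgebra 𝒜] in
lemma Sg_mul_le_of (a b : ℕ) (T : Submodule R A)
    (h : ∀ i, a ≤ i → ∀ j, b ≤ j → 𝒜 i * 𝒜 j ≤ T) : Sg 𝒜 a * Sg 𝒜 b ≤ T := by
  unfold Sg
  rw [Submodule.iSup_mul]
  refine iSup_le fun i => ?_
  rw [Submodule.iSup_mul]
  refine iSup_le fun hi => ?_
  rw [Submodule.mul_iSup]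
  refine iSup_le fun j => ?_
  rw [Submodule.mul_iSup]
  exact iSup_le fun hj => h i hi j hj

lemma Sg_mul_le (a b : ℕ) : Sg 𝒜 a * Sg 𝒜 b ≤ Sg 𝒜 (a + b) :=
  Sg_mul_le_of 𝒜 a b _ fun i hi j hj => (graded_mul_le 𝒜 i j).trans (le_Sg 𝒜 (by omega))

lemma Sg_succ (n : ℕ) : Sg 𝒜 n = 𝒜 n ⊔ Sg 𝒜 (n + 1) := by
  apply le_antisymm
  · refine iSup₂_le fun m hm => ?_
    rcases Nat.eq_or_lt_of_le hm with h | h
    · subst h; exact le_sup_left
    · exact (le_Sg 𝒜 h).trans le_sup_right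
  · exact sup_le (le_Sg 𝒜 le_rfl) (Sg_anti 𝒜 (Nat.le_succ n))

lemma proj_of_mem {n : ℕ} {x : A} (hx : x ∈ 𝒜 n) : GradedAlgebra.proj 𝒜 n x = x := by
  rw [GradedAlgebra.proj_apply, DirectSum.decompose_of_mem_same 𝒜 hx]

lemma proj_of_mem_ne {n m : ℕ} {x : A} (hx : x ∈ 𝒜 m) (h : m ≠ n) : GradedAlgebra.proj 𝒜 n x = 0 := by
  rw [GradedAlgebra.proj_apply, DirectSum.decompose_of_mem_ne 𝒜 hx h]

lemma proj_Sg {n : ℕ} {x : A} (hx : x ∈ Sg 𝒜 (n + 1)) : GradedAlgebra.proj 𝒜 n x = 0 := by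
  have : Sg 𝒜 (n + 1) ≤ LinearMap.ker (GradedAlgebra.proj 𝒜 n) := by
    refine iSup₂_le fun m hm y hy => ?_
    rw [LinearMap.mem_ker]
    exact proj_of_mem_ne 𝒜 hy (by omega)
  exact this hx

lemma one_le_zero : (1 : Submodule R A) ≤ 𝒜 0 := by
  rw [Submodule.one_eq_span, Submodule.span_le]
  rintro _ rfl
  exact SetLike.GradedOne.one_mem

lemma pow_le (k : ℕ) : 𝒜 1 ^ k ≤ 𝒜 k := by
  induction k with
  | zero => rw [pow_zero]; exact one_le_zero 𝒜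
  | succ k ih =>
    rw [pow_succ]
    exact (mul_le_mul' ih le_rfl).trans (graded_mul_le 𝒜 k 1)

lemma Sg_pow_le (k : ℕ) : Sg 𝒜 1 ^ k ≤ Sg 𝒜 k := by
  induction k with
  | zero => rw [pow_zero]; exact (one_le_zero 𝒜).trans (le_Sg 𝒜 le_rfl)
  | succ k ih =>
    rw [pow_succ]
    exact (mul_le_mul' ih le_rfl).trans (Sg_mul_le 𝒜 k 1)

/-- pure form of S8277. -/
theorem succ_iff (n₀ : ℕ) :
    (∀ n : ℕ, n₀ ≤ n → Sg 𝒜 (n + 1) = Sg 𝒜 1 * Sg 𝒜 n) ↔
      (∀ n : ℕ, n₀ ≤ n → 𝒜 (n + 1) = 𝒜 1 * 𝒜 n) := by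
  constructor
  · intro h n hn
    apply le_antisymm
    · intro x hx
      have hx' : x ∈ Sg 𝒜 1 * Sg 𝒜 n := by
        rw [← h n hn]; exact le_Sg 𝒜 le_rfl hx
      have hle : Sg 𝒜 1 * Sg 𝒜 n ≤
          Submodule.comap (GradedAlgebra.proj 𝒜 (n + 1)) (𝒜 1 * 𝒜 n) := by
        refine Sg_mul_le_of 𝒜 1 n _ fun i hi j hj => ?_
        rw [Submodule.mul_le]
        intro a ha b hb
        rw [Submodule.mem_comap]
        have hab : a * b ∈ 𝒜 (i + j) := SetLike.mul_mem_graded ha hb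
        by_cases hij : i + j = n + 1
        · have hi1 : i = 1 := by omega
          have hjn : j = n := by omega
          subst hi1; subst hjn
          rw [proj_of_mem 𝒜 (by rw [add_comm]; exact hab)]
          exact Submodule.mul_mem_mul ha hb
        · rw [proj_of_mem_ne 𝒜 hab hij]; exact Submodule.zero_mem _
      have := hle hx'
      rwa [Submodule.mem_comap, proj_of_mem 𝒜 hx] at this
    · rw [add_comm n 1]; exact graded_mul_le 𝒜 1 n
  · intro h n hn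
    apply le_antisymm
    · refine iSup₂_le fun m hm => ?_
      obtain ⟨m', rfl⟩ : ∃ m', m = m' + 1 := ⟨m - 1, by omega⟩
      rw [h m' (by omega)]
      exact mul_le_mul' (le_Sg 𝒜 le_rfl) (le_Sg 𝒜 (by omega))
    · rw [add_comm n 1]; exact Sg_mul_le 𝒜 1 n

lemma Sg_pow_le_sup (k : ℕ) : Sg 𝒜 1 ^ k ≤ 𝒜 1 ^ k ⊔ Sg 𝒜 (k + 1) := by
  induction k with
  | zero => rw [pow_zero, pow_zero]; exact le_sup_left
  | succ k ih =>
    rw [pow_succ]
    refine (mul_le_mul' ih le_rfl).trans ?_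
    rw [Submodule.sup_mul]
    refine sup_le ?_ ?_
    · rw [Sg_succ 𝒜 1, Submodule.mul_sup]
      refine sup_le ?_ ?_
      · rw [← pow_succ]; exact le_sup_left
      · refine le_trans ?_ le_sup_right
        refine (mul_le_mul' ((pow_le 𝒜 k).trans (le_Sg 𝒜 le_rfl)) le_rfl).trans ?_
        exact Sg_mul_le 𝒜 k 2
    · exact ((Sg_mul_le 𝒜 (k + 1) 1)).trans le_sup_right

/-- pure form of S8278. -/
theorem pow_iff (n₀ : ℕ) (hn₀ : 1 ≤ n₀) :
    (∀ n : ℕ, n₀ ≤ n → Sg 𝒜 n = Sg 𝒜 1 ^ n) ↔ (∀ n : ℕ, n₀ ≤ n → 𝒜 n = 𝒜 1 ^ n) := by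
  constructor
  · intro h n hn
    apply le_antisymm
    · intro x hx
      have hx' : x ∈ 𝒜 1 ^ n ⊔ Sg 𝒜 (n + 1) := by
        apply Sg_pow_le_sup 𝒜 n
        rw [← h n hn]; exact le_Sg 𝒜 le_rfl hx
      obtain ⟨t, ht, s, hs, rfl⟩ := Submodule.mem_sup.mp hx'
      have h1 := proj_of_mem 𝒜 hx
      rw [map_add, proj_of_mem 𝒜 (pow_le 𝒜 n ht), proj_Sg 𝒜 hs, add_zero] at h1
      rw [← h1]; exact ht
    · exact pow_le 𝒜 n
  · intro h n hn
    apply le_antisymm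
    · refine iSup₂_le fun m hm => ?_
      obtain ⟨n', rfl⟩ : ∃ n', n = n' + 1 := ⟨n - 1, by omega⟩
      rw [h m (by omega)]
      have : m = n' + (m - n') := by omega
      rw [this, pow_add, pow_succ]
      refine mul_le_mul' (pow_le_pow_left' (le_Sg 𝒜 le_rfl) _) ?_
      exact (pow_le 𝒜 _).trans (le_Sg 𝒜 (by omega))
    · exact Sg_pow_le 𝒜 n

end Groth.Agent.Lib.Helper22.GradedNat
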