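import Mathlib
import Groth.Prelude.Def_W4c2conddiscmodels

/-!
# Hirzebruch–Jung continued fractions: numerators/denominators and the Wronskian (helper22)
-/

namespace Groth.Agent.Lib.Helper22.HJ

/-- numerator/denominator pair of an HJ continued fraction, `[] ↦ (1, 0)`. -/
def pq : List ℤ → ℤ × ℤ
  | [] => (1, 0)
  | b :: t => (b * (pq t).1 - (pq t).2, (pq t).1)

theorem pq_nil : pq [] = (1, 0) := rfl

theorem pq_cons (b : ℤ) (t : List ℤ) : pq (b :: t) = (b * (pq t).1 - (pq t).2, (pq t).1) := rfl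

theorem pq_pos : ∀ L : List ℤ, (∀ x ∈ L, 2 ≤ x) → 0 ≤ (pq L).2 ∧ (pq L).2 < (pq L).1
  | [], _ => by simp [pq]
  | b :: t, h => by
    have ih := pq_pos t (fun x hx => h x (List.mem_cons_of_mem _ hx))
    have hb : 2 ≤ b := h b (List.mem_cons_self)
    rw [pq_cons]
    refine ⟨by linarith [ih.1, ih.2], ?_⟩
    show (pq t).1 < b * (pq t).1 - (pq t).2
    nlinarith [ih.1, ih.2]

theorem hjVal_eq : ∀ L : List ℤ, (∀ x ∈ L, 2 ≤ x) →
    HJFrac.hjVal L = ((pq L).1 : ℚ) / ((pq L).2 : ℚ)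
  | [], _ => by simp [pq, HJFrac.hjVal]
  | b :: t, h => by
    have ih := hjVal_eq t (fun x hx => h x (List.mem_cons_of_mem _ hx))
    have hp := pq_pos t (fun x hx => h x (List.mem_cons_of_mem _ hx))
    have hp0 : ((pq t).1 : ℚ) ≠ 0 := by
      have : (0 : ℤ) < (pq t).1 := lt_of_le_of_lt hp.1 hp.2
      exact_mod_cast this.ne'
    rw [HJFrac.hjVal, ih, pq_cons, inv_div]
    push_cast
    field_simp

theorem pq_coprime : ∀ L : List ℤ, IsCoprime (pq L).1 (pq L).2
  | [] => by rw [pq_nil]; exact isCoprime_one_left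
  | b :: t => by
    have ih := pq_coprime t
    rw [pq_cons]
    show IsCoprime (b * (pq t).1 - (pq t).2) (pq t).1
    have h1 : IsCoprime (-(pq t).2) (pq t).1 := ih.symm.neg_left
    have h2 := h1.add_mul_left_left b
    have e : b * (pq t).1 - (pq t).2 = -(pq t).2 + (pq t).1 * b := by ring
    rw [e]
    exact h2

/-- If `n / r` (lowest terms, positive) is the value of an HJ fraction with entries `≥ 2` and
positive length, then `pq` computes `(n, r)`. -/
theorem pq_eq_of_hjVal (L : List ℤ) (hL : ∀ x ∈ L, 2 ≤ x) (hne : L ≠ []) (n r : ℕ) (hr : 0 < r)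
    (hcop : Nat.Coprime r n) (hhj : (n : ℚ) / r = HJFrac.hjVal L) :
    (pq L).1 = n ∧ (pq L).2 = r := by
  obtain ⟨b, t, rfl⟩ := List.exists_cons_of_ne_nil hne
  have hpos := pq_pos (b :: t) hL
  have hq0 : 0 < (pq (b :: t)).2 := by
    rw [pq_cons]
    have := pq_pos t (fun x hx => hL x (List.mem_cons_of_mem _ hx))
    exact lt_of_le_of_lt this.1 this.2
  have hp0 : 0 < (pq (b :: t)).1 := lt_trans hq0 hpos.2
  rw [hjVal_eq _ hL] at hhj
  set p := (pq (b :: t)).1 with hp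
  set q := (pq (b :: t)).2 with hq
  have hqQ : (q : ℚ) ≠ 0 := by exact_mod_cast hq0.ne'
  have hrQ : (r : ℚ) ≠ 0 := by exact_mod_cast hr.ne'
  have hcross : (n : ℤ) * q = p * r := by
    have h1 : (n : ℚ) * q = p * r := by
      field_simp at hhj
      linarith
    exact_mod_cast h1
  have hcopZ : IsCoprime (n : ℤ) (r : ℤ) := (Nat.isCoprime_iff_coprime.mpr hcop).symm
  have hpq : IsCoprime p q := pq_coprime (b :: t)
  have h1 : (n : ℤ) ∣ p := by
    have : (n : ℤ) ∣ p * r := ⟨q, hcross.symm⟩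
    exact hcopZ.dvd_of_dvd_mul_right this
  have h2 : p ∣ (n : ℤ) := by
    have : p ∣ (n : ℤ) * q := ⟨r, hcross⟩
    exact hpq.dvd_of_dvd_mul_right this
  have hpn : p = n := Int.dvd_antisymm hp0.le (Int.natCast_nonneg n) h2 h1
  refine ⟨hpn, ?_⟩
  rw [hpn] at hcross
  have hn0 : (n : ℤ) ≠ 0 := by rw [← hpn]; exact hp0.ne'
  exact mul_left_cancel₀ hn0 hcross

/-- The solution `ρ` of the HJ recurrence with `ρ_{l+1} = 0`, `ρ_l = 1`; it has `ρ_0 = n`,
`ρ_1 = r`. -/
theorem exists_rho (l : ℕ) (hl : 1 ≤ l) (b : ℕ → ℤ) (hb : ∀ i, 1 ≤ i → i ≤ l → 2 ≤ b i)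
    (n r : ℕ) (hr : 0 < r) (hcop : Nat.Coprime r n)
    (hhj : (n : ℚ) / r = HJFrac.hjVal ((List.range l).map fun i => b (i + 1))) :
    ∃ ρ : ℕ → ℤ, ρ 0 = n ∧ ρ 1 = r ∧ ρ l = 1 ∧ ρ (l + 1) = 0 ∧
      ∀ i, 1 ≤ i → i ≤ l → b i * ρ i = ρ (i - 1) + ρ (i + 1) := by
  set L : List ℤ := (List.range l).map fun i => b (i + 1) with hLdef
  have hlen : L.length = l := by simp [hLdef]
  have hL : ∀ x ∈ L, 2 ≤ x := by
    intro x hx
    rw [hLdef, List.mem_map] at hx
    obtain ⟨i, hi, rfl⟩ := hx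
    rw [List.mem_range] at hi
    exact hb (i + 1) (by omega) (by omega)
  have hne : L ≠ [] := by
    intro h0
    rw [h0] at hlen
    simp at hlen
    omega
  obtain ⟨hp, hq⟩ := pq_eq_of_hjVal L hL hne n r hr hcop hhj
  have hdrop : ∀ i, i < l → L.drop i = b (i + 1) :: L.drop (i + 1) := by
    intro i hi
    rw [List.drop_eq_getElem_cons (by rw [hlen]; exact hi)]
    congr 1
    simp [hLdef]
  have hdropl : L.drop l = [] := by
    rw [← hlen]; exact List.drop_length
  refine ⟨fun i => if i ≤ l then (pq (L.drop i)).1 else 0, ?_, ?_, ?_, ?_, ?_⟩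
  · simp only [Nat.zero_le, if_true, List.drop_zero]
    exact hp
  · simp only [hl, if_true]
    have h1 := hdrop 0 (by omega)
    rw [List.drop_zero] at h1
    rw [h1, pq_cons] at hq
    exact hq
  · simp only [le_refl, if_true, hdropl, pq_nil]
  · simp only [show ¬ (l + 1 ≤ l) by omega, if_false]
  · intro i hi1 hil
    simp only [hil, if_true, show i - 1 ≤ l by omega]
    have h1 := hdrop (i - 1) (by omega)
    rw [show i - 1 + 1 = i by omega] at h1
    rw [h1, pq_cons]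
    by_cases hi : i + 1 ≤ l
    · simp only [hi, if_true]
      have h2 := hdrop i (by omega)
      rw [h2, pq_cons]
      ring
    · simp only [hi, if_false]
      have : i = l := by omega
      subst this
      rw [hdropl, pq_nil]
      ring

/-- The Wronskian of two solutions of the HJ recurrence is constant. -/
theorem wronskian_const (l : ℕ) (b : ℕ → ℤ) (μ ρ : ℕ → ℤ)
    (hμ : ∀ i, 1 ≤ i → i ≤ l → b i * μ i = μ (i - 1) + μ (i + 1))
    (hρ : ∀ i, 1 ≤ i → i ≤ l → b i * ρ i = ρ (i - 1) + ρ (i + 1)) :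
    ∀ i, i ≤ l → μ i * ρ (i + 1) - μ (i + 1) * ρ i = μ 0 * ρ 1 - μ 1 * ρ 0 := by
  intro i
  induction i with
  | zero => intro _; rfl
  | succ i ih =>
    intro hi
    rw [← ih (by omega)]
    have h1 := hμ (i + 1) (by omega) hi
    have h2 := hρ (i + 1) (by omega) hi
    simp only [Nat.add_sub_cancel] at h1 h2
    linear_combination ρ (i + 1) * h1 - μ (i + 1) * h2

end Groth.Agent.Lib.Helper22.HJ
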