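import Mathlib
import Groth.Agent.S5057

set_option autoImplicit false
set_option linter.style.haveILetI false
set_option linter.unusedSectionVars false
set_option linter.unusedVariables false

open CategoryTheory CategoryTheory.Limits AlgebraicGeometry
universe u

namespace Groth.Agent.Lib.Helper22HensSectA

/-- the hypothesis "(S, S₀) is a henselian couple": clopens lift uniquely along finite morphisms. -/
def Hyp {S S₀ : Scheme.{u}} (i : S₀ ⟶ S) : Prop :=
  ∀ (S' : Scheme.{u}) (g : S' ⟶ S), IsFinite g →
    ∀ V : Set ↥(pullback g i), IsClopen V →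
      ∃! U : Set ↥S', IsClopen U ∧ (pullback.fst g i).base ⁻¹' U = V

variable {S S₀ : Scheme.{u}} (i : S₀ ⟶ S) [IsClosedImmersion i]

/-- an open subset of a finite `S`-scheme containing all points over `S₀` is everything. -/
theorem eq_univ_of_isOpen (ha : Hyp i) {Q : Scheme.{u}} (q : Q ⟶ S) [IsFinite q] (U : Set ↥Q)
    (hU : IsOpen U) (h : ∀ x : Q, q.base x ∈ Set.range i.base → x ∈ U) : U = Set.univ := by
  refine Groth.Agent.S5057.result i ha q U hU ?_
  rintro _ ⟨y, rfl⟩
  apply h
  refine ⟨(pullback.snd q i).base y, ?_⟩
  rw [← Scheme.Hom.comp_apply, ← Scheme.Hom.comp_apply, pullback.condition]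

theorem eq_univ_of_isOpen_base (ha : Hyp i) (U : Set ↥S)
    (hU : IsOpen U) (h : Set.range i.base ⊆ U) : U = Set.univ := by
  refine eq_univ_of_isOpen i ha (𝟙 S) U hU ?_
  intro x hx
  apply h
  simpa using hx

/-- two `S`-morphisms into an unramified separated `S`-scheme which agree on `S₀` are equal. -/
theorem hom_ext_of_comp_eq (ha : Hyp i) {S' : Scheme.{u}} (g : S' ⟶ S) [FormallyUnramified g]
    [LocallyOfFiniteType g] (u u' : S ⟶ S') (h : u ≫ g = u' ≫ g)
    (hi : i ≫ u = i ≫ u') : u = u' := by
  let c : S ⟶ pullback g g := pullback.lift u u' h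
  let e : pullback (pullback.diagonal g) c ⟶ S := pullback.snd (pullback.diagonal g) c
  have hc1 : c ≫ pullback.fst g g = u := pullback.lift_fst _ _ _
  have hc2 : c ≫ pullback.snd g g = u' := pullback.lift_snd _ _ _
  have he : e ≫ u = e ≫ u' := by
    have h1 := pullback.condition (f := pullback.diagonal g) (g := c)
    have h2 : pullback.fst (pullback.diagonal g) c = e ≫ u := by
      have := congrArg (· ≫ pullback.fst g g) h1
      simp only [Category.assoc, pullback.diagonal_fst, Category.comp_id, hc1] at this
      exact this
    have h3 : pullback.fst (pullback.diagonal g) c = e ≫ u' := by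
      have := congrArg (· ≫ pullback.snd g g) h1
      simp only [Category.assoc, pullback.diagonal_snd, Category.comp_id, hc2] at this
      exact this
    rw [← h2, ← h3]
  have hopen : IsOpenImmersion e := inferInstance
  have hrange : Set.range e.base = Set.univ := by
    refine eq_univ_of_isOpen_base i ha _ e.isOpenEmbedding.isOpen_range ?_
    rintro _ ⟨x, rfl⟩
    let l : S₀ ⟶ pullback (pullback.diagonal g) c :=
      pullback.lift (i ≫ u) i (by
        apply pullback.hom_ext
        · simp only [Category.assoc, pullback.diagonal_fst, Category.comp_id, hc1]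
        · simp only [Category.assoc, pullback.diagonal_snd, Category.comp_id, hc2, hi])
    have hl : l ≫ e = i := pullback.lift_snd _ _ _
    refine ⟨l.base x, ?_⟩
    rw [← Scheme.Hom.comp_apply, hl]
  have : Epi e.base := (TopCat.epi_iff_surjective _).mpr (Set.range_eq_univ.mp hrange)
  have : IsIso e := IsOpenImmersion.isIso e
  exact (cancel_epi e).mp he

end Groth.Agent.Lib.Helper22HensSectA
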