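import Mathlib
import Groth.Agent.Lib.Helper22HensSectA

set_option autoImplicit false
set_option linter.style.haveILetI false
set_option linter.unusedSectionVars false
set_option linter.unusedVariables false

open CategoryTheory CategoryTheory.Limits AlgebraicGeometry
universe u

namespace Groth.Agent.Lib.Helper22HensSectB

open Groth.Agent.Lib.Helper22HensSectA

variable {S S₀ : Scheme.{u}} (i : S₀ ⟶ S) [IsClosedImmersion i]

/-- a section of an étale separated morphism which is surjective is an isomorphism. -/
theorem isIso_of_section_surjective {E B : Scheme.{u}} (p : E ⟶ B) [Etale p] [IsSeparated p]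
    (σ : B ⟶ E) (hσ : σ ≫ p = 𝟙 B) (hs : Function.Surjective σ.base) : IsIso σ := by
  have h1 : Etale (σ ≫ p) := by rw [hσ]; infer_instance
  have h2 : Etale σ := Etale.of_comp σ p
  have h3 : IsClosedImmersion (σ ≫ p) := by rw [hσ]; infer_instance
  have h4 : IsClosedImmersion σ := IsClosedImmersion.of_comp σ p
  have : Surjective σ := ⟨hs⟩
  exact Flat.isIso_of_surjective_of_mono σ

/-- A finite étale `S`-scheme `Z` with an `S`-morphism `k : S₀ ⟶ Z` hitting all points of `Z`
over `S₀` is isomorphic to `S`, when `(S, S₀)` is a henselian couple. -/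
theorem isIso_of_finite_etale (ha : Hyp i) {Z : Scheme.{u}} (h : Z ⟶ S) [IsFinite h] [Etale h]
    (k : S₀ ⟶ Z) (hk : k ≫ h = i)
    (hpt : ∀ z : Z, h.base z ∈ Set.range i.base → z ∈ Set.range k.base) : IsIso h := by
  -- the base change to `S₀` is an isomorphism
  let p : pullback h i ⟶ S₀ := pullback.snd h i
  let σ : S₀ ⟶ pullback h i := pullback.lift k (𝟙 S₀) (by rw [hk, Category.id_comp])
  have hσ : σ ≫ p = 𝟙 S₀ := pullback.lift_snd _ _ _
  have hσ1 : σ ≫ pullback.fst h i = k := pullback.lift_fst _ _ _
  have hp : Etale p := inferInstance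
  have hp' : IsSeparated p := inferInstance
  have hσs : Function.Surjective σ.base := by
    intro z₀
    have hz : h.base ((pullback.fst h i).base z₀) = i.base (p.base z₀) := by
      rw [← Scheme.Hom.comp_apply, ← Scheme.Hom.comp_apply, pullback.condition]
    obtain ⟨x, hx⟩ := hpt _ ⟨_, hz.symm⟩
    have hx2 : x = p.base z₀ := by
      apply i.isClosedEmbedding.injective
      rw [← hz, ← hx, ← Scheme.Hom.comp_apply, hk]
    refine ⟨x, ?_⟩
    apply (pullback.fst h i).isClosedEmbedding.injective
    rw [← Scheme.Hom.comp_apply, hσ1, hx]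
  have hσiso : IsIso σ := isIso_of_section_surjective p σ hσ hσs
  have hpiso : IsIso p := by
    have : IsIso (σ ≫ p) := by rw [hσ]; infer_instance
    exact IsIso.of_isIso_comp_left σ p
  -- surjectivity
  have hsurj : Set.range h.base = Set.univ := by
    refine eq_univ_of_isOpen_base i ha _ h.isOpenMap.isOpen_range ?_
    rintro _ ⟨x, rfl⟩
    exact ⟨k.base x, by rw [← Scheme.Hom.comp_apply, hk]⟩
  -- the diagonal is surjective
  let D : Z ⟶ pullback h h := pullback.diagonal h
  have hDo : IsOpenImmersion D := inferInstance
  let q : pullback h h ⟶ S := pullback.fst h h ≫ h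
  have hq : IsFinite q := inferInstance
  have hDr : Set.range D.base = Set.univ := by
    refine Groth.Agent.S5057.result i ha q _ D.isOpenEmbedding.isOpen_range ?_
    rintro _ ⟨w, rfl⟩
    let a := pullback.fst q i
    let b := pullback.snd q i
    have hab : a ≫ q = b ≫ i := pullback.condition
    have h1 : (a ≫ pullback.fst h h) ≫ h = b ≫ i := by rw [Category.assoc]; exact hab
    have h2 : (a ≫ pullback.snd h h) ≫ h = b ≫ i := by
      rw [Category.assoc, ← pullback.condition]; exact hab
    let a1 : pullback q i ⟶ pullback h i := pullback.lift (a ≫ pullback.fst h h) b h1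
    let a2 : pullback q i ⟶ pullback h i := pullback.lift (a ≫ pullback.snd h h) b h2
    have e1 : a1 ≫ p = b := pullback.lift_snd _ _ _
    have e2 : a2 ≫ p = b := pullback.lift_snd _ _ _
    have e12 : a1 = a2 := by
      rw [← cancel_mono p, e1, e2]
    have e3 : a ≫ pullback.fst h h = a ≫ pullback.snd h h := by
      have f1 : a1 ≫ pullback.fst h i = a ≫ pullback.fst h h := pullback.lift_fst _ _ _
      have f2 : a2 ≫ pullback.fst h i = a ≫ pullback.snd h h := pullback.lift_fst _ _ _
      rw [← f1, ← f2, e12]
    have e4 : a = (a ≫ pullback.fst h h) ≫ D := by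
      apply pullback.hom_ext
      · simp only [D, Category.assoc, pullback.diagonal_fst, Category.comp_id]
      · simp only [D, Category.assoc, pullback.diagonal_snd, Category.comp_id]
        exact e3.symm
    refine ⟨(a ≫ pullback.fst h h).base w, ?_⟩
    rw [← Scheme.Hom.comp_apply, ← e4]
  have : Epi D.base := (TopCat.epi_iff_surjective _).mpr (Set.range_eq_univ.mp hDr)
  have hDiso : IsIso D := IsOpenImmersion.isIso D
  have hfst : IsIso (pullback.fst h h) := by
    have : IsIso (D ≫ pullback.fst h h) := by
      simp only [D, pullback.diagonal_fst]; infer_instance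
    exact IsIso.of_isIso_comp_left D _
  have hmono : Mono h := IsKernelPair.mono_of_isIso_fst (IsPullback.of_hasPullback h h)
  have : Surjective h := ⟨Set.range_eq_univ.mp hsurj⟩
  exact Flat.isIso_of_surjective_of_mono h

end Groth.Agent.Lib.Helper22HensSectB
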