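import Mathlib
import Groth.Agent.Lib.Helper22ZmtFinC
import Groth.Agent.Lib.Helper22ZmtFinD

/-!
# ZMT finite factorization, part E (helper22)
* `exists_finite_factorization`: `S` qcqs, `π : T' ⟶ S` integral, `ν : X ⟶ T'` qc open immersion with
  `ν ≫ π` locally of finite type ⇒ `π = τ ≫ p` with `p` finite and `ν ≫ τ` a qc open immersion.
  (Combined with Mathlib's ZMT this gives Stacks 05K0: quasi-finite separated = open immersion ≫ finite.)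
-/

set_option autoImplicit false
set_option linter.style.haveILetI false
set_option linter.unusedSectionVars false
set_option linter.unusedVariables false
universe u

open AlgebraicGeometry CategoryTheory TopologicalSpace Opposite

namespace Groth.Agent.Lib.Helper22.ZmtFin

/-- **Finite approximation of an integral compactification.** Let `S` be qcqs, `π : T' ⟶ S`
integral and `ν : X ⟶ T'` a quasi-compact open immersion with `ν ≫ π` locally of finite type. Then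
`π` factors through a finite `p : T ⟶ S` such that `X ⟶ T` is still a (quasi-compact) open
immersion. -/
theorem exists_finite_factorization {X T' S : Scheme.{u}} [CompactSpace S] [QuasiSeparatedSpace S]
    (ν : X ⟶ T') [IsOpenImmersion ν] [QuasiCompact ν] (π : T' ⟶ S) [IsIntegralHom π]
    [LocallyOfFiniteType (ν ≫ π)] :
    ∃ (T : Scheme.{u}) (τ : T' ⟶ T) (p : T ⟶ S), IsFinite p ∧ τ ≫ p = π ∧
      IsOpenImmersion (ν ≫ τ) ∧ QuasiCompact (ν ≫ τ) := by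
  classical
  -- a finite affine cover of `S`
  obtain ⟨𝒱, h𝒱fin, h𝒱⟩ := isCompact_iff_finite_and_eq_biUnion_affineOpens.mp
    (show IsCompact ((⊤ : S.Opens) : Set S) from isCompact_univ)
  -- local data
  choose G hG hGft using fun V : S.affineOpens => exists_basicOpens ν π V.1 V.2
  have hs : ∀ (V : S.affineOpens) (g : Γ(T', π ⁻¹ᵁ V.1)), ∃ s : Finset Γ(T', π ⁻¹ᵁ V.1),
      g ∈ G V → ∀ C : Subring Γ(T', π ⁻¹ᵁ V.1), Set.range (π.app V.1).hom ⊆ C →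
        (↑s : Set Γ(T', π ⁻¹ᵁ V.1)) ⊆ C → g ∈ C → ∀ a : Γ(T', π ⁻¹ᵁ V.1), ∃ n : ℕ, g ^ n * a ∈ C := by
    intro V g
    by_cases hg : g ∈ G V
    · obtain ⟨s, hs⟩ := exists_finset_pow_mul_mem (π.app V.1).hom
        (T'.presheaf.map (homOfLE (T'.basicOpen_le g)).op).hom g
        ((V.2.preimage π).isLocalization_basicOpen g) (by
          have := hGft V g hg
          rw [Scheme.Hom.appLE, CommRingCat.hom_comp] at this
          exact this)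
      exact ⟨s, fun _ => hs⟩
    · exact ⟨∅, fun h => absurd h hg⟩
  choose s hs using hs
  let L : Finset (Σ U : S.affineOpens, Γ(T', π ⁻¹ᵁ U.1)) :=
    h𝒱fin.toFinset.biUnion fun V => (G V).biUnion fun g =>
      insert (⟨V, g⟩ : Σ U : S.affineOpens, Γ(T', π ⁻¹ᵁ U.1))
        ((s V g).image fun a => (⟨V, a⟩ : Σ U : S.affineOpens, Γ(T', π ⁻¹ᵁ U.1)))
  have hLg : ∀ V ∈ 𝒱, ∀ g ∈ G V, (⟨V, g⟩ : Σ U : S.affineOpens, Γ(T', π ⁻¹ᵁ U.1)) ∈ L.toList := by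
    intro V hV g hg
    rw [Finset.mem_toList]
    refine Finset.mem_biUnion.2 ⟨V, h𝒱fin.mem_toFinset.2 hV, Finset.mem_biUnion.2 ⟨g, hg, ?_⟩⟩
    exact Finset.mem_insert_self _ _
  have hLa : ∀ V ∈ 𝒱, ∀ g ∈ G V, ∀ a ∈ s V g,
      (⟨V, a⟩ : Σ U : S.affineOpens, Γ(T', π ⁻¹ᵁ U.1)) ∈ L.toList := by
    intro V hV g hg a ha
    rw [Finset.mem_toList]
    refine Finset.mem_biUnion.2 ⟨V, h𝒱fin.mem_toFinset.2 hV, Finset.mem_biUnion.2 ⟨g, hg, ?_⟩⟩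
    exact Finset.mem_insert_of_mem (Finset.mem_image_of_mem _ ha)
  obtain ⟨T, τ, p, h, hfin, hinj, hrange⟩ := exists_finite_through π L.toList
  haveI : IsFinite p := hfin
  haveI : IsAffineHom (τ ≫ p) := by rw [h]; infer_instance
  haveI : IsAffineHom τ := IsAffineHom.of_comp τ p
  have hle : ∀ V : S.Opens, π ⁻¹ᵁ V ≤ τ ⁻¹ᵁ (p ⁻¹ᵁ V) := fun V => by
    rw [← Scheme.Hom.comp_preimage, h]
  have heq : ∀ V : S.Opens, π ⁻¹ᵁ V = τ ⁻¹ᵁ (p ⁻¹ᵁ V) := fun V => by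
    rw [← Scheme.Hom.comp_preimage, h]
  -- the structure maps are compatible
  have hstr : ∀ (V : S.Opens) (r : Γ(S, V)),
      (π.app V).hom r = (τ.appLE (p ⁻¹ᵁ V) (π ⁻¹ᵁ V) (hle V)).hom ((p.app V).hom r) := by
    intro V r
    have e1 : π.app V = p.app V ≫ τ.appLE (p ⁻¹ᵁ V) (π ⁻¹ᵁ V) (hle V) := by
      rw [Scheme.Hom.app_eq_appLE, Scheme.Hom.app_eq_appLE, Scheme.Hom.appLE_comp_appLE]
      exact (appLE_congr h V (π ⁻¹ᵁ V) (by rw [h])).symm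
    rw [e1]; rfl
  -- lifts of the `g`
  have hg' : ∀ V : S.affineOpens, ∀ g : Γ(T', π ⁻¹ᵁ V.1), ∃ g' : Γ(T, p ⁻¹ᵁ V.1),
      V ∈ 𝒱 → g ∈ G V → (τ.appLE (p ⁻¹ᵁ V.1) (π ⁻¹ᵁ V.1) (hle V.1)).hom g' = g := by
    intro V g
    by_cases hVg : V ∈ 𝒱 ∧ g ∈ G V
    · obtain ⟨g', hg'⟩ := hrange ⟨V, g⟩ (hLg V hVg.1 g hVg.2)
      exact ⟨g', fun _ _ => hg'⟩
    · exact ⟨0, fun h1 h2 => absurd ⟨h1, h2⟩ hVg⟩
  choose g' hg' using hg'
  -- the opens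
  let ι : Type u := {x : Σ U : S.affineOpens, Γ(T', π ⁻¹ᵁ U.1) // x.1 ∈ 𝒱 ∧ x.2 ∈ G x.1}
  let D : ι → T.Opens := fun x => T.basicOpen (g' x.1.1 x.1.2)
  have hDiso : ∀ x : ι, IsIso (τ ∣_ D x) := by
    rintro ⟨⟨V, g⟩, hV, hg⟩
    have hθg : (τ.appLE (p ⁻¹ᵁ V.1) (π ⁻¹ᵁ V.1) (hle V.1)).hom (g' V g) = g := hg' V g hV hg
    refine isIso_morphismRestrict_basicOpen τ (V.2.preimage p) (V.2.preimage π) (heq V.1) (g' V g)
      (hinj V) ?_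
    intro a
    rw [hθg]
    refine hs V g hg (τ.appLE (p ⁻¹ᵁ V.1) (π ⁻¹ᵁ V.1) (hle V.1)).hom.range ?_ ?_ ⟨g' V g, hθg⟩ a
    · rintro _ ⟨r, rfl⟩
      exact ⟨(p.app V.1).hom r, (hstr V.1 r).symm⟩
    · intro a ha
      exact hrange ⟨V, a⟩ (hLa V hV g hg a ha)
  have hpre : ∀ x : ι, τ ⁻¹ᵁ D x = T'.basicOpen x.1.2 := by
    rintro ⟨⟨V, g⟩, hV, hg⟩
    have hθg : (τ.appLE (p ⁻¹ᵁ V.1) (π ⁻¹ᵁ V.1) (hle V.1)).hom (g' V g) = g := hg' V g hV hg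
    have h1 := Scheme.basicOpen_appLE τ (π ⁻¹ᵁ V.1) (p ⁻¹ᵁ V.1) (hle V.1) (g' V g)
    have h2 : τ ⁻¹ᵁ T.basicOpen (g' V g) ≤ π ⁻¹ᵁ V.1 := by
      rw [heq V.1]; exact τ.preimage_mono (T.basicOpen_le _)
    have h1' : T'.basicOpen ((τ.appLE (p ⁻¹ᵁ V.1) (π ⁻¹ᵁ V.1) (hle V.1)).hom (g' V g)) =
        π ⁻¹ᵁ V.1 ⊓ τ ⁻¹ᵁ T.basicOpen (g' V g) := h1
    rw [hθg, inf_eq_right.mpr h2] at h1'
    exact h1'.symm
  let O' : T.Opens := ⨆ x : ι, D x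
  have hO'iso : IsIso (τ ∣_ O') := by
    let 𝒰 := Scheme.Opens.iSupOpenCover D
    refine (IsZariskiLocalAtTarget.iff_of_openCover (P := .isomorphisms _) 𝒰).mpr fun x ↦ ?_
    refine (MorphismProperty.arrow_mk_iso_iff (.isomorphisms _)
      ((morphismRestrictRestrict ..).symm ≪≫ morphismRestrictOpensRange ..)).mp ?_
    have : Scheme.Opens.ι _ ''ᵁ (𝒰.f x).opensRange = D x := by
      simp only [Scheme.Opens.iSupOpenCover, 𝒰, ← Scheme.Hom.opensRange_comp, Scheme.homOfLE_ι,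
        Scheme.Opens.opensRange_ι]
    convert! hDiso x
  have hνO' : ν.opensRange ≤ τ ⁻¹ᵁ O' := by
    intro y hy
    have hπy : π y ∈ (⊤ : S.Opens) := trivial
    rw [h𝒱] at hπy
    simp only [Opens.mem_iSup] at hπy
    obtain ⟨V, hV, hyV⟩ := hπy
    have hy' : y ∈ ν.opensRange ⊓ π ⁻¹ᵁ V.1 := ⟨hy, hyV⟩
    rw [hG V] at hy'
    simp only [Opens.mem_iSup] at hy'
    obtain ⟨g, hg, hyg⟩ := hy'
    have : y ∈ τ ⁻¹ᵁ D ⟨⟨V, g⟩, hV, hg⟩ := by rw [hpre]; exact hyg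
    exact Opens.mem_iSup.2 ⟨⟨⟨V, g⟩, hV, hg⟩, this⟩
  refine ⟨T, τ, p, hfin, h, ?_, ?_⟩
  · let ν' : X ⟶ (τ ⁻¹ᵁ O').toScheme := IsOpenImmersion.lift (τ ⁻¹ᵁ O').ι ν (by
      rw [Scheme.Opens.range_ι]
      exact hνO')
    have hν' : ν' ≫ (τ ⁻¹ᵁ O').ι = ν := IsOpenImmersion.lift_fac _ _ _
    haveI : IsOpenImmersion (ν' ≫ (τ ⁻¹ᵁ O').ι) := by rw [hν']; infer_instance
    haveI : IsOpenImmersion ν' := IsOpenImmersion.of_comp ν' (τ ⁻¹ᵁ O').ι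
    have e : ν ≫ τ = ν' ≫ (τ ∣_ O') ≫ O'.ι := by
      rw [morphismRestrict_ι, ← Category.assoc, hν']
    rw [e]
    infer_instance
  · exact Groth.Agent.Lib.Helper10.QAffRelSpec.quasiCompact_of_local (ν ≫ τ) p (ν ≫ π)
      (by rw [Category.assoc, h])

end Groth.Agent.Lib.Helper22.ZmtFin
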