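import Mathlib
import Groth.Agent.Lib.Helper22HensSectB
import Groth.Agent.S0385

set_option autoImplicit false
set_option linter.style.haveILetI false
set_option linter.unusedSectionVars false
set_option linter.unusedVariables false

open CategoryTheory CategoryTheory.Limits AlgebraicGeometry
universe u

namespace Groth.Agent.Lib.Helper22HensSectC

open Groth.Agent.Lib.Helper22HensSectA Groth.Agent.Lib.Helper22HensSectB

theorem lqf_of_etale {X S : Scheme.{u}} (f : X ⟶ S) [Etale f] : LocallyQuasiFinite f := by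
  constructor
  intro U hU V hV e
  have h1 := f.etale_appLE hU hV e
  algebraize [(f.appLE U V e).hom]
  have : Algebra.Etale Γ(S, U) Γ(X, V) := h1
  exact RingHom.quasiFinite_algebraMap.mpr inferInstance

/-- a compact subset of a scheme is contained in a quasi-compact open. -/
theorem exists_isCompact_opens_of_isCompact {X : Scheme.{u}} (K : Set ↥X) (hK : IsCompact K) :
    ∃ W : X.Opens, IsCompact (W : Set ↥X) ∧ K ⊆ W := by
  have hx : ∀ x : X, ∃ U : X.Opens, IsAffineOpen U ∧ x ∈ U := by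
    intro x
    obtain ⟨_, ⟨U, hU, rfl⟩, hxU, -⟩ := X.isBasis_affineOpens.exists_subset_of_mem_open
      (Set.mem_univ x) isOpen_univ
    exact ⟨U, hU, hxU⟩
  choose U hU hxU using hx
  obtain ⟨t, -, ht⟩ := hK.elim_nhds_subcover (fun x => (U x : Set X))
    (fun x _ => (U x).isOpen.mem_nhds (hxU x))
  refine ⟨⨆ x ∈ t, U x, ?_, ?_⟩
  · have : ((⨆ x ∈ t, U x : X.Opens) : Set X) = ⋃ x ∈ t, (U x : Set X) := by
      simp
    rw [this]
    exact t.isCompact_biUnion fun x _ => (hU x).isCompact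
  · intro x hx
    have := ht hx
    simpa using this

variable {S S₀ : Scheme.{u}} (i : S₀ ⟶ S) [IsClosedImmersion i]

theorem exists_section (ha : Hyp i) [CompactSpace ↥S] [QuasiSeparatedSpace ↥S]
    {S' : Scheme.{u}} (g : S' ⟶ S) [Etale g] [IsSeparated g]
    (k : S₀ ⟶ S') (hk : k ≫ g = i) : ∃ u : S ⟶ S', u ≫ g = 𝟙 S ∧ i ≫ u = k := by
  have hS₀ : CompactSpace ↥S₀ := i.isClosedEmbedding.compactSpace
  obtain ⟨W, hWc, hkW⟩ := exists_isCompact_opens_of_isCompact (Set.range k.base)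
    (isCompact_range k.continuous)
  have hWcs : CompactSpace ↥(W : Scheme.{u}) := isCompact_iff_compactSpace.mp hWc
  let gW : (W : Scheme.{u}) ⟶ S := W.ι ≫ g
  have hgW1 : Etale gW := inferInstance
  have hgW2 : IsSeparated gW := inferInstance
  have hgW3 : QuasiCompact gW := inferInstance
  have hgW4 : LocallyQuasiFinite gW := lqf_of_etale gW
  obtain ⟨T, j, π, hj, hjqc, hπ, hjπ⟩ := Groth.Agent.S0385.result gW
  -- lift `k` to `W`
  let kW : S₀ ⟶ (W : Scheme.{u}) := IsOpenImmersion.lift W.ι k (by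
    rw [Scheme.Opens.range_ι]; exact hkW)
  have hkW' : kW ≫ W.ι = k := IsOpenImmersion.lift_fac _ _ _
  let m : S₀ ⟶ T := kW ≫ j
  have hm : m ≫ π = i := by
    simp only [m, Category.assoc, hjπ, gW]; rw [reassoc_of% hkW', hk]
  -- the section over `S₀`
  let s₀ : S₀ ⟶ pullback π i := pullback.lift m (𝟙 S₀) (by rw [hm, Category.id_comp])
  have hs₀1 : s₀ ≫ pullback.fst π i = m := pullback.lift_fst _ _ _
  have hs₀2 : s₀ ≫ pullback.snd π i = 𝟙 S₀ := pullback.lift_snd _ _ _
  have hs₀c : IsClosed (Set.range s₀.base) := by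
    have : IsClosedImmersion (s₀ ≫ pullback.snd π i) := by rw [hs₀2]; infer_instance
    have : IsClosedImmersion s₀ := IsClosedImmersion.of_comp s₀ (pullback.snd π i)
    exact s₀.isClosedEmbedding.isClosed_range
  have hs₀o : IsOpen (Set.range s₀.base) := by
    let w₀ : S₀ ⟶ pullback gW i := pullback.lift kW (𝟙 S₀) (by
      simp only [gW]; rw [reassoc_of% hkW', hk, Category.id_comp])
    have hw₀ : w₀ ≫ pullback.snd gW i = 𝟙 S₀ := pullback.lift_snd _ _ _
    have hw₀1 : w₀ ≫ pullback.fst gW i = kW := pullback.lift_fst _ _ _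
    have : Etale (w₀ ≫ pullback.snd gW i) := by rw [hw₀]; infer_instance
    have hw₀e : Etale w₀ := Etale.of_comp w₀ (pullback.snd gW i)
    let j₀ : pullback gW i ⟶ pullback π i :=
      pullback.map gW i π i j (𝟙 S₀) (𝟙 S) (by rw [Category.comp_id, hjπ])
        (by rw [Category.comp_id, Category.id_comp])
    have hj₀ : IsOpenImmersion j₀ := Scheme.pullback_map_isOpenImmersion _ _ _ _ _ _ _ _ _
    have hj₀1 : j₀ ≫ pullback.fst π i = pullback.fst gW i ≫ j := by
      simp only [j₀]; rw [pullback.map, pullback.lift_fst]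
    have hj₀2 : j₀ ≫ pullback.snd π i = pullback.snd gW i ≫ 𝟙 S₀ := by
      simp only [j₀]; rw [pullback.map, pullback.lift_snd]
    have hs₀eq : s₀ = w₀ ≫ j₀ := by
      apply pullback.hom_ext
      · rw [hs₀1, Category.assoc, hj₀1, reassoc_of% hw₀1]
      · rw [hs₀2, Category.assoc, hj₀2, Category.comp_id, hw₀]
    have : Etale s₀ := by rw [hs₀eq]; infer_instance
    exact s₀.isOpenMap.isOpen_range
  obtain ⟨U, ⟨hUc, hUV⟩, -⟩ := ha T π hπ (Set.range s₀.base) ⟨hs₀c, hs₀o⟩
  -- key fact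
  have hF : ∀ t ∈ U, ∀ x : S₀, π.base t = i.base x → t = m.base x := by
    intro t ht x htx
    obtain ⟨t₀, ht₀1, ht₀2⟩ := Scheme.Pullback.exists_preimage_pullback (f := π) (g := i) t x htx
    have h1 : t₀ ∈ (pullback.fst π i).base ⁻¹' U := by
      show (pullback.fst π i).base t₀ ∈ U
      rw [ht₀1]; exact ht
    rw [hUV] at h1
    obtain ⟨x', rfl⟩ := h1
    have h2 : x' = x := by
      rw [← ht₀2, ← Scheme.Hom.comp_apply, hs₀2]; rfl
    rw [← ht₀1, ← Scheme.Hom.comp_apply, hs₀1, h2]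
  have hmU : ∀ x : S₀, m.base x ∈ U := by
    intro x
    have h1 : s₀.base x ∈ (pullback.fst π i).base ⁻¹' U := by
      rw [hUV]; exact ⟨x, rfl⟩
    have h2 : (pullback.fst π i).base (s₀.base x) ∈ U := h1
    rwa [← Scheme.Hom.comp_apply, hs₀1] at h2
  have hUj : U ⊆ Set.range j.base := by
    have h1 : Set.range j.base ∪ Uᶜ = Set.univ := by
      refine eq_univ_of_isOpen i ha π _
        (j.isOpenEmbedding.isOpen_range.union hUc.isClosed.isOpen_compl) ?_
      rintro t ⟨x, hx⟩
      by_cases ht : t ∈ U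
      · left
        rw [hF t ht x hx.symm]
        exact ⟨kW.base x, by rw [← Scheme.Hom.comp_apply]⟩
      · right; exact ht
    intro t ht
    have := (Set.eq_univ_iff_forall.mp h1) t
    rcases this with h | h
    · exact h
    · exact absurd ht h
  -- the open and closed subscheme
  let Z : (W : Scheme.{u}).Opens := j ⁻¹ᵁ ⟨U, hUc.isOpen⟩
  let h : (Z : Scheme.{u}) ⟶ S := Z.ι ≫ gW
  have hrZ : Set.range (Z.ι ≫ j).base = U := by
    rw [Scheme.Hom.comp_base, TopCat.coe_comp, Set.range_comp, Scheme.Opens.range_ι]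
    ext t
    constructor
    · rintro ⟨w, hw, rfl⟩; exact hw
    · intro ht
      obtain ⟨w, rfl⟩ := hUj ht
      exact ⟨w, ht, rfl⟩
  have hZcl : IsClosedImmersion (Z.ι ≫ j) :=
    IsClosedImmersion.of_isPreimmersion _ (by rw [hrZ]; exact hUc.isClosed)
  have hhfin : IsFinite h := by
    have : h = (Z.ι ≫ j) ≫ π := by simp only [h, Category.assoc, hjπ]
    rw [this]; infer_instance
  have hhet : Etale h := inferInstance
  let kZ : S₀ ⟶ (Z : Scheme.{u}) := IsOpenImmersion.lift Z.ι kW (by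
    rw [Scheme.Opens.range_ι]
    rintro _ ⟨x, rfl⟩
    show j.base (kW.base x) ∈ U
    rw [← Scheme.Hom.comp_apply]
    exact hmU x)
  have hkZ : kZ ≫ Z.ι = kW := IsOpenImmersion.lift_fac _ _ _
  have hkZh : kZ ≫ h = i := by
    simp only [h, gW]; rw [reassoc_of% hkZ, reassoc_of% hkW', hk]
  have hpt : ∀ z : (Z : Scheme.{u}), h.base z ∈ Set.range i.base → z ∈ Set.range kZ.base := by
    rintro z ⟨x, hx⟩
    have hzU : j.base (Z.ι.base z) ∈ U := z.2
    have h0 : Z.ι ≫ j ≫ π = h := by simp only [h, hjπ]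
    have h1 : π.base (j.base (Z.ι.base z)) = i.base x := by
      rw [hx, ← Scheme.Hom.comp_apply, ← Scheme.Hom.comp_apply, h0]
    have h2 := hF _ hzU x h1
    refine ⟨x, ?_⟩
    apply Z.ι.isOpenEmbedding.injective
    apply j.isOpenEmbedding.injective
    have h3 : kZ ≫ Z.ι ≫ j = m := by rw [reassoc_of% hkZ]
    rw [h2, ← Scheme.Hom.comp_apply, ← Scheme.Hom.comp_apply, h3]
  have hiso : IsIso h := isIso_of_finite_etale i ha h kZ hkZh hpt
  refine ⟨inv h ≫ Z.ι ≫ W.ι, ?_, ?_⟩
  · have : (Z.ι ≫ W.ι) ≫ g = h := by simp only [h, gW, Category.assoc]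
    rw [Category.assoc, this, IsIso.inv_hom_id]
  · have : i ≫ inv h = kZ := by rw [← hkZh, Category.assoc, IsIso.hom_inv_id, Category.comp_id]
    rw [reassoc_of% this, reassoc_of% hkZ, hkW']

end Groth.Agent.Lib.Helper22HensSectC
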