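import Mathlib
import Groth.Prelude.Def_CycAlg
import Groth.Agent.Lib.Helper22Herbrand

set_option autoImplicit false

namespace Groth.Agent.Lib.Helper22.Hexagon

open Function CycAlg

universe u v

variable {R : Type u} [CommRing R]

section single

variable {M N : Type v} [AddCommGroup M] [Module R M] [AddCommGroup N] [Module R N]
  (φ : M →ₗ[R] N) (ψ : N →ₗ[R] M)

theorem mk_eq_zero_iff (x : LinearMap.ker φ) :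
    (Submodule.Quotient.mk x : perH φ ψ) = 0 ↔ (x : M) ∈ LinearMap.range ψ := by
  rw [Submodule.Quotient.mk_eq_zero]
  rfl

/-- the map `M / im ψ → ker ψ` induced by `φ` -/
def vmap (h : IsPeriodic φ ψ) : (M ⧸ LinearMap.range ψ) →ₗ[R] LinearMap.ker ψ :=
  (LinearMap.range ψ).liftQ (φ.codRestrict (LinearMap.ker ψ) (fun x => by
      rw [LinearMap.mem_ker]; exact LinearMap.congr_fun h.2 x)) (by
      rintro _ ⟨n, rfl⟩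
      rw [LinearMap.mem_ker]
      apply Subtype.ext
      exact LinearMap.congr_fun h.1 n)

theorem vmap_mk (h : IsPeriodic φ ψ) (x : M) :
    ((vmap φ ψ h (Submodule.Quotient.mk x) : LinearMap.ker ψ) : N) = φ x := rfl

/-- the inclusion `H(φ,ψ) → M / im ψ` -/
def iota : perH φ ψ →ₗ[R] (M ⧸ LinearMap.range ψ) :=
  Submodule.mapQ _ _ (LinearMap.ker φ).subtype (fun x hx => hx)

theorem iota_mk (x : LinearMap.ker φ) :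
    iota φ ψ (Submodule.Quotient.mk x) = Submodule.Quotient.mk (x : M) := rfl

theorem iota_injective : Injective (iota φ ψ) := by
  rw [← LinearMap.ker_eq_bot, LinearMap.ker_eq_bot']
  intro y hy
  obtain ⟨x, rfl⟩ := Submodule.Quotient.mk_surjective _ y
  rw [iota_mk, Submodule.Quotient.mk_eq_zero] at hy
  exact (mk_eq_zero_iff φ ψ x).mpr hy

theorem exact_iota_vmap (h : IsPeriodic φ ψ) : Exact (iota φ ψ) (vmap φ ψ h) := by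
  intro y
  obtain ⟨x, rfl⟩ := Submodule.Quotient.mk_surjective _ y
  constructor
  · intro hy
    have h0 : φ x = 0 := congrArg Subtype.val hy
    exact ⟨Submodule.Quotient.mk ⟨x, h0⟩, rfl⟩
  · rintro ⟨z, hz⟩
    obtain ⟨x', rfl⟩ := Submodule.Quotient.mk_surjective _ z
    rw [iota_mk] at hz
    rw [← hz]
    apply Subtype.ext
    rw [vmap_mk]
    exact x'.2

theorem exact_vmap_mkQ (h : IsPeriodic φ ψ) :
    Exact (vmap φ ψ h) (Submodule.mkQ ((LinearMap.range φ).submoduleOf (LinearMap.ker ψ))) := by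
  intro n
  rw [Submodule.mkQ_apply, mk_eq_zero_iff ψ φ n]
  constructor
  · rintro ⟨x, hx⟩
    exact ⟨Submodule.Quotient.mk x, Subtype.ext hx⟩
  · rintro ⟨y, rfl⟩
    obtain ⟨x, rfl⟩ := Submodule.Quotient.mk_surjective _ y
    exact ⟨x, rfl⟩

end single

section morphism

variable {M N M' N' : Type v} [AddCommGroup M] [Module R M] [AddCommGroup N] [Module R N]
  [AddCommGroup M'] [Module R M'] [AddCommGroup N'] [Module R N']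
  (φ : M →ₗ[R] N) (ψ : N →ₗ[R] M) (φ' : M' →ₗ[R] N') (ψ' : N' →ₗ[R] M')
  (f : M →ₗ[R] M') (g : N →ₗ[R] N')

/-- restriction to kernels -/
def kerMap (cφ : φ' ∘ₗ f = g ∘ₗ φ) : LinearMap.ker φ →ₗ[R] LinearMap.ker φ' :=
  f.restrict (fun x hx => by
    rw [LinearMap.mem_ker] at hx ⊢
    have := LinearMap.congr_fun cφ x
    rw [LinearMap.comp_apply, LinearMap.comp_apply, hx, map_zero] at this
    exact this)

theorem kerMap_coe (cφ : φ' ∘ₗ f = g ∘ₗ φ) (x : LinearMap.ker φ) :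
    ((kerMap φ φ' f g cφ x : LinearMap.ker φ') : M') = f x := rfl

/-- induced map on cohomology -/
def hMap (cφ : φ' ∘ₗ f = g ∘ₗ φ) (cψ : ψ' ∘ₗ g = f ∘ₗ ψ) : perH φ ψ →ₗ[R] perH φ' ψ' :=
  Submodule.mapQ _ _ (kerMap φ φ' f g cφ) (by
    rintro x ⟨n, hn⟩
    refine ⟨g n, ?_⟩
    have := LinearMap.congr_fun cψ n
    rw [LinearMap.comp_apply, LinearMap.comp_apply] at this
    rw [this, hn]
    rfl)

theorem hMap_mk (cφ : φ' ∘ₗ f = g ∘ₗ φ) (cψ : ψ' ∘ₗ g = f ∘ₗ ψ) (x : LinearMap.ker φ) :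
    hMap φ ψ φ' ψ' f g cφ cψ (Submodule.Quotient.mk x) =
      Submodule.Quotient.mk (kerMap φ φ' f g cφ x) := rfl

/-- induced map on `M / im ψ` -/
def tMap (cψ : ψ' ∘ₗ g = f ∘ₗ ψ) : (M ⧸ LinearMap.range ψ) →ₗ[R] (M' ⧸ LinearMap.range ψ') :=
  Submodule.mapQ _ _ f (by
    rintro _ ⟨n, rfl⟩
    exact ⟨g n, LinearMap.congr_fun cψ n⟩)

theorem tMap_mk (cψ : ψ' ∘ₗ g = f ∘ₗ ψ) (x : M) :
    tMap ψ ψ' f g cψ (Submodule.Quotient.mk x) = Submodule.Quotient.mk (f x) := rfl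

end morphism

section ses

variable {M₁ N₁ M₂ N₂ M₃ N₃ : Type v} [AddCommGroup M₁] [Module R M₁] [AddCommGroup N₁] [Module R N₁]
  [AddCommGroup M₂] [Module R M₂] [AddCommGroup N₂] [Module R N₂]
  [AddCommGroup M₃] [Module R M₃] [AddCommGroup N₃] [Module R N₃]
  (φ₁ : M₁ →ₗ[R] N₁) (ψ₁ : N₁ →ₗ[R] M₁) (φ₂ : M₂ →ₗ[R] N₂) (ψ₂ : N₂ →ₗ[R] M₂)
  (φ₃ : M₃ →ₗ[R] N₃) (ψ₃ : N₃ →ₗ[R] M₃)
  (f₁ : M₁ →ₗ[R] M₂) (g₁ : N₁ →ₗ[R] N₂) (f₂ : M₂ →ₗ[R] M₃) (g₂ : N₂ →ₗ[R] N₃)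
  (cφ₁ : φ₂ ∘ₗ f₁ = g₁ ∘ₗ φ₁) (cψ₁ : ψ₂ ∘ₗ g₁ = f₁ ∘ₗ ψ₁)
  (cφ₂ : φ₃ ∘ₗ f₂ = g₂ ∘ₗ φ₂) (cψ₂ : ψ₃ ∘ₗ g₂ = f₂ ∘ₗ ψ₂)

include cψ₁ in
theorem exact_tMap (hg₂ : Surjective g₂) (hM : LinearMap.range f₁ = LinearMap.ker f₂) :
    Exact (tMap ψ₁ ψ₂ f₁ g₁ cψ₁) (tMap ψ₂ ψ₃ f₂ g₂ cψ₂) := by
  intro y
  obtain ⟨x₂, rfl⟩ := Submodule.Quotient.mk_surjective _ y
  rw [tMap_mk, Submodule.Quotient.mk_eq_zero]
  constructor
  · rintro ⟨n₃, hn₃⟩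
    obtain ⟨n₂, rfl⟩ := hg₂ n₃
    have h1 : x₂ - ψ₂ n₂ ∈ LinearMap.ker f₂ := by
      rw [LinearMap.mem_ker, map_sub, ← hn₃]
      have := LinearMap.congr_fun cψ₂ n₂
      rw [LinearMap.comp_apply, LinearMap.comp_apply] at this
      rw [this, sub_self]
    rw [← hM] at h1
    obtain ⟨m₁, hm₁⟩ := h1
    refine ⟨Submodule.Quotient.mk m₁, ?_⟩
    rw [tMap_mk, hm₁, Submodule.Quotient.eq]
    have : x₂ - ψ₂ n₂ - x₂ = -ψ₂ n₂ := by abel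
    rw [this]
    exact (LinearMap.range ψ₂).neg_mem ⟨n₂, rfl⟩
  · rintro ⟨z, hz⟩
    obtain ⟨m₁, rfl⟩ := Submodule.Quotient.mk_surjective _ z
    rw [tMap_mk, Submodule.Quotient.eq] at hz
    have h2 : f₂ (f₁ m₁) = 0 := by
      have : f₁ m₁ ∈ LinearMap.ker f₂ := hM ▸ ⟨m₁, rfl⟩
      exact this
    obtain ⟨n₂, hn₂⟩ := hz
    refine ⟨- g₂ n₂, ?_⟩
    have h3 := LinearMap.congr_fun cψ₂ n₂
    rw [LinearMap.comp_apply, LinearMap.comp_apply] at h3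
    rw [map_neg, h3, hn₂, map_sub, h2, zero_sub, neg_neg]

theorem tMap_surjective (hf₂ : Surjective f₂) : Surjective (tMap ψ₂ ψ₃ f₂ g₂ cψ₂) := by
  intro y
  obtain ⟨x₃, rfl⟩ := Submodule.Quotient.mk_surjective _ y
  obtain ⟨x₂, rfl⟩ := hf₂ x₃
  exact ⟨Submodule.Quotient.mk x₂, rfl⟩

theorem exact_bMap (hf₁ : Injective f₁) (hN : LinearMap.range g₁ = LinearMap.ker g₂) :
    Exact (kerMap ψ₁ ψ₂ g₁ f₁ cψ₁) (kerMap ψ₂ ψ₃ g₂ f₂ cψ₂) := by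
  intro n₂
  constructor
  · intro hn
    have h0 : g₂ (n₂ : N₂) = 0 := congrArg Subtype.val hn
    have h1 : (n₂ : N₂) ∈ LinearMap.range g₁ := hN ▸ h0
    obtain ⟨n₁, hn₁⟩ := h1
    have h2 : ψ₁ n₁ = 0 := by
      apply hf₁
      have := LinearMap.congr_fun cψ₁ n₁
      rw [LinearMap.comp_apply, LinearMap.comp_apply] at this
      rw [← this, hn₁, map_zero]
      exact n₂.2
    exact ⟨⟨n₁, h2⟩, Subtype.ext hn₁⟩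
  · rintro ⟨n₁, rfl⟩
    apply Subtype.ext
    have : g₁ (n₁ : N₁) ∈ LinearMap.ker g₂ := hN ▸ ⟨(n₁ : N₁), rfl⟩
    exact this

theorem bMap_injective (hg₁ : Injective g₁) : Injective (kerMap ψ₁ ψ₂ g₁ f₁ cψ₁) := by
  intro a b hab
  apply Subtype.ext
  apply hg₁
  exact congrArg Subtype.val hab

include cφ₁ in
theorem exact_mid (h₂ : IsPeriodic φ₂ ψ₂) (hg₁ : Injective g₁) (hg₂ : Surjective g₂)
    (hM : LinearMap.range f₁ = LinearMap.ker f₂) :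
    Exact (hMap φ₁ ψ₁ φ₂ ψ₂ f₁ g₁ cφ₁ cψ₁) (hMap φ₂ ψ₂ φ₃ ψ₃ f₂ g₂ cφ₂ cψ₂) := by
  intro y
  obtain ⟨x₂, rfl⟩ := Submodule.Quotient.mk_surjective _ y
  rw [hMap_mk, mk_eq_zero_iff]
  constructor
  · rintro ⟨n₃, hn₃⟩
    rw [kerMap_coe] at hn₃
    obtain ⟨n₂, rfl⟩ := hg₂ n₃
    have hc := LinearMap.congr_fun cψ₂ n₂
    rw [LinearMap.comp_apply, LinearMap.comp_apply] at hc
    have h1 : (x₂ : M₂) - ψ₂ n₂ ∈ LinearMap.ker f₂ := by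
      rw [LinearMap.mem_ker, map_sub, ← hn₃, hc, sub_self]
    rw [← hM] at h1
    obtain ⟨m₁, hm₁⟩ := h1
    have h2 : φ₁ m₁ = 0 := by
      apply hg₁
      have := LinearMap.congr_fun cφ₁ m₁
      rw [LinearMap.comp_apply, LinearMap.comp_apply] at this
      rw [← this, hm₁, map_sub, map_zero]
      have h3 : φ₂ (x₂ : M₂) = 0 := x₂.2
      have h4 : φ₂ (ψ₂ n₂) = 0 := LinearMap.congr_fun h₂.1 n₂
      rw [h3, h4, sub_self]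
    refine ⟨Submodule.Quotient.mk ⟨m₁, h2⟩, ?_⟩
    rw [hMap_mk, Submodule.Quotient.eq]
    refine ⟨-n₂, ?_⟩
    rw [map_neg]
    show -ψ₂ n₂ = f₁ m₁ - (x₂ : M₂)
    rw [hm₁]
    abel
  · rintro ⟨z, hz⟩
    obtain ⟨m₁, rfl⟩ := Submodule.Quotient.mk_surjective _ z
    rw [hMap_mk, Submodule.Quotient.eq] at hz
    obtain ⟨n₂, hn₂⟩ := hz
    have hn₂' : ψ₂ n₂ = f₁ (m₁ : M₁) - (x₂ : M₂) := hn₂
    rw [kerMap_coe]
    refine ⟨- g₂ n₂, ?_⟩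
    have hc := LinearMap.congr_fun cψ₂ n₂
    rw [LinearMap.comp_apply, LinearMap.comp_apply] at hc
    have h2 : f₂ (f₁ (m₁ : M₁)) = 0 := by
      have : f₁ (m₁ : M₁) ∈ LinearMap.ker f₂ := hM ▸ ⟨(m₁ : M₁), rfl⟩
      exact this
    rw [map_neg, hc, hn₂', map_sub, h2, zero_sub, neg_neg]

include cφ₁ cφ₂ in
theorem snake (h₁ : IsPeriodic φ₁ ψ₁) (h₂ : IsPeriodic φ₂ ψ₂) (h₃ : IsPeriodic φ₃ ψ₃)
    (hf₁ : Injective f₁) (hg₁ : Injective g₁) (hf₂ : Surjective f₂) (hg₂ : Surjective g₂)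
    (hM : LinearMap.range f₁ = LinearMap.ker f₂) (hN : LinearMap.range g₁ = LinearMap.ker g₂) :
    ∃ δ : perH φ₃ ψ₃ →ₗ[R] perH ψ₁ φ₁,
      Exact (hMap φ₂ ψ₂ φ₃ ψ₃ f₂ g₂ cφ₂ cψ₂) δ ∧ Exact δ (hMap ψ₁ φ₁ ψ₂ φ₂ g₁ f₁ cψ₁ cφ₁) := by
  have hf := exact_tMap ψ₁ ψ₂ ψ₃ f₁ g₁ f₂ g₂ cψ₁ cψ₂ hg₂ hM
  have hg := exact_bMap ψ₁ ψ₂ ψ₃ f₁ g₁ f₂ g₂ cψ₁ cψ₂ hf₁ hN
  have e₁ : (kerMap ψ₁ ψ₂ g₁ f₁ cψ₁).comp (vmap φ₁ ψ₁ h₁) =
      (vmap φ₂ ψ₂ h₂).comp (tMap ψ₁ ψ₂ f₁ g₁ cψ₁) := by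
    apply LinearMap.ext
    intro y
    obtain ⟨x, rfl⟩ := Submodule.Quotient.mk_surjective _ y
    apply Subtype.ext
    exact (LinearMap.congr_fun cφ₁ x).symm
  have e₂ : (kerMap ψ₂ ψ₃ g₂ f₂ cψ₂).comp (vmap φ₂ ψ₂ h₂) =
      (vmap φ₃ ψ₃ h₃).comp (tMap ψ₂ ψ₃ f₂ g₂ cψ₂) := by
    apply LinearMap.ext
    intro y
    obtain ⟨x, rfl⟩ := Submodule.Quotient.mk_surjective _ y
    apply Subtype.ext
    exact (LinearMap.congr_fun cφ₂ x).symm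
  have hι₂ := exact_iota_vmap φ₂ ψ₂ h₂
  have hι₃ := exact_iota_vmap φ₃ ψ₃ h₃
  have hπ₁ := exact_vmap_mkQ φ₁ ψ₁ h₁
  have hπ₂ := exact_vmap_mkQ φ₂ ψ₂ h₂
  have hsurj := tMap_surjective ψ₂ ψ₃ f₂ g₂ cψ₂ hf₂
  have hinj := bMap_injective ψ₁ ψ₂ f₁ g₁ cψ₁ hg₁
  refine ⟨SnakeLemma.δ' (vmap φ₁ ψ₁ h₁) (vmap φ₂ ψ₂ h₂) (vmap φ₃ ψ₃ h₃)
    (tMap ψ₁ ψ₂ f₁ g₁ cψ₁) (tMap ψ₂ ψ₃ f₂ g₂ cψ₂) hf
    (kerMap ψ₁ ψ₂ g₁ f₁ cψ₁) (kerMap ψ₂ ψ₃ g₂ f₂ cψ₂) hg e₁ e₂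
    (iota φ₃ ψ₃) hι₃ (Submodule.mkQ ((LinearMap.range φ₁).submoduleOf (LinearMap.ker ψ₁))) hπ₁
    hsurj hinj, ?_, ?_⟩
  · refine SnakeLemma.exact_δ'_right (vmap φ₁ ψ₁ h₁) (vmap φ₂ ψ₂ h₂) (vmap φ₃ ψ₃ h₃)
      (tMap ψ₁ ψ₂ f₁ g₁ cψ₁) (tMap ψ₂ ψ₃ f₂ g₂ cψ₂) hf
      (kerMap ψ₁ ψ₂ g₁ f₁ cψ₁) (kerMap ψ₂ ψ₃ g₂ f₂ cψ₂) hg e₁ e₂
      (iota φ₂ ψ₂) hι₂ (iota φ₃ ψ₃) hι₃
      (Submodule.mkQ ((LinearMap.range φ₁).submoduleOf (LinearMap.ker ψ₁))) hπ₁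
      hsurj hinj (hMap φ₂ ψ₂ φ₃ ψ₃ f₂ g₂ cφ₂ cψ₂) ?_ (iota_injective φ₃ ψ₃)
    apply LinearMap.ext
    intro y
    obtain ⟨x, rfl⟩ := Submodule.Quotient.mk_surjective _ y
    rfl
  · refine SnakeLemma.exact_δ'_left (vmap φ₁ ψ₁ h₁) (vmap φ₂ ψ₂ h₂) (vmap φ₃ ψ₃ h₃)
      (tMap ψ₁ ψ₂ f₁ g₁ cψ₁) (tMap ψ₂ ψ₃ f₂ g₂ cψ₂) hf
      (kerMap ψ₁ ψ₂ g₁ f₁ cψ₁) (kerMap ψ₂ ψ₃ g₂ f₂ cψ₂) hg e₁ e₂
      (iota φ₃ ψ₃) hι₃
      (Submodule.mkQ ((LinearMap.range φ₁).submoduleOf (LinearMap.ker ψ₁))) hπ₁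
      (Submodule.mkQ ((LinearMap.range φ₂).submoduleOf (LinearMap.ker ψ₂))) hπ₂
      hsurj hinj (hMap ψ₁ φ₁ ψ₂ φ₂ g₁ f₁ cψ₁ cφ₁) ?_ (Submodule.mkQ_surjective _)
    apply LinearMap.ext
    intro y
    rfl

end ses

section hexagon

open Groth.Agent.Lib.Helper22.Herbrand

theorem length_le_of_exact {X Y Z : Type*} [AddCommGroup X] [Module R X] [AddCommGroup Y]
    [Module R Y] [AddCommGroup Z] [Module R Z] (f : X →ₗ[R] Y) (g : Y →ₗ[R] Z) (h : Exact f g) :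
    Module.length R Y ≤ Module.length R X + Module.length R Z := by
  rw [length_eq_range_add_range f g h]
  exact add_le_add (Module.length_le_of_surjective f.rangeRestrict f.surjective_rangeRestrict)
    (Module.length_le_of_injective (LinearMap.range g).subtype (Submodule.injective_subtype _))

theorem hexagon {X1 X2 X3 Y1 Y2 Y3 : Type*}
    [AddCommGroup X1] [Module R X1] [AddCommGroup X2] [Module R X2] [AddCommGroup X3] [Module R X3]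
    [AddCommGroup Y1] [Module R Y1] [AddCommGroup Y2] [Module R Y2] [AddCommGroup Y3] [Module R Y3]
    (a₁ : X1 →ₗ[R] X2) (a₂ : X2 →ₗ[R] X3) (δ : X3 →ₗ[R] Y1) (b₁ : Y1 →ₗ[R] Y2) (b₂ : Y2 →ₗ[R] Y3)
    (δ' : Y3 →ₗ[R] X1) (e1 : Exact a₁ a₂) (e2 : Exact a₂ δ) (e3 : Exact δ b₁) (e4 : Exact b₁ b₂)
    (e5 : Exact b₂ δ') (e6 : Exact δ' a₁) :
    Module.length R X1 + Module.length R X3 + Module.length R Y2 =
      Module.length R X2 + Module.length R Y1 + Module.length R Y3 := by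
  rw [length_eq_range_add_range a₁ a₂ e1, length_eq_range_add_range a₂ δ e2,
    length_eq_range_add_range δ b₁ e3, length_eq_range_add_range b₁ b₂ e4,
    length_eq_range_add_range b₂ δ' e5, length_eq_range_add_range δ' a₁ e6]
  ring

end hexagon

end Groth.Agent.Lib.Helper22.Hexagon
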