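import Mathlib.AlgebraicGeometry.AffineTransitionLimit
import Mathlib.AlgebraicGeometry.Morphisms.FinitePresentation
import Mathlib.Topology.Constructible
import Mathlib.AlgebraicGeometry.Morphisms.Separated

/-!
Constructible sets in cofiltered limits of schemes with affine transition maps.
-/

namespace Groth.Agent.Lib.Helper7

open CategoryTheory AlgebraicGeometry Topology Limits

universe u

/-- In a compact space, constructible sets are compact. -/
lemma isCompact_of_isConstructible_of_compactSpace {W : Type*} [TopologicalSpace W]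
    [CompactSpace W] (F : Set W) (hF : IsConstructible F) : IsCompact F := by
  induction F, hF using BooleanSubalgebra.closure_sdiff_sup_induction with
  | isSublattice =>
    exact ⟨fun s hs t ht ↦ ⟨hs.1.union ht.1, hs.2.union ht.2⟩,
      fun s hs t ht ↦ ⟨hs.1.inter ht.1, hs.2.inter_isOpen ht.2 ht.1⟩⟩
  | bot_mem => exact ⟨isOpen_empty, .empty⟩
  | top_mem => exact ⟨isOpen_univ, .univ⟩
  | sdiff U hU V hV =>
    have hUc : IsCompact U := by simpa using hU.2 isCompact_univ isOpen_univ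
    exact hUc.inter_right hV.1.isClosed_compl
  | sup s _ t _ hs' ht' => exact hs'.union ht'

variable {I : Type u} [SmallCategory I] [IsCofiltered I]
  (D : I ⥤ Scheme.{u}) (c : Limits.Cone D) (hc : Limits.IsLimit c)
  [∀ (i j : I) (f : i ⟶ j), IsAffineHom (D.map f)]

include hc in
lemma isAffineHom_π_app' (i : I) : IsAffineHom (c.π.app i) :=
  isAffineHom_π_app D c hc i

include hc in
lemma isBasis_preimage_isAffineOpen' :
    TopologicalSpace.Opens.IsBasis
      { (c.π.app i ⁻¹ᵁ V : c.pt.Opens) | (i : I) (V : (D.obj i).Opens) (_ : IsAffineOpen V) } :=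
  isBasis_preimage_isAffineOpen D c hc

include hc in
/-- If `W'` is a compact open and `E` a constructible subset of a stage `S_k`, `W` an open subset
of `S_k`, and the preimage of `W' ∩ E` in the limit is contained in the preimage of `W`, then this
already holds at some later stage. -/
lemma exists_map_preimage_inter_subset {k : I} (E : Set (D.obj k)) (hE : IsConstructible E)
    (W' : Set (D.obj k)) (hW'o : IsOpen W') (hW'c : IsCompact W') (W : Set (D.obj k))
    (hW : IsOpen W)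
    (h : ⇑(c.π.app k) ⁻¹' (W' ∩ E) ⊆ ⇑(c.π.app k) ⁻¹' W) :
    ∃ (j : I) (φ : j ⟶ k), ⇑(D.map φ) ⁻¹' (W' ∩ E) ⊆ ⇑(D.map φ) ⁻¹' W := by
  induction E, hE using BooleanSubalgebra.closure_sdiff_sup_induction with
  | isSublattice =>
    exact ⟨fun s hs t ht ↦ ⟨hs.1.union ht.1, hs.2.union ht.2⟩,
      fun s hs t ht ↦ ⟨hs.1.inter ht.1, hs.2.inter_isOpen ht.2 ht.1⟩⟩
  | bot_mem => exact ⟨isOpen_empty, .empty⟩
  | top_mem => exact ⟨isOpen_univ, .univ⟩
  | sdiff U hU V hV =>
    have hUc : IsCompact (W' ∩ U) := by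
      rw [Set.inter_comm]
      exact hU.2 hW'c hW'o
    have hUo : IsOpen (W' ∩ U) := hW'o.inter hU.1
    have hVo : IsOpen (V ∪ W) := hV.1.union hW
    have h' : c.π.app k ⁻¹ᵁ ⟨W' ∩ U, hUo⟩ ≤ c.π.app k ⁻¹ᵁ ⟨V ∪ W, hVo⟩ := by
      intro x hx
      have hx' : c.π.app k x ∈ W' ∩ U := hx
      by_cases hxV : c.π.app k x ∈ V
      · exact Or.inl hxV
      · exact Or.inr (h ⟨hx'.1, hx'.2, hxV⟩)
    obtain ⟨j, φ, hφ⟩ := exists_map_preimage_le_map_preimage D c hc
      (U := ⟨W' ∩ U, hUo⟩) (V := ⟨V ∪ W, hVo⟩) hUc h'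
    refine ⟨j, φ, ?_⟩
    rintro x ⟨hx1, hx2, hx3⟩
    rcases hφ (show x ∈ D.map φ ⁻¹ᵁ ⟨W' ∩ U, hUo⟩ from ⟨hx1, hx2⟩) with h4 | h4
    · exact absurd h4 hx3
    · exact h4
  | sup s _ t _ hs' ht' =>
    obtain ⟨j₁, φ₁, h₁⟩ := hs' (fun x hx => h ⟨hx.1, Or.inl hx.2⟩)
    obtain ⟨j₂, φ₂, h₂⟩ := ht' (fun x hx => h ⟨hx.1, Or.inr hx.2⟩)
    obtain ⟨j, a, b, hab⟩ := IsCofiltered.cospan φ₁ φ₂
    refine ⟨j, a ≫ φ₁, ?_⟩
    rintro x ⟨hx1, hx2 | hx2⟩
    · have : (D.map a x) ∈ ⇑(D.map φ₁) ⁻¹' W := h₁ ⟨by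
        simpa [Functor.map_comp] using hx1, by simpa [Functor.map_comp] using hx2⟩
      simpa [Functor.map_comp] using this
    · have : (D.map b x) ∈ ⇑(D.map φ₂) ⁻¹' W := h₂ ⟨by
        rw [hab] at hx1
        simpa [Functor.map_comp] using hx1, by
        rw [hab] at hx2
        simpa [Functor.map_comp] using hx2⟩
      rw [hab]
      simpa [Functor.map_comp] using this

omit [IsCofiltered I] [∀ (i j : I) (f : i ⟶ j), IsAffineHom (D.map f)] in
lemma map_π_apply {i j : I} (a : i ⟶ j) (x : c.pt) : D.map a (c.π.app i x) = c.π.app j x := by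
  rw [← c.w a]
  rfl

omit [IsCofiltered I] [∀ (i j : I) (f : i ⟶ j), IsAffineHom (D.map f)] in
lemma map_comp_apply {i j k : I} (a : i ⟶ j) (b : j ⟶ k) (x : D.obj i) :
    D.map (a ≫ b) x = D.map b (D.map a x) := by
  rw [Functor.map_comp]
  rfl

include hc in
/-- The preimage in the limit of `U_k ∩ E`, with `U_k` compact open and `E` constructible in a
stage, is compact. -/
lemma isCompact_preimage_inter {k : I} (E : Set (D.obj k)) (hE : IsConstructible E)
    (W' : Set (D.obj k)) (hW'o : IsOpen W') (hW'c : IsCompact W') :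
    IsCompact (⇑(c.π.app k) ⁻¹' (W' ∩ E)) := by
  have hπ : IsAffineHom (c.π.app k) := isAffineHom_π_app D c hc k
  induction E, hE using BooleanSubalgebra.closure_sdiff_sup_induction with
  | isSublattice =>
    exact ⟨fun s hs t ht ↦ ⟨hs.1.union ht.1, hs.2.union ht.2⟩,
      fun s hs t ht ↦ ⟨hs.1.inter ht.1, hs.2.inter_isOpen ht.2 ht.1⟩⟩
  | bot_mem => exact ⟨isOpen_empty, .empty⟩
  | top_mem => exact ⟨isOpen_univ, .univ⟩
  | sdiff U hU V hV =>
    have hUc : IsCompact (W' ∩ U) := by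
      rw [Set.inter_comm]
      exact hU.2 hW'c hW'o
    have hUo : IsOpen (W' ∩ U) := hW'o.inter hU.1
    have h1 : IsCompact (⇑(c.π.app k) ⁻¹' (W' ∩ U)) :=
      QuasiCompact.isCompact_preimage (f := c.π.app k) _ hUo hUc
    have h2 : IsClosed (⇑(c.π.app k) ⁻¹' Vᶜ) :=
      hV.1.isClosed_compl.preimage (c.π.app k).continuous
    have h3 : ⇑(c.π.app k) ⁻¹' (W' ∩ (U \ V)) =
        ⇑(c.π.app k) ⁻¹' (W' ∩ U) ∩ ⇑(c.π.app k) ⁻¹' Vᶜ := by
      ext x
      simp only [Set.mem_preimage, Set.mem_inter_iff, Set.mem_sdiff, Set.mem_compl_iff]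
      tauto
    rw [h3]
    exact h1.inter_right h2
  | sup s _ t _ hs' ht' =>
    have h3 : ⇑(c.π.app k) ⁻¹' (W' ∩ (s ⊔ t)) =
        ⇑(c.π.app k) ⁻¹' (W' ∩ s) ∪ ⇑(c.π.app k) ⁻¹' (W' ∩ t) := by
      ext x
      simp only [Set.mem_preimage, Set.mem_inter_iff, Set.sup_eq_union, Set.mem_union]
      tauto
    rw [h3]
    exact hs'.union ht'

include hc in
/-- If the preimage in the limit of `U_k ∩ E` (`U_k` compact open, `E` constructible in the stage
`S_k`) is open, then the preimage of `U_k ∩ E` in some later stage is open. -/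
theorem exists_isOpen_map_preimage_inter {k : I} (E : Set (D.obj k)) (hE : IsConstructible E)
    (Uk : Set (D.obj k)) (hUo : IsOpen Uk) (hUc : IsCompact Uk)
    (hopen : IsOpen (⇑(c.π.app k) ⁻¹' (Uk ∩ E))) :
    ∃ (j : I) (φ : j ⟶ k), IsOpen (⇑(D.map φ) ⁻¹' (Uk ∩ E)) := by
  have hZc := isCompact_preimage_inter D c hc E hE Uk hUo hUc
  have hC : ∃ (j : I) (ψ : j ⟶ k) (O : Set (D.obj j)), IsOpen O ∧ O ⊆ ⇑(D.map ψ) ⁻¹' (Uk ∩ E) ∧
      (⇑(c.π.app k) ⁻¹' (Uk ∩ E) : Set c.pt) ⊆ ⇑(c.π.app j) ⁻¹' O := by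
    refine hZc.induction_on (p := fun K => ∃ (j : I) (ψ : j ⟶ k) (O : Set (D.obj j)),
      IsOpen O ∧ O ⊆ ⇑(D.map ψ) ⁻¹' (Uk ∩ E) ∧ K ⊆ ⇑(c.π.app j) ⁻¹' O) ?_ ?_ ?_ ?_
    · exact ⟨k, 𝟙 _, ∅, isOpen_empty, Set.empty_subset _, Set.empty_subset _⟩
    · rintro s t hst ⟨j, ψ, O, hO, hOZ, htO⟩
      exact ⟨j, ψ, O, hO, hOZ, hst.trans htO⟩
    · rintro s t ⟨j₁, ψ₁, O₁, hO₁, hOZ₁, hs⟩ ⟨j₂, ψ₂, O₂, hO₂, hOZ₂, ht⟩
      obtain ⟨j, a, b, hab⟩ := IsCofiltered.cospan ψ₁ ψ₂
      refine ⟨j, a ≫ ψ₁, ⇑(D.map a) ⁻¹' O₁ ∪ ⇑(D.map b) ⁻¹' O₂,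
        (hO₁.preimage (D.map a).continuous).union (hO₂.preimage (D.map b).continuous), ?_, ?_⟩
      · rintro x (hx | hx)
        · have := hOZ₁ hx
          rw [Set.mem_preimage] at this ⊢
          rwa [map_comp_apply]
        · have := hOZ₂ hx
          rw [Set.mem_preimage] at this ⊢
          rwa [hab, map_comp_apply]
      · rintro x (hx | hx)
        · left
          have := hs hx
          rw [Set.mem_preimage] at this ⊢
          rwa [map_π_apply]
        · right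
          have := ht hx
          rw [Set.mem_preimage] at this ⊢
          rwa [map_π_apply]
    · intro x hx
      obtain ⟨_, ⟨_, ⟨i, W, hW, rfl⟩, rfl⟩, hxW, hWZ⟩ :=
        (isBasis_preimage_isAffineOpen D c hc).exists_subset_of_mem_open hx hopen
      have hW'c : IsCompact (⇑(D.map (IsCofiltered.minToLeft i k)) ⁻¹' (W : Set (D.obj i))) :=
        (hW.preimage (D.map (IsCofiltered.minToLeft i k))).isCompact
      have hW'o : IsOpen (⇑(D.map (IsCofiltered.minToLeft i k)) ⁻¹' (W : Set (D.obj i))) :=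
        W.2.preimage (D.map (IsCofiltered.minToLeft i k)).continuous
      obtain ⟨j₁, φ₁, hφ₁⟩ := exists_map_preimage_inter_subset D c hc
        (⇑(D.map (IsCofiltered.minToRight i k)) ⁻¹' E)ᶜ
        ((D.map (IsCofiltered.minToRight i k)).isConstructible_preimage hE).compl
        _ hW'o hW'c ∅ isOpen_empty (by
          rintro y ⟨hy1, hy2⟩
          exfalso
          apply hy2
          rw [Set.mem_preimage, map_π_apply] at hy1
          have : y ∈ (⇑(c.π.app k) ⁻¹' (Uk ∩ E) : Set c.pt) := hWZ hy1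
          rw [Set.mem_preimage, map_π_apply]
          exact this.2)
      obtain ⟨j₂, φ₂, hφ₂⟩ := exists_map_preimage_inter_subset D c hc
        Set.univ IsConstructible.univ
        _ hW'o hW'c (⇑(D.map (IsCofiltered.minToRight i k)) ⁻¹' Uk)
        (hUo.preimage (D.map (IsCofiltered.minToRight i k)).continuous) (by
          rintro y ⟨hy1, -⟩
          rw [Set.mem_preimage, map_π_apply] at hy1
          have : y ∈ (⇑(c.π.app k) ⁻¹' (Uk ∩ E) : Set c.pt) := hWZ hy1
          rw [Set.mem_preimage, Set.mem_preimage, map_π_apply]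
          exact this.1)
      obtain ⟨j, a, b, hab⟩ := IsCofiltered.cospan φ₁ φ₂
      refine ⟨⇑(c.π.app i) ⁻¹' (W : Set (D.obj i)),
        mem_nhdsWithin_of_mem_nhds ((W.2.preimage (c.π.app i).continuous).mem_nhds hxW),
        j, (a ≫ φ₁) ≫ IsCofiltered.minToRight i k,
        ⇑(D.map (a ≫ φ₁)) ⁻¹' (⇑(D.map (IsCofiltered.minToLeft i k)) ⁻¹' (W : Set (D.obj i))),
        hW'o.preimage (D.map (a ≫ φ₁)).continuous, ?_, ?_⟩
      · intro y hy
        rw [Set.mem_preimage, map_comp_apply] at hy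
        constructor
        · have hy' : D.map φ₂ (D.map b y) ∈
              ⇑(D.map (IsCofiltered.minToLeft i k)) ⁻¹' (W : Set (D.obj i)) := by
            rw [← map_comp_apply D b φ₂, ← hab, map_comp_apply]
            exact hy
          have h2 := hφ₂ (show D.map b y ∈ _ from ⟨hy', Set.mem_univ _⟩)
          simp only [Set.mem_preimage] at h2
          rw [hab, Category.assoc, map_comp_apply, map_comp_apply]
          exact h2
        · by_contra hcon
          refine (hφ₁ ⟨hy, ?_⟩ : D.map φ₁ (D.map a y) ∈ (∅ : Set _))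
          intro h
          apply hcon
          rw [map_comp_apply, map_comp_apply]
          exact h
      · intro y hy
        rw [Set.mem_preimage] at hy
        rw [Set.mem_preimage, Set.mem_preimage, Set.mem_preimage, map_π_apply, map_π_apply]
        exact hy
  obtain ⟨j, ψ, O, hO, hOZ, hZO⟩ := hC
  have hUjc : IsCompact (⇑(D.map ψ) ⁻¹' Uk) :=
    QuasiCompact.isCompact_preimage (f := D.map ψ) _ hUo hUc
  obtain ⟨j', φ', h'⟩ := exists_map_preimage_inter_subset D c hc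
    (⇑(D.map ψ) ⁻¹' E) ((D.map ψ).isConstructible_preimage hE) (⇑(D.map ψ) ⁻¹' Uk)
    (hUo.preimage (D.map ψ).continuous) hUjc O hO (by
      rintro y ⟨hy1, hy2⟩
      apply hZO
      simp only [Set.mem_preimage] at hy1 hy2
      rw [map_π_apply] at hy1 hy2
      exact ⟨hy1, hy2⟩)
  refine ⟨j', φ' ≫ ψ, ?_⟩
  have heq : ⇑(D.map (φ' ≫ ψ)) ⁻¹' (Uk ∩ E) = ⇑(D.map φ') ⁻¹' O := by
    ext y
    rw [Set.mem_preimage, Set.mem_preimage, map_comp_apply]
    constructor
    · intro hy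
      exact h' ⟨hy.1, hy.2⟩
    · intro hy
      exact hOZ hy
  rw [heq]
  exact hO.preimage (D.map φ').continuous

set_option backward.isDefEq.respectTransparency false in
include hc in
/-- If `g : T ⟶ S_i` is a morphism from an affine scheme such that all the base changes
`S_j ×_{S_i} T` (for `j ⟶ i`) are nonempty, then some point of the limit maps into the range of
`g`. (The limit of the `S_j ×_{S_i} T` is nonempty.) -/
lemma exists_π_app_mem_range {i : I} {T : Scheme.{u}} [IsAffine T] (g : T ⟶ D.obj i)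
    (H : ∀ (j : I) (φ : j ⟶ i), Nonempty ↥(Limits.pullback (D.map φ) g)) :
    ∃ x : c.pt, c.π.app i x ∈ Set.range g := by
  have : ∀ {i j : I} (f : i ⟶ j), IsAffineHom (D.map f) := fun f => inferInstance
  let F := Over.post D ⋙ Over.pullback g ⋙ Over.forget _
  have (i' : _) : IsAffine (F.obj i') :=
    have : IsAffineHom (pullback.snd (D.map i'.hom) g) :=
      MorphismProperty.pullback_snd _ _ inferInstance
    isAffine_of_isAffineHom (pullback.snd (D.map i'.hom) g)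
  have (i' : _) : Nonempty (F.obj i') := H _ i'.hom
  let e : F ⟶ (F ⋙ Scheme.Γ.rightOp) ⋙ Scheme.Spec := Functor.whiskerLeft F ΓSpec.adjunction.unit
  have (i : _) : IsIso (e.app i) := IsAffine.affine
  have : IsIso e := NatIso.isIso_of_isIso_app e
  let c' : LimitCone F := ⟨_, (IsLimit.postcomposeInvEquiv (asIso e) _).symm
    (isLimitOfPreserves Scheme.Spec (limit.isLimit (F ⋙ Scheme.Γ.rightOp)))⟩
  have : Nonempty c'.1.pt := by
    apply +allowSynthFailures PrimeSpectrum.instNonemptyOfNontrivial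
    have (i' : _) : Nontrivial ((F ⋙ Scheme.Γ.rightOp).leftOp.obj i') := by
      apply +allowSynthFailures Scheme.component_nontrivial
      simp
    exact CommRingCat.FilteredColimits.nontrivial
      (isColimitCoconeLeftOpOfCone _ (limit.isLimit (F ⋙ Scheme.Γ.rightOp)))
  let α : F ⟶ Over.forget _ ⋙ D := Functor.whiskerRight
    (Functor.whiskerLeft (Over.post D) (Over.mapPullbackAdj g).counit) (Over.forget _)
  obtain ⟨y⟩ := this
  let hc₀ := ((Functor.Initial.isLimitWhiskerEquiv (Over.forget i) c).symm hc)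
  let l : c'.1.pt ⟶ c.pt := hc₀.lift ((Cone.postcompose α).obj c'.1)
  refine ⟨l y, ?_⟩
  have h1 : l ≫ c.π.app i = c'.1.π.app (Over.mk (𝟙 i)) ≫ α.app (Over.mk (𝟙 i)) :=
    hc₀.fac ((Cone.postcompose α).obj c'.1) (Over.mk (𝟙 i))
  have h2 : α.app (Over.mk (𝟙 i)) = pullback.snd (D.map (𝟙 i)) g ≫ g := by
    have : α.app (Over.mk (𝟙 i)) = pullback.fst (D.map (𝟙 i)) g := by
      simp [α]
      rfl
    rw [this, ← pullback.condition]
    simp
  refine ⟨pullback.snd (D.map (𝟙 i)) g (c'.1.π.app (Over.mk (𝟙 i)) y), ?_⟩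
  have h3 : c.π.app i (l y) = (l ≫ c.π.app i) y := rfl
  rw [h3, h1, h2]
  rfl

include hc in
/-- A point `s` of a stage `S_i` is in the image of the limit as soon as it is in the image of all
the transition maps `S_j ⟶ S_i`. -/
lemma exists_π_app_eq {i : I} (s : D.obj i)
    (H : ∀ (j : I) (φ : j ⟶ i), ∃ x : D.obj j, D.map φ x = s) :
    ∃ x : c.pt, c.π.app i x = s := by
  obtain ⟨x, hx⟩ := exists_π_app_mem_range D c hc ((D.obj i).fromSpecResidueField s) (by
    intro j φ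
    obtain ⟨x, hx⟩ := H j φ
    obtain ⟨t⟩ : Nonempty (Spec ((D.obj i).residueField s)) := inferInstance
    have ht : (D.obj i).fromSpecResidueField s t = s := by
      have : (D.obj i).fromSpecResidueField s t ∈ Set.range ((D.obj i).fromSpecResidueField s) :=
        ⟨t, rfl⟩
      rw [Scheme.range_fromSpecResidueField] at this
      exact this
    obtain ⟨z, -, -⟩ := Scheme.Pullback.exists_preimage_pullback (f := D.map φ)
      (g := (D.obj i).fromSpecResidueField s) x t (hx.trans ht.symm)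
    exact ⟨z⟩)
  rw [Scheme.range_fromSpecResidueField] at hx
  exact ⟨x, hx⟩

include hc in
/-- Two disjoint compact open subsets of the limit descend to disjoint compact open subsets
of a stage over a given quasi-compact quasi-separated stage `i₀`; if they cover the limit, the
descended opens can be chosen to cover the stage. -/
lemma exists_stage_disjoint (i₀ : I) [CompactSpace (D.obj i₀)] [QuasiSeparatedSpace (D.obj i₀)]
    (U V : Set c.pt) (hU : IsOpen U) (hV : IsOpen V) (hUc : IsCompact U) (hVc : IsCompact V)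
    (hUV : Disjoint U V) :
    ∃ (k : I) (_ : k ⟶ i₀) (Uk Vk : Set (D.obj k)), IsOpen Uk ∧ IsOpen Vk ∧
      ⇑(c.π.app k) ⁻¹' Uk = U ∧ ⇑(c.π.app k) ⁻¹' Vk = V ∧ Disjoint Uk Vk ∧
      (U ∪ V = Set.univ → Uk ∪ Vk = Set.univ) := by
  have : ∀ {i j : I} (f : i ⟶ j), IsAffineHom (D.map f) := fun f => inferInstance
  obtain ⟨i, Ui, hUic, hUi⟩ := exists_preimage_eq D c hc ⟨U, hU⟩ hUc
  obtain ⟨i', Vi, hVic, hVi⟩ := exists_preimage_eq D c hc ⟨V, hV⟩ hVc
  -- common stage
  let k₁ := IsCofiltered.min i i'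
  let k := IsCofiltered.min k₁ i₀
  let a : k ⟶ i := IsCofiltered.minToLeft k₁ i₀ ≫ IsCofiltered.minToLeft i i'
  let a' : k ⟶ i' := IsCofiltered.minToLeft k₁ i₀ ≫ IsCofiltered.minToRight i i'
  let b : k ⟶ i₀ := IsCofiltered.minToRight k₁ i₀
  have hkc : CompactSpace (D.obj k) := QuasiCompact.compactSpace_of_compactSpace (D.map b)
  have hkqs : QuasiSeparatedSpace (D.obj k) := quasiSeparatedSpace_of_quasiSeparated (D.map b)
  let Uk : (D.obj k).Opens := D.map a ⁻¹ᵁ Ui
  let Vk : (D.obj k).Opens := D.map a' ⁻¹ᵁ Vi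
  have hUkc : IsCompact (Uk : Set (D.obj k)) :=
    QuasiCompact.isCompact_preimage (f := D.map a) _ Ui.2 hUic
  have hVkc : IsCompact (Vk : Set (D.obj k)) :=
    QuasiCompact.isCompact_preimage (f := D.map a') _ Vi.2 hVic
  have hπU : c.π.app k ⁻¹ᵁ Uk = ⟨U, hU⟩ := by
    rw [← hUi, ← Scheme.Hom.comp_preimage, c.w]
  have hπV : c.π.app k ⁻¹ᵁ Vk = ⟨V, hV⟩ := by
    rw [← hVi, ← Scheme.Hom.comp_preimage, c.w]
  have hcap : IsCompact ((Uk ⊓ Vk : (D.obj k).Opens) : Set (D.obj k)) :=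
    QuasiSeparatedSpace.inter_isCompact _ _ Uk.2 hUkc Vk.2 hVkc
  obtain ⟨j₁, φ₁, h₁⟩ := exists_map_preimage_le_map_preimage D c hc (U := Uk ⊓ Vk) (V := ⊥) hcap (by
    rw [Scheme.Hom.preimage_inf, hπU, hπV]
    intro x hx
    exact (Set.disjoint_iff.mp hUV hx).elim)
  have key : ∃ (j : I) (ψ : j ⟶ k), D.map ψ ⁻¹ᵁ (Uk ⊓ Vk) ≤ D.map ψ ⁻¹ᵁ ⊥ ∧
      (U ∪ V = Set.univ → (⊤ : (D.obj j).Opens) ≤ D.map ψ ⁻¹ᵁ (Uk ⊔ Vk)) := by
    by_cases hcov : U ∪ V = Set.univ
    · obtain ⟨j₂, φ₂, h₂⟩ := exists_map_preimage_le_map_preimage D c hc (U := ⊤) (V := Uk ⊔ Vk)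
        isCompact_univ (by
          rw [Scheme.Hom.preimage_sup, hπU, hπV]
          intro x _
          have : x ∈ U ∪ V := hcov ▸ Set.mem_univ x
          exact this)
      obtain ⟨j, α, β, hαβ⟩ := IsCofiltered.cospan φ₁ φ₂
      refine ⟨j, α ≫ φ₁, ?_, fun _ => ?_⟩
      · rw [Functor.map_comp, Scheme.Hom.comp_preimage, Scheme.Hom.comp_preimage]
        exact Scheme.Hom.preimage_mono _ h₁
      · rw [hαβ, Functor.map_comp, Scheme.Hom.comp_preimage]
        have := Scheme.Hom.preimage_mono (D.map β) h₂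
        simpa using this
    · exact ⟨j₁, φ₁, h₁, fun h => (hcov h).elim⟩
  obtain ⟨j, ψ, hψ₁, hψ₂⟩ := key
  refine ⟨j, ψ ≫ b, ((D.map ψ ⁻¹ᵁ Uk : (D.obj j).Opens) : Set (D.obj j)),
    ((D.map ψ ⁻¹ᵁ Vk : (D.obj j).Opens) : Set (D.obj j)), (D.map ψ ⁻¹ᵁ Uk).2, (D.map ψ ⁻¹ᵁ Vk).2,
    ?_, ?_, ?_, ?_⟩
  · have : c.π.app j ⁻¹ᵁ (D.map ψ ⁻¹ᵁ Uk) = ⟨U, hU⟩ := by
      rw [← hπU, ← Scheme.Hom.comp_preimage, c.w]
    exact congrArg (fun O : c.pt.Opens => (O : Set c.pt)) this
  · have : c.π.app j ⁻¹ᵁ (D.map ψ ⁻¹ᵁ Vk) = ⟨V, hV⟩ := by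
      rw [← hπV, ← Scheme.Hom.comp_preimage, c.w]
    exact congrArg (fun O : c.pt.Opens => (O : Set c.pt)) this
  · rw [Set.disjoint_iff]
    intro x hx
    exact hψ₁ (show x ∈ D.map ψ ⁻¹ᵁ (Uk ⊓ Vk) from hx)
  · intro hcov
    rw [Set.eq_univ_iff_forall]
    intro x
    exact hψ₂ hcov (show x ∈ (⊤ : (D.obj j).Opens) from trivial)

include hc in
/-- If all transition maps into `S_i` are dominant, so is the projection from the limit. -/
lemma isDominant_π_app (i : I) (hdom : ∀ (j : I) (φ : j ⟶ i), IsDominant (D.map φ)) :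
    IsDominant (c.π.app i) := by
  have : ∀ {i j : I} (f : i ⟶ j), IsAffineHom (D.map f) := fun f => inferInstance
  refine ⟨?_⟩
  rw [DenseRange, dense_iff_inter_open]
  intro U₀ hU₀ ⟨s, hs⟩
  obtain ⟨_, ⟨U, hU : IsAffineOpen U, rfl⟩, hsU, hUU₀⟩ :=
    (D.obj i).isBasis_affineOpens.exists_subset_of_mem_open hs hU₀
  have hne : ∀ j : Over i, Nonempty ((opensDiagram D i U).obj j) := by
    intro j
    obtain ⟨y, hy, ⟨x, rfl⟩⟩ := (dense_iff_inter_open.mp (hdom j.left j.hom).denseRange)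
      U U.2 ⟨s, hsU⟩
    exact ⟨⟨x, hy⟩⟩
  have hcpt : ∀ j : Over i, CompactSpace ((opensDiagram D i U).obj j) := by
    intro j
    have : IsAffine ((opensDiagram D i U).obj j) := hU.preimage (D.map j.hom)
    infer_instance
  obtain ⟨x⟩ := Scheme.nonempty_of_isLimit (opensDiagram D i U) (opensCone D c i U)
    (isLimitOpensCone D c hc i U)
  exact ⟨c.π.app i x.1, hUU₀ x.2, ⟨x.1, rfl⟩⟩

include hc in
/-- If all stages over a quasi-compact stage `S_i` are nonempty, so is the limit. -/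
lemma nonempty_pt_of_forall_nonempty (i : I) [CompactSpace (D.obj i)]
    (hne : ∀ (j : I) (_ : j ⟶ i), Nonempty (D.obj j)) : Nonempty c.pt := by
  have : ∀ {i j : I} (f : i ⟶ j), IsAffineHom (D.map f) := fun f => inferInstance
  by_contra hemp
  obtain ⟨j, φ, hφ⟩ := exists_map_preimage_le_map_preimage D c hc (i := i) (U := ⊤) (V := ⊥)
    isCompact_univ (fun x _ => (hemp ⟨x⟩).elim)
  obtain ⟨z⟩ := hne j φ
  exact hφ (show z ∈ D.map φ ⁻¹ᵁ ⊤ from trivial)

end Groth.Agent.Lib.Helper7
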