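import Mathlib
import Groth.Agent.Lib.Helper7Lim

/-!
# Clopen lifting along a morphism and its behaviour under cofiltered limits (helper22)
-/

set_option autoImplicit false
set_option linter.style.haveILetI false
set_option linter.unusedSectionVars false
set_option linter.unusedVariables false
universe u
open CategoryTheory Limits AlgebraicGeometry

namespace Groth.Agent.Lib.Helper22.Pi0HensA

/-- every clopen subset of the source is the preimage of a clopen subset of the target. -/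
def CL {F X : Scheme.{u}} (ι : F ⟶ X) : Prop :=
  ∀ W : Set F, IsClopen W → ∃ W' : Set X, IsClopen W' ∧ ⇑ι ⁻¹' W' = W

theorem CL.of_iso_comp {F F' X : Scheme.{u}} {ι' : F' ⟶ X} (h : CL ι') (e : F ≅ F') :
    CL (e.hom ≫ ι') := by
  intro W hW
  have hinv : ∀ x, e.hom (e.inv x) = x := fun x => by
    rw [← Scheme.Hom.comp_apply, e.inv_hom_id]; rfl
  have hhom : ∀ x, e.inv (e.hom x) = x := fun x => by
    rw [← Scheme.Hom.comp_apply, e.hom_inv_id]; rfl
  obtain ⟨W', hW', hpre⟩ := h (⇑e.inv ⁻¹' W) (hW.preimage e.inv.continuous)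
  refine ⟨W', hW', ?_⟩
  ext x
  have : (e.hom ≫ ι') x = ι' (e.hom x) := rfl
  rw [Set.mem_preimage, this]
  have h2 : e.hom x ∈ ⇑ι' ⁻¹' W' ↔ e.hom x ∈ ⇑e.inv ⁻¹' W := by rw [hpre]
  rw [Set.mem_preimage] at h2
  rw [h2, Set.mem_preimage, hhom]

theorem CL.of_iso {F F' X : Scheme.{u}} {ι : F ⟶ X} {ι' : F' ⟶ X} (h : CL ι') (e : F ≅ F')
    (he : e.hom ≫ ι' = ι) : CL ι := he ▸ h.of_iso_comp e

theorem CL.comp_iso {F X X' : Scheme.{u}} {ι : F ⟶ X} (h : CL ι) (e : X ≅ X') :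
    CL (ι ≫ e.hom) := by
  intro W hW
  have hhom : ∀ x, e.inv (e.hom x) = x := fun x => by
    rw [← Scheme.Hom.comp_apply, e.hom_inv_id]; rfl
  obtain ⟨W', hW', hpre⟩ := h W hW
  refine ⟨⇑e.inv ⁻¹' W', hW'.preimage e.inv.continuous, ?_⟩
  ext x
  have : (ι ≫ e.hom) x = e.hom (ι x) := rfl
  rw [Set.mem_preimage, this, Set.mem_preimage, hhom, ← hpre, Set.mem_preimage]

/-- two pullbacks of the same cospan have the same clopen lifting property -/
theorem CL.of_isPullback {F F' X T S : Scheme.{u}} {f : X ⟶ S} {z : T ⟶ S} {ι : F ⟶ X}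
    {p : F ⟶ T} {ι' : F' ⟶ X} {p' : F' ⟶ T} (h : CL ι') (hp' : IsPullback ι' p' f z)
    (hp : IsPullback ι p f z) : CL ι :=
  h.of_iso (hp.isoIsPullback _ _ hp') (by simp)

open Groth.Agent.Lib.Helper7 in
/-- the clopen lifting property passes to cofiltered limits of the sources. -/
theorem CL.of_limit {I : Type u} [SmallCategory I] [IsCofiltered I]
    (D : I ⥤ Scheme.{u}) (c : Cone D) (hc : IsLimit c)
    [∀ (i j : I) (f : i ⟶ j), IsAffineHom (D.map f)] (i₀ : I) [CompactSpace (D.obj i₀)]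
    [QuasiSeparatedSpace (D.obj i₀)]
    {X : Scheme.{u}} (ι : c.pt ⟶ X)
    (Xs : I → Scheme.{u}) (ιs : ∀ i, D.obj i ⟶ Xs i) (πs : ∀ i, X ⟶ Xs i)
    (hcomm : ∀ i, ι ≫ πs i = c.π.app i ≫ ιs i)
    (hCL : ∀ i, CL (ιs i)) : CL ι := by
  intro W hW
  have hπ : IsAffineHom (c.π.app i₀) := isAffineHom_π_app D c hc i₀
  have hcpt : CompactSpace c.pt := QuasiCompact.compactSpace_of_compactSpace (c.π.app i₀)
  obtain ⟨k, _, Uk, Vk, hUk, hVk, hpU, hpV, hdisj, hcov⟩ :=
    exists_stage_disjoint D c hc i₀ W Wᶜ hW.2 hW.1.isOpen_compl hW.1.isCompact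
      hW.2.isClosed_compl.isCompact disjoint_compl_right
  have hcov' : Uk ∪ Vk = Set.univ := hcov (Set.union_compl_self W)
  have hUkc : IsClopen Uk := by
    refine ⟨?_, hUk⟩
    have : Uk = Vkᶜ := by
      ext x
      constructor
      · intro hx hx'
        exact Set.disjoint_iff.mp hdisj ⟨hx, hx'⟩
      · intro hx
        have : x ∈ Uk ∪ Vk := hcov' ▸ Set.mem_univ x
        exact this.resolve_right hx
    rw [this]
    exact hVk.isClosed_compl
  obtain ⟨W', hW', hpre⟩ := hCL k Uk hUkc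
  refine ⟨⇑(πs k) ⁻¹' W', hW'.preimage (πs k).continuous, ?_⟩
  ext x
  have e1 : (πs k) (ι x) = (ι ≫ πs k) x := rfl
  have e2 : (c.π.app k ≫ ιs k) x = ιs k (c.π.app k x) := rfl
  rw [Set.mem_preimage, Set.mem_preimage, e1, hcomm, e2, ← hpU, Set.mem_preimage, ← hpre,
    Set.mem_preimage]

end Groth.Agent.Lib.Helper22.Pi0HensA
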