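import Mathlib
import Groth.Agent.Lib.Helper22Pi0HensA
import Groth.Agent.Lib.Helper22LimBC
import Groth.Agent.S17961
import Groth.Agent.S2079

/-!
# Clopen lifting: the Noetherian henselian pair input, and reduction of proper to proper f.p.
(helper22)
-/

set_option autoImplicit false
set_option linter.style.haveILetI false
set_option linter.unusedSectionVars false
set_option linter.unusedVariables false
universe u
open CategoryTheory Limits AlgebraicGeometry

namespace Groth.Agent.Lib.Helper22.Pi0HensB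

open Groth.Agent.Lib.Helper22.Pi0HensA Groth.Agent.Lib.Helper22.LimBC

/-- helper12's S17961 in square form. -/
theorem CL_noeth (A : Type u) [CommRing A] [IsNoetherianRing A] (I : Ideal A) [HenselianRing A I]
    {X F : Scheme.{u}} (f : X ⟶ Spec (CommRingCat.of A)) [IsProper f] (ι : F ⟶ X)
    (p : F ⟶ Spec (CommRingCat.of (A ⧸ I)))
    (h : IsPullback ι p f (Spec.map (CommRingCat.ofHom (Ideal.Quotient.mk I)))) : CL ι := by
  have key : CL (pullback.fst f (Spec.map (CommRingCat.ofHom (Ideal.Quotient.mk I)))) := by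
    intro W hW
    have H := Groth.Agent.S17961.result A I f X (𝟙 X) inferInstance
    let s := pullback.snd (𝟙 X) (pullback.fst f (Spec.map (CommRingCat.ofHom (Ideal.Quotient.mk I))))
    have hs : IsIso s := inferInstance
    obtain ⟨U, ⟨hU, hpre⟩, -⟩ := H (⇑s ⁻¹' W) (hW.preimage s.continuous)
    refine ⟨U, hU, ?_⟩
    have hcond : pullback.fst (𝟙 X) (pullback.fst f (Spec.map (CommRingCat.ofHom (Ideal.Quotient.mk I))))
        = s ≫ pullback.fst f (Spec.map (CommRingCat.ofHom (Ideal.Quotient.mk I))) := by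
      have := pullback.condition (f := 𝟙 X)
        (g := pullback.fst f (Spec.map (CommRingCat.ofHom (Ideal.Quotient.mk I))))
      rw [Category.comp_id] at this
      exact this
    have hsurj : ∀ w, s ((inv s) w) = w := fun w => by
      rw [← Scheme.Hom.comp_apply, IsIso.inv_hom_id]; rfl
    ext w
    have h1 : (inv s) w ∈ (pullback.fst (𝟙 X) (pullback.fst f
        (Spec.map (CommRingCat.ofHom (Ideal.Quotient.mk I))))).base ⁻¹' U ↔
        (inv s) w ∈ ⇑s ⁻¹' W := by rw [hpre]
    rw [Set.mem_preimage, Set.mem_preimage, hsurj] at h1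
    have h2 : (s ≫ pullback.fst f (Spec.map (CommRingCat.ofHom (Ideal.Quotient.mk I))))
        ((inv s) w) = pullback.fst f (Spec.map (CommRingCat.ofHom (Ideal.Quotient.mk I))) w := by
      rw [Scheme.Hom.comp_apply, hsurj]
    rw [← h1, hcond, h2]
    rfl
  exact key.of_isPullback (IsPullback.of_hasPullback f _) h

/-- reduction of the proper case to the proper finitely presented case. -/
theorem CL_of_fp {S T : Scheme.{u}} [CompactSpace S] [QuasiSeparatedSpace S]
    [CompactSpace T] [QuasiSeparatedSpace T] (z : T ⟶ S)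
    (Hfp : ∀ {X F : Scheme.{u}} (f : X ⟶ S) [IsProper f] [LocallyOfFinitePresentation f]
      (ι : F ⟶ X) (p : F ⟶ T), IsPullback ι p f z → CL ι)
    {X F : Scheme.{u}} (f : X ⟶ S) [IsProper f] (ι : F ⟶ X) (p : F ⟶ T)
    (h : IsPullback ι p f z) : CL ι := by
  obtain ⟨I, _, _, D, c, hc, e, hcl, hD⟩ := Groth.Agent.S2079.result f
  have : IsConnected I := IsCofiltered.isConnected _
  let DX : I ⥤ Scheme.{u} := D ⋙ Over.forget S
  let cX : Cone DX := (Over.forget S).mapCone c
  have hcX : IsLimit cX := isLimitOfPreserves (Over.forget S) hc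
  have haff : ∀ (i j : I) (a : i ⟶ j), IsAffineHom (DX.map a) := fun i j a => by
    have := hcl i j a
    change IsAffineHom (D.map a).left
    infer_instance
  let i₀ : I := Classical.choice IsCofiltered.nonempty
  let f₀ : DX.obj i₀ ⟶ S := (D.obj i₀).hom
  have hf₀ : IsProper f₀ := (hD i₀).2.1
  let xi : pullback f₀ z ⟶ DX.obj i₀ := pullback.fst f₀ z
  -- the apex
  let ε : X ⟶ cX.pt := e.inv.left
  have hε : ε ≫ c.pt.hom = f := Over.w e.inv
  have hεiso : IsIso ε := inferInstanceAs (IsIso ((Over.forget S).map e.inv))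
  have hπ₀ : cX.π.app i₀ ≫ f₀ = c.pt.hom := Over.w (c.π.app i₀)
  let pX : F ⟶ cX.pt := ι ≫ ε
  have hcomm0 : (pX ≫ cX.π.app i₀) ≫ f₀ = p ≫ z := by
    rw [Category.assoc, hπ₀, Category.assoc, hε, h.w]
  let qX : F ⟶ pullback f₀ z := pullback.lift (pX ≫ cX.π.app i₀) p hcomm0
  have hq1 : qX ≫ xi = pX ≫ cX.π.app i₀ := pullback.lift_fst _ _ _
  have hq2 : qX ≫ pullback.snd f₀ z = p := pullback.lift_snd _ _ _
  have houter : IsPullback pX p c.pt.hom z := by
    refine IsPullback.of_iso h (Iso.refl F) (asIso ε) (Iso.refl T) (Iso.refl S) ?_ ?_ ?_ ?_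
    · simp [pX]
    · simp
    · simp [hε]
    · simp
  have hP : IsPullback qX pX xi (cX.π.app i₀) := by
    have hr : IsPullback (pullback.snd f₀ z) xi z f₀ := (IsPullback.of_hasPullback f₀ z).flip
    have hout : IsPullback (qX ≫ pullback.snd f₀ z) pX z (cX.π.app i₀ ≫ f₀) := by
      rw [hq2, hπ₀]
      exact houter.flip
    exact IsPullback.of_right hout hq1 hr
  have hlim : IsLimit (bcCone i₀ hP) := isLimitBcCone i₀ hP hcX
  have hT1 : CompactSpace ↥(pullback f₀ z) :=
    QuasiCompact.compactSpace_of_compactSpace (pullback.snd f₀ z)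
  have hT2 : QuasiSeparatedSpace ↥(pullback f₀ z) :=
    quasiSeparatedSpace_of_quasiSeparated (pullback.snd f₀ z)
  refine CL.of_limit (bcDiagram DX i₀ xi) (bcCone i₀ hP) hlim (Over.mk (𝟙 i₀)) ι
    (fun j => DX.obj j.left) (fun j => dSnd DX i₀ xi j) (fun j => ε ≫ cX.π.app j.left) ?_ ?_
  · intro j
    have := bcπ_snd i₀ hP j
    change ι ≫ ε ≫ cX.π.app j.left = bcπ i₀ hP j ≫ dSnd DX i₀ xi j
    rw [this, Category.assoc]
  · intro j
    have hj := hD j.left
    have hj1 : IsProper (D.obj j.left).hom := hj.2.1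
    have hj2 : LocallyOfFinitePresentation (D.obj j.left).hom := hj.2.2
    refine Hfp (D.obj j.left).hom (dSnd DX i₀ xi j) (dFst DX i₀ xi j ≫ pullback.snd f₀ z) ?_
    have hl : IsPullback (dFst DX i₀ xi j) (dSnd DX i₀ xi j) xi (DX.map j.hom) :=
      isPullback_d DX i₀ xi j
    have hr : IsPullback (pullback.snd f₀ z) xi z f₀ := (IsPullback.of_hasPullback f₀ z).flip
    have hw : DX.map j.hom ≫ f₀ = (D.obj j.left).hom := Over.w (D.map j.hom)
    have := (hl.paste_horiz hr).flip
    rw [hw] at this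
    exact this

end Groth.Agent.Lib.Helper22.Pi0HensB
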