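import Mathlib
import Groth.Agent.Lib.Helper14GeomRedB
import Groth.Agent.Lib.Helper28GeomFibre2

/-!
# Helper28HzFFa: fibres that are finite products of separable algebraic field extensions; descent of
geometric reducedness of fibres from `R → C` to `S → C`.
-/

set_option autoImplicit false
universe u

namespace Groth.Agent.Lib.Helper28.HzFF
open TensorProduct Polynomial

section PiIntegral

variable {κ : Type*} [CommRing κ] {ι : Type*} [DecidableEq ι] {K : ι → Type*}
  [∀ i, CommRing (K i)] [∀ i, Algebra κ (K i)]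

theorem isIntegral_pi_single (i : ι) (a : K i) (ha : IsIntegral κ a) :
    IsIntegral κ (Pi.single i a : Π j, K j) := by
  obtain ⟨f, hf, hfa⟩ := ha
  refine ⟨X * f, monic_X.mul hf, ?_⟩
  rw [← Polynomial.aeval_def] at hfa ⊢
  rw [map_mul, aeval_X]
  funext j
  rw [Pi.mul_apply, Pi.zero_apply]
  by_cases hj : j = i
  · subst hj
    have : (aeval (Pi.single j a : Π j, K j) f) j = aeval a f := by
      have := Polynomial.aeval_algHom_apply (Pi.evalAlgHom κ K j) (Pi.single j a : Π j, K j) f
      simp only [Pi.evalAlgHom_apply, Pi.single_eq_same] at this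
      exact this.symm
    rw [this, hfa, mul_zero]
  · rw [Pi.single_eq_of_ne hj, zero_mul]

theorem isIntegral_pi [Fintype ι] [∀ i, Algebra.IsIntegral κ (K i)] :
    Algebra.IsIntegral κ (Π i, K i) := by
  refine ⟨fun x => ?_⟩
  rw [← Finset.univ_sum_single x]
  exact IsIntegral.sum _ (fun i _ => isIntegral_pi_single i (x i) (Algebra.IsIntegral.isIntegral _))

end PiIntegral

section FibrePi

variable (κ : Type u) [Field κ] (F : Type u) [CommRing F] [Algebra κ F]
  (k : Type u) [Field k] [Algebra κ k]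

/-- `F` is `κ`-isomorphic to a finite product of separable algebraic field extensions. -/
def IsPiSeparable : Prop :=
  ∃ (n : ℕ) (K : Fin n → Type u) (_ : ∀ i, Field (K i)) (_ : ∀ i, Algebra κ (K i)),
    (∀ i, Algebra.IsSeparable κ (K i)) ∧ Nonempty (F ≃ₐ[κ] (Π i, K i))

variable {κ F}

theorem IsPiSeparable.isReduced_tensor (h : IsPiSeparable κ F) : IsReduced (k ⊗[κ] F) := by
  obtain ⟨n, K, _, _, hsep, ⟨e⟩⟩ := h
  let E1 : k ⊗[κ] F ≃ₐ[k] k ⊗[κ] (Π i, K i) := Algebra.TensorProduct.congr AlgEquiv.refl e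
  let E2 : k ⊗[κ] (Π i, K i) ≃ₐ[k] Π i, k ⊗[κ] K i := Algebra.TensorProduct.piRight κ k k K
  have : ∀ i, IsReduced (k ⊗[κ] K i) := fun i => by
    have := hsep i
    have h1 : IsReduced (K i ⊗[κ] k) :=
      Groth.Agent.Lib.Helper14.GeomRed.isReduced_tensor_of_isSeparable
    exact isReduced_of_injective (Algebra.TensorProduct.comm κ k (K i))
      (Algebra.TensorProduct.comm κ k (K i)).injective
  exact isReduced_of_injective (E1.trans E2) (E1.trans E2).injective

theorem IsPiSeparable.isIntegral (h : IsPiSeparable κ F) : Algebra.IsIntegral κ F := by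
  obtain ⟨n, K, _, _, hsep, ⟨e⟩⟩ := h
  have : ∀ i, Algebra.IsIntegral κ (K i) := fun i => by
    have := hsep i
    exact Algebra.IsAlgebraic.isIntegral
  have h1 : Algebra.IsIntegral κ (Π i, K i) := isIntegral_pi
  exact Algebra.IsIntegral.of_injective e.toAlgHom e.injective

theorem IsPiSeparable.isMaximal_of_isPrime (h : IsPiSeparable κ F) (P : Ideal (k ⊗[κ] F))
    (hP : P.IsPrime) : P.IsMaximal := by
  have := h.isIntegral
  have : Algebra.IsIntegral k (k ⊗[κ] F) := inferInstance
  apply Ideal.isMaximal_of_isIntegral_of_isMaximal_comap (R := k) P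
  have : (P.comap (algebraMap k (k ⊗[κ] F))).IsPrime := Ideal.IsPrime.comap _
  rw [Ideal.eq_bot_of_prime (P.comap (algebraMap k (k ⊗[κ] F)))]
  exact Ideal.bot_isMaximal

end FibrePi

section Pure

variable (R S C Ω : Type u) [CommRing R] [CommRing S] [CommRing C] [Field Ω] [Algebra R S]
  [Algebra S C] [Algebra R C] [IsScalarTower R S C] [Algebra R Ω] [Algebra S Ω]
  [IsScalarTower R S Ω]

/-- If `S ⊗[R] Ω` is reduced and zero-dimensional, reducedness of `C ⊗[R] Ω` implies reducedness of
its quotient `C ⊗[S] Ω`. -/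
theorem isReduced_tensor_of_pure (hred : IsReduced (S ⊗[R] Ω))
    (hdim : ∀ P : Ideal (S ⊗[R] Ω), P.IsPrime → P.IsMaximal)
    (H : IsReduced (C ⊗[R] Ω)) : IsReduced (C ⊗[S] Ω) := by
  let μ : S ⊗[R] Ω →ₐ[S] Ω :=
    Algebra.TensorProduct.productLeftAlgHom (Algebra.ofId S Ω) (AlgHom.id R Ω)
  have hμ : Function.Surjective μ := fun x => ⟨1 ⊗ₜ x, by simp [μ]⟩
  let ψ : C ⊗[S] (S ⊗[R] Ω) →ₐ[S] C ⊗[S] Ω := Algebra.TensorProduct.map (AlgHom.id S C) μ
  have hψ : Function.Surjective ψ := LinearMap.lTensor_surjective C hμ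
  have hker := Algebra.TensorProduct.lTensor_ker (A := C) μ hμ
  let e := Algebra.TensorProduct.cancelBaseChange R S S C Ω
  have : IsReduced (C ⊗[S] (S ⊗[R] Ω)) := isReduced_of_injective e e.injective
  have : (RingHom.ker μ).IsPrime := RingHom.ker_isPrime μ
  apply Groth.Agent.Lib.Helper14.GeomRed.isReduced_of_surjective_of_ker_pure ψ.toRingHom hψ
  intro z hz
  have hz' : z ∈ (RingHom.ker μ).map
      (Algebra.TensorProduct.includeRight : S ⊗[R] Ω →ₐ[S] C ⊗[S] (S ⊗[R] Ω)) := by
    rw [← hker]; exact hz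
  obtain ⟨e, he, hez⟩ := Groth.Agent.Lib.Helper14.GeomRed.exists_mul_eq_self_of_mem_map _
    (RingHom.ker μ)
    (fun b hb => Groth.Agent.Lib.Helper14.GeomRed.exists_mul_eq_self_of_mem_prime hdim
      (RingHom.ker μ) hb) hz'
  refine ⟨Algebra.TensorProduct.includeRight e, ?_, hez⟩
  change ψ (1 ⊗ₜ e) = 0
  simp only [ψ, Algebra.TensorProduct.map_tmul]
  rw [show μ e = 0 from he, tmul_zero]

end Pure

section Descent

variable (R S C : Type u) [CommRing R] [CommRing S] [CommRing C] [Algebra R S]
  [Algebra S C] [Algebra R C] [IsScalarTower R S C]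

/-- If the fibres of `R → S` are finite products of separable algebraic field extensions and the
fibres of `R → C` are geometrically reduced, then the fibres of `S → C` are geometrically
reduced. -/
theorem isGeometricallyReduced_fiber_of_isPiSeparable
    (hF : ∀ (p : Ideal R) [p.IsPrime], IsPiSeparable p.ResidueField (p.Fiber S))
    (hC : ∀ (p : Ideal R) [p.IsPrime], Algebra.IsGeometricallyReduced p.ResidueField (p.Fiber C))
    (q : Ideal S) [q.IsPrime] : Algebra.IsGeometricallyReduced q.ResidueField (q.Fiber C) := by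
  rw [Algebra.isGeometricallyReduced_field_iff]
  set Ω := AlgebraicClosure q.ResidueField with hΩ
  have hp : (q.comap (algebraMap R S)).IsPrime := Ideal.comap_isPrime _ q
  set p := q.comap (algebraMap R S) with hpdef
  have hmap : ∀ r : R, algebraMap R Ω r = 0 ↔ r ∈ p := by
    intro r
    rw [IsScalarTower.algebraMap_apply R S Ω, IsScalarTower.algebraMap_apply S q.ResidueField Ω,
      map_eq_zero_iff _ (algebraMap q.ResidueField Ω).injective, Ideal.algebraMap_residueField_eq_zero]
    rfl
  let f : p.ResidueField →+* Ω := Ideal.ResidueField.lift p (algebraMap R Ω)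
    (fun r hr => (hmap r).mpr hr)
    (fun r hr => IsUnit.mk0 _ (fun h0 => hr ((hmap r).mp h0)))
  let _ : Algebra p.ResidueField Ω := f.toAlgebra
  have : IsScalarTower R p.ResidueField Ω := IsScalarTower.of_algebraMap_eq (fun r =>
    (Ideal.ResidueField.lift_algebraMap p (algebraMap R Ω) _ _ r).symm)
  have A1 : IsReduced (S ⊗[R] Ω) :=
    have := (hF p).isReduced_tensor Ω
    isReduced_of_injective (tensorFiberEquiv R S p Ω) (tensorFiberEquiv R S p Ω).injective
  have A2 : ∀ P : Ideal (S ⊗[R] Ω), P.IsPrime → P.IsMaximal := by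
    intro P hP
    have h1 : (P.comap (tensorFiberEquiv R S p Ω).symm.toRingHom).IsPrime := Ideal.comap_isPrime _ P
    have h2 := (hF p).isMaximal_of_isPrime Ω _ h1
    have h3 : P = (P.comap (tensorFiberEquiv R S p Ω).symm.toRingHom).comap
        (tensorFiberEquiv R S p Ω).toRingHom := by
      ext x
      simp
    rw [h3]
    exact Ideal.comap_isMaximal_of_surjective _ (tensorFiberEquiv R S p Ω).surjective
  have H : IsReduced (C ⊗[R] Ω) :=
    have := hC p
    have : IsReduced (Ω ⊗[p.ResidueField] (p.Fiber C)) :=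
      Groth.Agent.Lib.Helper14.GeomRed.isReduced_tensor_of_isGeometricallyReduced Ω
    isReduced_of_injective (tensorFiberEquiv R C p Ω) (tensorFiberEquiv R C p Ω).injective
  have h4 : IsReduced (C ⊗[S] Ω) := isReduced_tensor_of_pure R S C Ω A1 A2 H
  exact isReduced_of_injective (tensorFiberEquiv S C q Ω).symm (tensorFiberEquiv S C q Ω).symm.injective

end Descent

end Groth.Agent.Lib.Helper28.HzFF
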