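import Mathlib
import Groth.Prelude.Def_Hensel

/-!
# Henselizations are formally étale (helper2)
-/


set_option autoImplicit false
universe u

open Polynomial IsLocalRing

namespace Groth.Agent.Lib.Helper2

/-- A surjection with square-zero kernel reflects units. -/
lemma isLocalHom_of_sq_zero {T S : Type*} [CommRing T] [CommRing S] (π : T →+* S)
    (hπ : Function.Surjective π) (hK : ∀ x y : T, π x = 0 → π y = 0 → x * y = 0) :
    IsLocalHom π := by
  constructor
  intro x hx
  obtain ⟨v, hv⟩ := hx.exists_right_inv
  obtain ⟨y, rfl⟩ := hπ v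
  have hn : π (x * y - 1) = 0 := by rw [map_sub, map_mul, hv, map_one, sub_self]
  have hsq : (x * y - 1) * (x * y - 1) = 0 := hK _ _ hn hn
  have : x * (y * (2 - x * y)) = 1 := by
    have : x * (y * (2 - x * y)) = 1 - (x * y - 1) * (x * y - 1) := by ring
    rw [this, hsq, sub_zero]
  exact IsUnit.of_mul_eq_one _ this

/-- A square-zero thickening of a henselian local ring is henselian local. -/
theorem henselianLocalRing_of_sq_zero {T S : Type*} [CommRing T] [CommRing S]
    [HenselianLocalRing S] (π : T →+* S)
    (hπ : Function.Surjective π) (hK : ∀ x y : T, π x = 0 → π y = 0 → x * y = 0) :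
    HenselianLocalRing T := by
  have hloc : IsLocalHom π := isLocalHom_of_sq_zero π hπ hK
  have hT : IsLocalRing T := π.domain_isLocalRing
  have hmem : ∀ x : T, x ∈ maximalIdeal T → π x ∈ maximalIdeal S := by
    intro x hx
    rw [mem_maximalIdeal, mem_nonunits_iff] at hx ⊢
    exact fun h => hx (isUnit_of_map_unit π x h)
  have hmem' : ∀ x : T, π x ∈ maximalIdeal S → x ∈ maximalIdeal T := by
    intro x hx
    rw [mem_maximalIdeal, mem_nonunits_iff] at hx ⊢
    exact fun h => hx (h.map π)
  refine { hT with is_henselian := ?_ }
  intro f hf a₀ h₁ h₂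
  -- reduce to S
  have hf' : (f.map π).Monic := hf.map π
  have e1 : (f.map π).eval (π a₀) = π (f.eval a₀) := by rw [eval_map, eval₂_at_apply]
  have e2 : (f.map π).derivative.eval (π a₀) = π (f.derivative.eval a₀) := by
    rw [derivative_map, eval_map, eval₂_at_apply]
  obtain ⟨abar, hroot, hclose⟩ := HenselianLocalRing.is_henselian (f.map π) hf' (π a₀)
    (by rw [e1]; exact hmem _ h₁) (by rw [e2]; exact h₂.map π)
  obtain ⟨a₁, rfl⟩ := hπ abar
  have hfa₁ : π (f.eval a₁) = 0 := by
    have : (f.map π).eval (π a₁) = π (f.eval a₁) := by rw [eval_map, eval₂_at_apply]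
    rw [← this]; exact hroot
  -- derivative at a₁ is a unit
  have hder : IsUnit (f.derivative.eval a₁) := by
    apply isUnit_of_map_unit π
    have e3 : π (f.derivative.eval a₁) = (f.map π).derivative.eval (π a₁) := by
      rw [derivative_map, eval_map, eval₂_at_apply]
    rw [e3]
    have hdvd := sub_dvd_eval_sub (π a₁) (π a₀) (f.map π).derivative
    have hdiff : (f.map π).derivative.eval (π a₁) - (f.map π).derivative.eval (π a₀) ∈
        maximalIdeal S := by
      obtain ⟨c, hc⟩ := hdvd
      rw [hc]
      exact Ideal.mul_mem_right _ _ hclose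
    have hunit : IsUnit ((f.map π).derivative.eval (π a₀)) := by rw [e2]; exact h₂.map π
    by_contra hnon
    have h3 : (f.map π).derivative.eval (π a₁) ∈ maximalIdeal S := by
      rwa [mem_maximalIdeal, mem_nonunits_iff]
    have h4 : (f.map π).derivative.eval (π a₀) ∈ maximalIdeal S := by
      have := (maximalIdeal S).sub_mem h3 hdiff
      simpa using this
    rw [mem_maximalIdeal, mem_nonunits_iff] at h4
    exact h4 hunit
  obtain ⟨u, hu⟩ := hder
  -- Newton step
  set y : T := -(↑u⁻¹ * f.eval a₁) with hy
  have hπy : π y = 0 := by rw [hy, map_neg, map_mul, hfa₁, mul_zero, neg_zero]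
  have hyy : y * y = 0 := hK y y hπy hπy
  obtain ⟨k, hk⟩ := f.binomExpansion a₁ y
  refine ⟨a₁ + y, ?_, ?_⟩
  · show f.eval (a₁ + y) = 0
    rw [hk, pow_two, hyy, mul_zero, add_zero, ← hu, hy]
    have : (u : T) * -(↑u⁻¹ * f.eval a₁) = -f.eval a₁ := by
      rw [mul_neg, ← mul_assoc, Units.mul_inv, one_mul]
    rw [this, add_neg_cancel]
  · apply hmem'
    have : π (a₁ + y - a₀) = π a₁ - π a₀ := by
      rw [map_sub, map_add, hπy, add_zero]
    rw [this]
    exact hclose

/-- The fibre product used to test formal étaleness. -/
theorem formallyEtale_of_universal (R S : Type u) [CommRing R] [IsLocalRing R] [CommRing S]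
    [hS : HenselianLocalRing S] [Algebra R S] [IsLocalHom (algebraMap R S)]
    (huniv : ∀ (T : Type u) [CommRing T] [HenselianLocalRing T] (f : R →+* T),
      IsLocalHom f → ∀ g₁ g₂ : S →+* T, g₁.comp (algebraMap R S) = f →
        g₂.comp (algebraMap R S) = f → g₁ = g₂)
    (hex : ∀ (T : Type u) [CommRing T] [HenselianLocalRing T] (f : R →+* T),
      IsLocalHom f → ∃ g : S →+* T, g.comp (algebraMap R S) = f) :
    Algebra.FormallyEtale R S := by
  rw [Algebra.FormallyEtale.iff_comp_bijective]
  intro C _ _ N hN
  set q : C →ₐ[R] C ⧸ N := Ideal.Quotient.mkₐ R N with hq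
  have hqsurj : Function.Surjective q := Ideal.Quotient.mkₐ_surjective R N
  -- general construction for a given ḡ
  have main : ∀ gbar : S →ₐ[R] C ⧸ N,
      (∃ h : S →ₐ[R] C, q.comp h = gbar) ∧
      (∀ h₁ h₂ : S →ₐ[R] C, q.comp h₁ = gbar → q.comp h₂ = gbar → h₁ = h₂) := by
    intro gbar
    let T := AlgHom.pullback gbar q
    let π : T →ₐ[R] S := AlgHom.pullbackFst gbar q
    have hπsurj : Function.Surjective π :=
      AlgHom.surjective_pullbackFst_of_surjective gbar q hqsurj
    have hK : ∀ x y : T, π x = 0 → π y = 0 → x * y = 0 := by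
      rintro ⟨⟨s, c⟩, hx⟩ ⟨⟨s', c'⟩, hy⟩ (h1 : s = 0) (h2 : s' = 0)
      subst h1 h2
      have hc : c ∈ N := by
        have : gbar 0 = q c := hx
        rw [map_zero] at this
        exact Ideal.Quotient.eq_zero_iff_mem.mp this.symm
      have hc' : c' ∈ N := by
        have : gbar 0 = q c' := hy
        rw [map_zero] at this
        exact Ideal.Quotient.eq_zero_iff_mem.mp this.symm
      have hcc : c * c' = 0 := by
        have : c * c' ∈ N ^ 2 := by rw [pow_two]; exact Ideal.mul_mem_mul hc hc'
        rw [hN] at this
        exact this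
      apply Subtype.ext
      show ((0 : S) * 0, c * c') = (0, 0)
      rw [hcc, mul_zero]
    have hTh : HenselianLocalRing T :=
      henselianLocalRing_of_sq_zero (π : T →+* S) hπsurj hK
    have hπloc : IsLocalHom (π : T →+* S) := isLocalHom_of_sq_zero (π : T →+* S) hπsurj hK
    let f : R →+* T := algebraMap R T
    have hπf : (π : T →+* S).comp f = algebraMap R S := by
      ext r
      exact π.commutes r
    have hfloc : IsLocalHom f := by
      constructor
      intro r hr
      have : IsUnit ((π : T →+* S) (f r)) := hr.map _
      have h2 : (π : T →+* S) (f r) = algebraMap R S r := RingHom.congr_fun hπf r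
      rw [h2] at this
      exact isUnit_of_map_unit (algebraMap R S) r this
    constructor
    · obtain ⟨g, hg⟩ := hex T f hfloc
      have hπg : (π : T →+* S).comp g = RingHom.id S := by
        apply huniv S (algebraMap R S) inferInstance
        · rw [RingHom.comp_assoc, hg, hπf]
        · rw [RingHom.id_comp]
      let σ : T →ₐ[R] C := AlgHom.pullbackSnd gbar q
      refine ⟨{ toRingHom := (σ : T →+* C).comp g, commutes' := ?_ }, ?_⟩
      · intro r
        show σ (g (algebraMap R S r)) = algebraMap R C r
        have : g (algebraMap R S r) = f r := RingHom.congr_fun hg r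
        rw [this]
        exact σ.commutes r
      · ext s
        show q (σ (g s)) = gbar s
        have h1 : gbar (π (g s)) = q (σ (g s)) := (g s).prop
        rw [← h1]
        have : (π : T →+* S) (g s) = s := RingHom.congr_fun hπg s
        show gbar ((π : T →+* S) (g s)) = gbar s
        rw [this]
    · intro h₁ h₂ e₁ e₂
      have mem : ∀ (h : S →ₐ[R] C), q.comp h = gbar → ∀ s : S,
          ((RingHom.id S).prod (h : S →+* C)) s ∈ T.toSubring := by
        intro h e s
        show gbar s = q (h s)
        rw [← e]; rfl
      let g₁ : S →+* T := ((RingHom.id S).prod (h₁ : S →+* C)).codRestrict T.toSubring (mem h₁ e₁)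
      let g₂ : S →+* T := ((RingHom.id S).prod (h₂ : S →+* C)).codRestrict T.toSubring (mem h₂ e₂)
      have hg₁ : g₁.comp (algebraMap R S) = f := by
        refine RingHom.ext fun r => ?_
        apply Subtype.ext
        show (algebraMap R S r, h₁ (algebraMap R S r)) = algebraMap R (S × C) r
        rw [h₁.commutes]; rfl
      have hg₂ : g₂.comp (algebraMap R S) = f := by
        refine RingHom.ext fun r => ?_
        apply Subtype.ext
        show (algebraMap R S r, h₂ (algebraMap R S r)) = algebraMap R (S × C) r
        rw [h₂.commutes]; rfl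
      have := huniv T f hfloc g₁ g₂ hg₁ hg₂
      ext s
      have h3 := congrArg (fun g : S →+* T => (g s).1.2) this
      exact h3
  constructor
  · intro h₁ h₂ e
    exact (main (q.comp h₂)).2 h₁ h₂ e rfl
  · intro gbar
    exact (main gbar).1

/-- Strict variant: the universal property with prescribed residue field maps. -/
theorem formallyEtale_of_strict_universal (R S : Type u) [CommRing R] [IsLocalRing R] [CommRing S]
    [IsLocalRing S] [Algebra R S] [IsLocalHom (algebraMap R S)] (hS : HenselianLocalRing S)
    (huniv : ∀ (T : Type u) [CommRing T] [HenselianLocalRing T] (f : R →+* T) [IsLocalHom f]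
      (τ : IsLocalRing.ResidueField S →+* IsLocalRing.ResidueField T),
      τ.comp (IsLocalRing.ResidueField.map (algebraMap R S)) = IsLocalRing.ResidueField.map f →
      ∃! g : S →+* T, g.comp (algebraMap R S) = f ∧
        ∀ x : S, IsLocalRing.residue T (g x) = τ (IsLocalRing.residue S x)) :
    Algebra.FormallyEtale R S := by
  rw [Algebra.FormallyEtale.iff_comp_bijective]
  intro C _ _ N hN
  set q : C →ₐ[R] C ⧸ N := Ideal.Quotient.mkₐ R N with hq
  have hqsurj : Function.Surjective q := Ideal.Quotient.mkₐ_surjective R N
  have main : ∀ gbar : S →ₐ[R] C ⧸ N,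
      (∃ h : S →ₐ[R] C, q.comp h = gbar) ∧
      (∀ h₁ h₂ : S →ₐ[R] C, q.comp h₁ = gbar → q.comp h₂ = gbar → h₁ = h₂) := by
    intro gbar
    let T := AlgHom.pullback gbar q
    let π : T →ₐ[R] S := AlgHom.pullbackFst gbar q
    have hπsurj : Function.Surjective π :=
      AlgHom.surjective_pullbackFst_of_surjective gbar q hqsurj
    have hK : ∀ x y : T, π x = 0 → π y = 0 → x * y = 0 := by
      rintro ⟨⟨s, c⟩, hx⟩ ⟨⟨s', c'⟩, hy⟩ (h1 : s = 0) (h2 : s' = 0)
      subst h1 h2
      have hc : c ∈ N := by
        have : gbar 0 = q c := hx
        rw [map_zero] at this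
        exact Ideal.Quotient.eq_zero_iff_mem.mp this.symm
      have hc' : c' ∈ N := by
        have : gbar 0 = q c' := hy
        rw [map_zero] at this
        exact Ideal.Quotient.eq_zero_iff_mem.mp this.symm
      have hcc : c * c' = 0 := by
        have : c * c' ∈ N ^ 2 := by rw [pow_two]; exact Ideal.mul_mem_mul hc hc'
        rw [hN] at this
        exact this
      apply Subtype.ext
      show ((0 : S) * 0, c * c') = (0, 0)
      rw [hcc, mul_zero]
    have hTh : HenselianLocalRing T :=
      henselianLocalRing_of_sq_zero (π : T →+* S) hπsurj hK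
    have hπloc : IsLocalHom (π : T →+* S) := isLocalHom_of_sq_zero (π : T →+* S) hπsurj hK
    let f : R →+* T := algebraMap R T
    have hπf : (π : T →+* S).comp f = algebraMap R S := by
      ext r
      exact π.commutes r
    have hfloc : IsLocalHom f := by
      constructor
      intro r hr
      have : IsUnit ((π : T →+* S) (f r)) := hr.map _
      have h2 : (π : T →+* S) (f r) = algebraMap R S r := RingHom.congr_fun hπf r
      rw [h2] at this
      exact isUnit_of_map_unit (algebraMap R S) r this
    -- residue field isomorphism
    let κπ : IsLocalRing.ResidueField T →+* IsLocalRing.ResidueField S :=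
      IsLocalRing.ResidueField.map (π : T →+* S)
    have hκπ : ∀ x : T, κπ (IsLocalRing.residue T x) = IsLocalRing.residue S (π x) := fun x => rfl
    have hκbij : Function.Bijective κπ := by
      refine ⟨κπ.injective, ?_⟩
      intro y
      obtain ⟨s, rfl⟩ := IsLocalRing.residue_surjective y
      obtain ⟨x, rfl⟩ := hπsurj s
      exact ⟨IsLocalRing.residue T x, hκπ x⟩
    let e : IsLocalRing.ResidueField T ≃+* IsLocalRing.ResidueField S :=
      RingEquiv.ofBijective κπ hκbij
    let τ : IsLocalRing.ResidueField S →+* IsLocalRing.ResidueField T := e.symm.toRingHom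
    have hτ : ∀ x : T, τ (IsLocalRing.residue S (π x)) = IsLocalRing.residue T x := by
      intro x
      rw [← hκπ x]
      exact e.symm_apply_apply (IsLocalRing.residue T x)
    have hτcomp : τ.comp (IsLocalRing.ResidueField.map (algebraMap R S)) =
        IsLocalRing.ResidueField.map f := by
      ext y
      obtain ⟨r, rfl⟩ := IsLocalRing.residue_surjective y
      show τ (IsLocalRing.residue S (algebraMap R S r)) = IsLocalRing.residue T (f r)
      have : algebraMap R S r = π (f r) := (RingHom.congr_fun hπf r).symm
      rw [this, hτ]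
    obtain ⟨g, ⟨hg, hgres⟩, hguniq⟩ := huniv T f τ hτcomp
    -- identity characterisation
    have hidcomp : (RingHom.id (IsLocalRing.ResidueField S)).comp
        (IsLocalRing.ResidueField.map (algebraMap R S)) =
        IsLocalRing.ResidueField.map (algebraMap R S) := RingHom.id_comp _
    obtain ⟨g₀, -, hg₀uniq⟩ := huniv S (algebraMap R S) (RingHom.id _) hidcomp
    constructor
    · have hπg : (π : T →+* S).comp g = RingHom.id S := by
        have h1 := hg₀uniq ((π : T →+* S).comp g) ⟨by rw [RingHom.comp_assoc, hg, hπf], by
          intro x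
          show IsLocalRing.residue S (π (g x)) = IsLocalRing.residue S x
          rw [← hκπ, hgres x]
          exact e.apply_symm_apply _⟩
        have h2 := hg₀uniq (RingHom.id S) ⟨RingHom.id_comp _, fun x => rfl⟩
        rw [h1, h2]
      let σ : T →ₐ[R] C := AlgHom.pullbackSnd gbar q
      refine ⟨{ toRingHom := (σ : T →+* C).comp g, commutes' := ?_ }, ?_⟩
      · intro r
        show σ (g (algebraMap R S r)) = algebraMap R C r
        have : g (algebraMap R S r) = f r := RingHom.congr_fun hg r
        rw [this]
        exact σ.commutes r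
      · ext s
        show q (σ (g s)) = gbar s
        have h1 : gbar (π (g s)) = q (σ (g s)) := (g s).prop
        rw [← h1]
        have : (π : T →+* S) (g s) = s := RingHom.congr_fun hπg s
        show gbar ((π : T →+* S) (g s)) = gbar s
        rw [this]
    · intro h₁ h₂ e₁ e₂
      have mem : ∀ (h : S →ₐ[R] C), q.comp h = gbar → ∀ s : S,
          ((RingHom.id S).prod (h : S →+* C)) s ∈ T.toSubring := by
        intro h e s
        show gbar s = q (h s)
        rw [← e]; rfl
      have key : ∀ (h : S →ₐ[R] C) (e : q.comp h = gbar),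
          ((RingHom.id S).prod (h : S →+* C)).codRestrict T.toSubring (mem h e) = g := by
        intro h e'
        apply hguniq
        constructor
        · refine RingHom.ext fun r => ?_
          apply Subtype.ext
          show (algebraMap R S r, h (algebraMap R S r)) = algebraMap R (S × C) r
          rw [h.commutes]; rfl
        · intro x
          set gx : T := ((RingHom.id S).prod (h : S →+* C)).codRestrict T.toSubring (mem h e') x
          have : π gx = x := rfl
          rw [← hτ gx, this]
      have := (key h₁ e₁).trans (key h₂ e₂).symm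
      ext s
      have h3 := congrArg (fun g : S →+* T => (g s).1.2) this
      exact h3
  constructor
  · intro h₁ h₂ e
    exact (main (q.comp h₂)).2 h₁ h₂ e rfl
  · intro gbar
    exact (main gbar).1

end Groth.Agent.Lib.Helper2
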