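import Mathlib
import Groth.Agent.Lib.Helper2Hensel

/-!
# Henselization: quotients by powers of the maximal ideal (helper2)
-/

set_option autoImplicit false
universe u

open Polynomial IsLocalRing

namespace Groth.Agent.Lib.Helper2


lemma map_mem_maximalIdeal {X Y : Type*} [CommRing X] [CommRing Y] [IsLocalRing X] [IsLocalRing Y]
    (h : X →+* Y) [IsLocalHom h] (x : X) (hx : x ∈ maximalIdeal X) : h x ∈ maximalIdeal Y := by
  rw [mem_maximalIdeal, mem_nonunits_iff] at hx ⊢
  exact fun hu => hx (isUnit_of_map_unit h x hu)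

lemma eval_map_apply {X Y : Type*} [CommRing X] [CommRing Y] (h : X →+* Y) (g : X[X]) (x : X) :
    (g.map h).eval (h x) = h (g.eval x) := by
  rw [eval_map, eval₂_at_apply]

/-- The pullback of two henselian local rings along local homomorphisms to a local ring is
henselian local. -/
theorem henselianLocalRing_pullback {S A Q : Type*} [CommRing S] [CommRing A] [CommRing Q]
    [HenselianLocalRing S] [HenselianLocalRing A] [IsLocalRing Q] (p : S →+* Q) (φ : A →+* Q)
    [IsLocalHom p] [IsLocalHom φ] : HenselianLocalRing (RingHom.pullback p φ) := by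
  have hT : IsLocalRing (RingHom.pullback p φ) := RingHom.isLocalRing_pullback p φ
  let pr₁ := RingHom.pullbackFst p φ
  let pr₂ := RingHom.pullbackSnd p φ
  have hcomm : p.comp pr₁ = φ.comp pr₂ := RingHom.pullback_comm_sq p φ
  have hloc₁ : IsLocalHom pr₁ := RingHom.isLocalHom_pullbackFst p φ
  have hloc₂ : IsLocalHom pr₂ := RingHom.isLocalHom_pullbackSnd p φ
  refine { hT with is_henselian := ?_ }
  intro f hf a₀ h₁ h₂
  -- roots in S and A
  obtain ⟨s, hs, hs'⟩ := HenselianLocalRing.is_henselian (f.map pr₁) (hf.map pr₁) (pr₁ a₀)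
    (by rw [eval_map_apply]; exact map_mem_maximalIdeal pr₁ _ h₁) (by rw [derivative_map, eval_map_apply]; exact h₂.map pr₁)
  obtain ⟨a, ha, ha'⟩ := HenselianLocalRing.is_henselian (f.map pr₂) (hf.map pr₂) (pr₂ a₀)
    (by rw [eval_map_apply]; exact map_mem_maximalIdeal pr₂ _ h₁) (by rw [derivative_map, eval_map_apply]; exact h₂.map pr₂)
  -- compatibility in Q
  have hfQ : (f.map pr₁).map p = (f.map pr₂).map φ := by
    rw [Polynomial.map_map, Polynomial.map_map, hcomm]
  have hroot1 : ((f.map pr₁).map p).eval (p s) = 0 := by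
    rw [eval_map, eval₂_at_apply]
    have : (f.map pr₁).eval s = 0 := hs
    rw [this, map_zero]
  have hroot2 : ((f.map pr₁).map p).eval (φ a) = 0 := by
    rw [hfQ, eval_map, eval₂_at_apply]
    have : (f.map pr₂).eval a = 0 := ha
    rw [this, map_zero]
  have hdiff : ¬ IsUnit (p s - φ a) := by
    have e0 : p (pr₁ a₀) = φ (pr₂ a₀) := RingHom.congr_fun hcomm a₀
    have e1 : p s - φ a = p (s - pr₁ a₀) - φ (a - pr₂ a₀) := by
      rw [map_sub, map_sub, e0]; ring
    rw [e1, ← mem_nonunits_iff, ← mem_maximalIdeal]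
    exact (maximalIdeal Q).sub_mem (map_mem_maximalIdeal p _ hs') (map_mem_maximalIdeal φ _ ha')
  have hder : IsUnit (((f.map pr₁).map p).derivative.eval (p s)) := by
    rw [derivative_map, eval_map, eval₂_at_apply]
    apply IsUnit.map
    -- derivative at s is a unit in S
    have hunit0 : IsUnit ((f.map pr₁).derivative.eval (pr₁ a₀)) := by
      rw [derivative_map, eval_map_apply]; exact h₂.map pr₁
    obtain ⟨c, hc⟩ := sub_dvd_eval_sub s (pr₁ a₀) (f.map pr₁).derivative
    by_contra hnon
    have h3 : (f.map pr₁).derivative.eval s ∈ maximalIdeal S := by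
      rwa [mem_maximalIdeal, mem_nonunits_iff]
    have h4 : (f.map pr₁).derivative.eval (pr₁ a₀) ∈ maximalIdeal S := by
      have h5 : (f.map pr₁).derivative.eval s - (f.map pr₁).derivative.eval (pr₁ a₀) ∈
          maximalIdeal S := by
        rw [hc]; exact Ideal.mul_mem_right _ _ hs'
      have := (maximalIdeal S).sub_mem h3 h5
      simpa using this
    rw [mem_maximalIdeal, mem_nonunits_iff] at h4
    exact h4 hunit0
  have heq : p s = φ a :=
    IsLocalRing.eq_of_eval_eq_zero_of_not_isUnit_sub hroot1 hroot2 hdiff hder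
  -- the root in the pullback
  let x : RingHom.pullback p φ := ⟨(s, a), heq⟩
  refine ⟨x, ?_, ?_⟩
  · show f.eval x = 0
    apply Subtype.ext
    apply Prod.ext
    · show pr₁ (f.eval x) = 0
      rw [← eval_map_apply pr₁ f x]; exact hs
    · show pr₂ (f.eval x) = 0
      rw [← eval_map_apply pr₂ f x]; exact ha
  · rw [mem_maximalIdeal, mem_nonunits_iff]
    intro hu
    have : IsUnit (pr₁ (x - a₀)) := hu.map pr₁
    have h6 : pr₁ (x - a₀) = s - pr₁ a₀ := by rw [map_sub]; rfl
    rw [h6] at this
    rw [mem_maximalIdeal, mem_nonunits_iff] at hs'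
    exact hs' this



/-- `R ⧸ 𝔪 ^ (k+1)` is a henselian local ring. -/
theorem henselianLocalRing_quotient_maximalIdeal_pow (R : Type*) [CommRing R] [IsLocalRing R]
    (k : ℕ) : HenselianLocalRing (R ⧸ maximalIdeal R ^ (k + 1)) := by
  induction k with
  | zero =>
    have hle : maximalIdeal R ^ (0 + 1) ≤ maximalIdeal R := by simp
    let π : R ⧸ maximalIdeal R ^ (0 + 1) →+* ResidueField R := Ideal.Quotient.factor hle
    refine henselianLocalRing_of_sq_zero π (Ideal.Quotient.factor_surjective hle) ?_
    intro x y hx _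
    obtain ⟨a, rfl⟩ := Ideal.Quotient.mk_surjective x
    have ha : a ∈ maximalIdeal R := by
      have : π (Ideal.Quotient.mk _ a) = Ideal.Quotient.mk _ a := Ideal.Quotient.factor_mk hle a
      rw [this] at hx
      exact Ideal.Quotient.eq_zero_iff_mem.mp hx
    have : Ideal.Quotient.mk (maximalIdeal R ^ (0 + 1)) a = 0 := by
      rw [Ideal.Quotient.eq_zero_iff_mem]; simpa using ha
    rw [this, zero_mul]
  | succ k ih =>
    have hle : maximalIdeal R ^ (k + 1 + 1) ≤ maximalIdeal R ^ (k + 1) :=
      Ideal.pow_le_pow_right (Nat.le_succ _)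
    let π : R ⧸ maximalIdeal R ^ (k + 1 + 1) →+* R ⧸ maximalIdeal R ^ (k + 1) :=
      Ideal.Quotient.factor hle
    refine henselianLocalRing_of_sq_zero π (Ideal.Quotient.factor_surjective hle) ?_
    intro x y hx hy
    obtain ⟨a, rfl⟩ := Ideal.Quotient.mk_surjective x
    obtain ⟨b, rfl⟩ := Ideal.Quotient.mk_surjective y
    have ha : a ∈ maximalIdeal R ^ (k + 1) := by
      have : π (Ideal.Quotient.mk _ a) = Ideal.Quotient.mk _ a := Ideal.Quotient.factor_mk hle a
      rw [this] at hx
      exact Ideal.Quotient.eq_zero_iff_mem.mp hx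
    have hb : b ∈ maximalIdeal R ^ (k + 1) := by
      have : π (Ideal.Quotient.mk _ b) = Ideal.Quotient.mk _ b := Ideal.Quotient.factor_mk hle b
      rw [this] at hy
      exact Ideal.Quotient.eq_zero_iff_mem.mp hy
    rw [← map_mul, Ideal.Quotient.eq_zero_iff_mem]
    have h2 : a * b ∈ maximalIdeal R ^ (k + 1) * maximalIdeal R ^ (k + 1) := Ideal.mul_mem_mul ha hb
    rw [← pow_add] at h2
    exact Ideal.pow_le_pow_right (by omega) h2

section
variable (R : Type u) [CommRing R] [IsLocalRing R] (S : Type u) [CommRing S] [IsLocalRing S]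
    [Algebra R S] [IsLocalHom (algebraMap R S)] [Hensel.IsHenselization R S]

include R in
theorem henselization_quotient_pow_succ_bijective (k : ℕ) :
    Function.Bijective (Ideal.quotientMap
      (Ideal.map (algebraMap R S) (maximalIdeal R ^ (k + 1))) (algebraMap R S)
      Ideal.le_comap_map) := by
  have hS : HenselianLocalRing S := Hensel.IsHenselization.henselian R
  set I : Ideal R := maximalIdeal R ^ (k + 1) with hI
  set J : Ideal S := Ideal.map (algebraMap R S) I with hJ
  have hA : HenselianLocalRing (R ⧸ I) := henselianLocalRing_quotient_maximalIdeal_pow R k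
  set φ : R ⧸ I →+* S ⧸ J := Ideal.quotientMap J (algebraMap R S) Ideal.le_comap_map with hφ
  have hφmk : ∀ r : R, φ (Ideal.Quotient.mk I r) = Ideal.Quotient.mk J (algebraMap R S r) :=
    fun r => Ideal.quotientMap_mk
  have hIle : I ≤ maximalIdeal R := by
    rw [hI]; exact Ideal.pow_le_self (Nat.succ_ne_zero k)
  have hJle : J ≤ maximalIdeal S :=
    (Ideal.map_mono hIle).trans (IsLocalRing.map_maximalIdeal_le (algebraMap R S))
  have hJne : J ≠ ⊤ := fun h => (maximalIdeal.isMaximal S).ne_top (top_le_iff.mp (h ▸ hJle))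
  -- injectivity: retraction
  have hinj : Function.Injective φ := by
    have hloc : IsLocalHom (Ideal.Quotient.mk I) :=
      IsLocalHom.of_surjective _ Ideal.Quotient.mk_surjective
    obtain ⟨g, hg, -⟩ := Hensel.IsHenselization.universal (R := R) (S := S) (R ⧸ I)
      (Ideal.Quotient.mk I) hloc
    have hgJ : ∀ s ∈ J, g s = 0 := by
      intro s hs
      have : J ≤ RingHom.ker g := by
        rw [hJ, Ideal.map_le_iff_le_comap]
        intro r hr
        rw [Ideal.mem_comap, RingHom.mem_ker]
        have : g (algebraMap R S r) = Ideal.Quotient.mk I r := RingHom.congr_fun hg r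
        rw [this, Ideal.Quotient.eq_zero_iff_mem]; exact hr
      exact this hs
    let gbar : S ⧸ J →+* R ⧸ I := Ideal.Quotient.lift J g hgJ
    have hret : ∀ x, gbar (φ x) = x := by
      intro x
      obtain ⟨r, rfl⟩ := Ideal.Quotient.mk_surjective x
      rw [hφmk]
      show Ideal.Quotient.lift J g hgJ (Ideal.Quotient.mk J _) = _
      rw [Ideal.Quotient.lift_mk]
      exact RingHom.congr_fun hg r
    exact Function.LeftInverse.injective hret
  refine ⟨hinj, ?_⟩
  -- surjectivity: fibre product
  have hQnt : Nontrivial (S ⧸ J) := Ideal.Quotient.nontrivial_iff.mpr hJne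
  have hQ : IsLocalRing (S ⧸ J) := IsLocalRing.of_surjective' (Ideal.Quotient.mk J)
    Ideal.Quotient.mk_surjective
  let p : S →+* S ⧸ J := Ideal.Quotient.mk J
  have hp : IsLocalHom p := IsLocalHom.of_surjective _ Ideal.Quotient.mk_surjective
  have hAloc : IsLocalRing (R ⧸ I) := inferInstance
  have hφloc : IsLocalHom φ := by
    constructor
    intro x hx
    obtain ⟨r, rfl⟩ := Ideal.Quotient.mk_surjective x
    rw [hφmk] at hx
    have h1 : IsUnit (algebraMap R S r) := isUnit_of_map_unit p _ hx
    have h2 : IsUnit r := isUnit_of_map_unit (algebraMap R S) r h1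
    exact h2.map _
  have hT : HenselianLocalRing (RingHom.pullback p φ) := henselianLocalRing_pullback p φ
  let pr₁ := RingHom.pullbackFst p φ
  let pr₂ := RingHom.pullbackSnd p φ
  have hcomm : p.comp pr₁ = φ.comp pr₂ := RingHom.pullback_comm_sq p φ
  have hloc₁ : IsLocalHom pr₁ := RingHom.isLocalHom_pullbackFst p φ
  have mem : ∀ r : R, ((algebraMap R S).prod (Ideal.Quotient.mk I)) r ∈ RingHom.pullback p φ := by
    intro r
    show p (algebraMap R S r) = φ (Ideal.Quotient.mk I r)
    exact (hφmk r).symm
  let fT : R →+* RingHom.pullback p φ :=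
    ((algebraMap R S).prod (Ideal.Quotient.mk I)).codRestrict (RingHom.pullback p φ) mem
  have h1f : pr₁.comp fT = algebraMap R S := by
    ext r; rfl
  have hfTloc : IsLocalHom fT := by
    constructor
    intro r hr
    have : IsUnit (pr₁ (fT r)) := hr.map pr₁
    exact isUnit_of_map_unit (algebraMap R S) r this
  obtain ⟨g, hg, -⟩ := Hensel.IsHenselization.universal (R := R) (S := S) (RingHom.pullback p φ)
    fT hfTloc
  have hπg : pr₁.comp g = RingHom.id S := by
    obtain ⟨g₀, -, huniq⟩ := Hensel.IsHenselization.universal (R := R) (S := S) S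
      (algebraMap R S) inferInstance
    have e1 : (pr₁.comp g).comp (algebraMap R S) = algebraMap R S := by
      rw [RingHom.comp_assoc, hg, h1f]
    rw [huniq (pr₁.comp g) e1, huniq (RingHom.id S) (RingHom.id_comp _)]
  intro y
  obtain ⟨s, rfl⟩ := Ideal.Quotient.mk_surjective y
  refine ⟨pr₂ (g s), ?_⟩
  have h3 : p (pr₁ (g s)) = φ (pr₂ (g s)) := RingHom.congr_fun hcomm (g s)
  rw [← h3]
  have : pr₁ (g s) = s := RingHom.congr_fun hπg s
  rw [this]
end


section
variable (R : Type u) [CommRing R] [IsLocalRing R] (S : Type u) [CommRing S] [IsLocalRing S]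
    [Algebra R S] [IsLocalHom (algebraMap R S)] [Hensel.IsHenselization R S]

include R in
/-- Every element of the henselization is congruent mod `𝔪_R S` to an element of `R`. -/
theorem henselization_exists_sub_mem (s : S) :
    ∃ r : R, s - algebraMap R S r ∈ Ideal.map (algebraMap R S) (maximalIdeal R) := by
  obtain ⟨x, hx⟩ := (henselization_quotient_pow_succ_bijective R S 0).2
    (Ideal.Quotient.mk _ s)
  obtain ⟨r, rfl⟩ := Ideal.Quotient.mk_surjective x
  refine ⟨r, ?_⟩
  rw [Ideal.quotientMap_mk] at hx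
  have := Ideal.Quotient.eq.mp hx.symm
  simpa using this

end

end Groth.Agent.Lib.Helper2
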