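import Mathlib
import Groth.Agent.Lib.Helper3HzP

/-!
# Fibres of the (strict) henselization are unramified: `P S_Q = Q S_Q` (helper3)
-/

namespace Groth.Agent.Lib.Helper3.HzFib

open IsLocalRing

universe u

/-- Lemma U: for `B` formally unramified and essentially of finite type over `R`, `Q` a prime of `B`
over `P`, every element of `Q` is, up to a multiplier outside `Q`, in `P B`. -/
theorem exists_mul_mem_map_of_formallyUnramified {R B : Type*} [CommRing R] [CommRing B]
    [Algebra R B] [Algebra.FormallyUnramified R B] [Algebra.EssFiniteType R B] (Q : Ideal B)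
    [Q.IsPrime] {x : B} (hx : x ∈ Q) :
    ∃ s, s ∉ Q ∧ s * x ∈ (Q.under R).map (algebraMap R B) := by
  haveI : Q.LiesOver (Q.under R) := ⟨rfl⟩
  letI := Localization.AtPrime.algebraOfLiesOver (Q.under R) Q
  have h := ((Algebra.isUnramifiedAt_iff_map_eq R (Q.under R) Q).mp inferInstance).2
  have hx' : algebraMap B (Localization.AtPrime Q) x ∈ maximalIdeal (Localization.AtPrime Q) := by
    rw [← Localization.AtPrime.map_eq_maximalIdeal]
    exact Ideal.mem_map_of_mem _ hx
  rw [← h, IsScalarTower.algebraMap_eq R B (Localization.AtPrime Q), ← Ideal.map_map,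
    IsLocalization.mem_map_algebraMap_iff Q.primeCompl] at hx'
  obtain ⟨⟨⟨a, ha⟩, ⟨s, hs⟩⟩, h1⟩ := hx'
  simp only at h1
  rw [← map_mul, IsLocalization.eq_iff_exists Q.primeCompl] at h1
  obtain ⟨⟨t, ht⟩, h2⟩ := h1
  simp only at h2
  refine ⟨t * s, ?_, ?_⟩
  · exact fun hmem => (Ideal.IsPrime.mem_or_mem inferInstance hmem).elim ht hs
  · have : t * s * x = t * a := by rw [← h2]; ring
    rw [this]
    exact Ideal.mul_mem_left _ _ ha

/-- from the elementwise statement to `P S_Q = m_{S_Q}`. -/
theorem map_under_eq_maximalIdeal_of_forall {R S : Type*} [CommRing R] [CommRing S] [Algebra R S]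
    (Q : Ideal S) [Q.IsPrime]
    (h : ∀ z ∈ Q, ∃ s, s ∉ Q ∧ s * z ∈ (Q.under R).map (algebraMap R S)) :
    (Q.under R).map (algebraMap R (Localization.AtPrime Q)) =
      maximalIdeal (Localization.AtPrime Q) := by
  apply le_antisymm
  · rw [Ideal.map_le_iff_le_comap]
    intro r hr
    rw [Ideal.mem_comap, IsScalarTower.algebraMap_apply R S (Localization.AtPrime Q),
      ← Localization.AtPrime.map_eq_maximalIdeal]
    exact Ideal.mem_map_of_mem _ hr
  · intro y hy
    obtain ⟨z, t, rfl⟩ := IsLocalization.exists_mk'_eq Q.primeCompl y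
    rw [IsLocalization.AtPrime.mk'_mem_maximal_iff (Localization.AtPrime Q) Q] at hy
    obtain ⟨s, hs, hsz⟩ := h z hy
    have h1 : algebraMap S (Localization.AtPrime Q) (s * z) ∈
        (Q.under R).map (algebraMap R (Localization.AtPrime Q)) := by
      rw [IsScalarTower.algebraMap_eq R S (Localization.AtPrime Q), ← Ideal.map_map]
      exact Ideal.mem_map_of_mem _ hsz
    have h2 : IsLocalization.mk' (Localization.AtPrime Q) z t =
        IsLocalization.mk' (Localization.AtPrime Q) 1 (⟨s, hs⟩ * t : Q.primeCompl) *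
          algebraMap S (Localization.AtPrime Q) (s * z) := by
      rw [mul_comm, IsLocalization.mul_mk'_eq_mk'_of_mul, mul_one]
      rw [IsLocalization.mk'_eq_iff_eq]
      simp only [Submonoid.coe_mul]
      congr 1
      ring
    rw [h2]
    exact Ideal.mul_mem_left _ _ h1

end Groth.Agent.Lib.Helper3.HzFib

namespace Groth.Agent.Lib.Helper3.Hz

open IsLocalRing Groth.Agent.Lib.Helper3.EssEt

universe u

variable {R : Type u} [CommRing R] [IsLocalRing R]

theorem exists_mul_mem (Q : Ideal (Rh R)) [Q.IsPrime] {z : Rh R} (hz : z ∈ Q) :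
    ∃ s, s ∉ Q ∧ s * z ∈ (Q.under R).map (algebraMap R (Rh R)) := by
  obtain ⟨i, x, rfl⟩ := exists_ofL z
  haveI := essFiniteType_of_isEssentiallyEtale R i.L i.isEssentiallyEtale
  haveI := formallyEtale_of_isEssentiallyEtale R i.L i.isEssentiallyEtale
  haveI : (Q.comap (ofL i)).IsPrime := Ideal.comap_isPrime _ _
  obtain ⟨s, hs, hsx⟩ := HzFib.exists_mul_mem_map_of_formallyUnramified (R := R)
    (Q.comap (ofL i)) (x := x) hz
  have hund : (Q.comap (ofL i)).under R = Q.under R := by
    ext r
    simp only [Ideal.under, Ideal.mem_comap]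
    rw [algebraMap_eq i]
  refine ⟨ofL i s, hs, ?_⟩
  rw [← map_mul]
  have := Ideal.mem_map_of_mem (ofL i) hsx
  rw [Ideal.map_map, hund] at this
  have h2 : (ofL i).comp (algebraMap R i.L) = algebraMap R (Rh R) := by
    ext r
    exact (algebraMap_eq i r).symm
  rwa [h2] at this

end Groth.Agent.Lib.Helper3.Hz

namespace Groth.Agent.Lib.Helper3.Sh

open IsLocalRing Groth.Agent.Lib.Helper3.EssEt

universe u

variable {R : Type u} [CommRing R] [IsLocalRing R] {Ω : Type u} [Field Ω] [Algebra R Ω]
  [Algebra (ResidueField R) Ω] [IsScalarTower R (ResidueField R) Ω]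

theorem exists_mul_mem (Q : Ideal (Rsh R Ω)) [Q.IsPrime] {z : Rsh R Ω} (hz : z ∈ Q) :
    ∃ s, s ∉ Q ∧ s * z ∈ (Q.under R).map (algebraMap R (Rsh R Ω)) := by
  obtain ⟨i, x, rfl⟩ := exists_ofL z
  haveI := essFiniteType_of_isEssentiallyEtale R i.L i.isEssentiallyEtale
  haveI := formallyEtale_of_isEssentiallyEtale R i.L i.isEssentiallyEtale
  haveI : (Q.comap (ofL i)).IsPrime := Ideal.comap_isPrime _ _
  obtain ⟨s, hs, hsx⟩ := HzFib.exists_mul_mem_map_of_formallyUnramified (R := R)
    (Q.comap (ofL i)) (x := x) hz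
  have hund : (Q.comap (ofL i)).under R = Q.under R := by
    ext r
    simp only [Ideal.under, Ideal.mem_comap]
    rw [algebraMap_eq i]
  refine ⟨ofL i s, hs, ?_⟩
  rw [← map_mul]
  have := Ideal.mem_map_of_mem (ofL i) hsx
  rw [Ideal.map_map, hund, ofL_comp_algebraMap] at this
  exact this

end Groth.Agent.Lib.Helper3.Sh
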