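import Mathlib

/-! Regularity along flat local homomorphisms with `m_A B = m_B`. -/

namespace Groth.Agent.Lib.LeadEtaleRegular

open IsLocalRing

variable (A B : Type*) [CommRing A] [CommRing B] [Algebra A B] [IsLocalRing A] [IsLocalRing B]
  [IsNoetherianRing A] [IsNoetherianRing B]

theorem spanFinrank_maximalIdeal_le_of_faithfullyFlat [Module.FaithfullyFlat A B]
    (hmax : (maximalIdeal A).map (algebraMap A B) = maximalIdeal B) :
    (maximalIdeal A).spanFinrank ≤ (maximalIdeal B).spanFinrank := by
  classical
  let S : Set (maximalIdeal B) := {x | ∃ a ∈ maximalIdeal A, (x : B) = algebraMap A B a}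
  have himg : ((maximalIdeal B).subtype '' S) = algebraMap A B '' (maximalIdeal A : Set A) := by
    ext b; constructor
    · rintro ⟨x, ⟨a, ha, hx⟩, rfl⟩; exact ⟨a, ha, hx.symm⟩
    · rintro ⟨a, ha, rfl⟩
      exact ⟨⟨algebraMap A B a, hmax ▸ Ideal.mem_map_of_mem _ ha⟩, ⟨a, ha, rfl⟩, rfl⟩
  have hS : Submodule.span B S = ⊤ := by
    apply Submodule.map_injective_of_injective (Submodule.injective_subtype (maximalIdeal B))
    rw [Submodule.map_span, Submodule.map_top, Submodule.range_subtype, himg]
    exact hmax
  have hs : Submodule.span (ResidueField B) ((maximalIdeal B).toCotangent '' S) = ⊤ :=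
    CotangentSpace.span_image_eq_top_iff.mpr hS
  obtain ⟨f, hfS, hfspan, -⟩ :=
    Submodule.exists_fun_fin_finrank_span_eq (ResidueField B) ((maximalIdeal B).toCotangent '' S)
  have hn : Module.finrank (ResidueField B)
      (Submodule.span (ResidueField B) ((maximalIdeal B).toCotangent '' S)) =
      (maximalIdeal B).spanFinrank := by
    rw [hs, finrank_top, ← spanFinrank_maximalIdeal_eq_finrank_cotangentSpace]
  replace hfspan := hfspan.trans hs
  choose x hxS hx using hfS
  choose a ha hxa using hxS
  have hspan2 : Submodule.span B (Set.range x) = ⊤ := by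
    rw [← CotangentSpace.span_image_eq_top_iff, ← Set.range_comp]
    have : (⇑(maximalIdeal B).toCotangent ∘ x) = f := funext hx
    rw [this]; exact hfspan
  have hI : (Ideal.span (Set.range a)).map (algebraMap A B) = maximalIdeal B := by
    rw [Ideal.map_span, ← Set.range_comp]
    have := congrArg (Submodule.map (maximalIdeal B).subtype) hspan2
    rw [Submodule.map_span, Submodule.map_top, Submodule.range_subtype, ← Set.range_comp] at this
    have h2 : (⇑(algebraMap A B) ∘ a) = (⇑(maximalIdeal B).subtype ∘ x) := by
      funext i; simp [hxa]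
    rw [h2]; exact this
  have hIA : Ideal.span (Set.range a) = maximalIdeal A := by
    rw [← Ideal.comap_map_eq_self_of_faithfullyFlat (B := B) (Ideal.span (Set.range a)), hI, ← hmax,
      Ideal.comap_map_eq_self_of_faithfullyFlat]
  calc (maximalIdeal A).spanFinrank = (Ideal.span (Set.range a)).spanFinrank := by rw [hIA]
    _ ≤ (Set.range a).ncard := Submodule.spanFinrank_span_le_ncard_of_finite (Set.finite_range a)
    _ ≤ _ := by
      have := Set.ncard_image_le (f := a) (s := Set.univ) Set.finite_univ
      simpa [Set.image_univ, Set.ncard_univ] using this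
    _ = (maximalIdeal B).spanFinrank := hn

theorem isRegularLocalRing_iff_of_faithfullyFlat [Module.FaithfullyFlat A B]
    (hmax : (maximalIdeal A).map (algebraMap A B) = maximalIdeal B)
    (hdim : ringKrullDim B = ringKrullDim A) :
    IsRegularLocalRing B ↔ IsRegularLocalRing A := by
  have h1 : (maximalIdeal B).spanFinrank ≤ (maximalIdeal A).spanFinrank := by
    rw [← hmax]
    exact Ideal.spanFinrank_map_le_of_fg _ (maximalIdeal A).fg_of_isNoetherianRing
  have h2 := spanFinrank_maximalIdeal_le_of_faithfullyFlat A B hmax
  have h3 : (maximalIdeal B).spanFinrank = (maximalIdeal A).spanFinrank := le_antisymm h1 h2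
  rw [isRegularLocalRing_iff, isRegularLocalRing_iff, h3, hdim]

end Groth.Agent.Lib.LeadEtaleRegular
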