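import Mathlib
import Groth.Agent.Lib.Helper3HzFib
import Groth.Agent.Lib.Helper28FlatNormal
import Groth.Agent.Lib.Helper28DepthFlat3
import Groth.Agent.Lib.Helper19ComplDim2
import Groth.Agent.Lib.LeadEtaleRegular

/-!
# Local rings of a (strict) henselization vs. local rings of the base (helper3)
-/

namespace Groth.Agent.Lib.Helper3.HzFib

open IsLocalRing

universe u

/-- transport of the elementwise fibre condition along an algebra isomorphism -/
theorem forall_of_algEquiv {R S T : Type*} [CommRing R] [CommRing S] [CommRing T] [Algebra R S]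
    [Algebra R T] (e : S ≃ₐ[R] T)
    (hT : ∀ (Q : Ideal T) [Q.IsPrime], ∀ z ∈ Q, ∃ s, s ∉ Q ∧
      s * z ∈ (Q.under R).map (algebraMap R T))
    (Q : Ideal S) [Q.IsPrime] :
    ∀ z ∈ Q, ∃ s, s ∉ Q ∧ s * z ∈ (Q.under R).map (algebraMap R S) := by
  intro z hz
  haveI : (Q.comap (e.symm : T →+* S)).IsPrime := Ideal.comap_isPrime _ _
  have hez : e z ∈ Q.comap (e.symm : T →+* S) := by
    rw [Ideal.mem_comap]
    simpa using hz
  obtain ⟨s', hs', hsz⟩ := hT (Q.comap (e.symm : T →+* S)) (e z) hez
  have hund : (Q.comap (e.symm : T →+* S)).under R = Q.under R := by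
    ext r
    simp [Ideal.under]
  refine ⟨e.symm s', ?_, ?_⟩
  · intro h
    exact hs' (by rw [Ideal.mem_comap]; simpa using h)
  · have := Ideal.mem_map_of_mem (e.symm : T →+* S) hsz
    rw [Ideal.map_map, hund] at this
    have h2 : (e.symm : T →+* S).comp (algebraMap R T) = algebraMap R S := by
      ext r
      simp
    rw [h2] at this
    simpa using this

section General

/-! ### Flat local maps with `m_R S = m_S`. -/

variable {R S : Type u} [CommRing R] [CommRing S] [IsLocalRing R] [IsLocalRing S]
  [IsNoetherianRing R] [IsNoetherianRing S] [Algebra R S] [IsLocalHom (algebraMap R S)]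

theorem depth_eq_of_flat_of_map_eq [Module.Flat R S]
    (hmap : (maximalIdeal R).map (algebraMap R S) = maximalIdeal S) :
    LocCoh.depth S S = LocCoh.depth R R := by
  rw [Groth.Agent.Lib.Helper28.depth_eq_depth_add_depth_fibre (R := R) (S := S), hmap]
  have hfl := Groth.Agent.Lib.Helper28.isFiniteLength_quotient_maximalIdeal_pow_smul_top
    (R := S) 1 S
  rw [pow_one] at hfl
  haveI : Nontrivial (S ⧸ (maximalIdeal S • ⊤ : Submodule S S)) := by
    rw [Submodule.Quotient.nontrivial_iff, smul_eq_mul, Ideal.mul_top]
    exact Ideal.IsPrime.ne_top'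
  rw [Groth.Agent.Lib.Helper28.depth_eq_zero_of_isFiniteLength hfl, add_zero]

end General

section Loc

/-! ### Localizations `R_P → S_Q` for flat `R → S` with unramified fibre at `Q`. -/

variable {R S : Type u} [CommRing R] [CommRing S] [IsNoetherianRing R] [IsNoetherianRing S]
  [Algebra R S] [Module.Flat R S] (Q : Ideal S) [Q.IsPrime]
  (hQ : (Q.under R).map (algebraMap R (Localization.AtPrime Q)) =
      maximalIdeal (Localization.AtPrime Q))

include hQ

theorem height_eq_of_unramified : Q.height = (Q.under R).height := by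
  obtain ⟨alg, hloc, hflat, hmapeq⟩ :=
    Groth.Agent.Lib.Helper28.exists_algebra_localization_flat (A := R) Q
  have hmax : maximalIdeal (Localization.AtPrime Q) =
      (maximalIdeal (Localization.AtPrime (Q.under R))).map
        (algebraMap (Localization.AtPrime (Q.under R)) (Localization.AtPrime Q)) :=
    hQ.symm.trans hmapeq
  have h := Groth.Agent.Lib.Helper19.ringKrullDim_eq_of_flat_of_map_eq hmax
  rw [IsLocalization.AtPrime.ringKrullDim_eq_height Q (Localization.AtPrime Q),
    IsLocalization.AtPrime.ringKrullDim_eq_height (Q.under R)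
      (Localization.AtPrime (Q.under R))] at h
  exact WithBot.coe_injective h

theorem depth_eq_of_unramified :
    LocCoh.depth (Localization.AtPrime Q) (Localization.AtPrime Q) =
      LocCoh.depth (Localization.AtPrime (Q.under R)) (Localization.AtPrime (Q.under R)) := by
  obtain ⟨alg, hloc, hflat, hmapeq⟩ :=
    Groth.Agent.Lib.Helper28.exists_algebra_localization_flat (A := R) Q
  have hmax : (maximalIdeal (Localization.AtPrime (Q.under R))).map
        (algebraMap (Localization.AtPrime (Q.under R)) (Localization.AtPrime Q)) =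
      maximalIdeal (Localization.AtPrime Q) := hmapeq.symm.trans hQ
  exact depth_eq_of_flat_of_map_eq hmax

theorem isRegularLocalRing_iff_of_unramified :
    IsRegularLocalRing (Localization.AtPrime Q) ↔
      IsRegularLocalRing (Localization.AtPrime (Q.under R)) := by
  obtain ⟨alg, hloc, hflat, hmapeq⟩ :=
    Groth.Agent.Lib.Helper28.exists_algebra_localization_flat (A := R) Q
  have hmax : (maximalIdeal (Localization.AtPrime (Q.under R))).map
        (algebraMap (Localization.AtPrime (Q.under R)) (Localization.AtPrime Q)) =
      maximalIdeal (Localization.AtPrime Q) := hmapeq.symm.trans hQ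
  haveI : Module.FaithfullyFlat (Localization.AtPrime (Q.under R)) (Localization.AtPrime Q) :=
    Module.FaithfullyFlat.of_flat_of_isLocalHom
  exact Groth.Agent.Lib.LeadEtaleRegular.isRegularLocalRing_iff_of_faithfullyFlat _ _ hmax
    (Groth.Agent.Lib.Helper19.ringKrullDim_eq_of_flat_of_map_eq hmax.symm)

end Loc


section Iff

/-! ### Serre conditions along faithfully flat maps with unramified fibres -/

variable {R S : Type u} [CommRing R] [CommRing S] [IsNoetherianRing R] [IsNoetherianRing S]
  [Algebra R S] [Module.FaithfullyFlat R S]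
  (hfib : ∀ (Q : Ideal S) [Q.IsPrime], (Q.under R).map (algebraMap R (Localization.AtPrime Q)) =
      maximalIdeal (Localization.AtPrime Q))

include hfib

theorem hasRk_iff (k : ℕ) : LocCoh.HasRk k S ↔ LocCoh.HasRk k R := by
  constructor
  · intro h P hP hk
    obtain ⟨Q, hQ, hQP⟩ := Ideal.exists_isPrime_liesOver_of_faithfullyFlat (B := S) P
    have hPQ : P = Q.under R := hQP.over
    subst hPQ
    rw [← isRegularLocalRing_iff_of_unramified Q (hfib Q)]
    apply h Q
    rw [height_eq_of_unramified Q (hfib Q)]
    exact hk
  · intro h Q hQ hk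
    rw [isRegularLocalRing_iff_of_unramified Q (hfib Q)]
    apply h (Q.under R)
    rw [← height_eq_of_unramified Q (hfib Q)]
    exact hk

theorem hasSk_iff (k : ℕ) : LocCoh.HasSk k S S ↔ LocCoh.HasSk k R R := by
  constructor
  · intro h P hP
    obtain ⟨Q, hQ, hQP⟩ := Ideal.exists_isPrime_liesOver_of_faithfullyFlat (B := S) P
    have hPQ : P = Q.under R := hQP.over
    subst hPQ
    have hSq := h Q
    rw [Module.supportDim_eq_of_equiv (Groth.Agent.Lib.Helper28.localizedModuleSelfEquiv Q),
      Groth.Agent.Lib.Helper28.supportDim_localization_self,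
      Groth.Agent.Lib.Helper28.depth_localizedModule_self] at hSq
    rw [Module.supportDim_eq_of_equiv
        (Groth.Agent.Lib.Helper28.localizedModuleSelfEquiv (Q.under R)),
      Groth.Agent.Lib.Helper28.supportDim_localization_self,
      Groth.Agent.Lib.Helper28.depth_localizedModule_self,
      ← depth_eq_of_unramified Q (hfib Q), ← height_eq_of_unramified Q (hfib Q)]
    exact hSq
  · intro h Q hQ
    have hRp := h (Q.under R)
    rw [Module.supportDim_eq_of_equiv
        (Groth.Agent.Lib.Helper28.localizedModuleSelfEquiv (Q.under R)),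
      Groth.Agent.Lib.Helper28.supportDim_localization_self,
      Groth.Agent.Lib.Helper28.depth_localizedModule_self,
      ← depth_eq_of_unramified Q (hfib Q), ← height_eq_of_unramified Q (hfib Q)] at hRp
    rw [Module.supportDim_eq_of_equiv (Groth.Agent.Lib.Helper28.localizedModuleSelfEquiv Q),
      Groth.Agent.Lib.Helper28.supportDim_localization_self,
      Groth.Agent.Lib.Helper28.depth_localizedModule_self]
    exact hRp

end Iff

section CM

variable {R S : Type u} [CommRing R] [CommRing S] [IsLocalRing R] [IsLocalRing S]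
  [IsNoetherianRing R] [IsNoetherianRing S] [Algebra R S] [IsLocalHom (algebraMap R S)]

theorem isCohenMacaulayLocalRing_iff_of_flat_of_map_eq [Module.Flat R S]
    (hmap : (maximalIdeal R).map (algebraMap R S) = maximalIdeal S) :
    LocCoh.IsCohenMacaulayLocalRing S ↔ LocCoh.IsCohenMacaulayLocalRing R := by
  have hdim : ringKrullDim S = ringKrullDim R :=
    Groth.Agent.Lib.Helper19.ringKrullDim_eq_of_flat_of_map_eq hmap.symm
  have hdepth := depth_eq_of_flat_of_map_eq hmap
  constructor
  · intro h
    refine { supportDim_eq_depth := ?_ }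
    have := h.supportDim_eq_depth
    rw [Module.supportDim_self_eq_ringKrullDim] at this ⊢
    rw [← hdim, ← hdepth]
    exact this
  · intro h
    refine { supportDim_eq_depth := ?_ }
    have := h.supportDim_eq_depth
    rw [Module.supportDim_self_eq_ringKrullDim] at this ⊢
    rw [hdim, hdepth]
    exact this

end CM

section Apply

variable (R S : Type u) [CommRing R] [IsLocalRing R] [CommRing S] [IsLocalRing S] [Algebra R S]
  [IsLocalHom (algebraMap R S)]

theorem hz_map_under [Hensel.IsHenselization R S] (Q : Ideal S) [Q.IsPrime] :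
    (Q.under R).map (algebraMap R (Localization.AtPrime Q)) =
      maximalIdeal (Localization.AtPrime Q) := by
  obtain ⟨e⟩ := Hz.nonempty_algEquiv (R := R) S
  exact map_under_eq_maximalIdeal_of_forall Q
    (forall_of_algEquiv e (fun Q' _ z hz => Hz.exists_mul_mem Q' hz) Q)

theorem sh_map_under [Hensel.IsStrictHenselization R S] (Q : Ideal S) [Q.IsPrime] :
    (Q.under R).map (algebraMap R (Localization.AtPrime Q)) =
      maximalIdeal (Localization.AtPrime Q) := by
  obtain ⟨Ω, _, _, _, _, _, ⟨e⟩⟩ := HzP.sh_exists_model R S
  exact map_under_eq_maximalIdeal_of_forall Q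
    (forall_of_algEquiv e (fun Q' _ z hz => Sh.exists_mul_mem Q' hz) Q)

end Apply

end Groth.Agent.Lib.Helper3.HzFib
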