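import Mathlib
import Groth.Agent.Lib.Helper3HzFib2

/-!
# Fibres of Noetherian algebras with unramified local rings (helper3)
-/

namespace Groth.Agent.Lib.Helper3.FibSep

open TensorProduct IsLocalRing

universe u

section

variable {R S : Type u} [CommRing R] [CommRing S] [Algebra R S] (p : Ideal R) [p.IsPrime]

/-- The fibre of a Noetherian algebra is Noetherian. -/
theorem isNoetherianRing_fiber [IsNoetherianRing S] : IsNoetherianRing (p.Fiber S) := by
  letI : Algebra S (p.Fiber S) := Algebra.TensorProduct.rightAlgebra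
  haveI : IsNoetherianRing (Localization (Algebra.algebraMapSubmonoid S p.primeCompl)) :=
    IsLocalization.isNoetherianRing (Algebra.algebraMapSubmonoid S p.primeCompl) _ inferInstance
  exact isNoetherianRing_of_ringEquiv _ (Ideal.Fiber.algEquivQuotient p (S := S)).symm.toRingEquiv


theorem comap_includeRight_under (q : Ideal (p.Fiber S)) [q.IsPrime] :
    (q.comap (Algebra.TensorProduct.includeRight : S →ₐ[R] p.Fiber S)).under R = p := by
  have h := Ideal.over_def q p
  refine Eq.trans ?_ h.symm
  ext a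
  simp only [Ideal.under, Ideal.mem_comap]
  have : (Algebra.TensorProduct.includeRight : S →ₐ[R] p.Fiber S) (algebraMap R S a) =
      algebraMap R (p.Fiber S) a := by
    rw [AlgHom.commutes]
  rw [this]

/-- If the local rings of `S` at primes over `p` are unramified over `R_p` with trivial
"nilpotent part" (`p S_r = m_{S_r}`), then all local rings of the fibre are fields. -/
theorem isField_localization_fiber
    (H1 : ∀ (r : Ideal S) [r.IsPrime], r.under R = p →
      p.map (algebraMap R (Localization.AtPrime r)) = maximalIdeal (Localization.AtPrime r))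
    (q : Ideal (p.Fiber S)) [q.IsPrime] : IsField (Localization.AtPrime q) := by
  set r := q.comap (Algebra.TensorProduct.includeRight : S →ₐ[R] p.Fiber S) with hr
  have hrp : r.under R = p := comap_includeRight_under p q
  haveI : r.LiesOver p := ⟨hrp.symm⟩
  letI := Localization.AtPrime.algebraOfLiesOver p r
  let e := Ideal.Fiber.localizationAlgEquivQuotient p q
  have h1 := H1 r hrp
  have hF : IsField (Localization.AtPrime r ⧸ p.map (algebraMap R (Localization.AtPrime r))) := by
    rw [h1]
    exact (Ideal.Quotient.maximal_ideal_iff_isField_quotient _).mp inferInstance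
  exact e.toRingEquiv.toMulEquiv.isField hF

end


section Fields

variable {T : Type*} [CommRing T]
  (hT : ∀ (q : Ideal T) [q.IsPrime], IsField (Localization.AtPrime q))

include hT

theorem isReduced_of_forall_isField : IsReduced T := by
  apply isReduced_ofLocalizationMaximal
  intro J hJ
  letI := (hT J).toField
  infer_instance

theorem isMaximal_of_forall_isField (q : Ideal T) [hq : q.IsPrime] : q.IsMaximal := by
  obtain ⟨M, hM, hqM⟩ := Ideal.exists_le_maximal q hq.ne_top
  haveI := hM.isPrime
  letI := (hT M).toField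
  have hdisj : Disjoint (M.primeCompl : Set T) q := by
    rw [Set.disjoint_left]
    intro x hx hxq
    exact hx (hqM hxq)
  have hdisjM : Disjoint (M.primeCompl : Set T) M := by
    rw [Set.disjoint_left]
    intro x hx hxq
    exact hx hxq
  have h1 := IsLocalization.under_map_of_isPrime_disjoint M.primeCompl (Localization.AtPrime M) hq hdisj
  have h2 := IsLocalization.under_map_of_isPrime_disjoint M.primeCompl (Localization.AtPrime M)
    hM.isPrime hdisjM
  have hbot : ∀ I : Ideal (Localization.AtPrime M), I ≠ ⊤ → I = ⊥ := by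
    intro I hI
    rcases Ideal.eq_bot_or_top I with h | h
    · exact h
    · exact absurd h hI
  have hq' : q.map (algebraMap T (Localization.AtPrime M)) ≠ ⊤ := by
    intro h
    rw [h] at h1
    exact hq.ne_top (by rw [← h1]; rfl)
  have hM' : M.map (algebraMap T (Localization.AtPrime M)) ≠ ⊤ := by
    intro h
    rw [h] at h2
    exact hM.ne_top (by rw [← h2]; rfl)
  have : q = M := by
    calc q = Ideal.under T (q.map (algebraMap T (Localization.AtPrime M))) := h1.symm
      _ = Ideal.under T (M.map (algebraMap T (Localization.AtPrime M))) := by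
          rw [hbot _ hq', hbot _ hM']
      _ = M := h2
  rw [this]
  exact hM

theorem krullDimLE_zero_of_forall_isField : Ring.KrullDimLE 0 T :=
  Ring.krullDimLE_zero_iff.mpr (fun q _ => isMaximal_of_forall_isField hT q)

end Fields


section Main

variable {R S : Type u} [CommRing R] [CommRing S] [Algebra R S] (p : Ideal R) [p.IsPrime]

/-- separability of the residue fields of the fibre, from an exhaustion of `S` by
essentially étale algebras -/
theorem isSeparable_quotient_fiber
    (H2 : ∀ s : Finset S, ∃ (L : Type u) (_ : CommRing L) (_ : Algebra R L)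
      (_ : Algebra.EssFiniteType R L) (_ : Algebra.FormallyEtale R L) (f : L →ₐ[R] S),
      ∀ x ∈ s, x ∈ f.range)
    (m : Ideal (p.Fiber S)) [hm : m.IsMaximal] :
    letI := Ideal.Quotient.field m
    Algebra.IsSeparable p.ResidueField (p.Fiber S ⧸ m) := by
  classical
  letI := Ideal.Quotient.field m
  constructor
  intro x
  obtain ⟨t, rfl⟩ := Ideal.Quotient.mk_surjective x
  obtain ⟨s, rfl⟩ := TensorProduct.exists_finset t
  obtain ⟨L, _, _, _, _, f, hf⟩ := H2 (s.image Prod.snd)
  let φ : p.Fiber L →ₐ[p.ResidueField] p.Fiber S :=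
    Algebra.TensorProduct.map (AlgHom.id p.ResidueField p.ResidueField) f
  let ψ : p.Fiber L →ₐ[p.ResidueField] (p.Fiber S ⧸ m) :=
    (Ideal.Quotient.mkₐ p.ResidueField m).comp φ
  have hlift : ∀ z ∈ s, ∃ l : L, f l = z.2 := by
    intro z hz
    exact hf z.2 (Finset.mem_image_of_mem _ hz)
  choose! l hl using hlift
  let y : p.Fiber L := ∑ z ∈ s, z.1 ⊗ₜ[R] l z
  have hy : ψ y = Ideal.Quotient.mk m (∑ z ∈ s, z.1 ⊗ₜ[R] z.2) := by
    simp only [ψ, y, AlgHom.comp_apply, map_sum]
    refine Finset.sum_congr rfl (fun z hz => ?_)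
    simp only [φ, Algebra.TensorProduct.map_tmul, AlgHom.id_apply, hl z hz]
    rfl
  haveI : (RingHom.ker ψ.toRingHom).IsPrime := RingHom.ker_isPrime _
  have hsep : Algebra.IsSeparable p.ResidueField (p.Fiber L ⧸ RingHom.ker ψ.toRingHom) :=
    inferInstance
  let ψ' : (p.Fiber L ⧸ RingHom.ker ψ.toRingHom) →ₐ[p.ResidueField] (p.Fiber S ⧸ m) :=
    Ideal.Quotient.liftₐ (RingHom.ker ψ.toRingHom) ψ (fun a ha => ha)
  have hψ'inj : Function.Injective ψ' := by
    rw [injective_iff_map_eq_zero]
    intro a ha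
    obtain ⟨a, rfl⟩ := Ideal.Quotient.mk_surjective a
    rw [Ideal.Quotient.eq_zero_iff_mem]
    exact ha
  have hx : ψ' (Ideal.Quotient.mk _ y) = Ideal.Quotient.mk m (∑ z ∈ s, z.1 ⊗ₜ[R] z.2) := hy
  rw [← hx]
  have h1 := Algebra.IsSeparable.isSeparable p.ResidueField
    (Ideal.Quotient.mk (RingHom.ker ψ.toRingHom) y)
  unfold IsSeparable at h1 ⊢
  rw [minpoly.algHom_eq ψ' hψ'inj]
  exact h1


set_option maxHeartbeats 1000000 in
/-- **Fibres are finite products of separable algebraic field extensions.** -/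
theorem exists_equiv_pi_separable [IsNoetherianRing S]
    (H1 : ∀ (r : Ideal S) [r.IsPrime], r.under R = p →
      p.map (algebraMap R (Localization.AtPrime r)) = maximalIdeal (Localization.AtPrime r))
    (H2 : ∀ s : Finset S, ∃ (L : Type u) (_ : CommRing L) (_ : Algebra R L)
      (_ : Algebra.EssFiniteType R L) (_ : Algebra.FormallyEtale R L) (f : L →ₐ[R] S),
      ∀ x ∈ s, x ∈ f.range) :
    ∃ (n : ℕ) (K : Fin n → Type u) (_ : ∀ i, Field (K i)) (_ : ∀ i, Algebra p.ResidueField (K i)),
      (∀ i, Algebra.IsSeparable p.ResidueField (K i)) ∧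
      Nonempty ((p.ResidueField ⊗[R] S) ≃ₐ[p.ResidueField] (Π i, K i)) := by
  haveI := isNoetherianRing_fiber p (S := S)
  have hT : ∀ (q : Ideal (p.Fiber S)) [q.IsPrime], IsField (Localization.AtPrime q) :=
    fun q _ => isField_localization_fiber p H1 q
  haveI : IsReduced (p.Fiber S) := isReduced_of_forall_isField hT
  haveI : Ring.KrullDimLE 0 (p.Fiber S) := krullDimLE_zero_of_forall_isField hT
  haveI : IsArtinianRing (p.Fiber S) := isArtinianRing_iff_krullDimLE_zero.mpr inferInstance
  haveI : Finite (MaximalSpectrum (p.Fiber S)) := inferInstance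
  let e0 := (IsArtinianRing.equivPi (p.Fiber S)).restrictScalars p.ResidueField
  let σ : Fin (Nat.card (MaximalSpectrum (p.Fiber S))) ≃ MaximalSpectrum (p.Fiber S) :=
    (Finite.equivFin _).symm
  refine ⟨Nat.card (MaximalSpectrum (p.Fiber S)), fun j => p.Fiber S ⧸ (σ j).asIdeal,
    fun j => Ideal.Quotient.field _, fun j => inferInstance, ?_, ?_⟩
  · intro j
    haveI := (σ j).isMaximal
    exact isSeparable_quotient_fiber p H2 (σ j).asIdeal
  · exact ⟨e0.trans (AlgEquiv.piCongrLeft p.ResidueField
      (fun I : MaximalSpectrum (p.Fiber S) => p.Fiber S ⧸ I.asIdeal) σ).symm⟩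

end Main

end Groth.Agent.Lib.Helper3.FibSep

namespace Groth.Agent.Lib.Helper3.HzP

open IsLocalRing TensorProduct Groth.Agent.Lib.Helper3.EssEt

universe u

variable (R : Type u) [CommRing R] [IsLocalRing R] (S : Type u) [CommRing S] [IsLocalRing S]
    [Algebra R S] [IsLocalHom (algebraMap R S)]

theorem hz_exhaust [Hensel.IsHenselization R S] (s : Finset S) :
    ∃ (L : Type u) (_ : CommRing L) (_ : Algebra R L)
      (_ : Algebra.EssFiniteType R L) (_ : Algebra.FormallyEtale R L) (f : L →ₐ[R] S),
      ∀ x ∈ s, x ∈ f.range := by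
  classical
  obtain ⟨e⟩ := Hz.nonempty_algEquiv (R := R) S
  obtain ⟨i, x', hx'⟩ := Hz.exists_ofL_fin (fun k : Fin s.card => e (s.equivFin.symm k))
  refine ⟨i.L, inferInstance, inferInstance,
    essFiniteType_of_isEssentiallyEtale R i.L i.isEssentiallyEtale,
    formallyEtale_of_isEssentiallyEtale R i.L i.isEssentiallyEtale,
    (e.symm : Hz.Rh R →ₐ[R] S).comp (Hz.ofLₐ i), ?_⟩
  intro x hx
  refine ⟨x' (s.equivFin ⟨x, hx⟩), ?_⟩
  change e.symm (Hz.ofL i (x' (s.equivFin ⟨x, hx⟩))) = x
  rw [hx', Equiv.symm_apply_apply, AlgEquiv.symm_apply_apply]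

theorem sh_exhaust [Hensel.IsStrictHenselization R S] (s : Finset S) :
    ∃ (L : Type u) (_ : CommRing L) (_ : Algebra R L)
      (_ : Algebra.EssFiniteType R L) (_ : Algebra.FormallyEtale R L) (f : L →ₐ[R] S),
      ∀ x ∈ s, x ∈ f.range := by
  classical
  obtain ⟨Ω, _, _, _, _, _, ⟨e⟩⟩ := sh_exists_model R S
  obtain ⟨i, x', hx'⟩ := Sh.exists_ofL_fin (fun k : Fin s.card => e (s.equivFin.symm k))
  refine ⟨i.L, inferInstance, inferInstance,
    essFiniteType_of_isEssentiallyEtale R i.L i.isEssentiallyEtale,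
    formallyEtale_of_isEssentiallyEtale R i.L i.isEssentiallyEtale,
    (e.symm : Sh.Rsh R Ω →ₐ[R] S).comp (Sh.ofLₐ i), ?_⟩
  intro x hx
  refine ⟨x' (s.equivFin ⟨x, hx⟩), ?_⟩
  change e.symm (Sh.ofL i (x' (s.equivFin ⟨x, hx⟩))) = x
  rw [hx', Equiv.symm_apply_apply, AlgEquiv.symm_apply_apply]

theorem hz_fibre [IsNoetherianRing R] [Hensel.IsHenselization R S] (p : Ideal R) [p.IsPrime] :
    ∃ (n : ℕ) (K : Fin n → Type u) (_ : ∀ i, Field (K i)) (_ : ∀ i, Algebra p.ResidueField (K i)),
      (∀ i, Algebra.IsSeparable p.ResidueField (K i)) ∧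
      Nonempty ((p.ResidueField ⊗[R] S) ≃ₐ[p.ResidueField] (Π i, K i)) := by
  haveI := hz_isNoetherianRing R S
  refine FibSep.exists_equiv_pi_separable p ?_ (hz_exhaust R S)
  intro r _ hr
  rw [← hr]
  exact HzFib.hz_map_under R S r

theorem sh_fibre [IsNoetherianRing R] [Hensel.IsStrictHenselization R S] (p : Ideal R)
    [p.IsPrime] :
    ∃ (n : ℕ) (K : Fin n → Type u) (_ : ∀ i, Field (K i)) (_ : ∀ i, Algebra p.ResidueField (K i)),
      (∀ i, Algebra.IsSeparable p.ResidueField (K i)) ∧
      Nonempty ((p.ResidueField ⊗[R] S) ≃ₐ[p.ResidueField] (Π i, K i)) := by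
  haveI := sh_isNoetherianRing R S
  refine FibSep.exists_equiv_pi_separable p ?_ (sh_exhaust R S)
  intro r _ hr
  rw [← hr]
  exact HzFib.sh_map_under R S r

end Groth.Agent.Lib.Helper3.HzP
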