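import Mathlib
import Groth.Agent.Lib.Helper28HzFFa
import Groth.Agent.Lib.Helper28GeomRed5
import Groth.Agent.Lib.Helper28ComplIso
import Groth.Agent.Lib.Helper3HzFibSep
import Groth.Agent.Lib.Helper3HzP
import Groth.Agent.Lib.Helper2Hensel2

/-!
# Helper28HzFF: the henselization of a Noetherian local ring has geometrically reduced formal fibres
iff the ring does.
-/

set_option autoImplicit false
universe u

namespace Groth.Agent.Lib.Helper28.HzFF
open TensorProduct IsLocalRing Groth.Agent.Lib.Helper28

section Hz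

variable (R S : Type u) [CommRing R] [IsLocalRing R] [IsNoetherianRing R]
    [CommRing S] [IsLocalRing S] [Algebra R S] [IsLocalHom (algebraMap R S)]
    [Hensel.IsHenselization R S]

/-- the completions of `R` and of its henselization are isomorphic `R`-algebras. -/
theorem hz_exists_algEquiv_cpl : Nonempty (EGA4.Cpl R ≃ₐ[R] EGA4.Cpl S) := by
  have hSN : IsNoetherianRing S := Groth.Agent.Lib.Helper3.HzP.hz_isNoetherianRing R S
  have hff : Module.FaithfullyFlat R S := Groth.Agent.Lib.Helper3.HzP.hz_faithfullyFlat R S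
  have hmS : (maximalIdeal R).map (algebraMap R S) = maximalIdeal S :=
    Groth.Agent.Lib.Helper3.HzP.hz_map_maximalIdeal R S
  obtain ⟨e, he⟩ := exists_ringEquiv_adicCompletion_of_flat_of_map_maximalIdeal R S hmS
    (fun s => by
      obtain ⟨r, hr⟩ := Groth.Agent.Lib.Helper2.henselization_exists_sub_mem R S s
      exact ⟨r, hmS ▸ hr⟩)
  exact ⟨AlgEquiv.ofRingEquiv (f := e) (fun r => by rw [he]; rfl)⟩

theorem hz_isPiSeparable (p : Ideal R) [p.IsPrime] : IsPiSeparable p.ResidueField (p.Fiber S) :=
  Groth.Agent.Lib.Helper3.HzP.hz_fibre R S p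

/-- fibres of `R → Ŝ` versus formal fibres of `R` -/
theorem hz_isGeometricallyReduced_fiber_cpl_iff (p : Ideal R) [p.IsPrime] :
    Algebra.IsGeometricallyReduced p.ResidueField (p.Fiber (EGA4.Cpl S)) ↔
      Algebra.IsGeometricallyReduced p.ResidueField (EGA4.formalFibre R p) := by
  obtain ⟨e⟩ := hz_exists_algEquiv_cpl R S
  let E : p.Fiber (EGA4.Cpl R) ≃ₐ[p.ResidueField] p.Fiber (EGA4.Cpl S) :=
    Algebra.TensorProduct.congr AlgEquiv.refl e
  constructor
  · intro h
    exact Algebra.IsGeometricallyReduced.of_injective E.toAlgHom E.injective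
  · intro h
    exact Algebra.IsGeometricallyReduced.of_injective E.symm.toAlgHom E.symm.injective

/-- `R` has geometrically reduced formal fibres ⇒ so does its henselization. -/
theorem hz_hasGeomReducedFormalFibres (h : EGA4.HasGeomReducedFormalFibres R) :
    EGA4.HasGeomReducedFormalFibres S := by
  intro q hq
  exact isGeometricallyReduced_fiber_of_isPiSeparable R S (EGA4.Cpl S)
    (fun p _ => hz_isPiSeparable R S p)
    (fun p _ => (hz_isGeometricallyReduced_fiber_cpl_iff R S p).mpr (h p)) q

/-- the henselization has geometrically reduced formal fibres ⇒ so does `R`. -/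
theorem hasGeomReducedFormalFibres_of_hz (h : EGA4.HasGeomReducedFormalFibres S) :
    EGA4.HasGeomReducedFormalFibres R := by
  have hSN : IsNoetherianRing S := Groth.Agent.Lib.Helper3.HzP.hz_isNoetherianRing R S
  intro p hp
  rw [← hz_isGeometricallyReduced_fiber_cpl_iff R S p]
  apply Groth.Agent.Lib.Helper28.isGeometricallyReduced_of_forall_finite
  intro k' _ _ hfin
  have hN1 : IsNoetherianRing (p.Fiber S) := isNoetherianRing_fiber p
  have hNC : IsNoetherianRing (EGA4.Cpl S) :=
    Groth.Agent.Lib.Helper19.isNoetherianRing_adicCompletion _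
  have hN2 : IsNoetherianRing (p.Fiber (EGA4.Cpl S)) := isNoetherianRing_fiber p
  have h0 : IsReduced (k' ⊗[p.ResidueField] (p.Fiber S)) := (hz_isPiSeparable R S p).isReduced_tensor k'
  exact tensor_fiber_comp_of_property R S (EGA4.Cpl S) p k' (fun T _ => IsReduced T)
    GeomRed.red_equiv (fun R' _ _ _ _ _ hR' => GeomRed.red_asc_gen (fun q _ => h q) hR') h0

end Hz

end Groth.Agent.Lib.Helper28.HzFF
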