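import Mathlib
import Groth.Agent.Lib.Helper28HzFFa

/-!
# Helper28HzRegA: quotients by pure ideals have the same local rings; regular rings.
-/

set_option autoImplicit false
universe u

namespace Groth.Agent.Lib.Helper28.HzFF
open TensorProduct Polynomial

section PureLoc

variable {N N' : Type u} [CommRing N] [CommRing N'] (ψ : N →+* N') (hψ : Function.Surjective ψ)
  (H : ∀ z, ψ z = 0 → ∃ e, ψ e = 0 ∧ e * z = z)

include hψ H in
/-- For a surjection with pure kernel, the local rings of the target are local rings of the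
source. -/
theorem isLocalization_atPrime_of_surjective_of_ker_pure (P' : Ideal N') [P'.IsPrime] :
    letI : Algebra N (Localization.AtPrime P') :=
      ((algebraMap N' (Localization.AtPrime P')).comp ψ).toAlgebra
    IsLocalization.AtPrime (Localization.AtPrime P') (P'.comap ψ) := by
  let _ : Algebra N (Localization.AtPrime P') :=
    ((algebraMap N' (Localization.AtPrime P')).comp ψ).toAlgebra
  have halg : ∀ x : N, algebraMap N (Localization.AtPrime P') x =
      algebraMap N' (Localization.AtPrime P') (ψ x) := fun x => rfl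
  refine ⟨?_, ?_, ?_⟩
  · rintro ⟨s, hs⟩
    rw [halg]
    exact IsLocalization.map_units (Localization.AtPrime P') (⟨ψ s, hs⟩ : P'.primeCompl)
  · intro y
    obtain ⟨⟨a', ⟨s', hs'⟩⟩, h⟩ := IsLocalization.surj P'.primeCompl y
    obtain ⟨a, rfl⟩ := hψ a'
    obtain ⟨s, rfl⟩ := hψ s'
    exact ⟨⟨a, ⟨s, hs'⟩⟩, h⟩
  · intro x y hxy
    rw [halg, halg] at hxy
    obtain ⟨⟨t', ht'⟩, h⟩ := (IsLocalization.eq_iff_exists P'.primeCompl _).mp hxy
    obtain ⟨t, rfl⟩ := hψ t'
    have h0 : ψ (t * (x - y)) = 0 := by
      rw [map_mul, map_sub, mul_sub, sub_eq_zero]; exact h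
    obtain ⟨e, he, hez⟩ := H _ h0
    refine ⟨⟨(1 - e) * t, ?_⟩, ?_⟩
    · change ψ ((1 - e) * t) ∉ P'
      rw [map_mul, map_sub, map_one, he, sub_zero, one_mul]
      exact ht'
    · change (1 - e) * t * x = (1 - e) * t * y
      have : (1 - e) * (t * (x - y)) = 0 := by rw [sub_mul, one_mul, hez, sub_self]
      linear_combination this

include hψ H in
theorem isRegularRing_of_surjective_of_ker_pure [IsRegularRing N] : IsRegularRing N' := by
  have hN' : IsNoetherianRing N' := isNoetherianRing_of_surjective N N' ψ hψ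
  rw [isRegularRing_iff]
  intro P' hP'
  let _ : Algebra N (Localization.AtPrime P') :=
    ((algebraMap N' (Localization.AtPrime P')).comp ψ).toAlgebra
  have hloc := isLocalization_atPrime_of_surjective_of_ker_pure ψ hψ H P'
  have : (P'.comap ψ).IsPrime := Ideal.comap_isPrime ψ P'
  exact IsRegularLocalRing.of_ringEquiv
    (IsLocalization.algEquiv (P'.comap ψ).primeCompl (Localization.AtPrime (P'.comap ψ))
      (Localization.AtPrime P')).toRingEquiv

end PureLoc

end Groth.Agent.Lib.Helper28.HzFF
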