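import Mathlib
import Groth.Agent.Lib.Helper28HzFFa
import Groth.Agent.Lib.Helper28HzRegA

/-!
# Helper28HzRegB: pure quotients of tensor products (regular rings); algebraicity of residue field
extensions when the fibre is integral.
-/

set_option autoImplicit false
universe u

namespace Groth.Agent.Lib.Helper28.HzFF
open TensorProduct Polynomial

section PureTensor

variable (S C W Ω : Type u) [CommRing S] [CommRing C] [CommRing W] [Field Ω] [Algebra S C]
  [Algebra S W] [Algebra S Ω] (μ : W →ₐ[S] Ω) (hμ : Function.Surjective μ) [IsReduced W]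
  (hdim : ∀ P : Ideal W, P.IsPrime → P.IsMaximal)

include hμ hdim in
theorem exists_mul_eq_self_of_map_tensor_eq_zero (z : C ⊗[S] W)
    (hz : Algebra.TensorProduct.map (AlgHom.id S C) μ z = 0) :
    ∃ e, Algebra.TensorProduct.map (AlgHom.id S C) μ e = 0 ∧ e * z = z := by
  have hker := Algebra.TensorProduct.lTensor_ker (A := C) μ hμ
  have : (RingHom.ker μ).IsPrime := RingHom.ker_isPrime μ
  have hz' : z ∈ (RingHom.ker μ).map
      (Algebra.TensorProduct.includeRight : W →ₐ[S] C ⊗[S] W) := by
    rw [← hker]; exact hz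
  obtain ⟨e, he, hez⟩ := Groth.Agent.Lib.Helper14.GeomRed.exists_mul_eq_self_of_mem_map _
    (RingHom.ker μ)
    (fun b hb => Groth.Agent.Lib.Helper14.GeomRed.exists_mul_eq_self_of_mem_prime hdim
      (RingHom.ker μ) hb) hz'
  refine ⟨Algebra.TensorProduct.includeRight e, ?_, hez⟩
  change Algebra.TensorProduct.map (AlgHom.id S C) μ (1 ⊗ₜ e) = 0
  simp only [Algebra.TensorProduct.map_tmul]
  rw [show μ e = 0 from he, tmul_zero]

include hμ hdim in
theorem isRegularRing_tensor_of_pure [IsRegularRing (C ⊗[S] W)] : IsRegularRing (C ⊗[S] Ω) := by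
  have hψ : Function.Surjective (Algebra.TensorProduct.map (AlgHom.id S C) μ) :=
    LinearMap.lTensor_surjective C hμ
  exact isRegularRing_of_surjective_of_ker_pure
    (Algebra.TensorProduct.map (AlgHom.id S C) μ).toRingHom hψ
    (exists_mul_eq_self_of_map_tensor_eq_zero S C W Ω μ hμ hdim)

end PureTensor

section Alg

variable (R S : Type u) [CommRing R] [CommRing S] [Algebra R S] (p : Ideal R) [p.IsPrime]
  (q : Ideal S) [q.IsPrime]
  (k' : Type u) [Field k'] [Algebra q.ResidueField k']
  [Algebra S k'] [IsScalarTower S q.ResidueField k'] [Algebra R k'] [IsScalarTower R S k']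
  [Algebra p.ResidueField k'] [IsScalarTower R p.ResidueField k']

include q in
theorem isIntegral_algebraMap_of_isIntegral_fiber (hF : Algebra.IsIntegral p.ResidueField (p.Fiber S))
    (s : S) : IsIntegral p.ResidueField (algebraMap S k' s) := by
  let φ : p.Fiber S →ₐ[p.ResidueField] k' :=
    Algebra.TensorProduct.lift (Algebra.ofId p.ResidueField k') (IsScalarTower.toAlgHom R S k')
      (fun _ _ => Commute.all _ _)
  have h1 : φ (1 ⊗ₜ s) = algebraMap S k' s := by
    simp [φ]
  rw [← h1]
  exact (Algebra.IsIntegral.isIntegral (R := p.ResidueField) ((1 : p.ResidueField) ⊗ₜ[R] s)).map φ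

theorem isIntegral_algebraMap_residueField (hF : Algebra.IsIntegral p.ResidueField (p.Fiber S))
    (x : q.ResidueField) : IsIntegral p.ResidueField (algebraMap q.ResidueField k' x) := by
  obtain ⟨a, b, hb, rfl⟩ := IsFractionRing.div_surjective (A := S ⧸ q) x
  obtain ⟨a, rfl⟩ := Ideal.Quotient.mk_surjective a
  obtain ⟨b, rfl⟩ := Ideal.Quotient.mk_surjective b
  have e1 : ∀ s : S, algebraMap (S ⧸ q) q.ResidueField (Ideal.Quotient.mk q s) =
      algebraMap S q.ResidueField s := fun s => rfl
  rw [e1, e1, map_div₀, ← IsScalarTower.algebraMap_apply, ← IsScalarTower.algebraMap_apply]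
  rw [← mem_algebraicClosure_iff']
  exact div_mem (isIntegral_algebraMap_of_isIntegral_fiber R S p q k' hF a)
    (isIntegral_algebraMap_of_isIntegral_fiber R S p q k' hF b)

theorem isAlgebraic_of_isIntegral_fiber [Algebra.IsAlgebraic q.ResidueField k']
    (hF : Algebra.IsIntegral p.ResidueField (p.Fiber S)) :
    Algebra.IsAlgebraic p.ResidueField k' := by
  let A := algebraicClosure p.ResidueField k'
  let φ : q.ResidueField →+* A := (algebraMap q.ResidueField k').codRestrict A.toSubring
    (fun x => isIntegral_algebraMap_residueField R S p q k' hF x)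
  have hA : Algebra.IsIntegral p.ResidueField A :=
    (algebraicClosure.isAlgebraic p.ResidueField k').isIntegral
  refine ⟨fun y => ?_⟩
  have hy : IsIntegral q.ResidueField y := Algebra.IsIntegral.isIntegral y
  have hy' : IsIntegral A y := by
    have := hy.map_of_comp_eq φ (RingHom.id k') (by ext x; rfl)
    exact this
  exact (isIntegral_trans (R := p.ResidueField) (A := A) y hy').isAlgebraic

end Alg

end Groth.Agent.Lib.Helper28.HzFF
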