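import Mathlib
import Groth.Agent.Lib.Helper28HzFFa
import Groth.Agent.Lib.Helper28HzRegA
import Groth.Agent.Lib.Helper28HzRegB

/-!
# Helper28HzRegC: a finite extension `k'` of `κ(q)` is a quotient of `S ⊗[R] k''` for a finite
extension `k''` of `κ(p)`, when the fibre of `R → S` over `p` is a finite product of separable algebraic
field extensions.
-/

set_option autoImplicit false
universe u

namespace Groth.Agent.Lib.Helper28.HzFF
open TensorProduct Polynomial

section Surj

variable (R S : Type u) [CommRing R] [CommRing S] [Algebra R S] (p : Ideal R) [p.IsPrime]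
  (q : Ideal S) [q.IsPrime]
  (k' : Type u) [Field k'] [Algebra q.ResidueField k']
  [Algebra S k'] [IsScalarTower S q.ResidueField k'] [Algebra R k'] [IsScalarTower R S k']
  [Algebra p.ResidueField k'] [IsScalarTower R p.ResidueField k']

/-- the multiplication map `S ⊗[R] k'' → k'` for an intermediate field `k''` of `k'/κ(p)` -/
noncomputable def mulMap (k'' : IntermediateField p.ResidueField k') : S ⊗[R] k'' →ₐ[S] k' :=
  Algebra.TensorProduct.productLeftAlgHom (Algebra.ofId S k') (k''.val.restrictScalars R)


theorem mulMap_tmul (k'' : IntermediateField p.ResidueField k') (s : S) (x : k'') :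
    mulMap R S p k' k'' (s ⊗ₜ x) = algebraMap S k' s * (x : k') := by
  simp [mulMap, Algebra.ofId_apply]

theorem exists_finite_intermediateField_mulMap_surjective [Module.Finite q.ResidueField k']
    (hF : IsPiSeparable p.ResidueField (p.Fiber S)) :
    ∃ k'' : IntermediateField p.ResidueField k', FiniteDimensional p.ResidueField k'' ∧
      Function.Surjective (mulMap R S p k' k'') := by
  classical
  have hint := hF.isIntegral
  have halg : Algebra.IsAlgebraic p.ResidueField k' :=
    isAlgebraic_of_isIntegral_fiber R S p q k' hint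
  obtain ⟨s, hs⟩ := (Module.Finite.fg_top : (⊤ : Submodule q.ResidueField k').FG)
  let k'' : IntermediateField p.ResidueField k' := IntermediateField.adjoin p.ResidueField (s : Set k')
  have hfin : FiniteDimensional p.ResidueField k'' :=
    IntermediateField.finiteDimensional_adjoin (fun x _ => (Algebra.IsAlgebraic.isAlgebraic x).isIntegral)
  refine ⟨k'', hfin, ?_⟩
  set μ := mulMap R S p k' k'' with hμdef
  -- the range is a subring `M`
  let M : Subring k' := μ.toRingHom.range
  have hS : ∀ t : S, algebraMap S k' t ∈ M := fun t => ⟨t ⊗ₜ 1, by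
    change μ (t ⊗ₜ 1) = _
    rw [hμdef, mulMap_tmul]; simp⟩
  have hk'' : ∀ x : k'', (x : k') ∈ M := fun x => ⟨1 ⊗ₜ x, by
    change μ (1 ⊗ₜ x) = _
    rw [hμdef, mulMap_tmul]; simp⟩
  -- `M` is closed under inverses
  have hdim : ∀ P : Ideal (S ⊗[R] k''), P.IsPrime → P.IsMaximal := by
    intro P hP
    have h1 : (P.comap (tensorFiberEquiv R S p k'').symm.toRingHom).IsPrime :=
      Ideal.comap_isPrime _ P
    have h2 := hF.isMaximal_of_isPrime k'' _ h1
    have h3 : P = (P.comap (tensorFiberEquiv R S p k'').symm.toRingHom).comap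
        (tensorFiberEquiv R S p k'').toRingHom := by
      ext x
      simp
    rw [h3]
    exact Ideal.comap_isMaximal_of_surjective _ (tensorFiberEquiv R S p k'').surjective
  have hker : (RingHom.ker μ.toRingHom).IsMaximal := hdim _ (RingHom.ker_isPrime _)
  have hinv : ∀ y ∈ M, y⁻¹ ∈ M := by
    rintro y ⟨w, rfl⟩
    by_cases hw : μ.toRingHom w = 0
    · rw [hw, inv_zero]; exact M.zero_mem
    · obtain ⟨w', hw'⟩ := hker.exists_inv (show w ∉ RingHom.ker μ.toRingHom from hw)
      obtain ⟨i, hi, hwi⟩ := hw'
      refine ⟨w', ?_⟩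
      have h1 : μ.toRingHom w' * μ.toRingHom w = 1 := by
        have := congrArg μ.toRingHom hwi
        rw [map_add, map_mul, map_one, (RingHom.mem_ker).mp hi, add_zero] at this
        exact this
      exact (eq_inv_of_mul_eq_one_left h1)
  have hκ : ∀ x : q.ResidueField, algebraMap q.ResidueField k' x ∈ M := by
    intro x
    obtain ⟨a, b, hb, rfl⟩ := IsFractionRing.div_surjective (A := S ⧸ q) x
    obtain ⟨a, rfl⟩ := Ideal.Quotient.mk_surjective a
    obtain ⟨b, rfl⟩ := Ideal.Quotient.mk_surjective b
    have e1 : ∀ t : S, algebraMap (S ⧸ q) q.ResidueField (Ideal.Quotient.mk q t) =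
        algebraMap S q.ResidueField t := fun t => rfl
    rw [e1, e1, map_div₀, ← IsScalarTower.algebraMap_apply, ← IsScalarTower.algebraMap_apply,
      div_eq_mul_inv]
    exact M.mul_mem (hS a) (hinv _ (hS b))
  intro y
  have hy : y ∈ Submodule.span q.ResidueField (s : Set k') := by rw [hs]; trivial
  have hyM : y ∈ M := by
    induction hy using Submodule.span_induction with
    | mem x hx => exact hk'' ⟨x, IntermediateField.subset_adjoin _ _ hx⟩
    | zero => exact M.zero_mem
    | add x y _ _ hx hy => exact M.add_mem hx hy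
    | smul c x _ hx =>
      rw [Algebra.smul_def]
      exact M.mul_mem (hκ c) hx
  obtain ⟨w, hw⟩ := hyM
  exact ⟨w, hw⟩

end Surj

end Groth.Agent.Lib.Helper28.HzFF
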