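import Mathlib
import Groth.Agent.Lib.Helper28HzFFa
import Groth.Agent.Lib.Helper28HzRegA
import Groth.Agent.Lib.Helper28HzRegB
import Groth.Agent.Lib.Helper28HzRegC

/-!
# Helper28HzRegD: descent of geometric regularity of fibres from `R → C` to `S → C` when the fibres of
`R → S` are finite products of separable algebraic field extensions.
-/

set_option autoImplicit false
universe u

namespace Groth.Agent.Lib.Helper28.HzFF
open TensorProduct Polynomial

section PiReg

variable {κ : Type u} [Field κ] {F : Type u} [CommRing F] [Algebra κ F]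
  (k : Type u) [Field k] [Algebra κ k]

theorem isRegularRing_of_isReduced_of_forall_isMaximal (T : Type u) [CommRing T]
    [IsNoetherianRing T] [IsReduced T] (hdim : ∀ P : Ideal T, P.IsPrime → P.IsMaximal) :
    IsRegularRing T := by
  rw [isRegularRing_iff]
  intro P hP
  have : Ring.KrullDimLE 0 T := .mk₀ hdim
  have hmin : P ∈ minimalPrimes T := Ideal.mem_minimalPrimes_of_krullDimLE_zero P
  have : Ring.KrullDimLE 0 (Localization.AtPrime P) :=
    Ring.KrullDimLE.of_isLocalization P hmin _
  have hF : IsField (Localization.AtPrime P) := Ring.KrullDimLE.isField_of_isReduced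
  let _ : Field (Localization.AtPrime P) := hF.toField
  infer_instance

theorem IsPiSeparable.isRegularRing_tensor (h : IsPiSeparable κ F) [IsNoetherianRing (k ⊗[κ] F)] :
    IsRegularRing (k ⊗[κ] F) := by
  have := h.isReduced_tensor k
  exact isRegularRing_of_isReduced_of_forall_isMaximal _ (h.isMaximal_of_isPrime k)

end PiReg

section DescentReg

variable (R S C : Type u) [CommRing R] [CommRing S] [CommRing C] [Algebra R S]
  [Algebra S C] [Algebra R C] [IsScalarTower R S C]

/-- If the fibres of `R → S` are finite products of separable algebraic field extensions and the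
fibres of `R → C` are geometrically regular, then the fibres of `S → C` are geometrically
regular. -/
theorem isGeometricallyRegular_fiber_of_isPiSeparable
    (hF : ∀ (p : Ideal R) [p.IsPrime], IsPiSeparable p.ResidueField (p.Fiber S))
    (hC : ∀ (p : Ideal R) [p.IsPrime], CAlg.IsGeometricallyRegular p.ResidueField (p.Fiber C))
    (q : Ideal S) [q.IsPrime] : CAlg.IsGeometricallyRegular q.ResidueField (q.Fiber C) := by
  intro k' _ _ hfin
  let _ : Algebra S k' := ((algebraMap q.ResidueField k').comp (algebraMap S q.ResidueField)).toAlgebra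
  have : IsScalarTower S q.ResidueField k' := IsScalarTower.of_algebraMap_eq (fun _ => rfl)
  let _ : Algebra R k' := ((algebraMap S k').comp (algebraMap R S)).toAlgebra
  have : IsScalarTower R S k' := IsScalarTower.of_algebraMap_eq (fun _ => rfl)
  have hp : (q.comap (algebraMap R S)).IsPrime := Ideal.comap_isPrime _ q
  set p := q.comap (algebraMap R S) with hpdef
  have hmap : ∀ r : R, algebraMap R k' r = 0 ↔ r ∈ p := by
    intro r
    rw [IsScalarTower.algebraMap_apply R S k', IsScalarTower.algebraMap_apply S q.ResidueField k',
      map_eq_zero_iff _ (algebraMap q.ResidueField k').injective, Ideal.algebraMap_residueField_eq_zero]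
    rfl
  let f : p.ResidueField →+* k' := Ideal.ResidueField.lift p (algebraMap R k')
    (fun r hr => (hmap r).mpr hr)
    (fun r hr => IsUnit.mk0 _ (fun h0 => hr ((hmap r).mp h0)))
  let _ : Algebra p.ResidueField k' := f.toAlgebra
  have : IsScalarTower R p.ResidueField k' := IsScalarTower.of_algebraMap_eq (fun r =>
    (Ideal.ResidueField.lift_algebraMap p (algebraMap R k') _ _ r).symm)
  obtain ⟨k'', hfin'', hsurj⟩ := exists_finite_intermediateField_mulMap_surjective R S p q k' (hF p)
  have A1 : IsReduced (S ⊗[R] k'') :=
    have := (hF p).isReduced_tensor k''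
    isReduced_of_injective (tensorFiberEquiv R S p k'') (tensorFiberEquiv R S p k'').injective
  have A2 : ∀ P : Ideal (S ⊗[R] k''), P.IsPrime → P.IsMaximal := by
    intro P hP
    have h1 : (P.comap (tensorFiberEquiv R S p k'').symm.toRingHom).IsPrime :=
      Ideal.comap_isPrime _ P
    have h2 := (hF p).isMaximal_of_isPrime k'' _ h1
    have h3 : P = (P.comap (tensorFiberEquiv R S p k'').symm.toRingHom).comap
        (tensorFiberEquiv R S p k'').toRingHom := by
      ext x
      simp
    rw [h3]
    exact Ideal.comap_isMaximal_of_surjective _ (tensorFiberEquiv R S p k'').surjective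
  have h0 : IsRegularRing (k'' ⊗[p.ResidueField] (p.Fiber C)) := hC p k'' hfin''
  have h1 : IsRegularRing (C ⊗[R] k'') :=
    IsRegularRing.of_ringEquiv (R := k'' ⊗[p.ResidueField] (p.Fiber C))
      (tensorFiberEquiv R C p k'').symm
  have h2 : IsRegularRing (C ⊗[S] (S ⊗[R] k'')) :=
    IsRegularRing.of_ringEquiv (R := C ⊗[R] k'')
      (Algebra.TensorProduct.cancelBaseChange R S S C k'').symm.toRingEquiv
  have h3 : IsRegularRing (C ⊗[S] k') :=
    isRegularRing_tensor_of_pure S C (S ⊗[R] k'') k' (mulMap R S p k' k'') hsurj A2
  exact IsRegularRing.of_ringEquiv (R := C ⊗[S] k') (tensorFiberEquiv S C q k')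

end DescentReg

end Groth.Agent.Lib.Helper28.HzFF
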