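import Mathlib
import Groth.Prelude.Def_Hensel
import Groth.Agent.Lib.Helper3HzD
import Groth.Agent.Lib.Helper3HzP
import Groth.Agent.Lib.Helper7PolyGRing2
import Groth.Agent.Lib.Helper7ExcLoc
import Groth.Agent.Lib.Helper24G0
import Groth.Agent.S2045
import Groth.Agent.S2653

/-!
# A henselian local ring is a directed union of henselian local G-rings (helper7)
-/

set_option autoImplicit false
set_option linter.style.haveILetI false
set_option linter.unusedSectionVars false
universe u

namespace Groth.Agent.Lib.Helper7.HensColim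

open IsLocalRing Groth.Agent.Lib.Helper3.Hz

/-- `ULift ℤ` is a G-ring. -/
theorem isGRing_ulift_int : CAlg.IsGRing (ULift.{u} ℤ) := by
  haveI : IsDomain (ULift.{u} ℤ) := (ULift.ringEquiv : ULift.{u} ℤ ≃+* ℤ).isDomain
  haveI : IsPrincipalIdealRing (ULift.{u} ℤ) :=
    IsPrincipalIdealRing.of_surjective (ULift.ringEquiv.symm : ℤ ≃+* ULift.{u} ℤ).toRingHom
      (RingEquiv.surjective _)
  haveI : CharZero (ULift.{u} ℤ) :=
    charZero_of_injective_ringHom (f := (ULift.ringEquiv.symm : ℤ ≃+* ULift.{u} ℤ).toRingHom)
      (ULift.ringEquiv.symm : ℤ ≃+* ULift.{u} ℤ).injective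
  exact (Groth.Agent.S2653.result (ULift.{u} ℤ)).2.2.1

variable (A : Type u) [CommRing A] [HenselianLocalRing A]

/-- the `ULift ℤ`-algebra structure on `A` -/
@[reducible] noncomputable def algZ : Algebra (ULift.{u} ℤ) A :=
  ((Int.castRingHom A).comp (ULift.ringEquiv : ULift.{u} ℤ ≃+* ℤ).toRingHom).toAlgebra

attribute [local instance] algZ

/-- the finitely generated subring generated by `s` -/
noncomputable def Asub (s : Finset A) : Subalgebra (ULift.{u} ℤ) A :=
  Algebra.adjoin (ULift.{u} ℤ) (s : Set A)

theorem Asub_mono {s t : Finset A} (h : s ≤ t) : Asub A s ≤ Asub A t :=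
  Algebra.adjoin_mono (by exact_mod_cast h)

theorem subset_Asub (s : Finset A) : (s : Set A) ⊆ Asub A s := Algebra.subset_adjoin

instance (s : Finset A) : Algebra.FiniteType (ULift.{u} ℤ) (Asub A s) :=
  (Subalgebra.fg_iff_finiteType _).mp (Subalgebra.fg_adjoin_finset s)

theorem isGRing_Asub (s : Finset A) : CAlg.IsGRing (Asub A s) :=
  Groth.Agent.Lib.Helper7.PolyGRing2.isGRing_of_finiteType (ULift.{u} ℤ) isGRing_ulift_int _

/-- the contraction of the maximal ideal -/
noncomputable def mS (s : Finset A) : Ideal (Asub A s) :=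
  (maximalIdeal A).comap (Asub A s).val.toRingHom

instance (s : Finset A) : (mS A s).IsPrime := Ideal.comap_isPrime _ _

/-- the localization of the f.g. subring -/
abbrev L (s : Finset A) : Type u := Localization.AtPrime (mS A s)

theorem isUnit_val (s : Finset A) (y : (mS A s).primeCompl) :
    IsUnit ((Asub A s).val.toRingHom y) := by
  have hy : (Asub A s).val.toRingHom y ∉ maximalIdeal A := y.2
  rw [mem_maximalIdeal, mem_nonunits_iff, not_not] at hy
  exact hy

/-- the map from the localization to `A` -/
noncomputable def toA (s : Finset A) : L A s →+* A :=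
  IsLocalization.lift (M := (mS A s).primeCompl) (g := (Asub A s).val.toRingHom) (isUnit_val A s)

theorem toA_algebraMap (s : Finset A) (x : Asub A s) :
    toA A s (algebraMap (Asub A s) (L A s) x) = (x : A) :=
  IsLocalization.lift_eq _ _

instance isLocalHom_toA (s : Finset A) : IsLocalHom (toA A s) := by
  refine ⟨fun x hx => ?_⟩
  obtain ⟨b, y, rfl⟩ := IsLocalization.exists_mk'_eq (mS A s).primeCompl x
  rw [IsLocalization.AtPrime.isUnit_mk'_iff (L A s) (mS A s)]
  intro hb
  have h1 : toA A s (IsLocalization.mk' (L A s) b y) * (y : Asub A s).1 = (b : A) := by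
    rw [← toA_algebraMap A s y, ← map_mul, IsLocalization.mk'_spec, toA_algebraMap]
  have h2 : IsUnit (b : A) := by
    rw [← h1]
    exact hx.mul (isUnit_val A s y)
  exact ((mem_maximalIdeal _).mp hb) h2

theorem isGRing_L (s : Finset A) : CAlg.IsGRing (L A s) :=
  Groth.Agent.Lib.Helper7.ExcLoc.isGRing_localization _ (isGRing_Asub A s) _

instance (s : Finset A) : IsNoetherianRing (L A s) := (isGRing_L A s).1

/-- the henselization of `L s` -/
abbrev H (s : Finset A) : Type u := Rh (L A s)

/-- the canonical map from the henselization to `A` -/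
theorem psi_exists (s : Finset A) :
    ∃! g : H A s →+* A, g.comp (algebraMap (L A s) (H A s)) = toA A s :=
  universal (R := L A s) A (toA A s) (isLocalHom_toA A s)

noncomputable def psi (s : Finset A) : H A s →+* A := Classical.choose (psi_exists A s)

theorem psi_comp (s : Finset A) : (psi A s).comp (algebraMap (L A s) (H A s)) = toA A s :=
  (Classical.choose_spec (psi_exists A s)).1

theorem psi_unique (s : Finset A) (g : H A s →+* A)
    (hg : g.comp (algebraMap (L A s) (H A s)) = toA A s) : g = psi A s :=
  (Classical.choose_spec (psi_exists A s)).2 g hg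

/-- the universal map is local -/
instance isLocalHom_psi (s : Finset A) : IsLocalHom (psi A s) := by
  refine ⟨fun z hz => ?_⟩
  by_contra hnz
  have hzm : z ∈ maximalIdeal (H A s) := hnz
  rw [← Groth.Agent.Lib.Helper3.HzP.hz_map_maximalIdeal (L A s) (H A s)] at hzm
  have hle : (maximalIdeal (L A s)).map (algebraMap (L A s) (H A s)) ≤
      (maximalIdeal A).comap (psi A s) := by
    rw [Ideal.map_le_iff_le_comap, Ideal.comap_comap, psi_comp]
    exact ((local_hom_TFAE (toA A s)).out 0 3 rfl rfl).mp inferInstance
  exact (hle hzm) hz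

/-- the henselian local G-subring attached to `s` -/
noncomputable def G (s : Finset A) : Subring A := (psi A s).range

theorem subset_G (s : Finset A) : (s : Set A) ⊆ G A s := by
  intro a ha
  refine ⟨algebraMap (L A s) (H A s) (algebraMap (Asub A s) (L A s) ⟨a, subset_Asub A s ha⟩), ?_⟩
  have := congrArg (fun φ => φ (algebraMap (Asub A s) (L A s) ⟨a, subset_Asub A s ha⟩)) (psi_comp A s)
  simp only [RingHom.comp_apply] at this
  rw [this, toA_algebraMap]

theorem mem_mS_iff (s : Finset A) (x : Asub A s) : x ∈ mS A s ↔ (x : A) ∈ maximalIdeal A :=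
  Iff.rfl

theorem isUnit_inclusion {s t : Finset A} (h : s ≤ t) (y : (mS A s).primeCompl) :
    IsUnit (((algebraMap (Asub A t) (L A t)).comp
      (Subalgebra.inclusion (Asub_mono A h)).toRingHom) y) := by
  have hy : (y : Asub A s) ∉ mS A s := y.2
  rw [mem_mS_iff] at hy
  have hcoe : ((Subalgebra.inclusion (Asub_mono A h) (y : Asub A s) : Asub A t) : A) =
      ((y : Asub A s) : A) := Subalgebra.coe_inclusion _ _
  have hy' : Subalgebra.inclusion (Asub_mono A h) (y : Asub A s) ∉ mS A t := by
    rw [mem_mS_iff, hcoe]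
    exact hy
  have h1 := IsLocalization.map_units (L A t)
    (⟨Subalgebra.inclusion (Asub_mono A h) (y : Asub A s), hy'⟩ : (mS A t).primeCompl)
  rw [RingHom.comp_apply]
  exact h1

/-- the transition map of localizations -/
noncomputable def Lmap {s t : Finset A} (h : s ≤ t) : L A s →+* L A t :=
  IsLocalization.lift (M := (mS A s).primeCompl)
    (g := (algebraMap (Asub A t) (L A t)).comp (Subalgebra.inclusion (Asub_mono A h)).toRingHom)
    (isUnit_inclusion A h)

theorem toA_comp_Lmap {s t : Finset A} (h : s ≤ t) : (toA A t).comp (Lmap A h) = toA A s := by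
  apply IsLocalization.ringHom_ext (mS A s).primeCompl
  ext x
  simp only [RingHom.comp_apply]
  rw [Lmap, IsLocalization.lift_eq, toA_algebraMap, RingHom.comp_apply, toA_algebraMap]
  exact Subalgebra.coe_inclusion _ _

theorem G_mono {s t : Finset A} (h : s ≤ t) : G A s ≤ G A t := by
  -- the map `H s → H t`
  have hloc : IsLocalHom ((algebraMap (L A t) (H A t)).comp (Lmap A h)) := by
    haveI : IsLocalHom (Lmap A h) := by
      refine ⟨fun x hx => ?_⟩
      have h1 : IsUnit ((toA A t).comp (Lmap A h) x) := hx.map (toA A t)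
      rw [toA_comp_Lmap] at h1
      exact IsLocalHom.map_nonunit x h1
    exact RingHom.isLocalHom_comp _ _
  have hex : ∃! g : H A s →+* H A t, g.comp (algebraMap (L A s) (H A s)) =
      (algebraMap (L A t) (H A t)).comp (Lmap A h) :=
    Hensel.IsHenselization.universal (R := L A s) (S := H A s) (H A t) _ hloc
  obtain ⟨g, hg, -⟩ := hex
  have h2 : (psi A t).comp g = psi A s := by
    apply psi_unique
    rw [RingHom.comp_assoc, hg, ← RingHom.comp_assoc, psi_comp, toA_comp_Lmap]
  rintro a ⟨z, rfl⟩
  exact ⟨g z, by rw [← h2]; rfl⟩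

theorem henselian_G (s : Finset A) : ∃ _ : IsLocalRing (G A s), HenselianLocalRing (G A s) :=
  Groth.Agent.Lib.Helper24G0.henselian_of_surjective (psi A s).rangeRestrict
    (psi A s).rangeRestrict_surjective

theorem isGRing_G (s : Finset A) : CAlg.IsGRing (G A s) := by
  have h1 : CAlg.IsGRing (H A s) := Groth.Agent.S2045.result (R := L A s) (isGRing_L A s)
  have h2 := Groth.Agent.Lib.Helper7.PolyGRing2.isGRing_quotient _ h1 (RingHom.ker (psi A s))
  exact Groth.Agent.Lib.Helper7.PolyGRing2.isGRing_of_ringEquiv
    (RingHom.quotientKerEquivRange (psi A s)) h2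

/-- the inclusion of `G s` in `A` reflects units -/
theorem isUnit_of_isUnit_val (s : Finset A) (x : G A s) (hx : IsUnit (x : A)) : IsUnit x := by
  obtain ⟨z, hz⟩ := x.2
  have hz' : IsUnit (psi A s z) := by rw [hz]; exact hx
  have hzu : IsUnit z := IsLocalHom.map_nonunit z hz'
  have : x = (psi A s).rangeRestrict z := Subtype.ext hz.symm
  rw [this]
  exact hzu.map _

attribute [irreducible] G

/-- the family of rings -/
abbrev GG (s : Finset A) : Type u := ↥(G A s)

/-- the transition maps -/
noncomputable def ff (i j : Finset A) (h : i ≤ j) : GG A i →+* GG A j :=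
  Subring.inclusion (G_mono A h)

theorem ff_val (i j : Finset A) (h : i ≤ j) (x : GG A i) : ((ff A i j h x : GG A j) : A) = (x : A) :=
  Subring.coe_inclusion (G_mono A h) x

instance directedSystem : DirectedSystem (GG A) (fun i j h => ff A i j h) where
  map_self := fun i x => Subtype.ext (ff_val A i i _ x)
  map_map := fun i j k hij hjk x => Subtype.ext (by rw [ff_val, ff_val, ff_val])

theorem isLocalHom_ff (i j : Finset A) (h : i ≤ j) : IsLocalHom (ff A i j h) := by
  refine ⟨fun x hx => ?_⟩
  apply isUnit_of_isUnit_val A i x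
  have := hx.map (G A j).subtype
  rwa [Subring.subtype_apply, ff_val] at this

/-- the comparison map -/
noncomputable def phi : DirectLimit (GG A) (ff A) →+* A :=
  DirectLimit.Ring.lift (GG A) (ff A) A (fun i => (G A i).subtype)
    (fun i j hij x => ff_val A i j hij x)

theorem phi_of (i : Finset A) (x : GG A i) :
    phi A (DirectLimit.Ring.of (GG A) (ff A) i x) = (x : A) :=
  DirectLimit.Ring.lift_of _ _ _ _ _

theorem phi_bijective : Function.Bijective (phi A) := by
  constructor
  · have h := DirectLimit.lift_injective (ff A) (fun i (x : GG A i) => (x : A))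
      (fun i j hij x => (ff_val A i j hij x).symm) (fun i => Subtype.val_injective)
    exact h
  · intro a
    have ha : a ∈ G A {a} := subset_G A {a} (by simp)
    exact ⟨DirectLimit.Ring.of (GG A) (ff A) {a} ⟨a, ha⟩, phi_of A {a} ⟨a, ha⟩⟩

end Groth.Agent.Lib.Helper7.HensColim
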