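import Mathlib
import Groth.Agent.Lib.Helper7HensColim

/-!
# `Spec A` of a henselian local ring is the cofiltered limit of the spectra of henselian local
Noetherian subrings (helper7)
-/

set_option autoImplicit false
universe u
open CategoryTheory Limits AlgebraicGeometry

namespace Groth.Agent.Lib.Helper7.HensDesc

open Groth.Agent.Lib.Helper7.HensColim

variable (A : Type u) [CommRing A] [HenselianLocalRing A]

instance : IsFiltered (Finset A) := isFiltered_of_directed_le_nonempty _

/-- The diagram of the henselian local G-subrings. -/
noncomputable def ringDiagram : Finset A ⥤ CommRingCat.{u} where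
  obj s := CommRingCat.of (G A s)
  map {s t} f := CommRingCat.ofHom (Subring.inclusion (G_mono A (leOfHom f)))
  map_id s := by
    ext x
    rfl
  map_comp f g := by
    ext x
    rfl

/-- The cocone with point `A`. -/
noncomputable def ringCocone : Cocone (ringDiagram A) where
  pt := CommRingCat.of A
  ι :=
    { app := fun s => CommRingCat.ofHom (G A s).subtype
      naturality := by
        intro j k f
        ext x
        rfl }

/-- `A` is the colimit of the `G s`. -/
noncomputable def ringIsColimit : IsColimit (ringCocone A) := by
  have : ReflectsColimitsOfShape (Finset A) (forget CommRingCat.{u}) :=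
    reflectsColimitsOfShape_of_reflectsIsomorphisms
  refine isColimitOfReflects (forget CommRingCat.{u}) ?_
  refine Types.FilteredColimit.isColimitOf' _ _ ?_ ?_
  · intro a
    change A at a
    exact ⟨{a}, ⟨a, subset_G A {a} (by simp)⟩, rfl⟩
  · intro i x y h
    exact ⟨i, 𝟙 i, congrArg _ (Subtype.ext h)⟩

/-- The diagram `s ↦ Spec (G s)`. -/
noncomputable def specDiagram : (Finset A)ᵒᵖ ⥤ Scheme.{u} := (ringDiagram A).op ⋙ Scheme.Spec

/-- The cone with point `Spec A`. -/
noncomputable def specCone : Cone (specDiagram A) := Scheme.Spec.mapCone (ringCocone A).op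

/-- `Spec A` is the limit of the `Spec (G s)`. -/
noncomputable def specIsLimit : IsLimit (specCone A) :=
  isLimitOfPreserves Scheme.Spec (ringIsColimit A).op

instance (i j : (Finset A)ᵒᵖ) (f : i ⟶ j) : IsAffineHom ((specDiagram A).map f) := by
  show IsAffineHom (Spec.map _)
  infer_instance

instance (i : (Finset A)ᵒᵖ) : IsAffine ((specDiagram A).obj i) := by
  show IsAffine (Spec _)
  infer_instance

lemma specCone_π_app (s : Finset A) :
    (specCone A).π.app (Opposite.op s) = Spec.map (CommRingCat.ofHom (G A s).subtype) := rfl

end Groth.Agent.Lib.Helper7.HensDesc
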