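import Mathlib
import Groth.Agent.Lib.Helper7HensDesc

/-!
# The tower of residue fields of the henselian local Noetherian subrings `G A s` (helper22)
-/

set_option autoImplicit false
set_option linter.style.haveILetI false
set_option linter.unusedSectionVars false
set_option linter.unusedVariables false
universe u
open CategoryTheory Limits AlgebraicGeometry IsLocalRing

namespace Groth.Agent.Lib.Helper22.Pi0HensC

open Groth.Agent.Lib.Helper7.HensColim Groth.Agent.Lib.Helper7.HensDesc

variable (A : Type u) [CommRing A] [HenselianLocalRing A]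

/-- contraction of the maximal ideal to the subring `G A s`. -/
noncomputable def J (s : Finset A) : Ideal (G A s) := (maximalIdeal A).comap (G A s).subtype

theorem mem_J (s : Finset A) (x : G A s) : x ∈ J A s ↔ (x : A) ∈ maximalIdeal A := by
  unfold J
  rw [Ideal.mem_comap, Subring.subtype_apply]

theorem J_le {s t : Finset A} (h : s ≤ t) :
    J A s ≤ (J A t).comap (Subring.inclusion (G_mono A h)) := by
  intro x hx
  rw [Ideal.mem_comap, mem_J, Subring.coe_inclusion]
  rw [mem_J] at hx
  exact hx

theorem J_le' (s : Finset A) : J A s ≤ (maximalIdeal A).comap (G A s).subtype := by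
  intro x hx
  rw [Ideal.mem_comap, Subring.subtype_apply]
  rw [mem_J] at hx
  exact hx

/-- `J s` is the maximal ideal of the local ring `G A s`. -/
theorem J_eq (s : Finset A) [IsLocalRing (G A s)] : J A s = maximalIdeal (G A s) := by
  ext x
  rw [mem_J, mem_maximalIdeal, mem_maximalIdeal, mem_nonunits_iff, mem_nonunits_iff]
  constructor
  · intro h hx
    apply h
    have := hx.map (G A s).subtype
    rwa [Subring.subtype_apply] at this
  · intro h hx
    exact h (isUnit_of_isUnit_val A s x hx)

theorem henselianRing_J (s : Finset A) : HenselianRing (G A s) (J A s) := by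
  obtain ⟨hl, hh⟩ := henselian_G A s
  rw [J_eq]
  infer_instance

/-- transition maps of residue rings -/
noncomputable def rmap {s t : Finset A} (h : s ≤ t) : (G A s ⧸ J A s) →+* (G A t ⧸ J A t) :=
  Ideal.quotientMap (J A t) (Subring.inclusion (G_mono A h)) (J_le A h)

theorem rmap_mk {s t : Finset A} (h : s ≤ t) (x : G A s) :
    rmap A h (Ideal.Quotient.mk (J A s) x) =
      Ideal.Quotient.mk (J A t) (Subring.inclusion (G_mono A h) x) := by
  unfold rmap
  rw [Ideal.quotientMap_mk]

/-- map to the residue field of `A` -/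
noncomputable def rι (s : Finset A) : (G A s ⧸ J A s) →+* (A ⧸ maximalIdeal A) :=
  Ideal.quotientMap (maximalIdeal A) (G A s).subtype (J_le' A s)

theorem rι_mk (s : Finset A) (x : G A s) :
    rι A s (Ideal.Quotient.mk (J A s) x) = Ideal.Quotient.mk (maximalIdeal A) (x : A) := by
  unfold rι
  rw [Ideal.quotientMap_mk, Subring.subtype_apply]

theorem rι_injective (s : Finset A) : Function.Injective (rι A s) := by
  unfold rι
  apply Ideal.quotientMap_injective'
  intro x hx
  rw [mem_J]
  rw [Ideal.mem_comap, Subring.subtype_apply] at hx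
  exact hx

theorem rmap_id (s : Finset A) : rmap A (le_refl s) = RingHom.id _ := by
  apply Ideal.Quotient.ringHom_ext
  ext x
  rw [RingHom.comp_apply, rmap_mk, RingHom.comp_apply, RingHom.id_apply]
  exact congrArg _ (Subtype.ext (Subring.coe_inclusion _ _))

theorem rmap_comp {s t r : Finset A} (h : s ≤ t) (h' : t ≤ r) :
    rmap A (h.trans h') = (rmap A h').comp (rmap A h) := by
  apply Ideal.Quotient.ringHom_ext
  ext x
  rw [RingHom.comp_apply, rmap_mk, RingHom.comp_apply, RingHom.comp_apply, rmap_mk, rmap_mk]
  refine congrArg _ (Subtype.ext ?_)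
  rw [Subring.coe_inclusion, Subring.coe_inclusion, Subring.coe_inclusion]

theorem rι_rmap {s t : Finset A} (h : s ≤ t) : (rι A t).comp (rmap A h) = rι A s := by
  apply Ideal.Quotient.ringHom_ext
  ext x
  rw [RingHom.comp_apply, RingHom.comp_apply, rmap_mk, rι_mk, RingHom.comp_apply, rι_mk,
    Subring.coe_inclusion]

/-- the residue rings. -/
noncomputable def resDiagram : Finset A ⥤ CommRingCat.{u} where
  obj s := CommRingCat.of (G A s ⧸ J A s)
  map {s t} f := CommRingCat.ofHom (rmap A (leOfHom f))
  map_id s := by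
    apply CommRingCat.hom_ext
    exact rmap_id A s
  map_comp f g := by
    apply CommRingCat.hom_ext
    exact rmap_comp A (leOfHom f) (leOfHom g)

/-- the cocone with point `A ⧸ m`. -/
noncomputable def resCocone : Cocone (resDiagram A) where
  pt := CommRingCat.of (A ⧸ maximalIdeal A)
  ι :=
    { app := fun s => CommRingCat.ofHom (rι A s)
      naturality := by
        intro j k f
        apply CommRingCat.hom_ext
        have := rι_rmap A (leOfHom f)
        rw [CommRingCat.hom_comp, CommRingCat.hom_comp]
        erw [CommRingCat.hom_id]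
        rw [RingHom.id_comp]
        exact this }

/-- `A ⧸ m` is the colimit of the `G s ⧸ J s`. -/
noncomputable def resIsColimit : IsColimit (resCocone A) := by
  have : ReflectsColimitsOfShape (Finset A) (forget CommRingCat.{u}) :=
    reflectsColimitsOfShape_of_reflectsIsomorphisms
  refine isColimitOfReflects (forget CommRingCat.{u}) ?_
  refine Types.FilteredColimit.isColimitOf' _ _ ?_ ?_
  · intro a
    change A ⧸ maximalIdeal A at a
    obtain ⟨a, rfl⟩ := Ideal.Quotient.mk_surjective a
    exact ⟨{a}, Ideal.Quotient.mk (J A {a}) ⟨a, subset_G A {a} (by simp)⟩,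
      rι_mk A {a} ⟨a, subset_G A {a} (by simp)⟩⟩
  · intro i x y h
    refine ⟨i, 𝟙 i, congrArg _ ?_⟩
    exact rι_injective A i h

/-- The diagram `s ↦ Spec (G s ⧸ J s)`. -/
noncomputable def resSpecDiagram : (Finset A)ᵒᵖ ⥤ Scheme.{u} := (resDiagram A).op ⋙ Scheme.Spec

/-- The cone with point `Spec (A ⧸ m)`. -/
noncomputable def resSpecCone : Cone (resSpecDiagram A) := Scheme.Spec.mapCone (resCocone A).op

/-- `Spec (A ⧸ m)` is the limit of the `Spec (G s ⧸ J s)`. -/
noncomputable def resSpecIsLimit : IsLimit (resSpecCone A) :=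
  isLimitOfPreserves Scheme.Spec (resIsColimit A).op

instance (i j : (Finset A)ᵒᵖ) (f : i ⟶ j) : IsAffineHom ((resSpecDiagram A).map f) := by
  show IsAffineHom (Spec.map _)
  infer_instance

instance (i : (Finset A)ᵒᵖ) : IsAffine ((resSpecDiagram A).obj i) := by
  show IsAffine (Spec _)
  infer_instance

/-- the closed point of `Spec (G s)`. -/
noncomputable def θ (i : (Finset A)ᵒᵖ) : (resSpecDiagram A).obj i ⟶ (specDiagram A).obj i :=
  Spec.map (CommRingCat.ofHom (Ideal.Quotient.mk (J A i.unop)))

theorem θ_naturality {i j : (Finset A)ᵒᵖ} (a : i ⟶ j) :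
    (resSpecDiagram A).map a ≫ θ A j = θ A i ≫ (specDiagram A).map a := by
  change Spec.map (CommRingCat.ofHom (rmap A (leOfHom a.unop))) ≫
      Spec.map (CommRingCat.ofHom (Ideal.Quotient.mk (J A j.unop))) =
    Spec.map (CommRingCat.ofHom (Ideal.Quotient.mk (J A i.unop))) ≫
      Spec.map (CommRingCat.ofHom (Subring.inclusion (G_mono A (leOfHom a.unop))))
  rw [← Spec.map_comp, ← Spec.map_comp]
  congr 1

/-- the closed point of `Spec A`. -/
noncomputable def z : (resSpecCone A).pt ⟶ (specCone A).pt :=
  Spec.map (CommRingCat.ofHom (Ideal.Quotient.mk (maximalIdeal A)))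

theorem z_π (i : (Finset A)ᵒᵖ) :
    z A ≫ (specCone A).π.app i = (resSpecCone A).π.app i ≫ θ A i := by
  change Spec.map (CommRingCat.ofHom (Ideal.Quotient.mk (maximalIdeal A))) ≫
      Spec.map (CommRingCat.ofHom (G A i.unop).subtype) =
    Spec.map (CommRingCat.ofHom (rι A i.unop)) ≫
      Spec.map (CommRingCat.ofHom (Ideal.Quotient.mk (J A i.unop)))
  rw [← Spec.map_comp, ← Spec.map_comp]
  congr 1

end Groth.Agent.Lib.Helper22.Pi0HensC
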