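import Mathlib
import Groth.Agent.Lib.Helper22Pi0HensA
import Groth.Agent.Lib.Helper22Pi0HensB
import Groth.Agent.Lib.Helper22Pi0HensC
import Groth.Agent.Lib.Helper22LimBC
import Groth.Agent.S0591
import Groth.Agent.S2074

/-!
# Clopen lifting for proper finitely presented schemes over a henselian local ring (helper22)
-/

set_option autoImplicit false
set_option linter.style.haveILetI false
set_option linter.unusedSectionVars false
set_option linter.unusedVariables false
universe u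
open CategoryTheory Limits AlgebraicGeometry IsLocalRing

namespace Groth.Agent.Lib.Helper22.Pi0HensD

open Groth.Agent.Lib.Helper22.Pi0HensA Groth.Agent.Lib.Helper22.Pi0HensB
  Groth.Agent.Lib.Helper22.Pi0HensC Groth.Agent.Lib.Helper22.LimBC
open Groth.Agent.Lib.Helper7.HensColim Groth.Agent.Lib.Helper7.HensDesc

/-- a proper morphism of finite presentation to a cofiltered limit descends to a proper morphism
to a stage. -/
theorem exists_proper_stage {I : Type u} [SmallCategory I] [IsCofiltered I]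
    (D : I ⥤ Scheme.{u}) (c : Cone D) (hc : IsLimit c)
    [∀ (i j : I) (f : i ⟶ j), IsAffineHom (D.map f)] [∀ i, CompactSpace (D.obj i)]
    [∀ i, QuasiSeparatedSpace (D.obj i)] {X : Scheme.{u}} (f : X ⟶ c.pt)
    [IsProper f] [LocallyOfFinitePresentation f] :
    ∃ (i₁ : I) (X₁ : Scheme.{u}) (f₁ : X₁ ⟶ D.obj i₁) (q : X ⟶ X₁),
      IsProper f₁ ∧ IsPullback q f f₁ (c.π.app i₁) := by
  obtain ⟨i, Xi, fi, g, h1, h2, h3, h4⟩ := Groth.Agent.S0591.result D c hc X f
  have hc1 : CompactSpace Xi := QuasiCompact.compactSpace_of_compactSpace fi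
  have hc2 : QuasiSeparatedSpace Xi := quasiSeparatedSpace_of_quasiSeparated fi
  have hpi : IsAffineHom (c.π.app i) := isAffineHom_π_app D c hc i
  have hc3 : CompactSpace c.pt := QuasiCompact.compactSpace_of_compactSpace (c.π.app i)
  have hc4 : QuasiSeparatedSpace c.pt := quasiSeparatedSpace_of_quasiSeparated (c.π.app i)
  obtain ⟨i₁, φ, X₁, Y₁, f₁', g₁, pY, pX, hpY, hpX, hprop⟩ :=
    Groth.Agent.S2074.result D c hc i fi (𝟙 (D.obj i)) f (𝟙 c.pt) (c.π.app i) g
      (IsPullback.id_vert (c.π.app i)) h4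
  have hg₁ : IsIso g₁ := hpY.isIso_snd_of_isIso
  have hpaste : IsPullback pX (f₁' ≫ g₁) (fi ≫ 𝟙 _) (D.map φ) := hpX.paste_vert hpY
  have hcomm : g ≫ fi ≫ 𝟙 _ = (f ≫ c.π.app i₁) ≫ D.map φ := by
    rw [Category.comp_id, Category.assoc, c.w, h4.w]
  refine ⟨i₁, X₁, f₁' ≫ g₁, hpaste.lift g (f ≫ c.π.app i₁) hcomm, inferInstance, ?_⟩
  have hbig : IsPullback (hpaste.lift g (f ≫ c.π.app i₁) hcomm ≫ pX) f (fi ≫ 𝟙 _)
      (c.π.app i₁ ≫ D.map φ) := by
    rw [hpaste.lift_fst, Category.comp_id, c.w]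
    exact h4
  exact IsPullback.of_right hbig (hpaste.lift_snd _ _ _) hpaste

set_option maxHeartbeats 1600000 in
/-- clopen subsets of the closed fibre of a proper finitely presented scheme over a henselian
local ring lift. -/
theorem CL_fp (A : Type u) [CommRing A] [HenselianLocalRing A] {X F : Scheme.{u}}
    (f : X ⟶ (specCone A).pt) [IsProper f] [LocallyOfFinitePresentation f]
    (ι : F ⟶ X) (p : F ⟶ (resSpecCone A).pt) (h : IsPullback ι p f (z A)) : CL ι := by
  have hcs : ∀ i, CompactSpace ((specDiagram A).obj i) := fun i => inferInstance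
  have hqs : ∀ i, QuasiSeparatedSpace ((specDiagram A).obj i) := fun i => inferInstance
  obtain ⟨i₁, X₁, f₁, q, hf₁, hq⟩ :=
    exists_proper_stage (specDiagram A) (specCone A) (specIsLimit A) f
  let DS := specDiagram A
  let DT := resSpecDiagram A
  let cS := specCone A
  let cT := resSpecCone A
  -- the closed fibre of the stage
  let xi : pullback f₁ (θ A i₁) ⟶ DT.obj i₁ := pullback.snd f₁ (θ A i₁)
  have hr : IsPullback (pullback.fst f₁ (θ A i₁)) xi f₁ (θ A i₁) := IsPullback.of_hasPullback _ _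
  have hcomm0 : (ι ≫ q) ≫ f₁ = (p ≫ cT.π.app i₁) ≫ θ A i₁ := by
    rw [Category.assoc, hq.w, ← Category.assoc, h.w, Category.assoc, Category.assoc, z_π]
  let qX : F ⟶ pullback f₁ (θ A i₁) := pullback.lift (ι ≫ q) (p ≫ cT.π.app i₁) hcomm0
  have hq1 : qX ≫ pullback.fst f₁ (θ A i₁) = ι ≫ q := pullback.lift_fst _ _ _
  have hq2 : qX ≫ xi = p ≫ cT.π.app i₁ := pullback.lift_snd _ _ _
  have hP : IsPullback qX p xi (cT.π.app i₁) := by
    have hout : IsPullback (qX ≫ pullback.fst f₁ (θ A i₁)) p f₁ (cT.π.app i₁ ≫ θ A i₁) := by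
      rw [hq1, ← z_π]
      exact h.paste_horiz hq
    exact IsPullback.of_right hout hq2 hr
  have hlim : IsLimit (bcCone i₁ hP) := isLimitBcCone i₁ hP (resSpecIsLimit A)
  have hprop1 : IsProper xi := by
    have : IsProper (pullback.snd f₁ (θ A i₁)) := inferInstance
    exact this
  have hT1 : CompactSpace ↥(pullback f₁ (θ A i₁)) :=
    QuasiCompact.compactSpace_of_compactSpace xi
  have hT2 : QuasiSeparatedSpace ↥(pullback f₁ (θ A i₁)) :=
    quasiSeparatedSpace_of_quasiSeparated xi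
  -- the stages
  have hιcomm : ∀ j : Over i₁, (dFst DT i₁ xi j ≫ pullback.fst f₁ (θ A i₁)) ≫ f₁ =
      (dSnd DT i₁ xi j ≫ θ A j.left) ≫ DS.map j.hom := by
    intro j
    rw [Category.assoc, hr.w, ← Category.assoc, d_condition, Category.assoc, Category.assoc,
      θ_naturality]
  have hπcomm : ∀ j : Over i₁, q ≫ f₁ = (f ≫ cS.π.app j.left) ≫ DS.map j.hom := by
    intro j
    rw [Category.assoc, cS.w, hq.w]
  have hcomm : ∀ j : Over i₁, ι ≫ dLift j q (f ≫ cS.π.app j.left) (hπcomm j) =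
      bcπ i₁ hP j ≫ dLift j (dFst DT i₁ xi j ≫ pullback.fst f₁ (θ A i₁))
        (dSnd DT i₁ xi j ≫ θ A j.left) (hιcomm j) := by
    intro j
    apply d_hom_ext
    · rw [Category.assoc, dLift_fst, Category.assoc, dLift_fst, bcπ_fst_assoc, hq1]
    · rw [Category.assoc, dLift_snd, Category.assoc, dLift_snd, bcπ_snd_assoc,
        ← z_π, ← Category.assoc, h.w, Category.assoc]
  refine CL.of_limit (bcDiagram DT i₁ xi) (bcCone i₁ hP) hlim (Over.mk (𝟙 i₁)) ι
    (fun j => (bcDiagram DS i₁ f₁).obj j)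
    (fun j => dLift j (dFst DT i₁ xi j ≫ pullback.fst f₁ (θ A i₁)) (dSnd DT i₁ xi j ≫ θ A j.left)
      (hιcomm j))
    (fun j => dLift j q (f ≫ cS.π.app j.left) (hπcomm j)) hcomm ?_
  · intro j
    have hH : HenselianRing (G A j.left.unop) (J A j.left.unop) := henselianRing_J A j.left.unop
    have hN : IsNoetherianRing (G A j.left.unop) := (isGRing_G A j.left.unop).1
    have hfj : IsProper (dSnd DS i₁ f₁ j) := by
      have : IsProper (pullback.snd f₁ (DS.map j.hom)) := inferInstance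
      exact this
    refine @CL_noeth (G A j.left.unop) _ hN (J A j.left.unop) hH _ _ (dSnd DS i₁ f₁ j) hfj _
      (dSnd DT i₁ xi j) ?_
    have hl : IsPullback (dFst DT i₁ xi j) (dSnd DT i₁ xi j) xi (DT.map j.hom) :=
      isPullback_d DT i₁ xi j
    have hout : IsPullback (dFst DT i₁ xi j ≫ pullback.fst f₁ (θ A i₁)) (dSnd DT i₁ xi j) f₁
        (DT.map j.hom ≫ θ A i₁) := hl.paste_horiz hr
    rw [θ_naturality] at hout
    have hright : IsPullback (dFst DS i₁ f₁ j) (dSnd DS i₁ f₁ j) f₁ (DS.map j.hom) :=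
      isPullback_d DS i₁ f₁ j
    have hout' : IsPullback (dLift j (dFst DT i₁ xi j ≫ pullback.fst f₁ (θ A i₁))
        (dSnd DT i₁ xi j ≫ θ A j.left) (hιcomm j) ≫ dFst DS i₁ f₁ j) (dSnd DT i₁ xi j) f₁
        (θ A j.left ≫ DS.map j.hom) := by
      rw [dLift_fst]
      exact hout
    exact IsPullback.of_right hout' (dLift_snd _ _ _ _) hright

end Groth.Agent.Lib.Helper22.Pi0HensD
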