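import Mathlib
import Groth.Agent.Lib.Helper22Pi0HensD

/-!
# Clopen lifting along the closed fibre of a proper scheme over a henselian local ring (helper22)
-/

set_option autoImplicit false
set_option linter.style.haveILetI false
set_option linter.unusedSectionVars false
set_option linter.unusedVariables false
universe u
open CategoryTheory Limits AlgebraicGeometry IsLocalRing

namespace Groth.Agent.Lib.Helper22.Pi0HensE

open Groth.Agent.Lib.Helper22.Pi0HensA Groth.Agent.Lib.Helper22.Pi0HensB
  Groth.Agent.Lib.Helper22.Pi0HensC Groth.Agent.Lib.Helper22.Pi0HensD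
open Groth.Agent.Lib.Helper7.HensColim Groth.Agent.Lib.Helper7.HensDesc

/-- clopen subsets of `X ×_A A/m` lift to `X`, for `X` proper over a henselian local ring `A`. -/
theorem CL_gen (A : Type u) [CommRing A] [HenselianLocalRing A] {X F : Scheme.{u}}
    (f : X ⟶ Spec (CommRingCat.of A)) [IsProper f]
    (ι : F ⟶ X) (p : F ⟶ Spec (CommRingCat.of (A ⧸ maximalIdeal A)))
    (h : IsPullback ι p f (Spec.map (CommRingCat.ofHom (Ideal.Quotient.mk (maximalIdeal A))))) :
    CL ι := by
  have h1 : CompactSpace ↥(Spec (CommRingCat.of A)) := inferInstance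
  have h2 : QuasiSeparatedSpace ↥(Spec (CommRingCat.of A)) := inferInstance
  have h3 : CompactSpace ↥(Spec (CommRingCat.of (A ⧸ maximalIdeal A))) := inferInstance
  have h4 : QuasiSeparatedSpace ↥(Spec (CommRingCat.of (A ⧸ maximalIdeal A))) := inferInstance
  exact CL_of_fp (S := Spec (CommRingCat.of A)) (T := Spec (CommRingCat.of (A ⧸ maximalIdeal A)))
    (Spec.map (CommRingCat.ofHom (Ideal.Quotient.mk (maximalIdeal A))))
    (fun {X' F'} f' hp hfp ι' p' h' => @CL_fp A _ _ X' F' f' hp hfp ι' p' h') f ι p h

/-- a closed point of an affine scheme, as the residue field and as `R ⧸ m`. -/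
theorem exists_iso_of_isMaximal (R : CommRingCat.{u}) (x : Spec R) [hx : x.asIdeal.IsMaximal] :
    ∃ e : Spec ((Spec R).residueField x) ≅ Spec (CommRingCat.of (R ⧸ x.asIdeal)),
      e.hom ≫ Spec.map (CommRingCat.ofHom (Ideal.Quotient.mk x.asIdeal)) =
        (Spec R).fromSpecResidueField x := by
  let ψ : CommRingCat.of (R ⧸ x.asIdeal) ⟶ CommRingCat.of x.asIdeal.ResidueField :=
    CommRingCat.ofHom (algebraMap (R ⧸ x.asIdeal) x.asIdeal.ResidueField)
  have hψ : IsIso ψ := by
    have hb : Function.Bijective (algebraMap (R ⧸ x.asIdeal) x.asIdeal.ResidueField) :=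
      x.asIdeal.bijective_algebraMap_quotient_residueField
    exact (ConcreteCategory.isIso_iff_bijective ψ).mpr hb
  let r := Scheme.Spec.residueFieldIso R x
  have hfac : Spec.map r.inv ≫
      Spec.map (CommRingCat.ofHom (algebraMap R x.asIdeal.ResidueField)) =
      (Spec R).fromSpecResidueField x :=
    Scheme.Spec.map_residueFieldIso_inv_eq_fromSpecResidueField R x
  have halg : CommRingCat.ofHom (algebraMap R x.asIdeal.ResidueField) =
      CommRingCat.ofHom (Ideal.Quotient.mk x.asIdeal) ≫ ψ := by
    apply CommRingCat.hom_ext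
    rw [CommRingCat.hom_comp, CommRingCat.hom_ofHom, CommRingCat.hom_ofHom, CommRingCat.hom_ofHom,
      IsScalarTower.algebraMap_eq R (R ⧸ x.asIdeal) x.asIdeal.ResidueField]
    rfl
  refine ⟨asIso (Spec.map r.inv ≫ Spec.map ψ), ?_⟩
  rw [asIso_hom, Category.assoc, ← Spec.map_comp, ← halg]
  exact hfac

/-- the closed point of the spectrum of a local ring, as the residue field and as `A ⧸ m`. -/
theorem exists_iso_closedPoint (A : Type u) [CommRing A] [IsLocalRing A] :
    ∃ e : Spec ((Spec (CommRingCat.of A)).residueField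
        ((closedPoint A : PrimeSpectrum A) : ↥(Spec (CommRingCat.of A)))) ≅
        Spec (CommRingCat.of (A ⧸ maximalIdeal A)),
      e.hom ≫ Spec.map (CommRingCat.ofHom (Ideal.Quotient.mk (maximalIdeal A))) =
        (Spec (CommRingCat.of A)).fromSpecResidueField
          ((closedPoint A : PrimeSpectrum A) : ↥(Spec (CommRingCat.of A))) := by
  have hmax : (maximalIdeal A).IsMaximal := inferInstance
  exact @exists_iso_of_isMaximal (CommRingCat.of A) (closedPoint A : PrimeSpectrum A) hmax

/-- clopen subsets of the closed fibre lift. -/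
theorem CL_fiberι (A : Type u) [CommRing A] [HenselianLocalRing A] {X : Scheme.{u}}
    (f : X ⟶ Spec (CommRingCat.of A)) [IsProper f] :
    CL (f.fiberι ((closedPoint A : PrimeSpectrum A) : ↥(Spec (CommRingCat.of A)))) := by
  obtain ⟨e, he⟩ := exists_iso_closedPoint A
  let x : ↥(Spec (CommRingCat.of A)) := (closedPoint A : PrimeSpectrum A)
  have hpb : IsPullback (f.fiberι x) (f.fiberToSpecResidueField x) f
      ((Spec (CommRingCat.of A)).fromSpecResidueField x) := IsPullback.of_hasPullback _ _
  have hpb' : IsPullback (f.fiberι x) (f.fiberToSpecResidueField x ≫ e.hom) f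
      (Spec.map (CommRingCat.ofHom (Ideal.Quotient.mk (maximalIdeal A)))) := by
    refine IsPullback.of_iso hpb (Iso.refl _) (Iso.refl _) e (Iso.refl _) ?_ ?_ ?_ ?_
    · simp
    · simp
    · simp
    · rw [Iso.refl_hom, Category.comp_id]
      exact he.symm
  exact CL_gen A f _ _ hpb'

end Groth.Agent.Lib.Helper22.Pi0HensE
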