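import Mathlib

/-!
# Connectedness of a scheme with local ring of global sections; flat base change of `Γ` (helper22)
-/

set_option autoImplicit false
set_option linter.style.haveILetI false
set_option linter.unusedSectionVars false
set_option linter.unusedVariables false
universe u
open CategoryTheory Limits AlgebraicGeometry IsLocalRing Opposite TopologicalSpace

namespace Groth.Agent.Lib.Helper22.SteinA

/-- an open subset of a scheme with trivial ring of sections is empty. -/
theorem eq_bot_of_subsingleton (X : Scheme.{u}) (V : X.Opens) (h : Subsingleton Γ(X, V)) :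
    V = ⊥ := by
  by_contra hV
  obtain ⟨x, hx⟩ : ∃ x, x ∈ V := by
    by_contra hne
    rw [not_exists] at hne
    exact hV (by ext x; simp [hne x])
  have h1 : (X.presheaf.germ V x hx).hom (1 : Γ(X, V)) = (X.presheaf.germ V x hx).hom 0 :=
    congrArg _ (Subsingleton.elim _ _)
  rw [map_one, map_zero] at h1
  exact one_ne_zero h1

/-- a scheme whose ring of global sections is local is connected. -/
theorem connectedSpace_of_isLocalRing (X : Scheme.{u}) [IsLocalRing Γ(X, ⊤)] :
    ConnectedSpace X := by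
  have hne : Nonempty X := by
    by_contra h
    rw [not_nonempty_iff] at h
    have h1 : (⊤ : X.Opens) = ⊥ := by ext x; exact (h.false x).elim
    have h2 : Subsingleton Γ(X, ⊤) := by
      rw [h1]
      infer_instance
    exact not_subsingleton Γ(X, ⊤) h2
  refine { toPreconnectedSpace := preconnectedSpace_iff_clopen.mpr ?_, toNonempty := hne }
  intro s hs
  let U : Bool → X.Opens := fun b => if b then ⟨s, hs.2⟩ else ⟨sᶜ, hs.1.isOpen_compl⟩
  have hcover : (⊤ : X.Opens) ≤ iSup U := by
    intro x _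
    rw [Opens.mem_iSup]
    by_cases hx : x ∈ s
    · exact ⟨true, hx⟩
    · exact ⟨false, hx⟩
  let sf : ∀ b : Bool, Γ(X, U b) := fun b => if b then 1 else 0
  have hinf : U true ⊓ U false = ⊥ := by
    ext x
    simp only [U, Opens.coe_inf, Opens.coe_bot, Set.mem_inter_iff, Set.mem_empty_iff_false,
      iff_false, not_and]
    intro h1 h2
    exact h2 h1
  have hcompat : TopCat.Presheaf.IsCompatible X.sheaf.1 U sf := by
    intro i j
    by_cases hij : i = j
    · subst hij
      rfl
    · have hbot : U i ⊓ U j = ⊥ := by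
        cases i <;> cases j <;> simp_all [inf_comm]
      have hsub : Subsingleton Γ(X, U i ⊓ U j) := by
        rw [hbot]
        infer_instance
      exact @Subsingleton.elim _ hsub _ _
  obtain ⟨e', he, -⟩ := X.sheaf.existsUnique_gluing' U ⊤ (fun b => homOfLE le_top) hcover sf hcompat
  let e : Γ(X, ⊤) := e'
  have he : ∀ b, (X.presheaf.map (homOfLE (le_top : U b ≤ ⊤)).op).hom e = sf b := he
  rcases IsLocalRing.isUnit_or_isUnit_one_sub_self e with hu | hu
  · -- e unit, e|_{sᶜ} = 0
    right
    have h0 : (X.presheaf.map (homOfLE (le_top : U false ≤ ⊤)).op).hom e = 0 := he false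
    have hu' := hu.map (X.presheaf.map (homOfLE (le_top : U false ≤ ⊤)).op).hom
    rw [h0] at hu'
    have hsub : Subsingleton Γ(X, U false) := subsingleton_of_zero_eq_one
      (isUnit_zero_iff.mp hu')
    have := eq_bot_of_subsingleton X _ hsub
    have h2 : sᶜ = (∅ : Set X) := congrArg (fun O : X.Opens => (O : Set X)) this
    exact Set.compl_empty_iff.mp h2
  · left
    have h0 : (X.presheaf.map (homOfLE (le_top : U true ≤ ⊤)).op).hom (1 - e) = 0 := by
      rw [map_sub, map_one]
      have : (X.presheaf.map (homOfLE (le_top : U true ≤ ⊤)).op).hom e = 1 := he true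
      rw [this, sub_self]
    have hu' := hu.map (X.presheaf.map (homOfLE (le_top : U true ≤ ⊤)).op).hom
    rw [h0] at hu'
    have hsub : Subsingleton Γ(X, U true) := subsingleton_of_zero_eq_one
      (isUnit_zero_iff.mp hu')
    have := eq_bot_of_subsingleton X _ hsub
    exact congrArg (fun O : X.Opens => (O : Set X)) this

/-- flat base change: if `R → Γ(X, O_X)` is an isomorphism then so is `R' → Γ(X_{R'}, O)` for
`R → R'` flat. -/
theorem isIso_appTop_of_flat {X Y : Scheme.{u}} {R R' : CommRingCat.{u}} (φ : R ⟶ R')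
    (hφ : φ.hom.Flat) (f : X ⟶ Spec R) [QuasiCompact f] [QuasiSeparated f] (hf : IsIso f.appTop)
    (g : Y ⟶ X) (f' : Y ⟶ Spec R') (H : IsPullback g f' f (Spec.map φ)) : IsIso f'.appTop := by
  have hflat : Flat (Spec.map φ) := (Flat.SpecMap_iff).mpr hφ
  have hc : CompactSpace X := QuasiCompact.compactSpace_of_compactSpace f
  have hqs : QuasiSeparatedSpace X := quasiSeparatedSpace_of_quasiSeparated f
  have hUST : (⊤ : (Spec R').Opens) ≤ Spec.map φ ⁻¹ᵁ (⊤ : (Spec R).Opens) := le_of_eq rfl
  have hUSX : (⊤ : X.Opens) ≤ f ⁻¹ᵁ (⊤ : (Spec R).Opens) := le_of_eq rfl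
  have hUY : (⊤ : Y.Opens) = g ⁻¹ᵁ (⊤ : X.Opens) ⊓ f' ⁻¹ᵁ (⊤ : (Spec R').Opens) := by
    simp
  have hiso := isIso_pushoutSection_of_isQuasiSeparated_of_flat_right H hUST hUSX hUY
    (isAffineOpen_top (Spec R)) (isAffineOpen_top (Spec R')) isCompact_univ
    (isQuasiSeparated_univ_iff.mpr hqs)
  have hpo := (isIso_pushoutSection_iff H hUST hUSX hUY).mp hiso
  have e1 : f.appLE ⊤ ⊤ hUSX = f.appTop := by
    simp [Scheme.Hom.appLE, Scheme.Hom.appTop]
  have hUY' : (⊤ : Y.Opens) ≤ f' ⁻¹ᵁ (⊤ : (Spec R').Opens) := le_of_eq rfl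
  have e2 : f'.appLE ⊤ ⊤ hUY' = f'.appTop := by
    simp [Scheme.Hom.appLE, Scheme.Hom.appTop]
  have hf1 : IsIso (f.appLE ⊤ ⊤ hUSX) := e1 ▸ hf
  have hf2 : IsIso (f.appLE ⊤ ⊤ hUSX).op := inferInstance
  have hpb := hpo.op
  have : IsIso (f'.appLE ⊤ ⊤ hUY').op := hpb.isIso_fst_of_isIso
  rw [← e2]
  exact isIso_of_op _

end Groth.Agent.Lib.Helper22.SteinA
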