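import Groth.Agent.Lib.Helper7Lim
import Mathlib.Topology.NoetherianSpace
import Mathlib.Topology.Connected.Clopen

open CategoryTheory AlgebraicGeometry Topology Limits Set
namespace Groth.Agent.Lib.Helper7
universe u

/-- If `f : X → Y` is continuous with dense range, `X` has finitely many irreducible components
and the closures of the images of distinct components are not contained in one another, then
`A ↦ closure (f '' A)` is a bijection between irreducible components. -/
lemma bijOn_closure_image_irreducibleComponents {X Y : Type*} [TopologicalSpace X]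
    [TopologicalSpace Y] (f : X → Y) (hf : Continuous f) (hd : DenseRange f)
    (hfin : (irreducibleComponents X).Finite)
    (hsep : ∀ A ∈ irreducibleComponents X, ∀ B ∈ irreducibleComponents X,
      closure (f '' A) ⊆ closure (f '' B) → A = B) :
    Set.BijOn (fun A : Set X => closure (f '' A)) (irreducibleComponents X)
      (irreducibleComponents Y) := by
  have hirr : ∀ A ∈ irreducibleComponents X, IsIrreducible (closure (f '' A)) := fun A hA =>
    (hA.1.image f hf.continuousOn).closure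
  -- every irreducible subset of `Y` lies in some `closure (f '' A)`
  have hcov : ∀ Z : Set Y, IsIrreducible Z → ∃ A ∈ irreducibleComponents X,
      Z ⊆ closure (f '' A) := by
    intro Z hZ
    have hY : (Set.univ : Set Y) = ⋃ A ∈ irreducibleComponents X, closure (f '' A) := by
      rw [← hfin.closure_biUnion, ← Set.image_iUnion₂, ← Set.sUnion_eq_biUnion,
        sUnion_irreducibleComponents, Set.image_univ, hd.closure_range]
    classical
    obtain ⟨z, hz, hZz⟩ := isIrreducible_iff_sUnion_isClosed.mp hZ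
      (hfin.toFinset.image (fun A => closure (f '' A))) (by
        intro z hz
        rw [Finset.mem_image] at hz
        obtain ⟨A, -, rfl⟩ := hz
        exact isClosed_closure) (by
        intro y _
        have : y ∈ ⋃ A ∈ irreducibleComponents X, closure (f '' A) := hY ▸ Set.mem_univ y
        simp only [Set.mem_iUnion] at this
        obtain ⟨A, hA, hy⟩ := this
        refine Set.mem_sUnion.mpr ⟨closure (f '' A), ?_, hy⟩
        rw [Finset.mem_coe, Finset.mem_image]
        exact ⟨A, hfin.mem_toFinset.mpr hA, rfl⟩)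
    rw [Finset.mem_image] at hz
    obtain ⟨A, hA, rfl⟩ := hz
    exact ⟨A, hfin.mem_toFinset.mp hA, hZz⟩
  refine ⟨?_, ?_, ?_⟩
  · intro A hA
    refine ⟨hirr A hA, fun Z hZ hAZ => ?_⟩
    obtain ⟨B, hB, hZB⟩ := hcov Z hZ
    have := hsep A hA B hB (hAZ.trans hZB)
    subst this
    exact hZB
  · intro A hA B hB hAB
    exact hsep A hA B hB (le_of_eq hAB)
  · intro Z hZ
    obtain ⟨B, hB, hZB⟩ := hcov Z hZ.1
    exact ⟨B, hB, (hZB.antisymm (hZ.2 (hirr B hB) hZB)).symm⟩

lemma finite_range_connectedComponent {X : Type*} [TopologicalSpace X]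
    [TopologicalSpace.NoetherianSpace X] :
    (Set.range (connectedComponent : X → Set X)).Finite := by
  have hfin : (irreducibleComponents X).Finite :=
    TopologicalSpace.NoetherianSpace.finite_irreducibleComponents
  classical
  refine (hfin.image (fun Y : Set X => if h : Y.Nonempty then connectedComponent h.some else ∅)).subset
    ?_
  rintro _ ⟨x, rfl⟩
  refine ⟨irreducibleComponent x, irreducibleComponent_mem_irreducibleComponents x, ?_⟩
  have hne : (irreducibleComponent x).Nonempty := ⟨x, mem_irreducibleComponent⟩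
  simp only [hne, dite_true]
  have hsub : irreducibleComponent x ⊆ connectedComponent x :=
    (isIrreducible_irreducibleComponent (x := x)).isConnected.isPreconnected.subset_connectedComponent
      mem_irreducibleComponent
  exact connectedComponent_eq (hsub hne.some_mem) |>.symm

lemma isClopen_connectedComponent_of_finite {X : Type*} [TopologicalSpace X]
    (hfin : (Set.range (connectedComponent : X → Set X)).Finite) (x : X) :
    IsClopen (connectedComponent x) := by
  refine ⟨isClosed_connectedComponent, ?_⟩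
  have : (connectedComponent x)ᶜ =
      ⋃ C ∈ (Set.range (connectedComponent : X → Set X)) \ {connectedComponent x}, C := by
    ext y
    simp only [Set.mem_compl_iff, Set.mem_iUnion, Set.mem_sdiff, Set.mem_range,
      Set.mem_singleton_iff, exists_prop]
    constructor
    · intro hy
      refine ⟨connectedComponent y, ⟨⟨y, rfl⟩, fun h => hy ?_⟩, mem_connectedComponent⟩
      rw [← h]
      exact mem_connectedComponent
    · rintro ⟨_, ⟨⟨z, rfl⟩, hne⟩, hyz⟩ hyx
      apply hne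
      rw [connectedComponent_eq hyz, connectedComponent_eq hyx]
  rw [← isClosed_compl_iff, this]
  refine (hfin.subset Set.sdiff_subset).isClosed_biUnion ?_
  rintro _ ⟨⟨z, rfl⟩, -⟩
  exact isClosed_connectedComponent

lemma bijOn_closure_image_connectedComponents {X Y : Type*} [TopologicalSpace X]
    [TopologicalSpace Y] (f : X → Y) (hf : Continuous f) (hd : DenseRange f)
    (hfin : (Set.range (connectedComponent : X → Set X)).Finite)
    (hclopen : ∀ C ∈ Set.range (connectedComponent : X → Set X),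
      IsClopen (closure (f '' C)) ∧ f ⁻¹' (closure (f '' C)) = C) :
    Set.BijOn (fun C : Set X => closure (f '' C)) (Set.range (connectedComponent : X → Set X))
      (Set.range (connectedComponent : Y → Set Y)) := by
  have key : ∀ (x : X) (y : Y), y ∈ closure (f '' connectedComponent x) →
      closure (f '' connectedComponent x) = connectedComponent y := by
    intro x y hy
    refine Set.Subset.antisymm ?_ ?_
    · exact ((isPreconnected_connectedComponent (x := x)).image f hf.continuousOn).closure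
        |>.subset_connectedComponent hy
    · exact (hclopen _ ⟨x, rfl⟩).1.connectedComponent_subset hy
  refine ⟨?_, ?_, ?_⟩
  · rintro _ ⟨x, rfl⟩
    exact ⟨f x, (key x (f x) (subset_closure ⟨x, mem_connectedComponent, rfl⟩)).symm⟩
  · intro A hA B hB hAB
    rw [← (hclopen A hA).2, ← (hclopen B hB).2]
    exact congrArg (fun K => f ⁻¹' K) hAB
  · rintro _ ⟨y, rfl⟩
    have hY : (Set.univ : Set Y) =
        ⋃ C ∈ Set.range (connectedComponent : X → Set X), closure (f '' C) := by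
      rw [← hfin.closure_biUnion, ← Set.image_iUnion₂]
      have : (⋃ C ∈ Set.range (connectedComponent : X → Set X), C) = Set.univ := by
        rw [Set.eq_univ_iff_forall]
        intro x
        simp only [Set.mem_iUnion, Set.mem_range, exists_prop]
        exact ⟨_, ⟨x, rfl⟩, mem_connectedComponent⟩
      rw [this, Set.image_univ, hd.closure_range]
    have hy : y ∈ ⋃ C ∈ Set.range (connectedComponent : X → Set X), closure (f '' C) :=
      hY ▸ Set.mem_univ y
    simp only [Set.mem_iUnion, Set.mem_range, exists_prop] at hy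
    obtain ⟨_, ⟨x, rfl⟩, hyx⟩ := hy
    exact ⟨_, ⟨x, rfl⟩, key x y hyx⟩

/-- In a cofiltered category, finitely many "eventually" statements hold simultaneously
eventually, below a given object. -/
lemma exists_forall_of_finite {I : Type u} [SmallCategory I] [IsCofiltered I] {ι : Type*}
    (T : Set ι) (hT : T.Finite) (Q : ι → I → Prop)
    (hQ : ∀ p ∈ T, ∃ k : I, ∀ (j : I) (_ : j ⟶ k), Q p j) (i₀ : I) :
    ∃ (k : I) (_ : k ⟶ i₀), ∀ p ∈ T, ∀ (j : I) (_ : j ⟶ k), Q p j := by
  induction T, hT using Set.Finite.induction_on with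
  | empty => exact ⟨i₀, 𝟙 _, fun p hp => (Set.notMem_empty p hp).elim⟩
  | @insert a T ha hT ih =>
    obtain ⟨k₁, b₁, h₁⟩ := ih (fun p hp => hQ p (Set.mem_insert_of_mem a hp))
    obtain ⟨k₂, h₂⟩ := hQ a (Set.mem_insert a T)
    refine ⟨IsCofiltered.min k₁ k₂, IsCofiltered.minToLeft k₁ k₂ ≫ b₁, ?_⟩
    intro p hp j φ
    rcases Set.mem_insert_iff.mp hp with rfl | hp
    · exact h₂ j (φ ≫ IsCofiltered.minToRight k₁ k₂)
    · exact h₁ p hp j (φ ≫ IsCofiltered.minToLeft k₁ k₂)

variable {I : Type u} [SmallCategory I] [IsCofiltered I]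
  (D : I ⥤ Scheme.{u}) (c : Limits.Cone D) (hc : Limits.IsLimit c)
  [∀ (i j : I) (f : i ⟶ j), IsAffineHom (D.map f)]

include hc in
/-- If `A ⊄ B` with `B` closed in the limit, then eventually the closures of the images are not
contained in one another. -/
lemma exists_stage_not_closure_subset (A B : Set c.pt) (hB : IsClosed B) (hAB : ¬ A ⊆ B) :
    ∃ k : I, ∀ (j : I) (_ : j ⟶ k),
      ¬ closure (⇑(c.π.app j) '' A) ⊆ closure (⇑(c.π.app j) '' B) := by
  obtain ⟨y, hyA, hyB⟩ := Set.not_subset.mp hAB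
  obtain ⟨_, ⟨_, ⟨k, W, hW, rfl⟩, rfl⟩, hyW, hWB⟩ :=
    (isBasis_preimage_isAffineOpen' D c hc).exists_subset_of_mem_open
      (show y ∈ Bᶜ from hyB) hB.isOpen_compl
  refine ⟨k, fun j φ hsub => ?_⟩
  have h1 : c.π.app j y ∈ closure (⇑(c.π.app j) '' B) := hsub (subset_closure ⟨y, hyA, rfl⟩)
  have hopen : IsOpen (⇑(D.map φ) ⁻¹' (W : Set (D.obj k))) := W.2.preimage (D.map φ).continuous
  have hmem : c.π.app j y ∈ ⇑(D.map φ) ⁻¹' (W : Set (D.obj k)) := by
    rw [Set.mem_preimage, map_π_apply]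
    exact hyW
  obtain ⟨_, hz1, ⟨z, hzB, rfl⟩⟩ := mem_closure_iff.mp h1 _ hopen hmem
  rw [Set.mem_preimage, map_π_apply] at hz1
  exact hWB hz1 hzB

include hc in
/-- If all projections from the limit are dominant, a clopen subset `C` of the limit eventually
has the property that the closure of its image in the stage is clopen, with preimage `C`. -/
lemma exists_stage_clopen_of_dominant (hdom : ∀ j : I, DenseRange ⇑(c.π.app j)) (i₀ : I)
    [CompactSpace (D.obj i₀)] (C : Set c.pt) (hC : IsClopen C) :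
    ∃ k : I, ∀ (j : I) (_ : j ⟶ k), IsClopen (closure (⇑(c.π.app j) '' C)) ∧
      ⇑(c.π.app j) ⁻¹' (closure (⇑(c.π.app j) '' C)) = C := by
  have : ∀ {i j : I} (f : i ⟶ j), IsAffineHom (D.map f) := fun f => inferInstance
  have hπ : IsAffineHom (c.π.app i₀) := isAffineHom_π_app' D c hc i₀
  have : CompactSpace c.pt := QuasiCompact.compactSpace_of_compactSpace (c.π.app i₀)
  obtain ⟨i₁, U₁, hU₁c, hU₁⟩ := exists_preimage_eq D c hc ⟨C, hC.2⟩ hC.1.isCompact
  obtain ⟨i₂, U₂, hU₂c, hU₂⟩ := exists_preimage_eq D c hc ⟨Cᶜ, hC.1.isOpen_compl⟩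
    hC.2.isClosed_compl.isCompact
  let k₁ := IsCofiltered.min i₁ i₂
  let k₀ := IsCofiltered.min k₁ i₀
  let a₁ : k₀ ⟶ i₁ := IsCofiltered.minToLeft k₁ i₀ ≫ IsCofiltered.minToLeft i₁ i₂
  let a₂ : k₀ ⟶ i₂ := IsCofiltered.minToLeft k₁ i₀ ≫ IsCofiltered.minToRight i₁ i₂
  let b : k₀ ⟶ i₀ := IsCofiltered.minToRight k₁ i₀
  have hkc : CompactSpace (D.obj k₀) := QuasiCompact.compactSpace_of_compactSpace (D.map b)
  let Uk : (D.obj k₀).Opens := D.map a₁ ⁻¹ᵁ U₁
  let Vk : (D.obj k₀).Opens := D.map a₂ ⁻¹ᵁ U₂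
  have hπU : c.π.app k₀ ⁻¹ᵁ Uk = ⟨C, hC.2⟩ := by
    rw [← hU₁, ← Scheme.Hom.comp_preimage, c.w]
  have hπV : c.π.app k₀ ⁻¹ᵁ Vk = ⟨Cᶜ, hC.1.isOpen_compl⟩ := by
    rw [← hU₂, ← Scheme.Hom.comp_preimage, c.w]
  obtain ⟨k, φ, hφ⟩ := exists_map_preimage_le_map_preimage D c hc (U := ⊤) (V := Uk ⊔ Vk)
    isCompact_univ (by
      rw [Scheme.Hom.preimage_sup, hπU, hπV]
      intro x _
      exact Classical.em (x ∈ C))
  refine ⟨k, fun j ψ => ?_⟩
  let Uj : (D.obj j).Opens := D.map (ψ ≫ φ) ⁻¹ᵁ Uk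
  let Vj : (D.obj j).Opens := D.map (ψ ≫ φ) ⁻¹ᵁ Vk
  have hπU' : ∀ x : c.pt, c.π.app j x ∈ Uj ↔ x ∈ C := by
    intro x
    have : c.π.app j ⁻¹ᵁ Uj = ⟨C, hC.2⟩ := by
      rw [← hπU, ← Scheme.Hom.comp_preimage, c.w]
    exact (SetLike.ext_iff.mp this x)
  have hπV' : ∀ x : c.pt, c.π.app j x ∈ Vj ↔ x ∈ Cᶜ := by
    intro x
    have : c.π.app j ⁻¹ᵁ Vj = ⟨Cᶜ, hC.1.isOpen_compl⟩ := by
      rw [← hπV, ← Scheme.Hom.comp_preimage, c.w]
    exact (SetLike.ext_iff.mp this x)
  have hcov : ∀ y : D.obj j, y ∈ Uj ∨ y ∈ Vj := by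
    intro y
    have h1 : D.map ψ y ∈ D.map φ ⁻¹ᵁ (Uk ⊔ Vk) := hφ (show D.map ψ y ∈ D.map φ ⁻¹ᵁ ⊤ from trivial)
    have h2 : D.map φ (D.map ψ y) ∈ (Uk ⊔ Vk : (D.obj k₀).Opens) := h1
    rw [← map_comp_apply] at h2
    exact h2
  have hdisj : ∀ y : D.obj j, y ∈ Uj → y ∉ Vj := by
    intro y hy1 hy2
    obtain ⟨_, ⟨hw1, hw2⟩, ⟨w, rfl⟩⟩ := (dense_iff_inter_open.mp (hdom j)) _
      (Uj.2.inter Vj.2) ⟨y, hy1, hy2⟩
    exact (hπV' w).mp hw2 ((hπU' w).mp hw1)
  have hUjcl : IsClosed (Uj : Set (D.obj j)) := by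
    have : (Uj : Set (D.obj j)) = (Vj : Set (D.obj j))ᶜ := by
      ext y
      constructor
      · exact hdisj y
      · intro hy
        exact (hcov y).resolve_right hy
    rw [this]
    exact Vj.2.isClosed_compl
  have hcl : closure (⇑(c.π.app j) '' C) = (Uj : Set (D.obj j)) := by
    refine Set.Subset.antisymm ?_ ?_
    · refine closure_minimal ?_ hUjcl
      rintro _ ⟨x, hx, rfl⟩
      exact (hπU' x).mpr hx
    · intro y hy
      rw [mem_closure_iff]
      intro N hN hyN
      obtain ⟨_, ⟨hw1, hw2⟩, ⟨w, rfl⟩⟩ := (dense_iff_inter_open.mp (hdom j)) _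
        (hN.inter Uj.2) ⟨y, hyN, hy⟩
      exact ⟨_, hw1, ⟨w, (hπU' w).mp hw2, rfl⟩⟩
  rw [hcl]
  refine ⟨⟨hUjcl, Uj.2⟩, ?_⟩
  ext x
  exact hπU' x

omit [IsCofiltered I] in
/-- If the transition maps are topological embeddings and a stage `S_{i₀}` is a Noetherian space,
then from some stage on all transition maps have dense range (the closures of the images of the
stages in `S_{i₀}` stabilize). -/
lemma exists_stage_forall_denseRange_of_isEmbedding (i₀ : I)
    [TopologicalSpace.NoetherianSpace (D.obj i₀)]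
    (he : ∀ (i j : I) (φ : i ⟶ j), Topology.IsEmbedding ⇑(D.map φ)) :
    ∃ (j₀ : I) (_ : j₀ ⟶ i₀), ∀ (j j' : I) (_ : j ⟶ j₀) (φ' : j' ⟶ j), DenseRange ⇑(D.map φ') := by
  let Z : (Σ j : I, (j ⟶ i₀)) → TopologicalSpace.Closeds (D.obj i₀) := fun p =>
    ⟨closure (Set.range ⇑(D.map p.2)), isClosed_closure⟩
  obtain ⟨_, ⟨⟨j₀, ψ₀⟩, rfl⟩, hmin⟩ := WellFounded.has_min
    (wellFounded_lt (α := TopologicalSpace.Closeds (D.obj i₀))) (Set.range Z)
    ⟨Z ⟨i₀, 𝟙 _⟩, ⟨_, rfl⟩⟩
  have hmono : ∀ {j j' : I} (ψ : j ⟶ i₀) (φ' : j' ⟶ j), Z ⟨j', φ' ≫ ψ⟩ ≤ Z ⟨j, ψ⟩ := by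
    intro j j' ψ φ'
    refine closure_mono ?_
    rintro _ ⟨x, rfl⟩
    exact ⟨D.map φ' x, by rw [Functor.map_comp]; rfl⟩
  have heq : ∀ {j : I} (φ : j ⟶ j₀), Z ⟨j, φ ≫ ψ₀⟩ = Z ⟨j₀, ψ₀⟩ := by
    intro j φ
    have h1 := hmono ψ₀ φ
    by_contra hne
    exact hmin _ ⟨_, rfl⟩ (lt_of_le_of_ne h1 hne)
  refine ⟨j₀, ψ₀, fun j j' φ φ' => ?_⟩
  have h1 : Z ⟨j', (φ' ≫ φ) ≫ ψ₀⟩ = Z ⟨j, φ ≫ ψ₀⟩ := (heq (φ' ≫ φ)).trans (heq φ).symm
  have h2 : closure (Set.range ⇑(D.map ((φ' ≫ φ) ≫ ψ₀))) =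
      closure (Set.range ⇑(D.map (φ ≫ ψ₀))) :=
    congrArg (fun z : TopologicalSpace.Closeds (D.obj i₀) => (z : Set (D.obj i₀))) h1
  intro y
  rw [(he _ _ (φ ≫ ψ₀)).closure_eq_preimage_closure_image, Set.mem_preimage]
  have h3 : D.map (φ ≫ ψ₀) y ∈ closure (Set.range ⇑(D.map ((φ' ≫ φ) ≫ ψ₀))) := by
    rw [h2]
    exact subset_closure ⟨y, rfl⟩
  refine closure_mono ?_ h3
  rintro _ ⟨x, rfl⟩
  refine ⟨D.map φ' x, ⟨x, rfl⟩, ?_⟩
  rw [Category.assoc, Functor.map_comp D φ' (φ ≫ ψ₀)]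
  rfl

end Groth.Agent.Lib.Helper7
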