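import Mathlib
import Groth.Agent.Lib.Helper22SteinA
import Groth.Agent.Lib.Helper22Pi0HensE
import Groth.Agent.S8533
import Groth.Agent.S7590

/-!
# Connectedness of fibres: the henselian local step and change of fields (helper22)
-/

set_option autoImplicit false
set_option linter.style.haveILetI false
set_option linter.unusedSectionVars false
set_option linter.unusedVariables false
universe u
open CategoryTheory Limits AlgebraicGeometry IsLocalRing Opposite TopologicalSpace

namespace Groth.Agent.Lib.Helper22.SteinB

open Groth.Agent.Lib.Helper22.SteinA Groth.Agent.Lib.Helper22.Pi0HensE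

/-- a space whose `π₀` maps bijectively to `π₀` of a connected space is connected. -/
theorem connectedSpace_of_bijective_pi0 {α β : Type*} [TopologicalSpace α] [TopologicalSpace β]
    [ConnectedSpace β] {p : α → β} (hp : Continuous p)
    (h : Function.Bijective hp.connectedComponentsMap) : ConnectedSpace α := by
  have hsub : ∀ c c' : ConnectedComponents β, c = c' := by
    intro c c'
    obtain ⟨x, rfl⟩ := ConnectedComponents.surjective_coe c
    obtain ⟨y, rfl⟩ := ConnectedComponents.surjective_coe c'
    rw [ConnectedComponents.coe_eq_coe', PreconnectedSpace.connectedComponent_eq_univ]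
    exact Set.mem_univ x
  have hne : Nonempty α := by
    obtain ⟨b⟩ := (inferInstance : Nonempty β)
    obtain ⟨c, -⟩ := h.2 (b : ConnectedComponents β)
    obtain ⟨a, -⟩ := ConnectedComponents.surjective_coe c
    exact ⟨a⟩
  refine { toPreconnectedSpace := preconnectedSpace_iff_connectedComponent.mpr ?_, toNonempty := hne }
  intro x
  rw [Set.eq_univ_iff_forall]
  intro y
  have : (y : ConnectedComponents α) = x := h.1 (hsub _ _)
  exact ConnectedComponents.coe_eq_coe'.mp this

/-- the closed fibre of a proper scheme over a henselian local ring `A` with `Γ(X, O) = A` is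
connected. -/
theorem connectedSpace_fiber_closedPoint (A : Type u) [CommRing A] [HenselianLocalRing A]
    {X : Scheme.{u}} (f : X ⟶ Spec (CommRingCat.of A)) [IsProper f] (hf : IsIso f.appTop) :
    ConnectedSpace ↥(f.fiber ((closedPoint A : PrimeSpectrum A) : ↥(Spec (CommRingCat.of A)))) := by
  let e : CommRingCat.of A ≅ Γ(X, ⊤) := (Scheme.ΓSpecIso (CommRingCat.of A)).symm ≪≫ asIso f.appTop
  have hloc : IsLocalRing Γ(X, ⊤) := e.commRingCatIsoToRingEquiv.isLocalRing
  have hX : ConnectedSpace X := connectedSpace_of_isLocalRing X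
  exact connectedSpace_of_bijective_pi0 _ (Groth.Agent.S8533.result A f)

/-- change of fields from a separably closed field. -/
theorem connectedSpace_pullback_of_sepClosed {R k K L : Type u} [CommRing R] [Field k]
    [IsSepClosed k] [Field K] [Field L]
    (a : R →+* k) (b : R →+* K) (c : k →+* L) (d : K →+* L) (hcomm : c.comp a = d.comp b)
    {X : Scheme.{u}} (f : X ⟶ Spec (CommRingCat.of R))
    (hk : ConnectedSpace ↥(pullback f (Spec.map (CommRingCat.ofHom a)))) :
    ConnectedSpace ↥(pullback f (Spec.map (CommRingCat.ofHom b))) := by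
  let P := pullback f (Spec.map (CommRingCat.ofHom a))
  letI : P.Over (Spec (CommRingCat.of k)) := ⟨pullback.snd f (Spec.map (CommRingCat.ofHom a))⟩
  letI : Algebra k L := c.toAlgebra
  have hbij := Groth.Agent.S7590.result k P L
  have hQ : ConnectedSpace ↥(Curv2.bc k P L) := connectedSpace_of_bijective_pi0 _ hbij
  let Q := Curv2.bc k P L
  let Y := pullback f (Spec.map (CommRingCat.ofHom b))
  have hQpb : IsPullback (Curv2.bcFst k P L) (Curv2.bcSnd k P L)
      (pullback.snd f (Spec.map (CommRingCat.ofHom a))) (Spec.map (CommRingCat.ofHom c)) :=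
    IsPullback.of_hasPullback _ _
  have hPpb : IsPullback (pullback.fst f (Spec.map (CommRingCat.ofHom a)))
      (pullback.snd f (Spec.map (CommRingCat.ofHom a))) f (Spec.map (CommRingCat.ofHom a)) :=
    IsPullback.of_hasPullback _ _
  have hYpb : IsPullback (pullback.fst f (Spec.map (CommRingCat.ofHom b)))
      (pullback.snd f (Spec.map (CommRingCat.ofHom b))) f (Spec.map (CommRingCat.ofHom b)) :=
    IsPullback.of_hasPullback _ _
  have hmaps : Spec.map (CommRingCat.ofHom c) ≫ Spec.map (CommRingCat.ofHom a) =
      Spec.map (CommRingCat.ofHom d) ≫ Spec.map (CommRingCat.ofHom b) := by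
    rw [← Spec.map_comp, ← Spec.map_comp, ← CommRingCat.ofHom_comp, ← CommRingCat.ofHom_comp, hcomm]
  have houter : IsPullback (Curv2.bcFst k P L ≫ pullback.fst f (Spec.map (CommRingCat.ofHom a)))
      (Curv2.bcSnd k P L) f
      (Spec.map (CommRingCat.ofHom d) ≫ Spec.map (CommRingCat.ofHom b)) := by
    rw [← hmaps]
    exact hQpb.paste_horiz hPpb
  let ψ : Q ⟶ Y := hYpb.lift (Curv2.bcFst k P L ≫ pullback.fst f (Spec.map (CommRingCat.ofHom a)))
    (Curv2.bcSnd k P L ≫ Spec.map (CommRingCat.ofHom d)) (by rw [Category.assoc, Category.assoc, ← houter.w, Category.assoc])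
  have hψ1 : ψ ≫ pullback.fst f (Spec.map (CommRingCat.ofHom b)) =
      Curv2.bcFst k P L ≫ pullback.fst f (Spec.map (CommRingCat.ofHom a)) := hYpb.lift_fst _ _ _
  have hψ2 : ψ ≫ pullback.snd f (Spec.map (CommRingCat.ofHom b)) =
      Curv2.bcSnd k P L ≫ Spec.map (CommRingCat.ofHom d) := hYpb.lift_snd _ _ _
  have hψpb : IsPullback ψ (Curv2.bcSnd k P L) (pullback.snd f (Spec.map (CommRingCat.ofHom b)))
      (Spec.map (CommRingCat.ofHom d)) := by
    have hout' : IsPullback (ψ ≫ pullback.fst f (Spec.map (CommRingCat.ofHom b)))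
        (Curv2.bcSnd k P L) f
        (Spec.map (CommRingCat.ofHom d) ≫ Spec.map (CommRingCat.ofHom b)) := by
      rw [hψ1]
      exact houter
    exact IsPullback.of_right hout' hψ2 hYpb
  have hdsurj : Surjective (Spec.map (CommRingCat.ofHom d)) := by
    refine ⟨fun y => ?_⟩
    obtain ⟨x⟩ : Nonempty ↥(Spec (CommRingCat.of L)) := inferInstance
    refine ⟨x, ?_⟩
    have : Subsingleton ↥(Spec (CommRingCat.of K)) := inferInstanceAs (Subsingleton (PrimeSpectrum K))
    exact Subsingleton.elim _ _
  have hψsurj : Surjective ψ :=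
    MorphismProperty.of_isPullback (P := @Surjective) hψpb.flip hdsurj
  exact ψ.surjective.connectedSpace ψ.continuous

/-- for a flat map `R → A` to a henselian local ring and `X` proper over `R` with `Γ(X, O) = R`,
the base change of `X` to the residue field of `A` is connected. -/
theorem connectedSpace_pullback_residue {R : Type u} [CommRing R] (A : Type u) [CommRing A]
    [HenselianLocalRing A] (φ : R →+* A) (hφ : φ.Flat) {X : Scheme.{u}}
    (f : X ⟶ Spec (CommRingCat.of R)) [IsProper f] (hf : IsIso f.appTop) :
    ConnectedSpace ↥(pullback f (Spec.map (CommRingCat.ofHom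
      ((Ideal.Quotient.mk (maximalIdeal A)).comp φ)))) := by
  let fA := pullback.snd f (Spec.map (CommRingCat.ofHom φ))
  have hXA : IsPullback (pullback.fst f (Spec.map (CommRingCat.ofHom φ))) fA f
      (Spec.map (CommRingCat.ofHom φ)) := IsPullback.of_hasPullback _ _
  have hfA : IsIso fA.appTop :=
    isIso_appTop_of_flat (CommRingCat.ofHom φ) hφ f hf _ fA hXA
  have hconn := connectedSpace_fiber_closedPoint A fA hfA
  obtain ⟨e, he⟩ := exists_iso_closedPoint A
  let cp : ↥(Spec (CommRingCat.of A)) := (closedPoint A : PrimeSpectrum A)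
  have hF : IsPullback (fA.fiberι cp) (fA.fiberToSpecResidueField cp) fA
      ((Spec (CommRingCat.of A)).fromSpecResidueField cp) := IsPullback.of_hasPullback _ _
  let q := Spec.map (CommRingCat.ofHom ((Ideal.Quotient.mk (maximalIdeal A)).comp φ))
  have hq : q = Spec.map (CommRingCat.ofHom (Ideal.Quotient.mk (maximalIdeal A))) ≫
      Spec.map (CommRingCat.ofHom φ) := by
    rw [← Spec.map_comp, ← CommRingCat.ofHom_comp]
  have hT : IsPullback (pullback.fst f q) (pullback.snd f q) f q := IsPullback.of_hasPullback _ _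
  have houter : IsPullback (fA.fiberι cp ≫ pullback.fst f (Spec.map (CommRingCat.ofHom φ)))
      (fA.fiberToSpecResidueField cp) f (e.hom ≫ q) := by
    have := hF.paste_horiz hXA
    rw [← he, Category.assoc, ← hq] at this
    exact this
  let ψ : fA.fiber cp ⟶ pullback f q :=
    hT.lift (fA.fiberι cp ≫ pullback.fst f (Spec.map (CommRingCat.ofHom φ)))
      (fA.fiberToSpecResidueField cp ≫ e.hom) (by rw [houter.w, Category.assoc])
  have hψ1 : ψ ≫ pullback.fst f q =
      fA.fiberι cp ≫ pullback.fst f (Spec.map (CommRingCat.ofHom φ)) := hT.lift_fst _ _ _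
  have hψ2 : ψ ≫ pullback.snd f q = fA.fiberToSpecResidueField cp ≫ e.hom := hT.lift_snd _ _ _
  have hψpb : IsPullback ψ (fA.fiberToSpecResidueField cp) (pullback.snd f q) e.hom := by
    have hout' : IsPullback (ψ ≫ pullback.fst f q) (fA.fiberToSpecResidueField cp) f
        (e.hom ≫ q) := by
      rw [hψ1]
      exact houter
    exact IsPullback.of_right hout' hψ2 hT
  have hψiso : IsIso ψ := hψpb.isIso_fst_of_isIso
  have hsurj : Function.Surjective ψ := fun y => ⟨(inv ψ) y, by
    rw [← Scheme.Hom.comp_apply, IsIso.inv_hom_id]; rfl⟩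
  exact hsurj.connectedSpace ψ.continuous

end Groth.Agent.Lib.Helper22.SteinB
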