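import Mathlib
import Groth.Agent.Lib.Helper22SteinB
import Groth.Agent.Lib.Helper3ShG

/-!
# Stein factorization: geometric connectedness of the fibres over an affine base (helper22)
-/

set_option autoImplicit false
set_option linter.style.haveILetI false
set_option linter.unusedSectionVars false
set_option linter.unusedVariables false
universe u
open CategoryTheory Limits AlgebraicGeometry IsLocalRing Opposite TopologicalSpace

namespace Groth.Agent.Lib.Helper22.SteinC

open Groth.Agent.Lib.Helper22.SteinA Groth.Agent.Lib.Helper22.SteinB Groth.Agent.Lib.Helper3.Sh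

/-- amalgamation of an algebraic extension `E/κ` and an arbitrary extension `K/κ`. -/
theorem exists_field_amalgam {κ K E : Type u} [Field κ] [Field K] [Field E] [Algebra κ E]
    [Algebra.IsAlgebraic κ E] (ℓ : κ →+* K) :
    ∃ (L : Type u) (_ : Field L) (c : E →+* L) (d : K →+* L),
      ∀ x, c (algebraMap κ E x) = d (ℓ x) := by
  let L := AlgebraicClosure K
  let d : K →+* L := algebraMap K L
  letI : Algebra κ L := (d.comp ℓ).toAlgebra
  let c₀ : E →ₐ[κ] L := IsAlgClosed.lift
  refine ⟨L, inferInstance, c₀.toRingHom, d, fun x => ?_⟩
  have h := c₀.commutes x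
  rw [RingHom.algebraMap_toAlgebra] at h
  exact h

/-- the strict henselization of a local ring, with the data needed below. -/
theorem exists_sh_data_local (Rp : Type u) [CommRing Rp] [IsLocalRing Rp] {K : Type u} [Field K]
    (ℓ : ResidueField Rp →+* K) :
    ∃ (A : Type u) (_ : CommRing A) (_ : HenselianLocalRing A) (φ : Rp →+* A) (_ : φ.Flat)
      (_ : IsSepClosed (ResidueField A))
      (L : Type u) (_ : Field L) (c : ResidueField A →+* L) (d : K →+* L),
      ∀ x, c (residue A (φ x)) = d (ℓ (residue Rp x)) := by
  let κ := ResidueField Rp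
  let Ω := SeparableClosure κ
  letI : Algebra Rp Ω := ((algebraMap κ Ω).comp (residue Rp)).toAlgebra
  haveI : IsScalarTower Rp κ Ω := IsScalarTower.of_algebraMap_eq (fun _ => rfl)
  let A := Rsh Rp Ω
  have hflat2 : (algebraMap Rp A).Flat := by
    rw [RingHom.flat_algebraMap_iff]
    infer_instance
  have hsc : IsSepClosure κ (ResidueField A) := isSepClosure
  have hsep : IsSepClosed (ResidueField A) := IsSepClosure.sep_closed κ
  haveI : Algebra.IsSeparable κ (ResidueField A) := IsSepClosure.separable
  haveI : Algebra.IsAlgebraic κ (ResidueField A) := inferInstance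
  obtain ⟨L, hL, c, d, hcd⟩ := exists_field_amalgam (κ := κ) (E := ResidueField A) ℓ
  refine ⟨A, inferInstance, inferInstance, algebraMap Rp A, hflat2, hsep, L, hL, c, d, fun x => ?_⟩
  rw [← hcd]
  have h1 : algebraMap κ (ResidueField A) (residue Rp x) = residue A (algebraMap Rp A x) :=
    ResidueField.map_residue _ x
  rw [h1]

/-- field-theoretic data: for a ring map `b : R → K` to a field there are a flat map `φ : R → A`
to a henselian local ring with separably closed residue field, and a field `L` receiving
compatible maps from the residue field of `A` and from `K`. -/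
theorem exists_sh_data {R K : Type u} [CommRing R] [Field K] (b : R →+* K) :
    ∃ (A : Type u) (_ : CommRing A) (_ : HenselianLocalRing A) (φ : R →+* A) (_ : φ.Flat)
      (_ : IsSepClosed (ResidueField A))
      (L : Type u) (_ : Field L) (c : ResidueField A →+* L) (d : K →+* L),
      c.comp ((residue A).comp φ) = d.comp b := by
  let p : Ideal R := RingHom.ker b
  have hp : p.IsPrime := RingHom.ker_isPrime b
  have hunits : p.primeCompl ≤ (IsUnit.submonoid K).comap b := by
    intro x hx
    have hx' : b x ≠ 0 := fun h => hx ((RingHom.mem_ker).mpr h)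
    exact hx'.isUnit
  let ℓ : p.ResidueField →+* K := Ideal.ResidueField.lift p b le_rfl hunits
  have hℓ : ∀ r : R, ℓ (algebraMap R p.ResidueField r) = b r :=
    Ideal.ResidueField.lift_algebraMap p b le_rfl hunits
  obtain ⟨A, hA1, hA2, φ, hφ, hsep, L, hL, c, d, hcd⟩ :=
    exists_sh_data_local (Localization.AtPrime p) ℓ
  have hflat1 : (algebraMap R (Localization.AtPrime p)).Flat := by
    rw [RingHom.flat_algebraMap_iff]
    exact IsLocalization.flat (Localization.AtPrime p) p.primeCompl
  refine ⟨A, hA1, hA2, φ.comp (algebraMap R (Localization.AtPrime p)),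
    RingHom.Flat.comp hflat1 hφ, hsep, L, hL, c, d, ?_⟩
  ext r
  simp only [RingHom.comp_apply]
  rw [hcd, ← hℓ r]
  rfl

/-- Stein factorization over an affine base: if `X` is proper over `R` and `R → Γ(X, O_X)` is
an isomorphism then `X → Spec R` has geometrically connected fibres. -/
theorem geometricallyConnected_of_isIso_appTop {R : Type u} [CommRing R] {X : Scheme.{u}}
    (f : X ⟶ Spec (CommRingCat.of R)) [IsProper f] (hf : IsIso f.appTop) :
    GeometricallyConnected f := by
  rw [geometricallyConnected_iff, geometrically_iff_of_commRing_of_isClosedUnderIsomorphisms]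
  intro K _ _
  obtain ⟨A, _, _, φ, hφ, hsep, L, _, c, d, hcomm⟩ := exists_sh_data (algebraMap R K)
  have h1 := connectedSpace_pullback_residue A φ hφ f hf
  exact connectedSpace_pullback_of_sepClosed _ (algebraMap R K) c d hcomm f h1

end Groth.Agent.Lib.Helper22.SteinC
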