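import Mathlib
import Groth.Agent.Lib.Helper22SteinC

/-!
# Stein factorization: globalization (helper22)
-/

set_option autoImplicit false
set_option linter.style.haveILetI false
set_option linter.unusedSectionVars false
set_option linter.unusedVariables false
universe u
open CategoryTheory Limits AlgebraicGeometry IsLocalRing Opposite TopologicalSpace

namespace Groth.Agent.Lib.Helper22.SteinD

open Groth.Agent.Lib.Helper22.SteinC

instance : IsZariskiLocalAtTarget @GeometricallyConnected :=
  GeometricallyConnected.eq_geometrically ▸ inferInstance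

/-- Stein: a proper morphism `g : X ⟶ Y` with `O_Y ≅ g_* O_X` has geometrically connected
fibres. -/
theorem geometricallyConnected_of_isIso_app {X Y : Scheme.{u}} (g : X ⟶ Y) [IsProper g]
    (h : ∀ U : Y.Opens, IsIso (g.app U)) : GeometricallyConnected g := by
  rw [IsZariskiLocalAtTarget.iff_of_iSup_eq_top (P := @GeometricallyConnected)
    (fun U : Y.affineOpens => U.1) (iSup_affineOpens_eq_top Y)]
  intro U
  have hU : IsAffine U.1.toScheme := U.2
  let e := U.1.toScheme.isoSpec
  rw [← MorphismProperty.cancel_right_of_respectsIso (P := @GeometricallyConnected) _ e.hom]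
  have hiso : IsIso (g ∣_ U.1).appTop := by
    rw [morphismRestrict_appTop]
    have h1 := h (U.1.ι ''ᵁ ⊤)
    have h3 : IsIso (X.presheaf.map (eqToHom (image_morphismRestrict_preimage g U.1 ⊤)).op) := by
      infer_instance
    exact @IsIso.comp_isIso _ _ _ _ _ _ _ h1 h3
  have hiso' : IsIso (g ∣_ U.1 ≫ e.hom).appTop := by
    rw [Scheme.Hom.comp_appTop]
    have h2 : IsIso e.hom.appTop := by
      have : IsIso (e.hom.app ⊤) := inferInstance
      exact this
    exact @IsIso.comp_isIso _ _ _ _ _ _ _ h2 hiso
  exact geometricallyConnected_of_isIso_appTop (R := Γ(U.1.toScheme, ⊤)) (g ∣_ U.1 ≫ e.hom) hiso'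

end Groth.Agent.Lib.Helper22.SteinD
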