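import Mathlib
import Groth.Prelude
import Groth.Agent.Lib.Helper22SteinD
import Groth.Agent.S1340

/-!
# Stein factorization: counting geometric connected components (helper22)
-/

set_option autoImplicit false
set_option linter.style.haveILetI false
set_option linter.unusedSectionVars false
set_option linter.unusedVariables false
universe u
open CategoryTheory Limits AlgebraicGeometry IsLocalRing Opposite TopologicalSpace

namespace Groth.Agent.Lib.Helper22.SteinE

open Groth.Agent.Lib.Helper22.SteinD

/-- finitely many irreducible components ⇒ finitely many connected components. -/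
theorem finite_connectedComponents_of_finite_irreducibleComponents {α : Type*} [TopologicalSpace α]
    (h : (irreducibleComponents α).Finite) : Finite (ConnectedComponents α) := by
  classical
  haveI : Finite (irreducibleComponents α) := h.to_subtype
  have hne : ∀ Z : irreducibleComponents α, (Z.1).Nonempty := fun Z => Z.2.1.nonempty
  let pt : irreducibleComponents α → α := fun Z => (hne Z).some
  refine Finite.of_surjective (fun Z : irreducibleComponents α => (pt Z : ConnectedComponents α)) ?_
  intro c
  obtain ⟨x, rfl⟩ := ConnectedComponents.surjective_coe c
  refine ⟨⟨irreducibleComponent x, irreducibleComponent_mem_irreducibleComponents x⟩, ?_⟩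
  rw [ConnectedComponents.coe_eq_coe']
  have h1 : pt ⟨irreducibleComponent x, irreducibleComponent_mem_irreducibleComponents x⟩ ∈
      irreducibleComponent x :=
    (hne ⟨irreducibleComponent x, irreducibleComponent_mem_irreducibleComponents x⟩).some_mem
  have h2 : irreducibleComponent x ⊆ connectedComponent x :=
    isIrreducible_irreducibleComponent.isConnected.isPreconnected.subset_connectedComponent
      mem_irreducibleComponent
  exact h2 h1

/-- a closed continuous surjection with connected fibres induces a bijection on `π₀`. -/
noncomputable def connectedComponentsEquiv {α β : Type*} [TopologicalSpace α] [TopologicalSpace β]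
    {p : α → β} (hc : Continuous p) (hcl : IsClosedMap p) (hs : Function.Surjective p)
    (hfib : ∀ y, IsConnected (p ⁻¹' {y})) : ConnectedComponents α ≃ ConnectedComponents β :=
  ((hcl.isQuotientMap hc hs).isCoinducing.connectedComponentsHomeomorph hfib).toEquiv

/-- the geometric fibre of a proper morphism has finitely many connected components. -/
theorem nGeomConnComp_lt_top {X S : Scheme.{u}} (f : X ⟶ S) [IsProper f] (s : S) :
    MoreMor.nGeomConnComp f s < ⊤ := by
  unfold MoreMor.nGeomConnComp MoreMor.geomFiber
  rw [ENat.card_lt_top]
  let Ω := SeparableClosure (S.residueField s)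
  let q := Spec.map (CommRingCat.ofHom (algebraMap (S.residueField s) Ω))
  let p := pullback.snd (f.fiberToSpecResidueField s) q
  have hp0 : IsProper (f.fiberToSpecResidueField s) :=
    MorphismProperty.pullback_snd (P := @IsProper) _ _ inferInstance
  have hp : IsProper p := MorphismProperty.pullback_snd (P := @IsProper) _ _ hp0
  have hln : IsLocallyNoetherian (pullback (f.fiberToSpecResidueField s) q) :=
    LocallyOfFiniteType.isLocallyNoetherian p
  have hcs : CompactSpace ↥(pullback (f.fiberToSpecResidueField s) q) :=
    QuasiCompact.compactSpace_of_compactSpace p
  have hn : IsNoetherian (pullback (f.fiberToSpecResidueField s) q) := { }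
  have hns : NoetherianSpace ↥(pullback (f.fiberToSpecResidueField s) q) :=
    @IsNoetherian.noetherianSpace _ hn
  exact finite_connectedComponents_of_finite_irreducibleComponents
    (@NoetherianSpace.finite_irreducibleComponents _ _ hns)

/-- if `f = g ≫ h` with `g` proper and geometrically connected, then the geometric fibres of `f`
and `h` have the same number of connected components. -/
theorem nGeomConnComp_eq_of_comp {X S' S : Scheme.{u}} (f : X ⟶ S) (g : X ⟶ S') (h : S' ⟶ S)
    (hf : g ≫ h = f) [IsProper g] [GeometricallyConnected g] (s : S) :
    MoreMor.nGeomConnComp f s = MoreMor.nGeomConnComp h s := by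
  unfold MoreMor.nGeomConnComp MoreMor.geomFiber
  let Ω := SeparableClosure (S.residueField s)
  let q := Spec.map (CommRingCat.ofHom (algebraMap (S.residueField s) Ω))
  let c := q ≫ S.fromSpecResidueField s
  -- the two composite pullback squares
  have hX1 : IsPullback (pullback.fst (f.fiberToSpecResidueField s) q)
      (pullback.snd (f.fiberToSpecResidueField s) q) (f.fiberToSpecResidueField s) q :=
    IsPullback.of_hasPullback _ _
  have hX2 : IsPullback (f.fiberι s) (f.fiberToSpecResidueField s) f (S.fromSpecResidueField s) :=
    IsPullback.of_hasPullback _ _
  have hX : IsPullback (pullback.fst (f.fiberToSpecResidueField s) q ≫ f.fiberι s)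
      (pullback.snd (f.fiberToSpecResidueField s) q) f c := hX1.paste_horiz hX2
  have hS1 : IsPullback (pullback.fst (h.fiberToSpecResidueField s) q)
      (pullback.snd (h.fiberToSpecResidueField s) q) (h.fiberToSpecResidueField s) q :=
    IsPullback.of_hasPullback _ _
  have hS2 : IsPullback (h.fiberι s) (h.fiberToSpecResidueField s) h (S.fromSpecResidueField s) :=
    IsPullback.of_hasPullback _ _
  have hS : IsPullback (pullback.fst (h.fiberToSpecResidueField s) q ≫ h.fiberι s)
      (pullback.snd (h.fiberToSpecResidueField s) q) h c := hS1.paste_horiz hS2
  let a := pullback.fst (f.fiberToSpecResidueField s) q ≫ f.fiberι s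
  let b := pullback.fst (h.fiberToSpecResidueField s) q ≫ h.fiberι s
  let G : pullback (f.fiberToSpecResidueField s) q ⟶ pullback (h.fiberToSpecResidueField s) q :=
    hS.lift (a ≫ g) (pullback.snd (f.fiberToSpecResidueField s) q) (by
      rw [Category.assoc, hf]; exact hX.w)
  have hG1 : G ≫ b = a ≫ g := hS.lift_fst _ _ _
  have hG2 : G ≫ pullback.snd (h.fiberToSpecResidueField s) q =
      pullback.snd (f.fiberToSpecResidueField s) q := hS.lift_snd _ _ _
  have hpb : IsPullback a G g b := by
    have houter : IsPullback a (G ≫ pullback.snd (h.fiberToSpecResidueField s) q) (g ≫ h) c := by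
      rw [hG2, hf]; exact hX
    exact IsPullback.of_bot houter hG1.symm hS
  have hGprop : IsProper G := MorphismProperty.of_isPullback (P := @IsProper) hpb inferInstance
  have hGconn : GeometricallyConnected G :=
    MorphismProperty.of_isPullback (P := @GeometricallyConnected) hpb inferInstance
  exact ENat.card_congr (connectedComponentsEquiv G.continuous G.isClosedMap G.surjective
    G.isConnected_preimage_singleton)

end Groth.Agent.Lib.Helper22.SteinE
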