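import Mathlib
import Groth.Agent.S1340

/-!
# Stein factorization, generic lemmas (helper22)

* `isIso_app_of_basis`: `IsIso (f.app V)` for all `V` follows from a basis.
* `isIso_of_isAffineHom_of_isIso_app`: an affine morphism inducing isomorphisms on sections over
  affine opens is an isomorphism.
* `isIso_normalizationDesc`: if `f = a ≫ b` with `b` integral and `O_Z ≅ a_* O_X` then `Z` is the
  normalization of `Y` in `X`.
* `isIso_app_of_isPullback_of_flat`: the property `O_Z ≅ a_* O_X` is stable under flat base change.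
* `isIso_normalizationPullback_of_flat`: the Stein factorization of a universally closed
  quasi-compact quasi-separated morphism commutes with flat base change.
-/

set_option autoImplicit false
set_option linter.style.haveILetI false
set_option linter.unusedSectionVars false
set_option linter.unusedVariables false
universe u
open CategoryTheory CategoryTheory.Limits AlgebraicGeometry

namespace Groth.Agent.Lib.Helper22.SteinEtA

theorem isIso_app_of_basis {X Y : Scheme.{u}} (f : X ⟶ Y) {ι : Type*} (B : ι → Y.Opens)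
    (hB : TopologicalSpace.Opens.IsBasis (Set.range B))
    (h : ∀ i, IsIso (f.app (B i))) : ∀ V : Y.Opens, IsIso (f.app V) := by
  let F : TopCat.Sheaf CommRingCat Y := Y.sheaf
  let G : TopCat.Sheaf CommRingCat Y := (TopCat.Sheaf.pushforward CommRingCat f.base).obj X.sheaf
  let φ : F ⟶ G := ⟨f.c⟩
  haveI : IsIso φ := TopCat.Sheaf.isIso_iff_isIso_basis (B := B) hB (fun i => h i)
  intro V
  have h1 : IsIso ((TopCat.Sheaf.forget CommRingCat Y).map φ) := inferInstance
  have h2 : IsIso (((TopCat.Sheaf.forget CommRingCat Y).map φ).app (Opposite.op V)) := inferInstance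
  exact h2

theorem isIso_app_of_affine {X Y : Scheme.{u}} (f : X ⟶ Y)
    (h : ∀ V : Y.Opens, IsAffineOpen V → IsIso (f.app V)) : ∀ V : Y.Opens, IsIso (f.app V) := by
  have hbasis : TopologicalSpace.Opens.IsBasis
      (Set.range (fun U : Y.affineOpens => (U.1 : Y.Opens))) := by
    have := Y.isBasis_affineOpens
    rwa [← Subtype.range_coe (s := Y.affineOpens)] at this
  exact isIso_app_of_basis f (fun U : Y.affineOpens => (U.1 : Y.Opens)) hbasis (fun U => h U.1 U.2)

/-- an affine morphism inducing isomorphisms on sections over affine opens is an isomorphism. -/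
theorem isIso_of_isAffineHom_of_isIso_app {N Z : Scheme.{u}} (d : N ⟶ Z) [IsAffineHom d]
    (h : ∀ U : Z.Opens, IsAffineOpen U → IsIso (d.app U)) : IsIso d := by
  rw [← MorphismProperty.isomorphisms.iff,
    HasAffineProperty.eq_targetAffineLocally (P := MorphismProperty.isomorphisms Scheme)]
  intro U
  refine ⟨IsAffineHom.isAffine_preimage U.1 U.2, ?_⟩
  rw [morphismRestrict_appTop]
  have h1 := h (U.1.ι ''ᵁ ⊤) (by
    have : U.1.ι ''ᵁ ⊤ = U.1 := by simp
    rw [this]; exact U.2)
  have h3 : IsIso (N.presheaf.map (eqToHom (image_morphismRestrict_preimage d U.1 ⊤)).op) := by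
    infer_instance
  exact @IsIso.comp_isIso _ _ _ _ _ _ _ h1 h3

/-- if `f = a ≫ b` with `b` integral and `O_Z ≅ a_* O_X`, then `Z` is the normalization of `Y`
in `X`. -/
theorem isIso_normalizationDesc {X Y Z : Scheme.{u}} (f : X ⟶ Y) [UniversallyClosed f]
    [QuasiCompact f] [QuasiSeparated f] (a : X ⟶ Z) (b : Z ⟶ Y) [IsIntegralHom b] (H : f = a ≫ b)
    (ha : ∀ U : Z.Opens, IsIso (a.app U)) : IsIso (f.normalizationDesc a b H) := by
  haveI : IsAffineHom (f.normalizationDesc a b H) := inferInstance
  apply isIso_of_isAffineHom_of_isIso_app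
  intro U _
  have h1 : IsIso ((f.toNormalization ≫ f.normalizationDesc a b H).app U) := by
    rw [f.toNormalization_normalizationDesc a b H]; exact ha U
  rw [Scheme.Hom.comp_app] at h1
  have h2 : IsIso (f.toNormalization.app ((f.normalizationDesc a b H) ⁻¹ᵁ U)) :=
    Groth.Agent.S1340.result f _
  haveI := h1
  haveI := h2
  have h3 : (f.normalizationDesc a b H).app U =
      ((f.normalizationDesc a b H).app U ≫
        f.toNormalization.app ((f.normalizationDesc a b H) ⁻¹ᵁ U)) ≫
        inv (f.toNormalization.app ((f.normalizationDesc a b H) ⁻¹ᵁ U)) := by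
    rw [Category.assoc, IsIso.hom_inv_id, Category.comp_id]
  rw [h3]
  exact @IsIso.comp_isIso _ _ _ _ _ _ _ h1 inferInstance

/-- the property `O_Z ≅ a_* O_X` is stable under flat base change (`a` quasi-compact and
quasi-separated). -/
theorem isIso_app_of_isPullback_of_flat {X Z X' Z' : Scheme.{u}} (a : X ⟶ Z) [QuasiCompact a]
    [QuasiSeparated a] (ha : ∀ U : Z.Opens, IsIso (a.app U)) (g : Z' ⟶ Z) [Flat g]
    (g' : X' ⟶ X) (a' : X' ⟶ Z') (H : IsPullback g' a' a g) :
    ∀ U' : Z'.Opens, IsIso (a'.app U') := by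
  let ι := {p : Z.affineOpens × Z'.affineOpens // p.2.1 ≤ g ⁻¹ᵁ p.1.1}
  let B : ι → Z'.Opens := fun p => p.1.2.1
  have hB : TopologicalSpace.Opens.IsBasis (Set.range B) := by
    rw [TopologicalSpace.Opens.isBasis_iff_nbhd]
    intro V' x' hx'
    obtain ⟨_, ⟨U, hU, rfl⟩, hxU, -⟩ := Z.isBasis_affineOpens.exists_subset_of_mem_open
      (Set.mem_univ (g x')) isOpen_univ
    obtain ⟨_, ⟨U', hU', rfl⟩, hxU', hU'V⟩ := Z'.isBasis_affineOpens.exists_subset_of_mem_open
      (show x' ∈ ((V' ⊓ g ⁻¹ᵁ U : Z'.Opens) : Set Z') from ⟨hx', hxU⟩) (V' ⊓ g ⁻¹ᵁ U).2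
    refine ⟨U', ⟨⟨⟨⟨U, hU⟩, ⟨U', hU'⟩⟩, fun y hy => (hU'V hy).2⟩, rfl⟩, hxU', fun y hy => (hU'V hy).1⟩
  apply isIso_app_of_basis a' B hB
  rintro ⟨⟨⟨U, hU⟩, ⟨U', hU'⟩⟩, hUU'⟩
  change IsIso (a'.app U')
  have hUU'' : U' ≤ g ⁻¹ᵁ U := hUU'
  have hUSX : a ⁻¹ᵁ U ≤ a ⁻¹ᵁ U := le_rfl
  have hUY : a' ⁻¹ᵁ U' = g' ⁻¹ᵁ (a ⁻¹ᵁ U) ⊓ a' ⁻¹ᵁ U' := by
    rw [eq_comm, inf_eq_right, ← Scheme.Hom.comp_preimage, H.w, Scheme.Hom.comp_preimage]
    exact Scheme.Hom.preimage_mono _ hUU''
  have hiso := isIso_pushoutSection_of_isQuasiSeparated_of_flat_right H hUU'' hUSX hUY hU hU'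
    (a.isCompact_preimage hU.isCompact) (a.isQuasiSeparated_preimage hU.isQuasiSeparated)
  have hpo := (isIso_pushoutSection_iff H hUU'' hUSX hUY).mp hiso
  have e1 : a.appLE U (a ⁻¹ᵁ U) hUSX = a.app U := (Scheme.Hom.app_eq_appLE ..).symm
  have hUY' : a' ⁻¹ᵁ U' ≤ a' ⁻¹ᵁ U' := le_rfl
  have e2 : a'.appLE U' (a' ⁻¹ᵁ U') hUY' = a'.app U' := (Scheme.Hom.app_eq_appLE ..).symm
  have hf1 : IsIso (a.appLE U (a ⁻¹ᵁ U) hUSX) := e1 ▸ ha U
  have hf2 : IsIso (a.appLE U (a ⁻¹ᵁ U) hUSX).op := inferInstance
  have hpb := hpo.op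
  have : IsIso (a'.appLE U' (a' ⁻¹ᵁ U') hUY').op := hpb.isIso_fst_of_isIso
  rw [← e2]
  exact isIso_of_op _

/-- the first factor of the Stein factorization of the base change is the base change of the first
factor of the Stein factorization. -/
theorem isPullback_toNormalization {X S T : Scheme.{u}} (f : X ⟶ S) [QuasiCompact f]
    [QuasiSeparated f] (g : T ⟶ S) :
    IsPullback (pullback.fst f g)
      (pullback.map f g f.fromNormalization g f.toNormalization (𝟙 _) (𝟙 _)
        (by simp) (by simp))
      f.toNormalization (pullback.fst f.fromNormalization g) := by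
  have hright : IsPullback (pullback.snd f.fromNormalization g)
      (pullback.fst f.fromNormalization g) g f.fromNormalization :=
    (IsPullback.of_hasPullback _ _).flip
  have houter : IsPullback (pullback.snd f g) (pullback.fst f g) g f :=
    (IsPullback.of_hasPullback _ _).flip
  have h1 : pullback.map f g f.fromNormalization g f.toNormalization (𝟙 _) (𝟙 _)
      (by simp) (by simp) ≫ pullback.snd f.fromNormalization g = pullback.snd f g :=
    (pullback.lift_snd _ _ _).trans (Category.comp_id _)
  have h2 : pullback.map f g f.fromNormalization g f.toNormalization (𝟙 _) (𝟙 _)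
      (by simp) (by simp) ≫ pullback.fst f.fromNormalization g =
      pullback.fst f g ≫ f.toNormalization :=
    pullback.lift_fst _ _ _
  have houter' : IsPullback (pullback.map f g f.fromNormalization g f.toNormalization (𝟙 _) (𝟙 _)
      (by simp) (by simp) ≫ pullback.snd f.fromNormalization g) (pullback.fst f g) g
      (f.toNormalization ≫ f.fromNormalization) := by
    rw [h1, f.toNormalization_fromNormalization]; exact houter
  exact (IsPullback.of_right houter' h2 hright).flip

/-- the Stein factorization of a universally closed quasi-compact quasi-separated morphism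
commutes with flat base change. -/
theorem isIso_normalizationPullback_of_flat {X S T : Scheme.{u}} (f : X ⟶ S) [UniversallyClosed f]
    [QuasiCompact f] [QuasiSeparated f] (g : T ⟶ S) [Flat g] :
    IsIso (f.normalizationPullback g) := by
  haveI : UniversallyClosed (pullback.snd f g) :=
    MorphismProperty.pullback_snd (P := @UniversallyClosed) f g inferInstance
  haveI : Flat (pullback.fst f.fromNormalization g) :=
    MorphismProperty.pullback_fst (P := @Flat) f.fromNormalization g inferInstance
  have ha := isIso_app_of_isPullback_of_flat f.toNormalization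
    (fun U => Groth.Agent.S1340.result f U) (pullback.fst f.fromNormalization g)
    (pullback.fst f g) _ (isPullback_toNormalization f g)
  exact isIso_normalizationDesc (pullback.snd f g) _ (pullback.snd f.fromNormalization g) _ ha

end Groth.Agent.Lib.Helper22.SteinEtA
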