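import Mathlib
import Groth.Agent.Lib.Helper21UnitFibF
import Groth.Agent.Lib.Helper21SemicontB
import Groth.Agent.Lib.Helper18FinFlat1
import Groth.Agent.S0002

set_option autoImplicit false
set_option linter.style.haveILetI false
set_option linter.unusedSectionVars false
set_option linter.unusedVariables false
universe u
open CategoryTheory CategoryTheory.Limits AlgebraicGeometry

namespace Groth.Agent.Lib.Helper22.SteinEtB

open Groth.Agent.Lib.Helper21.TBridge Groth.Agent.Lib.Helper21.TFunG

/-- the geometric point over `s` with values in an extension `K` of `κ(s)`. -/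
noncomputable abbrev geomPt (S : Scheme.{u}) (s : S) (K : Type u) [Field K]
    [Algebra (S.residueField s) K] : Spec (CommRingCat.of K) ⟶ S :=
  Spec.map (CommRingCat.ofHom (algebraMap (S.residueField s) K)) ≫ S.fromSpecResidueField s

/-- pointwise version of helper21's `bijective_toGlobal_fiber_of_geometric`. -/
theorem bijective_toGlobal_fiber_at {X S : Scheme.{u}} (f : X ⟶ S) [IsProper f] (s : S)
    (K : Type u) [Field K] [IsAlgClosed K] [Algebra (S.residueField s) K]
    (hred : IsReduced (pullback f (geomPt S s K)))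
    (hconn : ConnectedSpace ↥(pullback f (geomPt S s K))) :
    Function.Bijective (Coh.toGlobal (f.fiberToSpecResidueField s)) := by
  let k := S.residueField s
  let a : Spec (CommRingCat.of K) ⟶ Spec (CommRingCat.of k) :=
    Spec.map (CommRingCat.ofHom (algebraMap k K))
  let g : Spec (CommRingCat.of K) ⟶ S := a ≫ S.fromSpecResidueField s
  have hred' : IsReduced (pullback f g) := hred
  have hconn' : ConnectedSpace ↥(pullback f g) := hconn
  letI : (f.fiber s).Over (Spec (CommRingCat.of k)) := CohIII.fiberOver f s
  letI : (pullback f g).Over (Spec (CommRingCat.of K)) := ⟨pullback.snd f g⟩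
  haveI : IsProper (pullback.snd f g) :=
    MorphismProperty.pullback_snd (P := @IsProper) f g inferInstance
  letI algY : Algebra K Γ(pullback f g, ⊤) :=
    (Groth.Agent.Lib.Helper6.H0Const.gsMap K (pullback.snd f g)).hom.toAlgebra
  haveI : Algebra.IsIntegral K Γ(pullback f g, ⊤) := by
    have := Groth.Agent.Lib.Helper6.H0Const.gsMap_isIntegral K (pullback.snd f g)
    exact ⟨this⟩
  haveI : Nonempty ↥(pullback f g : Scheme.{u}) := hconn'.toNonempty
  haveI : Nontrivial Γ(pullback f g, ⊤) := by
    obtain ⟨y⟩ := (inferInstance : Nonempty ↥(pullback f g : Scheme.{u}))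
    exact @Scheme.component_nontrivial (pullback f g) ⊤ ⟨⟨y, trivial⟩⟩
  have hbij : Function.Bijective (algebraMap K Γ(pullback f g, ⊤)) :=
    Groth.Agent.Lib.Helper6.H0Const.bijective_algebraMap_of_isAlgClosed K Γ(pullback f g, ⊤)
      (Groth.Agent.Lib.Helper6.H0Const.eq_zero_or_one_of_isIdempotentElem (Y := pullback f g))
  have hbij' : Function.Bijective
      (Coh.toGlobal ((pullback f g) ↘ Spec (CommRingCat.of K))) := hbij
  let jZ : pullback f g ⟶ f.fiber s := Limits.pullback.lift (pullback.fst f g)
    (pullback.snd f g ≫ a) (by rw [pullback.condition, Category.assoc])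
  have hj1 : jZ ≫ f.fiberι s = pullback.fst f g := Limits.pullback.lift_fst _ _ _
  have hj2 : jZ ≫ f.fiberToSpecResidueField s = pullback.snd f g ≫ a :=
    Limits.pullback.lift_snd _ _ _
  have hZ : IsPullback jZ ((pullback f g) ↘ Spec (CommRingCat.of K))
      (f.fiber s ↘ Spec (CommRingCat.of k)) (Spec.map (CommRingCat.ofHom (algebraMap k K))) := by
    have h' : IsPullback jZ (pullback.snd f g) (f.fiberToSpecResidueField s) a := by
      refine IsPullback.of_right ?_ hj2 (IsPullback.of_hasPullback f (S.fromSpecResidueField s))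
      have : jZ ≫ pullback.fst f (S.fromSpecResidueField s) = pullback.fst f g := hj1
      rw [this]
      exact IsPullback.of_hasPullback f g
    exact h'
  haveI : CompactSpace (f.fiber s) :=
    QuasiCompact.compactSpace_of_compactSpace (f.fiberToSpecResidueField s)
  haveI : QuasiSeparated (f.fiberToSpecResidueField s) :=
    MorphismProperty.pullback_snd (P := @QuasiSeparated) f _ inferInstance
  haveI : QuasiSeparatedSpace (f.fiber s) :=
    quasiSeparatedSpace_of_quasiSeparated (f.fiberToSpecResidueField s)
  exact (bijective_toGlobal_iff_of_field_ext k K (f.fiber s) (pullback f g) jZ hZ).1 hbij'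

/-- `κ(s) → Γ(X_s, O)` is bijective iff the zeroth Betti number of the fibre is one. -/
theorem betti_zero_eq_one_iff {X S : Scheme.{u}} (f : X ⟶ S) (s : S) :
    PerfAux.betti f (Coh.structureModule X) s 0 = 1 ↔
      Function.Bijective (Coh.toGlobal (f.fiberToSpecResidueField s)) := by
  letI : (f.fiber s).Over (Spec (CommRingCat.of (S.residueField s))) := CohIII.fiberOver f s
  have hrk : PerfAux.betti f (Coh.structureModule X) s 0 =
      Module.finrank (S.residueField s) (Coh.HH (f.fiber s) (Coh.structureModule (f.fiber s)) 0) :=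
    LinearEquiv.finrank_eq (Groth.Agent.Lib.Helper17.StalkBC.hhEquiv (S.residueField s)
      (pullbackUnitIso (f.fiberι s)) 0)
  rw [hrk]
  exact ⟨bijective_of_finrank_H0_eq_one (S.residueField s) (f.fiber s),
    finrank_H0_eq_one_of_bijective (S.residueField s) (f.fiber s)⟩

/-- the zeroth Betti number of a nonempty fibre of a proper morphism is positive. -/
theorem betti_zero_pos {X S : Scheme.{u}} (f : X ⟶ S) [IsProper f] (s : S)
    (hs : s ∈ Set.range f) : 0 < PerfAux.betti f (Coh.structureModule X) s 0 := by
  letI : (f.fiber s).Over (Spec (CommRingCat.of (S.residueField s))) := CohIII.fiberOver f s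
  have hrk : PerfAux.betti f (Coh.structureModule X) s 0 =
      Module.finrank (S.residueField s) (Coh.HH (f.fiber s) (Coh.structureModule (f.fiber s)) 0) :=
    LinearEquiv.finrank_eq (Groth.Agent.Lib.Helper17.StalkBC.hhEquiv (S.residueField s)
      (pullbackUnitIso (f.fiberι s)) 0)
  rw [hrk]
  haveI : IsProper ((f.fiber s) ↘ Spec (CommRingCat.of (S.residueField s))) :=
    MorphismProperty.pullback_snd (P := @IsProper) f _ inferInstance
  haveI hfin : Module.Finite (S.residueField s)
      (Coh.HH (f.fiber s) (Coh.structureModule (f.fiber s)) 0) :=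
    Groth.Agent.S0002.result (S.residueField s) (f.fiber s) _
      (Groth.Agent.Lib.Helper4.Dev.isCoh_structureModule (f.fiber s)) 0
  haveI : Nonempty ↥(f.fiber s) := by
    obtain ⟨x, hx⟩ := hs
    have : x ∈ Set.range (f.fiberι s) := by
      rw [Scheme.Hom.range_fiberι]; exact hx
    obtain ⟨z, -⟩ := this
    exact ⟨z⟩
  haveI : Nontrivial Γ(f.fiber s, ⊤) := by
    obtain ⟨y⟩ := (inferInstance : Nonempty ↥(f.fiber s))
    exact @Scheme.component_nontrivial (f.fiber s) ⊤ ⟨⟨y, trivial⟩⟩
  let e := (h0LinearEquiv (S.residueField s) (Coh.structureModule (f.fiber s)))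
  let ι₀ := gsUnitAddEquiv (S.residueField s) (X := f.fiber s)
  haveI : Nontrivial (Coh.HH (f.fiber s) (Coh.structureModule (f.fiber s)) 0) := by
    obtain ⟨a, b, hab⟩ := exists_pair_ne Γ(f.fiber s, ⊤)
    refine ⟨e (ι₀.symm a), e (ι₀.symm b), fun h => hab ?_⟩
    exact ι₀.symm.injective (e.injective h)
  exact Module.finrank_pos

/-- if every point of the base specializes to `s₀` and `κ(s₀) → Γ(X_{s₀}, O)` is bijective then
`κ(s) → Γ(X_s, O)` is bijective for all `s` (`f` proper, flat, of finite presentation). -/
theorem bijective_toGlobal_fiber_of_specializes {X S : Scheme.{u}} (f : X ⟶ S) [IsProper f]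
    [Flat f] [LocallyOfFinitePresentation f] (s₀ : S) (hs₀ : ∀ s : S, s ⤳ s₀)
    (h : Function.Bijective (Coh.toGlobal (f.fiberToSpecResidueField s₀))) (s : S) :
    Function.Bijective (Coh.toGlobal (f.fiberToSpecResidueField s)) := by
  have hopen := Groth.Agent.Lib.Helper21.Semicont.isOpen_betti_lt f (Coh.structureModule X)
    (Groth.Agent.Helper18FinFlat.isFinitePresentation_structureModule X)
    (isFlatOver_structureModule f) 0 2
  have h0 : s₀ ∈ {s : S | PerfAux.betti f (Coh.structureModule X) s 0 < 2} := by
    have := (betti_zero_eq_one_iff f s₀).2 h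
    show PerfAux.betti f (Coh.structureModule X) s₀ 0 < 2
    omega
  have hs : PerfAux.betti f (Coh.structureModule X) s 0 < 2 := (hs₀ s).mem_open hopen h0
  -- `s₀` is in the image of `f`
  have hs₀r : s₀ ∈ Set.range f := by
    by_contra hne
    have hempty : IsEmpty ↥(f.fiber s₀) := by
      refine ⟨fun z => hne ?_⟩
      have : f.fiberι s₀ z ∈ Set.range (f.fiberι s₀) := ⟨z, rfl⟩
      rw [Scheme.Hom.range_fiberι] at this
      exact ⟨_, this⟩
    have hsub : Subsingleton Γ(f.fiber s₀, ⊤) := by
      have : (⊤ : (f.fiber s₀).Opens) = ⊥ := by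
        ext x
        exact (hempty.false x).elim
      rw [this]
      exact (inferInstance : Subsingleton Γ(f.fiber s₀, ⊥))
    have h01 : (0 : S.residueField s₀) = 1 := h.1 (hsub.elim _ _)
    exact zero_ne_one h01
  have hsr : s ∈ Set.range f := by
    obtain ⟨x₀, hx₀⟩ := hs₀r
    have hgen := Flat.generalizingMap f
    have hspec : s ⤳ f x₀ := hx₀ ▸ hs₀ s
    obtain ⟨x', -, hx'⟩ := hgen hspec
    exact ⟨x', hx'⟩
  have hpos := betti_zero_pos f s hsr
  refine (betti_zero_eq_one_iff f s).1 ?_
  omega

end Groth.Agent.Lib.Helper22.SteinEtB
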