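import Mathlib
import Groth.Prelude
import Groth.Agent.Lib.Helper22SteinD
import Groth.Agent.S1340
import Groth.Agent.S0701

/-!
# Stein factorization and base change: the comparison map is a universal homeomorphism (helper22)
-/

set_option autoImplicit false
set_option linter.style.haveILetI false
set_option linter.unusedSectionVars false
set_option linter.unusedVariables false
universe u
open CategoryTheory Limits AlgebraicGeometry IsLocalRing Opposite TopologicalSpace

namespace Groth.Agent.Lib.Helper22.SteinF

open Groth.Agent.Lib.Helper22.SteinD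

/-- the first factor of the Stein factorization of a proper morphism is proper. -/
theorem isProper_toNormalization {X S : Scheme.{u}} (f : X ⟶ S) [IsProper f] :
    IsProper f.toNormalization := by
  have hc : IsProper (f.toNormalization ≫ f.fromNormalization) := by
    rw [f.toNormalization_fromNormalization]; infer_instance
  exact IsProper.of_comp f.toNormalization f.fromNormalization

/-- Stein factorization: the first factor has geometrically connected fibres. -/
theorem geometricallyConnected_toNormalization {X S : Scheme.{u}} (f : X ⟶ S) [IsProper f] :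
    GeometricallyConnected f.toNormalization := by
  haveI := isProper_toNormalization f
  exact geometricallyConnected_of_isIso_app f.toNormalization
    (fun U => Groth.Agent.S1340.result f U)

/-- an algebra integral over a field with connected spectrum has exactly one prime. -/
theorem subsingleton_primeSpectrum_of_isIntegral {K B : Type u} [Field K] [CommRing B]
    (ι : K →+* B) (hι : ι.IsIntegral) [PreconnectedSpace (PrimeSpectrum B)] :
    Subsingleton (PrimeSpectrum B) := by
  letI := ι.toAlgebra
  haveI : Algebra.IsIntegral K B := ⟨hι⟩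
  have hmax : ∀ I : Ideal B, I.IsPrime → I.IsMaximal := by
    intro I hI
    refine Ideal.isMaximal_of_isIntegral_of_isMaximal_comap (R := K) I ?_
    have hbot : I.comap (algebraMap K B) = ⊥ := Ideal.eq_bot_of_prime _
    rw [hbot]
    exact Ideal.bot_isMaximal
  haveI := Groth.Agent.S0701.t2Space_of_forall_isMaximal hmax
  refine ⟨fun x y => ?_⟩
  by_contra hxy
  have hne : ¬ x.asIdeal ≤ y.asIdeal := fun hle =>
    hxy (PrimeSpectrum.ext ((hmax x.asIdeal x.isPrime).eq_of_le y.isPrime.ne_top hle))
  obtain ⟨f, hfx, hfy⟩ := Set.not_subset.1 hne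
  have hcl : IsClopen (PrimeSpectrum.basicOpen f : Set (PrimeSpectrum B)) :=
    ⟨(PrimeSpectrum.isCompact_basicOpen f).isClosed, (PrimeSpectrum.basicOpen f).isOpen⟩
  rcases isClopen_iff.mp hcl with h | h
  · have hy : y ∈ (PrimeSpectrum.basicOpen f : Set (PrimeSpectrum B)) := hfy
    rw [h] at hy
    exact hy
  · have hx : x ∈ (PrimeSpectrum.basicOpen f : Set (PrimeSpectrum B)) := h ▸ Set.mem_univ x
    exact hx hfx

/-- a connected scheme integral over a field has at most one rational point. -/
theorem section_unique {F : Scheme.{u}} {K : Type u} [Field K] (p : F ⟶ Spec (CommRingCat.of K))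
    [IsIntegralHom p] [ConnectedSpace F] (σ₁ σ₂ : Spec (CommRingCat.of K) ⟶ F)
    (h₁ : σ₁ ≫ p = 𝟙 _) (h₂ : σ₂ ≫ p = 𝟙 _) : σ₁ = σ₂ := by
  haveI : IsAffine F := isAffine_of_isAffineHom p
  apply ext_of_isAffine
  let e := Scheme.ΓSpecIso (CommRingCat.of K)
  let φ₁ : Γ(F, ⊤) →+* K := (σ₁.appTop ≫ e.hom).hom
  let φ₂ : Γ(F, ⊤) →+* K := (σ₂.appTop ≫ e.hom).hom
  let ι : K →+* Γ(F, ⊤) := (e.inv ≫ p.appTop).hom
  have hι : ι.IsIntegral := by
    have hp : (p.appTop).hom.IsIntegral := IsIntegralHom.isIntegral_app p ⊤ (isAffineOpen_top _)
    have he : (e.inv).hom.IsIntegral := RingHom.isIntegral_of_surjective _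
      ((ConcreteCategory.bijective_of_isIso e.inv).2)
    exact RingHom.IsIntegral.trans _ _ he hp
  have hφι₁ : ∀ c, φ₁ (ι c) = c := by
    intro c
    have : (e.inv ≫ p.appTop) ≫ (σ₁.appTop ≫ e.hom) = 𝟙 _ := by
      rw [Category.assoc, ← Category.assoc p.appTop, ← Scheme.Hom.comp_appTop, h₁]
      simp
    exact congrArg (fun g => g.hom c) this
  have hφι₂ : ∀ c, φ₂ (ι c) = c := by
    intro c
    have : (e.inv ≫ p.appTop) ≫ (σ₂.appTop ≫ e.hom) = 𝟙 _ := by
      rw [Category.assoc, ← Category.assoc p.appTop, ← Scheme.Hom.comp_appTop, h₂]
      simp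
    exact congrArg (fun g => g.hom c) this
  haveI : ConnectedSpace (PrimeSpectrum Γ(F, ⊤)) :=
    (F.isoSpec.hom.homeomorph.surjective.connectedSpace F.isoSpec.hom.homeomorph.continuous :
      ConnectedSpace ↥(Spec Γ(F, ⊤)))
  have hss := subsingleton_primeSpectrum_of_isIntegral ι hι
  have hker : RingHom.ker φ₁ = RingHom.ker φ₂ :=
    congrArg PrimeSpectrum.asIdeal
      (Subsingleton.elim (⟨RingHom.ker φ₁, RingHom.ker_isPrime φ₁⟩ : PrimeSpectrum Γ(F, ⊤))
        ⟨RingHom.ker φ₂, RingHom.ker_isPrime φ₂⟩)
  have hφ : φ₁ = φ₂ := by
    ext b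
    have hb : b - ι (φ₁ b) ∈ RingHom.ker φ₁ := by
      rw [RingHom.mem_ker, map_sub, hφι₁, sub_self]
    rw [hker, RingHom.mem_ker, map_sub, hφι₂, sub_eq_zero] at hb
    exact hb.symm
  have h3 : σ₁.appTop ≫ e.hom = σ₂.appTop ≫ e.hom := CommRingCat.hom_ext hφ
  exact (cancel_mono e.hom).mp h3

/-- an integral, universally injective, surjective morphism is a universal homeomorphism. -/
theorem isUnivHomeo_of_isIntegralHom {X Y : Scheme.{u}} (f : X ⟶ Y) [IsIntegralHom f]
    [UniversallyInjective f] [Surjective f] : FlatMor.IsUnivHomeo f := by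
  intro X' Y' i₁ i₂ f' hpb
  haveI : IsIntegralHom f' := MorphismProperty.of_isPullback hpb.flip ‹IsIntegralHom f›
  haveI : UniversallyInjective f' :=
    MorphismProperty.of_isPullback hpb.flip ‹UniversallyInjective f›
  haveI : Surjective f' := MorphismProperty.of_isPullback hpb.flip ‹Surjective f›
  show IsHomeomorph f'
  rw [isHomeomorph_iff_continuous_isClosedMap_bijective]
  exact ⟨f'.continuous, f'.isClosedMap, f'.injective, f'.surjective⟩

/-- Stein factorization and base change: the comparison map from the Stein factor of the base
change to the base change of the Stein factor is a universal homeomorphism. -/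
theorem isUnivHomeo_normalizationPullback {X S T : Scheme.{u}} (f : X ⟶ S) [IsProper f]
    (g : T ⟶ S) : FlatMor.IsUnivHomeo (f.normalizationPullback g) := by
  haveI hprop := isProper_toNormalization f
  haveI hgc := geometricallyConnected_toNormalization f
  haveI hpropT := isProper_toNormalization (pullback.snd f g)
  haveI hgcT := geometricallyConnected_toNormalization (pullback.snd f g)
  let G' : pullback f g ⟶ pullback f.fromNormalization g :=
    pullback.map _ _ _ _ f.toNormalization (𝟙 _) (𝟙 _) (by simp) (by simp)
  have hG'ν : (pullback.snd f g).toNormalization ≫ f.normalizationPullback g = G' :=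
    Scheme.Hom.toNormalization_normalizationDesc ..
  have hG'snd : G' ≫ pullback.snd f.fromNormalization g = pullback.snd f g :=
    (pullback.lift_snd _ _ _).trans (Category.comp_id _)
  have hG'fst : G' ≫ pullback.fst f.fromNormalization g = pullback.fst f g ≫ f.toNormalization :=
    pullback.lift_fst _ _ _
  have hpbG' : IsPullback (pullback.fst f g) G' f.toNormalization
      (pullback.fst f.fromNormalization g) := by
    have houter : IsPullback (pullback.fst f g) (G' ≫ pullback.snd f.fromNormalization g)
        (f.toNormalization ≫ f.fromNormalization) g := by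
      rw [hG'snd, f.toNormalization_fromNormalization]
      exact IsPullback.of_hasPullback f g
    exact IsPullback.of_bot houter hG'fst.symm (IsPullback.of_hasPullback _ _)
  haveI hG'gc : GeometricallyConnected G' :=
    MorphismProperty.of_isPullback (P := @GeometricallyConnected) hpbG' hgc
  haveI : Surjective (f.normalizationPullback g) := by
    haveI : Surjective ((pullback.snd f g).toNormalization ≫ f.normalizationPullback g) := by
      rw [hG'ν]; infer_instance
    exact Surjective.of_comp (pullback.snd f g).toNormalization (f.normalizationPullback g)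
  haveI : UniversallyInjective (f.normalizationPullback g) := by
    apply ((tfae_universallyInjective (f.normalizationPullback g)).out 0 1).mpr
    intro K _ x₁ x₂ hx
    simp only at hx
    let ν := f.normalizationPullback g
    let z := x₁ ≫ ν
    let p := pullback.snd ν z
    let σ₁ : Spec (CommRingCat.of K) ⟶ pullback ν z := pullback.lift x₁ (𝟙 _) (by simp [z])
    let σ₂ : Spec (CommRingCat.of K) ⟶ pullback ν z :=
      pullback.lift x₂ (𝟙 _) (by simp only [z, Category.id_comp]; exact hx.symm)
    -- connectedness of the fibre
    haveI hY : ConnectedSpace ↥(pullback G' z) :=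
      hG'gc.geometrically_connectedSpace z _ _ (IsPullback.of_hasPullback G' z)
    let m : pullback G' z ⟶ pullback ν z :=
      pullback.map G' z ν z (pullback.snd f g).toNormalization (𝟙 _) (𝟙 _)
        (by rw [hG'ν, Category.comp_id]) (by simp)
    have hm1 : m ≫ pullback.fst ν z = pullback.fst G' z ≫ (pullback.snd f g).toNormalization :=
      pullback.lift_fst _ _ _
    have hm2 : m ≫ pullback.snd ν z = pullback.snd G' z :=
      (pullback.lift_snd _ _ _).trans (Category.comp_id _)
    have hsq : IsPullback m (pullback.fst G' z) (pullback.fst ν z)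
        (pullback.snd f g).toNormalization := by
      have houter : IsPullback (m ≫ pullback.snd ν z) (pullback.fst G' z) z
          ((pullback.snd f g).toNormalization ≫ ν) := by
        rw [hm2, hG'ν]
        exact (IsPullback.of_hasPullback G' z).flip
      exact IsPullback.of_right houter hm1 (IsPullback.of_hasPullback ν z).flip
    haveI hmsurj : Surjective m :=
      MorphismProperty.of_isPullback (P := @Surjective) hsq.flip inferInstance
    haveI hF : ConnectedSpace ↥(pullback ν z) := m.surjective.connectedSpace m.continuous
    have hσ := section_unique p σ₁ σ₂ (pullback.lift_snd ..) (pullback.lift_snd ..)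
    calc x₁ = σ₁ ≫ pullback.fst ν z := (pullback.lift_fst ..).symm
      _ = σ₂ ≫ pullback.fst ν z := by rw [hσ]
      _ = x₂ := pullback.lift_fst ..
  exact isUnivHomeo_of_isIntegralHom _

end Groth.Agent.Lib.Helper22.SteinF
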