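import Mathlib
import Groth.Agent.Lib.Helper22SteinEtA
import Groth.Agent.Lib.Helper22SteinEtB
import Groth.Agent.Lib.Helper22SteinF
import Groth.Agent.Lib.Helper22SteinB
import Groth.Agent.Lib.Helper22SteinE
import Groth.Agent.Lib.Helper22Pi0HensE

set_option autoImplicit false
set_option linter.style.haveILetI false
set_option linter.unusedSectionVars false
set_option linter.unusedVariables false
universe u
open CategoryTheory CategoryTheory.Limits AlgebraicGeometry

namespace Groth.Agent.Lib.Helper22.SteinEtC

open Groth.Agent.Lib.Helper22.SteinEtA Groth.Agent.Lib.Helper22.SteinEtB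
  Groth.Agent.Lib.Helper22.SteinF Groth.Agent.Lib.Helper21.TBridge
  Groth.Agent.Lib.Helper22.SteinB Groth.Agent.Lib.Helper22.SteinE
  Groth.Agent.Lib.Helper22.Pi0HensA Groth.Agent.Lib.Helper22.Pi0HensE
open IsLocalRing

theorem isOpen_connectedComponent_of_finite {α : Type*} [TopologicalSpace α]
    [Finite (ConnectedComponents α)] (x : α) : IsOpen (connectedComponent x) := by
  rw [← isClosed_compl_iff]
  have h : (connectedComponent x)ᶜ =
      ⋃ c ∈ {c : ConnectedComponents α | c ≠ (x : ConnectedComponents α)},
        ((↑) : α → ConnectedComponents α) ⁻¹' {c} := by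
    ext y
    simp only [Set.mem_compl_iff, Set.mem_iUnion, Set.mem_ofPred_eq, Set.mem_preimage,
      Set.mem_singleton_iff, exists_prop]
    constructor
    · intro hy
      refine ⟨(y : ConnectedComponents α), fun h => hy ?_, rfl⟩
      exact ConnectedComponents.coe_eq_coe'.mp h
    · rintro ⟨c, hc, rfl⟩ hy
      exact hc (ConnectedComponents.coe_eq_coe'.mpr hy)
  rw [h]
  refine Set.Finite.isClosed_biUnion (Set.toFinite _) (fun c _ => ?_)
  obtain ⟨z, rfl⟩ := ConnectedComponents.surjective_coe c
  rw [connectedComponents_preimage_singleton]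
  exact isClosed_connectedComponent

theorem clopen_of_connected_fibers {α β : Type*} [TopologicalSpace α] [TopologicalSpace β]
    {t : α → β} (hc : IsClosedMap t) (hsurj : Function.Surjective t)
    (hfib : ∀ b, IsPreconnected (t ⁻¹' {b})) {W : Set α} (hW : IsClopen W) :
    IsClopen ((t '' Wᶜ)ᶜ) ∧ t ⁻¹' ((t '' Wᶜ)ᶜ) = W := by
  have key : ∀ (W : Set α), IsClopen W → ∀ x ∈ W, ∀ x', t x' = t x → x' ∈ W := by
    intro W hW x hx x' hxx'
    have h1 := (hfib (t x)).subset_isClopen hW ⟨x, rfl, hx⟩
    exact h1 hxx'
  have himg : t '' Wᶜ = (t '' W)ᶜ := by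
    ext b
    constructor
    · rintro ⟨x', hx', rfl⟩ ⟨x, hx, hxx'⟩
      exact hx' (key W hW x hx x' hxx'.symm)
    · intro hb
      obtain ⟨x, rfl⟩ := hsurj b
      exact ⟨x, fun hx => hb ⟨x, hx, rfl⟩, rfl⟩
  refine ⟨⟨?_, ?_⟩, ?_⟩
  · rw [himg, compl_compl]
    exact hc _ hW.1
  · rw [isOpen_compl_iff]
    exact hc _ hW.2.isClosed_compl
  · ext x
    simp only [Set.mem_preimage, Set.mem_compl_iff, Set.mem_image, not_exists, not_and]
    constructor
    · intro h
      by_contra hx
      exact h x hx rfl
    · intro hx x' hx' hxx'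
      exact hx' (key W hW x hx x' hxx')

/-- the base change of an open subscheme, as an open subscheme of the base change. -/
theorem range_pullback_map_ι {X S T : Scheme.{u}} (f : X ⟶ S) (σ : T ⟶ S) (U : X.Opens) :
    Set.range (pullback.map (U.ι ≫ f) σ f σ U.ι (𝟙 T) (𝟙 S) (by simp) (by simp)) =
      (pullback.fst f σ) ⁻¹' (U : Set X) := by
  rw [Scheme.Pullback.range_map]
  have h1 : Set.range (𝟙 T : T ⟶ T) = Set.univ := by
    rw [Set.range_eq_univ]
    exact fun x => ⟨x, rfl⟩
  rw [h1, Set.preimage_univ, Set.inter_univ, Scheme.Opens.range_ι]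

theorem connectedSpace_pullback_opens_ι {X S T : Scheme.{u}} (f : X ⟶ S) (σ : T ⟶ S)
    (U : X.Opens) (h : _root_.IsConnected ((pullback.fst f σ) ⁻¹' (U : Set X))) :
    ConnectedSpace ↥(pullback (U.ι ≫ f) σ) := by
  let j := pullback.map (U.ι ≫ f) σ f σ U.ι (𝟙 T) (𝟙 S) (by simp) (by simp)
  have hr : Set.range j = (pullback.fst f σ) ⁻¹' (U : Set X) := range_pullback_map_ι f σ U
  rw [← hr, ← Set.image_univ] at h
  have hne : Nonempty ↥(pullback (U.ι ≫ f) σ) := by
    obtain ⟨_, ⟨z, -, -⟩⟩ := h.nonempty
    exact ⟨z⟩
  have hpre : _root_.IsPreconnected (Set.univ : Set ↥(pullback (U.ι ≫ f) σ)) :=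
    (j.isOpenEmbedding.toIsInducing.isPreconnected_image).mp h.isPreconnected
  exact { toPreconnectedSpace := ⟨hpre⟩, toNonempty := hne }

theorem isReduced_pullback_opens_ι {X S T : Scheme.{u}} (f : X ⟶ S) (σ : T ⟶ S)
    (U : X.Opens) (h : IsReduced (pullback f σ)) : IsReduced (pullback (U.ι ≫ f) σ) :=
  isReduced_of_isOpenImmersion
    (pullback.map (U.ι ≫ f) σ f σ U.ι (𝟙 T) (𝟙 S) (by simp) (by simp))

section Local

variable (A : Type u) [CommRing A] [IsLocalRing A]

/-- the closed point of `Spec A`. -/
noncomputable abbrev cp : ↥(Spec (CommRingCat.of A)) := (closedPoint A : PrimeSpectrum A)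

/-- a ring homomorphism from the residue field `A ⧸ m` to a field `K` makes `K` an algebra over the
residue field of `Spec A` at the closed point, compatibly. -/
theorem exists_algebra_geomPt (K : Type u) [Field K] (c : ResidueField A →+* K) :
    ∃ (alg : Algebra ((Spec (CommRingCat.of A)).residueField (cp A)) K),
      @geomPt (Spec (CommRingCat.of A)) (cp A) K _ alg =
        Spec.map (CommRingCat.ofHom (c.comp (residue A))) := by
  obtain ⟨e, he⟩ := exists_iso_closedPoint A
  have he' : e.hom ≫ Spec.map (CommRingCat.ofHom (residue A)) =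
      (Spec (CommRingCat.of A)).fromSpecResidueField (cp A) := he
  let e' : Spec ((Spec (CommRingCat.of A)).residueField (cp A)) ≅
      Spec (CommRingCat.of (ResidueField A)) := e
  have he'' : e'.hom ≫ Spec.map (CommRingCat.ofHom (residue A)) =
      (Spec (CommRingCat.of A)).fromSpecResidueField (cp A) := he
  let q : Spec (CommRingCat.of K) ⟶ Spec ((Spec (CommRingCat.of A)).residueField (cp A)) :=
    Spec.map (CommRingCat.ofHom c) ≫ e'.inv
  let φ : (Spec (CommRingCat.of A)).residueField (cp A) ⟶ CommRingCat.of K := Spec.preimage q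
  have hφ : Spec.map φ = q := Spec.map_preimage q
  refine ⟨φ.hom.toAlgebra, ?_⟩
  letI := φ.hom.toAlgebra
  have h1 : CommRingCat.ofHom (algebraMap ((Spec (CommRingCat.of A)).residueField (cp A)) K) =
      φ := rfl
  have h2 : Spec.map (CommRingCat.ofHom (c.comp (residue A))) =
      Spec.map (CommRingCat.ofHom c) ≫ Spec.map (CommRingCat.ofHom (residue A)) := by
    rw [CommRingCat.ofHom_comp, Spec.map_comp]
  change Spec.map (CommRingCat.ofHom (algebraMap _ K)) ≫ _ = _
  rw [h1, hφ, h2, ← he'', Category.assoc, e'.inv_hom_id_assoc]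

/-- `κ → Γ(Y_κ, O)` is bijective at the closed point of a local ring with separably closed residue
field when the closed fibre is connected and the geometric closed fibre is reduced. -/
theorem bijective_toGlobal_closedPoint [IsSepClosed (ResidueField A)] {Y : Scheme.{u}}
    (fW : Y ⟶ Spec (CommRingCat.of A)) [IsProper fW]
    (K : Type u) [Field K] [IsAlgClosed K] (c : ResidueField A →+* K)
    (hred : IsReduced (pullback fW (Spec.map (CommRingCat.ofHom (c.comp (residue A))))))
    (hconn : ConnectedSpace ↥(pullback fW (Spec.map (CommRingCat.ofHom (residue A))))) :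
    Function.Bijective (Coh.toGlobal (fW.fiberToSpecResidueField (cp A))) := by
  obtain ⟨alg, halg⟩ := exists_algebra_geomPt A K c
  have h1 := connectedSpace_pullback_of_sepClosed (residue A) (c.comp (residue A)) c (RingHom.id _)
    (by rw [RingHom.id_comp]) fW hconn
  rw [← halg] at h1 hred
  exact @bijective_toGlobal_fiber_at _ _ fW _ (cp A) K _ _ alg hred h1

end Local

theorem isClosedImmersion_ι_of_isClosed {X : Scheme.{u}} (U : X.Opens)
    (hU : IsClosed (U : Set X)) : IsClosedImmersion U.ι := by
  apply IsClosedImmersion.of_isPreimmersion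
  rw [Scheme.Opens.range_ι]
  exact hU

/-- a clopen piece of the Stein factorization over which the fibres of `X` have only constant
functions maps isomorphically to the base. -/
theorem isIso_ι_fromNormalization {X S : Scheme.{u}} (f : X ⟶ S) [IsProper f] [Flat f]
    [LocallyOfFinitePresentation f] (V : f.normalization.Opens)
    (hV : IsClosed (V : Set f.normalization))
    (h : ∀ s : S, Function.Bijective
      (Coh.toGlobal (((f.toNormalization ⁻¹ᵁ V).ι ≫ f).fiberToSpecResidueField s))) :
    IsIso (V.ι ≫ f.fromNormalization) := by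
  haveI hVι : IsClosedImmersion V.ι := isClosedImmersion_ι_of_isClosed V hV
  haveI hUι : IsClosedImmersion (f.toNormalization ⁻¹ᵁ V).ι :=
    isClosedImmersion_ι_of_isClosed _ (hV.preimage f.toNormalization.continuous)
  let fW := (f.toNormalization ⁻¹ᵁ V).ι ≫ f
  haveI : IsProper fW := inferInstance
  haveI : Flat fW := inferInstance
  haveI : LocallyOfFinitePresentation fW := inferInstance
  have hiso : ∀ U : S.Opens, IsIso (fW.app U) := isIso_app_of_proper_flat_fp fW h
  let a := f.toNormalization ∣_ V
  let b := V.ι ≫ f.fromNormalization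
  have hab : a ≫ b = fW := by
    change (f.toNormalization ∣_ V) ≫ V.ι ≫ f.fromNormalization = _
    rw [← Category.assoc, morphismRestrict_ι, Category.assoc, f.toNormalization_fromNormalization]
  have ha : ∀ U' : (V : Scheme.{u}).Opens, IsIso (a.app U') := by
    intro U'
    change IsIso ((f.toNormalization ∣_ V).app U')
    rw [morphismRestrict_app]
    have h1 : IsIso (f.toNormalization.app (V.ι ''ᵁ U')) := Groth.Agent.S1340.result f _
    have h3 : IsIso (X.presheaf.map (eqToHom
        (image_morphismRestrict_preimage f.toNormalization V U')).op) := by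
      infer_instance
    exact @IsIso.comp_isIso _ _ _ _ _ _ _ h1 h3
  haveI : IsAffineHom b := inferInstance
  apply isIso_of_isAffineHom_of_isIso_app b
  intro U _
  have h1 : IsIso ((a ≫ b).app U) := by
    have key : ∀ (φ : _ ⟶ S), φ = fW → IsIso (φ.app U) := by
      rintro φ rfl
      exact hiso U
    exact key _ hab
  rw [Scheme.Hom.comp_app] at h1
  exact @IsIso.of_isIso_comp_right _ _ _ _ _ (b.app U) (a.app (b ⁻¹ᵁ U)) (ha (b ⁻¹ᵁ U)) h1

section Hens

variable (A : Type u) [CommRing A] [HenselianLocalRing A]

/-- every point of a proper scheme over a henselian local ring lies in a clopen subset whose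
trace on the closed fibre is connected. -/
theorem exists_clopen_connected {X : Scheme.{u}} (f : X ⟶ Spec (CommRingCat.of A)) [IsProper f]
    (x : X) :
    ∃ W : Set X, IsClopen W ∧ x ∈ W ∧
      _root_.IsConnected ((pullback.fst f (Spec.map (CommRingCat.ofHom (residue A)))) ⁻¹' W) := by
  let σ₀ : Spec (CommRingCat.of (ResidueField A)) ⟶ Spec (CommRingCat.of A) :=
    Spec.map (CommRingCat.ofHom (residue A))
  let ι₀ := pullback.fst f σ₀
  let p := pullback.snd f σ₀
  have hCL : CL ι₀ := CL_gen A f ι₀ p (IsPullback.of_hasPullback f σ₀)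
  -- the closed fibre is a Noetherian space
  have hp : IsProper p := MorphismProperty.pullback_snd (P := @IsProper) _ _ inferInstance
  have hln : IsLocallyNoetherian (pullback f σ₀) := LocallyOfFiniteType.isLocallyNoetherian p
  have hcs : CompactSpace ↥(pullback f σ₀) := QuasiCompact.compactSpace_of_compactSpace p
  have hn : IsNoetherian (pullback f σ₀) := { }
  have hns : TopologicalSpace.NoetherianSpace ↥(pullback f σ₀) :=
    @IsNoetherian.noetherianSpace _ hn
  haveI hfin : Finite (_root_.ConnectedComponents ↥(pullback f σ₀)) :=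
    finite_connectedComponents_of_finite_irreducibleComponents
      (@TopologicalSpace.NoetherianSpace.finite_irreducibleComponents _ _ hns)
  -- `x` specializes to a point of the closed fibre
  have hcl : IsClosed (f '' closure {x}) := f.isClosedMap _ isClosed_closure
  have hspec : f x ⤳ cp A := specializes_closedPoint (R := A) (f x)
  have hmem : cp A ∈ f '' closure {x} := by
    have h1 : f x ∈ f '' closure {x} := ⟨x, subset_closure rfl, rfl⟩
    exact hspec.mem_closed hcl h1
  obtain ⟨x₀, hx₀, hfx₀⟩ := hmem
  have hxx₀ : x ⤳ x₀ := specializes_iff_mem_closure.mpr hx₀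
  have hrange : x₀ ∈ Set.range ι₀ := by
    rw [Scheme.Pullback.range_fst]
    show f x₀ ∈ Set.range σ₀
    rw [hfx₀]
    obtain ⟨z⟩ : Nonempty ↥(Spec (CommRingCat.of (ResidueField A))) := inferInstance
    exact ⟨z, IsLocalRing.PrimeSpectrum.comap_residue A z⟩
  obtain ⟨z₀, hz₀⟩ := hrange
  have hC : IsClopen (connectedComponent z₀) :=
    ⟨isClosed_connectedComponent, isOpen_connectedComponent_of_finite z₀⟩
  obtain ⟨W', hW', hpre⟩ := hCL _ hC
  refine ⟨W', hW', ?_, ?_⟩
  · have hx₀W : x₀ ∈ W' := by
      rw [← hz₀]
      have : z₀ ∈ ⇑ι₀ ⁻¹' W' := hpre ▸ mem_connectedComponent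
      exact this
    exact hxx₀.mem_open hW'.2 hx₀W
  · show _root_.IsConnected (⇑ι₀ ⁻¹' W')
    rw [hpre]
    exact isConnected_connectedComponent

/-- **the Stein factorization over a strictly henselian local ring**: if `X` is proper, flat and of
finite presentation over a henselian local ring with separably closed residue field, with reduced
geometric closed fibre, then the second factor of the Stein factorization is étale. -/
theorem etale_fromNormalization_of_henselian [IsSepClosed (ResidueField A)] {X : Scheme.{u}}
    (f : X ⟶ Spec (CommRingCat.of A)) [IsProper f] [Flat f] [LocallyOfFinitePresentation f]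
    (K : Type u) [Field K] [IsAlgClosed K] (c : ResidueField A →+* K)
    (hred : IsReduced (pullback f (Spec.map (CommRingCat.ofHom (c.comp (residue A)))))) :
    Etale f.fromNormalization := by
  haveI := isProper_toNormalization f
  haveI := geometricallyConnected_toNormalization f
  let tn := f.toNormalization
  have hVn : ∀ n : f.normalization, ∃ V : f.normalization.Opens, n ∈ V ∧
      IsIso (V.ι ≫ f.fromNormalization) := by
    intro n
    obtain ⟨x, rfl⟩ := tn.surjective n
    obtain ⟨W, hW, hxW, hconn⟩ := exists_clopen_connected A f x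
    obtain ⟨hVc, hVpre⟩ := clopen_of_connected_fibers (t := ⇑tn) tn.isClosedMap tn.surjective
      (fun b => (tn.isConnected_preimage_singleton b).isPreconnected) hW
    let V : f.normalization.Opens := ⟨(tn '' Wᶜ)ᶜ, hVc.2⟩
    have hVpre' : ((tn ⁻¹ᵁ V : X.Opens) : Set X) = W := hVpre
    refine ⟨V, ?_, ?_⟩
    · show tn x ∈ (tn '' Wᶜ)ᶜ
      have : x ∈ ⇑tn ⁻¹' ((tn '' Wᶜ)ᶜ) := by
        rw [hVpre]; exact hxW
      exact this
    · apply isIso_ι_fromNormalization f V hVc.1
      let fW := (tn ⁻¹ᵁ V).ι ≫ f
      have hclimm : IsClosedImmersion (tn ⁻¹ᵁ V).ι :=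
        isClosedImmersion_ι_of_isClosed _ (hVc.1.preimage tn.continuous)
      haveI : IsProper fW := inferInstance
      haveI : Flat fW := inferInstance
      haveI : LocallyOfFinitePresentation fW := inferInstance
      have hcpb : Function.Bijective (Coh.toGlobal (fW.fiberToSpecResidueField (cp A))) := by
        apply bijective_toGlobal_closedPoint A fW K c
        · exact isReduced_pullback_opens_ι f _ _ hred
        · apply connectedSpace_pullback_opens_ι
          rw [hVpre']
          exact hconn
      exact bijective_toGlobal_fiber_of_specializes fW (cp A)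
        (fun s => specializes_closedPoint (R := A) s) hcpb
  choose V hnV hV using hVn
  have hcov : iSup V = ⊤ := by
    rw [eq_top_iff]
    intro n _
    exact TopologicalSpace.Opens.mem_iSup.mpr ⟨n, hnV n⟩
  rw [IsZariskiLocalAtSource.iff_of_iSup_eq_top (P := @Etale) V hcov]
  intro n
  haveI := hV n
  infer_instance

end Hens

end Groth.Agent.Lib.Helper22.SteinEtC
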