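import Mathlib
import Groth.Agent.Lib.Helper20EtLocalSch
import Groth.Agent.Lib.Helper6StalkIso

set_option autoImplicit false
set_option linter.style.haveILetI false
set_option linter.unusedSectionVars false
set_option linter.unusedVariables false
universe u
open CategoryTheory CategoryTheory.Limits AlgebraicGeometry

namespace Groth.Agent.Lib.Helper22.SteinEtD

open Groth.Agent.Lib.Helper20.EtLocal Groth.Agent.Lib.Helper6

/-- restriction of `f` over an open `V` is étale when `f` is étale (stalkwise) at all points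
over `V` (copied from helper3's `Helper3IsoFib`). -/
theorem etale_morphismRestrict_of_stalk {X Y : Scheme.{u}} (f : X ⟶ Y)
    [LocallyOfFinitePresentation f] (V : Y.Opens)
    (H : ∀ x : X, f x ∈ V → (f.stalkMap x).hom.Flat ∧ (f.stalkMap x).hom.FormallyUnramified) :
    Etale (f ∣_ V) := by
  rw [Etale.iff_flat_and_formallyUnramified]
  refine ⟨?_, ?_, inferInstance⟩
  · refine Flat.of_stalkMap _ (fun x => ?_)
    exact (RingHom.Flat.respectsIso.arrow_mk_iso_iff (morphismRestrictStalkMap f V x)).mpr
      (H x.1 x.2).1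
  · refine HasRingHomProperty.of_stalkMap RingHom.FormallyUnramified.ofLocalizationPrime
      (fun x => ?_)
    exact (RingHom.FormallyUnramified.respectsIso.arrow_mk_iso_iff
      (morphismRestrictStalkMap f V x)).mpr (H x.1 x.2).2

/-- the stalkwise étale locus is open. -/
theorem isOpen_stalk_etale_locus {X Y : Scheme.{u}} (f : X ⟶ Y) [LocallyOfFinitePresentation f] :
    IsOpen {x : X | (f.stalkMap x).hom.Flat ∧ (f.stalkMap x).hom.FormallyUnramified} := by
  rw [isOpen_iff_forall_mem_open]
  rintro x ⟨h1, h2⟩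
  obtain ⟨U, hxU, hU⟩ := exists_etale_nbhd f x h2 h1
  refine ⟨U, fun y hy => ?_, U.2, hxU⟩
  haveI : Flat (U.ι ≫ f) := inferInstance
  haveI : FormallyUnramified (U.ι ≫ f) := inferInstance
  exact ⟨flat_stalkMap_of_nbhd f y U hy, formallyUnramified_stalkMap_of_nbhd f y U hy⟩

/-- a ring-hom property of the stalk maps of the base change to `Spec O_{Y,y}` passes to the
stalk maps of the original morphism. -/
theorem stalkMap_prop_of_pullback_fromSpecStalk
    {Q : ∀ {R S : Type u} [CommRing R] [CommRing S], (R →+* S) → Prop}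
    (hQ : RingHom.RespectsIso Q) {N Y : Scheme.{u}} (π : N ⟶ Y) (y : Y)
    (n' : ↑(pullback π (Y.fromSpecStalk y)))
    (h : Q ((pullback.snd π (Y.fromSpecStalk y)).stalkMap n').hom) :
    Q (π.stalkMap (pullback.fst π (Y.fromSpecStalk y) n')).hom := by
  let j := pullback.fst π (Y.fromSpecStalk y)
  let πy := pullback.snd π (Y.fromSpecStalk y)
  haveI h1 : IsIso (j.stalkMap n') := isIso_stalkMap_fst_pullback_fromSpecStalk π y n'
  haveI h2 : IsIso ((Y.fromSpecStalk y).stalkMap (πy n')) :=
    isIso_stalkMap_of_flat_of_isPreimmersion _ _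
  have h3 : Q ((πy ≫ Y.fromSpecStalk y).stalkMap n').hom := by
    have := (hQ.cancel_left_isIso ((Y.fromSpecStalk y).stalkMap (πy n')) (πy.stalkMap n')).mpr h
    rw [← CommRingCat.hom_comp, ← Scheme.Hom.stalkMap_comp] at this
    exact this
  have key : ∀ (φ : pullback π (Y.fromSpecStalk y) ⟶ Y), φ = πy ≫ Y.fromSpecStalk y →
      Q (φ.stalkMap n').hom := by
    rintro φ rfl
    exact h3
  have h4 : Q ((j ≫ π).stalkMap n').hom := key _ pullback.condition
  refine (hQ.cancel_right_isIso (π.stalkMap (j n')) (j.stalkMap n')).mp ?_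
  rw [← CommRingCat.hom_comp, ← Scheme.Hom.stalkMap_comp]
  exact h4

/-- **spreading out étaleness**: if `π` is closed, locally of finite presentation and its base
change to `Spec O_{Y,y}` is étale, then `π` is étale over an open neighbourhood of `y`. -/
theorem exists_etale_restrict_of_stalk {N Y : Scheme.{u}} (π : N ⟶ Y)
    [LocallyOfFinitePresentation π] (hcl : IsClosedMap π) (y : Y)
    (het : Etale (pullback.snd π (Y.fromSpecStalk y))) :
    ∃ W : Y.Opens, y ∈ W ∧ Etale (π ∣_ W) := by
  let E : Set N := {x : N | (π.stalkMap x).hom.Flat ∧ (π.stalkMap x).hom.FormallyUnramified}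
  have hE : IsOpen E := isOpen_stalk_etale_locus π
  have hfib : ∀ n : N, π n = y → n ∈ E := by
    intro n hn
    have hr : n ∈ Set.range (pullback.fst π (Y.fromSpecStalk y)) := by
      rw [Scheme.Pullback.range_fst]
      show π n ∈ Set.range (Y.fromSpecStalk y)
      rw [hn]
      exact ⟨_, Y.fromSpecStalk_closedPoint⟩
    obtain ⟨n', rfl⟩ := hr
    exact ⟨stalkMap_prop_of_pullback_fromSpecStalk RingHom.Flat.respectsIso π y n'
        (Flat.stalkMap _ n'),
      stalkMap_prop_of_pullback_fromSpecStalk RingHom.FormallyUnramified.respectsIso π y n'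
        (FormallyUnramified.stalkMap _ n')⟩
  let W : Y.Opens := ⟨(π '' Eᶜ)ᶜ, (hcl _ hE.isClosed_compl).isOpen_compl⟩
  refine ⟨W, ?_, ?_⟩
  · rintro ⟨n, hnE, hn⟩
    exact hnE (hfib n hn)
  · apply etale_morphismRestrict_of_stalk π W
    intro n hn
    by_contra hnE
    exact hn ⟨n, hnE, rfl⟩

end Groth.Agent.Lib.Helper22.SteinEtD
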