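import Mathlib
import Groth.Agent.Lib.Helper22SteinEtC
import Groth.Agent.Lib.Helper22SteinEtD
import Groth.Agent.Lib.Helper22SteinC
import Groth.Agent.S1297

set_option autoImplicit false
set_option linter.style.haveILetI false
set_option linter.unusedSectionVars false
set_option linter.unusedVariables false
universe u
open CategoryTheory CategoryTheory.Limits AlgebraicGeometry IsLocalRing

namespace Groth.Agent.Lib.Helper22.SteinEtE

open Groth.Agent.Lib.Helper22.SteinEtA Groth.Agent.Lib.Helper22.SteinEtB
  Groth.Agent.Lib.Helper22.SteinEtC Groth.Agent.Lib.Helper22.SteinEtD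
  Groth.Agent.Lib.Helper3.Sh Groth.Agent.Lib.Helper6

/-- the strict henselization of a local ring, with a compatible embedding of its residue field
into a given algebraically closed extension of the residue field. -/
theorem exists_sh_data_algClosed (Rp : Type u) [CommRing Rp] [IsLocalRing Rp] {K : Type u} [Field K]
    [IsAlgClosed K] (ℓ : ResidueField Rp →+* K) :
    ∃ (A : Type u) (_ : CommRing A) (_ : HenselianLocalRing A) (φ : Rp →+* A) (_ : φ.Flat)
      (_ : IsSepClosed (ResidueField A)) (c : ResidueField A →+* K),
      ∀ x, c (residue A (φ x)) = ℓ (residue Rp x) := by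
  let κ := ResidueField Rp
  let Ω := SeparableClosure κ
  letI : Algebra Rp Ω := ((algebraMap κ Ω).comp (residue Rp)).toAlgebra
  haveI : IsScalarTower Rp κ Ω := IsScalarTower.of_algebraMap_eq (fun _ => rfl)
  let A := Rsh Rp Ω
  have hflat2 : (algebraMap Rp A).Flat := by
    rw [RingHom.flat_algebraMap_iff]
    infer_instance
  have hsc : IsSepClosure κ (ResidueField A) := isSepClosure
  have hsep : IsSepClosed (ResidueField A) := IsSepClosure.sep_closed κ
  haveI : Algebra.IsSeparable κ (ResidueField A) := IsSepClosure.separable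
  haveI : Algebra.IsAlgebraic κ (ResidueField A) := inferInstance
  letI : Algebra κ K := ℓ.toAlgebra
  let c₀ : ResidueField A →ₐ[κ] K := IsAlgClosed.lift
  refine ⟨A, inferInstance, inferInstance, algebraMap Rp A, hflat2, hsep, c₀.toRingHom,
    fun x => ?_⟩
  have h1 : algebraMap κ (ResidueField A) (residue Rp x) = residue A (algebraMap Rp A x) :=
    ResidueField.map_residue _ x
  rw [← h1]
  have h := c₀.commutes (residue Rp x)
  rw [RingHom.algebraMap_toAlgebra] at h
  exact h

/-- a ring homomorphism of local rings compatible with an injective map on residue fields is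
local. -/
theorem isLocalHom_of_residue {R A K : Type u} [CommRing R] [IsLocalRing R] [CommRing A]
    [IsLocalRing A] [Field K] (φ : R →+* A) (ℓ : ResidueField R →+* K) (c : ResidueField A →+* K)
    (h : ∀ x, c (residue A (φ x)) = ℓ (residue R x)) : IsLocalHom φ := by
  refine ⟨fun x hx => ?_⟩
  by_contra hnu
  have h1 : residue R x = 0 := (residue_eq_zero_iff x).mpr ((mem_maximalIdeal x).mpr hnu)
  have h2 : c (residue A (φ x)) = 0 := by rw [h, h1, map_zero]
  have h3 : residue A (φ x) = 0 := (map_eq_zero c).mp h2
  have h4 : φ x ∈ maximalIdeal A := (residue_eq_zero_iff _).mp h3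
  exact ((mem_maximalIdeal _).mp h4) hx

/-- **the Stein factorization is étale near a point with reduced geometric fibre** (locally
Noetherian base). -/
theorem exists_etale_nbhd_of_noetherian {X Y : Scheme.{u}} (f : X ⟶ Y) [IsProper f] [Flat f]
    [IsLocallyNoetherian Y] (y : Y) (Ω : Type u) [Field Ω] [IsAlgClosed Ω]
    [Algebra (Y.residueField y) Ω] (hred : IsReduced (pullback f (geomPt Y y Ω))) :
    ∃ W : Y.Opens, y ∈ W ∧ Etale (f.fromNormalization ∣_ W) := by
  haveI : LocallyOfFinitePresentation f :=
    LocallyOfFinitePresentation.iff_locallyOfFiniteType.mpr inferInstance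
  let π := f.fromNormalization
  haveI hfin : IsFinite π := Groth.Agent.S1297.result f
  haveI : LocallyOfFinitePresentation π :=
    LocallyOfFinitePresentation.iff_locallyOfFiniteType.mpr inferInstance
  -- the strict henselization
  let ℓ : ResidueField (Y.presheaf.stalk y) →+* Ω := algebraMap (Y.residueField y) Ω
  obtain ⟨A, _, _, φ, hφ, hsep, c, hc⟩ := exists_sh_data_algClosed (Y.presheaf.stalk y) ℓ
  haveI := hsep
  have hloc : IsLocalHom φ := isLocalHom_of_residue φ ℓ c hc
  let φ' : Y.presheaf.stalk y ⟶ CommRingCat.of A := CommRingCat.ofHom φ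
  let g₁ : Spec (CommRingCat.of A) ⟶ Spec (Y.presheaf.stalk y) := Spec.map φ'
  have hff : φ'.hom.FaithfullyFlat := by
    letI := φ.toAlgebra
    haveI : Module.Flat (Y.presheaf.stalk y) A := hφ
    haveI : IsLocalHom (algebraMap (Y.presheaf.stalk y) A) := hloc
    exact (Module.FaithfullyFlat.of_flat_of_isLocalHom :
      Module.FaithfullyFlat (Y.presheaf.stalk y) A)
  obtain ⟨hg₁flat, hg₁surj⟩ := (flat_and_surjective_SpecMap_iff φ').mpr hff
  let fss := Y.fromSpecStalk y
  let g : Spec (CommRingCat.of A) ⟶ Y := g₁ ≫ fss
  haveI : Flat g := inferInstance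
  let fA := pullback.snd f g
  -- the geometric point
  let τ : Spec (CommRingCat.of Ω) ⟶ Spec (CommRingCat.of A) :=
    Spec.map (CommRingCat.ofHom (c.comp (residue A)))
  have hgeom : τ ≫ g = geomPt Y y Ω := by
    have h1 : φ' ≫ CommRingCat.ofHom (c.comp (residue A)) =
        Y.residue y ≫ CommRingCat.ofHom (algebraMap (Y.residueField y) Ω) := by
      apply CommRingCat.hom_ext
      ext x
      exact hc x
    change Spec.map _ ≫ Spec.map φ' ≫ fss = _
    rw [← Category.assoc, ← Spec.map_comp, h1, Spec.map_comp, Category.assoc]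
    rfl
  have hredA : IsReduced (pullback fA τ) := by
    let e := pullbackLeftPullbackSndIso f g τ
    haveI : IsReduced (pullback f (τ ≫ g)) := by
      rw [hgeom]; exact hred
    exact isReduced_of_isOpenImmersion e.hom
  have hetA : Etale fA.fromNormalization := etale_fromNormalization_of_henselian A fA Ω c hredA
  haveI hiso : IsIso (f.normalizationPullback g) := isIso_normalizationPullback_of_flat f g
  have hsnd : Etale (pullback.snd π g) := by
    have h1 : f.normalizationPullback g ≫ pullback.snd π g = fA.fromNormalization :=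
      f.normalizationPullback_snd g
    have h2 : pullback.snd π g = inv (f.normalizationPullback g) ≫ fA.fromNormalization := by
      rw [← h1, IsIso.inv_hom_id_assoc]
    rw [h2]
    infer_instance
  -- descent to `Spec O_{Y,y}`
  let πy := pullback.snd π fss
  let l : pullback π g ⟶ pullback π fss := pullback.lift (pullback.fst π g)
    (pullback.snd π g ≫ g₁) (by rw [pullback.condition, Category.assoc])
  have hl1 : l ≫ pullback.fst π fss = pullback.fst π g := pullback.lift_fst _ _ _
  have hl2 : l ≫ πy = pullback.snd π g ≫ g₁ := pullback.lift_snd _ _ _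
  have hsq : IsPullback l (pullback.snd π g) πy g₁ := by
    refine IsPullback.of_right ?_ hl2 (IsPullback.of_hasPullback π fss)
    rw [hl1]
    exact IsPullback.of_hasPullback π g
  have hety : Etale πy :=
    MorphismProperty.of_isPullback_of_descendsAlong (P := @Etale)
      (Q := @Surjective ⊓ @Flat ⊓ @QuasiCompact) hsq.flip ⟨⟨hg₁surj, hg₁flat⟩, inferInstance⟩ hsnd
  exact exists_etale_restrict_of_stalk π π.isClosedMap y hety

end Groth.Agent.Lib.Helper22.SteinEtE
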