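import Mathlib
import Groth.Agent.Lib.Helper22SteinEtA
import Groth.Agent.Lib.Helper22SteinEtB
import Groth.Agent.Lib.Helper21UnitFibF
import Groth.Agent.Lib.Helper22SteinF

set_option autoImplicit false
set_option linter.style.haveILetI false
set_option linter.unusedSectionVars false
set_option linter.unusedVariables false
universe u
open CategoryTheory CategoryTheory.Limits AlgebraicGeometry

namespace Groth.Agent.Lib.Helper22.SteinEtF

open Groth.Agent.Lib.Helper22.SteinEtA Groth.Agent.Lib.Helper22.SteinEtB
  Groth.Agent.Lib.Helper21.TBridge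

/-- all geometric fibres are reduced. -/
def GeomRed {X S : Scheme.{u}} (f : X ⟶ S) : Prop :=
  ∀ (Ω : Type u) [Field Ω] [IsAlgClosed Ω] (σ : Spec (CommRingCat.of Ω) ⟶ S),
    IsReduced (pullback f σ)

theorem GeomRed.pullback_snd {X S S' : Scheme.{u}} {f : X ⟶ S} (h : GeomRed f) (j : S' ⟶ S) :
    GeomRed (pullback.snd f j) := by
  intro Ω _ _ σ
  haveI : IsReduced (pullback f (σ ≫ j)) := h Ω (σ ≫ j)
  exact isReduced_of_isOpenImmersion (pullbackLeftPullbackSndIso f j σ).hom

theorem GeomRed.of_isPullback {X S X' S' : Scheme.{u}} {f : X ⟶ S} (h : GeomRed f) {j : S' ⟶ S}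
    {p : X' ⟶ X} {f' : X' ⟶ S'} (hsq : IsPullback p f' f j) : GeomRed f' := by
  intro Ω _ _ σ
  haveI : IsReduced (pullback f (σ ≫ j)) := h Ω (σ ≫ j)
  have hbig : IsPullback (pullback.fst f' σ ≫ p) (pullback.snd f' σ) f (σ ≫ j) :=
    (IsPullback.of_hasPullback f' σ).paste_horiz hsq
  exact isReduced_of_isOpenImmersion hbig.isoPullback.hom

theorem hasOfPostcompProperty_isOpenImmersion :
    MorphismProperty.HasOfPostcompProperty @IsOpenImmersion
      (@LocallyOfFiniteType ⊓ @FormallyUnramified) := by
  rw [MorphismProperty.hasOfPostcompProperty_iff_le_diagonal]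
  intro X Y f ⟨hft, hfu⟩
  exact inferInstanceAs <| IsOpenImmersion (pullback.diagonal f)

theorem isOpenImmersion_of_section {Q Y : Scheme.{u}} (q : Q ⟶ Y) [Etale q] (s : Y ⟶ Q)
    (hs : s ≫ q = 𝟙 Y) : IsOpenImmersion s := by
  haveI := hasOfPostcompProperty_isOpenImmersion.{u}
  apply MorphismProperty.of_postcomp (W := @IsOpenImmersion)
    (W' := @LocallyOfFiniteType ⊓ @FormallyUnramified) s q ⟨inferInstance, inferInstance⟩
  rw [hs]; infer_instance

/-- **recognizing the Stein factorization**: if `f = a ≫ πN` with `πN` finite étale and `a`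
geometrically connected, and `f` is proper, flat, of finite presentation with reduced geometric
fibres, then `N` is the normalization of `S` in `X`. -/
theorem isIso_normalizationDesc_of_finite_etale {X S N : Scheme.{u}} (f : X ⟶ S) [IsProper f]
    [Flat f] [LocallyOfFinitePresentation f] (hred : GeomRed f) (a : X ⟶ N) (πN : N ⟶ S)
    [IsFinite πN] [Etale πN] (H : f = a ≫ πN) [GeometricallyConnected a] :
    IsIso (f.normalizationDesc a πN H) := by
  haveI : IsProper (a ≫ πN) := H ▸ (inferInstance : IsProper f)
  haveI : IsProper a := IsProper.of_comp a πN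
  -- the graph of `a`
  let Γa : X ⟶ pullback f πN := pullback.lift (𝟙 X) a (by rw [Category.id_comp, H])
  have hΓ1 : Γa ≫ pullback.fst f πN = 𝟙 X := pullback.lift_fst _ _ _
  have hΓ2 : Γa ≫ pullback.snd f πN = a := pullback.lift_snd _ _ _
  haveI : IsOpenImmersion Γa := isOpenImmersion_of_section (pullback.fst f πN) Γa hΓ1
  let q := pullback.snd f πN
  have key : ∀ (φ : X ⟶ N), φ = Γa ≫ q → Flat φ ∧ LocallyOfFinitePresentation φ ∧
      ∀ (Ω : Type u) [Field Ω] [IsAlgClosed Ω] (σ : Spec (CommRingCat.of Ω) ⟶ N),
        IsReduced (pullback φ σ) := by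
    rintro φ rfl
    refine ⟨inferInstance, inferInstance, ?_⟩
    intro Ω _ _ σ
    haveI : IsReduced (pullback f (σ ≫ πN)) := hred Ω (σ ≫ πN)
    haveI : IsReduced (pullback q σ) :=
      isReduced_of_isOpenImmersion (pullbackLeftPullbackSndIso f πN σ).hom
    exact isReduced_of_isOpenImmersion
      (pullback.map (Γa ≫ q) σ q σ Γa (𝟙 _) (𝟙 _) (by simp) (by simp))
  obtain ⟨hfl, hlfp, hreda⟩ := key a hΓ2.symm
  haveI := hfl
  haveI := hlfp
  have hbij : ∀ n : N, Function.Bijective (Coh.toGlobal (a.fiberToSpecResidueField n)) :=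
    bijective_toGlobal_fiber_of_geometric a (fun K _ _ g =>
      ⟨hreda K g, GeometricallyConnected.geometrically_connectedSpace _ _ _
        (IsPullback.of_hasPullback a g)⟩)
  have hiso : ∀ U : N.Opens, IsIso (a.app U) := isIso_app_of_proper_flat_fp a hbij
  exact isIso_normalizationDesc f a πN H hiso

/-- **base change of a finite étale Stein factor**: if `f` is a base change of a proper `f₀`
whose Stein factor is finite étale, and `f` is proper, flat, of finite presentation with reduced
geometric fibres, then the Stein factor of `f` is finite étale. -/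
theorem finite_etale_of_model {X S X₀ Y₀ : Scheme.{u}} (f : X ⟶ S) [IsProper f] [Flat f]
    [LocallyOfFinitePresentation f] (hred : GeomRed f) (f₀ : X₀ ⟶ Y₀) [IsProper f₀] (g : S ⟶ Y₀)
    (p : X ⟶ X₀) (hsq : IsPullback p f f₀ g) [IsFinite f₀.fromNormalization]
    [Etale f₀.fromNormalization] :
    IsFinite f.fromNormalization ∧ Etale f.fromNormalization := by
  let π₀ := f₀.fromNormalization
  let tn₀ := f₀.toNormalization
  let πN := pullback.snd π₀ g
  let a : X ⟶ pullback π₀ g := pullback.lift (p ≫ tn₀) f
    (by rw [Category.assoc, f₀.toNormalization_fromNormalization, hsq.w])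
  have ha1 : a ≫ pullback.fst π₀ g = p ≫ tn₀ := pullback.lift_fst _ _ _
  have H : f = a ≫ πN := (pullback.lift_snd _ _ _).symm
  have hpb : IsPullback p a tn₀ (pullback.fst π₀ g) := by
    refine IsPullback.of_bot ?_ ha1.symm (IsPullback.of_hasPullback π₀ g)
    rw [← H, f₀.toNormalization_fromNormalization]
    exact hsq
  haveI : GeometricallyConnected tn₀ :=
    Groth.Agent.Lib.Helper22.SteinF.geometricallyConnected_toNormalization f₀
  haveI : GeometricallyConnected a :=
    MorphismProperty.of_isPullback (P := @GeometricallyConnected) hpb inferInstance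
  haveI : IsFinite πN := inferInstance
  haveI : Etale πN := inferInstance
  haveI hiso : IsIso (f.normalizationDesc a πN H) :=
    isIso_normalizationDesc_of_finite_etale f hred a πN H
  have hcomp : f.normalizationDesc a πN H ≫ πN = f.fromNormalization :=
    f.normalizationDesc_comp a πN H
  rw [← hcomp]
  exact ⟨inferInstance, inferInstance⟩

end Groth.Agent.Lib.Helper22.SteinEtF
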