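import Mathlib
import Groth.Agent.Lib.Helper22SteinEtE
import Groth.Agent.Lib.Helper22SteinEtF

set_option autoImplicit false
set_option linter.style.haveILetI false
set_option linter.unusedSectionVars false
set_option linter.unusedVariables false
universe u
open CategoryTheory CategoryTheory.Limits AlgebraicGeometry

namespace Groth.Agent.Lib.Helper22.SteinEtG

open Groth.Agent.Lib.Helper22.SteinEtA Groth.Agent.Lib.Helper22.SteinEtB
  Groth.Agent.Lib.Helper22.SteinEtE Groth.Agent.Lib.Helper22.SteinEtF
  Groth.Agent.Lib.Helper21.TBridge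

/-- a property of the Stein factor which is local on the target can be checked on the Stein
factors of the restrictions to an open cover. -/
theorem fromNormalization_of_local (P : MorphismProperty Scheme.{u}) [IsZariskiLocalAtTarget P]
    {X S : Scheme.{u}} (f : X ⟶ S) [UniversallyClosed f] [QuasiCompact f] [QuasiSeparated f]
    (h : ∀ s : S, ∃ U : S.Opens, s ∈ U ∧ P ((pullback.snd f U.ι).fromNormalization)) :
    P f.fromNormalization := by
  choose U hsU hU using h
  have hcov : TopologicalSpace.IsOpenCover U := by
    rw [TopologicalSpace.IsOpenCover, eq_top_iff]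
    intro s _
    exact TopologicalSpace.Opens.mem_iSup.mpr ⟨s, hsU s⟩
  let 𝒰 := S.openCoverOfIsOpenCover U hcov
  refine (IsZariskiLocalAtTarget.iff_of_openCover (P := P) 𝒰).mpr (fun s => ?_)
  change P (pullback.snd f.fromNormalization (U s).ι)
  haveI : IsIso (f.normalizationPullback (U s).ι) := isIso_normalizationPullback_of_flat f _
  rw [← MorphismProperty.cancel_left_of_respectsIso P (f.normalizationPullback (U s).ι),
    f.normalizationPullback_snd]
  exact hU s

/-- the geometric point of `Y₀` induced by the geometric point of `S` over `s` valued in the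
algebraic closure of `κ(s)`. -/
theorem geomPt_comp {S Y₀ : Scheme.{u}} (g : S ⟶ Y₀) (s : S) :
    letI : Algebra (Y₀.residueField (g s)) (AlgebraicClosure (S.residueField s)) :=
      ((algebraMap (S.residueField s) (AlgebraicClosure (S.residueField s))).comp
        (g.residueFieldMap s).hom).toAlgebra
    geomPt Y₀ (g s) (AlgebraicClosure (S.residueField s)) =
      geomPt S s (AlgebraicClosure (S.residueField s)) ≫ g := by
  letI : Algebra (Y₀.residueField (g s)) (AlgebraicClosure (S.residueField s)) :=
    ((algebraMap (S.residueField s) (AlgebraicClosure (S.residueField s))).comp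
      (g.residueFieldMap s).hom).toAlgebra
  have h1 : CommRingCat.ofHom (algebraMap (Y₀.residueField (g s))
      (AlgebraicClosure (S.residueField s))) = g.residueFieldMap s ≫
      CommRingCat.ofHom (algebraMap (S.residueField s) (AlgebraicClosure (S.residueField s))) :=
    rfl
  change Spec.map _ ≫ _ = (Spec.map _ ≫ _) ≫ g
  rw [h1, Spec.map_comp, Category.assoc, Category.assoc,
    Scheme.Hom.SpecMap_residueFieldMap_fromSpecResidueField]
  rfl

/-- the quasi-compact quasi-separated case. -/
theorem finite_etale_fromNormalization_of_qcqs {X S : Scheme.{u}} (f : X ⟶ S) [IsProper f]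
    [Flat f] [LocallyOfFinitePresentation f] [CompactSpace S] [QuasiSeparatedSpace S]
    (hred : GeomRed f) : (@IsFinite ⊓ @Etale : MorphismProperty Scheme.{u}) f.fromNormalization := by
  obtain ⟨X₀, Y₀, f₀, g, p, hN, hp, hfl, hsq⟩ := exists_noetherian_model f
  haveI := hN
  haveI := hp
  haveI := hfl
  apply fromNormalization_of_local (@IsFinite ⊓ @Etale : MorphismProperty Scheme.{u}) f
  intro s
  let Ω := AlgebraicClosure (S.residueField s)
  letI : Algebra (Y₀.residueField (g s)) Ω :=
    ((algebraMap (S.residueField s) Ω).comp (g.residueFieldMap s).hom).toAlgebra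
  have hgeom : geomPt Y₀ (g s) Ω = geomPt S s Ω ≫ g := geomPt_comp g s
  have hred₀ : IsReduced (pullback f₀ (geomPt Y₀ (g s) Ω)) := by
    rw [hgeom]
    haveI : IsReduced (pullback f (geomPt S s Ω)) := hred Ω _
    have hbig : IsPullback (pullback.fst f (geomPt S s Ω) ≫ p) (pullback.snd f (geomPt S s Ω)) f₀
        (geomPt S s Ω ≫ g) := (IsPullback.of_hasPullback f (geomPt S s Ω)).paste_horiz hsq
    exact isReduced_of_isOpenImmersion hbig.isoPullback.inv
  obtain ⟨W₀, hyW₀, hetW₀⟩ := exists_etale_nbhd_of_noetherian f₀ (g s) Ω hred₀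
  let W : S.Opens := g ⁻¹ᵁ W₀
  refine ⟨W, hyW₀, ?_⟩
  let f' := pullback.snd f W.ι
  let g'' : (W : Scheme.{u}) ⟶ (W₀ : Scheme.{u}) := g ∣_ W₀
  have hg'' : g'' ≫ W₀.ι = W.ι ≫ g := morphismRestrict_ι g W₀
  let f₀' := pullback.snd f₀ W₀.ι
  have hcond : (pullback.fst f W.ι ≫ p) ≫ f₀ = (f' ≫ g'') ≫ W₀.ι := by
    rw [Category.assoc, hsq.w, ← Category.assoc, pullback.condition, Category.assoc,
      Category.assoc, hg'']
  let p'' : pullback f W.ι ⟶ pullback f₀ W₀.ι := pullback.lift (pullback.fst f W.ι ≫ p)
    (f' ≫ g'') hcond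
  have hp1 : p'' ≫ pullback.fst f₀ W₀.ι = pullback.fst f W.ι ≫ p := pullback.lift_fst _ _ _
  have hp2 : p'' ≫ f₀' = f' ≫ g'' := pullback.lift_snd _ _ _
  have hsq'' : IsPullback p'' f' f₀' g'' := by
    refine IsPullback.of_right ?_ hp2 (IsPullback.of_hasPullback f₀ W₀.ι)
    rw [hp1, hg'']
    exact (IsPullback.of_hasPullback f W.ι).paste_horiz hsq
  haveI : IsLocallyNoetherian (W₀ : Scheme.{u}) := isLocallyNoetherian_of_isOpenImmersion W₀.ι
  haveI : IsProper f₀' := MorphismProperty.pullback_snd (P := @IsProper) _ _ inferInstance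
  haveI : IsFinite f₀'.fromNormalization := Groth.Agent.S1297.result f₀'
  haveI : Etale f₀'.fromNormalization := by
    haveI : IsIso (f₀.normalizationPullback W₀.ι) := isIso_normalizationPullback_of_flat f₀ _
    have h1 : f₀.normalizationPullback W₀.ι ≫ pullback.snd f₀.fromNormalization W₀.ι =
        f₀'.fromNormalization := f₀.normalizationPullback_snd W₀.ι
    have h2 : (pullbackRestrictIsoRestrict f₀.fromNormalization W₀).hom ≫
        f₀.fromNormalization ∣_ W₀ = pullback.snd f₀.fromNormalization W₀.ι :=
      pullbackRestrictIsoRestrict_hom_morphismRestrict _ _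
    rw [← h1, ← h2]
    infer_instance
  haveI : IsProper f' := MorphismProperty.pullback_snd (P := @IsProper) _ _ inferInstance
  haveI : Flat f' := MorphismProperty.pullback_snd (P := @Flat) _ _ inferInstance
  haveI : LocallyOfFinitePresentation f' :=
    MorphismProperty.pullback_snd (P := @LocallyOfFinitePresentation) _ _ inferInstance
  exact finite_etale_of_model f' (hred.pullback_snd W.ι) f₀' g'' p'' hsq''

/-- **the Stein factor of a proper flat finitely presented morphism with reduced geometric fibres
is finite étale.** -/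
theorem finite_etale_fromNormalization {X S : Scheme.{u}} (f : X ⟶ S) [IsProper f]
    [Flat f] [LocallyOfFinitePresentation f] (hred : GeomRed f) :
    IsFinite f.fromNormalization ∧ Etale f.fromNormalization := by
  apply fromNormalization_of_local (@IsFinite ⊓ @Etale : MorphismProperty Scheme.{u}) f
  intro s
  obtain ⟨U, hU, hsU, -⟩ := exists_isAffineOpen_mem_and_subset (x := s) (U := (⊤ : S.Opens)) trivial
  refine ⟨U, hsU, ?_⟩
  haveI : IsAffine (U : Scheme.{u}) := hU
  let f' := pullback.snd f U.ι
  haveI : IsProper f' := MorphismProperty.pullback_snd (P := @IsProper) _ _ inferInstance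
  haveI : Flat f' := MorphismProperty.pullback_snd (P := @Flat) _ _ inferInstance
  haveI : LocallyOfFinitePresentation f' :=
    MorphismProperty.pullback_snd (P := @LocallyOfFinitePresentation) _ _ inferInstance
  exact finite_etale_fromNormalization_of_qcqs f' (hred.pullback_snd U.ι)

end Groth.Agent.Lib.Helper22.SteinEtG
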