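import Mathlib
import Groth.Agent.Lib.Helper3EtRed

/-!
# Reducedness of stalks along étale morphisms of schemes, without Noetherian hypotheses (helper9)
-/

set_option autoImplicit false
set_option backward.isDefEq.respectTransparency false

universe u

open CategoryTheory AlgebraicGeometry TensorProduct

namespace Groth.Agent.Lib.Helper9.RedStalk

/-- Ring-level statement: `A → B` étale, `A → A'` with `A'` reduced, `B'` a localization of `B`
receiving `A'` compatibly. Then `B'` is reduced. -/
theorem isReduced_of_etale_square {A B A' B' : Type u} [CommRing A] [CommRing B] [CommRing A']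
    [CommRing B'] [Algebra A B] [Algebra.Etale A B] [Algebra A A'] [IsReduced A'] [Algebra B B']
    [Algebra A' B'] [Algebra A B'] [IsScalarTower A B B'] [IsScalarTower A A' B']
    (M : Submonoid B) [IsLocalization M B'] : IsReduced B' := by
  haveI : IsReduced (A' ⊗[A] B) := Groth.Agent.Lib.Helper3.EtRed.isReduced_of_etale A' (A' ⊗[A] B)
  let ψ : A' ⊗[A] B →ₐ[A] B' :=
    Algebra.TensorProduct.lift (IsScalarTower.toAlgHom A A' B') (IsScalarTower.toAlgHom A B B')
      (fun _ _ => Commute.all _ _)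
  have hψ : ∀ b : B, ψ ((1 : A') ⊗ₜ[A] b) = algebraMap B B' b := by
    intro b
    simp [ψ]
  constructor
  intro y hy
  obtain ⟨n, hn⟩ := hy
  obtain ⟨⟨b, s⟩, hbs⟩ := IsLocalization.surj M y
  simp only at hbs
  have hsu : IsUnit (algebraMap B B' s) := IsLocalization.map_units B' s
  have h1 : algebraMap B B' (b ^ n) = 0 := by
    rw [map_pow, ← hbs, mul_pow, hn, zero_mul]
  obtain ⟨c, hc⟩ := (IsLocalization.map_eq_zero_iff M B' (b ^ n)).1 h1
  have hcu : IsUnit (algebraMap B B' c) := IsLocalization.map_units B' c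
  have h2 : ((c : B) * b) ^ (n + 1) = 0 := by
    have : ((c : B) * b) ^ (n + 1) = (c : B) ^ n * b * ((c : B) * b ^ n) := by ring
    rw [this, hc, mul_zero]
  have h3 : ((1 : A') ⊗ₜ[A] ((c : B) * b)) = 0 := by
    apply IsReduced.eq_zero
    refine ⟨n + 1, ?_⟩
    rw [Algebra.TensorProduct.tmul_pow, h2, tmul_zero]
  have h4 : algebraMap B B' ((c : B) * b) = 0 := by
    rw [← hψ, h3, map_zero]
  rw [map_mul] at h4
  have h5 : algebraMap B B' b = 0 := (hcu.mul_right_eq_zero).1 h4
  rw [h5] at hbs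
  exact (hsu.mul_left_eq_zero).1 hbs

/-- Étale morphisms of schemes: if the stalk at the image is reduced then so is the stalk at the
source point (no Noetherian hypothesis). -/
theorem isReduced_stalk_of_etale {X Y : Scheme.{u}} (f : X ⟶ Y) [Etale f] (x : X)
    (h : _root_.IsReduced (Y.presheaf.stalk (f x))) : _root_.IsReduced (X.presheaf.stalk x) := by
  obtain ⟨U, hU, hxU, -⟩ := exists_isAffineOpen_mem_and_subset (X := Y) (x := f x) (U := ⊤) trivial
  obtain ⟨V, hV, hxV, hVU⟩ := exists_isAffineOpen_mem_and_subset (X := X) (x := x) (U := f ⁻¹ᵁ U) hxU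
  have e : V ≤ f ⁻¹ᵁ U := hVU
  have hφ : (f.appLE U V e).hom.Etale :=
    HasRingHomProperty.appLE (P := @Etale) f inferInstance ⟨U, hU⟩ ⟨V, hV⟩ e
  letI : Algebra Γ(Y, U) Γ(X, V) := (f.appLE U V e).hom.toAlgebra
  haveI : Algebra.Etale Γ(Y, U) Γ(X, V) := hφ
  letI : Algebra Γ(Y, U) (Y.presheaf.stalk (f x)) := Y.presheaf.algebra_section_stalk ⟨f x, hxU⟩
  letI : Algebra Γ(X, V) (X.presheaf.stalk x) := X.presheaf.algebra_section_stalk ⟨x, hxV⟩
  letI : Algebra (Y.presheaf.stalk (f x)) (X.presheaf.stalk x) := (f.stalkMap x).hom.toAlgebra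
  letI : Algebra Γ(Y, U) (X.presheaf.stalk x) :=
    ((algebraMap Γ(X, V) (X.presheaf.stalk x)).comp (algebraMap Γ(Y, U) Γ(X, V))).toAlgebra
  haveI : IsScalarTower Γ(Y, U) Γ(X, V) (X.presheaf.stalk x) :=
    IsScalarTower.of_algebraMap_eq (fun _ => rfl)
  haveI : IsScalarTower Γ(Y, U) (Y.presheaf.stalk (f x)) (X.presheaf.stalk x) := by
    refine IsScalarTower.of_algebraMap_eq (fun a => ?_)
    simp only [RingHom.algebraMap_toAlgebra, Scheme.Hom.appLE, RingHom.coe_comp,
      Function.comp_apply, CommRingCat.hom_comp]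
    erw [Scheme.Hom.germ_stalkMap_apply f U x hxU a]
    exact X.presheaf.germ_res_apply _ _ _ _
  haveI := hV.isLocalization_stalk ⟨x, hxV⟩
  exact isReduced_of_etale_square (A := Γ(Y, U)) (B := Γ(X, V)) (A' := Y.presheaf.stalk (f x))
    (B' := X.presheaf.stalk x) (hV.primeIdealOf ⟨x, hxV⟩).asIdeal.primeCompl

/-- Étale morphisms of schemes: reducedness of the stalk at a point is equivalent to reducedness
of the stalk at the image. -/
theorem isReduced_stalk_iff_of_etale {X Y : Scheme.{u}} (f : X ⟶ Y) [Etale f] (x : X) :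
    _root_.IsReduced (X.presheaf.stalk x) ↔ _root_.IsReduced (Y.presheaf.stalk (f x)) := by
  refine ⟨fun h => ?_, isReduced_stalk_of_etale f x⟩
  algebraize [(f.stalkMap x).hom]
  have hloc : IsLocalHom (algebraMap (Y.presheaf.stalk (f x)) (X.presheaf.stalk x)) :=
    inferInstanceAs <| IsLocalHom (f.stalkMap x).hom
  have hflat : Module.Flat (Y.presheaf.stalk (f x)) (X.presheaf.stalk x) := by
    have := Flat.stalkMap f x
    rwa [RingHom.Flat, ← RingHom.algebraMap_toAlgebra (f.stalkMap x).hom] at this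
  have : Module.FaithfullyFlat (Y.presheaf.stalk (f x)) (X.presheaf.stalk x) :=
    .of_flat_of_isLocalHom
  exact isReduced_of_injective (algebraMap (Y.presheaf.stalk (f x)) (X.presheaf.stalk x))
    (FaithfulSMul.algebraMap_injective _ _)

end Groth.Agent.Lib.Helper9.RedStalk
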