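import Mathlib
import Groth.Agent.Lib.Helper22SteinEtG
import Groth.Agent.Lib.Helper9RedStalk
import Groth.Agent.Lib.Helper6H0Const

set_option autoImplicit false
set_option linter.style.haveILetI false
set_option linter.unusedSectionVars false
set_option linter.unusedVariables false
universe u
open CategoryTheory CategoryTheory.Limits AlgebraicGeometry

namespace Groth.Agent.Lib.Helper22.HomotopyA

open Groth.Agent.Lib.Helper22.SteinEtF Groth.Agent.Lib.Helper22.SteinEtG

/-- connectedness of the fibres over algebraically closed fields implies geometric connectedness. -/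
theorem geometricallyConnected_of_algClosed {X S : Scheme.{u}} (f : X ⟶ S)
    (h : ∀ (Ω : Type u) [Field Ω] [IsAlgClosed Ω] (σ : Spec (CommRingCat.of Ω) ⟶ S),
      ConnectedSpace ↥(pullback f σ)) : GeometricallyConnected f := by
  rw [geometricallyConnected_iff, geometrically_iff_of_isClosedUnderIsomorphisms]
  intro K _ y
  let q : Spec (CommRingCat.of (AlgebraicClosure K)) ⟶ Spec (CommRingCat.of K) :=
    Spec.map (CommRingCat.ofHom (algebraMap K (AlgebraicClosure K)))
  haveI := h (AlgebraicClosure K) (q ≫ y)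
  let e := pullbackLeftPullbackSndIso f y q
  haveI hq : Surjective q := by
    refine ⟨fun t => ?_⟩
    obtain ⟨x⟩ : Nonempty ↥(Spec (CommRingCat.of (AlgebraicClosure K))) :=
      inferInstanceAs (Nonempty (PrimeSpectrum (AlgebraicClosure K)))
    refine ⟨x, ?_⟩
    have : Subsingleton ↥(Spec (CommRingCat.of K)) := inferInstanceAs (Subsingleton (PrimeSpectrum K))
    exact Subsingleton.elim _ _
  haveI : Surjective (pullback.fst (pullback.snd f y) q) :=
    MorphismProperty.pullback_fst (P := @Surjective) _ _ hq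
  let ψ : pullback f (q ≫ y) ⟶ pullback f y := e.inv ≫ pullback.fst (pullback.snd f y) q
  exact ψ.surjective.connectedSpace ψ.continuous

/-- a scheme étale over a reduced scheme is reduced. -/
theorem isReduced_of_etale {Z W : Scheme.{u}} (p : Z ⟶ W) [Etale p] [IsReduced W] : IsReduced Z := by
  haveI : ∀ z : Z, _root_.IsReduced (Z.presheaf.stalk z) := fun z =>
    Groth.Agent.Lib.Helper9.RedStalk.isReduced_stalk_of_etale p z inferInstance
  exact isReduced_of_isReduced_stalk Z

/-- a morphism from a scheme with `Γ(Z, O) = Ω` to an affine `Ω`-scheme factors through `Spec Ω`. -/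
theorem exists_factor_of_isIso_appTop {Z W : Scheme.{u}} (Ω : Type u) [Field Ω]
    (u : Z ⟶ Spec (CommRingCat.of Ω)) [IsIso u.appTop] [IsAffine W] (v : Z ⟶ W)
    (w : W ⟶ Spec (CommRingCat.of Ω)) (hvw : v ≫ w = u) :
    ∃ t₁ : Spec (CommRingCat.of Ω) ⟶ W, t₁ ≫ w = 𝟙 _ ∧ u ≫ t₁ = v := by
  let SΩ := Spec (CommRingCat.of Ω)
  let t₁ : SΩ ⟶ W := SΩ.toSpecΓ ≫ Spec.map (inv u.appTop) ≫ Spec.map v.appTop ≫ inv W.toSpecΓ
  have hZ : Z.toSpecΓ = u ≫ SΩ.toSpecΓ ≫ Spec.map (inv u.appTop) := by
    rw [← Category.assoc, Scheme.toSpecΓ_naturality, Category.assoc, ← Spec.map_comp,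
      IsIso.inv_hom_id, Spec.map_id, Category.comp_id]
  refine ⟨t₁, ?_, ?_⟩
  · rw [← cancel_mono SΩ.toSpecΓ]
    have hw : w ≫ SΩ.toSpecΓ = W.toSpecΓ ≫ Spec.map w.appTop := Scheme.toSpecΓ_naturality w
    have hcomp : w.appTop ≫ v.appTop = u.appTop := by
      rw [← Scheme.Hom.comp_appTop, hvw]
    simp only [t₁, Category.assoc]
    rw [hw, IsIso.inv_hom_id_assoc, ← Spec.map_comp, ← Spec.map_comp, hcomp, IsIso.hom_inv_id,
      Spec.map_id, Category.comp_id, Category.id_comp]
  · rw [← cancel_mono W.toSpecΓ]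
    simp only [t₁, Category.assoc, IsIso.inv_hom_id, Category.comp_id]
    rw [Scheme.toSpecΓ_naturality v, hZ]
    simp only [Category.assoc]

/-- a section of a finite étale morphism over a connected scheme, with connected source, is an
isomorphism. -/
theorem isIso_of_section_of_connected {G Z : Scheme.{u}} (k : G ⟶ Z) [IsFinite k] [Etale k]
    [ConnectedSpace G] [Nonempty Z] (τ : Z ⟶ G) (hτ : τ ≫ k = 𝟙 Z) : IsIso k := by
  haveI : IsOpenImmersion τ := isOpenImmersion_of_section k τ hτ
  haveI : IsClosedImmersion τ := by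
    apply MorphismProperty.of_postcomp (W := @IsClosedImmersion) (W' := @IsSeparated) τ k
      inferInstance
    rw [hτ]; infer_instance
  have hclopen : IsClopen (Set.range τ) :=
    ⟨τ.isClosedEmbedding.isClosed_range, τ.isOpenEmbedding.isOpen_range⟩
  have hne : (Set.range τ).Nonempty := Set.range_nonempty _
  have huniv : Set.range τ = Set.univ := hclopen.eq_univ hne
  haveI : IsIso τ := by
    apply isIso_of_isOpenImmersion_of_opensRange_eq_top
    exact TopologicalSpace.Opens.ext huniv
  have hk : k = inv τ := by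
    rw [← cancel_epi τ, hτ, IsIso.hom_inv_id]
  rw [hk]
  infer_instance

/-- **middle exactness of the homotopy sequence**: a connected finite étale cover `Y` of `X` with a
section over a geometric fibre of `f : X ⟶ S` is the pullback of its Stein factor over `S`, which
is finite étale. -/
theorem isPullback_of_section {X S Y : Scheme.{u}} (f : X ⟶ S) [IsProper f] [Flat f]
    [LocallyOfFinitePresentation f] [ConnectedSpace S]
    (hfib : ∀ (Ω : Type u) [Field Ω] [IsAlgClosed Ω] (s : Spec (CommRingCat.of Ω) ⟶ S),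
      ConnectedSpace ↥(pullback f s) ∧ IsReduced (pullback f s))
    (h : Y ⟶ X) [IsFinite h] [Etale h] [ConnectedSpace Y] (Ω : Type u) [Field Ω] [IsAlgClosed Ω]
    (s : Spec (CommRingCat.of Ω) ⟶ S) (σ : pullback f s ⟶ Y) (hσ : σ ≫ h = pullback.fst f s) :
    IsFinite (h ≫ f).fromNormalization ∧ Etale (h ≫ f).fromNormalization ∧
      IsPullback (h ≫ f).toNormalization h (h ≫ f).fromNormalization f := by
  let g := h ≫ f
  haveI : IsProper g := inferInstance
  haveI : Flat g := inferInstance
  haveI : LocallyOfFinitePresentation g := inferInstance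
  -- Step 1: the geometric fibres of `g` are reduced
  have hredg : GeomRed g := by
    intro Ω' _ _ σ'
    haveI := (hfib Ω' σ').2
    let m := pullback.map g σ' f σ' h (𝟙 _) (𝟙 _) (by simp [g]) (by simp)
    have hm1 : m ≫ pullback.fst f σ' = pullback.fst g σ' ≫ h := pullback.lift_fst _ _ _
    have hm2 : m ≫ pullback.snd f σ' = pullback.snd g σ' :=
      (pullback.lift_snd _ _ _).trans (Category.comp_id _)
    have hm : IsPullback (pullback.fst g σ') m h (pullback.fst f σ') := by
      refine IsPullback.of_bot ?_ hm1.symm (IsPullback.of_hasPullback f σ')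
      rw [hm2]
      exact IsPullback.of_hasPullback g σ'
    haveI : Etale m := MorphismProperty.of_isPullback (P := @Etale) hm inferInstance
    exact isReduced_of_etale m
  -- Step 2: the Stein factor is finite étale
  obtain ⟨hfin, het⟩ := finite_etale_fromNormalization g hredg
  let πT := g.fromNormalization
  let tn := g.toNormalization
  haveI := Groth.Agent.Lib.Helper22.SteinF.isProper_toNormalization g
  haveI : GeometricallyConnected tn :=
    Groth.Agent.Lib.Helper22.SteinF.geometricallyConnected_toNormalization g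
  -- Step 3: the comparison morphism
  let pr₁ := pullback.fst f πT
  let pr₂ := pullback.snd f πT
  let c : Y ⟶ pullback f πT := pullback.lift h tn (g.toNormalization_fromNormalization).symm
  have hc1 : c ≫ pr₁ = h := pullback.lift_fst _ _ _
  have hc2 : c ≫ pr₂ = tn := pullback.lift_snd _ _ _
  haveI : IsFinite pr₁ := MorphismProperty.pullback_fst (P := @IsFinite) _ _ hfin
  haveI : Etale pr₁ := MorphismProperty.pullback_fst (P := @Etale) _ _ het
  haveI : IsFinite c := by
    apply MorphismProperty.of_postcomp (W := @IsFinite) (W' := @IsSeparated) c pr₁ inferInstance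
    rw [hc1]; infer_instance
  haveI : Etale c := by
    apply MorphismProperty.of_postcomp (W := @Etale) (W' := @Etale) c pr₁ inferInstance
    rw [hc1]; infer_instance
  -- Step 4: `X ×_S T` is connected
  haveI : ConnectedSpace ↥g.normalization := tn.surjective.connectedSpace tn.continuous
  haveI : GeometricallyConnected f :=
    geometricallyConnected_of_algClosed f (fun Ω' _ _ σ' => (hfib Ω' σ').1)
  haveI : GeometricallyConnected pr₂ := inferInstance
  haveI : Flat pr₂ := MorphismProperty.pullback_snd (P := @Flat) _ _ inferInstance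
  haveI : LocallyOfFinitePresentation pr₂ :=
    MorphismProperty.pullback_snd (P := @LocallyOfFinitePresentation) _ _ inferInstance
  haveI : ConnectedSpace ↥(pullback f πT) :=
    GeometricallyConnected.connectedSpace pr₂ pr₂.isOpenMap
  -- Step 5: constant degree
  have hlc := Scheme.Hom.isLocallyConstant_finrank c
  have hconst : ∀ p p', c.finrank p = c.finrank p' :=
    fun p p' => hlc.apply_eq_of_preconnectedSpace p p'
  -- Step 6: a point of degree one
  let Xs := pullback f s
  let u : Xs ⟶ Spec (CommRingCat.of Ω) := pullback.snd f s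
  haveI hconnXs : ConnectedSpace ↥Xs := (hfib Ω s).1
  haveI hredXs : IsReduced Xs := (hfib Ω s).2
  haveI : IsProper u := MorphismProperty.pullback_snd (P := @IsProper) _ _ inferInstance
  haveI huiso : IsIso u.appTop := by
    letI algY : Algebra Ω Γ(Xs, ⊤) :=
      (Groth.Agent.Lib.Helper6.H0Const.gsMap Ω u).hom.toAlgebra
    haveI : Algebra.IsIntegral Ω Γ(Xs, ⊤) :=
      ⟨Groth.Agent.Lib.Helper6.H0Const.gsMap_isIntegral Ω u⟩
    haveI : Nontrivial Γ(Xs, ⊤) := by
      obtain ⟨y⟩ := hconnXs.toNonempty
      exact @Scheme.component_nontrivial Xs ⊤ ⟨⟨y, trivial⟩⟩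
    have hbij : Function.Bijective (algebraMap Ω Γ(Xs, ⊤)) :=
      Groth.Agent.Lib.Helper6.H0Const.bijective_algebraMap_of_isAlgClosed Ω Γ(Xs, ⊤)
        (Groth.Agent.Lib.Helper6.H0Const.eq_zero_or_one_of_isIdempotentElem (Y := Xs))
    have h1 : IsIso (Groth.Agent.Lib.Helper6.H0Const.gsMap Ω u) :=
      (ConcreteCategory.isIso_iff_bijective _).mpr hbij
    have h2 : IsIso ((Scheme.ΓSpecIso (CommRingCat.of Ω)).inv ≫ u.appTop) := h1
    exact @IsIso.of_isIso_comp_left _ _ _ _ _ (Scheme.ΓSpecIso (CommRingCat.of Ω)).inv u.appTop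
      inferInstance h2
  let w := pullback.snd πT s
  haveI : IsAffine (pullback πT s) := isAffine_of_isAffineHom w
  have hcond : (σ ≫ tn) ≫ πT = u ≫ s := by
    rw [Category.assoc, g.toNormalization_fromNormalization, ← Category.assoc, hσ]
    exact pullback.condition
  let v : Xs ⟶ pullback πT s := pullback.lift (σ ≫ tn) u hcond
  have hv1 : v ≫ pullback.fst πT s = σ ≫ tn := pullback.lift_fst _ _ _
  have hv2 : v ≫ w = u := pullback.lift_snd _ _ _
  obtain ⟨t₁, ht₁w, hut₁⟩ := exists_factor_of_isIso_appTop Ω u v w hv2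
  let t₀ : Spec (CommRingCat.of Ω) ⟶ g.normalization := t₁ ≫ pullback.fst πT s
  have ht₀ : t₀ ≫ πT = s := by
    rw [Category.assoc, pullback.condition, ← Category.assoc, ht₁w, Category.id_comp]
  have hσt : σ ≫ tn = u ≫ t₀ := by
    rw [← hv1, ← hut₁, Category.assoc]
  haveI : ConnectedSpace ↥(pullback tn t₀) :=
    GeometricallyConnected.geometrically_connectedSpace _ _ _ (IsPullback.of_hasPullback tn t₀)
  have hj'cond : pullback.fst f s ≫ f = (u ≫ t₀) ≫ πT := by
    rw [Category.assoc, ht₀]
    exact pullback.condition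
  let j' : Xs ⟶ pullback f πT := pullback.lift (pullback.fst f s) (u ≫ t₀) hj'cond
  have hj1 : j' ≫ pr₁ = pullback.fst f s := pullback.lift_fst _ _ _
  have hj2 : j' ≫ pr₂ = u ≫ t₀ := pullback.lift_snd _ _ _
  have hbot : IsPullback j' u pr₂ t₀ := by
    refine IsPullback.of_right ?_ hj2 (IsPullback.of_hasPullback f πT)
    rw [hj1, ht₀]
    exact IsPullback.of_hasPullback f s
  have hkcond : (pullback.fst tn t₀ ≫ c) ≫ pr₂ = pullback.snd tn t₀ ≫ t₀ := by
    rw [Category.assoc, hc2]
    exact pullback.condition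
  let k : pullback tn t₀ ⟶ Xs := hbot.lift (pullback.fst tn t₀ ≫ c) (pullback.snd tn t₀) hkcond
  have hk1 : k ≫ j' = pullback.fst tn t₀ ≫ c := hbot.lift_fst _ _ _
  have hk2 : k ≫ u = pullback.snd tn t₀ := hbot.lift_snd _ _ _
  have htop : IsPullback (pullback.fst tn t₀) k c j' := by
    refine IsPullback.of_bot ?_ hk1.symm hbot
    rw [hk2, hc2]
    exact IsPullback.of_hasPullback tn t₀
  haveI : IsFinite k := MorphismProperty.of_isPullback (P := @IsFinite) htop inferInstance
  haveI : Etale k := MorphismProperty.of_isPullback (P := @Etale) htop inferInstance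
  let τ : Xs ⟶ pullback tn t₀ := pullback.lift σ u hσt
  have hτ1 : τ ≫ pullback.fst tn t₀ = σ := pullback.lift_fst _ _ _
  have hτ2 : τ ≫ pullback.snd tn t₀ = u := pullback.lift_snd _ _ _
  have hσc : σ ≫ c = j' := by
    apply pullback.hom_ext
    · rw [Category.assoc]
      exact (congrArg (σ ≫ ·) hc1).trans (hσ.trans hj1.symm)
    · rw [Category.assoc]
      exact (congrArg (σ ≫ ·) hc2).trans (hσt.trans hj2.symm)
  have hτk : τ ≫ k = 𝟙 Xs := by
    apply hbot.hom_ext
    · rw [Category.assoc, hk1, ← Category.assoc, hτ1, hσc, Category.id_comp]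
    · rw [Category.assoc, hk2, hτ2, Category.id_comp]
  haveI : Nonempty ↥Xs := hconnXs.toNonempty
  haveI : IsIso k := isIso_of_section_of_connected k τ hτk
  obtain ⟨z⟩ := hconnXs.toNonempty
  have hd : c.finrank (j' z) = 1 := by
    rw [← Scheme.Hom.finrank_of_isPullback (pullback.fst tn t₀) k c j' htop z,
      Scheme.Hom.finrank_eq_one_of_isIso k]
    rfl
  -- Step 7: `c` is an isomorphism
  haveI : IsIso c := by
    rw [Scheme.Hom.isIso_iff_finrank_eq]
    funext p
    rw [hconst p (j' z), hd]
    rfl
  refine ⟨hfin, het, ?_⟩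
  have hpb : IsPullback h tn f πT :=
    IsPullback.of_iso_pullback ⟨(g.toNormalization_fromNormalization).symm⟩ (asIso c) hc1 hc2
  exact hpb.flip

end Groth.Agent.Lib.Helper22.HomotopyA
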