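import Mathlib

universe u
open AlgebraicGeometry CategoryTheory Limits

namespace Groth.Agent.Lib.Helper22.ImgLim

section sections

variable {I : Type u} [SmallCategory I] [IsCofiltered I] (D : I ⥤ Scheme.{u}) (c : Cone D)
  (hc : IsLimit c)
  [∀ {i j} (f : i ⟶ j), IsAffineHom (D.map f)] [∀ i, QuasiSeparatedSpace (D.obj i)]

include hc in
/-- every section over an affine open of the limit comes from a stage -/
theorem exists_section_eq (U : c.pt.Opens) (hU : IsAffineOpen U) (s : Γ(c.pt, U)) :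
    ∃ (j : I) (W : (D.obj j).Opens) (_ : IsAffineOpen W) (hW : c.π.app j ⁻¹ᵁ W = U)
      (t : Γ(D.obj j, W)), s = (c.π.app j).appLE W U hW.ge t := by
  obtain ⟨i, V, hV, rfl⟩ := exists_isAffineOpen_preimage_eq D c hc U hU
  have h1 : ∀ j : Over i, IsAffine ((opensDiagram D i V).obj j) := fun j =>
    hV.preimage (D.map j.hom)
  have h2 : ∀ j : Over i, CompactSpace ((opensDiagram D i V).obj j) := fun j => inferInstance
  have h3 : ∀ j : Over i, QuasiSeparatedSpace ((opensDiagram D i V).obj j) := fun j =>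
    inferInstance
  obtain ⟨j, t, ht⟩ := exists_appTop_π_eq_of_isLimit (opensDiagram D i V) (opensCone D c i V)
    (isLimitOpensCone D c hc i V) ((c.π.app i ⁻¹ᵁ V).topIso.inv s)
  refine ⟨j.left, D.map j.hom ⁻¹ᵁ V, hV.preimage _, by rw [← Scheme.Hom.comp_preimage, c.w],
    (D.map j.hom ⁻¹ᵁ V).topIso.hom t, ?_⟩
  have h4 : ((opensCone D c i V).π.app j).appTop = (D.map j.hom ⁻¹ᵁ V).topIso.hom ≫
      (c.π.app j.left).appLE (D.map j.hom ⁻¹ᵁ V) (c.π.app i ⁻¹ᵁ V)
        (by rw [← Scheme.Hom.comp_preimage, c.w]) ≫ (c.π.app i ⁻¹ᵁ V).topIso.inv :=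
    Scheme.Hom.resLE_app_top ..
  rw [h4] at ht
  have h5 := congrArg (c.π.app i ⁻¹ᵁ V).topIso.hom ht
  rw [Iso.inv_hom_id_apply] at h5
  refine h5.trans ?_
  change (c.π.app i ⁻¹ᵁ V).topIso.hom ((c.π.app i ⁻¹ᵁ V).topIso.inv _) = _
  rw [Iso.inv_hom_id_apply]
  rfl

include hc in
/-- an ideal sheaf on the limit is generated by the pullbacks of its pushforwards to the stages -/
theorem le_iSup_comap_map (K : c.pt.IdealSheafData) :
    K ≤ ⨆ j, (K.map (c.π.app j)).comap (c.π.app j) := by
  have haff : ∀ j, IsAffineHom (c.π.app j) := fun j => isAffineHom_π_app D c hc j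
  intro U s hs
  obtain ⟨U, hU⟩ := U
  obtain ⟨j, W, hWaff, hW, t, rfl⟩ := exists_section_eq D c hc U hU s
  subst hW
  have e1 : (c.π.app j).appLE W (c.π.app j ⁻¹ᵁ W) (le_refl _) = (c.π.app j).app W :=
    ((c.π.app j).app_eq_appLE).symm
  rw [e1] at hs ⊢
  have h1 : t ∈ (K.map (c.π.app j)).ideal ⟨W, hWaff⟩ := by
    rw [Scheme.IdealSheafData.ideal_map_of_isAffineHom]
    exact hs
  have h2 : t ∈ (((K.map (c.π.app j)).comap (c.π.app j)).map (c.π.app j)).ideal ⟨W, hWaff⟩ :=
    Scheme.IdealSheafData.le_map_comap _ _ _ h1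
  rw [Scheme.IdealSheafData.ideal_map_of_isAffineHom] at h2
  exact (le_iSup (fun j => (K.map (c.π.app j)).comap (c.π.app j)) j) _ h2

end sections

section image

variable {I : Type u} [SmallCategory I] [IsCofiltered I] (D : I ⥤ Scheme.{u}) (c : Cone D)
  (hc : IsLimit c)
  {X : Scheme.{u}} (ι : X ⟶ c.pt)

/-- the kernel of `X → D_j` -/
noncomputable def K (j : I) : (D.obj j).IdealSheafData := (ι ≫ c.π.app j).ker

theorem K_map {j k : I} (a : j ⟶ k) : K D c ι k = (K D c ι j).map (D.map a) := by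
  unfold K
  rw [← Scheme.Hom.ker_comp, Category.assoc, c.w]

/-- the system of scheme theoretic images of `X` in the stages -/
noncomputable def E : I ⥤ Scheme.{u} where
  obj j := (K D c ι j).subscheme
  map {j k} a := Scheme.IdealSheafData.subschemeMap (K D c ι j) (K D c ι k) (D.map a)
    (K_map D c ι a).le
  map_id j := by
    rw [← cancel_mono (K D c ι j).subschemeι]
    simp
  map_comp a b := by
    rw [← cancel_mono (K D c ι _).subschemeι]
    simp

/-- the closed immersions of the images into the stages -/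
noncomputable def ε : E D c ι ⟶ D where
  app j := (K D c ι j).subschemeι
  naturality _ _ a := Scheme.IdealSheafData.subschemeMap_subschemeι _ _ _ (K_map D c ι a).le

instance isClosedImmersion_ε_app (j : I) : IsClosedImmersion ((ε D c ι).app j) :=
  inferInstanceAs (IsClosedImmersion (K D c ι j).subschemeι)

@[reassoc]
theorem E_map_ε {j k : I} (a : j ⟶ k) :
    (E D c ι).map a ≫ (ε D c ι).app k = (ε D c ι).app j ≫ D.map a :=
  (ε D c ι).naturality a

theorem isAffineHom_E_map [∀ {i j} (f : i ⟶ j), IsAffineHom (D.map f)] {j k : I} (a : j ⟶ k) :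
    IsAffineHom ((E D c ι).map a) := by
  have : IsAffineHom ((E D c ι).map a ≫ (ε D c ι).app k) := by
    rw [E_map_ε]; infer_instance
  exact .of_comp _ ((ε D c ι).app k)

/-- the maps from `X` to its images -/
noncomputable def τ (j : I) : X ⟶ (E D c ι).obj j := (ι ≫ c.π.app j).toImage

@[reassoc]
theorem τ_ε (j : I) : τ D c ι j ≫ (ε D c ι).app j = ι ≫ c.π.app j := by
  change (ι ≫ c.π.app j).toImage ≫ (ι ≫ c.π.app j).imageι = _
  exact (ι ≫ c.π.app j).toImage_imageι

/-- the cone with apex `X` over the image system -/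
noncomputable def cE : Cone (E D c ι) where
  pt := X
  π :=
    { app := fun j => τ D c ι j
      naturality := fun j k a => by
        rw [← cancel_mono ((ε D c ι).app k)]
        change (𝟙 X ≫ τ D c ι k) ≫ _ = (τ D c ι j ≫ (E D c ι).map a) ≫ _
        rw [Category.id_comp, τ_ε, Category.assoc, (ε D c ι).naturality, τ_ε_assoc, c.w] }

variable [∀ {i j} (f : i ⟶ j), IsAffineHom (D.map f)] [∀ i, QuasiSeparatedSpace (D.obj i)]
  [IsClosedImmersion ι]

include hc in
theorem ker_le_ker_of_cone (s : Cone (E D c ι)) (u : s.pt ⟶ c.pt)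
    (hu : ∀ j, u ≫ c.π.app j = s.π.app j ≫ (ε D c ι).app j) : ι.ker ≤ u.ker := by
  refine (le_iSup_comap_map D c hc ι.ker).trans (iSup_le fun j => ?_)
  rw [← Scheme.IdealSheafData.le_map_iff_comap_le, ← Scheme.Hom.ker_comp, ← Scheme.Hom.ker_comp,
    hu j]
  refine le_trans (le_of_eq ?_) (Scheme.Hom.le_ker_comp _ _)
  change (ι ≫ c.π.app j).ker = (K D c ι j).subschemeι.ker
  exact (Scheme.IdealSheafData.ker_subschemeι _).symm

/-- the cone over `D` induced by a cone over the image system -/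
noncomputable def coneD (s : Cone (E D c ι)) : Cone D where
  pt := s.pt
  π :=
    { app := fun j => s.π.app j ≫ (ε D c ι).app j
      naturality := fun j k a => by
        change 𝟙 _ ≫ s.π.app k ≫ _ = (s.π.app j ≫ _) ≫ D.map a
        rw [Category.id_comp, Category.assoc, ← (ε D c ι).naturality, ← Category.assoc, s.w] }

/-- the lift of a cone -/
noncomputable def liftE (s : Cone (E D c ι)) : s.pt ⟶ X :=
  IsClosedImmersion.lift ι (hc.lift (coneD D c ι s))
    (ker_le_ker_of_cone D c hc ι s _ (fun j => hc.fac (coneD D c ι s) j))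

@[reassoc]
theorem liftE_ι (s : Cone (E D c ι)) : liftE D c hc ι s ≫ ι = hc.lift (coneD D c ι s) :=
  IsClosedImmersion.lift_fac _ _ _

theorem liftE_τ (s : Cone (E D c ι)) (j : I) : liftE D c hc ι s ≫ τ D c ι j = s.π.app j := by
  rw [← cancel_mono ((ε D c ι).app j), Category.assoc, τ_ε, liftE_ι_assoc]
  exact hc.fac (coneD D c ι s) j

theorem liftE_uniq (s : Cone (E D c ι)) (m : s.pt ⟶ X) (hm : ∀ j, m ≫ τ D c ι j = s.π.app j) :
    m = liftE D c hc ι s := by
  rw [← cancel_mono ι, liftE_ι]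
  refine hc.hom_ext fun j => ?_
  refine Eq.trans ?_ (hc.fac (coneD D c ι s) j).symm
  change (m ≫ ι) ≫ c.π.app j = s.π.app j ≫ _
  rw [← hm j, Category.assoc, Category.assoc, τ_ε]

/-- the cone `cE` is a limit cone -/
noncomputable def isLimitCE : IsLimit (cE D c ι) where
  lift s := liftE D c hc ι s
  fac s j := liftE_τ D c hc ι s j
  uniq s m hm := liftE_uniq D c hc ι s m hm

end image

end Groth.Agent.Lib.Helper22.ImgLim
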