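import Mathlib

set_option autoImplicit false
set_option linter.style.haveILetI false
universe u

namespace Groth.Agent.Lib.Helper22.Ked
open MvPolynomial KaehlerDifferential TensorProduct

variable {k C : Type u} [Field k] [CommRing C] [Algebra k C] {n : ℕ}

/-- the differential map attached to a tuple -/
noncomputable def dMap (k : Type u) [Field k] [Algebra k C] (y : Fin n → C) :
    (Fin n → C) →ₗ[C] Ω[C⁄k] :=
  Fintype.linearCombination C (fun i => D k C (y i))

theorem dMap_single (y : Fin n → C) (i : Fin n) :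
    dMap k y (Pi.single i 1) = D k C (y i) := by
  classical
  simp [dMap, Fintype.linearCombination_apply, Pi.single_apply]

section tower

variable [Algebra (MvPolynomial (Fin n) k) C] [IsScalarTower k (MvPolynomial (Fin n) k) C]

theorem mapBaseChange_comp_equivFun :
    (mapBaseChange k (MvPolynomial (Fin n) k) C) ∘ₗ
      (((mvPolynomialBasis k (Fin n)).baseChange C).equivFun.symm : (Fin n → C) →ₗ[C] _) =
    dMap k (fun i => algebraMap (MvPolynomial (Fin n) k) C (X i)) := by
  classical
  apply LinearMap.pi_ext'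
  intro i
  ext
  simp only [LinearMap.coe_comp, LinearMap.coe_single, Function.comp_apply, LinearEquiv.coe_coe]
  rw [dMap_single, Module.Basis.equivFun_symm_apply]
  simp [Pi.single_apply]

theorem mapBaseChange_bijective_iff :
    Function.Bijective (mapBaseChange k (MvPolynomial (Fin n) k) C) ↔
      Function.Bijective (dMap k (fun i => algebraMap (MvPolynomial (Fin n) k) C (X i))) := by
  rw [← mapBaseChange_comp_equivFun]
  rw [LinearMap.coe_comp]
  exact (Function.Bijective.of_comp_iff _ (LinearEquiv.bijective _)).symm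

theorem dMap_bijective_of_formallyEtale [Algebra.FormallyEtale (MvPolynomial (Fin n) k) C] :
    Function.Bijective (dMap k (fun i => algebraMap (MvPolynomial (Fin n) k) C (X i))) := by
  rw [← mapBaseChange_bijective_iff]
  exact (tensorKaehlerEquivOfFormallyEtale k (MvPolynomial (Fin n) k) C).bijective

theorem formallyEtale_of_dMap_bijective [Algebra.FormallySmooth k C]
    (h : Function.Bijective (dMap k (fun i => algebraMap (MvPolynomial (Fin n) k) C (X i)))) :
    Algebra.FormallyEtale (MvPolynomial (Fin n) k) C := by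
  rw [← mapBaseChange_bijective_iff] at h
  constructor
  · constructor
    intro a b
    obtain ⟨a', rfl⟩ := KaehlerDifferential.map_surjective k (MvPolynomial (Fin n) k) C a
    obtain ⟨b', rfl⟩ := KaehlerDifferential.map_surjective k (MvPolynomial (Fin n) k) C b
    obtain ⟨a'', rfl⟩ := h.2 a'
    obtain ⟨b'', rfl⟩ := h.2 b'
    rw [(exact_mapBaseChange_map k (MvPolynomial (Fin n) k) C _).mpr ⟨a'', rfl⟩,
      (exact_mapBaseChange_map k (MvPolynomial (Fin n) k) C _).mpr ⟨b'', rfl⟩]
  · constructor
    have key : ∀ x : Algebra.H1Cotangent (MvPolynomial (Fin n) k) C, x = 0 := by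
      intro x
      have h1 : Algebra.H1Cotangent.δ k (MvPolynomial (Fin n) k) C x = 0 := by
        apply h.1
        rw [map_zero]
        exact (Algebra.H1Cotangent.exact_δ_mapBaseChange k (MvPolynomial (Fin n) k) C _).mpr
          ⟨x, rfl⟩
      obtain ⟨z, rfl⟩ :=
        (Algebra.H1Cotangent.exact_map_δ k (MvPolynomial (Fin n) k) C x).mp h1
      rw [Subsingleton.elim z 0, map_zero]
    intro a b
    rw [key a, key b]

end tower

/-- the tuple `y` is a system of formally étale coordinates -/
def Et (k : Type u) [Field k] [Algebra k C] (y : Fin n → C) : Prop :=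
  (aeval y : MvPolynomial (Fin n) k →ₐ[k] C).toRingHom.FormallyEtale

theorem dMap_bijective_of_Et (y : Fin n → C) (h : Et k y) : Function.Bijective (dMap k y) := by
  letI : Algebra (MvPolynomial (Fin n) k) C :=
    (aeval y : MvPolynomial (Fin n) k →ₐ[k] C).toRingHom.toAlgebra
  haveI : IsScalarTower k (MvPolynomial (Fin n) k) C :=
    IsScalarTower.of_algebraMap_eq' (aeval y : MvPolynomial (Fin n) k →ₐ[k] C).comp_algebraMap.symm
  haveI : Algebra.FormallyEtale (MvPolynomial (Fin n) k) C := h
  have := dMap_bijective_of_formallyEtale (k := k) (C := C) (n := n)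
  have e : (fun i => algebraMap (MvPolynomial (Fin n) k) C (X i)) = y := by
    funext i
    exact aeval_X y i
  rwa [e] at this

theorem Et_of_dMap_bijective [Algebra.FormallySmooth k C] (y : Fin n → C)
    (h : Function.Bijective (dMap k y)) : Et k y := by
  letI : Algebra (MvPolynomial (Fin n) k) C :=
    (aeval y : MvPolynomial (Fin n) k →ₐ[k] C).toRingHom.toAlgebra
  haveI : IsScalarTower k (MvPolynomial (Fin n) k) C :=
    IsScalarTower.of_algebraMap_eq' (aeval y : MvPolynomial (Fin n) k →ₐ[k] C).comp_algebraMap.symm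
  have e : (fun i => algebraMap (MvPolynomial (Fin n) k) C (X i)) = y := by
    funext i
    exact aeval_X y i
  rw [← e] at h
  exact formallyEtale_of_dMap_bijective h

theorem formallySmooth_of_Et (y : Fin n → C) (h : Et k y) : Algebra.FormallySmooth k C := by
  letI : Algebra (MvPolynomial (Fin n) k) C :=
    (aeval y : MvPolynomial (Fin n) k →ₐ[k] C).toRingHom.toAlgebra
  haveI : IsScalarTower k (MvPolynomial (Fin n) k) C :=
    IsScalarTower.of_algebraMap_eq' (aeval y : MvPolynomial (Fin n) k →ₐ[k] C).comp_algebraMap.symm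
  haveI : Algebra.FormallyEtale (MvPolynomial (Fin n) k) C := h
  exact Algebra.FormallySmooth.comp k (MvPolynomial (Fin n) k) C

/-- `p`-th powers have zero differential. -/
theorem D_pow_char (p : ℕ) [CharP C p] (u : C) : D k C (u ^ p) = 0 := by
  rw [Derivation.leibniz_pow, ← Nat.cast_smul_eq_nsmul C, CharP.cast_eq_zero, zero_smul]

theorem Et_of_frobenius (p : ℕ) [Fact p.Prime] [CharP C p] (y y₁ : Fin n → C) (h : Et k y)
    (hy : ∀ i, ∃ u, y₁ i = y i + u ^ p) : Et k y₁ := by
  haveI := formallySmooth_of_Et y h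
  apply Et_of_dMap_bijective
  have : dMap k y₁ = dMap k y := by
    unfold dMap
    congr 1
    funext i
    obtain ⟨u, hu⟩ := hy i
    rw [hu, map_add, D_pow_char, add_zero]
  rw [this]
  exact dMap_bijective_of_Et y h

theorem isAlgebraic_of_unramified_flat {R C : Type u} [CommRing R] [IsDomain R] [CommRing C]
    [Algebra R C] [Module.Flat R C] [Algebra.FormallyUnramified R C] [Algebra.FiniteType R C]
    (c : C) : IsAlgebraic R c := by
  let K := FractionRing R
  haveI : Module.Finite K (K ⊗[R] C) := Algebra.FormallyUnramified.finite_of_free K (K ⊗[R] C)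
  have hx : IsAlgebraic K ((1 : K) ⊗ₜ[R] c) := (IsIntegral.of_finite K _).isAlgebraic
  obtain ⟨g, hg, hgx⟩ := (IsFractionRing.isAlgebraic_iff R K (K ⊗[R] C)).mpr hx
  refine ⟨g, hg, ?_⟩
  have h1 : (Algebra.TensorProduct.includeRight : C →ₐ[R] K ⊗[R] C) (Polynomial.aeval c g) = 0 := by
    rw [← Polynomial.aeval_algHom_apply]
    exact hgx
  have hinj : Function.Injective (Algebra.TensorProduct.includeRight : C →ₐ[R] K ⊗[R] C) :=
    Algebra.TensorProduct.includeRight_injective (IsFractionRing.injective R K)
  exact hinj (by rw [h1, map_zero])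

theorem aeval_cons_eq (y : Fin n → C) (c : C) (H : MvPolynomial (Fin (n + 1)) k) :
    aeval (Fin.cons c y : Fin (n + 1) → C) H =
      Polynomial.aevalTower (aeval y : MvPolynomial (Fin n) k →ₐ[k] C) c (finSuccEquiv k n H) := by
  have : (aeval (Fin.cons c y : Fin (n + 1) → C) : MvPolynomial (Fin (n + 1)) k →ₐ[k] C) =
      (Polynomial.aevalTower (aeval y : MvPolynomial (Fin n) k →ₐ[k] C) c).comp
        (finSuccEquiv k n).toAlgHom := by
    apply MvPolynomial.algHom_ext
    intro i
    refine Fin.cases ?_ (fun j => ?_) i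
    · simp [finSuccEquiv_X_zero]
    · simp [finSuccEquiv_X_succ]
  rw [this]
  rfl

theorem exists_relation [Algebra.FinitePresentation k C] (y : Fin n → C) (h : Et k y) (c : C) :
    ∃ F : MvPolynomial (Fin (n + 1)) k, F ≠ 0 ∧ aeval (Fin.cons c y : Fin (n + 1) → C) F = 0 := by
  letI : Algebra (MvPolynomial (Fin n) k) C :=
    (aeval y : MvPolynomial (Fin n) k →ₐ[k] C).toRingHom.toAlgebra
  haveI : IsScalarTower k (MvPolynomial (Fin n) k) C :=
    IsScalarTower.of_algebraMap_eq' (aeval y : MvPolynomial (Fin n) k →ₐ[k] C).comp_algebraMap.symm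
  haveI : Algebra.FormallyEtale (MvPolynomial (Fin n) k) C := h
  haveI : Algebra.FinitePresentation (MvPolynomial (Fin n) k) C :=
    Algebra.FinitePresentation.of_restrict_scalars_finitePresentation k _ _
  haveI : Algebra.Etale (MvPolynomial (Fin n) k) C := ⟨inferInstance, inferInstance⟩
  haveI : Module.Flat (MvPolynomial (Fin n) k) C := inferInstance
  obtain ⟨g, hg, hgc⟩ := isAlgebraic_of_unramified_flat (R := MvPolynomial (Fin n) k) c
  refine ⟨(finSuccEquiv k n).symm g, ?_, ?_⟩
  · rw [Ne, EmbeddingLike.map_eq_zero_iff]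
    exact hg
  · rw [aeval_cons_eq, AlgEquiv.apply_symm_apply]
    exact hgc

end Groth.Agent.Lib.Helper22.Ked
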