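import Mathlib
import Groth.Agent.Lib.Helper22Nagata
import Groth.Agent.Lib.Helper22Ked

set_option autoImplicit false
set_option linter.style.haveILetI false
universe u

namespace Groth.Agent.Lib.Helper22.Ked
open MvPolynomial

variable {k C : Type u} [Field k] [CommRing C] [Algebra k C] {n : ℕ}

theorem aeval_T (D : ℕ) (y : Fin n → C) (c : C) (F : MvPolynomial (Fin (n + 1)) k) :
    aeval (Fin.cons c (fun i : Fin n => y i - c ^ (D ^ (i.1 + 1))) : Fin (n + 1) → C)
      (Nagata.T D F) = aeval (Fin.cons c y : Fin (n + 1) → C) F := by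
  change aeval _ (Nagata.T1 D 1 F) = _
  rw [Nagata.T1, ← AlgHom.comp_apply, comp_aeval]
  congr 2
  funext i
  refine Fin.cases ?_ (fun j => ?_) i
  · simp
  · simp [Fin.succ_ne_zero]

theorem isIntegral_of_relation (y : Fin n → C) (c : C) (F : MvPolynomial (Fin (n + 1)) k)
    (hF : F ≠ 0) (hFc : aeval (Fin.cons c y : Fin (n + 1) → C) F = 0) (D : ℕ) (hD : 2 ≤ D)
    (hFD : F.totalDegree < D) :
    IsIntegral (Algebra.adjoin k (Set.range fun i : Fin n => y i - c ^ (D ^ (i.1 + 1)))) c := by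
  set y₁ : Fin n → C := fun i => y i - c ^ (D ^ (i.1 + 1)) with hy₁
  set S := Algebra.adjoin k (Set.range y₁) with hS
  let y₁S : Fin n → S := fun i => ⟨y₁ i, Algebra.subset_adjoin ⟨i, rfl⟩⟩
  let ρ : MvPolynomial (Fin n) k →ₐ[k] S := aeval y₁S
  have hρ : (algebraMap S C).comp ρ.toRingHom =
      (aeval y₁ : MvPolynomial (Fin n) k →ₐ[k] C).toRingHom := by
    have : (S.val.comp ρ : MvPolynomial (Fin n) k →ₐ[k] C) = aeval y₁ := by
      apply MvPolynomial.algHom_ext
      intro i
      simp [ρ, y₁S]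
    exact congrArg AlgHom.toRingHom this
  have hu := Nagata.T_leadingcoeff_isUnit F D hD hFD hF
  have hmonic := Polynomial.monic_of_isUnit_leadingCoeff_inv_smul hu
  refine ⟨(hu.unit⁻¹ • finSuccEquiv k n (Nagata.T D F)).map ρ.toRingHom, hmonic.map _, ?_⟩
  rw [Polynomial.eval₂_map, hρ, Units.smul_def, Polynomial.smul_eq_C_mul, Polynomial.eval₂_mul]
  have : Polynomial.eval₂ (aeval y₁ : MvPolynomial (Fin n) k →ₐ[k] C).toRingHom c
      (finSuccEquiv k n (Nagata.T D F)) = 0 := by
    have h1 := aeval_cons_eq (k := k) y₁ c (Nagata.T D F)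
    rw [aeval_T, hFc] at h1
    exact h1.symm
  rw [this, mul_zero]

/-- `z` is integral over the subalgebra generated by the tuple `y`. -/
def Int (k : Type u) [Field k] [Algebra k C] (y : Fin n → C) (z : C) : Prop :=
  IsIntegral (Algebra.adjoin k (Set.range y)) z

theorem int_of_mem (y : Fin n → C) {z : C} (hz : z ∈ Algebra.adjoin k (Set.range y)) :
    Int k y z :=
  isIntegral_algebraMap (R := Algebra.adjoin k (Set.range y)) (A := C) (x := ⟨z, hz⟩)

theorem int_self (y : Fin n → C) (i : Fin n) : Int k y (y i) :=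
  int_of_mem y (Algebra.subset_adjoin ⟨i, rfl⟩)

theorem int_trans (y y₁ : Fin n → C) (h : ∀ i, Int k y₁ (y i)) {z : C} (hz : Int k y z) :
    Int k y₁ z := by
  set S₁ := Algebra.adjoin k (Set.range y₁)
  set S₀ := Algebra.adjoin k (Set.range y)
  let IC := integralClosure S₁ C
  have hle : S₀ ≤ IC.restrictScalars k := by
    apply Algebra.adjoin_le
    rintro _ ⟨i, rfl⟩
    exact h i
  let ι : S₀ →+* IC := (Subalgebra.inclusion hle).toRingHom
  obtain ⟨q, hq, hqz⟩ := hz
  have hz' : IsIntegral IC z := by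
    refine ⟨q.map ι, hq.map _, ?_⟩
    rw [Polynomial.eval₂_map]
    exact hqz
  exact isIntegral_trans (R := S₁) (A := IC) z hz'

theorem isIntegral_aeval_of_forall_int (y : Fin n → C) (h : ∀ z, Int k y z) :
    (aeval y : MvPolynomial (Fin n) k →ₐ[k] C).toRingHom.IsIntegral := by
  intro z
  obtain ⟨q, hq, hqz⟩ := h z
  have hS : Algebra.adjoin k (Set.range y) = (aeval y : MvPolynomial (Fin n) k →ₐ[k] C).range :=
    Algebra.adjoin_range_eq_range_aeval k y
  let f : MvPolynomial (Fin n) k →+* Algebra.adjoin k (Set.range y) :=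
    ((aeval y : MvPolynomial (Fin n) k →ₐ[k] C).codRestrict (Algebra.adjoin k (Set.range y))
      (fun x => by rw [hS]; exact ⟨x, rfl⟩)).toRingHom
  have hf : Function.Surjective f := by
    rintro ⟨s, hs⟩
    have hs' := hs
    rw [hS] at hs'
    obtain ⟨x, hx⟩ := hs'
    exact ⟨x, Subtype.ext hx⟩
  obtain ⟨q', hq'1, -, hq'3⟩ :=
    Polynomial.lifts_and_natDegree_eq_and_monic (Polynomial.mem_lifts_of_surjective hf q) hq
  refine ⟨q', hq'3, ?_⟩
  rw [← hq'1, Polynomial.eval₂_map] at hqz
  exact hqz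

section step

variable [Algebra.FinitePresentation k C] (p : ℕ) [Fact p.Prime] [CharP C p]

theorem neg_pow_char' (w : C) : (-w) ^ p = -(w ^ p) := by
  rw [neg_eq_neg_one_mul, mul_pow, neg_one_pow_char C p, neg_one_mul]

theorem step (y : Fin n → C) (h : Et k y) (c : C) :
    ∃ y₁ : Fin n → C, (∀ i, ∃ u, y₁ i = y i + u ^ p) ∧ Int k y₁ c ∧ ∀ i, Int k y₁ (y i) := by
  obtain ⟨F, hF, hFc⟩ := exists_relation y h c
  have hp2 : 2 ≤ p := (Fact.out : p.Prime).two_le
  set D := p ^ (F.totalDegree + 1) with hD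
  have hD2 : 2 ≤ D := by
    calc 2 ≤ p := hp2
      _ = p ^ 1 := (pow_one p).symm
      _ ≤ p ^ (F.totalDegree + 1) := Nat.pow_le_pow_right (by omega) (by omega)
  have hFD : F.totalDegree < D := by
    calc F.totalDegree < F.totalDegree + 1 := Nat.lt_succ_self _
      _ < p ^ (F.totalDegree + 1) := Nat.lt_pow_self hp2
  have hint := isIntegral_of_relation y c F hF hFc D hD2 hFD
  refine ⟨fun i => y i - c ^ (D ^ (i.1 + 1)), fun i => ?_, hint, fun i => ?_⟩
  · -- `D ^ (i+1) = p * p ^ m`
    have hpos : 1 ≤ (F.totalDegree + 1) * (i.1 + 1) := Nat.mul_pos (by omega) (by omega)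
    have hm : D ^ (i.1 + 1) = p ^ ((F.totalDegree + 1) * (i.1 + 1) - 1) * p := by
      calc D ^ (i.1 + 1) = p ^ ((F.totalDegree + 1) * (i.1 + 1)) := by rw [hD, ← pow_mul]
        _ = p ^ (((F.totalDegree + 1) * (i.1 + 1) - 1) + 1) := by
          rw [Nat.sub_add_cancel hpos]
        _ = p ^ ((F.totalDegree + 1) * (i.1 + 1) - 1) * p := pow_succ _ _
    refine ⟨-(c ^ (p ^ ((F.totalDegree + 1) * (i.1 + 1) - 1))), ?_⟩
    have e : (c ^ p ^ ((F.totalDegree + 1) * (i.1 + 1) - 1)) ^ p = c ^ (D ^ (i.1 + 1)) := by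
      rw [← pow_mul, hm]
    rw [neg_pow_char', e]
    exact sub_eq_add_neg _ _
  · have h1 : y i = (y i - c ^ (D ^ (i.1 + 1))) + c ^ (D ^ (i.1 + 1)) := by ring
    rw [h1]
    exact IsIntegral.add (int_self (k := k) (fun i : Fin n => y i - c ^ (D ^ (i.1 + 1))) i)
      (IsIntegral.pow hint _)

theorem nn (cs : List C) : ∀ y : Fin n → C, Et k y →
    ∃ y' : Fin n → C, (∀ i, ∃ u, y' i = y i + u ^ p) ∧ (∀ i, Int k y' (y i)) ∧
      ∀ c ∈ cs, Int k y' c := by
  induction cs with
  | nil =>
    intro y _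
    exact ⟨y, fun i => ⟨0, by rw [zero_pow (Fact.out : p.Prime).ne_zero, add_zero]⟩,
      fun i => int_self y i, fun c hc => by simp at hc⟩
  | cons c cs ih =>
    intro y hy
    obtain ⟨y₁, h1, h2, h3⟩ := step p y hy c
    have hy₁ : Et k y₁ := Et_of_frobenius p y y₁ hy h1
    obtain ⟨y', h1', h2', h3'⟩ := ih y₁ hy₁
    have hp := ‹Fact p.Prime›
    refine ⟨y', fun i => ?_, fun i => int_trans y₁ y' h2' (h3 i), fun c' hc' => ?_⟩
    · obtain ⟨u, hu⟩ := h1 i
      obtain ⟨v, hv⟩ := h1' i
      exact ⟨u + v, by rw [hv, hu, add_pow_char, add_assoc]⟩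
    · rcases List.mem_cons.mp hc' with rfl | hc''
      · exact int_trans y₁ y' h2' h2
      · exact h3' c' hc''

include p in
theorem exists_finite_etale (x : Fin n → C) (hx : Et k x) :
    ∃ y : Fin n → C, Et k y ∧
      (aeval y : MvPolynomial (Fin n) k →ₐ[k] C).toRingHom.Finite := by
  obtain ⟨s, hs⟩ := (Algebra.FiniteType.out : (⊤ : Subalgebra k C).FG)
  obtain ⟨y, h1, h2, h3⟩ := nn p s.toList x hx
  have hy : Et k y := Et_of_frobenius p x y hx h1
  refine ⟨y, hy, ?_⟩
  have hall : ∀ z, Int k y z := by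
    intro z
    have hz : z ∈ Algebra.adjoin k (s : Set C) := by rw [hs]; trivial
    have hle : Algebra.adjoin k (s : Set C) ≤
        (integralClosure (Algebra.adjoin k (Set.range y)) C).restrictScalars k := by
      apply Algebra.adjoin_le
      intro c hc
      exact h3 c (Finset.mem_toList.mpr hc)
    exact hle hz
  refine RingHom.IsIntegral.to_finite (isIntegral_aeval_of_forall_int y hall) ?_
  have hft : (algebraMap k C).FiniteType := RingHom.finiteType_algebraMap.mpr inferInstance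
  have hcomp : algebraMap k C = (aeval y : MvPolynomial (Fin n) k →ₐ[k] C).toRingHom.comp
      (algebraMap k (MvPolynomial (Fin n) k)) :=
    ((aeval y : MvPolynomial (Fin n) k →ₐ[k] C).comp_algebraMap).symm
  rw [hcomp] at hft
  exact hft.of_comp_finiteType

end step

theorem etale_of_Et [Algebra.FinitePresentation k C] (y : Fin n → C) (h : Et k y) :
    (aeval y : MvPolynomial (Fin n) k →ₐ[k] C).toRingHom.Etale := by
  letI : Algebra (MvPolynomial (Fin n) k) C :=
    (aeval y : MvPolynomial (Fin n) k →ₐ[k] C).toRingHom.toAlgebra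
  haveI : IsScalarTower k (MvPolynomial (Fin n) k) C :=
    IsScalarTower.of_algebraMap_eq' (aeval y : MvPolynomial (Fin n) k →ₐ[k] C).comp_algebraMap.symm
  haveI : Algebra.FormallyEtale (MvPolynomial (Fin n) k) C := h
  haveI : Algebra.FinitePresentation (MvPolynomial (Fin n) k) C :=
    Algebra.FinitePresentation.of_restrict_scalars_finitePresentation k _ _
  exact (⟨inferInstance, inferInstance⟩ : Algebra.Etale (MvPolynomial (Fin n) k) C)

theorem main (k : Type u) [Field k] (p : ℕ) [Fact p.Prime] [CharP k p] (n : ℕ) (C : Type u)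
    [CommRing C] [Algebra (MvPolynomial (Fin n) k) C] [Algebra k C]
    [IsScalarTower k (MvPolynomial (Fin n) k) C] [Algebra.Etale (MvPolynomial (Fin n) k) C] :
    ∃ φ : MvPolynomial (Fin n) k →ₐ[k] C, φ.toRingHom.Finite ∧ φ.toRingHom.Etale := by
  haveI : Algebra.FinitePresentation k C :=
    Algebra.FinitePresentation.trans k (MvPolynomial (Fin n) k) C
  set x : Fin n → C := fun i => algebraMap (MvPolynomial (Fin n) k) C (X i) with hx
  have hax : (aeval x : MvPolynomial (Fin n) k →ₐ[k] C) =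
      IsScalarTower.toAlgHom k (MvPolynomial (Fin n) k) C := by
    apply MvPolynomial.algHom_ext
    intro i
    simp [hx]
  have hEt : Et k x := by
    unfold Et
    rw [hax]
    exact (RingHom.formallyEtale_algebraMap (R := MvPolynomial (Fin n) k) (S := C)).mpr
      inferInstance
  rcases subsingleton_or_nontrivial C with hC | hC
  · refine ⟨aeval x, ?_, etale_of_Et x hEt⟩
    letI : Algebra (MvPolynomial (Fin n) k) C :=
      (aeval x : MvPolynomial (Fin n) k →ₐ[k] C).toRingHom.toAlgebra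
    exact (inferInstance : Module.Finite (MvPolynomial (Fin n) k) C)
  · haveI : CharP C p := charP_of_injective_algebraMap (algebraMap k C).injective p
    obtain ⟨y, hy, hfin⟩ := exists_finite_etale p x hEt
    exact ⟨aeval y, hfin, etale_of_Et y hy⟩

end Groth.Agent.Lib.Helper22.Ked
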