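import Mathlib

universe u

namespace Groth.Agent.Lib.Helper22.LQ

variable {A : Type u} [CommRing A]

/-- the localization of a quotient: `S⁻¹ (A / I)` -/
abbrev B (I : Ideal A) (S : Submonoid A) : Type u :=
  Localization (S.map (Ideal.Quotient.mk I))

/-- the canonical map `A → S⁻¹ (A / I)` -/
noncomputable def toB (I : Ideal A) (S : Submonoid A) : A →+* B I S :=
  (algebraMap (A ⧸ I) (B I S)).comp (Ideal.Quotient.mk I)

theorem toB_eq_zero {I : Ideal A} {S : Submonoid A} {x : A} (hx : x ∈ I) : toB I S x = 0 := by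
  change algebraMap (A ⧸ I) (B I S) (Ideal.Quotient.mk I x) = 0
  rw [Ideal.Quotient.eq_zero_iff_mem.mpr hx, map_zero]

theorem toB_isUnit {I : Ideal A} {S : Submonoid A} {s : A} (hs : s ∈ S) : IsUnit (toB I S s) :=
  IsLocalization.map_units (B I S) (⟨Ideal.Quotient.mk I s, Submonoid.mem_map_of_mem _ hs⟩ :
    S.map (Ideal.Quotient.mk I))

/-- the universal property -/
noncomputable def lift {R : Type*} [CommRing R] (I : Ideal A) (S : Submonoid A) (φ : A →+* R)
    (hI : ∀ x ∈ I, φ x = 0) (hS : ∀ s ∈ S, IsUnit (φ s)) : B I S →+* R :=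
  IsLocalization.lift (M := S.map (Ideal.Quotient.mk I)) (g := Ideal.Quotient.lift I φ hI)
    (by
      rintro ⟨_, s, hs, rfl⟩
      change IsUnit (Ideal.Quotient.lift I φ hI (Ideal.Quotient.mk I s))
      rw [Ideal.Quotient.lift_mk]
      exact hS s hs)

theorem lift_comp {R : Type*} [CommRing R] (I : Ideal A) (S : Submonoid A) (φ : A →+* R)
    (hI : ∀ x ∈ I, φ x = 0) (hS : ∀ s ∈ S, IsUnit (φ s)) :
    (lift I S φ hI hS).comp (toB I S) = φ := by
  ext x
  change IsLocalization.lift _ (algebraMap (A ⧸ I) (B I S) (Ideal.Quotient.mk I x)) = _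
  rw [IsLocalization.lift_eq, Ideal.Quotient.lift_mk]

theorem hom_ext {R : Type*} [CommRing R] {I : Ideal A} {S : Submonoid A} {f g : B I S →+* R}
    (h : f.comp (toB I S) = g.comp (toB I S)) : f = g := by
  apply IsLocalization.ringHom_ext (S.map (Ideal.Quotient.mk I))
  apply Ideal.Quotient.ringHom_ext
  exact h

theorem nontrivial_iff {I : Ideal A} {S : Submonoid A} :
    Nontrivial (B I S) ↔ ∀ s ∈ S, s ∉ I := by
  rw [← not_subsingleton_iff_nontrivial,
    IsLocalization.subsingleton_iff (M := S.map (Ideal.Quotient.mk I))]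
  constructor
  · intro h s hs hsI
    exact h ⟨s, hs, Ideal.Quotient.eq_zero_iff_mem.mpr hsI⟩
  · rintro h ⟨s, hs, h0⟩
    exact h s hs (Ideal.Quotient.eq_zero_iff_mem.mp h0)

/-- the transition maps -/
noncomputable def trans {I I' : Ideal A} {S S' : Submonoid A} (hI : I ≤ I') (hS : S ≤ S') :
    B I S →+* B I' S' :=
  lift I S (toB I' S') (fun _ hx => toB_eq_zero (hI hx)) (fun _ hs => toB_isUnit (hS hs))

theorem trans_comp {I I' : Ideal A} {S S' : Submonoid A} (hI : I ≤ I') (hS : S ≤ S') :
    (trans hI hS).comp (toB I S) = toB I' S' :=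
  lift_comp _ _ _ _ _

theorem trans_trans {I I' I'' : Ideal A} {S S' S'' : Submonoid A} (hI : I ≤ I') (hS : S ≤ S')
    (hI' : I' ≤ I'') (hS' : S' ≤ S'') :
    (trans hI' hS').comp (trans hI hS) = trans (hI.trans hI') (hS.trans hS') := by
  apply hom_ext
  rw [RingHom.comp_assoc, trans_comp, trans_comp, trans_comp]

theorem trans_refl (I : Ideal A) (S : Submonoid A) :
    trans (le_refl I) (le_refl S) = RingHom.id _ := by
  apply hom_ext
  rw [trans_comp, RingHom.id_comp]

/-- if every element is in `I` or in `S` then `S⁻¹(A/I)` is a field -/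
theorem isField_of_forall_mem {I : Ideal A} {S : Submonoid A} [Nontrivial (B I S)]
    (h : ∀ a : A, a ∈ S ∨ a ∈ I) : IsField (B I S) := by
  refine ⟨exists_pair_ne _, mul_comm, fun {b} hb => ?_⟩
  obtain ⟨x, s, rfl⟩ := IsLocalization.exists_mk'_eq (S.map (Ideal.Quotient.mk I)) b
  obtain ⟨x, rfl⟩ := Ideal.Quotient.mk_surjective x
  have hx : x ∈ S := by
    rcases h x with h1 | h1
    · exact h1
    · exfalso
      apply hb
      rw [Ideal.Quotient.eq_zero_iff_mem.mpr h1, IsLocalization.mk'_zero]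
  have hu : IsUnit (IsLocalization.mk' (B I S) (Ideal.Quotient.mk I x) s) := by
    have h1 : IsUnit (algebraMap (A ⧸ I) (B I S) (Ideal.Quotient.mk I x)) := toB_isUnit hx
    have h2 := IsLocalization.mk'_spec (B I S) (Ideal.Quotient.mk I x) s
    rw [← h2] at h1
    exact isUnit_of_mul_isUnit_left h1
  obtain ⟨c, hc⟩ := hu.exists_right_inv
  exact ⟨c, hc⟩

section cut

variable (I : Ideal A) (S : Submonoid A) (a : A)

theorem isUnit_of_mem_sup_closure {R : Type*} [CommRing R] (φ : A →+* R)
    (hS : ∀ s ∈ S, IsUnit (φ s)) (ha : IsUnit (φ a)) :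
    ∀ s ∈ S ⊔ Submonoid.closure {a}, IsUnit (φ s) := by
  intro s hs
  rw [Submonoid.mem_sup] at hs
  obtain ⟨y, hy, z, hz, rfl⟩ := hs
  rw [Submonoid.mem_closure_singleton] at hz
  obtain ⟨n, rfl⟩ := hz
  rw [map_mul, map_pow]
  exact (hS y hy).mul (ha.pow n)

theorem mem_a_closure : a ∈ S ⊔ Submonoid.closure {a} :=
  Submonoid.mem_sup_right (Submonoid.subset_closure (Set.mem_singleton a))

theorem mem_a_span : a ∈ I ⊔ Ideal.span {a} :=
  Ideal.mem_sup_right (Ideal.subset_span (Set.mem_singleton a))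

/-- `B_a → S'⁻¹(A/I)` -/
noncomputable def awayF : Localization.Away (toB I S a) →+* B I (S ⊔ Submonoid.closure {a}) :=
  IsLocalization.Away.lift (toB I S a) (g := trans (le_refl I) (le_sup_left : S ≤ _))
    (by
      rw [← RingHom.comp_apply, trans_comp]
      exact toB_isUnit (mem_a_closure S a))

theorem awayF_comp : (awayF I S a).comp (algebraMap (B I S) (Localization.Away (toB I S a))) =
    trans (le_refl I) (le_sup_left : S ≤ _) :=
  IsLocalization.Away.lift_comp _ _

/-- `S'⁻¹(A/I) → B_a` -/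
noncomputable def awayG : B I (S ⊔ Submonoid.closure {a}) →+* Localization.Away (toB I S a) :=
  lift I _ ((algebraMap (B I S) (Localization.Away (toB I S a))).comp (toB I S))
    (fun x hx => by rw [RingHom.comp_apply, toB_eq_zero hx, map_zero])
    (isUnit_of_mem_sup_closure S a _
      (fun s hs => by rw [RingHom.comp_apply]; exact (toB_isUnit hs).map _)
      (by rw [RingHom.comp_apply]; exact IsLocalization.Away.algebraMap_isUnit (toB I S a)))

theorem awayG_comp : (awayG I S a).comp (toB I _) =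
    (algebraMap (B I S) (Localization.Away (toB I S a))).comp (toB I S) :=
  lift_comp _ _ _ _ _

/-- inverting one more element -/
noncomputable def awayEquiv :
    Localization.Away (toB I S a) ≃+* B I (S ⊔ Submonoid.closure {a}) :=
  RingEquiv.ofRingHom (awayF I S a) (awayG I S a)
    (by
      apply hom_ext
      rw [RingHom.comp_assoc, awayG_comp, ← RingHom.comp_assoc, awayF_comp, trans_comp,
        RingHom.id_comp])
    (by
      apply IsLocalization.ringHom_ext (Submonoid.powers (toB I S a))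
      apply hom_ext
      rw [RingHom.id_comp, RingHom.comp_assoc, RingHom.comp_assoc,
        ← RingHom.comp_assoc (toB I S) _ (awayF I S a), awayF_comp, trans_comp, awayG_comp])

theorem awayEquiv_comp :
    ((awayEquiv I S a).toRingHom.comp (algebraMap (B I S) (Localization.Away (toB I S a)))).comp
      (toB I S) = toB I (S ⊔ Submonoid.closure {a}) := by
  change ((awayF I S a).comp _).comp _ = _
  rw [awayF_comp, trans_comp]

/-- `B/a → S⁻¹(A/(I+a))` -/
noncomputable def quotF : (B I S ⧸ Ideal.span {toB I S a}) →+* B (I ⊔ Ideal.span {a}) S :=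
  Ideal.Quotient.lift _ (trans (le_sup_left : I ≤ _) (le_refl S)) (by
    intro x hx
    rw [Ideal.mem_span_singleton] at hx
    obtain ⟨c, rfl⟩ := hx
    rw [map_mul, ← RingHom.comp_apply, trans_comp, toB_eq_zero (mem_a_span I a), zero_mul])

theorem quotF_comp : (quotF I S a).comp (Ideal.Quotient.mk (Ideal.span {toB I S a})) =
    trans (le_sup_left : I ≤ I ⊔ Ideal.span {a}) (le_refl S) :=
  Ideal.Quotient.lift_comp_mk _ _ _

/-- `S⁻¹(A/(I+a)) → B/a` -/
noncomputable def quotG : B (I ⊔ Ideal.span {a}) S →+* (B I S ⧸ Ideal.span {toB I S a}) :=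
  lift _ S ((Ideal.Quotient.mk (Ideal.span {toB I S a})).comp (toB I S))
    (fun x hx => by
      rw [Submodule.mem_sup] at hx
      obtain ⟨y, hy, z, hz, rfl⟩ := hx
      rw [Ideal.mem_span_singleton] at hz
      obtain ⟨c, rfl⟩ := hz
      rw [map_add, RingHom.comp_apply, toB_eq_zero hy, map_zero, zero_add, RingHom.comp_apply,
        map_mul, map_mul,
        Ideal.Quotient.eq_zero_iff_mem.mpr (Ideal.subset_span (Set.mem_singleton _)), zero_mul])
    (fun s hs => by rw [RingHom.comp_apply]; exact (toB_isUnit hs).map _)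

theorem quotG_comp : (quotG I S a).comp (toB _ S) =
    (Ideal.Quotient.mk (Ideal.span {toB I S a})).comp (toB I S) :=
  lift_comp _ _ _ _ _

/-- killing one more element -/
noncomputable def quotEquiv :
    (B I S ⧸ Ideal.span {toB I S a}) ≃+* B (I ⊔ Ideal.span {a}) S :=
  RingEquiv.ofRingHom (quotF I S a) (quotG I S a)
    (by
      apply hom_ext
      rw [RingHom.comp_assoc, quotG_comp, ← RingHom.comp_assoc, quotF_comp, trans_comp,
        RingHom.id_comp])
    (by
      apply Ideal.Quotient.ringHom_ext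
      apply hom_ext
      rw [RingHom.id_comp, RingHom.comp_assoc, RingHom.comp_assoc,
        ← RingHom.comp_assoc (toB I S) _ (quotF I S a), quotF_comp, trans_comp, quotG_comp])

theorem quotEquiv_comp :
    ((quotEquiv I S a).toRingHom.comp (Ideal.Quotient.mk (Ideal.span {toB I S a}))).comp
      (toB I S) = toB (I ⊔ Ideal.span {a}) S := by
  change ((quotF I S a).comp _).comp _ = _
  rw [quotF_comp, trans_comp]

end cut

section chain

open CategoryTheory Limits AlgebraicGeometry

variable (C : Set (Ideal A × Submonoid A))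

/-- the union of the ideals of a chain -/
def supI : Ideal A := ⨆ c : C, c.1.1

/-- the union of the submonoids of a chain -/
def supS : Submonoid A := ⨆ c : C, c.1.2

theorem le_supI (c : C) : c.1.1 ≤ supI C := le_iSup (fun c : C => c.1.1) c

theorem le_supS (c : C) : c.1.2 ≤ supS C := le_iSup (fun c : C => c.1.2) c

variable {C}

theorem directed_fst (hC : IsChain (· ≤ ·) C) : Directed (· ≤ ·) (fun c : C => c.1.1) := by
  intro c c'
  rcases hC.total c.2 c'.2 with h | h
  · exact ⟨c', h.1, le_rfl⟩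
  · exact ⟨c, le_rfl, h.1⟩

theorem directed_snd (hC : IsChain (· ≤ ·) C) : Directed (· ≤ ·) (fun c : C => c.1.2) := by
  intro c c'
  rcases hC.total c.2 c'.2 with h | h
  · exact ⟨c', h.2, le_rfl⟩
  · exact ⟨c, le_rfl, h.2⟩

theorem mem_supI (hC : IsChain (· ≤ ·) C) [Nonempty C] {x : A} :
    x ∈ supI C ↔ ∃ c : C, x ∈ c.1.1 :=
  Submodule.mem_iSup_of_directed _ (directed_fst hC)

theorem mem_supS (hC : IsChain (· ≤ ·) C) [Nonempty C] {x : A} :
    x ∈ supS C ↔ ∃ c : C, x ∈ c.1.2 :=
  Submonoid.mem_iSup_of_directed (directed_snd hC)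

theorem nontrivial_sup (hC : IsChain (· ≤ ·) C) [Nonempty C]
    (h : ∀ c : C, Nontrivial (B c.1.1 c.1.2)) : Nontrivial (B (supI C) (supS C)) := by
  rw [nontrivial_iff]
  intro s hs hsI
  obtain ⟨c, hc⟩ := (mem_supS hC).mp hs
  obtain ⟨c', hc'⟩ := (mem_supI hC).mp hsI
  rcases hC.total c.2 c'.2 with h' | h'
  · exact (nontrivial_iff.mp (h c')) s (h'.2 hc) hc'
  · exact (nontrivial_iff.mp (h c)) s hc (h'.1 hc')

theorem isDirectedOrder (hC : IsChain (· ≤ ·) C) : IsDirectedOrder C := by
  constructor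
  intro c c'
  rcases hC.total c.2 c'.2 with h | h
  · exact ⟨c', h, le_rfl⟩
  · exact ⟨c, le_rfl, h⟩

/-- categorical form of `toB` -/
noncomputable abbrev toBc (I : Ideal A) (S : Submonoid A) :
    CommRingCat.of A ⟶ CommRingCat.of (B I S) :=
  CommRingCat.ofHom (toB I S)

/-- categorical form of `trans` -/
noncomputable abbrev transc {I I' : Ideal A} {S S' : Submonoid A} (hI : I ≤ I') (hS : S ≤ S') :
    CommRingCat.of (B I S) ⟶ CommRingCat.of (B I' S') :=
  CommRingCat.ofHom (trans hI hS)

@[reassoc]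
theorem toBc_transc {I I' : Ideal A} {S S' : Submonoid A} (hI : I ≤ I') (hS : S ≤ S') :
    toBc I S ≫ transc hI hS = toBc I' S' := by
  ext1
  exact trans_comp hI hS

theorem homc_ext {I : Ideal A} {S : Submonoid A} {R : CommRingCat.{u}}
    {f g : CommRingCat.of (B I S) ⟶ R} (h : toBc I S ≫ f = toBc I S ≫ g) : f = g := by
  ext1
  apply hom_ext
  exact congrArg CommRingCat.Hom.hom h

/-- categorical form of `lift` -/
noncomputable def liftc (I : Ideal A) (S : Submonoid A) {R : CommRingCat.{u}}
    (φ : CommRingCat.of A ⟶ R) (hI : ∀ x ∈ I, φ.hom x = 0) (hS : ∀ s ∈ S, IsUnit (φ.hom s)) :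
    CommRingCat.of (B I S) ⟶ R :=
  CommRingCat.ofHom (lift I S φ.hom hI hS)

@[reassoc]
theorem toBc_liftc (I : Ideal A) (S : Submonoid A) {R : CommRingCat.{u}}
    (φ : CommRingCat.of A ⟶ R) (hI : ∀ x ∈ I, φ.hom x = 0) (hS : ∀ s ∈ S, IsUnit (φ.hom s)) :
    toBc I S ≫ liftc I S φ hI hS = φ := by
  ext1
  exact lift_comp I S φ.hom hI hS

theorem transc_transc {I I' I'' : Ideal A} {S S' S'' : Submonoid A} (hI : I ≤ I') (hS : S ≤ S')
    (hI' : I' ≤ I'') (hS' : S' ≤ S'') :
    transc hI hS ≫ transc hI' hS' = transc (hI.trans hI') (hS.trans hS') := by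
  apply homc_ext
  rw [toBc_transc_assoc, toBc_transc, toBc_transc]

theorem transc_refl (I : Ideal A) (S : Submonoid A) :
    transc (le_refl I) (le_refl S) = 𝟙 _ := by
  apply homc_ext
  rw [toBc_transc, Category.comp_id]

variable (C)

/-- the diagram of rings -/
noncomputable def F : C ⥤ CommRingCat.{u} where
  obj c := CommRingCat.of (B c.1.1 c.1.2)
  map {c c'} f := transc (leOfHom f).1 (leOfHom f).2
  map_id c := transc_refl _ _
  map_comp f g := (transc_transc (leOfHom f).1 (leOfHom f).2 (leOfHom g).1 (leOfHom g).2).symm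

@[reassoc]
theorem toBc_F_map {c c' : C} (f : c ⟶ c') :
    toBc c.1.1 c.1.2 ≫ (F C).map f = toBc c'.1.1 c'.1.2 :=
  toBc_transc _ _

/-- the cocone of rings -/
noncomputable def cocone : Cocone (F C) where
  pt := CommRingCat.of (B (supI C) (supS C))
  ι :=
    { app := fun c => transc (le_supI C c) (le_supS C c)
      naturality := fun c c' f => by
        refine Eq.trans ?_ (Category.comp_id _).symm
        exact transc_transc _ _ _ _ }

@[reassoc]
theorem toBc_cocone_ι (c : C) :
    toBc c.1.1 c.1.2 ≫ (cocone C).ι.app c = toBc (supI C) (supS C) :=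
  toBc_transc _ _

variable {C}

theorem cocone_comp_eq (hC : IsChain (· ≤ ·) C) (s : Cocone (F C)) (c c' : C) :
    toBc c.1.1 c.1.2 ≫ s.ι.app c = toBc c'.1.1 c'.1.2 ≫ s.ι.app c' := by
  have key : ∀ (c c' : C) (h : c ≤ c'),
      toBc c.1.1 c.1.2 ≫ s.ι.app c = toBc c'.1.1 c'.1.2 ≫ s.ι.app c' := by
    intro c c' h
    calc toBc c.1.1 c.1.2 ≫ s.ι.app c
        = toBc c.1.1 c.1.2 ≫ ((F C).map (homOfLE h) ≫ s.ι.app c') :=
          congrArg (toBc c.1.1 c.1.2 ≫ ·) (s.w (homOfLE h)).symm
      _ = (toBc c.1.1 c.1.2 ≫ (F C).map (homOfLE h)) ≫ s.ι.app c' := (Category.assoc _ _ _).symm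
      _ = toBc c'.1.1 c'.1.2 ≫ s.ι.app c' := congrArg (· ≫ s.ι.app c') (toBc_F_map C _)
  rcases hC.total c.2 c'.2 with h | h
  · exact key c c' h
  · exact (key c' c h).symm

/-- the cocone of rings is a colimit -/
noncomputable def isColimit (hC : IsChain (· ≤ ·) C) [Nonempty C] : IsColimit (cocone C) where
  desc s := liftc (supI C) (supS C)
    (toBc (Classical.arbitrary C).1.1 (Classical.arbitrary C).1.2 ≫
      s.ι.app (Classical.arbitrary C))
    (fun x hx => by
      obtain ⟨c, hc⟩ := (mem_supI hC).mp hx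
      rw [cocone_comp_eq hC s _ c]
      show (s.ι.app c).hom (toB c.1.1 c.1.2 x) = 0
      rw [toB_eq_zero hc]
      exact map_zero (s.ι.app c).hom)
    (fun x hx => by
      obtain ⟨c, hc⟩ := (mem_supS hC).mp hx
      rw [cocone_comp_eq hC s _ c]
      show IsUnit ((s.ι.app c).hom (toB c.1.1 c.1.2 x))
      exact (toB_isUnit hc).map _)
  fac s c := by
    apply homc_ext
    refine (Category.assoc _ _ _).symm.trans ?_
    refine (congrArg (· ≫ liftc (supI C) (supS C) _ _ _) (toBc_cocone_ι C c)).trans ?_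
    refine (toBc_liftc _ _ _ _ _).trans ?_
    exact cocone_comp_eq hC s _ c
  uniq s m hm := by
    apply homc_ext
    refine Eq.trans ?_ (toBc_liftc _ _ _ _ _).symm
    refine Eq.trans ?_ (congrArg (toBc _ _ ≫ ·) (hm (Classical.arbitrary C)))
    refine Eq.trans ?_ (Category.assoc _ _ _)
    exact (congrArg (· ≫ m) (toBc_cocone_ι C (Classical.arbitrary C))).symm

variable (C) {T : Scheme.{u}} (a : Spec (CommRingCat.of A) ⟶ T)

/-- `toBc` with codomain an object of `F` -/
noncomputable def toF (c : C) : CommRingCat.of A ⟶ (F C).obj c := toBc c.1.1 c.1.2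

/-- `toBc` with codomain the point of the cocone -/
noncomputable def toSup : CommRingCat.of A ⟶ (cocone C).pt := toBc (supI C) (supS C)

@[reassoc]
theorem toF_map {c c' : C} (f : c ⟶ c') : toF C c ≫ (F C).map f = toF C c' :=
  toBc_F_map C f

@[reassoc]
theorem toF_ι (c : C) : toF C c ≫ (cocone C).ι.app c = toSup C :=
  toBc_cocone_ι C c

/-- the diagram of schemes over `T` -/
noncomputable def D : (↥C)ᵒᵖ ⥤ Over T where
  obj c := Over.mk (Spec.map (toF C c.unop) ≫ a)
  map {c c'} f := Over.homMk (Spec.map ((F C).map f.unop)) (by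
    change Spec.map ((F C).map f.unop) ≫ Spec.map (toF C c'.unop) ≫ a =
      Spec.map (toF C c.unop) ≫ a
    rw [← Category.assoc, ← Spec.map_comp, toF_map])
  map_id c := by
    ext1
    change Spec.map ((F C).map (𝟙 c.unop)) = 𝟙 _
    rw [(F C).map_id, Spec.map_id]
  map_comp {c c' c''} f g := by
    ext1
    change Spec.map ((F C).map (g.unop ≫ f.unop)) =
      Spec.map ((F C).map f.unop) ≫ Spec.map ((F C).map g.unop)
    rw [(F C).map_comp, Spec.map_comp]

/-- the cone of schemes over `T` -/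
noncomputable def cone : Cone (D C a) where
  pt := Over.mk (Spec.map (toSup C) ≫ a)
  π :=
    { app := fun c => Over.homMk (Spec.map ((cocone C).ι.app c.unop)) (by
        change Spec.map ((cocone C).ι.app c.unop) ≫ Spec.map (toF C c.unop) ≫ a =
          Spec.map (toSup C) ≫ a
        rw [← Category.assoc, ← Spec.map_comp, toF_ι])
      naturality := fun c c' f => by
        ext1
        change 𝟙 _ ≫ Spec.map ((cocone C).ι.app c'.unop) =
          Spec.map ((cocone C).ι.app c.unop) ≫ Spec.map ((F C).map f.unop)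
        rw [Category.id_comp, ← Spec.map_comp, (cocone C).w] }

variable {C}

/-- the cone of schemes over `T` is a limit -/
noncomputable def isLimit (hC : IsChain (· ≤ ·) C) [Nonempty C] : IsLimit (cone C a) := by
  have : IsDirectedOrder C := isDirectedOrder hC
  have : IsConnected (↥C)ᵒᵖ := IsCofiltered.isConnected _
  have h1 : IsLimit (Scheme.Spec.mapCone (cocone C).op) :=
    isLimitOfPreserves Scheme.Spec (isColimit hC).op
  have h2 : IsLimit ((Over.forget T).mapCone (cone C a)) := h1
  exact isLimitOfReflects (Over.forget T) h2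

end chain

end Groth.Agent.Lib.Helper22.LQ
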