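import Mathlib

/-!
If `X = lim X_i` (qcqs, affine transitions) over a qcqs `S` and `X ⟶ S` is affine, then
`X_i ⟶ S` is affine for all `i` beyond some index.
-/

universe u

namespace Groth.Agent.Lib.Helper22.LimAffine

open CategoryTheory CategoryTheory.Limits AlgebraicGeometry TopologicalSpace

variable {I : Type u} [SmallCategory I] [IsCofiltered I] (S : Scheme.{u})
    (D : I ⥤ Scheme.{u}) (t : D ⟶ (Functor.const I).obj S) (c : Limits.Cone D)
    (hc : Limits.IsLimit c)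
    [∀ (i j : I) (a : i ⟶ j), IsAffineHom (D.map a)]

omit [IsCofiltered I] [∀ (i j : I) (a : i ⟶ j), IsAffineHom (D.map a)] in
lemma map_comp_t {i j : I} (a : i ⟶ j) : D.map a ≫ t.app j = t.app i := by
  have := t.naturality a
  simpa using this

omit [IsCofiltered I] [∀ (i j : I) (a : i ⟶ j), IsAffineHom (D.map a)] in
lemma preimage_t {i j : I} (a : i ⟶ j) (U : S.Opens) :
    D.map a ⁻¹ᵁ (t.app j ⁻¹ᵁ U) = t.app i ⁻¹ᵁ U := by
  rw [← Scheme.Hom.comp_preimage, map_comp_t]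

omit [IsCofiltered I] in
lemma isAffineOpen_preimage_of_hom {i j : I} (a : i ⟶ j) (U : S.Opens)
    (h : IsAffineOpen (t.app j ⁻¹ᵁ U)) : IsAffineOpen (t.app i ⁻¹ᵁ U) := by
  rw [← preimage_t S D t a U]
  exact h.preimage (D.map a)

include hc in
set_option backward.isDefEq.respectTransparency.types false in
lemma exists_isAffineOpen_preimage [QuasiSeparatedSpace S]
    [∀ i, CompactSpace (D.obj i)] [∀ i, QuasiSeparatedSpace (D.obj i)] (i₀ : I)
    (h : IsAffineHom (c.π.app i₀ ≫ t.app i₀)) (U : S.Opens) (hU : IsAffineOpen U) :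
    ∃ j : I, IsAffineOpen (t.app j ⁻¹ᵁ U) := by
  have inst : ∀ {i j : I} (f : i ⟶ j), IsAffineHom (D.map f) := fun f => inferInstance
  let W : (D.obj i₀).Opens := t.app i₀ ⁻¹ᵁ U
  have hqc : QuasiCompact (t.app i₀) := quasiCompact_of_compactSpace (Y := S) (t.app i₀)
  have hWc : IsCompact (W : Set (D.obj i₀)) :=
    QuasiCompact.isCompact_preimage (f := t.app i₀) _ U.2 hU.isCompact
  have (j : Over i₀) : CompactSpace ((opensDiagram D i₀ W).obj j) :=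
    isCompact_iff_compactSpace.mp (QuasiCompact.isCompact_preimage _ W.2 hWc)
  have (j : Over i₀) : QuasiSeparatedSpace ((opensDiagram D i₀ W).obj j) :=
    (isQuasiSeparated_iff_quasiSeparatedSpace _ (D.map _ ⁻¹ᵁ _).2).mp (.of_quasiSeparatedSpace _)
  have haff : IsAffineOpen (c.π.app i₀ ⁻¹ᵁ W) := by
    show IsAffineOpen (c.π.app i₀ ⁻¹ᵁ (t.app i₀ ⁻¹ᵁ U))
    rw [← Scheme.Hom.comp_preimage]
    exact hU.preimage (c.π.app i₀ ≫ t.app i₀)
  have : IsAffine (opensCone D c i₀ W).pt := haff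
  obtain ⟨j, hj⟩ := Scheme.exists_isAffine_of_isLimit _ _ (isLimitOpensCone D c hc i₀ W)
  refine ⟨j.left, ?_⟩
  rw [← preimage_t S D t j.hom U]
  exact hj

include hc in
/-- eventually affine. -/
theorem eventually_isAffineHom [CompactSpace S] [QuasiSeparatedSpace S]
    [∀ i, CompactSpace (D.obj i)] [∀ i, QuasiSeparatedSpace (D.obj i)] (i₀ : I)
    (h : IsAffineHom (c.π.app i₀ ≫ t.app i₀)) :
    ∃ i₁ : I, ∀ (i : I) (_ : i ⟶ i₁), IsAffineHom (t.app i) := by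
  have key : ∃ i₁ : I, ∀ x ∈ (Set.univ : Set S), ∃ U : S.Opens, IsAffineOpen U ∧ x ∈ U ∧
      ∀ (i : I) (_ : i ⟶ i₁), IsAffineOpen (t.app i ⁻¹ᵁ U) := by
    refine isCompact_univ.induction_on (p := fun K => ∃ i₁ : I, ∀ x ∈ K, ∃ U : S.Opens,
      IsAffineOpen U ∧ x ∈ U ∧ ∀ (i : I) (_ : i ⟶ i₁), IsAffineOpen (t.app i ⁻¹ᵁ U)) ?_ ?_ ?_ ?_
    · obtain ⟨i⟩ := IsCofiltered.nonempty (C := I)
      exact ⟨i, fun x hx => hx.elim⟩
    · rintro s s' hss' ⟨i₁, h₁⟩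
      exact ⟨i₁, fun x hx => h₁ x (hss' hx)⟩
    · rintro s s' ⟨i₁, h₁⟩ ⟨i₂, h₂⟩
      refine ⟨IsCofiltered.min i₁ i₂, ?_⟩
      rintro x (hx | hx)
      · obtain ⟨U, hU, hxU, hUa⟩ := h₁ x hx
        exact ⟨U, hU, hxU, fun i a => hUa i (a ≫ IsCofiltered.minToLeft i₁ i₂)⟩
      · obtain ⟨U, hU, hxU, hUa⟩ := h₂ x hx
        exact ⟨U, hU, hxU, fun i a => hUa i (a ≫ IsCofiltered.minToRight i₁ i₂)⟩
    · intro x _
      obtain ⟨_, ⟨U, hU : IsAffineOpen U, rfl⟩, hxU, -⟩ :=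
        S.isBasis_affineOpens.exists_subset_of_mem_open (Set.mem_univ x) isOpen_univ
      obtain ⟨j, hj⟩ := exists_isAffineOpen_preimage S D t c hc i₀ h U hU
      refine ⟨U, mem_nhdsWithin_of_mem_nhds (U.isOpen.mem_nhds hxU), j, fun y hy => ?_⟩
      exact ⟨U, hU, hy, fun i a => isAffineOpen_preimage_of_hom S D t a U hj⟩
  obtain ⟨i₁, h₁⟩ := key
  refine ⟨i₁, fun i a => ?_⟩
  apply isAffineHom_of_forall_exists_isAffineOpen
  intro x
  obtain ⟨U, hU, hxU, hUa⟩ := h₁ x (Set.mem_univ x)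
  exact ⟨U, hxU, hU, hUa i a⟩

end Groth.Agent.Lib.Helper22.LimAffine
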