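import Mathlib
import Groth.Agent.S2152
import Groth.Agent.Lib.Helper10SpectralLim

/-!
# Constructible sets with empty preimage in a cofiltered limit of qcqs schemes (helper3)
-/

set_option autoImplicit false
set_option linter.style.haveILetI false

universe u

open CategoryTheory CategoryTheory.Limits AlgebraicGeometry Topology

namespace Groth.Agent.Lib.Helper3.LimConstr

/-- If `E` is a constructible subset of a stage `D_j` of a cofiltered system of qcqs schemes with
affine transition maps whose preimage in the limit is empty, then its preimage in some `D_k` is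
empty. -/
theorem exists_preimage_eq_empty {J : Type u} [SmallCategory J] [IsCofiltered J]
    (D : J ⥤ Scheme.{u}) [∀ (i j : J) (f : i ⟶ j), IsAffineHom (D.map f)]
    [∀ j, CompactSpace (D.obj j)] [∀ j, QuasiSeparatedSpace (D.obj j)]
    (c : Cone D) (hc : IsLimit c) (j : J) (E : Set (D.obj j)) (hE : IsConstructible E)
    (h : c.π.app j ⁻¹' E = ∅) : ∃ (k : J) (a : k ⟶ j), D.map a ⁻¹' E = ∅ := by
  obtain ⟨hT⟩ := Groth.Agent.S2152.result D c hc
  haveI hF : ∀ j, SpectralSpace ((D ⋙ Scheme.forgetToTop).obj j) := fun j => by
    show SpectralSpace (D.obj j)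
    exact { }
  have hFm : ∀ {i j : J} (a : i ⟶ j),
      IsSpectralMap ((D ⋙ Scheme.forgetToTop).map a :
        (D ⋙ Scheme.forgetToTop).obj i → (D ⋙ Scheme.forgetToTop).obj j) := fun a =>
    (D.map a).isSpectralMap
  have hE' : IsClosed[constructibleTopology ((D ⋙ Scheme.forgetToTop).obj j)] E :=
    Groth.Agent.Lib.Helper10.Spectral.isClosed_constr_of_isConstructible
      (X := D.obj j) hE
  exact Groth.Agent.Lib.Helper10.SpectralLim.exists_hom_preimage_eq_empty
    (Scheme.forgetToTop.mapCone c) hT hFm j E hE' h

end Groth.Agent.Lib.Helper3.LimConstr
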