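import Mathlib
import Groth.Agent.Lib.Helper22GI12
import Groth.Agent.Lib.Helper3LimConstr
import Groth.Agent.Lib.Helper6SepCl
import Groth.Agent.Lib.Helper2GeomFibBC

set_option autoImplicit false
set_option linter.style.haveILetI false
set_option linter.unusedSectionVars false
set_option linter.unusedVariables false

universe u

open CategoryTheory CategoryTheory.Limits AlgebraicGeometry Topology

namespace Groth.Agent.Lib.Helper22.LimConn

/-- a space with at most one connected component is preconnected. -/
theorem preconnectedSpace_of_card_le_one {T : Type*} [TopologicalSpace T]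
    (h : ENat.card (_root_.ConnectedComponents T) ≤ 1) : PreconnectedSpace T := by
  haveI : Subsingleton (_root_.ConnectedComponents T) := (ENat.card_le_one_iff_subsingleton _).mp h
  refine ⟨?_⟩
  rcases isEmpty_or_nonempty T with hT | ⟨⟨x⟩⟩
  · have : (Set.univ : Set T) = ∅ := Set.eq_empty_of_isEmpty _
    rw [this]
    exact isPreconnected_empty
  · have : (Set.univ : Set T) = connectedComponent x := by
      symm
      rw [Set.eq_univ_iff_forall]
      intro y
      have : (_root_.ConnectedComponents.mk y : _root_.ConnectedComponents T) =
        _root_.ConnectedComponents.mk x := Subsingleton.elim _ _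
      exact _root_.ConnectedComponents.coe_eq_coe'.mp this
    rw [this]
    exact isPreconnected_connectedComponent

/-- a preconnected space has at most one connected component. -/
theorem card_le_one_of_preconnectedSpace {T : Type*} [TopologicalSpace T] [PreconnectedSpace T] :
    ENat.card (_root_.ConnectedComponents T) ≤ 1 := by
  rw [ENat.card_le_one_iff_subsingleton]
  constructor
  intro a b
  obtain ⟨x, rfl⟩ := _root_.ConnectedComponents.surjective_coe a
  obtain ⟨y, rfl⟩ := _root_.ConnectedComponents.surjective_coe b
  rw [_root_.ConnectedComponents.coe_eq_coe']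
  rw [PreconnectedSpace.connectedComponent_eq_univ y]
  trivial

variable {X Y : Scheme.{u}} (f : X ⟶ Y)

/-- the geometric fibre over a point with nonempty fibre is nonempty. -/
theorem nonempty_geomFiber (y : Y) (x : X) (hx : f.base x = y) :
    Nonempty ↥(MoreMor.geomFiber f y) := by
  have hxr : x ∈ Set.range (f.fiberι y) := by
    rw [Scheme.Hom.range_fiberι]
    exact hx
  obtain ⟨x₁, -⟩ := hxr
  haveI : Surjective (Spec.map (CommRingCat.ofHom (algebraMap (Y.residueField y)
      (SeparableClosure (Y.residueField y))))) := by
    rw [surjective_iff]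
    intro z
    exact ⟨IsLocalRing.closedPoint _, Subsingleton.elim (α := PrimeSpectrum _) _ _⟩
  obtain ⟨x₂, -⟩ := (pullback.fst (f.fiberToSpecResidueField y)
    (Spec.map (CommRingCat.ofHom (algebraMap (Y.residueField y)
      (SeparableClosure (Y.residueField y)))))).surjective x₁
  exact ⟨x₂⟩

/-- a nonempty fibre with one geometric connected component is geometrically connected. -/
theorem geometricallyConnected_fiber_of_le_one (y : Y) (x : X) (hx : f.base x = y)
    (h : MoreMor.nGeomConnComp f y ≤ 1) :
    GeometricallyConnected (f.fiberToSpecResidueField y) := by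
  haveI hpre : PreconnectedSpace ↥(MoreMor.geomFiber f y) := preconnectedSpace_of_card_le_one h
  haveI hne := nonempty_geomFiber f y x hx
  haveI hconn : ConnectedSpace ↥(MoreMor.geomFiber f y) := { toNonempty := hne }
  letI := f.fiberOverSpecResidueField y
  haveI : ConnectedSpace ↥(Curv2.bc (Y.residueField y) (f.fiber y)
      (SeparableClosure (Y.residueField y))) := hconn
  exact Groth.Agent.Lib.Helper6.SepCl.geometricallyConnected_of_sepClosure (Y.residueField y)
    (f.fiber y)

/-- geometric fibres over a point with at most one geometric connected component are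
preconnected. -/
theorem preconnectedSpace_pullback_of_le_one (Ω : Type u) [Field Ω]
    (t : Spec (CommRingCat.of Ω) ⟶ Y) (pt : ↥(Spec (CommRingCat.of Ω)))
    (h : MoreMor.nGeomConnComp f (t.base pt) ≤ 1) : PreconnectedSpace ↥(pullback f t) := by
  rcases isEmpty_or_nonempty ↥(pullback f t) with hE | ⟨⟨w⟩⟩
  · infer_instance
  · have hw : f.base ((pullback.fst f t).base w) = t.base pt := by
      have h1 := congrArg (fun ψ : pullback f t ⟶ Y => ψ.base w) (pullback.condition (f := f) (g := t))
      simp only [Scheme.Hom.comp_base, TopCat.comp_app] at h1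
      rw [h1]
      congr 1
      exact Subsingleton.elim (α := PrimeSpectrum Ω) _ _
    have hgc := geometricallyConnected_fiber_of_le_one f (t.base pt) _ hw h
    haveI := Groth.Agent.Lib.Helper22.GI.connectedSpace_pullback_of_geomConn_fiber f Ω t pt hgc
    infer_instance

/-- if some geometric fibre over an extension of the separable closure of the residue field is
preconnected, then the point has at most one geometric connected component. -/
theorem nGeomConnComp_le_one_of_preconnected (y : Y) (Ω : Type u) [Field Ω]
    (φ : SeparableClosure (Y.residueField y) →+* Ω)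
    (h : PreconnectedSpace ↥(pullback f (Spec.map (CommRingCat.ofHom φ) ≫
      Groth.Agent.Lib.Helper22.GI.sepPt y))) :
    MoreMor.nGeomConnComp f y ≤ 1 := by
  rw [Groth.Agent.Lib.Helper22.GI.nGeomConnComp_eq_card]
  let σ : Spec (CommRingCat.of Ω) ⟶ Spec (CommRingCat.of (SeparableClosure (Y.residueField y))) :=
    Spec.map (CommRingCat.ofHom φ)
  let sp := Groth.Agent.Lib.Helper22.GI.sepPt y
  let m : pullback f (σ ≫ sp) ⟶ pullback f sp :=
    pullback.map f (σ ≫ sp) f sp (𝟙 X) σ (𝟙 Y) (by simp) (by simp)
  have hm1 : m ≫ pullback.fst f sp = pullback.fst f (σ ≫ sp) :=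
    (pullback.lift_fst _ _ _).trans (Category.comp_id _)
  have hm2 : m ≫ pullback.snd f sp = pullback.snd f (σ ≫ sp) ≫ σ := pullback.lift_snd _ _ _
  have hbig : IsPullback (m ≫ pullback.fst f sp) (pullback.snd f (σ ≫ sp)) f (σ ≫ sp) := by
    rw [hm1]
    exact IsPullback.of_hasPullback f (σ ≫ sp)
  have sq : IsPullback m (pullback.snd f (σ ≫ sp)) (pullback.snd f sp) σ :=
    IsPullback.of_right hbig hm2 (IsPullback.of_hasPullback f sp)
  haveI : Surjective σ := by
    rw [surjective_iff]
    intro z
    exact ⟨IsLocalRing.closedPoint _, Subsingleton.elim (α := PrimeSpectrum _) _ _⟩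
  haveI : Surjective m := MorphismProperty.of_isPullback (P := @Surjective) sq.flip ‹_›
  haveI : PreconnectedSpace ↥(pullback f sp) := by
    refine ⟨?_⟩
    have h1 : _root_.IsPreconnected (Set.range m.base) := by
      rw [← Set.image_univ]
      exact (h.isPreconnected_univ).image _ m.continuous.continuousOn
    rwa [Set.range_eq_univ.mpr m.surjective] at h1
  exact card_le_one_of_preconnectedSpace

end Groth.Agent.Lib.Helper22.LimConn
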