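import Mathlib
import Groth.Agent.Lib.Helper22GI15
import Groth.Agent.S2075

set_option autoImplicit false
set_option linter.style.haveILetI false
set_option linter.unusedSectionVars false
universe u

open AlgebraicGeometry CategoryTheory Limits TensorProduct

namespace Groth.Agent.Lib.Helper22.GI

section Stage

variable {I : Type u} [SmallCategory I] [IsCofiltered I]
    (D : I ⥤ Scheme.{u}) (c : Limits.Cone D) (hc : Limits.IsLimit c)
    [∀ (i j : I) (f : i ⟶ j), IsAffineHom (D.map f)] [∀ i, CompactSpace (D.obj i)]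
    [∀ i, QuasiSeparatedSpace (D.obj i)] {X : Scheme.{u}} (u : X ⟶ c.pt)
    [LocallyOfFinitePresentation u] [QuasiCompact u] [QuasiSeparated u] (σ : c.pt ⟶ X)
    (hσ : σ ≫ u = 𝟙 c.pt)

include hc hσ in
/-- **descent of a morphism with a section to a stage of a limit**, with the pullback square -/
theorem exists_stage_section :
    ∃ (j : I) (XJ : Scheme.{u}) (fJ : XJ ⟶ D.obj j) (sJ : D.obj j ⟶ XJ) (sY : X ⟶ XJ),
      sJ ≫ fJ = 𝟙 _ ∧ LocallyOfFinitePresentation fJ ∧ QuasiCompact fJ ∧ QuasiSeparated fJ ∧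
      IsPullback sY u fJ (c.π.app j) ∧ σ ≫ sY = c.π.app j ≫ sJ := by
  obtain ⟨i, Xi, ui, qX, a1, a2, a3, hX⟩ := Groth.Agent.S0591.result D c hc X u
  have hY0 : IsPullback (c.π.app i) (𝟙 c.pt) (𝟙 (D.obj i)) (c.π.app i) := by
    haveI : IsIso (𝟙 c.pt) := IsIso.id _
    haveI : IsIso (𝟙 (D.obj i)) := IsIso.id _
    exact IsPullback.of_vert_isIso ⟨(Category.comp_id _).trans (Category.id_comp _).symm⟩
  haveI : CompactSpace Xi := QuasiCompact.compactSpace_of_compactSpace ui
  haveI : QuasiSeparatedSpace Xi := quasiSeparatedSpace_of_quasiSeparated ui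
  obtain ⟨j, φ, fj, sX, sY, hfj, hsX1, hsX2, hsY1, hsY2, hcomm⟩ :=
    Groth.Agent.S9218.result D c hc i (𝟙 (D.obj i)) ui (c.π.app i) (𝟙 c.pt) hY0 qX u hX σ hσ
  haveI : IsIso (pullback.snd (𝟙 (D.obj i)) (D.map φ)) := inferInstance
  have hsJ : (inv (pullback.snd (𝟙 (D.obj i)) (D.map φ)) ≫ fj) ≫ pullback.snd ui (D.map φ) =
      𝟙 _ := by
    rw [Category.assoc, hfj, IsIso.inv_hom_id]
  have hXJ : IsPullback sY u (pullback.snd ui (D.map φ)) (c.π.app j) := by
    refine IsPullback.of_right ?_ hsY2 (IsPullback.of_hasPullback ui (D.map φ))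
    rw [hsY1, c.w φ]
    exact hX
  have hsXeq : sX = c.π.app j ≫ inv (pullback.snd (𝟙 (D.obj i)) (D.map φ)) := by
    rw [← cancel_mono (pullback.snd (𝟙 (D.obj i)) (D.map φ)), Category.assoc,
      IsIso.inv_hom_id, Category.comp_id]
    exact hsX2.trans (Category.id_comp _)
  refine ⟨j, pullback ui (D.map φ), pullback.snd ui (D.map φ),
    inv (pullback.snd (𝟙 (D.obj i)) (D.map φ)) ≫ fj, sY, hsJ, inferInstance, inferInstance,
    inferInstance, hXJ, ?_⟩
  rw [← Category.assoc, ← hsXeq, hcomm]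

include hc hσ in
/-- the same, descending flatness as well -/
theorem exists_stage_section_flat [Flat u] :
    ∃ (j : I) (XJ : Scheme.{u}) (fJ : XJ ⟶ D.obj j) (sJ : D.obj j ⟶ XJ) (sY : X ⟶ XJ),
      sJ ≫ fJ = 𝟙 _ ∧ LocallyOfFinitePresentation fJ ∧ QuasiCompact fJ ∧ QuasiSeparated fJ ∧
      Flat fJ ∧ IsPullback sY u fJ (c.π.app j) ∧ σ ≫ sY = c.π.app j ≫ sJ := by
  obtain ⟨j, XJ, fJ, sJ, sY, hsJ, b1, b2, b3, hpb, hcompat⟩ := exists_stage_section D c hc u σ hσ
  haveI : CompactSpace XJ := QuasiCompact.compactSpace_of_compactSpace fJ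
  haveI : QuasiSeparatedSpace XJ := quasiSeparatedSpace_of_quasiSeparated fJ
  have hY0 : IsPullback (c.π.app j) (𝟙 c.pt) (𝟙 (D.obj j)) (c.π.app j) := by
    haveI : IsIso (𝟙 c.pt) := IsIso.id _
    haveI : IsIso (𝟙 (D.obj j)) := IsIso.id _
    exact IsPullback.of_vert_isIso ⟨(Category.comp_id _).trans (Category.id_comp _).symm⟩
  obtain ⟨i', φ', Xi', Yi', fi', gi', pY, pX, h1, h2, h3⟩ :=
    Groth.Agent.S2075.result D c hc j fJ (𝟙 (D.obj j)) u (𝟙 c.pt) (c.π.app j) sY hY0 hpb
  haveI : IsIso gi' := h1.isIso_snd_of_isIso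
  have hpaste : IsPullback pX (fi' ≫ gi') fJ (D.map φ') := by
    have := h2.paste_vert h1
    rwa [Category.comp_id] at this
  let ε := hpaste.isoPullback
  have hε : ε.hom ≫ pullback.snd fJ (D.map φ') = fi' ≫ gi' := hpaste.isoPullback_hom_snd
  haveI : Flat (fi' ≫ gi') := inferInstance
  have hflat : Flat (pullback.snd fJ (D.map φ')) := by
    have : pullback.snd fJ (D.map φ') = ε.inv ≫ fi' ≫ gi' := by
      rw [← hε, Iso.inv_hom_id_assoc]
    rw [this]
    infer_instance
  let sJ' : D.obj i' ⟶ pullback fJ (D.map φ') :=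
    pullback.lift (D.map φ' ≫ sJ) (𝟙 _) (by
      rw [Category.assoc, hsJ, Category.comp_id, Category.id_comp])
  let sY' : X ⟶ pullback fJ (D.map φ') :=
    pullback.lift sY (u ≫ c.π.app i') (by rw [hpb.w, Category.assoc, c.w φ'])
  have hpb' : IsPullback sY' u (pullback.snd fJ (D.map φ')) (c.π.app i') := by
    refine IsPullback.of_right ?_ (pullback.lift_snd _ _ _) (IsPullback.of_hasPullback fJ (D.map φ'))
    rw [pullback.lift_fst, c.w φ']
    exact hpb
  refine ⟨i', pullback fJ (D.map φ'), pullback.snd fJ (D.map φ'), sJ', sY',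
    pullback.lift_snd _ _ _, inferInstance, inferInstance, inferInstance, hflat, hpb', ?_⟩
  apply pullback.hom_ext
  · rw [Category.assoc, pullback.lift_fst, Category.assoc, pullback.lift_fst, hcompat,
      ← Category.assoc, c.w φ']
  · rw [Category.assoc, pullback.lift_snd, Category.assoc, pullback.lift_snd, ← Category.assoc, hσ,
      Category.id_comp, Category.comp_id]

end Stage

end Groth.Agent.Lib.Helper22.GI
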