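import Mathlib
import Groth.Agent.Lib.Helper22LimBC2

/-!
An immersion of finite presentation whose base change to a cofiltered limit is an open immersion
is already an open immersion after base change to a finite stage.
-/

universe u

namespace Groth.Agent.Lib.Helper22.LimOpenImm

open CategoryTheory CategoryTheory.Limits AlgebraicGeometry TopologicalSpace
open Groth.Agent.Lib.Helper22.LimBC

/-- a monomorphism to `X` which admits a section over an open `V` containing its range is an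
open immersion. -/
lemma isOpenImmersion_of_section {Z X : Scheme.{u}} (ι : Z ⟶ X) [Mono ι] (V : X.Opens)
    (hV : Set.range ⇑ι ⊆ (V : Set X)) (σ : (V : Scheme.{u}) ⟶ Z) (hσ : σ ≫ ι = V.ι) :
    IsOpenImmersion ι := by
  let l : Z ⟶ V := IsOpenImmersion.lift V.ι ι (by simpa using hV)
  have hl : l ≫ V.ι = ι := IsOpenImmersion.lift_fac _ _ _
  have h1 : σ ≫ l = 𝟙 _ := by
    rw [← cancel_mono V.ι, Category.assoc, hl, hσ, Category.id_comp]
  have h2 : l ≫ σ = 𝟙 _ := by
    rw [← cancel_mono ι, Category.assoc, hσ, hl, Category.id_comp]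
  have : IsIso l := ⟨σ, h2, h1⟩
  rw [← hl]
  infer_instance

section

variable {I : Type u} [SmallCategory I] [IsCofiltered I] {S' Z₀ : Scheme.{u}}
  (D : I ⥤ Scheme.{u}) (t : D ⟶ (Functor.const I).obj S') (c : Cone D) (hc : IsLimit c)

omit [IsCofiltered I] in
lemma map_comp_t {i j : I} (a : i ⟶ j) : D.map a ≫ t.app j = t.app i := by
  have := t.naturality a
  simpa using this

omit [IsCofiltered I] in
lemma t_map_apply {i j : I} (a : i ⟶ j) (x : D.obj i) : t.app j (D.map a x) = t.app i x := by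
  rw [← map_comp_t D t a]
  rfl

lemma π_comp_t (i j : I) : c.π.app i ≫ t.app i = c.π.app j ≫ t.app j := by
  rw [← c.w (IsCofiltered.minToLeft i j), ← c.w (IsCofiltered.minToRight i j), Category.assoc,
    Category.assoc, map_comp_t, map_comp_t]

variable [∀ (i j : I) (f : i ⟶ j), IsAffineHom (D.map f)]
  [∀ i, CompactSpace (D.obj i)] [∀ i, QuasiSeparatedSpace (D.obj i)]
  (ι₀ : Z₀ ⟶ S') [IsImmersion ι₀] [LocallyOfFinitePresentation ι₀] [QuasiCompact ι₀]

include hc in
set_option backward.isDefEq.respectTransparency.types false in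
theorem exists_isOpenImmersion_aux (τ : c.pt ⟶ S')
    (hτ : ∀ i, (c.π.app i ≫ t.app i : c.pt ⟶ S') = τ)
    (h : IsOpenImmersion (pullback.snd ι₀ τ)) :
    ∃ i : I, IsOpenImmersion (pullback.snd ι₀ (t.app i)) := by
  have inst : ∀ {i j : I} (f : i ⟶ j), IsAffineHom (D.map f) := fun f => inferInstance
  let ι : pullback ι₀ τ ⟶ c.pt := pullback.snd ι₀ τ
  let p : pullback ι₀ τ ⟶ Z₀ := pullback.fst ι₀ τ
  have hX : CompactSpace c.pt := Scheme.compactSpace_of_isLimit D c hc
  have hqcι : QuasiCompact ι := MorphismProperty.pullback_snd (P := @QuasiCompact) ι₀ τ inferInstance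
  have hZ : CompactSpace ↥(pullback ι₀ τ) := QuasiCompact.compactSpace_of_compactSpace ι
  have hrc : IsCompact (ι.opensRange : Set c.pt) := by
    have := isCompact_range ι.continuous
    simpa using this
  obtain ⟨j, Vj, hVjc, hj⟩ := exists_preimage_eq D c hc ι.opensRange hrc
  -- Step 2: containment of the range in `V` at a finite stage
  let ιj : pullback ι₀ (t.app j) ⟶ D.obj j := pullback.snd ι₀ (t.app j)
  have hqw : p ≫ ι₀ = (ι ≫ c.π.app j) ≫ t.app j := by
    rw [Category.assoc, hτ j]; exact pullback.condition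
  let q : pullback ι₀ τ ⟶ pullback ι₀ (t.app j) := pullback.lift p (ι ≫ c.π.app j) hqw
  have hP : IsPullback q ι ιj (c.π.app j) := by
    have s : IsPullback (q ≫ pullback.fst ι₀ (t.app j)) ι ι₀ (c.π.app j ≫ t.app j) := by
      rw [pullback.lift_fst, hτ j]
      exact IsPullback.of_hasPullback ι₀ τ
    exact IsPullback.of_right s (pullback.lift_snd _ _ _) (IsPullback.of_hasPullback ι₀ (t.app j))
  have hqcj : QuasiCompact ιj :=
    MorphismProperty.pullback_snd (P := @QuasiCompact) ι₀ (t.app j) inferInstance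
  have hZj : CompactSpace ↥(pullback ι₀ (t.app j)) := QuasiCompact.compactSpace_of_compactSpace ιj
  let jO : Over j := Over.mk (𝟙 j)
  have H6 : (bcCone j hP).π.app jO ⁻¹ᵁ ⊤ ≤
      (bcCone j hP).π.app jO ⁻¹ᵁ ((dSnd D j ιj jO) ⁻¹ᵁ Vj) := by
    intro z _
    show dSnd D j ιj jO (bcπ j hP jO z) ∈ Vj
    rw [← Scheme.Hom.comp_apply, bcπ_snd, Scheme.Hom.comp_apply]
    have : ι z ∈ c.π.app j ⁻¹ᵁ Vj := by rw [hj]; exact ⟨z, rfl⟩
    exact this
  obtain ⟨k₁, f₁, h₁⟩ := exists_map_preimage_le_map_preimage (bcDiagram D j ιj) (bcCone j hP)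
    (isLimitBcCone j hP hc) (i := jO) (U := ⊤) (V := (dSnd D j ιj jO) ⁻¹ᵁ Vj) isCompact_univ H6
  have hf₁ : f₁.left = k₁.hom := by
    have := Over.w f₁
    simpa [jO] using this
  have hcont : ∀ (l : I) (b : l ⟶ k₁.left) (x : D.obj l), t.app l x ∈ Set.range ι₀ →
      D.map (b ≫ k₁.hom) x ∈ Vj := by
    intro l b x hx
    have hy : D.map b x ∈ Set.range (dSnd D j ιj k₁) := by
      have e1 : Set.range (dSnd D j ιj k₁) = ⇑(D.map k₁.hom) ⁻¹' Set.range ιj :=
        Scheme.Pullback.range_snd _ _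
      have e2 : Set.range ιj = ⇑(t.app j) ⁻¹' Set.range ι₀ := Scheme.Pullback.range_snd _ _
      rw [e1, e2]
      show t.app j (D.map k₁.hom (D.map b x)) ∈ Set.range ι₀
      rw [t_map_apply, t_map_apply]
      exact hx
    obtain ⟨w, hw⟩ := hy
    have h2 := h₁ (show w ∈ (bcDiagram D j ιj).map f₁ ⁻¹ᵁ ⊤ from trivial)
    have h3 : dSnd D j ιj jO ((bcDiagram D j ιj).map f₁ w) ∈ Vj := h2
    rw [← Scheme.Hom.comp_apply, map_dSnd, Scheme.Hom.comp_apply, hw, hf₁] at h3
    rw [Functor.map_comp]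
    exact h3
  -- Step 3: the section descends to a finite stage
  have hcV (k : Over j) : CompactSpace ((opensDiagram D j Vj).obj k) :=
    isCompact_iff_compactSpace.mp (QuasiCompact.isCompact_preimage _ Vj.2 hVjc)
  have hqV (k : Over j) : QuasiSeparatedSpace ((opensDiagram D j Vj).obj k) :=
    (isQuasiSeparated_iff_quasiSeparatedSpace _ (D.map _ ⁻¹ᵁ _).2).mp (.of_quasiSeparatedSpace _)
  let tV : opensDiagram D j Vj ⟶ (Functor.const (Over j)).obj S' :=
    { app := fun k => (D.map k.hom ⁻¹ᵁ Vj).ι ≫ t.app k.left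
      naturality := fun k l f => by
        show (D.map f.left).resLE _ _ _ ≫ (D.map l.hom ⁻¹ᵁ Vj).ι ≫ t.app l.left =
          ((D.map k.hom ⁻¹ᵁ Vj).ι ≫ t.app k.left) ≫ 𝟙 _
        rw [Scheme.Hom.resLE_comp_ι_assoc, map_comp_t, Category.comp_id] }
  let N : c.pt.Opens := c.π.app j ⁻¹ᵁ Vj
  have hNr : Set.range ⇑N.ι ⊆ Set.range ⇑ι := by
    rw [Scheme.Opens.range_ι]
    show (N : Set c.pt) ⊆ Set.range ⇑ι
    have : (N : Set c.pt) = (ι.opensRange : Set c.pt) := congrArg _ hj
    rw [this]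
    rfl
  let lft : (N : Scheme.{u}) ⟶ pullback ι₀ τ := IsOpenImmersion.lift ι N.ι hNr
  have hlft : lft ≫ ι = N.ι := IsOpenImmersion.lift_fac _ _ _
  let a : (opensCone D c j Vj).pt ⟶ Z₀ := lft ≫ p
  have ha : (opensCone D c j Vj).π ≫ tV = (Functor.const _).map (a ≫ ι₀) := by
    ext k : 2
    show (c.π.app k.left).resLE _ _ _ ≫ (D.map k.hom ⁻¹ᵁ Vj).ι ≫ t.app k.left = (lft ≫ p) ≫ ι₀
    rw [Scheme.Hom.resLE_comp_ι_assoc, hτ k.left, Category.assoc,
      show p ≫ ι₀ = ι ≫ τ from pullback.condition, ← Category.assoc, hlft]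
  obtain ⟨k₂, g, hg1, hg2⟩ := Scheme.exists_π_app_comp_eq_of_locallyOfFinitePresentation
    (opensDiagram D j Vj) tV ι₀ (opensCone D c j Vj) (isLimitOpensCone D c hc j Vj) a ha
  -- Steps 4-5: conclude at a common stage
  let l : Over j := IsCofiltered.min k₁ k₂
  let a₁ : l ⟶ k₁ := IsCofiltered.minToLeft k₁ k₂
  let a₂ : l ⟶ k₂ := IsCofiltered.minToRight k₁ k₂
  let Vl : (D.obj l.left).Opens := D.map l.hom ⁻¹ᵁ Vj
  let gl : (Vl : Scheme.{u}) ⟶ Z₀ := (opensDiagram D j Vj).map a₂ ≫ g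
  have hgl : gl ≫ ι₀ = Vl.ι ≫ t.app l.left := by
    show ((opensDiagram D j Vj).map a₂ ≫ g) ≫ ι₀ = tV.app l
    rw [Category.assoc, hg2]
    have := tV.naturality a₂
    rw [this]
    exact Category.comp_id _
  let σ : (Vl : Scheme.{u}) ⟶ pullback ι₀ (t.app l.left) := pullback.lift gl Vl.ι hgl
  have himm : IsImmersion (pullback.snd ι₀ (t.app l.left)) :=
    MorphismProperty.pullback_snd (P := @IsImmersion) ι₀ (t.app l.left) inferInstance
  refine ⟨l.left, isOpenImmersion_of_section (pullback.snd ι₀ (t.app l.left)) Vl ?_ σ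
    (pullback.lift_snd _ _ _)⟩
  rintro _ ⟨w, rfl⟩
  have hw : t.app l.left (pullback.snd ι₀ (t.app l.left) w) ∈ Set.range ι₀ := by
    rw [← Scheme.Hom.comp_apply, ← pullback.condition, Scheme.Hom.comp_apply]
    exact ⟨_, rfl⟩
  have := hcont l.left a₁.left _ hw
  rw [Over.w a₁] at this
  exact this

include hc in
/-- an immersion of finite presentation `Z₀ ⟶ S'` whose base change to the limit `X = lim X_i` of
qcqs `S'`-schemes is an open immersion has the same property after base change to some `X_i`. -/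
theorem exists_isOpenImmersion (i₀ : I)
    (h : IsOpenImmersion (pullback.snd ι₀ (c.π.app i₀ ≫ t.app i₀))) :
    ∃ i : I, IsOpenImmersion (pullback.snd ι₀ (t.app i)) :=
  exists_isOpenImmersion_aux D t c hc ι₀ (c.π.app i₀ ≫ t.app i₀)
    (fun i => π_comp_t D t c i i₀) h

end


end Groth.Agent.Lib.Helper22.LimOpenImm
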