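import Mathlib
import Groth.Prelude.Def_EGA43

set_option autoImplicit false
set_option linter.style.haveILetI false
set_option linter.unusedSectionVars false
set_option linter.unusedVariables false

universe u

open CategoryTheory CategoryTheory.Limits AlgebraicGeometry

namespace Groth.Agent.Lib.Helper22.LscA

/-! ### open at a point -/

theorem isOpenAt_comp {α β γ : Type*} [TopologicalSpace α] [TopologicalSpace β]
    [TopologicalSpace γ] (f : α → β) (g : β → γ) (x : α) (hf : EGA43.IsOpenAt f x)
    (hg : EGA43.IsOpenAt g (f x)) : EGA43.IsOpenAt (g ∘ f) x := by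
  intro U hU
  have h := hg _ (hf U hU)
  rwa [Set.image_image] at h

theorem isOpenAt_of_isOpenMap {α β : Type*} [TopologicalSpace α] [TopologicalSpace β]
    (f : α → β) (hf : IsOpenMap f) (x : α) : EGA43.IsOpenAt f x :=
  fun U hU => hf.image_mem_nhds hU

/-- composition of scheme morphisms, open at a point -/
theorem isOpenAt_comp_sch {X Y Z : Scheme.{u}} (f : X ⟶ Y) (g : Y ⟶ Z) (x : X)
    (hf : EGA43.IsOpenAt f.base x) (hg : EGA43.IsOpenAt g.base (f.base x)) :
    EGA43.IsOpenAt (f ≫ g).base x := by
  have h := isOpenAt_comp _ _ x hf hg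
  exact h

theorem isOpenAt_of_isOpenImmersion {X Y : Scheme.{u}} (f : X ⟶ Y) [IsOpenImmersion f] (x : X) :
    EGA43.IsOpenAt f.base x :=
  isOpenAt_of_isOpenMap _ f.isOpenEmbedding.isOpenMap x

/-- base change of "universally open at a point" -/
theorem isUnivOpenAt_of_isPullback {P X Y Y' : Scheme.{u}} {fst : P ⟶ X} {snd : P ⟶ Y'}
    {f : X ⟶ Y} {h : Y' ⟶ Y} (sq : IsPullback fst snd f h) (w : P)
    (hf : EGA43.IsUnivOpenAt f (fst.base w)) : EGA43.IsUnivOpenAt snd w := by
  intro Y'' k x'' hx''
  have big : IsPullback (pullback.fst snd k ≫ fst) (pullback.snd snd k) f (k ≫ h) :=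
    (IsPullback.of_hasPullback snd k).paste_horiz sq
  let e : pullback snd k ≅ pullback f (k ≫ h) := big.isoPullback
  have he1 : e.hom ≫ pullback.fst f (k ≫ h) = pullback.fst snd k ≫ fst := big.isoPullback_hom_fst
  have he2 : e.hom ≫ pullback.snd f (k ≫ h) = pullback.snd snd k := big.isoPullback_hom_snd
  have h1 : (pullback.fst f (k ≫ h)).base (e.hom.base x'') = fst.base w := by
    rw [← hx'']
    exact congrArg (fun φ : pullback snd k ⟶ X => φ.base x'') he1
  have h2 := hf Y'' (k ≫ h) (e.hom.base x'') h1
  rw [← he2]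
  exact isOpenAt_comp_sch _ _ _ (isOpenAt_of_isOpenImmersion e.hom x'') h2

/-- "universally open at a point" implies open at the point -/
theorem isOpenAt_of_isUnivOpenAt {X Y : Scheme.{u}} (f : X ⟶ Y) (x : X)
    (hf : EGA43.IsUnivOpenAt f x) : EGA43.IsOpenAt f.base x := by
  let i := inv (pullback.fst f (𝟙 Y))
  have h1 : (pullback.fst f (𝟙 Y)).base (i.base x) = x := by
    have : i ≫ pullback.fst f (𝟙 Y) = 𝟙 X := IsIso.inv_hom_id _
    exact congrArg (fun φ : X ⟶ X => φ.base x) this
  have h2 := hf Y (𝟙 Y) (i.base x) h1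
  have h3 : f = i ≫ pullback.snd f (𝟙 Y) := by
    have hc : pullback.fst f (𝟙 Y) ≫ f = pullback.snd f (𝟙 Y) := by
      rw [pullback.condition, Category.comp_id]
    rw [← hc, IsIso.inv_hom_id_assoc]
  rw [h3]
  exact isOpenAt_comp_sch _ _ _ (isOpenAt_of_isOpenImmersion i x) h2

/-- precomposition with an open immersion -/
theorem isUnivOpenAt_comp_of_isOpenImmersion {U T S : Scheme.{u}} (j : U ⟶ T) [IsOpenImmersion j]
    (g : T ⟶ S) (u : U) (hg : EGA43.IsUnivOpenAt g (j.base u)) :
    EGA43.IsUnivOpenAt (j ≫ g) u := by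
  intro Y' k x' hx'
  let m : pullback (j ≫ g) k ⟶ pullback g k :=
    pullback.map (j ≫ g) k g k j (𝟙 Y') (𝟙 S) (by simp) (by simp)
  have hm1 : m ≫ pullback.fst g k = pullback.fst (j ≫ g) k ≫ j := pullback.lift_fst _ _ _
  have hm2 : m ≫ pullback.snd g k = pullback.snd (j ≫ g) k := by
    have h : m ≫ pullback.snd g k = pullback.snd (j ≫ g) k ≫ 𝟙 Y' := pullback.lift_snd _ _ _
    rw [h, Category.comp_id]
  have h1 : (pullback.fst g k).base (m.base x') = j.base u := by
    rw [← hx']
    exact congrArg (fun φ : pullback (j ≫ g) k ⟶ T => φ.base x') hm1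
  have h2 := hg Y' k (m.base x') h1
  rw [← hm2]
  exact isOpenAt_comp_sch _ _ _ (isOpenAt_of_isOpenImmersion m x') h2


/-! ### geometric points -/

theorem eq_closedPoint {K : Type u} [Field K] (y : ↥(Spec (CommRingCat.of K))) :
    y = IsLocalRing.closedPoint K :=
  @Subsingleton.elim (PrimeSpectrum K) _ y (IsLocalRing.closedPoint K)

/-- two `K`-points of a separated `S`-scheme whose product lands in the diagonal are equal. -/
theorem eq_of_lift_mem_range_diagonal {T S : Scheme.{u}} (g : T ⟶ S) [IsSeparated g] {K : Type u}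
    [Field K] (a b : Spec (CommRingCat.of K) ⟶ T) (h : a ≫ g = b ≫ g)
    (hmem : (pullback.lift a b h).base (IsLocalRing.closedPoint K) ∈
      Set.range (pullback.diagonal g).base) : a = b := by
  let Δ := pullback.diagonal g
  let c := pullback.lift a b h
  obtain ⟨t, ht⟩ := hmem
  obtain ⟨z, hz1, hz2⟩ := Scheme.Pullback.exists_preimage_pullback (f := Δ) (g := c) t
    (IsLocalRing.closedPoint K) ht
  haveI : Surjective (pullback.snd Δ c) := ⟨fun y => ⟨z, by rw [eq_closedPoint y]; exact hz2⟩⟩
  haveI : IsIso (pullback.snd Δ c) := isIso_of_isClosedImmersion_of_surjective _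
  let d := inv (pullback.snd Δ c) ≫ pullback.fst Δ c
  have hd : d ≫ Δ = c := by
    show (inv (pullback.snd Δ c) ≫ pullback.fst Δ c) ≫ Δ = c
    rw [Category.assoc, pullback.condition, IsIso.inv_hom_id_assoc]
  have ha : d = a := by
    have h1 : (d ≫ Δ) ≫ pullback.fst g g = c ≫ pullback.fst g g := by rw [hd]
    rw [Category.assoc, pullback.diagonal_fst, Category.comp_id, pullback.lift_fst] at h1
    exact h1
  have hb : d = b := by
    have h1 : (d ≫ Δ) ≫ pullback.snd g g = c ≫ pullback.snd g g := by rw [hd]
    rw [Category.assoc, pullback.diagonal_snd, Category.comp_id, pullback.lift_snd] at h1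
    exact h1
  rw [← ha, ← hb]

/-- the set of points `s` of `S` over which `g` has at least `m` distinct geometric points with
values in a common algebraically closed field. -/
def E {T S : Scheme.{u}} (g : T ⟶ S) (m : ℕ) : Set S :=
  {s | ∃ (K : Type u) (_ : Field K) (_ : IsAlgClosed K) (σ : Spec (CommRingCat.of K) ⟶ S)
      (a : Fin m → (Spec (CommRingCat.of K) ⟶ T)),
      σ.base (IsLocalRing.closedPoint K) = s ∧ Function.Injective a ∧ ∀ i, a i ≫ g = σ}

theorem exists_geomPt {S : Scheme.{u}} (s : S) : ∃ (K : Type u) (_ : Field K) (_ : IsAlgClosed K)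
    (σ : Spec (CommRingCat.of K) ⟶ S), σ.base (IsLocalRing.closedPoint K) = s := by
  refine ⟨AlgebraicClosure (S.residueField s), inferInstance, inferInstance,
    Spec.map (CommRingCat.ofHom (algebraMap (S.residueField s)
      (AlgebraicClosure (S.residueField s)))) ≫ S.fromSpecResidueField s, ?_⟩
  show (Spec.map (CommRingCat.ofHom (algebraMap (S.residueField s)
    (AlgebraicClosure (S.residueField s)))) ≫ S.fromSpecResidueField s)
      (IsLocalRing.closedPoint _) = s
  rw [Scheme.Hom.comp_apply, Scheme.fromSpecResidueField_apply]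

theorem E_zero {T S : Scheme.{u}} (g : T ⟶ S) : E g 0 = Set.univ := by
  ext s
  simp only [Set.mem_univ, iff_true]
  obtain ⟨K, hK1, hK2, σ, hσ⟩ := exists_geomPt s
  exact ⟨K, hK1, hK2, σ, fun i => Fin.elim0 i, hσ, fun i => Fin.elim0 i, fun i => Fin.elim0 i⟩

/-- **key induction**: if `g` is separated and universally open at all points over `s`, and `g`
has at least `m` geometric points over `s`, then the same holds on a neighbourhood of `s`. -/
theorem E_mem_nhds (m : ℕ) : ∀ {T S : Scheme.{u}} (g : T ⟶ S) [IsSeparated g] (s : S),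
    (∀ t : T, g.base t = s → EGA43.IsUnivOpenAt g t) → s ∈ E g m → E g m ∈ nhds s := by
  induction m with
  | zero =>
    intro T S g _ s _ _
    rw [E_zero]
    exact Filter.univ_mem
  | succ m ih =>
    intro T S g _ s hs hmem
    obtain ⟨K, _, _, σ, a, hσ, hinj, ha⟩ := hmem
    let t : T := (a 0).base (IsLocalRing.closedPoint K)
    have hgt : g.base t = s := by
      rw [← hσ, ← ha 0]
      rfl
    let Δ := pullback.diagonal g
    let U : (pullback g g).Opens :=
      ⟨(Set.range Δ.base)ᶜ, Δ.isClosedEmbedding.isClosed_range.isOpen_compl⟩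
    let g' : (U : Scheme.{u}) ⟶ T := U.ι ≫ pullback.fst g g
    haveI : IsSeparated g' := inferInstance
    have hcond : ∀ w : ↥(pullback g g), g.base ((pullback.snd g g).base w) =
        g.base ((pullback.fst g g).base w) := by
      intro w
      exact (congrArg (fun φ : pullback g g ⟶ S => φ.base w) pullback.condition).symm
    have hg' : ∀ t' : ↥(U : Scheme.{u}), g'.base t' = t → EGA43.IsUnivOpenAt g' t' := by
      intro t' ht'
      apply isUnivOpenAt_comp_of_isOpenImmersion
      have sq : IsPullback (pullback.snd g g) (pullback.fst g g) g g :=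
        (IsPullback.of_hasPullback g g).flip
      apply isUnivOpenAt_of_isPullback sq
      apply hs
      rw [hcond]
      have : (pullback.fst g g).base (U.ι.base t') = t := ht'
      rw [this, hgt]
    -- the `m` other points give geometric points of `g'` over `t`
    have hlift : ∀ i : Fin m, a 0 ≫ g = a i.succ ≫ g := fun i => by rw [ha, ha]
    have hrange : ∀ i : Fin m, Set.range (pullback.lift (a 0) (a i.succ) (hlift i)).base ⊆
        Set.range U.ι.base := by
      intro i
      rintro _ ⟨y, rfl⟩
      rw [eq_closedPoint y, Scheme.Opens.range_ι]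
      show _ ∈ (Set.range Δ.base)ᶜ
      intro hmem
      have h0 := eq_of_lift_mem_range_diagonal g (a 0) (a i.succ) (hlift i) hmem
      exact (Fin.succ_ne_zero i) (hinj h0).symm
    let b : Fin m → (Spec (CommRingCat.of K) ⟶ (U : Scheme.{u})) := fun i =>
      IsOpenImmersion.lift U.ι (pullback.lift (a 0) (a i.succ) (hlift i)) (hrange i)
    have hb : ∀ i, b i ≫ U.ι = pullback.lift (a 0) (a i.succ) (hlift i) := fun i =>
      IsOpenImmersion.lift_fac _ _ _
    have htE : t ∈ E g' m := by
      refine ⟨K, inferInstance, inferInstance, a 0, b, rfl, ?_, ?_⟩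
      · intro i j hij
        have h1 : b i ≫ U.ι ≫ pullback.snd g g = b j ≫ U.ι ≫ pullback.snd g g := by rw [hij]
        rw [← Category.assoc, ← Category.assoc, hb, hb, pullback.lift_snd, pullback.lift_snd] at h1
        exact Fin.succ_injective _ (hinj h1)
      · intro i
        show b i ≫ U.ι ≫ pullback.fst g g = a 0
        rw [← Category.assoc, hb, pullback.lift_fst]
    have hnhds := ih g' t hg' htE
    have hopen := isOpenAt_of_isUnivOpenAt g t (hs t hgt)
    have h1 := hopen _ hnhds
    rw [hgt] at h1
    refine Filter.mem_of_superset h1 ?_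
    rintro _ ⟨t₁, ht₁, rfl⟩
    obtain ⟨K', _, _, σ', b', hσ', hbinj, hb'⟩ := ht₁
    have hb'1 : ∀ i, (b' i ≫ U.ι) ≫ pullback.fst g g = σ' := fun i => by
      rw [Category.assoc]; exact hb' i
    refine ⟨K', inferInstance, inferInstance, σ' ≫ g,
      Fin.cons σ' (fun i => (b' i ≫ U.ι) ≫ pullback.snd g g), ?_, ?_, ?_⟩
    · rw [← hσ']
      rfl
    · -- injectivity
      have hne : ∀ i : Fin m, σ' ≠ (b' i ≫ U.ι) ≫ pullback.snd g g := by
        intro i heq
        -- then `b' i ≫ U.ι` factors through the diagonal
        have h2 : b' i ≫ U.ι = σ' ≫ Δ := by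
          apply pullback.hom_ext
          · rw [hb'1]; simp [Δ]
          · rw [← heq]; simp [Δ]
        have h3 : (b' i ≫ U.ι).base (IsLocalRing.closedPoint K') ∈ Set.range Δ.base := by
          rw [h2]
          exact ⟨σ'.base (IsLocalRing.closedPoint K'), rfl⟩
        have h4 : (b' i ≫ U.ι).base (IsLocalRing.closedPoint K') ∈ (U : Set ↥(pullback g g)) := by
          have : (b' i ≫ U.ι).base (IsLocalRing.closedPoint K') =
            U.ι.base ((b' i).base (IsLocalRing.closedPoint K')) := rfl
          rw [this]
          exact ((b' i).base (IsLocalRing.closedPoint K')).2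
        exact h4 h3
      intro i j hij
      induction i using Fin.cases with
      | zero =>
        induction j using Fin.cases with
        | zero => rfl
        | succ j =>
          simp only [Fin.cons_zero, Fin.cons_succ] at hij
          exact absurd hij (hne j)
      | succ i =>
        induction j using Fin.cases with
        | zero =>
          simp only [Fin.cons_zero, Fin.cons_succ] at hij
          exact absurd hij.symm (hne i)
        | succ j =>
          simp only [Fin.cons_succ] at hij
          have h2 : b' i ≫ U.ι = b' j ≫ U.ι := by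
            apply pullback.hom_ext
            · rw [hb'1, hb'1]
            · exact hij
          have h3 : b' i = b' j := (cancel_mono U.ι).mp h2
          rw [hbinj h3]
    · intro i
      induction i using Fin.cases with
      | zero => simp
      | succ i =>
        simp only [Fin.cons_succ]
        rw [Category.assoc, ← pullback.condition, ← Category.assoc, hb'1]

end Groth.Agent.Lib.Helper22.LscA
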