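import Mathlib
import Groth.Prelude.Def_EGA43
import Groth.Prelude.Def_MoreMor
import Groth.Agent.Lib.Helper22LscA

set_option autoImplicit false
set_option linter.style.haveILetI false
set_option linter.unusedSectionVars false
set_option linter.unusedVariables false

universe u

open CategoryTheory CategoryTheory.Limits AlgebraicGeometry

namespace Groth.Agent.Lib.Helper22.LscB

/-! ### algebras integral over a field -/

section Alg

variable {k B : Type u} [Field k] [CommRing B] [Algebra k B] [Algebra.IsIntegral k B]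

variable (k) in
include k in
theorem isMaximal_of_isIntegral_field (P : Ideal B) [P.IsPrime] : P.IsMaximal := by
  apply Ideal.isMaximal_of_isIntegral_of_isMaximal_comap (R := k) P
  have h1 : (P.comap (algebraMap k B)).IsPrime := inferInstance
  rcases Ideal.eq_bot_or_top (P.comap (algebraMap k B)) with h | h
  · rw [h]; exact Ideal.bot_isMaximal
  · exact absurd h h1.ne_top

variable (k) in
include k in
/-- the spectrum of an algebra integral over a field is totally separated. -/
theorem exists_isClopen_of_ne (P Q : PrimeSpectrum B) (h : P ≠ Q) :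
    ∃ C : Set (PrimeSpectrum B), IsClopen C ∧ P ∈ C ∧ Q ∉ C := by
  haveI hP : P.asIdeal.IsMaximal := isMaximal_of_isIntegral_field k P.asIdeal
  haveI hQ : Q.asIdeal.IsMaximal := isMaximal_of_isIntegral_field k Q.asIdeal
  have hnle : ¬ P.asIdeal ≤ Q.asIdeal := by
    intro hle
    exact h (PrimeSpectrum.ext (hP.eq_of_le hQ.ne_top hle))
  obtain ⟨x, hxP, hxQ⟩ := Set.not_subset.mp hnle
  let A := Algebra.adjoin k {x}
  haveI : Module.Finite k A :=
    Module.Finite.iff_fg.mpr (Algebra.IsIntegral.isIntegral (R := k) x).fg_adjoin_singleton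
  haveI : IsArtinianRing A := IsArtinianRing.of_finite k A
  let c : PrimeSpectrum B → PrimeSpectrum A := PrimeSpectrum.comap (algebraMap A B)
  have hc : Continuous c := PrimeSpectrum.continuous_comap (algebraMap A B)
  refine ⟨c ⁻¹' {c P}, (isClopen_discrete _).preimage hc, rfl, ?_⟩
  intro hQ'
  have h1 : c Q = c P := hQ'
  have hxA : x ∈ A := Algebra.subset_adjoin (Set.mem_singleton x)
  have h2 : (⟨x, hxA⟩ : A) ∈ (c P).asIdeal := by
    show algebraMap A B ⟨x, hxA⟩ ∈ P.asIdeal
    exact hxP
  rw [← h1] at h2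
  exact hxQ h2

/-- every point of the spectrum supports a point with values in a given algebraically closed
extension. -/
theorem exists_algHom_ker_eq (P : PrimeSpectrum B) (K : Type u) [Field K] [Algebra k K]
    [IsAlgClosed K] : ∃ φ : B →ₐ[k] K, RingHom.ker φ.toRingHom = P.asIdeal := by
  haveI hP : P.asIdeal.IsMaximal := isMaximal_of_isIntegral_field k P.asIdeal
  letI : Field (B ⧸ P.asIdeal) := Ideal.Quotient.field P.asIdeal
  haveI : Algebra.IsAlgebraic k (B ⧸ P.asIdeal) := by
    haveI : Algebra.IsIntegral k (B ⧸ P.asIdeal) :=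
      Algebra.IsIntegral.of_surjective (Ideal.Quotient.mkₐ k P.asIdeal)
        (Ideal.Quotient.mkₐ_surjective k P.asIdeal)
    exact Algebra.IsIntegral.isAlgebraic
  let ψ : (B ⧸ P.asIdeal) →ₐ[k] K := IsAlgClosed.lift
  refine ⟨ψ.comp (Ideal.Quotient.mkₐ k P.asIdeal), ?_⟩
  ext x
  rw [RingHom.mem_ker]
  show ψ (Ideal.Quotient.mk P.asIdeal x) = 0 ↔ x ∈ P.asIdeal
  rw [map_eq_zero_iff ψ ψ.toRingHom.injective, Ideal.Quotient.eq_zero_iff_mem]

/-- over a separably closed field, a point with values in a field is determined by its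
support. -/
theorem algHom_eq_of_ker_eq [IsSepClosed k] {K : Type u} [Field K] [Algebra k K]
    (φ φ' : B →ₐ[k] K) (h : RingHom.ker φ.toRingHom = RingHom.ker φ'.toRingHom) : φ = φ' := by
  let I := RingHom.ker φ.toRingHom
  haveI hIp : I.IsPrime := RingHom.ker_isPrime φ.toRingHom
  haveI hI : I.IsMaximal := isMaximal_of_isIntegral_field k I
  letI : Field (B ⧸ I) := Ideal.Quotient.field I
  haveI : Algebra.IsAlgebraic k (B ⧸ I) := by
    haveI : Algebra.IsIntegral k (B ⧸ I) :=
      Algebra.IsIntegral.of_surjective (Ideal.Quotient.mkₐ k I)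
        (Ideal.Quotient.mkₐ_surjective k I)
    exact Algebra.IsIntegral.isAlgebraic
  haveI : IsPurelyInseparable k (B ⧸ I) := inferInstance
  let ψ : (B ⧸ I) →ₐ[k] K := Ideal.Quotient.liftₐ I φ (fun a ha => ha)
  let ψ' : (B ⧸ I) →ₐ[k] K := Ideal.Quotient.liftₐ I φ' (fun a ha => by
    have : a ∈ RingHom.ker φ'.toRingHom := h ▸ ha
    exact this)
  have hψ : ψ.toRingHom = ψ'.toRingHom := by
    apply IsPurelyInseparable.injective_comp_algebraMap k (B ⧸ I) K
    ext a
    simp
  apply AlgHom.ext
  intro b
  have h1 : ψ (Ideal.Quotient.mk I b) = φ b := rfl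
  have h2 : ψ' (Ideal.Quotient.mk I b) = φ' b := rfl
  rw [← h1, ← h2]
  exact congrArg (fun f : (B ⧸ I) →+* K => f (Ideal.Quotient.mk I b)) hψ

end Alg


/-! ### schemes integral over a field -/

section Sch

variable {k : Type u} [Field k] {F : Scheme.{u}} (p : F ⟶ Spec (CommRingCat.of k)) [IsIntegralHom p]

theorem closedPoint_map {K : Type u} [Field K] {R : CommRingCat.{u}} (ψ : R ⟶ CommRingCat.of K) :
    ((Spec.map ψ).base (IsLocalRing.closedPoint K) : PrimeSpectrum R).asIdeal =
      RingHom.ker ψ.hom := by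
  show Ideal.comap ψ.hom (IsLocalRing.maximalIdeal K) = RingHom.ker ψ.hom
  rw [IsLocalRing.maximalIdeal_eq_bot]
  rfl

include p in
theorem isAffine_of_integral : IsAffine F := isAffine_of_isAffineHom p

/-- the structure map `k ⟶ Γ(F)` -/
noncomputable def φ : CommRingCat.of k ⟶ Γ(F, ⊤) := (Scheme.ΓSpecIso (CommRingCat.of k)).inv ≫ p.appTop

theorem p_eq : haveI := isAffine_of_integral p
    p = F.isoSpec.hom ≫ Spec.map (φ p) := by
  haveI := isAffine_of_integral p
  have h1 := Scheme.isoSpec_hom_naturality p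
  rw [Scheme.isoSpec_Spec_hom] at h1
  unfold φ
  rw [Spec.map_comp, ← Category.assoc, h1, Category.assoc, ← Spec.map_comp, Iso.inv_hom_id,
    Spec.map_id, Category.comp_id]

theorem φ_isIntegral : (φ p).hom.IsIntegral := by
  haveI := isAffine_of_integral p
  have h1 : Spec.map (φ p) = F.isoSpec.inv ≫ p := by
    rw [Iso.eq_inv_comp]
    exact (p_eq p).symm
  have h2 : IsIntegralHom (Spec.map (φ p)) := by
    rw [h1]
    infer_instance
  exact IsIntegralHom.SpecMap_iff.mp h2

include p in
/-- distinct points of a scheme integral over a field lie in distinct connected components. -/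
theorem mk_ne_mk_of_ne (x y : F) (h : x ≠ y) :
    (_root_.ConnectedComponents.mk x : _root_.ConnectedComponents F) ≠
      _root_.ConnectedComponents.mk y := by
  haveI := isAffine_of_integral p
  letI : Algebra k Γ(F, ⊤) := (φ p).hom.toAlgebra
  haveI : Algebra.IsIntegral k Γ(F, ⊤) := ⟨φ_isIntegral p⟩
  let e := F.isoSpec
  have hne : (e.hom.base x : PrimeSpectrum Γ(F, ⊤)) ≠ e.hom.base y := by
    intro heq
    apply h
    have h1 : e.inv.base (e.hom.base x) = e.inv.base (e.hom.base y) := by
      show e.inv.base (e.hom.base x) = e.inv.base (e.hom.base y)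
      exact congrArg _ heq
    have h2 : ∀ z : F, e.inv.base (e.hom.base z) = z := fun z =>
      congrArg (fun ψ : F ⟶ F => ψ.base z) e.hom_inv_id
    rwa [h2, h2] at h1
  obtain ⟨C, hC, hxC, hyC⟩ := exists_isClopen_of_ne k _ _ hne
  have hC' : IsClopen (e.hom.base ⁻¹' C) := hC.preimage e.hom.continuous
  intro heq
  have h1 : y ∈ connectedComponent x := _root_.ConnectedComponents.coe_eq_coe'.mp heq.symm
  have h2 : connectedComponent x ⊆ e.hom.base ⁻¹' C := hC'.connectedComponent_subset hxC
  exact hyC (h2 h1)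

/-- every point of a scheme integral over a field supports a geometric point with values in a given
algebraically closed extension. -/
theorem exists_geomPt_over (K : Type u) [Field K] [Algebra k K] [IsAlgClosed K] (x : F) :
    ∃ b : Spec (CommRingCat.of K) ⟶ F,
      b ≫ p = Spec.map (CommRingCat.ofHom (algebraMap k K)) ∧
        b.base (IsLocalRing.closedPoint K) = x := by
  haveI := isAffine_of_integral p
  letI : Algebra k Γ(F, ⊤) := (φ p).hom.toAlgebra
  haveI : Algebra.IsIntegral k Γ(F, ⊤) := ⟨φ_isIntegral p⟩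
  let e := F.isoSpec
  obtain ⟨ψ, hψ⟩ := exists_algHom_ker_eq (k := k) (e.hom.base x : PrimeSpectrum Γ(F, ⊤)) K
  let ψ' : Γ(F, ⊤) ⟶ CommRingCat.of K := CommRingCat.ofHom ψ.toRingHom
  refine ⟨Spec.map ψ' ≫ e.inv, ?_, ?_⟩
  · have h1 : φ p ≫ ψ' = CommRingCat.ofHom (algebraMap k K) := by
      ext c
      exact ψ.commutes c
    conv_lhs => rw [p_eq p]
    rw [Category.assoc, Iso.inv_hom_id_assoc, ← Spec.map_comp, h1]
  · have h1 : (Spec.map ψ').base (IsLocalRing.closedPoint K) = e.hom.base x := by
      apply PrimeSpectrum.ext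
      rw [closedPoint_map]
      exact hψ
    show e.inv.base ((Spec.map ψ').base (IsLocalRing.closedPoint K)) = x
    rw [h1]
    exact congrArg (fun ψ : F ⟶ F => ψ.base x) e.hom_inv_id

/-- over a separably closed field, a field-valued point of a scheme integral over the field is
determined by its image point and its structure map. -/
theorem geomPt_eq_of_apply_eq [IsSepClosed k] {K : Type u} [Field K]
    (b b' : Spec (CommRingCat.of K) ⟶ F) (h1 : b ≫ p = b' ≫ p)
    (h2 : b.base (IsLocalRing.closedPoint K) = b'.base (IsLocalRing.closedPoint K)) : b = b' := by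
  haveI := isAffine_of_integral p
  letI : Algebra k Γ(F, ⊤) := (φ p).hom.toAlgebra
  haveI : Algebra.IsIntegral k Γ(F, ⊤) := ⟨φ_isIntegral p⟩
  let e := F.isoSpec
  let ψ : Γ(F, ⊤) ⟶ CommRingCat.of K := Spec.preimage (b ≫ e.hom)
  let ψ' : Γ(F, ⊤) ⟶ CommRingCat.of K := Spec.preimage (b' ≫ e.hom)
  have hψ : Spec.map ψ = b ≫ e.hom := Spec.map_preimage _
  have hψ' : Spec.map ψ' = b' ≫ e.hom := Spec.map_preimage _
  have hcomp : φ p ≫ ψ = φ p ≫ ψ' := by
    apply Spec.map_injective
    rw [Spec.map_comp, Spec.map_comp, hψ, hψ', Category.assoc, Category.assoc, ← p_eq p, h1]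
  letI : Algebra k K := (ψ.hom.comp (φ p).hom).toAlgebra
  let Ψ : Γ(F, ⊤) →ₐ[k] K := { ψ.hom with commutes' := fun c => rfl }
  let Ψ' : Γ(F, ⊤) →ₐ[k] K := { ψ'.hom with
    commutes' := fun c => by
      have := congrArg (fun χ : CommRingCat.of k ⟶ CommRingCat.of K => χ.hom c) hcomp
      exact this.symm }
  have hker : RingHom.ker Ψ.toRingHom = RingHom.ker Ψ'.toRingHom := by
    show RingHom.ker ψ.hom = RingHom.ker ψ'.hom
    rw [← closedPoint_map, ← closedPoint_map, hψ, hψ']
    show (e.hom.base (b.base _) : PrimeSpectrum Γ(F, ⊤)).asIdeal =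
      (e.hom.base (b'.base _) : PrimeSpectrum Γ(F, ⊤)).asIdeal
    rw [h2]
  have hΨ := algHom_eq_of_ker_eq Ψ Ψ' hker
  have hψψ' : ψ = ψ' := by
    ext c
    exact congrArg (fun χ : Γ(F, ⊤) →ₐ[k] K => χ c) hΨ
  have h3 : b ≫ e.hom = b' ≫ e.hom := by rw [← hψ, ← hψ', hψψ']
  exact (cancel_mono e.hom).mp h3

end Sch


/-! ### cardinalities -/

theorem exists_fin_injective {α : Type*} (m : ℕ) (h : (m : ℕ∞) ≤ ENat.card α) :
    ∃ c : Fin m → α, Function.Injective c := by
  rcases finite_or_infinite α with hfin | hinf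
  · haveI := Fintype.ofFinite α
    rw [ENat.card_eq_coe_fintype_card, Nat.cast_le] at h
    have h' : Fintype.card (Fin m) ≤ Fintype.card α := by rwa [Fintype.card_fin]
    obtain ⟨e⟩ := Function.Embedding.nonempty_of_card_le h'
    exact ⟨e, e.injective⟩
  · exact ⟨fun i => Infinite.natEmbedding α i.val,
      fun i j hij => Fin.val_injective ((Infinite.natEmbedding α).injective hij)⟩

theorem le_card_of_injective {α : Type*} (m : ℕ) (c : Fin m → α) (hc : Function.Injective c) :
    (m : ℕ∞) ≤ ENat.card α := by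
  have h := ENat.card_le_card_of_injective hc
  rwa [ENat.card_eq_coe_fintype_card, Fintype.card_fin] at h

/-! ### the geometric fibres of an integral morphism -/

section Fib

variable {T S : Scheme.{u}} (g : T ⟶ S) (z : S)

/-- the structure morphism of the geometric fibre -/
noncomputable def gp : MoreMor.geomFiber g z ⟶
    Spec (CommRingCat.of (SeparableClosure (S.residueField z))) :=
  pullback.snd _ _

/-- the projection of the geometric fibre to the fibre -/
noncomputable def gq : MoreMor.geomFiber g z ⟶ g.fiber z := pullback.fst _ _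

theorem gq_cond : gq g z ≫ g.fiberToSpecResidueField z = gp g z ≫ Spec.map (CommRingCat.ofHom
    (algebraMap (S.residueField z) (SeparableClosure (S.residueField z)))) :=
  pullback.condition

theorem geomFiber_hom_ext {W : Scheme.{u}} (a b : W ⟶ MoreMor.geomFiber g z)
    (h1 : a ≫ gq g z ≫ g.fiberι z = b ≫ gq g z ≫ g.fiberι z)
    (h2 : a ≫ gp g z = b ≫ gp g z) : a = b := by
  apply pullback.hom_ext (f := g.fiberToSpecResidueField z)
    (g := Spec.map (CommRingCat.ofHom
      (algebraMap (S.residueField z) (SeparableClosure (S.residueField z)))))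
  · apply pullback.hom_ext (f := g) (g := S.fromSpecResidueField z)
    · have e0 : (a ≫ gq g z) ≫ g.fiberι z = (b ≫ gq g z) ≫ g.fiberι z := by
        rw [Category.assoc, Category.assoc]; exact h1
      exact e0
    · have e1 : (a ≫ gq g z) ≫ g.fiberToSpecResidueField z =
          (b ≫ gq g z) ≫ g.fiberToSpecResidueField z := by
        rw [Category.assoc, Category.assoc, gq_cond, ← Category.assoc, ← Category.assoc, h2]
      exact e1
  · exact h2

instance [IsIntegralHom g] : IsIntegralHom (gp g z) := by
  haveI : IsIntegralHom (g.fiberToSpecResidueField z) :=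
    inferInstanceAs (IsIntegralHom (pullback.snd g (S.fromSpecResidueField z)))
  exact inferInstanceAs (IsIntegralHom (pullback.snd (g.fiberToSpecResidueField z) _))

variable [IsIntegralHom g]

/-- an integral morphism with at least `m` geometric connected components in the fibre over `z`
has `m` distinct geometric points over `z`. -/
theorem mem_E_of_le (m : ℕ) (h : (m : ℕ∞) ≤ MoreMor.nGeomConnComp g z) : z ∈ LscA.E g m := by
  let κ := S.residueField z
  let k := SeparableClosure κ
  let K := AlgebraicClosure k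
  obtain ⟨c, hc⟩ := exists_fin_injective (α := _root_.ConnectedComponents ↥(MoreMor.geomFiber g z)) m h
  choose x hx using fun i => _root_.ConnectedComponents.surjective_coe (c i)
  choose b hb1 hb2 using fun i => exists_geomPt_over (gp g z) K (x i)
  let σ : Spec (CommRingCat.of K) ⟶ S := Spec.map (CommRingCat.ofHom (algebraMap k K)) ≫
    Spec.map (CommRingCat.ofHom (algebraMap κ k)) ≫ S.fromSpecResidueField z
  refine ⟨K, inferInstance, inferInstance, σ, fun i => b i ≫ gq g z ≫ g.fiberι z, ?_, ?_, ?_⟩
  · show (Spec.map (CommRingCat.ofHom (algebraMap k K)) ≫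
      Spec.map (CommRingCat.ofHom (algebraMap κ k)) ≫ S.fromSpecResidueField z)
        (IsLocalRing.closedPoint K) = z
    rw [Scheme.Hom.comp_apply, Scheme.Hom.comp_apply, Scheme.fromSpecResidueField_apply]
  · intro i j hij
    have h1 : b i = b j := geomFiber_hom_ext g z _ _ hij (by rw [hb1, hb1])
    have h2 : x i = x j := by rw [← hb2 i, ← hb2 j, h1]
    apply hc
    rw [← hx i, ← hx j, h2]
  · intro i
    show (b i ≫ gq g z ≫ g.fiberι z) ≫ g = σ
    rw [Category.assoc, Category.assoc, Scheme.Hom.fiber_fac, ← Category.assoc (gq g z),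
      gq_cond, Category.assoc, ← Category.assoc (b i), hb1]

/-- an integral morphism with `m` distinct geometric points over `z` has at least `m` geometric
connected components in the fibre over `z`. -/
theorem le_of_mem_E (m : ℕ) (h : z ∈ LscA.E g m) : (m : ℕ∞) ≤ MoreMor.nGeomConnComp g z := by
  obtain ⟨K, hK1, hK2, σ, a, hσ, hinj, ha⟩ := h
  subst hσ
  let ι : S.residueField (σ.base (IsLocalRing.closedPoint K)) ⟶ CommRingCat.of K :=
    Scheme.descResidueField (Scheme.stalkClosedPointTo σ)
  have hι : Spec.map ι ≫ S.fromSpecResidueField (σ.base (IsLocalRing.closedPoint K)) = σ :=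
    Scheme.descResidueField_stalkClosedPointTo_fromSpecResidueField K S σ
  letI : Algebra (S.residueField (σ.base (IsLocalRing.closedPoint K))) K := ι.hom.toAlgebra
  let j : SeparableClosure (S.residueField (σ.base (IsLocalRing.closedPoint K)))
    →ₐ[S.residueField (σ.base (IsLocalRing.closedPoint K))] K := IsAlgClosed.lift
  let J : CommRingCat.of (SeparableClosure (S.residueField (σ.base (IsLocalRing.closedPoint K))))
    ⟶ CommRingCat.of K := CommRingCat.ofHom j.toRingHom
  have hj : Spec.map J ≫ Spec.map (CommRingCat.ofHom (algebraMap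
      (S.residueField (σ.base (IsLocalRing.closedPoint K)))
      (SeparableClosure (S.residueField (σ.base (IsLocalRing.closedPoint K)))))) = Spec.map ι := by
    rw [← Spec.map_comp]
    congr 1
    ext c
    exact j.commutes c
  have hcond1 : ∀ i, a i ≫ g = Spec.map ι ≫
      S.fromSpecResidueField (σ.base (IsLocalRing.closedPoint K)) := fun i => by rw [ha, hι]
  let a' : Fin m → (Spec (CommRingCat.of K) ⟶ g.fiber (σ.base (IsLocalRing.closedPoint K))) :=
    fun i => pullback.lift (a i) (Spec.map ι) (hcond1 i)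
  have ha'1 : ∀ i, a' i ≫ g.fiberι _ = a i := fun i => pullback.lift_fst _ _ _
  have ha'2 : ∀ i, a' i ≫ g.fiberToSpecResidueField _ = Spec.map ι := fun i =>
    pullback.lift_snd _ _ _
  have hcond2 : ∀ i, a' i ≫ g.fiberToSpecResidueField _ = Spec.map J ≫
      Spec.map (CommRingCat.ofHom (algebraMap
      (S.residueField (σ.base (IsLocalRing.closedPoint K)))
      (SeparableClosure (S.residueField (σ.base (IsLocalRing.closedPoint K)))))) := fun i => by
    rw [ha'2, hj]
  let b : Fin m → (Spec (CommRingCat.of K) ⟶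
      MoreMor.geomFiber g (σ.base (IsLocalRing.closedPoint K))) :=
    fun i => pullback.lift (a' i) (Spec.map J) (hcond2 i)
  have hb1 : ∀ i, b i ≫ gq g _ = a' i := fun i => pullback.lift_fst _ _ _
  have hb2 : ∀ i, b i ≫ gp g _ = Spec.map J := fun i => pullback.lift_snd _ _ _
  have hbinj : Function.Injective fun i => (b i).base (IsLocalRing.closedPoint K) := by
    intro i i' hii'
    have h1 : b i = b i' := geomPt_eq_of_apply_eq (gp g _) (b i) (b i') (by rw [hb2, hb2]) hii'
    apply hinj
    rw [← ha'1 i, ← ha'1 i', ← hb1 i, ← hb1 i', h1]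
  refine le_card_of_injective m
    (fun i => (_root_.ConnectedComponents.mk ((b i).base (IsLocalRing.closedPoint K)) :
      _root_.ConnectedComponents ↥(MoreMor.geomFiber g (σ.base (IsLocalRing.closedPoint K))))) ?_
  intro i i' hii'
  by_contra hne
  exact mk_ne_mk_of_ne (gp g _) _ _ (fun h => hne (hbinj h)) hii'

end Fib

end Groth.Agent.Lib.Helper22.LscB
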