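import Mathlib
import Groth.Agent.Lib.Helper22LscB
import Groth.Agent.S7838

set_option autoImplicit false
set_option linter.style.haveILetI false
set_option linter.unusedSectionVars false
set_option linter.unusedVariables false

universe u

open CategoryTheory CategoryTheory.Limits AlgebraicGeometry

namespace Groth.Agent.Lib.Helper22.LscC

open Groth.Agent.Lib.Helper22.LscA Groth.Agent.Lib.Helper22.LscB

/-- if `π` is surjective and `π ≫ g` is universally open at all points over `t`, then `g` is
universally open at `t`. -/
theorem isUnivOpenAt_of_comp_surjective {X T S : Scheme.{u}} (π : X ⟶ T) (g : T ⟶ S) [Surjective π]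
    (t : T) (h : ∀ x : X, π.base x = t → EGA43.IsUnivOpenAt (π ≫ g) x) :
    EGA43.IsUnivOpenAt g t := by
  intro Y' k t' ht'
  let π' : pullback π (pullback.fst g k) ⟶ pullback g k := pullback.snd π (pullback.fst g k)
  haveI : Surjective π' := inferInstance
  obtain ⟨x', hx'⟩ := π'.surjective t'
  have big : IsPullback (pullback.fst π (pullback.fst g k)) (π' ≫ pullback.snd g k) (π ≫ g) k :=
    (IsPullback.of_hasPullback π (pullback.fst g k)).paste_vert (IsPullback.of_hasPullback g k)
  have hx : π.base ((pullback.fst π (pullback.fst g k)).base x') = t := by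
    have h1 : (pullback.fst π (pullback.fst g k) ≫ π).base x' =
        (π' ≫ pullback.fst g k).base x' := by rw [pullback.condition]
    have h2 : (π' ≫ pullback.fst g k).base x' = (pullback.fst g k).base (π'.base x') := rfl
    rw [← ht', ← hx', ← h2, ← h1]
    rfl
  have h3 := isUnivOpenAt_of_isPullback big x' (h _ hx)
  have h4 := isOpenAt_of_isUnivOpenAt _ _ h3
  intro U hU
  have hU' : π'.base ⁻¹' U ∈ nhds x' := by
    apply π'.continuous.continuousAt
    rw [hx']
    exact hU
  have h5 := h4 _ hU'
  have h6 : (π' ≫ pullback.snd g k).base x' = (pullback.snd g k).base t' := by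
    rw [← hx']; rfl
  rw [h6] at h5
  refine Filter.mem_of_superset h5 ?_
  rintro _ ⟨w, hw, rfl⟩
  exact ⟨π'.base w, hw, rfl⟩

/-- **lower semicontinuity of the number of geometric connected components** at a point over which
a proper morphism is universally open. -/
theorem exists_nhds_le {X Y : Scheme.{u}} (f : X ⟶ Y) [IsProper f] (y : Y)
    (h : ∀ x : X, f.base x = y → EGA43.IsUnivOpenAt f x) :
    ∃ V ∈ nhds y, ∀ z ∈ V, MoreMor.nGeomConnComp f y ≤ MoreMor.nGeomConnComp f z := by
  let g := f.fromNormalization
  let π := f.toNormalization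
  have hfac : π ≫ g = f := f.toNormalization_fromNormalization
  haveI : IsProper π := by
    haveI : IsProper (π ≫ g) := by rw [hfac]; infer_instance
    exact IsProper.of_comp π g
  haveI : Surjective π :=
    surjective_of_isDominant_of_isClosed_range π π.isClosedMap.isClosed_range
  have hg : ∀ t, g.base t = y → EGA43.IsUnivOpenAt g t := by
    intro t ht
    apply isUnivOpenAt_of_comp_surjective π g t
    intro x hx
    have h1 : f.base x = y := by
      rw [← ht, ← hx]
      exact congrArg (fun ψ : X ⟶ Y => ψ.base x) hfac.symm
    have h2 := h x h1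
    rwa [← hfac] at h2
  obtain ⟨hfin, heq⟩ := Groth.Agent.S7838.result f y
  obtain ⟨m, hm⟩ := ENat.ne_top_iff_exists.mp hfin.ne
  have hy : y ∈ E g m := mem_E_of_le g y m (by rw [hm, heq])
  refine ⟨E g m, E_mem_nhds m g y hg hy, fun z hz => ?_⟩
  rw [← hm, (Groth.Agent.S7838.result f z).2]
  exact le_of_mem_E g z m hz

end Groth.Agent.Lib.Helper22.LscC
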