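import Mathlib
import Groth.Prelude.Def_MoreMor

set_option autoImplicit false
set_option linter.style.haveILetI false
set_option linter.unusedSectionVars false
set_option linter.unusedVariables false

universe u

open CategoryTheory CategoryTheory.Limits AlgebraicGeometry

namespace Groth.Agent.Lib.Helper22.NccA

/-- isomorphic schemes have the same number of connected components. -/
theorem card_cc_eq_of_iso {A B : Scheme.{u}} (e : A ≅ B) :
    ENat.card (_root_.ConnectedComponents A) = ENat.card (_root_.ConnectedComponents B) := by
  refine ENat.card_congr ⟨e.hom.continuous.connectedComponentsMap,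
    e.inv.continuous.connectedComponentsMap, ?_, ?_⟩
  · intro c
    obtain ⟨y, rfl⟩ := _root_.ConnectedComponents.surjective_coe c
    show ((e.inv (e.hom y) : A) : _root_.ConnectedComponents A) = (y : _root_.ConnectedComponents A)
    rw [← Scheme.Hom.comp_apply, e.hom_inv_id]
    rfl
  · intro c
    obtain ⟨y, rfl⟩ := _root_.ConnectedComponents.surjective_coe c
    show ((e.hom (e.inv y) : B) : _root_.ConnectedComponents B) = (y : _root_.ConnectedComponents B)
    rw [← Scheme.Hom.comp_apply, e.inv_hom_id]
    rfl

/-- the geometric number of connected components of a fibre is unchanged by a base change which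
induces an isomorphism of residue fields at the point (for instance an open immersion). -/
theorem nGeomConnComp_eq_of_isPullback {P X Y Y' : Scheme.{u}} {fst : P ⟶ X} {snd : P ⟶ Y'}
    {f : X ⟶ Y} {h : Y' ⟶ Y} (sq : IsPullback fst snd f h) (y' : Y')
    (hres : Function.Bijective (h.residueFieldMap y').hom) :
    MoreMor.nGeomConnComp snd y' = MoreMor.nGeomConnComp f (h.base y') := by
  let ρ : Y.residueField (h.base y') ⟶ Y'.residueField y' := h.residueFieldMap y'
  let k := SeparableClosure (Y.residueField (h.base y'))
  let k' := SeparableClosure (Y'.residueField y')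
  let θ : Y.residueField (h.base y') →+* k' := (algebraMap (Y'.residueField y') k').comp ρ.hom
  letI : Algebra (Y.residueField (h.base y')) k' := θ.toAlgebra
  let e₁ : Y'.residueField y' ≃+* Y.residueField (h.base y') :=
    (RingEquiv.ofBijective ρ.hom hres).symm
  haveI : Algebra.IsSeparable (Y.residueField (h.base y')) k' := by
    refine Algebra.IsSeparable.of_equiv_equiv (A₁ := Y'.residueField y') (B₁ := k') e₁
      (RingEquiv.refl k') (RingHom.ext fun x => ?_)
    show algebraMap (Y'.residueField y') k' (ρ.hom (e₁ x)) = algebraMap (Y'.residueField y') k' x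
    congr 1
    exact (RingEquiv.ofBijective ρ.hom hres).apply_symm_apply x
  haveI : IsSepClosure (Y.residueField (h.base y')) k' := ⟨inferInstance, inferInstance⟩
  let ε : k ≃ₐ[Y.residueField (h.base y')] k' :=
    IsSepClosure.equiv (Y.residueField (h.base y')) k k'
  let Ε : CommRingCat.of k ≅ CommRingCat.of k' := ε.toRingEquiv.toCommRingCatIso
  have hΕ : CommRingCat.ofHom (algebraMap (Y.residueField (h.base y')) k) ≫ Ε.hom =
      ρ ≫ CommRingCat.ofHom (algebraMap (Y'.residueField y') k') :=
    CommRingCat.hom_ext (RingHom.ext fun x => ε.commutes x)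
  -- the fibre square
  have sqF := isPullback_fiberToSpecResidueField_of_isPullback sq y'
  have sq1 := (IsPullback.of_hasPullback (snd.fiberToSpecResidueField y')
    (Spec.map (CommRingCat.ofHom (algebraMap (Y'.residueField y') k')))).paste_horiz sqF
  have hbot : Spec.map (CommRingCat.ofHom (algebraMap (Y'.residueField y') k')) ≫ Spec.map ρ =
      Spec.map Ε.hom ≫
        Spec.map (CommRingCat.ofHom (algebraMap (Y.residueField (h.base y')) k)) :=
    calc Spec.map (CommRingCat.ofHom (algebraMap (Y'.residueField y') k')) ≫ Spec.map ρ
        = Spec.map (ρ ≫ CommRingCat.ofHom (algebraMap (Y'.residueField y') k')) :=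
          (Spec.map_comp _ _).symm
      _ = Spec.map (CommRingCat.ofHom (algebraMap (Y.residueField (h.base y')) k) ≫ Ε.hom) := by
          rw [hΕ]
      _ = _ := Spec.map_comp _ _
  let e₃ : Spec (CommRingCat.of k') ≅ Spec (CommRingCat.of k) := asIso (Spec.map Ε.hom)
  have sq2 : IsPullback (pullback.fst (snd.fiberToSpecResidueField y')
      (Spec.map (CommRingCat.ofHom (algebraMap (Y'.residueField y') k'))) ≫
        pullback.map snd (Y'.fromSpecResidueField y') f (Y.fromSpecResidueField (h.base y')) fst
          (Spec.map (h.residueFieldMap y')) h sq.w.symm (by simp))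
      (pullback.snd (snd.fiberToSpecResidueField y')
      (Spec.map (CommRingCat.ofHom (algebraMap (Y'.residueField y') k'))) ≫ Spec.map Ε.hom)
      (f.fiberToSpecResidueField (h.base y'))
      (Spec.map (CommRingCat.ofHom (algebraMap (Y.residueField (h.base y')) k))) := by
    refine IsPullback.of_iso sq1 (Iso.refl _) (Iso.refl _) e₃ (Iso.refl _) ?_ ?_ ?_ ?_
    · simp
    · simp [e₃]
    · simp
    · rw [Iso.refl_hom, Category.comp_id]
      exact hbot
  show ENat.card (_root_.ConnectedComponents ↥(MoreMor.geomFiber snd y')) =
    ENat.card (_root_.ConnectedComponents ↥(MoreMor.geomFiber f (h.base y')))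
  exact card_cc_eq_of_iso sq2.isoPullback

end Groth.Agent.Lib.Helper22.NccA
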