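import Mathlib
import Groth.Prelude.Def_MoreMor

/-!
# The number of geometric connected components of a finite étale morphism is its rank (helper22)

(`card_primeSpectrum_of_split` is copied from helper18's `Helper18FEtAlg`,
`finrank_eq_finrank_sections` from helper16's `Helper16FibDeg`, `card_cc_of_discrete'` and the
discreteness argument from helper2's `Helper2GeomPts`.)
-/

set_option autoImplicit false
set_option linter.style.haveILetI false
set_option linter.unusedSectionVars false
set_option linter.unusedVariables false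
universe u
open CategoryTheory CategoryTheory.Limits AlgebraicGeometry

namespace Groth.Agent.Lib.Helper22.SteinEtH

theorem card_primeSpectrum_of_split (Ω E : Type*) [Field Ω] [CommRing E] [Algebra Ω E]
    [Algebra.IsFiniteSplit Ω E] : Nat.card (PrimeSpectrum E) = Module.finrank Ω E := by
  obtain ⟨n, ⟨e⟩⟩ := Algebra.IsFiniteSplit.nonempty_algEquiv_fun Ω E
  rw [e.toLinearEquiv.finrank_eq, Module.finrank_fin_fun]
  rw [Nat.card_congr (PrimeSpectrum.comapEquiv e.toRingEquiv).toEquiv]
  rw [← Nat.card_congr (Equiv.ofBijective _ (PrimeSpectrum.sigmaToPi_bijective (fun _ : Fin n => Ω)))]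
  rw [Nat.card_sigma]
  simp

theorem finite_primeSpectrum_of_split (Ω E : Type*) [Field Ω] [CommRing E] [Algebra Ω E]
    [Algebra.IsFiniteSplit Ω E] : Finite (PrimeSpectrum E) := by
  haveI : Module.Finite Ω E := inferInstance
  haveI : IsArtinianRing E := IsArtinianRing.of_finite Ω E
  infer_instance

theorem finrank_eq_finrank_sections {P : Scheme.{u}} (K : Type u) [Field K]
    (π : P ⟶ Spec (CommRingCat.of K)) [IsFinite π] [Flat π] (pt : Spec (CommRingCat.of K)) :
    letI := ((Scheme.ΓSpecIso (CommRingCat.of K)).inv ≫ π.appTop).hom.toAlgebra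
    Module.Finite K Γ(P, ⊤) ∧ π.finrank pt = Module.finrank K Γ(P, ⊤) := by
  haveI : IsAffine P := isAffine_of_isAffineHom π
  set ψ := (Scheme.ΓSpecIso (CommRingCat.of K)).inv ≫ π.appTop with hψ
  have hπ : π = P.isoSpec.hom ≫ Spec.map ψ := by
    rw [hψ, Spec.map_comp, ← Category.assoc, Scheme.isoSpec_hom_naturality, Category.assoc,
      Scheme.isoSpec_Spec_hom, ← Spec.map_comp, Iso.inv_hom_id, Spec.map_id, Category.comp_id]
  have hπ' : P.isoSpec.inv ≫ π = Spec.map ψ := by
    rw [Iso.inv_comp_eq]; exact hπ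
  haveI hfin : IsFinite (Spec.map ψ) := by
    rw [← hπ']; infer_instance
  haveI hflat : Flat (Spec.map ψ) := by
    rw [← hπ']; infer_instance
  have h1 : π.finrank = (Spec.map ψ).finrank := by
    conv_lhs => rw [hπ]
    exact Scheme.Hom.finrank_comp_left_of_isIso _ _
  letI := ψ.hom.toAlgebra
  haveI hF : Module.Finite K Γ(P, ⊤) := (IsFinite.SpecMap_iff _).mp hfin
  haveI : Module.Flat K Γ(P, ⊤) := Flat.SpecMap_iff.mp hflat
  refine ⟨hF, ?_⟩
  rw [h1]
  have h2 := Scheme.Hom.finrank_SpecMap_algebraMap K Γ(P, ⊤) pt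
  have h3 : CommRingCat.ofHom (algebraMap K Γ(P, ⊤)) = ψ := rfl
  rw [h3] at h2
  rw [h2, Module.rankAtStalk_eq_finrank_of_free]
  rfl

theorem card_cc_of_discrete' (Z : Type*) [TopologicalSpace Z] [DiscreteTopology Z] :
    ENat.card (ConnectedComponents Z) = ENat.card Z := by
  symm
  apply ENat.card_congr
  refine Equiv.ofBijective ConnectedComponents.mk ⟨?_, ConnectedComponents.surjective_coe⟩
  intro a b hab
  rw [ConnectedComponents.coe_eq_coe] at hab
  rw [connectedComponent_eq_singleton, connectedComponent_eq_singleton] at hab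
  exact Set.singleton_injective hab

/-- a finite étale scheme over a separably closed field has as many points as its rank. -/
theorem card_eq_finrank_of_finite_etale (K : Type u) [Field K] [IsSepClosed K] {T : Scheme.{u}}
    (p : T ⟶ Spec (CommRingCat.of K)) [IsFinite p] [Etale p] (pt : Spec (CommRingCat.of K)) :
    ENat.card T = (p.finrank pt : ℕ∞) := by
  haveI : IsAffine T := isAffine_of_isAffineHom p
  letI alg : Algebra K Γ(T, ⊤) := ((Scheme.ΓSpecIso (CommRingCat.of K)).inv ≫ p.appTop).hom.toAlgebra
  obtain ⟨hF, hrk⟩ := finrank_eq_finrank_sections K p pt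
  have h1 : p.appTop.hom.Etale := HasRingHomProperty.appTop (P := @Etale) p inferInstance
  have h2 : ((Scheme.ΓSpecIso (CommRingCat.of K)).inv ≫ p.appTop).hom.Etale :=
    (RingHom.Etale.respectsIso.cancel_left_isIso (Scheme.ΓSpecIso (CommRingCat.of K)).inv
      p.appTop).mpr h1
  haveI het : Algebra.Etale K Γ(T, ⊤) := h2
  haveI : Algebra.IsFiniteSplit K Γ(T, ⊤) := inferInstance
  have hcard := card_primeSpectrum_of_split K Γ(T, ⊤)
  haveI := finite_primeSpectrum_of_split K Γ(T, ⊤)
  have e : T ≃ PrimeSpectrum Γ(T, ⊤) := T.isoSpec.hom.homeomorph.toEquiv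
  rw [ENat.card_congr e, hrk, ← hcard, ENat.card_eq_coe_natCard]

/-- **the number of geometric connected components of the fibres of a finite étale morphism is
its rank.** -/
theorem nGeomConnComp_eq_finrank {N S : Scheme.{u}} (π : N ⟶ S) [IsFinite π] [Etale π] (s : S) :
    MoreMor.nGeomConnComp π s = (π.finrank s : ℕ∞) := by
  let Ωs := SeparableClosure (S.residueField s)
  let q : Spec (CommRingCat.of Ωs) ⟶ Spec (S.residueField s) :=
    Spec.map (CommRingCat.ofHom (algebraMap (S.residueField s) Ωs))
  let p : MoreMor.geomFiber π s ⟶ Spec (CommRingCat.of Ωs) :=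
    pullback.snd (π.fiberToSpecResidueField s) q
  haveI hf1 : IsFinite (π.fiberToSpecResidueField s) :=
    MorphismProperty.pullback_snd (P := @IsFinite) π _ inferInstance
  haveI he1 : Etale (π.fiberToSpecResidueField s) :=
    MorphismProperty.pullback_snd (P := @Etale) π _ inferInstance
  haveI hf2 : IsFinite p := MorphismProperty.pullback_snd (P := @IsFinite) _ _ hf1
  haveI he2 : Etale p := MorphismProperty.pullback_snd (P := @Etale) _ _ he1
  have hsub : Subsingleton ↥(Spec (CommRingCat.of Ωs)) :=
    inferInstanceAs (Subsingleton (PrimeSpectrum Ωs))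
  have hne : Nonempty ↥(Spec (CommRingCat.of Ωs)) :=
    inferInstanceAs (Nonempty (PrimeSpectrum Ωs))
  obtain ⟨pt⟩ := hne
  have hdisc := p.isDiscrete_preimage_singleton pt
  have hu : p ⁻¹' {pt} = Set.univ := by
    ext z
    simp only [Set.mem_preimage, Set.mem_singleton_iff, Set.mem_univ, iff_true]
    exact Subsingleton.elim _ _
  rw [hu, isDiscrete_univ_iff] at hdisc
  unfold MoreMor.nGeomConnComp
  rw [card_cc_of_discrete', card_eq_finrank_of_finite_etale Ωs p pt]
  have h1 : p.finrank pt = (π.fiberToSpecResidueField s).finrank (q pt) :=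
    Scheme.Hom.finrank_pullback_snd _ _ pt
  have h2 : (π.fiberToSpecResidueField s).finrank (q pt) =
      π.finrank (S.fromSpecResidueField s (q pt)) :=
    Scheme.Hom.finrank_pullback_snd _ _ (q pt)
  rw [h1, h2, Scheme.fromSpecResidueField_apply]

end Groth.Agent.Lib.Helper22.SteinEtH
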