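import Mathlib
import Groth.Agent.S1364
import Groth.Agent.Lib.Helper11FlatClosure
import Groth.Agent.Lib.Helper6GRProper
import Groth.Agent.Lib.Helper22NccA
import Groth.Prelude.Def_EGA43

set_option autoImplicit false
set_option linter.style.haveILetI false
set_option linter.unusedSectionVars false
set_option linter.unusedVariables false

universe u

open CategoryTheory CategoryTheory.Limits AlgebraicGeometry Topology

namespace Groth.Agent.Lib.Helper22.LscE

/-- points of a pullback square -/
theorem exists_preimage_of_isPullback {W T S S' : Scheme.{u}} {p : W ⟶ T} {s : W ⟶ S'}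
    {q : T ⟶ S} {t : S' ⟶ S} (h : IsPullback p s q t) (x : T) (y : S') (hxy : q x = t y) :
    ∃ w : W, p w = x ∧ s w = y := by
  obtain ⟨z, hz1, hz2⟩ := Scheme.Pullback.exists_preimage_pullback x y hxy
  refine ⟨h.isoPullback.inv z, ?_, ?_⟩
  · rw [← Scheme.Hom.comp_apply, h.isoPullback_inv_fst, hz1]
  · rw [← Scheme.Hom.comp_apply, h.isoPullback_inv_snd, hz2]

/-- the comparison of fibres for a composite. -/
noncomputable abbrev fibMap {X'' X S : Scheme.{u}} (ι : X'' ⟶ X) (h : X ⟶ S) (s : S) :
    (ι ≫ h).fiber s ⟶ h.fiber s :=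
  pullback.map (ι ≫ h) (S.fromSpecResidueField s) h (S.fromSpecResidueField s) ι (𝟙 _) (𝟙 _)
    (by simp) (by simp)

theorem fibMap_fiberι {X'' X S : Scheme.{u}} (ι : X'' ⟶ X) (h : X ⟶ S) (s : S) :
    fibMap ι h s ≫ h.fiberι s = (ι ≫ h).fiberι s ≫ ι :=
  pullback.lift_fst _ _ _

theorem fibMap_fiberToSpec {X'' X S : Scheme.{u}} (ι : X'' ⟶ X) (h : X ⟶ S) (s : S) :
    fibMap ι h s ≫ h.fiberToSpecResidueField s = (ι ≫ h).fiberToSpecResidueField s :=
  (pullback.lift_snd _ _ _).trans (Category.comp_id _)

theorem isPullback_fibMap {X'' X S : Scheme.{u}} (ι : X'' ⟶ X) (h : X ⟶ S) (s : S) :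
    IsPullback ((ι ≫ h).fiberι s) (fibMap ι h s) ι (h.fiberι s) := by
  have hR : IsPullback (h.fiberToSpecResidueField s) (h.fiberι s) (S.fromSpecResidueField s) h :=
    (IsPullback.of_hasPullback h (S.fromSpecResidueField s)).flip
  have hB : IsPullback (fibMap ι h s ≫ h.fiberToSpecResidueField s) ((ι ≫ h).fiberι s)
      (S.fromSpecResidueField s) (ι ≫ h) := by
    rw [fibMap_fiberToSpec]
    exact (IsPullback.of_hasPullback (ι ≫ h) (S.fromSpecResidueField s)).flip
  exact (IsPullback.of_right hB (fibMap_fiberι ι h s) hR).flip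

theorem nGeomConnComp_eq_of_isIso_fibMap {X'' X S : Scheme.{u}} (ι : X'' ⟶ X) (h : X ⟶ S) (s : S)
    (hc : IsIso (fibMap ι h s)) : MoreMor.nGeomConnComp (ι ≫ h) s = MoreMor.nGeomConnComp h s := by
  let m : MoreMor.geomFiber (ι ≫ h) s ⟶ MoreMor.geomFiber h s :=
    pullback.map _ _ _ _ (fibMap ι h s) (𝟙 _) (𝟙 _)
      (by rw [Category.comp_id]; exact (fibMap_fiberToSpec ι h s).symm) (by simp)
  haveI : IsIso m := pullback.map_isIso _ _ _ _ _ _ _ _ _
  exact NccA.card_cc_eq_of_iso (asIso m)

/-- if the fibre inclusion factors through a monomorphism `ι`, then the fibre of the source of `ι`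
is the whole fibre. -/
theorem isIso_fibMap_of_factor {X'' X S : Scheme.{u}} (ι : X'' ⟶ X) [Mono ι] (h : X ⟶ S) (η : S)
    (t : h.fiber η ⟶ X'') (htι : t ≫ ι = h.fiberι η) : IsIso (fibMap ι h η) := by
  haveI : Mono (fibMap ι h η ≫ h.fiberι η) := by
    rw [fibMap_fiberι]
    infer_instance
  haveI : Mono (fibMap ι h η) := mono_of_mono _ (h.fiberι η)
  let r : h.fiber η ⟶ (ι ≫ h).fiber η :=
    pullback.lift t (h.fiberToSpecResidueField η) (by
      rw [← Category.assoc, htι]
      exact h.fiber_fac η)
  have hr : r ≫ fibMap ι h η = 𝟙 _ := by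
    apply pullback.hom_ext
    · have h1 : r ≫ (ι ≫ h).fiberι η = t := pullback.lift_fst _ _ _
      have h2 := fibMap_fiberι ι h η
      change (r ≫ fibMap ι h η) ≫ h.fiberι η = 𝟙 _ ≫ h.fiberι η
      rw [Category.assoc, h2, ← Category.assoc, h1, htι, Category.id_comp]
    · have h1 : r ≫ (ι ≫ h).fiberToSpecResidueField η = h.fiberToSpecResidueField η :=
        pullback.lift_snd _ _ _
      have h2 := fibMap_fiberToSpec ι h η
      change (r ≫ fibMap ι h η) ≫ h.fiberToSpecResidueField η = 𝟙 _ ≫ h.fiberToSpecResidueField η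
      rw [Category.assoc, h2, h1, Category.id_comp]
  haveI : IsSplitEpi (fibMap ι h η) := ⟨⟨⟨r, hr⟩⟩⟩
  exact isIso_of_mono_of_isSplitEpi _

/-- a closed immersion which hits all points of a reduced fibre induces an isomorphism on that
fibre. -/
theorem isIso_fibMap_of_closedImmersion {X'' X S : Scheme.{u}} (ι : X'' ⟶ X) [IsClosedImmersion ι]
    (h : X ⟶ S) (s : S) [IsReduced (h.fiber s)]
    (hsurj : ∀ x : X, h.base x = s → x ∈ Set.range ι.base) : IsIso (fibMap ι h s) := by
  have sq := isPullback_fibMap ι h s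
  haveI : IsClosedImmersion (fibMap ι h s) :=
    MorphismProperty.of_isPullback (P := @IsClosedImmersion) sq ‹_›
  haveI : Surjective (fibMap ι h s) := by
    constructor
    intro x₀
    have hx : h.base ((h.fiberι s).base x₀) = s := (h.range_fiberι s).le ⟨x₀, rfl⟩
    obtain ⟨x'', hx''⟩ := hsurj _ hx
    obtain ⟨w, hw1, hw2⟩ := exists_preimage_of_isPullback sq x'' x₀ hx''
    exact ⟨w, hw2⟩
  exact isIso_of_isClosedImmersion_of_surjective _

/-- **the DVR case**: for a proper morphism to the spectrum of a discrete valuation ring which is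
open at the points of the closed fibre and has geometrically reduced closed fibre, the generic and
the closed fibre have the same geometric number of connected components. -/
theorem nGeomConnComp_generic_eq_closed (V : Type u) [CommRing V] [IsDomain V]
    [IsDiscreteValuationRing V] {X : Scheme.{u}} (h : X ⟶ Spec (CommRingCat.of V)) [IsProper h]
    (η : Spec (CommRingCat.of V)) (hη : η.asIdeal = ⊥)
    (hopen : ∀ x : X, h.base x = IsLocalRing.closedPoint V → EGA43.IsOpenAt h.base x)
    (hred : GeometricallyReduced (h.fiberToSpecResidueField (IsLocalRing.closedPoint V))) :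
    MoreMor.nGeomConnComp h η = MoreMor.nGeomConnComp h (IsLocalRing.closedPoint V) := by
  obtain ⟨s₀, hs₀⟩ : ∃ s₀ : Spec (CommRingCat.of V), s₀ = IsLocalRing.closedPoint V := ⟨_, rfl⟩
  rw [← hs₀] at hopen hred ⊢
  haveI hqc : QuasiCompact (h.fiberι η) :=
    Groth.Agent.Lib.Helper11FlatClosure.quasiCompact_fiberι V h η
  let ι := (h.fiberι η).imageι
  have hflat : Flat (ι ≫ h) := Groth.Agent.Lib.Helper11FlatClosure.flat_imageι_fiberι V h η hη
  have hcη : IsIso (fibMap ι h η) :=
    isIso_fibMap_of_factor ι h η (h.fiberι η).toImage (h.fiberι η).toImage_imageι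
  haveI : IsReduced (h.fiber s₀) := by
    rw [GeometricallyReduced.eq_geometrically] at hred
    exact self_of_isIntegral_of_geometrically hred
  have hrange : Set.range ι.base = closure (Set.range (h.fiberι η).base) := by
    rw [Scheme.IdealSheafData.range_subschemeι, Scheme.Hom.support_ker]
  have hcs : IsIso (fibMap ι h s₀) := by
    apply isIso_fibMap_of_closedImmersion
    intro x hx
    rw [hrange]
    by_contra hxc
    have hU : (closure (Set.range (h.fiberι η).base))ᶜ ∈ nhds x :=
      isClosed_closure.isOpen_compl.mem_nhds hxc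
    have himg := hopen x hx _ hU
    rw [hx] at himg
    have hηs : η ⤳ s₀ := hs₀ ▸ IsLocalRing.specializes_closedPoint η
    have himg' : h.base '' (closure (Set.range (h.fiberι η).base))ᶜ ∈ nhds η := hηs himg
    obtain ⟨x', hx'U, hx'η⟩ := mem_of_mem_nhds himg'
    apply hx'U
    apply subset_closure
    rw [Scheme.Hom.range_fiberι]
    exact hx'η
  haveI hprop : IsProper (ι ≫ h) := inferInstance
  haveI hlfp : LocallyOfFinitePresentation (ι ≫ h) := inferInstance
  have hG := Groth.Agent.Lib.Helper6.GRProper.isOpen_geometricallyReduced_fibre (ι ≫ h)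
  have hs₀G : GeometricallyReduced ((ι ≫ h).fiberToSpecResidueField s₀) := by
    rw [← fibMap_fiberToSpec]
    exact (MorphismProperty.cancel_left_of_respectsIso @GeometricallyReduced _ _).mpr hred
  haveI : GeometricallyReduced (ι ≫ h) := by
    rw [GeometricallyReduced.eq_geometrically, geometrically_iff_forall_fiberToSpecResidueField]
    intro s
    have hs : s ⤳ s₀ := hs₀ ▸ IsLocalRing.specializes_closedPoint s
    have := hs.mem_open hG hs₀G
    rw [Set.mem_ofPred_eq, GeometricallyReduced.eq_geometrically] at this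
    exact this
  have hlc := Groth.Agent.S1364.result (ι ≫ h)
  haveI : PreconnectedSpace ↥(Spec (CommRingCat.of V)) :=
    inferInstanceAs (PreconnectedSpace (PrimeSpectrum V))
  have heq : MoreMor.nGeomConnComp (ι ≫ h) η = MoreMor.nGeomConnComp (ι ≫ h) s₀ :=
    hlc.apply_eq_of_isPreconnected isPreconnected_univ (Set.mem_univ _) (Set.mem_univ _)
  rw [← nGeomConnComp_eq_of_isIso_fibMap ι h η hcη, ← nGeomConnComp_eq_of_isIso_fibMap ι h s₀ hcs]
  exact heq

end Groth.Agent.Lib.Helper22.LscE
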