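import Mathlib
import Groth.Agent.Lib.Helper22LscC
import Groth.Agent.S4938
import Groth.Agent.S1297
import Groth.Prelude.Def_Flat

set_option autoImplicit false
set_option linter.style.haveILetI false
set_option linter.unusedSectionVars false
set_option linter.unusedVariables false

universe u

open CategoryTheory CategoryTheory.Limits AlgebraicGeometry Topology

namespace Groth.Agent.Lib.Helper22.LscF

open Groth.Agent.Lib.Helper22.LscA Groth.Agent.Lib.Helper22.LscB

/-- a nonempty discrete space has Krull dimension zero. -/
theorem topologicalKrullDim_eq_zero_of_discrete (T : Type*) [TopologicalSpace T]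
    [DiscreteTopology T] [Nonempty T] : topologicalKrullDim T = 0 := by
  apply le_antisymm (topologicalKrullDim_zero_of_discreteTopology T)
  obtain ⟨x⟩ := ‹Nonempty T›
  haveI : Nonempty (TopologicalSpace.IrreducibleCloseds T) :=
    ⟨⟨closure {x}, isIrreducible_singleton.closure, isClosed_closure⟩⟩
  exact Order.krullDim_nonneg

/-- the local dimension of a discrete space is zero. -/
theorem localDim_eq_zero_of_discrete (T : Type*) [TopologicalSpace T] [DiscreteTopology T]
    (x : T) : FlatMor.localDim T x = 0 := by
  unfold FlatMor.localDim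
  have h : ∀ U : {U : TopologicalSpace.Opens T // x ∈ U},
      topologicalKrullDim (U.1 : Set T) = 0 := by
    intro U
    haveI : Nonempty (U.1 : Set T) := ⟨⟨x, U.2⟩⟩
    exact topologicalKrullDim_eq_zero_of_discrete _
  haveI : Nonempty {U : TopologicalSpace.Opens T // x ∈ U} := ⟨⟨⊤, trivial⟩⟩
  simp only [h]
  exact iInf_const

/-- every irreducible component of the target of a surjective morphism contains the image of an
irreducible component of the source. -/
theorem exists_image_subset_of_surjective {X Y' : Scheme.{u}} (π : X ⟶ Y') [Surjective π]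
    (Z : Set Y') (hZ : Z ∈ irreducibleComponents (Y' : Type u)) :
    ∃ W ∈ irreducibleComponents (X : Type u), π.base '' W ⊆ Z := by
  have hZirr : IsIrreducible Z := hZ.1
  have hZcl : IsClosed Z := isClosed_of_mem_irreducibleComponents Z hZ
  obtain ⟨ζ, hζ⟩ := QuasiSober.sober hZirr hZcl
  obtain ⟨x, hx⟩ := π.surjective ζ
  refine ⟨irreducibleComponent x, irreducibleComponent_mem_irreducibleComponents x, ?_⟩
  have hirr : IsIrreducible (closure (π.base '' irreducibleComponent x)) :=
    (isIrreducible_irreducibleComponent.image _ π.continuous.continuousOn).closure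
  have hsub : Z ⊆ closure (π.base '' irreducibleComponent x) := by
    rw [← hζ.def]
    apply closure_minimal _ isClosed_closure
    rw [Set.singleton_subset_iff]
    exact subset_closure ⟨x, mem_irreducibleComponent, hx⟩
  have := hZ.2 hirr hsub
  exact subset_closure.trans this

/-- a finite morphism to an irreducible locally Noetherian scheme all of whose irreducible components
dominate is universally open at the points over a geometrically unibranch point. -/
theorem isUnivOpenAt_of_finite_of_geomUnibranch {Y' Y : Scheme.{u}} [IrreducibleSpace Y]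
    [IsLocallyNoetherian Y] (g : Y' ⟶ Y) [IsFinite g]
    (hdom : ∀ Z ∈ irreducibleComponents (Y' : Type u), closure (g.base '' Z) = Set.univ) (y₀ : Y)
    (hy : CAlg2.IsGeomUnibranch (Y.presheaf.stalk y₀)) (t : Y') (ht : g.base t = y₀) :
    EGA43.IsUnivOpenAt g t := by
  have key := Groth.Agent.S4938.result g y₀ hy
  have hba := (key.out 1 0).mp
  apply hba _ t ht
  intro x hx Y₀ hY₀ hyY₀
  have hY₀' : Y₀ = Set.univ := by
    have := hY₀
    rw [irreducibleComponents_eq_singleton] at this
    exact this
  refine ⟨irreducibleComponent x, irreducibleComponent_mem_irreducibleComponents x,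
    mem_irreducibleComponent, ?_, ?_⟩
  · rw [hY₀']
    exact hdom _ (irreducibleComponent_mem_irreducibleComponents x)
  · intro η hη
    have hdisc : ∀ y : Y, DiscreteTopology ↥(irreducibleComponent x ∩ g.base ⁻¹' {y}) := fun y =>
      isDiscrete_iff_discreteTopology.mp
        ((g.isDiscrete_preimage_singleton y).mono Set.inter_subset_right)
    haveI := hdisc (g.base x)
    haveI := hdisc η
    have hne : Nonempty ↥(irreducibleComponent x ∩ g.base ⁻¹' {η}) := by
      have hcl : IsClosed (g.base '' irreducibleComponent x) :=
        g.isClosedMap _ isClosed_irreducibleComponent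
      have huniv : g.base '' irreducibleComponent x = Set.univ := by
        rw [← hcl.closure_eq]
        exact hdom _ (irreducibleComponent_mem_irreducibleComponents x)
      obtain ⟨w, hw, hwη⟩ : η ∈ g.base '' irreducibleComponent x := huniv ▸ Set.mem_univ η
      exact ⟨⟨w, hw, hwη⟩⟩
    rw [localDim_eq_zero_of_discrete, topologicalKrullDim_eq_zero_of_discrete]

/-- **EGA IV 15.5.3**: lower semicontinuity of the geometric number of connected components at a
geometrically unibranch point, for a proper morphism all of whose components dominate. -/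
theorem exists_nhds_le_of_geomUnibranch {X Y : Scheme.{u}} [IrreducibleSpace Y]
    [IsLocallyNoetherian Y] (f : X ⟶ Y) [IsProper f]
    (hdom : ∀ Z ∈ irreducibleComponents (X : Type u), closure (f.base '' Z) = Set.univ) (y₀ : Y)
    (hy : CAlg2.IsGeomUnibranch (Y.presheaf.stalk y₀)) :
    ∃ V ∈ nhds y₀, ∀ z ∈ V, MoreMor.nGeomConnComp f y₀ ≤ MoreMor.nGeomConnComp f z := by
  let g := f.fromNormalization
  let π := f.toNormalization
  have hfac : π ≫ g = f := f.toNormalization_fromNormalization
  haveI : IsFinite g := Groth.Agent.S1297.result f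
  haveI : IsProper π := by
    haveI : IsProper (π ≫ g) := by rw [hfac]; infer_instance
    exact IsProper.of_comp π g
  haveI : Surjective π :=
    surjective_of_isDominant_of_isClosed_range π π.isClosedMap.isClosed_range
  have hdom' : ∀ Z ∈ irreducibleComponents (↥f.normalization : Type u),
      closure (g.base '' Z) = Set.univ := by
    intro Z hZ
    obtain ⟨W, hW, hWZ⟩ := exists_image_subset_of_surjective π Z hZ
    rw [Set.eq_univ_iff_forall]
    intro y
    have h1 : f.base '' W ⊆ g.base '' Z := by
      rintro _ ⟨w, hw, rfl⟩
      refine ⟨π.base w, hWZ ⟨w, hw, rfl⟩, ?_⟩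
      exact congrArg (fun ψ : X ⟶ Y => ψ.base w) hfac
    have h2 : y ∈ closure (f.base '' W) := by rw [hdom W hW]; trivial
    exact closure_mono h1 h2
  have hg : ∀ t, g.base t = y₀ → EGA43.IsUnivOpenAt g t := fun t ht =>
    isUnivOpenAt_of_finite_of_geomUnibranch g hdom' y₀ hy t ht
  obtain ⟨hfin, heq⟩ := Groth.Agent.S7838.result f y₀
  obtain ⟨m, hm⟩ := ENat.ne_top_iff_exists.mp hfin.ne
  have hy' : y₀ ∈ E g m := mem_E_of_le g y₀ m (by rw [hm, heq])
  refine ⟨E g m, E_mem_nhds m g y₀ hg hy', fun z hz => ?_⟩
  rw [← hm, (Groth.Agent.S7838.result f z).2]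
  exact le_of_mem_E g z m hz

end Groth.Agent.Lib.Helper22.LscF
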