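import Mathlib
import Groth.Agent.Lib.Helper3LocusBC
import Groth.Agent.Lib.Helper7TopDim
import Groth.Prelude.Def_Flat

set_option autoImplicit false
set_option linter.style.haveILetI false
universe u
open CategoryTheory CategoryTheory.Limits AlgebraicGeometry Topology

namespace Groth.Agent.Lib.Helper3.QFinDim

open Groth.Agent.Lib.Helper3.LocusBC

/-- fibres of quasi-compact morphisms locally of finite type are Noetherian spaces. -/
theorem noetherianSpace_fiber {X S : Scheme.{u}} (f : X ⟶ S) [LocallyOfFiniteType f]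
    [QuasiCompact f] (s : S) : TopologicalSpace.NoetherianSpace ↥(f.fiber s) := by
  haveI : IsLocallyNoetherian (f.fiber s) :=
    LocallyOfFiniteType.isLocallyNoetherian (f.fiberToSpecResidueField s)
  haveI : CompactSpace ↥(f.fiber s) :=
    QuasiCompact.compactSpace_of_compactSpace (f.fiberToSpecResidueField s)
  haveI : IsNoetherian (f.fiber s) := { }
  infer_instance

/-- quasi-finiteness at a point is the vanishing of the local fibre dimension. -/
theorem quasiFiniteAt_iff_fibreDimAt_le_zero {X S : Scheme.{u}} (f : X ⟶ S)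
    [LocallyOfFiniteType f] [QuasiCompact f] (x : X) :
    f.QuasiFiniteAt x ↔ FlatMor.fibreDimAt f x ≤ 0 := by
  haveI := noetherianSpace_fiber f (f x)
  rw [Scheme.Hom.quasiFiniteAt_iff_isOpen_singleton_asFiber,
    Groth.Agent.Lib.Helper7.TopDim.isOpen_singleton_iff_localDim_eq_zero]
  show FlatMor.localDim _ _ = 0 ↔ FlatMor.localDim _ _ ≤ 0
  exact ⟨fun h => h.le, fun h => le_antisymm h (Groth.Agent.Lib.Helper7.TopDim.localDim_nonneg _)⟩

/-- a quasi-compact morphism locally of finite type with fibres of local dimension `≤ 0` is locally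
quasi-finite. -/
theorem locallyQuasiFinite_of_forall_fibreDimAt_le_zero {X S : Scheme.{u}} (f : X ⟶ S)
    [LocallyOfFiniteType f] [QuasiCompact f] (h : ∀ x : X, FlatMor.fibreDimAt f x ≤ 0) :
    LocallyQuasiFinite f := by
  rw [← Scheme.Hom.quasiFiniteLocus_eq_top_iff]
  apply top_le_iff.mp
  intro x _
  exact (quasiFiniteAt_iff_fibreDimAt_le_zero f x).mpr (h x)

theorem fibreDimAt_le_zero_of_locallyQuasiFinite {X S : Scheme.{u}} (f : X ⟶ S)
    [LocallyOfFiniteType f] [QuasiCompact f] [LocallyQuasiFinite f] (x : X) :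
    FlatMor.fibreDimAt f x ≤ 0 :=
  (quasiFiniteAt_iff_fibreDimAt_le_zero f x).mp (f.quasiFiniteAt x)

end Groth.Agent.Lib.Helper3.QFinDim
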