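import Mathlib
import Groth.Agent.Lib.Helper3FlatFibDim2
import Groth.Agent.Lib.Helper4FibDimI
import Groth.Agent.Lib.Helper6Reduced

set_option autoImplicit false
set_option linter.style.haveILetI false
universe u
open CategoryTheory CategoryTheory.Limits AlgebraicGeometry Topology

namespace Groth.Agent.Lib.Helper3.DomFibDim

open Groth.Agent.Lib.Helper3.FlatFibDim2 Groth.Agent.Lib.Helper4.FibDim

/-- a dominant morphism of irreducible schemes maps the generic point to the generic point. -/
theorem map_genericPoint_of_isDominant {X Y : Scheme.{u}} [IrreducibleSpace X] [IrreducibleSpace Y]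
    (f : X ⟶ Y) [IsDominant f] : f (genericPoint X) = genericPoint Y := by
  apply ((genericPoint_spec Y).eq _).symm
  have := (genericPoint_spec X).image f.continuous
  rw [Set.image_univ, f.denseRange.closure_range] at this
  exact this

variable {R : Type u} [CommRing R] [IsDomain R]

/-- an affine open piece of an integral scheme dominant over a domain `R` for which torsion-free
modules are flat is flat over `R`. -/
theorem flat_comp_of_isIntegral_of_isDominant
    (hflat : ∀ (M : Type u) [AddCommGroup M] [Module R M], Submodule.torsion R M = ⊥ →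
      Module.Flat R M)
    {Z : Scheme.{u}} [IsIntegral Z] (g : Z ⟶ Spec (CommRingCat.of R)) [IsDominant g]
    (Ri : CommRingCat.{u}) (j : Spec Ri ⟶ Z) [IsOpenImmersion j] : Flat (j ≫ g) := by
  let φ : CommRingCat.of R ⟶ Ri := Spec.preimage (j ≫ g)
  have hφ : Spec.map φ = j ≫ g := Spec.map_preimage _
  rw [← hφ, HasRingHomProperty.Spec_iff (P := @Flat)]
  letI : Algebra R Ri := φ.hom.toAlgebra
  show Module.Flat R Ri
  apply hflat
  rcases subsingleton_or_nontrivial Ri with hs | hn
  · rw [eq_bot_iff]
    intro m _
    exact Subsingleton.elim _ _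
  · haveI : Nonempty (Spec Ri) := inferInstanceAs (Nonempty (PrimeSpectrum Ri))
    haveI : IsIntegral (Spec Ri) := isIntegral_of_isOpenImmersion j
    haveI : IsDomain Ri := (affine_isIntegral_iff Ri).mp inferInstance
    have hker : RingHom.ker φ.hom = ⊥ := by
      have h1 : (Spec.map φ) (genericPoint (Spec Ri)) = genericPoint (Spec (CommRingCat.of R)) := by
        rw [hφ, Scheme.Hom.comp_apply, genericPoint_eq_of_isOpenImmersion j,
          map_genericPoint_of_isDominant g]
      rw [genericPoint_eq_bot_of_affine, genericPoint_eq_bot_of_affine] at h1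
      have h2 := congrArg PrimeSpectrum.asIdeal h1
      exact h2
    rw [eq_bot_iff]
    rintro m ⟨⟨a, ha⟩, h⟩
    have ha0 : a ≠ 0 := nonZeroDivisors.ne_zero ha
    have h' : φ.hom a * m = 0 := h
    rcases mul_eq_zero.mp h' with h0 | h0
    · exact absurd ((RingHom.injective_iff_ker_eq_bot _).mpr hker (h0.trans (map_zero _).symm)) ha0
    · exact h0

/-- an integral scheme dominant over a domain `R` for which torsion-free modules are flat is flat
over `R`. -/
theorem flat_of_isIntegral_of_isDominant
    (hflat : ∀ (M : Type u) [AddCommGroup M] [Module R M], Submodule.torsion R M = ⊥ →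
      Module.Flat R M)
    {Z : Scheme.{u}} [IsIntegral Z] (g : Z ⟶ Spec (CommRingCat.of R)) [IsDominant g] : Flat g := by
  apply IsZariskiLocalAtSource.of_openCover (P := @Flat) Z.affineCover
  intro i
  have := flat_comp_of_isIntegral_of_isDominant hflat g _
    ((Z.affineCover.X i).isoSpec.inv ≫ Z.affineCover.f i)
  rw [Category.assoc] at this
  exact (MorphismProperty.cancel_left_of_respectsIso @Flat (Z.affineCover.X i).isoSpec.inv _).mp
    this

/-- the fibre dimension only depends on the underlying topological space of the source. -/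
theorem dim_fiber_comp_of_isHomeomorph {Z X S : Scheme.{u}} (h : Z ⟶ X) (hh : IsHomeomorph h)
    (f : X ⟶ S) (s : S) :
    topologicalKrullDim ↥((h ≫ f).fiber s) = topologicalKrullDim ↥(f.fiber s) := by
  rw [((h ≫ f).fiberHomeo s).isHomeomorph.topologicalKrullDim_eq,
    (f.fiberHomeo s).isHomeomorph.topologicalKrullDim_eq]
  let e : ↥((h ≫ f) ⁻¹' {s}) ≃ₜ ↥(f ⁻¹' {s}) :=
    (hh.homeomorph h).subtype (fun z => by
      show (h ≫ f) z = s ↔ f (h z) = s
      rw [Scheme.Hom.comp_apply])
  exact e.isHomeomorph.topologicalKrullDim_eq

section core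

variable {X : Scheme.{u}} [IrreducibleSpace X] (f : X ⟶ Spec (CommRingCat.of R))
  [LocallyOfFiniteType f] [IsDominant f]

/-- Chevalley: the local fibre dimension at any point is at least the dimension of the generic
fibre. -/
theorem dim_genericFibre_le_fibreDimAt (x : X) :
    topologicalKrullDim ↥(f.fiber (genericPoint (Spec (CommRingCat.of R)))) ≤
      FlatMor.fibreDimAt f x := by
  rw [← map_genericPoint_of_isDominant f,
    topologicalKrullDim_fiber_eq_fibreDimAt f (genericPoint X) (genericPoint_specializes)]
  exact fibreDimAt_le_of_forall_specializes f (genericPoint X) genericPoint_specializes x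

/-- flatness of the reduction: every fibre has dimension at most that of the generic fibre. -/
theorem dim_fiber_le_dim_genericFibre
    (hflat : ∀ (M : Type u) [AddCommGroup M] [Module R M], Submodule.torsion R M = ⊥ →
      Module.Flat R M) (s : Spec (CommRingCat.of R)) :
    topologicalKrullDim ↥(f.fiber s) ≤
      topologicalKrullDim ↥(f.fiber (genericPoint (Spec (CommRingCat.of R)))) := by
  let ι := X.nilradical.subschemeι
  have hsurj : Function.Surjective ι := by
    rw [← Set.range_eq_univ]
    exact Groth.Agent.Lib.Helper6.range_nilradical_subschemeι X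
  have hh : IsHomeomorph ι :=
    isHomeomorph_iff_isEmbedding_surjective.mpr ⟨ι.isClosedEmbedding.isEmbedding, hsurj⟩
  haveI : IrreducibleSpace X.nilradical.subscheme :=
    ((hh.homeomorph ι).symm.surjective.irreducibleSpace (hh.homeomorph ι).symm.continuous)
  haveI : IsIntegral X.nilradical.subscheme := isIntegral_of_irreducibleSpace_of_isReduced _
  haveI : Surjective ι := ⟨hsurj⟩
  haveI : Flat (ι ≫ f) := flat_of_isIntegral_of_isDominant hflat (ι ≫ f)
  rw [← dim_fiber_comp_of_isHomeomorph ι hh f s, ← dim_fiber_comp_of_isHomeomorph ι hh f _]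
  apply le_of_forall_natCast_le
  intro n hn
  exact le_dim_fibre_of_specializes' (ι ≫ f) (genericPoint_specializes s) n hn

end core

end Groth.Agent.Lib.Helper3.DomFibDim
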