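import Mathlib
import Groth.Agent.Lib.Helper7TopDim
import Groth.Agent.Lib.Helper6EtDim

/-! # Topological lemmas on dimension of closures (for EGA IV 14.3.x) -/

set_option autoImplicit false
set_option linter.style.haveILetI false
universe u
open Set Function Order TopologicalSpace Topology

namespace Groth.Agent.Lib.Helper6.ValTop

variable {X : Type*} [TopologicalSpace X]

theorem dim_le_of_subset (M N : Set X) (h : M ⊆ N) :
    topologicalKrullDim ↥M ≤ topologicalKrullDim ↥N :=
  (IsEmbedding.inclusion h).isInducing.topologicalKrullDim_le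

theorem dim_congr_set (M N : Set X) (h : M = N) :
    topologicalKrullDim ↥M = topologicalKrullDim ↥N := by
  subst h; rfl

/-- the dimension of a set covered by finitely many closed sets is at most the supremum of the
dimensions of the traces. -/
theorem dim_le_iSup_of_finite_closed_cover {ι : Type*} [Finite ι] (M : Set X) (W : ι → Set X)
    (hW : ∀ i, IsClosed (W i)) (hcov : M ⊆ ⋃ i, W i) :
    topologicalKrullDim ↥M ≤ ⨆ i, topologicalKrullDim ↥(W i ∩ M) := by
  have h1 := Groth.Agent.Lib.Helper7.TopDim.topologicalKrullDim_eq_iSup_of_locallyFinite_closed_cover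
    (X := ↥M) (fun i => (Subtype.val ⁻¹' (W i) : Set ↥M))
    (fun i => (hW i).preimage continuous_subtype_val) (locallyFinite_of_finite _)
    (by
      rw [Set.eq_univ_iff_forall]
      intro z
      obtain ⟨i, hi⟩ := Set.mem_iUnion.mp (hcov z.2)
      exact Set.mem_iUnion.mpr ⟨i, hi⟩)
  rw [h1]
  refine iSup_mono fun i => ?_
  let g : ↥(Subtype.val ⁻¹' (W i) : Set ↥M) → ↥(W i ∩ M) := fun z => ⟨z.1.1, z.2, z.1.2⟩
  have hg : IsInducing g := by
    apply Groth.Agent.Lib.Helper7.TopDim.isInducing_of_comp_eq g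
      (fun z => (z.1.1 : X)) Subtype.val
    · exact IsInducing.subtypeVal.comp IsInducing.subtypeVal
    · exact IsInducing.subtypeVal
    · rfl
  exact hg.topologicalKrullDim_le

/-- a Noetherian subspace of a quasi-sober space is covered by the closures of finitely many
points, each of which is a generization of a point of the subspace and lies in its closure. -/
theorem exists_finite_generic_of_noetherianSpace [QuasiSober X] (B : Set X)
    [NoetherianSpace ↥B] :
    ∃ Ξ : Set X, Ξ.Finite ∧ B ⊆ ⋃ ξ ∈ Ξ, closure {ξ} ∧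
      ∀ ξ ∈ Ξ, closure {ξ} ⊆ closure B ∧ ∃ d ∈ B, ξ ⤳ d := by
  obtain ⟨S, hSfin, -, hSirr, hSuniv⟩ :=
    NoetherianSpace.exists_finite_set_isClosed_irreducible isClosed_univ (α := ↥B)
  have hgen : ∀ t : Set ↥B, t ∈ S → ∃ ξ : X,
      closure {ξ} = closure (Subtype.val '' t) := by
    intro t ht
    have hirr : IsIrreducible (closure (Subtype.val '' t) : Set X) :=
      ((hSirr t ht).image _ continuous_subtype_val.continuousOn).closure
    obtain ⟨ξ, hξ⟩ := QuasiSober.sober hirr isClosed_closure
    exact ⟨ξ, hξ.def⟩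
  choose ξ hξ using hgen
  refine ⟨{x | ∃ t ht, ξ t ht = x}, hSfin.dependent_image ξ, ?_, ?_⟩
  · intro b hb
    have hbtop : (⟨b, hb⟩ : ↥B) ∈ (Set.univ : Set ↥B) := trivial
    rw [hSuniv] at hbtop
    obtain ⟨t, ht, hbt⟩ := Set.mem_sUnion.mp hbtop
    refine Set.mem_iUnion₂.mpr ⟨ξ t ht, ⟨t, ht, rfl⟩, ?_⟩
    rw [hξ t ht]
    exact subset_closure ⟨⟨b, hb⟩, hbt, rfl⟩
  · rintro _ ⟨t, ht, rfl⟩
    refine ⟨?_, ?_⟩
    · rw [hξ t ht]
      apply closure_mono
      rintro _ ⟨z, -, rfl⟩
      exact z.2
    · obtain ⟨z, hz⟩ := (hSirr t ht).nonempty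
      refine ⟨z.1, z.2, ?_⟩
      rw [specializes_iff_mem_closure, hξ t ht]
      exact subset_closure ⟨z, hz, rfl⟩

/-- a continuous open surjective generalizing map does not lower the dimension of closures. -/
theorem dim_closure_le_of_isOpenMap {F F' : Type*} [TopologicalSpace F] [TopologicalSpace F']
    [QuasiSober F] (p : F' → F) (hc : Continuous p) (ho : IsOpenMap p) (hs : Function.Surjective p)
    (hgen : GeneralizingMap p) (M : Set F) :
    topologicalKrullDim ↥(closure M) ≤ topologicalKrullDim ↥(closure (p ⁻¹' M)) := by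
  rw [← ho.preimage_closure_eq_closure_preimage hc M]
  haveI : QuasiSober ↥(closure M) := isClosed_closure.isClosedEmbedding_subtypeVal.quasiSober
  let π : ↥(p ⁻¹' closure M) → ↥(closure M) := fun z => ⟨p z.1, z.2⟩
  apply Groth.Agent.Lib.Helper6.EtDim.topologicalKrullDim_le_of_generalizing π
  · exact (hc.comp continuous_subtype_val).subtype_mk _
  · rintro ⟨c, hc'⟩
    obtain ⟨x, rfl⟩ := hs c
    exact ⟨⟨x, hc'⟩, rfl⟩
  · intro z c' hc'
    have h1 : c'.1 ⤳ p z.1 := (subtype_specializes_iff _ _).mp hc'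
    obtain ⟨x', hx', hpx'⟩ := hgen h1
    refine ⟨⟨x', ?_⟩, ?_, ?_⟩
    · show p x' ∈ closure M
      rw [hpx']; exact c'.2
    · exact (subtype_specializes_iff _ _).mpr hx'
    · exact Subtype.ext hpx'

/-- the trace on the range of an embedding `j` of the closure of `T ∩ range j` is homeomorphic to
the closure of `j ⁻¹' T`. -/
theorem dim_range_inter_closure {F : Type*} [TopologicalSpace F] (j : F → X) (hj : IsEmbedding j)
    (T : Set X) :
    topologicalKrullDim ↥(Set.range j ∩ closure (T ∩ Set.range j)) =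
      topologicalKrullDim ↥(closure (j ⁻¹' T)) := by
  have h1 : closure (j ⁻¹' T) = j ⁻¹' closure (T ∩ Set.range j) := by
    rw [hj.isInducing.closure_eq_preimage_closure_image, Set.image_preimage_eq_inter_range]
  have h2 : j '' (j ⁻¹' closure (T ∩ Set.range j)) = Set.range j ∩ closure (T ∩ Set.range j) :=
    Set.image_preimage_eq_range_inter
  rw [h1, ← dim_congr_set _ _ h2]
  exact ((hj.homeomorphImage (j ⁻¹' closure (T ∩ Set.range j))).isHomeomorph.topologicalKrullDim_eq
    ).symm

/-- if `pr` is an embedding and `q ∘ pr` is inducing, then `q` restricted to the range of `pr` is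
inducing. -/
theorem isInducing_restrict_range {P V : Type*} [TopologicalSpace P] [TopologicalSpace V]
    (pr : P → V) (hpr : IsEmbedding pr) (q : V → X) (hq : IsInducing (q ∘ pr)) :
    IsInducing (q ∘ (Subtype.val : ↥(Set.range pr) → V)) := by
  have h : q ∘ (Subtype.val : ↥(Set.range pr) → V) = (q ∘ pr) ∘ hpr.toHomeomorph.symm := by
    funext z
    obtain ⟨a, ha⟩ := z.2
    have hz : z = hpr.toHomeomorph a := Subtype.ext ha.symm
    rw [hz]
    simp only [Function.comp_apply, Homeomorph.symm_apply_apply]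
    rfl
  rw [h]
  exact hq.comp hpr.toHomeomorph.symm.isInducing

end Groth.Agent.Lib.Helper6.ValTop
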