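import Mathlib
import Groth.Agent.Lib.Helper3DomFibDim
import Groth.Agent.Lib.Helper3QFinDim
import Groth.Agent.Lib.Helper4DimFormulaAN
import Groth.Agent.Lib.Helper6ValTop

/-! # Dimension of traces of closures on the fibres over a valuation ring -/

set_option autoImplicit false
set_option linter.style.haveILetI false
universe u
open CategoryTheory CategoryTheory.Limits AlgebraicGeometry Topology TopologicalSpace

namespace Groth.Agent.Lib.Helper6.ValCore

open Groth.Agent.Lib.Helper6.ValTop

/-- the fibre of `ι ≫ φ` (with `ι` an embedding) has the dimension of the trace of the range of `ι`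
on the fibre of `φ`. -/
theorem dim_fiber_comp_eq {Z X' B : Scheme.{u}} (ι : Z ⟶ X') (hι : IsEmbedding ι.base) (φ : X' ⟶ B)
    (b : B) :
    topologicalKrullDim ↥((ι ≫ φ).fiber b) =
      topologicalKrullDim ↥(Set.range ι.base ∩ φ.base ⁻¹' {b}) := by
  rw [((ι ≫ φ).fiberHomeo b).isHomeomorph.topologicalKrullDim_eq]
  have h1 : ((ι ≫ φ).base ⁻¹' {b} : Set Z) = ι.base ⁻¹' (φ.base ⁻¹' {b}) := rfl
  rw [dim_congr_set _ _ h1,
    (hι.homeomorphImage (ι.base ⁻¹' (φ.base ⁻¹' {b}))).isHomeomorph.topologicalKrullDim_eq]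
  exact dim_congr_set _ _ Set.image_preimage_eq_range_inter

variable {A : Type u} [CommRing A] [IsDomain A] [ValuationRing A]

/-- for a point `ξ` over the generic point of a valuation ring, the trace of `closure {ξ}` on any
fibre has dimension at most that of its trace on the generic fibre. -/
theorem dim_closure_singleton_inter_fibre_le {X' : Scheme.{u}} (φ : X' ⟶ Spec (CommRingCat.of A))
    [LocallyOfFiniteType φ] (ξ : X')
    (hξ : φ.base ξ = genericPoint (Spec (CommRingCat.of A))) (b : Spec (CommRingCat.of A)) :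
    topologicalKrullDim ↥(closure {ξ} ∩ φ.base ⁻¹' {b}) ≤
      topologicalKrullDim ↥(closure {ξ} ∩ φ.base ⁻¹' {genericPoint (Spec (CommRingCat.of A))}) := by
  obtain ⟨Z, ι, hι, hrange⟩ :=
    Groth.Agent.Lib.Helper4.DimFormula.exists_isClosedImmersion_range_eq X' (closure {ξ})
      isClosed_closure
  have hξr : ξ ∈ Set.range ι.base := by rw [hrange]; exact subset_closure rfl
  obtain ⟨tξ, htξ⟩ := hξr
  have hgen : ∀ z : Z, tξ ⤳ z := by
    intro z
    apply ι.isEmbedding.isInducing.specializes_iff.mp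
    rw [htξ]
    apply specializes_iff_mem_closure.mpr
    rw [← hrange]
    exact ⟨z, rfl⟩
  have hcl : closure ({tξ} : Set Z) = Set.univ := by
    rw [Set.eq_univ_iff_forall]
    exact fun z => (hgen z).mem_closure
  haveI : IrreducibleSpace Z :=
    { toPreirreducibleSpace := ⟨by rw [← hcl]; exact isIrreducible_singleton.closure.isPreirreducible⟩
      toNonempty := ⟨tξ⟩ }
  haveI : IsDominant (ι ≫ φ) := by
    constructor
    have h1 : (ι ≫ φ).base tξ = genericPoint (Spec (CommRingCat.of A)) := by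
      rw [Scheme.Hom.comp_apply, htξ, hξ]
    intro b'
    have h2 : genericPoint (Spec (CommRingCat.of A)) ⤳ b' := genericPoint_specializes b'
    have h3 : ({genericPoint (Spec (CommRingCat.of A))} : Set (Spec (CommRingCat.of A))) ⊆
        Set.range (ι ≫ φ).base := by
      rw [Set.singleton_subset_iff]
      exact ⟨tξ, h1⟩
    exact closure_mono h3 h2.mem_closure
  have key := Groth.Agent.Lib.Helper3.DomFibDim.dim_fiber_le_dim_genericFibre (ι ≫ φ)
    (fun M _ _ h => Module.Flat.flat_iff_torsion_eq_bot_of_isBezout.mpr h) b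
  rw [dim_fiber_comp_eq ι ι.isEmbedding φ b, dim_fiber_comp_eq ι ι.isEmbedding φ _, hrange] at key
  exact key

/-- **Core inequality over a valuation ring**: for a set `T` of points of the generic fibre of a
morphism of finite type `φ : X' ⟶ Spec A`, the trace of `closure T` on any fibre has dimension at
most that of its trace on the generic fibre. -/
theorem dim_closure_inter_fibre_le {X' : Scheme.{u}} (φ : X' ⟶ Spec (CommRingCat.of A))
    [LocallyOfFiniteType φ] [QuasiCompact φ] (T : Set X')
    (hT : T ⊆ φ.base ⁻¹' {genericPoint (Spec (CommRingCat.of A))}) (b : Spec (CommRingCat.of A)) :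
    topologicalKrullDim ↥(closure T ∩ φ.base ⁻¹' {b}) ≤
      topologicalKrullDim ↥(closure T ∩ φ.base ⁻¹' {genericPoint (Spec (CommRingCat.of A))}) := by
  haveI h1 : NoetherianSpace ↥(φ.fiber (genericPoint (Spec (CommRingCat.of A)))) :=
    Groth.Agent.Lib.Helper3.QFinDim.noetherianSpace_fiber φ _
  haveI h2 : NoetherianSpace ↥(φ.base ⁻¹' {genericPoint (Spec (CommRingCat.of A))}) :=
    (noetherianSpace_iff_of_homeomorph (φ.fiberHomeo _)).mp h1
  have hsub : closure T ∩ φ.base ⁻¹' {genericPoint (Spec (CommRingCat.of A))} ⊆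
      φ.base ⁻¹' {genericPoint (Spec (CommRingCat.of A))} := Set.inter_subset_right
  haveI h3 : NoetherianSpace
      ↥(closure T ∩ φ.base ⁻¹' {genericPoint (Spec (CommRingCat.of A))}) :=
    (IsEmbedding.inclusion hsub).isInducing.noetherianSpace
  obtain ⟨Ξ, hfin, hcov, hΞ⟩ := exists_finite_generic_of_noetherianSpace
    (closure T ∩ φ.base ⁻¹' {genericPoint (Spec (CommRingCat.of A))})
  haveI : Finite ↥Ξ := hfin.to_subtype
  have hclosed : IsClosed (⋃ ξ : ↥Ξ, closure {ξ.1}) :=
    isClosed_iUnion_of_finite fun _ => isClosed_closure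
  have hTcov : closure T ⊆ ⋃ ξ : ↥Ξ, closure {ξ.1} := by
    apply closure_minimal _ hclosed
    intro t ht
    obtain ⟨ξ, hξ, htξ⟩ := Set.mem_iUnion₂.mp (hcov ⟨subset_closure ht, hT ht⟩)
    exact Set.mem_iUnion.mpr ⟨⟨ξ, hξ⟩, htξ⟩
  refine (dim_le_iSup_of_finite_closed_cover (closure T ∩ φ.base ⁻¹' {b})
    (fun ξ : ↥Ξ => closure {ξ.1}) (fun _ => isClosed_closure)
    (Set.inter_subset_left.trans hTcov)).trans ?_
  refine iSup_le fun ξ => ?_
  obtain ⟨hξcl, d, hd, hξd⟩ := hΞ ξ.1 ξ.2
  have hξη : φ.base ξ.1 = genericPoint (Spec (CommRingCat.of A)) := by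
    have h4 : φ.base ξ.1 ⤳ φ.base d := hξd.map φ.continuous
    have h5 : φ.base d = genericPoint (Spec (CommRingCat.of A)) := hd.2
    rw [h5] at h4
    exact (h4.antisymm (genericPoint_specializes _)).eq
  have hξT : closure {ξ.1} ⊆ closure T :=
    hξcl.trans (closure_minimal Set.inter_subset_left isClosed_closure)
  refine (dim_le_of_subset _ (closure {ξ.1} ∩ φ.base ⁻¹' {b}) ?_).trans
    ((dim_closure_singleton_inter_fibre_le φ ξ.1 hξη b).trans (dim_le_of_subset _ _ ?_))
  · exact fun z hz => ⟨hz.1, hz.2.2⟩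
  · exact fun z hz => ⟨hξT hz.1, hz.2⟩

end Groth.Agent.Lib.Helper6.ValCore
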