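import Mathlib

set_option autoImplicit false
set_option linter.style.haveILetI false
universe u
open CategoryTheory CategoryTheory.Limits AlgebraicGeometry Topology TopologicalSpace IsLocalRing

namespace Groth.Agent.Lib.Helper6.ValRing

/-- **Valuation rings along a specialization**: for `s' ⤳ s` in a scheme `S` there is a valuation
ring `A` of the residue field `κ(s')` and a morphism `h : Spec A ⟶ S` sending the closed point to
`s` and whose restriction to `Spec κ(s')` is the canonical morphism (so the generic point goes to
`s'`, with trivial residue field extension). -/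
theorem exists_valuationRing_of_specializes {S : Scheme.{u}} {s s' : S} (hs : s' ⤳ s) :
    ∃ (A : ValuationSubring (S.residueField s')) (h : Spec (CommRingCat.of A) ⟶ S),
      h.base (closedPoint A) = s ∧
      Spec.map (CommRingCat.ofHom (algebraMap A (S.residueField s'))) ≫ h =
        S.fromSpecResidueField s' := by
  let ψ : S.presheaf.stalk s ⟶ S.residueField s' := S.presheaf.stalkSpecializes hs ≫ S.residue s'
  obtain ⟨A, hA, hloc⟩ := exists_factor_valuationRing ψ.hom
  let ρ : S.presheaf.stalk s ⟶ CommRingCat.of A :=
    CommRingCat.ofHom (ψ.hom.codRestrict _ hA)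
  refine ⟨A, Spec.map ρ ≫ S.fromSpecStalk s, ?_, ?_⟩
  · rw [Scheme.Hom.comp_apply]
    have : Spec.map ρ (closedPoint A) = closedPoint (S.presheaf.stalk s) :=
      comap_closedPoint (S := A) (ψ.hom.codRestrict A.toSubring hA)
    rw [this, S.fromSpecStalk_closedPoint]
  · rw [Scheme.fromSpecResidueField, ← Scheme.SpecMap_stalkSpecializes_fromSpecStalk hs,
      ← Category.assoc, ← Category.assoc, ← Spec.map_comp, ← Spec.map_comp]
    rfl

end Groth.Agent.Lib.Helper6.ValRing
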