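import Mathlib
import Groth.Prelude.Def_EGA43
import Groth.Agent.Lib.Helper6ValTop
import Groth.Agent.Lib.Helper6ValRing
import Groth.Agent.Lib.Helper6ValCore
import Groth.Agent.Lib.Helper6OpenDimB
import Groth.Agent.Lib.Helper7UnivOpen

/-! # Dimension of the closure of the images of universally open families (EGA IV 14.3.x) -/

set_option autoImplicit false
set_option linter.style.haveILetI false
universe u
open CategoryTheory CategoryTheory.Limits AlgebraicGeometry Topology TopologicalSpace IsLocalRing

namespace Groth.Agent.Lib.Helper6.ValImg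

open Groth.Agent.Lib.Helper6.ValTop

/-- **L3**: in a base change of a family of universally open morphisms, the points over `b₀` of the
preimage of the union of the images lie in the closure of those over any generization `b₁`. -/
theorem preimage_inter_fibre_subset_closure {XV X B S : Scheme.{u}} {q : XV ⟶ X} {fV : XV ⟶ B}
    {f : X ⟶ S} {h : B ⟶ S} (sq : IsPullback q fV f h) {ι : Type u} (Y : ι → Scheme.{u})
    (g : ∀ i, Y i ⟶ S) [∀ i, UniversallyOpen (g i)] (v : ∀ i, Y i ⟶ X) (hv : ∀ i, v i ≫ f = g i)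
    (b₀ b₁ : B) (hb : b₁ ⤳ b₀) :
    q.base ⁻¹' (⋃ i, Set.range (v i).base) ∩ fV.base ⁻¹' {b₀} ⊆
      closure (q.base ⁻¹' (⋃ i, Set.range (v i).base) ∩ fV.base ⁻¹' {b₁}) := by
  rintro x' ⟨hx'T, hx'b⟩
  obtain ⟨i, w, hw⟩ := Set.mem_iUnion.mp hx'T
  obtain ⟨w', hw'1, hw'2⟩ := Scheme.Pullback.exists_preimage_pullback (f := v i) (g := q) w x' hw
  have big : IsPullback (pullback.fst (v i) q) (pullback.snd (v i) q ≫ fV) (v i ≫ f) h :=
    (IsPullback.of_hasPullback (v i) q).paste_vert sq
  rw [hv i] at big
  haveI : UniversallyOpen (pullback.snd (v i) q ≫ fV) :=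
    MorphismProperty.of_isPullback (P := @UniversallyOpen) big inferInstance
  rw [mem_closure_iff]
  intro N hN hx'N
  have hopen : IsOpen ((pullback.snd (v i) q ≫ fV).base '' ((pullback.snd (v i) q).base ⁻¹' N)) :=
    (pullback.snd (v i) q ≫ fV).isOpenMap _ (hN.preimage (pullback.snd (v i) q).continuous)
  have hb₀ : b₀ ∈ (pullback.snd (v i) q ≫ fV).base '' ((pullback.snd (v i) q).base ⁻¹' N) := by
    refine ⟨w', ?_, ?_⟩
    · show (pullback.snd (v i) q).base w' ∈ N
      rw [hw'2]; exact hx'N
    · rw [Scheme.Hom.comp_apply, hw'2]; exact hx'b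
  obtain ⟨w'', hw''N, hw''b⟩ := hb.mem_open hopen hb₀
  refine ⟨(pullback.snd (v i) q).base w'', hw''N, ?_, ?_⟩
  · refine Set.mem_iUnion.mpr ⟨i, (pullback.fst (v i) q).base w'', ?_⟩
    rw [← Scheme.Hom.comp_apply, ← Scheme.Hom.comp_apply, pullback.condition]
  · rw [Scheme.Hom.comp_apply] at hw''b
    exact hw''b

/-- a base change of a morphism from a nonempty scheme to a one-point integral scheme is open,
surjective and generalizing. -/
theorem isOpenMap_of_isPullback_of_subsingleton {F' F K' K : Scheme.{u}} {p : F' ⟶ F} {a : F' ⟶ K'}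
    {b : F ⟶ K} {c : K' ⟶ K} (sq : IsPullback p a b c) [IsIntegral K] [Subsingleton K]
    [Nonempty K'] :
    IsOpenMap p.base ∧ Function.Surjective p.base ∧ GeneralizingMap p.base := by
  haveI : UniversallyOpen p :=
    MorphismProperty.of_isPullback (P := @UniversallyOpen) sq.flip inferInstance
  haveI : Surjective c := by
    constructor
    intro z
    obtain ⟨k'⟩ := (inferInstance : Nonempty K')
    exact ⟨k', Subsingleton.elim _ _⟩
  haveI : Surjective p :=
    MorphismProperty.of_isPullback (P := @Surjective) sq.flip inferInstance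
  refine ⟨p.isOpenMap, p.surjective, ?_⟩
  intro z c' hc'
  exact Groth.Agent.Lib.Helper6.OpenDim.exists_specializes_of_isOpenAt p z
    (Groth.Agent.Lib.Helper7.isOpenAt_of_isOpenMap p.isOpenMap z) c' hc'

/-- the comparison morphism of fibres in a pullback square is surjective, open and generalizing,
and compatible with the inclusions of the fibres. -/
theorem exists_fiber_map {XV X B S : Scheme.{u}} {q : XV ⟶ X} {fV : XV ⟶ B}
    {f : X ⟶ S} {h : B ⟶ S} (sq : IsPullback q fV f h) (b₀ : B) :
    ∃ p : fV.fiber b₀ ⟶ f.fiber (h.base b₀), p ≫ f.fiberι (h.base b₀) = fV.fiberι b₀ ≫ q ∧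
      IsOpenMap p.base ∧ Function.Surjective p.base ∧ GeneralizingMap p.base := by
  have key := isPullback_fiberToSpecResidueField_of_isPullback sq b₀
  exact ⟨_, pullback.lift_fst _ _ _, isOpenMap_of_isPullback_of_subsingleton key⟩

/-- **L4**: passing to a base change does not lower the dimension of the closure, in a fibre, of
the trace of a set. -/
theorem dim_fibre_le_of_isPullback {XV X B S : Scheme.{u}} {q : XV ⟶ X} {fV : XV ⟶ B}
    {f : X ⟶ S} {h : B ⟶ S} (sq : IsPullback q fV f h) (T : Set X) (b₀ : B) :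
    topologicalKrullDim ↥(f.base ⁻¹' {h.base b₀} ∩ closure (T ∩ f.base ⁻¹' {h.base b₀})) ≤
      topologicalKrullDim ↥(fV.base ⁻¹' {b₀} ∩ closure (q.base ⁻¹' T ∩ fV.base ⁻¹' {b₀})) := by
  obtain ⟨p, hp, ho, hs, hg⟩ := exists_fiber_map sq b₀
  rw [← f.range_fiberι (h.base b₀), ← fV.range_fiberι b₀,
    dim_range_inter_closure _ (f.fiberι _).isEmbedding T,
    dim_range_inter_closure _ (fV.fiberι b₀).isEmbedding (q.base ⁻¹' T)]
  have hpre : (fV.fiberι b₀).base ⁻¹' (q.base ⁻¹' T) =
      p.base ⁻¹' ((f.fiberι (h.base b₀)).base ⁻¹' T) := by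
    ext z
    simp only [Set.mem_preimage]
    rw [← Scheme.Hom.comp_apply, ← Scheme.Hom.comp_apply, hp]
  rw [hpre]
  exact dim_closure_le_of_isOpenMap p.base p.continuous ho hs hg _

theorem isInducing_congr_set {V X : Type*} [TopologicalSpace V] [TopologicalSpace X] (q : V → X)
    (M N : Set V) (h : M = N) (hM : IsInducing (q ∘ (Subtype.val : ↥M → V))) :
    IsInducing (q ∘ (Subtype.val : ↥N → V)) := by
  subst h; exact hM

/-- **L5a**: in a pullback square, if `jK` and `jK ≫ h` are preimmersions, the projection `q`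
restricted to the preimage of the range of `jK` is inducing. -/
theorem isInducing_restrict_of_isPreimmersion {XV X B S Kp : Scheme.{u}} {q : XV ⟶ X}
    {fV : XV ⟶ B} {f : X ⟶ S} {h : B ⟶ S} (sq : IsPullback q fV f h) (jK : Kp ⟶ B)
    [IsPreimmersion jK] [IsPreimmersion (jK ≫ h)] :
    IsInducing (q.base ∘ (Subtype.val : ↥(fV.base ⁻¹' Set.range jK.base) → XV)) := by
  haveI : IsPreimmersion (pullback.fst fV jK) :=
    MorphismProperty.pullback_fst (P := @IsPreimmersion) fV jK inferInstance
  have big : IsPullback (pullback.fst fV jK ≫ q) (pullback.snd fV jK) f (jK ≫ h) :=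
    (IsPullback.of_hasPullback fV jK).paste_horiz sq
  haveI : IsPreimmersion (pullback.fst fV jK ≫ q) :=
    MorphismProperty.of_isPullback (P := @IsPreimmersion) big.flip inferInstance
  have h1 := isInducing_restrict_range (pullback.fst fV jK).base (pullback.fst fV jK).isEmbedding
    q.base (by
      have := (pullback.fst fV jK ≫ q).isEmbedding.isInducing
      exact this)
  exact isInducing_congr_set q.base _ _ (Scheme.Pullback.range_fst fV jK) h1

/-- **L5**: over a point `η` of the base which is the range of a preimmersion `jK` with `jK ≫ h` a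
preimmersion, the dimension of the closure in the fibre does not increase under base change. -/
theorem dim_genericFibre_le_of_isPullback {XV X B S Kp : Scheme.{u}} {q : XV ⟶ X}
    {fV : XV ⟶ B} {f : X ⟶ S} {h : B ⟶ S} (sq : IsPullback q fV f h) (jK : Kp ⟶ B)
    [IsPreimmersion jK] [IsPreimmersion (jK ≫ h)] (η : B) (hη : Set.range jK.base = {η})
    (T : Set X) :
    topologicalKrullDim ↥(closure (q.base ⁻¹' T ∩ fV.base ⁻¹' {η}) ∩ fV.base ⁻¹' {η}) ≤
      topologicalKrullDim ↥(f.base ⁻¹' {h.base η} ∩ closure (T ∩ f.base ⁻¹' {h.base η})) := by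
  have hind := isInducing_restrict_of_isPreimmersion sq jK
  rw [hη] at hind
  have hmem : ∀ z : ↥(closure (q.base ⁻¹' T ∩ fV.base ⁻¹' {η}) ∩ fV.base ⁻¹' {η}),
      q.base z.1 ∈ f.base ⁻¹' {h.base η} ∩ closure (T ∩ f.base ⁻¹' {h.base η}) := by
    intro z
    have hfq : ∀ x : XV, f.base (q.base x) = h.base (fV.base x) := by
      intro x
      rw [← Scheme.Hom.comp_apply, ← Scheme.Hom.comp_apply, sq.w]
    refine ⟨?_, ?_⟩
    · show f.base (q.base z.1) = h.base η
      rw [hfq, z.2.2]
    · have h1 : q.base z.1 ∈ closure (q.base '' (q.base ⁻¹' T ∩ fV.base ⁻¹' {η})) :=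
        map_mem_closure q.continuous z.2.1 (fun a ha => Set.mem_image_of_mem _ ha)
      refine closure_mono ?_ h1
      rintro _ ⟨a, ⟨haT, haη⟩, rfl⟩
      refine ⟨haT, ?_⟩
      show f.base (q.base a) = h.base η
      rw [hfq, haη]
  let Ψ : ↥(closure (q.base ⁻¹' T ∩ fV.base ⁻¹' {η}) ∩ fV.base ⁻¹' {η}) →
      ↥(f.base ⁻¹' {h.base η} ∩ closure (T ∩ f.base ⁻¹' {h.base η})) :=
    fun z => ⟨q.base z.1, hmem z⟩
  have hΨ : IsInducing Ψ := by
    apply Groth.Agent.Lib.Helper7.TopDim.isInducing_of_comp_eq Ψ
      ((q.base ∘ (Subtype.val : ↥(fV.base ⁻¹' {η}) → XV)) ∘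
        Set.inclusion (Set.inter_subset_right :
          closure (q.base ⁻¹' T ∩ fV.base ⁻¹' {η}) ∩ fV.base ⁻¹' {η} ⊆ fV.base ⁻¹' {η}))
      Subtype.val
    · exact hind.comp (IsEmbedding.inclusion _).isInducing
    · exact IsInducing.subtypeVal
    · rfl
  exact hΨ.topologicalKrullDim_le

/-- **EGA IV 14.3.x**: for `f : X ⟶ S` of finite type and a family of `S`-morphisms `v i : Y i ⟶ X`
from universally open `S`-schemes, the dimension of the closure in the fibre `f⁻¹(s)` of the union of
the images of the fibres of the `Y i` does not drop under generization of `s`. -/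
theorem dim_closure_images_le_of_specializes {X S : Scheme.{u}} (f : X ⟶ S)
    [LocallyOfFiniteType f] [QuasiCompact f] {ι : Type u} (Y : ι → Scheme.{u}) (g : ∀ i, Y i ⟶ S)
    [∀ i, UniversallyOpen (g i)] (v : ∀ i, Y i ⟶ X) (hv : ∀ i, v i ≫ f = g i) (s s' : S)
    (hs : s' ⤳ s) :
    topologicalKrullDim
        ↥(f.base ⁻¹' {s} ∩ closure ((⋃ i, Set.range (v i).base) ∩ f.base ⁻¹' {s})) ≤
      topologicalKrullDim
        ↥(f.base ⁻¹' {s'} ∩ closure ((⋃ i, Set.range (v i).base) ∩ f.base ⁻¹' {s'})) := by
  obtain ⟨A, h, h0, hK⟩ := Groth.Agent.Lib.Helper6.ValRing.exists_valuationRing_of_specializes hs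
  haveI hpre : IsPreimmersion (Spec.map (CommRingCat.ofHom (algebraMap A (S.residueField s')))) :=
    IsPreimmersion.of_isLocalization (nonZeroDivisors A)
  haveI : IsPreimmersion
      (Spec.map (CommRingCat.ofHom (algebraMap A (S.residueField s'))) ≫ h) := by
    rw [hK]; infer_instance
  have hη : Set.range (Spec.map (CommRingCat.ofHom (algebraMap A (S.residueField s')))).base =
      {genericPoint (Spec (CommRingCat.of A))} := by
    rw [genericPoint_eq_bot_of_affine]
    ext z
    constructor
    · rintro ⟨w, rfl⟩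
      rw [Set.mem_singleton_iff]
      apply PrimeSpectrum.ext
      show Ideal.comap (algebraMap A (S.residueField s')) w.asIdeal = ⊥
      have : w.asIdeal = ⊥ := Ideal.eq_bot_of_prime w.asIdeal
      rw [this, ← RingHom.ker_eq_comap_bot]
      exact (RingHom.injective_iff_ker_eq_bot _).mp (IsFractionRing.injective A (S.residueField s'))
    · intro hz
      rw [Set.mem_singleton_iff] at hz
      refine ⟨(closedPoint (S.residueField s') : PrimeSpectrum (S.residueField s')), ?_⟩
      rw [hz]
      apply PrimeSpectrum.ext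
      show Ideal.comap (algebraMap A (S.residueField s'))
        (closedPoint (S.residueField s')).asIdeal = ⊥
      have : (closedPoint (S.residueField s')).asIdeal = ⊥ := Ideal.eq_bot_of_prime _
      rw [this, ← RingHom.ker_eq_comap_bot]
      exact (RingHom.injective_iff_ker_eq_bot _).mp (IsFractionRing.injective A (S.residueField s'))
  have hηs : h.base (genericPoint (Spec (CommRingCat.of A))) = s' := by
    have h1 : genericPoint (Spec (CommRingCat.of A)) ∈
        Set.range (Spec.map (CommRingCat.ofHom (algebraMap A (S.residueField s')))).base := by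
      rw [hη]; rfl
    obtain ⟨w, hw⟩ := h1
    rw [← hw, ← Scheme.Hom.comp_apply, hK]
    exact Scheme.fromSpecResidueField_apply s' w
  have sq := IsPullback.of_hasPullback f h
  have hlast := dim_genericFibre_le_of_isPullback sq
    (Spec.map (CommRingCat.ofHom (algebraMap A (S.residueField s'))))
    (genericPoint (Spec (CommRingCat.of A))) hη (⋃ i, Set.range (v i).base)
  rw [hηs] at hlast
  rw [← h0]
  refine le_trans ?_ hlast
  refine (dim_fibre_le_of_isPullback sq _ (closedPoint A)).trans ?_
  refine (dim_le_of_subset _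
    (closure ((pullback.fst f h).base ⁻¹' (⋃ i, Set.range (v i).base) ∩
      (pullback.snd f h).base ⁻¹' {genericPoint (Spec (CommRingCat.of A))}) ∩
      (pullback.snd f h).base ⁻¹' {closedPoint A}) ?_).trans ?_
  · rintro z ⟨hz0, hzcl⟩
    refine ⟨?_, hz0⟩
    exact closure_minimal (preimage_inter_fibre_subset_closure sq Y g v hv (closedPoint A)
      (genericPoint (Spec (CommRingCat.of A))) (genericPoint_specializes _)) isClosed_closure hzcl
  exact Groth.Agent.Lib.Helper6.ValCore.dim_closure_inter_fibre_le (pullback.snd f h) _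
    Set.inter_subset_right (closedPoint A)

end Groth.Agent.Lib.Helper6.ValImg
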