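import Mathlib
import Groth.Prelude.Def_EGA43
import Groth.Agent.Lib.Helper6UniE
import Groth.Agent.Lib.Helper6ValImg
import Groth.Agent.Lib.Helper3QFinDim

/-! # Universal openness at a maximal point of a fibre and dimensions of neighbouring fibres, over
an arbitrary base (EGA IV 14.3.13) -/

set_option autoImplicit false
set_option linter.style.haveILetI false
universe u
open CategoryTheory CategoryTheory.Limits AlgebraicGeometry Topology TopologicalSpace IsLocalRing

namespace Groth.Agent.Lib.Helper6.UnivOpenGen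

open EGA43 Groth.Agent.Lib.Helper4.DimFormula Groth.Agent.Lib.Helper4.VarDim
open Groth.Agent.Lib.Helper4.FibDim Groth.Agent.Lib.Helper6.OpenDim
open Groth.Agent.Lib.Helper6.ValTop Groth.Agent.Lib.Helper6.ValImg

/-- the trace of an affine open on a fibre (over a point of an affine open of the base containing
its image) is a Noetherian space. -/
theorem noetherianSpace_inter_fibre {X Y : Scheme.{u}} (f : X ⟶ Y) [LocallyOfFiniteType f]
    (U : X.Opens) (hU : IsAffineOpen U) (V : Y.Opens) (hV : IsAffineOpen V) (e : U ≤ f ⁻¹ᵁ V)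
    (η : Y) (hηV : η ∈ V) : NoetherianSpace ↥((U : Set X) ∩ f.base ⁻¹' {η}) := by
  haveI : IsAffine U.toScheme := hU
  haveI : IsAffine V.toScheme := hV
  haveI : LocallyOfFiniteType (f.resLE V U e) := by
    haveI : LocallyOfFiniteType (f.resLE V U e ≫ V.ι) := by
      rw [Scheme.Hom.resLE_comp_ι]; infer_instance
    exact locallyOfFiniteType_of_comp (f.resLE V U e) V.ι
  haveI := Groth.Agent.Lib.Helper3.QFinDim.noetherianSpace_fiber (f.resLE V U e) ⟨η, hηV⟩
  have h1 := NoetherianSpace.range (((f.resLE V U e).fiberι ⟨η, hηV⟩ ≫ U.ι).base)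
    ((f.resLE V U e).fiberι ⟨η, hηV⟩ ≫ U.ι).continuous
  have h2 : Set.range (((f.resLE V U e).fiberι ⟨η, hηV⟩ ≫ U.ι).base) =
      (U : Set X) ∩ f.base ⁻¹' {η} := by
    ext a
    constructor
    · rintro ⟨z, rfl⟩
      have hz : (f.resLE V U e).base (((f.resLE V U e).fiberι ⟨η, hηV⟩).base z) = ⟨η, hηV⟩ := by
        have : ((f.resLE V U e).fiberι ⟨η, hηV⟩).base z ∈
            Set.range ((f.resLE V U e).fiberι ⟨η, hηV⟩).base := ⟨z, rfl⟩
        rw [(f.resLE V U e).range_fiberι] at this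
        exact this
      refine ⟨(((f.resLE V U e).fiberι ⟨η, hηV⟩).base z).2, ?_⟩
      show f.base (U.ι.base (((f.resLE V U e).fiberι ⟨η, hηV⟩).base z)) = η
      rw [← Scheme.Hom.comp_apply, ← Scheme.Hom.resLE_comp_ι f e, Scheme.Hom.comp_apply, hz]
      rfl
    · rintro ⟨haU, haη⟩
      have h3 : (⟨a, haU⟩ : ↥U) ∈ (f.resLE V U e).base ⁻¹' {⟨η, hηV⟩} := by
        show (f.resLE V U e).base ⟨a, haU⟩ = ⟨η, hηV⟩
        apply Subtype.ext
        have : (V.ι.base ((f.resLE V U e).base ⟨a, haU⟩) : Y) = f.base a := by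
          rw [← Scheme.Hom.comp_apply, Scheme.Hom.resLE_comp_ι, Scheme.Hom.comp_apply]
          rfl
        exact this.trans haη
      rw [← (f.resLE V U e).range_fiberι] at h3
      obtain ⟨z, hz⟩ := h3
      exact ⟨z, by rw [Scheme.Hom.comp_apply, hz]; rfl⟩
  rw [h2] at h1
  exact h1

/-- **Local finiteness of the components of a fibre near a point**: for `η ⤳ f x` there is an open
neighbourhood of `x` all of whose points over `η` that are maximal in their fibre specialize to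
`x`. -/
theorem exists_opens_forall_maximal_in_fibre_specializes {X Y : Scheme.{u}} (f : X ⟶ Y)
    [LocallyOfFiniteType f] (x : X) (η : Y) (hη : η ⤳ f.base x) :
    ∃ U₁ : X.Opens, x ∈ U₁ ∧ ∀ w : X, w ∈ U₁ → f.base w = η →
      (∀ w' : X, f.base w' = f.base w → w' ⤳ w → w' = w) → w ⤳ x := by
  obtain ⟨V, hV, hyV, -⟩ := exists_isAffineOpen_mem_and_subset (U := ⊤) (x := f.base x) (by simp)
  obtain ⟨U, hU, hxU, hUV⟩ := exists_isAffineOpen_mem_and_subset (U := f ⁻¹ᵁ V) (x := x) hyV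
  have hηV : η ∈ V := hη.mem_open V.2 hyV
  haveI := noetherianSpace_inter_fibre f U hU V hV hUV η hηV
  obtain ⟨Ξ, hfin, hcov, hΞ⟩ :=
    exists_finite_generic_of_noetherianSpace ((U : Set X) ∩ f.base ⁻¹' {η})
  have hbadfin : {ξ ∈ Ξ | ¬ ξ ⤳ x}.Finite := hfin.subset (fun ξ hξ => hξ.1)
  have hclosed : IsClosed (⋃ ξ ∈ {ξ ∈ Ξ | ¬ ξ ⤳ x}, closure ({ξ} : Set X)) :=
    hbadfin.isClosed_biUnion (fun _ _ => isClosed_closure)
  refine ⟨U ⊓ ⟨(⋃ ξ ∈ {ξ ∈ Ξ | ¬ ξ ⤳ x}, closure ({ξ} : Set X))ᶜ, hclosed.isOpen_compl⟩,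
    ⟨hxU, ?_⟩, ?_⟩
  · intro hx
    obtain ⟨ξ, hξ, hxξ⟩ := Set.mem_iUnion₂.mp hx
    exact hξ.2 (specializes_iff_mem_closure.mpr hxξ)
  · rintro w ⟨hwU, hwbad⟩ hwη hwmax
    obtain ⟨ξ, hξ, hwξ⟩ := Set.mem_iUnion₂.mp (hcov ⟨hwU, hwη⟩)
    have hξw : ξ ⤳ w := specializes_iff_mem_closure.mpr hwξ
    obtain ⟨hξcl, -⟩ := hΞ ξ hξ
    have h1 : f.base ξ ⤳ η := by
      have := hξw.map f.continuous
      rwa [hwη] at this
    have h2 : η ⤳ f.base ξ := by
      have h3 : ξ ∈ closure ((U : Set X) ∩ f.base ⁻¹' {η}) := hξcl (subset_closure rfl)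
      have h4 : f.base ξ ∈ closure (f.base '' ((U : Set X) ∩ f.base ⁻¹' {η})) :=
        map_mem_closure f.continuous h3 (fun a ha => Set.mem_image_of_mem _ ha)
      apply specializes_iff_mem_closure.mpr
      refine closure_mono ?_ h4
      rintro _ ⟨a, ⟨-, haη⟩, rfl⟩
      exact haη
    have hξη : f.base ξ = η := (h1.antisymm h2).eq
    have hξeq : ξ = w := hwmax ξ (hξη.trans hwη.symm) hξw
    by_contra hwx
    apply hwbad
    exact Set.mem_iUnion₂.mpr ⟨ξ, ⟨hξ, by rw [hξeq]; exact hwx⟩, by rw [hξeq]; exact subset_closure rfl⟩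

/-- **(b') ⇒ (b)** over an arbitrary base: if every open neighbourhood of `x` meets the fibre over a
maximal point `η ⤳ f x` of `Y` in dimension at least `dim_x (X_{f x})`, then some irreducible
component `closure {ξ}` of `X` through `x` dominates `closure {η}` with
`dim_x (X_{f x}) = dim_x (closure {ξ} ∩ X_{f x}) = trdeg κ(ξ)/κ(η)`. -/
theorem exists_maximal_of_le_dim' {X Y : Scheme.{u}} (f : X ⟶ Y)
    [LocallyOfFiniteType f] (x : X) (η : Y) (hη : ∀ y' : Y, y' ⤳ η → y' = η)
    (hηx : η ⤳ f.base x)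
    (h : ∀ U : X.Opens, x ∈ U →
      FlatMor.fibreDimAt f x ≤ topologicalKrullDim ↥((U : Set X) ∩ f.base ⁻¹' {η})) :
    ∃ (ξ : X) (hξx : ξ ⤳ x), (∀ ξ' : X, ξ' ⤳ ξ → ξ' = ξ) ∧ f.base ξ = η ∧
      FlatMor.fibreDimAt f x = (ptTrdeg f ξ : WithBot ℕ∞) ∧
      FlatMor.localDim ↥(closure {ξ} ∩ f.base ⁻¹' {f.base x}) ⟨x, hξx.mem_closure, rfl⟩ =
        (ptTrdeg f ξ : WithBot ℕ∞) := by
  obtain ⟨w₀, -, -, -, hm⟩ := Groth.Agent.Lib.Helper6.Uni.exists_maximal_ptTrdeg_eq_fibreDimAt f x
  set m : ℕ := ptTrdeg f w₀ with hmdef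
  obtain ⟨U₁, hxU₁, hU₁⟩ := exists_opens_forall_maximal_in_fibre_specializes f x η hηx
  set U₂ : X.Opens := ⟨{x' : X | FlatMor.fibreDimAt f x' ≤ (m : WithBot ℕ∞)},
    isOpen_setOf_fibreDimAt_le' f _⟩ with hU₂
  have hxU₂ : x ∈ U₂ := by
    change FlatMor.fibreDimAt f x ≤ (m : WithBot ℕ∞)
    rw [hm]
  set U : X.Opens := U₁ ⊓ U₂ with hU
  have hxU : x ∈ U := ⟨hxU₁, hxU₂⟩
  have hdim := h U hxU
  rw [hm] at hdim
  -- a point of `U` over `η` with fibre dimension `m`
  have hex : ∃ a : X, a ∈ U ∧ f.base a = η ∧ FlatMor.fibreDimAt f a = (m : WithBot ℕ∞) := by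
    by_contra hcon
    push Not at hcon
    have hlt : ∀ a : X, a ∈ U → f.base a = η → ∃ k : ℕ, FlatMor.fibreDimAt f a = (k : WithBot ℕ∞) ∧
        k + 1 ≤ m := by
      intro a haU haη
      obtain ⟨w, -, -, -, hk⟩ := Groth.Agent.Lib.Helper6.Uni.exists_maximal_ptTrdeg_eq_fibreDimAt f a
      refine ⟨ptTrdeg f w, hk, ?_⟩
      have h1 : FlatMor.fibreDimAt f a ≤ (m : WithBot ℕ∞) := haU.2
      have h2 := hcon a haU haη
      rw [hk] at h1 h2
      have h1' : ptTrdeg f w ≤ m := by exact_mod_cast h1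
      have h2' : ptTrdeg f w ≠ m := fun h => h2 (by rw [h])
      omega
    by_cases hne : ∃ a : X, a ∈ U ∧ f.base a = η
    · obtain ⟨a₀, ha₀U, ha₀η⟩ := hne
      obtain ⟨k₀, -, hk₀⟩ := hlt a₀ ha₀U ha₀η
      have h3 := topologicalKrullDim_inter_fibre_le f (U : Set X) U.2 η ((m - 1 : ℕ) : WithBot ℕ∞)
        (by
          intro a haU haη
          obtain ⟨k, hk, hkm⟩ := hlt a haU haη
          rw [hk]
          exact_mod_cast (by omega : k ≤ m - 1))
      have h4 := hdim.trans h3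
      have h5 : m ≤ m - 1 := by exact_mod_cast h4
      omega
    · push Not at hne
      have h3 := topologicalKrullDim_inter_fibre_le f (U : Set X) U.2 η ⊥
        (fun a haU haη => absurd haη (hne a haU))
      have h4 := hdim.trans h3
      simp at h4
  obtain ⟨a, haU, haη, hfa⟩ := hex
  obtain ⟨w, hwa, hwsp, hwmax, hwk⟩ :=
    Groth.Agent.Lib.Helper6.Uni.exists_maximal_ptTrdeg_eq_fibreDimAt f a
  have hwU : w ∈ U := hwsp.mem_open U.2 haU
  have hwη : f.base w = η := hwa.trans haη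
  have hwm : ptTrdeg f w = m := by
    rw [hfa] at hwk
    exact_mod_cast hwk.symm
  -- `w` is a maximal point of `X`
  have hwmax' : ∀ ξ' : X, ξ' ⤳ w → ξ' = w := by
    intro ξ' hξ'
    refine hwmax ξ' ?_ hξ'
    have h1 : f.base ξ' ⤳ f.base w := hξ'.map f.continuous
    rw [hwη] at h1 ⊢
    exact hη _ h1
  have hwx : w ⤳ x := hU₁ w hwU.1 hwη hwmax
  refine ⟨w, hwx, hwmax', hwη, ?_, ?_⟩
  · rw [hm, hwm]
  · obtain ⟨ha', hb'⟩ := localDim_closure_inter_fibre_bounds f w x hwx
    apply le_antisymm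
    · have := hb' m (by rw [hm])
      rwa [hwm]
    · exact ha' w specializes_rfl hwx

/-- **(b') ⇒ (b)**, set form, over an arbitrary base. -/
theorem exists_component_of_le_dim' {X Y : Scheme.{u}} (f : X ⟶ Y)
    [LocallyOfFiniteType f] (x : X) (Y₀ : Set Y) (hY₀ : Y₀ ∈ irreducibleComponents (Y : Type u))
    (hxY₀ : f.base x ∈ Y₀) (η : Y) (hη : closure ({η} : Set Y) = Y₀)
    (h : ∀ U : X.Opens, x ∈ U →
      FlatMor.fibreDimAt f x ≤ topologicalKrullDim ↥((U : Set X) ∩ f.base ⁻¹' {η})) :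
    ∃ Z ∈ irreducibleComponents (X : Type u), ∃ hx : x ∈ Z, closure (f.base '' Z) = Y₀ ∧
      ∀ η' : Y, closure ({η'} : Set Y) = Y₀ →
        FlatMor.fibreDimAt f x = FlatMor.localDim ↥(Z ∩ f.base ⁻¹' {f.base x}) ⟨x, ⟨hx, rfl⟩⟩ ∧
        FlatMor.localDim ↥(Z ∩ f.base ⁻¹' {f.base x}) ⟨x, ⟨hx, rfl⟩⟩ =
          topologicalKrullDim ↥(Z ∩ f.base ⁻¹' {η'}) := by
  have hηmax : ∀ y' : Y, y' ⤳ η → y' = η := fun y' hy' =>
    eq_of_specializes_generic _ _ (by rw [hη]; exact hY₀) hy'
  have hηx : η ⤳ f.base x := by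
    rw [specializes_iff_mem_closure, hη]; exact hxY₀
  obtain ⟨ξ, hξx, hξmax, hfξ, hfd, hld⟩ := exists_maximal_of_le_dim' f x η hηmax hηx h
  refine ⟨closure {ξ}, mem_irreducibleComponents_of_forall_specializes ξ hξmax, hξx.mem_closure,
    ?_, ?_⟩
  · rw [Groth.Agent.Lib.Helper6.Uni.closure_image_closure_singleton, hfξ, hη]
  · intro η' hη'
    have hηeq : η' = f.base ξ := by
      rw [hfξ]
      exact (inseparable_iff_closure_eq.mpr (hη'.trans hη.symm)).eq
    subst hηeq
    refine ⟨by rw [hfd, hld], ?_⟩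
    rw [hld]
    exact (topologicalKrullDim_closure_inter_fibre f ξ).symm

/-- in a pullback square, a point `x` maximal in its fibre lifts to a point of the base change,
over any prescribed point `b₀` of the new base with `h b₀ = f x`, which is maximal in its fibre. -/
theorem exists_point_over_maximal {XV X B S : Scheme.{u}} {q : XV ⟶ X} {fV : XV ⟶ B}
    {f : X ⟶ S} {h : B ⟶ S} (sq : IsPullback q fV f h) (b₀ : B) (x : X)
    (hx : f.base x = h.base b₀)
    (hmax : ∀ x' : X, f.base x' = f.base x → x' ⤳ x → x' = x) :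
    ∃ xV : XV, q.base xV = x ∧ fV.base xV = b₀ ∧
      ∀ z : XV, fV.base z = fV.base xV → z ⤳ xV → z = xV := by
  obtain ⟨p, hp, -, hs, -⟩ := exists_fiber_map sq b₀
  have hxr : x ∈ Set.range (f.fiberι (h.base b₀)).base := by
    rw [f.range_fiberι]; exact hx
  obtain ⟨xF, hxF⟩ := hxr
  obtain ⟨z₀, hz₀⟩ := hs xF
  obtain ⟨z, hzz₀, hzmax⟩ :=
    Groth.Agent.Lib.Helper4.DimFormula.exists_maximal_specializes (fV.fiber b₀) z₀
  have hpz : (f.fiberι (h.base b₀)).base (p.base z) = x := by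
    apply hmax
    · have : (f.fiberι (h.base b₀)).base (p.base z) ∈ Set.range (f.fiberι (h.base b₀)).base :=
        ⟨_, rfl⟩
      rw [f.range_fiberι] at this
      exact this.trans hx.symm
    · rw [← hxF, ← hz₀]
      exact (hzz₀.map p.continuous).map (f.fiberι (h.base b₀)).continuous
  have hfz : fV.base ((fV.fiberι b₀).base z) = b₀ := by
    have : (fV.fiberι b₀).base z ∈ Set.range (fV.fiberι b₀).base := ⟨_, rfl⟩
    rw [fV.range_fiberι] at this
    exact this
  refine ⟨(fV.fiberι b₀).base z, ?_, hfz, ?_⟩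
  · rw [← Scheme.Hom.comp_apply, ← hp, Scheme.Hom.comp_apply]
    exact hpz
  · intro z' hz' hsp
    rw [hfz] at hz'
    have hz'r : z' ∈ Set.range (fV.fiberι b₀).base := by
      rw [fV.range_fiberι]; exact hz'
    obtain ⟨z'', rfl⟩ := hz'r
    have : z'' ⤳ z := (fV.fiberι b₀).isEmbedding.isInducing.specializes_iff.mp hsp
    rw [hzmax z'' this]

/-- **Generic fibre comparison**: in a pullback square with `jK` and `jK ≫ h` preimmersions and
`range jK = {η}`, a subset `M` of the fibre over `η` mapped by `q` into `N` has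
`dim M ≤ dim N`. -/
theorem dim_le_of_mapsTo_of_isPreimmersion {XV X B S Kp : Scheme.{u}} {q : XV ⟶ X}
    {fV : XV ⟶ B} {f : X ⟶ S} {h : B ⟶ S} (sq : IsPullback q fV f h) (jK : Kp ⟶ B)
    [IsPreimmersion jK] [IsPreimmersion (jK ≫ h)] (η : B) (hη : Set.range jK.base = {η})
    (M : Set XV) (hM : M ⊆ fV.base ⁻¹' {η}) (N : Set X) (hMN : ∀ z ∈ M, q.base z ∈ N) :
    topologicalKrullDim ↥M ≤ topologicalKrullDim ↥N := by
  have hind := isInducing_restrict_of_isPreimmersion sq jK
  rw [hη] at hind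
  let Ψ : ↥M → ↥N := fun z => ⟨q.base z.1, hMN z.1 z.2⟩
  have hΨ : IsInducing Ψ := by
    apply Groth.Agent.Lib.Helper7.TopDim.isInducing_of_comp_eq Ψ
      ((q.base ∘ (Subtype.val : ↥(fV.base ⁻¹' {η}) → XV)) ∘ Set.inclusion hM) Subtype.val
    · exact hind.comp (IsEmbedding.inclusion _).isInducing
    · exact IsInducing.subtypeVal
    · rfl
  exact hΨ.topologicalKrullDim_le

section ValuationSubring

variable {K : Type u} [Field K] (A : ValuationSubring K)

theorem isPreimmersion_specMap_valuationSubring :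
    IsPreimmersion (Spec.map (CommRingCat.ofHom (algebraMap A K))) :=
  IsPreimmersion.of_isLocalization (nonZeroDivisors A)

theorem range_specMap_valuationSubring :
    Set.range (Spec.map (CommRingCat.ofHom (algebraMap A K))).base =
      {genericPoint (Spec (CommRingCat.of A))} := by
  rw [genericPoint_eq_bot_of_affine]
  ext z
  constructor
  · rintro ⟨w, rfl⟩
    rw [Set.mem_singleton_iff]
    apply PrimeSpectrum.ext
    show Ideal.comap (algebraMap A K) w.asIdeal = ⊥
    have : w.asIdeal = ⊥ := Ideal.eq_bot_of_prime w.asIdeal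
    rw [this, ← RingHom.ker_eq_comap_bot]
    exact (RingHom.injective_iff_ker_eq_bot _).mp (IsFractionRing.injective A K)
  · intro hz
    rw [Set.mem_singleton_iff] at hz
    refine ⟨(closedPoint K : PrimeSpectrum K), ?_⟩
    rw [hz]
    apply PrimeSpectrum.ext
    show Ideal.comap (algebraMap A K) (closedPoint K).asIdeal = ⊥
    have : (closedPoint K).asIdeal = ⊥ := Ideal.eq_bot_of_prime _
    rw [this, ← RingHom.ker_eq_comap_bot]
    exact (RingHom.injective_iff_ker_eq_bot _).mp (IsFractionRing.injective A K)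

end ValuationSubring

/-- **(a) ⇒ (b')** over an arbitrary base (EGA IV 14.3.13): if `f` is universally open at a maximal
point `x` of its fibre, every open neighbourhood of `x` meets the fibre over any generization `y'`
of `f x` in dimension at least `dim_x (X_{f x})`. -/
theorem fibreDimAt_le_dim_inter_fibre_of_isUnivOpenAt {X Y : Scheme.{u}} (f : X ⟶ Y)
    [LocallyOfFiniteType f] (x : X)
    (hmax : ∀ x' : X, f.base x' = f.base x → x' ⤳ x → x' = x) (hf : IsUnivOpenAt f x)
    (U : X.Opens) (hxU : x ∈ U) (y' : Y) (hy' : y' ⤳ f.base x) :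
    FlatMor.fibreDimAt f x ≤ topologicalKrullDim ↥((U : Set X) ∩ f.base ⁻¹' {y'}) := by
  obtain ⟨A, h, h0, hK⟩ := Groth.Agent.Lib.Helper6.ValRing.exists_valuationRing_of_specializes hy'
  haveI hpre := isPreimmersion_specMap_valuationSubring A
  haveI : IsPreimmersion
      (Spec.map (CommRingCat.ofHom (algebraMap A (Y.residueField y'))) ≫ h) := by
    rw [hK]; infer_instance
  have hη := range_specMap_valuationSubring A
  have hηs : h.base (genericPoint (Spec (CommRingCat.of A))) = y' := by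
    have h1 : genericPoint (Spec (CommRingCat.of A)) ∈
        Set.range (Spec.map (CommRingCat.ofHom (algebraMap A (Y.residueField y')))).base := by
      rw [hη]; rfl
    obtain ⟨w, hw⟩ := h1
    rw [← hw, ← Scheme.Hom.comp_apply, hK]
    exact Scheme.fromSpecResidueField_apply y' w
  have sq := IsPullback.of_hasPullback f h
  obtain ⟨xV, hqx, hfx, hxVmax⟩ := exists_point_over_maximal sq (closedPoint A) x h0.symm hmax
  have he : FlatMor.fibreDimAt (pullback.snd f h) xV = FlatMor.fibreDimAt f x := by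
    rw [Groth.Agent.Lib.Helper3.LocDimBC.fibreDimAt_eq_of_isPullback f h (pullback.fst f h)
      (pullback.snd f h) sq xV, hqx]
  have hopen : IsOpenAt (pullback.snd f h).base xV :=
    Groth.Agent.Lib.Helper7.isOpenAt_of_isPullback sq x hf xV hqx
  obtain ⟨ξ, hξxV, hξη⟩ := exists_specializes_of_isOpenAt (pullback.snd f h) xV hopen
    (genericPoint (Spec (CommRingCat.of A))) (genericPoint_specializes _)
  have hξU : ξ ∈ (pullback.fst f h).base ⁻¹' (U : Set X) :=
    hξxV.mem_open (U.2.preimage (pullback.fst f h).continuous) (by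
      show (pullback.fst f h).base xV ∈ U
      rw [hqx]; exact hxU)
  rw [← he, fibreDimAt_eq_ptTrdeg_of_maximal (pullback.snd f h) xV hxVmax,
    ← topologicalKrullDim_closure_inter_fibre (pullback.snd f h) xV]
  refine (dim_le_of_subset _ (closure {ξ} ∩ (pullback.snd f h).base ⁻¹' {(pullback.snd f h).base xV})
    (fun z hz => ⟨(specializes_iff_closure_subset.mp hξxV) hz.1, hz.2⟩)).trans ?_
  refine (Groth.Agent.Lib.Helper6.ValCore.dim_closure_singleton_inter_fibre_le (pullback.snd f h) ξ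
    hξη _).trans ?_
  have h2 := topologicalKrullDim_closure_inter_fibre (pullback.snd f h) ξ
  rw [hξη] at h2
  rw [h2]
  refine (Groth.Agent.Lib.Helper4.DimFormula.ptTrdeg_le_fibreDimAt (pullback.snd f h) ξ).trans ?_
  refine (le_topologicalKrullDim_inter_fibre (pullback.snd f h) _
    (U.2.preimage (pullback.fst f h).continuous) ξ hξU).trans ?_
  rw [hξη]
  apply dim_le_of_mapsTo_of_isPreimmersion sq
    (Spec.map (CommRingCat.ofHom (algebraMap A (Y.residueField y'))))
    (genericPoint (Spec (CommRingCat.of A))) hη _ Set.inter_subset_right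
  rintro z ⟨hzU, hzη⟩
  refine ⟨hzU, ?_⟩
  show f.base ((pullback.fst f h).base z) = y'
  rw [← Scheme.Hom.comp_apply, pullback.condition, Scheme.Hom.comp_apply, hzη, hηs]

end Groth.Agent.Lib.Helper6.UnivOpenGen
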