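import Mathlib
import Groth.Prelude.Def_EGA43
import Groth.Prelude.Def_FDesc
import Groth.Prelude.Def_MoreMor
import Groth.Agent.Lib.Helper22SC7
import Groth.Agent.Lib.Helper6UnivOpenGen
import Groth.Agent.Lib.Helper4DimFormulaAP

set_option autoImplicit false
set_option linter.style.haveILetI false
universe u
open CategoryTheory CategoryTheory.Limits AlgebraicGeometry Topology TopologicalSpace IsLocalRing
open EGA43

namespace Groth.Agent.Lib.Helper22.SC

section Final

variable {X Y : Scheme.{u}}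

open Groth.Agent.Lib.Helper4.DimFormula Groth.Agent.Lib.Helper4.VarDim
  Groth.Agent.Lib.Helper4.FibDim in
/-- geometric irreducibility implies irreducibility -/
theorem isIrreducible_of_geom (f : X ⟶ Y) (y : Y) (C : Set X) (hC : C ⊆ f ⁻¹' {y})
    (hirr : ∀ (K : Type u) [Field K] [Algebra (IsLocalRing.ResidueField (Y.presheaf.stalk y)) K],
      IsIrreducible ((FBase.bcπ (f.fiberToSpecResidueField y) K ≫ f.fiberι y).base ⁻¹' C)) :
    IsIrreducible C := by
  have h1 := hirr (IsLocalRing.ResidueField (Y.presheaf.stalk y))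
  set π := FBase.bcπ (f.fiberToSpecResidueField y) (IsLocalRing.ResidueField (Y.presheaf.stalk y)) ≫
    f.fiberι y with hπ
  haveI : Surjective (Spec.map (CommRingCat.ofHom (algebraMap
      (IsLocalRing.ResidueField (Y.presheaf.stalk y))
      (IsLocalRing.ResidueField (Y.presheaf.stalk y))))) := by
    constructor
    intro a
    haveI : Subsingleton ↥(Spec (CommRingCat.of (IsLocalRing.ResidueField (Y.presheaf.stalk y)))) :=
      (inferInstance : Subsingleton (PrimeSpectrum (IsLocalRing.ResidueField (Y.presheaf.stalk y))))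
    exact ⟨a, Subsingleton.elim _ _⟩
  have hsurj : Surjective (FBase.bcπ (f.fiberToSpecResidueField y)
      (IsLocalRing.ResidueField (Y.presheaf.stalk y))) :=
    MorphismProperty.of_isPullback (P := @Surjective)
      (IsPullback.of_hasPullback (f.fiberToSpecResidueField y) (Spec.map (CommRingCat.ofHom (algebraMap
      (IsLocalRing.ResidueField (Y.presheaf.stalk y))
      (IsLocalRing.ResidueField (Y.presheaf.stalk y)))))).flip inferInstance
  have hsub : C ⊆ Set.range π.base := by
    intro c hc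
    have hc' : c ∈ Set.range (f.fiberι y) := by
      rw [Scheme.Hom.range_fiberι]; exact hC hc
    obtain ⟨z, rfl⟩ := hc'
    obtain ⟨w, rfl⟩ := hsurj.surj z
    exact ⟨w, rfl⟩
  have himg : π.base '' (π.base ⁻¹' C) = C := Set.image_preimage_eq_of_subset hsub
  rw [← himg]
  exact h1.image π.base π.continuous.continuousOn

open Groth.Agent.Lib.Helper4.DimFormula Groth.Agent.Lib.Helper4.VarDim
  Groth.Agent.Lib.Helper4.FibDim Groth.Agent.Lib.Helper6.UnivOpenGen in
/-- EGA IV 15.6.6 -/
theorem dim_sectionComponent_const [IsLocallyNoetherian Y] (f : X ⟶ Y)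
    [LocallyOfFiniteType f] (g : Y ⟶ X) (hg : g ≫ f = 𝟙 Y)
    (hirr : ∀ y : Y, (∀ (K : Type u) [Field K]
        [Algebra (IsLocalRing.ResidueField (Y.presheaf.stalk y)) K],
        IsIrreducible ((FBase.bcπ (f.fiberToSpecResidueField y) K ≫ f.fiberι y).base ⁻¹'
          connectedComponentIn (f.base ⁻¹' {y}) (g.base y))))
    (y₀ : Y) (hopen : ∀ ξ ∈ connectedComponentIn (f.base ⁻¹' {y₀}) (g.base y₀),
      connectedComponentIn (f.base ⁻¹' {y₀}) (g.base y₀) ⊆ closure {ξ} → EGA43.IsUnivOpenAt f ξ)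
    (hαβ : FBase.IsGeomReducedAt (f.fiberToSpecResidueField (f.base (g.base y₀)))
        (f.asFiber (g.base y₀)) ∨
      (∀ y' : Y, y₀ ∈ closure {y'} → closure {y'} ∈ irreducibleComponents (Y : Type u) →
        topologicalKrullDim ↥(f.fiber y') =
          topologicalKrullDim ↥(connectedComponentIn (f.base ⁻¹' {y'}) (g.base y')))) :
    (∃ V ∈ nhds y₀, ∀ z ∈ V,
      topologicalKrullDim ↥(connectedComponentIn (f.base ⁻¹' {z}) (g.base z)) =
        topologicalKrullDim ↥(connectedComponentIn (f.base ⁻¹' {y₀}) (g.base y₀))) := by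
  haveI : IsLocallyNoetherian X := LocallyOfFiniteType.isLocallyNoetherian f
  have hfg : ∀ z, f (g z) = z := fun z => by rw [← Scheme.Hom.comp_apply, hg]; rfl
  have hCirr : ∀ y, IsIrreducible (connectedComponentIn (f.base ⁻¹' {y}) (g.base y)) :=
    fun y => isIrreducible_of_geom f y _ (connectedComponentIn_subset _ _) (hirr y)
  have hd : ∀ y, topologicalKrullDim ↥(connectedComponentIn (f.base ⁻¹' {y}) (g.base y)) =
      FlatMor.fibreDimAt f (g.base y) :=
    fun y => dim_sectionComponent_eq_fibreDimAt f g hg y (hCirr y)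
  set C₀ : Set X := connectedComponentIn (f.base ⁻¹' {y₀}) (g.base y₀) with hC₀
  have hgy₀ : g.base y₀ ∈ f.base ⁻¹' {y₀} := hfg y₀
  have hC₀max : ∀ Z' : Set X, IsIrreducible Z' → Z' ⊆ f.base ⁻¹' {y₀} → C₀ ⊆ Z' → Z' = C₀ := by
    intro Z' hZ' hZ'F hCZ'
    exact le_antisymm (hZ'.isPreirreducible.isPreconnected.subset_connectedComponentIn
      (hCZ' (mem_connectedComponentIn hgy₀)) hZ'F) hCZ'
  obtain ⟨ξ, hfξ, hC₀eq, hC₀dim⟩ := exists_generic_of_maximal_irreducible_subset_fibre f y₀ C₀
    (connectedComponentIn_subset _ _) (hCirr y₀) hC₀max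
  have hξC : ξ ∈ C₀ := hC₀eq.symm.subset ⟨subset_closure rfl, hfξ⟩
  have hCξ : C₀ ⊆ closure {ξ} := fun a ha => (hC₀eq.subset ha).1
  have hUO : IsUnivOpenAt f ξ := hopen ξ hξC hCξ
  have hξmax : ∀ x' : X, f.base x' = f.base ξ → x' ⤳ ξ → x' = ξ := by
    intro x' hfx' hx'
    have hT := isIrreducible_closure_inter_fibre f x' y₀ (hfx'.trans hfξ)
    have hTC : closure ({x'} : Set X) ∩ f.base ⁻¹' {y₀} ⊆
        connectedComponentIn (f.base ⁻¹' {y₀}) ξ :=
      hT.isPreirreducible.isPreconnected.subset_connectedComponentIn ⟨hx'.mem_closure, hfξ⟩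
        Set.inter_subset_right
    have e1 : C₀ = connectedComponentIn (f.base ⁻¹' {y₀}) ξ := connectedComponentIn_eq hξC
    have hx'C : x' ∈ C₀ := by
      rw [e1]; exact hTC ⟨subset_closure rfl, hfx'.trans hfξ⟩
    have h2 : ξ ⤳ x' := specializes_iff_mem_closure.mpr (hCξ hx'C)
    exact (hx'.antisymm h2).eq
  have hn : topologicalKrullDim ↥C₀ ≤ FlatMor.fibreDimAt f ξ := by
    rw [hC₀dim]; exact ptTrdeg_le_fibreDimAt f ξ
  -- the key lower bound
  have hkey : ∀ y'' : Y, y'' ⤳ y₀ → topologicalKrullDim ↥C₀ ≤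
      topologicalKrullDim ↥(connectedComponentIn (f.base ⁻¹' {y''}) (g.base y'')) := by
    intro y'' hy''
    rcases hαβ with hα | hβ
    · have hGRg : GRAt f (g y₀) := hα
      have hGRξ : GRAt f ξ := gRAt_of_specializes f (g y₀) ξ
        (specializes_iff_mem_closure.mpr (hCξ (mem_connectedComponentIn hgy₀)))
        (hfξ.trans (hfg y₀).symm) hGRg
      have hgen := mem_sectionComponents_of_specializes f g hg hirr y₀ ξ hξC hCξ hUO hGRξ hGRg
      have hnhds := sectionComponents_mem_nhds f g hg (fun y => (hCirr y).isPreirreducible) ξ hgen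
      let U : X.Opens := ⟨interior (MoreMor.sectionComponents f g), isOpen_interior⟩
      have hξU : ξ ∈ U := mem_interior_iff_mem_nhds.mpr hnhds
      have h1 := fibreDimAt_le_dim_inter_fibre_of_isUnivOpenAt f ξ hξmax hUO U hξU y''
        (by rw [hfξ]; exact hy'')
      have hsub : (U : Set X) ∩ f.base ⁻¹' {y''} ⊆
          connectedComponentIn (f.base ⁻¹' {y''}) (g.base y'') := by
        rintro a ⟨haU, hay⟩
        exact (mem_sectionComponents_iff f g a y'' hay).mp (interior_subset haU)
      exact hn.trans (h1.trans (topologicalKrullDim_mono_subset hsub))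
    · obtain ⟨y', hy'comp, hy'y''⟩ : ∃ y' : Y, closure {y'} ∈ irreducibleComponents (Y : Type u) ∧
          y' ⤳ y'' := by
        have hirrc := isIrreducible_irreducibleComponent (x := y'')
        obtain ⟨y', hy'⟩ := QuasiSober.sober hirrc isClosed_irreducibleComponent
        refine ⟨y', ?_, hy'.specializes mem_irreducibleComponent⟩
        rw [hy'.def]
        exact irreducibleComponent_mem_irreducibleComponents y''
      have hy'y₀ : y' ⤳ y₀ := hy'y''.trans hy''
      have hdim := hβ y' hy'y₀.mem_closure hy'comp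
      have h1 := fibreDimAt_le_dim_inter_fibre_of_isUnivOpenAt f ξ hξmax hUO ⊤ trivial y'
        (by rw [hfξ]; exact hy'y₀)
      have h2 : topologicalKrullDim ↥(((⊤ : X.Opens) : Set X) ∩ f.base ⁻¹' {y'}) ≤
          topologicalKrullDim ↥(f.fiber y') := by
        rw [(f.fiberHomeo y').isHomeomorph.topologicalKrullDim_eq]
        exact topologicalKrullDim_mono_subset Set.inter_subset_right
      have h3 : topologicalKrullDim ↥(connectedComponentIn (f.base ⁻¹' {y'}) (g.base y')) ≤
          topologicalKrullDim ↥(connectedComponentIn (f.base ⁻¹' {y''}) (g.base y'')) := by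
        rw [hd, hd]
        exact fibreDimAt_le_of_specializes f (g y') (g y'') (hy'y''.map g.continuous)
      exact hn.trans (h1.trans (h2.trans (hdim.le.trans h3)))
  -- conclusion
  have husc := (upperSemicontinuous_dim_sectionComponent f g hg hCirr).1
  set T : Set Y := (fun y : Y => topologicalKrullDim
    ↥(connectedComponentIn (f.base ⁻¹' {y}) (g.base y))) ⁻¹' Set.Iio (topologicalKrullDim ↥C₀)
    with hT
  have hTo : IsOpen T := husc.isOpen_preimage _
  have hy₀T : y₀ ∉ closure T := by
    intro hcl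
    obtain ⟨y'', hy''T, hy''⟩ := exists_specializes_of_mem_closure_of_isOpen hTo hcl
    exact absurd (hkey y'' hy'') (not_le.mpr hy''T)
  set O : Set Y := g.base ⁻¹' {x : X | FlatMor.fibreDimAt f x ≤ FlatMor.fibreDimAt f (g.base y₀)}
    with hO
  have hOo : IsOpen O := (isOpen_setOf_fibreDimAt_le' f _).preimage g.continuous
  have hy₀O : y₀ ∈ O := by
    show FlatMor.fibreDimAt f (g.base y₀) ≤ FlatMor.fibreDimAt f (g.base y₀)
    exact le_rfl
  refine ⟨O ∩ (closure T)ᶜ, (hOo.inter isClosed_closure.isOpen_compl).mem_nhds ⟨hy₀O, hy₀T⟩, ?_⟩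
  rintro z ⟨hzO, hzT⟩
  apply le_antisymm
  · rw [hd z, hd y₀]; exact hzO
  · by_contra hlt
    exact hzT (subset_closure (not_le.mp hlt))

end Final

end Groth.Agent.Lib.Helper22.SC
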