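import Mathlib
import Groth.Prelude.Def_EGA43
import Groth.Prelude.Def_FDesc
import Groth.Prelude.Def_MoreMor
import Groth.Agent.Lib.Helper22SC8
import Groth.Agent.Lib.Helper22GRpb
import Groth.Agent.Lib.Helper3GrpFibDim
import Groth.Agent.Lib.Helper3LocDimBC

set_option autoImplicit false
set_option linter.style.haveILetI false
set_option linter.unusedSectionVars false
universe u
open CategoryTheory CategoryTheory.Limits AlgebraicGeometry Topology TopologicalSpace IsLocalRing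

namespace Groth.Agent.Lib.Helper22.SC

section P1

variable {X Y X' Y' : Scheme.{u}} {f : X ⟶ Y} {f' : X' ⟶ Y'} {g' : X' ⟶ X} {g : Y' ⟶ Y}

/-- geometric irreducibility (over all field extensions) transfers to the fibres of a base
change -/
theorem isIrreducible_preimage_bc_of_isPullback (sq : IsPullback g' f' f g) (y' : Y') (C : Set X)
    (hirr : ∀ (K : Type u) [Field K] [Algebra (IsLocalRing.ResidueField (Y.presheaf.stalk (g y'))) K],
      IsIrreducible ((FBase.bcπ (f.fiberToSpecResidueField (g y')) K ≫ f.fiberι (g y')).base ⁻¹' C))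
    (K' : Type u) [Field K'] [Algebra (IsLocalRing.ResidueField (Y'.presheaf.stalk y')) K'] :
    IsIrreducible ((FBase.bcπ (f'.fiberToSpecResidueField y') K' ≫ f'.fiberι y' ≫ g').base ⁻¹' C) := by
  letI : Algebra (IsLocalRing.ResidueField (Y.presheaf.stalk (g y')))
      (IsLocalRing.ResidueField (Y'.presheaf.stalk y')) := (g.residueFieldMap y').hom.toAlgebra
  letI : Algebra (IsLocalRing.ResidueField (Y.presheaf.stalk (g y'))) K' :=
    ((algebraMap (IsLocalRing.ResidueField (Y'.presheaf.stalk y')) K').comp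
      (algebraMap (IsLocalRing.ResidueField (Y.presheaf.stalk (g y')))
        (IsLocalRing.ResidueField (Y'.presheaf.stalk y')))).toAlgebra
  have sqA : IsPullback (fiberMapY sq y') (f'.fiberToSpecResidueField y')
      (f.fiberToSpecResidueField (g y'))
      (Spec.map (CommRingCat.ofHom (algebraMap
      (IsLocalRing.ResidueField (Y.presheaf.stalk (g y')))
      (IsLocalRing.ResidueField (Y'.presheaf.stalk y'))))) := isPullback_fiberMapY sq y'
  have sqB : IsPullback (FBase.bcπ (f'.fiberToSpecResidueField y') K')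
      (FBase.bcStr (f'.fiberToSpecResidueField y') K') (f'.fiberToSpecResidueField y')
      (Spec.map (CommRingCat.ofHom (algebraMap
        (IsLocalRing.ResidueField (Y'.presheaf.stalk y')) K'))) :=
    IsPullback.of_hasPullback _ _
  have sqAB := sqB.paste_horiz sqA
  have heq : Spec.map (CommRingCat.ofHom (algebraMap
        (IsLocalRing.ResidueField (Y'.presheaf.stalk y')) K')) ≫
      Spec.map (CommRingCat.ofHom (algebraMap
        (IsLocalRing.ResidueField (Y.presheaf.stalk (g y')))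
        (IsLocalRing.ResidueField (Y'.presheaf.stalk y')))) =
      Spec.map (CommRingCat.ofHom (algebraMap
        (IsLocalRing.ResidueField (Y.presheaf.stalk (g y'))) K')) := by
    rw [← Spec.map_comp]
    rfl
  have sqAB' : IsPullback (FBase.bcπ (f'.fiberToSpecResidueField y') K' ≫ fiberMapY sq y')
      (FBase.bcStr (f'.fiberToSpecResidueField y') K') (f.fiberToSpecResidueField (g y'))
      (Spec.map (CommRingCat.ofHom (algebraMap
        (IsLocalRing.ResidueField (Y.presheaf.stalk (g y'))) K'))) :=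
    (congrArg (fun m => IsPullback
      (FBase.bcπ (f'.fiberToSpecResidueField y') K' ≫ fiberMapY sq y')
      (FBase.bcStr (f'.fiberToSpecResidueField y') K') (f.fiberToSpecResidueField (g y')) m)
      heq).mp sqAB
  let θ := sqAB'.isoPullback
  have hθ : θ.hom ≫ FBase.bcπ (f.fiberToSpecResidueField (g y')) K' =
      FBase.bcπ (f'.fiberToSpecResidueField y') K' ≫ fiberMapY sq y' :=
    sqAB'.isoPullback_hom_fst
  have h1 := hirr K'
  set S : Set ↥(FBase.bc (f.fiberToSpecResidueField (g y')) K') :=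
    (FBase.bcπ (f.fiberToSpecResidueField (g y')) K' ≫ f.fiberι (g y')).base ⁻¹' C with hS
  have hset : θ.hom ⁻¹' S = θ.inv '' S := by
    ext z
    constructor
    · intro hz
      refine ⟨θ.hom z, hz, ?_⟩
      rw [← Scheme.Hom.comp_apply, θ.hom_inv_id]; rfl
    · rintro ⟨w, hw, rfl⟩
      show θ.hom (θ.inv w) ∈ S
      rw [← Scheme.Hom.comp_apply, θ.inv_hom_id]
      exact hw
  have h2 : IsIrreducible (θ.hom ⁻¹' S) := by
    rw [hset]
    exact h1.image θ.inv θ.inv.continuous.continuousOn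
  convert h2 using 1
  have e1 : θ.hom ≫ FBase.bcπ (f.fiberToSpecResidueField (g y')) K' ≫ f.fiberι (g y') =
      FBase.bcπ (f'.fiberToSpecResidueField y') K' ≫ f'.fiberι y' ≫ g' := by
    refine (Category.assoc _ _ _).symm.trans ((congrArg (fun m => m ≫ f.fiberι (g y')) hθ).trans ?_)
    exact (Category.assoc _ _ _).trans
      (congrArg (fun m => FBase.bcπ (f'.fiberToSpecResidueField y') K' ≫ m) (fiberMapY_fiberι sq y'))
  ext z
  have e2 : (f.fiberι (g y')) ((FBase.bcπ (f.fiberToSpecResidueField (g y')) K') (θ.hom z)) =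
      g' (f'.fiberι y' ((FBase.bcπ (f'.fiberToSpecResidueField y') K') z)) :=
    congrArg (fun m : FBase.bc (f'.fiberToSpecResidueField y') K' ⟶ X => m z) e1
  show g' (f'.fiberι y' ((FBase.bcπ (f'.fiberToSpecResidueField y') K') z)) ∈ C ↔
    (f.fiberι (g y')) ((FBase.bcπ (f.fiberToSpecResidueField (g y')) K') (θ.hom z)) ∈ C
  rw [e2]

end P1

section Key

variable {X Y : Scheme.{u}}

open Groth.Agent.Lib.Helper4.DimFormula Groth.Agent.Lib.Helper4.VarDim
  Groth.Agent.Lib.Helper4.FibDim Groth.Agent.Lib.Helper6.UnivOpenGen in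
/-- the lower bound in case (β), over an arbitrary base -/
theorem key_beta (f : X ⟶ Y) [LocallyOfFiniteType f] (g : Y ⟶ X) (hg : g ≫ f = 𝟙 Y)
    (hCirr : ∀ y, IsIrreducible (connectedComponentIn (f.base ⁻¹' {y}) (g.base y)))
    (y₀ : Y) (hopen : ∀ ξ ∈ connectedComponentIn (f.base ⁻¹' {y₀}) (g.base y₀),
      connectedComponentIn (f.base ⁻¹' {y₀}) (g.base y₀) ⊆ closure {ξ} → EGA43.IsUnivOpenAt f ξ)
    (hβ : ∀ y' : Y, y₀ ∈ closure {y'} → closure {y'} ∈ irreducibleComponents (Y : Type u) →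
        topologicalKrullDim ↥(f.fiber y') =
          topologicalKrullDim ↥(connectedComponentIn (f.base ⁻¹' {y'}) (g.base y')))
    (y'' : Y) (hy'' : y'' ⤳ y₀) :
    topologicalKrullDim ↥(connectedComponentIn (f.base ⁻¹' {y₀}) (g.base y₀)) ≤
      topologicalKrullDim ↥(connectedComponentIn (f.base ⁻¹' {y''}) (g.base y'')) := by
  have hfg : ∀ z, f (g z) = z := fun z => by rw [← Scheme.Hom.comp_apply, hg]; rfl
  have hd : ∀ y, topologicalKrullDim ↥(connectedComponentIn (f.base ⁻¹' {y}) (g.base y)) =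
      FlatMor.fibreDimAt f (g.base y) :=
    fun y => dim_sectionComponent_eq_fibreDimAt f g hg y (hCirr y)
  set C₀ : Set X := connectedComponentIn (f.base ⁻¹' {y₀}) (g.base y₀) with hC₀
  have hgy₀ : g.base y₀ ∈ f.base ⁻¹' {y₀} := hfg y₀
  have hC₀max : ∀ Z' : Set X, IsIrreducible Z' → Z' ⊆ f.base ⁻¹' {y₀} → C₀ ⊆ Z' → Z' = C₀ := by
    intro Z' hZ' hZ'F hCZ'
    exact le_antisymm (hZ'.isPreirreducible.isPreconnected.subset_connectedComponentIn
      (hCZ' (mem_connectedComponentIn hgy₀)) hZ'F) hCZ'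
  obtain ⟨ξ, hfξ, hC₀eq, hC₀dim⟩ := exists_generic_of_maximal_irreducible_subset_fibre f y₀ C₀
    (connectedComponentIn_subset _ _) (hCirr y₀) hC₀max
  have hξC : ξ ∈ C₀ := hC₀eq.symm.subset ⟨subset_closure rfl, hfξ⟩
  have hCξ : C₀ ⊆ closure {ξ} := fun a ha => (hC₀eq.subset ha).1
  have hUO : EGA43.IsUnivOpenAt f ξ := hopen ξ hξC hCξ
  have hξmax : ∀ x' : X, f.base x' = f.base ξ → x' ⤳ ξ → x' = ξ := by
    intro x' hfx' hx'
    have hT := isIrreducible_closure_inter_fibre f x' y₀ (hfx'.trans hfξ)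
    have hTC : closure ({x'} : Set X) ∩ f.base ⁻¹' {y₀} ⊆
        connectedComponentIn (f.base ⁻¹' {y₀}) ξ :=
      hT.isPreirreducible.isPreconnected.subset_connectedComponentIn ⟨hx'.mem_closure, hfξ⟩
        Set.inter_subset_right
    have e1 : C₀ = connectedComponentIn (f.base ⁻¹' {y₀}) ξ := connectedComponentIn_eq hξC
    have hx'C : x' ∈ C₀ := by
      rw [e1]; exact hTC ⟨subset_closure rfl, hfx'.trans hfξ⟩
    have h2 : ξ ⤳ x' := specializes_iff_mem_closure.mpr (hCξ hx'C)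
    exact (hx'.antisymm h2).eq
  have hn : topologicalKrullDim ↥C₀ ≤ FlatMor.fibreDimAt f ξ := by
    rw [hC₀dim]; exact ptTrdeg_le_fibreDimAt f ξ
  obtain ⟨y', hy'comp, hy'y''⟩ : ∃ y' : Y, closure {y'} ∈ irreducibleComponents (Y : Type u) ∧
      y' ⤳ y'' := by
    have hirrc := isIrreducible_irreducibleComponent (x := y'')
    obtain ⟨y', hy'⟩ := QuasiSober.sober hirrc isClosed_irreducibleComponent
    refine ⟨y', ?_, hy'.specializes mem_irreducibleComponent⟩
    rw [hy'.def]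
    exact irreducibleComponent_mem_irreducibleComponents y''
  have hy'y₀ : y' ⤳ y₀ := hy'y''.trans hy''
  have hdim := hβ y' hy'y₀.mem_closure hy'comp
  have h1 := fibreDimAt_le_dim_inter_fibre_of_isUnivOpenAt f ξ hξmax hUO ⊤ trivial y'
    (by rw [hfξ]; exact hy'y₀)
  have h2 : topologicalKrullDim ↥(((⊤ : X.Opens) : Set X) ∩ f.base ⁻¹' {y'}) ≤
      topologicalKrullDim ↥(f.fiber y') := by
    rw [(f.fiberHomeo y').isHomeomorph.topologicalKrullDim_eq]
    exact topologicalKrullDim_mono_subset Set.inter_subset_right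
  have h3 : topologicalKrullDim ↥(connectedComponentIn (f.base ⁻¹' {y'}) (g.base y')) ≤
      topologicalKrullDim ↥(connectedComponentIn (f.base ⁻¹' {y''}) (g.base y'')) := by
    rw [hd, hd]
    exact fibreDimAt_le_of_specializes f (g y') (g y'') (hy'y''.map g.continuous)
  exact hn.trans (h1.trans (h2.trans (hdim.le.trans h3)))

open Groth.Agent.Lib.Helper4.DimFormula Groth.Agent.Lib.Helper4.VarDim
  Groth.Agent.Lib.Helper4.FibDim in
/-- the lower bound in case (α), when the local ring of the base at `y₀` is Noetherian -/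
theorem key_alpha (f : X ⟶ Y) [LocallyOfFiniteType f] (g : Y ⟶ X) (hg : g ≫ f = 𝟙 Y)
    (hirr : ∀ y : Y, (∀ (K : Type u) [Field K]
        [Algebra (IsLocalRing.ResidueField (Y.presheaf.stalk y)) K],
        IsIrreducible ((FBase.bcπ (f.fiberToSpecResidueField y) K ≫ f.fiberι y).base ⁻¹'
          connectedComponentIn (f.base ⁻¹' {y}) (g.base y))))
    (y₀ : Y) (hopen : ∀ ξ ∈ connectedComponentIn (f.base ⁻¹' {y₀}) (g.base y₀),
      connectedComponentIn (f.base ⁻¹' {y₀}) (g.base y₀) ⊆ closure {ξ} → EGA43.IsUnivOpenAt f ξ)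
    (hα : GRAt f (g y₀)) (hN : IsNoetherianRing (Y.presheaf.stalk y₀))
    (y'' : Y) (hy'' : y'' ⤳ y₀) :
    topologicalKrullDim ↥(connectedComponentIn (f.base ⁻¹' {y₀}) (g.base y₀)) ≤
      topologicalKrullDim ↥(connectedComponentIn (f.base ⁻¹' {y''}) (g.base y'')) := by
  have hfg : ∀ z, f (g z) = z := fun z => by rw [← Scheme.Hom.comp_apply, hg]; rfl
  have hCirr : ∀ y, IsIrreducible (connectedComponentIn (f.base ⁻¹' {y}) (g.base y)) :=
    fun y => isIrreducible_of_geom f y _ (connectedComponentIn_subset _ _) (hirr y)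
  have hd : ∀ y, topologicalKrullDim ↥(connectedComponentIn (f.base ⁻¹' {y}) (g.base y)) =
      FlatMor.fibreDimAt f (g.base y) :=
    fun y => dim_sectionComponent_eq_fibreDimAt f g hg y (hCirr y)
  let t : Spec (Y.presheaf.stalk y₀) ⟶ Y := Y.fromSpecStalk y₀
  let f₁ := pullback.snd f t
  have sq : IsPullback (pullback.fst f t) f₁ f t := IsPullback.of_hasPullback f t
  let g₁ : Spec (Y.presheaf.stalk y₀) ⟶ pullback f t := pullback.lift (t ≫ g) (𝟙 _) (by
    rw [Category.assoc, hg, Category.comp_id, Category.id_comp])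
  have hg₁ : g₁ ≫ f₁ = 𝟙 _ := pullback.lift_snd _ _ _
  have hg₁1 : g₁ ≫ pullback.fst f t = t ≫ g := pullback.lift_fst _ _ _
  have hSC : MoreMor.sectionComponents f₁ g₁ =
      (pullback.fst f t) ⁻¹' MoreMor.sectionComponents f g :=
    Groth.Agent.S1324.result f g hg f₁ (pullback.fst f t) t sq g₁ hg₁ hg₁1
  have hfg₁ : ∀ z, f₁ (g₁ z) = z := fun z => by rw [← Scheme.Hom.comp_apply, hg₁]; rfl
  have hfst_g : ∀ z, pullback.fst f t (g₁ z) = g (t z) := fun z => by
    rw [← Scheme.Hom.comp_apply, hg₁1, Scheme.Hom.comp_apply]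
  have hft : ∀ x₁ : ↥(pullback f t), f (pullback.fst f t x₁) = t (f₁ x₁) := fun x₁ => by
    rw [← Scheme.Hom.comp_apply, sq.w, Scheme.Hom.comp_apply]
  haveI : IsNoetherianRing ↑(Y.presheaf.stalk y₀) := hN
  haveI : IsLocallyNoetherian (Spec (Y.presheaf.stalk y₀)) := inferInstance
  haveI : LocallyOfFiniteType f₁ := inferInstance
  -- membership in the components
  have hmem : ∀ (y₁ : ↥(Spec (Y.presheaf.stalk y₀))) (x₁ : ↥(pullback f t)), f₁ x₁ = y₁ →
      (x₁ ∈ connectedComponentIn (f₁ ⁻¹' {y₁}) (g₁ y₁) ↔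
        pullback.fst f t x₁ ∈ connectedComponentIn (f ⁻¹' {t y₁}) (g (t y₁))) := by
    intro y₁ x₁ hx₁
    rw [← mem_sectionComponents_iff f₁ g₁ x₁ y₁ hx₁, hSC, Set.mem_preimage,
      mem_sectionComponents_iff f g _ (t y₁) (by rw [hft, hx₁])]
  have hirr₁ : ∀ y₁ : ↥(Spec (Y.presheaf.stalk y₀)), (∀ (K : Type u) [Field K]
      [Algebra (IsLocalRing.ResidueField ((Spec (Y.presheaf.stalk y₀)).presheaf.stalk y₁)) K],
      IsIrreducible ((FBase.bcπ (f₁.fiberToSpecResidueField y₁) K ≫ f₁.fiberι y₁).base ⁻¹'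
        connectedComponentIn (f₁.base ⁻¹' {y₁}) (g₁.base y₁))) := by
    intro y₁ K _ _
    have h1 := isIrreducible_preimage_bc_of_isPullback sq y₁
      (connectedComponentIn (f ⁻¹' {t y₁}) (g (t y₁))) (hirr (t y₁)) K
    convert h1 using 1
    ext z
    have hz : f₁ (f₁.fiberι y₁ ((FBase.bcπ (f₁.fiberToSpecResidueField y₁) K) z)) = y₁ := by
      have : f₁.fiberι y₁ ((FBase.bcπ (f₁.fiberToSpecResidueField y₁) K) z) ∈
          Set.range (f₁.fiberι y₁) := ⟨_, rfl⟩
      rw [Scheme.Hom.range_fiberι] at this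
      exact this
    exact hmem y₁ _ hz
  set s₁ : ↥(Spec (Y.presheaf.stalk y₀)) := closedPoint (Y.presheaf.stalk y₀) with hs₁
  have hts : t s₁ = y₀ := Scheme.fromSpecStalk_closedPoint
  have hopen₁ : ∀ ξ₁ ∈ connectedComponentIn (f₁.base ⁻¹' {s₁}) (g₁.base s₁),
      connectedComponentIn (f₁.base ⁻¹' {s₁}) (g₁.base s₁) ⊆ closure {ξ₁} →
      EGA43.IsUnivOpenAt f₁ ξ₁ := by
    intro ξ₁ hξ₁ hcl
    have hfξ₁ : f₁ ξ₁ = s₁ := connectedComponentIn_subset (f₁ ⁻¹' {s₁}) (g₁ s₁) hξ₁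
    have h1 : pullback.fst f t ξ₁ ∈ connectedComponentIn (f ⁻¹' {y₀}) (g y₀) := by
      have := (hmem s₁ ξ₁ hfξ₁).mp hξ₁
      rwa [hts] at this
    have h2 : connectedComponentIn (f ⁻¹' {y₀}) (g y₀) ⊆ closure {pullback.fst f t ξ₁} := by
      intro c hc
      have hfc : f c = t s₁ := by
        rw [hts]; exact connectedComponentIn_subset (f ⁻¹' {y₀}) (g y₀) hc
      obtain ⟨c₁, hc₁s, hc₁c⟩ := exists_mem_fibre_of_mem sq s₁ c hfc
      have hc₁C : c₁ ∈ connectedComponentIn (f₁ ⁻¹' {s₁}) (g₁ s₁) := by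
        rw [hmem s₁ c₁ hc₁s, hc₁c, hts]; exact hc
      have h3 : ξ₁ ⤳ c₁ := specializes_iff_mem_closure.mpr (hcl hc₁C)
      have h4 := h3.map (pullback.fst f t).continuous
      rw [hc₁c] at h4
      exact h4.mem_closure
    exact Groth.Agent.Lib.Helper7.isUnivOpenAt_of_isPullback sq _ (hopen _ h1 h2) ξ₁ rfl
  have hα₁ : FBase.IsGeomReducedAt (f₁.fiberToSpecResidueField (f₁.base (g₁.base s₁)))
      (f₁.asFiber (g₁.base s₁)) := by
    refine (gRAt_iff_of_isPullback sq (g₁ s₁)).mpr ?_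
    rw [hfst_g, hts]
    exact hα
  obtain ⟨V₁, hV₁, hV₁eq⟩ := dim_sectionComponent_const f₁ g₁ hg₁ hirr₁ s₁ hopen₁ (Or.inl hα₁)
  -- comparison of dimensions
  have hCirr₁ : ∀ y₁, IsIrreducible (connectedComponentIn (f₁.base ⁻¹' {y₁}) (g₁.base y₁)) :=
    fun y₁ => isIrreducible_of_geom f₁ y₁ _ (connectedComponentIn_subset _ _) (hirr₁ y₁)
  have hdimT : ∀ y₁ : ↥(Spec (Y.presheaf.stalk y₀)),
      topologicalKrullDim ↥(connectedComponentIn (f₁.base ⁻¹' {y₁}) (g₁.base y₁)) =
      topologicalKrullDim ↥(connectedComponentIn (f.base ⁻¹' {t y₁}) (g.base (t y₁))) := by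
    intro y₁
    rw [dim_sectionComponent_eq_fibreDimAt f₁ g₁ hg₁ y₁ (hCirr₁ y₁), hd,
      Groth.Agent.Lib.Helper3.LocDimBC.fibreDimAt_eq_of_isPullback f t (pullback.fst f t) f₁ sq _]
    congr 1
    exact hfst_g y₁
  have hy''r : y'' ∈ Set.range t := by
    rw [Scheme.range_fromSpecStalk]; exact hy''
  obtain ⟨y₁, rfl⟩ := hy''r
  have hy₁V : y₁ ∈ V₁ := by
    have h2 : y₁ ⤳ s₁ := IsLocalRing.specializes_closedPoint y₁
    exact mem_of_mem_nhds (h2 hV₁)
  have h5 := hV₁eq y₁ hy₁V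
  rw [hdimT y₁, hdimT s₁, hts] at h5
  exact h5.ge

end Key

section FP

variable {X Y : Scheme.{u}}

open Groth.Agent.Lib.Helper4.DimFormula Groth.Agent.Lib.Helper4.VarDim
  Groth.Agent.Lib.Helper4.FibDim Groth.Agent.Lib.Helper3.GrpFibDim in
/-- EGA IV 15.6.6, finite presentation version -/
theorem dim_sectionComponent_const_fp (f : X ⟶ Y)
    [LocallyOfFinitePresentation f] (g : Y ⟶ X) (hg : g ≫ f = 𝟙 Y)
    (hirr : ∀ y : Y, (∀ (K : Type u) [Field K]
        [Algebra (IsLocalRing.ResidueField (Y.presheaf.stalk y)) K],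
        IsIrreducible ((FBase.bcπ (f.fiberToSpecResidueField y) K ≫ f.fiberι y).base ⁻¹'
          connectedComponentIn (f.base ⁻¹' {y}) (g.base y))))
    (y₀ : Y) (hopen : ∀ ξ ∈ connectedComponentIn (f.base ⁻¹' {y₀}) (g.base y₀),
      connectedComponentIn (f.base ⁻¹' {y₀}) (g.base y₀) ⊆ closure {ξ} → EGA43.IsUnivOpenAt f ξ)
    (hαβ : (FBase.IsGeomReducedAt (f.fiberToSpecResidueField (f.base (g.base y₀)))
        (f.asFiber (g.base y₀)) ∧ IsNoetherianRing (Y.presheaf.stalk y₀)) ∨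
      (∀ y' : Y, y₀ ∈ closure {y'} → closure {y'} ∈ irreducibleComponents (Y : Type u) →
        topologicalKrullDim ↥(f.fiber y') =
          topologicalKrullDim ↥(connectedComponentIn (f.base ⁻¹' {y'}) (g.base y')))) :
    ∃ V ∈ nhds y₀, ∀ z ∈ V,
      topologicalKrullDim ↥(connectedComponentIn (f.base ⁻¹' {z}) (g.base z)) =
        topologicalKrullDim ↥(connectedComponentIn (f.base ⁻¹' {y₀}) (g.base y₀)) := by
  have hCirr : ∀ y, IsIrreducible (connectedComponentIn (f.base ⁻¹' {y}) (g.base y)) :=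
    fun y => isIrreducible_of_geom f y _ (connectedComponentIn_subset _ _) (hirr y)
  have hd : ∀ y, topologicalKrullDim ↥(connectedComponentIn (f.base ⁻¹' {y}) (g.base y)) =
      FlatMor.fibreDimAt f (g.base y) :=
    fun y => dim_sectionComponent_eq_fibreDimAt f g hg y (hCirr y)
  have hkey : ∀ y'' : Y, y'' ⤳ y₀ →
      topologicalKrullDim ↥(connectedComponentIn (f.base ⁻¹' {y₀}) (g.base y₀)) ≤
      topologicalKrullDim ↥(connectedComponentIn (f.base ⁻¹' {y''}) (g.base y'')) := by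
    intro y'' hy''
    rcases hαβ with ⟨hα, hN⟩ | hβ
    · exact key_alpha f g hg hirr y₀ hopen hα hN y'' hy''
    · exact key_beta f g hg hCirr y₀ hopen hβ y'' hy''
  obtain ⟨n, hn⟩ := exists_nat_fibreDimAt_eq f (g.base y₀)
  set T : Set Y := (g.base ⁻¹' {x : X | (n : WithBot ℕ∞) ≤ FlatMor.fibreDimAt f x})ᶜ with hT
  have hTc : IsConstructible T :=
    (g.isConstructible_preimage (isConstructible_setOf_natCast_le_fibreDimAt f n)).compl
  have hy₀T : y₀ ∉ closure T := by
    intro hcl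
    obtain ⟨y'', hy''T, hy''⟩ := exists_specializes_of_mem_closure hTc.isLocallyConstructible hcl
    apply hy''T
    show (n : WithBot ℕ∞) ≤ FlatMor.fibreDimAt f (g.base y'')
    have := hkey y'' hy''
    rw [hd, hd, hn] at this
    exact this
  set O : Set Y := g.base ⁻¹' {x : X | FlatMor.fibreDimAt f x ≤ FlatMor.fibreDimAt f (g.base y₀)}
    with hO
  have hOo : IsOpen O := (isOpen_setOf_fibreDimAt_le' f _).preimage g.continuous
  have hy₀O : y₀ ∈ O := by
    show FlatMor.fibreDimAt f (g.base y₀) ≤ FlatMor.fibreDimAt f (g.base y₀)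
    exact le_rfl
  refine ⟨O ∩ (closure T)ᶜ, (hOo.inter isClosed_closure.isOpen_compl).mem_nhds ⟨hy₀O, hy₀T⟩, ?_⟩
  rintro z ⟨hzO, hzT⟩
  rw [hd z, hd y₀]
  apply le_antisymm
  · exact hzO
  · by_contra hlt
    apply hzT
    apply subset_closure
    show ¬ (n : WithBot ℕ∞) ≤ FlatMor.fibreDimAt f (g.base z)
    rw [← hn]
    exact hlt

end FP

end Groth.Agent.Lib.Helper22.SC
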