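import Mathlib
import Groth.Agent.Lib.Helper4DimFormulaAP
import Groth.Prelude.Def_FDesc
import Groth.Prelude.Def_EGA43
import Groth.Prelude.Def_MoreMor

/-!
# Geometric irreducibility of section components (helper4)

* `surjective_bcπ`: the projection `X ⊗_k K → X` is surjective.
* `isIrreducible_of_forall_bcπ`: a subset of a fibre whose preimages in all `X_y ⊗ K` are irreducible
  is irreducible.
-/

set_option autoImplicit false
set_option linter.style.haveILetI false

universe u

open AlgebraicGeometry CategoryTheory TopologicalSpace IsLocalRing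

namespace Groth.Agent.Lib.Helper4.DimFormula

theorem surjective_pullback_fst_of_surjective {X Y Z : Scheme.{u}} (f : X ⟶ Z) (g : Y ⟶ Z)
    (hg : Function.Surjective g.base) : Function.Surjective (Limits.pullback.fst f g).base := by
  rw [← Set.range_eq_univ, Scheme.Pullback.range_fst, hg.range_eq, Set.preimage_univ]

theorem surjective_bcπ {k : Type u} [Field k] {X : Scheme.{u}} (f : X ⟶ Spec (CommRingCat.of k))
    (K : Type u) [Field K] [Algebra k K] : Function.Surjective (FBase.bcπ f K).base := by
  have h1 : Function.Surjective (Spec.map (CommRingCat.ofHom (algebraMap k K))).base := by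
    intro a
    obtain ⟨b⟩ : Nonempty ↥(Spec (CommRingCat.of K)) := inferInstance
    exact ⟨b, Subsingleton.elim _ _⟩
  exact surjective_pullback_fst_of_surjective f _ h1

theorem isIrreducible_of_forall_bcπ {X Y : Scheme.{u}} (f : X ⟶ Y) (y : Y) (C : Set X)
    (hC : C ⊆ f.base ⁻¹' {y})
    (h : ∀ (K : Type u) [Field K] [Algebra (IsLocalRing.ResidueField (Y.presheaf.stalk y)) K],
      IsIrreducible ((FBase.bcπ (f.fiberToSpecResidueField y) K ≫ f.fiberι y).base ⁻¹' C)) :
    IsIrreducible C := by
  have h1 := h (IsLocalRing.ResidueField (Y.presheaf.stalk y))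
  set φ := FBase.bcπ (f.fiberToSpecResidueField y) (IsLocalRing.ResidueField (Y.presheaf.stalk y)) ≫
    f.fiberι y with hφ
  have hrange : Set.range φ.base = f.base ⁻¹' {y} := by
    rw [hφ, Scheme.Hom.comp_base, TopCat.coe_comp, Set.range_comp,
      (surjective_bcπ (f.fiberToSpecResidueField y) _).range_eq, Set.image_univ,
      Scheme.Hom.range_fiberι]
  have himg : φ.base '' (φ.base ⁻¹' C) = C := by
    rw [Set.image_preimage_eq_inter_range, hrange]
    exact Set.inter_eq_left.mpr hC
  rw [← himg]
  exact h1.image _ φ.continuous.continuousOn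

end Groth.Agent.Lib.Helper4.DimFormula
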