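import Mathlib
import Groth.Agent.Lib.Helper4DimFormulaAT
import Groth.Agent.Lib.Helper3LocDimBC
import Groth.Agent.Lib.Helper26UnivOpenAt

/-!
# Section components under base change; universal openness at points of `X⁰_y` (helper4)
-/

set_option autoImplicit false
set_option linter.style.haveILetI false

universe u

open AlgebraicGeometry CategoryTheory TopologicalSpace IsLocalRing Limits

namespace Groth.Agent.Lib.Helper4.DimFormula

section BC

variable {X Y T : Scheme.{u}} (f : X ⟶ Y) (g : T ⟶ Y)

/-- The residue field extension `κ(g t) → κ(t)` as an algebra. -/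
noncomputable abbrev resAlg (t : T) :
    Algebra (IsLocalRing.ResidueField (Y.presheaf.stalk (g.base t))) (T.residueField t) :=
  (g.residueFieldMap t).hom.toAlgebra

/-- The comparison map `X_{g t} ⊗_{κ(g t)} κ(t) ⟶ X ×_Y T`. -/
noncomputable def bcToPullback (t : T) :
    letI := resAlg g t
    FBase.bc (f.fiberToSpecResidueField (g.base t)) (T.residueField t) ⟶ pullback f g :=
  letI := resAlg g t
  pullback.lift
    (FBase.bcπ (f.fiberToSpecResidueField (g.base t)) (T.residueField t) ≫ f.fiberι (g.base t))
    (FBase.bcStr (f.fiberToSpecResidueField (g.base t)) (T.residueField t) ≫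
      T.fromSpecResidueField t) (by
    rw [Category.assoc, Category.assoc, f.fiber_fac (g.base t),
      ← Scheme.Hom.SpecMap_residueFieldMap_fromSpecResidueField g t]
    have h := pullback.condition (f := f.fiberToSpecResidueField (g.base t))
      (g := Spec.map (CommRingCat.ofHom (algebraMap
        (IsLocalRing.ResidueField (Y.presheaf.stalk (g.base t))) (T.residueField t))))
    have h' : FBase.bcπ (f.fiberToSpecResidueField (g.base t)) (T.residueField t) ≫
        f.fiberToSpecResidueField (g.base t) =
        FBase.bcStr (f.fiberToSpecResidueField (g.base t)) (T.residueField t) ≫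
          Spec.map (g.residueFieldMap t) := h
    rw [reassoc_of% h'])

theorem bcToPullback_fst (t : T) :
    letI := resAlg g t
    bcToPullback f g t ≫ pullback.fst f g =
      FBase.bcπ (f.fiberToSpecResidueField (g.base t)) (T.residueField t) ≫ f.fiberι (g.base t) := by
  letI := resAlg g t
  exact pullback.lift_fst _ _ _

theorem bcToPullback_snd (t : T) :
    letI := resAlg g t
    bcToPullback f g t ≫ pullback.snd f g =
      FBase.bcStr (f.fiberToSpecResidueField (g.base t)) (T.residueField t) ≫
        T.fromSpecResidueField t := by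
  letI := resAlg g t
  exact pullback.lift_snd _ _ _

theorem snd_bcToPullback_apply (t : T)
    (w : letI := resAlg g t
      ↥(FBase.bc (f.fiberToSpecResidueField (g.base t)) (T.residueField t))) :
    (pullback.snd f g).base ((bcToPullback f g t).base w) = t := by
  letI := resAlg g t
  rw [← Scheme.Hom.comp_apply, bcToPullback_snd, Scheme.Hom.comp_apply,
    Scheme.fromSpecResidueField_apply]

theorem exists_bcToPullback_eq (z : ↥(pullback f g)) :
    ∃ w, (bcToPullback f g ((pullback.snd f g).base z)).base w = z := by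
  set t : T := (pullback.snd f g).base z with ht
  letI := resAlg g t
  set ιz := (pullback f g).fromSpecResidueField z with hιz
  -- the map to the fibre
  set ρ : Y.residueField (g.base t) ⟶ (pullback f g).residueField z :=
    g.residueFieldMap t ≫ (pullback.snd f g).residueFieldMap z with hρ
  have hsnd : ιz ≫ pullback.snd f g =
      Spec.map ((pullback.snd f g).residueFieldMap z) ≫ T.fromSpecResidueField t :=
    (Scheme.Hom.SpecMap_residueFieldMap_fromSpecResidueField (pullback.snd f g) z).symm
  have hc : (ιz ≫ pullback.fst f g) ≫ f = Spec.map ρ ≫ Y.fromSpecResidueField (g.base t) := by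
    rw [Category.assoc, pullback.condition, ← Category.assoc, hsnd, Category.assoc,
      ← Scheme.Hom.SpecMap_residueFieldMap_fromSpecResidueField g t, ← Category.assoc,
      ← Spec.map_comp]
  let c : Spec ((pullback f g).residueField z) ⟶ f.fiber (g.base t) :=
    pullback.lift (ιz ≫ pullback.fst f g) (Spec.map ρ) hc
  have hc1 : c ≫ f.fiberι (g.base t) = ιz ≫ pullback.fst f g := pullback.lift_fst _ _ _
  have hc2 : c ≫ f.fiberToSpecResidueField (g.base t) = Spec.map ρ := pullback.lift_snd _ _ _
  have hw : c ≫ f.fiberToSpecResidueField (g.base t) =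
      Spec.map ((pullback.snd f g).residueFieldMap z) ≫
        Spec.map (CommRingCat.ofHom (algebraMap
          (IsLocalRing.ResidueField (Y.presheaf.stalk (g.base t))) (T.residueField t))) := by
    rw [hc2, hρ, Spec.map_comp]
    rfl
  let w₀ : Spec ((pullback f g).residueField z) ⟶
      FBase.bc (f.fiberToSpecResidueField (g.base t)) (T.residueField t) :=
    pullback.lift c (Spec.map ((pullback.snd f g).residueFieldMap z)) hw
  have hw1 : w₀ ≫ FBase.bcπ (f.fiberToSpecResidueField (g.base t)) (T.residueField t) = c :=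
    pullback.lift_fst _ _ _
  have hw2 : w₀ ≫ FBase.bcStr (f.fiberToSpecResidueField (g.base t)) (T.residueField t) =
      Spec.map ((pullback.snd f g).residueFieldMap z) := pullback.lift_snd _ _ _
  have hcomp : w₀ ≫ bcToPullback f g t = ιz := by
    apply pullback.hom_ext
    · rw [Category.assoc, bcToPullback_fst, reassoc_of% hw1, hc1]
    · rw [Category.assoc, bcToPullback_snd, reassoc_of% hw2, hsnd]
  obtain ⟨pt⟩ : Nonempty ↥(Spec ((pullback f g).residueField z)) := inferInstance
  refine ⟨w₀.base pt, ?_⟩
  rw [← Scheme.Hom.comp_apply, hcomp, hιz, Scheme.fromSpecResidueField_apply]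

theorem image_bcToPullback (t : T) (C : Set X) :
    letI := resAlg g t
    (bcToPullback f g t).base ''
        ((FBase.bcπ (f.fiberToSpecResidueField (g.base t)) (T.residueField t) ≫
          f.fiberι (g.base t)).base ⁻¹' C) =
      (pullback.fst f g).base ⁻¹' C ∩ (pullback.snd f g).base ⁻¹' {t} := by
  letI := resAlg g t
  ext z
  constructor
  · rintro ⟨w, hw, rfl⟩
    refine ⟨?_, snd_bcToPullback_apply f g t w⟩
    show (pullback.fst f g).base ((bcToPullback f g t).base w) ∈ C
    rw [← Scheme.Hom.comp_apply, bcToPullback_fst]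
    exact hw
  · rintro ⟨hzC, hzt⟩
    have hzt' : (pullback.snd f g).base z = t := hzt
    subst hzt'
    obtain ⟨w, hw⟩ := exists_bcToPullback_eq f g z
    refine ⟨w, ?_, hw⟩
    show (FBase.bcπ _ _ ≫ f.fiberι _).base w ∈ C
    rw [← bcToPullback_fst, Scheme.Hom.comp_apply, hw]
    exact hzC

variable (σ : Y ⟶ X) (hσ : σ ≫ f = 𝟙 Y)

/-- The base-changed section. -/
noncomputable def sectionBC : T ⟶ pullback f g :=
  pullback.lift (g ≫ σ) (𝟙 T) (by rw [Category.assoc, hσ, Category.comp_id, Category.id_comp])

theorem sectionBC_snd : sectionBC f g σ hσ ≫ pullback.snd f g = 𝟙 T := pullback.lift_snd _ _ _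

theorem sectionBC_fst : sectionBC f g σ hσ ≫ pullback.fst f g = g ≫ σ := pullback.lift_fst _ _ _

theorem sectionComponent_pullback (t : T)
    (hgi : ∀ (K : Type u) [Field K]
      [Algebra (IsLocalRing.ResidueField (Y.presheaf.stalk (g.base t))) K],
      IsIrreducible ((FBase.bcπ (f.fiberToSpecResidueField (g.base t)) K ≫
        f.fiberι (g.base t)).base ⁻¹'
          (connectedComponentIn (f.base ⁻¹' {g.base t}) (σ.base (g.base t))))) :
    connectedComponentIn ((pullback.snd f g).base ⁻¹' {t}) ((sectionBC f g σ hσ).base t) =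
        (pullback.fst f g).base ⁻¹'
          (connectedComponentIn (f.base ⁻¹' {g.base t}) (σ.base (g.base t))) ∩
          (pullback.snd f g).base ⁻¹' {t} ∧
      IsIrreducible
        (connectedComponentIn ((pullback.snd f g).base ⁻¹' {t}) ((sectionBC f g σ hσ).base t)) := by
  letI := resAlg g t
  set C := connectedComponentIn (f.base ⁻¹' {g.base t}) (σ.base (g.base t)) with hC
  have hσf : ∀ y : Y, f.base (σ.base y) = y := base_section_apply f σ hσ
  have hσT : ∀ t' : T, (pullback.snd f g).base ((sectionBC f g σ hσ).base t') = t' :=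
    base_section_apply (pullback.snd f g) (sectionBC f g σ hσ) (sectionBC_snd f g σ hσ)
  have hfstσ : (pullback.fst f g).base ((sectionBC f g σ hσ).base t) = σ.base (g.base t) := by
    rw [← Scheme.Hom.comp_apply, sectionBC_fst, Scheme.Hom.comp_apply]
  have hmemC : σ.base (g.base t) ∈ C := mem_connectedComponentIn (hσf _)
  have hDirr : IsIrreducible ((pullback.fst f g).base ⁻¹' C ∩ (pullback.snd f g).base ⁻¹' {t}) := by
    rw [← image_bcToPullback f g t C]
    exact (hgi (T.residueField t)).image _ (bcToPullback f g t).continuous.continuousOn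
  have hσD : (sectionBC f g σ hσ).base t ∈
      (pullback.fst f g).base ⁻¹' C ∩ (pullback.snd f g).base ⁻¹' {t} :=
    ⟨by show _ ∈ C; rw [hfstσ]; exact hmemC, hσT t⟩
  have heq : connectedComponentIn ((pullback.snd f g).base ⁻¹' {t}) ((sectionBC f g σ hσ).base t) =
      (pullback.fst f g).base ⁻¹' C ∩ (pullback.snd f g).base ⁻¹' {t} := by
    apply le_antisymm
    · intro z hz
      have hzt : z ∈ (pullback.snd f g).base ⁻¹' {t} := connectedComponentIn_subset _ _ hz
      refine ⟨?_, hzt⟩
      have himg : (pullback.fst f g).base ''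
          connectedComponentIn ((pullback.snd f g).base ⁻¹' {t}) ((sectionBC f g σ hσ).base t) ⊆ C := by
        apply IsPreconnected.subset_connectedComponentIn
        · exact isPreconnected_connectedComponentIn.image _
            (pullback.fst f g).continuous.continuousOn
        · exact ⟨_, mem_connectedComponentIn (hσT t), hfstσ⟩
        · rintro _ ⟨z', hz', rfl⟩
          have hz't : (pullback.snd f g).base z' = t :=
            (connectedComponentIn_subset _ _ hz' : z' ∈ (pullback.snd f g).base ⁻¹' {t})
          show f.base ((pullback.fst f g).base z') = g.base t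
          rw [← Scheme.Hom.comp_apply, pullback.condition, Scheme.Hom.comp_apply, hz't]
      exact himg ⟨z, hz, rfl⟩
    · exact hDirr.isPreirreducible.isPreconnected.subset_connectedComponentIn hσD
        Set.inter_subset_right
  exact ⟨heq, heq ▸ hDirr⟩

end BC

open Groth.Agent.Lib.Helper26.UnivOpenAt in
/-- EGA IV 15.6.6 (ii): if `z ↦ dim X⁰_z` is constant near `y` (all `X⁰_z` geometrically
irreducible), then `f` is universally open at the points of `X⁰_y`. -/
theorem isUnivOpenAt_of_dim_sectionComponent_const {X Y : Scheme.{u}} [IsLocallyNoetherian Y]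
    (f : X ⟶ Y) [LocallyOfFiniteType f] (σ : Y ⟶ X) (hσ : σ ≫ f = 𝟙 Y)
    (hgi : ∀ (y : Y) (K : Type u) [Field K]
      [Algebra (IsLocalRing.ResidueField (Y.presheaf.stalk y)) K],
      IsIrreducible ((FBase.bcπ (f.fiberToSpecResidueField y) K ≫ f.fiberι y).base ⁻¹'
        (connectedComponentIn (f.base ⁻¹' {y}) (σ.base y))))
    (y : Y)
    (hc : ∃ V ∈ nhds y, ∀ z ∈ V,
      topologicalKrullDim ↥(connectedComponentIn (f.base ⁻¹' {z}) (σ.base z)) =
        topologicalKrullDim ↥(connectedComponentIn (f.base ⁻¹' {y}) (σ.base y))) :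
    ∀ x ∈ connectedComponentIn (f.base ⁻¹' {y}) (σ.base y), EGA43.IsUnivOpenAt f x := by
  intro x hx
  apply isUnivOpenAt_of_dvrCrit f x
  intro A _ _ _ g hgcl x' hx'1 hx'2
  obtain ⟨t₀, ht₀⟩ : ∃ t₀ : ↥(Spec (CommRingCat.of A)), t₀ = closedPoint A := ⟨_, rfl⟩
  have hspec : ∀ t : ↥(Spec (CommRingCat.of A)), t ⤳ t₀ := fun t =>
    ht₀ ▸ IsLocalRing.specializes_closedPoint t
  rw [← ht₀] at hgcl hx'2 ⊢
  have hfx : f.base x = y :=
    (connectedComponentIn_subset _ _ hx : x ∈ f.base ⁻¹' {y})
  have hgt₀ : g.base t₀ = y := hgcl.trans hfx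
  obtain ⟨V, hV, hVeq⟩ := hc
  have hirrX : ∀ z : Y, IsIrreducible (connectedComponentIn (f.base ⁻¹' {z}) (σ.base z)) :=
    fun z => isIrreducible_of_forall_bcπ f z _ (connectedComponentIn_subset _ _) (hgi z)
  have hcomp := fun t : ↥(Spec (CommRingCat.of A)) =>
    sectionComponent_pullback f g σ hσ t (hgi (g.base t))
  have hσT : ∀ t' : ↥(Spec (CommRingCat.of A)),
      (pullback.snd f g).base ((sectionBC f g σ hσ).base t') = t' :=
    base_section_apply (pullback.snd f g) (sectionBC f g σ hσ) (sectionBC_snd f g σ hσ)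
  haveI : LocallyOfFiniteType (pullback.snd f g) :=
    MorphismProperty.of_isPullback (P := @LocallyOfFiniteType) (IsPullback.of_hasPullback f g)
      inferInstance
  have hdimT : ∀ t : ↥(Spec (CommRingCat.of A)),
      topologicalKrullDim ↥(connectedComponentIn ((pullback.snd f g).base ⁻¹' {t})
        ((sectionBC f g σ hσ).base t)) =
      topologicalKrullDim ↥(connectedComponentIn (f.base ⁻¹' {g.base t}) (σ.base (g.base t))) := by
    intro t
    rw [dim_sectionComponent_eq_fibreDimAt (pullback.snd f g) (sectionBC f g σ hσ)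
        (sectionBC_snd f g σ hσ) t (hcomp t).2,
      dim_sectionComponent_eq_fibreDimAt f σ hσ (g.base t) (hirrX _),
      Groth.Agent.Lib.Helper3.LocDimBC.fibreDimAt_eq_of_isPullback f g (pullback.fst f g)
        (pullback.snd f g) (IsPullback.of_hasPullback f g) _]
    congr 1
    rw [← Scheme.Hom.comp_apply, sectionBC_fst, Scheme.Hom.comp_apply]
  have hgV : ∀ t : ↥(Spec (CommRingCat.of A)), g.base t ∈ V := by
    intro t
    have h2 : g.base t ⤳ y := hgt₀ ▸ (hspec t).map g.continuous
    exact mem_of_mem_nhds (h2 hV)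
  have hdimconst : ∀ t : ↥(Spec (CommRingCat.of A)),
      topologicalKrullDim ↥(connectedComponentIn ((pullback.snd f g).base ⁻¹' {t})
        ((sectionBC f g σ hσ).base t)) =
      topologicalKrullDim ↥(connectedComponentIn (f.base ⁻¹' {y}) (σ.base y)) :=
    fun t => (hdimT t).trans (hVeq _ (hgV t))
  -- the generic point of `Spec A`
  obtain ⟨t₁, ht₁⟩ : ∃ t₁ : ↥(Spec (CommRingCat.of A)), t₁ = ⟨⊥, Ideal.isPrime_bot⟩ := ⟨_, rfl⟩
  have hmain := sectionComponent_main (pullback.snd f g) (sectionBC f g σ hσ)
    (sectionBC_snd f g σ hσ) t₀ t₁ (hspec t₁)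
    ⟨connectedComponentIn ((pullback.snd f g).base ⁻¹' {t₁}) ((sectionBC f g σ hσ).base t₁),
      connectedComponentIn_subset _ _, (hcomp t₁).2,
      (fun Z' hZ' hZ'F hCZ' =>
        le_antisymm (hZ'.isPreirreducible.isPreconnected.subset_connectedComponentIn
          (hCZ' (mem_connectedComponentIn (hσT t₁))) hZ'F) hCZ'),
      mem_connectedComponentIn (hσT t₁), rfl⟩
  have hsub := hmain.2 (hcomp t₀).2 ((hdimconst t₀).trans (hdimconst t₁).symm)
  have hx'C : x' ∈ connectedComponentIn ((pullback.snd f g).base ⁻¹' {t₀})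
      ((sectionBC f g σ hσ).base t₀) := by
    rw [(hcomp t₀).1]
    refine ⟨?_, hx'2⟩
    show (pullback.fst f g).base x' ∈
      connectedComponentIn (f.base ⁻¹' {g.base t₀}) (σ.base (g.base t₀))
    rw [hx'1, hgt₀]
    exact hx
  have hx'cl := hsub hx'C
  obtain ⟨ζ, hζ⟩ := QuasiSober.sober (hcomp t₁).2.closure isClosed_closure
  refine ⟨ζ, ?_, ?_⟩
  · rw [specializes_iff_mem_closure, hζ.def]
    exact hx'cl
  · intro hζ0
    have h1 : (sectionBC f g σ hσ).base t₁ ∈ closure ({ζ} : Set ↥(pullback f g)) := by
      rw [hζ.def]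
      exact subset_closure (mem_connectedComponentIn (hσT t₁))
    have h2 : ζ ⤳ (sectionBC f g σ hσ).base t₁ := specializes_iff_mem_closure.mpr h1
    have h3 := h2.map (pullback.snd f g).continuous
    rw [hσT t₁, hζ0] at h3
    have h4 : t₀.asIdeal ≤ t₁.asIdeal := (PrimeSpectrum.le_iff_specializes _ _).mpr h3
    rw [ht₁, ht₀] at h4
    have h5 : IsLocalRing.maximalIdeal A ≤ ⊥ := h4
    exact IsDiscreteValuationRing.not_a_field A (le_bot_iff.mp h5)

end Groth.Agent.Lib.Helper4.DimFormula
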