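import Mathlib
import Groth.Agent.Lib.Helper4DimFormulaAU
import Groth.Agent.S3404

set_option autoImplicit false
set_option linter.style.haveILetI false
set_option linter.unusedSectionVars false
set_option linter.unusedVariables false
universe u
open AlgebraicGeometry CategoryTheory TopologicalSpace IsLocalRing Limits

namespace Groth.Agent.Lib.Helper22.UOa

open Groth.Agent.Lib.Helper4.DimFormula

/-- EGA IV 15.6.7 (i), finite presentation case: if `z ↦ dim X⁰_z` is constant near `y` (all `X⁰_z`
geometrically irreducible), then `f` is universally open at the points of `X⁰_y`; no Noetherian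
hypothesis on the base. -/
theorem isUnivOpenAt_of_dim_sectionComponent_const_fp {X Y : Scheme.{u}}
    (f : X ⟶ Y) [LocallyOfFinitePresentation f] (σ : Y ⟶ X) (hσ : σ ≫ f = 𝟙 Y)
    (hgi : ∀ (y : Y) (K : Type u) [Field K]
      [Algebra (IsLocalRing.ResidueField (Y.presheaf.stalk y)) K],
      IsIrreducible ((FBase.bcπ (f.fiberToSpecResidueField y) K ≫ f.fiberι y).base ⁻¹'
        (connectedComponentIn (f.base ⁻¹' {y}) (σ.base y))))
    (y : Y)
    (hc : ∃ V ∈ nhds y, ∀ z ∈ V,
      topologicalKrullDim ↥(connectedComponentIn (f.base ⁻¹' {z}) (σ.base z)) =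
        topologicalKrullDim ↥(connectedComponentIn (f.base ⁻¹' {y}) (σ.base y))) :
    ∀ x ∈ connectedComponentIn (f.base ⁻¹' {y}) (σ.base y), EGA43.IsUnivOpenAt f x := by
  intro x hx T g x' hx'1
  haveI : LocallyOfFiniteType f := inferInstance
  haveI : LocallyOfFinitePresentation (pullback.snd f g) :=
    MorphismProperty.pullback_snd (P := @LocallyOfFinitePresentation) f g inferInstance
  rw [(Groth.Agent.S3404.result (pullback.snd f g) x').2 inferInstance]
  intro t₁ ht₁
  obtain ⟨t₀, ht₀⟩ : ∃ t₀ : T, t₀ = (pullback.snd f g).base x' := ⟨_, rfl⟩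
  rw [← ht₀] at ht₁
  have hfx : f.base x = y :=
    (connectedComponentIn_subset _ _ hx : x ∈ f.base ⁻¹' {y})
  have hgt₀ : g.base t₀ = y := by
    rw [ht₀, ← Scheme.Hom.comp_apply, ← pullback.condition, Scheme.Hom.comp_apply, hx'1, hfx]
  obtain ⟨V, hV, hVeq⟩ := hc
  have hirrX : ∀ z : Y, IsIrreducible (connectedComponentIn (f.base ⁻¹' {z}) (σ.base z)) :=
    fun z => isIrreducible_of_forall_bcπ f z _ (connectedComponentIn_subset _ _) (hgi z)
  have hcomp := fun t : T => sectionComponent_pullback f g σ hσ t (hgi (g.base t))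
  have hσT : ∀ t' : T, (pullback.snd f g).base ((sectionBC f g σ hσ).base t') = t' :=
    base_section_apply (pullback.snd f g) (sectionBC f g σ hσ) (sectionBC_snd f g σ hσ)
  haveI : LocallyOfFiniteType (pullback.snd f g) := inferInstance
  have hdimT : ∀ t : T,
      topologicalKrullDim ↥(connectedComponentIn ((pullback.snd f g).base ⁻¹' {t})
        ((sectionBC f g σ hσ).base t)) =
      topologicalKrullDim ↥(connectedComponentIn (f.base ⁻¹' {g.base t}) (σ.base (g.base t))) := by
    intro t
    rw [dim_sectionComponent_eq_fibreDimAt (pullback.snd f g) (sectionBC f g σ hσ)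
        (sectionBC_snd f g σ hσ) t (hcomp t).2,
      dim_sectionComponent_eq_fibreDimAt f σ hσ (g.base t) (hirrX _),
      Groth.Agent.Lib.Helper3.LocDimBC.fibreDimAt_eq_of_isPullback f g (pullback.fst f g)
        (pullback.snd f g) (IsPullback.of_hasPullback f g) _]
    congr 1
    rw [← Scheme.Hom.comp_apply, sectionBC_fst, Scheme.Hom.comp_apply]
  have hgV : ∀ t : T, t ⤳ t₀ → g.base t ∈ V := by
    intro t ht
    have h2 : g.base t ⤳ y := hgt₀ ▸ ht.map g.continuous
    exact mem_of_mem_nhds (h2 hV)
  have hdimconst : ∀ t : T, t ⤳ t₀ →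
      topologicalKrullDim ↥(connectedComponentIn ((pullback.snd f g).base ⁻¹' {t})
        ((sectionBC f g σ hσ).base t)) =
      topologicalKrullDim ↥(connectedComponentIn (f.base ⁻¹' {y}) (σ.base y)) :=
    fun t ht => (hdimT t).trans (hVeq _ (hgV t ht))
  have hmain := sectionComponent_main (pullback.snd f g) (sectionBC f g σ hσ)
    (sectionBC_snd f g σ hσ) t₀ t₁ ht₁
    ⟨connectedComponentIn ((pullback.snd f g).base ⁻¹' {t₁}) ((sectionBC f g σ hσ).base t₁),
      connectedComponentIn_subset _ _, (hcomp t₁).2,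
      (fun Z' hZ' hZ'F hCZ' =>
        le_antisymm (hZ'.isPreirreducible.isPreconnected.subset_connectedComponentIn
          (hCZ' (mem_connectedComponentIn (hσT t₁))) hZ'F) hCZ'),
      mem_connectedComponentIn (hσT t₁), rfl⟩
  have hsub := hmain.2 (hcomp t₀).2
    ((hdimconst t₀ specializes_rfl).trans (hdimconst t₁ ht₁).symm)
  have hx'C : x' ∈ connectedComponentIn ((pullback.snd f g).base ⁻¹' {t₀})
      ((sectionBC f g σ hσ).base t₀) := by
    rw [(hcomp t₀).1]
    refine ⟨?_, ht₀.symm⟩
    show (pullback.fst f g).base x' ∈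
      connectedComponentIn (f.base ⁻¹' {g.base t₀}) (σ.base (g.base t₀))
    rw [hx'1, hgt₀]
    exact hx
  have hx'cl := hsub hx'C
  obtain ⟨ζ, hζ⟩ := QuasiSober.sober (hcomp t₁).2.closure isClosed_closure
  refine ⟨ζ, ?_, ?_⟩
  · rw [specializes_iff_mem_closure, hζ.def]
    exact hx'cl
  · -- `ζ` lies over `t₁`
    have h1 : (sectionBC f g σ hσ).base t₁ ∈ closure ({ζ} : Set ↥(pullback f g)) := by
      rw [hζ.def]
      exact subset_closure (mem_connectedComponentIn (hσT t₁))
    have h2 : ζ ⤳ (sectionBC f g σ hσ).base t₁ := specializes_iff_mem_closure.mpr h1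
    have h3 := h2.map (pullback.snd f g).continuous
    rw [hσT t₁] at h3
    have h4 : ζ ∈ closure (connectedComponentIn ((pullback.snd f g).base ⁻¹' {t₁})
        ((sectionBC f g σ hσ).base t₁)) := by
      rw [← hζ.def]
      exact subset_closure rfl
    have h5 : (pullback.snd f g).base ζ ∈ closure ({t₁} : Set T) := by
      have hsubset : connectedComponentIn ((pullback.snd f g).base ⁻¹' {t₁})
          ((sectionBC f g σ hσ).base t₁) ⊆ (pullback.snd f g).base ⁻¹' closure {t₁} :=
        (connectedComponentIn_subset _ _).trans (Set.preimage_mono subset_closure)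
      exact closure_minimal hsubset (isClosed_closure.preimage (pullback.snd f g).continuous) h4
    have h6 : t₁ ⤳ (pullback.snd f g).base ζ := specializes_iff_mem_closure.mpr h5
    exact (h3.antisymm h6).eq

end Groth.Agent.Lib.Helper22.UOa
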