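import Mathlib
import Groth.Prelude.Def_FDesc
import Groth.Agent.Lib.Helper22GIntF
import Groth.Agent.Lib.Helper14LocNoeth
import Groth.Agent.S9764

set_option autoImplicit false
set_option linter.style.haveILetI false
set_option linter.unusedSectionVars false
set_option linter.unusedVariables false
universe u
open AlgebraicGeometry CategoryTheory TopologicalSpace IsLocalRing Limits

namespace Groth.Agent.Lib.Helper22.UOb

open Groth.Agent.Lib.Helper22.GIntF

section P1

variable {X Y : Scheme.{u}} (f : X ⟶ Y) (y : Y)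

/-- the map from the base change of the fibre to the total space -/
noncomputable abbrev qK (K : Type u) [Field K]
    [Algebra (IsLocalRing.ResidueField (Y.presheaf.stalk y)) K] :
    FBase.bc (f.fiberToSpecResidueField y) K ⟶ X :=
  FBase.bcπ (f.fiberToSpecResidueField y) K ≫ f.fiberι y

/-- the point `Spec K ⟶ Y` -/
noncomputable abbrev mK (K : Type u) [Field K]
    [Algebra (IsLocalRing.ResidueField (Y.presheaf.stalk y)) K] :
    Spec (CommRingCat.of K) ⟶ Y :=
  Spec.map (CommRingCat.ofHom (algebraMap (IsLocalRing.ResidueField (Y.presheaf.stalk y)) K)) ≫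
    Y.fromSpecResidueField y

theorem isPullback_qK (K : Type u) [Field K]
    [Algebra (IsLocalRing.ResidueField (Y.presheaf.stalk y)) K] :
    IsPullback (qK f y K) (FBase.bcStr (f.fiberToSpecResidueField y) K) f (mK (Y := Y) y K) := by
  have h1 : IsPullback (FBase.bcπ (f.fiberToSpecResidueField y) K)
      (FBase.bcStr (f.fiberToSpecResidueField y) K) (f.fiberToSpecResidueField y)
      (Spec.map (CommRingCat.ofHom
        (algebraMap (IsLocalRing.ResidueField (Y.presheaf.stalk y)) K))) :=
    IsPullback.of_hasPullback _ _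
  have h2 : IsPullback (f.fiberι y) (f.fiberToSpecResidueField y) f (Y.fromSpecResidueField y) :=
    IsPullback.of_hasPullback _ _
  exact h1.paste_horiz h2

/-- **open pieces of fibres**: the preimage of an open `U` of `X` in the base change of the fibre
over `y` to `K` is the base change to `K` of the fibre of `U ⟶ Y` over `y`. -/
theorem isIrreducible_preimage_iff (U : X.Opens) (K : Type u) [Field K]
    [Algebra (IsLocalRing.ResidueField (Y.presheaf.stalk y)) K] :
    IsIrreducible ((qK f y K).base ⁻¹' (U : Set X)) ↔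
      IrreducibleSpace ↥(FBase.bc ((U.ι ≫ f).fiberToSpecResidueField y) K) := by
  let q := qK f y K
  let W : (FBase.bc (f.fiberToSpecResidueField y) K).Opens := q ⁻¹ᵁ U
  have hC : IsPullback (q ∣_ U) W.ι U.ι q := isPullback_morphismRestrict q U
  have hA := isPullback_qK f y K
  have hAC : IsPullback (q ∣_ U) (W.ι ≫ FBase.bcStr (f.fiberToSpecResidueField y) K) (U.ι ≫ f)
      (mK (Y := Y) y K) := hC.paste_vert hA
  have hB := isPullback_qK (U.ι ≫ f) y K
  let e : (W : Scheme.{u}) ≅ FBase.bc ((U.ι ≫ f).fiberToSpecResidueField y) K :=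
    hAC.isoIsPullback _ _ hB
  have hW : IsIrreducible ((qK f y K).base ⁻¹' (U : Set X)) ↔ IrreducibleSpace ↥(W : Scheme.{u}) := by
    rw [isIrreducible_iff_irreducibleSpace]
    rfl
  rw [hW]
  constructor
  · intro h
    exact irreducibleSpace_of_iso e
  · intro h
    exact irreducibleSpace_of_iso e.symm

/-- geometric irreducibility over a field, in terms of algebra structures -/
theorem geometricallyIrreducible_iff_forall {k : Type u} [Field k] {Z : Scheme.{u}}
    (φ : Z ⟶ Spec (CommRingCat.of k)) :
    GeometricallyIrreducible φ ↔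
      ∀ (K : Type u) [Field K] [Algebra k K], IrreducibleSpace ↥(FBase.bc φ K) := by
  constructor
  · intro h K _ _
    exact h.geometrically_irreducibleSpace (Spec.map (CommRingCat.ofHom (algebraMap k K)))
      (FBase.bcπ φ K) (FBase.bcStr φ K) (IsPullback.of_hasPullback _ _)
  · intro h
    refine ⟨fun K _ y W fst snd hpb => ?_⟩
    obtain ⟨ψ, rfl⟩ := Spec.map_surjective y
    letI : Algebra k K := ψ.hom.toAlgebra
    haveI := h K
    have e : W ≅ FBase.bc φ K := hpb.isoPullback
    exact irreducibleSpace_of_iso e.symm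

/-- **(P1)**: if the open `U` of `X` meets the fibre over `y` in the set `C`, then `C` is
geometrically irreducible (in the sense of preimages in all base changes of the fibre) iff the
fibre of `U ⟶ Y` over `y` is geometrically irreducible. -/
theorem forall_isIrreducible_preimage_iff (U : X.Opens) (C : Set X)
    (hC : (U : Set X) ∩ f.base ⁻¹' {y} = C) :
    (∀ (K : Type u) [Field K] [Algebra (IsLocalRing.ResidueField (Y.presheaf.stalk y)) K],
      IsIrreducible ((FBase.bcπ (f.fiberToSpecResidueField y) K ≫ f.fiberι y).base ⁻¹' C)) ↔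
    GeometricallyIrreducible ((U.ι ≫ f).fiberToSpecResidueField y) := by
  refine Iff.trans ?_ (geometricallyIrreducible_iff_forall
    (k := IsLocalRing.ResidueField (Y.presheaf.stalk y))
    ((U.ι ≫ f).fiberToSpecResidueField y)).symm
  have key : ∀ (K : Type u) [Field K] [Algebra (IsLocalRing.ResidueField (Y.presheaf.stalk y)) K],
      (qK f y K).base ⁻¹' C = (qK f y K).base ⁻¹' (U : Set X) := by
    intro K _ _
    ext z
    simp only [Set.mem_preimage]
    rw [← hC]
    constructor
    · intro h
      exact h.1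
    · intro h
      refine ⟨h, ?_⟩
      show f.base ((qK f y K).base z) = y
      have h1 : f.base ((f.fiberι y).base ((FBase.bcπ (f.fiberToSpecResidueField y) K).base z)) = y := by
        have := (f.range_fiberι y) ▸ Set.mem_range_self
          ((FBase.bcπ (f.fiberToSpecResidueField y) K).base z)
        exact this
      exact h1
  constructor
  · intro h K _ _
    rw [← isIrreducible_preimage_iff f y U K, ← key K]
    exact h K
  · intro h K _ _
    show IsIrreducible ((qK f y K).base ⁻¹' C)
    rw [key K, isIrreducible_preimage_iff f y U K]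
    exact h K

end P1

section Trace

variable {X Y : Scheme.{u}} (f : X ⟶ Y) [LocallyOfFiniteType f]

/-- the fibres of a morphism locally of finite type are locally connected. -/
theorem locallyConnectedSpace_fibre (y : Y) : LocallyConnectedSpace ↥(f.base ⁻¹' {y}) := by
  haveI : LocallyOfFiniteType (f.fiberToSpecResidueField y) :=
    MorphismProperty.pullback_snd (P := @LocallyOfFiniteType) f _ inferInstance
  haveI : IsLocallyNoetherian (f.fiber y) :=
    LocallyOfFiniteType.isLocallyNoetherian (f.fiberToSpecResidueField y)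
  haveI : LocallyConnectedSpace ↥(f.fiber y) := by
    apply Groth.Agent.Lib.Helper14.locallyConnectedSpace_of_locally_noetherian
    intro z
    obtain ⟨_, ⟨U₀, hU₀, rfl⟩, hzU₀, -⟩ :=
      (f.fiber y).isBasis_affineOpens.exists_subset_of_mem_open (Set.mem_univ z) isOpen_univ
    haveI : IsNoetherianRing Γ(f.fiber y, U₀) :=
      IsLocallyNoetherian.component_noetherian ⟨U₀, hU₀⟩
    haveI : NoetherianSpace {a // a ∈ (U₀ : Set ↥(f.fiber y))} :=
      noetherianSpace_of_isAffineOpen U₀ hU₀
    exact ⟨(U₀ : Set ↥(f.fiber y)), U₀.2.mem_nhds hzU₀, inferInstance⟩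
  exact (f.fiberHomeo y).symm.isOpenEmbedding.locallyConnectedSpace

/-- a connected component of a fibre is the trace of an open subset of the total space. -/
theorem exists_opens_inter_fibre_eq (y : Y) (x : X) (hx : f.base x = y) :
    ∃ U : X.Opens, (U : Set X) ∩ f.base ⁻¹' {y} = connectedComponentIn (f.base ⁻¹' {y}) x := by
  haveI := locallyConnectedSpace_fibre f y
  have hxF : x ∈ f.base ⁻¹' {y} := hx
  have hopen : IsOpen (connectedComponent (⟨x, hxF⟩ : ↥(f.base ⁻¹' {y}))) :=
    isOpen_connectedComponent
  obtain ⟨O, hO, hOeq⟩ := isOpen_induced_iff.mp hopen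
  refine ⟨⟨O, hO⟩, ?_⟩
  rw [connectedComponentIn_eq_image hxF, ← hOeq]
  ext z
  constructor
  · rintro ⟨hzO, hzF⟩
    exact ⟨⟨z, hzF⟩, hzO, rfl⟩
  · rintro ⟨w, hw, rfl⟩
    exact ⟨hw, w.2⟩

end Trace

section GIbc

variable {X Y X' Y' : Scheme.{u}} {f : X ⟶ Y} {f' : X' ⟶ Y'} {g' : X' ⟶ X} {g : Y' ⟶ Y}

/-- **base change of geometric irreducibility of a component of a fibre** (both directions). -/
theorem forall_isIrreducible_preimage_iff_of_isPullback [LocallyOfFiniteType f]
    (sq : IsPullback g' f' f g) (y' : Y') (x : X) (hx : f.base x = g.base y') (C' : Set X')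
    (hC' : C' = g'.base ⁻¹' (connectedComponentIn (f.base ⁻¹' {g.base y'}) x) ∩
      f'.base ⁻¹' {y'}) :
    (∀ (K : Type u) [Field K] [Algebra (IsLocalRing.ResidueField (Y'.presheaf.stalk y')) K],
      IsIrreducible ((FBase.bcπ (f'.fiberToSpecResidueField y') K ≫ f'.fiberι y').base ⁻¹' C')) ↔
    (∀ (K : Type u) [Field K] [Algebra (IsLocalRing.ResidueField (Y.presheaf.stalk (g.base y'))) K],
      IsIrreducible ((FBase.bcπ (f.fiberToSpecResidueField (g.base y')) K ≫
        f.fiberι (g.base y')).base ⁻¹' (connectedComponentIn (f.base ⁻¹' {g.base y'}) x))) := by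
  obtain ⟨U, hU⟩ := exists_opens_inter_fibre_eq f (g.base y') x hx
  let U' : X'.Opens := g' ⁻¹ᵁ U
  have hU' : (U' : Set X') ∩ f'.base ⁻¹' {y'} = C' := by
    rw [hC', ← hU]
    ext z
    simp only [Set.mem_inter_iff, Set.mem_preimage, Set.mem_singleton_iff]
    constructor
    · rintro ⟨hzU, hz⟩
      refine ⟨⟨hzU, ?_⟩, hz⟩
      rw [← Scheme.Hom.comp_apply, sq.w, Scheme.Hom.comp_apply, hz]
    · rintro ⟨⟨hzU, -⟩, hz⟩
      exact ⟨hzU, hz⟩
  rw [forall_isIrreducible_preimage_iff f' y' U' C' hU',
    forall_isIrreducible_preimage_iff f (g.base y') U _ hU]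
  -- base change of the open piece
  have hsqU : IsPullback (g' ∣_ U) (U'.ι ≫ f') (U.ι ≫ f) g :=
    (isPullback_morphismRestrict g' U).paste_vert sq
  have hS := Set.ext_iff.mp (Groth.Agent.S9764.result (U.ι ≫ f) g (U'.ι ≫ f') (g' ∣_ U) hsqU) y'
  exact hS

end GIbc

end Groth.Agent.Lib.Helper22.UOb
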