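import Mathlib
import Groth.Agent.Lib.Helper25IdCompGeom

set_option autoImplicit false
set_option linter.unusedSectionVars false

namespace Groth.Agent.Lib.Helper25.LocFT

universe u

section part0
open CategoryTheory CategoryTheory.Limits MonoidalCategory CartesianMonoidalCategory MonObj GrpObj AlgebraicGeometry

open Groth.Agent.Lib.Helper25.TopGrp Groth.Agent.Lib.Helper25.IdComp

section top
variable {X : Scheme.{u}}

/-- in a locally noetherian scheme every irreducible component contains a nonempty open subset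
of the ambient scheme (around its generic point). -/
lemma exists_isOpen_subset_of_mem_irreducibleComponents [IsLocallyNoetherian X] {T : Set X}
    (hT : T ∈ irreducibleComponents X) :
    ∃ O : Set X, IsOpen O ∧ O.Nonempty ∧ O ⊆ T := by
  have hTcl := isClosed_of_mem_irreducibleComponents _ hT
  let ξ := hT.1.genericPoint
  have hξ : IsGenericPoint ξ T := hT.1.isGenericPoint_genericPoint hTcl
  obtain ⟨_, ⟨U, hU, rfl⟩, hξU, -⟩ :=
    (X.isBasis_affineOpens).exists_subset_of_mem_open (Set.mem_univ ξ) isOpen_univ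
  have hU : IsAffineOpen U := hU
  have : IsNoetherianRing Γ(X, U) := IsLocallyNoetherian.component_noetherian ⟨U, hU⟩
  have hN : TopologicalSpace.NoetherianSpace U := noetherianSpace_of_isAffineOpen U hU
  let ξ' : U := ⟨ξ, hξU⟩
  let S : Set (Set U) := {M ∈ irreducibleComponents U | ξ' ∉ M}
  have hSfin : S.Finite :=
    (TopologicalSpace.NoetherianSpace.finite_irreducibleComponents (α := U)).subset
      (fun M hM => hM.1)
  have hFcl : IsClosed (⋃₀ S) := by
    rw [Set.sUnion_eq_biUnion]
    exact hSfin.isClosed_biUnion fun M hM => isClosed_of_mem_irreducibleComponents _ hM.1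
  let V' : Set U := (⋃₀ S)ᶜ
  have hV'open : IsOpen V' := hFcl.isOpen_compl
  have hξV' : ξ' ∈ V' := by
    rintro ⟨M, hM, hξM⟩
    exact hM.2 hξM
  refine ⟨Subtype.val '' V', U.isOpen.isOpenMap_subtype_val _ hV'open, ⟨ξ, ξ', hξV', rfl⟩, ?_⟩
  rintro _ ⟨v, hv, rfl⟩
  -- `v` lies in a component `M` of `U`, which must contain `ξ'`
  have hvM : v ∈ irreducibleComponent v := mem_irreducibleComponent
  have hM : irreducibleComponent v ∈ irreducibleComponents U :=
    irreducibleComponent_mem_irreducibleComponents v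
  have hξM : ξ' ∈ irreducibleComponent v := by
    by_contra h
    exact hv ⟨_, ⟨hM, h⟩, hvM⟩
  -- closure of the image of `M` in `X` is irreducible and contains `T`
  have hirr : IsIrreducible (closure (Subtype.val '' irreducibleComponent v) : Set X) :=
    (hM.1.image _ continuous_subtype_val.continuousOn).closure
  have hle : T ⊆ closure (Subtype.val '' irreducibleComponent v) := by
    rw [← hξ.def]
    exact closure_mono (Set.singleton_subset_iff.mpr ⟨ξ', hξM, rfl⟩)
  exact hT.2 hirr hle (subset_closure ⟨v, hvM, rfl⟩)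

end top

section idcomp
variable {k : Type u} [Field k] [IsAlgClosed k] {G : Over (Spec (CommRingCat.of k))} [GrpObj G]
  [LocallyOfFiniteType G.hom]

lemma isLocallyNoetherian_left : IsLocallyNoetherian G.left :=
  LocallyOfFiniteType.isLocallyNoetherian G.hom

/-- in the locally finite type case the classes `w · Z` (= irreducible = connected components)
are open. -/
theorem isOpen_sat_singleton (w : G.left) : IsOpen (sat ({w} : Set G.left)) := by
  have := isLocallyNoetherian_left (G := G)
  have hT : sat ({w} : Set G.left) ∈ irreducibleComponents G.left := by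
    rw [sat_singleton_eq_irreducibleComponent]
    exact irreducibleComponent_mem_irreducibleComponents w
  obtain ⟨O, hO, ⟨o, ho⟩, hOT⟩ := exists_isOpen_subset_of_mem_irreducibleComponents hT
  have h1 : sat O ⊆ sat ({w} : Set G.left) := by
    have := sat_mono hOT
    rwa [sat_sat] at this
  have h2 : sat ({w} : Set G.left) ⊆ sat O := by
    rw [← sat_singleton_eq_of_mem (hOT ho)]
    exact sat_mono (Set.singleton_subset_iff.mpr ho)
  rw [le_antisymm h2 h1]
  exact isOpen_sat hO

lemma isOpen_idComp : IsOpen (idComp G) := by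
  rw [← sat_singleton_ePt]; exact isOpen_sat_singleton _

end idcomp

end part0

section part1
open CategoryTheory CategoryTheory.Limits MonoidalCategory CartesianMonoidalCategory MonObj GrpObj AlgebraicGeometry

open Groth.Agent.Lib.Helper25.TopGrp Groth.Agent.Lib.Helper25.IdComp

section transl
variable {k : Type u} [Field k] {G : Over (Spec (CommRingCat.of k))} [GrpObj G]

/-- the point of a section -/
noncomputable def rpt (s : 𝟙_ (Over (Spec (CommRingCat.of k))) ⟶ G) : G.left :=
  s.left (IsLocalRing.closedPoint k)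

lemma left_apply_eq_rpt (s : 𝟙_ (Over (Spec (CommRingCat.of k))) ⟶ G)
    (q : (𝟙_ (Over (Spec (CommRingCat.of k)))).left) : s.left q = rpt s := by
  rw [rpt]
  congr 1
  exact Subsingleton.elim (α := Spec (CommRingCat.of k)) _ _

lemma toUnit_comp_left_apply {T : Over (Spec (CommRingCat.of k))}
    (s : 𝟙_ (Over (Spec (CommRingCat.of k))) ⟶ G) (t : T.left) :
    (toUnit T ≫ s).left t = rpt s := by
  rw [Over.comp_left, Scheme.Hom.comp_apply, left_apply_eq_rpt]

lemma rpt_one : rpt (1 : 𝟙_ (Over (Spec (CommRingCat.of k))) ⟶ G) = ePt G := one_left_apply G _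

/-- left translation by a rational point -/
noncomputable def τ (s : 𝟙_ (Over (Spec (CommRingCat.of k))) ⟶ G) : G ⟶ G :=
  (toUnit G ≫ s) * 𝟙 G

lemma comp_τ {T : Over (Spec (CommRingCat.of k))} (s : 𝟙_ (Over (Spec (CommRingCat.of k))) ⟶ G)
    (t : T ⟶ G) : t ≫ τ s = (toUnit T ≫ s) * t := by
  rw [τ, MonObj.comp_mul, Category.comp_id, ← Category.assoc]
  congr 2
  exact toUnit_unique _ _

lemma τ_one : τ (1 : 𝟙_ (Over (Spec (CommRingCat.of k))) ⟶ G) = 𝟙 G := by
  rw [τ, MonObj.comp_one, _root_.one_mul]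

lemma τ_comp_τ (s t : 𝟙_ (Over (Spec (CommRingCat.of k))) ⟶ G) : τ s ≫ τ t = τ (t * s) := by
  rw [comp_τ, τ, τ, MonObj.comp_mul, _root_.mul_assoc]

instance (s : 𝟙_ (Over (Spec (CommRingCat.of k))) ⟶ G) : IsIso (τ s) :=
  ⟨τ s⁻¹, by rw [τ_comp_τ, inv_mul_cancel, τ_one], by rw [τ_comp_τ, mul_inv_cancel, τ_one]⟩

instance (s : 𝟙_ (Over (Spec (CommRingCat.of k))) ⟶ G) : IsIso (τ s).left :=
  inferInstanceAs (IsIso ((Over.forget _).map (τ s)))

lemma τ_rpt (s t : 𝟙_ (Over (Spec (CommRingCat.of k))) ⟶ G) : (τ s).left (rpt t) = rpt (s * t) := by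
  have h1 : toUnit (𝟙_ (Over (Spec (CommRingCat.of k)))) = 𝟙 _ := toUnit_unique _ _
  have key : ∀ q : (𝟙_ (Over (Spec (CommRingCat.of k)))).left,
      (τ s).left (t.left q) = (s * t).left q := by
    intro q
    rw [← Scheme.Hom.comp_apply, ← Over.comp_left, comp_τ, h1, Category.id_comp]
  exact key _

lemma τ_left_apply_mem (s : 𝟙_ (Over (Spec (CommRingCat.of k))) ⟶ G) {A : Set G.left} {x : G.left}
    (hx : x ∈ A) : (τ s).left x ∈ pmul G {rpt s} A := by
  have := mul_left_apply_mem_pmul (toUnit G ≫ s) (𝟙 G) x (A := {rpt s}) (B := A)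
    (toUnit_comp_left_apply s x) hx
  exact this

end transl

section closedpt
variable {k : Type u} [Field k] [IsAlgClosed k] {G : Over (Spec (CommRingCat.of k))} [GrpObj G]
  [LocallyOfFiniteType G.hom]

lemma exists_section_of_isClosed (g : G.left) (hg : IsClosed ({g} : Set G.left)) :
    ∃ s : 𝟙_ (Over (Spec (CommRingCat.of k))) ⟶ G, rpt s = g :=
  ⟨Over.homMk (pointOfClosedPoint G.hom g hg) (pointOfClosedPoint_comp G.hom g hg),
    pointOfClosedPoint_apply G.hom g hg _⟩

lemma isClosed_singleton_rpt (s : 𝟙_ (Over (Spec (CommRingCat.of k))) ⟶ G) :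
    IsClosed ({rpt s} : Set G.left) :=
  ((pointEquivClosedPoint G.hom) ⟨s.left, Over.w s⟩).2

/-- a nonempty open subset contains a closed point. -/
lemma exists_isClosed_singleton_mem {O : Set G.left} (hO : IsOpen O) (hne : O.Nonempty) :
    ∃ h ∈ O, IsClosed ({h} : Set G.left) := by
  have : JacobsonSpace G.left := LocallyOfFiniteType.jacobsonSpace G.hom
  have h1 := JacobsonSpace.closure_inter_closedPoints_eq_closure hO.isLocallyClosed
  by_contra hcon
  push Not at hcon
  have : O ∩ closedPoints G.left = ∅ := by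
    ext x
    simp only [Set.mem_inter_iff, Set.mem_empty_iff_false, iff_false, not_and]
    exact fun hx hc => hcon x hx hc
  rw [this, closure_empty] at h1
  obtain ⟨o, ho⟩ := hne
  have : o ∈ closure O := subset_closure ho
  rw [← h1] at this
  exact this

end closedpt

end part1

section part2
open CategoryTheory CategoryTheory.Limits MonoidalCategory CartesianMonoidalCategory MonObj GrpObj AlgebraicGeometry

open Groth.Agent.Lib.Helper25.TopGrp Groth.Agent.Lib.Helper25.IdComp

section phi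
variable {k : Type u} [Field k] {G : Over (Spec (CommRingCat.of k))} [GrpObj G]

/-- `x ↦ x⁻¹ s` -/
noncomputable def φ (s : 𝟙_ (Over (Spec (CommRingCat.of k))) ⟶ G) : G ⟶ G :=
  (𝟙 G)⁻¹ * (toUnit G ≫ s)

lemma comp_φ {T : Over (Spec (CommRingCat.of k))} (s : 𝟙_ (Over (Spec (CommRingCat.of k))) ⟶ G)
    (t : T ⟶ G) : t ≫ φ s = t⁻¹ * (toUnit T ≫ s) := by
  rw [φ, MonObj.comp_mul, GrpObj.comp_inv, Category.comp_id, ← Category.assoc]
  congr 2
  exact toUnit_unique _ _

lemma φ_rpt (s t : 𝟙_ (Over (Spec (CommRingCat.of k))) ⟶ G) :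
    (φ s).left (rpt t) = rpt (t⁻¹ * s) := by
  have h1 : toUnit (𝟙_ (Over (Spec (CommRingCat.of k)))) = 𝟙 _ := toUnit_unique _ _
  have key : ∀ q : (𝟙_ (Over (Spec (CommRingCat.of k)))).left,
      (φ s).left (t.left q) = (t⁻¹ * s).left q := by
    intro q
    rw [← Scheme.Hom.comp_apply, ← Over.comp_left, comp_φ, h1, Category.id_comp]
  exact key _

end phi

section onecomp
variable {k : Type u} [Field k] [IsAlgClosed k] {G : Over (Spec (CommRingCat.of k))} [GrpObj G]
  [LocallyOfFiniteType G.hom]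

/-- finitely many closed points in one component lie in an affine open of that component. -/
theorem exists_affineOpen_of_subset_sat (S : Finset G.left)
    (hS : ∀ g ∈ S, IsClosed ({g} : Set G.left)) (w : G.left)
    (hw : ∀ g ∈ S, g ∈ sat ({w} : Set G.left)) :
    ∃ U : G.left.Opens, IsAffineOpen U ∧ (↑S ⊆ (U : Set G.left)) ∧
      (U : Set G.left) ⊆ sat ({w} : Set G.left) := by
  classical
  have hsec : ∀ g : G.left, ∃ s : 𝟙_ (Over (Spec (CommRingCat.of k))) ⟶ G, g ∈ S → rpt s = g := by
    intro g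
    by_cases h : g ∈ S
    · obtain ⟨s, hs⟩ := exists_section_of_isClosed g (hS g h)
      exact ⟨s, fun _ => hs⟩
    · exact ⟨1, fun h' => (h h').elim⟩
  choose sec hsec using hsec
  obtain ⟨_, ⟨U₀, hU₀, rfl⟩, heU₀, hU₀Z⟩ :=
    (G.left.isBasis_affineOpens).exists_subset_of_mem_open (ePt_mem_idComp G) isOpen_idComp
  have hU₀ : IsAffineOpen U₀ := hU₀
  let O : G.left → Set G.left := fun g => (φ (sec g)).left ⁻¹' (U₀ : Set G.left)
  have hOopen : ∀ g, IsOpen (O g) := fun g => U₀.isOpen.preimage (φ (sec g)).left.continuous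
  have hgO : ∀ g ∈ S, g ∈ O g := by
    intro g hg
    change (φ (sec g)).left g ∈ (U₀ : Set G.left)
    have h1 : (φ (sec g)).left (rpt (sec g)) = rpt ((sec g)⁻¹ * sec g) := φ_rpt _ _
    rw [hsec g hg, inv_mul_cancel, rpt_one] at h1
    rw [h1]; exact heU₀
  have hTirr := isIrreducible_sat_singleton w
  have hTopen := isOpen_sat_singleton w
  let 𝒰 : Finset (Set G.left) := S.image O
  have h𝒰open : ∀ u ∈ 𝒰, IsOpen u := by
    intro u hu
    obtain ⟨g, -, rfl⟩ := Finset.mem_image.mp hu
    exact hOopen g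
  have hne : (sat ({w} : Set G.left) ∩ ⋂₀ (𝒰 : Set (Set G.left))).Nonempty := by
    refine (isIrreducible_iff_sInter.mp hTirr) 𝒰 h𝒰open ?_
    intro u hu
    obtain ⟨g, hg, rfl⟩ := Finset.mem_image.mp hu
    exact ⟨g, hw g hg, hgO g hg⟩
  have hopen : IsOpen (sat ({w} : Set G.left) ∩ ⋂₀ (𝒰 : Set (Set G.left))) :=
    hTopen.inter (𝒰.finite_toSet.isOpen_sInter h𝒰open)
  obtain ⟨h, ⟨hhT, hh𝒰⟩, hhcl⟩ := exists_isClosed_singleton_mem hopen hne
  obtain ⟨sh, hsh⟩ := exists_section_of_isClosed h hhcl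
  refine ⟨(τ sh).left ''ᵁ U₀, hU₀.image_of_isOpenImmersion _, ?_, ?_⟩
  · intro g hg
    have hg : g ∈ S := hg
    have hhO : h ∈ O g := hh𝒰 (O g) (Finset.mem_coe.mpr (Finset.mem_image.mpr ⟨g, hg, rfl⟩))
    have h1 : (φ (sec g)).left (rpt sh) = rpt (sh⁻¹ * sec g) := φ_rpt _ _
    rw [hsh] at h1
    have h2 : (τ sh).left (rpt (sh⁻¹ * sec g)) = rpt (sh * (sh⁻¹ * sec g)) := τ_rpt _ _
    rw [mul_inv_cancel_left, hsec g hg, ← h1] at h2
    rw [Scheme.Hom.coe_image]
    exact ⟨_, hhO, h2⟩
  · rw [Scheme.Hom.coe_image]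
    rintro _ ⟨u, hu, rfl⟩
    have h1 := τ_left_apply_mem sh (hU₀Z hu)
    rw [hsh] at h1
    have h2 : pmul G {h} (idComp G) = sat ({w} : Set G.left) := sat_singleton_eq_of_mem hhT
    rw [← h2]; exact h1

/-- finitely many closed points lie in an affine open. -/
theorem exists_affineOpen_of_finset (S : Finset G.left)
    (hS : ∀ g ∈ S, IsClosed ({g} : Set G.left)) :
    ∃ U : G.left.Opens, IsAffineOpen U ∧ (↑S ⊆ (U : Set G.left)) ∧
      (U : Set G.left) ⊆ ⋃ g ∈ S, sat ({g} : Set G.left) := by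
  classical
  induction S using Finset.strongInduction with
  | H S ih =>
    by_cases hne : S.Nonempty
    · obtain ⟨g₀, hg₀⟩ := hne
      let S₁ := S.filter (fun g => g ∈ sat ({g₀} : Set G.left))
      let S₂ := S.filter (fun g => g ∉ sat ({g₀} : Set G.left))
      have hS₂ : S₂ ⊂ S := by
        refine Finset.filter_ssubset.mpr ⟨g₀, hg₀, ?_⟩
        simp only [not_not]
        exact subset_sat _ rfl
      obtain ⟨U₂, hU₂, hS₂U, hU₂sub⟩ := ih S₂ hS₂
        (fun g hg => hS g (Finset.mem_filter.mp hg).1)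
      obtain ⟨U₁, hU₁, hS₁U, hU₁sub⟩ := exists_affineOpen_of_subset_sat S₁
        (fun g hg => hS g (Finset.mem_filter.mp hg).1) g₀
        (fun g hg => (Finset.mem_filter.mp hg).2)
      have hdisj : Disjoint U₁ U₂ := by
        rw [← TopologicalSpace.Opens.coe_disjoint, Set.disjoint_left]
        intro x hx₁ hx₂
        have h1 := hU₁sub hx₁
        have h2 := hU₂sub hx₂
        simp only [Set.mem_iUnion] at h2
        obtain ⟨g, hg, hxg⟩ := h2
        have e1 := sat_singleton_eq_of_mem h1
        have e2 := sat_singleton_eq_of_mem hxg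
        have : g ∈ sat ({g₀} : Set G.left) := by
          rw [← e1, e2]; exact subset_sat _ rfl
        exact (Finset.mem_filter.mp hg).2 this
      refine ⟨U₁ ⊔ U₂, hU₁.sup_of_disjoint hU₂ hdisj, ?_, ?_⟩
      · intro g hg
        have hg : g ∈ S := hg
        by_cases h : g ∈ sat ({g₀} : Set G.left)
        · exact Or.inl (hS₁U (Finset.mem_coe.mpr (Finset.mem_filter.mpr ⟨hg, h⟩)))
        · exact Or.inr (hS₂U (Finset.mem_coe.mpr (Finset.mem_filter.mpr ⟨hg, h⟩)))
      · rintro x (hx | hx)
        · simp only [Set.mem_iUnion]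
          exact ⟨g₀, hg₀, hU₁sub hx⟩
        · have := hU₂sub hx
          simp only [Set.mem_iUnion] at this ⊢
          obtain ⟨g, hg, hxg⟩ := this
          exact ⟨g, (Finset.mem_filter.mp hg).1, hxg⟩
    · rw [Finset.not_nonempty_iff_eq_empty] at hne
      subst hne
      exact ⟨⊥, isAffineOpen_bot _, by simp, by simp⟩

theorem exists_affineOpen_containing_closedPoints (n : ℕ) (g : Fin n → G.left)
    (hg : ∀ i, IsClosed ({g i} : Set G.left)) :
    ∃ U : G.left.Opens, IsAffineOpen U ∧ ∀ i, g i ∈ U := by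
  classical
  obtain ⟨U, hU, hSU, -⟩ := exists_affineOpen_of_finset (Finset.univ.image g) (by
    intro x hx
    obtain ⟨i, -, rfl⟩ := Finset.mem_image.mp hx
    exact hg i)
  exact ⟨U, hU, fun i => hSU (Finset.mem_coe.mpr (Finset.mem_image.mpr ⟨i, Finset.mem_univ _, rfl⟩))⟩

end onecomp

end part2

end Groth.Agent.Lib.Helper25.LocFT
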