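import Mathlib
import Groth.Agent.Lib.Helper25LocFT

set_option autoImplicit false
set_option linter.unusedSectionVars false

namespace Groth.Agent.Lib.Helper25.LocFT

universe u

section part0
open CategoryTheory CategoryTheory.Limits MonoidalCategory CartesianMonoidalCategory MonObj GrpObj AlgebraicGeometry

open Groth.Agent.Lib.Helper25.TopGrp Groth.Agent.Lib.Helper25.IdComp

section algclosed
variable {k : Type u} [Field k] [IsAlgClosed k] {G : Over (Spec (CommRingCat.of k))} [GrpObj G]

lemma isCompact_sat_singleton (w : G.left) : IsCompact (sat ({w} : Set G.left)) := by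
  obtain ⟨_, ⟨U, hU, rfl⟩, hwU, -⟩ :=
    (G.left.isBasis_affineOpens).exists_subset_of_mem_open (Set.mem_univ w) isOpen_univ
  have hU : IsAffineOpen U := hU
  exact (isCompact_sat U hU.isCompact).of_isClosed_subset (isClosed_sat_singleton w)
    (sat_mono (Set.singleton_subset_iff.mpr hwU))

end algclosed

section field
variable {k : Type u} [Field k] (G : Over (Spec (CommRingCat.of k))) [GrpObj G]
  [LocallyOfFiniteType G.hom]

instance : LocallyOfFiniteType (bc G).hom :=
  inferInstanceAs (LocallyOfFiniteType (pullback.snd G.hom (bcMap k)))

/-- connected components of a locally finite type group scheme over a field are quasi-compact. -/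
theorem isCompact_connectedComponent_field (g : G.left) : IsCompact (connectedComponent g) := by
  obtain ⟨w, rfl⟩ := bcProj_surjective G g
  let T : Set (bc G).left := sat ({w} : Set (bc G).left)
  have hTo : IsOpen T := isOpen_sat_singleton w
  have hTc : IsClosed T := isClosed_sat_singleton w
  have hTcomp : IsCompact T := isCompact_sat_singleton w
  have hTirr : IsIrreducible T := isIrreducible_sat_singleton w
  have hwT : w ∈ T := subset_sat _ rfl
  have hclopen : IsClopen (bcProj G '' T) :=
    ⟨bcProj_isClosedMap G T hTc, bcProj_isOpenMap G T hTo⟩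
  have hpre : _root_.IsPreconnected (bcProj G '' T) :=
    hTirr.2.isPreconnected.image _ (bcProj G).continuous.continuousOn
  have heq : connectedComponent (bcProj G w) = bcProj G '' T :=
    le_antisymm (hclopen.connectedComponent_subset ⟨w, hwT, rfl⟩)
      (hpre.subset_connectedComponent ⟨w, hwT, rfl⟩)
  rw [heq]
  exact hTcomp.image (bcProj G).continuous

end field

section artin
variable (A : Type u) [CommRing A] [IsArtinianRing A] [IsLocalRing A]

/-- `Spec κ ⟶ Spec A` -/
noncomputable def resMap :
    Spec (CommRingCat.of (IsLocalRing.ResidueField A)) ⟶ Spec (CommRingCat.of A) :=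
  Spec.map (CommRingCat.ofHom (IsLocalRing.residue A))

instance : IsClosedImmersion (resMap A) :=
  IsClosedImmersion.spec_of_surjective _ Ideal.Quotient.mk_surjective

instance : Surjective (resMap A) := by
  have hprime : ∀ p : Ideal A, p.IsPrime → p = IsLocalRing.maximalIdeal A := fun p hp =>
    IsLocalRing.eq_maximalIdeal (IsArtinianRing.isMaximal_of_isPrime p)
  constructor
  intro x
  obtain ⟨y⟩ : Nonempty (Spec (CommRingCat.of (IsLocalRing.ResidueField A))) := inferInstance
  refine ⟨y, ?_⟩
  have hsub : ∀ z w : PrimeSpectrum A, z = w := fun z w =>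
    PrimeSpectrum.ext ((hprime _ z.2).trans (hprime _ w.2).symm)
  exact hsub _ _

variable {A}

theorem isCompact_connectedComponent_artin (G : Over (Spec (CommRingCat.of A))) [GrpObj G]
    [LocallyOfFiniteType G.hom] (g : G.left) : IsCompact (connectedComponent g) := by
  let G' : Over (Spec (CommRingCat.of (IsLocalRing.ResidueField A))) :=
    (Over.pullback (resMap A)).obj G
  let _ : GrpObj G' := Functor.grpObjObj
  have : LocallyOfFiniteType G'.hom :=
    inferInstanceAs (LocallyOfFiniteType (pullback.snd G.hom (resMap A)))
  let j : G'.left ⟶ G.left := pullback.fst G.hom (resMap A)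
  have hj1 : IsClosedImmersion j := inferInstanceAs (IsClosedImmersion (pullback.fst G.hom (resMap A)))
  have hj2 : Surjective j := inferInstanceAs (Surjective (pullback.fst G.hom (resMap A)))
  let h : G'.left ≃ₜ G.left := j.isEmbedding.toHomeomorphOfSurjective hj2.surj
  obtain ⟨g', rfl⟩ := hj2.surj g
  have hsub : connectedComponent (j g') ⊆ j '' connectedComponent g' := by
    intro y hy
    have h1 := h.symm.continuous.image_connectedComponent_subset (h g') ⟨y, hy, rfl⟩
    rw [h.symm_apply_apply] at h1
    exact ⟨h.symm y, h1, h.apply_symm_apply y⟩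
  exact ((isCompact_connectedComponent_field G' g').image j.continuous).of_isClosed_subset
    isClosed_connectedComponent hsub

end artin

end part0

end Groth.Agent.Lib.Helper25.LocFT
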