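import Mathlib
import Groth.Agent.Lib.Helper25LocFTArtin

set_option autoImplicit false
set_option linter.unusedSectionVars false

namespace Groth.Agent.Lib.Helper25.LocFT

universe u

section part0
open CategoryTheory CategoryTheory.Limits MonoidalCategory CartesianMonoidalCategory MonObj GrpObj AlgebraicGeometry

open Groth.Agent.Lib.Helper25.TopGrp Groth.Agent.Lib.Helper25.IdComp

section algclosed
variable {k : Type u} [Field k] {G : Over (Spec (CommRingCat.of k))} [GrpObj G]

lemma pmul_mono {A A' B B' : Set G.left} (hA : A ⊆ A') (hB : B ⊆ B') :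
    pmul G A B ⊆ pmul G A' B' :=
  Set.image_mono (Set.inter_subset_inter (Set.preimage_mono hA) (Set.preimage_mono hB))

lemma inv_left_inv_left (x : G.left) : ι[G].left (ι[G].left x) = x := by
  rw [← Scheme.Hom.comp_apply, ← Over.comp_left, GrpObj.inv_comp_inv]
  rfl

variable [IsAlgClosed k]

theorem idComp_subset_pmul_inv (U : Set G.left) (hU : IsOpen U) (hne : U.Nonempty)
    (hUZ : U ⊆ idComp G) : idComp G ⊆ pmul G U (ι[G].left '' U) := by
  let V : Set G.left := U ∩ ι[G].left ⁻¹' U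
  have hV : IsOpen V := hU.inter (hU.preimage ι[G].left.continuous)
  obtain ⟨u, hu⟩ := hne
  have h1 : (idComp G ∩ U).Nonempty := ⟨u, hUZ hu, hu⟩
  have h2 : (idComp G ∩ ι[G].left ⁻¹' U).Nonempty :=
    ⟨ι[G].left u, inv_image_idComp_subset ⟨u, hUZ hu, rfl⟩, by
      rw [Set.mem_preimage, inv_left_inv_left]; exact hu⟩
  obtain ⟨v, hvZ, hvV⟩ := (isIrreducible_idComp G).2 U (ι[G].left ⁻¹' U) hU
    (hU.preimage ι[G].left.continuous) h1 h2
  have h3 := idComp_subset_pmul_inter V hV ⟨v, hvV, hvZ⟩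
  refine h3.trans (pmul_mono (fun x hx => hx.1.1) ?_)
  rintro x ⟨⟨-, hx⟩, -⟩
  exact ⟨ι[G].left x, hx, inv_left_inv_left x⟩

theorem connectedComponent_subset_range_div (U : G.left.Opens)
    (hne : (U : Set G.left).Nonempty)
    (hU : (U : Set G.left) ⊆ connectedComponent (ePt G)) :
    connectedComponent (ePt G) ⊆ Set.range
      ((((Over.homMk U.ι rfl : Over.mk (U.ι ≫ G.hom) ⟶ G) ⊗ₘ
          ((Over.homMk U.ι rfl : Over.mk (U.ι ≫ G.hom) ⟶ G) ≫ ι[G])) ≫ μ[G]).left) := by
  rw [connectedComponent_ePt] at hU ⊢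
  rw [← pmul_range_range]
  have e1 : Set.range (Over.homMk U.ι rfl : Over.mk (U.ι ≫ G.hom) ⟶ G).left = (U : Set G.left) := by
    exact Scheme.Opens.range_ι U
  have e2 : Set.range ((Over.homMk U.ι rfl : Over.mk (U.ι ≫ G.hom) ⟶ G) ≫ ι[G]).left =
      ι[G].left '' (U : Set G.left) := by
    rw [Over.comp_left, Scheme.Hom.comp_base, TopCat.coe_comp, Set.range_comp, e1]
  rw [e1, e2]
  exact idComp_subset_pmul_inv (U : Set G.left) U.isOpen hne hU

end algclosed

end part0

end Groth.Agent.Lib.Helper25.LocFT
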