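import Mathlib
import Groth.Agent.Lib.Helper25LocFTDiv
import Groth.Agent.Lib.Helper25SubGrp

set_option autoImplicit false
set_option linter.unusedSectionVars false

namespace Groth.Agent.Lib.Helper25.IdComp0

universe u

section part0
open CategoryTheory CategoryTheory.Limits MonoidalCategory CartesianMonoidalCategory MonObj GrpObj AlgebraicGeometry

open Groth.Agent.Lib.Helper25.TopGrp Groth.Agent.Lib.Helper25.IdComp

section algclosed
variable {k : Type u} [Field k] [IsAlgClosed k] {G : Over (Spec (CommRingCat.of k))} [GrpObj G]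

/-- over an algebraically closed field the identity component is an intersection of clopen
subsets. -/
lemma exists_isClopen_not_mem {x : G.left} (hxZ : x ∉ idComp G) :
    ∃ W : G.left.Opens, IsClosed (W : Set G.left) ∧ idComp G ⊆ W ∧ x ∉ W := by
  have hdisj : idComp G ⊆ (sat ({x} : Set G.left))ᶜ := by
    intro z hz hzx
    have h1 : sat ({z} : Set G.left) = idComp G :=
      sat_singleton_eq (irreducibleComponent_mem_irreducibleComponents (ePt G)) hz
    have h2 := sat_singleton_eq_of_mem hzx
    rw [h1] at h2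
    exact hxZ (h2 ▸ subset_sat _ rfl)
  obtain ⟨V, hVc, hZV, hVO⟩ := exists_isCompact_opens_between (idComp G) _ isCompact_idComp
    (isClosed_sat_singleton x).isOpen_compl hdisj
  let W : G.left.Opens := ⟨sat (V : Set G.left), isOpen_sat V.isOpen⟩
  have hWc : IsCompact (W : Set G.left) := isCompact_sat V hVc
  have hWsat : sat (W : Set G.left) = W := sat_sat _
  have hWx : (W : Set G.left) ⊆ (sat ({x} : Set G.left))ᶜ := by
    have h1 := sat_mono hVO
    rwa [sat_compl_of_sat_eq (sat_sat _)] at h1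
  have hWs : StableUnderSpecialization (W : Set G.left) := by
    intro w y hwy hw
    obtain ⟨M, hM, hsub⟩ := exists_mem_irreducibleComponents_subset_of_isIrreducible
      (closure ({w} : Set G.left)) isIrreducible_singleton.closure
    have hwM : w ∈ M := hsub (subset_closure rfl)
    have h1 : sat ({w} : Set G.left) = M := sat_singleton_eq hM hwM
    have h2 : sat ({w} : Set G.left) ⊆ sat (W : Set G.left) :=
      sat_mono (Set.singleton_subset_iff.mpr hw)
    rw [hWsat] at h2
    exact h2 (h1 ▸ hsub hwy.mem_closure)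
  have := quasiSeparatedSpace_left G
  have hWcl : IsClosed (W : Set G.left) :=
    isClosed_of_isCompact_of_stableUnderSpecialization W hWc hWs
  exact ⟨W, hWcl, fun z hz => subset_sat _ (hZV hz), fun hxW => hWx hxW (subset_sat _ rfl)⟩

end algclosed

section field
variable {k : Type u} [Field k] {G : Over (Spec (CommRingCat.of k))} [GrpObj G]

/-- over any field the connected component of the identity is an intersection of clopen
subsets. -/
lemma exists_isClopen_not_mem_field {x : G.left} (hx : x ∉ connectedComponent (ePt G)) :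
    ∃ W : G.left.Opens, IsClosed (W : Set G.left) ∧ ePt G ∈ W ∧ x ∉ W := by
  obtain ⟨x', rfl⟩ := bcProj_surjective G x
  have hx' : x' ∉ idComp (bc G) := by
    intro h
    apply hx
    rw [connectedComponent_ePt_eq_image]
    exact ⟨x', h, rfl⟩
  obtain ⟨W', hW'cl, hZW', hx'W'⟩ := exists_isClopen_not_mem hx'
  have hopen : IsOpen (bcProj G '' (W' : Set (bc G).left)ᶜ)ᶜ :=
    (bcProj_isClosedMap G _ W'.isOpen.isClosed_compl).isOpen_compl
  refine ⟨⟨_, hopen⟩, ?_, ?_, ?_⟩
  · exact (bcProj_isOpenMap G _ hW'cl.isOpen_compl).isClosed_compl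
  · rintro ⟨y, hy, hye⟩
    have := bcProj_fiber_ePt G y hye
    rw [this] at hy
    exact hy (hZW' (ePt_mem_idComp _))
  · intro h
    exact h ⟨x', hx'W', rfl⟩

end field

end part0

section part1
open CategoryTheory CategoryTheory.Limits AlgebraicGeometry

section scheme
variable {X : Scheme.{u}}

lemma quasiCompact_ι_of_isClosed (W : X.Opens) (hW : IsClosed (W : Set X)) : QuasiCompact W.ι := by
  constructor
  intro U _ hUc
  have : Topology.IsClosedEmbedding W.ι :=
    ⟨W.ι.isEmbedding, by rw [Scheme.Opens.range_ι]; exact hW⟩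
  exact this.isCompact_preimage hUc

variable (e : X)

/-- clopen neighbourhoods of a point -/
abbrev ClopenNhd : Type u := {W : X.Opens // IsClosed (W : Set X) ∧ e ∈ W}

instance : Nonempty (ClopenNhd e) := ⟨⟨⊤, by simp, trivial⟩⟩

instance (W : ClopenNhd e) : QuasiCompact W.1.ι := quasiCompact_ι_of_isClosed _ W.2.1

/-- the ideal sheaf of the quasi-component of `e`, with its flat scheme structure. -/
noncomputable def qcIdeal : X.IdealSheafData := ⨆ W : ClopenNhd e, W.1.ι.ker

lemma directed_ker : Directed (· ≤ ·) (fun W : ClopenNhd e => W.1.ι.ker) := by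
  intro W₁ W₂
  refine ⟨⟨W₁.1 ⊓ W₂.1, W₁.2.1.inter W₂.2.1, W₁.2.2, W₂.2.2⟩, ?_, ?_⟩
  · have : (W₁.1 ⊓ W₂.1).ι = X.homOfLE inf_le_left ≫ W₁.1.ι := (Scheme.homOfLE_ι _ _).symm
    change W₁.1.ι.ker ≤ (W₁.1 ⊓ W₂.1).ι.ker
    rw [this]
    exact Scheme.Hom.le_ker_comp _ _
  · have : (W₁.1 ⊓ W₂.1).ι = X.homOfLE inf_le_right ≫ W₂.1.ι := (Scheme.homOfLE_ι _ _).symm
    change W₂.1.ι.ker ≤ (W₁.1 ⊓ W₂.1).ι.ker
    rw [this]
    exact Scheme.Hom.le_ker_comp _ _

lemma mem_qcIdeal_ideal_iff (U : X.affineOpens) (s : Γ(X, U)) :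
    s ∈ (qcIdeal e).ideal U ↔ ∃ W : ClopenNhd e, (W.1.ι.app U).hom s = 0 := by
  have h1 : (qcIdeal e).ideal U = ⨆ W : ClopenNhd e, W.1.ι.ker.ideal U := by
    rw [qcIdeal, Scheme.IdealSheafData.ideal_iSup, iSup_apply]
  rw [h1, Submodule.mem_iSup_of_directed]
  · constructor
    · rintro ⟨W, hW⟩
      rw [Scheme.Hom.ker_apply] at hW
      exact ⟨W, hW⟩
    · rintro ⟨W, hW⟩
      refine ⟨W, ?_⟩
      rw [Scheme.Hom.ker_apply]
      exact hW
  · intro W₁ W₂
    obtain ⟨W₃, h1, h2⟩ := directed_ker e W₁ W₂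
    exact ⟨W₃, h1 U, h2 U⟩

lemma support_ker_ι (W : ClopenNhd e) : (W.1.ι.ker.support : Set X) = W.1 := by
  rw [Scheme.Hom.support_ker, Scheme.Opens.range_ι, W.2.1.closure_eq]

lemma support_qcIdeal : ((qcIdeal e).support : Set X) = ⋂ W : ClopenNhd e, (W.1 : Set X) := by
  apply le_antisymm
  · intro x hx
    rw [Set.mem_iInter]
    intro W
    rw [← support_ker_ι e W]
    exact Scheme.IdealSheafData.support_antitone (le_iSup (fun W : ClopenNhd e => W.1.ι.ker) W) hx
  · intro x hx
    rw [Set.mem_iInter] at hx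
    obtain ⟨_, ⟨U, hU, rfl⟩, hxU, -⟩ :=
      (X.isBasis_affineOpens).exists_subset_of_mem_open (Set.mem_univ x) isOpen_univ
    change x ∈ (qcIdeal e).support
    rw [Scheme.IdealSheafData.mem_support_iff_of_mem (U := ⟨U, hU⟩) hxU,
      Scheme.mem_zeroLocus_iff]
    intro s hs
    obtain ⟨W, hW⟩ := (mem_qcIdeal_ideal_iff e ⟨U, hU⟩ s).mp hs
    have hxW : x ∈ (W.1.ι.ker.support : Set X) := by rw [support_ker_ι]; exact hx W
    have := (Scheme.IdealSheafData.mem_support_iff_of_mem (I := W.1.ι.ker) (U := ⟨U, hU⟩) hxU).mp hxW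
    rw [Scheme.mem_zeroLocus_iff] at this
    refine this s ?_
    rw [SetLike.mem_coe, Scheme.Hom.ker_apply]
    exact hW

end scheme

end part1

section part2
open CategoryTheory CategoryTheory.Limits AlgebraicGeometry

section scheme
variable {X : Scheme.{u}} (e : X)

/-- universal property of the quasi-component subscheme. -/
lemma exists_lift_qc {T : Scheme.{u}} (u : T ⟶ X)
    (h : ∀ W : ClopenNhd e, Set.range u ⊆ (W.1 : Set X)) :
    ∃ u' : T ⟶ (qcIdeal e).subscheme, u' ≫ (qcIdeal e).subschemeι = u := by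
  have hle : qcIdeal e ≤ u.ker := by
    refine iSup_le fun W => ?_
    have hfac : IsOpenImmersion.lift W.1.ι u (by rw [Scheme.Opens.range_ι]; exact h W) ≫ W.1.ι = u :=
      IsOpenImmersion.lift_fac _ _ _
    rw [← hfac]
    exact Scheme.Hom.le_ker_comp _ _
  exact ⟨u.toImage ≫ Scheme.IdealSheafData.inclusion hle, by
    rw [Category.assoc, Scheme.IdealSheafData.inclusion_subschemeι, Scheme.Hom.toImage_imageι]⟩

/-- the quasi-component subscheme has the same local rings as the ambient scheme. -/
theorem stalkMap_injective_qc (y : (qcIdeal e).subscheme) :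
    Function.Injective ((qcIdeal e).subschemeι.stalkMap y) := by
  let I := qcIdeal e
  let i := I.subschemeι
  rw [injective_iff_map_eq_zero]
  intro a ha
  -- represent `a` by a section over an affine open
  obtain ⟨U₀, hxU₀, s₀, rfl⟩ := X.presheaf.exists_germ_eq a
  obtain ⟨_, ⟨U, hU, rfl⟩, hxU, hUU₀⟩ :=
    (X.isBasis_affineOpens).exists_subset_of_mem_open hxU₀ U₀.isOpen
  have hU : IsAffineOpen U := hU
  let s : Γ(X, U) := X.presheaf.map (homOfLE hUU₀).op s₀
  have hs : X.presheaf.germ U (i y) hxU s = X.presheaf.germ U₀ (i y) hxU₀ s₀ :=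
    X.presheaf.germ_res_apply (homOfLE hUU₀) (i y) hxU s₀
  rw [← hs] at ha ⊢
  rw [Scheme.Hom.germ_stalkMap_apply] at ha
  -- the image vanishes on a neighbourhood
  obtain ⟨V', hyV', iU, iV, hV'⟩ := I.subscheme.presheaf.germ_eq (U := i ⁻¹ᵁ U) (V := i ⁻¹ᵁ U)
    y hxU hxU ((i.app U).hom s) 0
    (by rw [ha, map_zero])
  rw [map_zero] at hV'
  -- `V'` is the preimage of an open of `X`
  obtain ⟨V, hVopen, hVV'⟩ := i.isEmbedding.isInducing.isOpen_iff.mp V'.isOpen
  have hxV : i y ∈ V := by
    have : y ∈ i ⁻¹' V := by rw [hVV']; exact hyV'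
    exact this
  obtain ⟨f, hfV, hxf⟩ := hU.exists_basicOpen_le (V := ⟨V, hVopen⟩) ⟨i y, hxV⟩ hxU
  -- restrict to the basic open
  let D : X.affineOpens := X.affineBasicOpen (U := ⟨U, hU⟩) f
  have hDU : (D : X.Opens) ≤ U := X.basicOpen_le f
  let sD : Γ(X, D) := X.presheaf.map (homOfLE hDU).op s
  have hDV' : i ⁻¹ᵁ (D : X.Opens) ≤ V' := by
    intro z hz
    have : z ∈ i ⁻¹' V := hfV hz
    rw [hVV'] at this
    exact this
  have hsD : (i.app D).hom sD = 0 := by
    have hnat : (i.app D).hom sD =
        I.subscheme.presheaf.map (homOfLE (show i ⁻¹ᵁ (D : X.Opens) ≤ i ⁻¹ᵁ U from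
          fun z hz => hDU hz)).op ((i.app U).hom s) := by
      have := i.naturality (homOfLE hDU).op
      exact congr($(this).hom s)
    rw [hnat]
    have h2 : (homOfLE (show i ⁻¹ᵁ (D : X.Opens) ≤ i ⁻¹ᵁ U from fun z hz => hDU hz)) =
        homOfLE hDV' ≫ iU := rfl
    rw [h2, op_comp, Functor.map_comp, CommRingCat.comp_apply, hV', map_zero]
  have hmem : sD ∈ I.ideal D := by
    rw [← Scheme.IdealSheafData.ker_subschemeι_app]
    exact hsD
  obtain ⟨W, hW⟩ := (mem_qcIdeal_ideal_iff e D sD).mp hmem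
  -- the point lies in `W`
  have hxW : i y ∈ (W.1 : Set X) := by
    have : i y ∈ (I.support : Set X) := by
      rw [← Scheme.IdealSheafData.range_subschemeι]; exact ⟨y, rfl⟩
    rw [support_qcIdeal, Set.mem_iInter] at this
    exact this W
  let x' : ↥(W.1.toScheme) := ⟨i y, hxW⟩
  have hx' : W.1.ι x' = i y := rfl
  have hxD : i y ∈ (D : X.Opens) := hxf
  have hxD' : W.1.ι x' ∈ (D : X.Opens) := hxf
  have hgerm : X.presheaf.germ D (i y) hxD sD = X.presheaf.germ U (i y) hxU s :=
    X.presheaf.germ_res_apply (homOfLE hDU) (i y) hxD s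
  rw [← hgerm]
  have h3 : W.1.ι.stalkMap x' (X.presheaf.germ D (W.1.ι x') hxD' sD) = 0 := by
    refine (Scheme.Hom.germ_stalkMap_apply W.1.ι D x' hxD' sD).trans ?_
    have hW' : (W.1.ι.app D) sD = 0 := hW
    rw [hW', map_zero]
  have hinj : Function.Injective (W.1.ι.stalkMap x') :=
    (ConcreteCategory.bijective_of_isIso (W.1.ι.stalkMap x')).1
  exact hinj (h3.trans (map_zero _).symm)

theorem flat_subschemeι_qc : Flat (qcIdeal e).subschemeι := by
  apply Flat.of_stalkMap
  intro y
  exact RingHom.Flat.of_bijective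
    ⟨stalkMap_injective_qc e y, (qcIdeal e).subschemeι.stalkMap_surjective y⟩

end scheme

end part2

section part3
open CategoryTheory CategoryTheory.Limits MonoidalCategory CartesianMonoidalCategory MonObj GrpObj AlgebraicGeometry

open Groth.Agent.Lib.Helper25.TopGrp Groth.Agent.Lib.Helper25.IdComp Groth.Agent.Lib.Helper25.SubGrp

section field
variable {k : Type u} [Field k] (G : Over (Spec (CommRingCat.of k))) [GrpObj G]

/-- the underlying scheme of `G⁰`. -/
noncomputable def G0Scheme : Scheme.{u} := (qcIdeal (ePt G)).subscheme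

/-- the closed immersion `G⁰ ⟶ G` of schemes. -/
noncomputable def G0ι : G0Scheme G ⟶ G.left := (qcIdeal (ePt G)).subschemeι

instance : IsClosedImmersion (G0ι G) :=
  inferInstanceAs (IsClosedImmersion (qcIdeal (ePt G)).subschemeι)

instance : Flat (G0ι G) := flat_subschemeι_qc (ePt G)

lemma range_G0ι : Set.range (G0ι G) = connectedComponent (ePt G) := by
  have h0 : Set.range (G0ι G) = ((qcIdeal (ePt G)).support : Set G.left) :=
    (qcIdeal (ePt G)).range_subschemeι
  rw [h0, support_qcIdeal]
  apply le_antisymm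
  · intro x hx
    rw [Set.mem_iInter] at hx
    by_contra hxC
    obtain ⟨W, hWcl, heW, hxW⟩ := exists_isClopen_not_mem_field hxC
    exact hxW (hx ⟨W, hWcl, heW⟩)
  · intro x hx
    rw [Set.mem_iInter]
    intro W
    exact IsClopen.connectedComponent_subset (s := (W.1 : Set G.left)) ⟨W.2.1, W.1.isOpen⟩ W.2.2 hx

lemma exists_lift_G0 {T : Scheme.{u}} (u : T ⟶ G.left)
    (h : Set.range u ⊆ connectedComponent (ePt G)) : ∃ u' : T ⟶ G0Scheme G, u' ≫ G0ι G = u := by
  refine exists_lift_qc (ePt G) u fun W => h.trans ?_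
  exact IsClopen.connectedComponent_subset (s := (W.1 : Set G.left)) ⟨W.2.1, W.1.isOpen⟩ W.2.2

/-- `G⁰` as an object over the base field. -/
noncomputable def G0 : Over (Spec (CommRingCat.of k)) := Over.mk (G0ι G ≫ G.hom)

/-- the inclusion `G⁰ ⟶ G`. -/
noncomputable def G0incl : G0 G ⟶ G := Over.homMk (G0ι G) rfl

instance : Mono (G0incl G) := by
  have : Mono (G0incl G).left := inferInstanceAs (Mono (G0ι G))
  exact Over.mono_of_mono_left _

lemma exists_lift_G0_over {T : Over (Spec (CommRingCat.of k))} (u : T ⟶ G)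
    (h : Set.range u.left ⊆ connectedComponent (ePt G)) : ∃ u' : T ⟶ G0 G, u' ≫ G0incl G = u := by
  obtain ⟨u', hu'⟩ := exists_lift_G0 G u.left h
  refine ⟨Over.homMk u' ?_, ?_⟩
  · change u' ≫ G0ι G ≫ G.hom = T.hom
    rw [← Category.assoc, hu', Over.w]
  · ext
    exact hu'

lemma subset_connectedComponent_of_isIrreducible {A : Set G.left} (hA : IsIrreducible A)
    (he : ePt G ∈ A) : A ⊆ connectedComponent (ePt G) :=
  hA.2.isPreconnected.subset_connectedComponent he

lemma connectedComponent_mem_irreducibleComponents :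
    connectedComponent (ePt G) ∈ irreducibleComponents G.left :=
  ⟨isIrreducible_connectedComponent_ePt G, fun _ hA hCA =>
    subset_connectedComponent_of_isIrreducible G hA (hCA mem_connectedComponent)⟩

instance : GeometricallyIrreducible (G0 G).hom :=
  geometricallyIrreducible_component_through_unit (G0Scheme G) (G0ι G)
    (by rw [range_G0ι]; exact connectedComponent_mem_irreducibleComponents G)
    (by rw [range_G0ι]; exact mem_connectedComponent)

instance : IrreducibleSpace (G0 G).left := by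
  have h1 : IrreducibleSpace (connectedComponent (ePt G)) :=
    Subtype.irreducibleSpace (isIrreducible_connectedComponent_ePt G)
  let e : ↑(G0Scheme G) ≃ₜ Set.range (G0ι G) := (G0ι G).isEmbedding.toHomeomorph
  have h3 : IrreducibleSpace (Set.range (G0ι G)) := by rw [range_G0ι]; exact h1
  exact e.irreducibleSpace_iff.mpr h3

instance : CompactSpace (G0 G).left := by
  change CompactSpace (G0Scheme G)
  rw [← isCompact_univ_iff, (G0ι G).isEmbedding.isInducing.isCompact_iff (f := G0ι G),
    Set.image_univ, range_G0ι]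
  exact isCompact_connectedComponent_ePt G

lemma range_G0incl_left : Set.range (G0incl G).left = connectedComponent (ePt G) := range_G0ι G

lemma range_mul_subset :
    Set.range ((G0incl G ⊗ₘ G0incl G) ≫ μ[G]).left ⊆ connectedComponent (ePt G) := by
  have hirr : IrreducibleSpace (G0 G ⊗ G0 G).left := by
    have : UniversallyOpen (G0 G).hom := inferInstance
    exact inferInstanceAs (IrreducibleSpace ↥(pullback (G0 G).hom (G0 G).hom))
  apply subset_connectedComponent_of_isIrreducible
  · rw [← Set.image_univ]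
    exact (IrreducibleSpace.isIrreducible_univ _).image _
      ((G0incl G ⊗ₘ G0incl G) ≫ μ[G]).left.continuous.continuousOn
  · rw [← pmul_range_range, range_G0incl_left]
    exact subset_pmul_right mem_connectedComponent mem_connectedComponent

lemma inv_left_ePt' : ι[G].left (ePt G) = ePt G := by
  have h : ((1 : G ⟶ G)⁻¹).left (ePt G) = ePt G := by rw [inv_one, one_left_apply]
  rw [Hom.inv_def, Over.comp_left, Scheme.Hom.comp_apply, one_left_apply] at h
  exact h

lemma range_inv_subset :
    Set.range (G0incl G ≫ ι[G]).left ⊆ connectedComponent (ePt G) := by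
  apply subset_connectedComponent_of_isIrreducible
  · rw [← Set.image_univ]
    exact (IrreducibleSpace.isIrreducible_univ _).image _
      (G0incl G ≫ ι[G]).left.continuous.continuousOn
  · obtain ⟨y, hy⟩ : ePt G ∈ Set.range (G0incl G).left := by
      rw [range_G0incl_left]; exact mem_connectedComponent
    refine ⟨y, ?_⟩
    rw [Over.comp_left, Scheme.Hom.comp_apply, hy, inv_left_ePt']

lemma range_one_subset : Set.range (η[G]).left ⊆ connectedComponent (ePt G) := by
  rintro _ ⟨q, rfl⟩
  have : η[G].left q = ePt G := by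
    rw [ePt]; congr 1; exact Subsingleton.elim (α := Spec (CommRingCat.of k)) _ _
  rw [this]; exact mem_connectedComponent

/-- `G⁰` is a group scheme and `G⁰ ⟶ G` a homomorphism. -/
theorem exists_grpObj_G0 : ∃ (_ : GrpObj (G0 G)), IsMonHom (G0incl G) := by
  obtain ⟨e, he⟩ := exists_lift_G0_over G η[G] (range_one_subset G)
  obtain ⟨m, hm⟩ := exists_lift_G0_over G ((G0incl G ⊗ₘ G0incl G) ≫ μ[G]) (range_mul_subset G)
  obtain ⟨w, hw⟩ := exists_lift_G0_over G (G0incl G ≫ ι[G]) (range_inv_subset G)
  exact ⟨grpObjOfMono (G0incl G) e he m hm w hw, isMonHom_of_grpObjOfMono (G0incl G) e he m hm w hw⟩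

end field

end part3

end Groth.Agent.Lib.Helper25.IdComp0
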