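import Mathlib
import Groth.Agent.Lib.Helper3FibSmSch

set_option autoImplicit false
set_option linter.unusedVariables false
set_option linter.unusedSectionVars false
set_option linter.style.haveILetI false

open CategoryTheory CategoryTheory.Limits AlgebraicGeometry TensorProduct

universe u

namespace Groth.Agent.Lib.Helper3.FibSmSch

/-- variant of `formallySmooth_stalkMap_of_flat_of_fibre` with a named composite. -/
theorem formallySmooth_stalkMap_of_flat_of_fibre' {X Y S : Scheme.{u}} (f : X ⟶ Y) (g : Y ⟶ S)
    (h : X ⟶ S) (w : f ≫ g = h)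
    [LocallyOfFinitePresentation h] [LocallyOfFiniteType g]
    (x : X) (s : S) (hxs : h x = s)
    (hflat : (h.stalkMap x).hom.Flat)
    (U' : X.Opens) (hxU' : x ∈ U')
    (hfib : Smooth (((h.fiberι s) ⁻¹ᵁ U').ι ≫ CohIII.fiberMapOver f h g w s)) :
    (f.stalkMap x).hom.FormallySmooth := by
  subst w
  exact formallySmooth_stalkMap_of_flat_of_fibre f g x s hxs hflat U' hxU' hfib

/-- the fibre of a flat l.f.p. morphism over `y` is smooth over `κ(y)` iff `f` is smooth at all
points over `y`. -/
theorem smooth_fiberToSpecResidueField_iff {X Y : Scheme.{u}} (f : X ⟶ Y)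
    [LocallyOfFinitePresentation f] [Flat f] (y : Y) :
    Smooth (f.fiberToSpecResidueField y) ↔ ∀ x : X, f x = y → x ∈ f.smoothLocus := by
  constructor
  · intro hsm x hx
    rw [Scheme.Hom.mem_smoothLocus]
    have hFM2 : CohIII.fiberMapOver f f (𝟙 Y) (Category.comp_id f) y ≫
        Scheme.Hom.fiberToSpecResidueField (𝟙 Y) y = f.fiberToSpecResidueField y :=
      (pullback.lift_snd _ _ _).trans (Category.comp_id _)
    haveI : IsIso (Scheme.Hom.fiberToSpecResidueField (𝟙 Y) y) :=
      inferInstanceAs (IsIso (pullback.snd (𝟙 Y) (Y.fromSpecResidueField y)))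
    have hFM : Smooth (CohIII.fiberMapOver f f (𝟙 Y) (Category.comp_id f) y) := by
      have : CohIII.fiberMapOver f f (𝟙 Y) (Category.comp_id f) y =
          f.fiberToSpecResidueField y ≫ inv (Scheme.Hom.fiberToSpecResidueField (𝟙 Y) y) := by
        rw [← hFM2, Category.assoc, IsIso.hom_inv_id, Category.comp_id]
      rw [this]
      infer_instance
    refine formallySmooth_stalkMap_of_flat_of_fibre' f (𝟙 Y) f (Category.comp_id f) x y hx
      (Flat.stalkMap f x) ⊤ trivial ?_
    infer_instance
  · intro H
    let W := f.smoothLocus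
    have hW : Smooth (W.ι ≫ f) := by
      rw [← Scheme.Hom.smoothLocus_eq_top_iff, ← Scheme.Hom.preimage_smoothLocus_eq, ← top_le_iff]
      rintro z -
      exact z.2
    have sq1 := isPullback_morphismRestrict (f.fiberι y) W
    have sq2 : IsPullback (f.fiberι y) (f.fiberToSpecResidueField y) f
        (Y.fromSpecResidueField y) := IsPullback.of_hasPullback f (Y.fromSpecResidueField y)
    have sq := sq1.paste_vert sq2
    have h1 : Smooth (((f.fiberι y) ⁻¹ᵁ W).ι ≫ f.fiberToSpecResidueField y) :=
      MorphismProperty.of_isPullback (P := @Smooth) sq hW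
    have htop : (f.fiberι y) ⁻¹ᵁ W = ⊤ := by
      rw [← top_le_iff]
      rintro z -
      refine H _ ?_
      have : f.fiberι y z ∈ Set.range (f.fiberι y) := ⟨z, rfl⟩
      rw [Scheme.Hom.range_fiberι] at this
      exact this
    rw [htop] at h1
    have h2 : f.fiberToSpecResidueField y =
        (f.fiber y).topIso.inv ≫ ((⊤ : (f.fiber y).Opens).ι ≫
          f.fiberToSpecResidueField y) := by
      rw [← Category.assoc, Scheme.toIso_inv_ι, Category.id_comp]
    rw [h2]
    infer_instance

end Groth.Agent.Lib.Helper3.FibSmSch
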