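import Mathlib
import Groth.Agent.Lib.Helper3FibChart
import Groth.Agent.Lib.Helper3FibCritD
import Groth.Agent.S0386
import Groth.Agent.Lib.Helper3BaseMap
import Groth.Agent.Lib.Helper5FiberMor
import Groth.Agent.Lib.Helper6LfpComp

set_option autoImplicit false
set_option linter.unusedVariables false
set_option linter.unusedSectionVars false
set_option linter.style.haveILetI false

open CategoryTheory CategoryTheory.Limits AlgebraicGeometry TensorProduct

universe u

namespace Groth.Agent.Lib.Helper3.FibCritSch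

open Groth.Agent.Lib.Helper3.EtGUSch Groth.Agent.Lib.Helper3.FibEtSch
  Groth.Agent.Lib.Helper3.FibChart Groth.Agent.Lib.Helper3.FibCritA
  Groth.Agent.Lib.Helper3.FibCritD

set_option maxHeartbeats 3200000 in
/-- **Flat fibre criterion, pointwise form.** `f : X → Y` over `S`, `X → S` flat at `x` and
locally of finite presentation, `Y → S` locally of finite type; if the map of fibres over `s` is
flat on the trace of an open neighbourhood `U'` of `x`, then `f` is flat at `x`. -/
theorem flat_stalkMap_of_flat_of_fibre {X Y S : Scheme.{u}} (f : X ⟶ Y) (g : Y ⟶ S)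
    [LocallyOfFinitePresentation (f ≫ g)] [LocallyOfFiniteType g]
    (x : X) (s : S) (hxs : (f ≫ g) x = s)
    (hflat : ((f ≫ g).stalkMap x).hom.Flat)
    (U' : X.Opens) (hxU' : x ∈ U')
    (hfib : Flat ((((f ≫ g).fiberι s) ⁻¹ᵁ U').ι ≫ CohIII.fiberMapOver f (f ≫ g) g rfl s)) :
    (f.stalkMap x).hom.Flat := by
  subst hxs
  -- charts
  obtain ⟨S₀, hS₀, W, hW, hWS, hfxW, -⟩ := exists_affine_nhds g (f x) ⊤ trivial
  obtain ⟨V, hV, hxV, hVle⟩ := TopologicalSpace.Opens.isBasis_iff_nbhd.mp X.isBasis_affineOpens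
    (show x ∈ U' ⊓ f ⁻¹ᵁ W from ⟨hxU', hfxW⟩)
  have hVU' : V ≤ U' := hVle.trans inf_le_left
  have hVW : V ≤ f ⁻¹ᵁ W := hVle.trans inf_le_right
  have hVS : V ≤ (f ≫ g) ⁻¹ᵁ S₀ := fun z hz => hWS (hVW hz)
  let A := Γ(S, S₀)
  let B := Γ(Y, W)
  let C := Γ(X, V)
  letI algAB : Algebra A B := (g.appLE S₀ W hWS).hom.toAlgebra
  letI algBC : Algebra B C := (f.appLE W V hVW).hom.toAlgebra
  letI algAC : Algebra A C := ((f ≫ g).appLE S₀ V hVS).hom.toAlgebra
  haveI : IsScalarTower A B C := by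
    refine IsScalarTower.of_algebraMap_eq' ?_
    show ((f ≫ g).appLE S₀ V hVS).hom = (f.appLE W V hVW).hom.comp (g.appLE S₀ W hWS).hom
    rw [← CommRingCat.hom_comp, Scheme.Hom.appLE_comp_appLE]
  have hsS₀ : (f ≫ g) x ∈ S₀ := hVS hxV
  let p : Spec Γ(S, S₀) := hS₀.primeIdealOf ⟨(f ≫ g) x, hsS₀⟩
  let q : Spec Γ(X, V) := hV.primeIdealOf ⟨x, hxV⟩
  have hP : q.asIdeal.under A = p.asIdeal :=
    congr($(IsAffineOpen.comap_primeIdealOf_appLE S₀ hS₀ V hV hVS hxV).1)
  -- finiteness
  haveI : Algebra.FinitePresentation A C :=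
    (f ≫ g).finitePresentation_appLE hS₀ hV hVS
  haveI : Algebra.FiniteType A B := g.finiteType_appLE hS₀ hW hWS
  -- flatness
  have hflat' : Module.Flat A (LocalizedModule q.asIdeal.primeCompl C) :=
    (Groth.Agent.S0386.flat_stalkMap_iff_localizedModule S₀ hS₀ V hV hVS hxV).mp hflat
  -- the chart of the fibre map
  have h4 := ringHom_fibre_chart (P := @Flat) (Q := @RingHom.Flat) f g hS₀ hW hV hWS hVW hVS
    x hxV U' hVU' hfib
  let ρ₁ : B ⊗[A] p.asIdeal.ResidueField →ₐ[A] C ⊗[A] p.asIdeal.ResidueField :=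
    Algebra.TensorProduct.map (IsScalarTower.toAlgHom A B C) (AlgHom.id A p.asIdeal.ResidueField)
  have h4' : ρ₁.toRingHom.Flat := h4
  -- convert to the `κ`-left convention
  have h5 : (fiberMap (B := B) (C := C) p.asIdeal).toRingHom.Flat := by
    have hc : (fiberMap (B := B) (C := C) p.asIdeal).toRingHom =
        ((Algebra.TensorProduct.comm A C p.asIdeal.ResidueField).toAlgHom.toRingHom.comp
          ρ₁.toRingHom).comp
          (Algebra.TensorProduct.comm A p.asIdeal.ResidueField B).toAlgHom.toRingHom := by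
      apply RingHom.ext
      intro z
      induction z using TensorProduct.induction_on with
      | zero => simp
      | add a b ha hb => rw [map_add, map_add, ha, hb]
      | tmul a b => rfl
    rw [hc]
    refine RingHom.Flat.comp ?_ (RingHom.Flat.comp h4' ?_)
    · exact RingHom.Flat.of_bijective
        (Algebra.TensorProduct.comm A p.asIdeal.ResidueField B).bijective
    · exact RingHom.Flat.of_bijective
        (Algebra.TensorProduct.comm A C p.asIdeal.ResidueField).bijective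
  -- ring lemma
  have h6 : Module.Flat B (LocalizedModule q.asIdeal.primeCompl C) :=
    flat_of_fiberMap_flat (A := A) (B := B) (C := C) p.asIdeal q.asIdeal hP h5 hflat'
  exact (Groth.Agent.S0386.flat_stalkMap_iff_localizedModule W hW V hV hVW hxV).mpr h6

/-- Restricting the source to an open does not change flatness of the stalk maps. -/
theorem flat_stalkMap_ι_comp_iff {X Y : Scheme.{u}} (f : X ⟶ Y) (U : X.Opens) (x : U) :
    ((U.ι ≫ f).stalkMap x).hom.Flat ↔ (f.stalkMap (U.ι x)).hom.Flat := by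
  rw [Scheme.Hom.stalkMap_comp]
  exact RingHom.Flat.respectsIso.cancel_right_isIso (f.stalkMap (U.ι x)) (U.ι.stalkMap x)

theorem fiberMap_eq_fiberMapOver {X Y S : Scheme.{u}} (f : X ⟶ Y) (g : Y ⟶ S) (s : S) :
    MoreMor.fiberMap f g s = CohIII.fiberMapOver f (f ≫ g) g rfl s := by
  apply pullback.hom_ext
  · exact (pullback.lift_fst _ _ _).trans (pullback.lift_fst _ _ _).symm
  · exact (pullback.lift_snd _ _ _).trans
      ((Category.comp_id _).symm.trans (pullback.lift_snd _ _ _).symm)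

/-- If `f` is flat at the image of `z` in `X` then the map of fibres is flat at `z`. -/
theorem flat_stalkMap_fiberMap_of_flat {X Y S : Scheme.{u}} (f : X ⟶ Y) (g : Y ⟶ S)
    [LocallyOfFinitePresentation f] (s : S) (z : (f ≫ g).fiber s)
    (hf : (f.stalkMap ((f ≫ g).fiberι s z)).hom.Flat) :
    ((MoreMor.fiberMap f g s).stalkMap z).hom.Flat := by
  let U : X.Opens := ⟨{x | (f.stalkMap x).hom.Flat}, Groth.Agent.S0386.result f⟩
  let O : ((f ≫ g).fiber s).Opens := ((f ≫ g).fiberι s) ⁻¹ᵁ U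
  have hpb : IsPullback ((f ≫ g).fiberι s) (MoreMor.fiberMap f g s) f (g.fiberι s) :=
    Groth.Agent.Lib.Helper3.BaseMap.isPullback_baseMap f g (S.fromSpecResidueField s)
  have htop : IsPullback (((f ≫ g).fiberι s) ∣_ U) O.ι U.ι ((f ≫ g).fiberι s) :=
    isPullback_morphismRestrict ((f ≫ g).fiberι s) U
  have hbig := htop.paste_vert hpb
  haveI : Flat (U.ι ≫ f) :=
    Flat.of_stalkMap _ (fun x => (flat_stalkMap_ι_comp_iff f U x).mpr x.2)
  haveI hFl : Flat (O.ι ≫ MoreMor.fiberMap f g s) :=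
    MorphismProperty.of_isPullback (P := @Flat) hbig inferInstance
  have hz : z ∈ O := hf
  exact (flat_stalkMap_ι_comp_iff (MoreMor.fiberMap f g s) O (⟨z, hz⟩ : O)).mp
    (Flat.stalkMap (O.ι ≫ MoreMor.fiberMap f g s) (⟨z, hz⟩ : O))

/-- The map of fibres `X_s → Y_s` is locally of finite presentation. -/
theorem locallyOfFinitePresentation_fiberMap {X Y S : Scheme.{u}} (f : X ⟶ Y) (g : Y ⟶ S)
    [LocallyOfFinitePresentation (f ≫ g)] [LocallyOfFiniteType g] (s : S) :
    LocallyOfFinitePresentation (MoreMor.fiberMap f g s) := by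
  have h2 : MoreMor.fiberMap f g s ≫ g.fiberToSpecResidueField s =
      (f ≫ g).fiberToSpecResidueField s := pullback.lift_snd _ _ _
  refine Groth.Agent.Lib.Helper6.locallyOfFinitePresentation_of_comp
    (g := g.fiberToSpecResidueField s)
    (inferInstanceAs (LocallyOfFiniteType (pullback.snd g (S.fromSpecResidueField s)))) ?_
  rw [h2]
  exact inferInstanceAs
    (LocallyOfFinitePresentation (pullback.snd (f ≫ g) (S.fromSpecResidueField s)))

/-- **Critère de platitude par fibres**, the implication from the fibres. -/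
theorem flat_stalkMap_of_flat_of_fiberMap {X Y S : Scheme.{u}} (f : X ⟶ Y) (g : Y ⟶ S)
    [LocallyOfFinitePresentation (f ≫ g)] [LocallyOfFiniteType g] (x : X)
    (hflat : ((f ≫ g).stalkMap x).hom.Flat)
    (hfib : ((MoreMor.fiberMap f g (g (f x))).stalkMap ((f ≫ g).asFiber x)).hom.Flat) :
    (f.stalkMap x).hom.Flat := by
  let s : S := (f ≫ g) x
  let FM := MoreMor.fiberMap f g s
  haveI : LocallyOfFinitePresentation FM := locallyOfFinitePresentation_fiberMap f g s
  have hO : IsOpen {z : (f ≫ g).fiber s | (FM.stalkMap z).hom.Flat} :=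
    Groth.Agent.S0386.result FM
  obtain ⟨U'set, hU'open, hU'⟩ := ((f ≫ g).fiberι s).isEmbedding.isInducing.isOpen_iff.mp hO
  let U' : X.Opens := ⟨U'set, hU'open⟩
  have hmem : ∀ z : (f ≫ g).fiber s, z ∈ ((f ≫ g).fiberι s) ⁻¹ᵁ U' ↔ (FM.stalkMap z).hom.Flat := by
    intro z
    have := Set.ext_iff.mp hU' z
    exact this
  have hxU' : x ∈ U' := by
    have h1 : ((f ≫ g).asFiber x) ∈ ((f ≫ g).fiberι s) ⁻¹ᵁ U' := (hmem _).mpr hfib
    have h2 : (f ≫ g).fiberι s ((f ≫ g).asFiber x) ∈ U' := h1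
    rwa [Scheme.Hom.fiberι_asFiber] at h2
  have hFl : Flat ((((f ≫ g).fiberι s) ⁻¹ᵁ U').ι ≫ CohIII.fiberMapOver f (f ≫ g) g rfl s) := by
    rw [← fiberMap_eq_fiberMapOver]
    exact Flat.of_stalkMap _ (fun z => (flat_stalkMap_ι_comp_iff FM _ z).mpr ((hmem _).mp z.2))
  exact flat_stalkMap_of_flat_of_fibre f g x s rfl hflat U' hxU' hFl

/-- **Critère de platitude par fibres** (EGA IV 11.3.10), for the structure sheaf. -/
theorem critere_platitude_par_fibres {X Y S : Scheme.{u}} (f : X ⟶ Y) (g : Y ⟶ S)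
    [LocallyOfFinitePresentation (f ≫ g)] [LocallyOfFiniteType g] :
    (∀ x : X, ((f ≫ g).stalkMap x).hom.Flat ∧
        ((MoreMor.fiberMap f g (g (f x))).stalkMap ((f ≫ g).asFiber x)).hom.Flat ↔
        (g.stalkMap (f x)).hom.Flat ∧ (f.stalkMap x).hom.Flat) ∧
      IsOpen {x : ↑X | (g.stalkMap (f x)).hom.Flat ∧ (f.stalkMap x).hom.Flat} := by
  haveI : LocallyOfFinitePresentation f :=
    Groth.Agent.Lib.Helper6.locallyOfFinitePresentation_of_comp (g := g) inferInstance inferInstance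
  refine ⟨fun x => ⟨?_, ?_⟩, ?_⟩
  · rintro ⟨h1, h2⟩
    have hf := flat_stalkMap_of_flat_of_fiberMap f g x h1 h2
    exact ⟨Groth.Agent.Lib.Helper5.FiberMor.flat_of_comp f g x h1 hf, hf⟩
  · rintro ⟨hg, hf⟩
    refine ⟨Groth.Agent.Lib.Helper5.FiberMor.flat_comp f g x hf hg, ?_⟩
    apply flat_stalkMap_fiberMap_of_flat
    have e : (f ≫ g).fiberι ((f ≫ g) x) ((f ≫ g).asFiber x) = x :=
      Scheme.Hom.fiberι_asFiber _ _
    show (f.stalkMap ((f ≫ g).fiberι ((f ≫ g) x) ((f ≫ g).asFiber x))).hom.Flat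
    rw [e]
    exact hf
  · have h1 : IsOpen {x : X | ((f ≫ g).stalkMap x).hom.Flat} := Groth.Agent.S0386.result (f ≫ g)
    have h2 : IsOpen {x : X | (f.stalkMap x).hom.Flat} := Groth.Agent.S0386.result f
    have : {x : ↑X | (g.stalkMap (f x)).hom.Flat ∧ (f.stalkMap x).hom.Flat} =
        {x : X | ((f ≫ g).stalkMap x).hom.Flat} ∩ {x : X | (f.stalkMap x).hom.Flat} := by
      ext x
      constructor
      · rintro ⟨hg, hf⟩
        exact ⟨Groth.Agent.Lib.Helper5.FiberMor.flat_comp f g x hf hg, hf⟩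
      · rintro ⟨hgf, hf⟩
        exact ⟨Groth.Agent.Lib.Helper5.FiberMor.flat_of_comp f g x hgf hf, hf⟩
    rw [this]
    exact h1.inter h2

end Groth.Agent.Lib.Helper3.FibCritSch
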