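import Mathlib
import Groth.Agent.Lib.Helper3FibCritSch
import Groth.Agent.Lib.Helper3GrpHomQF

set_option autoImplicit false
set_option linter.unusedVariables false
set_option linter.unusedSectionVars false
set_option linter.style.haveILetI false

open CategoryTheory CategoryTheory.Limits MonoidalCategory CartesianMonoidalCategory MonObj GrpObj
  AlgebraicGeometry TopologicalSpace Topology

universe u

namespace Groth.Agent.Lib.Helper3.GrpFlat

open Groth.Agent.Lib.Helper3.FibCritSch Groth.Agent.Lib.Helper3.GrpHomQF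

section general

/-- pointwise flatness is stable under base change (source locally of finite presentation, so that
the flat locus is open). -/
theorem flat_stalkMap_of_isPullback {X Y X' Y' : Scheme.{u}} {p' : X' ⟶ X} {f' : X' ⟶ Y'}
    {f : X ⟶ Y} {p : Y' ⟶ Y} (hpb : IsPullback p' f' f p) [LocallyOfFinitePresentation f]
    (z : X') (hf : (f.stalkMap (p' z)).hom.Flat) : (f'.stalkMap z).hom.Flat := by
  let U : X.Opens := ⟨{x | (f.stalkMap x).hom.Flat}, Groth.Agent.S0386.result f⟩
  let O : X'.Opens := p' ⁻¹ᵁ U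
  have htop : IsPullback (p' ∣_ U) O.ι U.ι p' := isPullback_morphismRestrict p' U
  have hbig := htop.paste_vert hpb
  haveI : Flat (U.ι ≫ f) :=
    Flat.of_stalkMap _ (fun x => (flat_stalkMap_ι_comp_iff f U x).mpr x.2)
  haveI hFl : Flat (O.ι ≫ f') :=
    MorphismProperty.of_isPullback (P := @Flat) hbig inferInstance
  have hz : z ∈ O := hf
  exact (flat_stalkMap_ι_comp_iff f' O (⟨z, hz⟩ : O)).mp
    (Flat.stalkMap (O.ι ≫ f') (⟨z, hz⟩ : O))

/-- pointwise flatness descends along flat base change. -/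
theorem flat_stalkMap_of_isPullback_of_flat {X Y X' Y' : Scheme.{u}} {p' : X' ⟶ X} {f' : X' ⟶ Y'}
    {f : X ⟶ Y} {p : Y' ⟶ Y} (hpb : IsPullback p' f' f p) [Flat p] [Flat p']
    (z : X') (hf' : (f'.stalkMap z).hom.Flat) : (f.stalkMap (p' z)).hom.Flat := by
  have h1 : ((f' ≫ p).stalkMap z).hom.Flat :=
    Groth.Agent.Lib.Helper5.FiberMor.flat_comp f' p z hf' (Flat.stalkMap p (f' z))
  rw [← hpb.w] at h1
  exact Groth.Agent.Lib.Helper5.FiberMor.flat_of_comp p' f z h1 (Flat.stalkMap p' z)

theorem flat_stalkMap_iso_comp_iff {X' X Y : Scheme.{u}} (e : X' ⟶ X) [IsIso e] (f : X ⟶ Y)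
    (z : X') : ((e ≫ f).stalkMap z).hom.Flat ↔ (f.stalkMap (e z)).hom.Flat := by
  rw [Scheme.Hom.stalkMap_comp]
  exact RingHom.Flat.respectsIso.cancel_right_isIso (f.stalkMap (e z)) (e.stalkMap z)

theorem flat_stalkMap_comp_iso_iff {X Y Y' : Scheme.{u}} (f : X ⟶ Y) (e : Y ⟶ Y') [IsIso e]
    (z : X) : ((f ≫ e).stalkMap z).hom.Flat ↔ (f.stalkMap z).hom.Flat := by
  rw [Scheme.Hom.stalkMap_comp]
  exact RingHom.Flat.respectsIso.cancel_left_isIso (e.stalkMap (f z)) (f.stalkMap z)

end general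

section homogeneity

variable {S : Scheme.{u}} (G H : Over S) [GrpObj G] [GrpObj H] (u : G ⟶ H) [IsMonHom u]
  [LocallyOfFinitePresentation u.left] [Flat G.hom]

open Groth.Agent.Lib.Helper3.GrpFibDim in
/-- flatness of a homomorphism `u` at `a` and at `a · b` are equivalent (`G` flat over `S`). -/
theorem flat_hom_mul (z : ↥(G ⊗ G).left) :
    (u.left.stalkMap (μ[G].left z)).hom.Flat ↔
      (u.left.stalkMap ((fst G G).left z)).hom.Flat := by
  have hpb := isPullback_whiskerRight G H u
  haveI : Flat (fst G G).left := inferInstanceAs (Flat (pullback.fst G.hom G.hom))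
  haveI : Flat (fst H G).left := inferInstanceAs (Flat (pullback.fst H.hom G.hom))
  have hA : ∀ w : ↥(G ⊗ G).left, ((u ▷ G).left.stalkMap w).hom.Flat ↔
      (u.left.stalkMap ((fst G G).left w)).hom.Flat := fun w =>
    ⟨flat_stalkMap_of_isPullback_of_flat hpb w, flat_stalkMap_of_isPullback hpb w⟩
  have hc := congrArg (fun f => f.left) (shear_comm u)
  simp only [Over.comp_left] at hc
  haveI : IsIso (shearIso' G).hom.left := inferInstance
  haveI : IsIso (shearHom u).hom.left := inferInstance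
  have e1 : ((u ▷ G).left.stalkMap ((shearIso' G).hom.left z)).hom.Flat ↔
      ((u ▷ G).left.stalkMap z).hom.Flat := by
    rw [← flat_stalkMap_iso_comp_iff, hc, flat_stalkMap_comp_iso_iff]
  rw [hA, hA] at e1
  have hpt : (fst G G).left ((shearIso' G).hom.left z) = μ[G].left z := by
    rw [← Scheme.Hom.comp_apply, ← Over.comp_left]
    congr 2
    simp [shearIso', fst_mul_snd]
  rw [hpt] at e1
  exact e1

open Groth.Agent.Lib.Helper3.GrpFibDim in
/-- **the flat locus of a homomorphism of group schemes is a union of fibres of `G → S`**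
(`G` flat over `S`). -/
theorem flat_hom_iff_unitSec (x : G.left) :
    (u.left.stalkMap x).hom.Flat ↔ (u.left.stalkMap (unitSec G (G.hom x))).hom.Flat := by
  have h := flat_hom_mul G H u ((lift (toUnit G ≫ η[G]) (𝟙 G)).left x)
  have hp1 : μ[G].left ((lift (toUnit G ≫ η[G]) (𝟙 G)).left x) = x := by
    rw [← Scheme.Hom.comp_apply, ← Over.comp_left, lift_comp_one_left]
    rfl
  have hp2 : (fst G G).left ((lift (toUnit G ≫ η[G]) (𝟙 G)).left x) = unitSec G (G.hom x) := by
    rw [← Scheme.Hom.comp_apply, ← Over.comp_left, lift_fst, Over.comp_left,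
      Scheme.Hom.comp_apply]
    rfl
  rw [hp1, hp2] at h
  exact h

theorem flat_hom_iff_of_base_eq (x₁ x₂ : G.left) (h : G.hom x₁ = G.hom x₂) :
    (u.left.stalkMap x₁).hom.Flat ↔ (u.left.stalkMap x₂).hom.Flat := by
  rw [flat_hom_iff_unitSec G H u x₁, flat_hom_iff_unitSec G H u x₂, h]

end homogeneity

section main

/-- **Critère de platitude par fibres**, at a point of the fibre over `s`. -/
theorem flat_stalkMap_of_flat_of_fiberMap' {X Y S : Scheme.{u}} (f : X ⟶ Y) (g : Y ⟶ S)
    [LocallyOfFinitePresentation (f ≫ g)] [LocallyOfFiniteType g] (s : S) (z : (f ≫ g).fiber s)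
    (hflat : ((f ≫ g).stalkMap ((f ≫ g).fiberι s z)).hom.Flat)
    (hfib : ((MoreMor.fiberMap f g s).stalkMap z).hom.Flat) :
    (f.stalkMap ((f ≫ g).fiberι s z)).hom.Flat := by
  let FM := MoreMor.fiberMap f g s
  have hxs : (f ≫ g) ((f ≫ g).fiberι s z) = s := by
    have : (f ≫ g).fiberι s z ∈ Set.range ((f ≫ g).fiberι s) := ⟨z, rfl⟩
    rw [Scheme.Hom.range_fiberι] at this
    exact this
  haveI : LocallyOfFinitePresentation FM := locallyOfFinitePresentation_fiberMap f g s
  have hO : IsOpen {w : (f ≫ g).fiber s | (FM.stalkMap w).hom.Flat} :=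
    Groth.Agent.S0386.result FM
  obtain ⟨U'set, hU'open, hU'⟩ := ((f ≫ g).fiberι s).isEmbedding.isInducing.isOpen_iff.mp hO
  let U' : X.Opens := ⟨U'set, hU'open⟩
  have hmem : ∀ w : (f ≫ g).fiber s, w ∈ ((f ≫ g).fiberι s) ⁻¹ᵁ U' ↔ (FM.stalkMap w).hom.Flat := by
    intro w
    have := Set.ext_iff.mp hU' w
    exact this
  have hxU' : (f ≫ g).fiberι s z ∈ U' := (hmem z).mpr hfib
  have hFl : Flat ((((f ≫ g).fiberι s) ⁻¹ᵁ U').ι ≫ CohIII.fiberMapOver f (f ≫ g) g rfl s) := by
    rw [← fiberMap_eq_fiberMapOver]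
    exact Flat.of_stalkMap _ (fun w => (flat_stalkMap_ι_comp_iff FM _ w).mpr ((hmem _).mp w.2))
  exact flat_stalkMap_of_flat_of_fibre f g _ s hxs hflat U' hxU' hFl

/-- If `X → S` is flat and `Y → S` has geometrically reduced fibres, a surjective `S`-morphism
`f : X → Y` is flat at some point of every nonempty fibre of `X → S`. -/
theorem exists_flat_point {X Y S : Scheme.{u}} (f : X ⟶ Y) (g : Y ⟶ S)
    [LocallyOfFinitePresentation (f ≫ g)] [LocallyOfFiniteType g] [Flat (f ≫ g)] [Surjective f]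
    [GeometricallyReduced g] (s : S) (hs : ∃ x : X, (f ≫ g) x = s) :
    ∃ x₀ : X, (f ≫ g) x₀ = s ∧ (f.stalkMap x₀).hom.Flat := by
  obtain ⟨x, hx⟩ := hs
  have hy : f x ∈ Set.range (g.fiberι s) := by
    rw [Scheme.Hom.range_fiberι]
    exact hx
  obtain ⟨y', hy'⟩ := hy
  -- a generic point of the fibre
  have hirr : IsIrreducible (irreducibleComponent y') := isIrreducible_irreducibleComponent
  let ξ : g.fiber s := hirr.genericPoint
  have hcl : closure {ξ} = irreducibleComponent y' :=
    hirr.closure_genericPoint isClosed_irreducibleComponent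
  have hfield : IsField ((g.fiber s).presheaf.stalk ξ) :=
    isField_stalk_of_closure_mem_irreducibleComponents _ ξ (by
      rw [hcl]
      exact irreducibleComponent_mem_irreducibleComponents y')
  let FM := MoreMor.fiberMap f g s
  have hpb : IsPullback ((f ≫ g).fiberι s) FM f (g.fiberι s) :=
    Groth.Agent.Lib.Helper3.BaseMap.isPullback_baseMap f g (S.fromSpecResidueField s)
  haveI : Surjective FM := MorphismProperty.of_isPullback (P := @Surjective) hpb ‹Surjective f›
  obtain ⟨z₀, hz₀⟩ := FM.surjective ξ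
  have hfib : (FM.stalkMap z₀).hom.Flat := by
    apply RingHom.Flat.of_isField
    rw [hz₀]
    exact hfield
  refine ⟨(f ≫ g).fiberι s z₀, ?_, ?_⟩
  · have : (f ≫ g).fiberι s z₀ ∈ Set.range ((f ≫ g).fiberι s) := ⟨z₀, rfl⟩
    rw [Scheme.Hom.range_fiberι] at this
    exact this
  · exact flat_stalkMap_of_flat_of_fiberMap' f g s z₀ (Flat.stalkMap (f ≫ g) _) hfib

/-- **Surjective homomorphisms onto group schemes with geometrically reduced fibres are flat.** -/
theorem flat_of_surjective_hom {S : Scheme.{u}} (G H : Over S) [GrpObj G] [GrpObj H]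
    [LocallyOfFinitePresentation G.hom] [Flat G.hom]
    [LocallyOfFinitePresentation H.hom] [GeometricallyReduced H.hom]
    (f : G ⟶ H) [IsMonHom f] [Surjective f.left] : Flat f.left ∧ Flat H.hom := by
  have hw : f.left ≫ H.hom = G.hom := Over.w f
  haveI : LocallyOfFinitePresentation (f.left ≫ H.hom) := by rw [hw]; infer_instance
  haveI : Flat (f.left ≫ H.hom) := by rw [hw]; infer_instance
  haveI : LocallyOfFiniteType H.hom := inferInstance
  haveI : LocallyOfFinitePresentation f.left :=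
    Groth.Agent.Lib.Helper6.locallyOfFinitePresentation_of_comp (g := H.hom) inferInstance
      inferInstance
  have hG : ∀ y : G.left, G.hom y = (f.left ≫ H.hom) y := fun y => by rw [hw]
  have hfl : ∀ x : G.left, (f.left.stalkMap x).hom.Flat := by
    intro x
    obtain ⟨x₀, hx₀, hfl₀⟩ := exists_flat_point f.left H.hom ((f.left ≫ H.hom) x) ⟨x, rfl⟩
    exact (flat_hom_iff_of_base_eq G H f x x₀ (by rw [hG, hG, hx₀])).mpr hfl₀
  refine ⟨Flat.of_stalkMap _ hfl, Flat.of_stalkMap _ (fun y => ?_)⟩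
  obtain ⟨x, rfl⟩ := f.left.surjective y
  exact Groth.Agent.Lib.Helper5.FiberMor.flat_of_comp f.left H.hom x
    (Flat.stalkMap (f.left ≫ H.hom) x) (hfl x)

end main

end Groth.Agent.Lib.Helper3.GrpFlat
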