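import Mathlib
import Groth.Agent.Lib.Helper3GrpFlat
import Groth.Agent.Lib.Helper6SmGeom
import Groth.Agent.Lib.Helper25DenseMul
import Groth.Agent.Lib.Helper25IdComp

set_option autoImplicit false
set_option linter.unusedVariables false
set_option linter.unusedSectionVars false
set_option linter.style.haveILetI false

open CategoryTheory CategoryTheory.Limits MonoidalCategory CartesianMonoidalCategory MonObj GrpObj
  AlgebraicGeometry TopologicalSpace Topology

universe u

namespace Groth.Agent.Lib.Helper3.Isog

open Groth.Agent.Lib.Helper3.FibCritSch Groth.Agent.Lib.Helper3.GrpHomQF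
  Groth.Agent.Lib.Helper3.GrpFlat Groth.Agent.Lib.Helper3.LocDimBC

/-- smooth morphisms are geometrically reduced -/
theorem geometricallyReduced_of_smooth {X S : Scheme.{u}} (g : X ⟶ S) [Smooth g] :
    GeometricallyReduced g := by
  constructor
  intro K _ y Z fst snd h
  haveI : Smooth snd := MorphismProperty.of_isPullback h inferInstance
  exact Groth.Agent.Lib.Helper6.SmGeom.isReduced_of_smooth_over_field K Z snd

section converse

variable {S : Scheme.{u}} (G H : Over S) [GrpObj G] [GrpObj H] [Smooth G.hom] [Smooth H.hom]
  (f : G ⟶ H) [IsMonHom f]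

theorem isogeny_of_fibres
    (h : ∀ s : S, IsFinite (pullback.snd f.left (H.hom.fiberι s)) ∧
      Surjective (pullback.snd f.left (H.hom.fiberι s))) :
    Flat f.left ∧ LocallyQuasiFinite f.left ∧ LocallyOfFinitePresentation f.left := by
  haveI : GeometricallyReduced H.hom := geometricallyReduced_of_smooth H.hom
  have hw : f.left ≫ H.hom = G.hom := Over.w f
  haveI : LocallyOfFinitePresentation f.left :=
    Groth.Agent.Lib.Helper6.locallyOfFinitePresentation_of_comp (g := H.hom) inferInstance
      (by rw [hw]; infer_instance)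
  -- points of `H` come from the fibres
  have hpt : ∀ y : H.left, ∃ y' : H.hom.fiber (H.hom y), H.hom.fiberι (H.hom y) y' = y := by
    intro y
    have : y ∈ Set.range (H.hom.fiberι (H.hom y)) := by
      rw [Scheme.Hom.range_fiberι]
      rfl
    exact this
  haveI : Surjective f.left := by
    constructor
    intro y
    obtain ⟨y', hy'⟩ := hpt y
    obtain ⟨w, hw'⟩ := (h (H.hom y)).2.surj y'
    refine ⟨pullback.fst f.left (H.hom.fiberι (H.hom y)) w, ?_⟩
    rw [← Scheme.Hom.comp_apply, pullback.condition, Scheme.Hom.comp_apply, hw', hy']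
  refine ⟨(flat_of_surjective_hom G H f).1, ?_, inferInstance⟩
  rw [locallyQuasiFinite_iff_forall_fibreDimAt_le_zero]
  intro x
  obtain ⟨y', hy'⟩ := hpt (f.left x)
  obtain ⟨w, hw1, hw2⟩ := Scheme.Pullback.exists_preimage_pullback (f := f.left)
    (g := H.hom.fiberι (H.hom (f.left x))) x y' hy'.symm
  have hpb := IsPullback.of_hasPullback f.left (H.hom.fiberι (H.hom (f.left x)))
  have h1 := fibreDimAt_eq_of_isPullback f.left (H.hom.fiberι (H.hom (f.left x)))
    (pullback.fst _ _) (pullback.snd _ _) hpb w
  rw [hw1] at h1
  rw [← h1]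
  haveI := (h (H.hom (f.left x))).1
  exact (locallyQuasiFinite_iff_forall_fibreDimAt_le_zero _).mp inferInstance w

end converse

section torsor

variable {C : Type*} [Category C] [CartesianMonoidalCategory C] [HasPullbacks C]
  {G H : C} [GrpObj G] [GrpObj H] (u : G ⟶ H) [IsMonHom u]

/-- **The torsor square of a homomorphism.** `G × ker u ≅ G ×_H G`, `(g, c) ↦ (g, g c)`. -/
theorem isPullback_torsor :
    IsPullback (fst G (pullback u η[H]))
      (fst G (pullback u η[H]) * (snd G (pullback u η[H]) ≫ pullback.fst u η[H])) u u := by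
  have hw : fst G (pullback u η[H]) ≫ u =
      (fst G (pullback u η[H]) * (snd G (pullback u η[H]) ≫ pullback.fst u η[H])) ≫ u := by
    rw [MonObj.mul_comp, Category.assoc, pullback.condition, ← Category.assoc,
      toUnit_unique (snd G (pullback u η[H]) ≫ pullback.snd u η[H]) (toUnit _), ← Hom.one_def,
      _root_.mul_one]
  have hc : ∀ s : PullbackCone u u, (s.fst⁻¹ * s.snd) ≫ u = toUnit s.pt ≫ η[H] := by
    intro s
    rw [MonObj.mul_comp, GrpObj.inv_comp, s.condition, inv_mul_cancel, Hom.one_def]
  refine ⟨⟨hw⟩, ⟨PullbackCone.IsLimit.mk hw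
    (fun s => lift s.fst (pullback.lift (s.fst⁻¹ * s.snd) (toUnit s.pt) (hc s))) ?_ ?_ ?_⟩⟩
  · intro s
    exact lift_fst _ _
  · intro s
    rw [MonObj.comp_mul, lift_fst, ← Category.assoc, lift_snd, pullback.lift_fst,
      mul_inv_cancel_left]
  · intro s m hm1 hm2
    apply CartesianMonoidalCategory.hom_ext
    · rw [lift_fst]
      exact hm1
    · rw [lift_snd]
      apply pullback.hom_ext
      · rw [pullback.lift_fst, Category.assoc]
        rw [MonObj.comp_mul, hm1, ← Category.assoc] at hm2
        rw [← hm2, inv_mul_cancel_left, Category.assoc]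
      · exact toUnit_unique _ _

end torsor

section field

variable {k : Type u} [Field k] (G H : Over (Spec (CommRingCat.of k))) [GrpObj G] [GrpObj H]
  (u : G ⟶ H) [IsMonHom u]

/-- a flat homomorphism, locally of finite presentation, to a connected group scheme over a field
is surjective. -/
theorem surjective_of_flat_of_connected [LocallyOfFinitePresentation u.left] [Flat u.left]
    [ConnectedSpace H.left] : Surjective u.left := by
  haveI : IrreducibleSpace H.left :=
    Groth.Agent.Lib.Helper25.IdComp.irreducibleSpace_of_connectedSpace H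
  let U : H.left.Opens := ⟨Set.range u.left, u.left.isOpenMap.isOpen_range⟩
  have hne : (U : Set H.left).Nonempty :=
    ⟨u.left (Groth.Agent.Lib.Helper25.IdComp.ePt G), _, rfl⟩
  have hU : Dense (U : Set H.left) := U.isOpen.dense hne
  constructor
  intro h
  obtain ⟨z, h1, h2, h3⟩ := Groth.Agent.Lib.Helper25.DenseMul.exists_mul_eq k H U U hU hU h
  have hz : z ∈ Set.range (u ⊗ₘ u).left := by
    rw [Groth.Agent.Lib.Helper25.TopGrp.range_tensorHom]
    exact ⟨h1, h2⟩
  obtain ⟨w, rfl⟩ := hz
  refine ⟨μ[G].left w, ?_⟩
  rw [← h3, ← Scheme.Hom.comp_apply, ← Scheme.Hom.comp_apply, ← Over.comp_left, ← Over.comp_left,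
    IsMonHom.mul_hom]

/-- a flat, surjective, quasi-compact, separated, locally quasi-finite homomorphism of group
schemes over a field, locally of finite presentation, is finite. -/
theorem isFinite_of_isogeny [LocallyOfFinitePresentation u.left] [Flat u.left]
    [Surjective u.left] [QuasiCompact u.left] [IsSeparated u.left] [LocallyQuasiFinite u.left] :
    IsFinite u.left := by
  -- the kernel
  let K : Over (Spec (CommRingCat.of k)) := pullback u η[H]
  have hsq := isPullback_torsor u
  have hsq' := hsq.map (Over.forget _)
  have hK := (IsPullback.of_hasPullback u η[H]).map (Over.forget _)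
  simp only [Over.forget_obj, Over.forget_map] at hsq' hK
  -- the kernel is finite over `k`
  haveI : LocallyQuasiFinite (pullback.snd u η[H]).left :=
    MorphismProperty.of_isPullback (P := @LocallyQuasiFinite) hK inferInstance
  haveI : QuasiCompact (pullback.snd u η[H]).left :=
    MorphismProperty.of_isPullback (P := @QuasiCompact) hK inferInstance
  have hKhom : K.hom = (pullback.snd u η[H]).left ≫ (𝟙_ (Over (Spec (CommRingCat.of k)))).hom :=
    (Over.w (pullback.snd u η[H])).symm
  have e1 : (𝟙_ (Over (Spec (CommRingCat.of k)))).hom = 𝟙 _ := rfl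
  rw [e1, Category.comp_id] at hKhom
  haveI : LocallyQuasiFinite K.hom := by rw [hKhom]; infer_instance
  haveI : QuasiCompact K.hom := by rw [hKhom]; infer_instance
  haveI : IsFinite K.hom := IsFinite.of_locallyQuasiFinite K.hom
  haveI : IsFinite (fst G K).left := inferInstanceAs (IsFinite (pullback.fst G.hom K.hom))
  haveI : UniversallyClosed u.left :=
    MorphismProperty.of_isPullback_of_descendsAlong (P := @UniversallyClosed)
      (Q := @Surjective ⊓ @Flat ⊓ @QuasiCompact) hsq'
      ⟨⟨inferInstance, inferInstance⟩, inferInstance⟩ inferInstance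
  haveI : IsProper u.left := {}
  exact IsFinite.of_isProper_of_locallyQuasiFinite u.left

end field

section forward
open scoped Obj

variable {S : Scheme.{u}} (G H : Over S) [GrpObj G] [GrpObj H]
    [IsSeparated G.hom] [QuasiCompact G.hom]
    [IsSeparated H.hom] [GeometricallyConnected H.hom]
    (f : G ⟶ H) [IsMonHom f]

set_option maxHeartbeats 1600000 in
theorem fibres_of_isogeny [Flat f.left] [LocallyQuasiFinite f.left]
    [LocallyOfFinitePresentation f.left] (s : S) :
    IsFinite (pullback.snd f.left (H.hom.fiberι s)) ∧
      Surjective (pullback.snd f.left (H.hom.fiberι s)) := by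
  let t := S.fromSpecResidueField s
  let Gs : Over (Spec (CommRingCat.of (S.residueField s))) := (Over.pullback t).obj G
  let Hs : Over (Spec (CommRingCat.of (S.residueField s))) := (Over.pullback t).obj H
  let fs : Gs ⟶ Hs := (Over.pullback t).map f
  haveI : IsMonHom fs := inferInstanceAs (IsMonHom ((Over.pullback t).map f))
  have hpb : IsPullback (pullback.fst G.hom t) fs.left f.left (pullback.fst H.hom t) :=
    isPullback_overPullback_map G H f t
  haveI : Flat fs.left := MorphismProperty.of_isPullback (P := @Flat) hpb inferInstance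
  haveI : LocallyQuasiFinite fs.left :=
    MorphismProperty.of_isPullback (P := @LocallyQuasiFinite) hpb inferInstance
  haveI : LocallyOfFinitePresentation fs.left :=
    MorphismProperty.of_isPullback (P := @LocallyOfFinitePresentation) hpb inferInstance
  haveI : ConnectedSpace Hs.left := inferInstanceAs (ConnectedSpace (H.hom.fiber s))
  haveI hsurj : Surjective fs.left := surjective_of_flat_of_connected Gs Hs fs
  haveI : QuasiCompact Gs.hom := inferInstanceAs (QuasiCompact (pullback.snd G.hom t))
  haveI : IsSeparated Gs.hom := inferInstanceAs (IsSeparated (pullback.snd G.hom t))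
  haveI : IsSeparated Hs.hom := inferInstanceAs (IsSeparated (pullback.snd H.hom t))
  have hw : fs.left ≫ Hs.hom = Gs.hom := Over.w fs
  haveI : QuasiCompact fs.left := by
    haveI : QuasiCompact (fs.left ≫ Hs.hom) := by rw [hw]; infer_instance
    exact QuasiCompact.of_comp fs.left Hs.hom
  haveI : IsSeparated fs.left := by
    haveI : IsSeparated (fs.left ≫ Hs.hom) := by rw [hw]; infer_instance
    exact IsSeparated.of_comp fs.left Hs.hom
  haveI hfin : IsFinite fs.left := isFinite_of_isogeny Gs Hs fs
  have hpb2 : IsPullback (pullback.fst f.left (H.hom.fiberι s))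
      (pullback.snd f.left (H.hom.fiberι s)) f.left (pullback.fst H.hom t) :=
    IsPullback.of_hasPullback _ _
  have he : (hpb2.isoIsPullback _ _ hpb).hom ≫ fs.left = pullback.snd f.left (H.hom.fiberι s) :=
    IsPullback.isoIsPullback_hom_snd _ _ hpb2 hpb
  rw [← he]
  exact ⟨(MorphismProperty.cancel_left_of_respectsIso @IsFinite _ _).mpr hfin,
    (MorphismProperty.cancel_left_of_respectsIso @Surjective _ _).mpr hsurj⟩

end forward

end Groth.Agent.Lib.Helper3.Isog
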