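import Mathlib
import Groth.Agent.Lib.Helper3Isog

set_option autoImplicit false
set_option linter.unusedVariables false
set_option linter.unusedSectionVars false
set_option linter.style.haveILetI false

open CategoryTheory CategoryTheory.Limits MonoidalCategory CartesianMonoidalCategory MonObj GrpObj
  AlgebraicGeometry TopologicalSpace Topology

universe u

namespace Groth.Agent.Lib.Helper3.GrpLocus

section cat

variable {C : Type*} [Category C] [CartesianMonoidalCategory C]
  {G H : C} [GrpObj G] [GrpObj H] (v : G ⟶ H) [IsMonHom v]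

lemma mulRight_hom_comp (a : 𝟙_ C ⟶ G) :
    (GrpObj.mulRight a).hom ≫ v = v ≫ (GrpObj.mulRight (a ≫ v)).hom := by
  simp [GrpObj.mulRight, IsMonHom.mul_hom, comp_lift_assoc, lift_map_assoc]

lemma mulRight_inv_comp (a : 𝟙_ C ⟶ G) :
    (GrpObj.mulRight a).inv ≫ v = v ≫ (GrpObj.mulRight (a ≫ v)).inv := by
  rw [Iso.inv_comp_eq, ← Category.assoc, Iso.eq_comp_inv, mulRight_hom_comp]

end cat

section locus

/-- the locus where a morphism has property `P` (on an open neighbourhood). -/
def locus (P : MorphismProperty Scheme.{u}) {X Y : Scheme.{u}} (f : X ⟶ Y) : Set X :=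
  {x | ∃ W : X.Opens, x ∈ W ∧ P (W.ι ≫ f)}

lemma isOpen_locus (P : MorphismProperty Scheme.{u}) {X Y : Scheme.{u}} (f : X ⟶ Y) :
    IsOpen (locus P f) := by
  rw [isOpen_iff_forall_mem_open]
  rintro x ⟨W, hxW, hW⟩
  exact ⟨W, fun z hz => ⟨W, hz, hW⟩, W.2, hxW⟩

lemma locus_eq_univ_iff (P : MorphismProperty Scheme.{u}) [IsZariskiLocalAtSource P]
    {X Y : Scheme.{u}} (f : X ⟶ Y) : locus P f = Set.univ ↔ P f := by
  constructor
  · intro h
    have : ∀ x : X, ∃ W : X.Opens, x ∈ W ∧ P (W.ι ≫ f) := fun x => by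
      have : x ∈ locus P f := by rw [h]; trivial
      exact this
    choose W hxW hW using this
    rw [IsZariskiLocalAtSource.iff_of_iSup_eq_top (P := P) W]
    · exact hW
    · rw [eq_top_iff]
      intro x _
      exact TopologicalSpace.Opens.mem_iSup.mpr ⟨x, hxW x⟩
  · intro h
    rw [Set.eq_univ_iff_forall]
    intro x
    exact ⟨⊤, trivial, IsZariskiLocalAtSource.comp h _⟩

/-- the locus is stable under automorphisms compatible with `f`. -/
lemma mem_locus_of_iso (P : MorphismProperty Scheme.{u}) [P.RespectsIso]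
    {X Y : Scheme.{u}} (f : X ⟶ Y) (α : X ≅ X) (β : Y ≅ Y) (h : α.hom ≫ f = f ≫ β.hom)
    (x : X) (hx : α.hom x ∈ locus P f) : x ∈ locus P f := by
  obtain ⟨W, hxW, hW⟩ := hx
  refine ⟨α.hom ⁻¹ᵁ W, hxW, ?_⟩
  have e : f = α.hom ≫ f ≫ β.inv := by
    rw [← Category.assoc, h, Category.assoc, Iso.hom_inv_id, Category.comp_id]
  have e2 : (α.hom ⁻¹ᵁ W).ι ≫ f = (α.hom ∣_ W) ≫ (W.ι ≫ f) ≫ β.inv := by
    conv_lhs => rw [e]
    rw [← Category.assoc, ← morphismRestrict_ι]
    simp only [Category.assoc]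
  rw [e2]
  exact (MorphismProperty.cancel_left_of_respectsIso P _ _).mpr
    ((MorphismProperty.cancel_right_of_respectsIso P _ _).mpr hW)

end locus

end Groth.Agent.Lib.Helper3.GrpLocus
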