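import Mathlib
import Groth.Agent.Lib.Helper3Isog
import Groth.Agent.Lib.Helper3GrpLocusA

set_option autoImplicit false
set_option linter.unusedVariables false
set_option linter.unusedSectionVars false
set_option linter.style.haveILetI false

open CategoryTheory CategoryTheory.Limits MonoidalCategory CartesianMonoidalCategory MonObj GrpObj
  AlgebraicGeometry TopologicalSpace Topology

universe u

namespace Groth.Agent.Lib.Helper3.GrpLocus

section algClosed

variable {K : Type u} [Field K] [IsAlgClosed K] (G H : Over (Spec (CommRingCat.of K)))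
  [GrpObj G] [GrpObj H] [LocallyOfFiniteType G.hom] (v : G ⟶ H) [IsMonHom v]

set_option backward.defeqAttrib.useBackward true in
set_option backward.isDefEq.respectTransparency false in
/-- over an algebraically closed field, the `P`-locus of a homomorphism of group schemes is empty
or everything. -/
theorem locus_eq_univ_of_nonempty (P : MorphismProperty Scheme.{u}) [P.RespectsIso]
    (hne : (locus P v.left).Nonempty) : locus P v.left = Set.univ := by
  have := LocallyOfFiniteType.jacobsonSpace G.hom
  rw [← not_ne_iff, ← Set.nonempty_compl]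
  intro Hc
  have hO := isOpen_locus P v.left
  obtain ⟨x, hx, hxc⟩ :=
    nonempty_inter_closedPoints Hc hO.isClosed_compl.isLocallyClosed
  obtain ⟨y, hy, hyc⟩ := nonempty_inter_closedPoints hne hO.isLocallyClosed
  let x' : 𝟙_ _ ⟶ G := Over.homMk _ ((pointEquivClosedPoint G.hom).symm ⟨x, hxc⟩).2
  let y' : 𝟙_ _ ⟶ G := Over.homMk _ ((pointEquivClosedPoint G.hom).symm ⟨y, hyc⟩).2
  let α := (GrpObj.mulRight x').symm ≪≫ (GrpObj.mulRight y')
  let β := (GrpObj.mulRight (x' ≫ v)).symm ≪≫ (GrpObj.mulRight (y' ≫ v))
  have hα : x' ≫ α.hom = y' := by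
    dsimp only [Iso.trans_hom, Iso.symm_hom, α]
    rw [← Category.assoc, ← Iso.eq_comp_inv]
    simp [comp_lift_assoc]
  have hα' : α.hom.left x = y := by
    simpa [x', y', pointEquivClosedPoint] using congr(($hα).left (IsLocalRing.closedPoint K))
  have hαβ : α.hom ≫ v = v ≫ β.hom := by
    dsimp only [Iso.trans_hom, Iso.symm_hom, α, β]
    rw [Category.assoc, mulRight_hom_comp, ← Category.assoc, mulRight_inv_comp, Category.assoc]
  have hαβ' : α.hom.left ≫ v.left = v.left ≫ β.hom.left := by
    rw [← Over.comp_left, ← Over.comp_left, hαβ]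
  apply hx
  refine mem_locus_of_iso P v.left ((Over.forget _).mapIso α) ((Over.forget _).mapIso β) hαβ' x ?_
  show α.hom.left x ∈ locus P v.left
  rw [hα']
  exact hy

end algClosed

end Groth.Agent.Lib.Helper3.GrpLocus
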