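import Mathlib
import Groth.Agent.Lib.Helper3Isog
import Groth.Agent.Lib.Helper3GrpLocusA
import Groth.Agent.Lib.Helper3GrpLocusB
import Groth.Agent.Lib.Helper3FibSmSchB
import Groth.Agent.Lib.Helper3FibEtSchB

set_option autoImplicit false
set_option linter.unusedVariables false
set_option linter.unusedSectionVars false
set_option linter.style.haveILetI false

open CategoryTheory CategoryTheory.Limits MonoidalCategory CartesianMonoidalCategory MonObj GrpObj
  AlgebraicGeometry TopologicalSpace Topology

universe u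

namespace Groth.Agent.Lib.Helper3.GrpLocus

open Groth.Agent.Lib.Helper3.GrpHomQF
open scoped Obj

/-- base change of the `P`-locus. -/
lemma mem_locus_of_isPullback (P : MorphismProperty Scheme.{u}) [P.IsStableUnderBaseChange]
    {X Y X' Y' : Scheme.{u}} {p' : X' ⟶ X} {f' : X' ⟶ Y'}
    {f : X ⟶ Y} {p : Y' ⟶ Y} (hpb : IsPullback p' f' f p) (z : X')
    (hz : p' z ∈ locus P f) : z ∈ locus P f' := by
  obtain ⟨W, hxW, hW⟩ := hz
  refine ⟨p' ⁻¹ᵁ W, hxW, ?_⟩
  have htop : IsPullback (p' ∣_ W) (p' ⁻¹ᵁ W).ι W.ι p' := isPullback_morphismRestrict p' W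
  exact MorphismProperty.of_isPullback (P := P) (htop.paste_vert hpb) hW

section field

variable {κ : Type u} [Field κ] (G H : Over (Spec (CommRingCat.of κ)))
  [GrpObj G] [GrpObj H] [LocallyOfFiniteType G.hom] (v : G ⟶ H) [IsMonHom v]

set_option maxHeartbeats 1600000 in
/-- over a field, a homomorphism of group schemes that has the (fpqc local, Zariski local on the
source) property `P` on a nonempty open has it everywhere. -/
theorem of_locus_nonempty (P : MorphismProperty Scheme.{u})
    [P.IsStableUnderBaseChange] [IsZariskiLocalAtSource P]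
    [P.DescendsAlong (@Surjective ⊓ @Flat ⊓ @QuasiCompact)]
    (hne : (locus P v.left).Nonempty) : P v.left := by
  let Ω : Type u := AlgebraicClosure κ
  let g : Spec (.of Ω) ⟶ Spec (.of κ) := Spec.map (CommRingCat.ofHom <| algebraMap κ Ω)
  have hg : (@Surjective ⊓ @Flat ⊓ @QuasiCompact : MorphismProperty Scheme.{u}) g :=
    ⟨⟨inferInstance, inferInstance⟩, inferInstance⟩
  let GΩ : Over (Spec (CommRingCat.of Ω)) := (Over.pullback g).obj G
  let HΩ : Over (Spec (CommRingCat.of Ω)) := (Over.pullback g).obj H
  let vΩ : GΩ ⟶ HΩ := (Over.pullback g).map v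
  haveI : IsMonHom vΩ := inferInstanceAs (IsMonHom ((Over.pullback g).map v))
  haveI : LocallyOfFiniteType GΩ.hom := inferInstanceAs (LocallyOfFiniteType (pullback.snd G.hom g))
  have hpb : IsPullback (pullback.fst G.hom g) vΩ.left v.left (pullback.fst H.hom g) :=
    isPullback_overPullback_map G H v g
  have hp : (@Surjective ⊓ @Flat ⊓ @QuasiCompact : MorphismProperty Scheme.{u})
      (pullback.fst H.hom g) :=
    MorphismProperty.pullback_fst _ _ hg
  haveI : Surjective (pullback.fst G.hom g) :=
    (MorphismProperty.pullback_fst (P := (@Surjective ⊓ @Flat ⊓ @QuasiCompact :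
      MorphismProperty Scheme.{u})) _ _ hg).1.1
  obtain ⟨x, hx⟩ := hne
  obtain ⟨z, hz⟩ := (pullback.fst G.hom g).surjective x
  have hzL : z ∈ locus P vΩ.left := mem_locus_of_isPullback P hpb z (by rw [hz]; exact hx)
  have huniv := locus_eq_univ_of_nonempty GΩ HΩ vΩ P ⟨z, hzL⟩
  have hPΩ : P vΩ.left := (locus_eq_univ_iff P _).mp huniv
  exact MorphismProperty.of_isPullback_of_descendsAlong (P := P)
    (Q := @Surjective ⊓ @Flat ⊓ @QuasiCompact) hpb.flip hp hPΩ

end field

section base

variable {S : Scheme.{u}} (G H : Over S) [GrpObj G] [GrpObj H] (u : G ⟶ H) [IsMonHom u]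
  [LocallyOfFiniteType G.hom]

set_option maxHeartbeats 1600000 in
/-- if `u` has `P` near `x`, then the fibre `u_s` over `s = G.hom x` has `P`. -/
theorem fibre_of_mem_locus (P : MorphismProperty Scheme.{u})
    [P.IsStableUnderBaseChange] [IsZariskiLocalAtSource P]
    [P.DescendsAlong (@Surjective ⊓ @Flat ⊓ @QuasiCompact)]
    (x : G.left) (hx : x ∈ locus P u.left) :
    P ((Over.pullback (S.fromSpecResidueField (G.hom x))).map u).left := by
  let s := G.hom x
  let t := S.fromSpecResidueField s
  let Gs : Over (Spec (CommRingCat.of (S.residueField s))) := (Over.pullback t).obj G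
  let Hs : Over (Spec (CommRingCat.of (S.residueField s))) := (Over.pullback t).obj H
  let us : Gs ⟶ Hs := (Over.pullback t).map u
  haveI : IsMonHom us := inferInstanceAs (IsMonHom ((Over.pullback t).map u))
  have hpb : IsPullback (pullback.fst G.hom t) us.left u.left (pullback.fst H.hom t) :=
    isPullback_overPullback_map G H u t
  haveI : LocallyOfFiniteType Gs.hom := inferInstanceAs (LocallyOfFiniteType (pullback.snd G.hom t))
  have hx' : x ∈ Set.range (G.hom.fiberι s) := by
    rw [Scheme.Hom.range_fiberι]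
    rfl
  obtain ⟨z₀, hz₀⟩ := hx'
  have hz₀' : pullback.fst G.hom t z₀ = x := hz₀
  have hzL : z₀ ∈ locus P us.left := mem_locus_of_isPullback P hpb z₀ (by rw [hz₀']; exact hx)
  exact of_locus_nonempty Gs Hs us P ⟨z₀, hzL⟩

/-- openness of the set of `s` with `P u_s`, given the pointwise characterisation. -/
theorem isOpen_setOf_fibre (P : MorphismProperty Scheme.{u})
    (h : ∀ x : G.left, x ∈ locus P u.left ↔
      P ((Over.pullback (S.fromSpecResidueField (G.hom x))).map u).left) :
    IsOpen {s : S | P ((Over.pullback (S.fromSpecResidueField s)).map u).left} := by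
  have hO : IsOpen (locus P u.left) := isOpen_locus P u.left
  have hc : Continuous (Groth.Agent.Lib.Helper3.GrpFibDim.unitSec G) :=
    (Groth.Agent.Lib.Helper3.GrpFibDim.unitSec G).continuous
  convert hO.preimage hc using 1
  ext s
  simp only [Set.mem_setOf_eq, Set.mem_preimage]
  rw [h, Groth.Agent.Lib.Helper3.GrpFibDim.hom_unitSec]

end base


section crit

variable {S : Scheme.{u}} (G H : Over S) (u : G ⟶ H)

/-- the fibre map `u_s` in the form used by the fibre criteria. -/
theorem overPullback_map_left_eq (s : S) :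
    ((Over.pullback (S.fromSpecResidueField s)).map u).left =
      CohIII.fiberMapOver u.left G.hom H.hom (Over.w u) s := by
  apply pullback.hom_ext
  · exact (pullback.lift_fst _ _ _).trans (pullback.lift_fst _ _ _).symm
  · exact (pullback.lift_snd _ _ _).trans
      ((Category.comp_id _).symm.trans (pullback.lift_snd _ _ _).symm)

variable [Flat G.hom] [LocallyOfFinitePresentation G.hom] [LocallyOfFiniteType H.hom]

theorem lfp_hom : LocallyOfFinitePresentation u.left :=
  Groth.Agent.Lib.Helper6.locallyOfFinitePresentation_of_comp (g := H.hom) inferInstance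
    (by rw [Over.w u]; infer_instance)

/-- **smooth fibre criterion for `S`-morphisms `u : G → H`**: if `u_s` is smooth, `u` is smooth
near every point over `s`. -/
theorem mem_locus_smooth_of_fibre (x : G.left)
    (h : Smooth ((Over.pullback (S.fromSpecResidueField (G.hom x))).map u).left) :
    x ∈ locus @Smooth u.left := by
  haveI := lfp_hom G H u
  rw [overPullback_map_left_eq] at h
  replace h : Smooth (CohIII.fiberMapOver u.left G.hom H.hom (Over.w u) (G.hom x)) := h
  have hfs : (u.left.stalkMap x).hom.FormallySmooth := by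
    refine Groth.Agent.Lib.Helper3.FibSmSch.formallySmooth_stalkMap_of_flat_of_fibre' u.left H.hom
      G.hom (Over.w u) x (G.hom x) rfl (Flat.stalkMap G.hom x) ⊤ trivial ?_
    exact IsZariskiLocalAtSource.comp (P := @Smooth) h
      (Scheme.Opens.ι ((G.hom.fiberι (G.hom x)) ⁻¹ᵁ ⊤))
  let W := u.left.smoothLocus
  have hW : Smooth (W.ι ≫ u.left) := by
    rw [← Scheme.Hom.smoothLocus_eq_top_iff, ← Scheme.Hom.preimage_smoothLocus_eq, ← top_le_iff]
    rintro z -
    exact z.2
  exact ⟨W, hfs, hW⟩

omit [Flat G.hom] [LocallyOfFinitePresentation G.hom] [LocallyOfFiniteType H.hom] in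
/-- variant of `exists_etale_nhd_of_flat_of_fibre` with a named composite. -/
theorem exists_etale_nhd_of_flat_of_fibre' {X Y S : Scheme.{u}} (f : X ⟶ Y) (g : Y ⟶ S)
    (h : X ⟶ S) (w : f ≫ g = h)
    [LocallyOfFinitePresentation h] [LocallyOfFiniteType g]
    (x : X) (s : S) (hxs : h x = s)
    (hflat : (h.stalkMap x).hom.Flat)
    (U' : X.Opens) (hxU' : x ∈ U')
    (hfib : Etale (((h.fiberι s) ⁻¹ᵁ U').ι ≫ CohIII.fiberMapOver f h g w s)) :
    ∃ U : X.Opens, x ∈ U ∧ Etale (U.ι ≫ f) := by
  subst w
  exact Groth.Agent.Lib.Helper3.FibEtSch.exists_etale_nhd_of_flat_of_fibre f g x s hxs hflat U' hxU' hfib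

/-- **étale fibre criterion for `S`-morphisms `u : G → H`**. -/
theorem mem_locus_etale_of_fibre (x : G.left)
    (h : Etale ((Over.pullback (S.fromSpecResidueField (G.hom x))).map u).left) :
    x ∈ locus @Etale u.left := by
  rw [overPullback_map_left_eq] at h
  replace h : Etale (CohIII.fiberMapOver u.left G.hom H.hom (Over.w u) (G.hom x)) := h
  exact exists_etale_nhd_of_flat_of_fibre' u.left H.hom G.hom (Over.w u) x (G.hom x) rfl
    (Flat.stalkMap G.hom x) ⊤ trivial (IsZariskiLocalAtSource.comp (P := @Etale) h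
      (Scheme.Opens.ι ((G.hom.fiberι (G.hom x)) ⁻¹ᵁ ⊤)))

end crit

end Groth.Agent.Lib.Helper3.GrpLocus
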