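import Mathlib
import Groth.Agent.Lib.Helper3Isog
import Groth.Agent.Lib.Helper25IdCompScheme
import Groth.Agent.Lib.Helper14LocNoeth

set_option autoImplicit false
set_option linter.unusedVariables false
set_option linter.unusedSectionVars false
set_option linter.style.haveILetI false

open CategoryTheory CategoryTheory.Limits MonoidalCategory CartesianMonoidalCategory MonObj GrpObj
  AlgebraicGeometry TopologicalSpace Topology

universe u

namespace Groth.Agent.Lib.Helper3.GrpNeutral

open Groth.Agent.Lib.Helper25.IdComp Groth.Agent.Lib.Helper25.IdComp0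

section cat

variable {C : Type*} [Category C] [CartesianMonoidalCategory C]
  {G H K : C} [GrpObj G] [GrpObj H] [GrpObj K]

/-- a morphism whose composite with a monomorphic homomorphism is a homomorphism is one. -/
lemma isMonHom_of_comp_mono (w' : G ⟶ K) (i : K ⟶ H) [Mono i] [IsMonHom i] [IsMonHom (w' ≫ i)] :
    IsMonHom w' where
  one_hom := by
    rw [← cancel_mono i, Category.assoc, IsMonHom.one_hom (f := w' ≫ i), IsMonHom.one_hom]
  mul_hom := by
    rw [← cancel_mono i, Category.assoc, IsMonHom.mul_hom (f := w' ≫ i), Category.assoc,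
      IsMonHom.mul_hom, ← Category.assoc, ← tensorHom_comp_tensorHom]

end cat

section field

variable {k : Type u} [Field k] (G H : Over (Spec (CommRingCat.of k))) [GrpObj G] [GrpObj H]
  (u : G ⟶ H) [IsMonHom u]

omit [IsMonHom u] in
/-- a locally of finite type scheme over a field is locally connected. -/
theorem locallyConnectedSpace_of_lft [LocallyOfFiniteType G.hom] : LocallyConnectedSpace G.left := by
  haveI : IsLocallyNoetherian G.left := LocallyOfFiniteType.isLocallyNoetherian G.hom
  apply Groth.Agent.Lib.Helper14.locallyConnectedSpace_of_locally_noetherian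
  intro x
  obtain ⟨_, ⟨W, hW, rfl⟩, hxW, -⟩ := G.left.isBasis_affineOpens.exists_subset_of_mem_open
    (Set.mem_univ x) isOpen_univ
  replace hW : IsAffineOpen W := hW
  haveI : IsNoetherianRing Γ(G.left, W) := IsLocallyNoetherian.component_noetherian ⟨W, hW⟩
  exact ⟨W, W.isOpen.mem_nhds hxW, noetherianSpace_of_isAffineOpen W hW⟩

/-- a homomorphism with open range into a connected group scheme over a field is surjective. -/
theorem surjective_of_isOpen_range [ConnectedSpace H.left] (hO : IsOpen (Set.range u.left)) :
    Surjective u.left := by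
  haveI : IrreducibleSpace H.left :=
    Groth.Agent.Lib.Helper25.IdComp.irreducibleSpace_of_connectedSpace H
  let U : H.left.Opens := ⟨Set.range u.left, hO⟩
  have hne : (U : Set H.left).Nonempty :=
    ⟨u.left (Groth.Agent.Lib.Helper25.IdComp.ePt G), _, rfl⟩
  have hU : Dense (U : Set H.left) := U.isOpen.dense hne
  constructor
  intro h
  obtain ⟨z, h1, h2, h3⟩ := Groth.Agent.Lib.Helper25.DenseMul.exists_mul_eq k H U U hU hU h
  have hz : z ∈ Set.range (u ⊗ₘ u).left := by
    rw [Groth.Agent.Lib.Helper25.TopGrp.range_tensorHom]
    exact ⟨h1, h2⟩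
  obtain ⟨w, rfl⟩ := hz
  refine ⟨μ[G].left w, ?_⟩
  rw [← h3, ← Scheme.Hom.comp_apply, ← Scheme.Hom.comp_apply, ← Over.comp_left, ← Over.comp_left,
    IsMonHom.mul_hom]

lemma hom_ePt : u.left (ePt G) = ePt H := by
  unfold ePt
  rw [← Scheme.Hom.comp_apply, ← Over.comp_left, IsMonHom.one_hom]

set_option maxHeartbeats 1600000 in
/-- an open homomorphism of group schemes over a field (source locally of finite type) maps the
neutral component onto the neutral component. -/
theorem image_connectedComponent_ePt [LocallyOfFiniteType G.hom] (ho : IsOpenMap u.left) :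
    u.left '' connectedComponent (ePt G) = connectedComponent (ePt H) := by
  haveI := locallyConnectedSpace_of_lft G
  obtain ⟨iG, hGmon⟩ := Groth.Agent.Lib.Helper25.IdComp0.exists_grpObj_G0 G
  obtain ⟨iH, hHmon⟩ := Groth.Agent.Lib.Helper25.IdComp0.exists_grpObj_G0 H
  let w : G0 G ⟶ H := G0incl G ≫ u
  have hrw : Set.range w.left = u.left '' connectedComponent (ePt G) := by
    rw [← range_G0incl_left G, ← Set.range_comp]
    rfl
  have hsub : Set.range w.left ⊆ connectedComponent (ePt H) := by
    rw [hrw]
    have hpre : _root_.IsPreconnected (u.left '' connectedComponent (ePt G)) :=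
      isPreconnected_connectedComponent.image _ u.left.continuous.continuousOn
    exact hpre.subset_connectedComponent ⟨ePt G, mem_connectedComponent, hom_ePt G H u⟩
  obtain ⟨w', hw'⟩ := exists_lift_G0_over H w hsub
  haveI : IsMonHom (w' ≫ G0incl H) := by rw [hw']; infer_instance
  haveI : IsMonHom w' := isMonHom_of_comp_mono w' (G0incl H)
  have hinj : Function.Injective (G0incl H).left :=
    (G0ι H).isClosedEmbedding.injective
  have hw'l : w'.left ≫ (G0incl H).left = w.left := by rw [← Over.comp_left, hw']
  have hrange : Set.range w'.left = (G0incl H).left ⁻¹' (Set.range w.left) := by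
    ext z
    constructor
    · rintro ⟨t, rfl⟩
      exact ⟨t, by rw [← hw'l]; rfl⟩
    · rintro ⟨t, ht⟩
      refine ⟨t, hinj ?_⟩
      rw [← ht, ← hw'l]
      rfl
  have hO : IsOpen (Set.range w'.left) := by
    rw [hrange, hrw]
    exact (ho _ isOpen_connectedComponent).preimage (G0incl H).left.continuous
  haveI : ConnectedSpace (G0 H).left := inferInstance
  have hsurj := surjective_of_isOpen_range (G0 G) (G0 H) w' hO
  rw [← hrw, ← hw'l, ← range_G0incl_left H]
  show Set.range (w'.left ≫ (G0incl H).left) = _
  rw [Scheme.Hom.comp_base, TopCat.coe_comp, Set.range_comp, hsurj.surj.range_eq, Set.image_univ]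

end field

end Groth.Agent.Lib.Helper3.GrpNeutral
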