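import Mathlib
import Groth.Agent.S5328
import Groth.Agent.Lib.Helper25IdCompScheme
import Groth.Agent.Lib.Helper22UOa
import Groth.Agent.Lib.Helper22UOb
import Groth.Agent.Lib.Helper22SCfp

set_option autoImplicit false
set_option linter.style.haveILetI false
set_option linter.unusedSectionVars false
set_option linter.unusedVariables false

universe u

open CategoryTheory CategoryTheory.Limits MonoidalCategory CartesianMonoidalCategory MonObj GrpObj
  AlgebraicGeometry

namespace Groth.Agent.Lib.Helper22.NCa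

open Groth.Agent.Lib.Helper25.IdComp Groth.Agent.Lib.Helper25.IdComp0
  Groth.Agent.Lib.Helper3.GrpFibDim

variable {S : Scheme.{u}} (G : Over S) [GrpObj G]

/-- the neutral component in the fibre over `y`, as the connected component of the unit section. -/
theorem neutralSet_inter_fibre (y : S) :
    SGA3x.neutralSet G ∩ G.hom.base ⁻¹' {y} =
      connectedComponentIn (G.hom.base ⁻¹' {y}) ((unitSec G).base y) := by
  rw [Groth.Agent.S5322.neutralSet_eq_sectionComponents]
  ext x
  simp only [Set.mem_inter_iff, MoreMor.sectionComponents, Set.mem_ofPred_eq, Set.mem_preimage,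
    Set.mem_singleton_iff]
  constructor
  · rintro ⟨h1, h2⟩
    subst h2
    exact h1
  · intro h
    have hx : x ∈ G.hom.base ⁻¹' {y} :=
      connectedComponentIn_subset (G.hom.base ⁻¹' {y}) ((unitSec G).base y) h
    have hx : G.hom.base x = y := hx
    subst hx
    exact ⟨h, rfl⟩

/-- the neutral components of the fibres of a group scheme are geometrically irreducible. -/
theorem isIrreducible_preimage_neutral (y : S) (K : Type u) [Field K]
    [Algebra (IsLocalRing.ResidueField (S.presheaf.stalk y)) K] :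
    IsIrreducible ((FBase.bcπ (G.hom.fiberToSpecResidueField y) K ≫ G.hom.fiberι y).base ⁻¹'
      connectedComponentIn (G.hom.base ⁻¹' {y}) ((unitSec G).base y)) := by
  let Gy : Over (Spec (CommRingCat.of (S.residueField y))) := Red.bc (S.fromSpecResidueField y) G
  have h1 : (G.hom.fiberι y).base ⁻¹'
      connectedComponentIn (G.hom.base ⁻¹' {y}) ((unitSec G).base y) =
      Set.range (G0ι Gy) := by
    rw [range_G0ι, ← neutralSet_inter_fibre]
    ext z
    have := Groth.Agent.S5328.mem_neutralSet_iff G y z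
    rw [Set.mem_preimage, Set.mem_inter_iff]
    constructor
    · intro h
      exact this.mp h.1
    · intro h
      refine ⟨this.mpr h, ?_⟩
      have : (G.hom.fiberι y) z ∈ Set.range (G.hom.fiberι y) := ⟨z, rfl⟩
      rw [Scheme.Hom.range_fiberι] at this
      exact this
  letI : Algebra (S.residueField y) K := ‹Algebra (IsLocalRing.ResidueField (S.presheaf.stalk y)) K›
  have hpre : (FBase.bcπ (G.hom.fiberToSpecResidueField y) K ≫ G.hom.fiberι y).base ⁻¹'
      connectedComponentIn (G.hom.base ⁻¹' {y}) ((unitSec G).base y) =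
      (FBase.bcπ (G.hom.fiberToSpecResidueField y) K).base ⁻¹' Set.range (G0ι Gy) := by
    exact congrArg (fun A => (FBase.bcπ (G.hom.fiberToSpecResidueField y) K).base ⁻¹' A) h1
  rw [hpre]
  have hirr : IrreducibleSpace ↥(FBase.bc (G0 Gy).hom K) :=
    (Groth.Agent.Lib.Helper22.UOb.geometricallyIrreducible_iff_forall (G0 Gy).hom).mp
      inferInstance K
  let bπ : FBase.bc Gy.hom K ⟶ Gy.left := FBase.bcπ Gy.hom K
  have hr : Set.range (pullback.snd (G0ι Gy) bπ) = bπ.base ⁻¹' Set.range (G0ι Gy) :=
    Scheme.Pullback.range_snd _ _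
  let e : pullback (G0ι Gy) bπ ≅ FBase.bc (G0 Gy).hom K :=
    pullbackRightPullbackFstIso Gy.hom
      (Spec.map (CommRingCat.ofHom (algebraMap (S.residueField y) K))) (G0ι Gy)
  haveI : IrreducibleSpace ↥(pullback (G0ι Gy) bπ) :=
    e.hom.homeomorph.irreducibleSpace_iff.mpr hirr
  show IsIrreducible (bπ.base ⁻¹' Set.range (G0ι Gy))
  rw [← hr, ← Set.image_univ]
  exact (IrreducibleSpace.isIrreducible_univ _).image _
    (pullback.snd (G0ι Gy) bπ).continuous.continuousOn

variable [LocallyOfFinitePresentation G.hom]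

open Groth.Agent.Lib.Helper4.DimFormula in
/-- the dimension of the fibre of a group scheme is the dimension of its neutral component. -/
theorem dim_fibre_eq_dim_neutral (t : S) :
    topologicalKrullDim ↥(G.hom.base ⁻¹' {t}) =
      topologicalKrullDim ↥(connectedComponentIn (G.hom.base ⁻¹' {t}) ((unitSec G).base t)) := by
  haveI : LocallyOfFiniteType G.hom := inferInstance
  have hirrTop : IsIrreducible (connectedComponentIn (G.hom.base ⁻¹' {t}) ((unitSec G).base t)) :=
    isIrreducible_of_forall_bcπ G.hom t _ (connectedComponentIn_subset _ _)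
      (fun K _ _ => isIrreducible_preimage_neutral G t K)
  rw [dim_fibre_eq, dim_sectionComponent_eq_fibreDimAt G.hom (unitSec G) (unitSec_hom G) t hirrTop]

/-- SGA3 VI_B 4.4, (ii) ⇒ (i). -/
theorem univOpen_of_dim_const (s : S)
    (h : ∃ U : Set S, U ∈ nhds s ∧ ∀ t ∈ U,
      topologicalKrullDim ↥(G.hom.base ⁻¹' {t}) = topologicalKrullDim ↥(G.hom.base ⁻¹' {s})) :
    ∀ x ∈ (SGA3x.neutralSet G ∩ G.hom.base ⁻¹' {s}), EGA43.IsUnivOpenAt G.hom x := by
  rw [neutralSet_inter_fibre]
  obtain ⟨U, hU, hUd⟩ := h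
  refine Groth.Agent.Lib.Helper22.UOa.isUnivOpenAt_of_dim_sectionComponent_const_fp G.hom
    (unitSec G) (unitSec_hom G) (fun y K _ _ => isIrreducible_preimage_neutral G y K) s
    ⟨U, hU, fun z hz => ?_⟩
  rw [← dim_fibre_eq_dim_neutral, ← dim_fibre_eq_dim_neutral]
  exact hUd z hz

/-- SGA3 VI_B 4.4, (i bis) ⇒ (ii). -/
theorem dim_const_of_univOpen (s : S) (W : G.left.Opens) (hW : (unitSec G).base s ∈ W)
    (h : ∀ x ∈ (SGA3x.neutralSet G ∩ G.hom.base ⁻¹' {s}), x ∈ W → EGA43.IsUnivOpenAt G.hom x) :
    ∃ U : Set S, U ∈ nhds s ∧ ∀ t ∈ U,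
      topologicalKrullDim ↥(G.hom.base ⁻¹' {t}) = topologicalKrullDim ↥(G.hom.base ⁻¹' {s}) := by
  haveI : LocallyOfFiniteType G.hom := inferInstance
  rw [neutralSet_inter_fibre] at h
  obtain ⟨V, hV, hVd⟩ := Groth.Agent.Lib.Helper22.SC.dim_sectionComponent_const_fp G.hom
    (unitSec G) (unitSec_hom G) (fun y K _ _ => isIrreducible_preimage_neutral G y K) s
    (fun ξ hξ hcl => h ξ hξ (by
      have hsp : ξ ⤳ (unitSec G).base s := by
        rw [specializes_iff_mem_closure]
        exact hcl (mem_connectedComponentIn (hom_unitSec G s))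
      exact hsp.mem_open W.isOpen hW))
    (Or.inr (fun y' _ _ => by
      rw [(G.hom.fiberHomeo y').isHomeomorph.topologicalKrullDim_eq]
      exact dim_fibre_eq_dim_neutral G y'))
  refine ⟨V, hV, fun t ht => ?_⟩
  rw [dim_fibre_eq_dim_neutral, dim_fibre_eq_dim_neutral]
  exact hVd t ht

end Groth.Agent.Lib.Helper22.NCa
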