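import Groth.Prelude.Def_PLie
import Mathlib.Algebra.Lie.Engel
import Mathlib.Algebra.Lie.Solvable
import Mathlib.RingTheory.Noetherian.Basic

/-!
# Helper22: restricted Lie algebras (`PLie`) — nilradical and `p`-radical lemmas
-/

set_option autoImplicit false

namespace Groth.Agent.Lib.Helper22

section

variable {k : Type*} [Field k] {p : ℕ} [CharP k p]
  {L : Type*} [LieRing L] [LieAlgebra k L]

theorem ad_iterate_pmap (φ : PLie.PMap k p L) (x : L) (n : ℕ) :
    LieAlgebra.ad k L (φ.toFun^[n] x) = LieAlgebra.ad k L x ^ (p ^ n) := by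
  induction n with
  | zero => simp
  | succ n ih =>
    rw [Function.iterate_succ_apply', φ.ad_map, ih, ← pow_mul, pow_succ]

theorem isNilpotent_ad_of_isPNilpotent (φ : PLie.PMap k p L) (x : L)
    (hx : PLie.IsPNilpotent φ x) : IsNilpotent (LieAlgebra.ad k L x) := by
  obtain ⟨n, hn⟩ := hx
  refine ⟨p ^ n, ?_⟩
  rw [← ad_iterate_pmap, hn, map_zero]

theorem coe_ad_pow (I : LieIdeal k L) (y z : I) (n : ℕ) :
    (((LieAlgebra.ad k I y) ^ n) z : L) = ((LieAlgebra.ad k L (y : L)) ^ n) (z : L) := by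
  induction n generalizing z with
  | zero => simp
  | succ n ih =>
    rw [pow_succ, Module.End.mul_apply, ih, pow_succ, Module.End.mul_apply]
    rfl

theorem isNilpotent_ideal_of_ad_nilpotent [Module.Finite k L]
    (I : LieIdeal k L) (h : ∀ x ∈ I, IsNilpotent (LieAlgebra.ad k L x)) :
    LieRing.IsNilpotent I := by
  rw [LieAlgebra.isNilpotent_iff_forall (R := k)]
  rintro ⟨y, hy⟩
  obtain ⟨n, hn⟩ := h y hy
  refine ⟨n, ?_⟩
  ext z
  rw [coe_ad_pow, hn]
  simp

/-- The `N`-lower central series of `L` is controlled by the lower central series of `N`. -/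
theorem lcs_succ_le (N : LieIdeal k L) (j : ℕ) :
    (N.lcs L (j + 1)).toSubmodule ≤
      (LieModule.lowerCentralSeries k N N j).toSubmodule.map N.toSubmodule.subtype := by
  induction j with
  | zero =>
    rw [LieIdeal.lcs_succ, LieIdeal.lcs_zero, LieSubmodule.lieIdeal_oper_eq_linear_span',
      Submodule.span_le]
    rintro _ ⟨x, hx, n, -, rfl⟩
    refine ⟨⟨⁅x, n⁆, lie_mem_left k L N x n hx⟩, ?_, rfl⟩
    simp
  | succ j ih =>
    rw [LieIdeal.lcs_succ, LieSubmodule.lieIdeal_oper_eq_linear_span', Submodule.span_le]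
    rintro _ ⟨x, hx, n, hn, rfl⟩
    obtain ⟨n', hn', rfl⟩ := ih hn
    refine ⟨⁅(⟨x, hx⟩ : N), n'⁆, ?_, rfl⟩
    rw [LieModule.lowerCentralSeries_succ]
    exact LieSubmodule.lie_mem_lie (LieSubmodule.mem_top _) hn'

theorem exists_lcs_eq_bot (N : LieIdeal k L) (hN : LieRing.IsNilpotent N) :
    ∃ K : ℕ, N.lcs L K = ⊥ := by
  obtain ⟨j, hj⟩ := (LieModule.isNilpotent_iff k N N).mp hN
  refine ⟨j + 1, ?_⟩
  rw [eq_bot_iff]
  intro m hm
  have := lcs_succ_le N j hm
  rw [hj] at this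
  obtain ⟨m', hm', rfl⟩ := this
  have h0 : m' = 0 := by simpa using hm'
  simp [h0]

/-- An endomorphism shifting the `N`-filtration of `L` is nilpotent. -/
theorem isNilpotent_of_shift (N : LieIdeal k L) (hN : LieRing.IsNilpotent N)
    (T : Module.End k L) (hT : ∀ i : ℕ, ∀ m ∈ N.lcs L i, T m ∈ N.lcs L (i + 1)) :
    IsNilpotent T := by
  obtain ⟨K, hK⟩ := exists_lcs_eq_bot N hN
  refine ⟨K, ?_⟩
  have key : ∀ j : ℕ, ∀ m : L, (T ^ j) m ∈ N.lcs L j := by
    intro j
    induction j with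
    | zero => intro m; simp
    | succ j ih =>
      intro m
      rw [pow_succ', Module.End.mul_apply]
      exact hT j _ (ih m)
  ext m
  have := key K m
  rw [hK] at this
  simpa using this

theorem ad_pow_mem_lcs (N : LieIdeal k L) (x : L) (hx : x ∈ N) (i : ℕ) (m : L)
    (hm : m ∈ N.lcs L i) (j : ℕ) (hj : 1 ≤ j) :
    ((LieAlgebra.ad k L x) ^ j) m ∈ N.lcs L (i + 1) := by
  obtain ⟨j, rfl⟩ : ∃ j', j = j' + 1 := ⟨j - 1, by omega⟩
  rw [pow_succ', Module.End.mul_apply, LieAlgebra.ad_apply, LieIdeal.lcs_succ]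
  refine LieSubmodule.lie_mem_lie hx ?_
  clear hj
  induction j with
  | zero => simpa using hm
  | succ j ih =>
    rw [pow_succ', Module.End.mul_apply, LieAlgebra.ad_apply]
    exact (N.lcs L i).lie_mem ih

/-- elements of a nilpotent ideal are ad-nilpotent on `L`. -/
theorem isNilpotent_ad_of_mem (N : LieIdeal k L) (hN : LieRing.IsNilpotent N) (x : L)
    (hx : x ∈ N) : IsNilpotent (LieAlgebra.ad k L x) := by
  apply isNilpotent_of_shift N hN
  intro i m hm
  have := ad_pow_mem_lcs N x hx i m hm 1 le_rfl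
  simpa using this

end

section

variable {k : Type*} [Field k] {p : ℕ} [Fact p.Prime] [CharP k p]
  {L : Type*} [LieRing L] [LieAlgebra k L]

omit [Fact p.Prime] in
theorem lie_pmap_eq (φ : PLie.PMap k p L) (x y : L) :
    ⁅φ x, y⁆ = (LieAlgebra.ad k L x ^ p) y := by
  rw [← φ.ad_map x]; rfl

theorem pmap_mem_of_isNilpotent_max [Module.Finite k L]
    (φ : PLie.PMap k p L) (N : LieIdeal k L) (hN : LieRing.IsNilpotent N)
    (hmax : ∀ I : LieIdeal k L, LieRing.IsNilpotent I → I ≤ N)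
    (x : L) (hx : x ∈ N) : φ x ∈ N := by
  have hp1 : 1 ≤ p := (Fact.out : p.Prime).pos
  have hbr : ∀ y : L, ⁅y, φ x⁆ ∈ N := by
    intro y
    rw [← lie_skew, neg_mem_iff, lie_pmap_eq]
    have := ad_pow_mem_lcs N x hx 0 y (by simp) p hp1
    rw [LieIdeal.lcs_succ] at this
    exact LieSubmodule.lie_le_left _ _ this
  have hbrJ : ∀ y : L, ∀ b ∈ N.toSubmodule ⊔ Submodule.span k {φ x}, ⁅y, b⁆ ∈ N := by
    intro y b hb
    obtain ⟨r, hr, s, hs, rfl⟩ := Submodule.mem_sup.mp hb
    obtain ⟨c, rfl⟩ := Submodule.mem_span_singleton.mp hs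
    rw [lie_add, lie_smul]
    exact add_mem (lie_mem_right k L N y r hr) (N.smul_mem c (hbr y))
  let J : LieIdeal k L :=
    { (N.toSubmodule ⊔ Submodule.span k {φ x}) with
      lie_mem := by
        intro y b hb
        exact Submodule.mem_sup_left (hbrJ y b hb) }
  have hJnil : LieRing.IsNilpotent J := by
    apply isNilpotent_ideal_of_ad_nilpotent
    intro z hz
    obtain ⟨r, hr, s, hs, rfl⟩ := Submodule.mem_sup.mp hz
    obtain ⟨c, rfl⟩ := Submodule.mem_span_singleton.mp hs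
    apply isNilpotent_of_shift N hN
    intro i m hm
    rw [map_add, map_smul, LinearMap.add_apply, LinearMap.smul_apply, LieAlgebra.ad_apply,
      LieAlgebra.ad_apply, lie_pmap_eq]
    refine add_mem ?_ ((N.lcs L (i + 1)).smul_mem c (ad_pow_mem_lcs N x hx i m hm p hp1))
    rw [LieIdeal.lcs_succ]
    exact LieSubmodule.lie_mem_lie hr hm
  exact hmax J hJnil (Submodule.mem_sup_right (Submodule.mem_span_singleton_self _))

end

end Groth.Agent.Lib.Helper22
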