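import Mathlib

universe u
open AlgebraicGeometry CategoryTheory Limits TopologicalSpace

namespace Groth.Agent.Lib.Helper22.Descent

variable {X Y P S : Scheme.{u}} (a : X ⟶ P) (b : Y ⟶ P) (r : P ⟶ S)

theorem quasiCompact_of_jointly_surjective
    (hsurj : ∀ z : P, z ∈ Set.range a.base ∨ z ∈ Set.range b.base)
    [QuasiCompact (a ≫ r)] [QuasiCompact (b ≫ r)] : QuasiCompact r := by
  constructor
  intro U hU hUc
  have h1 : IsCompact ((a ≫ r).base ⁻¹' U) := QuasiCompact.isCompact_preimage U hU hUc
  have h2 : IsCompact ((b ≫ r).base ⁻¹' U) := QuasiCompact.isCompact_preimage U hU hUc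
  have : r.base ⁻¹' U = a.base '' ((a ≫ r).base ⁻¹' U) ∪ b.base '' ((b ≫ r).base ⁻¹' U) := by
    ext z
    constructor
    · intro hz
      rcases hsurj z with ⟨x, rfl⟩ | ⟨y, rfl⟩
      · exact Or.inl ⟨x, hz, rfl⟩
      · exact Or.inr ⟨y, hz, rfl⟩
    · rintro (⟨x, hx, rfl⟩ | ⟨y, hy, rfl⟩)
      · exact hx
      · exact hy
  rw [this]
  exact (h1.image a.continuous).union (h2.image b.continuous)

set_option backward.isDefEq.respectTransparency.types false in
theorem universallyClosed_of_jointly_surjective
    (hsurj : ∀ z : P, z ∈ Set.range a.base ∨ z ∈ Set.range b.base)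
    [UniversallyClosed (a ≫ r)] [UniversallyClosed (b ≫ r)] : UniversallyClosed r := by
  constructor
  intro P' S' i₁ i₂ r' H
  have ha : IsClosedMap (pullback.fst i₁ a ≫ r').base :=
    UniversallyClosed.universally_isClosedMap _ _ _
      ((IsPullback.of_hasPullback i₁ a).paste_horiz H)
  have hb : IsClosedMap (pullback.fst i₁ b ≫ r').base :=
    UniversallyClosed.universally_isClosedMap _ _ _
      ((IsPullback.of_hasPullback i₁ b).paste_horiz H)
  intro C hC
  have : r'.base '' C =
      (pullback.fst i₁ a ≫ r').base '' ((pullback.fst i₁ a).base ⁻¹' C) ∪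
      (pullback.fst i₁ b ≫ r').base '' ((pullback.fst i₁ b).base ⁻¹' C) := by
    ext s
    constructor
    · rintro ⟨z', hz', rfl⟩
      rcases hsurj (i₁.base z') with ⟨x, hx⟩ | ⟨y, hy⟩
      · obtain ⟨w, hw1, hw2⟩ := Scheme.Pullback.exists_preimage_pullback z' x hx.symm
        refine Or.inl ⟨w, ?_, ?_⟩
        · show (pullback.fst i₁ a).base w ∈ C
          rw [hw1]; exact hz'
        · show r'.base ((pullback.fst i₁ a).base w) = _
          rw [hw1]
      · obtain ⟨w, hw1, hw2⟩ := Scheme.Pullback.exists_preimage_pullback z' y hy.symm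
        refine Or.inr ⟨w, ?_, ?_⟩
        · show (pullback.fst i₁ b).base w ∈ C
          rw [hw1]; exact hz'
        · show r'.base ((pullback.fst i₁ b).base w) = _
          rw [hw1]
    · rintro (⟨w, hw, rfl⟩ | ⟨w, hw, rfl⟩)
      · exact ⟨_, hw, rfl⟩
      · exact ⟨_, hw, rfl⟩
  show IsClosed (r'.base '' C)
  rw [this]
  exact (ha _ (hC.preimage (pullback.fst i₁ a).continuous)).union
    (hb _ (hC.preimage (pullback.fst i₁ b).continuous))

/-- The map `X ×_S X ⟶ P ×_S P`. -/
noncomputable abbrev sq : pullback (a ≫ r) (a ≫ r) ⟶ pullback r r :=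
  pullback.map (a ≫ r) (a ≫ r) r r a a (𝟙 S) (by simp) (by simp)

theorem diagonal_sq : pullback.diagonal (a ≫ r) ≫ sq a r = a ≫ pullback.diagonal r := by
  apply pullback.hom_ext
  · rw [Category.assoc, Category.assoc, pullback.lift_fst, pullback.diagonal_fst_assoc,
      pullback.diagonal_fst, Category.comp_id]
  · rw [Category.assoc, Category.assoc, pullback.lift_snd, pullback.diagonal_snd_assoc,
      pullback.diagonal_snd, Category.comp_id]

theorem isSeparated_of_jointly_surjective
    (hsurj : ∀ z : P, z ∈ Set.range a.base ∨ z ∈ Set.range b.base)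
    [UniversallyClosed a] [UniversallyClosed b] [IsSeparated (a ≫ r)] [IsSeparated (b ≫ r)] :
    IsSeparated r := by
  constructor
  have hma : UniversallyClosed (sq a r) :=
    MorphismProperty.pullbackMap (P := @UniversallyClosed) ‹_› ‹_› rfl rfl
  have hmb : UniversallyClosed (sq b r) :=
    MorphismProperty.pullbackMap (P := @UniversallyClosed) ‹_› ‹_› rfl rfl
  apply IsClosedImmersion.of_isPreimmersion
  have : Set.range (pullback.diagonal r).base =
      (sq a r).base '' Set.range (pullback.diagonal (a ≫ r)).base ∪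
      (sq b r).base '' Set.range (pullback.diagonal (b ≫ r)).base := by
    ext w
    constructor
    · rintro ⟨z, rfl⟩
      rcases hsurj z with ⟨x, rfl⟩ | ⟨y, rfl⟩
      · exact Or.inl ⟨_, ⟨x, rfl⟩, congr($(diagonal_sq a r).base x)⟩
      · exact Or.inr ⟨_, ⟨y, rfl⟩, congr($(diagonal_sq b r).base y)⟩
    · rintro (⟨_, ⟨x, rfl⟩, rfl⟩ | ⟨_, ⟨y, rfl⟩, rfl⟩)
      · exact ⟨a.base x, (congr($(diagonal_sq a r).base x)).symm⟩
      · exact ⟨b.base y, (congr($(diagonal_sq b r).base y)).symm⟩
  show IsClosed (Set.range (pullback.diagonal r).base)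
  rw [this]
  exact ((sq a r).isClosedMap _ (pullback.diagonal (a ≫ r)).isClosedEmbedding.isClosed_range).union
    ((sq b r).isClosedMap _ (pullback.diagonal (b ≫ r)).isClosedEmbedding.isClosed_range)

theorem quasiSeparated_of_jointly_surjective
    (hsurj : ∀ z : P, z ∈ Set.range a.base ∨ z ∈ Set.range b.base)
    [QuasiCompact a] [QuasiCompact b] [QuasiSeparated (a ≫ r)] [QuasiSeparated (b ≫ r)] :
    QuasiSeparated r := by
  constructor
  have hma : QuasiCompact (sq a r) :=
    MorphismProperty.pullbackMap (P := @QuasiCompact) ‹_› ‹_› rfl rfl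
  have hmb : QuasiCompact (sq b r) :=
    MorphismProperty.pullbackMap (P := @QuasiCompact) ‹_› ‹_› rfl rfl
  constructor
  intro U hU hUc
  have h1 : IsCompact ((pullback.diagonal (a ≫ r)).base ⁻¹' ((sq a r).base ⁻¹' U)) :=
    QuasiCompact.isCompact_preimage _ (hU.preimage (sq a r).continuous)
      (QuasiCompact.isCompact_preimage U hU hUc)
  have h2 : IsCompact ((pullback.diagonal (b ≫ r)).base ⁻¹' ((sq b r).base ⁻¹' U)) :=
    QuasiCompact.isCompact_preimage _ (hU.preimage (sq b r).continuous)
      (QuasiCompact.isCompact_preimage U hU hUc)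
  have : (pullback.diagonal r).base ⁻¹' U =
      a.base '' ((pullback.diagonal (a ≫ r)).base ⁻¹' ((sq a r).base ⁻¹' U)) ∪
      b.base '' ((pullback.diagonal (b ≫ r)).base ⁻¹' ((sq b r).base ⁻¹' U)) := by
    ext z
    constructor
    · intro hz
      rcases hsurj z with ⟨x, rfl⟩ | ⟨y, rfl⟩
      · refine Or.inl ⟨x, ?_, rfl⟩
        show (sq a r).base ((pullback.diagonal (a ≫ r)).base x) ∈ U
        have := congr($(diagonal_sq a r).base x)
        rw [show (sq a r).base ((pullback.diagonal (a ≫ r)).base x) = _ from this]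
        exact hz
      · refine Or.inr ⟨y, ?_, rfl⟩
        show (sq b r).base ((pullback.diagonal (b ≫ r)).base y) ∈ U
        have := congr($(diagonal_sq b r).base y)
        rw [show (sq b r).base ((pullback.diagonal (b ≫ r)).base y) = _ from this]
        exact hz
    · rintro (⟨x, hx, rfl⟩ | ⟨y, hy, rfl⟩)
      · have := congr($(diagonal_sq a r).base x)
        show (pullback.diagonal r).base (a.base x) ∈ U
        rw [show (pullback.diagonal r).base (a.base x) = _ from this.symm]
        exact hx
      · have := congr($(diagonal_sq b r).base y)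
        show (pullback.diagonal r).base (b.base y) ∈ U
        rw [show (pullback.diagonal r).base (b.base y) = _ from this.symm]
        exact hy
  rw [this]
  exact (h1.image a.continuous).union (h2.image b.continuous)

end Groth.Agent.Lib.Helper22.Descent
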