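import Mathlib
import Groth.Prelude.Def_FEt

/-!
# Affine dictionary for `FEt.Cat (Spec A)`

Every finite étale cover of `Spec A` is isomorphic to a standard one `std A B = Spec B → Spec A`
for a finite étale `A`-algebra `B`; morphisms between standard objects are `Spec.map` of algebra
homomorphisms; base change of `std A B` along `Spec R → Spec A` is `std R (R ⊗[A] B)`.
-/

set_option autoImplicit false
universe u
open CategoryTheory Limits AlgebraicGeometry TensorProduct

namespace Groth.Agent.Lib.Helper26.FEtAffine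

section Std
variable (A : Type u) [CommRing A]

theorem prop_specMap (B : Type u) [CommRing B] [Algebra A B] [Module.Finite A B]
    [Algebra.Etale A B] :
    FEt.prop (Spec.map (CommRingCat.ofHom (algebraMap A B))) := by
  refine ⟨?_, ?_⟩
  · rw [IsFinite.SpecMap_iff]
    exact RingHom.finite_algebraMap.mpr inferInstance
  · rw [HasRingHomProperty.Spec_iff (P := @Etale)]
    exact RingHom.etale_algebraMap.mpr inferInstance

/-- The standard finite étale cover `Spec B → Spec A`. -/
noncomputable def std (B : Type u) [CommRing B] [Algebra A B] [Module.Finite A B]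
    [Algebra.Etale A B] : FEt.Cat (Spec (CommRingCat.of A)) :=
  MorphismProperty.Over.mk ⊤ (Spec.map (CommRingCat.ofHom (algebraMap A B))) (prop_specMap A B)

@[simp] theorem std_left (B : Type u) [CommRing B] [Algebra A B] [Module.Finite A B]
    [Algebra.Etale A B] : (std A B).left = Spec (CommRingCat.of B) := rfl

@[simp] theorem std_hom (B : Type u) [CommRing B] [Algebra A B] [Module.Finite A B]
    [Algebra.Etale A B] : (std A B).hom = Spec.map (CommRingCat.ofHom (algebraMap A B)) := rfl

/-- Affine form of a finite étale morphism to `Spec A`. -/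
theorem exists_iso_specMap {X : Scheme.{u}} (f : X ⟶ Spec (CommRingCat.of A)) (hf : FEt.prop f) :
    ∃ (B : Type u) (_ : CommRing B) (_ : Algebra A B) (_ : Module.Finite A B)
      (_ : Algebra.Etale A B) (e : X ≅ Spec (CommRingCat.of B)),
      e.hom ≫ Spec.map (CommRingCat.ofHom (algebraMap A B)) = f := by
  have hf1 : IsFinite f := hf.1
  have hf2 : Etale f := hf.2
  have : IsAffine X := isAffine_of_isAffineHom f
  let ρ : CommRingCat.of A ⟶ Γ(X, ⊤) :=
    (Scheme.ΓSpecIso (CommRingCat.of A)).inv ≫ f.appTop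
  have hhom : X.isoSpec.hom ≫ Spec.map ρ = f := by
    have h1 := Scheme.isoSpec_hom_naturality f
    rw [Scheme.isoSpec_Spec_hom] at h1
    simp only [ρ, Spec.map_comp]
    rw [reassoc_of% h1, ← Spec.map_comp, Iso.inv_hom_id, Spec.map_id, Category.comp_id]
  have hρ : FEt.prop (Spec.map ρ) := by
    have : FEt.prop (X.isoSpec.hom ≫ Spec.map ρ) := by rw [hhom]; exact hf
    exact (MorphismProperty.cancel_left_of_respectsIso FEt.prop _ _).mp this
  letI : Algebra A Γ(X, ⊤) := ρ.hom.toAlgebra
  have hfin : Module.Finite A Γ(X, ⊤) := by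
    have := hρ.1
    rw [IsFinite.SpecMap_iff] at this
    exact RingHom.finite_algebraMap.mp this
  have het : Algebra.Etale A Γ(X, ⊤) := by
    have := hρ.2
    rw [HasRingHomProperty.Spec_iff (P := @Etale)] at this
    exact RingHom.etale_algebraMap.mp this
  exact ⟨Γ(X, ⊤), inferInstance, inferInstance, hfin, het, X.isoSpec, hhom⟩

/-- Every finite étale cover of `Spec A` is isomorphic to a standard one. -/
theorem exists_iso_std (Y : FEt.Cat (Spec (CommRingCat.of A))) :
    ∃ (B : Type u) (_ : CommRing B) (_ : Algebra A B) (_ : Module.Finite A B)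
      (_ : Algebra.Etale A B), Nonempty (Y ≅ std A B) := by
  obtain ⟨B, i1, i2, i3, i4, e, he⟩ := exists_iso_specMap A (X := Y.left) Y.hom Y.prop
  exact ⟨B, i1, i2, i3, i4, ⟨MorphismProperty.Over.isoMk e he⟩⟩

/-- The morphism of standard covers attached to an algebra homomorphism. -/
noncomputable def stdHom {B C : Type u} [CommRing B] [Algebra A B] [Module.Finite A B]
    [Algebra.Etale A B] [CommRing C] [Algebra A C] [Module.Finite A C] [Algebra.Etale A C]
    (g : C →ₐ[A] B) : std A B ⟶ std A C :=
  MorphismProperty.Over.homMk (Spec.map (CommRingCat.ofHom g.toRingHom)) (by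
    simp only [std_hom, std_left]
    rw [← Spec.map_comp]
    congr 1
    ext a
    exact g.commutes a) trivial

@[simp] theorem stdHom_left {B C : Type u} [CommRing B] [Algebra A B] [Module.Finite A B]
    [Algebra.Etale A B] [CommRing C] [Algebra A C] [Module.Finite A C] [Algebra.Etale A C]
    (g : C →ₐ[A] B) : (stdHom A g).left = Spec.map (CommRingCat.ofHom g.toRingHom) := rfl

theorem exists_stdHom {B C : Type u} [CommRing B] [Algebra A B] [Module.Finite A B]
    [Algebra.Etale A B] [CommRing C] [Algebra A C] [Module.Finite A C] [Algebra.Etale A C]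
    (ψ : std A B ⟶ std A C) : ∃ g : C →ₐ[A] B, ψ = stdHom A g := by
  let l : Spec (CommRingCat.of B) ⟶ Spec (CommRingCat.of C) := ψ.left
  have hw : l ≫ Spec.map (CommRingCat.ofHom (algebraMap A C)) =
      Spec.map (CommRingCat.ofHom (algebraMap A B)) := MorphismProperty.Over.w ψ
  let r : CommRingCat.of C ⟶ CommRingCat.of B := Spec.preimage l
  have hr : Spec.map r = l := Spec.map_preimage l
  have hcomm : CommRingCat.ofHom (algebraMap A C) ≫ r = CommRingCat.ofHom (algebraMap A B) := by
    apply Spec.map_injective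
    rw [Spec.map_comp, hr, hw]
  let g : C →ₐ[A] B :=
    { r.hom with
      commutes' := fun a => by
        have := congrArg (fun t => t.hom a) hcomm
        exact this }
  refine ⟨g, ?_⟩
  apply MorphismProperty.Over.Hom.ext
  rw [stdHom_left]
  exact hr.symm

theorem stdHom_comp {B C D : Type u} [CommRing B] [Algebra A B] [Module.Finite A B]
    [Algebra.Etale A B] [CommRing C] [Algebra A C] [Module.Finite A C] [Algebra.Etale A C]
    [CommRing D] [Algebra A D] [Module.Finite A D] [Algebra.Etale A D]
    (g : C →ₐ[A] B) (h : D →ₐ[A] C) : stdHom A g ≫ stdHom A h = stdHom A (g.comp h) := by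
  apply MorphismProperty.Over.Hom.ext
  change Spec.map (CommRingCat.ofHom g.toRingHom) ≫ Spec.map (CommRingCat.ofHom h.toRingHom) =
    Spec.map (CommRingCat.ofHom (g.comp h).toRingHom)
  rw [← Spec.map_comp]
  rfl

theorem stdHom_id {B : Type u} [CommRing B] [Algebra A B] [Module.Finite A B]
    [Algebra.Etale A B] : stdHom A (AlgHom.id A B) = 𝟙 (std A B) := by
  apply MorphismProperty.Over.Hom.ext
  change Spec.map (CommRingCat.ofHom (AlgHom.id A B).toRingHom) = 𝟙 (Spec (CommRingCat.of B))
  exact Spec.map_id _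

/-- Isomorphic algebras give isomorphic standard covers. -/
noncomputable def stdIso {B C : Type u} [CommRing B] [Algebra A B] [Module.Finite A B]
    [Algebra.Etale A B] [CommRing C] [Algebra A C] [Module.Finite A C] [Algebra.Etale A C]
    (ε : B ≃ₐ[A] C) : std A B ≅ std A C where
  hom := stdHom A ε.symm.toAlgHom
  inv := stdHom A ε.toAlgHom
  hom_inv_id := by
    rw [stdHom_comp, ← stdHom_id]
    congr 1
    ext b
    simp
  inv_hom_id := by
    rw [stdHom_comp, ← stdHom_id]
    congr 1
    ext b
    simp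

end Std

section BaseChange
variable (A : Type u) [CommRing A] (R : Type u) [CommRing R] [Algebra A R]

/-- The base change morphism `Spec R → Spec A`. -/
noncomputable abbrev bc : Spec (CommRingCat.of R) ⟶ Spec (CommRingCat.of A) :=
  Spec.map (CommRingCat.ofHom (algebraMap A R))

/-- The pullback of `Spec B → Spec A` along `Spec R → Spec A` is `Spec (R ⊗[A] B)`. -/
noncomputable def pbIso (B : Type u) [CommRing B] [Algebra A B] :
    pullback (Spec.map (CommRingCat.ofHom (algebraMap A B))) (bc A R) ≅
      Spec (CommRingCat.of (R ⊗[A] B)) :=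
  pullbackSymmetry _ _ ≪≫ pullbackSpecIso A R B

theorem pbIso_inv_fst (B : Type u) [CommRing B] [Algebra A B] :
    (pbIso A R B).inv ≫ pullback.fst _ _ =
      Spec.map (CommRingCat.ofHom
        (Algebra.TensorProduct.includeRight : B →ₐ[A] R ⊗[A] B).toRingHom) := by
  simp only [pbIso, Iso.trans_inv, Category.assoc, pullbackSymmetry_inv_comp_fst]
  exact pullbackSpecIso_inv_snd A R B

theorem pbIso_inv_snd (B : Type u) [CommRing B] [Algebra A B] :
    (pbIso A R B).inv ≫ pullback.snd _ _ =
      Spec.map (CommRingCat.ofHom (algebraMap R (R ⊗[A] B))) := by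
  simp only [pbIso, Iso.trans_inv, Category.assoc, pullbackSymmetry_inv_comp_snd]
  exact pullbackSpecIso_inv_fst' A R B

theorem pbIso_hom_fst (B : Type u) [CommRing B] [Algebra A B] :
    (pbIso A R B).hom ≫ Spec.map (CommRingCat.ofHom
        (Algebra.TensorProduct.includeRight : B →ₐ[A] R ⊗[A] B).toRingHom) =
      pullback.fst _ _ := by
  rw [← pbIso_inv_fst, Iso.hom_inv_id_assoc]

theorem pbIso_hom_snd (B : Type u) [CommRing B] [Algebra A B] :
    (pbIso A R B).hom ≫ Spec.map (CommRingCat.ofHom (algebraMap R (R ⊗[A] B))) =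
      pullback.snd _ _ := by
  rw [← pbIso_inv_snd, Iso.hom_inv_id_assoc]

/-- Restriction of a standard cover is the standard cover of the base-changed algebra. -/
noncomputable def restrictStdIso (B : Type u) [CommRing B] [Algebra A B] [Module.Finite A B]
    [Algebra.Etale A B] :
    (FEt.restrict (bc A R)).obj (std A B) ≅ std R (R ⊗[A] B) :=
  MorphismProperty.Over.isoMk (pbIso A R B) (pbIso_hom_snd A R B)

/-- Fullness on standard objects from a lifting property of algebra homomorphisms. -/
theorem exists_map_eq_of_lifting (B C : Type u) [CommRing B] [Algebra A B] [Module.Finite A B]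
    [Algebra.Etale A B] [CommRing C] [Algebra A C] [Module.Finite A C] [Algebra.Etale A C]
    (hlift : ∀ h : C →ₐ[A] R ⊗[A] B, ∃ g : C →ₐ[A] B, ∀ c, (1 : R) ⊗ₜ[A] g c = h c)
    (φ : (FEt.restrict (bc A R)).obj (std A B) ⟶ (FEt.restrict (bc A R)).obj (std A C)) :
    ∃ ψ : std A B ⟶ std A C, (FEt.restrict (bc A R)).map ψ = φ := by
  let fB := Spec.map (CommRingCat.ofHom (algebraMap A B))
  let fC := Spec.map (CommRingCat.ofHom (algebraMap A C))
  let l : pullback fB (bc A R) ⟶ pullback fC (bc A R) := φ.left
  have hw : l ≫ pullback.snd fC (bc A R) = pullback.snd fB (bc A R) :=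
    MorphismProperty.Over.w φ
  let θ : Spec (CommRingCat.of (R ⊗[A] B)) ⟶ Spec (CommRingCat.of C) :=
    (pbIso A R B).inv ≫ l ≫ pullback.fst fC (bc A R)
  let h₀ : CommRingCat.of C ⟶ CommRingCat.of (R ⊗[A] B) := Spec.preimage θ
  have hh₀ : Spec.map h₀ = θ := Spec.map_preimage θ
  have hθ : θ ≫ fC = Spec.map (CommRingCat.ofHom (algebraMap A (R ⊗[A] B))) := by
    simp only [θ, Category.assoc]
    rw [pullback.condition, reassoc_of% hw, ← Category.assoc, pbIso_inv_snd, ← Spec.map_comp]
    congr 1
  have hcomm : CommRingCat.ofHom (algebraMap A C) ≫ h₀ =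
      CommRingCat.ofHom (algebraMap A (R ⊗[A] B)) := by
    apply Spec.map_injective
    rw [Spec.map_comp, hh₀]
    exact hθ
  let h : C →ₐ[A] R ⊗[A] B :=
    { h₀.hom with
      commutes' := fun a => by
        have := congrArg (fun t => t.hom a) hcomm
        exact this }
  obtain ⟨g, hg⟩ := hlift h
  refine ⟨stdHom A g, ?_⟩
  apply MorphismProperty.Over.Hom.ext
  have e1 : ((FEt.restrict (bc A R)).map (stdHom A g)).left ≫ pullback.fst fC (bc A R) =
      pullback.fst fB (bc A R) ≫ Spec.map (CommRingCat.ofHom g.toRingHom) := by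
    dsimp [FEt.restrict, MorphismProperty.Over.pullback]
    exact pullback.lift_fst _ _ _
  have e2 : ((FEt.restrict (bc A R)).map (stdHom A g)).left ≫ pullback.snd fC (bc A R) =
      pullback.snd fB (bc A R) := by
    dsimp [FEt.restrict, MorphismProperty.Over.pullback]
    exact pullback.lift_snd _ _ _
  have h1 : l ≫ pullback.fst fC (bc A R) = (pbIso A R B).hom ≫ θ := by
    simp only [θ, Iso.hom_inv_id_assoc]
  have h2 : l ≫ pullback.fst fC (bc A R) =
      pullback.fst fB (bc A R) ≫ Spec.map (CommRingCat.ofHom g.toRingHom) := by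
    rw [h1, ← hh₀, ← pbIso_hom_fst, Category.assoc, ← Spec.map_comp]
    congr 2
    ext c
    exact (hg c).symm
  refine pullback.hom_ext (f := fC) (g := bc A R) ?_ ?_
  · exact e1.trans h2.symm
  · exact e2.trans hw.symm

theorem full_of_lifting
    (hlift : ∀ (B C : Type u) [CommRing B] [Algebra A B] [Module.Finite A B]
      [Algebra.Etale A B] [CommRing C] [Algebra A C] [Module.Finite A C] [Algebra.Etale A C]
      (h : C →ₐ[A] R ⊗[A] B), ∃ g : C →ₐ[A] B, ∀ c, (1 : R) ⊗ₜ[A] g c = h c) :
    (FEt.restrict (bc A R)).Full := by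
  constructor
  intro Y Z φ
  obtain ⟨B, _, _, _, _, ⟨α⟩⟩ := exists_iso_std A Y
  obtain ⟨C, _, _, _, _, ⟨β⟩⟩ := exists_iso_std A Z
  obtain ⟨ψ', hψ'⟩ := exists_map_eq_of_lifting A R B C (hlift B C)
    ((FEt.restrict (bc A R)).map α.inv ≫ φ ≫ (FEt.restrict (bc A R)).map β.hom)
  refine ⟨α.hom ≫ ψ' ≫ β.inv, ?_⟩
  rw [CategoryTheory.Functor.map_comp, CategoryTheory.Functor.map_comp, hψ']
  simp only [Category.assoc, ← CategoryTheory.Functor.map_comp, Iso.hom_inv_id,
    CategoryTheory.Functor.map_id, Category.comp_id, Category.id_comp]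
  rw [← Category.assoc, ← CategoryTheory.Functor.map_comp, Iso.hom_inv_id,
    CategoryTheory.Functor.map_id, Category.id_comp]

theorem essSurj_of_lifting
    (hlift : ∀ (C : Type u) [CommRing C] [Algebra R C] [Module.Finite R C] [Algebra.Etale R C],
      ∃ (B : Type u) (_ : CommRing B) (_ : Algebra A B) (_ : Module.Finite A B)
        (_ : Algebra.Etale A B), Nonempty ((R ⊗[A] B) ≃ₐ[R] C)) :
    (FEt.restrict (bc A R)).EssSurj := by
  constructor
  intro Y₀
  obtain ⟨C, _, _, _, _, ⟨α⟩⟩ := exists_iso_std R Y₀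
  obtain ⟨B, _, _, _, _, ⟨ε⟩⟩ := hlift C
  exact ⟨std A B, ⟨restrictStdIso A R B ≪≫ stdIso R ε ≪≫ α.symm⟩⟩

end BaseChange

end Groth.Agent.Lib.Helper26.FEtAffine
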