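import Mathlib
import Groth.Agent.Lib.Helper26HenselIdem

/-!
# Splitting off the finite part over a Henselian pair (helper26)

`(A, I)` Henselian, `E` a quasi-finite `A`-algebra of finite type with `E/IE` finite over `A`.
Then there is an idempotent `e ∈ E` with `1 - e ∈ IE` and `E/(1 - e)` module-finite over `A`.
-/

set_option autoImplicit false
universe u

open Polynomial

namespace Groth.Agent.Lib.Helper26.HenselFinPart

open Groth.Agent.Lib.Helper26.HenselEtale Groth.Agent.Lib.Helper26.HenselIdem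

variable {A E : Type u} [CommRing A] [CommRing E] [Algebra A E]

/-- a good element congruent to `1` modulo `IE`, assuming `E = (integral closure) + IE`. -/
theorem exists_good' (I : Ideal A) [Algebra.FiniteType A E] [Algebra.QuasiFinite A E]
    (hsurj : ∀ x : E, ∃ c : E, IsIntegral A c ∧ x - c ∈ I.map (algebraMap A E)) :
    ∃ r : E, Good A r ∧ 1 - r ∈ I.map (algebraMap A E) := by
  have key : ∀ y ∈ Ideal.span {r : E | Good A r},
      ∃ r : E, Good A r ∧ y - r ∈ I.map (algebraMap A E) := by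
    intro y hy
    induction hy using Submodule.span_induction with
    | mem y hy => exact ⟨y, hy, by simp⟩
    | zero => exact ⟨0, good_zero, by simp⟩
    | add y z _ _ hy hz =>
      obtain ⟨r, hr, hr'⟩ := hy
      obtain ⟨s, hs, hs'⟩ := hz
      refine ⟨r + s, hr.add hs, ?_⟩
      have : y + z - (r + s) = (y - r) + (z - s) := by ring
      rw [this]
      exact Ideal.add_mem _ hr' hs'
    | smul c y _ hy =>
      obtain ⟨r, hr, hr'⟩ := hy
      obtain ⟨a, hai, ha⟩ := hsurj c
      refine ⟨a * r, hr.mul_left _ hai, ?_⟩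
      have : c • y - a * r = c * (y - r) + (c - a) * r := by
        rw [smul_eq_mul]; ring
      rw [this]
      exact Ideal.add_mem _ (Ideal.mul_mem_left _ _ hr') (Ideal.mul_mem_right _ _ ha)
  have h1 : (1 : E) ∈ Ideal.span {r : E | Good A r} := by
    rw [span_good_eq_top]; trivial
  exact key 1 h1

/-- If `E/IE` is module-finite over `A`, then `E = (integral closure of A) + IE`. -/
theorem exists_isIntegral_sub_mem (I : Ideal A) [Algebra.FiniteType A E] [Algebra.QuasiFinite A E]
    [hfin : Module.Finite A (E ⧸ I.map (algebraMap A E))] :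
    ∀ x : E, ∃ c : E, IsIntegral A c ∧ x - c ∈ I.map (algebraMap A E) := by
  classical
  set IE := I.map (algebraMap A E) with hIE
  -- module generators modulo `IE`
  obtain ⟨n, t, ht⟩ := Module.Finite.exists_fin (R := A) (M := E ⧸ IE)
  have hts : ∀ j, ∃ s : E, Ideal.Quotient.mk IE s = t j := fun j => Ideal.Quotient.mk_surjective _
  choose s hs using hts
  have hgen : ∀ x : E, ∃ c : Fin n → A, x - ∑ j, c j • s j ∈ IE := by
    intro x
    have hx : Ideal.Quotient.mk IE x ∈ Submodule.span A (Set.range t) := by rw [ht]; trivial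
    obtain ⟨c, hc⟩ := (Submodule.mem_span_range_iff_exists_fun A).mp hx
    refine ⟨c, ?_⟩
    rw [← Ideal.Quotient.eq_zero_iff_mem, map_sub, ← hc, map_sum, sub_eq_zero]
    refine Finset.sum_congr rfl fun j _ => ?_
    rw [← hs j]
    rw [Algebra.smul_def, Algebra.smul_def, map_mul]
    rfl
  -- the submodule `L = C' + IE`
  let L : Submodule A E := (integralClosure A E).toSubmodule ⊔ IE.restrictScalars A
  have hLint : ∀ c : E, IsIntegral A c → c ∈ L := fun c hc =>
    Submodule.mem_sup_left hc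
  have hLIE : ∀ z ∈ IE, z ∈ L := fun z hz => Submodule.mem_sup_right hz
  -- uniform exponent for good elements
  have h3b : ∀ r : E, Good A r → ∃ m : ℕ, ∀ x : E, r ^ m * x ∈ L := by
    intro r hr
    choose m hm using hr.2
    refine ⟨∑ j, m (s j), fun x => ?_⟩
    obtain ⟨c, hc⟩ := hgen x
    have hx : x = ∑ j, c j • s j + (x - ∑ j, c j • s j) := by ring
    rw [hx, mul_add, Finset.mul_sum]
    refine L.add_mem (L.sum_mem fun j _ => ?_) (hLIE _ (Ideal.mul_mem_left _ _ hc))
    rw [mul_smul_comm]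
    refine L.smul_mem _ (hLint _ ?_)
    exact hr.mono (s j) (Finset.single_le_sum (f := fun j => m (s j))
      (fun _ _ => Nat.zero_le _) (Finset.mem_univ j)) (hm (s j))
  -- the ideal `𝔟`
  let 𝔟 : Ideal E :=
    { carrier := {r | ∃ m : ℕ, ∀ x : E, r ^ m * x ∈ L}
      zero_mem' := ⟨1, fun x => by simp⟩
      add_mem' := by
        rintro r₁ r₂ ⟨m₁, h₁⟩ ⟨m₂, h₂⟩
        refine ⟨m₁ + m₂, fun x => ?_⟩
        rw [add_pow, Finset.sum_mul]
        refine L.sum_mem fun k hk => ?_
        have hk' : k ≤ m₁ + m₂ := Nat.lt_succ_iff.mp (Finset.mem_range.mp hk)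
        by_cases hkm : m₁ ≤ k
        · have h4 : r₁ ^ k * r₂ ^ (m₁ + m₂ - k) * ((m₁ + m₂).choose k : E) * x =
              r₁ ^ m₁ * (r₁ ^ (k - m₁) * r₂ ^ (m₁ + m₂ - k) * ((m₁ + m₂).choose k : E) * x) := by
            have : r₁ ^ k = r₁ ^ m₁ * r₁ ^ (k - m₁) := by
              rw [← pow_add]; congr 1; omega
            rw [this]; ring
          rw [h4]
          exact h₁ _
        · have hkn : m₂ ≤ m₁ + m₂ - k := by omega
          have h4 : r₁ ^ k * r₂ ^ (m₁ + m₂ - k) * ((m₁ + m₂).choose k : E) * x =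
              r₂ ^ m₂ * (r₁ ^ k * r₂ ^ (m₁ + m₂ - k - m₂) * ((m₁ + m₂).choose k : E) * x) := by
            have : r₂ ^ (m₁ + m₂ - k) = r₂ ^ m₂ * r₂ ^ (m₁ + m₂ - k - m₂) := by
              rw [← pow_add]; congr 1; omega
            rw [this]; ring
          rw [h4]
          exact h₂ _
      smul_mem' := by
        rintro c r ⟨m, h⟩
        refine ⟨m, fun x => ?_⟩
        have : (c • r) ^ m * x = r ^ m * (c ^ m * x) := by
          rw [smul_eq_mul, mul_pow]; ring
        rw [this]
        exact h _ }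
  have h𝔟 : 𝔟 = ⊤ := by
    rw [eq_top_iff, ← span_good_eq_top (A := A) (E := E), Ideal.span_le]
    exact fun r hr => h3b r hr
  have h1 : (1 : E) ∈ 𝔟 := by rw [h𝔟]; trivial
  obtain ⟨m, hm⟩ := h1
  intro x
  have hx : x ∈ L := by simpa using hm x
  obtain ⟨c, hc, z, hz, rfl⟩ := Submodule.mem_sup.mp hx
  exact ⟨c, hc, by simpa using hz⟩

theorem smul_mul_mem (I : Ideal A) (B₀ : Subalgebra A E) {c z : E} (hc : c ∈ B₀)
    (hz : z ∈ I • B₀.toSubmodule) : c * z ∈ I • B₀.toSubmodule := by
  refine Submodule.smul_induction_on hz (fun i hi x hx => ?_) (fun x y hx hy => ?_)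
  · rw [mul_smul_comm]
    exact Submodule.smul_mem_smul hi (B₀.mul_mem hc hx)
  · rw [mul_add]; exact add_mem hx hy

theorem smul_le_map (I : Ideal A) (B₀ : Subalgebra A E) {z : E}
    (hz : z ∈ I • B₀.toSubmodule) : z ∈ I.map (algebraMap A E) := by
  have h1 : I • B₀.toSubmodule ≤ I • (⊤ : Submodule A E) := Submodule.smul_mono le_rfl le_top
  have h2 := h1 hz
  rw [Ideal.smul_top_eq_map] at h2
  exact h2

theorem exists_pow_mul_mem_smul (I : Ideal A) (B₀ : Subalgebra A E) (r : E) (hrB : r ∈ B₀)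
    (hstar : ∀ x : E, ∃ m : ℕ, r ^ m * x ∈ B₀) :
    ∀ y ∈ I.map (algebraMap A E), ∃ M : ℕ, r ^ M * y ∈ I • B₀.toSubmodule := by
  intro y hy
  have hy' : y ∈ I • (⊤ : Submodule A E) := by
    rw [Ideal.smul_top_eq_map]; exact hy
  refine Submodule.smul_induction_on hy' (fun i hi x _ => ?_) (fun x y hx hy => ?_)
  · obtain ⟨m, hm⟩ := hstar x
    exact ⟨m, by rw [mul_smul_comm]; exact Submodule.smul_mem_smul hi hm⟩
  · obtain ⟨k, hk⟩ := hx
    obtain ⟨l, hl⟩ := hy
    refine ⟨k + l, ?_⟩
    rw [mul_add]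
    refine add_mem ?_ ?_
    · rw [pow_add, mul_comm (r ^ k), mul_assoc]
      exact smul_mul_mem I B₀ (pow_mem hrB l) hk
    · rw [pow_add, mul_assoc]
      exact smul_mul_mem I B₀ (pow_mem hrB k) hl

/-- **Splitting off the finite part** (affine, algebraic form of Stacks 09XJ). -/
theorem exists_idem_finite_part (I : Ideal A) [HenselianRing A I] [Algebra.FiniteType A E]
    [Algebra.QuasiFinite A E] [Module.Finite A (E ⧸ I.map (algebraMap A E))] :
    ∃ e : E, IsIdempotentElem e ∧ 1 - e ∈ I.map (algebraMap A E) ∧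
      Module.Finite A (E ⧸ Ideal.span {1 - e}) := by
  classical
  have hjac : I ≤ Ideal.jacobson ⊥ := HenselianRing.jac
  set IE := I.map (algebraMap A E) with hIE
  obtain ⟨r, hr, hr1⟩ := exists_good' (E := E) I (exists_isIntegral_sub_mem I)
  obtain ⟨B₀, hBfg, hrB, hstar⟩ := exists_finite_subalgebra r hr
  set N : Submodule A E := I • B₀.toSubmodule with hN
  have hr1' : r - 1 ∈ IE := by
    have := IE.neg_mem hr1
    simpa using this
  obtain ⟨m, hm⟩ := exists_pow_mul_mem_smul I B₀ r hrB hstar (r - 1) hr1'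
  set b : E := r ^ (m + 1) with hb
  have hbB : b ∈ B₀ := pow_mem hrB _
  have h2d : b * b - b ∈ N := by
    have h1 : b * b - b = (r * ∑ i ∈ Finset.range (m + 1), r ^ i) * (r ^ m * (r - 1)) := by
      have := geom_sum_mul r (m + 1)
      rw [hb]
      linear_combination (-(r ^ (m + 1))) * this
    rw [h1]
    exact smul_mul_mem I B₀ (B₀.mul_mem hrB (sum_mem fun i _ => pow_mem hrB i)) hm
  haveI : Module.Finite A B₀ := ⟨(Submodule.fg_top _).mpr hBfg⟩
  haveI : Algebra.IsIntegral A B₀ := Algebra.IsIntegral.of_finite A B₀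
  -- membership translation
  have hmemB : ∀ z : B₀, z ∈ I.map (algebraMap A B₀) ↔ (z : E) ∈ N := by
    intro z
    rw [← mem_smul_top_subalgebra_iff, Ideal.smul_top_eq_map]
    rfl
  let b' : B₀ := ⟨b, hbB⟩
  have hb'idem : IsIdempotentElem (Ideal.Quotient.mk (I.map (algebraMap A B₀)) b') := by
    change _ * _ = _
    rw [← map_mul, Ideal.Quotient.mk_eq_mk_iff_sub_mem, hmemB]
    simpa using h2d
  obtain ⟨e', he', hee'⟩ := idem_surjOn A I B₀ hb'idem
  have hje : ((e' - b' : B₀) : E) ∈ N := by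
    rw [← hmemB]
    exact Ideal.Quotient.eq.mp hee'
  have hjeJ : (e' - b' : B₀) ∈ I.map (algebraMap A B₀) := Ideal.Quotient.eq.mp hee'
  set e : E := (e' : E) with he
  have heidem : IsIdempotentElem e := by
    change (e' : E) * (e' : E) = (e' : E)
    have := congrArg (Subtype.val) he'.eq
    simpa using this
  have hbIE : b - 1 ∈ IE := by
    have := geom_sum_mul r (m + 1)
    rw [hb, ← this]
    exact Ideal.mul_mem_left _ _ hr1'
  have heIE : 1 - e ∈ IE := by
    have : 1 - e = -((b - 1) + ((e' - b' : B₀) : E)) := by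
      simp only [he, Subalgebra.coe_sub, b']; ring
    rw [this]
    exact IE.neg_mem (IE.add_mem hbIE (smul_le_map I B₀ hje))
  -- `e x ∈ B₀`
  have hJjac : I.map (algebraMap A B₀) ≤ Ideal.jacobson ⊥ :=
    map_le_jacobson_of_isIntegral I hjac
  have hex : ∀ x : E, e * x ∈ B₀ := by
    intro x
    obtain ⟨k, hk⟩ := hstar x
    have hbk : b ^ (k + 1) * (e * x) ∈ B₀ := by
      have : b ^ (k + 1) * (e * x) = e * (r ^ ((m + 1) * (k + 1) - k) * (r ^ k * x)) := by
        rw [hb, ← pow_mul, ← mul_assoc (r ^ _) (r ^ k), ← pow_add]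
        have : (m + 1) * (k + 1) - k + k = (m + 1) * (k + 1) := by
          have : k ≤ (m + 1) * (k + 1) := by nlinarith
          omega
        rw [this]; ring
      rw [this]
      exact B₀.mul_mem e'.2 (B₀.mul_mem (pow_mem hrB _) hk)
    -- e = b^(k+1) + (e - b) * c
    let c' : B₀ := ∑ i ∈ Finset.range (k + 1), e' ^ i * b' ^ (k + 1 - 1 - i)
    have hpow : e' ^ (k + 1) - b' ^ (k + 1) = c' * (e' - b') :=
      (Commute.geom_sum₂_mul (Commute.all e' b') (k + 1)).symm
    have hepow : e' ^ (k + 1) = e' := he'.pow_succ_eq k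
    set j' : B₀ := c' * (e' - b') with hj'
    have hj'J : j' ∈ I.map (algebraMap A B₀) := Ideal.mul_mem_left _ _ hjeJ
    have hunit : IsUnit (1 - j') := by
      have := Ideal.mem_jacobson_bot.mp (hJjac hj'J) (-1)
      have h2 : j' * -1 + 1 = 1 - j' := by ring
      rwa [h2] at this
    obtain ⟨v', hv'⟩ := hunit.exists_left_inv
    -- (1 - j') * (e x) = b^(k+1) * (e x)
    have h5 : ((1 - j' : B₀) : E) * (e * x) = b ^ (k + 1) * (e * x) := by
      have h6 : (e' : B₀) = b' ^ (k + 1) + j' := by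
        rw [← hpow, hepow]; ring
      have h7 : e = b ^ (k + 1) + (j' : E) := by
        have := congrArg Subtype.val h6
        simpa [b'] using this
      have h8 : e * (e * x) = e * x := by rw [← mul_assoc, heidem.eq]
      calc ((1 - j' : B₀) : E) * (e * x) = e * x - (j' : E) * (e * x) := by
            simp only [Subalgebra.coe_sub, Subalgebra.coe_one]; ring
        _ = e * (e * x) - (j' : E) * (e * x) := by rw [h8]
        _ = b ^ (k + 1) * (e * x) := by linear_combination (e * x) * h7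
    have h9 : e * x = (v' : E) * (((1 - j' : B₀) : E) * (e * x)) := by
      rw [← mul_assoc]
      have : (v' : E) * ((1 - j' : B₀) : E) = 1 := by
        have := congrArg Subtype.val hv'
        simpa using this
      rw [this, one_mul]
    rw [h9, h5]
    exact B₀.mul_mem v'.2 hbk
  refine ⟨e, heidem, heIE, ?_⟩
  -- finiteness of the quotient
  let J : Ideal E := Ideal.span {1 - e}
  let mkW : E →ₐ[A] E ⧸ J := Ideal.Quotient.mkₐ A J
  have htop : (⊤ : Submodule A (E ⧸ J)) = B₀.toSubmodule.map mkW.toLinearMap := by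
    rw [eq_comm, eq_top_iff]
    rintro z -
    obtain ⟨x, rfl⟩ := Ideal.Quotient.mk_surjective z
    refine ⟨e * x, hex x, ?_⟩
    change Ideal.Quotient.mk J (e * x) = Ideal.Quotient.mk J x
    rw [Ideal.Quotient.mk_eq_mk_iff_sub_mem]
    have : e * x - x = -(x * (1 - e)) := by ring
    rw [this]
    exact J.neg_mem (Ideal.mul_mem_left _ _ (Ideal.subset_span rfl))
  refine ⟨?_⟩
  rw [htop]
  exact Submodule.FG.map _ hBfg

end Groth.Agent.Lib.Helper26.HenselFinPart
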