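import Mathlib
import Groth.Prelude
import Groth.Agent.Lib.Helper22SteinB
import Groth.Agent.S14461
import Groth.Agent.S0268
import Groth.Agent.S0239
import Groth.Agent.S5117

/-!
# Finite étale covers of a proper scheme over a complete local ring (helper22)

The homotopy exact sequence for `X` proper over a complete Noetherian local ring `A` with
geometrically connected closed fibre, in terms of covers.
-/

set_option autoImplicit false
set_option linter.style.haveILetI false
set_option linter.unusedSectionVars false
set_option linter.unusedVariables false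
universe u
open CategoryTheory Limits AlgebraicGeometry IsLocalRing Opposite TopologicalSpace

namespace Groth.Agent.Lib.Helper22.Pi1Cpl

open Groth.Agent.Lib.Helper22.SteinB Groth.Agent.Lib.Helper22.Pi0HensE

/-- `π₀` of the closed fibre of a proper scheme over a henselian local ring, in pullback-square
form. -/
theorem bijective_pi0_of_isPullback (A : Type u) [CommRing A] [HenselianLocalRing A]
    {Y F : Scheme.{u}} (fY : Y ⟶ Spec (CommRingCat.of A)) [IsProper fY] (ι : F ⟶ Y)
    (p : F ⟶ Spec (CommRingCat.of (A ⧸ maximalIdeal A)))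
    (h : IsPullback ι p fY (Spec.map (CommRingCat.ofHom (Ideal.Quotient.mk (maximalIdeal A))))) :
    Function.Bijective ι.continuous.connectedComponentsMap := by
  obtain ⟨e, he⟩ := exists_iso_closedPoint A
  let x : ↥(Spec (CommRingCat.of A)) := (closedPoint A : PrimeSpectrum A)
  have hpb : IsPullback (fY.fiberι x) (fY.fiberToSpecResidueField x) fY
      ((Spec (CommRingCat.of A)).fromSpecResidueField x) := IsPullback.of_hasPullback _ _
  have hpb' : IsPullback (fY.fiberι x) (fY.fiberToSpecResidueField x ≫ e.hom) fY
      (Spec.map (CommRingCat.ofHom (Ideal.Quotient.mk (maximalIdeal A)))) := by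
    refine IsPullback.of_iso hpb (Iso.refl _) (Iso.refl _) e (Iso.refl _) ?_ ?_ ?_ ?_
    · simp
    · simp
    · simp
    · rw [Iso.refl_hom, Category.comp_id]
      exact he.symm
  let θ : F ≅ fY.fiber x := h.isoIsPullback _ _ hpb'
  have hθ : θ.hom ≫ fY.fiberι x = ι := h.isoIsPullback_hom_fst _ _ hpb'
  have hS := Groth.Agent.S8533.result A fY
  have key : ι.continuous.connectedComponentsMap =
      (fY.fiberι x).continuous.connectedComponentsMap ∘
        θ.hom.continuous.connectedComponentsMap := by
    funext c
    obtain ⟨y, rfl⟩ := ConnectedComponents.surjective_coe c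
    show ((ι y : Y) : _root_.ConnectedComponents Y) =
      ((fY.fiberι x (θ.hom y) : Y) : _root_.ConnectedComponents Y)
    rw [← Scheme.Hom.comp_apply, hθ]
  have hθbij : Function.Bijective θ.hom.continuous.connectedComponentsMap := by
    refine Function.bijective_iff_has_inverse.mpr
      ⟨θ.inv.continuous.connectedComponentsMap, ?_, ?_⟩
    · intro c
      obtain ⟨y, rfl⟩ := ConnectedComponents.surjective_coe c
      show ((θ.inv (θ.hom y) : F) : _root_.ConnectedComponents F) = (y : _root_.ConnectedComponents F)
      rw [← Scheme.Hom.comp_apply, θ.hom_inv_id]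
      rfl
    · intro c
      obtain ⟨y, rfl⟩ := ConnectedComponents.surjective_coe c
      show ((θ.hom (θ.inv y) : ↥(fY.fiber x)) : _root_.ConnectedComponents ↥(fY.fiber x)) =
        (y : _root_.ConnectedComponents ↥(fY.fiber x))
      rw [← Scheme.Hom.comp_apply, θ.inv_hom_id]
      rfl
  rw [key]
  exact hS.comp hθbij

section

variable (A : Type u) [CommRing A] [IsNoetherianRing A] [IsLocalRing A]
  [IsAdicComplete (maximalIdeal A) A] {X : Scheme.{u}} (f : X ⟶ Spec (CommRingCat.of A))
  [IsProper f]

/-- complete local rings are henselian local rings. -/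
theorem henselianLocalRing : HenselianLocalRing A where
  is_henselian f hf a₀ h₁ h₂ :=
    HenselianRing.is_henselian (I := maximalIdeal A) f hf a₀ h₁ (h₂.map _)

/-- the closed point. -/
noncomputable abbrev cpt : Spec (CommRingCat.of (ResidueField A)) ⟶ Spec (CommRingCat.of A) :=
  Spec.map (CommRingCat.ofHom (residue A))

instance : IsClosedImmersion (cpt A) :=
  IsClosedImmersion.spec_of_surjective _ (residue_surjective (R := A))

/-- restriction of finite étale covers of `X` to the closed fibre is fully faithful. -/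
theorem fullyFaithful_restrict_closedFibre :
    (FEt.restrict (pullback.fst f (cpt A))).Full ∧
      (FEt.restrict (pullback.fst f (cpt A))).Faithful := by
  haveI := henselianLocalRing A
  haveI hln : IsLocallyNoetherian X := LocallyOfFiniteType.isLocallyNoetherian f
  haveI hcs : CompactSpace X := QuasiCompact.compactSpace_of_compactSpace f
  haveI hn : IsNoetherian X := { }
  apply Groth.Agent.S14461.result
  intro Y
  haveI : IsFinite Y.hom := Y.prop.1
  haveI : IsProper (Y.hom ≫ f) := inferInstance
  exact bijective_pi0_of_isPullback A (Y.hom ≫ f) (pullback.fst Y.hom (pullback.fst f (cpt A)))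
    (pullback.snd Y.hom (pullback.fst f (cpt A)) ≫ pullback.snd f (cpt A))
    ((IsPullback.of_hasPullback Y.hom (pullback.fst f (cpt A))).paste_vert
      (IsPullback.of_hasPullback f (cpt A)))

/-- the comparison of the two restriction paths from `Spec A` to the closed fibre of `X`. -/
noncomputable def restrictIso :
    FEt.restrict f ⋙ FEt.restrict (pullback.fst f (cpt A)) ≅
      FEt.restrict (cpt A) ⋙ FEt.restrict (pullback.snd f (cpt A)) :=
  (MorphismProperty.Over.pullbackComp (P := FEt.prop.{u}) (Q := ⊤)
      (pullback.fst f (cpt A)) f).symm ≪≫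
    MorphismProperty.Over.pullbackComp (P := FEt.prop.{u}) (Q := ⊤) (pullback.snd f (cpt A))
      (cpt A) (pullback.fst f (cpt A) ≫ f) pullback.condition

/-- the geometric closed point. -/
noncomputable abbrev gpt : Spec (CommRingCat.of (AlgebraicClosure (ResidueField A))) ⟶
    Spec (CommRingCat.of (ResidueField A)) :=
  Spec.map (CommRingCat.ofHom (algebraMap (ResidueField A)
    (AlgebraicClosure (ResidueField A))))

theorem closedFibre_spaces : CompactSpace ↥(pullback f (cpt A)) ∧
    QuasiSeparatedSpace ↥(pullback f (cpt A)) := by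
  haveI : IsProper (pullback.snd f (cpt A)) := inferInstance
  exact ⟨QuasiCompact.compactSpace_of_compactSpace (pullback.snd f (cpt A)),
    quasiSeparatedSpace_of_quasiSeparated (pullback.snd f (cpt A))⟩

theorem connectedSpace_geomFibre
    [hc : ConnectedSpace ↥(pullback f (gpt A ≫ cpt A))] :
    ConnectedSpace ↥(pullback (pullback.snd f (cpt A)) (gpt A)) :=
  (pullbackLeftPullbackSndIso f (cpt A) (gpt A)).hom.homeomorph.connectedSpace_iff.mpr hc

/-- SGA 1 X 1.3 (surjectivity of `π₁(X) → π₁(Spec A)`), cover form. -/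
theorem restrict_fullyFaithful [hc : ConnectedSpace ↥(pullback f (gpt A ≫ cpt A))] :
    (FEt.restrict f).Full ∧ (FEt.restrict f).Faithful := by
  obtain ⟨hG1, hG2⟩ := fullyFaithful_restrict_closedFibre A f
  haveI hC : (FEt.restrict (cpt A)).IsEquivalence :=
    Groth.Agent.S0239.result A (maximalIdeal A)
  obtain ⟨hcs, hqs⟩ := closedFibre_spaces A f
  haveI := connectedSpace_geomFibre A f
  obtain ⟨hF1, hF2⟩ := Groth.Agent.S0268.result (ResidueField A) (pullback.snd f (cpt A))
  haveI h1 : (FEt.restrict (cpt A) ⋙ FEt.restrict (pullback.snd f (cpt A))).Full := inferInstance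
  haveI h2 : (FEt.restrict (cpt A) ⋙ FEt.restrict (pullback.snd f (cpt A))).Faithful :=
    inferInstance
  haveI h3 : (FEt.restrict f ⋙ FEt.restrict (pullback.fst f (cpt A))).Full :=
    Functor.Full.of_iso (restrictIso A f).symm
  haveI h4 : (FEt.restrict f ⋙ FEt.restrict (pullback.fst f (cpt A))).Faithful :=
    Functor.Faithful.of_iso (restrictIso A f).symm
  exact ⟨Functor.Full.of_comp_faithful (FEt.restrict f) (FEt.restrict (pullback.fst f (cpt A))),
    Functor.Faithful.of_comp (FEt.restrict f) (FEt.restrict (pullback.fst f (cpt A)))⟩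

/-- SGA 1 X 1.3 (exactness in the middle), cover form. -/
theorem exists_cover_from_base [hc : ConnectedSpace ↥(pullback f (gpt A ≫ cpt A))]
    (X' : FEt.Cat X) [ConnectedSpace X'.left]
    (σ : pullback f (gpt A ≫ cpt A) ⟶ X'.left)
    (hσ : σ ≫ X'.hom = pullback.fst f (gpt A ≫ cpt A)) :
    ∃ T : FEt.Cat (Spec (CommRingCat.of A)), Nonempty ((FEt.restrict f).obj T ≅ X') := by
  haveI := henselianLocalRing A
  obtain ⟨hG1, hG2⟩ := fullyFaithful_restrict_closedFibre A f
  haveI hC : (FEt.restrict (cpt A)).IsEquivalence :=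
    Groth.Agent.S0239.result A (maximalIdeal A)
  obtain ⟨hcs, hqs⟩ := closedFibre_spaces A f
  haveI := connectedSpace_geomFibre A f
  -- the restriction of `X'` to the closed fibre
  let X'₀ : FEt.Cat (pullback f (cpt A)) := (FEt.restrict (pullback.fst f (cpt A))).obj X'
  haveI : IsFinite X'.hom := X'.prop.1
  haveI : IsProper (X'.hom ≫ f) := inferInstance
  haveI : ConnectedSpace ↥((𝟭 Scheme).obj X'.left) := ‹ConnectedSpace X'.left›
  have hbij := bijective_pi0_of_isPullback A (X'.hom ≫ f)
    (pullback.fst X'.hom (pullback.fst f (cpt A)))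
    (pullback.snd X'.hom (pullback.fst f (cpt A)) ≫ pullback.snd f (cpt A))
    ((IsPullback.of_hasPullback X'.hom (pullback.fst f (cpt A))).paste_vert
      (IsPullback.of_hasPullback f (cpt A)))
  haveI hconn₀ : ConnectedSpace ↥(pullback X'.hom (pullback.fst f (cpt A))) :=
    connectedSpace_of_bijective_pi0 _ hbij
  haveI : ConnectedSpace X'₀.left := hconn₀
  let e := pullbackLeftPullbackSndIso f (cpt A) (gpt A)
  have he1 : e.hom ≫ pullback.fst f (gpt A ≫ cpt A) =
      pullback.fst (pullback.snd f (cpt A)) (gpt A) ≫ pullback.fst f (cpt A) :=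
    pullbackLeftPullbackSndIso_hom_fst _ _ _
  let σ₀ : pullback (pullback.snd f (cpt A)) (gpt A) ⟶ X'₀.left :=
    pullback.lift (e.hom ≫ σ) (pullback.fst (pullback.snd f (cpt A)) (gpt A))
      (by rw [Category.assoc, hσ, he1])
  have hσ₀ : σ₀ ≫ X'₀.hom = pullback.fst (pullback.snd f (cpt A)) (gpt A) :=
    pullback.lift_snd _ _ _
  obtain ⟨S', ⟨iS'⟩⟩ := Groth.Agent.S5117.result (ResidueField A) (pullback.snd f (cpt A))
    X'₀ σ₀ hσ₀
  let T := (FEt.restrict (cpt A)).objPreimage S'
  let iT : (FEt.restrict (cpt A)).obj T ≅ S' := (FEt.restrict (cpt A)).objObjPreimageIso S'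
  let i1 : (FEt.restrict (pullback.fst f (cpt A))).obj ((FEt.restrict f).obj T) ≅
      (FEt.restrict (pullback.fst f (cpt A))).obj X' :=
    (restrictIso A f).app T ≪≫ (FEt.restrict (pullback.snd f (cpt A))).mapIso iT ≪≫ iS'
  exact ⟨T, ⟨(FEt.restrict (pullback.fst f (cpt A))).preimageIso i1⟩⟩

end

end Groth.Agent.Lib.Helper22.Pi1Cpl
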