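import Mathlib
import Groth.Agent.Lib.Helper22Milnor

/-!
# Helper22: modules over a pinching square vanish if both base changes vanish
-/

universe u

namespace Groth.Agent.Lib.Helper22.Pinch

open TensorProduct

variable {R B A' : Type u} [CommRing R] [CommRing B] [CommRing A'] [Algebra R B] [Algebra R A']

/-- Elements of `I = ker (R → B)` are determined by their image in `A'`. -/
theorem eq_of_map_eq
    (h1 : RingHom.ker (algebraMap R A') ⊓ RingHom.ker (algebraMap R B) = ⊥)
    {j j' : R} (hj : j ∈ RingHom.ker (algebraMap R B)) (hj' : j' ∈ RingHom.ker (algebraMap R B))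
    (h : algebraMap R A' j = algebraMap R A' j') : j = j' := by
  have hmem : j - j' ∈ RingHom.ker (algebraMap R A') ⊓ RingHom.ker (algebraMap R B) := by
    refine ⟨?_, Ideal.sub_mem _ hj hj'⟩
    show j - j' ∈ RingHom.ker (algebraMap R A')
    rw [RingHom.mem_ker, map_sub, h, sub_self]
  rw [h1] at hmem
  exact sub_eq_zero.mp hmem

/-- If `1 ⊗ m = 0` in `A' ⊗ M` then `i • m = 0` for `i ∈ I`. -/
theorem smul_eq_zero_of_one_tmul_eq_zero
    (h1 : RingHom.ker (algebraMap R A') ⊓ RingHom.ker (algebraMap R B) = ⊥)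
    (h2 : ∀ a ∈ Ideal.map (algebraMap R A') (RingHom.ker (algebraMap R B)),
      ∃ i ∈ RingHom.ker (algebraMap R B), algebraMap R A' i = a)
    {M : Type u} [AddCommGroup M] [Module R M] (i : R) (hi : i ∈ RingHom.ker (algebraMap R B))
    (m : M) (hm : ((1 : A') ⊗ₜ[R] m : A' ⊗[R] M) = 0) : i • m = 0 := by
  have hex : ∀ a' : A', ∃ j ∈ RingHom.ker (algebraMap R B),
      algebraMap R A' j = algebraMap R A' i * a' := by
    intro a'
    apply h2
    exact Ideal.mul_mem_right _ _ (Ideal.mem_map_of_mem _ hi)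
  choose σ hσ1 hσ2 using hex
  let θ : A' →ₗ[R] R :=
    { toFun := σ
      map_add' := fun a b => by
        apply eq_of_map_eq h1 (hσ1 _) (Ideal.add_mem _ (hσ1 a) (hσ1 b))
        rw [hσ2, map_add, hσ2, hσ2, mul_add]
      map_smul' := fun r a => by
        apply eq_of_map_eq h1 (hσ1 _) (Ideal.mul_mem_left _ r (hσ1 a))
        rw [hσ2, map_mul, hσ2, Algebra.smul_def]
        ring }
  have hθ1 : θ 1 = i := by
    apply eq_of_map_eq h1 (hσ1 _) hi
    show algebraMap R A' (σ 1) = _
    rw [hσ2, mul_one]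
  let φ : A' ⊗[R] M →ₗ[R] M := TensorProduct.lift ((LinearMap.lsmul R M) ∘ₗ θ)
  have hφ : φ ((1 : A') ⊗ₜ[R] m) = i • m := by
    show (LinearMap.lsmul R M) (θ 1) m = _
    rw [hθ1]
    rfl
  rw [← hφ, hm, map_zero]

theorem subsingleton_of_tensor
    (hs : Function.Surjective (algebraMap R B))
    (h1 : RingHom.ker (algebraMap R A') ⊓ RingHom.ker (algebraMap R B) = ⊥)
    (h2 : ∀ a ∈ Ideal.map (algebraMap R A') (RingHom.ker (algebraMap R B)),
      ∃ i ∈ RingHom.ker (algebraMap R B), algebraMap R A' i = a)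
    (M : Type u) [AddCommGroup M] [Module R M]
    (hB : Subsingleton (B ⊗[R] M)) (hA : Subsingleton (A' ⊗[R] M)) : Subsingleton M := by
  refine ⟨fun x y => ?_⟩
  suffices h : ∀ x : M, x = 0 by rw [h x, h y]
  intro x
  have hx : x ∈ (RingHom.ker (algebraMap R B)) • (⊤ : Submodule R M) :=
    Groth.Agent.Lib.Helper22.mem_ker_smul_top_of_one_tmul_eq_zero hs x (Subsingleton.elim _ _)
  refine Submodule.smul_induction_on hx ?_ ?_
  · intro i hi m _
    exact smul_eq_zero_of_one_tmul_eq_zero h1 h2 i hi m (Subsingleton.elim _ _)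
  · intro a b ha hb
    rw [ha, hb, add_zero]

end Groth.Agent.Lib.Helper22.Pinch
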