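import Mathlib
import Groth.Agent.Lib.Helper22PinchAlg

/-!
# Helper22: finiteness of modules over a pinching square
-/

universe u

namespace Groth.Agent.Lib.Helper22.Pinch

open TensorProduct

variable {R B A' : Type u} [CommRing R] [CommRing B] [CommRing A'] [Algebra R B] [Algebra R A']

theorem eq_zero_of_forall
    (hs : Function.Surjective (algebraMap R B))
    (h1 : RingHom.ker (algebraMap R A') ⊓ RingHom.ker (algebraMap R B) = ⊥)
    (h2 : ∀ a ∈ Ideal.map (algebraMap R A') (RingHom.ker (algebraMap R B)),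
      ∃ i ∈ RingHom.ker (algebraMap R B), algebraMap R A' i = a)
    {M : Type u} [AddCommGroup M] [Module R M]
    (hB : ∀ m : M, ((1 : B) ⊗ₜ[R] m : B ⊗[R] M) = 0)
    (hA : ∀ m : M, ((1 : A') ⊗ₜ[R] m : A' ⊗[R] M) = 0) (x : M) : x = 0 := by
  have hx : x ∈ (RingHom.ker (algebraMap R B)) • (⊤ : Submodule R M) :=
    Groth.Agent.Lib.Helper22.mem_ker_smul_top_of_one_tmul_eq_zero hs x (hB x)
  refine Submodule.smul_induction_on hx ?_ ?_
  · intro i hi m _
    exact smul_eq_zero_of_one_tmul_eq_zero h1 h2 i hi m (hA m)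
  · intro a b ha hb
    rw [ha, hb, add_zero]

theorem finite_of_tensor
    (hs : Function.Surjective (algebraMap R B))
    (h1 : RingHom.ker (algebraMap R A') ⊓ RingHom.ker (algebraMap R B) = ⊥)
    (h2 : ∀ a ∈ Ideal.map (algebraMap R A') (RingHom.ker (algebraMap R B)),
      ∃ i ∈ RingHom.ker (algebraMap R B), algebraMap R A' i = a)
    (M : Type u) [AddCommGroup M] [Module R M]
    [Module.Finite B (B ⊗[R] M)] [Module.Finite A' (A' ⊗[R] M)] : Module.Finite R M := by
  obtain ⟨N1, hN1, e1⟩ := Groth.Agent.Lib.Helper22.exists_fg_forall_one_tmul_mkQ_eq_zero R B M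
  obtain ⟨N2, hN2, e2⟩ := Groth.Agent.Lib.Helper22.exists_fg_forall_one_tmul_mkQ_eq_zero R A' M
  have hfg : (N1 ⊔ N2).FG := hN1.sup hN2
  have htop : N1 ⊔ N2 = ⊤ := by
    rw [eq_top_iff]
    intro l _
    have hq : (N1 ⊔ N2).mkQ l = 0 := by
      apply eq_zero_of_forall hs h1 h2 (M := M ⧸ (N1 ⊔ N2))
      · intro q
        obtain ⟨m, rfl⟩ := (N1 ⊔ N2).mkQ_surjective q
        exact e1 _ le_sup_left m
      · intro q
        obtain ⟨m, rfl⟩ := (N1 ⊔ N2).mkQ_surjective q
        exact e2 _ le_sup_right m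
    rwa [Submodule.mkQ_apply, Submodule.Quotient.mk_eq_zero] at hq
  rw [htop] at hfg
  exact ⟨hfg⟩

end Groth.Agent.Lib.Helper22.Pinch
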