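import Mathlib

set_option autoImplicit false
set_option linter.style.haveILetI false
set_option linter.unusedSectionVars false
set_option linter.unusedVariables false

universe u
open AlgebraicGeometry CategoryTheory CategoryTheory.Limits TopologicalSpace Opposite

namespace Groth.Agent.Lib.Helper22.PinchSch

/-- the forgetful functor from schemes to sheafed spaces of commutative rings. -/
noncomputable abbrev FSh : Scheme.{u} ⥤ SheafedSpace.{u+1, u, u} CommRingCat.{u} :=
  Scheme.forgetToLocallyRingedSpace ⋙ LocallyRingedSpace.forgetToSheafedSpace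

/-- points of a pushout of sheafed spaces come from one of the two pieces -/
theorem jointly_surjective {Z X Z' X' : SheafedSpace.{u+1, u, u} CommRingCat.{u}}
    {ι : Z ⟶ X} {q : Z ⟶ Z'} {π : X ⟶ X'} {ι' : Z' ⟶ X'} (hpo : IsPushout ι q π ι') (x' : X') :
    (∃ x : X, π.hom.base x = x') ∨ (∃ y : Z', ι'.hom.base y = x') := by
  let G : SheafedSpace.{u+1, u, u} CommRingCat.{u} ⥤ Type u :=
    SheafedSpace.forget CommRingCat.{u} ⋙ forget TopCat
  have hpoT := hpo.map G
  let f₁ : G.obj X' ⟶ ULift.{u} Prop := ↾(fun _ => ULift.up True)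
  let f₂ : G.obj X' ⟶ ULift.{u} Prop := ↾(fun y =>
    ULift.up ((∃ x : X, π.hom.base x = y) ∨ (∃ z : Z', ι'.hom.base z = y)))
  have h : f₁ = f₂ := by
    apply hpoT.hom_ext
    · ext x
      exact ⟨fun _ => Or.inl ⟨x, rfl⟩, fun _ => trivial⟩
    · ext z
      exact ⟨fun _ => Or.inr ⟨z, rfl⟩, fun _ => trivial⟩
  have h2 : f₁ x' = f₂ x' := by rw [h]
  have h3 : True = ((∃ x : X, π.hom.base x = x') ∨ (∃ z : Z', ι'.hom.base z = x')) :=
    congrArg ULift.down h2
  rw [← h3]
  trivial

/-- if `f` and `f ≫ g` are local on stalks at `x`, then `g` is local on the stalk at `f x`. -/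
theorem isLocalHom_stalkMap_of_comp {A B C : SheafedSpace.{u+1, u, u} CommRingCat.{u}}
    (f : A ⟶ B) (g : B ⟶ C) (x : A)
    (hfg : IsLocalHom ((f ≫ g).hom.stalkMap x).hom) :
    IsLocalHom (g.hom.stalkMap (f.hom.base x)).hom := by
  have e : (f ≫ g).hom.stalkMap x = g.hom.stalkMap (f.hom.base x) ≫ f.hom.stalkMap x :=
    PresheafedSpace.stalkMap.comp f.hom g.hom x
  rw [e] at hfg
  have : IsLocalHom ((f.hom.stalkMap x).hom.comp (g.hom.stalkMap (f.hom.base x)).hom) := hfg
  exact isLocalHom_of_comp (g.hom.stalkMap (f.hom.base x)).hom (f.hom.stalkMap x).hom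

/-- **A square of schemes which is a pushout of ringed spaces is a pushout of schemes.** -/
theorem isPushout_scheme_of_sheafedSpace {X Z Z' X' : Scheme.{u}} (ι : Z ⟶ X) (q : Z ⟶ Z')
    (π : X ⟶ X') (ι' : Z' ⟶ X')
    (hpo : IsPushout (FSh.map ι) (FSh.map q) (FSh.map π) (FSh.map ι')) : IsPushout ι q π ι' := by
  have hw : ι ≫ π = q ≫ ι' := by
    apply FSh.map_injective
    rw [Functor.map_comp, Functor.map_comp]
    exact hpo.w
  have key : ∀ {W : Scheme.{u}} (α : X ⟶ W) (β : Z' ⟶ W), ι ≫ α = q ≫ β →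
      ∃ γ : X' ⟶ W, π ≫ γ = α ∧ ι' ≫ γ = β := by
    intro W α β hαβ
    have hc : FSh.map ι ≫ FSh.map α = FSh.map q ≫ FSh.map β := by
      rw [← Functor.map_comp, ← Functor.map_comp, hαβ]
    let γ₀ : FSh.obj X' ⟶ FSh.obj W := hpo.desc (FSh.map α) (FSh.map β) hc
    have h1 : FSh.map π ≫ γ₀ = FSh.map α := hpo.inl_desc _ _ _
    have h2 : FSh.map ι' ≫ γ₀ = FSh.map β := hpo.inr_desc _ _ _
    have hloc : ∀ x' : X', IsLocalHom (γ₀.hom.stalkMap x').hom := by
      intro x'
      rcases jointly_surjective hpo x' with ⟨x, rfl⟩ | ⟨y, rfl⟩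
      · apply isLocalHom_stalkMap_of_comp (FSh.map π) γ₀ x
        rw [h1]
        exact α.toLRSHom.prop x
      · apply isLocalHom_stalkMap_of_comp (FSh.map ι') γ₀ y
        rw [h2]
        exact β.toLRSHom.prop y
    let γ : X' ⟶ W := Scheme.Hom.mk (LocallyRingedSpace.homMk γ₀ hloc)
    have hγ : FSh.map γ = γ₀ := rfl
    refine ⟨γ, FSh.map_injective ?_, FSh.map_injective ?_⟩
    · rw [Functor.map_comp, hγ, h1]
    · rw [Functor.map_comp, hγ, h2]
  refine ⟨⟨hw⟩, ⟨PushoutCocone.IsColimit.mk _ (fun s => (key s.inl s.inr s.condition).choose)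
    (fun s => (key s.inl s.inr s.condition).choose_spec.1)
    (fun s => (key s.inl s.inr s.condition).choose_spec.2) ?_⟩⟩
  intro s m hm1 hm2
  apply FSh.map_injective
  apply hpo.hom_ext
  · rw [← Functor.map_comp, ← Functor.map_comp, hm1, (key s.inl s.inr s.condition).choose_spec.1]
  · rw [← Functor.map_comp, ← Functor.map_comp, hm2, (key s.inl s.inr s.condition).choose_spec.2]

end Groth.Agent.Lib.Helper22.PinchSch
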