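import Mathlib
import Groth.Agent.Lib.Helper22FerrandBC4
import Groth.Agent.Lib.Helper22PinchSchA

set_option autoImplicit false
set_option linter.style.haveILetI false
set_option linter.unusedSectionVars false
set_option linter.unusedVariables false

universe u
open AlgebraicGeometry CategoryTheory CategoryTheory.Limits TopologicalSpace Opposite

namespace Groth.Agent.Lib.Helper22.PinchSch

open Groth.Agent.Lib.Helper22.Ferrand Groth.Agent.Lib.Helper22.SpPO

set_option backward.isDefEq.respectTransparency.types false in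
/-- a flat surjective morphism is injective on sections. -/
theorem app_injective_of_flat_of_surjective {X Y : Scheme.{u}} (f : X ⟶ Y) [Flat f] [Surjective f]
    (U : Y.Opens) : Function.Injective (f.app U).hom := by
  intro s t h
  apply TopCat.Presheaf.section_ext Y.sheaf U
  intro y hy
  obtain ⟨x, rfl⟩ := f.surjective y
  have inj : Function.Injective (f.stalkMap x).hom := by
    algebraize [(f.stalkMap x).hom]
    have : Module.FaithfullyFlat (Y.presheaf.stalk (f x)) (X.presheaf.stalk x) :=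
      @Module.FaithfullyFlat.of_flat_of_isLocalHom _ _ _ _ _ _ _
        (Flat.stalkMap f x) (f.toLRSHom.prop x)
    exact ‹RingHom.FaithfullyFlat _›.injective
  apply inj
  have e1 := Scheme.Hom.germ_stalkMap_apply f U x hy s
  have e2 := Scheme.Hom.germ_stalkMap_apply f U x hy t
  exact e1.trans ((congrArg _ h).trans e2.symm)

/-- adapted pairs from affine opens of the corner. -/
theorem exists_adPair {X Z Z' X' : Scheme.{u}} (ι : Z ⟶ X) (q : Z ⟶ Z') (π : X ⟶ X')
    (ι' : Z' ⟶ X') [IsAffineHom π] [IsAffineHom ι'] (hw : ι ≫ π = q ≫ ι') (y : Z') :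
    ∃ k : AdPair ι q, y ∈ k.V := by
  obtain ⟨U', hU', hy⟩ := exists_affine_nhd (ι'.base y)
  refine ⟨⟨π ⁻¹ᵁ U', ι' ⁻¹ᵁ U', hU'.preimage π, hU'.preimage ι', ?_⟩, hy⟩
  rw [← Scheme.Hom.comp_preimage, ← Scheme.Hom.comp_preimage, hw]

section Cover

variable {X Y Z : Scheme.{u}} {i : Z ⟶ X} {j : Z ⟶ Y} [IsClosedImmersion i]

/-- every point of `PT = P ×_S T` lies in a tensor chart, when `Z` is flat over `S`. -/
theorem exists_fchart_of_flat_corner {P : Scheme.{u}} {a : X ⟶ P} {b : Y ⟶ P}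
    (hw : i ≫ a = j ≫ b) (ch : Charts i j a b)
    {S T PT : Scheme.{u}} (sP : P ⟶ S) (hfl : Flat (i ≫ a ≫ sP)) (g : T ⟶ S)
    {pP : PT ⟶ P} {sPT : PT ⟶ T} (hPT : IsPullback pP sPT sP g) (x : PT) :
    ∃ fc : FChart ch pP, x ∈ Set.range fc.d.base := by
  obtain ⟨k, Ω, hΩ, hz, hU, hV⟩ := ch.small_cover sP (pP.base x)
  obtain ⟨lR, hl1, hl2, hl3⟩ := ch.chart_factor hw sP k Ω hΩ hU hV
  have hxΩ : sPT.base x ∈ g ⁻¹ᵁ Ω := by
    obtain ⟨w, hw⟩ := hz
    have e1 : g.base (sPT.base x) = sP.base (pP.base x) := (congr($(hPT.w).base x)).symm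
    have e2 : sP.base ((ch.c k).base w) = hΩ.fromSpec.base ((sp lR).base w) :=
      congr($(hl3).base w)
    show g.base (sPT.base x) ∈ Ω
    rw [e1, ← hw, e2]
    have : hΩ.fromSpec.base ((sp lR).base w) ∈ Set.range hΩ.fromSpec.base := ⟨_, rfl⟩
    rw [hΩ.range_fromSpec] at this
    exact this
  obtain ⟨D', hD', hxD', hD'le⟩ := (Opens.isBasis_iff_nbhd.mp T.isBasis_affineOpens) hxΩ
  have hD' : IsAffineOpen D' := hD'
  let _ : Algebra Γ(S, Ω) Γ(T, D') := (g.appLE Ω D' hD'le).hom.toAlgebra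
  let _ : Algebra Γ(S, Ω) k.R := lR.toAlgebra
  let _ : Algebra Γ(S, Ω) k.A' := (k.φA.comp lR).toAlgebra
  let _ : Algebra Γ(S, Ω) k.B := (k.φB.comp lR).toAlgebra
  let _ : Algebra Γ(S, Ω) k.A := (k.p.comp (k.φA.comp lR)).toAlgebra
  let pA : k.A' →ₐ[Γ(S, Ω)] k.A := { k.p with commutes' := fun _ => rfl }
  let qA : k.B →ₐ[Γ(S, Ω)] k.A := { k.q with commutes' := fun r => k.fs.comm (lR r) }
  let φBA : k.R →ₐ[Γ(S, Ω)] k.B := { k.φB with commutes' := fun _ => rfl }
  let φAA : k.R →ₐ[Γ(S, Ω)] k.A' := { k.φA with commutes' := fun _ => rfl }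
  have hs : FS pA.toRingHom qA.toRingHom φBA.toRingHom φAA.toRingHom := k.fs
  have hps : Function.Surjective pA := k.p_surjective
  have hflat : (k.p.comp (k.φA.comp lR)).Flat := by
    rw [hl1]
    unfold AdPair.p
    rw [← CommRingCat.hom_comp, Scheme.Hom.appLE_comp_appLE]
    exact HasRingHomProperty.appLE @Flat (i ≫ a ≫ sP) hfl ⟨Ω, hΩ⟩ ⟨k.W, k.hW⟩ _
  have : Module.Flat Γ(S, Ω) k.A := hflat
  have hinj := lTensor_fι_injective_of_flat hs hps Γ(T, D')
  obtain ⟨fc, hfc⟩ := exists_fchart_base_core ch sP g hPT k Ω hΩ D' hD' hD'le rfl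
    pA qA φBA φAA rfl rfl rfl rfl hl3 hinj
  exact ⟨fc, hfc x hz hxD'⟩

/-- global sections of a chart-covered base change are determined by their pullbacks to the two
pieces. -/
theorem appTop_ext_of_fcharts {P : Scheme.{u}} {a : X ⟶ P} {b : Y ⟶ P} {ch : Charts i j a b}
    {F FX FY : Scheme.{u}} {qF : F ⟶ P}
    {pX : FX ⟶ X} {aF : FX ⟶ F} (hFX : IsPullback pX aF a qF)
    {pY : FY ⟶ Y} {bF : FY ⟶ F} (hFY : IsPullback pY bF b qF)
    (hcov : ∀ x : F, ∃ fc : FChart ch qF, x ∈ Set.range fc.d.base)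
    (s t : Γ(F, ⊤)) (h1 : aF.appTop s = aF.appTop t) (h2 : bF.appTop s = bF.appTop t) : s = t := by
  choose fc hfc using hcov
  let 𝒰 : F.OpenCover := Scheme.Cover.mkOfCovers F (fun x => Spec (CommRingCat.of (fc x).R'))
    (fun x => (fc x).d) (fun x => ⟨x, hfc x⟩) (fun x => inferInstance)
  apply 𝒰.ext_elem
  intro x
  show ((fc x).d).appTop s = ((fc x).d).appTop t
  have keyB : ∀ u : Γ(F, ⊤), (fc x).ιB ((Scheme.ΓSpecIso (CommRingCat.of (fc x).R')).hom
      (((fc x).d).appTop u)) =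
      (Scheme.ΓSpecIso (CommRingCat.of (fc x).TB)).hom (((fc x).cFY hFY).appTop (bF.appTop u)) := by
    intro u
    have e := congr_arg Scheme.Hom.appTop ((fc x).cFY_bF hFY)
    rw [Scheme.Hom.comp_appTop, Scheme.Hom.comp_appTop] at e
    have n := Scheme.ΓSpecIso_naturality (CommRingCat.ofHom (fc x).ιB)
    have e' := congr($(e).hom u)
    have n' := congr($(n).hom (((fc x).d).appTop u))
    simp only [CommRingCat.hom_comp, RingHom.comp_apply] at e' n'
    rw [e']
    exact n'.symm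
  have keyA : ∀ u : Γ(F, ⊤), (fc x).ιA ((Scheme.ΓSpecIso (CommRingCat.of (fc x).R')).hom
      (((fc x).d).appTop u)) =
      (Scheme.ΓSpecIso (CommRingCat.of (fc x).TA)).hom (((fc x).cFX hFX).appTop (aF.appTop u)) := by
    intro u
    have e := congr_arg Scheme.Hom.appTop ((fc x).cFX_aF hFX)
    rw [Scheme.Hom.comp_appTop, Scheme.Hom.comp_appTop] at e
    have n := Scheme.ΓSpecIso_naturality (CommRingCat.ofHom (fc x).ιA)
    have e' := congr($(e).hom u)
    have n' := congr($(n).hom (((fc x).d).appTop u))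
    simp only [CommRingCat.hom_comp, RingHom.comp_apply] at e' n'
    rw [e']
    exact n'.symm
  have hinj : Function.Injective (Scheme.ΓSpecIso (CommRingCat.of (fc x).R')).hom :=
    (ConcreteCategory.bijective_of_isIso _).injective
  apply hinj
  apply (fc x).fs.ext
  · rw [keyB, keyB, h2]
  · rw [keyA, keyA, h1]

end Cover

end Groth.Agent.Lib.Helper22.PinchSch
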