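import Mathlib
import Groth.Agent.Lib.Helper22PinchSchB

set_option autoImplicit false
set_option linter.style.haveILetI false
set_option linter.unusedSectionVars false
set_option linter.unusedVariables false

universe u
open AlgebraicGeometry CategoryTheory CategoryTheory.Limits TopologicalSpace Opposite

namespace Groth.Agent.Lib.Helper22.PinchSch

open Groth.Agent.Lib.Helper22.Ferrand Groth.Agent.Lib.Helper22.SpPO

/-- **Core of the pinching lemma**: if `X' = X ⊔_Z Z'` is a Ferrand pushout over `S` with `Z` flat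
over `S` and `Z ⟶ Z'` flat surjective, and `O_T ⟶ (f_T)_* O_{X_T}` is an isomorphism on global
sections, then so is `O_T ⟶ (f'_T)_* O_{X'_T}`. -/
theorem isIso_appTop_of_pinching {S X Z Z' X' : Scheme.{u}}
    (fX : X ⟶ S) (fX' : X' ⟶ S) (ι : Z ⟶ X) (q : Z ⟶ Z') (π : X ⟶ X') (ι' : Z' ⟶ X')
    [IsClosedImmersion ι] [IsAffineHom ι'] [Flat q] [Surjective q] [IsAffineHom π]
    (hπ : π ≫ fX' = fX) (hP : IsPushout ι q π ι') [Flat (ι ≫ fX)]
    {T PT : Scheme.{u}} (g : T ⟶ S) (pP : PT ⟶ X') (sPT : PT ⟶ T)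
    (hPT : IsPullback pP sPT fX' g)
    (hX : IsIso ((pullback.snd fX g).appTop)) : IsIso sPT.appTop := by
  have hY : ∀ y : Z', ∃ k : AdPair ι q, y ∈ k.V := exists_adPair ι q π ι' hP.w
  obtain ⟨ch⟩ := exists_charts_of_isPushout ι q hY π ι' hP
  -- base changes
  let pX : pullback fX g ⟶ X := pullback.fst fX g
  let sX : pullback fX g ⟶ T := pullback.snd fX g
  have hcond : (pX ≫ π) ≫ fX' = sX ≫ g := by
    rw [Category.assoc, hπ]; exact pullback.condition
  let aF : pullback fX g ⟶ PT := hPT.lift (pX ≫ π) sX hcond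
  have haF1 : aF ≫ pP = pX ≫ π := hPT.lift_fst _ _ _
  have haF2 : aF ≫ sPT = sX := hPT.lift_snd _ _ _
  have hFX : IsPullback pX aF π pP := by
    refine IsPullback.of_bot ?_ haF1.symm hPT
    rw [haF2, hπ]
    exact IsPullback.of_hasPullback fX g
  let pY : pullback ι' pP ⟶ Z' := pullback.fst ι' pP
  let bF : pullback ι' pP ⟶ PT := pullback.snd ι' pP
  have hFY : IsPullback pY bF ι' pP := IsPullback.of_hasPullback ι' pP
  let pZ : pullback ι pX ⟶ Z := pullback.fst ι pX
  let iF : pullback ι pX ⟶ pullback fX g := pullback.snd ι pX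
  have hFZ : IsPullback pZ iF ι pX := IsPullback.of_hasPullback ι pX
  have hjcond : (pZ ≫ q) ≫ ι' = (iF ≫ aF) ≫ pP := by
    rw [Category.assoc, ← hP.w, Category.assoc, haF1, ← Category.assoc, ← Category.assoc, hFZ.w]
  let jF : pullback ι pX ⟶ pullback ι' pP := pullback.lift (pZ ≫ q) (iF ≫ aF) hjcond
  have hj1 : jF ≫ pY = pZ ≫ q := pullback.lift_fst _ _ _
  have hj2 : jF ≫ bF = iF ≫ aF := pullback.lift_snd _ _ _
  have hjF : IsPullback pZ jF q pY := by
    refine IsPullback.of_bot ?_ hj1.symm hFY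
    rw [hj2, ← hP.w]
    exact hFZ.paste_vert hFX
  haveI : Flat jF := MorphismProperty.of_isPullback hjF inferInstance
  haveI : Surjective jF := MorphismProperty.of_isPullback hjF inferInstance
  have hfl : Flat (ι ≫ π ≫ fX') := by rw [hπ]; infer_instance
  have hcov : ∀ x : PT, ∃ fc : FChart ch pP, x ∈ Set.range fc.d.base :=
    fun x => exists_fchart_of_flat_corner hP.w ch fX' hfl g hPT x
  -- the algebra
  have hcomp : sPT.appTop ≫ aF.appTop = sX.appTop := by
    rw [← Scheme.Hom.comp_appTop, haF2]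
  have hjinj : Function.Injective jF.appTop.hom := app_injective_of_flat_of_surjective jF ⊤
  have hbij : Function.Bijective sX.appTop.hom := ConcreteCategory.bijective_of_isIso _
  rw [ConcreteCategory.isIso_iff_bijective]
  constructor
  · intro s t hst
    apply hbij.injective
    have e1 := congr($(hcomp).hom s)
    have e2 := congr($(hcomp).hom t)
    simp only [CommRingCat.hom_comp, RingHom.comp_apply] at e1 e2
    rw [← e1, ← e2]
    exact congrArg _ hst
  · intro s
    obtain ⟨t, ht⟩ := hbij.surjective (aF.appTop.hom s)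
    refine ⟨t, ?_⟩
    have e1 : aF.appTop.hom (sPT.appTop.hom t) = aF.appTop.hom s := by
      have := congr($(hcomp).hom t)
      simp only [CommRingCat.hom_comp, RingHom.comp_apply] at this
      rw [this]; exact ht
    have hcomp2 : bF.appTop ≫ jF.appTop = aF.appTop ≫ iF.appTop := by
      rw [← Scheme.Hom.comp_appTop, ← Scheme.Hom.comp_appTop, hj2]
    have e2 : bF.appTop.hom (sPT.appTop.hom t) = bF.appTop.hom s := by
      apply hjinj
      have a1 := congr($(hcomp2).hom (sPT.appTop.hom t))
      have a2 := congr($(hcomp2).hom s)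
      simp only [CommRingCat.hom_comp, RingHom.comp_apply] at a1 a2
      rw [a1, a2, e1]
    exact appTop_ext_of_fcharts hFX hFY hcov _ _ e1 e2

end Groth.Agent.Lib.Helper22.PinchSch
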