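import Mathlib
import Groth.Prelude.Def_EtMil
import Groth.Agent.Lib.Helper22MilnorFlat

/-!
# Helper22: a pinching datum of rings is a Milnor fibre square
-/

set_option autoImplicit false
set_option linter.style.haveILetI false
universe u

namespace Groth.Agent.Lib.Helper22.Pinch

open TensorProduct

variable (R B A' : Type u) [CommRing R] [CommRing B] [CommRing A'] [Algebra R B] [Algebra R A']

/-- the corner `A' / I A'` with `I = ker (R → B)`. -/
abbrev Corner : Type u := A' ⧸ Ideal.map (algebraMap R A') (RingHom.ker (algebraMap R B))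

variable {R B A'}

theorem ker_le_ker_corner :
    ∀ r : R, algebraMap R B r = 0 → algebraMap R (Corner R B A') r = 0 := by
  intro r hr
  rw [IsScalarTower.algebraMap_apply R A' (Corner R B A'), Ideal.Quotient.algebraMap_eq,
    Ideal.Quotient.eq_zero_iff_mem]
  exact Ideal.mem_map_of_mem _ hr

/-- the map `B → A'/IA'`. -/
noncomputable def cornerHom (hs : Function.Surjective (algebraMap R B)) : B →+* Corner R B A' :=
  RingHom.liftOfSurjective (algebraMap R B) hs ⟨algebraMap R (Corner R B A'), ker_le_ker_corner⟩

theorem cornerHom_algebraMap (hs : Function.Surjective (algebraMap R B)) (r : R) :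
    cornerHom (A' := A') hs (algebraMap R B r) = algebraMap R (Corner R B A') r :=
  RingHom.liftOfRightInverse_comp_apply _ _ _ _ r

theorem isFibreSquare
    (hs : Function.Surjective (algebraMap R B))
    (h1 : RingHom.ker (algebraMap R A') ⊓ RingHom.ker (algebraMap R B) = ⊥)
    (h2 : ∀ a ∈ Ideal.map (algebraMap R A') (RingHom.ker (algebraMap R B)),
      ∃ i ∈ RingHom.ker (algebraMap R B), algebraMap R A' i = a) :
    letI : Algebra B (Corner R B A') := (cornerHom hs).toAlgebra
    haveI : IsScalarTower R B (Corner R B A') :=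
      IsScalarTower.of_algebraMap_eq fun r => (cornerHom_algebraMap hs r).symm
    EtMil.IsFibreSquare R B A' (Corner R B A') := by
  letI : Algebra B (Corner R B A') := (cornerHom hs).toAlgebra
  haveI : IsScalarTower R B (Corner R B A') :=
    IsScalarTower.of_algebraMap_eq fun r => (cornerHom_algebraMap hs r).symm
  refine ⟨Ideal.Quotient.mk_surjective, fun b a' hba => ?_⟩
  obtain ⟨r, rfl⟩ := hs b
  have hmem : algebraMap R A' r - a' ∈ Ideal.map (algebraMap R A') (RingHom.ker (algebraMap R B)) := by
    rw [← Ideal.Quotient.eq]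
    have : algebraMap B (Corner R B A') (algebraMap R B r) = algebraMap R (Corner R B A') r :=
      cornerHom_algebraMap hs r
    rw [this, IsScalarTower.algebraMap_apply R A' (Corner R B A')] at hba
    exact hba
  obtain ⟨i, hi, hia⟩ := h2 _ hmem
  refine ⟨r - i, ⟨?_, ?_⟩, ?_⟩
  · rw [map_sub, (RingHom.mem_ker).1 hi, sub_zero]
  · rw [map_sub, hia, sub_sub_cancel]
  · rintro y ⟨hy1, hy2⟩
    have hz : y - (r - i) ∈ RingHom.ker (algebraMap R A') ⊓ RingHom.ker (algebraMap R B) := by
      refine ⟨?_, ?_⟩
      · change algebraMap R A' _ = 0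
        rw [map_sub, hy2, map_sub, hia, sub_sub_cancel, sub_self]
      · change algebraMap R B _ = 0
        rw [map_sub, hy1, map_sub, (RingHom.mem_ker).1 hi, sub_zero, sub_self]
    rw [h1] at hz
    exact sub_eq_zero.1 hz

theorem flat_of_tensor
    (hs : Function.Surjective (algebraMap R B))
    (h1 : RingHom.ker (algebraMap R A') ⊓ RingHom.ker (algebraMap R B) = ⊥)
    (h2 : ∀ a ∈ Ideal.map (algebraMap R A') (RingHom.ker (algebraMap R B)),
      ∃ i ∈ RingHom.ker (algebraMap R B), algebraMap R A' i = a)
    (M : Type u) [AddCommGroup M] [Module R M]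
    [Module.Flat B (B ⊗[R] M)] [Module.Flat A' (A' ⊗[R] M)] : Module.Flat R M := by
  letI : Algebra B (Corner R B A') := (cornerHom hs).toAlgebra
  haveI : IsScalarTower R B (Corner R B A') :=
    IsScalarTower.of_algebraMap_eq fun r => (cornerHom_algebraMap hs r).symm
  exact Groth.Agent.Lib.Helper22.fs_flat (isFibreSquare hs h1 h2)

theorem finitePresentation_of_tensor
    (hs : Function.Surjective (algebraMap R B))
    (h1 : RingHom.ker (algebraMap R A') ⊓ RingHom.ker (algebraMap R B) = ⊥)
    (h2 : ∀ a ∈ Ideal.map (algebraMap R A') (RingHom.ker (algebraMap R B)),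
      ∃ i ∈ RingHom.ker (algebraMap R B), algebraMap R A' i = a)
    (M : Type u) [AddCommGroup M] [Module R M]
    [Module.Flat B (B ⊗[R] M)] [Module.FinitePresentation B (B ⊗[R] M)]
    [Module.Flat A' (A' ⊗[R] M)] [Module.FinitePresentation A' (A' ⊗[R] M)] :
    Module.FinitePresentation R M := by
  letI : Algebra B (Corner R B A') := (cornerHom hs).toAlgebra
  haveI : IsScalarTower R B (Corner R B A') :=
    IsScalarTower.of_algebraMap_eq fun r => (cornerHom_algebraMap hs r).symm
  exact Groth.Agent.Lib.Helper22.fs_finitePresentation (isFibreSquare hs h1 h2)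

end Groth.Agent.Lib.Helper22.Pinch
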