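import Mathlib
import Groth.Prelude.Def_EtMil
import Groth.Agent.Lib.Helper22MilnorGlue
import Groth.Agent.Lib.Helper22MilnorFlat
import Groth.Agent.Lib.Helper22SpecPushoutAlg

/-!
# Helper22: a cartesian map between two Milnor fibre squares of rings

Two fibre squares `R₁ = B₁ ×_{C₁} A₁` and `R₂ = B₂ ×_{C₂} A₂` (with `A_i → C_i` surjective) and a map
between them such that `C₂ = C₁ ⊗_{A₁} A₂ = C₁ ⊗_{B₁} B₂`.  Then `B₂ = B₁ ⊗_{R₁} R₂`,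
`A₂ = A₁ ⊗_{R₁} R₂`, and flatness / finiteness / finite presentation / étaleness of `R₁ → R₂` follow
from those of `A₁ → A₂`, `B₁ → B₂`.
-/

set_option autoImplicit false
set_option linter.style.haveILetI false
universe u

namespace Groth.Agent.Lib.Helper22.PoMap

open TensorProduct

variable {R₁ B₁ A₁ C₁ R₂ B₂ A₂ C₂ : Type u}
  [CommRing R₁] [CommRing B₁] [CommRing A₁] [CommRing C₁]
  [CommRing R₂] [CommRing B₂] [CommRing A₂] [CommRing C₂]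
  [Algebra R₁ B₁] [Algebra R₁ A₁] [Algebra B₁ C₁] [Algebra A₁ C₁] [Algebra R₁ C₁]
  [IsScalarTower R₁ B₁ C₁] [IsScalarTower R₁ A₁ C₁]
  [Algebra R₂ B₂] [Algebra R₂ A₂] [Algebra B₂ C₂] [Algebra A₂ C₂] [Algebra R₂ C₂]
  [IsScalarTower R₂ B₂ C₂] [IsScalarTower R₂ A₂ C₂]
  [Algebra R₁ R₂] [Algebra B₁ B₂] [Algebra A₁ A₂] [Algebra C₁ C₂]
  [Algebra R₁ B₂] [Algebra R₁ A₂] [Algebra B₁ C₂] [Algebra A₁ C₂]
  [IsScalarTower R₁ R₂ B₂] [IsScalarTower R₁ B₁ B₂] [IsScalarTower R₁ R₂ A₂] [IsScalarTower R₁ A₁ A₂]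
  [IsScalarTower B₁ B₂ C₂] [IsScalarTower B₁ C₁ C₂] [IsScalarTower A₁ A₂ C₂] [IsScalarTower A₁ C₁ C₂]

section Glue

variable [Algebra.IsPushout A₁ C₁ A₂ C₂] [Algebra.IsPushout B₁ C₁ B₂ C₂]

variable (R₁ B₁ A₁ C₁ B₂ A₂ C₂) in
/-- the gluing isomorphism `C₁ ⊗_{B₁} B₂ ≅ C₂ ≅ C₁ ⊗_{A₁} A₂`. -/
noncomputable def glueIso : C₁ ⊗[B₁] B₂ ≃ₗ[C₁] C₁ ⊗[A₁] A₂ :=
  (Algebra.IsPushout.equiv B₁ C₁ B₂ C₂).toLinearEquiv ≪≫ₗ
    (Algebra.IsPushout.equiv A₁ C₁ A₂ C₂).symm.toLinearEquiv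

theorem glueIso_one_tmul_eq_iff (b : B₂) (a : A₂) :
    glueIso B₁ A₁ C₁ B₂ A₂ C₂ ((1 : C₁) ⊗ₜ[B₁] b) = (1 : C₁) ⊗ₜ[A₁] a ↔
      algebraMap B₂ C₂ b = algebraMap A₂ C₂ a := by
  unfold glueIso
  rw [LinearEquiv.trans_apply, AlgEquiv.toLinearEquiv_apply, AlgEquiv.toLinearEquiv_apply,
    AlgEquiv.symm_apply_eq, Algebra.IsPushout.equiv_tmul, Algebra.IsPushout.equiv_tmul, map_one,
    one_mul, one_mul]

/-- the comparison map `R₂ → B₂ ×_φ A₂`. -/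
noncomputable def toGlue : R₂ →ₗ[R₁] EtMil.glue R₁ (glueIso B₁ A₁ C₁ B₂ A₂ C₂) where
  toFun r := ⟨(algebraMap R₂ B₂ r, algebraMap R₂ A₂ r), by
    show glueIso B₁ A₁ C₁ B₂ A₂ C₂ ((1 : C₁) ⊗ₜ[B₁] (algebraMap R₂ B₂ r)) = _
    rw [glueIso_one_tmul_eq_iff, ← IsScalarTower.algebraMap_apply,
      ← IsScalarTower.algebraMap_apply]⟩
  map_add' x y := by
    apply Subtype.ext
    simp only [map_add]
    rfl
  map_smul' c x := by
    apply Subtype.ext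
    show (algebraMap R₂ B₂ (c • x), algebraMap R₂ A₂ (c • x)) =
      c • (algebraMap R₂ B₂ x, algebraMap R₂ A₂ x)
    rw [Prod.smul_mk, Algebra.smul_def, map_mul, map_mul, ← IsScalarTower.algebraMap_apply,
      ← IsScalarTower.algebraMap_apply, ← Algebra.smul_def, ← Algebra.smul_def]

theorem toGlue_bijective (hsq₂ : EtMil.IsFibreSquare R₂ B₂ A₂ C₂) :
    Function.Bijective (toGlue (R₁ := R₁) (R₂ := R₂) (B₁ := B₁) (A₁ := A₁) (C₁ := C₁)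
      (B₂ := B₂) (A₂ := A₂) (C₂ := C₂)) := by
  constructor
  · intro x y hxy
    have h := congrArg Subtype.val hxy
    exact Groth.Agent.Lib.Helper22.fs_ext hsq₂ (congrArg Prod.fst h) (congrArg Prod.snd h)
  · rintro ⟨⟨b, a⟩, hba⟩
    have h : algebraMap B₂ C₂ b = algebraMap A₂ C₂ a :=
      (glueIso_one_tmul_eq_iff b a).mp hba
    obtain ⟨r, ⟨hr1, hr2⟩, -⟩ := hsq₂.2 b a h
    exact ⟨r, Subtype.ext (Prod.ext hr1 hr2)⟩

/-- `B₂ = B₁ ⊗_{R₁} R₂`. -/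
theorem isPushout_B (hsq₁ : EtMil.IsFibreSquare R₁ B₁ A₁ C₁)
    (hsq₂ : EtMil.IsFibreSquare R₂ B₂ A₂ C₂) : Algebra.IsPushout R₁ B₁ R₂ B₂ := by
  constructor
  let φ := glueIso B₁ A₁ C₁ B₂ A₂ C₂
  let ι : R₂ ≃ₗ[R₁] EtMil.glue R₁ φ := LinearEquiv.ofBijective toGlue (toGlue_bijective hsq₂)
  let e1 : B₁ ⊗[R₁] R₂ ≃ₗ[B₁] B₁ ⊗[R₁] (EtMil.glue R₁ φ) :=
    AlgebraTensorModule.congr (LinearEquiv.refl B₁ B₁) ι
  let e2 : B₁ ⊗[R₁] (EtMil.glue R₁ φ) ≃ₗ[B₁] B₂ :=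
    LinearEquiv.ofBijective _ (Groth.Agent.Lib.Helper22.glue_fst_bijective φ hsq₁)
  refine IsBaseChange.of_equiv (e1 ≪≫ₗ e2) (fun x => ?_)
  show e2 (e1 ((1 : B₁) ⊗ₜ[R₁] x)) = _
  have h1 : e1 ((1 : B₁) ⊗ₜ[R₁] x) = (1 : B₁) ⊗ₜ[R₁] (ι x) := by
    show (AlgebraTensorModule.congr (LinearEquiv.refl B₁ B₁) ι) ((1 : B₁) ⊗ₜ[R₁] x) = _
    rw [AlgebraTensorModule.congr_tmul]
    rfl
  rw [h1]
  show (LinearMap.liftBaseChange B₁ (EtMil.glueFst R₁ φ)) ((1 : B₁) ⊗ₜ[R₁] (ι x)) = _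
  rw [LinearMap.liftBaseChange_tmul, one_smul]
  rfl

/-- `A₂ = A₁ ⊗_{R₁} R₂`. -/
theorem isPushout_A (hsq₁ : EtMil.IsFibreSquare R₁ B₁ A₁ C₁)
    (hsq₂ : EtMil.IsFibreSquare R₂ B₂ A₂ C₂) : Algebra.IsPushout R₁ A₁ R₂ A₂ := by
  constructor
  let φ := glueIso B₁ A₁ C₁ B₂ A₂ C₂
  let ι : R₂ ≃ₗ[R₁] EtMil.glue R₁ φ := LinearEquiv.ofBijective toGlue (toGlue_bijective hsq₂)
  let e1 : A₁ ⊗[R₁] R₂ ≃ₗ[A₁] A₁ ⊗[R₁] (EtMil.glue R₁ φ) :=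
    AlgebraTensorModule.congr (LinearEquiv.refl A₁ A₁) ι
  let e2 : A₁ ⊗[R₁] (EtMil.glue R₁ φ) ≃ₗ[A₁] A₂ :=
    LinearEquiv.ofBijective _ (Groth.Agent.Lib.Helper22.glue_snd_bijective φ hsq₁)
  refine IsBaseChange.of_equiv (e1 ≪≫ₗ e2) (fun x => ?_)
  show e2 (e1 ((1 : A₁) ⊗ₜ[R₁] x)) = _
  have h1 : e1 ((1 : A₁) ⊗ₜ[R₁] x) = (1 : A₁) ⊗ₜ[R₁] (ι x) := by
    show (AlgebraTensorModule.congr (LinearEquiv.refl A₁ A₁) ι) ((1 : A₁) ⊗ₜ[R₁] x) = _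
    rw [AlgebraTensorModule.congr_tmul]
    rfl
  rw [h1]
  show (LinearMap.liftBaseChange A₁ (EtMil.glueSnd R₁ φ)) ((1 : A₁) ⊗ₜ[R₁] (ι x)) = _
  rw [LinearMap.liftBaseChange_tmul, one_smul]
  rfl

theorem flat_of_flat (hsq₁ : EtMil.IsFibreSquare R₁ B₁ A₁ C₁)
    (hsq₂ : EtMil.IsFibreSquare R₂ B₂ A₂ C₂) [Module.Flat B₁ B₂] [Module.Flat A₁ A₂] :
    Module.Flat R₁ R₂ := by
  have hB := isPushout_B hsq₁ hsq₂
  have hA := isPushout_A hsq₁ hsq₂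
  have : Module.Flat B₁ (B₁ ⊗[R₁] R₂) :=
    Module.Flat.of_linearEquiv (Algebra.IsPushout.equiv R₁ B₁ R₂ B₂).toLinearEquiv
  have : Module.Flat A₁ (A₁ ⊗[R₁] R₂) :=
    Module.Flat.of_linearEquiv (Algebra.IsPushout.equiv R₁ A₁ R₂ A₂).toLinearEquiv
  exact Groth.Agent.Lib.Helper22.fs_flat hsq₁

theorem finite_of_finite (hsq₁ : EtMil.IsFibreSquare R₁ B₁ A₁ C₁)
    (hsq₂ : EtMil.IsFibreSquare R₂ B₂ A₂ C₂) [Module.Finite B₁ B₂] [Module.Finite A₁ A₂] :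
    Module.Finite R₁ R₂ := by
  have hB := isPushout_B hsq₁ hsq₂
  have hA := isPushout_A hsq₁ hsq₂
  have : Module.Finite B₁ (B₁ ⊗[R₁] R₂) :=
    Module.Finite.equiv (Algebra.IsPushout.equiv R₁ B₁ R₂ B₂).toLinearEquiv.symm
  have : Module.Finite A₁ (A₁ ⊗[R₁] R₂) :=
    Module.Finite.equiv (Algebra.IsPushout.equiv R₁ A₁ R₂ A₂).toLinearEquiv.symm
  exact Groth.Agent.Lib.Helper22.fs_finite hsq₁

theorem finitePresentation_of_finitePresentation (hsq₁ : EtMil.IsFibreSquare R₁ B₁ A₁ C₁)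
    (hsq₂ : EtMil.IsFibreSquare R₂ B₂ A₂ C₂) [Module.Flat B₁ B₂] [Module.Flat A₁ A₂]
    [Module.FinitePresentation B₁ B₂] [Module.FinitePresentation A₁ A₂] :
    Module.FinitePresentation R₁ R₂ := by
  have hB := isPushout_B hsq₁ hsq₂
  have hA := isPushout_A hsq₁ hsq₂
  have : Module.Flat B₁ (B₁ ⊗[R₁] R₂) :=
    Module.Flat.of_linearEquiv (Algebra.IsPushout.equiv R₁ B₁ R₂ B₂).toLinearEquiv
  have : Module.Flat A₁ (A₁ ⊗[R₁] R₂) :=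
    Module.Flat.of_linearEquiv (Algebra.IsPushout.equiv R₁ A₁ R₂ A₂).toLinearEquiv
  have : Module.FinitePresentation B₁ (B₁ ⊗[R₁] R₂) :=
    Module.FinitePresentation.of_equiv (Algebra.IsPushout.equiv R₁ B₁ R₂ B₂).toLinearEquiv.symm
  have : Module.FinitePresentation A₁ (A₁ ⊗[R₁] R₂) :=
    Module.FinitePresentation.of_equiv (Algebra.IsPushout.equiv R₁ A₁ R₂ A₂).toLinearEquiv.symm
  exact Groth.Agent.Lib.Helper22.fs_finitePresentation hsq₁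

/-- Kähler differentials of `R₂/R₁` vanish if those of `A₂/A₁` and `B₂/B₁` do. -/
theorem formallyUnramified_of_formallyUnramified (hsq₁ : EtMil.IsFibreSquare R₁ B₁ A₁ C₁)
    (hsq₂ : EtMil.IsFibreSquare R₂ B₂ A₂ C₂) [Algebra.FormallyUnramified B₁ B₂]
    [Algebra.FormallyUnramified A₁ A₂] : Algebra.FormallyUnramified R₁ R₂ := by
  have hB := isPushout_B hsq₁ hsq₂
  have hA := isPushout_A hsq₁ hsq₂
  constructor
  refine ⟨fun x y => ?_⟩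
  have key : ∀ z : Ω[R₂⁄R₁], z = 0 := by
    intro z
    refine Groth.Agent.Lib.Helper22.fs_eq_zero_of_forall hsq₂ (L' := Ω[R₂⁄R₁]) ?_ z ?_
    · intro w
      have e := KaehlerDifferential.tensorKaehlerEquiv R₁ A₁ R₂ A₂
      have : Subsingleton (A₂ ⊗[R₂] Ω[R₂⁄R₁]) := e.toEquiv.subsingleton
      exact Subsingleton.elim _ _
    · have e := KaehlerDifferential.tensorKaehlerEquiv R₁ B₁ R₂ B₂
      have : Subsingleton (B₂ ⊗[R₂] Ω[R₂⁄R₁]) := e.toEquiv.subsingleton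
      exact Subsingleton.elim _ _
  rw [key x, key y]

theorem etale_of_etale (hsq₁ : EtMil.IsFibreSquare R₁ B₁ A₁ C₁)
    (hsq₂ : EtMil.IsFibreSquare R₂ B₂ A₂ C₂) [Module.Finite B₁ B₂] [Module.Finite A₁ A₂]
    [Algebra.Etale B₁ B₂] [Algebra.Etale A₁ A₂] : Algebra.Etale R₁ R₂ := by
  have : Module.FinitePresentation B₁ B₂ :=
    Module.FinitePresentation.of_finite_of_finitePresentation B₁ B₂
  have : Module.FinitePresentation A₁ A₂ :=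
    Module.FinitePresentation.of_finite_of_finitePresentation A₁ A₂
  have : Module.Flat R₁ R₂ := flat_of_flat hsq₁ hsq₂
  have : Module.FinitePresentation R₁ R₂ := finitePresentation_of_finitePresentation hsq₁ hsq₂
  have : Algebra.FinitePresentation R₁ R₂ := inferInstance
  have : Algebra.FormallyUnramified R₁ R₂ := formallyUnramified_of_formallyUnramified hsq₁ hsq₂
  exact Algebra.Etale.of_formallyUnramified_of_flat

end Glue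

section Wrap

open CategoryTheory Groth.Agent.Lib.Helper22.SpPO

theorem isFibreSquare_of_FS {R B A C : Type u} [CommRing R] [CommRing B] [CommRing A] [CommRing C]
    [Algebra R B] [Algebra R A] [Algebra B C] [Algebra A C] [Algebra R C]
    [IsScalarTower R B C] [IsScalarTower R A C]
    (hs : FS (algebraMap A C) (algebraMap B C) (algebraMap R B) (algebraMap R A))
    (hp : Function.Surjective (algebraMap A C)) : EtMil.IsFibreSquare R B A C := by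
  refine ⟨hp, fun b a hba => ?_⟩
  obtain ⟨r, hr1, hr2⟩ := hs.ex b a hba
  refine ⟨r, ⟨hr1, hr2⟩, fun y hy => ?_⟩
  exact hs.ext (hy.1.trans hr1.symm) (hy.2.trans hr2.symm)

variable {R₁ B₁ A₁ C₁ R₂ B₂ A₂ C₂ : Type u}
  [CommRing R₁] [CommRing B₁] [CommRing A₁] [CommRing C₁]
  [CommRing R₂] [CommRing B₂] [CommRing A₂] [CommRing C₂]

/-- A cartesian map between two fibre squares of rings, in terms of ring homomorphisms. -/
structure Data (p₁ : A₁ →+* C₁) (q₁ : B₁ →+* C₁) (φB₁ : R₁ →+* B₁) (φA₁ : R₁ →+* A₁)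
    (p₂ : A₂ →+* C₂) (q₂ : B₂ →+* C₂) (φB₂ : R₂ →+* B₂) (φA₂ : R₂ →+* A₂)
    (fA : A₁ →+* A₂) (gB : B₁ →+* B₂) (fC : C₁ →+* C₂) (θ : R₁ →+* R₂) : Prop where
  hs₁ : FS p₁ q₁ φB₁ φA₁
  hp₁ : Function.Surjective p₁
  hs₂ : FS p₂ q₂ φB₂ φA₂
  hp₂ : Function.Surjective p₂
  hθA : φA₂.comp θ = fA.comp φA₁
  hθB : φB₂.comp θ = gB.comp φB₁
  hpC : p₂.comp fA = fC.comp p₁
  hqC : q₂.comp gB = fC.comp q₁
  HA : IsPushout (CommRingCat.ofHom p₁) (CommRingCat.ofHom fA) (CommRingCat.ofHom fC)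
    (CommRingCat.ofHom p₂)
  HB : IsPushout (CommRingCat.ofHom q₁) (CommRingCat.ofHom gB) (CommRingCat.ofHom fC)
    (CommRingCat.ofHom q₂)

variable {p₁ : A₁ →+* C₁} {q₁ : B₁ →+* C₁} {φB₁ : R₁ →+* B₁} {φA₁ : R₁ →+* A₁}
  {p₂ : A₂ →+* C₂} {q₂ : B₂ →+* C₂} {φB₂ : R₂ →+* B₂} {φA₂ : R₂ →+* A₂}
  {fA : A₁ →+* A₂} {gB : B₁ →+* B₂} {fC : C₁ →+* C₂} {θ : R₁ →+* R₂}

/-- the common core: under the `toAlgebra` instances everything in the algebra-based section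
applies. -/
theorem Data.core (D : Data p₁ q₁ φB₁ φA₁ p₂ q₂ φB₂ φA₂ fA gB fC θ) :
    IsPushout (CommRingCat.ofHom φA₁) (CommRingCat.ofHom θ) (CommRingCat.ofHom fA)
        (CommRingCat.ofHom φA₂) ∧
      IsPushout (CommRingCat.ofHom φB₁) (CommRingCat.ofHom θ) (CommRingCat.ofHom gB)
        (CommRingCat.ofHom φB₂) ∧
      (fA.Flat → gB.Flat → θ.Flat) ∧
      (fA.Finite → gB.Finite → θ.Finite) ∧
      (fA.Finite → gB.Finite → fA.Etale → gB.Etale → θ.Etale) := by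
  letI : Algebra R₁ B₁ := φB₁.toAlgebra
  letI : Algebra R₁ A₁ := φA₁.toAlgebra
  letI : Algebra B₁ C₁ := q₁.toAlgebra
  letI : Algebra A₁ C₁ := p₁.toAlgebra
  letI : Algebra R₁ C₁ := (p₁.comp φA₁).toAlgebra
  haveI : IsScalarTower R₁ B₁ C₁ := IsScalarTower.of_algebraMap_eq fun r => (D.hs₁.comm r).symm
  haveI : IsScalarTower R₁ A₁ C₁ := IsScalarTower.of_algebraMap_eq fun r => rfl
  letI : Algebra R₂ B₂ := φB₂.toAlgebra
  letI : Algebra R₂ A₂ := φA₂.toAlgebra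
  letI : Algebra B₂ C₂ := q₂.toAlgebra
  letI : Algebra A₂ C₂ := p₂.toAlgebra
  letI : Algebra R₂ C₂ := (p₂.comp φA₂).toAlgebra
  haveI : IsScalarTower R₂ B₂ C₂ := IsScalarTower.of_algebraMap_eq fun r => (D.hs₂.comm r).symm
  haveI : IsScalarTower R₂ A₂ C₂ := IsScalarTower.of_algebraMap_eq fun r => rfl
  letI : Algebra R₁ R₂ := θ.toAlgebra
  letI : Algebra B₁ B₂ := gB.toAlgebra
  letI : Algebra A₁ A₂ := fA.toAlgebra
  letI : Algebra C₁ C₂ := fC.toAlgebra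
  letI : Algebra R₁ B₂ := (φB₂.comp θ).toAlgebra
  letI : Algebra R₁ A₂ := (φA₂.comp θ).toAlgebra
  letI : Algebra B₁ C₂ := (q₂.comp gB).toAlgebra
  letI : Algebra A₁ C₂ := (p₂.comp fA).toAlgebra
  haveI : IsScalarTower R₁ R₂ B₂ := IsScalarTower.of_algebraMap_eq fun r => rfl
  haveI : IsScalarTower R₁ B₁ B₂ :=
    IsScalarTower.of_algebraMap_eq fun r => congr($(D.hθB) r)
  haveI : IsScalarTower R₁ R₂ A₂ := IsScalarTower.of_algebraMap_eq fun r => rfl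
  haveI : IsScalarTower R₁ A₁ A₂ :=
    IsScalarTower.of_algebraMap_eq fun r => congr($(D.hθA) r)
  haveI : IsScalarTower B₁ B₂ C₂ := IsScalarTower.of_algebraMap_eq fun r => rfl
  haveI : IsScalarTower B₁ C₁ C₂ :=
    IsScalarTower.of_algebraMap_eq fun r => congr($(D.hqC) r)
  haveI : IsScalarTower A₁ A₂ C₂ := IsScalarTower.of_algebraMap_eq fun r => rfl
  haveI : IsScalarTower A₁ C₁ C₂ :=
    IsScalarTower.of_algebraMap_eq fun r => congr($(D.hpC) r)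
  have hsq₁ : EtMil.IsFibreSquare R₁ B₁ A₁ C₁ := isFibreSquare_of_FS D.hs₁ D.hp₁
  have hsq₂ : EtMil.IsFibreSquare R₂ B₂ A₂ C₂ := isFibreSquare_of_FS D.hs₂ D.hp₂
  haveI : Algebra.IsPushout A₁ C₁ A₂ C₂ := CommRingCat.isPushout_iff_isPushout.mp D.HA
  haveI : Algebra.IsPushout B₁ C₁ B₂ C₂ := CommRingCat.isPushout_iff_isPushout.mp D.HB
  have hA := isPushout_A hsq₁ hsq₂
  have hB := isPushout_B hsq₁ hsq₂
  refine ⟨CommRingCat.isPushout_iff_isPushout.mpr hA, CommRingCat.isPushout_iff_isPushout.mpr hB,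
    ?_, ?_, ?_⟩
  · intro h1 h2
    haveI : Module.Flat A₁ A₂ := h1
    haveI : Module.Flat B₁ B₂ := h2
    exact flat_of_flat hsq₁ hsq₂
  · intro h1 h2
    haveI : Module.Finite A₁ A₂ := h1
    haveI : Module.Finite B₁ B₂ := h2
    exact finite_of_finite hsq₁ hsq₂
  · intro h1 h2 h3 h4
    haveI : Module.Finite A₁ A₂ := h1
    haveI : Module.Finite B₁ B₂ := h2
    haveI : Algebra.Etale A₁ A₂ := h3
    haveI : Algebra.Etale B₁ B₂ := h4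
    exact etale_of_etale hsq₁ hsq₂

end Wrap

end Groth.Agent.Lib.Helper22.PoMap
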