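import Mathlib
import Groth.Agent.Lib.Helper22FerrandFT
import Groth.Agent.Lib.Helper22PoMapAlg
import Groth.Agent.Lib.Helper22FerrandBC6

/-!
# Helper22: maps between Ferrand pushouts induced by cartesian maps of pushout data
-/

set_option autoImplicit false
set_option linter.style.haveILetI false
universe u
open AlgebraicGeometry CategoryTheory Limits TopologicalSpace Opposite PrimeSpectrum

namespace Groth.Agent.Lib.Helper22.Ferrand

open Groth.Agent.Lib.Helper22.SpPO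

/-- a pullback square of spectra comes from a pushout square of rings. -/
theorem isPushout_of_isPullback_Spec {A B C D : CommRingCat.{u}} (f : A ⟶ B) (g : A ⟶ C)
    (inl : B ⟶ D) (inr : C ⟶ D)
    (H : IsPullback (Spec.map inl) (Spec.map inr) (Spec.map f) (Spec.map g)) :
    IsPushout f g inl inr := by
  have e : inl.op ≫ f.op = inr.op ≫ g.op := by
    apply Scheme.Spec.map_injective
    rw [Functor.map_comp, Functor.map_comp]
    exact H.w
  have h1 : IsPullback inl.op inr.op f.op g.op := IsPullback.of_map Scheme.Spec e H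
  exact h1.unop.flip

namespace Charts

variable {X Y Z : Scheme.{u}} {i : Z ⟶ X} {j : Z ⟶ Y} [IsClosedImmersion i]
  {P : Scheme.{u}} {a : X ⟶ P} {b : Y ⟶ P} (ch : Charts i j a b)

theorem mem_range_c_iff_X (k : AdPair i j) (x : X) :
    a.base x ∈ Set.range (ch.c k).base ↔ x ∈ k.U := by
  constructor
  · rintro ⟨w, hw⟩
    obtain ⟨ξ, hξ, -⟩ := Scheme.exists_preimage_of_isPullback (ch.pbX k) x w hw.symm
    rw [← hξ]
    exact k.cX_mem ξ
  · intro hx
    have hx' : x ∈ (k.U : Set X) := hx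
    rw [← k.range_cX] at hx'
    obtain ⟨ξ, rfl⟩ := hx'
    exact ⟨(sp k.φA).base ξ, (congr($(ch.cX_a k).base ξ)).symm⟩

theorem mem_range_c_iff_Y (k : AdPair i j) (y : Y) :
    b.base y ∈ Set.range (ch.c k).base ↔ y ∈ k.V := by
  constructor
  · rintro ⟨w, hw⟩
    obtain ⟨ξ, hξ, -⟩ := Scheme.exists_preimage_of_isPullback (ch.pbY k) y w hw.symm
    rw [← hξ]
    exact k.cY_mem ξ
  · intro hy
    have hy' : y ∈ (k.V : Set Y) := hy
    rw [← k.range_cY] at hy'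
    obtain ⟨ξ, rfl⟩ := hy'
    exact ⟨(sp k.φB).base ξ, (congr($(ch.cY_b k).base ξ)).symm⟩

end Charts

section PoMap

variable {X Y Z X' Y' Z' : Scheme.{u}} {i : Z ⟶ X} {j : Z ⟶ Y}
  {i' : Z' ⟶ X'} {j' : Z' ⟶ Y'} {f : X' ⟶ X} {g : Y' ⟶ Y} {c : Z' ⟶ Z}

/-- An adapted pair of `(i', j')` lying over an adapted pair of `(i, j)`. -/
structure Sub (f : X' ⟶ X) (g : Y' ⟶ Y) (k' : AdPair i' j') (k : AdPair i j) : Prop where
  hU : k'.U ≤ f ⁻¹ᵁ k.U
  hV : k'.V ≤ g ⁻¹ᵁ k.V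

namespace Sub

variable {k' : AdPair i' j'} {k : AdPair i j} (s : Sub f g k' k)

include s in
theorem hW (hX : i' ≫ f = c ≫ i) : k'.W ≤ c ⁻¹ᵁ k.W := by
  intro z hz
  have h1 : f.base (i'.base z) ∈ k.U := s.hU hz
  have h2 : f.base (i'.base z) = i.base (c.base z) := congr($(hX).base z)
  rw [h2] at h1
  exact h1

noncomputable def fA : k.A' →+* k'.A' := (f.appLE k.U k'.U s.hU).hom
noncomputable def gB : k.B →+* k'.B := (g.appLE k.V k'.V s.hV).hom
noncomputable def fC (hX : i' ≫ f = c ≫ i) : k.A →+* k'.A := (c.appLE k.W k'.W (s.hW hX)).hom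

theorem hpC (hX : i' ≫ f = c ≫ i) : k'.p.comp s.fA = (s.fC hX).comp k.p := by
  unfold AdPair.p fA fC
  rw [← CommRingCat.hom_comp, ← CommRingCat.hom_comp, Scheme.Hom.appLE_comp_appLE,
    Scheme.Hom.appLE_comp_appLE, appLE_congr_hom hX]

theorem hqC (hX : i' ≫ f = c ≫ i) (hY : j' ≫ g = c ≫ j) :
    k'.q.comp s.gB = (s.fC hX).comp k.q := by
  unfold AdPair.q gB fC
  rw [← CommRingCat.hom_comp, ← CommRingCat.hom_comp, Scheme.Hom.appLE_comp_appLE,
    Scheme.Hom.appLE_comp_appLE, appLE_congr_hom hY]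

theorem exists_θ (hX : i' ≫ f = c ≫ i) (hY : j' ≫ g = c ≫ j) :
    ∃ θ : k.R →+* k'.R, k'.φB.comp θ = s.gB.comp k.φB ∧ k'.φA.comp θ = s.fA.comp k.φA := by
  refine k'.fs.exists_lift (s.fA.comp k.φA) (s.gB.comp k.φB) (fun r => ?_)
  have h1 : k'.q (s.gB (k.φB r)) = (s.fC hX) (k.q (k.φB r)) := congr($(s.hqC hX hY) (k.φB r))
  have h2 : k'.p (s.fA (k.φA r)) = (s.fC hX) (k.p (k.φA r)) := congr($(s.hpC hX) (k.φA r))
  show k'.q (s.gB (k.φB r)) = k'.p (s.fA (k.φA r))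
  rw [h1, h2, k.fs.comm r]

/-- the induced map on fibre product rings. -/
noncomputable def θ (hX : i' ≫ f = c ≫ i) (hY : j' ≫ g = c ≫ j) : k.R →+* k'.R :=
  (s.exists_θ hX hY).choose

theorem φB_θ (hX : i' ≫ f = c ≫ i) (hY : j' ≫ g = c ≫ j) :
    k'.φB.comp (s.θ hX hY) = s.gB.comp k.φB := (s.exists_θ hX hY).choose_spec.1

theorem φA_θ (hX : i' ≫ f = c ≫ i) (hY : j' ≫ g = c ≫ j) :
    k'.φA.comp (s.θ hX hY) = s.fA.comp k.φA := (s.exists_θ hX hY).choose_spec.2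

theorem cX_f : k'.cX ≫ f = sp s.fA ≫ k.cX :=
  (IsAffineOpen.SpecMap_appLE_fromSpec f k.hU k'.hU s.hU).symm

theorem cY_g : k'.cY ≫ g = sp s.gB ≫ k.cY :=
  (IsAffineOpen.SpecMap_appLE_fromSpec g k.hV k'.hV s.hV).symm

theorem cZ_c [IsClosedImmersion i] [IsClosedImmersion i'] (hX : i' ≫ f = c ≫ i) :
    k'.cZ ≫ c = sp (s.fC hX) ≫ k.cZ :=
  (IsAffineOpen.SpecMap_appLE_fromSpec c k.hW k'.hW (s.hW hX)).symm

variable [IsClosedImmersion i] [IsClosedImmersion i']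
  {P P' : Scheme.{u}} {a : X ⟶ P} {b : Y ⟶ P} {a' : X' ⟶ P'} {b' : Y' ⟶ P'}

/-- the chart of `P'` maps into the chart of `P` by `Spec θ`. -/
theorem chart_comm (hX : i' ≫ f = c ≫ i) (hY : j' ≫ g = c ≫ j)
    (ch : Charts i j a b) (ch' : Charts i' j' a' b') (h : P' ⟶ P)
    (ha : a' ≫ h = f ≫ a) (hb : b' ≫ h = g ≫ b) :
    ch'.c k' ≫ h = sp (s.θ hX hY) ≫ ch.c k := by
  apply (isPushout_of_FS k'.fs k'.p_surjective).hom_ext
  · rw [← Category.assoc, ← ch'.cX_a k', Category.assoc, ha, ← Category.assoc, s.cX_f,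
      Category.assoc, ch.cX_a k, sp_comp_assoc, sp_comp_assoc, s.φA_θ hX hY]
  · rw [← Category.assoc, ← ch'.cY_b k', Category.assoc, hb, ← Category.assoc, s.cY_g,
      Category.assoc, ch.cY_b k, sp_comp_assoc, sp_comp_assoc, s.φB_θ hX hY]

/-- `C' = C ⊗_A A'` on charts. -/
theorem isPushout_p (hX : IsPullback i' c f i) :
    IsPushout (CommRingCat.ofHom k.p) (CommRingCat.ofHom s.fA) (CommRingCat.ofHom (s.fC hX.w))
      (CommRingCat.ofHom k'.p) := by
  have h1 := (pbZ i' j' k').paste_horiz hX.flip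
  rw [s.cZ_c hX.w, s.cX_f] at h1
  have hc : sp (s.fC hX.w) ≫ sp k.p = sp k'.p ≫ sp s.fA := by
    rw [sp_comp, sp_comp, s.hpC hX.w]
  have h2 : IsPullback (sp (s.fC hX.w)) (sp k'.p) (sp k.p) (sp s.fA) :=
    IsPullback.of_right h1 hc (pbZ i j k)
  exact isPushout_of_isPullback_Spec _ _ _ _ h2

/-- `C' = C ⊗_B B'` on charts. -/
theorem isPushout_q (hX : i' ≫ f = c ≫ i) (hY : IsPullback j' c g j) :
    IsPushout (CommRingCat.ofHom k.q) (CommRingCat.ofHom s.gB) (CommRingCat.ofHom (s.fC hX))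
      (CommRingCat.ofHom k'.q) := by
  have h1 := (pbZ' (i := i') j' k').paste_horiz hY.flip
  rw [s.cZ_c hX, s.cY_g] at h1
  have hc : sp (s.fC hX) ≫ sp k.q = sp k'.q ≫ sp s.gB := by
    rw [sp_comp, sp_comp, s.hqC hX hY.w]
  have h2 : IsPullback (sp (s.fC hX)) (sp k'.q) (sp k.q) (sp s.gB) :=
    IsPullback.of_right h1 hc (pbZ' (i := i) j k)
  exact isPushout_of_isPullback_Spec _ _ _ _ h2

/-- the ring-level data attached to a subordinate pair. -/
theorem data (hX : IsPullback i' c f i) (hY : IsPullback j' c g j) :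
    PoMap.Data k.p k.q k.φB k.φA k'.p k'.q k'.φB k'.φA s.fA s.gB (s.fC hX.w)
      (s.θ hX.w hY.w) where
  hs₁ := k.fs
  hp₁ := k.p_surjective
  hs₂ := k'.fs
  hp₂ := k'.p_surjective
  hθA := s.φA_θ hX.w hY.w
  hθB := s.φB_θ hX.w hY.w
  hpC := s.hpC hX.w
  hqC := s.hqC hX.w hY.w
  HA := s.isPushout_p hX
  HB := s.isPushout_q hX.w hY

/-- `Spec A' = Spec A ×_{Spec R} Spec R'` on charts. -/
theorem isPullback_φA (hX : IsPullback i' c f i) (hY : IsPullback j' c g j) :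
    IsPullback (sp k'.φA) (sp s.fA) (sp (s.θ hX.w hY.w)) (sp k.φA) :=
  (isPullback_SpecMap_of_isPushout _ _ _ _ (s.data hX hY).core.1).flip

theorem isPullback_φB (hX : IsPullback i' c f i) (hY : IsPullback j' c g j) :
    IsPullback (sp k'.φB) (sp s.gB) (sp (s.θ hX.w hY.w)) (sp k.φB) :=
  (isPullback_SpecMap_of_isPushout _ _ _ _ (s.data hX hY).core.2.1).flip

/-- the chart of `P'` is the preimage of the chart of `P` when the pair is a preimage pair. -/
theorem isPullback_chart (hX : i' ≫ f = c ≫ i) (hY : j' ≫ g = c ≫ j)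
    (ch : Charts i j a b) (ch' : Charts i' j' a' b') (h : P' ⟶ P)
    (ha : a' ≫ h = f ≫ a) (hb : b' ≫ h = g ≫ b)
    (eU : k'.U = f ⁻¹ᵁ k.U) (eV : k'.V = g ⁻¹ᵁ k.V) :
    IsPullback (sp (s.θ hX hY)) (ch'.c k') (ch.c k) h := by
  refine IsOpenImmersion.isPullback _ _ _ _ (s.chart_comm hX hY ch ch' h ha hb) ?_
  ext z
  show h.base z ∈ Set.range (ch.c k).base ↔ z ∈ Set.range (ch'.c k').base
  rcases ch'.jointly_surjective z with ⟨x, rfl⟩ | ⟨y, rfl⟩
  · have e1 : h.base (a'.base x) = a.base (f.base x) := congr($(ha).base x)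
    rw [e1, ch.mem_range_c_iff_X, ch'.mem_range_c_iff_X, eU]
    rfl
  · have e1 : h.base (b'.base y) = b.base (g.base y) := congr($(hb).base y)
    rw [e1, ch.mem_range_c_iff_Y, ch'.mem_range_c_iff_Y, eV]
    rfl

end Sub

variable [IsClosedImmersion i] [IsClosedImmersion i']
  {P P' : Scheme.{u}} {a : X ⟶ P} {b : Y ⟶ P} {a' : X' ⟶ P'} {b' : Y' ⟶ P'}

/-- the squares `X' → P'` over `X → P` and `Y' → P'` over `Y → P` are cartesian. -/
theorem isPullback_of_subs {ι : Type u} (k' : ι → AdPair i' j') (k : ι → AdPair i j)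
    (s : ∀ t, Sub f g (k' t) (k t))
    (hX : IsPullback i' c f i) (hY : IsPullback j' c g j)
    (ch : Charts i j a b) (ch' : Charts i' j' a' b') (h : P' ⟶ P)
    (ha : a' ≫ h = f ≫ a) (hb : b' ≫ h = g ≫ b)
    (hcov : ∀ z : P', ∃ t, z ∈ Set.range (ch'.c (k' t)).base) :
    IsPullback a' f h a ∧ IsPullback b' g h b := by
  let 𝒰 : P'.OpenCover := Scheme.Cover.mkOfCovers ι
    (fun t => Spec (CommRingCat.of (k' t).R)) (fun t => ch'.c (k' t))
    (fun z => by obtain ⟨t, w, hw⟩ := hcov z; exact ⟨t, w, hw⟩) (fun t => inferInstance)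
  constructor
  · apply Scheme.isPullback_of_openCover a' f h a 𝒰
    intro t'
    obtain ⟨t, rfl⟩ : ∃ t : ι, t = t' := ⟨t', rfl⟩
    show IsPullback (pullback.snd a' (ch'.c (k' t))) (pullback.fst a' (ch'.c (k' t)) ≫ f)
      (ch'.c (k' t) ≫ h) a
    have h1 : IsPullback (sp (k' t).φA) ((k' t).cX ≫ f) (ch'.c (k' t) ≫ h) a := by
      rw [(s t).chart_comm hX.w hY.w ch ch' h ha hb, (s t).cX_f]
      exact ((s t).isPullback_φA hX hY).paste_vert (ch.pbX (k t)).flip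
    exact h1.of_iso (ch'.pbX (k' t)).isoPullback (Iso.refl _) (Iso.refl _) (Iso.refl _)
      (by simp) (by simp) (by simp) (by simp)
  · apply Scheme.isPullback_of_openCover b' g h b 𝒰
    intro t'
    obtain ⟨t, rfl⟩ : ∃ t : ι, t = t' := ⟨t', rfl⟩
    show IsPullback (pullback.snd b' (ch'.c (k' t))) (pullback.fst b' (ch'.c (k' t)) ≫ g)
      (ch'.c (k' t) ≫ h) b
    have h1 : IsPullback (sp (k' t).φB) ((k' t).cY ≫ g) (ch'.c (k' t) ≫ h) b := by
      rw [(s t).chart_comm hX.w hY.w ch ch' h ha hb, (s t).cY_g]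
      exact ((s t).isPullback_φB hX hY).paste_vert (ch.pbY (k t)).flip
    exact h1.of_iso (ch'.pbY (k' t)).isoPullback (Iso.refl _) (Iso.refl _) (Iso.refl _)
      (by simp) (by simp) (by simp) (by simp)

end PoMap

end Groth.Agent.Lib.Helper22.Ferrand
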