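import Mathlib
import Groth.Agent.Lib.Helper22MilnorGlue
import Groth.Agent.Lib.Helper22MilnorFlat

/-!
# Helper22: algebras over a ring `R` with two ideals meeting in zero (pushout of two closed
immersions): finite type, finite presentation and smoothness descend from the two quotients.
-/

set_option autoImplicit false
set_option linter.style.haveILetI false
universe u

namespace Groth.Agent.Lib.Helper22.PoMap2

open TensorProduct

section Quot

variable {R S A A₂ : Type u} [CommRing R] [CommRing S] [CommRing A] [CommRing A₂]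
  [Algebra R S] [Algebra R A] [Algebra A A₂] [Algebra S A₂] [Algebra R A₂]
  [IsScalarTower R A A₂] [IsScalarTower R S A₂]

/-- for a pushout along a surjection the other leg is surjective. -/
theorem surjective_of_isPushout [Algebra.IsPushout R A S A₂]
    (hA : Function.Surjective (algebraMap R A)) : Function.Surjective (algebraMap S A₂) := by
  intro x
  have h : IsBaseChange A (IsScalarTower.toAlgHom R S A₂).toLinearMap := Algebra.IsPushout.out
  refine h.inductionOn x (motive := fun x => ∃ s, algebraMap S A₂ s = x) ⟨0, map_zero _⟩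
    (fun s => ⟨s, rfl⟩) ?_ ?_
  · rintro a x ⟨s, rfl⟩
    obtain ⟨r, rfl⟩ := hA a
    refine ⟨r • s, ?_⟩
    rw [Algebra.smul_def, map_mul, ← IsScalarTower.algebraMap_apply, algebraMap_smul,
      Algebra.smul_def]
  · rintro x y ⟨s, rfl⟩ ⟨t, rfl⟩
    exact ⟨s + t, map_add _ _ _⟩

/-- the kernel of the other leg of a pushout along a surjection. -/
theorem mem_smul_top_of_isPushout [Algebra.IsPushout R A S A₂]
    (hA : Function.Surjective (algebraMap R A)) (s : S) (hs : algebraMap S A₂ s = 0) :
    s ∈ (RingHom.ker (algebraMap R A)) • (⊤ : Submodule R S) := by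
  have h : IsBaseChange A (IsScalarTower.toAlgHom R S A₂).toLinearMap := Algebra.IsPushout.out
  apply Groth.Agent.Lib.Helper22.mem_ker_smul_top_of_one_tmul_eq_zero hA
  apply h.equiv.injective
  rw [h.equiv_tmul, one_smul, map_zero]
  exact hs

theorem map_eq_zero_of_mem_smul_top (s : S)
    (hs : s ∈ (RingHom.ker (algebraMap R A)) • (⊤ : Submodule R S)) : algebraMap S A₂ s = 0 := by
  refine Submodule.smul_induction_on hs ?_ ?_
  · intro r hr x _
    rw [Algebra.smul_def, map_mul, ← IsScalarTower.algebraMap_apply,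
      IsScalarTower.algebraMap_apply R A A₂, RingHom.mem_ker.mp hr, map_zero, zero_mul]
  · intro x y hx hy
    rw [map_add, hx, hy, add_zero]

end Quot

section FlatKer

/-- for a surjection `φ : F → L` onto a flat module, `ker φ ∩ I F = I ker φ`. -/
theorem mem_smul_ker_of_flat {R F L : Type*} [CommRing R] [AddCommGroup F] [Module R F]
    [AddCommGroup L] [Module R L] [Module.Flat R L] (φ : F →ₗ[R] L)
    (hφ : Function.Surjective φ) (I : Ideal R) (x : F) (hx : φ x = 0)
    (hxI : x ∈ I • (⊤ : Submodule R F)) : x ∈ I • LinearMap.ker φ := by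
  have hinj := LinearMap.lTensor_injective_of_exact_of_flat φ hφ (LinearMap.ker φ).subtype
    (LinearMap.ker φ).subtype_injective (LinearMap.exact_subtype_ker_map φ) (R ⧸ I)
  have hkerI : RingHom.ker (algebraMap R (R ⧸ I)) = I := by
    rw [Ideal.Quotient.algebraMap_eq, Ideal.mk_ker]
  let y : LinearMap.ker φ := ⟨x, hx⟩
  have h0 : ((1 : R ⧸ I) ⊗ₜ[R] y : (R ⧸ I) ⊗[R] (LinearMap.ker φ)) = 0 := by
    apply hinj
    rw [LinearMap.lTensor_tmul, map_zero]
    apply Groth.Agent.Lib.Helper22.one_tmul_eq_zero_of_mem_ker_smul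
    rw [hkerI]
    exact hxI
  have h1 := Groth.Agent.Lib.Helper22.mem_ker_smul_top_of_one_tmul_eq_zero
    (S := R ⧸ I) Ideal.Quotient.mk_surjective y h0
  rw [hkerI] at h1
  have h2 : (LinearMap.ker φ).subtype y ∈
      Submodule.map (LinearMap.ker φ).subtype (I • (⊤ : Submodule R (LinearMap.ker φ))) :=
    Submodule.mem_map_of_mem h1
  rw [Submodule.map_smul'', Submodule.map_subtype_top] at h2
  exact h2

end FlatKer

section Fiber

variable {R S A A₂ : Type u} [CommRing R] [CommRing S] [CommRing A] [CommRing A₂]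
  [Algebra R S] [Algebra R A] [Algebra A A₂] [Algebra S A₂] [Algebra R A₂]
  [IsScalarTower R A A₂] [IsScalarTower R S A₂] [Algebra.IsPushout R A S A₂]

/-- the fibre of `S` over a prime containing `ker (R → A)` is a base change of `A → A₂`. -/
theorem fiber_formallySmooth (hA : Function.Surjective (algebraMap R A)) (I : Ideal R) [I.IsPrime]
    (h : RingHom.ker (algebraMap R A) ≤ I) [Algebra.FormallySmooth A A₂] :
    Algebra.FormallySmooth I.ResidueField (I.Fiber S) := by
  have h' : ∀ r : R, algebraMap R A r = 0 → algebraMap R I.ResidueField r = 0 := by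
    intro r hr
    rw [Ideal.algebraMap_residueField_eq_zero]
    exact h hr
  let lift : A →+* I.ResidueField :=
    RingHom.liftOfSurjective (algebraMap R A) hA ⟨algebraMap R I.ResidueField, h'⟩
  have hlift : ∀ r, lift (algebraMap R A r) = algebraMap R I.ResidueField r :=
    fun r => RingHom.liftOfRightInverse_comp_apply _ _ _ _ r
  letI : Algebra A I.ResidueField := lift.toAlgebra
  haveI : IsScalarTower R A I.ResidueField :=
    IsScalarTower.of_algebraMap_eq fun r => (hlift r).symm
  let e1 : I.ResidueField ⊗[A] (A ⊗[R] S) ≃ₐ[I.ResidueField] I.ResidueField ⊗[R] S :=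
    Algebra.TensorProduct.cancelBaseChange R A I.ResidueField I.ResidueField S
  let e2 : I.ResidueField ⊗[A] (A ⊗[R] S) ≃ₐ[I.ResidueField] I.ResidueField ⊗[A] A₂ :=
    Algebra.TensorProduct.congr AlgEquiv.refl (Algebra.IsPushout.equiv R A S A₂)
  exact Algebra.FormallySmooth.of_equiv (e2.symm.trans e1)

end Fiber

section Two

variable {R S A B A₂ B₂ : Type u} [CommRing R] [CommRing S] [CommRing A] [CommRing B]
  [CommRing A₂] [CommRing B₂] [Algebra R S] [Algebra R A] [Algebra R B]
  [Algebra A A₂] [Algebra S A₂] [Algebra R A₂] [IsScalarTower R A A₂] [IsScalarTower R S A₂]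
  [Algebra B B₂] [Algebra S B₂] [Algebra R B₂] [IsScalarTower R B B₂] [IsScalarTower R S B₂]
  [Algebra.IsPushout R A S A₂] [Algebra.IsPushout R B S B₂]

omit [Algebra.IsPushout R A S A₂] [Algebra.IsPushout R B S B₂] in
/-- lifting elements of `A₂` into a subalgebra of `S` containing lifts of generators. -/
theorem exists_mem_map_eq (hA : Function.Surjective (algebraMap R A))
    (G : Subalgebra R S) (t : Set A₂) (ht : Algebra.adjoin A t = ⊤)
    (hG : ∀ x ∈ t, ∃ g ∈ G, algebraMap S A₂ g = x) (x : A₂) :
    ∃ g ∈ G, algebraMap S A₂ g = x := by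
  have hx : x ∈ Algebra.adjoin A t := by rw [ht]; trivial
  induction hx using Algebra.adjoin_induction with
  | mem x hx => exact hG x hx
  | algebraMap a =>
    obtain ⟨r, rfl⟩ := hA a
    exact ⟨algebraMap R S r, G.algebraMap_mem r, by
      rw [← IsScalarTower.algebraMap_apply, IsScalarTower.algebraMap_apply R A A₂]⟩
  | add x y _ _ hx hy =>
    obtain ⟨g, hg, rfl⟩ := hx
    obtain ⟨g', hg', rfl⟩ := hy
    exact ⟨g + g', G.add_mem hg hg', map_add _ _ _⟩
  | mul x y _ _ hx hy =>
    obtain ⟨g, hg, rfl⟩ := hx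
    obtain ⟨g', hg', rfl⟩ := hy
    exact ⟨g * g', G.mul_mem hg hg', map_mul _ _ _⟩

omit [Algebra B B₂] [Algebra S B₂] [Algebra R B₂] [IsScalarTower R B B₂] [IsScalarTower R S B₂]
  [Algebra.IsPushout R B S B₂] [Algebra R B] in
/-- finitely many elements of `ker f` generate it modulo `I_A`. -/
theorem exists_finset_ker_le {n : ℕ} (f : MvPolynomial (Fin n) R →ₐ[R] S)
    (hf : Function.Surjective f) (hA : Function.Surjective (algebraMap R A))
    [Algebra.FinitePresentation A A₂] :
    ∃ F : Finset (MvPolynomial (Fin n) R), (∀ x ∈ F, f x = 0) ∧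
      ∀ κ, f κ = 0 → ∃ κ₀ ∈ Ideal.span (F : Set (MvPolynomial (Fin n) R)),
        κ - κ₀ ∈ (RingHom.ker (algebraMap R A)) • (⊤ : Submodule R (MvPolynomial (Fin n) R)) := by
  classical
  let P := MvPolynomial (Fin n) R
  let PA := MvPolynomial (Fin n) A
  let mA : P →+* PA := MvPolynomial.map (algebraMap R A)
  have hmA : Function.Surjective mA := MvPolynomial.map_surjective _ hA
  let fA : PA →ₐ[A] A₂ := MvPolynomial.aeval (fun i => algebraMap S A₂ (f (MvPolynomial.X i)))
  have hcomp : ∀ p : P, fA (mA p) = algebraMap S A₂ (f p) := by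
    have : (fA : PA →+* A₂).comp mA = (algebraMap S A₂).comp (f : P →+* S) := by
      apply MvPolynomial.ringHom_ext
      · intro r
        show fA (mA (MvPolynomial.C r)) = algebraMap S A₂ (f (MvPolynomial.C r))
        rw [show mA (MvPolynomial.C r) = MvPolynomial.C (algebraMap R A r) from
            MvPolynomial.map_C _ _,
          show fA (MvPolynomial.C (algebraMap R A r)) = algebraMap A A₂ (algebraMap R A r) from
            MvPolynomial.aeval_C _ _,
          show f (MvPolynomial.C r) = algebraMap R S r from f.commutes r,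
          ← IsScalarTower.algebraMap_apply, ← IsScalarTower.algebraMap_apply]
      · intro i
        show fA (mA (MvPolynomial.X i)) = algebraMap S A₂ (f (MvPolynomial.X i))
        rw [show mA (MvPolynomial.X i) = MvPolynomial.X i from MvPolynomial.map_X _ _]
        exact MvPolynomial.aeval_X _ _
    intro p
    exact congr($this p)
  have hfA : Function.Surjective fA := by
    intro x
    obtain ⟨s, rfl⟩ := surjective_of_isPushout (R := R) (S := S) (A := A) (A₂ := A₂) hA x
    obtain ⟨p, rfl⟩ := hf s
    exact ⟨mA p, hcomp p⟩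
  have hfg : (RingHom.ker fA.toRingHom).FG :=
    Algebra.FinitePresentation.ker_fG_of_surjective fA hfA
  have hI0 : ∀ p' : P, p' ∈ (RingHom.ker (algebraMap R A)) • (⊤ : Submodule R P) → mA p' = 0 := by
    intro p' hp'
    refine Submodule.smul_induction_on hp' ?_ ?_
    · intro r hr q _
      rw [Algebra.smul_def, map_mul, MvPolynomial.algebraMap_eq]
      show MvPolynomial.map (algebraMap R A) (MvPolynomial.C r) * _ = 0
      rw [MvPolynomial.map_C, RingHom.mem_ker.mp hr, map_zero, zero_mul]
    · intro x y hx hy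
      rw [map_add, hx, hy, add_zero]
  have hker : RingHom.ker fA.toRingHom = Ideal.span (mA '' {κ : P | f κ = 0}) := by
    apply le_antisymm
    · intro y hy
      obtain ⟨p, rfl⟩ := hmA y
      have h1 : algebraMap S A₂ (f p) = 0 := by rw [← hcomp]; exact hy
      have h2 := mem_smul_top_of_isPushout (A₂ := A₂) hA _ h1
      have h3 : f p ∈ Submodule.map f.toLinearMap
          ((RingHom.ker (algebraMap R A)) • (⊤ : Submodule R P)) := by
        rw [Submodule.map_smul'', Submodule.map_top, LinearMap.range_eq_top.mpr hf]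
        exact h2
      obtain ⟨p', hp', e⟩ := h3
      have e' : f p' = f p := e
      have : mA p = mA (p - p') := by rw [map_sub, hI0 p' hp', sub_zero]
      rw [this]
      exact Ideal.subset_span ⟨p - p', by
        show f (p - p') = 0
        rw [map_sub, e', sub_self], rfl⟩
    · rw [Ideal.span_le]
      rintro _ ⟨κ, hκ, rfl⟩
      show fA (mA κ) = 0
      have hκ' : f κ = 0 := hκ
      rw [hcomp, hκ', map_zero]
  rw [hker] at hfg
  obtain ⟨s', hs', hspan⟩ := (Submodule.fg_span_iff_fg_span_finset_subset _).mp hfg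
  choose! g hg using fun y (hy : y ∈ mA '' {κ : P | f κ = 0}) => hy
  refine ⟨s'.image g, ?_, ?_⟩
  · intro x hx
    obtain ⟨y, hy, rfl⟩ := Finset.mem_image.mp hx
    exact (hg y (hs' hy)).1
  · intro κ hκ
    have h1 : mA κ ∈ Ideal.span (mA '' {κ : P | f κ = 0}) := Ideal.subset_span ⟨κ, hκ, rfl⟩
    have h2 : Ideal.span (mA '' {κ : P | f κ = 0}) =
        Ideal.map mA (Ideal.span ((s'.image g : Finset P) : Set P)) := by
      rw [Ideal.map_span]
      show Submodule.span PA _ = _
      rw [hspan]
      congr 1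
      ext y
      constructor
      · intro hy
        exact ⟨g y, Finset.mem_coe.mpr (Finset.mem_image_of_mem g hy), (hg y (hs' hy)).2⟩
      · rintro ⟨x, hx, rfl⟩
        obtain ⟨y, hy, rfl⟩ := Finset.mem_image.mp (Finset.mem_coe.mp hx)
        rw [(hg y (hs' hy)).2]
        exact hy
    rw [h2, Ideal.mem_map_iff_of_surjective mA hmA] at h1
    obtain ⟨κ₀, hκ₀, e⟩ := h1
    refine ⟨κ₀, hκ₀, ?_⟩
    have h3 : κ - κ₀ ∈ RingHom.ker mA := by
      rw [RingHom.mem_ker, map_sub, e, sub_self]
    rw [MvPolynomial.ker_map] at h3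
    rw [Ideal.smul_top_eq_map]
    exact h3

/-- **finite type** descends from the two quotients. -/
theorem finiteType (hA : Function.Surjective (algebraMap R A))
    (hB : Function.Surjective (algebraMap R B))
    (hinj : ∀ s : S, algebraMap S A₂ s = 0 → algebraMap S B₂ s = 0 → s = 0)
    [Algebra.FiniteType A A₂] [Algebra.FiniteType B B₂] : Algebra.FiniteType R S := by
  obtain ⟨tA, htA⟩ := (Algebra.FiniteType.out : (⊤ : Subalgebra A A₂).FG)
  obtain ⟨tB, htB⟩ := (Algebra.FiniteType.out : (⊤ : Subalgebra B B₂).FG)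
  have sA := surjective_of_isPushout (R := R) (S := S) (A := A) (A₂ := A₂) hA
  have sB := surjective_of_isPushout (R := R) (S := S) (A := B) (A₂ := B₂) hB
  classical
  choose lA hlA using sA
  choose lB hlB using sB
  let T : Finset S := tA.image lA ∪ tB.image lB
  refine ⟨⟨T, ?_⟩⟩
  set G := Algebra.adjoin R (T : Set S) with hGdef
  have hGA : ∀ x : A₂, ∃ g ∈ G, algebraMap S A₂ g = x := by
    refine exists_mem_map_eq hA G (tA : Set A₂) htA (fun x hx => ?_)
    exact ⟨lA x, Algebra.subset_adjoin (Finset.mem_coe.mpr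
      (Finset.mem_union_left _ (Finset.mem_image_of_mem _ hx))), hlA x⟩
  have hGB : ∀ x : B₂, ∃ g ∈ G, algebraMap S B₂ g = x := by
    refine exists_mem_map_eq hB G (tB : Set B₂) htB (fun x hx => ?_)
    exact ⟨lB x, Algebra.subset_adjoin (Finset.mem_coe.mpr
      (Finset.mem_union_right _ (Finset.mem_image_of_mem _ hx))), hlB x⟩
  rw [eq_top_iff]
  intro s _
  obtain ⟨g₀, hg₀, e₀⟩ := hGA (algebraMap S A₂ s)
  have hker : s - g₀ ∈ (RingHom.ker (algebraMap R A)) • (⊤ : Submodule R S) :=
    mem_smul_top_of_isPushout (A₂ := A₂) hA _ (by rw [map_sub, e₀, sub_self])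
  have key : s - g₀ ∈ G := by
    refine Submodule.smul_induction_on hker ?_ ?_
    · intro r hr ρ _
      obtain ⟨g, hg, e⟩ := hGB (algebraMap S B₂ ρ)
      have hz : r • (ρ - g) = 0 := by
        apply hinj
        · rw [Algebra.smul_def, map_mul, ← IsScalarTower.algebraMap_apply,
            IsScalarTower.algebraMap_apply R A A₂, RingHom.mem_ker.mp hr, map_zero, zero_mul]
        · rw [Algebra.smul_def, map_mul, map_sub, e, sub_self, mul_zero]
      have : r • ρ = r • g := by
        rw [smul_sub, sub_eq_zero] at hz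
        exact hz
      rw [this]
      exact G.smul_mem hg r
    · intro x y hx hy
      exact G.add_mem hx hy
  have : s = (s - g₀) + g₀ := by ring
  rw [this]
  exact G.add_mem key hg₀

/-- **finite presentation** (of a flat algebra) descends from the two quotients. -/
theorem finitePresentation (hA : Function.Surjective (algebraMap R A))
    (hB : Function.Surjective (algebraMap R B))
    (hker : RingHom.ker (algebraMap R A) ⊓ RingHom.ker (algebraMap R B) = ⊥)
    [Module.Flat R S] [Algebra.FiniteType R S] [Algebra.FinitePresentation A A₂]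
    [Algebra.FinitePresentation B B₂] : Algebra.FinitePresentation R S := by
  classical
  obtain ⟨n, f, hf⟩ := Algebra.FiniteType.iff_quotient_mvPolynomial''.mp
    (inferInstance : Algebra.FiniteType R S)
  obtain ⟨FA, hFA, hA'⟩ := exists_finset_ker_le (A := A) (A₂ := A₂) f hf hA
  obtain ⟨FB, hFB, hB'⟩ := exists_finset_ker_le (A := B) (A₂ := B₂) f hf hB
  refine Algebra.FinitePresentation.of_surjective hf ⟨FA ∪ FB, ?_⟩
  set K₀ := Ideal.span ((FA ∪ FB : Finset (MvPolynomial (Fin n) R)) : Set (MvPolynomial (Fin n) R))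
    with hK₀
  have hleA : Ideal.span (FA : Set (MvPolynomial (Fin n) R)) ≤ K₀ :=
    Ideal.span_mono (by rw [Finset.coe_union]; exact Set.subset_union_left)
  have hleB : Ideal.span (FB : Set (MvPolynomial (Fin n) R)) ≤ K₀ :=
    Ideal.span_mono (by rw [Finset.coe_union]; exact Set.subset_union_right)
  have hK₀ker : ∀ x ∈ K₀, f x = 0 := by
    intro x hx
    have : K₀ ≤ RingHom.ker f.toRingHom := by
      rw [hK₀, Ideal.span_le]
      intro y hy
      rcases Finset.mem_union.mp (Finset.mem_coe.mp hy) with h | h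
      · exact hFA y h
      · exact hFB y h
    exact this hx
  -- decomposition modulo `I_B`
  have stepB : ∀ y, f y = 0 → ∃ y₀ ∈ K₀, y - y₀ ∈
      (RingHom.ker (algebraMap R B)) • LinearMap.ker f.toLinearMap := by
    intro y hy
    obtain ⟨y₀, hy₀, hd⟩ := hB' y hy
    refine ⟨y₀, hleB hy₀, ?_⟩
    refine mem_smul_ker_of_flat f.toLinearMap hf _ _ ?_ hd
    show f (y - y₀) = 0
    rw [map_sub, hy, hK₀ker y₀ (hleB hy₀), sub_zero]
  have stepA : ∀ y, f y = 0 → ∃ y₀ ∈ K₀, y - y₀ ∈
      (RingHom.ker (algebraMap R A)) • LinearMap.ker f.toLinearMap := by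
    intro y hy
    obtain ⟨y₀, hy₀, hd⟩ := hA' y hy
    refine ⟨y₀, hleA hy₀, ?_⟩
    refine mem_smul_ker_of_flat f.toLinearMap hf _ _ ?_ hd
    show f (y - y₀) = 0
    rw [map_sub, hy, hK₀ker y₀ (hleA hy₀), sub_zero]
  apply le_antisymm
  · intro x hx
    exact hK₀ker x hx
  · intro κ hκ
    have hκ' : f κ = 0 := hκ
    obtain ⟨κ₀, hκ₀, hd⟩ := stepA κ hκ'
    have hx : κ - κ₀ ∈ K₀ := by
      refine Submodule.smul_induction_on hd ?_ ?_
      · intro i hi y hy
        have hy' : f y = 0 := hy
        obtain ⟨y₀, hy₀, hz⟩ := stepB y hy'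
        have hiz : i • (y - y₀) = 0 := by
          refine Submodule.smul_induction_on hz ?_ ?_
          · intro j hj w _
            have hij : i * j = 0 := by
              have : i * j ∈ RingHom.ker (algebraMap R A) ⊓ RingHom.ker (algebraMap R B) :=
                ⟨Ideal.mul_mem_right _ _ hi, Ideal.mul_mem_left _ _ hj⟩
              rw [hker] at this
              exact this
            rw [smul_smul, hij, zero_smul]
          · intro a b ha hb
            rw [smul_add, ha, hb, add_zero]
        have : i • y = i • y₀ := by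
          rw [smul_sub, sub_eq_zero] at hiz
          exact hiz
        rw [this, Algebra.smul_def]
        exact K₀.mul_mem_left _ hy₀
      · intro a b ha hb
        exact K₀.add_mem ha hb
    have : κ = (κ - κ₀) + κ₀ := by ring
    rw [this]
    exact K₀.add_mem hx hκ₀

/-- **smoothness** descends from the two quotients. -/
theorem smooth (hA : Function.Surjective (algebraMap R A))
    (hB : Function.Surjective (algebraMap R B))
    (hker : RingHom.ker (algebraMap R A) ⊓ RingHom.ker (algebraMap R B) = ⊥)
    [Module.Flat R S] [Algebra.FinitePresentation R S] [Algebra.FormallySmooth A A₂]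
    [Algebra.FormallySmooth B B₂] : Algebra.Smooth R S := by
  refine Algebra.Smooth.of_formallySmooth_fiber (fun I hI => ?_)
  have h : RingHom.ker (algebraMap R A) ≤ I ∨ RingHom.ker (algebraMap R B) ≤ I := by
    apply (Ideal.IsPrime.inf_le hI).mp
    rw [hker]
    exact bot_le
  rcases h with h | h
  · exact fiber_formallySmooth (A := A) (A₂ := A₂) hA I h
  · exact fiber_formallySmooth (A := B) (A₂ := B₂) hB I h

end Two

end Groth.Agent.Lib.Helper22.PoMap2
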