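import Mathlib
import Groth.Agent.Lib.Helper22PoMapAlg
import Groth.Agent.Lib.Helper22PoMapAlg2

/-!
# Helper22: cartesian maps of fibre squares with both legs surjective (two closed immersions)
-/

set_option autoImplicit false
set_option linter.style.haveILetI false
universe u

namespace Groth.Agent.Lib.Helper22.PoMap

open TensorProduct CategoryTheory Groth.Agent.Lib.Helper22.SpPO

variable {R₁ B₁ A₁ C₁ R₂ B₂ A₂ C₂ : Type u}
  [CommRing R₁] [CommRing B₁] [CommRing A₁] [CommRing C₁]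
  [CommRing R₂] [CommRing B₂] [CommRing A₂] [CommRing C₂]
  {p₁ : A₁ →+* C₁} {q₁ : B₁ →+* C₁} {φB₁ : R₁ →+* B₁} {φA₁ : R₁ →+* A₁}
  {p₂ : A₂ →+* C₂} {q₂ : B₂ →+* C₂} {φB₂ : R₂ →+* B₂} {φA₂ : R₂ →+* A₂}
  {fA : A₁ →+* A₂} {gB : B₁ →+* B₂} {fC : C₁ →+* C₂} {θ : R₁ →+* R₂}

theorem FS.surjective_snd' {A A' B R : Type u} [CommRing A] [CommRing A'] [CommRing B] [CommRing R]
    {p : A' →+* A} {q : B →+* A} {φB : R →+* B} {φA : R →+* A'}
    (hs : FS p q φB φA) (hq : Function.Surjective q) : Function.Surjective φA := by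
  intro a
  obtain ⟨b, hb⟩ := hq (p a)
  obtain ⟨r, -, hr⟩ := hs.ex b a hb
  exact ⟨r, hr⟩

/-- descent of finite type / flat + finite presentation / smooth / étale when both legs of the first
square are surjective. -/
theorem Data.core2 (D : Data p₁ q₁ φB₁ φA₁ p₂ q₂ φB₂ φA₂ fA gB fC θ)
    (hq₁ : Function.Surjective q₁) :
    (fA.FiniteType → gB.FiniteType → θ.FiniteType) ∧
      (fA.Flat → gB.Flat → fA.FinitePresentation → gB.FinitePresentation →
        θ.FinitePresentation) ∧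
      (fA.Smooth → gB.Smooth → θ.Smooth) ∧
      (fA.Etale → gB.Etale → θ.Etale) := by
  letI : Algebra R₁ B₁ := φB₁.toAlgebra
  letI : Algebra R₁ A₁ := φA₁.toAlgebra
  letI : Algebra B₁ C₁ := q₁.toAlgebra
  letI : Algebra A₁ C₁ := p₁.toAlgebra
  letI : Algebra R₁ C₁ := (p₁.comp φA₁).toAlgebra
  haveI : IsScalarTower R₁ B₁ C₁ := IsScalarTower.of_algebraMap_eq fun r => (D.hs₁.comm r).symm
  haveI : IsScalarTower R₁ A₁ C₁ := IsScalarTower.of_algebraMap_eq fun r => rfl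
  letI : Algebra R₂ B₂ := φB₂.toAlgebra
  letI : Algebra R₂ A₂ := φA₂.toAlgebra
  letI : Algebra B₂ C₂ := q₂.toAlgebra
  letI : Algebra A₂ C₂ := p₂.toAlgebra
  letI : Algebra R₂ C₂ := (p₂.comp φA₂).toAlgebra
  haveI : IsScalarTower R₂ B₂ C₂ := IsScalarTower.of_algebraMap_eq fun r => (D.hs₂.comm r).symm
  haveI : IsScalarTower R₂ A₂ C₂ := IsScalarTower.of_algebraMap_eq fun r => rfl
  letI : Algebra R₁ R₂ := θ.toAlgebra
  letI : Algebra B₁ B₂ := gB.toAlgebra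
  letI : Algebra A₁ A₂ := fA.toAlgebra
  letI : Algebra C₁ C₂ := fC.toAlgebra
  letI : Algebra R₁ B₂ := (φB₂.comp θ).toAlgebra
  letI : Algebra R₁ A₂ := (φA₂.comp θ).toAlgebra
  letI : Algebra B₁ C₂ := (q₂.comp gB).toAlgebra
  letI : Algebra A₁ C₂ := (p₂.comp fA).toAlgebra
  haveI : IsScalarTower R₁ R₂ B₂ := IsScalarTower.of_algebraMap_eq fun r => rfl
  haveI : IsScalarTower R₁ B₁ B₂ :=
    IsScalarTower.of_algebraMap_eq fun r => congr($(D.hθB) r)
  haveI : IsScalarTower R₁ R₂ A₂ := IsScalarTower.of_algebraMap_eq fun r => rfl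
  haveI : IsScalarTower R₁ A₁ A₂ :=
    IsScalarTower.of_algebraMap_eq fun r => congr($(D.hθA) r)
  haveI : IsScalarTower B₁ B₂ C₂ := IsScalarTower.of_algebraMap_eq fun r => rfl
  haveI : IsScalarTower B₁ C₁ C₂ :=
    IsScalarTower.of_algebraMap_eq fun r => congr($(D.hqC) r)
  haveI : IsScalarTower A₁ A₂ C₂ := IsScalarTower.of_algebraMap_eq fun r => rfl
  haveI : IsScalarTower A₁ C₁ C₂ :=
    IsScalarTower.of_algebraMap_eq fun r => congr($(D.hpC) r)
  have hsq₁ : EtMil.IsFibreSquare R₁ B₁ A₁ C₁ := isFibreSquare_of_FS D.hs₁ D.hp₁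
  have hsq₂ : EtMil.IsFibreSquare R₂ B₂ A₂ C₂ := isFibreSquare_of_FS D.hs₂ D.hp₂
  haveI : Algebra.IsPushout A₁ C₁ A₂ C₂ := CommRingCat.isPushout_iff_isPushout.mp D.HA
  haveI : Algebra.IsPushout B₁ C₁ B₂ C₂ := CommRingCat.isPushout_iff_isPushout.mp D.HB
  haveI hA : Algebra.IsPushout R₁ A₁ R₂ A₂ := isPushout_A hsq₁ hsq₂
  haveI hB : Algebra.IsPushout R₁ B₁ R₂ B₂ := isPushout_B hsq₁ hsq₂
  have sA : Function.Surjective (algebraMap R₁ A₁) := FS.surjective_snd' D.hs₁ hq₁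
  have sB : Function.Surjective (algebraMap R₁ B₁) := D.hs₁.surjective_fst D.hp₁
  have hinj : ∀ s : R₂, algebraMap R₂ A₂ s = 0 → algebraMap R₂ B₂ s = 0 → s = 0 :=
    fun s h1 h2 => D.hs₂.inj s h2 h1
  have hker : RingHom.ker (algebraMap R₁ A₁) ⊓ RingHom.ker (algebraMap R₁ B₁) = ⊥ := by
    rw [eq_bot_iff]
    rintro r ⟨h1, h2⟩
    exact D.hs₁.inj r h2 h1
  have ft : Algebra.FiniteType A₁ A₂ → Algebra.FiniteType B₁ B₂ → Algebra.FiniteType R₁ R₂ := by
    intro h1 h2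
    exact PoMap2.finiteType (A := A₁) (B := B₁) (A₂ := A₂) (B₂ := B₂) sA sB hinj
  have fp : Module.Flat A₁ A₂ → Module.Flat B₁ B₂ → Algebra.FinitePresentation A₁ A₂ →
      Algebra.FinitePresentation B₁ B₂ → Algebra.FinitePresentation R₁ R₂ := by
    intro h1 h2 h3 h4
    haveI : Module.Flat R₁ R₂ := flat_of_flat hsq₁ hsq₂
    haveI : Algebra.FiniteType R₁ R₂ := ft inferInstance inferInstance
    exact PoMap2.finitePresentation (A := A₁) (B := B₁) (A₂ := A₂) (B₂ := B₂) sA sB hker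
  have sm : Algebra.Smooth A₁ A₂ → Algebra.Smooth B₁ B₂ → Algebra.Smooth R₁ R₂ := by
    intro h1 h2
    haveI : Module.Flat R₁ R₂ := flat_of_flat hsq₁ hsq₂
    haveI : Algebra.FinitePresentation R₁ R₂ :=
      fp inferInstance inferInstance inferInstance inferInstance
    exact PoMap2.smooth (A := A₁) (B := B₁) (A₂ := A₂) (B₂ := B₂) sA sB hker
  refine ⟨ft, fp, sm, ?_⟩
  intro h1 h2
  haveI : Algebra.Etale A₁ A₂ := h1
  haveI : Algebra.Etale B₁ B₂ := h2
  haveI : Algebra.Smooth R₁ R₂ := sm inferInstance inferInstance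
  haveI : Algebra.FormallyUnramified R₁ R₂ := formallyUnramified_of_formallyUnramified hsq₁ hsq₂
  exact Algebra.Etale.iff_formallyUnramified_and_smooth.mpr ⟨inferInstance, inferInstance⟩

end Groth.Agent.Lib.Helper22.PoMap
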