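import Mathlib
import Groth.Agent.Lib.Helper22PoMapAlg3
import Groth.Agent.Lib.Helper22SpecPushoutTop

/-!
# Helper22: cartesian maps of Milnor squares: finite type and quasi-finiteness descend
(no surjectivity assumption on the second leg)
-/

set_option autoImplicit false
set_option linter.style.haveILetI false
set_option linter.unusedSectionVars false
set_option linter.unusedVariables false
universe u

namespace Groth.Agent.Lib.Helper22.PoMap

open TensorProduct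

section Alg

variable {R₁ B₁ A₁ C₁ R₂ B₂ A₂ C₂ : Type u}
  [CommRing R₁] [CommRing B₁] [CommRing A₁] [CommRing C₁]
  [CommRing R₂] [CommRing B₂] [CommRing A₂] [CommRing C₂]
  [Algebra R₁ B₁] [Algebra R₁ A₁] [Algebra B₁ C₁] [Algebra A₁ C₁] [Algebra R₁ C₁]
  [IsScalarTower R₁ B₁ C₁] [IsScalarTower R₁ A₁ C₁]
  [Algebra R₂ B₂] [Algebra R₂ A₂] [Algebra B₂ C₂] [Algebra A₂ C₂] [Algebra R₂ C₂]
  [IsScalarTower R₂ B₂ C₂] [IsScalarTower R₂ A₂ C₂]
  [Algebra R₁ R₂] [Algebra B₁ B₂] [Algebra A₁ A₂] [Algebra C₁ C₂]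
  [Algebra R₁ B₂] [Algebra R₁ A₂] [Algebra B₁ C₂] [Algebra A₁ C₂]
  [IsScalarTower R₁ R₂ B₂] [IsScalarTower R₁ B₁ B₂] [IsScalarTower R₁ R₂ A₂] [IsScalarTower R₁ A₁ A₂]
  [IsScalarTower B₁ B₂ C₂] [IsScalarTower B₁ C₁ C₂] [IsScalarTower A₁ A₂ C₂] [IsScalarTower A₁ C₁ C₂]
  [Algebra.IsPushout A₁ C₁ A₂ C₂] [Algebra.IsPushout B₁ C₁ B₂ C₂]

/-- finite type descends along a cartesian map of Milnor squares. -/
theorem finiteType_of_finiteType (hsq₁ : EtMil.IsFibreSquare R₁ B₁ A₁ C₁)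
    (hsq₂ : EtMil.IsFibreSquare R₂ B₂ A₂ C₂) [Algebra.FiniteType A₁ A₂]
    [Algebra.FiniteType B₁ B₂] : Algebra.FiniteType R₁ R₂ := by
  classical
  have hA : Algebra.IsPushout R₁ A₁ R₂ A₂ := isPushout_A hsq₁ hsq₂
  have sB₁ : Function.Surjective (algebraMap R₁ B₁) := Groth.Agent.Lib.Helper22.fs_surjective hsq₁
  have sB₂ : Function.Surjective (algebraMap R₂ B₂) := Groth.Agent.Lib.Helper22.fs_surjective hsq₂
  obtain ⟨GB, hGB⟩ := (Algebra.FiniteType.out : (⊤ : Subalgebra B₁ B₂).FG)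
  obtain ⟨GA, hGA⟩ := (Algebra.FiniteType.out : (⊤ : Subalgebra A₁ A₂).FG)
  choose tB htB using sB₂
  -- every element of `A₂` is an `A₁`-combination of images of `R₂`
  have hspanA : ∀ x : A₂, x ∈ Submodule.span A₁ (Set.range (algebraMap R₂ A₂)) := by
    intro x
    have h : IsBaseChange A₁ (IsScalarTower.toAlgHom R₁ R₂ A₂).toLinearMap := hA.out
    refine h.inductionOn x (motive := fun x => x ∈ Submodule.span A₁ (Set.range (algebraMap R₂ A₂)))
      (Submodule.zero_mem _) (fun r => Submodule.subset_span ⟨r, rfl⟩) ?_ ?_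
    · intro a x hx
      exact Submodule.smul_mem _ a hx
    · intro x y hx hy
      exact Submodule.add_mem _ hx hy
  have hfin : ∀ x : A₂, ∃ F : Finset R₂, x ∈ Submodule.span A₁ (algebraMap R₂ A₂ '' (F : Set R₂)) := by
    intro x
    obtain ⟨T, hT, hxT⟩ := Submodule.mem_span_finite_of_mem_span (hspanA x)
    refine ⟨T.image (Function.invFun (algebraMap R₂ A₂)), ?_⟩
    refine Submodule.span_mono ?_ hxT
    intro t ht
    obtain ⟨r, hr⟩ := hT ht
    refine ⟨Function.invFun (algebraMap R₂ A₂) t, ?_, Function.invFun_eq ⟨r, hr⟩⟩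
    exact Finset.mem_coe.mpr (Finset.mem_image_of_mem _ ht)
  choose F hF using hfin
  let G : Finset R₂ := GB.image tB ∪ GA.biUnion F
  let S : Subalgebra R₁ R₂ := Algebra.adjoin R₁ (G : Set R₂)
  refine ⟨⟨G, ?_⟩⟩
  show S = ⊤
  -- (i) `S` surjects onto `B₂`
  have h1 : ∀ b : B₂, ∃ s ∈ S, algebraMap R₂ B₂ s = b := by
    intro b
    have hb : b ∈ Algebra.adjoin B₁ (GB : Set B₂) := by rw [hGB]; trivial
    induction hb using Algebra.adjoin_induction with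
    | mem y hy =>
      exact ⟨tB y, Algebra.subset_adjoin (Finset.mem_coe.mpr (Finset.mem_union_left _
        (Finset.mem_image_of_mem tB hy))), htB y⟩
    | algebraMap b₁ =>
      obtain ⟨r₁, rfl⟩ := sB₁ b₁
      refine ⟨algebraMap R₁ R₂ r₁, S.algebraMap_mem r₁, ?_⟩
      rw [← IsScalarTower.algebraMap_apply, ← IsScalarTower.algebraMap_apply]
    | add x y _ _ hx hy =>
      obtain ⟨s, hs, rfl⟩ := hx
      obtain ⟨t, ht, rfl⟩ := hy
      exact ⟨s + t, S.add_mem hs ht, map_add _ _ _⟩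
    | mul x y _ _ hx hy =>
      obtain ⟨s, hs, rfl⟩ := hx
      obtain ⟨t, ht, rfl⟩ := hy
      exact ⟨s * t, S.mul_mem hs ht, map_mul _ _ _⟩
  -- (ii) `A₂` is the `A₁`-span of the image of `S`
  have h2 : ∀ x : A₂, x ∈ Submodule.span A₁ (algebraMap R₂ A₂ '' (S : Set R₂)) := by
    let M' : Subalgebra A₁ A₂ := Algebra.adjoin A₁ (algebraMap R₂ A₂ '' (S : Set R₂))
    have hM' : (Subalgebra.toSubmodule M') = Submodule.span A₁ (algebraMap R₂ A₂ '' (S : Set R₂)) := by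
      rw [Algebra.adjoin_eq_span]
      congr 1
      have : (algebraMap R₂ A₂ '' (S : Set R₂)) = ((S.toSubring.map (algebraMap R₂ A₂)).toSubmonoid : Set A₂) := by
        ext; simp
      rw [this, Submonoid.closure_eq]
    have hGAle : (GA : Set A₂) ⊆ M' := by
      intro x hx
      have : x ∈ Submodule.span A₁ (algebraMap R₂ A₂ '' (S : Set R₂)) := by
        refine Submodule.span_mono ?_ (hF x)
        rintro _ ⟨r, hr, rfl⟩
        exact ⟨r, Algebra.subset_adjoin (Finset.mem_coe.mpr (Finset.mem_union_right _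
          (Finset.mem_biUnion.mpr ⟨x, hx, hr⟩))), rfl⟩
      rw [← hM'] at this
      exact this
    have htop : M' = ⊤ := by
      rw [eq_top_iff, ← hGA]
      exact Algebra.adjoin_le hGAle
    intro x
    rw [← hM', htop]
    trivial
  -- (iii) the kernel of `A₂ → C₂` is hit by elements of `S` killed in `B₂`
  have h3 : ∀ x : A₂, algebraMap A₂ C₂ x = 0 →
      ∃ s ∈ S, algebraMap R₂ B₂ s = 0 ∧ algebraMap R₂ A₂ s = x := by
    intro x hx
    have hmem := PoMap2.mem_smul_top_of_isPushout (R := A₁) (A := C₁) (S := A₂) (A₂ := C₂) hsq₁.1 x hx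
    have key : ∀ z : A₂, z ∈ Submodule.span A₁ (algebraMap R₂ A₂ '' (S : Set R₂)) →
        ∀ a : A₁, a ∈ RingHom.ker (algebraMap A₁ C₁) →
        ∃ s ∈ S, algebraMap R₂ B₂ s = 0 ∧ algebraMap R₂ A₂ s = a • z := by
      intro z hz
      induction hz using Submodule.span_induction with
      | mem z hz =>
        obtain ⟨s, hs, rfl⟩ := hz
        intro a ha
        obtain ⟨r, ⟨hr1, hr2⟩, -⟩ := hsq₁.2 0 a (by rw [map_zero]; exact (RingHom.mem_ker.mp ha).symm)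
        refine ⟨algebraMap R₁ R₂ r * s, S.mul_mem (S.algebraMap_mem r) hs, ?_, ?_⟩
        · rw [map_mul, ← IsScalarTower.algebraMap_apply, IsScalarTower.algebraMap_apply R₁ B₁ B₂,
            hr1, map_zero, zero_mul]
        · rw [map_mul, ← IsScalarTower.algebraMap_apply, IsScalarTower.algebraMap_apply R₁ A₁ A₂,
            hr2, Algebra.smul_def]
      | zero =>
        intro a ha
        exact ⟨0, S.zero_mem, map_zero _, by rw [map_zero, smul_zero]⟩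
      | add z₁ z₂ _ _ h1 h2 =>
        intro a ha
        obtain ⟨s₁, hs₁, e1, e1'⟩ := h1 a ha
        obtain ⟨s₂, hs₂, e2, e2'⟩ := h2 a ha
        exact ⟨s₁ + s₂, S.add_mem hs₁ hs₂, by rw [map_add, e1, e2, add_zero],
          by rw [map_add, e1', e2', smul_add]⟩
      | smul a' z _ h =>
        intro a ha
        obtain ⟨s, hs, e1, e2⟩ := h (a * a') (Ideal.mul_mem_right _ _ ha)
        exact ⟨s, hs, e1, by rw [e2, mul_smul]⟩
    refine Submodule.smul_induction_on hmem ?_ ?_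
    · intro a ha z _
      exact key z (h2 z) a ha
    · rintro x y ⟨s, hs, e1, e2⟩ ⟨t, ht, e1', e2'⟩
      exact ⟨s + t, S.add_mem hs ht, by rw [map_add, e1, e1', add_zero], by rw [map_add, e2, e2']⟩
  -- (iv) conclusion
  rw [eq_top_iff]
  intro r₂ _
  obtain ⟨s, hs, hsb⟩ := h1 (algebraMap R₂ B₂ r₂)
  have hker : algebraMap A₂ C₂ (algebraMap R₂ A₂ (r₂ - s)) = 0 := by
    rw [← IsScalarTower.algebraMap_apply, IsScalarTower.algebraMap_apply R₂ B₂ C₂, map_sub, hsb,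
      sub_self, map_zero]
  obtain ⟨s', hs', e1, e2⟩ := h3 _ hker
  have : r₂ - s = s' := Groth.Agent.Lib.Helper22.fs_ext hsq₂
    (by rw [e1, map_sub, hsb, sub_self]) e2.symm
  have : r₂ = s + s' := by rw [← this]; ring
  rw [this]
  exact S.add_mem hs hs'

end Alg

section Hom

open CategoryTheory PrimeSpectrum Groth.Agent.Lib.Helper22.SpPO

variable {R₁ B₁ A₁ C₁ R₂ B₂ A₂ C₂ : Type u}
  [CommRing R₁] [CommRing B₁] [CommRing A₁] [CommRing C₁]
  [CommRing R₂] [CommRing B₂] [CommRing A₂] [CommRing C₂]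
  {p₁ : A₁ →+* C₁} {q₁ : B₁ →+* C₁} {φB₁ : R₁ →+* B₁} {φA₁ : R₁ →+* A₁}
  {p₂ : A₂ →+* C₂} {q₂ : B₂ →+* C₂} {φB₂ : R₂ →+* B₂} {φA₂ : R₂ →+* A₂}
  {fA : A₁ →+* A₂} {gB : B₁ →+* B₂} {fC : C₁ →+* C₂} {θ : R₁ →+* R₂}

/-- the kernel of `p₂` is generated by the kernel of `p₁`. -/
theorem Data.ker_le (D : Data p₁ q₁ φB₁ φA₁ p₂ q₂ φB₂ φA₂ fA gB fC θ) :
    RingHom.ker p₂ ≤ Ideal.map fA (RingHom.ker p₁) := by
  letI : Algebra A₁ C₁ := p₁.toAlgebra
  letI : Algebra A₂ C₂ := p₂.toAlgebra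
  letI : Algebra A₁ A₂ := fA.toAlgebra
  letI : Algebra C₁ C₂ := fC.toAlgebra
  letI : Algebra A₁ C₂ := (p₂.comp fA).toAlgebra
  haveI : IsScalarTower A₁ A₂ C₂ := IsScalarTower.of_algebraMap_eq fun r => rfl
  haveI : IsScalarTower A₁ C₁ C₂ :=
    IsScalarTower.of_algebraMap_eq fun r => congr($(D.hpC) r)
  haveI : Algebra.IsPushout A₁ C₁ A₂ C₂ := CommRingCat.isPushout_iff_isPushout.mp D.HA
  intro x hx
  have hmem := PoMap2.mem_smul_top_of_isPushout (R := A₁) (A := C₁) (S := A₂) (A₂ := C₂) D.hp₁ x hx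
  rw [Ideal.smul_top_eq_map] at hmem
  exact hmem

/-- finiteness of fibres descends along a cartesian map of Milnor squares. -/
theorem Data.finite_fibre (D : Data p₁ q₁ φB₁ φA₁ p₂ q₂ φB₂ φA₂ fA gB fC θ)
    (hfA : ∀ 𝔞 : PrimeSpectrum A₁, (comap fA ⁻¹' {𝔞}).Finite)
    (hgB : ∀ 𝔟 : PrimeSpectrum B₁, (comap gB ⁻¹' {𝔟}).Finite) (𝔯 : PrimeSpectrum R₁) :
    (comap θ ⁻¹' {𝔯}).Finite := by
  let EB : Set (PrimeSpectrum B₁) := comap φB₁ ⁻¹' {𝔯}
  let EA : Set (PrimeSpectrum A₁) := {𝔞 | comap φA₁ 𝔞 = 𝔯 ∧ 𝔞 ∉ Set.range (comap p₁)}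
  have hEB : EB.Finite :=
    (Set.subsingleton_singleton.preimage
      (comap_injective_of_surjective φB₁ (D.hs₁.surjective_fst D.hp₁))).finite
  have hEA : EA.Finite := by
    apply Set.Subsingleton.finite
    rintro 𝔞 ⟨h1, h2⟩ 𝔞' ⟨h1', h2'⟩
    apply inj_outside D.hs₁ D.hp₁ (h1.trans h1'.symm)
    rintro ⟨𝔟, h𝔟⟩
    obtain ⟨ζ, -, hζ⟩ := exists_of_eq D.hs₁ D.hp₁ h𝔟
    exact h2 ⟨ζ, hζ⟩
  have hsub : comap θ ⁻¹' {𝔯} ⊆
      comap φB₂ '' (comap gB ⁻¹' EB) ∪ comap φA₂ '' (comap fA ⁻¹' EA) := by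
    intro 𝔯₂ h𝔯₂
    have h𝔯₂' : comap θ 𝔯₂ = 𝔯 := h𝔯₂
    have caseB : ∀ 𝔟₂ : PrimeSpectrum B₂, comap φB₂ 𝔟₂ = 𝔯₂ →
        𝔯₂ ∈ comap φB₂ '' (comap gB ⁻¹' EB) := by
      rintro 𝔟₂ rfl
      refine ⟨𝔟₂, ?_, rfl⟩
      show comap φB₁ (comap gB 𝔟₂) = 𝔯
      rw [← h𝔯₂', ← comap_comp_apply, ← comap_comp_apply, D.hθB]
    by_cases hB : 𝔯₂ ∈ Set.range (comap φB₂)
    · obtain ⟨𝔟₂, h𝔟₂⟩ := hB
      exact Or.inl (caseB 𝔟₂ h𝔟₂)
    · rcases joint_surj_top D.hs₂ D.hp₂ 𝔯₂ with h | ⟨𝔞₂, rfl⟩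
      · exact absurd h hB
      · right
        refine ⟨𝔞₂, ⟨?_, ?_⟩, rfl⟩
        · show comap φA₁ (comap fA 𝔞₂) = 𝔯
          rw [← h𝔯₂', ← comap_comp_apply, ← comap_comp_apply, D.hθA]
        · rintro ⟨𝔠, h𝔠⟩
          apply hB
          have hle : RingHom.ker p₂ ≤ 𝔞₂.asIdeal := by
            refine D.ker_le.trans ?_
            rw [Ideal.map_le_iff_le_comap]
            intro a ha
            have : a ∈ (comap p₁ 𝔠).asIdeal := by
              show p₁ a ∈ 𝔠.asIdeal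
              rw [RingHom.mem_ker.mp ha]; exact Ideal.zero_mem _
            rw [h𝔠] at this
            exact this
          have hmem : 𝔞₂ ∈ Set.range (comap p₂) := by
            rw [range_comap_of_surjective _ p₂ D.hp₂]
            exact hle
          obtain ⟨𝔠₂, rfl⟩ := hmem
          exact ⟨comap q₂ 𝔠₂, comap_comm D.hs₂ 𝔠₂⟩
  refine Set.Finite.subset ?_ hsub
  exact ((hEB.preimage' fun b _ => hgB b).image _).union ((hEA.preimage' fun a _ => hfA a).image _)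

/-- finite type and quasi-finiteness descend along a cartesian map of Milnor squares. -/
theorem Data.core3 (D : Data p₁ q₁ φB₁ φA₁ p₂ q₂ φB₂ φA₂ fA gB fC θ) :
    (fA.FiniteType → gB.FiniteType → θ.FiniteType) ∧
      (fA.FiniteType → gB.FiniteType → fA.QuasiFinite → gB.QuasiFinite → θ.QuasiFinite) := by
  letI : Algebra R₁ B₁ := φB₁.toAlgebra
  letI : Algebra R₁ A₁ := φA₁.toAlgebra
  letI : Algebra B₁ C₁ := q₁.toAlgebra
  letI : Algebra A₁ C₁ := p₁.toAlgebra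
  letI : Algebra R₁ C₁ := (p₁.comp φA₁).toAlgebra
  haveI : IsScalarTower R₁ B₁ C₁ := IsScalarTower.of_algebraMap_eq fun r => (D.hs₁.comm r).symm
  haveI : IsScalarTower R₁ A₁ C₁ := IsScalarTower.of_algebraMap_eq fun r => rfl
  letI : Algebra R₂ B₂ := φB₂.toAlgebra
  letI : Algebra R₂ A₂ := φA₂.toAlgebra
  letI : Algebra B₂ C₂ := q₂.toAlgebra
  letI : Algebra A₂ C₂ := p₂.toAlgebra
  letI : Algebra R₂ C₂ := (p₂.comp φA₂).toAlgebra
  haveI : IsScalarTower R₂ B₂ C₂ := IsScalarTower.of_algebraMap_eq fun r => (D.hs₂.comm r).symm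
  haveI : IsScalarTower R₂ A₂ C₂ := IsScalarTower.of_algebraMap_eq fun r => rfl
  letI : Algebra R₁ R₂ := θ.toAlgebra
  letI : Algebra B₁ B₂ := gB.toAlgebra
  letI : Algebra A₁ A₂ := fA.toAlgebra
  letI : Algebra C₁ C₂ := fC.toAlgebra
  letI : Algebra R₁ B₂ := (φB₂.comp θ).toAlgebra
  letI : Algebra R₁ A₂ := (φA₂.comp θ).toAlgebra
  letI : Algebra B₁ C₂ := (q₂.comp gB).toAlgebra
  letI : Algebra A₁ C₂ := (p₂.comp fA).toAlgebra
  haveI : IsScalarTower R₁ R₂ B₂ := IsScalarTower.of_algebraMap_eq fun r => rfl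
  haveI : IsScalarTower R₁ B₁ B₂ :=
    IsScalarTower.of_algebraMap_eq fun r => congr($(D.hθB) r)
  haveI : IsScalarTower R₁ R₂ A₂ := IsScalarTower.of_algebraMap_eq fun r => rfl
  haveI : IsScalarTower R₁ A₁ A₂ :=
    IsScalarTower.of_algebraMap_eq fun r => congr($(D.hθA) r)
  haveI : IsScalarTower B₁ B₂ C₂ := IsScalarTower.of_algebraMap_eq fun r => rfl
  haveI : IsScalarTower B₁ C₁ C₂ :=
    IsScalarTower.of_algebraMap_eq fun r => congr($(D.hqC) r)
  haveI : IsScalarTower A₁ A₂ C₂ := IsScalarTower.of_algebraMap_eq fun r => rfl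
  haveI : IsScalarTower A₁ C₁ C₂ :=
    IsScalarTower.of_algebraMap_eq fun r => congr($(D.hpC) r)
  have hsq₁ : EtMil.IsFibreSquare R₁ B₁ A₁ C₁ := isFibreSquare_of_FS D.hs₁ D.hp₁
  have hsq₂ : EtMil.IsFibreSquare R₂ B₂ A₂ C₂ := isFibreSquare_of_FS D.hs₂ D.hp₂
  haveI : Algebra.IsPushout A₁ C₁ A₂ C₂ := CommRingCat.isPushout_iff_isPushout.mp D.HA
  haveI : Algebra.IsPushout B₁ C₁ B₂ C₂ := CommRingCat.isPushout_iff_isPushout.mp D.HB
  have ft : Algebra.FiniteType A₁ A₂ → Algebra.FiniteType B₁ B₂ → Algebra.FiniteType R₁ R₂ := by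
    intro h1 h2
    exact finiteType_of_finiteType hsq₁ hsq₂
  refine ⟨ft, ?_⟩
  intro h1 h2 h3 h4
  haveI : Algebra.FiniteType R₁ R₂ := ft h1 h2
  haveI : Algebra.QuasiFinite A₁ A₂ := h3
  haveI : Algebra.QuasiFinite B₁ B₂ := h4
  show Algebra.QuasiFinite R₁ R₂
  rw [Algebra.QuasiFinite.iff_finite_comap_preimage_singleton]
  exact D.finite_fibre (fun 𝔞 => Algebra.QuasiFinite.finite_comap_preimage_singleton 𝔞)
    (fun 𝔟 => Algebra.QuasiFinite.finite_comap_preimage_singleton 𝔟)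

end Hom

end Groth.Agent.Lib.Helper22.PoMap
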