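import Mathlib

/-!
# Sections of a pushout of sheafed spaces form a fibre product of rings

`PSp.sections_ext` / `PSp.sections_exists`: for a colimit cocone of presheafed spaces, sections over an open of the
colimit are determined by / glued from compatible families of sections on the pieces.
`PSp.pushout_sections_ext` / `PSp.pushout_sections_exists`: the special case of a pushout square of sheafed spaces of
commutative rings.
-/
universe u
open AlgebraicGeometry CategoryTheory CategoryTheory.Limits TopologicalSpace Opposite
open AlgebraicGeometry.PresheafedSpace (colimitPresheafObjIsoComponentwiseLimit componentwiseDiagram colimitPresheafObjIsoComponentwiseLimit_hom_π colimitPresheafObjIsoComponentwiseLimit_inv_ι_app)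

namespace Groth.Agent.Lib.Helper22.PSp

variable {J : Type} [SmallCategory J]

theorem colimit_sections_ext (F : J ⥤ PresheafedSpace.{u, u+1, u} CommRingCat.{u})
    (U : Opens (colimit F).carrier) (s t : (colimit F).presheaf.obj (op U))
    (h : ∀ j, (colimit.ι F j).c.app (op U) s = (colimit.ι F j).c.app (op U) t) : s = t := by
  have hinj : Function.Injective (colimitPresheafObjIsoComponentwiseLimit F U).hom :=
    (ConcreteCategory.bijective_of_isIso _).injective
  apply hinj
  apply Concrete.limit_ext
  intro j
  rw [← ConcreteCategory.comp_apply, ← ConcreteCategory.comp_apply,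
    colimitPresheafObjIsoComponentwiseLimit_hom_π]
  exact h j.unop

theorem colimit_sections_exists (F : J ⥤ PresheafedSpace.{u, u+1, u} CommRingCat.{u})
    (U : Opens (colimit F).carrier)
    (x : ∀ j : J, (F.obj j).presheaf.obj (op ((Opens.map (colimit.ι F j).base).obj U)))
    (hx : ∀ {j j' : J} (f : j ⟶ j'), (componentwiseDiagram F U).map f.op (x j') = x j) :
    ∃ s : (colimit F).presheaf.obj (op U), ∀ j, (colimit.ι F j).c.app (op U) s = x j := by
  let K := componentwiseDiagram F U
  let sect : (K ⋙ forget CommRingCat).sections := ⟨fun j => x j.unop, fun f => hx f.unop⟩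
  let hl := isLimitOfPreserves (forget CommRingCat) (limit.isLimit K)
  let y : (forget CommRingCat).obj (limit K) := (Types.isLimitEquivSections hl).symm sect
  refine ⟨(colimitPresheafObjIsoComponentwiseLimit F U).inv y, fun j => ?_⟩
  rw [← ConcreteCategory.comp_apply, colimitPresheafObjIsoComponentwiseLimit_inv_ι_app]
  exact Types.isLimitEquivSections_symm_apply hl sect (op j)

/-- the component of a colimit cocone, evaluated on sections, in terms of the universal colimit. -/
theorem c_app_eq {F : J ⥤ PresheafedSpace.{u, u+1, u} CommRingCat.{u}} (c : Cocone F) (hc : IsColimit c)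
    (U : Opens c.pt.carrier) (j : J) :
    let e := (colimit.isColimit F).coconePointUniqueUpToIso hc
    ∃ h : op ((Opens.map (c.ι.app j).base).obj U) =
        op ((Opens.map (colimit.ι F j).base).obj ((Opens.map e.hom.base).obj U)),
      e.hom.c.app (op U) ≫ (colimit.ι F j).c.app (op ((Opens.map e.hom.base).obj U)) =
        (c.ι.app j).c.app (op U) ≫ (F.obj j).presheaf.map (eqToHom h) := by
  intro e
  have he : colimit.ι F j ≫ e.hom = c.ι.app j :=
    IsColimit.comp_coconePointUniqueUpToIso_hom (colimit.isColimit F) hc j
  have h1 := PresheafedSpace.congr_app he (op U)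
  rw [PresheafedSpace.comp_c_app] at h1
  exact ⟨_, h1⟩

theorem sections_ext {F : J ⥤ PresheafedSpace.{u, u+1, u} CommRingCat.{u}} (c : Cocone F) (hc : IsColimit c)
    (U : Opens c.pt.carrier) (s t : c.pt.presheaf.obj (op U))
    (h : ∀ j, (c.ι.app j).c.app (op U) s = (c.ι.app j).c.app (op U) t) : s = t := by
  let e := (colimit.isColimit F).coconePointUniqueUpToIso hc
  haveI : IsIso e.hom.c := PresheafedSpace.c_isIso_of_iso e.hom
  have hinj : Function.Injective (e.hom.c.app (op U)) :=
    (ConcreteCategory.bijective_of_isIso _).injective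
  apply hinj
  apply colimit_sections_ext F ((Opens.map e.hom.base).obj U)
  intro j
  obtain ⟨h0, h1⟩ := c_app_eq c hc U j
  have h2 := fun z => congrArg (fun f => f.hom z) h1
  simp only [CommRingCat.hom_comp, RingHom.coe_comp, Function.comp_apply] at h2
  erw [h2 s, h2 t, h j]

theorem sections_exists {F : J ⥤ PresheafedSpace.{u, u+1, u} CommRingCat.{u}} (c : Cocone F)
    (hc : IsColimit c) (U : Opens c.pt.carrier)
    (x : ∀ j : J, (F.obj j).presheaf.obj (op ((Opens.map (c.ι.app j).base).obj U)))
    (hx : ∀ {j j' : J} (f : j ⟶ j')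
      (h : op ((Opens.map (F.map f).base).obj ((Opens.map (c.ι.app j').base).obj U)) =
        op ((Opens.map (c.ι.app j).base).obj U)),
      (F.obj j).presheaf.map (eqToHom h) ((F.map f).c.app _ (x j')) = x j) :
    ∃ s : c.pt.presheaf.obj (op U), ∀ j, (c.ι.app j).c.app (op U) s = x j := by
  let e := (colimit.isColimit F).coconePointUniqueUpToIso hc
  have : IsIso e.hom.c := PresheafedSpace.c_isIso_of_iso e.hom
  have hbij : Function.Bijective (e.hom.c.app (op U)) := ConcreteCategory.bijective_of_isIso _
  let U₀ : Opens (colimit F).carrier := (Opens.map e.hom.base).obj U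
  choose h0 h1 using fun j => c_app_eq c hc U j
  let x' : ∀ j : J, (F.obj j).presheaf.obj (op ((Opens.map (colimit.ι F j).base).obj U₀)) :=
    fun j => (F.obj j).presheaf.map (eqToHom (h0 j)) (x j)
  have hx' : ∀ {j j' : J} (f : j ⟶ j'), (componentwiseDiagram F U₀).map f.op (x' j') = x' j := by
    intro j j' f
    have hV : op ((Opens.map (F.map f).base).obj ((Opens.map (c.ι.app j').base).obj U)) =
        op ((Opens.map (c.ι.app j).base).obj U) := by
      rw [← c.w f]; rfl
    have hmor : (F.obj j').presheaf.map (eqToHom (h0 j')) ≫ (componentwiseDiagram F U₀).map f.op =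
        ((F.map f).c.app (op ((Opens.map (c.ι.app j').base).obj U)) ≫
          (F.obj j).presheaf.map (eqToHom hV)) ≫ (F.obj j).presheaf.map (eqToHom (h0 j)) := by
      rw [PresheafedSpace.componentwiseDiagram_map]
      erw [(F.map f).c.naturality_assoc (eqToHom (h0 j'))]
      simp only [Category.assoc, TopCat.Presheaf.pushforward_obj_map, ← Functor.map_comp]
      congr 1
      erw [← Functor.map_comp]
      congr 1
    have h5 := ConcreteCategory.congr_hom hmor (x j')
    have h6 : (F.obj j).presheaf.map (eqToHom (h0 j)) ((F.obj j).presheaf.map (eqToHom hV)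
        ((F.map f).c.app _ (x j'))) = x' j := by
      show _ = (F.obj j).presheaf.map (eqToHom (h0 j)) (x j)
      rw [hx f hV]
    exact h5.trans h6
  obtain ⟨s₀, hs₀⟩ := colimit_sections_exists F U₀ x' hx'
  obtain ⟨s, rfl⟩ := hbij.surjective s₀
  refine ⟨s, fun j => ?_⟩
  have h2 := congrArg (fun g => g.hom s) (h1 j)
  simp only [CommRingCat.hom_comp, RingHom.coe_comp, Function.comp_apply] at h2
  have h3 : (F.obj j).presheaf.map (eqToHom (h0 j)) ((c.ι.app j).c.app (op U) s) =
      (F.obj j).presheaf.map (eqToHom (h0 j)) (x j) := by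
    erw [← h2]
    exact hs₀ j
  have hinj : Function.Injective ((F.obj j).presheaf.map (eqToHom (h0 j))) :=
    (ConcreteCategory.bijective_of_isIso _).injective
  exact hinj h3

set_option backward.isDefEq.respectTransparency false in
theorem hx_id {F : J ⥤ PresheafedSpace.{u, u+1, u} CommRingCat.{u}} (j : J)
    (V : Opens (F.obj j).carrier)
    (h : op ((Opens.map (F.map (𝟙 j)).base).obj V) = op V)
    (z : (F.obj j).presheaf.obj (op V)) :
    (F.obj j).presheaf.map (eqToHom h) ((F.map (𝟙 j)).c.app _ z) = z := by
  have hmor : (F.map (𝟙 j)).c.app (op V) ≫ (F.obj j).presheaf.map (eqToHom h) = 𝟙 _ := by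
    rw [PresheafedSpace.congr_app (F.map_id j) (op V), PresheafedSpace.id_c_app]
    simp only [Category.assoc]
    erw [← Functor.map_comp, ← Functor.map_comp]
    have : ∀ (m : op V ⟶ op V), (F.obj j).presheaf.map m = 𝟙 _ := by
      intro m
      have : m = 𝟙 _ := Subsingleton.elim _ _
      rw [this, CategoryTheory.Functor.map_id]
    exact this _
  have h2 := ConcreteCategory.congr_hom hmor z
  exact h2

section pushout

variable {Z X Z' X' : SheafedSpace.{u+1, u, u} CommRingCat.{u}}
  {ι : Z ⟶ X} {q : Z ⟶ Z'} {π : X ⟶ X'} {ι' : Z' ⟶ X'}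

set_option backward.isDefEq.respectTransparency false in
theorem pushout_sections_ext (hpo : IsPushout ι q π ι') (U : Opens X'.carrier)
    (s t : X'.presheaf.obj (op U))
    (h1 : π.hom.c.app (op U) s = π.hom.c.app (op U) t) (h2 : ι'.hom.c.app (op U) s = ι'.hom.c.app (op U) t) :
    s = t := by
  let G := SheafedSpace.forgetToPresheafedSpace (C := CommRingCat.{u})
  have hc := isColimitOfPreserves G hpo.isColimit
  refine sections_ext _ hc U s t ?_
  rintro (_ | _ | _)
  · show (ι.hom ≫ π.hom).c.app (op U) s = (ι.hom ≫ π.hom).c.app (op U) t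
    rw [PresheafedSpace.comp_c_app, ConcreteCategory.comp_apply, ConcreteCategory.comp_apply, h1]
  · exact h1
  · exact h2

set_option backward.isDefEq.respectTransparency false in
theorem pushout_sections_exists (hpo : IsPushout ι q π ι') (U : Opens X'.carrier)
    (b : X.presheaf.obj (op ((Opens.map π.hom.base).obj U)))
    (a' : Z'.presheaf.obj (op ((Opens.map ι'.hom.base).obj U)))
    (hcompat : ∀ (h : op ((Opens.map q.hom.base).obj ((Opens.map ι'.hom.base).obj U)) =
        op ((Opens.map ι.hom.base).obj ((Opens.map π.hom.base).obj U))),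
      Z.presheaf.map (eqToHom h) (q.hom.c.app _ a') = ι.hom.c.app _ b) :
    ∃ s : X'.presheaf.obj (op U), π.hom.c.app (op U) s = b ∧ ι'.hom.c.app (op U) s = a' := by
  let G := SheafedSpace.forgetToPresheafedSpace (C := CommRingCat.{u})
  have hc := isColimitOfPreserves G hpo.isColimit
  let x : ∀ j : WalkingSpan, ((span ι q ⋙ G).obj j).presheaf.obj
      (op ((Opens.map ((G.mapCocone hpo.cocone).ι.app j).base).obj U)) :=
    fun j => match j with
      | none => ι.hom.c.app _ b
      | some WalkingPair.left => b
      | some WalkingPair.right => a'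
  have hxc : ∀ {j j' : WalkingSpan} (f : j ⟶ j')
      (h : op ((Opens.map ((span ι q ⋙ G).map f).base).obj
        ((Opens.map ((G.mapCocone hpo.cocone).ι.app j').base).obj U)) =
        op ((Opens.map ((G.mapCocone hpo.cocone).ι.app j).base).obj U)),
      ((span ι q ⋙ G).obj j).presheaf.map (eqToHom h) (((span ι q ⋙ G).map f).c.app _ (x j')) =
        x j := by
    intro j j' f h
    rcases f with _ | i
    · exact hx_id _ _ h _
    · rcases i with _ | _
      · show Z.presheaf.map (eqToHom h) (ι.hom.c.app _ b) = ι.hom.c.app _ b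
        have : ∀ (m : op ((Opens.map ι.hom.base).obj ((Opens.map π.hom.base).obj U)) ⟶
            op ((Opens.map ι.hom.base).obj ((Opens.map π.hom.base).obj U))) z,
            Z.presheaf.map m z = z := by
          intro m z
          have : m = 𝟙 _ := Subsingleton.elim _ _
          rw [this, CategoryTheory.Functor.map_id]; rfl
        exact this _ _
      · exact hcompat h
  obtain ⟨s, hs⟩ := sections_exists _ hc U x hxc
  exact ⟨s, hs (some .left), hs (some .right)⟩

end pushout

end Groth.Agent.Lib.Helper22.PSp
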