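import Mathlib
import Groth.Agent.Lib.Helper22PushoutSections

set_option autoImplicit false
set_option linter.style.haveILetI false
set_option linter.unusedSectionVars false
set_option linter.unusedVariables false

universe u
open AlgebraicGeometry CategoryTheory CategoryTheory.Limits TopologicalSpace Opposite

namespace Groth.Agent.Lib.Helper22.PoSh

open TopCat TopCat.Presheaf

/-- a morphism of sheaves of commutative rings which is bijective on a basis of opens is
bijective on every open. -/
theorem bijective_app_of_basis {X : TopCat.{u}} {F G : TopCat.Sheaf CommRingCat.{u} X} (f : F ⟶ G)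
    (𝓑 : Set (Opens X))
    (hB : ∀ (x : X) (U : Opens X), x ∈ U → ∃ V ∈ 𝓑, x ∈ V ∧ V ≤ U)
    (hbij : ∀ V ∈ 𝓑, Function.Bijective (f.1.app (op V))) (U : Opens X) :
    Function.Bijective (f.1.app (op U)) := by
  have hinj : ∀ U : Opens X, Function.Injective (f.1.app (op U)) := by
    intro U s t hst
    apply TopCat.Sheaf.eq_of_locally_eq' F (fun x : U => (hB x.1 U x.2).choose) U
      (fun x => homOfLE (hB x.1 U x.2).choose_spec.2.2)
    · intro x hx
      simp only [Opens.mem_iSup]
      exact ⟨⟨x, hx⟩, (hB x U hx).choose_spec.2.1⟩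
    · intro x
      apply (hbij _ (hB x.1 U x.2).choose_spec.1).1
      rw [← ConcreteCategory.comp_apply, ← ConcreteCategory.comp_apply, f.1.naturality,
        ConcreteCategory.comp_apply, ConcreteCategory.comp_apply, hst]
  refine ⟨hinj U, ?_⟩
  apply app_surjective_of_injective_of_locally_surjective f U
  · intro x _
    exact stalkFunctor_map_injective_of_app_injective hinj x
  · intro t x hx
    obtain ⟨V, hV, hxV, hVU⟩ := hB x U hx
    obtain ⟨s, hs⟩ := (hbij V hV).2 (G.1.map (homOfLE hVU).op t)
    exact ⟨V, hxV, homOfLE hVU, s, hs⟩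

section Top

variable {Z X Y P : TopCat.{u}} (i : Z ⟶ X) (j : Z ⟶ Y) (g : X ⟶ P) (h : Y ⟶ P)

open Classical in
/-- the glued map on `P`. -/
noncomputable def descFun (hsurj : ∀ z : P, z ∈ Set.range h ∨ z ∈ Set.range g) {T : Type u}
    (α : X → T) (β : Y → T) (z : P) : T :=
  if hz : z ∈ Set.range h then β hz.choose
  else α ((hsurj z).resolve_left hz).choose

variable {i j g h}

theorem descFun_h (hsurj : ∀ z : P, z ∈ Set.range h ∨ z ∈ Set.range g)
    (hinj : Function.Injective h) {T : Type u} (α : X → T) (β : Y → T) (y : Y) :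
    descFun g h hsurj α β (h y) = β y := by
  unfold descFun
  have hz : h y ∈ Set.range h := ⟨y, rfl⟩
  rw [dif_pos hz]
  congr 1
  exact hinj hz.choose_spec

theorem descFun_g (hsurj : ∀ z : P, z ∈ Set.range h ∨ z ∈ Set.range g)
    (hinj : Function.Injective h)
    (hex : ∀ (y : Y) (x : X), h y = g x → ∃ ζ : Z, j ζ = y ∧ i ζ = x)
    (hout : ∀ x x' : X, g x = g x' → g x ∉ Set.range h → x = x')
    {T : Type u} (α : X → T) (β : Y → T) (hαβ : ∀ ζ : Z, α (i ζ) = β (j ζ)) (x : X) :
    descFun g h hsurj α β (g x) = α x := by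
  unfold descFun
  by_cases hz : g x ∈ Set.range h
  · rw [dif_pos hz]
    obtain ⟨ζ, h1, h2⟩ := hex _ _ hz.choose_spec
    rw [← h1, ← hαβ, h2]
  · rw [dif_neg hz]
    congr 1
    have hc := ((hsurj (g x)).resolve_left hz).choose_spec
    exact hout _ _ hc (by rw [hc]; exact hz)

/-- **Criterion for a topological pushout** along an injective map. -/
theorem isPushout_top_of (w : i ≫ g = j ≫ h)
    (hsurj : ∀ z : P, z ∈ Set.range h ∨ z ∈ Set.range g)
    (hinj : Function.Injective h)
    (hex : ∀ (y : Y) (x : X), h y = g x → ∃ ζ : Z, j ζ = y ∧ i ζ = x)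
    (hout : ∀ x x' : X, g x = g x' → g x ∉ Set.range h → x = x')
    (hcl : ∀ S : Set P, IsClosed (h ⁻¹' S) → IsClosed (g ⁻¹' S) → IsClosed S) :
    IsPushout i j g h := by
  have hcond : ∀ (s : PushoutCocone i j) (ζ : Z), s.inl (i ζ) = s.inr (j ζ) := by
    intro s ζ
    exact congr($(s.condition) ζ)
  have hcont : ∀ (s : PushoutCocone i j), Continuous (descFun g h hsurj s.inl s.inr) := by
    intro s
    rw [continuous_iff_isClosed]
    intro C hC
    apply hcl
    · have : h ⁻¹' (descFun g h hsurj s.inl s.inr ⁻¹' C) = s.inr ⁻¹' C := by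
        ext y; simp only [Set.mem_preimage, descFun_h hsurj hinj]
      rw [this]; exact hC.preimage s.inr.hom.continuous
    · have : g ⁻¹' (descFun g h hsurj s.inl s.inr ⁻¹' C) = s.inl ⁻¹' C := by
        ext x; simp only [Set.mem_preimage, descFun_g hsurj hinj hex hout _ _ (hcond s)]
      rw [this]; exact hC.preimage s.inl.hom.continuous
  refine ⟨⟨w⟩, ⟨PushoutCocone.IsColimit.mk _
    (fun s => TopCat.ofHom ⟨descFun g h hsurj s.inl s.inr, hcont s⟩)
    (fun s => ?_) (fun s => ?_) (fun s m h1 h2 => ?_)⟩⟩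
  · ext x
    exact descFun_g hsurj hinj hex hout _ _ (hcond s) x
  · ext y
    exact descFun_h hsurj hinj _ _ y
  · ext z
    rcases hsurj z with ⟨y, rfl⟩ | ⟨x, rfl⟩
    · have := congr($(h2) y)
      exact this.trans (descFun_h hsurj hinj _ _ y).symm
    · have := congr($(h1) x)
      exact this.trans (descFun_g hsurj hinj hex hout _ _ (hcond s) x).symm

end Top

section Sh

variable {Z X Y P : SheafedSpace.{u+1, u, u} CommRingCat.{u}}

/-- component of a composite, elementwise and up to an arbitrary parallel morphism of opens. -/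
theorem comp_c_app_apply {A B C : SheafedSpace.{u+1, u, u} CommRingCat.{u}} (α : A ⟶ B) (β : B ⟶ C)
    (γ : A ⟶ C) (hγ : α ≫ β = γ) (U : Opens C.carrier) (s : C.presheaf.obj (op U))
    (m : op ((Opens.map α.hom.base).obj ((Opens.map β.hom.base).obj U)) ⟶
      op ((Opens.map γ.hom.base).obj U)) :
    γ.hom.c.app (op U) s = A.presheaf.map m (α.hom.c.app _ (β.hom.c.app (op U) s)) := by
  subst hγ
  let m' : op ((Opens.map α.hom.base).obj ((Opens.map β.hom.base).obj U)) ⟶
      op ((Opens.map α.hom.base).obj ((Opens.map β.hom.base).obj U)) := m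
  have hm : m' = 𝟙 _ := Subsingleton.elim _ _
  show _ = A.presheaf.map m' _
  rw [hm, A.presheaf.map_id]
  rfl

/-- naturality of the sheaf component, elementwise and up to an arbitrary parallel morphism. -/
theorem c_app_map_apply {A B : SheafedSpace.{u+1, u, u} CommRingCat.{u}} (α : A ⟶ B)
    {W W' : Opens B.carrier} (m : op W ⟶ op W') (ξ : B.presheaf.obj (op W))
    (m' : op ((Opens.map α.hom.base).obj W) ⟶ op ((Opens.map α.hom.base).obj W')) :
    α.hom.c.app (op W') (B.presheaf.map m ξ) = A.presheaf.map m' (α.hom.c.app (op W) ξ) := by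
  have h := ConcreteCategory.congr_hom (α.hom.c.naturality m) ξ
  have hm : m' = (Opens.map α.hom.base).op.map m := Subsingleton.elim _ _
  rw [hm]
  exact h

theorem map_eqToHom_injective {A : SheafedSpace.{u+1, u, u} CommRingCat.{u}}
    {W W' : (Opens A.carrier)ᵒᵖ} (e : W = W') :
    Function.Injective (A.presheaf.map (eqToHom e)) := by
  subst e
  intro x y hxy
  simpa using hxy

theorem map_map_eq {A : SheafedSpace.{u+1, u, u} CommRingCat.{u}}
    {W1 W2 W2' W3 : (Opens A.carrier)ᵒᵖ} (m1 : W1 ⟶ W2) (m2 : W2 ⟶ W3) (m3 : W1 ⟶ W2')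
    (m4 : W2' ⟶ W3) (ξ : A.presheaf.obj W1) :
    A.presheaf.map m2 (A.presheaf.map m1 ξ) = A.presheaf.map m4 (A.presheaf.map m3 ξ) := by
  rw [← ConcreteCategory.comp_apply, ← Functor.map_comp, ← ConcreteCategory.comp_apply,
    ← Functor.map_comp]
  have : m1 ≫ m2 = m3 ≫ m4 := Subsingleton.elim _ _
  rw [this]

/-- **Criterion for a pushout of ringed spaces**: the underlying square of spaces is a pushout,
and on a basis of opens of the corner the sections form a fibre product. -/
theorem isPushout_sheafedSpace_of_basis (i : Z ⟶ X) (j : Z ⟶ Y) (g : X ⟶ P) (h : Y ⟶ P)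
    (w : i ≫ g = j ≫ h)
    (htop : IsPushout i.hom.base j.hom.base g.hom.base h.hom.base)
    (𝓑 : Set (Opens P.carrier))
    (hB : ∀ (x : P.carrier) (U : Opens P.carrier), x ∈ U → ∃ V ∈ 𝓑, x ∈ V ∧ V ≤ U)
    (hinj : ∀ U ∈ 𝓑, ∀ s t : P.presheaf.obj (op U),
      g.hom.c.app (op U) s = g.hom.c.app (op U) t →
      h.hom.c.app (op U) s = h.hom.c.app (op U) t → s = t)
    (hsurj : ∀ U ∈ 𝓑, ∀ (b : X.presheaf.obj (op ((Opens.map g.hom.base).obj U)))
      (a' : Y.presheaf.obj (op ((Opens.map h.hom.base).obj U))),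
      (∀ (e : op ((Opens.map j.hom.base).obj ((Opens.map h.hom.base).obj U)) =
          op ((Opens.map i.hom.base).obj ((Opens.map g.hom.base).obj U))),
        Z.presheaf.map (eqToHom e) (j.hom.c.app _ a') = i.hom.c.app _ b) →
      ∃ s, g.hom.c.app (op U) s = b ∧ h.hom.c.app (op U) s = a') :
    IsPushout i j g h := by
  let P₀ := pushout i j
  let inl : X ⟶ P₀ := pushout.inl i j
  let inr : Y ⟶ P₀ := pushout.inr i j
  have hpo₀ : IsPushout i j inl inr := IsPushout.of_hasPushout i j
  let θ : P₀ ⟶ P := pushout.desc g h w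
  have h1 : inl ≫ θ = g := pushout.inl_desc _ _ _
  have h2 : inr ≫ θ = h := pushout.inr_desc _ _ _
  suffices IsIso θ by
    exact IsPushout.of_iso hpo₀ (Iso.refl _) (Iso.refl _) (Iso.refl _) (asIso θ) (by simp)
      (by simp) (by simpa using h1) (by simpa using h2)
  -- base
  have hbase : IsIso θ.hom.base := by
    have hpoT : IsPushout i.hom.base j.hom.base inl.hom.base inr.hom.base :=
      hpo₀.map (SheafedSpace.forget CommRingCat.{u})
    have e : θ.hom.base = (hpoT.isoIsPushout _ _ htop).hom := by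
      apply hpoT.hom_ext
      · rw [hpoT.inl_isoIsPushout_hom]
        exact congr_arg (fun f => f.hom.base) h1
      · rw [hpoT.inr_isoIsPushout_hom]
        exact congr_arg (fun f => f.hom.base) h2
    rw [e]
    infer_instance
  -- sheaf
  have hbij : ∀ V ∈ 𝓑, Function.Bijective (θ.hom.c.app (op V)) := by
    intro V hV
    constructor
    · intro s t hst
      apply hinj V hV s t
      · have e1 := comp_c_app_apply inl θ g h1 V s (eqToHom (by rw [← h1]; rfl))
        have e2 := comp_c_app_apply inl θ g h1 V t (eqToHom (by rw [← h1]; rfl))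
        rw [e1, e2]
        exact congrArg _ (congrArg _ hst)
      · have e1 := comp_c_app_apply inr θ h h2 V s (eqToHom (by rw [← h2]; rfl))
        have e2 := comp_c_app_apply inr θ h h2 V t (eqToHom (by rw [← h2]; rfl))
        rw [e1, e2]
        exact congrArg _ (congrArg _ hst)
    · intro σ
      have hX : op ((Opens.map inl.hom.base).obj ((Opens.map θ.hom.base).obj V)) =
          op ((Opens.map g.hom.base).obj V) := by rw [← h1]; rfl
      have hY : op ((Opens.map inr.hom.base).obj ((Opens.map θ.hom.base).obj V)) =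
          op ((Opens.map h.hom.base).obj V) := by rw [← h2]; rfl
      let σ' : P₀.presheaf.obj (op ((Opens.map θ.hom.base).obj V)) := σ
      let b : X.presheaf.obj (op ((Opens.map g.hom.base).obj V)) :=
        X.presheaf.map (eqToHom hX) (inl.hom.c.app _ σ')
      let a' : Y.presheaf.obj (op ((Opens.map h.hom.base).obj V)) :=
        Y.presheaf.map (eqToHom hY) (inr.hom.c.app _ σ')
      obtain ⟨s, hs1, hs2⟩ := hsurj V hV b a' (by
        intro e
        have eA : i.hom.c.app _ b = Z.presheaf.map (eqToHom (by rw [← h1]; rfl))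
            ((i ≫ inl).hom.c.app (op ((Opens.map θ.hom.base).obj V)) σ') :=
          c_app_map_apply i (eqToHom hX) (inl.hom.c.app _ σ') _
        have eB : j.hom.c.app _ a' = Z.presheaf.map (eqToHom (by rw [← h2]; rfl))
            ((j ≫ inr).hom.c.app (op ((Opens.map θ.hom.base).obj V)) σ') :=
          c_app_map_apply j (eqToHom hY) (inr.hom.c.app _ σ') _
        have eC := comp_c_app_apply j inr (i ≫ inl) hpo₀.w.symm ((Opens.map θ.hom.base).obj V) σ'
          (eqToHom (by rw [hpo₀.w]; rfl))
        rw [eA, eB, eC]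
        exact map_map_eq _ _ _ _ _)
      refine ⟨s, ?_⟩
      apply Groth.Agent.Lib.Helper22.PSp.pushout_sections_ext hpo₀ ((Opens.map θ.hom.base).obj V)
      · apply map_eqToHom_injective hX
        have e1 := comp_c_app_apply inl θ g h1 V s (eqToHom hX)
        rw [← e1, hs1]
      · apply map_eqToHom_injective hY
        have e1 := comp_c_app_apply inr θ h h2 V s (eqToHom hY)
        rw [← e1, hs2]
  have hc : IsIso θ.hom.c := by
    let f : P.sheaf ⟶ (TopCat.Sheaf.pushforward CommRingCat.{u} θ.hom.base).obj P₀.sheaf :=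
      ⟨θ.hom.c⟩
    have : ∀ U : (Opens P.carrier)ᵒᵖ, IsIso (θ.hom.c.app U) := by
      intro U
      induction U with | _ U => ?_
      rw [ConcreteCategory.isIso_iff_bijective]
      exact bijective_app_of_basis f 𝓑 hB hbij U
    exact NatIso.isIso_of_isIso_app _
  have : IsIso (SheafedSpace.forgetToPresheafedSpace.map θ) :=
    PresheafedSpace.isIso_of_components θ.hom
  exact isIso_of_reflects_iso θ (SheafedSpace.forgetToPresheafedSpace (C := CommRingCat.{u}))

end Sh

end Groth.Agent.Lib.Helper22.PoSh
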