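import Mathlib
import Groth.Agent.Lib.Helper22PoShA
import Groth.Agent.Lib.Helper22SpecPushoutTop
import Groth.Agent.Lib.Helper22PinchSchA

set_option autoImplicit false
set_option linter.style.haveILetI false
set_option linter.unusedSectionVars false
set_option linter.unusedVariables false

universe u
open AlgebraicGeometry CategoryTheory CategoryTheory.Limits TopologicalSpace Opposite PrimeSpectrum

namespace Groth.Agent.Lib.Helper22.PoSh

open Groth.Agent.Lib.Helper22.SpPO Groth.Agent.Lib.Helper22.PinchSch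

section Chart

variable {A A' B R : Type u} [CommRing A] [CommRing A'] [CommRing B] [CommRing R]
  {p : A' →+* A} {q : B →+* A} {φB : R →+* B} {φA : R →+* A'}
  {Z X Y P : Scheme.{u}} {i : Z ⟶ X} {j : Z ⟶ Y} {g : X ⟶ P} {h : Y ⟶ P}
  {cP : Spec (CommRingCat.of R) ⟶ P}
  {cX : Spec (CommRingCat.of A') ⟶ X} {cY : Spec (CommRingCat.of B) ⟶ Y}
  {cZ : Spec (CommRingCat.of A) ⟶ Z}

theorem chart_surj (hs : FS p q φB φA) (hp : Function.Surjective p)
    (pbX : IsPullback cX (sp φA) g cP) (pbY : IsPullback cY (sp φB) h cP)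
    (z₀ : Spec (CommRingCat.of R)) :
    cP.base z₀ ∈ Set.range h.base ∨ cP.base z₀ ∈ Set.range g.base := by
  rcases joint_surj hs hp z₀ with ⟨y₀, rfl⟩ | ⟨x₀, rfl⟩
  · left
    exact ⟨cY.base y₀, congr($(pbY.w).base y₀)⟩
  · right
    exact ⟨cX.base x₀, congr($(pbX.w).base x₀)⟩

theorem chart_inj (hs : FS p q φB φA) (hp : Function.Surjective p)
    (pbY : IsPullback cY (sp φB) h cP) {y y' : Y} (z₀ : Spec (CommRingCat.of R))
    (hy : h.base y = cP.base z₀) (hyy : h.base y = h.base y') : y = y' := by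
  obtain ⟨y₀, h1, h2⟩ := Scheme.exists_preimage_of_isPullback pbY y z₀ hy
  obtain ⟨y₀', h1', h2'⟩ := Scheme.exists_preimage_of_isPullback pbY y' z₀ (hyy ▸ hy)
  have e : comap φB y₀ = comap φB y₀' := h2.trans h2'.symm
  have : y₀ = y₀' := comap_injective_of_surjective φB (hs.surjective_fst hp) e
  rw [← h1, ← h1', this]

theorem chart_ex (hs : FS p q φB φA) (hp : Function.Surjective p)
    (hZX : cZ ≫ i = sp p ≫ cX) (hZY : cZ ≫ j = sp q ≫ cY)
    (pbX : IsPullback cX (sp φA) g cP) (pbY : IsPullback cY (sp φB) h cP) {y : Y} {x : X}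
    (z₀ : Spec (CommRingCat.of R))
    (hy : h.base y = cP.base z₀) (hx : g.base x = cP.base z₀) :
    ∃ ζ : Z, j.base ζ = y ∧ i.base ζ = x := by
  obtain ⟨y₀, h1, h2⟩ := Scheme.exists_preimage_of_isPullback pbY y z₀ hy
  obtain ⟨x₀, h1', h2'⟩ := Scheme.exists_preimage_of_isPullback pbX x z₀ hx
  have e : comap φB y₀ = comap φA x₀ := h2.trans h2'.symm
  obtain ⟨ζ₀, e1, e2⟩ := exists_of_eq hs hp e
  refine ⟨cZ.base ζ₀, ?_, ?_⟩
  · have := congr($(hZY).base ζ₀)
    refine this.trans ?_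
    rw [← h1]
    exact congrArg cY.base e1
  · have := congr($(hZX).base ζ₀)
    refine this.trans ?_
    rw [← h1']
    exact congrArg cX.base e2

theorem chart_out (hs : FS p q φB φA) (hp : Function.Surjective p)
    (pbX : IsPullback cX (sp φA) g cP) (pbY : IsPullback cY (sp φB) h cP) {x x' : X}
    (z₀ : Spec (CommRingCat.of R))
    (hx : g.base x = cP.base z₀) (hx' : g.base x' = cP.base z₀)
    (hout : cP.base z₀ ∉ Set.range h.base) : x = x' := by
  obtain ⟨x₀, h1, h2⟩ := Scheme.exists_preimage_of_isPullback pbX x z₀ hx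
  obtain ⟨x₀', h1', h2'⟩ := Scheme.exists_preimage_of_isPullback pbX x' z₀ hx'
  have e : comap φA x₀ = comap φA x₀' := h2.trans h2'.symm
  have hz : comap φA x₀ ∉ Set.range (comap φB) := by
    rintro ⟨y₀, hy₀⟩
    apply hout
    refine ⟨cY.base y₀, ?_⟩
    have := congr($(pbY.w).base y₀)
    exact this.trans (congrArg cP.base (show (sp φB).base y₀ = z₀ from hy₀.trans h2))
  have : x₀ = x₀' := inj_outside hs hp e hz
  rw [← h1, ← h1', this]

theorem chart_closed (hs : FS p q φB φA) (hp : Function.Surjective p)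
    (pbX : IsPullback cX (sp φA) g cP) (pbY : IsPullback cY (sp φB) h cP) (S : Set P)
    (h1 : IsClosed (h.base ⁻¹' S)) (h2 : IsClosed (g.base ⁻¹' S)) :
    IsClosed (cP.base ⁻¹' S) := by
  refine isClosed_of_preimages hs hp (cP.base ⁻¹' S : Set (PrimeSpectrum R)) ?_ ?_
  · have : (comap φB ⁻¹' (cP.base ⁻¹' S : Set (PrimeSpectrum R))) =
        cY.base ⁻¹' (h.base ⁻¹' S) := by
      ext y₀
      have e : h.base (cY.base y₀) = cP.base ((sp φB).base y₀) := congr($(pbY.w).base y₀)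
      show cP.base ((sp φB).base y₀) ∈ S ↔ h.base (cY.base y₀) ∈ S
      rw [e]
    exact (congrArg IsClosed this).mpr (h1.preimage cY.continuous)
  · have : (comap φA ⁻¹' (cP.base ⁻¹' S : Set (PrimeSpectrum R))) =
        cX.base ⁻¹' (g.base ⁻¹' S) := by
      ext x₀
      have e : g.base (cX.base x₀) = cP.base ((sp φA).base x₀) := congr($(pbX.w).base x₀)
      show cP.base ((sp φA).base x₀) ∈ S ↔ g.base (cX.base x₀) ∈ S
      rw [e]
    exact (congrArg IsClosed this).mpr (h2.preimage cX.continuous)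

end Chart

section Sections

/-- sections over `V`, restricted to a chart `c : Spec C ⟶ W` whose image lies in `V`. -/
noncomputable def ρ {W : Scheme.{u}} {C : Type u} [CommRing C] (c : Spec (CommRingCat.of C) ⟶ W)
    (V : W.Opens) (e : ⊤ ≤ c ⁻¹ᵁ V) : Γ(W, V) →+* C :=
  (Scheme.ΓSpecIso (CommRingCat.of C)).hom.hom.comp (c.appLE V ⊤ e).hom

theorem ρ_map {W : Scheme.{u}} {C : Type u} [CommRing C] (c : Spec (CommRingCat.of C) ⟶ W)
    {V V' : W.Opens} (e : ⊤ ≤ c ⁻¹ᵁ V) (e' : ⊤ ≤ c ⁻¹ᵁ V') (m : op V' ⟶ op V) (ξ : Γ(W, V')) :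
    ρ c V e (W.presheaf.map m ξ) = ρ c V' e' ξ := by
  unfold ρ
  have h1 := Scheme.Hom.map_appLE c e m
  have h2 := congr($(h1).hom ξ)
  simp only [RingHom.comp_apply]
  exact congrArg _ h2

theorem ρ_natural {W W' : Scheme.{u}} {C C' : Type u} [CommRing C] [CommRing C'] (f : W ⟶ W')
    (c : Spec (CommRingCat.of C) ⟶ W) (c' : Spec (CommRingCat.of C') ⟶ W') (φ : C' →+* C)
    (hc : c ≫ f = sp φ ≫ c') (V' : W'.Opens) (e' : ⊤ ≤ c' ⁻¹ᵁ V')
    (e : ⊤ ≤ c ⁻¹ᵁ (f ⁻¹ᵁ V')) (s : Γ(W', V')) :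
    ρ c (f ⁻¹ᵁ V') e (f.app V' s) = φ (ρ c' V' e' s) := by
  have key : ∀ (a b : Spec (CommRingCat.of C) ⟶ W') (hab : a = b) (ea : ⊤ ≤ a ⁻¹ᵁ V')
      (eb : ⊤ ≤ b ⁻¹ᵁ V'), a.appLE V' ⊤ ea = b.appLE V' ⊤ eb := by
    rintro a _ rfl _ _; rfl
  have e1 : f.app V' ≫ c.appLE (f ⁻¹ᵁ V') ⊤ e = (c ≫ f).appLE V' ⊤ e :=
    (Scheme.Hom.comp_appLE c f V' ⊤ e).symm
  have e2 : (c ≫ f).appLE V' ⊤ e = (sp φ ≫ c').appLE V' ⊤ (by rw [← hc]; exact e) :=
    key _ _ hc _ _
  have e3 : (sp φ ≫ c').appLE V' ⊤ (by rw [← hc]; exact e) =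
      c'.appLE V' ⊤ e' ≫ (sp φ).appTop := by
    have e4 : (sp φ).appLE ⊤ ⊤ le_top = (sp φ).appTop := by
      simp [Scheme.Hom.appLE]
    rw [← e4, Scheme.Hom.appLE_comp_appLE]
  have n := Scheme.ΓSpecIso_naturality (CommRingCat.ofHom φ)
  have t1 := congr($(e1).hom s)
  have t2 := congr($(e2).hom s)
  have t3 := congr($(e3).hom s)
  have t4 := congr($(n).hom ((c'.appLE V' ⊤ e').hom s))
  simp only [CommRingCat.hom_comp, RingHom.comp_apply] at t1 t3 t4
  unfold ρ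
  simp only [RingHom.comp_apply]
  rw [t1, t2, t3]
  exact t4

theorem bijective_ρ {W : Scheme.{u}} {C : Type u} [CommRing C] (c : Spec (CommRingCat.of C) ⟶ W)
    [IsOpenImmersion c] (V : W.Opens) (hV : V = c.opensRange) (e : ⊤ ≤ c ⁻¹ᵁ V) :
    Function.Bijective (ρ c V e) := by
  subst hV
  have h1 : IsIso (c.app c.opensRange) := c.isIso_app _ le_rfl
  have h2 : IsIso ((Spec (CommRingCat.of C)).presheaf.map (homOfLE e).op) := by
    have e0 : c ⁻¹ᵁ c.opensRange = ⊤ := c.preimage_opensRange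
    have : (homOfLE e).op = eqToHom (by rw [e0]) := Subsingleton.elim _ _
    rw [this, eqToHom_map]
    infer_instance
  have h3 : IsIso (c.appLE c.opensRange ⊤ e) := by
    unfold Scheme.Hom.appLE
    infer_instance
  have b1 : Function.Bijective (c.appLE c.opensRange ⊤ e).hom :=
    ConcreteCategory.bijective_of_isIso _
  have b2 : Function.Bijective (Scheme.ΓSpecIso (CommRingCat.of C)).hom.hom :=
    ConcreteCategory.bijective_of_isIso _
  exact b2.comp b1

end Sections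

section ChartSections

variable {A A' B R : Type u} [CommRing A] [CommRing A'] [CommRing B] [CommRing R]
  {p : A' →+* A} {q : B →+* A} {φB : R →+* B} {φA : R →+* A'}
  {Z X Y P : Scheme.{u}} {i : Z ⟶ X} {j : Z ⟶ Y} {g : X ⟶ P} {h : Y ⟶ P}
  {cP : Spec (CommRingCat.of R) ⟶ P} [IsOpenImmersion cP]
  {cX : Spec (CommRingCat.of A') ⟶ X} {cY : Spec (CommRingCat.of B) ⟶ Y}
  {cZ : Spec (CommRingCat.of A) ⟶ Z}

theorem top_le_of_isPullback {C : Type u} [CommRing C] {W : Scheme.{u}} {f : W ⟶ P}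
    {c : Spec (CommRingCat.of C) ⟶ W} {φ : R →+* C} (hc : c ≫ f = sp φ ≫ cP) :
    ⊤ ≤ c ⁻¹ᵁ (f ⁻¹ᵁ cP.opensRange) := by
  intro x _
  show f.base (c.base x) ∈ Set.range cP.base
  have e : f.base (c.base x) = cP.base ((sp φ).base x) := congr($(hc).base x)
  rw [e]
  exact ⟨_, rfl⟩

theorem opensRange_of_isPullback {C : Type u} [CommRing C] {W : Scheme.{u}} {f : W ⟶ P}
    {c : Spec (CommRingCat.of C) ⟶ W} [IsOpenImmersion c] {φ : R →+* C}
    (pb : IsPullback c (sp φ) f cP) :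
    f ⁻¹ᵁ cP.opensRange = c.opensRange := by
  apply le_antisymm
  · intro x hx
    obtain ⟨z₀, hz₀⟩ : f.base x ∈ Set.range cP.base := hx
    obtain ⟨x₀, h1, -⟩ := Scheme.exists_preimage_of_isPullback pb x z₀ hz₀.symm
    exact ⟨x₀, h1⟩
  · rintro _ ⟨x₀, rfl⟩
    exact top_le_of_isPullback pb.w (Set.mem_univ x₀)

theorem chart_sections_inj (hs : FS p q φB φA)
    (pbX : IsPullback cX (sp φA) g cP) (pbY : IsPullback cY (sp φB) h cP)
    (s t : Γ(P, cP.opensRange)) (h1 : g.app _ s = g.app _ t) (h2 : h.app _ s = h.app _ t) :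
    s = t := by
  have eP : ⊤ ≤ cP ⁻¹ᵁ cP.opensRange := by rw [Scheme.Hom.preimage_opensRange]
  have eX := top_le_of_isPullback pbX.w
  have eY := top_le_of_isPullback pbY.w
  apply (bijective_ρ cP _ rfl eP).1
  apply hs.ext
  · rw [← ρ_natural h cY cP φB pbY.w _ eP eY s, ← ρ_natural h cY cP φB pbY.w _ eP eY t, h2]
  · rw [← ρ_natural g cX cP φA pbX.w _ eP eX s, ← ρ_natural g cX cP φA pbX.w _ eP eX t, h1]

theorem chart_sections_surj (hs : FS p q φB φA)
    (hZX : cZ ≫ i = sp p ≫ cX) (hZY : cZ ≫ j = sp q ≫ cY)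
    (pbX : IsPullback cX (sp φA) g cP) (pbY : IsPullback cY (sp φB) h cP)
    (b : Γ(X, g ⁻¹ᵁ cP.opensRange)) (a' : Γ(Y, h ⁻¹ᵁ cP.opensRange))
    (m : op (j ⁻¹ᵁ h ⁻¹ᵁ cP.opensRange) ⟶ op (i ⁻¹ᵁ g ⁻¹ᵁ cP.opensRange))
    (hcompat : Z.presheaf.map m (j.app _ a') = i.app _ b) :
    ∃ s : Γ(P, cP.opensRange), g.app _ s = b ∧ h.app _ s = a' := by
  have eP : ⊤ ≤ cP ⁻¹ᵁ cP.opensRange := by rw [Scheme.Hom.preimage_opensRange]
  have eX := top_le_of_isPullback pbX.w
  have eY := top_le_of_isPullback pbY.w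
  haveI : IsOpenImmersion cX := MorphismProperty.of_isPullback pbX.flip inferInstance
  haveI : IsOpenImmersion cY := MorphismProperty.of_isPullback pbY.flip inferInstance
  have bX := bijective_ρ cX _ (opensRange_of_isPullback pbX) eX
  have bY := bijective_ρ cY _ (opensRange_of_isPullback pbY) eY
  have eZ : ⊤ ≤ cZ ⁻¹ᵁ (i ⁻¹ᵁ g ⁻¹ᵁ cP.opensRange) := by
    intro x _
    exact eX (Set.mem_univ ((sp p).base x)) |> fun hx => by
      have e : i.base (cZ.base x) = cX.base ((sp p).base x) := congr($(hZX).base x)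
      show g.base (i.base (cZ.base x)) ∈ Set.range cP.base
      rw [e]
      exact hx
  have eZ' : ⊤ ≤ cZ ⁻¹ᵁ (j ⁻¹ᵁ h ⁻¹ᵁ cP.opensRange) := by
    intro x _
    exact eY (Set.mem_univ ((sp q).base x)) |> fun hx => by
      have e : j.base (cZ.base x) = cY.base ((sp q).base x) := congr($(hZY).base x)
      show h.base (j.base (cZ.base x)) ∈ Set.range cP.base
      rw [e]
      exact hx
  have k1 := ρ_natural i cZ cX p hZX _ eX eZ b
  have k2 := ρ_natural j cZ cY q hZY _ eY eZ' a'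
  have k3 := ρ_map cZ eZ eZ' m (j.app _ a')
  have hqp : q (ρ cY _ eY a') = p (ρ cX _ eX b) := by
    rw [← k1, ← k2, ← k3, hcompat]
  obtain ⟨r, hr1, hr2⟩ := hs.ex _ _ hqp
  obtain ⟨s, rfl⟩ := (bijective_ρ cP _ rfl eP).2 r
  refine ⟨s, ?_, ?_⟩
  · apply bX.1
    rw [ρ_natural g cX cP φA pbX.w _ eP eX s, hr2]
  · apply bY.1
    rw [ρ_natural h cY cP φB pbY.w _ eP eY s, hr1]

end ChartSections

section Family

variable {Z X Y P : Scheme.{u}} (i : Z ⟶ X) (j : Z ⟶ Y) (g : X ⟶ P) (h : Y ⟶ P)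
  (w : i ≫ g = j ≫ h) {ι : Type u}
  (R A A' B : ι → Type u) [∀ k, CommRing (R k)] [∀ k, CommRing (A k)] [∀ k, CommRing (A' k)]
  [∀ k, CommRing (B k)]
  (p : ∀ k, A' k →+* A k) (q : ∀ k, B k →+* A k) (φB : ∀ k, R k →+* B k)
  (φA : ∀ k, R k →+* A' k)
  (hs : ∀ k, FS (p k) (q k) (φB k) (φA k)) (hp : ∀ k, Function.Surjective (p k))
  (cP : ∀ k, Spec (CommRingCat.of (R k)) ⟶ P) [∀ k, IsOpenImmersion (cP k)]
  (hcov : ∀ z : P, ∃ k, z ∈ Set.range (cP k).base)
  (cX : ∀ k, Spec (CommRingCat.of (A' k)) ⟶ X) (cY : ∀ k, Spec (CommRingCat.of (B k)) ⟶ Y)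
  (cZ : ∀ k, Spec (CommRingCat.of (A k)) ⟶ Z)
  (hZX : ∀ k, cZ k ≫ i = sp (p k) ≫ cX k) (hZY : ∀ k, cZ k ≫ j = sp (q k) ≫ cY k)
  (pbX : ∀ k, IsPullback (cX k) (sp (φA k)) g (cP k))
  (pbY : ∀ k, IsPullback (cY k) (sp (φB k)) h (cP k))

include w hs hp hcov hZX hZY pbX pbY in
/-- the underlying square of spaces of a locally-FS square of schemes is a pushout. -/
theorem isPushout_top_of_locally_FS : IsPushout i.base j.base g.base h.base := by
  apply isPushout_top_of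
  · rw [← Scheme.Hom.comp_base, ← Scheme.Hom.comp_base, w]
  · intro z
    obtain ⟨k, z₀, rfl⟩ := hcov z
    exact chart_surj (hs k) (hp k) (pbX k) (pbY k) z₀
  · intro y y' hyy
    obtain ⟨k, z₀, hz⟩ := hcov (h.base y)
    exact chart_inj (hs k) (hp k) (pbY k) z₀ hz.symm hyy
  · intro y x hyx
    obtain ⟨k, z₀, hz⟩ := hcov (h.base y)
    exact chart_ex (hs k) (hp k) (hZX k) (hZY k) (pbX k) (pbY k) z₀ hz.symm (hyx ▸ hz.symm)
  · intro x x' hxx hout
    obtain ⟨k, z₀, hz⟩ := hcov (g.base x)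
    exact chart_out (hs k) (hp k) (pbX k) (pbY k) z₀ hz.symm (hxx ▸ hz.symm) (hz ▸ hout)
  · intro S h1 h2
    rw [← isOpen_compl_iff, isOpen_iff_forall_mem_open]
    intro z hz
    obtain ⟨k, z₀, rfl⟩ := hcov z
    have hc := chart_closed (hs k) (hp k) (pbX k) (pbY k) S h1 h2
    refine ⟨(cP k).base '' ((cP k).base ⁻¹' S)ᶜ, ?_,
      (cP k).isOpenEmbedding.isOpenMap _ hc.isOpen_compl, ⟨z₀, hz, rfl⟩⟩
    rintro _ ⟨w, hw, rfl⟩
    exact hw

include w hs hp hZX hZY pbX pbY in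
/-- **Locally-FS squares of schemes are pushouts of ringed spaces** (basis version). -/
theorem isPushout_sheafedSpace_of_locally_FS_basis
    (hbasis : ∀ (z : P) (U : P.Opens), z ∈ U →
      ∃ k, z ∈ Set.range (cP k).base ∧ (cP k).opensRange ≤ U) :
    IsPushout (FSh.map i) (FSh.map j) (FSh.map g) (FSh.map h) := by
  have hcov : ∀ z : P, ∃ k, z ∈ Set.range (cP k).base := fun z => by
    obtain ⟨k, hk, -⟩ := hbasis z ⊤ trivial
    exact ⟨k, hk⟩
  apply isPushout_sheafedSpace_of_basis (FSh.map i) (FSh.map j) (FSh.map g) (FSh.map h)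
    (by rw [← Functor.map_comp, ← Functor.map_comp, w])
    (isPushout_top_of_locally_FS i j g h w R A A' B p q φB φA hs hp cP hcov cX cY cZ hZX hZY
      pbX pbY)
    (Set.range fun k => (cP k).opensRange)
  · intro x U hxU
    obtain ⟨k, hk1, hk2⟩ := hbasis x U hxU
    exact ⟨(cP k).opensRange, ⟨k, rfl⟩, hk1, hk2⟩
  · rintro _ ⟨k, rfl⟩ s t h1 h2
    exact chart_sections_inj (hs k) (pbX k) (pbY k) s t h1 h2
  · rintro _ ⟨k, rfl⟩ b a' hc
    have e : op (j ⁻¹ᵁ h ⁻¹ᵁ (cP k).opensRange) = op (i ⁻¹ᵁ g ⁻¹ᵁ (cP k).opensRange) := by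
      rw [← Scheme.Hom.comp_preimage, ← Scheme.Hom.comp_preimage, w]
    exact chart_sections_surj (hs k) (hZX k) (hZY k) (pbX k) (pbY k) b a' (eqToHom e) (hc e)

include w hs hp hcov hZX hZY pbX pbY in
/-- **Locally-FS squares of schemes are pushouts of ringed spaces.** A commutative square of
schemes with target `P` which, over an open cover of `P` by affine charts, is given by spectra of
ring fibre squares `R = B ×_A A'` with `A' → A` surjective, is a pushout square in the category of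
ringed spaces. -/
theorem isPushout_sheafedSpace_of_locally_FS :
    IsPushout (FSh.map i) (FSh.map j) (FSh.map g) (FSh.map h) := by
  refine isPushout_sheafedSpace_of_locally_FS_basis i j g h w (ι := Σ k, R k)
    (fun kr => Localization.Away kr.2) (fun kr => Localization.Away ((q kr.1) ((φB kr.1) kr.2)))
    (fun kr => Localization.Away ((φA kr.1) kr.2)) (fun kr => Localization.Away ((φB kr.1) kr.2))
    (fun kr => locp (hs kr.1) kr.2) (fun kr => Localization.awayMap (q kr.1) ((φB kr.1) kr.2))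
    (fun kr => Localization.awayMap (φB kr.1) kr.2) (fun kr => Localization.awayMap (φA kr.1) kr.2)
    (fun kr => (hs kr.1).loc kr.2) (fun kr => (hs kr.1).loc_surjective (hp kr.1) kr.2)
    (fun kr => lc kr.2 ≫ cP kr.1)
    (fun kr => lc ((φA kr.1) kr.2) ≫ cX kr.1) (fun kr => lc ((φB kr.1) kr.2) ≫ cY kr.1)
    (fun kr => lc ((q kr.1) ((φB kr.1) kr.2)) ≫ cZ kr.1)
    ?_ ?_ ?_ ?_ ?_
  · rintro ⟨k, r⟩
    show (lc ((q k) ((φB k) r)) ≫ cZ k) ≫ i = sp (locp (hs k) r) ≫ lc ((φA k) r) ≫ cX k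
    rw [Category.assoc, hZX k, ← Category.assoc, ← locp_square (hs k) r, Category.assoc]
  · rintro ⟨k, r⟩
    show (lc ((q k) ((φB k) r)) ≫ cZ k) ≫ j =
      sp (Localization.awayMap (q k) ((φB k) r)) ≫ lc ((φB k) r) ≫ cY k
    rw [Category.assoc, hZY k, ← Category.assoc, ← loc_square (q k) ((φB k) r), Category.assoc]
  · rintro ⟨k, r⟩
    exact (isPullback_loc (φA k) r).paste_horiz (pbX k)
  · rintro ⟨k, r⟩
    exact (isPullback_loc (φB k) r).paste_horiz (pbY k)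
  · intro z U hzU
    obtain ⟨k, z₀, rfl⟩ := hcov z
    obtain ⟨f, hf1, hf2⟩ := exists_basicOpen_le ((cP k) ⁻¹ᵁ U) z₀ hzU
    refine ⟨⟨k, f⟩, ?_, ?_⟩
    · have : z₀ ∈ Set.range (lc f).base := by
        rw [range_lc]; exact hf1
      obtain ⟨y, rfl⟩ := this
      exact ⟨y, rfl⟩
    · rintro _ ⟨y, rfl⟩
      exact hf2 _ (lc_not_mem f y)

end Family

end Groth.Agent.Lib.Helper22.PoSh
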