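import Mathlib
import Groth.Agent.Lib.Helper22PoShB
import Groth.Agent.Lib.Helper22PinchSchB

set_option autoImplicit false
set_option linter.style.haveILetI false
set_option linter.unusedSectionVars false
set_option linter.unusedVariables false

universe u
open AlgebraicGeometry CategoryTheory CategoryTheory.Limits TopologicalSpace Opposite

namespace Groth.Agent.Lib.Helper22.PoSh

open Groth.Agent.Lib.Helper22.Ferrand Groth.Agent.Lib.Helper22.SpPO
  Groth.Agent.Lib.Helper22.PinchSch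

section

variable {X Y Z : Scheme.{u}} {i : Z ⟶ X} {j : Z ⟶ Y} [IsClosedImmersion i]

/-- **Base change of a Ferrand pushout is a pushout of ringed spaces, abstract chart form.** -/
theorem isPushout_sheafedSpace_of_fcharts {P : Scheme.{u}} {a : X ⟶ P} {b : Y ⟶ P}
    (ch : Charts i j a b)
    {F FX FY FZ : Scheme.{u}} (q : F ⟶ P)
    {pX : FX ⟶ X} {aF : FX ⟶ F} (hFX : IsPullback pX aF a q)
    {pY : FY ⟶ Y} {bF : FY ⟶ F} (hFY : IsPullback pY bF b q)
    {pZ : FZ ⟶ Z} {iF : FZ ⟶ FX} (hFZ : IsPullback pZ iF i pX)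
    {jF : FZ ⟶ FY} (h1 : jF ≫ pY = pZ ≫ j) (h2 : jF ≫ bF = iF ≫ aF)
    (hcov : ∀ x : F, ∃ fc : FChart ch q, x ∈ Set.range fc.d.base) :
    IsPushout (FSh.map iF) (FSh.map jF) (FSh.map aF) (FSh.map bF) := by
  choose fc hfc using hcov
  exact isPushout_sheafedSpace_of_locally_FS iF jF aF bF h2.symm (ι := F)
    (fun x => (fc x).R') (fun x => (fc x).TC) (fun x => (fc x).TA) (fun x => (fc x).TB)
    (fun x => (fc x).p') (fun x => (fc x).q') (fun x => (fc x).ιB) (fun x => (fc x).ιA)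
    (fun x => (fc x).fs) (fun x => (fc x).hp') (fun x => (fc x).d) (fun x => ⟨x, hfc x⟩)
    (fun x => (fc x).cFX hFX) (fun x => (fc x).cFY hFY) (fun x => (fc x).cFZ hFX hFZ)
    (fun x => (fc x).cFZ_iF hFX hFZ) (fun x => (fc x).cFZ_jF hFX hFY hFZ h1 h2)
    (fun x => (fc x).pbX hFX) (fun x => (fc x).pbY hFY)

end

/-- **Base change of a flat pinching is a pushout of ringed spaces.** -/
theorem isPushout_sheafedSpace_baseChange {S X Z Z' X' : Scheme.{u}}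
    (fX' : X' ⟶ S) (ι : Z ⟶ X) (q : Z ⟶ Z') (π : X ⟶ X') (ι' : Z' ⟶ X')
    [IsClosedImmersion ι] [IsAffineHom ι'] [IsAffineHom π]
    (hP : IsPushout ι q π ι') (hfl : Flat (ι ≫ π ≫ fX'))
    {T PT FX FY FZ : Scheme.{u}} (g : T ⟶ S) {pP : PT ⟶ X'} {sPT : PT ⟶ T}
    (hPT : IsPullback pP sPT fX' g)
    {pX : FX ⟶ X} {aF : FX ⟶ PT} (hFX : IsPullback pX aF π pP)
    {pY : FY ⟶ Z'} {bF : FY ⟶ PT} (hFY : IsPullback pY bF ι' pP)
    {pZ : FZ ⟶ Z} {iF : FZ ⟶ FX} (hFZ : IsPullback pZ iF ι pX)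
    {jF : FZ ⟶ FY} (h1 : jF ≫ pY = pZ ≫ q) (h2 : jF ≫ bF = iF ≫ aF) :
    IsPushout (FSh.map iF) (FSh.map jF) (FSh.map aF) (FSh.map bF) := by
  have hY : ∀ y : Z', ∃ k : AdPair ι q, y ∈ k.V := exists_adPair ι q π ι' hP.w
  obtain ⟨ch⟩ := exists_charts_of_isPushout ι q hY π ι' hP
  have hcov : ∀ x : PT, ∃ fc : FChart ch pP, x ∈ Set.range fc.d.base :=
    fun x => exists_fchart_of_flat_corner hP.w ch fX' hfl g hPT x
  exact isPushout_sheafedSpace_of_fcharts ch pP hFX hFY hFZ h1 h2 hcov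

end Groth.Agent.Lib.Helper22.PoSh
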