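import Mathlib

/-!
# Helper22: coordinates on the profinite completion of a (discrete) group

Elementwise API for `ProfiniteGrp.profiniteCompletion`.
-/

set_option autoImplicit false

namespace Groth.Agent.Lib.Helper22.ProfComp

open CategoryTheory ProfiniteGrp ProfiniteGrp.ProfiniteCompletion

universe u

/-- the `N`-th coordinate of a point of the completion -/
def coord (G : GrpCat.{u}) (N : FiniteIndexNormalSubgroup G) (x : completion G) :
    G ⧸ N.toSubgroup := x.val N

theorem coord_etaFn (G : GrpCat.{u}) (N : FiniteIndexNormalSubgroup G) (g : G) :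
    coord G N (etaFn G g) = QuotientGroup.mk g := rfl

theorem coord_one (G : GrpCat.{u}) (N : FiniteIndexNormalSubgroup G) :
    coord G N 1 = 1 := rfl

theorem ext_coord {G : GrpCat.{u}} {x y : completion G}
    (h : ∀ N, coord G N x = coord G N y) : x = y :=
  Subtype.ext (funext h)

theorem coord_of_le {G : GrpCat.{u}} (x : completion G) {M N : FiniteIndexNormalSubgroup G}
    (h : M ≤ N) (g : G) (hg : coord G M x = QuotientGroup.mk g) :
    coord G N x = QuotientGroup.mk g := by
  have := x.property (homOfLE h)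
  unfold coord at hg ⊢
  rw [← this, hg]
  rfl

theorem continuous_coord (G : GrpCat.{u}) (N : FiniteIndexNormalSubgroup G) :
    Continuous (fun x : completion G => (x.val N : (diagram G).obj N)) :=
  (continuous_apply N).comp continuous_subtype_val

instance (G : GrpCat.{u}) (N : FiniteIndexNormalSubgroup G) :
    DiscreteTopology ((diagram G).obj N) := ⟨rfl⟩

theorem map_etaFn {G H : GrpCat.{u}} (f : G ⟶ H) (g : G) :
    (profiniteCompletion.map f).hom (etaFn G g) = etaFn H (f.hom g) := by
  have := lift_eta (f ≫ eta H)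
  exact ConcreteCategory.congr_hom this g

theorem coord_map {G H : GrpCat.{u}} (f : G ⟶ H) (K : FiniteIndexNormalSubgroup H)
    (x : completion G) :
    coord H K ((profiniteCompletion.map f).hom x) =
      QuotientGroup.map (K.comap f.hom).toSubgroup K.toSubgroup f.hom (fun _ h => h)
        (coord G (K.comap f.hom) x) := by
  refine (denseRange G).induction_on (p := fun x => coord H K ((profiniteCompletion.map f).hom x) =
      QuotientGroup.map (K.comap f.hom).toSubgroup K.toSubgroup f.hom (fun _ h => h)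
        (coord G (K.comap f.hom) x)) x ?_ ?_
  · refine isClosed_eq (X := (diagram H).obj K) ?_ ?_
    · exact (continuous_coord H K).comp (profiniteCompletion.map f).hom.continuous_toFun
    · exact (continuous_of_discreteTopology (α := (diagram G).obj (K.comap f.hom))
        (β := (diagram H).obj K)
        (f := fun y => QuotientGroup.map (K.comap f.hom).toSubgroup K.toSubgroup f.hom
          (fun _ h => h) y)).comp (continuous_coord G (K.comap f.hom))
  · intro g
    rw [map_etaFn]
    rfl

theorem mem_closure_etaFn_image {G : GrpCat.{u}} (S : Set G) (x : completion G)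
    (h : ∀ N : FiniteIndexNormalSubgroup G, ∃ s ∈ S, coord G N x = QuotientGroup.mk s) :
    x ∈ closure (etaFn G '' S) := by
  rw [mem_closure_iff]
  rintro o ⟨s, hsO, hsv⟩ hxo
  rw [← hsv] at hxo
  replace hxo : x.val ∈ s := hxo
  rcases (isOpen_pi_iff.mp hsO) _ hxo with ⟨J, fJ, hJ1, hJ2⟩
  let M : Subgroup G := iInf fun (j : J) => j.val.toSubgroup
  have hM : M.Normal := Subgroup.normal_iInf_normal fun j => inferInstance
  have hMFinite : M.FiniteIndex := by
    apply Subgroup.finiteIndex_iInf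
    infer_instance
  let m : FiniteIndexNormalSubgroup G := { toSubgroup := M }
  obtain ⟨s0, hs0, hs0x⟩ := h m
  refine ⟨etaFn G s0, ?_, s0, hs0, rfl⟩
  rw [← hsv]
  show (etaFn G s0).val ∈ s
  apply hJ2
  intro a haJ
  have hle : m ≤ a := iInf_le (fun (j : J) => (j.val.toSubgroup)) ⟨a, haJ⟩
  have := coord_of_le x hle s0 hs0x
  show (etaFn G s0).val a ∈ fJ a
  have h2 : (etaFn G s0).val a = x.val a := this.symm
  rw [h2]; exact (hJ1 a haJ).2

/-- In a commutative group of exponent dividing `n > 0`, every nontrivial element is avoided by a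
finite index subgroup. -/
theorem exists_finiteIndex_not_mem_of_pow_eq_one {Q : Type u} [CommGroup Q] (n : ℕ) (hn : 0 < n)
    (hQ : ∀ q : Q, q ^ n = 1) {q : Q} (hq : q ≠ 1) :
    ∃ N : Subgroup Q, N.FiniteIndex ∧ q ∉ N := by
  have hne : Additive.ofMul q ≠ 0 := fun h => hq (by simpa using h)
  obtain ⟨c, hc⟩ := CharacterModule.exists_character_apply_ne_zero_of_ne_zero hne
  let c' : Additive Q →+ AddCircle (1:ℚ) := c
  let ψ : Q →* Multiplicative (AddCircle (1:ℚ)) := AddMonoidHom.toMultiplicativeRight c'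
  have hfin : Finite ψ.range := by
    have hsub : (ψ.range : Set _) ⊆
        Multiplicative.toAdd ⁻¹' {u : AddCircle (1:ℚ) | n • u = 0} := by
      rintro _ ⟨x, rfl⟩
      show n • c' (Additive.ofMul x) = 0
      rw [← map_nsmul, ← ofMul_pow, hQ]
      simp
    have hf : (Multiplicative.toAdd ⁻¹' {u : AddCircle (1:ℚ) | n • u = 0}).Finite :=
      (AddCircle.finite_torsion 1 hn).preimage (Multiplicative.toAdd.injective.injOn)
    exact (hf.subset hsub).to_subtype
  refine ⟨ψ.ker, inferInstance, ?_⟩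
  intro hmem
  have h1 : ψ q = 1 := hmem
  exact hc (show c' (Additive.ofMul q) = 0 from h1)

theorem exists_finiteIndex_comap_le {A : Type u} [CommGroup A] (A' : Subgroup A)
    (htors : ∃ N : ℕ, 0 < N ∧ ∀ x : A ⧸ A', IsOfFinOrder x → x ^ N = 1)
    (H : Subgroup A') [H.FiniteIndex] :
    ∃ N : Subgroup A, N.FiniteIndex ∧ N.comap A'.subtype ≤ H := by
  obtain ⟨Nt, hNt, htors⟩ := htors
  have hm0 : 0 < H.index := Nat.pos_of_ne_zero Subgroup.FiniteIndex.index_ne_zero
  have hn0 : 0 < Nt * H.index := Nat.mul_pos hNt hm0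
  let P : Subgroup A := (powMonoidHom (Nt * H.index) : A →* A).range ⊔ H.map A'.subtype
  have claim1 : ∀ a : A', (a : A) ∈ P → a ∈ H := by
    intro a ha
    obtain ⟨y, ⟨c, rfl⟩, z, ⟨h, hh, rfl⟩, hyz⟩ := Subgroup.mem_sup.mp ha
    have hyz' : c ^ (Nt * H.index) * (h : A) = (a : A) := hyz
    have hcn : c ^ (Nt * H.index) ∈ A' := by
      have : c ^ (Nt * H.index) = (a : A) * ((h : A'):A)⁻¹ := by rw [← hyz']; simp
      rw [this]; exact A'.mul_mem a.2 (A'.inv_mem h.2)
    have h1 : (QuotientGroup.mk c : A ⧸ A') ^ (Nt * H.index) = 1 := by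
      rw [← QuotientGroup.mk_pow]; exact (QuotientGroup.eq_one_iff _).mpr hcn
    have h2 : (QuotientGroup.mk c : A ⧸ A') ^ Nt = 1 :=
      htors _ (isOfFinOrder_iff_pow_eq_one.mpr ⟨_, hn0, h1⟩)
    have h3 : c ^ Nt ∈ A' := by
      rw [← QuotientGroup.mk_pow] at h2; exact (QuotientGroup.eq_one_iff _).mp h2
    have h4 : (⟨c ^ Nt, h3⟩ : A') ^ H.index ∈ H := Subgroup.pow_index_mem H _
    have h5 : a = (⟨c ^ Nt, h3⟩ : A') ^ H.index * h := by
      apply Subtype.ext; simp [← hyz', pow_mul]
    rw [h5]; exact H.mul_mem h4 hh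
  let ρ : A' →* A ⧸ P := (QuotientGroup.mk' P).comp A'.subtype
  have hHker : H ≤ ρ.ker := by
    intro a ha
    rw [MonoidHom.mem_ker]
    show (QuotientGroup.mk (a : A) : A ⧸ P) = 1
    rw [QuotientGroup.eq_one_iff]
    exact (le_sup_right : H.map A'.subtype ≤ P) ⟨a, ha, rfl⟩
  have hfin : (Set.range ρ).Finite := by
    have : Set.range ρ = Set.range (QuotientGroup.lift H ρ hHker) := by
      ext q; constructor
      · rintro ⟨a, rfl⟩; exact ⟨QuotientGroup.mk a, rfl⟩
      · rintro ⟨a, rfl⟩
        obtain ⟨a, rfl⟩ := QuotientGroup.mk_surjective a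
        exact ⟨a, rfl⟩
    rw [this]
    have : Finite (A' ⧸ H) := Subgroup.finite_quotient_of_finiteIndex
    exact Set.finite_range _
  have hQ : ∀ q : A ⧸ P, q ^ (Nt * H.index) = 1 := by
    intro q
    obtain ⟨a, rfl⟩ := QuotientGroup.mk_surjective q
    rw [← QuotientGroup.mk_pow, QuotientGroup.eq_one_iff]
    exact (le_sup_left : (powMonoidHom (Nt * H.index) : A →* A).range ≤ P) ⟨a, rfl⟩
  let T : Set (A ⧸ P) := Set.range ρ \ {1}
  have hTfin : Finite T := (hfin.subset Set.sdiff_subset).to_subtype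
  have hchoice : ∀ t : T, ∃ N : Subgroup (A ⧸ P), N.FiniteIndex ∧ (t : A ⧸ P) ∉ N := fun t =>
    exists_finiteIndex_not_mem_of_pow_eq_one _ hn0 hQ t.2.2
  choose Nf hNf1 hNf2 using hchoice
  have hfi : (⨅ t : T, Nf t).FiniteIndex := Subgroup.finiteIndex_iInf hNf1
  refine ⟨(⨅ t : T, Nf t).comap (QuotientGroup.mk' P), ?_, ?_⟩
  · constructor
    rw [Subgroup.index_comap_of_surjective _ (QuotientGroup.mk'_surjective P)]
    exact hfi.index_ne_zero
  · intro a ha
    have ha' : ρ a ∈ ⨅ t : T, Nf t := ha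
    by_cases h1 : ρ a = 1
    · apply claim1
      exact (QuotientGroup.eq_one_iff _).mp h1
    · exfalso
      have hT : ρ a ∈ T := ⟨⟨a, rfl⟩, h1⟩
      exact hNf2 ⟨ρ a, hT⟩ ((Subgroup.mem_iInf.mp ha') ⟨ρ a, hT⟩)

end Groth.Agent.Lib.Helper22.ProfComp
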