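import Mathlib
import Groth.Prelude.Def_FlatCA
import Groth.Agent.Lib.Helper22UnivInjNzd

set_option autoImplicit false
set_option linter.style.haveILetI false
set_option linter.unusedSectionVars false

open scoped TensorProduct

namespace Groth.Agent.Lib.Helper22.ProjPure

open Groth.Agent.Lib.Helper22.UnivInjNzd

universe u

section Content

variable {A : Type u} [CommRing A] {N : Type u} [AddCommGroup N] [Module A N]

/-- Elements of the residue field at a prime are fractions. -/
theorem exists_smul_eq_algebraMap (t' : Ideal A) [t'.IsPrime] (k : t'.ResidueField) :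
    ∃ σ ∉ t', ∃ a : A, σ • k = algebraMap A t'.ResidueField a := by
  obtain ⟨z, rfl⟩ := IsLocalRing.residue_surjective k
  obtain ⟨⟨a, σ⟩, rfl⟩ := IsLocalization.mk'_surjective t'.primeCompl z
  refine ⟨σ.1, σ.2, a, ?_⟩
  rw [Algebra.smul_def, IsScalarTower.algebraMap_apply A (Localization.AtPrime t') t'.ResidueField,
    IsScalarTower.algebraMap_apply A (Localization.AtPrime t') t'.ResidueField a,
    IsLocalRing.ResidueField.algebraMap_eq, ← map_mul]
  congr 1
  exact IsLocalization.mk'_spec' _ _ _

/-- Elements of `N ⊗ κ(t')` are fractions of elements of `N`. -/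
theorem exists_smul_eq_tmul_one (t' : Ideal A) [t'.IsPrime] (y : N ⊗[A] t'.ResidueField) :
    ∃ σ ∉ t', ∃ x : N, σ • y = x ⊗ₜ[A] (1 : t'.ResidueField) := by
  induction y using TensorProduct.induction_on with
  | zero => exact ⟨1, fun h => Ideal.IsPrime.ne_top inferInstance ((Ideal.eq_top_iff_one _).mpr h),
      0, by simp⟩
  | tmul n k =>
    obtain ⟨σ, hσ, a, ha⟩ := exists_smul_eq_algebraMap t' k
    refine ⟨σ, hσ, a • n, ?_⟩
    rw [TensorProduct.smul_tmul', TensorProduct.smul_tmul, ha, Algebra.algebraMap_eq_smul_one,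
      ← TensorProduct.smul_tmul]
  | add y₁ y₂ h₁ h₂ =>
    obtain ⟨σ₁, hσ₁, x₁, e₁⟩ := h₁
    obtain ⟨σ₂, hσ₂, x₂, e₂⟩ := h₂
    refine ⟨σ₁ * σ₂, fun h => (Ideal.IsPrime.mem_or_mem inferInstance h).elim hσ₁ hσ₂,
      σ₂ • x₁ + σ₁ • x₂, ?_⟩
    rw [smul_add, mul_smul, mul_comm, mul_smul, smul_comm σ₁ σ₂ y₁, e₁, smul_comm σ₂ σ₁ y₂, e₂,
      TensorProduct.add_tmul, TensorProduct.smul_tmul', TensorProduct.smul_tmul']

end Content


section Coord

variable {A : Type u} [CommRing A] {N : Type u} [AddCommGroup N] [Module A N]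
  (i : N →ₗ[A] (N →₀ A)) (hi : Finsupp.linearCombination A id ∘ₗ i = LinearMap.id)

/-- The content ideal of `x` with respect to the splitting `i`. -/
def content (x : N) : Ideal A := Ideal.span (Set.range (i x))

theorem content_fg (x : N) : (content i x).FG :=
  Submodule.fg_span (Finsupp.finite_range (i x))

include hi in
theorem mem_content_smul_top (x : N) : x ∈ content i x • (⊤ : Submodule A N) := by
  have h1 : x = Finsupp.linearCombination A id (i x) := by
    have := LinearMap.congr_fun hi x
    simpa using this.symm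
  have h2 : Finsupp.linearCombination A id (i x) ∈ content i x • (⊤ : Submodule A N) := by
    rw [Finsupp.linearCombination_apply, Finsupp.sum]
    refine Submodule.sum_mem _ fun j _ => ?_
    exact Submodule.smul_mem_smul (Ideal.subset_span ⟨j, rfl⟩) Submodule.mem_top
  rw [← h1] at h2
  exact h2

theorem coord_mem_of_mem_smul_top (I : Ideal A) (x : N) (hx : x ∈ I • (⊤ : Submodule A N))
    (j : N) : i x j ∈ I := by
  refine Submodule.smul_induction_on hx ?_ ?_
  · intro a ha n _
    rw [map_smul, Finsupp.smul_apply, smul_eq_mul]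
    exact I.mul_mem_right _ ha
  · intro y z hy hz
    rw [map_add, Finsupp.add_apply]
    exact I.add_mem hy hz

theorem content_le_of_mem_smul_top (I : Ideal A) (x : N) (hx : x ∈ I • (⊤ : Submodule A N)) :
    content i x ≤ I := by
  rw [content, Ideal.span_le]
  rintro _ ⟨j, rfl⟩
  exact coord_mem_of_mem_smul_top i I x hx j

theorem tmul_one_eq_zero_of_mem_smul_top (t' : Ideal A) [t'.IsPrime] (x : N)
    (hx : x ∈ t' • (⊤ : Submodule A N)) : x ⊗ₜ[A] (1 : t'.ResidueField) = 0 := by
  refine Submodule.smul_induction_on hx ?_ ?_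
  · intro a ha n _
    rw [TensorProduct.smul_tmul, Algebra.smul_def, mul_one,
      Ideal.algebraMap_residueField_eq_zero.mpr ha, TensorProduct.tmul_zero]
  · intro y z hy hz
    rw [TensorProduct.add_tmul, hy, hz, add_zero]

theorem coord_mem_of_tmul_one_eq_zero (t' : Ideal A) [t'.IsPrime] (x : N)
    (hx : x ⊗ₜ[A] (1 : t'.ResidueField) = 0) (j : N) : i x j ∈ t' := by
  classical
  have h1 := congrArg (i.rTensor t'.ResidueField) hx
  rw [LinearMap.rTensor_tmul, map_zero] at h1
  have h2 : TensorProduct.finsuppScalarLeft A t'.ResidueField N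
      (i x ⊗ₜ[A] (1 : t'.ResidueField)) j = 0 := by
    rw [h1, map_zero, Finsupp.zero_apply]
  rw [TensorProduct.finsuppScalarLeft_apply_tmul_apply, Algebra.smul_def, mul_one] at h2
  exact Ideal.algebraMap_residueField_eq_zero.mp h2

end Coord


section Nak

variable {A : Type u} [CommRing A]

/-- Nakayama step: `s C ⊆ D + t C` with `s ∉ t`, `D ⊆ t' ⊆ t`, `C` finitely generated, gives
`C ⊆ t'`. -/
theorem le_of_smul_le (t' t : Ideal A) [t'.IsPrime] [t.IsPrime] (hle : t' ≤ t) (C D : Ideal A)
    (hC : C.FG) (hD : D ≤ t') (s : A) (hs : s ∉ t) (h : ∀ c ∈ C, s * c ∈ D ⊔ t * C) : C ≤ t' := by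
  let φ := algebraMap A (Localization.AtPrime t)
  have hu : IsUnit (φ s) := IsLocalization.map_units (Localization.AtPrime t) (⟨s, hs⟩ : t.primeCompl)
  have hNN : C.map φ ≤ D.map φ ⊔ IsLocalRing.maximalIdeal (Localization.AtPrime t) • C.map φ := by
    rw [Ideal.map_le_iff_le_comap]
    intro c hc
    rw [Ideal.mem_comap]
    have h1 : φ (s * c) ∈ D.map φ ⊔ IsLocalRing.maximalIdeal (Localization.AtPrime t) • C.map φ := by
      have h2 := Ideal.mem_map_of_mem φ (h c hc)
      rw [Ideal.map_sup, Ideal.map_mul, IsLocalization.AtPrime.map_eq_maximalIdeal t (Localization.AtPrime t)] at h2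
      exact h2
    have h3 : φ c = ↑hu.unit⁻¹ * φ (s * c) := by
      rw [map_mul, ← mul_assoc, IsUnit.val_inv_mul, one_mul]
    rw [h3]
    exact Ideal.mul_mem_left _ _ h1
  have hle' : C.map φ ≤ D.map φ :=
    Submodule.le_of_le_smul_of_le_jacobson_bot (hC.map φ)
      (IsLocalRing.maximalIdeal_le_jacobson ⊥) hNN
  intro c hc
  have h4 : φ c ∈ t'.map φ := Ideal.map_mono hD (hle' (Ideal.mem_map_of_mem φ hc))
  have h5 : c ∈ (t'.map φ).under A := h4
  rw [Ideal.under_map_of_isLocalizationAtPrime t hle] at h5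
  exact h5

end Nak


section Core

attribute [local instance] Algebra.TensorProduct.rightAlgebra

variable {A B : Type u} [CommRing A] [CommRing B] [Algebra A B]
  (N : Type u) [AddCommGroup N] [Module B N] [Module A N] [IsScalarTower A B N]

/-- `B`-multiples of elements of `C N` stay in `C N`. -/
theorem smul_mem_smul_top (C : Ideal A) (b : B) (y : N) (hy : y ∈ C • (⊤ : Submodule A N)) :
    b • y ∈ C • (⊤ : Submodule A N) := by
  refine Submodule.smul_induction_on hy ?_ ?_
  · intro a ha n _
    rw [smul_comm]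
    exact Submodule.smul_mem_smul ha Submodule.mem_top
  · intro y z hy hz
    rw [smul_add]
    exact Submodule.add_mem _ hy hz

/-- Multiplying `C N` by an element of `t B` lands in `(t C) N`. -/
theorem smul_mem_mul_smul_top (t C : Ideal A) {c : B} (hc : c ∈ t.map (algebraMap A B)) (y : N)
    (hy : y ∈ C • (⊤ : Submodule A N)) : c • y ∈ (t * C) • (⊤ : Submodule A N) := by
  rw [Submodule.mul_smul]
  revert y
  induction hc using Submodule.span_induction with
  | mem c hc =>
    obtain ⟨τ, hτ, rfl⟩ := hc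
    intro y hy
    rw [algebraMap_smul]
    exact Submodule.smul_mem_smul hτ hy
  | zero =>
    intro y _
    rw [zero_smul]
    exact Submodule.zero_mem _
  | add c d _ _ hc hd =>
    intro y hy
    rw [add_smul]
    exact Submodule.add_mem _ (hc y hy) (hd y hy)
  | smul b c _ hc =>
    intro y hy
    rw [smul_eq_mul, mul_comm, mul_smul]
    exact hc (b • y) (smul_mem_smul_top N C b y hy)

/-- For an `A`-projective `B`-module, a point of the relative assassin over `t'` has a
specialization over every `t ⊇ t'`. -/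
theorem exists_prime_ge_liesOver [Module.Projective A N]
    (t' t : Ideal A) [t'.IsPrime] [t.IsPrime] (hle : t' ≤ t) (P : Ideal B) [P.IsPrime]
    (hass : FlatCA.fiberIdeal t' P ∈ associatedPrimes (t'.Fiber B) (FlatCA.fiberMod t' B N)) :
    ∃ P' : Ideal B, P'.IsPrime ∧ P ≤ P' ∧ P'.LiesOver t := by
  by_contra hno
  push Not at hno
  obtain ⟨s, hs, hsJ⟩ : ∃ s ∉ t, algebraMap A B s ∈ P ⊔ t.map (algebraMap A B) := by
    by_contra hcon
    push Not at hcon
    have hdisj : Disjoint ((P ⊔ t.map (algebraMap A B) : Ideal B) : Set B)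
        (Algebra.algebraMapSubmonoid B t.primeCompl : Set B) := by
      rw [Set.disjoint_left]
      rintro _ hb ⟨s, hs, rfl⟩
      exact hcon s hs hb
    obtain ⟨P', hP', hJP', hP'd⟩ := Ideal.exists_le_prime_disjoint _ _ hdisj
    haveI := hP'
    refine hno P' hP' (le_sup_left.trans hJP') ⟨?_⟩
    apply le_antisymm
    · intro a ha
      exact hJP' (Ideal.mem_sup_right (Ideal.mem_map_of_mem _ ha))
    · intro a ha
      by_contra hat
      exact Set.disjoint_left.mp hP'd ha ⟨a, hat, rfl⟩
  obtain ⟨hprime, xbar, hxbar⟩ := hass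
  obtain ⟨y, rfl⟩ := xi_surjective (S := B) t'.ResidueField N xbar
  obtain ⟨σ, hσ, x, hσy⟩ := exists_smul_eq_tmul_one t' y
  -- (ii) elements of `P` are nilpotent on `x ⊗ 1`
  have hnil : ∀ b ∈ P, ∃ n : ℕ, b ^ n • (x ⊗ₜ[A] (1 : t'.ResidueField)) = 0 := by
    intro b hb
    have h1 : (Algebra.TensorProduct.includeRight (R := A) (A := t'.ResidueField) (B := B)) b ∈
        FlatCA.fiberIdeal t' P := Ideal.mem_map_of_mem _ hb
    rw [hxbar] at h1
    obtain ⟨n, hn⟩ := h1
    rw [Submodule.mem_colon_singleton, Submodule.mem_bot, ← map_pow] at hn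
    refine ⟨n, ?_⟩
    have h2 : b ^ n • xi (S := B) t'.ResidueField N y = 0 := by
      rw [← algebraMap_smul (t'.Fiber B) (b ^ n), Algebra.TensorProduct.right_algebraMap_apply,
        ← Algebra.TensorProduct.includeRight_apply]
      exact hn
    rw [← xi_smul] at h2
    have h3 : b ^ n • y = 0 := xi_injective (S := B) _ N (h2.trans (map_zero _).symm)
    rw [← hσy, smul_comm, h3, smul_zero]
  -- (i) `x ⊗ 1 ≠ 0`
  have hne : x ⊗ₜ[A] (1 : t'.ResidueField) ≠ 0 := by
    intro h0
    rw [← hσy] at h0
    have h1 : σ • xi (S := B) t'.ResidueField N y = 0 := by rw [← map_smul, h0, map_zero]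
    rw [← algebraMap_smul (t'.Fiber B) σ] at h1
    have h2 : algebraMap A (t'.Fiber B) σ ∈ FlatCA.fiberIdeal t' P := by
      rw [hxbar]
      apply Ideal.le_radical
      rw [Submodule.mem_colon_singleton, Submodule.mem_bot]
      exact h1
    have h3 : IsUnit (algebraMap A (t'.Fiber B) σ) := by
      rw [IsScalarTower.algebraMap_apply A t'.ResidueField (t'.Fiber B)]
      apply IsUnit.map
      rw [isUnit_iff_ne_zero, Ne, Ideal.algebraMap_residueField_eq_zero]
      exact hσ
    exact hprime.ne_top (Ideal.eq_top_of_isUnit_mem _ h2 h3)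
  -- the splitting
  obtain ⟨i, hi⟩ := Module.projective_def'.mp (inferInstance : Module.Projective A N)
  obtain ⟨b, hb, c, hc, hbc⟩ := Submodule.mem_sup.mp hsJ
  obtain ⟨n, hn⟩ := hnil b hb
  have hc' : algebraMap A B (s ^ n) - b ^ n ∈ t.map (algebraMap A B) := by
    rw [map_pow, ← hbc, ← Ideal.Quotient.eq, map_pow, map_pow, map_add,
      Ideal.Quotient.eq_zero_iff_mem.mpr hc, add_zero]
  have hsn : s ^ n ∉ t := fun h => hs (Ideal.IsPrime.mem_of_pow_mem inferInstance n h)
  have hdecomp : (s ^ n) • x = b ^ n • x + (algebraMap A B (s ^ n) - b ^ n) • x := by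
    rw [sub_smul, algebraMap_smul]
    abel
  have hD : content i (b ^ n • x) ≤ t' := by
    rw [content, Ideal.span_le]
    rintro _ ⟨j, rfl⟩
    refine coord_mem_of_tmul_one_eq_zero i t' _ ?_ j
    rw [← TensorProduct.smul_tmul']
    exact hn
  have hxC := mem_content_smul_top i hi x
  have hcx := smul_mem_mul_smul_top N t (content i x) hc' x hxC
  have hkey : ∀ c ∈ content i x, s ^ n * c ∈ content i (b ^ n • x) ⊔ t * content i x := by
    intro c hc
    rw [content] at hc
    induction hc using Submodule.span_induction with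
    | mem c hc =>
      obtain ⟨j, rfl⟩ := hc
      have h1 : s ^ n * i x j = i (b ^ n • x) j + i ((algebraMap A B (s ^ n) - b ^ n) • x) j := by
        rw [← Finsupp.add_apply, ← map_add, ← hdecomp, map_smul, Finsupp.smul_apply, smul_eq_mul]
      rw [h1]
      exact Submodule.add_mem_sup (Ideal.subset_span ⟨j, rfl⟩)
        (coord_mem_of_mem_smul_top i _ _ hcx j)
    | zero =>
      rw [mul_zero]
      exact Submodule.zero_mem _
    | add c d _ _ hc hd =>
      rw [mul_add]
      exact Submodule.add_mem _ hc hd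
    | smul a c _ hc =>
      rw [smul_eq_mul, mul_left_comm]
      exact Ideal.mul_mem_left _ _ hc
  have hCle := le_of_smul_le t' t hle (content i x) (content i (b ^ n • x)) (content_fg i x) hD
    (s ^ n) hsn hkey
  exact hne (tmul_one_eq_zero_of_mem_smul_top t' x (Submodule.smul_mono_left hCle hxC))

end Core

end Groth.Agent.Lib.Helper22.ProjPure
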