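import Mathlib

set_option autoImplicit false
universe u
open CategoryTheory CategoryTheory.Limits AlgebraicGeometry Topology TopologicalSpace

namespace Groth.Agent.Lib.Helper22.PropImm

variable {X Y : Scheme.{u}}

set_option backward.defeqAttrib.useBackward true in
theorem isProper_lift_iSup (f : X ⟶ Y) {ι : Type*} (U : ι → Y.Opens)
    (H : Set.range f ⊆ (⨆ i, U i : Y.Opens)) (hf : ∀ i, IsProper (f ∣_ U i)) :
    IsProper (IsOpenImmersion.lift (⨆ i, U i).ι f (by simpa using H)) := by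
  set g : X ⟶ (⨆ i, U i : Y.Opens) :=
    IsOpenImmersion.lift (Scheme.Opens.ι _) f (by simpa using H) with hg
  rw [IsZariskiLocalAtTarget.iff_of_iSup_eq_top (P := @IsProper)
    (U := fun i : ι ↦ (⨆ i, U i).ι ⁻¹ᵁ U i)]
  · intro i
    have heq : g ⁻¹ᵁ (⨆ i, U i).ι ⁻¹ᵁ U i = f ⁻¹ᵁ U i := by
      change (g ≫ (⨆ i, U i).ι) ⁻¹ᵁ U i = _
      simp [g]
    let e : Arrow.mk (g ∣_ (⨆ i, U i).ι ⁻¹ᵁ U i) ≅ Arrow.mk (f ∣_ U i) :=
        Arrow.isoMk (X.isoOfEq heq) (Scheme.Opens.isoOfLE (le_iSup U i)) <| by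
      simp [← CategoryTheory.cancel_mono (U i).ι, g]
    rw [MorphismProperty.arrow_mk_iso_iff @IsProper e]
    exact hf i
  apply (⨆ i, U i).ι.image_injective
  dsimp
  rw [Scheme.Hom.image_iSup, Scheme.Hom.image_top_eq_opensRange, Scheme.Opens.opensRange_ι]
  simp [Scheme.Hom.image_preimage_eq_opensRange_inf, le_iSup U]

theorem isProper_morphismRestrict_of_fac (f : X ⟶ Y) (U : Y.Opens) (p : X ⟶ U)
    (hp : p ≫ U.ι = f) [IsProper p] : IsProper (f ∣_ U) := by
  have htop : f ⁻¹ᵁ U = ⊤ := by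
    ext x
    simp only [Opens.coe_top, Set.mem_univ, iff_true]
    show f x ∈ U
    rw [← hp, Scheme.Hom.comp_apply]
    exact (p x).2
  have : IsIso (f ⁻¹ᵁ U).ι := by
    rw [htop]
    exact (inferInstance : IsIso X.topIso.hom)
  have h1 : (f ⁻¹ᵁ U).ι ≫ p = f ∣_ U := by
    rw [← cancel_mono U.ι, Category.assoc, hp, morphismRestrict_ι]
  rw [← h1]
  infer_instance

end Groth.Agent.Lib.Helper22.PropImm
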