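import Mathlib

set_option autoImplicit false
set_option linter.unusedSectionVars false
set_option linter.unusedVariables false
set_option linter.style.haveILetI false

/-!
# Dimension theory over Prüfer domains, part A: transcendence degrees of residue fields do not
drop under generization (local version of helper3's `algebraicIndependent_mk_of_le`)
-/

universe u

namespace Groth.Agent.Lib.Helper22.PruferDim

/-- "divisibility is total up to elements outside `𝔮`" -/
def DvdLoc {A : Type*} [CommRing A] (𝔮 : Ideal A) : Prop :=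
  ∀ a b : A, ∃ s : A, s ∉ 𝔮 ∧ (a ∣ s * b ∨ b ∣ s * a)

theorem dvdLoc_of_valuationRing {A : Type*} [CommRing A] [IsDomain A] (𝔮 : Ideal A) [𝔮.IsPrime]
    [ValuationRing (Localization.AtPrime 𝔮)] : DvdLoc 𝔮 := by
  intro a b
  have key : ∀ a b : A, algebraMap A (Localization.AtPrime 𝔮) a ∣
      algebraMap A (Localization.AtPrime 𝔮) b → ∃ s : A, s ∉ 𝔮 ∧ a ∣ s * b := by
    intro a b ⟨c, hc⟩
    obtain ⟨⟨c', s⟩, hcs⟩ := IsLocalization.surj 𝔮.primeCompl c
    -- c * s = c'
    have h1 : algebraMap A (Localization.AtPrime 𝔮) (s * b) =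
        algebraMap A (Localization.AtPrime 𝔮) (a * c') := by
      rw [map_mul, map_mul, hc, ← hcs]
      ring
    have h2 := IsLocalization.injective (Localization.AtPrime 𝔮) 𝔮.primeCompl_le_nonZeroDivisors h1
    exact ⟨s, s.2, ⟨c', h2⟩⟩
  rcases ValuationRing.dvd_total (algebraMap A (Localization.AtPrime 𝔮) a)
    (algebraMap A (Localization.AtPrime 𝔮) b) with h | h
  · obtain ⟨s, hs, h⟩ := key a b h
    exact ⟨s, hs, Or.inl h⟩
  · obtain ⟨s, hs, h⟩ := key b a h
    exact ⟨s, hs, Or.inr h⟩

theorem exists_dvd_all {A : Type*} [CommRing A] (𝔮 : Ideal A) [𝔮.IsPrime] (hdvd : DvdLoc 𝔮)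
    {ι : Type*} (s : Finset ι) (hs : s.Nonempty) (a : ι → A) :
    ∃ i ∈ s, ∃ u : A, u ∉ 𝔮 ∧ ∀ j ∈ s, a i ∣ u * a j := by
  classical
  induction hs using Finset.Nonempty.cons_induction with
  | singleton i =>
    exact ⟨i, Finset.mem_singleton_self i, 1, (Ideal.ne_top_iff_one 𝔮).mp
      (inferInstance : 𝔮.IsPrime).ne_top, fun j hj => by
      rw [Finset.mem_singleton.mp hj, one_mul]⟩
  | cons i s hi hs ih =>
    obtain ⟨k, hk, u, hu, hkall⟩ := ih
    obtain ⟨v, hv, h⟩ := hdvd (a i) (a k)
    have hvu : v * u ∉ 𝔮 := fun h' =>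
      ((inferInstance : 𝔮.IsPrime).mem_or_mem h').elim hv hu
    rcases h with h | h
    · refine ⟨i, Finset.mem_cons_self i s, v * u, hvu, fun j hj => ?_⟩
      rcases Finset.mem_cons.mp hj with rfl | hj
      · exact Dvd.intro_left _ rfl
      · obtain ⟨c, hc⟩ := hkall j hj
        obtain ⟨c', hc'⟩ := h
        refine ⟨c' * c, ?_⟩
        rw [mul_assoc, hc, ← mul_assoc, hc']
        ring
    · refine ⟨k, Finset.mem_cons.mpr (Or.inr hk), v * u, hvu, fun j hj => ?_⟩
      rcases Finset.mem_cons.mp hj with rfl | hj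
      · obtain ⟨c', hc'⟩ := h
        refine ⟨u * c', ?_⟩
        rw [mul_comm v u, mul_assoc, hc']
        ring
      · obtain ⟨c, hc⟩ := hkall j hj
        refine ⟨v * c, ?_⟩
        rw [mul_assoc, hc]
        ring

/-- copied from helper3's `GoingDownFib.algebraicIndependent_mk_iff` (to avoid heavy imports) -/
theorem algebraicIndependent_mk_iff {A B : Type u} [CommRing A] [CommRing B] [Algebra A B]
    {d : ℕ} (t : Fin d → B) (R : Ideal B) [R.IsPrime] :
    AlgebraicIndependent (A ⧸ R.under A) (fun i => Ideal.Quotient.mk R (t i)) ↔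
      R.comap (MvPolynomial.aeval (R := A) t).toRingHom =
        Ideal.map (MvPolynomial.C : A →+* MvPolynomial (Fin d) A) (R.under A) := by
  set r := R.under A with hr
  have hcomp : ∀ g : MvPolynomial (Fin d) A,
      MvPolynomial.aeval (R := A ⧸ r) (fun i => Ideal.Quotient.mk R (t i))
        (MvPolynomial.map (Ideal.Quotient.mk r) g) =
      Ideal.Quotient.mk R (MvPolynomial.aeval (R := A) t g) := by
    intro g
    induction g using MvPolynomial.induction_on with
    | C a =>
      simp only [MvPolynomial.map_C, MvPolynomial.aeval_C]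
      rfl
    | add p q hp hq => simp only [map_add, hp, hq]
    | mul_X p i hp => simp only [map_mul, hp, MvPolynomial.map_X, MvPolynomial.aeval_X]
  have hker := MvPolynomial.ker_map (σ := Fin d) (Ideal.Quotient.mk r)
  rw [Ideal.mk_ker] at hker
  rw [← hker]
  constructor
  · intro h
    have hinj : Function.Injective _ := h
    ext g
    rw [Ideal.mem_comap, RingHom.mem_ker]
    constructor
    · intro hg
      apply hinj
      rw [hcomp, map_zero]
      exact Ideal.Quotient.eq_zero_iff_mem.mpr hg
    · intro hg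
      have := hcomp g
      rw [hg, map_zero] at this
      exact Ideal.Quotient.eq_zero_iff_mem.mp this.symm
  · intro h
    rw [algebraicIndependent_iff_injective_aeval, injective_iff_map_eq_zero]
    intro g hg
    obtain ⟨g, rfl⟩ := MvPolynomial.map_surjective _ Ideal.Quotient.mk_surjective g
    rw [hcomp] at hg
    have h1 : g ∈ R.comap (MvPolynomial.aeval (R := A) t).toRingHom := by
      rw [Ideal.mem_comap]
      exact Ideal.Quotient.eq_zero_iff_mem.mp hg
    rw [h] at h1
    exact h1

/-- if divisibility in `A` is total up to elements outside `Q ∩ A`, algebraic independence modulo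
a prime `Q` implies algebraic independence modulo any smaller prime `P`. -/
theorem algebraicIndependent_mk_of_le {A B : Type u} [CommRing A] [CommRing B] [Algebra A B]
    (P Q : Ideal B) [P.IsPrime] [Q.IsPrime] (hPQ : P ≤ Q) (hdvd : DvdLoc (Q.under A))
    {d : ℕ} (t : Fin d → B)
    (ht : AlgebraicIndependent (A ⧸ Q.under A) (fun i => Ideal.Quotient.mk Q (t i))) :
    AlgebraicIndependent (A ⧸ P.under A) (fun i => Ideal.Quotient.mk P (t i)) := by
  classical
  rw [algebraicIndependent_mk_iff] at ht ⊢
  have hpq : P.under A ≤ Q.under A := Ideal.comap_mono hPQ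
  apply le_antisymm
  · intro g hg
    rw [Ideal.mem_comap] at hg
    rw [MvPolynomial.mem_map_C_iff]
    by_contra hcon
    push Not at hcon
    obtain ⟨m₀, hm₀⟩ := hcon
    have hsupp : g.support.Nonempty := ⟨m₀, by
      rw [MvPolynomial.mem_support_iff]
      intro h0
      rw [h0] at hm₀
      exact hm₀ (Ideal.zero_mem _)⟩
    obtain ⟨I₀, hI₀, u, hu, hall⟩ := exists_dvd_all (Q.under A) hdvd g.support hsupp
      (fun m => g.coeff m)
    have hI₀p : g.coeff I₀ ∉ P.under A := by
      intro h
      apply hm₀
      by_cases hm : m₀ ∈ g.support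
      · obtain ⟨c, hc⟩ := hall m₀ hm
        have h1 : u * g.coeff m₀ ∈ P.under A := by
          rw [hc]
          exact Ideal.mul_mem_right _ _ h
        rcases (inferInstance : (P.under A).IsPrime).mem_or_mem h1 with h2 | h2
        · exact absurd (hpq h2) hu
        · exact h2
      · rw [MvPolynomial.notMem_support_iff.mp hm]
        exact Ideal.zero_mem _
    have hI₀P : algebraMap A B (g.coeff I₀) ∉ P := hI₀p
    choose! b hb using hall
    let g' : MvPolynomial (Fin d) A := ∑ m ∈ g.support, MvPolynomial.monomial m (b m)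
    have hg' : MvPolynomial.C u * g = MvPolynomial.C (g.coeff I₀) * g' := by
      ext m
      rw [MvPolynomial.coeff_C_mul, MvPolynomial.coeff_C_mul, MvPolynomial.coeff_sum]
      simp only [MvPolynomial.coeff_monomial]
      rw [Finset.sum_ite_eq' g.support m]
      split_ifs with hm
      · exact hb m hm
      · rw [MvPolynomial.notMem_support_iff.mp hm, mul_zero, mul_zero]
    have hcoeff : g'.coeff I₀ = b I₀ := by
      rw [MvPolynomial.coeff_sum]
      simp only [MvPolynomial.coeff_monomial]
      rw [Finset.sum_ite_eq' g.support I₀, if_pos hI₀]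
    have hev : algebraMap A B u * MvPolynomial.aeval t g =
        algebraMap A B (g.coeff I₀) * MvPolynomial.aeval t g' := by
      have := congrArg (MvPolynomial.aeval (R := A) t) hg'
      rwa [map_mul, map_mul, MvPolynomial.aeval_C, MvPolynomial.aeval_C] at this
    have hg'P : MvPolynomial.aeval t g' ∈ P := by
      have h1 : algebraMap A B (g.coeff I₀) * MvPolynomial.aeval t g' ∈ P := by
        rw [← hev]
        exact Ideal.mul_mem_left _ _ hg
      rcases Ideal.IsPrime.mem_or_mem inferInstance h1 with h | h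
      · exact absurd h hI₀P
      · exact h
    have hg'Q : g' ∈ Q.comap (MvPolynomial.aeval (R := A) t).toRingHom := by
      rw [Ideal.mem_comap]
      exact hPQ hg'P
    rw [ht, MvPolynomial.mem_map_C_iff] at hg'Q
    have hbq : b I₀ ∈ Q.under A := by
      have := hg'Q I₀
      rwa [hcoeff] at this
    have h1 : g.coeff I₀ * (u - b I₀) ∈ P.under A := by
      have : g.coeff I₀ * (u - b I₀) = 0 := by
        rw [mul_sub, ← hb I₀ hI₀]
        ring
      rw [this]
      exact Ideal.zero_mem _
    have h2 : u - b I₀ ∈ P.under A := by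
      rcases Ideal.IsPrime.mem_or_mem inferInstance h1 with h | h
      · exact absurd h hI₀p
      · exact h
    have h3 : u - b I₀ ∈ Q.under A := hpq h2
    have h4 : u ∈ Q.under A := by
      have := Ideal.add_mem _ h3 hbq
      rwa [sub_add_cancel] at this
    exact hu h4
  · refine Ideal.map_le_iff_le_comap.mpr fun a ha => ?_
    rw [Ideal.mem_comap, Ideal.mem_comap]
    have h1 : (MvPolynomial.aeval (R := A) t).toRingHom (MvPolynomial.C a) = algebraMap A B a :=
      MvPolynomial.aeval_C t a
    rw [h1]
    exact ha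

theorem exists_fin_algebraicIndependent {R T : Type u} [CommRing R] [CommRing T] [Algebra R T]
    [FaithfulSMul R T] [Nontrivial R] [NoZeroDivisors T] (d : ℕ) (h : Algebra.trdeg R T = d) :
    ∃ s : Fin d → T, AlgebraicIndependent R s := by
  obtain ⟨ι, x, hx⟩ := exists_isTranscendenceBasis' R (A := T)
  have h1 := hx.cardinalMk_eq_trdeg
  rw [h] at h1
  obtain ⟨e⟩ := Cardinal.mk_eq_nat_iff.mp h1
  exact ⟨x ∘ e.symm, hx.1.comp e.symm e.symm.injective⟩

theorem exists_lift_algebraicIndependent {A B : Type u} [CommRing A] [CommRing B] [Algebra A B]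
    (Q : Ideal B) [Q.IsPrime] (d : ℕ) (h : Algebra.trdeg (A ⧸ Q.under A) (B ⧸ Q) = d) :
    ∃ t : Fin d → B, AlgebraicIndependent (A ⧸ Q.under A) (fun i => Ideal.Quotient.mk Q (t i)) := by
  obtain ⟨s, hs⟩ := exists_fin_algebraicIndependent d h
  choose t ht using fun i => Ideal.Quotient.mk_surjective (s i)
  refine ⟨t, ?_⟩
  have : (fun i => Ideal.Quotient.mk Q (t i)) = s := funext ht
  rw [this]
  exact hs

/-- **generization does not decrease the transcendence degree of the residue field extension**
(for a finite type algebra over a ring whose localization at `Q ∩ A` has total divisibility). -/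
theorem trdeg_le_of_le {A B : Type u} [CommRing A] [CommRing B] [Algebra A B]
    [Algebra.FiniteType A B]
    (P Q : Ideal B) [P.IsPrime] [Q.IsPrime] (hPQ : P ≤ Q) (hdvd : DvdLoc (Q.under A)) :
    Algebra.trdeg (A ⧸ Q.under A) (B ⧸ Q) ≤ Algebra.trdeg (A ⧸ P.under A) (B ⧸ P) := by
  haveI : Algebra.FiniteType (A ⧸ Q.under A) (B ⧸ Q) :=
    Algebra.FiniteType.of_restrictScalars_finiteType A (A ⧸ Q.under A) (B ⧸ Q)
  have hfin := trdeg_lt_aleph0_of_finiteType (R := A ⧸ Q.under A) (S := B ⧸ Q)
  obtain ⟨n, hn⟩ := Cardinal.lt_aleph0.mp hfin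
  obtain ⟨t, ht⟩ := exists_lift_algebraicIndependent Q n hn
  have htP := algebraicIndependent_mk_of_le P Q hPQ hdvd t ht
  have hcard := htP.lift_cardinalMk_le_trdeg
  rw [hn]
  simpa using hcard

end Groth.Agent.Lib.Helper22.PruferDim
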