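import Mathlib
import Groth.Agent.Lib.Helper4FibDimE
import Groth.Agent.Lib.Helper14LocalDim
import Groth.Agent.Lib.Helper4DimFormulaG

set_option autoImplicit false
set_option linter.unusedSectionVars false
set_option linter.unusedVariables false
set_option linter.style.haveILetI false

/-!
# Dimension theory over Prüfer domains, part B: local dimension of fibres in terms of heights in
the fibre ring and transcendence degrees
-/

universe u

open TensorProduct PrimeSpectrum

namespace Groth.Agent.Lib.Helper22.PruferDim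

open Groth.Agent.Lib.Helper4.FibDim Groth.Agent.Lib.Helper4.DimFormula
  Groth.Agent.Lib.Helper14.LocalDim

variable {R S : Type u} [CommRing R] [CommRing S] [Algebra R S]

/-- the point of the fibre ring corresponding to a prime of `S` -/
noncomputable def fibPt (x : PrimeSpectrum S) :
    PrimeSpectrum ((PrimeSpectrum.comap (algebraMap R S) x).asIdeal.Fiber S) :=
  PrimeSpectrum.preimageHomeomorphFiber R S (PrimeSpectrum.comap (algebraMap R S) x) ⟨x, rfl⟩

theorem comap_fibPt (x : PrimeSpectrum S) :
    (fibPt (R := R) x).asIdeal.comap Algebra.TensorProduct.includeRight.toRingHom = x.asIdeal := by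
  have h := (PrimeSpectrum.preimageHomeomorphFiber R S
    (PrimeSpectrum.comap (algebraMap R S) x)).symm_apply_apply ⟨x, rfl⟩
  have h2 := congrArg (fun z => z.1.asIdeal) h
  exact h2

theorem mem_fibPt_iff (x : PrimeSpectrum S) (s : S) :
    (1 : (PrimeSpectrum.comap (algebraMap R S) x).asIdeal.ResidueField) ⊗ₜ[R] s ∈
      (fibPt (R := R) x).asIdeal ↔ s ∈ x.asIdeal := by
  rw [← comap_fibPt (R := R) x, Ideal.mem_comap]
  rfl

variable [Algebra.FiniteType R S]

/-- **local dimension of the fibre through `x`**: height in the fibre ring plus the transcendence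
degree of the residue field extension. -/
theorem fibLD_eq (x : PrimeSpectrum S) :
    ∃ h e : ℕ, (fibPt (R := R) x).asIdeal.height = h ∧
      Algebra.trdeg (R ⧸ x.asIdeal.under R) (S ⧸ x.asIdeal) = e ∧
      ringKrullDim ((PrimeSpectrum.comap (algebraMap R S) x).asIdeal.Fiber S ⧸
        (fibPt (R := R) x).asIdeal) = e ∧
      fibLD (PrimeSpectrum.comap (algebraMap R S)) x = ((h + e : ℕ) : WithBot ℕ∞) := by
  set y := PrimeSpectrum.comap (algebraMap R S) x with hy
  set k := y.asIdeal.ResidueField with hk
  set A := y.asIdeal.Fiber S with hA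
  set xF := fibPt (R := R) x with hxF
  obtain ⟨n, e, hn, he, htr, hmax⟩ := exists_dims (k := k) xF.asIdeal
  refine ⟨n, e, hn, ?_, he, ?_⟩
  · -- the transcendence degree
    rw [← htr]
    set L := xF.asIdeal.ResidueField with hL
    letI algKL : Algebra k L := IsLocalRing.ResidueField.algebra (Localization.AtPrime xF.asIdeal)
    have hKAL : ∀ c : k, algebraMap k L c = algebraMap A L (algebraMap k A c) := fun c => rfl
    let evA : R →+* k := algebraMap R k
    let evB : S →+* L := (algebraMap A L).comp Algebra.TensorProduct.includeRight.toRingHom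
    have hunder : x.asIdeal.under R = y.asIdeal := rfl
    symm
    refine trdeg_eq_trdeg_quotient evA evB ?_ (x.asIdeal.under R) x.asIdeal ?_ ?_ ?_ ?_
    · intro a
      change algebraMap A L ((1 : k) ⊗ₜ[R] (algebraMap R S a)) = algebraMap k L (algebraMap R k a)
      rw [hKAL]
      congr 1
      rw [Algebra.TensorProduct.algebraMap_apply, Algebra.algebraMap_self, RingHom.id_apply,
        Algebra.algebraMap_eq_smul_one, Algebra.algebraMap_eq_smul_one (A := k), smul_tmul]
    · intro a
      exact (Ideal.algebraMap_residueField_eq_zero (I := y.asIdeal)).symm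
    · intro b
      change b ∈ x.asIdeal ↔ algebraMap A L ((1 : k) ⊗ₜ[R] b) = 0
      rw [Ideal.algebraMap_residueField_eq_zero, mem_fibPt_iff]
    · intro z
      obtain ⟨a, s, hs, rfl⟩ := IsFractionRing.div_surjective (A := R ⧸ y.asIdeal) z
      obtain ⟨a, rfl⟩ := Ideal.Quotient.mk_surjective a
      obtain ⟨s, rfl⟩ := Ideal.Quotient.mk_surjective s
      exact ⟨a, s, rfl⟩
    · intro z
      obtain ⟨w, rfl⟩ := IsLocalRing.residue_surjective z
      obtain ⟨⟨a, s⟩, rfl⟩ := IsLocalization.mk'_surjective xF.asIdeal.primeCompl w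
      dsimp only
      have hs0 : algebraMap A L (s : A) ≠ 0 := by
        intro h0
        rw [Ideal.algebraMap_residueField_eq_zero] at h0
        exact s.2 h0
      have hmul : IsLocalRing.residue (Localization.AtPrime xF.asIdeal)
          (IsLocalization.mk' (Localization.AtPrime xF.asIdeal) a s) * algebraMap A L (s : A) =
          algebraMap A L a := by
        have h1 : algebraMap A L (s : A) = IsLocalRing.residue (Localization.AtPrime xF.asIdeal)
            (algebraMap A (Localization.AtPrime xF.asIdeal) (s : A)) := rfl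
        have h2 : algebraMap A L a = IsLocalRing.residue (Localization.AtPrime xF.asIdeal)
            (algebraMap A (Localization.AtPrime xF.asIdeal) a) := rfl
        rw [h1, h2, ← map_mul, IsLocalization.mk'_spec]
      have hz : IsLocalRing.residue (Localization.AtPrime xF.asIdeal)
          (IsLocalization.mk' (Localization.AtPrime xF.asIdeal) a s) =
          algebraMap A L a / algebraMap A L (s : A) := eq_div_of_mul_eq hs0 hmul
      rw [hz]
      obtain ⟨r₁, hr₁, a₁, ha₁⟩ := Ideal.Fiber.exists_smul_eq_one_tmul y.asIdeal a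
      obtain ⟨r₂, hr₂, s₁, hs₁⟩ := Ideal.Fiber.exists_smul_eq_one_tmul y.asIdeal (s : A)
      have hev : ∀ (r : R) (c : A) (c₁ : S), r • c = (1 : k) ⊗ₜ[R] c₁ →
          evB (algebraMap R S r) * algebraMap A L c = evB c₁ := by
        intro r c c₁ h
        change algebraMap A L ((1 : k) ⊗ₜ[R] (algebraMap R S r)) * algebraMap A L c =
          algebraMap A L ((1 : k) ⊗ₜ[R] c₁)
        rw [← h, ← map_mul]
        congr 1
        have e : (1 : k) ⊗ₜ[R] (algebraMap R S r) = (algebraMap R k r) ⊗ₜ[R] (1 : S) := by
          rw [Algebra.algebraMap_eq_smul_one (A := S) r, Algebra.algebraMap_eq_smul_one (A := k) r,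
            TensorProduct.smul_tmul]
        rw [e, Algebra.smul_def, Algebra.TensorProduct.algebraMap_apply]
      have hne : ∀ r : R, r ∉ y.asIdeal → evB (algebraMap R S r) ≠ 0 := by
        intro r hr h0
        have : algebraMap A L ((1 : k) ⊗ₜ[R] (algebraMap R S r)) = 0 := h0
        rw [Ideal.algebraMap_residueField_eq_zero, mem_fibPt_iff] at this
        exact hr this
      have h1 := hev r₁ a a₁ ha₁
      have h2 := hev r₂ (s : A) s₁ hs₁
      refine ⟨a₁ * algebraMap R S r₂, s₁ * algebraMap R S r₁, ?_⟩
      rw [map_mul, map_mul, ← h1, ← h2]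
      have hr1 := hne r₁ hr₁
      have hr2 := hne r₂ hr₂
      rw [div_eq_div_iff hs0 (mul_ne_zero (mul_ne_zero hr2 hs0) hr1)]
      ring
  · -- the local dimension
    rw [fibLD_comap_eq]
    exact localDim_eq (k := k) xF.asIdeal n e hn he hmax

/-- version over an arbitrary point of the base -/
theorem dim_fibre_quot (y : PrimeSpectrum R)
    (z : PrimeSpectrum.comap (algebraMap R S) ⁻¹' {y}) :
    ∃ e : ℕ, Algebra.trdeg (R ⧸ z.1.asIdeal.under R) (S ⧸ z.1.asIdeal) = e ∧
      ringKrullDim (y.asIdeal.Fiber S ⧸
        (PrimeSpectrum.preimageHomeomorphFiber R S y z).asIdeal) = e := by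
  obtain ⟨x, hx⟩ := z
  have hx' : PrimeSpectrum.comap (algebraMap R S) x = y := hx
  subst hx'
  obtain ⟨h, e, -, h2, h3, -⟩ := fibLD_eq (R := R) x
  exact ⟨e, h2, h3⟩

/-- a point which is minimal in its fibre gives a minimal prime of the fibre ring -/
theorem height_fibPt_eq_zero (x : PrimeSpectrum S)
    (hmin : ∀ x' : PrimeSpectrum S, x' ≤ x →
      PrimeSpectrum.comap (algebraMap R S) x' = PrimeSpectrum.comap (algebraMap R S) x → x' = x) :
    (fibPt (R := R) x).asIdeal.height = 0 := by
  rw [Ideal.height_eq_zero_iff, minimalPrimes_eq_minimals]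
  refine ⟨(fibPt (R := R) x).isPrime, ?_⟩
  intro J hJprime hJle
  let e := PrimeSpectrum.preimageOrderIsoFiber R S (PrimeSpectrum.comap (algebraMap R S) x)
  let J' : PrimeSpectrum ((PrimeSpectrum.comap (algebraMap R S) x).asIdeal.Fiber S) :=
    ⟨J, hJprime⟩
  have hfib : fibPt (R := R) x = e ⟨x, rfl⟩ := rfl
  have h1 : e.symm J' ≤ e.symm (fibPt (R := R) x) := e.symm.monotone hJle
  have h2 : e.symm (fibPt (R := R) x) = ⟨x, rfl⟩ := by rw [hfib]; exact e.symm_apply_apply _
  rw [h2] at h1
  have h3 := hmin (e.symm J').1 h1 (e.symm J').2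
  have h4 : e.symm J' = ⟨x, rfl⟩ := Subtype.ext h3
  have h5 : J' = fibPt (R := R) x := by
    rw [hfib, ← h4]
    exact (e.apply_symm_apply J').symm
  exact (congrArg PrimeSpectrum.asIdeal h5).ge

/-- **Chevalley**: the residue field at a point minimal in its fibre has transcendence degree at
least that of the generic point. -/
theorem trdeg_generic_le_of_minimal [IsDomain S] (x : PrimeSpectrum S)
    (hmin : ∀ x' : PrimeSpectrum S, x' ≤ x →
      PrimeSpectrum.comap (algebraMap R S) x' = PrimeSpectrum.comap (algebraMap R S) x → x' = x) :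
    Algebra.trdeg (R ⧸ (⊥ : Ideal S).under R) (S ⧸ (⊥ : Ideal S)) ≤
      Algebra.trdeg (R ⧸ x.asIdeal.under R) (S ⧸ x.asIdeal) := by
  let η : PrimeSpectrum S := ⟨⊥, Ideal.isPrime_bot⟩
  obtain ⟨h, e, hh, he, -, hld⟩ := fibLD_eq (R := R) x
  obtain ⟨h', e', -, he', -, hld'⟩ := fibLD_eq (R := R) η
  have hh0 : h = 0 := by
    have := height_fibPt_eq_zero (R := R) x hmin
    rw [hh] at this
    exact_mod_cast this
  subst hh0
  have hopen := isOpen_setOf_fibLD_comap_le R S e
  have hx : x ∈ {q : PrimeSpectrum S |
      fibLD (PrimeSpectrum.comap (algebraMap R S)) q ≤ (e : WithBot ℕ∞)} := by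
    rw [Set.mem_ofPred_eq, hld, zero_add]
  have hsp : η ⤳ x := (PrimeSpectrum.le_iff_specializes η x).mp bot_le
  have hη := hsp.mem_open hopen hx
  rw [Set.mem_ofPred_eq, hld'] at hη
  have hle : h' + e' ≤ e := by exact_mod_cast hη
  rw [he, he']
  exact_mod_cast (Nat.le_add_left e' h').trans hle

end Groth.Agent.Lib.Helper22.PruferDim
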