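import Mathlib
import Groth.Agent.Lib.Helper22PruferDimB
import Groth.Agent.Lib.Helper4DimFormulaF
import Groth.Agent.Lib.Helper4VarDim

set_option autoImplicit false
set_option linter.unusedSectionVars false
set_option linter.unusedVariables false
set_option linter.style.haveILetI false

/-!
# Dimension theory over Prüfer domains, part C: Chevalley and the fibre case in ideal form
-/

universe u

open TensorProduct PrimeSpectrum

namespace Groth.Agent.Lib.Helper22.PruferDim

open Groth.Agent.Lib.Helper4.DimFormula Groth.Agent.Lib.Helper4.VarDim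

variable {R S : Type u} [CommRing R] [CommRing S] [Algebra R S] [Algebra.FiniteType R S]

/-- **Chevalley, ideal form**: if `Q` is minimal among the primes of its fibre containing `P`, the
transcendence degree of the residue field extension at `P` is at most that at `Q`. -/
theorem trdeg_le_of_minimal_in_fibre
    (P Q : Ideal S) [P.IsPrime] [Q.IsPrime] (hPQ : P ≤ Q)
    (hmin : ∀ Q' : Ideal S, Q'.IsPrime → P ≤ Q' → Q' ≤ Q → Q'.under R = Q.under R → Q' = Q) :
    Algebra.trdeg (R ⧸ P.under R) (S ⧸ P) ≤ Algebra.trdeg (R ⧸ Q.under R) (S ⧸ Q) := by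
  haveI : Algebra.FiniteType R (S ⧸ P) :=
    Algebra.FiniteType.of_surjective (Ideal.Quotient.mkₐ R P) (Ideal.Quotient.mkₐ_surjective R P)
  have hker : RingHom.ker (Ideal.Quotient.mk P) ≤ Q := by rwa [Ideal.mk_ker]
  haveI hQ₁ : (Q.map (Ideal.Quotient.mk P)).IsPrime :=
    Ideal.map_isPrime_of_surjective Ideal.Quotient.mk_surjective hker
  have hcm : (Q.map (Ideal.Quotient.mk P)).comap (Ideal.Quotient.mk P) = Q := by
    rw [Ideal.comap_map_of_surjective _ Ideal.Quotient.mk_surjective, ← RingHom.ker_eq_comap_bot,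
      Ideal.mk_ker]
    exact sup_eq_left.mpr hPQ
  have hcomp : ∀ J : Ideal (S ⧸ P), J.under R = (J.comap (Ideal.Quotient.mk P)).under R := by
    intro J
    rfl
  let x : PrimeSpectrum (S ⧸ P) := ⟨Q.map (Ideal.Quotient.mk P), hQ₁⟩
  have hx : ∀ x' : PrimeSpectrum (S ⧸ P), x' ≤ x →
      PrimeSpectrum.comap (algebraMap R (S ⧸ P)) x' = PrimeSpectrum.comap (algebraMap R (S ⧸ P)) x →
      x' = x := by
    intro x' hle hco
    have h1 : P ≤ x'.asIdeal.comap (Ideal.Quotient.mk P) := by
      intro a ha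
      rw [Ideal.mem_comap, Ideal.Quotient.eq_zero_iff_mem.mpr ha]
      exact Ideal.zero_mem _
    have h2 : x'.asIdeal.comap (Ideal.Quotient.mk P) ≤ Q := by
      rw [← hcm]
      exact Ideal.comap_mono hle
    have h3 : (x'.asIdeal.comap (Ideal.Quotient.mk P)).under R = Q.under R := by
      rw [← hcomp]
      have := congrArg PrimeSpectrum.asIdeal hco
      rw [PrimeSpectrum.comap_asIdeal, PrimeSpectrum.comap_asIdeal] at this
      change x'.asIdeal.under R = (Q.map (Ideal.Quotient.mk P)).under R at this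
      rw [this, hcomp, hcm]
    have h4 := hmin _ (Ideal.comap_isPrime _ _) h1 h2 h3
    apply PrimeSpectrum.ext
    change x'.asIdeal = Q.map (Ideal.Quotient.mk P)
    rw [← h4, Ideal.map_comap_of_surjective _ Ideal.Quotient.mk_surjective]
  have key := trdeg_generic_le_of_minimal (R := R) (S := S ⧸ P) x hx
  -- translate the two sides
  have hbotu : (⊥ : Ideal (S ⧸ P)).under R = P.under R := by
    rw [hcomp, ← RingHom.ker_eq_comap_bot, Ideal.mk_ker]
  have hxu : (Q.map (Ideal.Quotient.mk P)).under R = Q.under R := by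
    rw [hcomp, hcm]
  haveI : ((⊥ : Ideal (S ⧸ P)).under R).IsPrime := by rw [hbotu]; infer_instance
  haveI : ((Q.map (Ideal.Quotient.mk P)).under R).IsPrime := by rw [hxu]; infer_instance
  have e1 : Algebra.trdeg (R ⧸ (⊥ : Ideal (S ⧸ P)).under R) ((S ⧸ P) ⧸ (⊥ : Ideal (S ⧸ P))) =
      Algebra.trdeg (R ⧸ P.under R) (S ⧸ P) := by
    refine trdeg_eq_of_ringEquiv (Ideal.quotEquivOfEq hbotu) (RingEquiv.quotientBot (S ⧸ P)) ?_
    intro k
    obtain ⟨r, rfl⟩ := Ideal.Quotient.mk_surjective k
    rfl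
  have e2 : Algebra.trdeg (R ⧸ (Q.map (Ideal.Quotient.mk P)).under R)
      ((S ⧸ P) ⧸ Q.map (Ideal.Quotient.mk P)) = Algebra.trdeg (R ⧸ Q.under R) (S ⧸ Q) := by
    refine trdeg_eq_of_ringEquiv (Ideal.quotEquivOfEq hxu)
      (DoubleQuot.quotQuotEquivQuotOfLE hPQ) ?_
    intro k
    obtain ⟨r, rfl⟩ := Ideal.Quotient.mk_surjective k
    rfl
  rw [← e1, ← e2]
  exact key

/-- **two primes in the same fibre**: the transcendence degree drops by the (positive) height of
`Q/P` in the fibre; it drops by exactly one if `Q` covers `P`. -/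
theorem same_fibre (P Q : Ideal S) [P.IsPrime] [Q.IsPrime] (hPQ : P < Q)
    (hu : P.under R = Q.under R) :
    ∃ c : ℕ, 1 ≤ c ∧
      Algebra.trdeg (R ⧸ P.under R) (S ⧸ P) = Algebra.trdeg (R ⧸ Q.under R) (S ⧸ Q) + c ∧
      ((∀ Q' : Ideal S, Q'.IsPrime → P ≤ Q' → Q' ≤ Q → Q' = P ∨ Q' = Q) → c = 1) := by
  let y : PrimeSpectrum R := ⟨Q.under R, inferInstance⟩
  let xP : PrimeSpectrum S := ⟨P, inferInstance⟩
  let xQ : PrimeSpectrum S := ⟨Q, inferInstance⟩
  have hyP : PrimeSpectrum.comap (algebraMap R S) xP = y := PrimeSpectrum.ext hu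
  let zP : PrimeSpectrum.comap (algebraMap R S) ⁻¹' {y} := ⟨xP, hyP⟩
  let zQ : PrimeSpectrum.comap (algebraMap R S) ⁻¹' {y} := ⟨xQ, rfl⟩
  let e := PrimeSpectrum.preimageOrderIsoFiber R S y
  have heq : ∀ z, PrimeSpectrum.preimageHomeomorphFiber R S y z = e z := fun z => rfl
  obtain ⟨eP, htP, hdP⟩ := dim_fibre_quot (R := R) y zP
  obtain ⟨eQ, htQ, hdQ⟩ := dim_fibre_quot (R := R) y zQ
  rw [heq] at hdP hdQ
  have hle : (e zP).asIdeal ≤ (e zQ).asIdeal := by
    have h1 : zP ≤ zQ := hPQ.le
    exact e.monotone h1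
  have hne : (e zP).asIdeal ≠ (e zQ).asIdeal := by
    intro h
    have h1 : e zP = e zQ := PrimeSpectrum.ext h
    have h2 := e.injective h1
    have h3 : P = Q := congrArg (fun z => z.1.asIdeal) h2
    exact hPQ.ne h3
  obtain ⟨m, c, hcm, h1, h2, h3⟩ := exists_height_quotient (k := y.asIdeal.ResidueField)
    (e zP).asIdeal (e zQ).asIdeal hle
  have hm : eP = m := by
    have : (eP : WithBot ℕ∞) = m := hdP.symm.trans h1
    exact_mod_cast this
  have hmc : eQ = m - c := by
    have : (eQ : WithBot ℕ∞) = (m - c : ℕ) := hdQ.symm.trans h3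
    exact_mod_cast this
  haveI hprime : ((e zQ).asIdeal.map (Ideal.Quotient.mk (e zP).asIdeal)).IsPrime :=
    Ideal.map_isPrime_of_surjective Ideal.Quotient.mk_surjective (by rwa [Ideal.mk_ker])
  have hc0 : c ≠ 0 := by
    intro hc
    rw [hc, Nat.cast_zero, Ideal.height_eq_zero_iff_eq_bot, Ideal.map_eq_bot_iff_le_ker,
      Ideal.mk_ker] at h2
    exact hne (le_antisymm hle h2)
  refine ⟨c, Nat.one_le_iff_ne_zero.mpr hc0, ?_, ?_⟩
  · change Algebra.trdeg (R ⧸ zP.1.asIdeal.under R) (S ⧸ zP.1.asIdeal) =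
      Algebra.trdeg (R ⧸ zQ.1.asIdeal.under R) (S ⧸ zQ.1.asIdeal) + c
    rw [htP, htQ, hm, hmc]
    have : m = (m - c) + c := by omega
    exact_mod_cast this
  · intro hcov
    have hc1 : ((e zQ).asIdeal.map (Ideal.Quotient.mk (e zP).asIdeal)).height ≤ (1 : ℕ) := by
      rw [Ideal.height_le_iff]
      intro q' hq' hlt
      have hbot : q' = ⊥ := by
        let J : PrimeSpectrum (y.asIdeal.Fiber S) :=
          ⟨q'.comap (Ideal.Quotient.mk (e zP).asIdeal), Ideal.comap_isPrime _ _⟩
        have hJ1 : e zP ≤ J := by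
          intro a ha
          change Ideal.Quotient.mk (e zP).asIdeal a ∈ q'
          rw [Ideal.Quotient.eq_zero_iff_mem.mpr ha]
          exact Ideal.zero_mem _
        have hcm' : ((e zQ).asIdeal.map (Ideal.Quotient.mk (e zP).asIdeal)).comap
            (Ideal.Quotient.mk (e zP).asIdeal) = (e zQ).asIdeal := by
          rw [Ideal.comap_map_of_surjective _ Ideal.Quotient.mk_surjective,
            ← RingHom.ker_eq_comap_bot, Ideal.mk_ker]
          exact sup_eq_left.mpr hle
        have hJ2 : J ≤ e zQ := by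
          change J.asIdeal ≤ (e zQ).asIdeal
          rw [← hcm']
          exact Ideal.comap_mono hlt.le
        have hJ1' : zP ≤ e.symm J := by
          rw [← e.symm_apply_apply zP]
          exact e.symm.monotone hJ1
        have hJ2' : e.symm J ≤ zQ := by
          rw [← e.symm_apply_apply zQ]
          exact e.symm.monotone hJ2
        rcases hcov (e.symm J).1.asIdeal (e.symm J).1.isPrime hJ1' hJ2' with h | h
        · have h4 : e.symm J = zP := Subtype.ext (PrimeSpectrum.ext h)
          have h5 : J = e zP := by rw [← h4, e.apply_symm_apply]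
          have h6 : q'.comap (Ideal.Quotient.mk (e zP).asIdeal) = (e zP).asIdeal :=
            congrArg PrimeSpectrum.asIdeal h5
          rw [← Ideal.map_comap_of_surjective _ Ideal.Quotient.mk_surjective q', h6,
            Ideal.map_quotient_self]
        · exfalso
          have h4 : e.symm J = zQ := Subtype.ext (PrimeSpectrum.ext h)
          have h5 : J = e zQ := by rw [← h4, e.apply_symm_apply]
          have h6 : q'.comap (Ideal.Quotient.mk (e zP).asIdeal) = (e zQ).asIdeal :=
            congrArg PrimeSpectrum.asIdeal h5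
          have h7 : q' = (e zQ).asIdeal.map (Ideal.Quotient.mk (e zP).asIdeal) := by
            rw [← h6, Ideal.map_comap_of_surjective _ Ideal.Quotient.mk_surjective]
          exact hlt.ne h7
      rw [hbot, Ideal.height_bot]
      exact_mod_cast Nat.one_pos
    rw [h2] at hc1
    have : c ≤ 1 := by exact_mod_cast hc1
    omega

end Groth.Agent.Lib.Helper22.PruferDim
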