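import Mathlib
import Groth.Agent.Lib.Helper22PruferDimA
import Groth.Agent.Lib.Helper22PruferDimC

set_option autoImplicit false
set_option linter.style.haveILetI false
set_option linter.unusedSectionVars false
set_option linter.unusedVariables false

universe u

open TensorProduct PrimeSpectrum

namespace Groth.Agent.Lib.Helper22.PruferDim

open Groth.Agent.Lib.Helper4.DimFormula

/-- quotients of (locally valuation) domains by primes are again locally valuation rings. -/
theorem prufer_quotient {R : Type*} [CommRing R] [IsDomain R]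
    (hR : ∀ (p : Ideal R) [p.IsPrime], ValuationRing (Localization.AtPrime p))
    (I : Ideal R) [I.IsPrime] (q : Ideal (R ⧸ I)) [q.IsPrime] :
    ValuationRing (Localization.AtPrime q) := by
  haveI := hR (q.comap (Ideal.Quotient.mk I))
  exact Function.Surjective.valuationRing _
    (RingHom.surjective_localRingHom_of_surjective (Ideal.Quotient.mk I)
      Ideal.Quotient.mk_surjective q)

/-- primes below a given prime of a locally valuation domain are totally ordered. -/
theorem prime_le_total {R : Type*} [CommRing R] [IsDomain R]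
    (q : Ideal R) [q.IsPrime] [ValuationRing (Localization.AtPrime q)]
    (p₁ p₂ : Ideal R) [p₁.IsPrime] [p₂.IsPrime] (h₁ : p₁ ≤ q) (h₂ : p₂ ≤ q) :
    p₁ ≤ p₂ ∨ p₂ ≤ p₁ := by
  have hdvd := dvdLoc_of_valuationRing q
  by_contra hcon
  push Not at hcon
  obtain ⟨hc1, hc2⟩ := hcon
  obtain ⟨a, ha1, ha2⟩ := SetLike.not_le_iff_exists.mp hc1
  obtain ⟨b, hb2, hb1⟩ := SetLike.not_le_iff_exists.mp hc2
  obtain ⟨s, hs, h | h⟩ := hdvd a b
  · -- a ∣ s * b, so s * b = a * c ∈ p₁; hence s ∈ p₁ or b ∈ p₁
    obtain ⟨c, hc⟩ := h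
    have : s * b ∈ p₁ := by rw [hc]; exact p₁.mul_mem_right _ ha1
    rcases (Ideal.IsPrime.mem_or_mem inferInstance this) with h' | h'
    · exact hs (h₁ h')
    · exact hb1 h'
  · obtain ⟨c, hc⟩ := h
    have : s * a ∈ p₂ := by rw [hc]; exact p₂.mul_mem_right _ hb2
    rcases (Ideal.IsPrime.mem_or_mem inferInstance this) with h' | h'
    · exact hs (h₂ h')
    · exact ha2 h'

/-- In a locally valuation domain, if no prime lies strictly between `p < q` then
`ht q = ht p + 1`. -/
theorem height_eq_add_one_of_covBy {R : Type*} [CommRing R] [IsDomain R]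
    (p q : Ideal R) [p.IsPrime] [q.IsPrime] [ValuationRing (Localization.AtPrime q)]
    (hpq : p < q)
    (hcov : ∀ p' : Ideal R, p'.IsPrime → p ≤ p' → p' ≤ q → p' = p ∨ p' = q) :
    q.height = p.height + 1 := by
  refine le_antisymm ?_ (Ideal.height_add_one_le_of_lt_of_isPrime hpq)
  rcases eq_or_ne p.height ⊤ with htop | hfin
  · rw [htop]; simp
  obtain ⟨n, hn⟩ := ENat.ne_top_iff_exists.mp hfin
  rw [← hn]
  have : ((n : ℕ∞) + 1) = ((n + 1 : ℕ) : ℕ∞) := by push_cast; rfl
  rw [this, Ideal.height_le_iff]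
  intro r hr hrq
  -- `r` and `p` are comparable
  have hrp : r ≤ p := by
    rcases prime_le_total q r p hrq.le hpq.le with h | h
    · exact h
    · rcases hcov r hr h hrq.le with h' | h'
      · exact h'.le
      · exact absurd h' hrq.ne
  calc r.height ≤ p.height := Ideal.height_mono hrp
    _ = (n : ℕ∞) := hn.symm
    _ < ((n + 1 : ℕ) : ℕ∞) := by exact_mod_cast Nat.lt_succ_self n

/-- Over a locally valuation domain, `S/P` is flat over `R/(P ∩ R)`. -/
theorem flat_quotient_of_prufer {R S : Type*} [CommRing R] [IsDomain R] [CommRing S] [Algebra R S]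
    (hR : ∀ (p : Ideal R) [p.IsPrime], ValuationRing (Localization.AtPrime p))
    (P : Ideal S) [P.IsPrime] :
    Module.Flat (R ⧸ P.under R) (S ⧸ P) := by
  rw [Module.Flat.flat_iff_torsion_eq_bot_of_valuationRing_localization_isMaximal
    (fun m _ => prufer_quotient hR (P.under R) m)]
  rw [← Submodule.isTorsionFree_iff_torsion_eq_bot]
  infer_instance

/-- going down for `R/(P ∩ R) → S/P`, in terms of ideals of `S`. -/
theorem exists_between_of_flat {R S : Type*} [CommRing R] [CommRing S] [Algebra R S]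
    (P Q : Ideal S) [P.IsPrime] [Q.IsPrime] (hPQ : P ≤ Q)
    [Module.Flat (R ⧸ P.under R) (S ⧸ P)]
    (p' : Ideal R) [p'.IsPrime] (h1 : P.under R ≤ p') (h2 : p' ≤ Q.under R) :
    ∃ P' : Ideal S, P'.IsPrime ∧ P ≤ P' ∧ P' ≤ Q ∧ P'.under R = p' := by
  have hker : RingHom.ker (Ideal.Quotient.mk P) ≤ Q := by rwa [Ideal.mk_ker]
  haveI hQ₁ : (Q.map (Ideal.Quotient.mk P)).IsPrime :=
    Ideal.map_isPrime_of_surjective Ideal.Quotient.mk_surjective hker
  have hker' : RingHom.ker (Ideal.Quotient.mk (P.under R)) ≤ p' := by rwa [Ideal.mk_ker]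
  haveI hp₁ : (p'.map (Ideal.Quotient.mk (P.under R))).IsPrime :=
    Ideal.map_isPrime_of_surjective Ideal.Quotient.mk_surjective hker'
  have hker'' : RingHom.ker (Ideal.Quotient.mk (P.under R)) ≤ Q.under R := by
    rw [Ideal.mk_ker]; exact h1.trans h2
  haveI hq₁ : ((Q.under R).map (Ideal.Quotient.mk (P.under R))).IsPrime :=
    Ideal.map_isPrime_of_surjective Ideal.Quotient.mk_surjective hker''
  haveI : (Q.map (Ideal.Quotient.mk P)).LiesOver ((Q.under R).map (Ideal.Quotient.mk (P.under R))) :=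
    liesOver_map_mk (P.under R) (Q.under R) P Q hPQ (h1.trans h2)
  obtain ⟨P₁, hP₁Q, hP₁prime, hP₁over⟩ :=
    Ideal.exists_ideal_le_liesOver_of_le (p := p'.map (Ideal.Quotient.mk (P.under R)))
      (q := (Q.under R).map (Ideal.Quotient.mk (P.under R))) (Q.map (Ideal.Quotient.mk P))
      (Ideal.map_mono h2)
  refine ⟨P₁.comap (Ideal.Quotient.mk P), inferInstance, ?_, ?_, ?_⟩
  · intro x hx
    rw [Ideal.mem_comap, Ideal.Quotient.eq_zero_iff_mem.mpr hx]
    exact P₁.zero_mem
  · intro x hx
    have : Ideal.Quotient.mk P x ∈ Q.map (Ideal.Quotient.mk P) := hP₁Q hx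
    rwa [Ideal.mem_quotient_iff_mem hPQ] at this
  · ext a
    have hov := hP₁over.over
    rw [Ideal.under_def, Ideal.mem_comap, Ideal.mem_comap]
    have : Ideal.Quotient.mk P (algebraMap R S a) =
        algebraMap (R ⧸ P.under R) (S ⧸ P) (Ideal.Quotient.mk (P.under R) a) := rfl
    rw [this, ← Ideal.mem_comap, ← Ideal.under_def, ← hov, Ideal.mem_quotient_iff_mem h1]


end Groth.Agent.Lib.Helper22.PruferDim
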