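import Mathlib
import Groth.Agent.Lib.Helper22PruferDimA
import Groth.Agent.Lib.Helper22PruferDimC
import Groth.Agent.Lib.Helper22PruferDimD1

set_option autoImplicit false
set_option linter.style.haveILetI false
set_option linter.unusedSectionVars false
set_option linter.unusedVariables false

universe u

open TensorProduct PrimeSpectrum

namespace Groth.Agent.Lib.Helper22.PruferDim

open Groth.Agent.Lib.Helper4.DimFormula

variable {R S : Type u} [CommRing R] [IsDomain R] [CommRing S] [Algebra R S]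
  [Algebra.FiniteType R S]

theorem exists_nat_trdeg (P : Ideal S) [P.IsPrime] :
    ∃ t : ℕ, Algebra.trdeg (R ⧸ P.under R) (S ⧸ P) = t := by
  haveI : Algebra.FiniteType R (S ⧸ P) :=
    Algebra.FiniteType.of_surjective (Ideal.Quotient.mkₐ R P) (Ideal.Quotient.mkₐ_surjective R P)
  haveI : Algebra.FiniteType (R ⧸ P.under R) (S ⧸ P) :=
    Algebra.FiniteType.of_restrictScalars_finiteType R (R ⧸ P.under R) (S ⧸ P)
  have hfin := trdeg_lt_aleph0_of_finiteType (R := R ⧸ P.under R) (S := S ⧸ P)
  obtain ⟨n, hn⟩ := Cardinal.lt_aleph0.mp hfin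
  exact ⟨n, hn⟩

theorem exists_nat_height (hdim : ringKrullDim R < ⊤) (p : Ideal R) [p.IsPrime] :
    ∃ h : ℕ, p.height = h := by
  have h1 : (p.height : WithBot ℕ∞) ≤ ringKrullDim R := Ideal.height_le_ringKrullDim_of_isPrime
  have h2 : p.height ≠ ⊤ := by
    intro h
    rw [h] at h1
    exact absurd (lt_of_le_of_lt h1 hdim) (lt_irrefl _)
  obtain ⟨n, hn⟩ := ENat.ne_top_iff_exists.mp h2
  exact ⟨n, hn.symm⟩

/-- **the key step** for the dimension function `δ(P) = trdeg(κ(P)/κ(p)) - ht p`. -/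
theorem step
    (hR : ∀ (p : Ideal R) [p.IsPrime], ValuationRing (Localization.AtPrime p))
    (hdim : ringKrullDim R < ⊤)
    (P Q : Ideal S) [P.IsPrime] [Q.IsPrime] (hPQ : P < Q) :
    ∃ tP tQ hP hQ : ℕ,
      Algebra.trdeg (R ⧸ P.under R) (S ⧸ P) = tP ∧
      Algebra.trdeg (R ⧸ Q.under R) (S ⧸ Q) = tQ ∧
      (P.under R).height = hP ∧ (Q.under R).height = hQ ∧
      tQ + hP < tP + hQ ∧
      ((∀ Q' : Ideal S, Q'.IsPrime → P ≤ Q' → Q' ≤ Q → Q' = P ∨ Q' = Q) →
        tP + hQ = tQ + hP + 1) := by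
  obtain ⟨tP, htP⟩ := exists_nat_trdeg (R := R) P
  obtain ⟨tQ, htQ⟩ := exists_nat_trdeg (R := R) Q
  obtain ⟨hP, hhP⟩ := exists_nat_height hdim (P.under R)
  obtain ⟨hQ, hhQ⟩ := exists_nat_height hdim (Q.under R)
  refine ⟨tP, tQ, hP, hQ, htP, htQ, hhP, hhQ, ?_⟩
  have hule : P.under R ≤ Q.under R := Ideal.comap_mono hPQ.le
  rcases eq_or_lt_of_le hule with hu | hlt
  · -- same fibre
    obtain ⟨c, hc1, hc2, hc3⟩ := same_fibre (R := R) P Q hPQ hu
    have hh : hP = hQ := by
      have : (hP : ℕ∞) = hQ := by rw [← hhP, ← hhQ, hu]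
      exact_mod_cast this
    have ht : tP = tQ + c := by
      rw [htP, htQ] at hc2
      exact_mod_cast hc2
    refine ⟨by omega, fun hcov => ?_⟩
    have := hc3 hcov
    omega
  · -- different fibres
    haveI := hR (Q.under R)
    have hdvd : DvdLoc (Q.under R) := dvdLoc_of_valuationRing (Q.under R)
    have h1 := trdeg_le_of_le (A := R) P Q hPQ.le hdvd
    rw [htP, htQ] at h1
    have h1' : tQ ≤ tP := by exact_mod_cast h1
    haveI : (Q.under R).FiniteHeight := by
      rw [Ideal.finiteHeight_iff]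
      right
      rw [hhQ]
      exact ENat.natCast_ne_top _
    have h2 := Ideal.height_strict_mono_of_isPrime_of_isPrime hlt
    rw [hhP, hhQ] at h2
    have h2' : hP < hQ := by exact_mod_cast h2
    refine ⟨by omega, fun hcov => ?_⟩
    -- no prime strictly between the contractions (going down)
    haveI := flat_quotient_of_prufer hR P
    have hcovR : ∀ p' : Ideal R, p'.IsPrime → P.under R ≤ p' → p' ≤ Q.under R →
        p' = P.under R ∨ p' = Q.under R := by
      intro p' hp' h1 h2
      obtain ⟨P', hP'prime, hPP', hP'Q, hP'u⟩ := exists_between_of_flat P Q hPQ.le p' h1 h2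
      rcases hcov P' hP'prime hPP' hP'Q with h | h
      · left; rw [← hP'u, h]
      · right; rw [← hP'u, h]
    have h3 := height_eq_add_one_of_covBy (P.under R) (Q.under R) hlt hcovR
    rw [hhP, hhQ] at h3
    have h3' : hQ = hP + 1 := by exact_mod_cast h3
    -- Chevalley
    have h4 := trdeg_le_of_minimal_in_fibre (R := R) P Q hPQ.le (by
      intro Q' hQ' hPQ' hQ'Q hu'
      rcases hcov Q' hQ' hPQ' hQ'Q with h | h
      · exfalso
        rw [h] at hu'
        exact hlt.ne hu'
      · exact h)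
    rw [htP, htQ] at h4
    have h4' : tP ≤ tQ := by exact_mod_cast h4
    omega

end Groth.Agent.Lib.Helper22.PruferDim
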