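import Mathlib
import Groth.Prelude.Def_Found
import Groth.Agent.Lib.Helper13Cat
import Groth.Agent.Lib.Helper22PruferDimD2

set_option autoImplicit false
set_option linter.style.haveILetI false
set_option linter.unusedSectionVars false
set_option linter.unusedVariables false

universe u

open TensorProduct PrimeSpectrum

namespace Groth.Agent.Lib.Helper22.PruferDim

section Order

variable {α : Type*} [PartialOrder α] (g : α → ℤ)

theorem dimFn_le (ha : ∀ a b : α, a < b → g b < g a) (s : LTSeries α) :
    ∀ i : Fin (s.length + 1), g (s i) + (i : ℕ) ≤ g (s 0) := by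
  intro i
  induction i using Fin.induction with
  | zero => simp
  | succ i ih =>
    have h1 := ha _ _ (s.step i)
    have : ((i.succ : Fin (s.length + 1)) : ℕ) = (i : ℕ) + 1 := by simp
    rw [this]
    have h2 : ((i.castSucc : Fin (s.length + 1)) : ℕ) = (i : ℕ) := by simp
    rw [h2] at ih
    push_cast
    omega

theorem dimFn_eq (hb : ∀ a b : α, a ⋖ b → g a = g b + 1) (s : LTSeries α)
    (hs : ∀ i : Fin s.length, s (Fin.castSucc i) ⋖ s (Fin.succ i)) :
    ∀ i : Fin (s.length + 1), g (s i) + (i : ℕ) = g (s 0) := by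
  intro i
  induction i using Fin.induction with
  | zero => simp
  | succ i ih =>
    have h1 := hb _ _ (hs i)
    have : ((i.succ : Fin (s.length + 1)) : ℕ) = (i : ℕ) + 1 := by simp
    rw [this]
    have h2 : ((i.castSucc : Fin (s.length + 1)) : ℕ) = (i : ℕ) := by simp
    rw [h2] at ih
    push_cast
    omega

theorem dimFn_length_le (ha : ∀ a b : α, a < b → g b < g a) (s : LTSeries α) :
    g s.last + (s.length : ℕ) ≤ g s.head := by
  have := dimFn_le g ha s (Fin.last _)
  simp only [Fin.val_last] at this
  exact this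

theorem dimFn_length_eq (hb : ∀ a b : α, a ⋖ b → g a = g b + 1) (s : LTSeries α)
    (hs : ∀ i : Fin s.length, s (Fin.castSucc i) ⋖ s (Fin.succ i)) :
    g s.last + (s.length : ℕ) = g s.head := by
  have := dimFn_eq g hb s hs (Fin.last _)
  simp only [Fin.val_last] at this
  exact this

end Order

/-- a ring with a "dimension function" on its spectrum is catenary. -/
theorem isCatenary_of_dimFn {A : Type u} [CommRing A] (g : PrimeSpectrum A → ℤ)
    (ha : ∀ a b : PrimeSpectrum A, a < b → g b < g a)
    (hb : ∀ a b : PrimeSpectrum A, a ⋖ b → g a = g b + 1) : CAlg.IsCatenary A := by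
  refine ⟨?_, ?_⟩
  · intro p q hpq
    refine ⟨(g p - g q).toNat, fun s hs ht => ?_⟩
    have := dimFn_length_le g ha s
    rw [hs, ht] at this
    omega
  · intro s t hst hst' hs ht
    have h1 := dimFn_length_eq g hb s hs
    have h2 := dimFn_length_eq g hb t ht
    rw [hst, hst'] at h1
    omega

/-- a ring with a bounded strictly antitone integer function on its spectrum has finite Krull
dimension. -/
theorem ringKrullDim_lt_top_of_dimFn {A : Type u} [CommRing A] (g : PrimeSpectrum A → ℤ)
    (ha : ∀ a b : PrimeSpectrum A, a < b → g b < g a) (lo hi : ℤ)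
    (hlo : ∀ a, lo ≤ g a) (hhi : ∀ a, g a ≤ hi) : ringKrullDim A < ⊤ := by
  have key : ringKrullDim A ≤ ((hi - lo).toNat : ℕ∞) := by
    unfold ringKrullDim Order.krullDim
    refine iSup_le fun s => ?_
    have := dimFn_length_le g ha s
    have h1 := hlo s.last
    have h2 := hhi s.head
    have : s.length ≤ (hi - lo).toNat := by omega
    exact_mod_cast this
  refine lt_of_le_of_lt key ?_
  exact WithBot.coe_lt_coe.mpr (ENat.natCast_lt_top _)

/-- uniform bound on the transcendence degrees of the residue extensions. -/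
theorem exists_trdeg_bound {R S : Type u} [CommRing R] [CommRing S] [Algebra R S]
    [Algebra.FiniteType R S] :
    ∃ n : ℕ, ∀ (P : Ideal S) [P.IsPrime], Algebra.trdeg (R ⧸ P.under R) (S ⧸ P) ≤ n := by
  classical
  obtain ⟨s, hs⟩ := (Algebra.FiniteType.out : (⊤ : Subalgebra R S).FG)
  refine ⟨s.card, fun P _ => ?_⟩
  have htop : Algebra.adjoin (R ⧸ P.under R) ((Ideal.Quotient.mk P) '' (s : Set S)) = ⊤ := by
    rw [eq_top_iff]
    rintro x -
    obtain ⟨y, rfl⟩ := Ideal.Quotient.mk_surjective x
    have hy : y ∈ Algebra.adjoin R (s : Set S) := by rw [hs]; trivial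
    induction hy using Algebra.adjoin_induction with
    | mem y hy => exact Algebra.subset_adjoin ⟨y, hy, rfl⟩
    | algebraMap r =>
      have : Ideal.Quotient.mk P (algebraMap R S r) =
          algebraMap (R ⧸ P.under R) (S ⧸ P) (Ideal.Quotient.mk (P.under R) r) := rfl
      rw [this]
      exact Subalgebra.algebraMap_mem _ _
    | add a b _ _ ha hb =>
      rw [map_add]
      exact Subalgebra.add_mem _ ha hb
    | mul a b _ _ ha hb =>
      rw [map_mul]
      exact Subalgebra.mul_mem _ ha hb
  haveI : Algebra.IsAlgebraic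
      (Algebra.adjoin (R ⧸ P.under R) ((Ideal.Quotient.mk P) '' (s : Set S))) (S ⧸ P) := by
    refine ⟨fun x => ?_⟩
    have hx : x ∈ Algebra.adjoin (R ⧸ P.under R) ((Ideal.Quotient.mk P) '' (s : Set S)) := by
      rw [htop]; trivial
    exact isAlgebraic_algebraMap (⟨x, hx⟩ :
      Algebra.adjoin (R ⧸ P.under R) ((Ideal.Quotient.mk P) '' (s : Set S)))
  refine (Algebra.IsAlgebraic.trdeg_le_cardinalMk (R ⧸ P.under R)
    ((Ideal.Quotient.mk P) '' (s : Set S))).trans ?_
  refine Cardinal.mk_image_le.trans ?_
  rw [Finset.coe_sort_coe, Cardinal.mk_coe_finset]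

/-- uniform bound on heights. -/
theorem exists_height_bound {R : Type*} [CommRing R] [Nontrivial R] (hdim : ringKrullDim R < ⊤) :
    ∃ d : ℕ, ∀ (p : Ideal R) [p.IsPrime], p.height ≤ d := by
  have h0 : ringKrullDim R ≠ ⊥ := by
    intro h
    have := ringKrullDim_nonneg_of_nontrivial (R := R)
    rw [h] at this
    exact absurd this (by simp)
  obtain ⟨e, he⟩ := WithBot.ne_bot_iff_exists.mp h0
  have he' : e ≠ ⊤ := by
    intro h
    rw [h] at he
    rw [← he] at hdim
    exact lt_irrefl _ hdim
  obtain ⟨d, hd⟩ := ENat.ne_top_iff_exists.mp he'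
  refine ⟨d, fun p _ => ?_⟩
  have h1 : (p.height : WithBot ℕ∞) ≤ ringKrullDim R := Ideal.height_le_ringKrullDim_of_isPrime
  rw [← he, ← hd] at h1
  exact_mod_cast h1

end Groth.Agent.Lib.Helper22.PruferDim
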