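import Mathlib

/-!
# Nagata's theorem: finite type torsion-free algebras over valuation rings are finitely presented (helper28)
-/

set_option autoImplicit false
universe u
open MvPolynomial

namespace Groth.Agent.Lib.Helper28.Nagata

section basic

variable {V : Type*} [CommRing V] [IsDomain V] [ValuationRing V]

/-- Over a valuation ring, a saturated submodule of a finite module is finitely generated. -/
theorem fg_of_saturated {E : Type*} [AddCommGroup E] [Module V E] [Module.Finite V E]
    (M : Submodule V E) (hsat : ∀ (a : V) (x : E), a ≠ 0 → a • x ∈ M → x ∈ M) : M.FG := by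
  have htf : Submodule.torsion V (E ⧸ M) = ⊥ := by
    rw [eq_bot_iff]
    intro y hy
    obtain ⟨x, rfl⟩ := Submodule.Quotient.mk_surjective _ y
    rw [Submodule.mem_torsion_iff] at hy
    obtain ⟨⟨a, ha⟩, hax⟩ := hy
    rw [Submonoid.smul_def, ← Submodule.Quotient.mk_smul, Submodule.Quotient.mk_eq_zero] at hax
    rw [Submodule.mem_bot, Submodule.Quotient.mk_eq_zero]
    exact hsat a x (nonZeroDivisors.ne_zero ha) hax
  haveI : Module.Flat V (E ⧸ M) := Module.Flat.flat_iff_torsion_eq_bot_of_isBezout.mpr htf
  haveI : Module.Free V (E ⧸ M) := Module.free_of_flat_of_isLocalRing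
  haveI : Module.FinitePresentation V (E ⧸ M) := Module.finitePresentation_of_projective _ _
  have := Module.FinitePresentation.fg_ker M.mkQ (Submodule.mkQ_surjective M)
  rwa [Submodule.ker_mkQ] at this

/-- A polynomial with coefficients in the maximal ideal of a valuation ring is a multiple of
an element of the maximal ideal. -/
theorem exists_eq_C_mul {σ : Type*} (z : MvPolynomial σ V)
    (hz : ∀ m, coeff m z ∈ IsLocalRing.maximalIdeal V) :
    ∃ (a : V) (z' : MvPolynomial σ V), a ∈ IsLocalRing.maximalIdeal V ∧ z = C a * z' ∧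
      z'.support ⊆ z.support := by
  classical
  have hfg : (Ideal.span ((z.support.image fun m => coeff m z : Finset V) : Set V)).FG :=
    ⟨_, rfl⟩
  obtain ⟨a, ha⟩ := (IsBezout.isPrincipal_of_FG _ hfg).principal
  have hamem : a ∈ IsLocalRing.maximalIdeal V := by
    have h1 : a ∈ Ideal.span ((z.support.image fun m => coeff m z : Finset V) : Set V) := by
      rw [ha]
      exact Submodule.mem_span_singleton_self a
    refine (Ideal.span_le.mpr ?_) h1
    intro c hc
    rw [Finset.mem_coe, Finset.mem_image] at hc
    obtain ⟨m, _, rfl⟩ := hc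
    exact hz m
  have hb : ∀ m, ∃ b : V, coeff m z = a * b := by
    intro m
    by_cases hm : m ∈ z.support
    · have h1 : coeff m z ∈ Ideal.span ((z.support.image fun m => coeff m z : Finset V) : Set V) :=
        Ideal.subset_span (Finset.mem_coe.mpr (Finset.mem_image_of_mem _ hm))
      rw [ha] at h1
      obtain ⟨b, hb⟩ := Ideal.mem_span_singleton'.mp h1
      exact ⟨b, by rw [← hb, mul_comm]⟩
    · exact ⟨0, by rw [mul_zero]; exact notMem_support_iff.mp hm⟩
  choose b hb using hb
  refine ⟨a, ∑ m ∈ z.support, monomial m (b m), hamem, ?_, ?_⟩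
  · rw [Finset.mul_sum]
    conv_lhs => rw [← support_sum_monomial_coeff z]
    refine Finset.sum_congr rfl fun m _ => ?_
    rw [C_mul_monomial, hb m]
  · intro m hm
    have := support_sum hm
    rw [Finset.mem_biUnion] at this
    obtain ⟨m', hm', hmm'⟩ := this
    have h2 := support_monomial_subset hmm'
    rw [Finset.mem_singleton] at h2
    rw [h2]
    exact hm'

end basic

theorem map_homogeneousComponent {σ R S : Type*} [CommSemiring R] [CommSemiring S] (f : R →+* S)
    (n : ℕ) (p : MvPolynomial σ R) :
    map f (homogeneousComponent n p) = homogeneousComponent n (map f p) := by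
  ext m
  rw [coeff_map, coeff_homogeneousComponent, coeff_homogeneousComponent, coeff_map]
  split_ifs
  · rfl
  · exact map_zero f


section graded

variable {V : Type*} [CommRing V] [IsDomain V] [ValuationRing V] {σ : Type*} [Finite σ]

attribute [local instance] MvPolynomial.gradedAlgebra

omit [IsDomain V] [ValuationRing V] [Finite σ] in
theorem mem_of_forall_homogeneousComponent_mem (J : Ideal (MvPolynomial σ V))
    (p : MvPolynomial σ V) (h : ∀ d, homogeneousComponent d p ∈ J) : p ∈ J := by
  rw [← sum_homogeneousComponent p]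
  exact Ideal.sum_mem _ fun d _ => h d

/-- **Nagata**: a homogeneous saturated ideal of a polynomial ring over a valuation ring is
finitely generated. -/
theorem fg_of_isHomogeneous_of_saturated (J : Ideal (MvPolynomial σ V))
    (hJ : J.IsHomogeneous (homogeneousSubmodule σ V))
    (hsat : ∀ (a : V) (q : MvPolynomial σ V), a ≠ 0 → C a * q ∈ J → q ∈ J) : J.FG := by
  classical
  let k := IsLocalRing.ResidueField V
  let ρ : MvPolynomial σ V →+* MvPolynomial σ k := map (IsLocalRing.residue V)
  have hρsurj : Function.Surjective ρ := map_surjective _ IsLocalRing.residue_surjective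
  let H : Set (MvPolynomial σ V) := {q | q ∈ J ∧ ∃ d, q.IsHomogeneous d}
  have hHJ : Ideal.span H ≤ J := Ideal.span_le.mpr fun q hq => hq.1
  have hJH : J ≤ Ideal.span H := by
    intro p hp
    apply mem_of_forall_homogeneousComponent_mem
    intro d
    exact Ideal.subset_span ⟨homogeneousComponent_mem_of_mem hJ hp d,
      d, homogeneousComponent_isHomogeneous d p⟩
  have hmap : J.map ρ = Ideal.span (ρ '' H) := by
    rw [le_antisymm hJH hHJ, Ideal.map_span]
  have hfg : (Ideal.span (ρ '' H)).FG := IsNoetherian.noetherian _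
  obtain ⟨T, hTsub, hTspan⟩ := (Submodule.fg_span_iff_fg_span_finset_subset _).mp hfg
  have hpre : ∀ t ∈ T, ∃ g ∈ H, ρ g = t := fun t ht => hTsub ht
  choose! g hgH hgt using hpre
  let J' : Ideal (MvPolynomial σ V) := Ideal.span ((T.image g : Finset _) : Set _)
  have hJ'fg : J'.FG := ⟨_, rfl⟩
  have hJ'le : J' ≤ J := by
    refine Ideal.span_le.mpr ?_
    intro x hx
    rw [Finset.mem_coe, Finset.mem_image] at hx
    obtain ⟨t, ht, rfl⟩ := hx
    exact (hgH t ht).1
  have hJ'hom : J'.IsHomogeneous (homogeneousSubmodule σ V) := by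
    apply Ideal.homogeneous_span
    intro x hx
    rw [Finset.mem_coe, Finset.mem_image] at hx
    obtain ⟨t, ht, rfl⟩ := hx
    obtain ⟨d, hd⟩ := (hgH t ht).2
    exact ⟨d, (mem_homogeneousSubmodule d _).mpr hd⟩
  have hJ'map : J.map ρ ≤ J'.map ρ := by
    rw [hmap]
    change Submodule.span _ _ ≤ _
    rw [hTspan]
    refine Ideal.span_le.mpr ?_
    intro t ht
    rw [← hgt t ht]
    exact Ideal.mem_map_of_mem ρ (Ideal.subset_span
      (Finset.mem_coe.mpr (Finset.mem_image_of_mem g ht)))
  suffices h : ∀ d, (J.restrictScalars V ⊓ homogeneousSubmodule σ V d) ≤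
      (J'.restrictScalars V ⊓ homogeneousSubmodule σ V d) by
    have hle : J ≤ J' := by
      intro p hp
      apply mem_of_forall_homogeneousComponent_mem
      intro d
      exact (h d ⟨homogeneousComponent_mem_of_mem hJ hp d, homogeneousComponent_mem d p⟩).1
    rw [le_antisymm hle hJ'le]
    exact hJ'fg
  intro d
  have hfgE : (homogeneousSubmodule σ V d).FG := homogeneousSubmodule_fg σ V d
  haveI : Module.Finite V (homogeneousSubmodule σ V d) := Module.Finite.iff_fg.mpr hfgE
  have hMdfg : (J.restrictScalars V ⊓ homogeneousSubmodule σ V d).FG := by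
    rw [inf_comm, ← Submodule.map_comap_subtype]
    apply Submodule.FG.map
    apply fg_of_saturated
    intro a x ha hax
    rw [Submodule.mem_comap, map_smul] at hax
    rw [Submodule.mem_comap]
    apply hsat a _ ha
    rw [← smul_eq_C_mul]
    exact hax
  apply Submodule.le_of_le_smul_of_le_jacobson_bot hMdfg
    (I := IsLocalRing.maximalIdeal V) (IsLocalRing.maximalIdeal_le_jacobson _)
  intro q hq
  -- approximate `q` by an element of `J'` modulo the maximal ideal
  have h1 : ρ q ∈ J'.map ρ := hJ'map (Ideal.mem_map_of_mem ρ hq.1)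
  rw [Ideal.mem_map_iff_of_surjective ρ hρsurj] at h1
  obtain ⟨w₀, hw₀, hw₀q⟩ := h1
  set w := homogeneousComponent d w₀ with hw
  have hwJ' : w ∈ J' := homogeneousComponent_mem_of_mem hJ'hom hw₀ d
  have hwd : w ∈ homogeneousSubmodule σ V d := homogeneousComponent_mem d w₀
  have hqd : q.IsHomogeneous d := (mem_homogeneousSubmodule d q).mp hq.2
  have hρw : ρ w = ρ q := by
    rw [hw, show ρ (homogeneousComponent d w₀) = homogeneousComponent d (ρ w₀) from
      map_homogeneousComponent _ d w₀, hw₀q,
      show homogeneousComponent d (ρ q) = ρ (homogeneousComponent d q) from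
      (map_homogeneousComponent _ d q).symm, homogeneousComponent_eq_self hqd]
  have hz : ∀ m, coeff m (q - w) ∈ IsLocalRing.maximalIdeal V := by
    intro m
    have h2 : coeff m (ρ (q - w)) = 0 := by
      rw [map_sub, hρw, sub_self, coeff_zero]
    rw [show coeff m (ρ (q - w)) = IsLocalRing.residue V (coeff m (q - w)) from coeff_map _ _ _,
      IsLocalRing.residue_eq_zero_iff] at h2
    exact h2
  obtain ⟨a, z', ha, hz', hsupp⟩ := exists_eq_C_mul (q - w) hz
  have hqwJ : q - w ∈ J := J.sub_mem hq.1 (hJ'le hwJ')
  have hqwd : (q - w).IsHomogeneous d :=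
    hqd.sub ((mem_homogeneousSubmodule d w).mp hwd)
  refine Submodule.mem_sup.mpr ⟨w, ⟨hwJ', hwd⟩, q - w, ?_, by ring⟩
  by_cases ha0 : a = 0
  · rw [hz', ha0, map_zero, zero_mul]
    exact Submodule.zero_mem _
  · have hz'J : z' ∈ J := hsat a z' ha0 (hz' ▸ hqwJ)
    have hz'd : z'.IsHomogeneous d := by
      intro m hm
      exact hqwd (mem_support_iff.mp (hsupp (mem_support_iff.mpr hm)))
    rw [hz', ← smul_eq_C_mul]
    exact Submodule.smul_mem_smul ha ⟨hz'J, (mem_homogeneousSubmodule d z').mpr hz'd⟩

end graded



section affine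

variable {V : Type*} [CommRing V] {σ : Type*}

/-- dehomogenization -/
noncomputable def dehom : MvPolynomial (Option σ) V →ₐ[V] MvPolynomial σ V :=
  aeval (fun o : Option σ => o.elim 1 X)

theorem exists_isHomogeneous_dehom (p : MvPolynomial σ V) :
    ∃ (d : ℕ) (q : MvPolynomial (Option σ) V), q.IsHomogeneous d ∧ dehom q = p := by
  induction p using MvPolynomial.induction_on with
  | C a => exact ⟨0, C a, isHomogeneous_C _ a, by simp [dehom]⟩
  | add p₁ p₂ h₁ h₂ =>
    obtain ⟨d₁, q₁, hq₁, rfl⟩ := h₁
    obtain ⟨d₂, q₂, hq₂, rfl⟩ := h₂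
    refine ⟨d₁ + d₂, X none ^ d₂ * q₁ + X none ^ d₁ * q₂, ?_, ?_⟩
    · refine IsHomogeneous.add ?_ ?_
      · rw [add_comm]
        exact (isHomogeneous_X_pow none d₂).mul hq₁
      · exact (isHomogeneous_X_pow none d₁).mul hq₂
    · simp [dehom]
  | mul_X p i h =>
    obtain ⟨d, q, hq, rfl⟩ := h
    exact ⟨d + 1, q * X (some i), hq.mul (isHomogeneous_X _ _), by simp [dehom]⟩

variable [IsDomain V] [ValuationRing V] [Finite σ]

attribute [local instance] MvPolynomial.gradedAlgebra

/-- **Nagata**: a saturated ideal of a polynomial ring over a valuation ring is finitely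
generated. -/
theorem fg_of_saturated_ideal (I : Ideal (MvPolynomial σ V))
    (hsat : ∀ (a : V) (p : MvPolynomial σ V), a ≠ 0 → C a * p ∈ I → p ∈ I) : I.FG := by
  let S : Set (MvPolynomial (Option σ) V) := {q | (∃ d, q.IsHomogeneous d) ∧ dehom q ∈ I}
  let J : Ideal (MvPolynomial (Option σ) V) := Ideal.span S
  have hJhom : J.IsHomogeneous (homogeneousSubmodule (Option σ) V) := by
    apply Ideal.homogeneous_span
    intro x hx
    obtain ⟨d, hd⟩ := hx.1
    exact ⟨d, (mem_homogeneousSubmodule d _).mpr hd⟩
  have hJI : J.map (dehom : MvPolynomial (Option σ) V →ₐ[V] MvPolynomial σ V).toRingHom ≤ I := by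
    rw [Ideal.map_span]
    refine Ideal.span_le.mpr ?_
    rintro _ ⟨q, hq, rfl⟩
    exact hq.2
  have hIJ : I ≤ J.map (dehom : MvPolynomial (Option σ) V →ₐ[V] MvPolynomial σ V).toRingHom := by
    intro p hp
    obtain ⟨d, q, hq, rfl⟩ := exists_isHomogeneous_dehom p
    exact Ideal.mem_map_of_mem _ (Ideal.subset_span ⟨⟨d, hq⟩, hp⟩)
  have hJsat : ∀ (a : V) (q : MvPolynomial (Option σ) V), a ≠ 0 → C a * q ∈ J → q ∈ J := by
    intro a q ha haq
    apply mem_of_forall_homogeneousComponent_mem
    intro d
    refine Ideal.subset_span ⟨⟨d, homogeneousComponent_isHomogeneous d q⟩, ?_⟩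
    apply hsat a _ ha
    have h1 := homogeneousComponent_mem_of_mem hJhom haq d
    rw [homogeneousComponent_C_mul] at h1
    have h2 := hJI (Ideal.mem_map_of_mem _ h1)
    simpa [dehom] using h2
  have hJfg : J.FG := fg_of_isHomogeneous_of_saturated J hJhom hJsat
  rw [le_antisymm hIJ hJI]
  exact hJfg.map _

end affine



section algebra

variable {V : Type u} [CommRing V] [IsDomain V] [ValuationRing V]

/-- **Nagata**: a finite type torsion-free algebra over a valuation ring is finitely presented. -/
theorem finitePresentation_of_torsionFree (A : Type u) [CommRing A] [Algebra V A]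
    [Algebra.FiniteType V A] (htf : ∀ (a : V) (x : A), a ≠ 0 → a • x = 0 → x = 0) :
    Algebra.FinitePresentation V A := by
  obtain ⟨n, f, hf⟩ := Algebra.FiniteType.iff_quotient_mvPolynomial''.mp
    (inferInstance : Algebra.FiniteType V A)
  refine Algebra.FinitePresentation.of_surjective hf ?_
  apply fg_of_saturated_ideal
  intro a p ha hap
  rw [RingHom.mem_ker] at hap ⊢
  have h1 : f (a • p) = 0 := by
    rw [smul_eq_C_mul]
    exact hap
  rw [map_smul] at h1
  exact htf a _ ha h1

open TrivSqZeroExt in
/-- module version, via idealization -/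
theorem finitePresentation_module_of_torsionFree (P : Type u) [CommRing P] [Algebra V P]
    [Algebra.FiniteType V P] (hP : ∀ (a : V) (x : P), a ≠ 0 → a • x = 0 → x = 0)
    (M : Type u) [AddCommGroup M] [Module P M] [Module V M] [IsScalarTower V P M]
    [Module.Finite P M] (hM : ∀ (a : V) (x : M), a ≠ 0 → a • x = 0 → x = 0) :
    Module.FinitePresentation P M := by
  letI : Module Pᵐᵒᵖ M := Module.compHom M ((RingHom.id P).fromOpposite fun _ _ => mul_comm _ _)
  haveI : IsCentralScalar P M := ⟨fun r m => rfl⟩
  haveI : IsScalarTower V Pᵐᵒᵖ M := ⟨fun a r m => by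
    change (a • r).unop • m = a • (r.unop • m)
    rw [MulOpposite.unop_smul, smul_assoc]⟩
  haveI hfin : Module.Finite P (TrivSqZeroExt P M) :=
    (inferInstance : Module.Finite P (P × M))
  haveI : Algebra.FiniteType P (TrivSqZeroExt P M) := Module.Finite.finiteType _
  haveI : Algebra.FiniteType V (TrivSqZeroExt P M) := Algebra.FiniteType.trans ‹_› ‹_›
  haveI hfpV : Algebra.FinitePresentation V (TrivSqZeroExt P M) := by
    apply finitePresentation_of_torsionFree
    intro a x ha hax
    have h1 := congrArg TrivSqZeroExt.fst hax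
    have h2 := congrArg TrivSqZeroExt.snd hax
    rw [fst_smul, fst_zero] at h1
    rw [snd_smul, snd_zero] at h2
    exact TrivSqZeroExt.ext (hP a _ ha h1) (hM a _ ha h2)
  haveI hfpP : Algebra.FinitePresentation P (TrivSqZeroExt P M) :=
    Algebra.FinitePresentation.of_restrict_scalars_finitePresentation V P _
  haveI : Module.FinitePresentation P (TrivSqZeroExt P M) :=
    Module.FinitePresentation.of_finite_of_finitePresentation P _
  refine Module.finitePresentation_of_surjective (sndHom P M) snd_surjective ?_
  refine ⟨{inl 1}, ?_⟩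
  rw [Finset.coe_singleton]
  apply le_antisymm
  · rw [Submodule.span_le, Set.singleton_subset_iff]
    exact snd_inl M 1
  · intro x hx
    rw [Submodule.mem_span_singleton]
    refine ⟨x.fst, TrivSqZeroExt.ext ?_ ?_⟩
    · rw [fst_smul, fst_inl, smul_eq_mul, mul_one]
    · rw [snd_smul, snd_inl, smul_zero]
      exact (LinearMap.mem_ker.mp hx).symm

end algebra



section ess

variable {A : Type u} [CommRing A] [IsDomain A] [ValuationRing A]

/-- finite flat modules over essentially finite type algebras over a valuation ring are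
finitely presented -/
theorem finitePresentation_of_essFiniteType_of_flat (B : Type u) [CommRing B] [Algebra A B]
    [Algebra.EssFiniteType A B] (M : Type u) [AddCommGroup M] [Module B M] [Module A M]
    [IsScalarTower A B M] [Module.Finite B M] [Module.Flat A M] :
    Module.FinitePresentation B M := by
  classical
  obtain ⟨n, f, hf⟩ := Algebra.FiniteType.iff_quotient_mvPolynomial''.mp
    (inferInstance : Algebra.FiniteType A (Algebra.EssFiniteType.subalgebra A B))
  -- the composite `P → B₀ → B`
  let φ : MvPolynomial (Fin n) A →ₐ[A] B := (Algebra.EssFiniteType.subalgebra A B).val.comp f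
  letI algPB : Algebra (MvPolynomial (Fin n) A) B := φ.toRingHom.toAlgebra
  letI modP : Module (MvPolynomial (Fin n) A) M := Module.compHom M φ.toRingHom
  have hsmul : ∀ (p : MvPolynomial (Fin n) A) (m : M), p • m = φ p • m := fun p m => rfl
  haveI tower : IsScalarTower A (MvPolynomial (Fin n) A) M := ⟨fun a p m => by
    rw [hsmul, hsmul, map_smul, smul_assoc]⟩
  obtain ⟨r, s, hs⟩ := Module.Finite.exists_fin (R := B) (M := M)
  let πB : (Fin r → B) →ₗ[B] M := Fintype.linearCombination B s
  let πP : (Fin r → MvPolynomial (Fin n) A) →ₗ[MvPolynomial (Fin n) A] M :=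
    Fintype.linearCombination (MvPolynomial (Fin n) A) s
  have hπB : Function.Surjective πB := by
    rw [← LinearMap.range_eq_top, Fintype.range_linearCombination, hs]
  -- the `P`-module `M₀`
  have htfM : ∀ (a : A) (x : M), a ≠ 0 → a • x = 0 → x = 0 := by
    intro a x ha hax
    have hreg : IsSMulRegular M a :=
      Module.Flat.isSMulRegular_of_nonZeroDivisors (mem_nonZeroDivisors_of_ne_zero ha)
    exact hreg (show a • x = a • 0 by rw [hax, smul_zero])
  haveI : Module.Finite (MvPolynomial (Fin n) A) (LinearMap.range πP) :=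
    Module.Finite.range πP
  have hfp : Module.FinitePresentation (MvPolynomial (Fin n) A) (LinearMap.range πP) := by
    refine finitePresentation_module_of_torsionFree (V := A) _ ?_ _ ?_
    · intro a p ha hap
      rw [smul_eq_C_mul] at hap
      rcases mul_eq_zero.mp hap with h | h
      · exact absurd (C_eq_zero.mp h) ha
      · exact h
    · intro a x ha hax
      apply Subtype.ext
      apply htfM a _ ha
      have := congrArg Subtype.val hax
      simpa using this
  have hkerP : (LinearMap.ker πP).FG := by
    have := Module.FinitePresentation.fg_ker πP.rangeRestrict πP.surjective_rangeRestrict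
    rwa [LinearMap.ker_rangeRestrict] at this
  obtain ⟨gens, hgens⟩ := hkerP
  -- transport generators to `B^r`
  let Φ : (Fin r → MvPolynomial (Fin n) A) → (Fin r → B) := fun v i => φ (v i)
  have hΦ : ∀ v, πB (Φ v) = πP v := by
    intro v
    simp only [πB, πP, Φ, Fintype.linearCombination_apply, hsmul]
  refine Module.finitePresentation_of_surjective πB hπB ⟨gens.image Φ, ?_⟩
  apply le_antisymm
  · rw [Submodule.span_le]
    intro x hx
    rw [Finset.mem_coe, Finset.mem_image] at hx
    obtain ⟨v, hv, rfl⟩ := hx
    have hvker : v ∈ LinearMap.ker πP := by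
      rw [← hgens]
      exact Submodule.subset_span hv
    rw [SetLike.mem_coe, LinearMap.mem_ker, hΦ]
    exact hvker
  · intro x hx
    obtain ⟨t, ht⟩ := IsLocalization.exist_integer_multiples
      (Algebra.EssFiniteType.submonoid A B) (Finset.univ : Finset (Fin r)) x
    have htunit : IsUnit (algebraMap (Algebra.EssFiniteType.subalgebra A B) B t) := t.2
    have hy : ∀ i, ∃ p : MvPolynomial (Fin n) A,
        φ p = algebraMap (Algebra.EssFiniteType.subalgebra A B) B t * x i := by
      intro i
      obtain ⟨y, hy⟩ := ht i (Finset.mem_univ i)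
      obtain ⟨p, hp⟩ := hf y
      refine ⟨p, ?_⟩
      change ((f p : Algebra.EssFiniteType.subalgebra A B) : B) = _
      rw [hp]
      rw [Algebra.smul_def] at hy
      exact hy
    choose v hv using hy
    have hvker : v ∈ LinearMap.ker πP := by
      rw [LinearMap.mem_ker, ← hΦ]
      have h1 : Φ v = algebraMap (Algebra.EssFiniteType.subalgebra A B) B t • x := by
        funext i
        simp only [Φ, Pi.smul_apply, smul_eq_mul]
        exact hv i
      rw [h1, map_smul, LinearMap.mem_ker.mp hx, smul_zero]
    rw [← hgens] at hvker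
    have key : ∀ w : Fin r → MvPolynomial (Fin n) A,
        w ∈ Submodule.span (MvPolynomial (Fin n) A) (gens : Set (Fin r → MvPolynomial (Fin n) A)) →
        Φ w ∈ Submodule.span B (Φ '' (gens : Set (Fin r → MvPolynomial (Fin n) A))) := by
      intro w hw
      induction hw using Submodule.span_induction with
      | mem w hw => exact Submodule.subset_span ⟨w, hw, rfl⟩
      | zero =>
        have : Φ 0 = 0 := by
          funext i
          simp only [Φ, Pi.zero_apply, map_zero]
        rw [this]
        exact Submodule.zero_mem _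
      | add w₁ w₂ _ _ h₁ h₂ =>
        have : Φ (w₁ + w₂) = Φ w₁ + Φ w₂ := by
          funext i
          simp only [Φ, Pi.add_apply, map_add]
        rw [this]
        exact Submodule.add_mem _ h₁ h₂
      | smul p w _ h =>
        have : Φ (p • w) = φ p • Φ w := by
          funext i
          simp only [Φ, Pi.smul_apply, smul_eq_mul, map_mul]
        rw [this]
        exact Submodule.smul_mem _ _ h
    have h2 : Φ v ∈ Submodule.span B ((gens.image Φ : Finset _) : Set (Fin r → B)) := by
      rw [Finset.coe_image]
      exact key v hvker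
    have h1 : Φ v = algebraMap (Algebra.EssFiniteType.subalgebra A B) B t • x := by
      funext i
      simp only [Φ, Pi.smul_apply, smul_eq_mul]
      exact hv i
    obtain ⟨u, hu⟩ := htunit
    have h5 : x = ((u⁻¹ : Bˣ) : B) • Φ v := by
      rw [h1, ← hu, smul_smul, Units.inv_mul, one_smul]
    rw [h5]
    exact Submodule.smul_mem _ _ h2

end ess


end Groth.Agent.Lib.Helper28.Nagata
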