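import Mathlib
import Groth.Agent.Lib.Helper28Nagata

set_option autoImplicit false
set_option linter.unusedSectionVars false
set_option linter.style.haveILetI false

open MvPolynomial

namespace Groth.Agent.Lib.Helper22.PruferNagata

universe u

attribute [local instance] MvPolynomial.algebraMvPolynomial

section Local

variable {R : Type u} [CommRing R] [IsDomain R] {n : ℕ}

/-- the local step: at a prime `𝔪` with `R_𝔪` a valuation ring, a saturated ideal is generated by
finitely many of its elements up to multiplication by constants outside `𝔪` -/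
theorem exists_finset_local (I : Ideal (MvPolynomial (Fin n) R))
    (hsat : ∀ (a : R) (p : MvPolynomial (Fin n) R), a ≠ 0 → C a * p ∈ I → p ∈ I)
    (𝔪 : Ideal R) [𝔪.IsPrime] [ValuationRing (Localization.AtPrime 𝔪)] :
    ∃ G : Finset (MvPolynomial (Fin n) R), (↑G : Set (MvPolynomial (Fin n) R)) ⊆ I ∧
      ∀ p ∈ I, ∃ t ∈ 𝔪.primeCompl, C t * p ∈ Ideal.span (G : Set (MvPolynomial (Fin n) R)) := by
  classical
  let V := Localization.AtPrime 𝔪
  let PR := MvPolynomial (Fin n) R
  let PV := MvPolynomial (Fin n) V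
  have hμ : ∀ p : PR, algebraMap PR PV p = MvPolynomial.map (algebraMap R V) p := fun _ => rfl
  have hinjRV : Function.Injective (algebraMap R V) :=
    IsLocalization.injective V (Ideal.primeCompl_le_nonZeroDivisors 𝔪)
  have hμinj : Function.Injective (algebraMap PR PV) := by
    intro p q hpq
    rw [hμ, hμ] at hpq
    exact MvPolynomial.map_injective _ hinjRV hpq
  -- membership in extended ideals
  have hmem : ∀ (J : Ideal PR) (p : PR), algebraMap PR PV p ∈ Ideal.map (algebraMap PR PV) J →
      ∃ t ∈ 𝔪.primeCompl, C t * p ∈ J := by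
    intro J p hp
    rw [IsLocalization.mem_map_algebraMap_iff (𝔪.primeCompl.map (C (σ := Fin n))) PV] at hp
    obtain ⟨⟨j, m⟩, hjm⟩ := hp
    obtain ⟨t, ht, htm⟩ := m.2
    refine ⟨t, ht, ?_⟩
    have h1 : p * C t = (j : PR) := by
      apply hμinj
      rw [map_mul]
      have : (m : PR) = C t := htm.symm
      rw [← this]
      exact hjm
    rw [mul_comm, h1]
    exact j.2
  let IV : Ideal PV := Ideal.map (algebraMap PR PV) I
  have hIVsat : ∀ (a : V) (q : PV), a ≠ 0 → C a * q ∈ IV → q ∈ IV := by
    intro a q ha haq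
    obtain ⟨⟨r, s⟩, hrs⟩ := IsLocalization.surj 𝔪.primeCompl a
    obtain ⟨⟨q₀, m⟩, hq₀⟩ := IsLocalization.surj (𝔪.primeCompl.map (C (σ := Fin n))) q
    obtain ⟨s₂, hs₂, hsm⟩ := m.2
    -- hrs : a * algebraMap R V s = algebraMap R V r
    -- hq₀ : q * algebraMap PR PV m = algebraMap PR PV q₀
    have hr0 : r ≠ 0 := by
      rintro rfl
      rw [map_zero] at hrs
      have hsu : IsUnit (algebraMap R V (s : R)) := IsLocalization.map_units V s
      exact ha (hsu.mul_left_eq_zero.mp hrs)
    have h1 : algebraMap PR PV (C r * q₀) ∈ IV := by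
      have : algebraMap PR PV (C r * q₀) =
          (C (algebraMap R V (s : R)) * algebraMap PR PV (m : PR)) * (C a * q) := by
        rw [map_mul, ← hq₀, hμ (C r), MvPolynomial.map_C, ← hrs, C_mul]
        ring
      rw [this]
      exact Ideal.mul_mem_left _ _ haq
    obtain ⟨t, ht, htq⟩ := hmem I (C r * q₀) h1
    have h2 : q₀ ∈ I := by
      apply hsat (t * r) q₀ (mul_ne_zero (fun h => ht (h ▸ 𝔪.zero_mem)) hr0)
      rw [C_mul, mul_assoc]
      exact htq
    have h3 : q * algebraMap PR PV (m : PR) ∈ IV := by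
      rw [hq₀]
      exact Ideal.mem_map_of_mem _ h2
    have hmu : IsUnit (algebraMap PR PV (m : PR)) :=
      IsLocalization.map_units PV m
    obtain ⟨w, hw⟩ := hmu.exists_right_inv
    have : q = (q * algebraMap PR PV (m : PR)) * w := by
      rw [mul_assoc, hw, mul_one]
    rw [this]
    exact Ideal.mul_mem_right _ _ h3
  have hIVfg : IV.FG := Groth.Agent.Lib.Helper28.Nagata.fg_of_saturated_ideal IV hIVsat
  -- choose generators coming from `I`
  have hIVspan : IV = Ideal.span ((algebraMap PR PV) '' (I : Set PR)) := rfl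
  rw [hIVspan] at hIVfg
  obtain ⟨G', hG'sub, hG'span⟩ := (Submodule.fg_span_iff_fg_span_finset_subset _).mp hIVfg
  obtain ⟨G, hGsub, rfl⟩ := Finset.subset_set_image_iff.mp hG'sub
  refine ⟨G, hGsub, ?_⟩
  intro p hp
  apply hmem
  rw [Ideal.map_span]
  have : algebraMap PR PV p ∈ IV := Ideal.mem_map_of_mem _ hp
  rw [hIVspan] at this
  change algebraMap PR PV p ∈ Submodule.span PV _ at this
  rw [hG'span] at this
  simpa using this

end Local

end Groth.Agent.Lib.Helper22.PruferNagata
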