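import Mathlib
import Groth.Agent.Lib.Helper28Nagata
import Groth.Agent.Lib.Helper3FlatOpenFP
import Groth.Agent.Lib.Helper22PruferNagataA

set_option autoImplicit false
set_option linter.unusedSectionVars false
set_option linter.style.haveILetI false

open MvPolynomial

namespace Groth.Agent.Lib.Helper22.PruferNagata

universe u

section Step2

variable {R : Type u} [CommRing R] [IsDomain R] {n : ℕ}

/-- the semi-local step: near a maximal ideal `𝔪`, a saturated ideal is generated by finitely many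
of its elements up to powers of some `f ∉ 𝔪` -/
theorem exists_pow_local
    (hR : ∀ (p : Ideal R) [p.IsMaximal], ValuationRing (Localization.AtPrime p))
    (I : Ideal (MvPolynomial (Fin n) R))
    (hsat : ∀ (a : R) (p : MvPolynomial (Fin n) R), a ≠ 0 → C a * p ∈ I → p ∈ I)
    (𝔪 : Ideal R) [h𝔪 : 𝔪.IsMaximal] :
    ∃ f : R, f ∉ 𝔪 ∧ ∃ G : Finset (MvPolynomial (Fin n) R),
      (↑G : Set (MvPolynomial (Fin n) R)) ⊆ I ∧
      ∀ p ∈ I, ∃ k : ℕ, C (f ^ k) * p ∈ Ideal.span (G : Set (MvPolynomial (Fin n) R)) := by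
  classical
  haveI : ValuationRing (Localization.AtPrime 𝔪) := hR 𝔪
  have hR' : ∀ (P : Ideal R), [P.IsMaximal] → ValuationRing (Localization P.primeCompl) :=
    fun P _ => hR P
  obtain ⟨G, hGsub, hG⟩ := exists_finset_local I hsat 𝔪
  let PR := MvPolynomial (Fin n) R
  let J₁ : Ideal PR := Ideal.span (G : Set PR)
  have hJ₁I : J₁ ≤ I := Ideal.span_le.mpr hGsub
  have hJ₁fg : J₁.FG := ⟨G, rfl⟩
  let A₁ := PR ⧸ J₁
  haveI : Algebra.FinitePresentation R A₁ := Algebra.FinitePresentation.quotient hJ₁fg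
  have halg : ∀ r : R, algebraMap R A₁ r = Ideal.Quotient.mk J₁ (C r) := fun _ => rfl
  have hopen := Groth.Agent.Lib.Helper3.FlatOpen.isOpen_flatLocus_of_finitePresentation
    (R := R) (S := A₁) (M := A₁)
  -- Claim 2a
  have claimA : ∀ 𝔓 : PrimeSpectrum A₁,
      (∀ t ∈ 𝔪.primeCompl, algebraMap R A₁ t ∉ 𝔓.asIdeal) →
      Module.Flat R (LocalizedModule 𝔓.asIdeal.primeCompl A₁) := by
    intro 𝔓 h𝔓
    rw [Module.Flat.flat_iff_torsion_eq_bot_of_valuationRing_localization_isMaximal hR']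
    rw [Submodule.eq_bot_iff]
    intro x hx
    rw [Submodule.mem_torsion_iff] at hx
    obtain ⟨r, hr⟩ := hx
    induction x using LocalizedModule.induction_on with
    | h a s =>
      rw [Submonoid.smul_def, LocalizedModule.smul'_mk, ← LocalizedModule.zero_mk s,
        LocalizedModule.mk_eq] at hr
      obtain ⟨u, hu⟩ := hr
      rw [smul_zero, smul_zero] at hu
      -- hu : u • s • (r • a) = 0
      obtain ⟨a₀, rfl⟩ := Ideal.Quotient.mk_surjective a
      obtain ⟨w₀, hw₀⟩ := Ideal.Quotient.mk_surjective ((u : A₁) * (s : A₁))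
      have h1 : Ideal.Quotient.mk J₁ (C (r : R) * (w₀ * a₀)) = 0 := by
        rw [map_mul, map_mul, hw₀, ← halg]
        rw [Submonoid.smul_def, Submonoid.smul_def, smul_eq_mul, smul_eq_mul] at hu
        have hu' : (u : A₁) * ((s : A₁) * (algebraMap R A₁ (r : R) * Ideal.Quotient.mk J₁ a₀)) = 0 := by
          rw [← Algebra.smul_def]; exact hu
        rw [← hu']
        ring
      have h2 : C (r : R) * (w₀ * a₀) ∈ I := hJ₁I (Ideal.Quotient.eq_zero_iff_mem.mp h1)
      have h3 : w₀ * a₀ ∈ I := hsat r _ (nonZeroDivisors.ne_zero r.2) h2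
      obtain ⟨t, ht, ht2⟩ := hG _ h3
      have h4 : algebraMap R A₁ t * ((u : A₁) * (s : A₁) * Ideal.Quotient.mk J₁ a₀) = 0 := by
        rw [halg, ← hw₀, ← map_mul, ← map_mul]
        exact Ideal.Quotient.eq_zero_iff_mem.mpr ht2
      have htP : algebraMap R A₁ t ∈ 𝔓.asIdeal.primeCompl := h𝔓 t ht
      rw [← LocalizedModule.zero_mk s, LocalizedModule.mk_eq]
      refine ⟨⟨algebraMap R A₁ t, htP⟩ * u, ?_⟩
      rw [smul_zero, smul_zero, Submonoid.smul_def, Submonoid.smul_def, smul_eq_mul, smul_eq_mul,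
        Submonoid.coe_mul]
      rw [← h4]
      ring
  -- Claim 2b
  have claimB : ∃ f : R, f ∉ 𝔪 ∧ ∀ 𝔓 : PrimeSpectrum A₁, algebraMap R A₁ f ∉ 𝔓.asIdeal →
      Module.Flat R (LocalizedModule 𝔓.asIdeal.primeCompl A₁) := by
    let U : Set (PrimeSpectrum A₁) :=
      {q | Module.Flat R (LocalizedModule q.asIdeal.primeCompl A₁)}
    have hU : IsOpen U := hopen
    let 𝔠 : Ideal A₁ := PrimeSpectrum.vanishingIdeal Uᶜ
    by_cases hex : ∃ f : R, f ∉ 𝔪 ∧ algebraMap R A₁ f ∈ 𝔠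
    · obtain ⟨f, hf, hf𝔠⟩ := hex
      refine ⟨f, hf, fun 𝔓 h𝔓 => ?_⟩
      by_contra hnot
      have h𝔓Z : 𝔓 ∈ Uᶜ := hnot
      exact h𝔓 ((PrimeSpectrum.mem_vanishingIdeal _ _).mp hf𝔠 𝔓 h𝔓Z)
    · exfalso
      push Not at hex
      have hdisj : Disjoint (𝔠 : Set A₁)
          (Submonoid.map (algebraMap R A₁) 𝔪.primeCompl : Set A₁) := by
        rw [Set.disjoint_left]
        rintro x hx ⟨t, ht, rfl⟩
        exact hex t ht hx
      obtain ⟨𝔓, h𝔓prime, h𝔠le, h𝔓disj⟩ := Ideal.exists_le_prime_disjoint 𝔠 _ hdisj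
      let P : PrimeSpectrum A₁ := ⟨𝔓, h𝔓prime⟩
      have hPZ : P ∈ Uᶜ := by
        have h1 : P ∈ PrimeSpectrum.zeroLocus (𝔠 : Set A₁) := by
          rw [PrimeSpectrum.mem_zeroLocus]
          exact h𝔠le
        rw [PrimeSpectrum.zeroLocus_vanishingIdeal_eq_closure, hU.isClosed_compl.closure_eq] at h1
        exact h1
      apply hPZ
      apply claimA P
      intro t ht htP
      exact Set.disjoint_left.mp h𝔓disj htP ⟨t, ht, rfl⟩
  obtain ⟨f, hf, hflat⟩ := claimB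
  refine ⟨f, hf, G, hGsub, ?_⟩
  intro p hp
  let pbar : A₁ := Ideal.Quotient.mk J₁ p
  let 𝔞 : Ideal A₁ := LinearMap.ker (LinearMap.toSpanSingleton A₁ A₁ pbar)
  have h𝔞 : ∀ x : A₁, x ∈ 𝔞 ↔ x * pbar = 0 := by
    intro x
    rw [LinearMap.mem_ker, LinearMap.toSpanSingleton_apply, smul_eq_mul]
  obtain ⟨t, ht, ht2⟩ := hG p hp
  have ht0 : t ≠ 0 := fun h => ht (h ▸ 𝔪.zero_mem)
  have htp : algebraMap R A₁ t * pbar = 0 := by
    rw [halg, ← map_mul]
    exact Ideal.Quotient.eq_zero_iff_mem.mpr ht2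
  have hrad : algebraMap R A₁ f ∈ 𝔞.radical := by
    rw [Ideal.radical_eq_sInf, Ideal.mem_sInf]
    rintro 𝔓 ⟨hle, hprime⟩
    by_contra hf𝔓
    haveI := hflat ⟨𝔓, hprime⟩ hf𝔓
    have hreg : IsSMulRegular (LocalizedModule 𝔓.primeCompl A₁) t :=
      Module.Flat.isSMulRegular_of_nonZeroDivisors (M := LocalizedModule 𝔓.primeCompl A₁)
        (mem_nonZeroDivisors_of_ne_zero ht0)
    have htp' : t • pbar = 0 := (Algebra.smul_def t pbar).trans htp
    have h1 : t • LocalizedModule.mk pbar (1 : 𝔓.primeCompl) = t • 0 := by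
      rw [LocalizedModule.smul'_mk, htp', LocalizedModule.zero_mk, smul_zero]
    have h2 := hreg h1
    rw [← LocalizedModule.zero_mk (1 : 𝔓.primeCompl), LocalizedModule.mk_eq] at h2
    obtain ⟨u, hu⟩ := h2
    rw [smul_zero, smul_zero, one_smul, Submonoid.smul_def, smul_eq_mul] at hu
    exact u.2 (hle ((h𝔞 _).mpr hu))
  obtain ⟨k, hk⟩ := hrad
  refine ⟨k, ?_⟩
  have h1 := (h𝔞 _).mp hk
  rw [← map_pow, halg, ← map_mul] at h1
  exact Ideal.Quotient.eq_zero_iff_mem.mp h1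

/-- **Nagata over Prüfer domains, ideal form**: a saturated ideal of a polynomial ring over a
domain all of whose localisations at maximal ideals are valuation rings is finitely generated. -/
theorem fg_of_saturated_ideal_prufer
    (hR : ∀ (p : Ideal R) [p.IsMaximal], ValuationRing (Localization.AtPrime p))
    (I : Ideal (MvPolynomial (Fin n) R))
    (hsat : ∀ (a : R) (p : MvPolynomial (Fin n) R), a ≠ 0 → C a * p ∈ I → p ∈ I) : I.FG := by
  classical
  let PR := MvPolynomial (Fin n) R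
  let F : Set R := {f | ∃ G : Finset PR, (↑G : Set PR) ⊆ I ∧
    ∀ p ∈ I, ∃ k : ℕ, C (f ^ k) * p ∈ Ideal.span (G : Set PR)}
  have hF : Ideal.span F = ⊤ := by
    by_contra hne
    obtain ⟨𝔪, h𝔪, hle⟩ := Ideal.exists_le_maximal _ hne
    obtain ⟨f, hf, G, hG1, hG2⟩ := exists_pow_local hR I hsat 𝔪
    exact hf (hle (Ideal.subset_span ⟨G, hG1, hG2⟩))
  obtain ⟨F', hF'sub, hF'top⟩ := (Ideal.span_eq_top_iff_finite F).mp hF
  have hch : ∀ f : R, ∃ G : Finset PR, f ∈ F → ((↑G : Set PR) ⊆ I ∧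
      ∀ p ∈ I, ∃ k : ℕ, C (f ^ k) * p ∈ Ideal.span (G : Set PR)) := by
    intro f
    by_cases hf : f ∈ F
    · obtain ⟨G, hG⟩ := hf
      exact ⟨G, fun _ => hG⟩
    · exact ⟨∅, fun h => absurd h hf⟩
  choose Gf hGf using hch
  refine ⟨F'.biUnion Gf, ?_⟩
  apply le_antisymm
  · rw [Ideal.span_le]
    intro q hq
    rw [Finset.mem_coe, Finset.mem_biUnion] at hq
    obtain ⟨f, hf, hq⟩ := hq
    exact (hGf f (hF'sub hf)).1 hq
  · intro p hp
    let 𝔡 : Ideal R := Ideal.comap (C : R →+* PR)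
      ((Ideal.span ((F'.biUnion Gf : Finset PR) : Set PR)).colon {p})
    have h𝔡 : ∀ r : R, r ∈ 𝔡 ↔ C r * p ∈ Ideal.span ((F'.biUnion Gf : Finset PR) : Set PR) := by
      intro r
      rw [Ideal.mem_comap, Submodule.mem_colon_singleton, smul_eq_mul]
    have hk : ∀ f : R, ∃ k : ℕ, f ∈ F' → f ^ k ∈ 𝔡 := by
      intro f
      by_cases hf : f ∈ F'
      · obtain ⟨k, hk⟩ := (hGf f (hF'sub hf)).2 p hp
        refine ⟨k, fun _ => (h𝔡 _).mpr ?_⟩
        refine Ideal.span_mono ?_ hk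
        intro q hq
        rw [Finset.mem_coe, Finset.mem_biUnion]
        exact ⟨f, hf, hq⟩
      · exact ⟨0, fun h => absurd h hf⟩
    choose kf hkf using hk
    let K : ℕ := F'.sup kf
    have hK : ∀ f ∈ F', f ^ K ∈ 𝔡 := by
      intro f hf
      have hle : kf f ≤ K := Finset.le_sup hf
      obtain ⟨d, hd⟩ := Nat.exists_eq_add_of_le hle
      rw [hd, pow_add]
      exact 𝔡.mul_mem_right _ (hkf f hf)
    have htop : 𝔡 = ⊤ := by
      rw [eq_top_iff, ← Ideal.span_pow_eq_top (F' : Set R) hF'top K, Ideal.span_le]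
      rintro _ ⟨f, hf, rfl⟩
      exact hK f hf
    have h1 : (1 : R) ∈ 𝔡 := htop ▸ Submodule.mem_top
    have := (h𝔡 1).mp h1
    rwa [map_one, one_mul] at this

end Step2

end Groth.Agent.Lib.Helper22.PruferNagata
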