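import Mathlib
import Groth.Agent.Lib.Helper22PruferNagataB

set_option autoImplicit false
set_option linter.unusedSectionVars false
set_option linter.unusedVariables false
set_option linter.style.haveILetI false

open MvPolynomial

namespace Groth.Agent.Lib.Helper22.PruferNagata

universe u

section algebra

variable {R : Type u} [CommRing R] [IsDomain R]

/-- **Nagata over Prüfer domains**: a finite type torsion-free algebra is finitely presented. -/
theorem finitePresentation_of_torsionFree_prufer
    (hR : ∀ (p : Ideal R) [p.IsMaximal], ValuationRing (Localization.AtPrime p))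
    (A : Type u) [CommRing A] [Algebra R A]
    [Algebra.FiniteType R A] (htf : ∀ (a : R) (x : A), a ≠ 0 → a • x = 0 → x = 0) :
    Algebra.FinitePresentation R A := by
  obtain ⟨n, f, hf⟩ := Algebra.FiniteType.iff_quotient_mvPolynomial''.mp
    (inferInstance : Algebra.FiniteType R A)
  refine Algebra.FinitePresentation.of_surjective hf ?_
  apply fg_of_saturated_ideal_prufer hR
  intro a p ha hap
  rw [RingHom.mem_ker] at hap ⊢
  have h1 : f (a • p) = 0 := by
    rw [smul_eq_C_mul]
    exact hap
  rw [map_smul] at h1
  exact htf a _ ha h1

open TrivSqZeroExt in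
/-- module version, via idealization -/
theorem finitePresentation_module_of_torsionFree_prufer
    (hR : ∀ (p : Ideal R) [p.IsMaximal], ValuationRing (Localization.AtPrime p))
    (P : Type u) [CommRing P] [Algebra R P]
    [Algebra.FiniteType R P] (hP : ∀ (a : R) (x : P), a ≠ 0 → a • x = 0 → x = 0)
    (M : Type u) [AddCommGroup M] [Module P M] [Module R M] [IsScalarTower R P M]
    [Module.Finite P M] (hM : ∀ (a : R) (x : M), a ≠ 0 → a • x = 0 → x = 0) :
    Module.FinitePresentation P M := by
  letI : Module Pᵐᵒᵖ M := Module.compHom M ((RingHom.id P).fromOpposite fun _ _ => mul_comm _ _)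
  haveI : IsCentralScalar P M := ⟨fun r m => rfl⟩
  haveI : IsScalarTower R Pᵐᵒᵖ M := ⟨fun a r m => by
    change (a • r).unop • m = a • (r.unop • m)
    rw [MulOpposite.unop_smul, smul_assoc]⟩
  haveI hfin : Module.Finite P (TrivSqZeroExt P M) :=
    (inferInstance : Module.Finite P (P × M))
  haveI : Algebra.FiniteType P (TrivSqZeroExt P M) := Module.Finite.finiteType _
  haveI : Algebra.FiniteType R (TrivSqZeroExt P M) := Algebra.FiniteType.trans ‹_› ‹_›
  haveI hfpV : Algebra.FinitePresentation R (TrivSqZeroExt P M) := by
    apply finitePresentation_of_torsionFree_prufer hR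
    intro a x ha hax
    have h1 := congrArg TrivSqZeroExt.fst hax
    have h2 := congrArg TrivSqZeroExt.snd hax
    rw [fst_smul, fst_zero] at h1
    rw [snd_smul, snd_zero] at h2
    exact TrivSqZeroExt.ext (hP a _ ha h1) (hM a _ ha h2)
  haveI hfpP : Algebra.FinitePresentation P (TrivSqZeroExt P M) :=
    Algebra.FinitePresentation.of_restrict_scalars_finitePresentation R P _
  haveI : Module.FinitePresentation P (TrivSqZeroExt P M) :=
    Module.FinitePresentation.of_finite_of_finitePresentation P _
  refine Module.finitePresentation_of_surjective (sndHom P M) snd_surjective ?_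
  refine ⟨{inl 1}, ?_⟩
  rw [Finset.coe_singleton]
  apply le_antisymm
  · rw [Submodule.span_le, Set.singleton_subset_iff]
    exact snd_inl M 1
  · intro x hx
    rw [Submodule.mem_span_singleton]
    refine ⟨x.fst, TrivSqZeroExt.ext ?_ ?_⟩
    · rw [fst_smul, fst_inl, smul_eq_mul, mul_one]
    · rw [snd_smul, snd_inl, smul_zero]
      exact (LinearMap.mem_ker.mp hx).symm

/-- polynomial rings over Prüfer domains are coherent -/
theorem finitePresentation_ideal_mvPolynomial
    (hR : ∀ (p : Ideal R) [p.IsMaximal], ValuationRing (Localization.AtPrime p))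
    (n : ℕ) (I' : Ideal (MvPolynomial (Fin n) R)) (hI' : I'.FG) :
    Module.FinitePresentation (MvPolynomial (Fin n) R) I' := by
  haveI : Module.Finite (MvPolynomial (Fin n) R) I' := Module.Finite.iff_fg.mpr hI'
  have hP : ∀ (a : R) (x : MvPolynomial (Fin n) R), a ≠ 0 → a • x = 0 → x = 0 := by
    intro a x ha hax
    rw [smul_eq_C_mul, mul_eq_zero] at hax
    rcases hax with h | h
    · exact absurd (C_eq_zero.mp h) ha
    · exact h
  apply finitePresentation_module_of_torsionFree_prufer hR (MvPolynomial (Fin n) R) hP I'
  intro a x ha hax
  apply Subtype.ext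
  have := congrArg Subtype.val hax
  rw [Submodule.coe_smul_of_tower] at this
  exact hP a _ ha this

end algebra

/-- a module over a quotient ring which is finitely presented over the big ring is finitely
presented over the quotient -/
theorem finitePresentation_of_surjective_algebraMap
    {P A : Type*} [CommRing P] [CommRing A] [Algebra P A]
    (hsurj : Function.Surjective (algebraMap P A))
    (N : Type*) [AddCommGroup N] [Module P N] [Module A N] [IsScalarTower P A N]
    [Module.FinitePresentation P N] : Module.FinitePresentation A N := by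
  haveI : Module.Finite A N := Module.Finite.of_restrictScalars_finite P A N
  haveI : Module.Finite P A := Module.Finite.of_surjective (Algebra.linearMap P A) hsurj
  obtain ⟨m, π, hπ⟩ := Module.Finite.exists_fin' A N
  have hfgP := Module.FinitePresentation.fg_ker (π.restrictScalars P) hπ
  refine Module.finitePresentation_of_surjective π hπ ?_
  obtain ⟨s, hs⟩ := hfgP
  refine ⟨s, ?_⟩
  apply le_antisymm
  · rw [Submodule.span_le]
    intro x hx
    have : x ∈ LinearMap.ker (π.restrictScalars P) := hs ▸ Submodule.subset_span hx
    exact this
  · intro x hx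
    have h1 : x ∈ LinearMap.ker (π.restrictScalars P) := hx
    rw [← hs] at h1
    exact Submodule.span_le_restrictScalars P A _ h1

section main

variable {R : Type u} [CommRing R] [IsDomain R]

/-- finitely presented algebras over Prüfer domains are coherent rings -/
theorem ideal_finitePresentation_of_prufer
    (hR : ∀ (p : Ideal R) [p.IsMaximal], ValuationRing (Localization.AtPrime p))
    (A : Type u) [CommRing A] [Algebra R A] [Algebra.FinitePresentation R A]
    (I : Ideal A) (hI : I.FG) : Module.FinitePresentation A I := by
  classical
  obtain ⟨n, f, hf, hJ⟩ := (Algebra.FinitePresentation.out : ∃ (n : ℕ)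
    (f : MvPolynomial (Fin n) R →ₐ[R] A), Function.Surjective f ∧ (RingHom.ker f.toRingHom).FG)
  let P := MvPolynomial (Fin n) R
  let φ : P →+* A := f.toRingHom
  have hφ : Function.Surjective φ := hf
  obtain ⟨s, hs⟩ := hI
  let σ := Function.surjInv hφ
  let T : Finset P := s.image σ
  have hmap : Ideal.map φ (Ideal.span (T : Set P)) = I := by
    rw [Ideal.map_span, Finset.coe_image, Set.image_image]
    have : (fun x => φ (σ x)) = id := funext fun x => Function.surjInv_eq hφ x
    rw [this, Set.image_id]
    exact hs
  let I' : Ideal P := Ideal.comap φ I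
  have hJle : RingHom.ker φ ≤ I' := by
    intro x hx
    rw [RingHom.mem_ker] at hx
    change φ x ∈ I
    rw [hx]
    exact I.zero_mem
  have hI' : I'.FG := by
    change (Ideal.comap φ I).FG
    rw [← hmap, Ideal.comap_map_of_surjective φ hφ]
    refine Submodule.FG.sup ⟨T, rfl⟩ ?_
    rw [← RingHom.ker_eq_comap_bot]
    exact hJ
  haveI hfpI' : Module.FinitePresentation P I' := finitePresentation_ideal_mvPolynomial hR n I' hI'
  letI : Algebra P A := φ.toAlgebra
  have hsm : ∀ (c : P) (a : A), c • a = φ c * a := fun c a => rfl
  let g : I' →ₗ[P] I :=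
    { toFun := fun x => ⟨φ x.1, x.2⟩
      map_add' := fun x y => Subtype.ext (map_add φ _ _)
      map_smul' := fun c x => Subtype.ext (by
        change φ (c * x.1) = c • φ x.1
        rw [map_mul, hsm]) }
  have hg : Function.Surjective g := by
    rintro ⟨a, ha⟩
    obtain ⟨x, rfl⟩ := hφ a
    exact ⟨⟨x, ha⟩, rfl⟩
  have hker : (LinearMap.ker g).FG := by
    apply Submodule.fg_of_fg_map_injective I'.subtype I'.injective_subtype
    have : (LinearMap.ker g).map I'.subtype = RingHom.ker φ := by
      ext x
      rw [Submodule.mem_map]
      constructor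
      · rintro ⟨y, hy, rfl⟩
        rw [LinearMap.mem_ker] at hy
        exact congrArg Subtype.val hy
      · intro hx
        refine ⟨⟨x, hJle hx⟩, ?_, rfl⟩
        rw [LinearMap.mem_ker]
        exact Subtype.ext hx
    rw [this]
    exact hJ
  haveI : Module.FinitePresentation P I := Module.finitePresentation_of_surjective g hg hker
  exact finitePresentation_of_surjective_algebraMap (P := P) (A := A) hφ I

end main

end Groth.Agent.Lib.Helper22.PruferNagata
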