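import Mathlib
import Groth.Prelude.Def_FEt
import Groth.Agent.Lib.Helper22Hartogs2

/-!
helper22: descent of purity along fpqc morphisms (SGA 2 X 3.x), part A.
* `bijective_res_of_flat`: Hartogs extension (depth ≥ 2 outside `U`) persists after flat base change
  (on affine opens mapping into affine opens), via Mathlib's flat base change of sections.
* `finite_etale_cobase`: the base change computation `Γ(W, h⁻¹ US) ⊗ Γ(T) = Γ(W̃_T)`.
-/

set_option autoImplicit false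
set_option linter.style.haveILetI false
set_option linter.unusedSectionVars false
set_option linter.unusedVariables false
set_option linter.unnecessarySimpa false
universe u

namespace Groth.Agent.Lib.Helper22.PurDesc
open AlgebraicGeometry CategoryTheory CategoryTheory.Limits TopologicalSpace

/-- Hartogs extension under flat base change, on an affine open mapping into an affine open. -/
theorem bijective_res_of_flat {Y Z : Scheme.{u}} [IsLocallyNoetherian Y] (U : Y.Opens)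
    (h : ∀ y : Y, y ∉ U → (2 : ℕ∞) ≤ LocCoh.depth (Y.presheaf.stalk y) (Y.presheaf.stalk y))
    (q : Z ⟶ Y) [Flat q] (US : Y.Opens) (hUS : IsAffineOpen US) (Ω : Z.Opens) (hΩ : IsAffineOpen Ω)
    (hle : Ω ≤ q ⁻¹ᵁ US) (V' : Z.Opens) (hV' : V' ≤ Ω) (hV'e : V' = Ω ⊓ q ⁻¹ᵁ U) :
    Function.Bijective (Z.presheaf.map (homOfLE hV').op) := by
  have H := isPullback_morphismRestrict q U
  have hUSX : U.ι ⁻¹ᵁ US ≤ U.ι ⁻¹ᵁ US := le_rfl
  have hcomp : IsCompact (X := (U : Scheme.{u})) (U.ι ⁻¹ᵁ US) :=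
    QuasiCompact.isCompact_preimage (f := U.ι) _ US.2 hUS.isCompact
  have hqs : IsQuasiSeparated (α := (U : Scheme.{u})) (U.ι ⁻¹ᵁ US) :=
    (isQuasiSeparated_univ (α := (U : Scheme.{u}))).of_subset (Set.subset_univ _)
  have hiso := isIso_pushoutSection_of_isQuasiSeparated_of_flat_right H hle hUSX rfl hUS hΩ hcomp hqs
  -- the left map is an isomorphism by Hartogs
  have hleft : IsIso (U.ι.appLE US (U.ι ⁻¹ᵁ US) hUSX) := by
    rw [← Scheme.Hom.app_eq_appLE]
    rw [ConcreteCategory.isIso_iff_bijective]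
    rw [Scheme.Opens.ι_app]
    refine Groth.Agent.Lib.Helper22.Hartogs.bijective_res_of_depth U h US _ _ ?_ ?_
    · rintro x ⟨hxV, hxU⟩
      exact ⟨⟨x, hxU⟩, hxV, rfl⟩
    · rintro _ ⟨x, -, rfl⟩
      exact x.2
  have hinr : IsIso (pushout.inr (U.ι.appLE US (U.ι ⁻¹ᵁ US) hUSX) (q.appLE US Ω hle)) :=
    inferInstance
  have hcomp2 : pushout.inr (U.ι.appLE US (U.ι ⁻¹ᵁ US) hUSX) (q.appLE US Ω hle) ≫
      pushoutSection H hle hUSX rfl = (q ⁻¹ᵁ U).ι.appLE Ω _ (by simp) :=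
    pushout.inr_desc _ _ _
  have hI : IsIso ((q ⁻¹ᵁ U).ι.appLE Ω ((q ∣_ U) ⁻¹ᵁ (U.ι ⁻¹ᵁ US) ⊓ (q ⁻¹ᵁ U).ι ⁻¹ᵁ Ω) (by simp)) := by
    rw [← hcomp2]
    infer_instance
  rw [Scheme.Opens.ι_appLE] at hI
  have hb := (ConcreteCategory.isIso_iff_bijective _).mp hI
  have key : ∀ (V'' : Z.Opens) (hV'' : V'' ≤ Ω), V'' = V' →
      Function.Bijective (Z.presheaf.map (homOfLE hV'').op) → 
      Function.Bijective (Z.presheaf.map (homOfLE hV').op) := by
    rintro V'' hV'' rfl hh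
    exact hh
  refine key _ _ ?_ hb
  rw [hV'e]
  ext z
  constructor
  · rintro ⟨w, ⟨hw1, hw2⟩, rfl⟩
    exact ⟨hw2, w.2⟩
  · rintro ⟨hz1, hz2⟩
    refine ⟨⟨z, hz2⟩, ⟨?_, hz1⟩, rfl⟩
    show (q ∣_ U).base ⟨z, hz2⟩ ∈ U.ι ⁻¹ᵁ US
    show U.ι.base ((q ∣_ U).base ⟨z, hz2⟩) ∈ US
    have e1 : U.ι.base ((q ∣_ U).base ⟨z, hz2⟩) = q.base z := by
      have := congrArg (fun f => f.base ⟨z, hz2⟩) (morphismRestrict_ι q U)
      simpa using this
    rw [e1]
    exact hle hz1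

/-- The base change computation (scheme form). -/
theorem finite_etale_cobase_core {Y U' T W' WT' Q : Scheme.{u}} [IsLocallyNoetherian Y] (j : U' ⟶ Y)
    [IsOpenImmersion j]
    (hd : ∀ y : Y, y ∉ j.opensRange →
      (2 : ℕ∞) ≤ LocCoh.depth (Y.presheaf.stalk y) (Y.presheaf.stalk y))
    (fW : W' ⟶ U') [IsFinite fW] (US : Y.Opens) (hUS : IsAffineOpen US)
    [IsAffine T] (c : T ⟶ Y) [Flat c] (hc : ⊤ ≤ c ⁻¹ᵁ US)
    (fT : WT' ⟶ T) [IsFinite fT] [Etale fT]
    (a : Q ⟶ W') (b : Q ⟶ WT') [IsOpenImmersion b]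
    (H : IsPullback a (b ≫ fT) (fW ≫ j) c)
    (hb : Set.range b.base = (fT ≫ c).base ⁻¹' (Set.range j.base)) :
    (pushout.inr ((fW ≫ j).appLE US ((fW ≫ j) ⁻¹ᵁ US) le_rfl) (c.appLE US ⊤ hc)).hom.Finite ∧
    (pushout.inr ((fW ≫ j).appLE US ((fW ≫ j) ⁻¹ᵁ US) le_rfl) (c.appLE US ⊤ hc)).hom.Etale := by
  haveI : IsAffine WT' := isAffine_of_isAffineHom fT
  haveI : IsLocallyNoetherian U' := isLocallyNoetherian_of_isOpenImmersion j
  haveI : IsLocallyNoetherian W' := LocallyOfFiniteType.isLocallyNoetherian fW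
  have hUSX : (fW ≫ j) ⁻¹ᵁ US ≤ (fW ≫ j) ⁻¹ᵁ US := le_rfl
  have hcomp : IsCompact (X := W') ((fW ≫ j) ⁻¹ᵁ US) :=
    QuasiCompact.isCompact_preimage (f := fW ≫ j) _ US.2 hUS.isCompact
  have hqs : IsQuasiSeparated (α := W') ((fW ≫ j) ⁻¹ᵁ US) :=
    (isQuasiSeparated_univ (α := W')).of_subset (Set.subset_univ _)
  have hUY : (⊤ : Q.Opens) = a ⁻¹ᵁ ((fW ≫ j) ⁻¹ᵁ US) ⊓ (b ≫ fT) ⁻¹ᵁ ⊤ := by
    ext x
    simp only [Opens.coe_top, Set.mem_univ, Opens.coe_inf, Set.mem_inter_iff, true_iff]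
    refine ⟨?_, trivial⟩
    show (fW ≫ j).base (a.base x) ∈ US
    have e1 : (fW ≫ j).base (a.base x) = c.base ((b ≫ fT).base x) := by
      have := congrArg (fun f => f.base x) H.w
      simpa using this
    rw [e1]
    exact hc (Set.mem_univ _)
  have hiso := isIso_pushoutSection_of_isQuasiSeparated_of_flat_right H hc hUSX hUY hUS
    (isAffineOpen_top T) hcomp hqs
  have hcomp2 : pushout.inr ((fW ≫ j).appLE US ((fW ≫ j) ⁻¹ᵁ US) hUSX) (c.appLE US ⊤ hc) ≫
      pushoutSection H hc hUSX hUY = (b ≫ fT).appLE ⊤ ⊤ (by simp) :=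
    pushout.inr_desc _ _ _
  have hsplit : (b ≫ fT).appLE ⊤ ⊤ (by simp) = fT.appLE ⊤ ⊤ (by simp) ≫ b.appLE ⊤ ⊤ (by simp) :=
    (Scheme.Hom.appLE_comp_appLE b fT ⊤ ⊤ ⊤ (by simp) (by simp)).symm
  -- `b` induces an isomorphism on global sections by Hartogs
  have hbiso : IsIso (b.appLE ⊤ ⊤ (by simp)) := by
    have h1 := Scheme.Hom.appLE_appIso_inv b (U := ⊤) (V := ⊤) (by simp)
    have h2 : Function.Bijective (WT'.presheaf.map (homOfLE (le_top : b ''ᵁ ⊤ ≤ ⊤)).op) := by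
      refine bijective_res_of_flat j.opensRange hd (fT ≫ c) US hUS ⊤ (isAffineOpen_top _) ?_ _ _ ?_
      · intro x _
        exact hc (Set.mem_univ _)
      · ext x
        simp only [Scheme.Hom.coe_image, Opens.coe_top, Set.image_univ, Opens.coe_inf,
          Set.univ_inter]
        rw [hb]
        rfl
    have h3 : IsIso (WT'.presheaf.map (homOfLE (le_top : b ''ᵁ ⊤ ≤ ⊤)).op) :=
      (ConcreteCategory.isIso_iff_bijective _).mpr h2
    have h4 : b.appLE ⊤ ⊤ (by simp) =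
        WT'.presheaf.map (homOfLE (le_top : b ''ᵁ ⊤ ≤ ⊤)).op ≫ (b.appIso ⊤).hom := by
      rw [← h1, Category.assoc, Iso.inv_hom_id, Category.comp_id]
    rw [h4]
    infer_instance
  have hφ : pushout.inr ((fW ≫ j).appLE US ((fW ≫ j) ⁻¹ᵁ US) hUSX) (c.appLE US ⊤ hc) =
      fT.appLE ⊤ ⊤ (by simp) ≫ (b.appLE ⊤ ⊤ (by simp) ≫ inv (pushoutSection H hc hUSX hUY)) := by
    rw [← Category.assoc, ← hsplit, ← hcomp2, Category.assoc, IsIso.hom_inv_id, Category.comp_id]
  rw [hφ]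
  constructor
  · rw [CommRingCat.hom_comp, RingHom.finite_respectsIso.cancel_right_isIso]
    have := Scheme.Hom.finite_appTop fT
    rwa [Scheme.Hom.appTop, Scheme.Hom.app_eq_appLE] at this
  · rw [CommRingCat.hom_comp, RingHom.Etale.respectsIso.cancel_right_isIso]
    exact HasRingHomProperty.appLE (P := @Etale) fT inferInstance ⟨⊤, isAffineOpen_top _⟩
      ⟨⊤, isAffineOpen_top _⟩ _


/-- The base change computation: the cobase change of `Γ(Y, US) → Γ(W, h⁻¹ US)` along a flat map from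
an affine scheme over which the pullback of `W` extends to a finite étale cover is finite étale. -/
theorem finite_etale_cobase {Y U' T : Scheme.{u}} [IsLocallyNoetherian Y] (j : U' ⟶ Y)
    [IsOpenImmersion j]
    (hd : ∀ y : Y, y ∉ j.opensRange →
      (2 : ℕ∞) ≤ LocCoh.depth (Y.presheaf.stalk y) (Y.presheaf.stalk y))
    (W : FEt.Cat U') (US : Y.Opens) (hUS : IsAffineOpen US)
    [IsAffine T] (c : T ⟶ Y) [Flat c] (hc : ⊤ ≤ c ⁻¹ᵁ US)
    (WT : FEt.Cat T)
    (e : (FEt.restrict (pullback.snd j c)).obj WT ≅ (FEt.restrict (pullback.fst j c)).obj W) :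
    (pushout.inr ((W.hom ≫ j).appLE US ((W.hom ≫ j) ⁻¹ᵁ US) le_rfl) (c.appLE US ⊤ hc)).hom.Finite ∧
    (pushout.inr ((W.hom ≫ j).appLE US ((W.hom ≫ j) ⁻¹ᵁ US) le_rfl) (c.appLE US ⊤ hc)).hom.Etale := by
  have hWT : IsFinite WT.hom ∧ Etale WT.hom := WT.prop
  have hW : IsFinite W.hom ∧ Etale W.hom := W.prop
  let el : pullback WT.hom (pullback.snd j c) ⟶ pullback W.hom (pullback.fst j c) := e.hom.left
  let eli : pullback W.hom (pullback.fst j c) ⟶ pullback WT.hom (pullback.snd j c) := e.inv.left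
  have hel1 : el ≫ eli = 𝟙 _ := by
    show (e.hom ≫ e.inv).left = _
    rw [e.hom_inv_id]; rfl
  have hel2 : eli ≫ el = 𝟙 _ := by
    show (e.inv ≫ e.hom).left = _
    rw [e.inv_hom_id]; rfl
  have hel : el ≫ pullback.snd W.hom (pullback.fst j c) = pullback.snd WT.hom (pullback.snd j c) :=
    MorphismProperty.Over.w e.hom
  have big : IsPullback (pullback.fst W.hom (pullback.fst j c))
      (pullback.snd W.hom (pullback.fst j c) ≫ pullback.snd j c) (W.hom ≫ j) c :=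
    (IsPullback.of_hasPullback W.hom (pullback.fst j c)).paste_vert (IsPullback.of_hasPullback j c)
  have H : IsPullback (el ≫ pullback.fst W.hom (pullback.fst j c))
      (pullback.fst WT.hom (pullback.snd j c) ≫ WT.hom) (W.hom ≫ j) c := by
    refine big.of_iso (e₁ := ⟨eli, el, hel2, hel1⟩) (e₂ := Iso.refl _) (e₃ := Iso.refl _)
      (e₄ := Iso.refl _) ?_ ?_ ?_ ?_
    · simp only [Iso.refl_hom, Category.comp_id]
      rw [← Category.assoc, hel2, Category.id_comp]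
    · simp only [Iso.refl_hom, Category.comp_id]
      rw [pullback.condition, ← hel, Category.assoc, ← Category.assoc, hel2, Category.id_comp]
    · simp
    · simp
  haveI : IsFinite (W.hom : W.left ⟶ U') := hW.1
  haveI : IsFinite (WT.hom : WT.left ⟶ T) := hWT.1
  haveI : Etale (WT.hom : WT.left ⟶ T) := hWT.2
  refine finite_etale_cobase_core j hd (W.hom : W.left ⟶ U') US hUS c hc (WT.hom : WT.left ⟶ T)
    (el ≫ pullback.fst W.hom (pullback.fst j c)) (pullback.fst WT.hom (pullback.snd j c)) H ?_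
  rw [Scheme.Pullback.range_fst, Scheme.Pullback.range_snd]
  rfl

end Groth.Agent.Lib.Helper22.PurDesc
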