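import Mathlib
import Groth.Prelude.Def_FEt
import Groth.Agent.Lib.Helper22Hartogs2
import Groth.Agent.Lib.Helper22PurExtA
import Groth.Agent.Lib.Helper22PurDescA

/-!
helper22: descent of purity along fpqc morphisms (SGA 2 X 3.x), part B.
* `finite_etale_of_isPushout`: codescent of finite étale along faithfully flat, `CommRingCat` form.
* `exists_affine_cover`, `faithfullyFlat_appLE`: affine faithfully flat refinement over an affine open.
* `finite_etale_app`: sections of `W` over preimages of affine opens are finite étale.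
* `finite_etale_fromNormalization`, `isPullback_toNormalization`: the relative normalization is the
  extension.
* `exists_extension_of_fpqc`: a finite étale cover of an open `U'` (depth ≥ 2 outside) extends as
  soon as its pullback to an fpqc cover extends.
-/

set_option autoImplicit false
set_option linter.style.haveILetI false
set_option linter.unusedSectionVars false
set_option linter.unusedVariables false
set_option linter.unnecessarySimpa false
universe u

namespace Groth.Agent.Lib.Helper22.PurDesc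
open AlgebraicGeometry CategoryTheory CategoryTheory.Limits TopologicalSpace
open Groth.Agent.Lib.Helper22.PurExt

/-- codescent of finite étale along a faithfully flat ring map, in `CommRingCat` pushout form. -/
theorem finite_etale_of_isPushout {R S R' S' : CommRingCat.{u}} (f : R ⟶ S) (g : R ⟶ R')
    (f' : S ⟶ S') (g' : R' ⟶ S') (hsq : IsPushout f g f' g')
    (hg : g.hom.FaithfullyFlat)
    (h1 : g'.hom.Finite) (h2 : g'.hom.Etale) :
    f.hom.Finite ∧ f.hom.Etale := by
  algebraize [f.hom, g.hom, f'.hom, g'.hom, f'.hom.comp f.hom]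
  have : IsScalarTower R S S' := .of_algebraMap_eq fun x ↦ rfl
  have : IsScalarTower R R' S' := .of_algebraMap_eq fun x ↦ congr($(hsq.1.1).hom x)
  have : Algebra.IsPushout R S R' S' := (CommRingCat.isPushout_iff_isPushout.mp hsq)
  exact ⟨RingHom.Finite.codescendsAlong_faithfullyFlat (R := R) (S := S) (R' := R') (S' := S') hg h1,
    RingHom.Etale.codescendsAlong_faithfullyFlat (R := R) (S := S) (R' := R') (S' := S') hg h2⟩

/-- faithful flatness of the map on sections from surjectivity onto an affine open. -/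
theorem faithfullyFlat_appLE {T Y : Scheme.{u}} [IsAffine T] (c : T ⟶ Y) [Flat c] (US : Y.Opens)
    (hUS : IsAffineOpen US) (hc : ⊤ ≤ c ⁻¹ᵁ US) (hsurj : ∀ y ∈ US, ∃ t : T, c.base t = y) :
    (c.appLE US ⊤ hc).hom.FaithfullyFlat := by
  rw [RingHom.FaithfullyFlat.iff_flat_and_comap_surjective]
  refine ⟨c.flat_appLE hUS (isAffineOpen_top T) hc, ?_⟩
  intro p
  have hy : hUS.fromSpec.base p ∈ US := by
    have h0 : hUS.fromSpec.base p ∈ hUS.fromSpec.opensRange := ⟨p, rfl⟩
    have h1 : (hUS.fromSpec.opensRange : Set Y) = US :=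
      congrArg (fun V : Y.Opens => (V : Set Y)) hUS.opensRange_fromSpec
    exact (Set.ext_iff.mp h1 _).mp h0
  obtain ⟨t, ht⟩ := hsurj _ hy
  have hT := isAffineOpen_top T
  have ht' : t ∈ (hT.fromSpec.opensRange) := by
    have h0 : t ∈ (⊤ : T.Opens) := trivial
    have h1 : (hT.fromSpec.opensRange : Set T) = (⊤ : T.Opens) :=
      congrArg (fun V : T.Opens => (V : Set T)) hT.opensRange_fromSpec
    exact (Set.ext_iff.mp h1 _).mpr h0
  obtain ⟨q, hq⟩ := ht'
  refine ⟨q, ?_⟩
  have hnat := IsAffineOpen.SpecMap_appLE_fromSpec c hUS hT hc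
  have h1 : hUS.fromSpec.base ((Spec.map (c.appLE US ⊤ hc)).base q) = hUS.fromSpec.base p := by
    have := congrArg (fun f => f.base q) hnat
    simp only [Scheme.Hom.comp_base, TopCat.comp_app] at this
    rw [this, hq, ht]
  exact hUS.fromSpec.isOpenEmbedding.injective h1

/-- an affine flat refinement of a quasi-compact surjective morphism over an affine open. -/
theorem exists_affine_cover {Y Y₁ : Scheme.{u}} (g : Y₁ ⟶ Y) [Surjective g] [QuasiCompact g]
    (US : Y.Opens) (hUS : IsAffineOpen US) :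
    ∃ (T : Scheme.{u}) (_ : IsAffine T) (c' : T ⟶ Y₁) (_ : Flat c'),
      (⊤ : T.Opens) ≤ (c' ≫ g) ⁻¹ᵁ US ∧ ∀ y ∈ US, ∃ t : T, (c' ≫ g).base t = y := by
  have hcomp : IsCompact (X := Y₁) (g ⁻¹ᵁ US) :=
    QuasiCompact.isCompact_preimage (f := g) _ US.2 hUS.isCompact
  obtain ⟨s, hs, e⟩ := isCompact_iff_finite_and_eq_biUnion_affineOpens.mp hcomp
  haveI : Finite s := hs.to_subtype
  haveI : ∀ i : s, IsAffine ((i.1 : Y₁.Opens) : Scheme.{u}) := fun i => i.1.2
  obtain ⟨c', hc'⟩ : ∃ c' : (∐ fun i : s => ((i.1 : Y₁.Opens) : Scheme.{u})) ⟶ Y₁,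
      c' = Sigma.desc (fun i : s => (i.1 : Y₁.Opens).ι) := ⟨_, rfl⟩
  have hι : ∀ i : s, Sigma.ι (fun i : s => ((i.1 : Y₁.Opens) : Scheme.{u})) i ≫ c' =
      (i.1 : Y₁.Opens).ι := by
    intro i; rw [hc']; exact Sigma.ι_desc _ _
  have hflat : Flat c' := by
    rw [hc']; exact IsZariskiLocalAtSource.sigmaDesc (P := @Flat) (fun i => inferInstance)
  have hrange : ∀ t, c'.base t ∈ g ⁻¹ᵁ US := by
    intro t
    obtain ⟨i, w, rfl⟩ := (sigmaOpenCover (fun i : s => ((i.1 : Y₁.Opens) : Scheme.{u}))).exists_eq t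
    have h1 : c'.base ((Sigma.ι (fun i : s => ((i.1 : Y₁.Opens) : Scheme.{u})) i).base w) =
        (i.1 : Y₁.Opens).ι.base w := by
      have := congrArg (fun f => f.base w) (hι i)
      simpa using this
    show c'.base ((Sigma.ι (fun i : s => ((i.1 : Y₁.Opens) : Scheme.{u})) i).base w) ∈ g ⁻¹ᵁ US
    rw [h1, e]
    simp only [Opens.iSup_mk, Opens.carrier_eq_coe, Opens.mem_mk, Set.mem_iUnion,
      SetLike.mem_coe, exists_prop]
    exact ⟨i.1, i.2, w.2⟩
  refine ⟨_, inferInstance, c', hflat, ?_, ?_⟩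
  · intro t _
    exact hrange t
  · intro y hy
    obtain ⟨y₁, rfl⟩ := g.surjective y
    have hy₁ : y₁ ∈ g ⁻¹ᵁ US := hy
    rw [e] at hy₁
    simp only [Opens.iSup_mk, Opens.carrier_eq_coe, Opens.mem_mk, Set.mem_iUnion,
      SetLike.mem_coe, exists_prop] at hy₁
    obtain ⟨i, his, hyi⟩ := hy₁
    refine ⟨(Sigma.ι (fun i : s => ((i.1 : Y₁.Opens) : Scheme.{u})) ⟨i, his⟩).base ⟨y₁, hyi⟩, ?_⟩
    have := congrArg (fun f => f.base ⟨y₁, hyi⟩) (hι ⟨i, his⟩)
    simp only [Scheme.Hom.comp_base, TopCat.comp_app] at this ⊢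
    rw [this]
    rfl

/-- pulling back the extension data along a morphism to the cover. -/
noncomputable def pullData {Y U' Y₁ T : Scheme.{u}} (j : U' ⟶ Y) (W : FEt.Cat U') (g : Y₁ ⟶ Y)
    (W₁ : FEt.Cat Y₁)
    (e₁ : (FEt.restrict (pullback.snd j g)).obj W₁ ≅ (FEt.restrict (pullback.fst j g)).obj W)
    (c' : T ⟶ Y₁) :
    (FEt.restrict (pullback.snd j (c' ≫ g))).obj ((FEt.restrict c').obj W₁) ≅
      (FEt.restrict (pullback.fst j (c' ≫ g))).obj W :=
  let m : pullback j (c' ≫ g) ⟶ pullback j g :=
    pullback.lift (pullback.fst j (c' ≫ g)) (pullback.snd j (c' ≫ g) ≫ c')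
      (by rw [pullback.condition, Category.assoc])
  (restrictSq (pullback.snd j (c' ≫ g)) c' m (pullback.snd j g)
      (pullback.lift_snd _ _ _).symm).app W₁ ≪≫
    (FEt.restrict m).mapIso e₁ ≪≫
    ((restrictComp m (pullback.fst j g) (pullback.fst j (c' ≫ g))
      (pullback.lift_fst _ _ _).symm).app W).symm

/-- **Key claim**: sections of `W` over the preimage of an affine open are finite étale. -/
theorem finite_etale_app {Y U' Y₁ : Scheme.{u}} [IsLocallyNoetherian Y] (j : U' ⟶ Y)
    [IsOpenImmersion j]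
    (hd : ∀ y : Y, y ∉ j.opensRange →
      (2 : ℕ∞) ≤ LocCoh.depth (Y.presheaf.stalk y) (Y.presheaf.stalk y))
    (W : FEt.Cat U') (g : Y₁ ⟶ Y) [Flat g] [Surjective g] [QuasiCompact g]
    (W₁ : FEt.Cat Y₁)
    (e₁ : (FEt.restrict (pullback.snd j g)).obj W₁ ≅ (FEt.restrict (pullback.fst j g)).obj W)
    (US : Y.Opens) (hUS : IsAffineOpen US) :
    ((W.hom ≫ j).appLE US ((W.hom ≫ j) ⁻¹ᵁ US) le_rfl).hom.Finite ∧
    ((W.hom ≫ j).appLE US ((W.hom ≫ j) ⁻¹ᵁ US) le_rfl).hom.Etale := by
  obtain ⟨T, hT, c', hflat, hc, hsurj⟩ := exists_affine_cover g US hUS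
  have h1 := finite_etale_cobase j hd W US hUS (c' ≫ g) hc ((FEt.restrict c').obj W₁)
    (pullData j W g W₁ e₁ c')
  exact finite_etale_of_isPushout _ _ _ _ (IsPushout.of_hasPushout _ _)
    (faithfullyFlat_appLE (c' ≫ g) US hUS hc hsurj) h1.1 h1.2

set_option backward.isDefEq.respectTransparency false in
theorem appTop_restrict_iff' {X S : Scheme.{u}} (f : X ⟶ S)
    {Q : ∀ {R T : Type u} [CommRing R] [CommRing T], (R →+* T) → Prop}
    (hQ : RingHom.RespectsIso @Q) (W : S.Opens) :
    Q ((f ∣_ W).appTop).hom ↔ Q (f.app W).hom := by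
  rw [morphismRestrict_appTop, CommRingCat.hom_comp, hQ.cancel_right_isIso]
  have : ∀ (V : S.Opens), V = W → (Q (f.app V).hom ↔ Q (f.app W).hom) := by
    rintro V rfl; rfl
  exact this _ (Scheme.Opens.ι_image_top W)

/-- If the sections of `X` over preimages of affine opens are finite étale over the sections of
`Y`, the relative normalization of `Y` in `X` is finite étale. -/
theorem finite_etale_fromNormalization {X Y : Scheme.{u}} (f : X ⟶ Y) [QuasiCompact f]
    [QuasiSeparated f]
    (key : ∀ (U : Y.Opens), IsAffineOpen U → (f.app U).hom.Finite ∧ (f.app U).hom.Etale) :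
    IsFinite f.fromNormalization ∧ Etale f.fromNormalization := by
  have main : ∀ (U : Y.Opens), IsAffineOpen U →
      (f.fromNormalization.app U).hom.Finite ∧ (f.fromNormalization.app U).hom.Etale := by
    intro U hU
    obtain ⟨h1, h2⟩ := key U hU
    letI := (f.app U).hom.toAlgebra
    haveI : Module.Finite Γ(Y, U) Γ(X, f ⁻¹ᵁ U) := h1
    haveI : Algebra.Etale Γ(Y, U) Γ(X, f ⁻¹ᵁ U) := RingHom.etale_algebraMap.mp h2
    have htop : integralClosure Γ(Y, U) Γ(X, f ⁻¹ᵁ U) = ⊤ :=
      integralClosure_eq_top_iff.mpr inferInstance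
    let e : integralClosure Γ(Y, U) Γ(X, f ⁻¹ᵁ U) ≃ₐ[Γ(Y, U)] Γ(X, f ⁻¹ᵁ U) :=
      (Subalgebra.equivOfEq _ _ htop).trans Subalgebra.topEquiv
    rw [Scheme.Hom.fromNormalization_app f hU, CommRingCat.hom_comp,
      RingHom.finite_respectsIso.cancel_right_isIso, RingHom.Etale.respectsIso.cancel_right_isIso]
    exact ⟨RingHom.finite_algebraMap.2 (Module.Finite.equiv e.symm.toLinearEquiv),
      RingHom.etale_algebraMap.2 (Algebra.Etale.of_equiv e.symm)⟩
  constructor
  · exact { finite_app := fun U hU => (main U hU).1 }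
  · rw [IsZariskiLocalAtTarget.iff_of_iSup_eq_top (P := @Etale) _ (iSup_affineOpens_eq_top Y)]
    intro U
    haveI : IsAffine (U.1 : Scheme.{u}) := U.2
    haveI : IsAffine ((f.fromNormalization ⁻¹ᵁ U.1 : f.normalization.Opens) : Scheme.{u}) :=
      U.2.preimage f.fromNormalization
    rw [HasRingHomProperty.iff_of_isAffine (P := @Etale),
      appTop_restrict_iff' f.fromNormalization RingHom.Etale.respectsIso U.1]
    exact (main U.1 U.2).2

/-- the relative normalization of `Y` in a finite cover `W` of an open `U'` restricts to `W`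
over `U'`. -/
theorem isPullback_toNormalization {Y U' W' : Scheme.{u}} [IsLocallyNoetherian Y] (j : U' ⟶ Y)
    [IsOpenImmersion j] (fW : W' ⟶ U') [IsFinite fW] (h : W' ⟶ Y) [QuasiCompact h]
    [QuasiSeparated h] (hh : h = fW ≫ j) :
    IsPullback h.toNormalization fW h.fromNormalization j := by
  haveI : IsLocallyNoetherian U' := isLocallyNoetherian_of_isOpenImmersion j
  haveI : LocallyQuasiFinite h := by rw [hh]; infer_instance
  haveI : LocallyOfFiniteType h := by rw [hh]; infer_instance
  haveI : IsSeparated h := by rw [hh]; infer_instance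
  have hw : h.toNormalization ≫ h.fromNormalization = fW ≫ j := by
    rw [Scheme.Hom.toNormalization_fromNormalization, hh]
  let l : W' ⟶ pullback h.fromNormalization j := pullback.lift h.toNormalization fW hw
  have hl1 : l ≫ pullback.fst h.fromNormalization j = h.toNormalization := pullback.lift_fst _ _ _
  have hl2 : l ≫ pullback.snd h.fromNormalization j = fW := pullback.lift_snd _ _ _
  haveI : IsOpenImmersion (l ≫ pullback.fst h.fromNormalization j) := by rw [hl1]; infer_instance
  haveI : IsOpenImmersion l := IsOpenImmersion.of_comp l (pullback.fst h.fromNormalization j)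
  haveI : IsFinite (l ≫ pullback.snd h.fromNormalization j) := by rw [hl2]; infer_instance
  haveI : IsFinite l := IsFinite.of_comp l (pullback.snd h.fromNormalization j)
  -- `l` is surjective: its range is closed and dense
  have hrange : Set.range l.base = (pullback.fst h.fromNormalization j).base ⁻¹'
      Set.range h.toNormalization.base := by
    ext y
    constructor
    · rintro ⟨w, rfl⟩
      refine ⟨w, ?_⟩
      have := congrArg (fun f => f.base w) hl1
      simpa using this.symm
    · rintro ⟨w, hw'⟩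
      refine ⟨w, ?_⟩
      apply (pullback.fst h.fromNormalization j).isOpenEmbedding.injective
      have := congrArg (fun f => f.base w) hl1
      simp only [Scheme.Hom.comp_base, TopCat.comp_app] at this
      rw [this, hw']
  have hdense : Dense (Set.range l.base) := by
    rw [hrange]
    exact h.toNormalization.denseRange.preimage (pullback.fst h.fromNormalization j).isOpenMap
  have hclosed : IsClosed (Set.range l.base) := l.isClosedMap.isClosed_range
  have hsurj : Function.Surjective l.base := by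
    rw [← Set.range_eq_univ, ← hclosed.closure_eq]
    exact hdense.closure_eq
  haveI : Surjective l := ⟨hsurj⟩
  haveI : IsIso l := (isIso_iff_isOpenImmersion_and_surjective l).mpr ⟨inferInstance, inferInstance⟩
  have := IsPullback.of_iso (IsPullback.of_hasPullback h.fromNormalization j)
    (e₁ := (asIso l).symm) (e₂ := Iso.refl _) (e₃ := Iso.refl _) (e₄ := Iso.refl _)
    (fst' := h.toNormalization) (snd' := fW) (f' := h.fromNormalization) (g' := j)
    (by simp [← hl1]) (by simp [← hl2]) (by simp) (by simp)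
  exact this

/-- **Descent of extensions**: a finite étale cover of an open `U'` of a locally Noetherian scheme
`Y` with depth at least two outside `U'` extends to `Y` as soon as its pullback to an fpqc cover
`Y₁` extends over `Y₁`. -/
theorem exists_extension_of_fpqc {Y U' Y₁ : Scheme.{u}} [IsLocallyNoetherian Y] (j : U' ⟶ Y)
    [IsOpenImmersion j]
    (hd : ∀ y : Y, y ∉ j.opensRange →
      (2 : ℕ∞) ≤ LocCoh.depth (Y.presheaf.stalk y) (Y.presheaf.stalk y))
    (W : FEt.Cat U') (g : Y₁ ⟶ Y) [Flat g] [Surjective g] [QuasiCompact g]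
    (W₁ : FEt.Cat Y₁)
    (e₁ : (FEt.restrict (pullback.snd j g)).obj W₁ ≅ (FEt.restrict (pullback.fst j g)).obj W) :
    ∃ E : FEt.Cat Y, Nonempty ((FEt.restrict j).obj E ≅ W) := by
  have hW : IsFinite W.hom ∧ Etale W.hom := W.prop
  haveI : IsFinite (W.hom : W.left ⟶ U') := hW.1
  haveI : IsLocallyNoetherian U' := isLocallyNoetherian_of_isOpenImmersion j
  haveI : QuasiCompact ((W.hom : W.left ⟶ U') ≫ j) := inferInstance
  haveI : QuasiSeparated ((W.hom : W.left ⟶ U') ≫ j) := inferInstance
  have key : ∀ (U : Y.Opens), IsAffineOpen U →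
      (((W.hom : W.left ⟶ U') ≫ j).app U).hom.Finite ∧
      (((W.hom : W.left ⟶ U') ≫ j).app U).hom.Etale := by
    intro U hU
    rw [Scheme.Hom.app_eq_appLE]
    exact finite_etale_app j hd W g W₁ e₁ U hU
  obtain ⟨hfin, het⟩ := finite_etale_fromNormalization ((W.hom : W.left ⟶ U') ≫ j) key
  have sq := isPullback_toNormalization j (W.hom : W.left ⟶ U') ((W.hom : W.left ⟶ U') ≫ j) rfl
  refine ⟨MorphismProperty.Over.mk ⊤ ((W.hom : W.left ⟶ U') ≫ j).fromNormalization ⟨hfin, het⟩, ⟨?_⟩⟩
  exact (MorphismProperty.Over.isoMk sq.isoPullback sq.isoPullback_hom_snd).symm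

end Groth.Agent.Lib.Helper22.PurDesc
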