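import Mathlib
import Groth.Prelude.Def_FEt
import Groth.Agent.S7757
import Groth.Agent.Lib.Helper22Hartogs2
import Groth.Agent.Lib.Helper22PurExtA
import Groth.Agent.Lib.Helper22PurDescB

/-!
helper22: descent of purity along fpqc morphisms (SGA 2 X 3.x), part C: the statement for opens.
-/

set_option autoImplicit false
set_option linter.style.haveILetI false
set_option linter.unusedSectionVars false
set_option linter.unusedVariables false
set_option linter.unnecessarySimpa false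
universe u

namespace Groth.Agent.Lib.Helper22.PurDesc
open AlgebraicGeometry CategoryTheory CategoryTheory.Limits TopologicalSpace
open Groth.Agent.Lib.Helper22.PurExt

/-- depth of the local rings of an open subscheme. -/
theorem depth_stalk_opens {X : Scheme.{u}} [IsLocallyNoetherian X] (V : X.Opens) (y : V) :
    LocCoh.depth ((V : Scheme.{u}).presheaf.stalk y) ((V : Scheme.{u}).presheaf.stalk y) =
      LocCoh.depth (X.presheaf.stalk (V.ι.base y)) (X.presheaf.stalk (V.ι.base y)) := by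
  have e : X.presheaf.stalk (V.ι.base y) ≅ (V : Scheme.{u}).presheaf.stalk y :=
    asIso (V.ι.stalkMap y)
  exact (Groth.Agent.Lib.Helper28.depth_self_eq_of_ringEquiv e.commRingCatIsoToRingEquiv).symm

/-- full faithfulness of restriction to an open with depth at least two outside. -/
theorem fullyFaithful_of_depth {Y U' : Scheme.{u}} [IsLocallyNoetherian Y] (j : U' ⟶ Y)
    [IsOpenImmersion j]
    (hd : ∀ y : Y, y ∉ j.opensRange →
      (2 : ℕ∞) ≤ LocCoh.depth (Y.presheaf.stalk y) (Y.presheaf.stalk y)) :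
    (FEt.restrict j).Full ∧ (FEt.restrict j).Faithful := by
  apply Groth.Agent.S7757.result
  intro O
  have hle : j ''ᵁ j ⁻¹ᵁ O ≤ O := by
    rintro _ ⟨w, hw, rfl⟩
    exact hw
  have h1 : j.app O ≫ (j.appIso (j ⁻¹ᵁ O)).inv = Y.presheaf.map (homOfLE hle).op :=
    Scheme.Hom.app_appIso_inv j O
  have h2 : Function.Bijective (Y.presheaf.map (homOfLE hle).op) := by
    refine Groth.Agent.Lib.Helper22.Hartogs.bijective_res_of_depth j.opensRange hd O _ _ ?_ ?_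
    · rintro x ⟨hxO, ⟨w, rfl⟩⟩
      exact ⟨w, hxO, rfl⟩
    · rintro _ ⟨w, -, rfl⟩
      exact ⟨w, rfl⟩
  have h3 : j.app O = Y.presheaf.map (homOfLE hle).op ≫ (j.appIso (j ⁻¹ᵁ O)).hom := by
    rw [← h1, Category.assoc, Iso.inv_hom_id, Category.comp_id]
  rw [h3]
  have h4 : Function.Bijective (j.appIso (j ⁻¹ᵁ O)).hom :=
    (ConcreteCategory.isIso_iff_bijective _).mp inferInstance
  exact h4.comp h2

/-- **Descent of extensions**, for an arbitrary pullback square. -/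
theorem exists_extension_of_fpqc' {Y U' Y₁ P : Scheme.{u}} [IsLocallyNoetherian Y] (j : U' ⟶ Y)
    [IsOpenImmersion j]
    (hd : ∀ y : Y, y ∉ j.opensRange →
      (2 : ℕ∞) ≤ LocCoh.depth (Y.presheaf.stalk y) (Y.presheaf.stalk y))
    (W : FEt.Cat U') (g : Y₁ ⟶ Y) [Flat g] [Surjective g] [QuasiCompact g]
    (p₁ : P ⟶ U') (p₂ : P ⟶ Y₁) (sq : IsPullback p₁ p₂ j g) (W₁ : FEt.Cat Y₁)
    (e : (FEt.restrict p₂).obj W₁ ≅ (FEt.restrict p₁).obj W) :
    ∃ E : FEt.Cat Y, Nonempty ((FEt.restrict j).obj E ≅ W) := by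
  refine exists_extension_of_fpqc j hd W g W₁ ?_
  exact (restrictComp sq.isoPullback.inv p₂ (pullback.snd j g) (by simp)).app W₁ ≪≫
    (FEt.restrict sq.isoPullback.inv).mapIso e ≪≫
    ((restrictComp sq.isoPullback.inv p₁ (pullback.fst j g) (by simp)).app W).symm

/-- the pair `(V, V ∩ U)` is pure as soon as the pair `(f⁻¹ V, f⁻¹ V ∩ f⁻¹ U)` is, for `f` fpqc
and depth at least two outside `U`. -/
theorem isEquivalence_of_fpqc {X X₁ : Scheme.{u}} [IsLocallyNoetherian X] (U : X.Opens)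
    (hU : ∀ x : X, x ∉ U → (2 : ℕ∞) ≤ LocCoh.depth (X.presheaf.stalk x) (X.presheaf.stalk x))
    (f : X₁ ⟶ X) [Flat f] [Surjective f] [QuasiCompact f] (V : X.Opens)
    (hV₁ : (FEt.restrict (X₁.homOfLE (inf_le_left : f ⁻¹ᵁ V ⊓ f ⁻¹ᵁ U ≤ f ⁻¹ᵁ V))).EssSurj) :
    (FEt.restrict (X.homOfLE (inf_le_left : V ⊓ U ≤ V))).IsEquivalence := by
  obtain ⟨j, hj⟩ : ∃ j : ((V ⊓ U : X.Opens) : Scheme.{u}) ⟶ (V : Scheme.{u}),
    j = X.homOfLE (inf_le_left : V ⊓ U ≤ V) := ⟨_, rfl⟩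
  rw [← hj]
  haveI : IsOpenImmersion j := by rw [hj]; infer_instance
  have hjι : j ≫ V.ι = (V ⊓ U).ι := by rw [hj]; exact X.homOfLE_ι _
  -- the depth condition on `V`
  have hd : ∀ y : (V : Scheme.{u}), y ∉ j.opensRange →
      (2 : ℕ∞) ≤ LocCoh.depth ((V : Scheme.{u}).presheaf.stalk y)
        ((V : Scheme.{u}).presheaf.stalk y) := by
    intro y hy
    rw [depth_stalk_opens]
    apply hU
    intro hyU
    apply hy
    refine ⟨⟨V.ι.base y, ⟨y.2, hyU⟩⟩, ?_⟩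
    apply V.ι.isOpenEmbedding.injective
    have := congrArg (fun f => f.base ⟨V.ι.base y, ⟨y.2, hyU⟩⟩) hjι
    simpa using this
  obtain ⟨hfull, hfaith⟩ := fullyFaithful_of_depth j hd
  have hess : (FEt.restrict j).EssSurj := by
    constructor
    intro W
    obtain ⟨g, hg⟩ : ∃ g : ((f ⁻¹ᵁ V : X₁.Opens) : Scheme.{u}) ⟶ (V : Scheme.{u}), g = f ∣_ V :=
      ⟨_, rfl⟩
    haveI : Flat g := by rw [hg]; infer_instance
    haveI : Surjective g := by
      rw [hg]; exact IsZariskiLocalAtTarget.restrict (P := @Surjective) inferInstance V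
    haveI : QuasiCompact g := by rw [hg]; infer_instance
    have hgι : g ≫ V.ι = (f ⁻¹ᵁ V).ι ≫ f := by rw [hg]; exact morphismRestrict_ι f V
    obtain ⟨j₁, hj₁⟩ : ∃ j₁ : ((f ⁻¹ᵁ V ⊓ f ⁻¹ᵁ U : X₁.Opens) : Scheme.{u}) ⟶
        ((f ⁻¹ᵁ V : X₁.Opens) : Scheme.{u}),
      j₁ = X₁.homOfLE (inf_le_left : f ⁻¹ᵁ V ⊓ f ⁻¹ᵁ U ≤ f ⁻¹ᵁ V) := ⟨_, rfl⟩
    haveI : IsOpenImmersion j₁ := by rw [hj₁]; infer_instance
    have hj₁ι : j₁ ≫ (f ⁻¹ᵁ V).ι = (f ⁻¹ᵁ V ⊓ f ⁻¹ᵁ U).ι := by rw [hj₁]; exact X₁.homOfLE_ι _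
    obtain ⟨g', hg'⟩ : ∃ g' : ((f ⁻¹ᵁ V ⊓ f ⁻¹ᵁ U : X₁.Opens) : Scheme.{u}) ⟶
        ((V ⊓ U : X.Opens) : Scheme.{u}),
      g' = f.resLE (V ⊓ U) (f ⁻¹ᵁ V ⊓ f ⁻¹ᵁ U) (le_of_eq (by rfl)) := ⟨_, rfl⟩
    have hg'ι : g' ≫ (V ⊓ U).ι = (f ⁻¹ᵁ V ⊓ f ⁻¹ᵁ U).ι ≫ f := by
      rw [hg']; exact Scheme.Hom.resLE_comp_ι _ _
    have hcomm : j₁ ≫ g = g' ≫ j := by
      rw [← cancel_mono V.ι, Category.assoc, Category.assoc, hgι, hjι, hg'ι, ← Category.assoc, hj₁ι]
    have sq : IsPullback g' j₁ j g := by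
      refine IsOpenImmersion.isPullback g' j₁ j g hcomm ?_
      ext y₁
      constructor
      · rintro ⟨w, hw⟩
        have h1 : V.ι.base (g.base y₁) = f.base ((f ⁻¹ᵁ V).ι.base y₁) := by
          have := congrArg (fun φ => φ.base y₁) hgι
          simpa using this
        have h2 : V.ι.base (j.base w) = (V ⊓ U).ι.base w := by
          have := congrArg (fun φ => φ.base w) hjι
          simpa using this
        have h3 : f.base ((f ⁻¹ᵁ V).ι.base y₁) ∈ U := by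
          rw [← h1, ← hw, h2]
          exact w.2.2
        refine ⟨⟨(f ⁻¹ᵁ V).ι.base y₁, ⟨y₁.2, h3⟩⟩, ?_⟩
        apply (f ⁻¹ᵁ V).ι.isOpenEmbedding.injective
        have := congrArg (fun φ => φ.base ⟨(f ⁻¹ᵁ V).ι.base y₁, ⟨y₁.2, h3⟩⟩) hj₁ι
        simpa using this
      · rintro ⟨z, rfl⟩
        refine ⟨g'.base z, ?_⟩
        have := congrArg (fun φ => φ.base z) hcomm
        simpa using this.symm
    rw [← hj₁] at hV₁
    obtain ⟨W₁, ⟨e⟩⟩ := hV₁.mem_essImage ((FEt.restrict g').obj W)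
    exact exists_extension_of_fpqc' j hd W g g' j₁ sq W₁ e
  exact { faithful := hfaith, full := hfull, essSurj := hess }


end Groth.Agent.Lib.Helper22.PurDesc
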