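import Mathlib

/-!
# `Spec 𝒪_{X,x}` as a cofiltered limit of affine open neighbourhoods (helper26)

For a scheme `X` and a point `x`, `AffNhd x` is the type of affine open neighbourhoods of `x`,
ordered by *reverse* inclusion, so that it is a filtered preorder. We show that the stalk
`𝒪_{X,x}` is the (filtered) colimit of `Γ(X, W)` over `AffNhd x` and deduce that `Spec 𝒪_{X,x}`
is the limit of the diagram `W ↦ Spec Γ(X, W)` indexed by `(AffNhd x)ᵒᵖ`, a cofiltered diagram
of affine schemes (in particular with affine transition maps).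
-/

set_option autoImplicit false
universe u
open CategoryTheory Limits AlgebraicGeometry TopologicalSpace Opposite

namespace Groth.Agent.Lib.Helper26.StalkLim

variable {X : Scheme.{u}} (x : X)

/-- Affine open neighbourhoods of `x`, ordered by reverse inclusion. -/
structure AffNhd where
  /-- the open -/
  U : X.Opens
  /-- it is affine -/
  isAffine : IsAffineOpen U
  /-- it contains `x` -/
  mem : x ∈ U

namespace AffNhd

variable {x}

instance : Preorder (AffNhd x) where
  le a b := b.U ≤ a.U
  le_refl a := le_refl a.U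
  le_trans a b c h₁ h₂ := le_trans h₂ h₁

lemma le_def {a b : AffNhd x} : a ≤ b ↔ b.U ≤ a.U := Iff.rfl

variable (x) in
/-- Every open neighbourhood of `x` contains an affine open neighbourhood. -/
lemma exists_le (V : X.Opens) (hxV : x ∈ V) : ∃ a : AffNhd x, a.U ≤ V := by
  obtain ⟨_, ⟨W, hW, rfl⟩, hxW, hWV⟩ :=
    X.isBasis_affineOpens.exists_subset_of_mem_open hxV V.isOpen
  exact ⟨⟨W, hW, hxW⟩, hWV⟩

instance : Nonempty (AffNhd x) := by
  obtain ⟨a, -⟩ := exists_le x ⊤ trivial
  exact ⟨a⟩

instance : IsDirected (AffNhd x) (· ≤ ·) where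
  directed a b := by
    obtain ⟨c, hc⟩ := exists_le x (a.U ⊓ b.U) ⟨a.mem, b.mem⟩
    exact ⟨c, hc.trans inf_le_left, hc.trans inf_le_right⟩

end AffNhd

/-- The diagram of rings `W ↦ Γ(X, W)`. -/
noncomputable def ringDiagram : AffNhd x ⥤ CommRingCat.{u} where
  obj a := Γ(X, a.U)
  map {a b} f := X.presheaf.map (homOfLE (AffNhd.le_def.mp (leOfHom f))).op
  map_id a := by
    rw [← X.presheaf.map_id]; rfl
  map_comp f g := by
    rw [← X.presheaf.map_comp]; rfl

/-- The cocone with point the stalk. -/
noncomputable def ringCocone : Cocone (ringDiagram x) where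
  pt := X.presheaf.stalk x
  ι :=
    { app := fun a => X.presheaf.germ a.U x a.mem
      naturality := fun a b f => by
        show X.presheaf.map _ ≫ X.presheaf.germ b.U x b.mem = X.presheaf.germ a.U x a.mem ≫ 𝟙 _
        rw [Category.comp_id]
        exact X.presheaf.germ_res _ x b.mem }

/-- The stalk is the colimit of the sections over affine open neighbourhoods. -/
noncomputable def ringIsColimit : IsColimit (ringCocone x) := by
  have : ReflectsColimitsOfShape (AffNhd x) (forget CommRingCat.{u}) :=
    reflectsColimitsOfShape_of_reflectsIsomorphisms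
  refine isColimitOfReflects (forget CommRingCat.{u}) ?_
  refine Types.FilteredColimit.isColimitOf' _ _ ?_ ?_
  · intro s
    change X.presheaf.stalk x at s
    obtain ⟨V, hxV, t, rfl⟩ := X.presheaf.exists_germ_eq s
    obtain ⟨a, ha⟩ := AffNhd.exists_le x V hxV
    refine ⟨a, X.presheaf.map (homOfLE ha).op t, ?_⟩
    exact (X.presheaf.germ_res_apply (homOfLE ha) x a.mem t).symm
  · intro a s t h
    change Γ(X, a.U) at s t
    change X.presheaf.germ a.U x a.mem s = X.presheaf.germ a.U x a.mem t at h
    obtain ⟨V, hxV, i₁, i₂, e⟩ := X.presheaf.germ_eq x a.mem a.mem s t h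
    obtain ⟨b, hb⟩ := AffNhd.exists_le x V hxV
    have hba : b.U ≤ a.U := hb.trans (leOfHom i₁)
    refine ⟨b, homOfLE (AffNhd.le_def.mpr hba), ?_⟩
    show X.presheaf.map (homOfLE hba).op s = X.presheaf.map (homOfLE hba).op t
    have h1 : (homOfLE hba).op = i₁.op ≫ (homOfLE hb).op := rfl
    have h2 : (homOfLE hba).op = i₂.op ≫ (homOfLE hb).op := rfl
    conv_lhs => rw [h1]
    conv_rhs => rw [h2]
    rw [X.presheaf.map_comp, X.presheaf.map_comp, CommRingCat.comp_apply, CommRingCat.comp_apply,
      e]

/-- The diagram `W ↦ Spec Γ(X, W)`. -/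
noncomputable def specDiagram : (AffNhd x)ᵒᵖ ⥤ Scheme.{u} := (ringDiagram x).op ⋙ Scheme.Spec

/-- The cone with point `Spec 𝒪_{X,x}`. -/
noncomputable def specCone : Cone (specDiagram x) := Scheme.Spec.mapCone (ringCocone x).op

/-- `Spec 𝒪_{X,x}` is the limit of `Spec Γ(X, W)` over the affine open neighbourhoods `W`. -/
noncomputable def specIsLimit : IsLimit (specCone x) :=
  isLimitOfPreserves Scheme.Spec (ringIsColimit x).op

instance (i j : (AffNhd x)ᵒᵖ) (f : i ⟶ j) : IsAffineHom ((specDiagram x).map f) := by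
  show IsAffineHom (Spec.map _)
  infer_instance

instance (i : (AffNhd x)ᵒᵖ) : IsAffine ((specDiagram x).obj i) := by
  show IsAffine (Spec _)
  infer_instance

lemma specDiagram_obj (a : AffNhd x) : (specDiagram x).obj (op a) = Spec Γ(X, a.U) := rfl

lemma specCone_pt : (specCone x).pt = Spec (X.presheaf.stalk x) := rfl

lemma specCone_π_app (a : AffNhd x) :
    (specCone x).π.app (op a) = Spec.map (X.presheaf.germ a.U x a.mem) := rfl

lemma specDiagram_map {a b : AffNhd x} (f : a ⟶ b) :
    (specDiagram x).map f.op =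
      Spec.map (X.presheaf.map (homOfLE (AffNhd.le_def.mp (leOfHom f))).op) := rfl

/-- The canonical open immersion `Spec Γ(X, W) ⟶ X`. -/
noncomputable def toX (i : (AffNhd x)ᵒᵖ) : (specDiagram x).obj i ⟶ X := i.unop.isAffine.fromSpec

instance (i : (AffNhd x)ᵒᵖ) : IsOpenImmersion (toX x i) :=
  i.unop.isAffine.isOpenImmersion_fromSpec

lemma toX_op (a : AffNhd x) : toX x (op a) = a.isAffine.fromSpec := rfl

@[reassoc]
lemma map_toX {i j : (AffNhd x)ᵒᵖ} (f : i ⟶ j) : (specDiagram x).map f ≫ toX x j = toX x i := by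
  exact j.unop.isAffine.map_fromSpec i.unop.isAffine _

@[reassoc]
lemma π_toX (i : (AffNhd x)ᵒᵖ) : (specCone x).π.app i ≫ toX x i = X.fromSpecStalk x := by
  exact i.unop.isAffine.fromSpecStalk_eq_fromSpecStalk i.unop.mem

lemma range_toX (i : (AffNhd x)ᵒᵖ) : Set.range (toX x i) = (i.unop.U : Set X) :=
  i.unop.isAffine.range_fromSpec

lemma opensRange_toX (i : (AffNhd x)ᵒᵖ) : (toX x i).opensRange = i.unop.U :=
  i.unop.isAffine.opensRange_fromSpec

end Groth.Agent.Lib.Helper26.StalkLim
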