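import Mathlib
import Groth.Agent.Lib.Helper26LimFP6
import Groth.Agent.S9207

/-!
Coverings of a limit of schemes descend to a stage (helper26).
-/

set_option autoImplicit false
set_option linter.style.haveILetI false
universe u
open CategoryTheory Limits AlgebraicGeometry

namespace Groth.Agent.Lib.Helper26.LimCover

open Groth.Agent.Lib.Helper22.LimBC Groth.Agent.Lib.Helper2.LimLoc Groth.Agent.Lib.Helper26.LimFP

variable {I : Type u} [SmallCategory I] {D : I ⥤ Scheme.{u}} {c : Cone D}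

/-- A model of `f` of finite presentation with property `P` at the stage `i`. -/
def ModelAt (P : MorphismProperty Scheme.{u}) {X : Scheme.{u}} (f : X ⟶ c.pt) (i : I) : Prop :=
  ∃ (Xi : Scheme.{u}) (fi : Xi ⟶ D.obj i) (g : X ⟶ Xi),
    LocallyOfFinitePresentation fi ∧ QuasiCompact fi ∧ QuasiSeparated fi ∧ P fi ∧
      IsPullback g f fi (c.π.app i)

theorem ModelAt.move {P : MorphismProperty Scheme.{u}} [P.IsStableUnderBaseChange]
    {X : Scheme.{u}} {f : X ⟶ c.pt} {i j : I} (h : ModelAt P f i) (φ : j ⟶ i) :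
    ModelAt P f j := by
  obtain ⟨Xi, fi, g, h1, h2, h3, h4, pb⟩ := h
  refine ⟨(bcDiagram D i fi).obj (Over.mk φ), dSnd D i fi (Over.mk φ), bcπ i pb (Over.mk φ),
    ?_, ?_, ?_, ?_, isPullback_bcπ i pb (Over.mk φ)⟩
  · exact MorphismProperty.of_isPullback (isPullback_d D i fi (Over.mk φ)) h1
  · exact MorphismProperty.of_isPullback (isPullback_d D i fi (Over.mk φ)) h2
  · exact MorphismProperty.of_isPullback (isPullback_d D i fi (Over.mk φ)) h3
  · exact MorphismProperty.of_isPullback (isPullback_d D i fi (Over.mk φ)) h4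

/-- Morphisms of finite presentation over the limit with property `P` have a model with `P` at
some stage. -/
def ModelDescent (P : MorphismProperty Scheme.{u}) : Prop :=
  ∀ {I : Type u} [SmallCategory I] [IsCofiltered I] (D : I ⥤ Scheme.{u}) (c : Cone D)
    (_ : IsLimit c) [∀ (i j : I) (f : i ⟶ j), IsAffineHom (D.map f)]
    [∀ i, CompactSpace (D.obj i)] [∀ i, QuasiSeparatedSpace (D.obj i)] {X : Scheme.{u}}
    (f : X ⟶ c.pt) [LocallyOfFinitePresentation f] [QuasiCompact f] [QuasiSeparated f],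
    P f → ∃ i, ModelAt (D := D) P f i

theorem modelDescent_of_qcqsDescent {P : MorphismProperty Scheme.{u}}
    [P.IsStableUnderBaseChange] (H : QcqsDescent P) : ModelDescent P := by
  intro I _ _ D c hc _ _ _ X f _ _ _ hf
  obtain ⟨i, Xi, fi, g, h⟩ := exists_model_of_qcqsDescent H hc f hf
  exact ⟨i, Xi, fi, g, h⟩

/-- Coverings descend: all stages quasi-compact and quasi-separated. -/
theorem exists_descend_cover_qcqs [IsCofiltered I]
    [∀ (i j : I) (f : i ⟶ j), IsAffineHom (D.map f)] [∀ i, CompactSpace (D.obj i)]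
    [∀ i, QuasiSeparatedSpace (D.obj i)] (hc : IsLimit c)
    {P : MorphismProperty Scheme.{u}} [P.IsStableUnderBaseChange] (H : ModelDescent P)
    (hopen : ∀ {A B : Scheme.{u}} (f : A ⟶ B), P f → LocallyOfFinitePresentation f →
      IsOpenMap f)
    {ι : Type u} (U : ι → Scheme.{u}) (u : ∀ a, U a ⟶ c.pt) (hP : ∀ a, P (u a))
    [∀ a, LocallyOfFinitePresentation (u a)] [∀ a, QuasiCompact (u a)]
    [∀ a, QuasiSeparated (u a)] (hcov : ∀ x : c.pt, ∃ (a : ι) (y : U a), (u a).base y = x) :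
    ∃ (i : I) (n : ℕ) (V : Fin n → Scheme.{u}) (v : ∀ j, V j ⟶ D.obj i) (a : Fin n → ι)
      (e : ∀ j, U (a j) ⟶ V j),
      (∀ j, P (v j) ∧ LocallyOfFinitePresentation (v j) ∧ QuasiCompact (v j) ∧
        QuasiSeparated (v j)) ∧
      (∀ x : D.obj i, ∃ (j : Fin n) (y : V j), (v j).base y = x) ∧
      ∀ j, IsPullback (e j) (u (a j)) (v j) (c.π.app i) := by
  classical
  have inst : ∀ {i j : I} (f : i ⟶ j), IsAffineHom (D.map f) := fun f => inferInstance
  have hX : CompactSpace c.pt := Scheme.compactSpace_of_isLimit D c hc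
  -- a finite subcover
  obtain ⟨t, ht⟩ := isCompact_univ.elim_finite_subcover (fun a => Set.range (u a).base)
    (fun a => (hopen (u a) (hP a) inferInstance).isOpen_range)
    (fun x _ => by
      obtain ⟨a, y, h⟩ := hcov x
      exact Set.mem_iUnion.mpr ⟨a, y, h⟩)
  obtain ⟨n, a, ha⟩ : ∃ (n : ℕ) (a : Fin n → ι), ∀ b ∈ t, ∃ j, a j = b :=
    ⟨t.card, fun j => (t.equivFin.symm j).1, fun b hb => ⟨t.equivFin ⟨b, hb⟩, by simp⟩⟩
  have hcov' : ∀ x : c.pt, ∃ (j : Fin n) (y : U (a j)), (u (a j)).base y = x := by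
    intro x
    obtain ⟨b, hb⟩ := Set.mem_iUnion.mp (ht (Set.mem_univ x))
    obtain ⟨hbt, y, hy⟩ := Set.mem_iUnion.mp hb
    obtain ⟨j, rfl⟩ := ha b hbt
    exact ⟨j, y, hy⟩
  -- models at a common stage
  have hm : ∀ j : Fin n, ∃ i, ModelAt (D := D) P (u (a j)) i := fun j =>
    H D c hc (u (a j)) (hP _)
  choose i_ hi_ using hm
  obtain ⟨k, hk⟩ := IsCofiltered.inf_objs_exists (Finset.univ.image i_)
  have φ : ∀ j, k ⟶ i_ j := fun j =>
    (hk (Finset.mem_image_of_mem _ (Finset.mem_univ j))).some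
  have hmk : ∀ j, ModelAt (D := D) P (u (a j)) k := fun j => (hi_ j).move (φ j)
  choose V v e h1 h2 h3 h4 pb using hmk
  -- the complement of the images
  have hvopen : ∀ j, IsOpen (Set.range (v j).base) := fun j =>
    (hopen (v j) (h4 j) (h1 j)).isOpen_range
  have hZ : IsClosed (⋃ j, Set.range (v j).base)ᶜ := (isOpen_iUnion hvopen).isClosed_compl
  obtain ⟨T, τ, hτ1, hτ2⟩ : ∃ (T : Scheme.{u}) (τ : T ⟶ D.obj k), IsClosedImmersion τ ∧
      Set.range τ.base = (⋃ j, Set.range (v j).base)ᶜ :=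
    ⟨_, (Scheme.IdealSheafData.vanishingIdeal ⟨_, hZ⟩).subschemeι, inferInstance, by
      rw [Scheme.IdealSheafData.range_subschemeι,
        Scheme.IdealSheafData.coe_support_vanishingIdeal]; rfl⟩
  have hTc : CompactSpace T := QuasiCompact.compactSpace_of_compactSpace τ
  have hempty : IsEmpty ↥(pullback τ (c.π.app k)) := by
    rw [Scheme.isEmpty_pullback_iff, Set.disjoint_left]
    rintro _ hz ⟨x, rfl⟩
    obtain ⟨j, y, hy⟩ := hcov' x
    have hz' : (c.π.app k).base x ∈ (⋃ j, Set.range (v j).base)ᶜ := hτ2 ▸ hz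
    apply hz'
    refine Set.mem_iUnion.mpr ⟨j, (e j).base y, ?_⟩
    rw [← hy]
    exact congr($((pb j).w).base y)
  obtain ⟨k', ψ, hk'⟩ := Groth.Agent.S9207.result D c hc k τ hempty
  rw [Scheme.isEmpty_pullback_iff, Set.disjoint_left] at hk'
  refine ⟨k', n, fun j => (bcDiagram D k (v j)).obj (Over.mk ψ),
    fun j => dSnd D k (v j) (Over.mk ψ), a, fun j => bcπ k (pb j) (Over.mk ψ), ?_, ?_,
    fun j => isPullback_bcπ k (pb j) (Over.mk ψ)⟩
  · intro j
    exact ⟨MorphismProperty.of_isPullback (isPullback_d D k (v j) (Over.mk ψ)) (h4 j),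
      MorphismProperty.of_isPullback (isPullback_d D k (v j) (Over.mk ψ)) (h1 j),
      MorphismProperty.of_isPullback (isPullback_d D k (v j) (Over.mk ψ)) (h2 j),
      MorphismProperty.of_isPullback (isPullback_d D k (v j) (Over.mk ψ)) (h3 j)⟩
  · intro x
    have hx : (D.map ψ).base x ∈ ⋃ j, Set.range (v j).base := by
      by_contra hcon
      exact hk' (hτ2 ▸ hcon : (D.map ψ).base x ∈ Set.range τ.base) ⟨x, rfl⟩
    obtain ⟨j, hj⟩ := Set.mem_iUnion.mp hx
    have hr := range_of_isPullback (isPullback_d D k (v j) (Over.mk ψ))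
    have hx' : x ∈ Set.range (dSnd D k (v j) (Over.mk ψ)) := by
      rw [hr]; exact hj
    obtain ⟨y, hy⟩ := hx'
    exact ⟨j, y, hy⟩

/-- Coverings descend: only one stage is assumed quasi-compact and quasi-separated. -/
theorem exists_descend_cover [IsCofiltered I]
    [∀ (i j : I) (f : i ⟶ j), IsAffineHom (D.map f)] (hc : IsLimit c) (i₀ : I)
    [CompactSpace (D.obj i₀)] [QuasiSeparatedSpace (D.obj i₀)]
    {P : MorphismProperty Scheme.{u}} [P.IsStableUnderBaseChange] (H : ModelDescent P)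
    (hopen : ∀ {A B : Scheme.{u}} (f : A ⟶ B), P f → LocallyOfFinitePresentation f →
      IsOpenMap f)
    {ι : Type u} (U : ι → Scheme.{u}) (u : ∀ a, U a ⟶ c.pt) (hP : ∀ a, P (u a))
    [∀ a, LocallyOfFinitePresentation (u a)] [∀ a, QuasiCompact (u a)]
    [∀ a, QuasiSeparated (u a)] (hcov : ∀ x : c.pt, ∃ (a : ι) (y : U a), (u a).base y = x) :
    ∃ (i : I) (n : ℕ) (V : Fin n → Scheme.{u}) (v : ∀ j, V j ⟶ D.obj i) (a : Fin n → ι)
      (e : ∀ j, U (a j) ⟶ V j),
      (∀ j, P (v j) ∧ LocallyOfFinitePresentation (v j) ∧ QuasiCompact (v j) ∧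
        QuasiSeparated (v j)) ∧
      (∀ x : D.obj i, ∃ (j : Fin n) (y : V j), (v j).base y = x) ∧
      ∀ j, IsPullback (e j) (u (a j)) (v j) (c.π.app i) := by
  have i1 : ∀ (j k : Over i₀) (f : j ⟶ k), IsAffineHom ((Over.forget i₀ ⋙ D).map f) :=
    fun j k f => (inferInstance : IsAffineHom (D.map f.left))
  have i0 : ∀ j : Over i₀, ∃ φ : D.obj j.left ⟶ D.obj i₀, IsAffineHom φ := fun j =>
    ⟨D.map j.hom, inferInstance⟩
  have i2 : ∀ j : Over i₀, CompactSpace ((Over.forget i₀ ⋙ D).obj j) := fun j => by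
    obtain ⟨φ, hφ⟩ := i0 j
    show CompactSpace (D.obj j.left)
    exact QuasiCompact.compactSpace_of_compactSpace φ
  have i3 : ∀ j : Over i₀, QuasiSeparatedSpace ((Over.forget i₀ ⋙ D).obj j) := fun j => by
    obtain ⟨φ, hφ⟩ := i0 j
    show QuasiSeparatedSpace (D.obj j.left)
    exact quasiSeparatedSpace_of_quasiSeparated φ
  have hc' : IsLimit (c.whisker (Over.forget i₀)) :=
    (Functor.Initial.isLimitWhiskerEquiv (Over.forget i₀) c).symm hc
  obtain ⟨i, n, V, v, a, e, h1, h2, h3⟩ :=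
    exists_descend_cover_qcqs (D := Over.forget i₀ ⋙ D) (c := c.whisker (Over.forget i₀))
      hc' H hopen U u hP hcov
  exact ⟨i.left, n, V, v, a, e, h1, h2, h3⟩

end Groth.Agent.Lib.Helper26.LimCover
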