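import Mathlib
import Groth.Agent.Lib.Helper26LimCover
import Groth.Agent.S9193
import Groth.Agent.S4817
import Groth.Agent.S2075
import Groth.Agent.S5941

/-!
Coverings of a limit of schemes descend to a stage (helper26), part 2: the instances.
-/

set_option autoImplicit false
set_option linter.style.haveILetI false
universe u
open CategoryTheory Limits AlgebraicGeometry

namespace Groth.Agent.Lib.Helper26.LimCover

open Groth.Agent.Lib.Helper22.LimBC Groth.Agent.Lib.Helper2.LimLoc Groth.Agent.Lib.Helper26.LimFP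

theorem qcqsDescent_isImmersion : QcqsDescent.{u} @IsImmersion := by
  intro I _ _ D c hc _ i₀ _ _ X₀ Y₀ f₀ g₀ _ _ _ _ _ X Y f g qY qX hY hX hf
  haveI : IsImmersion f := hf
  exact Groth.Agent.S9193.result D c hc i₀ f₀ g₀ f g qY qX hY hX

theorem qcqsDescent_flat : QcqsDescent.{u} @Flat := by
  intro I _ _ D c hc _ i₀ _ _ X₀ Y₀ f₀ g₀ _ _ _ _ _ X Y f g qY qX hY hX hf
  haveI : Flat f := hf
  exact Groth.Agent.S2075.result D c hc i₀ f₀ g₀ f g qY qX hY hX

theorem modelDescent_isOpenImmersion : ModelDescent.{u} @IsOpenImmersion := by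
  intro I _ _ D c hc _ _ _ X f _ _ _ hf
  haveI : IsOpenImmersion f := hf
  obtain ⟨i, Xi, fi, g, h1, h2, h3, h4, pb⟩ :=
    modelDescent_of_qcqsDescent qcqsDescent_isImmersion D c hc f (inferInstance : IsImmersion f)
  haveI : IsImmersion fi := h4
  have hsnd : IsOpenImmersion (pullback.snd fi (c.π.app i)) := by
    have : pullback.snd fi (c.π.app i) = pb.isoPullback.inv ≫ f := by
      rw [Iso.eq_inv_comp]; exact pb.isoPullback_hom_snd
    rw [this]
    infer_instance
  obtain ⟨j, φ, hj⟩ := (Groth.Agent.S4817.result D c hc i fi).mp hsnd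
  have inst : ∀ {i j : I} (f : i ⟶ j), IsAffineHom (D.map f) := fun f => inferInstance
  refine ⟨j, (bcDiagram D i fi).obj (Over.mk φ), dSnd D i fi (Over.mk φ), bcπ i pb (Over.mk φ),
    ?_, ?_, ?_, hj, isPullback_bcπ i pb (Over.mk φ)⟩
  · exact MorphismProperty.of_isPullback (isPullback_d D i fi (Over.mk φ)) h1
  · exact MorphismProperty.of_isPullback (isPullback_d D i fi (Over.mk φ)) h2
  · exact MorphismProperty.of_isPullback (isPullback_d D i fi (Over.mk φ)) h3

end Groth.Agent.Lib.Helper26.LimCover
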