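import Mathlib
import Groth.Prelude.Def_FEt
import Groth.Agent.Lib.Helper22PurExtA
import Groth.Agent.Lib.Helper26StalkLim
import Groth.Agent.S12073

set_option autoImplicit false
set_option linter.style.haveILetI false
set_option linter.unusedSectionVars false
set_option linter.unusedVariables false
universe u

namespace Groth.Agent.Lib.Helper22.PurExt
open AlgebraicGeometry CategoryTheory CategoryTheory.Limits TopologicalSpace Opposite
open Groth.Agent.Lib.Helper26.StalkLim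

/-- transport of the purity data along an equality of opens. -/
theorem transport_open {Sx X : Scheme.{u}} (fs : Sx ⟶ X) (U' : X.Opens) (W : FEt.Cat Sx)
    (V' : FEt.Cat U') (L₀ L₁ : Sx.Opens) (h : L₀ = L₁)
    (φ₀ : L₀.toScheme ⟶ U'.toScheme) (hφ₀ : φ₀ ≫ U'.ι = L₀.ι ≫ fs)
    (ε₀ : (FEt.restrict L₀.ι).obj W ≅ (FEt.restrict φ₀).obj V') :
    ∃ (φ₁ : L₁.toScheme ⟶ U'.toScheme) (_ : φ₁ ≫ U'.ι = L₁.ι ≫ fs),
      Nonempty ((FEt.restrict L₁.ι).obj W ≅ (FEt.restrict φ₁).obj V') := by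
  subst h
  exact ⟨φ₀, hφ₀, ⟨ε₀⟩⟩

variable {X : Scheme.{u}} (x : X) (U' : X.Opens)

/-- the preimage of `U'` in `Spec 𝒪_{X,x}`, computed through the stage `i₁`. -/
noncomputable def Lopen (i₁ : (AffNhd x)ᵒᵖ) : (Spec (X.presheaf.stalk x)).Opens :=
  (specCone x).π.app i₁ ⁻¹ᵁ (toX x i₁ ⁻¹ᵁ U')

theorem Lopen_eq (i₁ : (AffNhd x)ᵒᵖ) : (X.fromSpecStalk x) ⁻¹ᵁ U' = Lopen x U' i₁ := by
  rw [← π_toX x i₁]
  rfl

variable [IsNoetherian X]

theorem step_aux (i₁ : (AffNhd x)ᵒᵖ)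
    (φ : (Lopen x U' i₁).toScheme ⟶ U'.toScheme)
    (hφ : φ ≫ U'.ι = (Lopen x U' i₁).ι ≫ X.fromSpecStalk x)
    (V' : FEt.Cat U') (W : FEt.Cat (Spec (X.presheaf.stalk x)))
    (ε : (FEt.restrict (Lopen x U' i₁).ι).obj W ≅ (FEt.restrict φ).obj V')
    (W₁ : FEt.Cat ((specDiagram x).obj i₁))
    (ι₁ : (FEt.restrict ((specCone x).π.app i₁)).obj W₁ ≅ W) :
    ∃ (U'' : X.Opens) (hU'U'' : U' ≤ U'') (_ : x ∈ U'') (V'' : FEt.Cat U''),
      Nonempty ((FEt.restrict (X.homOfLE hU'U'')).obj V'' ≅ V') := by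
  have inst : ∀ {i j : (AffNhd x)ᵒᵖ} (f : i ⟶ j), IsAffineHom ((specDiagram x).map f) :=
    fun f => inferInstance
  let D := specDiagram x
  let c := specCone x
  let hc := specIsLimit x
  let T₁ : (D.obj i₁).Opens := toX x i₁ ⁻¹ᵁ U'
  let D' := opensDiagram D i₁ T₁
  let c' := opensCone D c i₁ T₁
  have hc' : IsLimit c' := isLimitOpensCone D c hc i₁ T₁
  let i₀' : Over i₁ := Over.mk (𝟙 i₁)
  let ι₀ : D'.obj i₀' ⟶ D.obj i₁ := (opensDiagramι D i₁ T₁).app i₀'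
  haveI : IsOpenImmersion ι₀ :=
    inferInstanceAs (IsOpenImmersion ((opensDiagramι D i₁ T₁).app i₀'))
  have hr : Set.range (ι₀ ≫ toX x i₁) ⊆ Set.range U'.ι := by
    rintro _ ⟨y, rfl⟩
    rw [Scheme.Opens.range_ι]
    have h1 : (D.map i₀'.hom) (ι₀ y) ∈ T₁ := y.2
    have h2 : D.map i₀'.hom = 𝟙 _ := D.map_id i₁
    rw [h2] at h1
    exact h1
  let τ₀ : D'.obj i₀' ⟶ U'.toScheme := IsOpenImmersion.lift U'.ι (ι₀ ≫ toX x i₁) hr
  have hτ₀ : τ₀ ≫ U'.ι = ι₀ ≫ toX x i₁ := IsOpenImmersion.lift_fac _ _ _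
  let A₀ : FEt.Cat (D'.obj i₀') := (FEt.restrict ι₀).obj W₁
  let B₀ : FEt.Cat (D'.obj i₀') := (FEt.restrict τ₀).obj V'
  let π₀ : (Lopen x U' i₁).toScheme ⟶ D'.obj i₀' := c'.π.app i₀'
  have sq1 : π₀ ≫ ι₀ = (Lopen x U' i₁).ι ≫ c.π.app i₁ := by
    show (c.π.app i₁).resLE _ _ _ ≫ Scheme.Opens.ι _ = _
    rw [Scheme.Hom.resLE_comp_ι]
    rfl
  have sq2 : φ = π₀ ≫ τ₀ := by
    rw [← cancel_mono U'.ι, hφ, Category.assoc, hτ₀, ← Category.assoc, sq1, Category.assoc]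
    exact congrArg _ (π_toX x i₁).symm
  let e₀ : (FEt.restrict π₀).obj A₀ ≅ (FEt.restrict π₀).obj B₀ :=
    (restrictSq π₀ ι₀ (Lopen x U' i₁).ι (c.π.app i₁) sq1).app W₁ ≪≫
      (FEt.restrict (Lopen x U' i₁).ι).mapIso ι₁ ≪≫ ε ≪≫ (restrictComp π₀ τ₀ φ sq2).app V'
  haveI : NoetherianSpace ↥(D'.obj i₀') :=
    (ι₀ ≫ toX x i₁).isOpenEmbedding.isInducing.noetherianSpace
  haveI : IsLocallyNoetherian (D'.obj i₀') := isLocallyNoetherian_of_isOpenImmersion (ι₀ ≫ toX x i₁)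
  obtain ⟨k, ψ, ⟨ek⟩⟩ := exists_iso_stage_fet D' c' hc' i₀' A₀ B₀ e₀
  -- the gluing
  let N : X.Opens := (toX x k.left).opensRange
  let U'' : X.Opens := U' ⊔ N
  let a : U'.toScheme ⟶ U''.toScheme := X.homOfLE le_sup_left
  have ha : a ≫ U''.ι = U'.ι := X.homOfLE_ι _
  have hrb : Set.range (toX x k.left) ⊆ Set.range U''.ι := by
    rw [Scheme.Opens.range_ι]
    intro z hz
    exact Or.inr hz
  let b : D.obj k.left ⟶ U''.toScheme := IsOpenImmersion.lift U''.ι (toX x k.left) hrb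
  have hb : b ≫ U''.ι = toX x k.left := IsOpenImmersion.lift_fac _ _ _
  haveI : IsOpenImmersion (b ≫ U''.ι) := by rw [hb]; infer_instance
  haveI : IsOpenImmersion b := IsOpenImmersion.of_comp b U''.ι
  let wb : D'.obj k ⟶ D.obj k.left := (opensDiagramι D i₁ T₁).app k
  haveI : IsOpenImmersion wb :=
    inferInstanceAs (IsOpenImmersion ((opensDiagramι D i₁ T₁).app k))
  let wa : D'.obj k ⟶ U'.toScheme := D'.map ψ ≫ τ₀
  have hψ : ψ.left = k.hom := by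
    have h1 : ψ.left ≫ 𝟙 i₁ = k.hom := Over.w ψ
    exact (Category.comp_id _).symm.trans h1
  have nat : D'.map ψ ≫ ι₀ = wb ≫ D.map k.hom := by
    have h1 := (opensDiagramι D i₁ T₁).naturality ψ
    rw [← hψ]
    exact h1
  have hH : wb ≫ b = wa ≫ a := by
    rw [← cancel_mono U''.ι, Category.assoc, Category.assoc, hb, ha]
    show wb ≫ toX x k.left = (D'.map ψ ≫ τ₀) ≫ U'.ι
    rw [Category.assoc, hτ₀, ← Category.assoc, nat, Category.assoc, map_toX]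
  have hH' : b ⁻¹ᵁ a.opensRange = wb.opensRange := by
    ext y
    constructor
    · rintro ⟨t, ht⟩
      have h1 : toX x k.left y ∈ U' := by
        have h2 : U''.ι (b y) = toX x k.left y := by rw [← Scheme.Hom.comp_apply, hb]
        rw [← h2, ← ht, ← Scheme.Hom.comp_apply, ha]
        exact t.2
      have h3 : D.map k.hom y ∈ T₁ := by
        show toX x i₁ (D.map k.hom y) ∈ U'
        rw [← Scheme.Hom.comp_apply, map_toX]
        exact h1
      exact ⟨⟨y, h3⟩, rfl⟩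
    · rintro ⟨z, rfl⟩
      refine ⟨wa z, ?_⟩
      rw [← Scheme.Hom.comp_apply, ← Scheme.Hom.comp_apply, hH]
  have hW : IsPullback wa wb a b := IsOpenImmersion.isPullback wa wb a b hH hH'
  have hcov : ∀ s : U''.toScheme, s ∈ Set.range a ∨ s ∈ Set.range b := by
    intro s
    rcases s.2 with hs | hs
    · left
      refine ⟨⟨s.1, hs⟩, ?_⟩
      apply U''.ι.isEmbedding.injective
      rw [← Scheme.Hom.comp_apply, ha]
      rfl
    · right
      obtain ⟨y, hy⟩ := hs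
      refine ⟨y, ?_⟩
      apply U''.ι.isEmbedding.injective
      rw [← Scheme.Hom.comp_apply, hb]
      exact hy
  let VB : FEt.Cat (D.obj k.left) := (FEt.restrict (D.map k.hom)).obj W₁
  let e : (FEt.restrict wa).obj V' ≅ (FEt.restrict wb).obj VB :=
    (restrictComp (D'.map ψ) τ₀ wa rfl).app V' ≪≫ ek.symm ≪≫
      (restrictSq (D'.map ψ) ι₀ wb (D.map k.hom) nat).app W₁
  obtain ⟨E, ⟨iE⟩⟩ := exists_fet_glue a b hcov wa wb hW V' VB e
  refine ⟨U'', le_sup_left, Or.inr ?_, E, ⟨iE⟩⟩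
  show x ∈ (toX x k.left).opensRange
  rw [opensRange_toX]
  exact k.left.unop.mem

theorem exists_larger_extension (V' : FEt.Cat U') (hx : x ∉ U')
    (hmax : ∀ y : X, y ∉ U' → y ⤳ x → y = x)
    (hpur : FEt.PurityHolds (X.presheaf.stalk x)) :
    ∃ (U'' : X.Opens) (hU'U'' : U' ≤ U'') (_ : x ∈ U'') (V'' : FEt.Cat U''),
      Nonempty ((FEt.restrict (X.homOfLE hU'U'')).obj V'' ≅ V') := by
  have hP := preimage_fromSpecStalk_eq_puncturedSpec x U' hx hmax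
  have h' : (FEt.restrict (FEt.puncturedSpec (X.presheaf.stalk x)).ι).EssSurj := hpur
  rw [← hP] at h'
  let L : (Spec (X.presheaf.stalk x)).Opens := (X.fromSpecStalk x) ⁻¹ᵁ U'
  let φ : L.toScheme ⟶ U'.toScheme := (X.fromSpecStalk x).resLE U' L le_rfl
  have hφ : φ ≫ U'.ι = L.ι ≫ X.fromSpecStalk x := Scheme.Hom.resLE_comp_ι _ _
  haveI : (FEt.restrict L.ι).EssSurj := h'
  let W : FEt.Cat (Spec (X.presheaf.stalk x)) :=
    (FEt.restrict L.ι).objPreimage ((FEt.restrict φ).obj V')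
  let ε : (FEt.restrict L.ι).obj W ≅ (FEt.restrict φ).obj V' :=
    (FEt.restrict L.ι).objObjPreimageIso ((FEt.restrict φ).obj V')
  obtain ⟨i₁, W₁, ⟨ι₁⟩⟩ :=
    (Groth.Agent.S12073.result (specDiagram x) (specCone x) (specIsLimit x)).1 W
  obtain ⟨φ₁, hφ₁, ⟨ε₁⟩⟩ := transport_open (X.fromSpecStalk x) U' W V' L (Lopen x U' i₁)
    (Lopen_eq x U' i₁) φ hφ ε
  exact step_aux x U' i₁ φ₁ hφ₁ V' W ε₁ W₁ ι₁

/-- SGA 2 X 3.3-type statement: purity at all points of the complement gives essential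
surjectivity of restriction. -/
theorem essSurj_of_purity (U : X.Opens)
    (h : ∀ x : X, x ∉ U → FEt.PurityHolds (X.presheaf.stalk x)) : (FEt.restrict U.ι).EssSurj := by
  refine ⟨fun V => ?_⟩
  let 𝒮 : Set X.Opens := {U' | ∃ (hle : U ≤ U') (V' : FEt.Cat U'),
    Nonempty ((FEt.restrict (X.homOfLE hle)).obj V' ≅ V)}
  have hU : U ∈ 𝒮 := ⟨le_rfl, V, ⟨restrictIdIso _ (X.homOfLE_rfl _) V⟩⟩
  obtain ⟨U', ⟨hle, V', ⟨iV'⟩⟩, hU'max⟩ :=
    (wellFounded_gt (α := X.Opens)).has_min 𝒮 ⟨U, hU⟩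
  by_cases htop : U' = ⊤
  · subst htop
    haveI : IsIso (⊤ : X.Opens).ι := (inferInstance : IsIso X.topIso.hom)
    let E : FEt.Cat X := (FEt.restrict (inv (⊤ : X.Opens).ι)).obj V'
    refine ⟨E, ⟨?_⟩⟩
    have hcomp : X.homOfLE hle = U.ι ≫ inv (⊤ : X.Opens).ι := by
      rw [← cancel_mono (⊤ : X.Opens).ι, Category.assoc, IsIso.inv_hom_id, Category.comp_id,
        X.homOfLE_ι]
    exact ((restrictComp U.ι (inv (⊤ : X.Opens).ι) (X.homOfLE hle) hcomp).app V').symm ≪≫ iV'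
  · exfalso
    have hne : ((U' : Set X)ᶜ).Nonempty := by
      rw [Set.nonempty_compl]
      intro hh
      exact htop (TopologicalSpace.Opens.ext hh)
    obtain ⟨x, hxZ, hxmax⟩ :=
      exists_maximal_point ((U' : Set X)ᶜ) U'.isOpen.isClosed_compl hne
    have hxU : x ∉ U := fun hh => hxZ (hle hh)
    obtain ⟨U'', hle', hxU'', V'', ⟨i''⟩⟩ := exists_larger_extension x U' V' hxZ
      (fun y hy hyx => hxmax y hy hyx) (h x hxU)
    refine hU'max U'' ⟨hle.trans hle', V'', ⟨?_⟩⟩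
      (lt_of_le_of_ne hle' (fun heq => hxZ (heq ▸ hxU'')))
    exact (restrictComp (X.homOfLE hle) (X.homOfLE hle') (X.homOfLE (hle.trans hle'))
      (X.homOfLE_homOfLE _ _).symm).app V'' ≪≫ (FEt.restrict (X.homOfLE hle)).mapIso i'' ≪≫ iV'

end Groth.Agent.Lib.Helper22.PurExt
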