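import Mathlib
import Groth.Prelude.Def_FlatCA
import Groth.Agent.Lib.Helper22PureFiniteA

set_option autoImplicit false
set_option linter.unusedSectionVars false
set_option linter.style.haveILetI false

open TensorProduct FlatMor

namespace Groth.Agent.Lib.Helper22.PureFinite

universe u

attribute [local instance] Algebra.TensorProduct.rightAlgebra

section Core
variable {A B : Type u} [CommRing A] [CommRing B] [Algebra A B] [Algebra.FiniteType A B]
  (N : Type u) [AddCommGroup N] [Module B N] [Module A N] [IsScalarTower A B N] [Module.Finite B N]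

/-- the extension of the annihilator kills the base change -/
theorem map_annihilator_le (B' : Type u) [CommRing B'] [Algebra B B'] :
    (Module.annihilator B N).map (algebraMap B B') ≤ Module.annihilator B' (B' ⊗[B] N) := by
  rw [Ideal.map_le_iff_le_comap]
  intro b hb
  rw [Ideal.mem_comap, Module.mem_annihilator]
  intro x
  induction x using TensorProduct.induction_on with
  | zero => rw [smul_zero]
  | tmul c n =>
    rw [TensorProduct.smul_tmul', smul_eq_mul, ← Algebra.smul_def, TensorProduct.smul_tmul,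
      Module.mem_annihilator.mp hb n, tmul_zero]
  | add x y hx hy => rw [smul_add, hx, hy, add_zero]

open Groth.Agent.Lib.Helper22.FiberAssLift in
theorem not_comap_le_of_isPureAlong (p : Ideal A) [p.IsPrime]
    (hpure : FlatCA.IsPureAlong A B N p)
    (R' : Type u) [CommRing R'] [Algebra A R'] (p' : Ideal R') [p'.IsPrime]
    (hnhd : FlatCA.IsEtaleNhd A R' p p')
    (B₀ : Type u) [CommRing B₀] [Algebra R' B₀]
    (σ : B ⊗[A] R' →+* B₀) (hσ : Function.Surjective σ)
    (hσalg : ∀ r : R', σ (algebraMap R' (B ⊗[A] R') r) = algebraMap R' B₀ r)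
    (ε : B ⊗[A] R') (h1 : σ ε = 1)
    (h2 : ε * (1 - ε) ∈ (Module.annihilator B N).map (algebraMap B (B ⊗[A] R')))
    (h3 : ∀ x, σ x = 0 → ε * x ∈ (Module.annihilator B N).map (algebraMap B (B ⊗[A] R')))
    (h4 : ∀ x ∈ (Module.annihilator B N).map (algebraMap B (B ⊗[A] R')), σ x = 0)
    (hstep1 : ∀ (q : Ideal B₀) [q.IsPrime], q.comap (algebraMap R' B₀) ≠ p')
    (Q₀ : Ideal B₀) [Q₀.IsPrime] : ¬ (Q₀.comap (algebraMap R' B₀) ≤ p') := by
  intro hle
  set J := (Module.annihilator B N).map (algebraMap B (B ⊗[A] R')) with hJ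
  set t' := Q₀.comap (algebraMap R' B₀) with ht'
  have ht'prime : t'.IsPrime := Ideal.comap_isPrime _ _
  set Q := Q₀.comap σ with hQ
  have hQprime : Q.IsPrime := Ideal.comap_isPrime _ _
  have hQover : Q.LiesOver t' := by
    constructor
    rw [Ideal.under_def]
    ext r
    rw [ht', Ideal.mem_comap, Ideal.mem_comap, hQ, Ideal.mem_comap, hσalg]
  have hJQ : J ≤ Q := by
    intro x hx
    rw [hQ, Ideal.mem_comap, h4 x hx]
    exact Q₀.zero_mem
  have hεQ : ε ∉ Q := by
    intro hmem
    rw [hQ, Ideal.mem_comap, h1] at hmem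
    exact (Ideal.IsPrime.ne_top inferInstance) ((Ideal.eq_top_iff_one Q₀).mpr hmem)
  -- finiteness data
  haveI hpo : Algebra.IsPushout A B R' (B ⊗[A] R') := TensorProduct.isPushout
  have hftB' : Algebra.FiniteType R' (B ⊗[A] R') := finiteType_of_isPushout (A := A) (B := B)
  have hnF : IsNoetherianRing (t'.Fiber (B ⊗[A] R')) :=
    Algebra.FiniteType.isNoetherianRing t'.ResidueField (t'.Fiber (B ⊗[A] R'))
  have hfinN' : Module.Finite (B ⊗[A] R') ((B ⊗[A] R') ⊗[B] N) :=
    Module.Finite.base_change B (B ⊗[A] R') N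
  have hfinM : Module.Finite (t'.Fiber (B ⊗[A] R'))
      (FlatCA.fiberMod t' (B ⊗[A] R') ((B ⊗[A] R') ⊗[B] N)) :=
    Module.Finite.base_change (B ⊗[A] R') (t'.Fiber (B ⊗[A] R')) ((B ⊗[A] R') ⊗[B] N)
  -- the prime of the fibre ring over Q
  set 𝔔 := PrimeSpectrum.primesOverOrderIsoFiber R' (B ⊗[A] R') t' ⟨Q, hQprime, hQover⟩ with h𝔔def
  have h𝔔 : 𝔔.asIdeal.comap (algebraMap (B ⊗[A] R') (t'.Fiber (B ⊗[A] R'))) = Q := by
    have := PrimeSpectrum.coe_primesOverOrderIsoFiber_symm_apply (R := R') (S := B ⊗[A] R')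
      (p := t') 𝔔
    rw [h𝔔def, OrderIso.symm_apply_apply] at this
    exact this.symm
  have h𝔔supp : 𝔔 ∈ Module.support (t'.Fiber (B ⊗[A] R'))
      (FlatCA.fiberMod t' (B ⊗[A] R') ((B ⊗[A] R') ⊗[B] N)) := by
    apply Groth.Agent.Lib.Helper20.SuppBC.mem_support_baseChange_of_comap (A := B ⊗[A] R')
      (B := t'.Fiber (B ⊗[A] R')) (N := (B ⊗[A] R') ⊗[B] N)
    have h5 : PrimeSpectrum.comap (algebraMap (B ⊗[A] R') (t'.Fiber (B ⊗[A] R'))) 𝔔 =
        ⟨Q, hQprime⟩ := PrimeSpectrum.ext h𝔔
    rw [h5]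
    apply Groth.Agent.Lib.Helper20.SuppBC.mem_support_baseChange_of_comap (A := B)
      (B := B ⊗[A] R') (N := N)
    rw [Module.mem_support_iff_of_finite]
    intro b hb
    change algebraMap B (B ⊗[A] R') b ∈ Q
    exact hJQ (Ideal.mem_map_of_mem _ hb)
  have hann : Module.annihilator (t'.Fiber (B ⊗[A] R'))
      (FlatCA.fiberMod t' (B ⊗[A] R') ((B ⊗[A] R') ⊗[B] N)) ≤ 𝔔.asIdeal :=
    Module.annihilator_le_of_mem_support h𝔔supp
  obtain ⟨𝔞, h𝔞min, h𝔞le⟩ := Ideal.exists_minimalPrimes_le hann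
  have h𝔞ass : 𝔞 ∈ associatedPrimes (t'.Fiber (B ⊗[A] R'))
      (FlatCA.fiberMod t' (B ⊗[A] R') ((B ⊗[A] R') ⊗[B] N)) :=
    Module.associatedPrimes.minimalPrimes_annihilator_subset_associatedPrimes _ _ h𝔞min
  have h𝔞prime : 𝔞.IsPrime := h𝔞min.1.1
  set P := 𝔞.comap (algebraMap (B ⊗[A] R') (t'.Fiber (B ⊗[A] R'))) with hP
  have hPprime : P.IsPrime := Ideal.comap_isPrime _ _
  have hPover : P.LiesOver t' := by
    have h6 := ((PrimeSpectrum.primesOverOrderIsoFiber R' (B ⊗[A] R') t').symm ⟨𝔞, h𝔞prime⟩).2.2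
    rwa [PrimeSpectrum.coe_primesOverOrderIsoFiber_symm_apply] at h6
  have hPQ : P ≤ Q := by
    rw [← h𝔔, hP]
    exact Ideal.comap_mono h𝔞le
  have hPass : FlatCA.fiberIdeal t' P ∈ associatedPrimes (t'.Fiber (B ⊗[A] R'))
      (FlatCA.fiberMod t' (B ⊗[A] R') ((B ⊗[A] R') ⊗[B] N)) := by
    rw [hP, fiberIdeal_comap]
    exact h𝔞ass
  -- J ≤ P
  have hJP : J ≤ P :=
    (map_annihilator_le N (B ⊗[A] R')).trans
      (Groth.Agent.S1224.annihilator_le_of_fiberIdeal_mem t' ((B ⊗[A] R') ⊗[B] N) P hPass)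
  have hεP : (1 - ε) ∈ P := by
    have h7 : ε * (1 - ε) ∈ P := hJP h2
    rcases hPprime.mem_or_mem h7 with h | h
    · exact absurd (hPQ h) hεQ
    · exact h
  -- the impurity
  have hno : ∀ (P' : Ideal (B ⊗[A] R')) [P'.IsPrime], P ≤ P' → ¬ P'.LiesOver p' := by
    intro P' _ hPP' hP'over
    have hkerP' : RingHom.ker σ ≤ P' := by
      intro x hx
      have h8 : ε * x ∈ P' := hPP' (hJP (h3 x hx))
      have h9 : (1 - ε) * x ∈ P' := P'.mul_mem_right x (hPP' hεP)
      have : x = ε * x + (1 - ε) * x := by ring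
      rw [this]
      exact P'.add_mem h8 h9
    have hQ₀' : (P'.map σ).IsPrime := Ideal.map_isPrime_of_surjective hσ hkerP'
    have hcomap : (P'.map σ).comap σ = P' := by
      rw [Ideal.comap_map_of_surjective σ hσ]
      exact sup_eq_left.mpr hkerP'
    apply hstep1 (P'.map σ)
    ext r
    rw [Ideal.mem_comap, ← hσalg, ← Ideal.mem_comap, hcomap, hP'over.over, Ideal.under_def,
      Ideal.mem_comap]
  obtain ⟨het, hp'over, hbij⟩ := hnhd
  exact hpure R' (B ⊗[A] R') ((B ⊗[A] R') ⊗[B] N) (TensorProduct.mk B (B ⊗[A] R') N 1) t' p' P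
    ⟨het, hp'over, hbij⟩
    ⟨TensorProduct.isPushout, TensorProduct.isBaseChange B N (B ⊗[A] R'), hle, hp'over, hPover,
      hPass, hno⟩

theorem finite_atPrime_of_isPureAlong (p : Ideal A) [p.IsPrime]
    [hqf : Algebra.QuasiFinite A (B ⧸ Module.annihilator B N)]
    (hpure : FlatCA.IsPureAlong A B N p) :
    Module.Finite (Localization.AtPrime p)
      ((Localization.AtPrime p) ⊗[A] (B ⧸ Module.annihilator B N)) := by
  obtain ⟨R', _, _, het, p', hp'prime, hp'over, n, Ai, _, _, B₀, _, _, hbij, ⟨e⟩, hA, hB⟩ :=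
    Groth.Agent.Lib.Helper18QFDecomp.main_aux _ A (B ⧸ Module.annihilator B N) p rfl
  -- Step 1: no prime of `B₀` over `p'`
  have hqfT : Algebra.QuasiFinite R' (R' ⊗[A] (B ⧸ Module.annihilator B N)) := inferInstance
  have hqfX : Algebra.QuasiFinite R' ((∀ i, Ai i) × B₀) :=
    (Algebra.QuasiFinite.iff_of_algEquiv e).mp hqfT
  have hqfB₀ : Algebra.QuasiFinite R' B₀ :=
    Algebra.QuasiFinite.of_surjective_algHom (AlgHom.snd R' (∀ i, Ai i) B₀) Prod.snd_surjective
  have step1 : ∀ (q : Ideal B₀) [q.IsPrime], q.comap (algebraMap R' B₀) ≠ p' := by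
    intro q _ hq
    exact hB q hq inferInstance
  -- the maps
  let τ₀ : B ⊗[A] R' →ₐ[A] (B ⧸ Module.annihilator B N) ⊗[A] R' :=
    Algebra.TensorProduct.map (Ideal.Quotient.mkₐ A (Module.annihilator B N)) (AlgHom.id A R')
  have hτ₀surj : Function.Surjective τ₀ :=
    Algebra.TensorProduct.map_surjective _ _ (Ideal.Quotient.mkₐ_surjective A _)
      Function.surjective_id
  have hτ₀ker : RingHom.ker τ₀ =
      (Module.annihilator B N).map (algebraMap B (B ⊗[A] R')) := by
    have h := Algebra.TensorProduct.rTensor_ker (R := A) (S := A) (C := R')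
      (Ideal.Quotient.mkₐ A (Module.annihilator B N)) (Ideal.Quotient.mkₐ_surjective A _)
    have hk : RingHom.ker (Ideal.Quotient.mkₐ A (Module.annihilator B N)) =
        Module.annihilator B N := by
      ext x
      rw [RingHom.mem_ker, Ideal.Quotient.mkₐ_eq_mk, Ideal.Quotient.eq_zero_iff_mem]
    rw [hk] at h
    exact h
  let c : (B ⧸ Module.annihilator B N) ⊗[A] R' ≃ₐ[A] R' ⊗[A] (B ⧸ Module.annihilator B N) :=
    Algebra.TensorProduct.comm A (B ⧸ Module.annihilator B N) R'
  let τ : B ⊗[A] R' →+* ((∀ i, Ai i) × B₀) :=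
    (e : R' ⊗[A] (B ⧸ Module.annihilator B N) →+* ((∀ i, Ai i) × B₀)).comp
      ((c : (B ⧸ Module.annihilator B N) ⊗[A] R' →+* R' ⊗[A] (B ⧸ Module.annihilator B N)).comp
        (τ₀ : B ⊗[A] R' →+* (B ⧸ Module.annihilator B N) ⊗[A] R'))
  have hτapply : ∀ x, τ x = e (c (τ₀ x)) := fun _ => rfl
  have hτsurj : Function.Surjective τ := by
    intro y
    obtain ⟨z, hz⟩ := e.surjective y
    obtain ⟨w, hw⟩ := c.surjective z
    obtain ⟨x, hx⟩ := hτ₀surj w
    exact ⟨x, by rw [hτapply, hx, hw, hz]⟩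
  have hτzero : ∀ x, τ x = 0 ↔ x ∈ (Module.annihilator B N).map (algebraMap B (B ⊗[A] R')) := by
    intro x
    rw [← hτ₀ker, RingHom.mem_ker, hτapply]
    constructor
    · intro h
      have h5 : c (τ₀ x) = 0 := by
        apply e.injective
        rw [h, map_zero]
      apply c.injective
      rw [h5, map_zero]
    · intro h
      rw [h, map_zero, map_zero]
  have hτalg : ∀ r : R', τ (algebraMap R' (B ⊗[A] R') r) = algebraMap R' ((∀ i, Ai i) × B₀) r := by
    intro r
    rw [hτapply]
    have h5 : τ₀ (algebraMap R' (B ⊗[A] R') r) = (1 : B ⧸ Module.annihilator B N) ⊗ₜ[A] r := by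
      change τ₀ ((1 : B) ⊗ₜ[A] r) = _
      rw [Algebra.TensorProduct.map_tmul, map_one]
      rfl
    rw [h5]
    have h6 : c ((1 : B ⧸ Module.annihilator B N) ⊗ₜ[A] r) =
        algebraMap R' (R' ⊗[A] (B ⧸ Module.annihilator B N)) r := by
      rw [Algebra.TensorProduct.comm_tmul]
      rfl
    rw [h6, e.commutes]
  let σ : B ⊗[A] R' →+* B₀ := (RingHom.snd (∀ i, Ai i) B₀).comp τ
  have hσapply : ∀ x, σ x = (τ x).2 := fun _ => rfl
  have hσsurj : Function.Surjective σ := by
    intro y
    obtain ⟨x, hx⟩ := hτsurj (0, y)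
    exact ⟨x, by rw [hσapply, hx]⟩
  have hσalg : ∀ r : R', σ (algebraMap R' (B ⊗[A] R') r) = algebraMap R' B₀ r := by
    intro r
    rw [hσapply, hτalg]
    rfl
  obtain ⟨ε, hε⟩ := hτsurj (0, 1)
  have h1 : σ ε = 1 := by rw [hσapply, hε]
  have h2 : ε * (1 - ε) ∈ (Module.annihilator B N).map (algebraMap B (B ⊗[A] R')) := by
    rw [← hτzero, map_mul, map_sub, map_one, hε]
    ext <;> simp
  have h3 : ∀ x, σ x = 0 → ε * x ∈ (Module.annihilator B N).map (algebraMap B (B ⊗[A] R')) := by
    intro x hx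
    rw [← hτzero, map_mul, hε]
    rw [hσapply] at hx
    ext
    · simp
    · simp [hx]
  have h4 : ∀ x ∈ (Module.annihilator B N).map (algebraMap B (B ⊗[A] R')), σ x = 0 := by
    intro x hx
    rw [hσapply, (hτzero x).mpr hx]
    rfl
  have step2 : ∀ (Q₀ : Ideal B₀) [Q₀.IsPrime], ¬ (Q₀.comap (algebraMap R' B₀) ≤ p') := by
    intro Q₀ _
    exact not_comap_le_of_isPureAlong N p hpure R' p' ⟨het, hp'over, hbij⟩ B₀ σ hσsurj hσalg ε h1 h2
      h3 h4 step1 Q₀
  -- Step 3: an element outside `p'` killing `B₀`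
  have hf : ∃ f : R', f ∉ p' ∧ algebraMap R' B₀ f = 0 := by
    by_contra hcon
    push Not at hcon
    let M : Submonoid B₀ := p'.primeCompl.map (algebraMap R' B₀)
    have hdisj : Disjoint ((⊥ : Ideal B₀) : Set B₀) (M : Set B₀) := by
      rw [Set.disjoint_left]
      rintro x hx ⟨r, hr, rfl⟩
      exact hcon r hr hx
    obtain ⟨Q₀, hQ₀prime, -, hQ₀disj⟩ := Ideal.exists_le_prime_disjoint (⊥ : Ideal B₀) M hdisj
    apply step2 Q₀
    intro r hr
    by_contra hrp
    exact Set.disjoint_left.mp hQ₀disj hr ⟨r, hrp, rfl⟩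
  obtain ⟨f, hfp', hf0⟩ := hf
  have hsub : Subsingleton ((Localization.AtPrime p') ⊗[R'] B₀) := by
    have hunit : IsUnit (algebraMap R' (Localization.AtPrime p') f) :=
      IsLocalization.map_units (Localization.AtPrime p') (⟨f, hfp'⟩ : p'.primeCompl)
    have hkill : ∀ z : (Localization.AtPrime p') ⊗[R'] B₀,
        (algebraMap R' (Localization.AtPrime p') f) • z = 0 := by
      intro z
      induction z using TensorProduct.induction_on with
      | zero => rw [smul_zero]
      | tmul x b =>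
        rw [TensorProduct.smul_tmul', smul_eq_mul, ← Algebra.smul_def,
          TensorProduct.smul_tmul, Algebra.smul_def, hf0, zero_mul, tmul_zero]
      | add x y hx hy => rw [smul_add, hx, hy, add_zero]
    refine ⟨fun a b => ?_⟩
    have ha : a = 0 := hunit.smul_left_cancel.mp (by rw [hkill, smul_zero])
    have hb : b = 0 := hunit.smul_left_cancel.mp (by rw [hkill, smul_zero])
    rw [ha, hb]
  -- Step 4: finiteness over the local ring of `R'`
  haveI : ∀ i, Module.Finite R' (Ai i) := fun i => (hA i).1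
  have hfin1 : Module.Finite (Localization.AtPrime p')
      ((Localization.AtPrime p') ⊗[R'] (((∀ i, Ai i) × B₀))) :=
    Module.Finite.equiv
      (TensorProduct.prodRight R' (Localization.AtPrime p') (Localization.AtPrime p')
        (∀ i, Ai i) B₀).symm
  have hfin2 : Module.Finite (Localization.AtPrime p')
      ((Localization.AtPrime p') ⊗[R'] (R' ⊗[A] (B ⧸ Module.annihilator B N))) :=
    Module.Finite.equiv
      (TensorProduct.AlgebraTensorModule.congr
        (LinearEquiv.refl (Localization.AtPrime p') (Localization.AtPrime p'))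
        e.toLinearEquiv).symm
  have hfin3 : Module.Finite (Localization.AtPrime p')
      ((Localization.AtPrime p') ⊗[A] (B ⧸ Module.annihilator B N)) :=
    Module.Finite.equiv
      (TensorProduct.AlgebraTensorModule.cancelBaseChange A R' (Localization.AtPrime p')
        (Localization.AtPrime p') (B ⧸ Module.annihilator B N))
  -- Step 5: descent
  letI := Localization.AtPrime.algebraOfLiesOver p p'
  have hloc : IsLocalHom (algebraMap (Localization.AtPrime p) (Localization.AtPrime p')) := by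
    rw [RingHom.algebraMap_toAlgebra]
    exact Localization.isLocalHom_localRingHom p p' (algebraMap A R') Ideal.LiesOver.over
  have hflat : Module.Flat A R' := inferInstance
  have hff : Module.FaithfullyFlat (Localization.AtPrime p) (Localization.AtPrime p') :=
    Module.FaithfullyFlat.of_flat_of_isLocalHom
  have hfin4 : Module.Finite (Localization.AtPrime p')
      ((Localization.AtPrime p') ⊗[Localization.AtPrime p]
        ((Localization.AtPrime p) ⊗[A] (B ⧸ Module.annihilator B N))) :=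
    Module.Finite.equiv
      (TensorProduct.AlgebraTensorModule.cancelBaseChange A (Localization.AtPrime p)
        (Localization.AtPrime p') (Localization.AtPrime p')
        (B ⧸ Module.annihilator B N)).symm
  exact Module.Finite.of_finite_tensorProduct_of_faithfullyFlat (Localization.AtPrime p')

theorem finite_of_isPure
    (hfin : ∀ (p : Ideal A) [p.IsPrime],
      (Module.support (p.Fiber B) (FlatCA.fiberMod p B N)).Finite)
    (hpure : FlatCA.IsPure A B N) : Module.Finite A (B ⧸ Module.annihilator B N) := by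
  haveI := quasiFinite_quotient_annihilator N hfin
  haveI : Algebra.IsIntegral A (B ⧸ Module.annihilator B N) :=
    isIntegral_of_forall_atPrime (fun p _ => by
      haveI := finite_atPrime_of_isPureAlong N p (hpure p)
      exact Algebra.IsIntegral.of_finite _ _)
  exact Algebra.IsIntegral.finite

end Core

end Groth.Agent.Lib.Helper22.PureFinite
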