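import Mathlib
import Groth.Agent.Lib.Helper3FlatLocA
import Groth.Agent.Lib.Helper3FlatOpenFP

/-!
# Slicing flat morphisms by fibrewise nonzerodivisors: general localization lemmas (helper5)
-/

set_option autoImplicit false
set_option linter.style.haveILetI false
universe u
open TensorProduct

namespace Groth.Agent.Lib.Helper5.Slice
open Groth.Agent.Lib.Helper3.FlatLoc Groth.Agent.Lib.Helper3.FlatOpen

section G1

variable {R : Type*} {S : Type*} [CommRing R] [CommRing S] [Algebra R S]
  {M : Type*} [AddCommGroup M] [Module R M] [Module S M] [IsScalarTower R S M]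

/-- pointwise flatness on `D(g)` gives flatness of `M_g`. -/
theorem flat_localizedModule_powers_of_forall_prime (g : S)
    (H : ∀ q : Ideal S, ∀ _ : q.IsPrime, g ∉ q →
      Module.Flat R (LocalizedModule q.primeCompl M)) :
    Module.Flat R (LocalizedModule (Submonoid.powers g) M) := by
  rw [flat_localizedModule_iff']
  intro I z hz
  let Ann : Ideal S := LinearMap.ker (LinearMap.toSpanSingleton S (M ⊗[R] I) z)
  have hAnn : ∀ s : S, s ∈ Ann ↔ s • z = 0 := fun s => by
    simp only [Ann, LinearMap.mem_ker, LinearMap.toSpanSingleton_apply]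
  have hg : g ∈ Ann.radical := by
    rw [Ideal.radical_eq_sInf, Ideal.mem_sInf]
    rintro q ⟨hle, hq⟩
    by_contra hgq
    obtain ⟨s, hs, hsz⟩ :=
      (flat_localizedModule_iff' (R := R) (M := M) q.primeCompl).mp (H q hq hgq) I z hz
    exact hs (hle ((hAnn s).mpr hsz))
  obtain ⟨n, hn⟩ := hg
  exact ⟨g ^ n, ⟨n, rfl⟩, (hAnn _).mp hn⟩

/-- transfer of flatness along the canonical identification of localizations. -/
theorem flat_of_isLocalizedModule {M' : Type*} [AddCommGroup M'] [Module R M'] [Module S M']
    [IsScalarTower R S M'] (T : Submonoid S) (f : M →ₗ[S] M') [IsLocalizedModule T f]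
    (h : Module.Flat R (LocalizedModule T M)) : Module.Flat R M' :=
  Module.Flat.of_linearEquiv ((IsLocalizedModule.iso T f).restrictScalars R).symm

theorem flat_localizedModule_of_isLocalizedModule {M' : Type*} [AddCommGroup M'] [Module R M']
    [Module S M'] [IsScalarTower R S M'] (T : Submonoid S) (f : M →ₗ[S] M')
    [IsLocalizedModule T f] (h : Module.Flat R M') : Module.Flat R (LocalizedModule T M) :=
  Module.Flat.of_linearEquiv ((IsLocalizedModule.iso T f).restrictScalars R)

end G1

section T1

/-- flatness of the local ring at a prime of `C_g` agrees with flatness of the local ring of `C` at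
its contraction. -/
theorem flat_localizedModule_away_iff {R C C' : Type u} [CommRing R] [CommRing C] [CommRing C']
    [Algebra R C] [Algebra C C'] [Algebra R C'] [IsScalarTower R C C'] (g₀ : C)
    [IsLocalization.Away g₀ C'] (P' : Ideal C') [P'.IsPrime] :
    Module.Flat R (LocalizedModule P'.primeCompl C') ↔
      Module.Flat R (LocalizedModule (P'.comap (algebraMap C C')).primeCompl C) := by
  haveI h8 : IsLocalization.AtPrime (Localization.AtPrime P') (P'.comap (algebraMap C C')) :=
    IsLocalization.isLocalization_isLocalization_atPrime_isLocalization (.powers g₀) _ P'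
  constructor
  · intro h
    have h2 : Module.Flat R (Localization.AtPrime P') :=
      flat_of_isLocalizedModule P'.primeCompl (Algebra.linearMap C' (Localization.AtPrime P')) h
    exact flat_localizedModule_of_isLocalizedModule (P'.comap (algebraMap C C')).primeCompl
      (Algebra.linearMap C (Localization.AtPrime P')) h2
  · intro h
    have h2 : Module.Flat R (Localization.AtPrime P') :=
      flat_of_isLocalizedModule (P'.comap (algebraMap C C')).primeCompl
        (Algebra.linearMap C (Localization.AtPrime P')) h
    exact flat_localizedModule_of_isLocalizedModule P'.primeCompl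
      (Algebra.linearMap C' (Localization.AtPrime P')) h2

end T1

section L3

/-- openness of the flat locus, in the form: flat at `P` implies flat on a basic open
neighbourhood of `P`. -/
theorem exists_flat_localizedModule_powers {R S : Type u} [CommRing R] [CommRing S] [Algebra R S]
    [Algebra.FinitePresentation R S] (P : Ideal S) [P.IsPrime]
    (h : Module.Flat R (LocalizedModule P.primeCompl S)) :
    ∃ g : S, g ∉ P ∧ Module.Flat R (LocalizedModule (Submonoid.powers g) S) ∧
      ∀ q : Ideal S, ∀ _ : q.IsPrime, g ∉ q → Module.Flat R (LocalizedModule q.primeCompl S) := by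
  have hO := isOpen_flatLocus_of_finitePresentation (R := R) (S := S) (M := S)
  have hmem : (⟨P, inferInstance⟩ : PrimeSpectrum S) ∈
      {q : PrimeSpectrum S | Module.Flat R (LocalizedModule q.asIdeal.primeCompl S)} := h
  obtain ⟨_, ⟨_, ⟨g, rfl⟩, rfl⟩, hPg, hsub⟩ :=
    PrimeSpectrum.isBasis_basic_opens.exists_subset_of_mem_open hmem hO
  have H : ∀ q : Ideal S, ∀ _ : q.IsPrime, g ∉ q →
      Module.Flat R (LocalizedModule q.primeCompl S) := fun q hq hgq =>
    hsub (show (⟨q, hq⟩ : PrimeSpectrum S) ∈ (PrimeSpectrum.basicOpen g : Set _) from hgq)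
  exact ⟨g, hPg, flat_localizedModule_powers_of_forall_prime g H, H⟩

end L3

end Groth.Agent.Lib.Helper5.Slice
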