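import Mathlib
import Groth.Agent.Lib.Helper5SliceA
import Groth.Agent.Lib.Helper3FibCritD

/-!
# Slicing flat morphisms by fibrewise nonzerodivisors: flatness over the polynomial ring (helper5)
-/

set_option autoImplicit false
set_option linter.style.haveILetI false
universe u
open TensorProduct Polynomial

namespace Groth.Agent.Lib.Helper5.Slice
open Groth.Agent.Lib.Helper3.FlatLoc Groth.Agent.Lib.Helper3.FlatOpen
  Groth.Agent.Lib.Helper3.FibCritA Groth.Agent.Lib.Helper3.FibCritD

section L2

variable {A C : Type u} [CommRing A] [CommRing C] [Algebra A C] [Algebra A[X] C]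
  [IsScalarTower A A[X] C] (p : Ideal A) [p.IsPrime]

theorem fiberMap_polyEquivTensor (q : p.ResidueField[X]) :
    fiberMap (B := A[X]) (C := C) p (polyEquivTensor' A p.ResidueField q) =
      Polynomial.aeval ((1 : p.ResidueField) ⊗ₜ[A] (algebraMap A[X] C X)) q := by
  have : (fiberMap (B := A[X]) (C := C) p).comp
      (polyEquivTensor' A p.ResidueField).toAlgHom =
      Polynomial.aeval ((1 : p.ResidueField) ⊗ₜ[A] (algebraMap A[X] C X)) := by
    apply Polynomial.algHom_ext
    simp [fiberMap, polyEquivTensor_apply]
  exact DFunLike.congr_fun this q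

/-- the local ring of the fibre at a point where `X` maps to a nonzerodivisor is flat over
`κ(p)[X]`. -/
theorem flat_fiber_atPrime (Pb : Ideal (p.Fiber C)) [Pb.IsPrime]
    (hXP : (1 : p.ResidueField) ⊗ₜ[A] (algebraMap A[X] C X) ∈ Pb)
    (hreg : algebraMap (p.Fiber C) (Localization.AtPrime Pb)
      ((1 : p.ResidueField) ⊗ₜ[A] (algebraMap A[X] C X)) ∈
        nonZeroDivisors (Localization.AtPrime Pb)) :
    letI := (fiberMap (B := A[X]) (C := C) p).toRingHom.toAlgebra
    Module.Flat (p.Fiber A[X]) (Localization.AtPrime Pb) := by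
  letI algED : Algebra (p.Fiber A[X]) (p.Fiber C) :=
    (fiberMap (B := A[X]) (C := C) p).toRingHom.toAlgebra
  let e := polyEquivTensor' A p.ResidueField
  haveI : IsDomain (p.Fiber A[X]) := MulEquiv.isDomain (p.ResidueField[X])
    e.symm.toRingEquiv.toMulEquiv
  haveI : IsPrincipalIdealRing (p.Fiber A[X]) :=
    IsPrincipalIdealRing.of_surjective e.toRingEquiv.toRingHom e.surjective
  have key : ∀ (n : ℕ) (q : p.ResidueField[X]), q.natDegree = n → q ≠ 0 →
      algebraMap (p.Fiber C) (Localization.AtPrime Pb)
        (Polynomial.aeval ((1 : p.ResidueField) ⊗ₜ[A] (algebraMap A[X] C X)) q) ∈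
        nonZeroDivisors (Localization.AtPrime Pb) := by
    intro n
    induction n using Nat.strong_induction_on with
    | _ n ih =>
      intro q hn hq0
      by_cases hc : q.coeff 0 = 0
      · obtain ⟨q', rfl⟩ : X ∣ q := Polynomial.X_dvd_iff.mpr hc
        have hq'0 : q' ≠ 0 := right_ne_zero_of_mul hq0
        have hdeg : q'.natDegree < n := by
          rw [← hn, Polynomial.natDegree_X_mul hq'0]; omega
        rw [map_mul, Polynomial.aeval_X, map_mul]
        exact mul_mem hreg (ih _ hdeg q' rfl hq'0)
      · have hnot : Polynomial.aeval ((1 : p.ResidueField) ⊗ₜ[A] (algebraMap A[X] C X)) q ∉ Pb := by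
          intro hmem
          apply hc
          have h3 : Ideal.Quotient.mkₐ p.ResidueField Pb
              (Polynomial.aeval ((1 : p.ResidueField) ⊗ₜ[A] (algebraMap A[X] C X)) q) = 0 :=
            Ideal.Quotient.eq_zero_iff_mem.mpr hmem
          rw [← Polynomial.aeval_algHom_apply] at h3
          have h5 : Ideal.Quotient.mkₐ p.ResidueField Pb
              ((1 : p.ResidueField) ⊗ₜ[A] (algebraMap A[X] C X)) = 0 :=
            Ideal.Quotient.eq_zero_iff_mem.mpr hXP
          rw [h5, ← Polynomial.coeff_zero_eq_aeval_zero'] at h3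
          exact (map_eq_zero_iff _ (algebraMap p.ResidueField (p.Fiber C ⧸ Pb)).injective).mp h3
        exact (IsLocalization.map_units (Localization.AtPrime Pb)
          (⟨_, hnot⟩ : Pb.primeCompl)).mem_nonZeroDivisors
  show Module.Flat (p.Fiber A[X]) (Localization.AtPrime Pb)
  rw [Module.Flat.flat_iff_torsion_eq_bot_of_isBezout, Submodule.eq_bot_iff]
  intro x hx
  rw [Submodule.mem_torsion_iff] at hx
  obtain ⟨a, ha⟩ := hx
  have ha0 : (a : p.Fiber A[X]) ≠ 0 := nonZeroDivisors.coe_ne_zero a
  have hq : e.symm (a : p.Fiber A[X]) ≠ 0 := fun h0 => ha0 (by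
    have := congrArg e h0
    rwa [AlgEquiv.apply_symm_apply, map_zero] at this)
  have h1 : algebraMap (p.Fiber A[X]) (Localization.AtPrime Pb) (a : p.Fiber A[X]) =
      algebraMap (p.Fiber C) (Localization.AtPrime Pb)
        (Polynomial.aeval ((1 : p.ResidueField) ⊗ₜ[A] (algebraMap A[X] C X))
          (e.symm (a : p.Fiber A[X]))) := by
    rw [IsScalarTower.algebraMap_apply (p.Fiber A[X]) (p.Fiber C) (Localization.AtPrime Pb),
      ← fiberMap_polyEquivTensor, AlgEquiv.apply_symm_apply]
    rfl
  have h2 := key _ _ rfl hq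
  have ha' : algebraMap (p.Fiber A[X]) (Localization.AtPrime Pb) (a : p.Fiber A[X]) * x = 0 := by
    rw [← Algebra.smul_def]; exact ha
  rw [h1, mul_comm] at ha'
  exact (mem_nonZeroDivisors_iff_right.mp h2) x ha'

end L2

section L12

variable {A C : Type u} [CommRing A] [CommRing C] [Algebra A C] [Algebra.FinitePresentation A C]
  [Algebra A[X] C] [IsScalarTower A A[X] C] (p : Ideal A) [p.IsPrime]

set_option maxHeartbeats 1600000 in
/-- `C` of finite presentation over `A`, made an `A[X]`-algebra; at a prime `P` (given through the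
corresponding prime of the fibre) where `C_P` is `A`-flat and the image of `X` is a nonzerodivisor
of the local ring of the fibre, `C_P` is flat over `A[X]`. -/
theorem flat_polynomial_atPrime (Pb : Ideal (p.Fiber C)) [Pb.IsPrime]
    (hXP : (1 : p.ResidueField) ⊗ₜ[A] (algebraMap A[X] C X) ∈ Pb)
    (hreg : algebraMap (p.Fiber C) (Localization.AtPrime Pb)
      ((1 : p.ResidueField) ⊗ₜ[A] (algebraMap A[X] C X)) ∈
        nonZeroDivisors (Localization.AtPrime Pb))
    (hflat : Module.Flat A (LocalizedModule
      (Pb.comap (Algebra.TensorProduct.includeRight : C →ₐ[A] p.Fiber C)).primeCompl C)) :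
    Module.Flat A[X] (LocalizedModule
      (Pb.comap (Algebra.TensorProduct.includeRight : C →ₐ[A] p.Fiber C)).primeCompl C) := by
  classical
  set P : Ideal C := Pb.comap (Algebra.TensorProduct.includeRight : C →ₐ[A] p.Fiber C) with hPdef
  have hPp : p = P.under A := by
    have h0 : Pb.LiesOver p := inferInstance
    rw [h0.over]
    ext a
    simp only [P, Ideal.mem_comap, Ideal.under]
    rw [← AlgHom.commutes (Algebra.TensorProduct.includeRight : C →ₐ[A] p.Fiber C)]
  letI algED : Algebra (p.Fiber A[X]) (p.Fiber C) :=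
    (fiberMap (B := A[X]) (C := C) p).toRingHom.toAlgebra
  haveI towerKED : IsScalarTower p.ResidueField (p.Fiber A[X]) (p.Fiber C) :=
    IsScalarTower.of_algebraMap_eq' (fiberMap (B := A[X]) (C := C) p).comp_algebraMap.symm
  haveI : IsNoetherianRing (p.Fiber A[X]) :=
    Algebra.FiniteType.isNoetherianRing p.ResidueField (p.Fiber A[X])
  haveI : Algebra.FiniteType (p.Fiber A[X]) (p.Fiber C) :=
    Algebra.FiniteType.of_restrictScalars_finiteType p.ResidueField (p.Fiber A[X]) (p.Fiber C)
  haveI : Algebra.FinitePresentation (p.Fiber A[X]) (p.Fiber C) :=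
    Algebra.FinitePresentation.of_finiteType.mp inferInstance
  -- Step 1: the fibre is flat over `κ(p)[X]` at the point
  have hfibΛ : Module.Flat (p.Fiber A[X]) (Localization.AtPrime Pb) :=
    flat_fiber_atPrime p Pb hXP hreg
  have hfibP : Module.Flat (p.Fiber A[X]) (LocalizedModule Pb.primeCompl (p.Fiber C)) :=
    flat_localizedModule_of_isLocalizedModule Pb.primeCompl
      (Algebra.linearMap (p.Fiber C) (Localization.AtPrime Pb)) hfibΛ
  -- Step 2: a basic open neighbourhood in the fibre
  obtain ⟨d, hdP, -, Hd⟩ := exists_flat_localizedModule_powers (R := p.Fiber A[X])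
    (S := p.Fiber C) Pb hfibP
  obtain ⟨r, hr, g₀, hg₀⟩ := Ideal.Fiber.exists_smul_eq_one_tmul p d
  have hrD : algebraMap A (p.Fiber C) r ∉ Pb := by
    intro hmem
    apply hr
    have h0 : Pb.LiesOver p := inferInstance
    rw [h0.over]
    exact hmem
  have hg₀eq : (1 : p.ResidueField) ⊗ₜ[A] g₀ = algebraMap A (p.Fiber C) r * d := by
    rw [← hg₀, Algebra.smul_def]
  have hg₀P : g₀ ∉ P := by
    intro hmem
    have hm : (1 : p.ResidueField) ⊗ₜ[A] g₀ ∈ Pb := hmem
    rw [hg₀eq] at hm
    rcases (Ideal.IsPrime.mem_or_mem inferInstance hm) with h | h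
    · exact hrD h
    · exact hdP h
  have Hg : ∀ Q : Ideal (p.Fiber C), ∀ _ : Q.IsPrime, (1 : p.ResidueField) ⊗ₜ[A] g₀ ∉ Q →
      Module.Flat (p.Fiber A[X]) (LocalizedModule Q.primeCompl (p.Fiber C)) := by
    intro Q hQ hgQ
    refine Hd Q hQ (fun hdQ => hgQ ?_)
    rw [hg₀eq]
    exact Ideal.mul_mem_left _ _ hdQ
  -- Step 3: localize `C` at `g₀`
  haveI : Algebra.FinitePresentation C (Localization.Away g₀) :=
    IsLocalization.Away.finitePresentation g₀
  haveI : Algebra.FinitePresentation A (Localization.Away g₀) :=
    Algebra.FinitePresentation.trans A C (Localization.Away g₀)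
  haveI : IsScalarTower A A[X] (Localization.Away g₀) := IsScalarTower.of_algebraMap_eq (fun a => by
    rw [IsScalarTower.algebraMap_apply A C (Localization.Away g₀),
      IsScalarTower.algebraMap_apply A A[X] C,
      ← IsScalarTower.algebraMap_apply A[X] C (Localization.Away g₀)])
  have hdisj : Disjoint (Submonoid.powers g₀ : Set C) (P : Set C) :=
    (Ideal.disjoint_powers_iff_notMem_of_isPrime _).mpr hg₀P
  let P' : Ideal (Localization.Away g₀) := Ideal.map (algebraMap C (Localization.Away g₀)) P
  haveI hP'prime : P'.IsPrime :=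
    IsLocalization.isPrime_of_isPrime_disjoint (.powers g₀) _ P inferInstance hdisj
  have hP'comap : P'.comap (algebraMap C (Localization.Away g₀)) = P :=
    IsLocalization.under_map_of_isPrime_disjoint (.powers g₀) _ inferInstance hdisj
  have hP'p : P'.under A = p := by
    rw [hPp]
    show P'.comap (algebraMap A (Localization.Away g₀)) = P.comap (algebraMap A C)
    rw [IsScalarTower.algebraMap_eq A C (Localization.Away g₀), ← Ideal.comap_comap, hP'comap]
  have hwhole : (fiberMap (B := A[X]) (C := Localization.Away g₀) p).toRingHom.Flat := by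
    letI algDD' : Algebra (p.Fiber C) (p.Fiber (Localization.Away g₀)) :=
      (fiberMap (B := C) (C := Localization.Away g₀) p).toRingHom.toAlgebra
    letI algED' : Algebra (p.Fiber A[X]) (p.Fiber (Localization.Away g₀)) :=
      (fiberMap (B := A[X]) (C := Localization.Away g₀) p).toRingHom.toAlgebra
    haveI : IsScalarTower p.ResidueField (p.Fiber C) (p.Fiber (Localization.Away g₀)) :=
      IsScalarTower.of_algebraMap_eq'
        (fiberMap (B := C) (C := Localization.Away g₀) p).comp_algebraMap.symm
    haveI : IsScalarTower (p.Fiber A[X]) (p.Fiber C) (p.Fiber (Localization.Away g₀)) :=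
      IsScalarTower.of_algebraMap_eq (fun x => by
        show fiberMap (B := A[X]) (C := Localization.Away g₀) p x =
          fiberMap (B := C) (C := Localization.Away g₀) p (fiberMap (B := A[X]) (C := C) p x)
        induction x using TensorProduct.induction_on with
        | zero => simp
        | tmul k b =>
          simp [fiberMap, IsScalarTower.algebraMap_apply A[X] C (Localization.Away g₀)]
        | add x y hx hy => rw [map_add, map_add, map_add, hx, hy])
    haveI hloc : IsLocalization ((Submonoid.powers g₀).map
        (Algebra.TensorProduct.includeRight (R := A) (A := p.ResidueField)))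
        (p.Fiber (Localization.Away g₀)) :=
      IsLocalization.tensorProduct_tensorProduct_right A p.ResidueField (Submonoid.powers g₀)
        (Localization.Away g₀) (by
          refine RingHom.ext fun c => ?_
          show fiberMap (B := C) (C := Localization.Away g₀) p ((1 : p.ResidueField) ⊗ₜ[A] c) = _
          rw [fiberMap_one_tmul]
          rfl)
    have hT : (Submonoid.powers g₀).map
        (Algebra.TensorProduct.includeRight (R := A) (A := p.ResidueField)) =
        Submonoid.powers ((1 : p.ResidueField) ⊗ₜ[A] g₀) := by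
      rw [Submonoid.map_powers]
      rfl
    rw [hT] at hloc
    have hflT : Module.Flat (p.Fiber A[X])
        (LocalizedModule (Submonoid.powers ((1 : p.ResidueField) ⊗ₜ[A] g₀)) (p.Fiber C)) :=
      flat_localizedModule_powers_of_forall_prime _ Hg
    exact flat_of_isLocalizedModule (Submonoid.powers ((1 : p.ResidueField) ⊗ₜ[A] g₀))
      (Algebra.linearMap (p.Fiber C) (p.Fiber (Localization.Away g₀))) hflT
  have h1' : Module.Flat A (LocalizedModule P'.primeCompl (Localization.Away g₀)) := by
    rw [flat_localizedModule_away_iff (R := A) g₀ P']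
    exact flat_localizedModule_congr_prime _ _ hP'comap.symm hflat
  have h2' := flat_of_fiberMap_flat (B := A[X]) (C := Localization.Away g₀) p P' hP'p hwhole h1'
  have h3 := (flat_localizedModule_away_iff (R := A[X]) g₀ P').mp h2'
  exact flat_localizedModule_congr_prime _ _ hP'comap h3

end L12

end Groth.Agent.Lib.Helper5.Slice
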