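import Mathlib
import Groth.Agent.Lib.Helper5SliceB
import Groth.Agent.Lib.Helper14AdicFree
import Groth.Agent.Lib.Helper5FlatReg

/-!
# Slicing flat morphisms by fibrewise nonzerodivisors: the ring-level theorem (helper5)

`A → C` of finite presentation, `P` a prime of `C` over `p`, `C_P` flat over `A`, `h ∈ P` whose image
in `C_P / p C_P` is a nonzerodivisor.  Then for some `g ∉ P`, `h` is a nonzerodivisor of `C_g` and
`C_g / h C_g` is flat over `A`.  (Stacks 00ME/046Y in the non-Noetherian finitely presented setting;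
the proof makes `C` an `A[X]`-algebra through `X ↦ h` and uses the critère de platitude par fibres.)
-/

set_option autoImplicit false
set_option linter.style.haveILetI false
universe u
open TensorProduct Polynomial

namespace Groth.Agent.Lib.Helper5.Slice
open Groth.Agent.Lib.Helper3.FlatLoc Groth.Agent.Lib.Helper3.FlatOpen
  Groth.Agent.Lib.Helper3.FibCritA Groth.Agent.Lib.Helper3.FibCritD

section L4

/-- a flat `A[X]`-algebra: `X` is a nonzerodivisor and the quotient by `X` is flat over `A`. -/
theorem nzd_and_flat_quotient_of_flat_polynomial {A C₁ : Type u} [CommRing A] [CommRing C₁]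
    [Algebra A C₁] [Algebra A[X] C₁] [IsScalarTower A A[X] C₁] [Module.Flat A[X] C₁] :
    algebraMap A[X] C₁ X ∈ nonZeroDivisors C₁ ∧
      Module.Flat A (C₁ ⧸ Ideal.span {algebraMap A[X] C₁ X}) := by
  constructor
  · have h1 : IsSMulRegular A[X] (X : A[X]) := (Polynomial.isRegular_X).left.isSMulRegular
    have h2 : IsSMulRegular C₁ (algebraMap A[X] C₁ X) := h1.of_flat
    rw [mem_nonZeroDivisors_iff_right]
    intro y hy
    apply h2
    change algebraMap A[X] C₁ X * y = algebraMap A[X] C₁ X * 0
    rw [mul_zero, mul_comm, hy]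
  · let J : Ideal A[X] := Ideal.span {X}
    have h1 : Module.Flat (A[X] ⧸ J) (C₁ ⧸ (J • ⊤ : Submodule A[X] C₁)) :=
      Groth.Agent.Lib.Helper14.AdicFree.flat_quotient J
    have hJ : J = Ideal.span {X - C (0 : A)} := by simp [J]
    have e0 : (A[X] ⧸ J) ≃ₗ[A] A :=
      ((Ideal.quotientEquivAlgOfEq A hJ).trans
        (Polynomial.quotientSpanXSubCAlgEquiv (0 : A))).toLinearEquiv
    haveI : Module.Flat A (A[X] ⧸ J) := Module.Flat.of_linearEquiv e0
    haveI : IsScalarTower A (A[X] ⧸ J) (C₁ ⧸ (J • ⊤ : Submodule A[X] C₁)) :=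
      IsScalarTower.of_algebraMap_smul (R := A) (A := A[X] ⧸ J)
        (M := C₁ ⧸ (J • ⊤ : Submodule A[X] C₁)) (fun a x => by
        obtain ⟨c, rfl⟩ := Submodule.Quotient.mk_surjective (J • ⊤ : Submodule A[X] C₁) x
        show (Submodule.Quotient.mk ((algebraMap A A[X] a) • c) :
          C₁ ⧸ (J • ⊤ : Submodule A[X] C₁)) = Submodule.Quotient.mk (a • c)
        rw [algebraMap_smul])
    have h2 : Module.Flat A (C₁ ⧸ (J • ⊤ : Submodule A[X] C₁)) :=
      Module.Flat.trans A (A[X] ⧸ J) _
    have hK : (J • ⊤ : Submodule A[X] C₁) =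
        (Ideal.span {algebraMap A[X] C₁ X} : Ideal C₁).restrictScalars A[X] := by
      ext c
      rw [Submodule.restrictScalars_mem, Ideal.mem_span_singleton', Submodule.ideal_span_singleton_smul,
        Submodule.mem_smul_pointwise_iff_exists]
      constructor
      · rintro ⟨n, -, rfl⟩
        exact ⟨n, by rw [Algebra.smul_def, mul_comm]⟩
      · rintro ⟨a, rfl⟩
        exact ⟨a, trivial, by rw [Algebra.smul_def, mul_comm]⟩
    have e : (C₁ ⧸ (J • ⊤ : Submodule A[X] C₁)) ≃ₗ[A[X]]
        (C₁ ⧸ (Ideal.span {algebraMap A[X] C₁ X} : Ideal C₁)) :=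
      (Submodule.quotEquivOfEq _ _ hK).trans
        (Submodule.Quotient.restrictScalarsEquiv A[X] (Ideal.span {algebraMap A[X] C₁ X} : Ideal C₁))
    exact Groth.Agent.Lib.Helper5.flat_of_linearEquiv_tower (A := A) (B := A[X]) e h2

end L4

section Wrapper

variable {A C L : Type u} [CommRing A] [CommRing C] [CommRing L] [Algebra A C]
  [Algebra.FinitePresentation A C]

set_option maxHeartbeats 1600000 in
theorem flat_polynomial_localizedModule [Algebra A[X] C] [IsScalarTower A A[X] C]
    (P : Ideal C) [P.IsPrime] [Algebra C L] [Algebra A L] [IsScalarTower A C L]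
    [IsLocalization.AtPrime L P] (hflat : Module.Flat A L) (hXP : algebraMap A[X] C X ∈ P)
    (hreg : ∀ z : L, algebraMap C L (algebraMap A[X] C X) * z ∈
      (P.under A).map (algebraMap A L) → z ∈ (P.under A).map (algebraMap A L)) :
    Module.Flat A[X] (LocalizedModule P.primeCompl C) := by
  classical
  set p : Ideal A := P.under A with hp
  let e := PrimeSpectrum.primesOverOrderIsoFiber A C p
  let x₀ : p.primesOver C := ⟨P, ⟨inferInstance, ⟨rfl⟩⟩⟩
  let Pb : Ideal (p.Fiber C) := (e x₀).asIdeal
  haveI : Pb.IsPrime := (e x₀).isPrime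
  have hcomap : Pb.comap (Algebra.TensorProduct.includeRight : C →ₐ[A] p.Fiber C) = P := by
    have h1 := e.symm_apply_apply x₀
    have h2 := PrimeSpectrum.coe_primesOverOrderIsoFiber_symm_apply (R := A) (S := C) (p := p)
      (e x₀)
    rw [h1] at h2
    exact h2.symm
  set Sr := Localization.AtPrime (Pb.comap (Algebra.TensorProduct.includeRight : C →ₐ[A] p.Fiber C))
    with hSr
  have h9 : (Pb.comap (Algebra.TensorProduct.includeRight : C →ₐ[A] p.Fiber C)).primeCompl =
      P.primeCompl := by
    ext t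
    show t ∉ Pb.comap (Algebra.TensorProduct.includeRight : C →ₐ[A] p.Fiber C) ↔ t ∉ P
    rw [hcomap]
  haveI h10 : IsLocalization P.primeCompl Sr := h9 ▸ (inferInstance :
    IsLocalization (Pb.comap (Algebra.TensorProduct.includeRight : C →ₐ[A] p.Fiber C)).primeCompl Sr)
  let eL : L ≃ₐ[C] Sr := IsLocalization.algEquiv P.primeCompl L Sr
  have hmapL : ∀ z : L, z ∈ p.map (algebraMap A L) ↔ eL z ∈ p.map (algebraMap A Sr) := by
    intro z
    have h1 : (p.map (algebraMap A L)).map (eL : L →+* Sr) = p.map (algebraMap A Sr) := by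
      rw [Ideal.map_map]
      congr 1
      ext a
      simp only [RingHom.comp_apply]
      rw [IsScalarTower.algebraMap_apply A C L, IsScalarTower.algebraMap_apply A C Sr]
      exact eL.commutes _
    have h2 : (p.map (algebraMap A Sr)).map (eL.symm : Sr →+* L) = p.map (algebraMap A L) := by
      rw [Ideal.map_map]
      congr 1
      ext a
      simp only [RingHom.comp_apply]
      rw [IsScalarTower.algebraMap_apply A C L, IsScalarTower.algebraMap_apply A C Sr]
      exact eL.symm.commutes _
    constructor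
    · intro hz
      rw [← h1]
      exact Ideal.mem_map_of_mem _ hz
    · intro hz
      have := Ideal.mem_map_of_mem (eL.symm : Sr →+* L) hz
      rw [h2] at this
      simpa using this
  -- the nonzerodivisor property in `Sr / p Sr`
  have hregSr : Ideal.Quotient.mk (p.map (algebraMap A Sr))
      (algebraMap C Sr (algebraMap A[X] C X)) ∈ nonZeroDivisors (Sr ⧸ p.map (algebraMap A Sr)) := by
    rw [mem_nonZeroDivisors_iff_right]
    intro y hy
    obtain ⟨s', rfl⟩ := Ideal.Quotient.mk_surjective y
    obtain ⟨z, rfl⟩ := eL.surjective s'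
    rw [← map_mul, Ideal.Quotient.eq_zero_iff_mem] at hy
    rw [Ideal.Quotient.eq_zero_iff_mem, ← hmapL]
    apply hreg
    rw [hmapL, map_mul, eL.commutes, mul_comm]
    exact hy
  letI := Localization.AtPrime.algebraOfLiesOver p
    (Pb.comap (Algebra.TensorProduct.includeRight : C →ₐ[A] p.Fiber C))
  let ε := Ideal.Fiber.localizationAlgEquivQuotient p Pb
  have hε := localizationAlgEquivQuotient_one_tmul p Pb (algebraMap A[X] C X)
  have hregΛ : algebraMap (p.Fiber C) (Localization.AtPrime Pb)
      ((1 : p.ResidueField) ⊗ₜ[A] (algebraMap A[X] C X)) ∈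
        nonZeroDivisors (Localization.AtPrime Pb) := by
    rw [mem_nonZeroDivisors_iff_right]
    intro y hy
    have h1 : ε y * ε (algebraMap (p.Fiber C) (Localization.AtPrime Pb)
      ((1 : p.ResidueField) ⊗ₜ[A] (algebraMap A[X] C X))) = 0 := by
      rw [← map_mul, hy, map_zero]
    rw [hε] at h1
    have h2 := (mem_nonZeroDivisors_iff_right.mp hregSr) _ h1
    exact (map_eq_zero_iff ε ε.injective).mp h2
  have hXP' : (1 : p.ResidueField) ⊗ₜ[A] (algebraMap A[X] C X) ∈ Pb := by
    have : algebraMap A[X] C X ∈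
        Pb.comap (Algebra.TensorProduct.includeRight : C →ₐ[A] p.Fiber C) := by
      rw [hcomap]; exact hXP
    exact this
  have hflat' : Module.Flat A (LocalizedModule
      (Pb.comap (Algebra.TensorProduct.includeRight : C →ₐ[A] p.Fiber C)).primeCompl C) := by
    have h0 : Module.Flat A (LocalizedModule P.primeCompl C) :=
      flat_localizedModule_of_isLocalizedModule P.primeCompl (Algebra.linearMap C L) hflat
    exact flat_localizedModule_congr_prime _ _ hcomap.symm h0
  exact flat_localizedModule_congr_prime _ _ hcomap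
    (flat_polynomial_atPrime p Pb hXP' hregΛ hflat')

/-- **Slicing by a fibrewise nonzerodivisor, ring level.** -/
theorem exists_away_nzd_flat (P : Ideal C) [P.IsPrime] [Algebra C L] [Algebra A L]
    [IsScalarTower A C L] [IsLocalization.AtPrime L P] (hflat : Module.Flat A L) (h : C)
    (hP : h ∈ P)
    (hreg : ∀ z : L, algebraMap C L h * z ∈ (P.under A).map (algebraMap A L) →
      z ∈ (P.under A).map (algebraMap A L)) :
    ∃ g : C, g ∉ P ∧ ∀ (C₁ : Type u) [CommRing C₁] [Algebra C C₁] [Algebra A C₁]
      [IsScalarTower A C C₁] [IsLocalization.Away g C₁],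
      algebraMap C C₁ h ∈ nonZeroDivisors C₁ ∧
        Module.Flat A (C₁ ⧸ Ideal.span {algebraMap C C₁ h}) := by
  letI algXC : Algebra A[X] C := (Polynomial.aeval h : A[X] →ₐ[A] C).toRingHom.toAlgebra
  haveI : IsScalarTower A A[X] C :=
    IsScalarTower.of_algebraMap_eq' (Polynomial.aeval h : A[X] →ₐ[A] C).comp_algebraMap.symm
  have hX : algebraMap A[X] C X = h := Polynomial.aeval_X h
  have h1 : Module.Flat A[X] (LocalizedModule P.primeCompl C) :=
    flat_polynomial_localizedModule (L := L) P hflat (hX ▸ hP) (by rw [hX]; exact hreg)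
  haveI : Algebra.FinitePresentation A[X] C :=
    Algebra.FinitePresentation.of_restrict_scalars_finitePresentation A A[X] C
  obtain ⟨g, hgP, hflg, -⟩ := exists_flat_localizedModule_powers (R := A[X]) (S := C) P h1
  refine ⟨g, hgP, ?_⟩
  intro C₁ _ _ _ _ _
  letI : Algebra A[X] C₁ := ((algebraMap C C₁).comp (algebraMap A[X] C)).toAlgebra
  haveI : IsScalarTower A[X] C C₁ := IsScalarTower.of_algebraMap_eq' rfl
  haveI : IsScalarTower A A[X] C₁ := IsScalarTower.of_algebraMap_eq (fun a => by
    rw [IsScalarTower.algebraMap_apply A C C₁, IsScalarTower.algebraMap_apply A A[X] C,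
      ← IsScalarTower.algebraMap_apply A[X] C C₁])
  haveI : Module.Flat A[X] C₁ :=
    flat_of_isLocalizedModule (Submonoid.powers g) (Algebra.linearMap C C₁) hflg
  have key := nzd_and_flat_quotient_of_flat_polynomial (A := A) (C₁ := C₁)
  have hX₁ : algebraMap A[X] C₁ X = algebraMap C C₁ h := by
    rw [IsScalarTower.algebraMap_apply A[X] C C₁, hX]
  rw [hX₁] at key
  exact key

end Wrapper

end Groth.Agent.Lib.Helper5.Slice
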