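import Mathlib
import Groth.Agent.Lib.Helper5SliceC

/-!
# Quasi-finite flat slices of flat finitely presented algebras (helper22)

* `exists_isOpen_singleton_or_nzd`: a nonzero finite type algebra over a field either has an isolated
  point in its spectrum or a nonunit nonzerodivisor.
* `ringKrullDim_succ_le_of_comap_injective`: `dim S + 1 ≤ dim R` for `R → S` injective on spectra and
  killing a nonzerodivisor.
* `exists_slice_step`: slicing a flat finitely presented `A`-algebra `C` by a fibrewise nonzerodivisor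
  (via helper5's `Helper5SliceC`), with control of the dimension of the fibre over `p`.
* `exists_qf_flat_slice`: `C` flat of finite presentation over `A` with nonempty fibre over the prime
  `p`: there is a finite type `C`-algebra `C'`, flat over `A`, with a prime over `p` at which `C'` is
  quasi-finite over `A` (Stacks 10.127/056X-type slicing, in the flat finitely presented setting).
-/

set_option autoImplicit false
set_option linter.style.haveILetI false
universe u

namespace Groth.Agent.Lib.Helper22.QFSlice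

open PrimeSpectrum TensorProduct Polynomial
open scoped nonZeroDivisors
open Groth.Agent.Lib.Helper5.Slice

section Field

/-- In a Noetherian ring in which every nonzerodivisor is a unit, every maximal ideal is an
associated prime. -/
theorem maximal_mem_associatedPrimes {F : Type*} [CommRing F] [IsNoetherianRing F]
    (H : ∀ h : F, h ∈ nonZeroDivisors F → IsUnit h) (M : Ideal F) [hM : M.IsMaximal] :
    M ∈ associatedPrimes F F := by
  classical
  have hsub : (M : Set F) ⊆ ⋃ p ∈ associatedPrimes F F, (p : Set F) := by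
    rw [biUnion_associatedPrimes_eq_compl_nonZeroDivisors]
    intro a ha hnz
    exact hM.ne_top (Ideal.eq_top_of_isUnit_mem _ ha (H a hnz))
  have hfin := associatedPrimes.finite F F
  have hsub' : (M : Set F) ⊆ ⋃ p ∈ ((hfin.toFinset : Finset (Ideal F)) : Set (Ideal F)),
      ((id p : Ideal F) : Set F) := by
    simpa using hsub
  obtain ⟨P, hP, hMP⟩ := (Ideal.subset_union_prime (R := F) (s := hfin.toFinset) (f := id)
    ⊥ ⊥ (fun i hi _ _ => by
      have : i ∈ associatedPrimes F F := by simpa using hi
      exact this.isPrime)).mp hsub'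
  have hP' : P ∈ associatedPrimes F F := by simpa using hP
  have : M = P := hM.eq_of_le hP'.isPrime.ne_top hMP
  rw [this]; exact hP'

/-- A nonzero finite type algebra over a field has an isolated point in its spectrum, or a nonunit
nonzerodivisor. -/
theorem exists_isOpen_singleton_or_nzd {k F : Type*} [Field k] [CommRing F] [Algebra k F]
    [Algebra.FiniteType k F] [Nontrivial F] :
    (∃ x : PrimeSpectrum F, IsOpen ({x} : Set (PrimeSpectrum F))) ∨
      (∃ h : F, h ∈ nonZeroDivisors F ∧ ¬ IsUnit h) := by
  classical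
  by_contra hcon
  push Not at hcon
  obtain ⟨H1, H2⟩ := hcon
  have : IsNoetherianRing F := Algebra.FiniteType.isNoetherianRing k F
  have : IsJacobsonRing F := isJacobsonRing_of_finiteType (A := k)
  have hfin := associatedPrimes.finite F F
  obtain ⟨p, hp⟩ := Ideal.nonempty_minimalPrimes (I := (⊥ : Ideal F)) (by simp)
  have hpp : p.IsPrime := hp.1.1
  have hj : p.jacobson = p := (isJacobsonRing_iff_prime_eq.mp inferInstance) p hpp
  let S : Set (Ideal F) := {J | p ≤ J ∧ J.IsMaximal}
  have hS : S.Finite := hfin.subset (fun J hJ => by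
    have := hJ.2
    exact maximal_mem_associatedPrimes H2 J)
  have hinf : hS.toFinset.inf id ≤ p := by
    have : hS.toFinset.inf id = sInf S := by
      rw [Finset.inf_id_eq_sInf]; simp
    rw [this]
    exact hj.le
  obtain ⟨M, hM, hMp⟩ := (Ideal.IsPrime.inf_le' hpp).mp hinf
  have hM' : M ∈ S := by simpa using hM
  have hpM : p = M := le_antisymm hM'.1 hMp
  have hpmax : p.IsMaximal := hpM ▸ hM'.2
  have h3 : IsClosed ({(⟨p, hpp⟩ : PrimeSpectrum F)} : Set (PrimeSpectrum F)) ∧
      StableUnderGeneralization ({(⟨p, hpp⟩ : PrimeSpectrum F)} : Set (PrimeSpectrum F)) := by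
    constructor
    · rw [PrimeSpectrum.isClosed_singleton_iff_isMaximal]; exact hpmax
    · rw [PrimeSpectrum.stableUnderGeneralization_singleton]; exact hp
  exact H1 ⟨p, hpp⟩ (((PrimeSpectrum.isOpen_singleton_tfae_of_isNoetherian_of_isJacobsonRing
    (⟨p, hpp⟩ : PrimeSpectrum F)).out 2 0).mp h3)

/-- If `f : R → S` is injective on prime spectra and kills a nonzerodivisor, then
`dim S + 1 ≤ dim R`. -/
theorem ringKrullDim_succ_le_of_comap_injective {R S : Type*} [CommRing R] [CommRing S]
    (f : R →+* S) (hf : Function.Injective (PrimeSpectrum.comap f)) {r : R} (hr : r ∈ R⁰)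
    (hr' : f r = 0) : ringKrullDim S + 1 ≤ ringKrullDim R := by
  by_cases hS : IsEmpty (PrimeSpectrum S)
  · have : ringKrullDim S = ⊥ := by
      rw [ringKrullDim]; exact Order.krullDim_eq_bot
    rw [this]; simp
  rw [not_isEmpty_iff] at hS
  have hmono : StrictMono (PrimeSpectrum.comap f) := by
    intro a b hab
    refine lt_of_le_of_ne ?_ (fun h => hab.ne (hf h))
    exact fun x hx => hab.le hx
  have hR : Nonempty (PrimeSpectrum R) := ⟨PrimeSpectrum.comap f hS.some⟩
  rw [ringKrullDim, ringKrullDim, Order.krullDim_eq_iSup_length, Order.krullDim_eq_iSup_length,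
    ← WithBot.coe_one, ← WithBot.coe_add, ENat.iSup_add, WithBot.coe_le_coe, iSup_le_iff]
  intro l
  obtain ⟨p, hp, hp'⟩ := Ideal.exists_minimalPrimes_le
    (J := (PrimeSpectrum.comap f l.head).asIdeal) bot_le
  let p' : PrimeSpectrum R := ⟨p, hp.1.1⟩
  have hrl : r ∈ (PrimeSpectrum.comap f l.head).asIdeal := by
    show f r ∈ l.head.asIdeal
    rw [hr']; exact zero_mem _
  have hp'' : p' < PrimeSpectrum.comap f l.head := lt_of_le_of_ne hp' fun h ↦ Set.disjoint_iff.mp
    (Ideal.disjoint_nonZeroDivisors_of_mem_minimalPrimes hp)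
    ⟨show r ∈ p by rw [show p = (PrimeSpectrum.comap f l.head).asIdeal from
        congrArg PrimeSpectrum.asIdeal h]; exact hrl, hr⟩
  have hp3 : p' < (l.map (PrimeSpectrum.comap f) hmono).head := by
    rw [LTSeries.head_map]; exact hp''
  refine le_trans ?_ (le_iSup _ ((l.map (PrimeSpectrum.comap f) hmono).cons p' hp3))
  simp

end Field

section Fib

variable {A C : Type*} [CommRing A] [CommRing C] [Algebra A C] (p : Ideal A) [p.IsPrime]

/-- If `φ : C → C'` is injective on spectra then so is the induced map on fibres over `p`. -/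
theorem comap_fiberMap_injective {C' : Type*} [CommRing C'] [Algebra A C'] (φ : C →ₐ[A] C')
    (hφ : Function.Injective (PrimeSpectrum.comap φ.toRingHom)) :
    Function.Injective (PrimeSpectrum.comap
      (Algebra.TensorProduct.map (AlgHom.id A p.ResidueField) φ).toRingHom) := by
  intro q₁ q₂ h
  apply (PrimeSpectrum.primesOverOrderIsoFiber A C' p).symm.injective
  apply Subtype.ext
  rw [PrimeSpectrum.coe_primesOverOrderIsoFiber_symm_apply,
    PrimeSpectrum.coe_primesOverOrderIsoFiber_symm_apply]
  let i' : C' →+* p.Fiber C' := (Algebra.TensorProduct.includeRight : C' →ₐ[A] p.Fiber C').toRingHom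
  let i : C →+* p.Fiber C := (Algebra.TensorProduct.includeRight : C →ₐ[A] p.Fiber C).toRingHom
  let Φ : p.Fiber C →+* p.Fiber C' :=
    (Algebra.TensorProduct.map (AlgHom.id A p.ResidueField) φ).toRingHom
  have hcomm : i'.comp φ.toRingHom = Φ.comp i := by
    ext c
    simp [i, i', Φ]
  have key : ∀ q : PrimeSpectrum (p.Fiber C'),
      PrimeSpectrum.comap φ.toRingHom (PrimeSpectrum.comap i' q) =
        PrimeSpectrum.comap i (PrimeSpectrum.comap Φ q) := by
    intro q
    rw [← PrimeSpectrum.comap_comp_apply, ← PrimeSpectrum.comap_comp_apply, hcomm]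
  have h2 : PrimeSpectrum.comap i' q₁ = PrimeSpectrum.comap i' q₂ := by
    apply hφ
    rw [key, key]
    exact congrArg _ h
  exact congrArg PrimeSpectrum.asIdeal h2

end Fib

section Step

variable {A C : Type u} [CommRing A] [CommRing C] [Algebra A C] (p : Ideal A) [p.IsPrime]

/-- the slice `C_g / h` -/
abbrev Slice (g h : C) : Type u :=
  Localization.Away g ⧸ Ideal.span {algebraMap C (Localization.Away g) h}

/-- the canonical map to the slice -/
noncomputable def toSlice (g h : C) : C →ₐ[A] Slice g h :=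
  (Ideal.Quotient.mkₐ A _).comp (IsScalarTower.toAlgHom A C (Localization.Away g))

theorem toSlice_apply (g h c : C) :
    toSlice (A := A) g h c = Ideal.Quotient.mk _ (algebraMap C (Localization.Away g) c) := rfl

theorem toSlice_h (g h : C) : toSlice (A := A) g h h = 0 := by
  rw [toSlice_apply, Ideal.Quotient.eq_zero_iff_mem]
  exact Ideal.mem_span_singleton_self _

theorem comap_toSlice_injective (g h : C) :
    Function.Injective (PrimeSpectrum.comap (toSlice (A := A) g h).toRingHom) := by
  have h1 : Function.Injective (PrimeSpectrum.comap (algebraMap C (Localization.Away g))) :=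
    PrimeSpectrum.localization_comap_injective (Localization.Away g) (Submonoid.powers g)
  have h2 : Function.Injective (PrimeSpectrum.comap
      (Ideal.Quotient.mk (Ideal.span {algebraMap C (Localization.Away g) h}))) :=
    PrimeSpectrum.comap_injective_of_surjective _ Ideal.Quotient.mk_surjective
  have : (toSlice (A := A) g h).toRingHom =
      (Ideal.Quotient.mk (Ideal.span {algebraMap C (Localization.Away g) h})).comp
        (algebraMap C (Localization.Away g)) := rfl
  rw [this]
  intro a b hab
  rw [PrimeSpectrum.comap_comp_apply, PrimeSpectrum.comap_comp_apply] at hab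
  exact h2 (h1 hab)

theorem nontrivial_fiber_slice (g h : C) (Pb : Ideal (p.Fiber C)) [hPb : Pb.IsMaximal]
    (hP : (1 : p.ResidueField) ⊗ₜ[A] h ∈ Pb) (hg : (1 : p.ResidueField) ⊗ₜ[A] g ∉ Pb) :
    Nontrivial (p.Fiber (Slice g h)) := by
  letI := Ideal.Quotient.field Pb
  let Ω := p.Fiber C ⧸ Pb
  let ψ₀ : C →ₐ[A] Ω := (Ideal.Quotient.mkₐ A Pb).comp
    (Algebra.TensorProduct.includeRight : C →ₐ[A] p.Fiber C)
  have hψ₀ : ∀ c : C, ψ₀ c = Ideal.Quotient.mk Pb ((1 : p.ResidueField) ⊗ₜ[A] c) := fun c => rfl
  have hu : ∀ y : Submonoid.powers g, IsUnit (ψ₀ y) := by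
    rintro ⟨_, n, rfl⟩
    rw [map_pow]
    refine IsUnit.pow _ ?_
    rw [isUnit_iff_ne_zero, hψ₀, Ne, Ideal.Quotient.eq_zero_iff_mem]
    exact hg
  let ψ₁ : Localization.Away g →ₐ[A] Ω :=
    IsLocalization.liftAlgHom (M := Submonoid.powers g) (f := ψ₀) hu
  have hψ₁ : ∀ c : C, ψ₁ (algebraMap C (Localization.Away g) c) = ψ₀ c := fun c => by
    simp [ψ₁]
  let ψ : Slice g h →ₐ[A] Ω := Ideal.Quotient.liftₐ _ ψ₁ (by
    intro a ha
    obtain ⟨b, rfl⟩ := Ideal.mem_span_singleton'.mp ha
    rw [map_mul, hψ₁, hψ₀, (Ideal.Quotient.eq_zero_iff_mem).mpr hP, mul_zero])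
  let Ψ : p.Fiber (Slice g h) →ₐ[p.ResidueField] Ω :=
    Algebra.TensorProduct.lift (Algebra.ofId p.ResidueField Ω) ψ (fun _ _ => .all _ _)
  exact Ψ.toRingHom.domain_nontrivial

set_option maxHeartbeats 1600000 in
/-- flatness part of the slicing step -/
theorem exists_away_flat_of_fiber_nzd [Algebra.FinitePresentation A C] [Module.Flat A C] (h : C)
    (Pb : Ideal (p.Fiber C)) [Pb.IsPrime]
    (hP : (1 : p.ResidueField) ⊗ₜ[A] h ∈ Pb)
    (hnzd : (1 : p.ResidueField) ⊗ₜ[A] h ∈ nonZeroDivisors (p.Fiber C)) :
    ∃ g : C, (1 : p.ResidueField) ⊗ₜ[A] g ∉ Pb ∧ Module.Flat A (Slice g h) := by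
  letI algXC : Algebra A[X] C := (Polynomial.aeval h : A[X] →ₐ[A] C).toRingHom.toAlgebra
  haveI : IsScalarTower A A[X] C :=
    IsScalarTower.of_algebraMap_eq' (Polynomial.aeval h : A[X] →ₐ[A] C).comp_algebraMap.symm
  have hX : algebraMap A[X] C X = h := Polynomial.aeval_X h
  set P : Ideal C := Pb.comap (Algebra.TensorProduct.includeRight : C →ₐ[A] p.Fiber C) with hPdef
  have hreg : algebraMap (p.Fiber C) (Localization.AtPrime Pb)
      ((1 : p.ResidueField) ⊗ₜ[A] (algebraMap A[X] C X)) ∈
        nonZeroDivisors (Localization.AtPrime Pb) := by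
    rw [hX]
    exact IsLocalization.map_nonZeroDivisors_le Pb.primeCompl (Localization.AtPrime Pb)
      (Submonoid.mem_map_of_mem _ hnzd)
  have hflat : Module.Flat A (LocalizedModule P.primeCompl C) := inferInstance
  have h1 : Module.Flat A[X] (LocalizedModule P.primeCompl C) :=
    flat_polynomial_atPrime p Pb (by rw [hX]; exact hP) hreg hflat
  haveI : Algebra.FinitePresentation A[X] C :=
    Algebra.FinitePresentation.of_restrict_scalars_finitePresentation A A[X] C
  obtain ⟨g, hgP, hflg, -⟩ := exists_flat_localizedModule_powers (R := A[X]) (S := C) P h1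
  refine ⟨g, hgP, ?_⟩
  haveI : IsScalarTower A[X] C (Localization.Away g) := inferInstance
  haveI : IsScalarTower A A[X] (Localization.Away g) := IsScalarTower.of_algebraMap_eq (fun a => by
    rw [IsScalarTower.algebraMap_apply A C (Localization.Away g),
      IsScalarTower.algebraMap_apply A A[X] C,
      ← IsScalarTower.algebraMap_apply A[X] C (Localization.Away g)])
  haveI : Module.Flat A[X] (Localization.Away g) :=
    flat_of_isLocalizedModule (Submonoid.powers g) (Algebra.linearMap C (Localization.Away g)) hflg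
  have key := nzd_and_flat_quotient_of_flat_polynomial (A := A) (C₁ := Localization.Away g)
  have hX₁ : algebraMap A[X] (Localization.Away g) X = algebraMap C (Localization.Away g) h := by
    rw [IsScalarTower.algebraMap_apply A[X] C (Localization.Away g), hX]
  rw [hX₁] at key
  exact key.2

theorem dim_slice (g h : C)
    (hnzd : (1 : p.ResidueField) ⊗ₜ[A] h ∈ nonZeroDivisors (p.Fiber C)) :
    ringKrullDim (p.Fiber (Slice g h)) + 1 ≤ ringKrullDim (p.Fiber C) := by
  have h1 := comap_fiberMap_injective p (toSlice (A := A) g h) (comap_toSlice_injective g h)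
  have h2 : (Algebra.TensorProduct.map (AlgHom.id A p.ResidueField) (toSlice (A := A) g h))
    ((1 : p.ResidueField) ⊗ₜ[A] h) = 0 := by
    rw [Algebra.TensorProduct.map_tmul, toSlice_h, TensorProduct.tmul_zero]
  exact ringKrullDim_succ_le_of_comap_injective (R := p.Fiber C) (S := p.Fiber (Slice g h))
    _ h1 hnzd h2

/-- **Slicing step.** `C` flat of finite presentation over `A`, `h ∈ C` whose image in the fibre over
`p` is a nonunit nonzerodivisor: for some `g`, the slice `C_g / h` is flat over `A`, has nonempty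
fibre over `p`, of dimension at most `dim (fibre of C) - 1`. -/
theorem exists_slice_step [Algebra.FinitePresentation A C] [Module.Flat A C] (h : C)
    (hnzd : (1 : p.ResidueField) ⊗ₜ[A] h ∈ nonZeroDivisors (p.Fiber C))
    (hnu : ¬ IsUnit ((1 : p.ResidueField) ⊗ₜ[A] h : p.Fiber C)) :
    ∃ g : C, Module.Flat A (Slice g h) ∧ Nontrivial (p.Fiber (Slice g h)) ∧
      ringKrullDim (p.Fiber (Slice g h)) + 1 ≤ ringKrullDim (p.Fiber C) := by
  obtain ⟨Pb, hPb, hle⟩ := Ideal.exists_le_maximal
    (Ideal.span {((1 : p.ResidueField) ⊗ₜ[A] h : p.Fiber C)})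
    (by rwa [Ne, Ideal.span_singleton_eq_top])
  have hP : (1 : p.ResidueField) ⊗ₜ[A] h ∈ Pb := hle (Ideal.mem_span_singleton_self _)
  obtain ⟨g, hg, hfl⟩ := exists_away_flat_of_fiber_nzd p h Pb hP hnzd
  exact ⟨g, hfl, nontrivial_fiber_slice p g h Pb hP hg, dim_slice p g h hnzd⟩

end Step

section Main


variable {A : Type u} [CommRing A] (p : Ideal A) [p.IsPrime]

/-- the conclusion of the slicing theorem -/
def HasQFSlice (C : Type u) [CommRing C] [Algebra A C] : Prop :=
  ∃ (C' : Type u) (_ : CommRing C') (_ : Algebra A C') (φ : C →ₐ[A] C'),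
    φ.toRingHom.FiniteType ∧ Module.Flat A C' ∧
      ∃ (P : Ideal C') (_ : P.IsPrime), P.under A = p ∧ Algebra.QuasiFiniteAt A P

theorem finiteType_toSlice {C : Type u} [CommRing C] [Algebra A C] (g h : C) :
    (toSlice (A := A) g h).toRingHom.FiniteType := by
  have h1 : (algebraMap C (Localization.Away g)).FiniteType :=
    RingHom.finiteType_algebraMap.mpr (IsLocalization.finiteType_of_monoid_fg
      (Submonoid.powers g) (Localization.Away g))
  have h2 : (Ideal.Quotient.mk (Ideal.span {algebraMap C (Localization.Away g) h})).FiniteType :=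
    RingHom.FiniteType.of_surjective _ Ideal.Quotient.mk_surjective
  exact h2.comp h1

instance finitePresentation_slice {C : Type u} [CommRing C] [Algebra A C]
    [Algebra.FinitePresentation A C] (g h : C) : Algebra.FinitePresentation A (Slice g h) := by
  haveI : Algebra.FinitePresentation C (Localization.Away g) :=
    IsLocalization.Away.finitePresentation g
  haveI : Algebra.FinitePresentation A (Localization.Away g) :=
    Algebra.FinitePresentation.trans A C (Localization.Away g)
  exact Algebra.FinitePresentation.quotient (Submodule.fg_span_singleton _)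



theorem withBot_enat_le_of_add_one_le {a : WithBot ℕ∞} {m : ℕ}
    (h : a + 1 ≤ ((m + 1 : ℕ) : WithBot ℕ∞)) : a ≤ (m : WithBot ℕ∞) := by
  induction a using WithBot.recBotCoe with
  | bot => exact bot_le
  | coe d =>
    have h' : ((d + 1 : ℕ∞) : WithBot ℕ∞) ≤ (((m : ℕ∞) + 1 : ℕ∞) : WithBot ℕ∞) := by
      simpa using h
    rw [WithBot.coe_le_coe] at h'
    have := (ENat.add_le_add_iff_right ENat.one_ne_top).mp h'
    exact_mod_cast this

theorem hasQFSlice_or_step (C : Type u) [CommRing C] [Algebra A C]
    [Algebra.FinitePresentation A C] [Module.Flat A C] [Nontrivial (p.Fiber C)] :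
    HasQFSlice p C ∨ ∃ g h : C, Module.Flat A (Slice g h) ∧ Nontrivial (p.Fiber (Slice g h)) ∧
      ringKrullDim (p.Fiber (Slice g h)) + 1 ≤ ringKrullDim (p.Fiber C) := by
  rcases exists_isOpen_singleton_or_nzd (k := p.ResidueField) (F := p.Fiber C) with
    ⟨x, hx⟩ | ⟨hb, hnz, hnu⟩
  · left
    haveI hq : Algebra.QuasiFiniteAt p.ResidueField x.asIdeal :=
      Algebra.QuasiFiniteAt.of_isOpen_singleton x hx
    let y := (PrimeSpectrum.primesOverOrderIsoFiber A C p).symm x
    let q : Ideal C := x.asIdeal.comap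
      (Algebra.TensorProduct.includeRight : C →ₐ[A] p.Fiber C).toRingHom
    have hyq : (y : Ideal C) = q := rfl
    haveI hqp : q.IsPrime := hyq ▸ y.2.1
    haveI hql : q.LiesOver p := hyq ▸ y.2.2
    have hQF : Algebra.QuasiFiniteAt A q :=
      Algebra.QuasiFiniteAt.of_quasiFiniteAt_residueField p q x.asIdeal rfl
    exact ⟨C, inferInstance, inferInstance, AlgHom.id A C, RingHom.FiniteType.id C, inferInstance,
      q, hqp, (hql.over).symm, hQF⟩
  · right
    obtain ⟨r, hr, s, hs⟩ := Ideal.Fiber.exists_smul_eq_one_tmul p hb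
    have hu : IsUnit (algebraMap A (p.Fiber C) r) := by
      rw [IsScalarTower.algebraMap_apply A p.ResidueField (p.Fiber C)]
      refine IsUnit.map _ ?_
      rw [isUnit_iff_ne_zero, Ne, Ideal.algebraMap_residueField_eq_zero]
      exact hr
    have hs' : (1 : p.ResidueField) ⊗ₜ[A] s = algebraMap A (p.Fiber C) r * hb := by
      rw [← hs, Algebra.smul_def]
    have hnzd : (1 : p.ResidueField) ⊗ₜ[A] s ∈ nonZeroDivisors (p.Fiber C) := by
      rw [hs']
      exact mul_mem hu.mem_nonZeroDivisors hnz
    have hnu' : ¬ IsUnit ((1 : p.ResidueField) ⊗ₜ[A] s : p.Fiber C) := by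
      rw [hs']
      intro h
      exact hnu (isUnit_of_mul_isUnit_right h)
    obtain ⟨g, h1, h2, h3⟩ := exists_slice_step p s hnzd hnu'
    exact ⟨g, s, h1, h2, h3⟩



theorem hasQFSlice_of_slice {C : Type u} [CommRing C] [Algebra A C] (g h : C)
    (H : HasQFSlice p (Slice g h)) : HasQFSlice p C := by
  obtain ⟨C', i1, i2, φ, hφ, hfl, P, hP, hPp, hQF⟩ := H
  exact ⟨C', i1, i2, φ.comp (toSlice (A := A) g h), hφ.comp (finiteType_toSlice g h), hfl,
    P, hP, hPp, hQF⟩

theorem hasQFSlice_of_dim_le (n : ℕ) : ∀ (C : Type u) [CommRing C] [Algebra A C]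
    [Algebra.FinitePresentation A C] [Module.Flat A C] [Nontrivial (p.Fiber C)],
    ringKrullDim (p.Fiber C) ≤ n → HasQFSlice p C := by
  induction n with
  | zero =>
    intro C _ _ _ _ _ hdim
    rcases hasQFSlice_or_step p C with h | ⟨g, h, hfl, hnt, hd⟩
    · exact h
    · exfalso
      have h0 : (0 : WithBot ℕ∞) ≤ ringKrullDim (p.Fiber (Slice g h)) :=
        ringKrullDim_nonneg_of_nontrivial
      have h1 : ringKrullDim (p.Fiber (Slice g h)) + 1 ≤ ((0 + 1 : ℕ) : WithBot ℕ∞) :=
        hd.trans (hdim.trans (by norm_num))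
      have h2 := withBot_enat_le_of_add_one_le h1
      have h3 : ringKrullDim (p.Fiber (Slice g h)) + 1 ≤ ((0 : ℕ) : WithBot ℕ∞) := hd.trans hdim
      have h4 : ringKrullDim (p.Fiber (Slice g h)) = 0 := le_antisymm (by exact_mod_cast h2) h0
      rw [h4] at h3
      norm_num at h3
  | succ m ih =>
    intro C _ _ _ _ _ hdim
    rcases hasQFSlice_or_step p C with h | ⟨g, h, hfl, hnt, hd⟩
    · exact h
    · have h1 : ringKrullDim (p.Fiber (Slice g h)) ≤ (m : WithBot ℕ∞) :=
        withBot_enat_le_of_add_one_le (hd.trans hdim)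
      exact hasQFSlice_of_slice p g h (ih (Slice g h) h1)

theorem exists_dim_le {k F : Type*} [Field k] [CommRing F] [Algebra k F] [Algebra.FiniteType k F] :
    ∃ n : ℕ, ringKrullDim F ≤ n := by
  obtain ⟨n, f, hf⟩ := Algebra.FiniteType.iff_quotient_mvPolynomial''.mp
    (inferInstance : Algebra.FiniteType k F)
  refine ⟨n, (ringKrullDim_le_of_surjective f.toRingHom hf).trans ?_⟩
  rw [MvPolynomial.ringKrullDim_of_isNoetherianRing, ringKrullDim_eq_zero_of_field]
  simp

/-- **Quasi-finite flat slices.** -/
theorem exists_qf_flat_slice (C : Type u) [CommRing C] [Algebra A C]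
    [Algebra.FinitePresentation A C] [Module.Flat A C] [Nontrivial (p.Fiber C)] :
    HasQFSlice p C := by
  obtain ⟨n, hn⟩ := exists_dim_le (k := p.ResidueField) (F := p.Fiber C)
  exact hasQFSlice_of_dim_le p n C hn


end Main

section Alg

/-- quasi-finite at a prime `q` over the zero ideal of a domain: `C ⧸ q` is algebraic. -/
theorem isAlgebraic_quotient_of_quasiFiniteAt {D C : Type*} [CommRing D] [IsDomain D] [CommRing C]
    [Algebra D C] (q : Ideal C) [q.IsPrime] [q.LiesOver (⊥ : Ideal D)]
    [Algebra.QuasiFiniteAt D q] : Algebra.IsAlgebraic D (C ⧸ q) := by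
  haveI : (⊥ : Ideal D).IsPrime := Ideal.isPrime_bot
  letI := Localization.AtPrime.algebraOfLiesOver (⊥ : Ideal D) q
  have hfin : Module.Finite (⊥ : Ideal D).ResidueField q.ResidueField := inferInstance
  have halg : Algebra.IsAlgebraic (⊥ : Ideal D).ResidueField q.ResidueField :=
    Algebra.IsAlgebraic.of_finite _ _
  constructor
  intro x
  have hinj : Function.Injective (algebraMap (C ⧸ q) q.ResidueField) :=
    q.injective_algebraMap_quotient_residueField
  rw [← isAlgebraic_algebraMap_iff (R := D) hinj]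
  have h1 := halg.isAlgebraic (algebraMap (C ⧸ q) q.ResidueField x)
  exact (IsFractionRing.isAlgebraic_iff D (⊥ : Ideal D).ResidueField q.ResidueField).mpr h1

end Alg

end Groth.Agent.Lib.Helper22.QFSlice
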