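import Mathlib
import Groth.Agent.Lib.Helper22QFSlice

/-!
# Quasi-finite flat slices, II (helper22)

* `HasQFSliceFP`, `exists_qf_flat_slice_fp`: as `exists_qf_flat_slice` of `Helper22QFSlice`, recording
  also that the slice is of finite presentation over the base.
* `exists_qf_flat_nbhd`: `C` flat of finite presentation over `A`, with nonempty fibre over the prime
  `p`: there is a `C`-algebra `T`, quasi-finite, flat and of finite presentation over `A`, with a
  prime over `p`.
* `quasiFinite_pi`, `flat_pi`: finite products.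
* `exists_quasiFinite_faithfullyFlat_dominating`: a faithfully flat finitely presented algebra is
  dominated by a quasi-finite faithfully flat finitely presented algebra (Stacks 10.168.10-type).
-/

set_option autoImplicit false
set_option linter.style.haveILetI false
universe u

namespace Groth.Agent.Lib.Helper22.QFSlice

open PrimeSpectrum TensorProduct Polynomial
open scoped nonZeroDivisors

section Main2

variable {A : Type u} [CommRing A] (p : Ideal A) [p.IsPrime]

/-- the conclusion of the slicing theorem, with finite presentation -/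
def HasQFSliceFP (C : Type u) [CommRing C] [Algebra A C] : Prop :=
  ∃ (C' : Type u) (_ : CommRing C') (_ : Algebra A C') (_ : C →ₐ[A] C'),
    Algebra.FinitePresentation A C' ∧ Module.Flat A C' ∧
      ∃ (P : Ideal C') (_ : P.IsPrime), P.under A = p ∧ Algebra.QuasiFiniteAt A P

theorem hasQFSliceFP_or_step (C : Type u) [CommRing C] [Algebra A C]
    [Algebra.FinitePresentation A C] [Module.Flat A C] [Nontrivial (p.Fiber C)] :
    HasQFSliceFP p C ∨ ∃ g h : C, Module.Flat A (Slice g h) ∧ Nontrivial (p.Fiber (Slice g h)) ∧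
      ringKrullDim (p.Fiber (Slice g h)) + 1 ≤ ringKrullDim (p.Fiber C) := by
  rcases exists_isOpen_singleton_or_nzd (k := p.ResidueField) (F := p.Fiber C) with
    ⟨x, hx⟩ | ⟨hb, hnz, hnu⟩
  · left
    haveI hq : Algebra.QuasiFiniteAt p.ResidueField x.asIdeal :=
      Algebra.QuasiFiniteAt.of_isOpen_singleton x hx
    let y := (PrimeSpectrum.primesOverOrderIsoFiber A C p).symm x
    let q : Ideal C := x.asIdeal.comap
      (Algebra.TensorProduct.includeRight : C →ₐ[A] p.Fiber C).toRingHom
    have hyq : (y : Ideal C) = q := rfl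
    haveI hqp : q.IsPrime := hyq ▸ y.2.1
    haveI hql : q.LiesOver p := hyq ▸ y.2.2
    have hQF : Algebra.QuasiFiniteAt A q :=
      Algebra.QuasiFiniteAt.of_quasiFiniteAt_residueField p q x.asIdeal rfl
    exact ⟨C, inferInstance, inferInstance, AlgHom.id A C, inferInstance, inferInstance,
      q, hqp, (hql.over).symm, hQF⟩
  · right
    obtain ⟨r, hr, s, hs⟩ := Ideal.Fiber.exists_smul_eq_one_tmul p hb
    have hu : IsUnit (algebraMap A (p.Fiber C) r) := by
      rw [IsScalarTower.algebraMap_apply A p.ResidueField (p.Fiber C)]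
      refine IsUnit.map _ ?_
      rw [isUnit_iff_ne_zero, Ne, Ideal.algebraMap_residueField_eq_zero]
      exact hr
    have hs' : (1 : p.ResidueField) ⊗ₜ[A] s = algebraMap A (p.Fiber C) r * hb := by
      rw [← hs, Algebra.smul_def]
    have hnzd : (1 : p.ResidueField) ⊗ₜ[A] s ∈ nonZeroDivisors (p.Fiber C) := by
      rw [hs']
      exact mul_mem hu.mem_nonZeroDivisors hnz
    have hnu' : ¬ IsUnit ((1 : p.ResidueField) ⊗ₜ[A] s : p.Fiber C) := by
      rw [hs']
      intro h
      exact hnu (isUnit_of_mul_isUnit_right h)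
    obtain ⟨g, h1, h2, h3⟩ := exists_slice_step p s hnzd hnu'
    exact ⟨g, s, h1, h2, h3⟩

theorem hasQFSliceFP_of_slice {C : Type u} [CommRing C] [Algebra A C] (g h : C)
    (H : HasQFSliceFP p (Slice g h)) : HasQFSliceFP p C := by
  obtain ⟨C', i1, i2, φ, hfp, hfl, P, hP, hPp, hQF⟩ := H
  exact ⟨C', i1, i2, φ.comp (toSlice (A := A) g h), hfp, hfl, P, hP, hPp, hQF⟩

theorem hasQFSliceFP_of_dim_le (n : ℕ) : ∀ (C : Type u) [CommRing C] [Algebra A C]
    [Algebra.FinitePresentation A C] [Module.Flat A C] [Nontrivial (p.Fiber C)],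
    ringKrullDim (p.Fiber C) ≤ n → HasQFSliceFP p C := by
  induction n with
  | zero =>
    intro C _ _ _ _ _ hdim
    rcases hasQFSliceFP_or_step p C with h | ⟨g, h, hfl, hnt, hd⟩
    · exact h
    · exfalso
      have h0 : (0 : WithBot ℕ∞) ≤ ringKrullDim (p.Fiber (Slice g h)) :=
        ringKrullDim_nonneg_of_nontrivial
      have h1 : ringKrullDim (p.Fiber (Slice g h)) + 1 ≤ ((0 + 1 : ℕ) : WithBot ℕ∞) :=
        hd.trans (hdim.trans (by norm_num))
      have h2 := withBot_enat_le_of_add_one_le h1
      have h3 : ringKrullDim (p.Fiber (Slice g h)) + 1 ≤ ((0 : ℕ) : WithBot ℕ∞) := hd.trans hdim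
      have h4 : ringKrullDim (p.Fiber (Slice g h)) = 0 := le_antisymm (by exact_mod_cast h2) h0
      rw [h4] at h3
      norm_num at h3
  | succ m ih =>
    intro C _ _ _ _ _ hdim
    rcases hasQFSliceFP_or_step p C with h | ⟨g, h, hfl, hnt, hd⟩
    · exact h
    · have h1 : ringKrullDim (p.Fiber (Slice g h)) ≤ (m : WithBot ℕ∞) :=
        withBot_enat_le_of_add_one_le (hd.trans hdim)
      exact hasQFSliceFP_of_slice p g h (ih (Slice g h) h1)

/-- **Quasi-finite flat slices**, with finite presentation. -/
theorem exists_qf_flat_slice_fp (C : Type u) [CommRing C] [Algebra A C]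
    [Algebra.FinitePresentation A C] [Module.Flat A C] [Nontrivial (p.Fiber C)] :
    HasQFSliceFP p C := by
  obtain ⟨n, hn⟩ := exists_dim_le (k := p.ResidueField) (F := p.Fiber C)
  exact hasQFSliceFP_of_dim_le p n C hn

/-- `C` flat of finite presentation over `A` with nonempty fibre over `p`: a `C`-algebra `T`,
quasi-finite, flat, of finite presentation over `A`, with a prime over `p`. -/
theorem exists_qf_flat_nbhd (C : Type u) [CommRing C] [Algebra A C]
    [Algebra.FinitePresentation A C] [Module.Flat A C] [Nontrivial (p.Fiber C)] :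
    ∃ (T : Type u) (_ : CommRing T) (_ : Algebra A T) (_ : C →ₐ[A] T),
      Algebra.QuasiFinite A T ∧ Algebra.FinitePresentation A T ∧ Module.Flat A T ∧
        ∃ (Q : Ideal T) (_ : Q.IsPrime), Q.under A = p := by
  obtain ⟨C', i1, i2, φ, hfp, hfl, P, hP, hPp, hQF⟩ := exists_qf_flat_slice_fp p C
  obtain ⟨S', hS', r, hrP, H⟩ :=
    (Algebra.ZariskisMainProperty.of_finiteType (R := A) P).exists_fg_and_exists_notMem_and_awayMap_bijective
  have : Module.Finite A S' := ⟨(Submodule.fg_top _).mpr hS'⟩
  have : Algebra.QuasiFinite A (Localization.Away r) := .trans _ S' _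
  have hqf : Algebra.QuasiFinite A (Localization.Away r.1) :=
    .of_surjective_algHom (Localization.awayMapₐ S'.val r) H.2
  let T := Localization.Away (r.1 : C')
  haveI : Algebra.FinitePresentation C' T := IsLocalization.Away.finitePresentation r.1
  have hfpT : Algebra.FinitePresentation A T := Algebra.FinitePresentation.trans A C' T
  have hdisj : Disjoint (Submonoid.powers (r.1 : C') : Set C') (P : Set C') := by
    rw [Set.disjoint_left]
    rintro x ⟨n, rfl⟩ hx
    exact hrP (hP.mem_of_pow_mem n hx)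
  have hQ : (P.map (algebraMap C' T)).IsPrime :=
    IsLocalization.isPrime_of_isPrime_disjoint (Submonoid.powers r.1) T P hP hdisj
  have hQc : (P.map (algebraMap C' T)).comap (algebraMap C' T) = P :=
    IsLocalization.comap_map_of_isPrime_disjoint (Submonoid.powers r.1) T hP hdisj
  refine ⟨T, inferInstance, inferInstance, (IsScalarTower.toAlgHom A C' T).comp φ, hqf, hfpT,
    inferInstance, P.map (algebraMap C' T), hQ, ?_⟩
  rw [← hPp]
  conv_rhs => rw [← hQc]
  rw [Ideal.under, Ideal.under, Ideal.comap_comap, ← IsScalarTower.algebraMap_eq]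

end Main2

section Pi

variable {R : Type*} [CommRing R] {ι : Type*} [Finite ι] (T : ι → Type*) [∀ i, CommRing (T i)]
  [∀ i, Algebra R (T i)]

theorem flat_pi [∀ i, Module.Flat R (T i)] : Module.Flat R (∀ i, T i) := by
  classical
  haveI := Fintype.ofFinite ι
  exact Module.Flat.of_linearEquiv (DirectSum.linearEquivFunOnFintype R ι T).symm

theorem quasiFinite_pi [Algebra.FiniteType R (∀ i, T i)] [∀ i, Algebra.QuasiFinite R (T i)] :
    Algebra.QuasiFinite R (∀ i, T i) := by
  classical
  haveI := Fintype.ofFinite ι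
  rw [Algebra.QuasiFinite.iff_finite_comap_preimage_singleton]
  intro P
  have hsub : (PrimeSpectrum.comap (algebraMap R (∀ i, T i)) ⁻¹' {P}) ⊆
      ⋃ i : ι, (PrimeSpectrum.comap (Pi.evalRingHom T i)) ''
        (PrimeSpectrum.comap (algebraMap R (T i)) ⁻¹' {P}) := by
    intro Q hQ
    obtain ⟨⟨i, q⟩, rfl⟩ := (PrimeSpectrum.sigmaToPi_bijective T).2 Q
    refine Set.mem_iUnion.mpr ⟨i, q, ?_, rfl⟩
    have : PrimeSpectrum.comap (algebraMap R (∀ i, T i)) (PrimeSpectrum.sigmaToPi T ⟨i, q⟩) = P := hQ
    rw [PrimeSpectrum.sigmaToPi_apply, ← PrimeSpectrum.comap_comp_apply] at this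
    exact this
  refine Set.Finite.subset (Set.finite_iUnion fun i => Set.Finite.image _ ?_) hsub
  exact Algebra.QuasiFinite.finite_comap_preimage_singleton P

end Pi

section Dominate

theorem exists_quasiFinite_faithfullyFlat_dominating (R : Type u) [CommRing R]
    (S : Type u) [CommRing S] [Algebra R S] [Module.FaithfullyFlat R S]
    [Algebra.FinitePresentation R S] :
    ∃ (S' : Type u) (_ : CommRing S') (_ : Algebra R S'),
      Algebra.QuasiFinite R S' ∧ Algebra.FiniteType R S' ∧ Module.FaithfullyFlat R S' ∧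
        Algebra.FinitePresentation R S' ∧ Nonempty (S →ₐ[R] S') := by
  classical
  have key : ∀ x : PrimeSpectrum R, ∃ (T : Type u) (_ : CommRing T) (_ : Algebra R T)
      (_ : S →ₐ[R] T), Algebra.QuasiFinite R T ∧ Algebra.FinitePresentation R T ∧
        Module.Flat R T ∧ ∃ (Q : Ideal T) (_ : Q.IsPrime), Q.under R = x.asIdeal := by
    intro x
    haveI : Nontrivial (x.asIdeal.Fiber S) := inferInstance
    exact exists_qf_flat_nbhd x.asIdeal S
  choose T iC iA ψ hqf hfp hfl Q hQ hQx using key
  -- the open images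
  let U : PrimeSpectrum R → Set (PrimeSpectrum R) := fun x =>
    Set.range (PrimeSpectrum.comap (algebraMap R (T x)))
  have hUopen : ∀ x, IsOpen (U x) := fun x => by
    haveI := hfl x
    haveI := hfp x
    exact (PrimeSpectrum.isOpenMap_comap_of_hasGoingDown_of_finitePresentation
      (R := R) (S := T x)).isOpen_range
  have hxU : ∀ x, x ∈ U x := fun x =>
    ⟨⟨Q x, hQ x⟩, PrimeSpectrum.ext (hQx x)⟩
  obtain ⟨t, ht⟩ := isCompact_univ.elim_finite_subcover U hUopen
    (fun x _ => Set.mem_iUnion.mpr ⟨x, hxU x⟩)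
  let S' := ∀ i : t, T i.1
  haveI : ∀ i : t, Algebra.FinitePresentation R (T i.1) := fun i => hfp i.1
  haveI : ∀ i : t, Algebra.QuasiFinite R (T i.1) := fun i => hqf i.1
  haveI : ∀ i : t, Module.Flat R (T i.1) := fun i => hfl i.1
  haveI hfpS' : Algebra.FinitePresentation R S' := inferInstance
  haveI hftS' : Algebra.FiniteType R S' := inferInstance
  haveI hflS' : Module.Flat R S' := flat_pi (fun i : t => T i.1)
  refine ⟨S', inferInstance, inferInstance, quasiFinite_pi (fun i : t => T i.1), hftS', ?_, hfpS',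
    ⟨Pi.algHom R (fun i : t => T i.1) (fun i => ψ i.1)⟩⟩
  refine Module.FaithfullyFlat.of_comap_surjective fun y => ?_
  have hy := ht (Set.mem_univ y)
  simp only [Set.mem_iUnion] at hy
  obtain ⟨x, hxt, z, hz⟩ := hy
  refine ⟨PrimeSpectrum.comap (Pi.evalRingHom (fun i : t => T i.1) ⟨x, hxt⟩) z, ?_⟩
  rw [← PrimeSpectrum.comap_comp_apply]
  exact hz

end Dominate


end Groth.Agent.Lib.Helper22.QFSlice
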