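import Mathlib.GroupTheory.SpecificGroups.Quaternion
import Mathlib.GroupTheory.OrderOfElement
import Mathlib.Data.ZMod.Basic

/-!
# Helper22: homomorphisms out of the generalised quaternion group from generators and relations
-/

set_option autoImplicit false

namespace Groth.Agent.Lib.Helper22

open QuaternionGroup

section

variable {G : Type*} [Group G] {n : ℕ} [NeZero n]

theorem neZero_two_mul : NeZero (2 * n) := ⟨by have := NeZero.ne n; omega⟩

attribute [local instance] neZero_two_mul

theorem pw_add (A : G) (hA : A ^ (2 * n) = 1) (i j : ZMod (2 * n)) :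
    A ^ (i + j).val = A ^ i.val * A ^ j.val := by
  rw [ZMod.val_add, ← pow_add, ← pow_eq_pow_mod _ hA]

theorem pw_neg (A : G) (hA : A ^ (2 * n) = 1) (i : ZMod (2 * n)) :
    A ^ (-i).val = (A ^ i.val)⁻¹ := by
  rw [eq_inv_iff_mul_eq_one, ← pw_add A hA, neg_add_cancel, ZMod.val_zero, pow_zero]

theorem pw_n (A : G) : A ^ ((n : ZMod (2 * n))).val = A ^ n := by
  rw [ZMod.val_natCast, Nat.mod_eq_of_lt]
  have := NeZero.pos n
  omega

theorem pow_mul_B (A B : G) (hAB : A * B * A = B) (k : ℕ) : A ^ k * B = B * (A ^ k)⁻¹ := by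
  have h1 : B⁻¹ * A * B = A⁻¹ := by
    have : A * B = B * A⁻¹ := by rw [eq_mul_inv_iff_mul_eq]; exact hAB
    rw [mul_assoc, this, ← mul_assoc, inv_mul_cancel, one_mul]
  have h2 : B⁻¹ * A ^ k * B = (A ^ k)⁻¹ := by
    have := conj_pow (a := B⁻¹) (b := A) (i := k)
    rw [inv_inv] at this
    rw [← this, h1, inv_pow]
  rw [← h2, ← mul_assoc, ← mul_assoc, mul_inv_cancel, one_mul]

/-- The homomorphism out of the quaternion group determined by `A`, `B` satisfying the relations. -/
noncomputable def quatHom (A B : G) (hA : A ^ (2 * n) = 1) (hB : B * B = A ^ n)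
    (hAB : A * B * A = B) : QuaternionGroup n →* G :=
  MonoidHom.mk' (fun g => match g with
    | a i => A ^ i.val
    | xa i => B * A ^ i.val) (by
    rintro (i | i) (j | j)
    · show A ^ (i + j).val = A ^ i.val * A ^ j.val
      exact pw_add A hA i j
    · show B * A ^ (j - i).val = A ^ i.val * (B * A ^ j.val)
      rw [← mul_assoc, pow_mul_B A B hAB, sub_eq_neg_add, pw_add A hA, pw_neg A hA, mul_assoc]
    · show B * A ^ (i + j).val = B * A ^ i.val * A ^ j.val
      rw [pw_add A hA, mul_assoc]
    · show A ^ ((n : ZMod (2 * n)) + j - i).val = B * A ^ i.val * (B * A ^ j.val)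
      have e : (n : ZMod (2 * n)) + j - i = (n : ZMod (2 * n)) + (-i + j) := by ring
      rw [e, pw_add A hA, pw_add A hA, pw_neg A hA, pw_n, ← hB]
      rw [mul_assoc B (A ^ i.val), ← mul_assoc (A ^ i.val) B, pow_mul_B A B hAB]
      simp only [mul_assoc])

theorem quatHom_a (A B : G) (hA : A ^ (2 * n) = 1) (hB : B * B = A ^ n)
    (hAB : A * B * A = B) (i : ZMod (2 * n)) : quatHom A B hA hB hAB (a i) = A ^ i.val := rfl

theorem quatHom_xa (A B : G) (hA : A ^ (2 * n) = 1) (hB : B * B = A ^ n)
    (hAB : A * B * A = B) (i : ZMod (2 * n)) :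
    quatHom A B hA hB hAB (xa i) = B * A ^ i.val := rfl

theorem quatHom_injective (A B : G) (hA : A ^ (2 * n) = 1) (hB : B * B = A ^ n)
    (hAB : A * B * A = B) (hord : orderOf A = 2 * n) (hn : 2 ≤ n) :
    Function.Injective (quatHom A B hA hB hAB) := by
  rw [injective_iff_map_eq_one]
  rintro (i | i) h
  · rw [quatHom_a] at h
    have hd : 2 * n ∣ i.val := by
      have h1 : orderOf A ∣ i.val := orderOf_dvd_of_pow_eq_one h
      exact (congrArg (· ∣ i.val) hord).mp h1
    have hlt : i.val < 2 * n := ZMod.val_lt i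
    have h0 : i.val = 0 := Nat.eq_zero_of_dvd_of_lt hd hlt
    have : i = 0 := (ZMod.val_eq_zero i).mp h0
    rw [this]; rfl
  · exfalso
    rw [quatHom_xa] at h
    have hBe : B = (A ^ i.val)⁻¹ := eq_inv_of_mul_eq_one_left h
    have hcomm : A * B = B * A := by
      rw [hBe]
      exact ((Commute.refl A).pow_right i.val).inv_right.eq
    have hsq : A * A = 1 := by
      have h1 : B * (A * A) = B := by rw [← mul_assoc, ← hcomm]; exact hAB
      exact mul_eq_left.mp h1
    have hd : 2 * n ∣ 2 := by
      have : orderOf A ∣ 2 := by apply orderOf_dvd_of_pow_eq_one; rw [pow_two]; exact hsq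
      exact (congrArg (· ∣ 2) hord).mp this
    have := Nat.le_of_dvd (by norm_num) hd
    omega

end

end Groth.Agent.Lib.Helper22
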