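import Mathlib

/-!
# Dimension and local homomorphisms (helper5)

* `ringKrullDim_le_add_of_isLocalHom`: `dim B ≤ dim A + dim B/m_A B` (from Mathlib's
  `Ideal.height_le_height_add_of_liesOver`).
* `injective_of_ringKrullDim_eq`: EGA 0_IV 16.3.10.
-/

set_option autoImplicit false
universe u v

namespace Groth.Agent.Lib.Helper5

open Order Module

section
variable {A : Type u} {B : Type v} [CommRing A] [CommRing B]
    [IsLocalRing A] [IsLocalRing B] [IsNoetherianRing A] [IsNoetherianRing B]

/-- EGA 0_IV 16.3.9 for a local ring homomorphism: `dim B ≤ dim A + dim B/m_A B`. -/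
theorem ringKrullDim_le_add_of_isLocalHom (f : A →+* B) [IsLocalHom f] :
    ringKrullDim B ≤ ringKrullDim A + ringKrullDim (B ⧸ (IsLocalRing.maximalIdeal A).map f) := by
  let _ := f.toAlgebra
  have hf : algebraMap A B = f := rfl
  have : IsLocalHom (algebraMap A B) := by rw [hf]; infer_instance
  change ringKrullDim B ≤ ringKrullDim A +
    ringKrullDim (B ⧸ (IsLocalRing.maximalIdeal A).map (algebraMap A B))
  have hlo : (IsLocalRing.maximalIdeal B).LiesOver (IsLocalRing.maximalIdeal A) := inferInstance
  have h := Ideal.height_le_height_add_of_liesOver (IsLocalRing.maximalIdeal A)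
    (IsLocalRing.maximalIdeal B)
  rw [← IsLocalRing.maximalIdeal_height_eq_ringKrullDim (R := B),
    ← IsLocalRing.maximalIdeal_height_eq_ringKrullDim (R := A)]
  have hle : (IsLocalRing.maximalIdeal A).map (algebraMap A B) ≤ IsLocalRing.maximalIdeal B := by
    rw [Ideal.map_le_iff_le_comap]
    exact le_of_eq (Ideal.LiesOver.over (p := IsLocalRing.maximalIdeal A)
      (P := IsLocalRing.maximalIdeal B))
  have hprime : ((IsLocalRing.maximalIdeal B).map
      (Ideal.Quotient.mk ((IsLocalRing.maximalIdeal A).map (algebraMap A B)))).IsPrime :=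
    Ideal.isPrime_map_quotientMk_of_isPrime hle
  have h2 : (((IsLocalRing.maximalIdeal B).map
      (Ideal.Quotient.mk ((IsLocalRing.maximalIdeal A).map (algebraMap A B)))).height : WithBot ℕ∞) ≤
      ringKrullDim (B ⧸ (IsLocalRing.maximalIdeal A).map (algebraMap A B)) :=
    Ideal.height_le_ringKrullDim_of_ne_top Ideal.IsPrime.ne_top'
  calc ((IsLocalRing.maximalIdeal B).height : WithBot ℕ∞)
      ≤ (((IsLocalRing.maximalIdeal A).height + ((IsLocalRing.maximalIdeal B).map
      (Ideal.Quotient.mk ((IsLocalRing.maximalIdeal A).map (algebraMap A B)))).height : ℕ∞) : WithBot ℕ∞) := by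
        exact_mod_cast h
    _ = ((IsLocalRing.maximalIdeal A).height : WithBot ℕ∞) + (((IsLocalRing.maximalIdeal B).map
      (Ideal.Quotient.mk ((IsLocalRing.maximalIdeal A).map (algebraMap A B)))).height : WithBot ℕ∞) := by
        push_cast; rfl
    _ ≤ _ := by gcongr

/-- EGA 0_IV 16.3.10: if `m_A B` is an ideal of definition, `A` is a domain and `dim A = dim B`,
then `A → B` is injective. -/
theorem injective_of_ringKrullDim_eq [IsDomain A] (f : A →+* B) [IsLocalHom f]
    (hdef : ringKrullDim (B ⧸ (IsLocalRing.maximalIdeal A).map f) = 0)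
    (hdim : ringKrullDim A = ringKrullDim B) : Function.Injective f := by
  rw [RingHom.injective_iff_ker_eq_bot]
  by_contra hK
  obtain ⟨a, haK, ha0⟩ := Submodule.exists_mem_ne_zero_of_ne_bot hK
  -- the quotient ring
  have hKtop : RingHom.ker f ≠ ⊤ := RingHom.ker_ne_top f
  have : Nontrivial (A ⧸ RingHom.ker f) := Ideal.Quotient.nontrivial_iff.mpr hKtop
  have : IsLocalRing (A ⧸ RingHom.ker f) :=
    IsLocalRing.of_surjective' (Ideal.Quotient.mk (RingHom.ker f)) Ideal.Quotient.mk_surjective
  have hloc : IsLocalHom (RingHom.kerLift f) := by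
    constructor
    intro a' ha'
    obtain ⟨a, rfl⟩ := Ideal.Quotient.mk_surjective a'
    rw [RingHom.kerLift_mk] at ha'
    exact (isUnit_of_map_unit f a ha').map _
  have hmax : (IsLocalRing.maximalIdeal (A ⧸ RingHom.ker f)).map (RingHom.kerLift f) =
      (IsLocalRing.maximalIdeal A).map f := by
    have h1 : IsLocalRing.maximalIdeal (A ⧸ RingHom.ker f) =
        (IsLocalRing.maximalIdeal A).map (Ideal.Quotient.mk (RingHom.ker f)) := by
      have : IsLocalHom (Ideal.Quotient.mk (RingHom.ker f)) :=
        IsLocalHom.of_surjective _ Ideal.Quotient.mk_surjective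
      exact (IsLocalRing.map_maximalIdeal_of_surjective _ Ideal.Quotient.mk_surjective).symm
    rw [h1, Ideal.map_map]
    congr 1
  have h1 := ringKrullDim_le_add_of_isLocalHom (RingHom.kerLift f)
  rw [hmax, hdef, add_zero] at h1
  -- `dim A/K + 1 ≤ dim A`
  have hnzd : a ∈ nonZeroDivisors A := mem_nonZeroDivisors_of_ne_zero ha0
  have h2 := ringKrullDim_quotient_succ_le_of_nonZeroDivisor hnzd
  have hle : Ideal.span {a} ≤ RingHom.ker f := (Ideal.span_singleton_le_iff_mem _).mpr haK
  have h3 : ringKrullDim (A ⧸ RingHom.ker f) ≤ ringKrullDim (A ⧸ Ideal.span {a}) :=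
    ringKrullDim_le_of_surjective (Ideal.Quotient.factor hle) (Ideal.Quotient.factor_surjective hle)
  have h4 : ringKrullDim B + 1 ≤ ringKrullDim B := by
    calc ringKrullDim B + 1 ≤ ringKrullDim (A ⧸ RingHom.ker f) + 1 := by gcongr
      _ ≤ ringKrullDim (A ⧸ Ideal.span {a}) + 1 := by gcongr
      _ ≤ ringKrullDim A := h2
      _ = ringKrullDim B := hdim
  have hfin : ringKrullDim B < ⊤ := ringKrullDim_lt_top
  have hbot : ringKrullDim B ≠ ⊥ := ringKrullDim_ne_bot
  cases hB : ringKrullDim B with
  | bot => exact hbot hB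
  | coe e =>
    rw [hB] at h4 hfin
    cases e with
    | top => simp at hfin
    | coe k =>
      have : (k : ℕ∞) + 1 ≤ k := by exact_mod_cast h4
      have : k + 1 ≤ k := by exact_mod_cast this
      omega

end


end Groth.Agent.Lib.Helper5
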