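import Mathlib
import Groth.Agent.S2082
import Groth.Agent.S0565
import Groth.Agent.Lib.Helper5LocalDim
import Groth.Agent.Lib.Helper5RLR3
import Groth.Agent.Lib.Helper28FlatNormal
import Groth.Agent.Lib.Helper19RegPres

/-!
# Regular local homomorphisms: EGA 0_IV 17.3.3 (helper22)
-/

set_option autoImplicit false
set_option linter.style.haveILetI false
universe u

open IsLocalRing

namespace Groth.Agent.Lib.Helper22.RegHom

section embdim

variable {A B : Type u} [CommRing A] [IsLocalRing A] [IsNoetherianRing A] [CommRing B]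
  [IsLocalRing B] [IsNoetherianRing B] [Algebra A B] [IsLocalHom (algebraMap A B)]
  [IsLocalRing (B ⧸ (maximalIdeal A).map (algebraMap A B))]

theorem sup_spanFinrank_le {R : Type u} [CommRing R] (p q : Ideal R) (hp : p.FG) (hq : q.FG) :
    (p ⊔ q).spanFinrank ≤ p.spanFinrank + q.spanFinrank := by
  have h := Submodule.spanRank_sup_le_sum_spanRank (p := p) (q := q)
  rw [Submodule.FG.spanRank_eq_spanFinrank (p := p) hp,
    Submodule.FG.spanRank_eq_spanFinrank (p := q) hq, ← Nat.cast_add] at h
  exact (Submodule.FG.spanRank_le_iff (p := p ⊔ q) (Submodule.FG.sup hp hq) _).mp h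

/-- `embdim B ≤ embdim A + embdim (B / m_A B)`. -/
theorem spanFinrank_maximalIdeal_le :
    (maximalIdeal B).spanFinrank ≤ (maximalIdeal A).spanFinrank +
      (maximalIdeal (B ⧸ (maximalIdeal A).map (algebraMap A B))).spanFinrank := by
  classical
  set I : Ideal B := (maximalIdeal A).map (algebraMap A B) with hI
  have hIle : I ≤ maximalIdeal B :=
    Groth.Agent.Lib.Helper5.le_maximalIdeal_of_isLocalRing_quotient I
  have hn0 : maximalIdeal (B ⧸ I) = (maximalIdeal B).map (Ideal.Quotient.mk I) :=
    Groth.Agent.Lib.Helper5.maximalIdeal_quotient_eq_map I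
  have hfg0 : (maximalIdeal (B ⧸ I)).FG := (maximalIdeal (B ⧸ I)).fg_of_isNoetherianRing
  obtain ⟨t, ht1, ht2⟩ := Submodule.FG.exists_span_finset_card_eq_spanFinrank
    (p := maximalIdeal (B ⧸ I)) hfg0
  choose σ hσ using fun x : B ⧸ I => Ideal.Quotient.mk_surjective x
  let t' : Finset B := t.image σ
  have ht'card : t'.card ≤ t.card := Finset.card_image_le
  have ht'mem : ∀ b ∈ t', b ∈ maximalIdeal B := by
    intro b hb
    obtain ⟨x, hx, rfl⟩ := Finset.mem_image.mp hb
    have hx' : x ∈ maximalIdeal (B ⧸ I) := by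
      rw [← ht2]
      exact Submodule.subset_span hx
    rw [← hσ x] at hx'
    exact (Groth.Agent.Lib.Helper5.mk_mem_maximalIdeal_quotient_iff I (σ x)).mp hx'
  have heq : maximalIdeal B = I ⊔ Ideal.span (t' : Set B) := by
    apply le_antisymm
    · intro b hb
      have hb' : Ideal.Quotient.mk I b ∈ Ideal.span ((t : Finset (B ⧸ I)) : Set (B ⧸ I)) := by
        change _ ∈ Submodule.span _ _
        rw [ht2, hn0]
        exact Ideal.mem_map_of_mem _ hb
      have himg : ((t : Finset (B ⧸ I)) : Set (B ⧸ I)) = Ideal.Quotient.mk I '' (t' : Set B) := by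
        ext x
        simp only [Finset.mem_coe, Set.mem_image, t', Finset.mem_image]
        constructor
        · intro hx
          exact ⟨σ x, ⟨x, hx, rfl⟩, hσ x⟩
        · rintro ⟨_, ⟨y, hy, rfl⟩, rfl⟩
          rwa [hσ y]
      rw [himg, ← Ideal.map_span] at hb'
      obtain ⟨c, hc, hcb⟩ := (Ideal.mem_map_iff_of_surjective _ Ideal.Quotient.mk_surjective).mp hb'
      have hbc : b - c ∈ I := by
        rw [← Ideal.Quotient.eq_zero_iff_mem, map_sub, hcb, sub_self]
      have : b = (b - c) + c := by ring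
      rw [this]
      exact Ideal.add_mem _ (Ideal.mem_sup_left hbc) (Ideal.mem_sup_right hc)
    · exact sup_le hIle (Ideal.span_le.mpr fun b hb => ht'mem b hb)
  have hfgA : (maximalIdeal A).FG := (maximalIdeal A).fg_of_isNoetherianRing
  have h1 : I.spanFinrank ≤ (maximalIdeal A).spanFinrank :=
    Ideal.spanFinrank_map_le_of_fg (algebraMap A B) hfgA
  have h2 : (Ideal.span (t' : Set B)).spanFinrank ≤ t'.card := by
    have := Submodule.spanFinrank_span_le_ncard_of_finite (R := B) (Finset.finite_toSet t')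
    rwa [Set.ncard_coe_finset] at this
  rw [heq]
  calc (I ⊔ Ideal.span (t' : Set B)).spanFinrank
      ≤ I.spanFinrank + (Ideal.span (t' : Set B)).spanFinrank :=
        sup_spanFinrank_le _ _ (IsNoetherian.noetherian I) (IsNoetherian.noetherian _)
    _ ≤ (maximalIdeal A).spanFinrank + t.card := by omega
    _ = _ := by rw [ht1]

end embdim

section main

variable {A B : Type u} [CommRing A] [IsLocalRing A] [IsNoetherianRing A] [CommRing B]
  [IsLocalRing B] [IsNoetherianRing B] [Algebra A B] [IsLocalHom (algebraMap A B)]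
  [IsLocalRing (B ⧸ (maximalIdeal A).map (algebraMap A B))]

theorem dim_le_emb (R : Type u) [CommRing R] [IsLocalRing R] [IsNoetherianRing R] (d : ℕ)
    (hd : ringKrullDim R = d) : d ≤ (maximalIdeal R).spanFinrank := by
  have h := ringKrullDim_le_spanFinrank_maximalIdeal R
  rw [hd] at h
  exact_mod_cast h

theorem regular_iff_nat (R : Type u) [CommRing R] [IsLocalRing R] [IsNoetherianRing R] (d : ℕ)
    (hd : ringKrullDim R = d) : IsRegularLocalRing R ↔ (maximalIdeal R).spanFinrank = d := by
  rw [isRegularLocalRing_iff, hd]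
  exact_mod_cast Iff.rfl

theorem tfae :
    [IsRegularLocalRing B ∧
       Module.finrank (ResidueField B) (CotangentSpace B) =
         Module.finrank (ResidueField A) (CotangentSpace A) +
           Module.finrank (ResidueField (B ⧸ (maximalIdeal A).map (algebraMap A B)))
             (CotangentSpace (B ⧸ (maximalIdeal A).map (algebraMap A B))),
     IsRegularLocalRing B ∧ IsRegularLocalRing (B ⧸ (maximalIdeal A).map (algebraMap A B)) ∧
       Module.Flat A B,
     IsRegularLocalRing A ∧ IsRegularLocalRing (B ⧸ (maximalIdeal A).map (algebraMap A B)) ∧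
       Module.Flat A B,
     IsRegularLocalRing A ∧ IsRegularLocalRing (B ⧸ (maximalIdeal A).map (algebraMap A B)) ∧
       ringKrullDim B = ringKrullDim A +
         ringKrullDim (B ⧸ (maximalIdeal A).map (algebraMap A B))].TFAE := by
  obtain ⟨dA, hdA⟩ := Groth.Agent.Lib.Helper19.exists_nat_ringKrullDim A
  obtain ⟨dB, hdB⟩ := Groth.Agent.Lib.Helper19.exists_nat_ringKrullDim B
  obtain ⟨d0, hd0⟩ := Groth.Agent.Lib.Helper19.exists_nat_ringKrullDim
    (B ⧸ (maximalIdeal A).map (algebraMap A B))
  rw [← spanFinrank_maximalIdeal_eq_finrank_cotangentSpace,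
    ← spanFinrank_maximalIdeal_eq_finrank_cotangentSpace,
    ← spanFinrank_maximalIdeal_eq_finrank_cotangentSpace]
  have hle := spanFinrank_maximalIdeal_le (A := A) (B := B)
  have hA := dim_le_emb A dA hdA
  have hB := dim_le_emb B dB hdB
  have h0 := dim_le_emb _ d0 hd0
  have hdimle : dB ≤ dA + d0 := by
    have h := Groth.Agent.Lib.Helper5.ringKrullDim_le_add_of_isLocalHom (algebraMap A B)
    rw [hdA, hdB, hd0] at h
    exact_mod_cast h
  have hdimeq : ringKrullDim B = ringKrullDim A +
      ringKrullDim (B ⧸ (maximalIdeal A).map (algebraMap A B)) ↔ dB = dA + d0 := by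
    rw [hdA, hdB, hd0]
    exact_mod_cast Iff.rfl
  rw [regular_iff_nat A dA hdA, regular_iff_nat B dB hdB, regular_iff_nat _ d0 hd0, hdimeq]
  -- (4) ⇒ B regular and flat
  have key : (maximalIdeal A).spanFinrank = dA →
      (maximalIdeal (B ⧸ (maximalIdeal A).map (algebraMap A B))).spanFinrank = d0 →
      dB = dA + d0 → (maximalIdeal B).spanFinrank = dB ∧ Module.Flat A B := by
    intro h1 h2 h3
    have hBreg : (maximalIdeal B).spanFinrank = dB := by omega
    refine ⟨hBreg, ?_⟩
    haveI : IsRegularLocalRing A := (regular_iff_nat A dA hdA).mpr h1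
    haveI : IsRegularLocalRing B := (regular_iff_nat B dB hdB).mpr hBreg
    haveI : LocCoh.IsCohenMacaulayLocalRing B :=
      Groth.Agent.Lib.Helper5.isCohenMacaulayLocalRing_of_isRegularLocalRing B
    exact Groth.Agent.S2082.result (hdimeq.mpr h3)
  tfae_have 1 → 4 := by
    rintro ⟨h1, h2⟩
    refine ⟨?_, ?_, ?_⟩ <;> omega
  tfae_have 4 → 2 := by
    rintro ⟨h1, h2, h3⟩
    obtain ⟨h4, h5⟩ := key h1 h2 h3
    exact ⟨h4, h2, h5⟩
  tfae_have 2 → 3 := by
    rintro ⟨h1, h2, h3⟩
    haveI : IsRegularLocalRing B := (regular_iff_nat B dB hdB).mpr h1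
    haveI := h3
    exact ⟨(regular_iff_nat A dA hdA).mp (Groth.Agent.S0565.result A B), h2, h3⟩
  tfae_have 3 → 4 := by
    rintro ⟨h1, h2, h3⟩
    haveI := h3
    refine ⟨h1, h2, hdimeq.mp ?_⟩
    rw [Groth.Agent.Lib.Helper28.ringKrullDim_eq_add_of_flat (R := A) (S := B) _ rfl, add_comm]
  tfae_have 4 → 1 := by
    rintro ⟨h1, h2, h3⟩
    obtain ⟨h4, -⟩ := key h1 h2 h3
    exact ⟨h4, by omega⟩
  tfae_finish

end main

end Groth.Agent.Lib.Helper22.RegHom
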