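import Mathlib
import Groth.Agent.Lib.Helper14TensorDomain
import Groth.Agent.Lib.Helper22UnivInjGlob

/-!
# Relative effective Cartier divisors avoiding finitely many points (helper22)

For `k` algebraically closed, `A` a finite type `k`-domain and `R` a `k`-algebra, an element
`f ∈ R ⊗[k] A` with a unit coordinate (w.r.t. a `k`-basis of `A`) is a non-zero-divisor with
`R`-flat quotient (fibrewise criterion, all fibres `κ ⊗[k] A` being domains).  Together with
prime avoidance this produces, locally on `Spec R`, a relative effective Cartier divisor whose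
complement lies in a given fibrewise-nonempty open and which misses finitely many constant
sections.
-/

set_option autoImplicit false
set_option linter.style.haveILetI false
set_option linter.unusedSectionVars false

open scoped Pointwise TensorProduct

namespace Groth.Agent.Lib.Helper22.RelCartier

open Groth.Agent.Lib.Helper22.RegFib Groth.Agent.Lib.Helper22.UnivInjGlob
  Groth.Agent.Lib.Helper3.FlatLoc Groth.Agent.Lib.Helper14.TensorDomain

universe u

section Coord

variable {k : Type*} [Field k] {A : Type*} [CommRing A] [Algebra k A] {ι : Type*}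
  (b : Module.Basis ι k A)

/-- Coordinates in `R ⊗ A` with respect to a `k`-basis of `A` are functorial in `R`. -/
theorem repr_map {R₁ R₂ : Type*} [CommRing R₁] [CommRing R₂] [Algebra k R₁] [Algebra k R₂]
    (φ : R₁ →ₐ[k] R₂) (x : R₁ ⊗[k] A) (i : ι) :
    (Algebra.TensorProduct.basis R₂ b).repr (Algebra.TensorProduct.map φ (AlgHom.id k A) x) i =
      φ ((Algebra.TensorProduct.basis R₁ b).repr x i) := by
  induction x using TensorProduct.induction_on with
  | zero => simp
  | tmul r a =>
    simp only [Algebra.TensorProduct.map_tmul, AlgHom.coe_id, id_eq,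
      Algebra.TensorProduct.basis_repr_tmul, Finsupp.smul_apply, Finsupp.mapRange_apply,
      smul_eq_mul, map_mul, AlgHom.commutes]
  | add x y hx hy => simp only [map_add, Finsupp.add_apply, hx, hy]

/-- Evaluation at a `k`-point of `A`. -/
noncomputable def evz (R : Type*) [CommRing R] [Algebra k R] (z : A →ₐ[k] k) : R ⊗[k] A →ₐ[k] R :=
  Algebra.TensorProduct.lift (AlgHom.id k R) ((Algebra.ofId k R).comp z) (fun _ _ => Commute.all _ _)

theorem evz_map {R₁ R₂ : Type*} [CommRing R₁] [CommRing R₂] [Algebra k R₁] [Algebra k R₂]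
    (φ : R₁ →ₐ[k] R₂) (z : A →ₐ[k] k) (x : R₁ ⊗[k] A) :
    evz R₂ z (Algebra.TensorProduct.map φ (AlgHom.id k A) x) = φ (evz R₁ z x) := by
  induction x using TensorProduct.induction_on with
  | zero => simp
  | tmul r a => simp [evz, Algebra.ofId_apply]
  | add x y hx hy => simp only [map_add, hx, hy]

end Coord

section FlatLocal

/-- Flatness over `A` of a `B`-module can be tested at the primes of `B`. -/
theorem flat_of_forall_prime {A B M : Type*} [CommRing A] [CommRing B] [Algebra A B]
    [AddCommGroup M] [Module A M] [Module B M] [IsScalarTower A B M]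
    (h : ∀ P : Ideal B, ∀ _ : P.IsPrime, Module.Flat A (LocalizedModule P.primeCompl M)) :
    Module.Flat A M := by
  rw [Module.Flat.iff_lTensor_injective']
  intro I
  rw [injective_iff_map_eq_zero]
  intro z hz
  by_contra hz0
  have hne : Ideal.torsionOf B (M ⊗[A] I) z ≠ ⊤ := by
    intro htop
    apply hz0
    have h1 : (1 : B) ∈ Ideal.torsionOf B (M ⊗[A] I) z := htop ▸ Submodule.mem_top
    rw [Ideal.mem_torsionOf_iff, one_smul] at h1
    exact h1
  obtain ⟨P, hPmax, hle⟩ := Ideal.exists_le_maximal _ hne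
  haveI := hPmax.isPrime
  have hflat := h P hPmax.isPrime
  rw [flat_localizedModule_iff'] at hflat
  obtain ⟨s, hs, hsz⟩ := hflat I z hz
  exact hs (hle ((Ideal.mem_torsionOf_iff _ _).mpr hsz))

/-- Regularity of an element of `B` on a `B`-module can be tested at the primes of `B`. -/
theorem isSMulRegular_of_forall_prime {B M : Type*} [CommRing B] [AddCommGroup M] [Module B M]
    (g : B)
    (h : ∀ P : Ideal B, ∀ _ : P.IsPrime, IsSMulRegular (LocalizedModule P.primeCompl M) g) :
    IsSMulRegular M g := by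
  rw [isSMulRegular_iff_right_eq_zero_of_smul]
  intro x hx
  by_contra hx0
  have hne : Ideal.torsionOf B M x ≠ ⊤ := by
    intro htop
    apply hx0
    have h1 : (1 : B) ∈ Ideal.torsionOf B M x := htop ▸ Submodule.mem_top
    rw [Ideal.mem_torsionOf_iff, one_smul] at h1
    exact h1
  obtain ⟨P, hPmax, hle⟩ := Ideal.exists_le_maximal _ hne
  haveI := hPmax.isPrime
  have hreg := (isSMulRegular_localizedModule_iff P.primeCompl g).mp (h P hPmax.isPrime) x
    ⟨1, P.primeCompl.one_mem, by rw [one_smul, hx]; exact Submodule.zero_mem _⟩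
  obtain ⟨t, ht, htx⟩ := hreg
  rw [Submodule.mem_bot] at htx
  exact ht (hle ((Ideal.mem_torsionOf_iff _ _).mpr htx))

end FlatLocal

section Fibre

variable (k : Type u) [Field k] (A : Type u) [CommRing A] [Algebra k A]
  (R' : Type u) [CommRing R'] [Algebra k R'] (p' : Ideal R') [p'.IsPrime]

/-- The map to the fibre over `p'`. -/
noncomputable def fibMap : R' ⊗[k] A →ₐ[k] p'.ResidueField ⊗[k] A :=
  Algebra.TensorProduct.map (IsScalarTower.toAlgHom k R' p'.ResidueField) (AlgHom.id k A)

/-- The fibre ring `(R' ⊗ A) ⊗_{R'} κ(p') ≃ κ(p') ⊗ A`. -/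
noncomputable def fibEquiv :
    (R' ⊗[k] A) ⊗[R'] p'.ResidueField ≃ₐ[R'] p'.ResidueField ⊗[k] A :=
  (Algebra.TensorProduct.comm R' (R' ⊗[k] A) p'.ResidueField).trans
    (Algebra.TensorProduct.cancelBaseChange k R' R' p'.ResidueField A)

theorem fibEquiv_tmul_one (x : R' ⊗[k] A) :
    fibEquiv k A R' p' (x ⊗ₜ 1) = fibMap k A R' p' x := by
  induction x using TensorProduct.induction_on with
  | zero => simp
  | tmul r a =>
    simp [fibEquiv, fibMap, Algebra.algebraMap_eq_smul_one]
  | add x y hx hy => rw [TensorProduct.add_tmul, map_add, map_add, hx, hy]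

variable [IsAlgClosed k] [IsDomain A] [Algebra.FiniteType k A]

theorem isSMulRegular_fibre (f : R' ⊗[k] A) (hf : fibMap k A R' p' f ≠ 0) :
    IsSMulRegular ((R' ⊗[k] A) ⊗[R'] p'.ResidueField) f := by
  haveI : IsDomain (p'.ResidueField ⊗[k] A) := isDomain_tensor' k A p'.ResidueField
  intro y₁ y₂ h
  apply (fibEquiv k A R' p').injective
  have h2 : ∀ y : (R' ⊗[k] A) ⊗[R'] p'.ResidueField,
      fibEquiv k A R' p' (f • y) = fibMap k A R' p' f * fibEquiv k A R' p' y := by
    intro y
    induction y using TensorProduct.induction_on with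
    | zero => simp
    | tmul x c =>
      rw [TensorProduct.smul_tmul', smul_eq_mul, ← fibEquiv_tmul_one, ← map_mul,
        Algebra.TensorProduct.tmul_mul_tmul, one_mul]
    | add x y hx hy => rw [smul_add, map_add, map_add, hx, hy, mul_add]
  have h3 := congrArg (fibEquiv k A R' p') h
  simp only [h2] at h3
  exact mul_left_cancel₀ hf h3

/-- If some coordinate of `f` is a unit, then `f` is a non-zero-divisor with `R'`-flat quotient. -/
theorem regular_flat_of_unit_coord {ι : Type*} (b : Module.Basis ι k A) (f : R' ⊗[k] A) (i₀ : ι)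
    (hu : IsUnit ((Algebra.TensorProduct.basis R' b).repr f i₀)) :
    IsSMulRegular (R' ⊗[k] A) f ∧ Module.Flat R' (QuotSMulTop f (R' ⊗[k] A)) := by
  haveI : Algebra.FinitePresentation k A := Algebra.FinitePresentation.of_finiteType.mp inferInstance
  have key : ∀ P : Ideal (R' ⊗[k] A), ∀ _ : P.IsPrime,
      IsSMulRegular (LocalizedModule P.primeCompl (R' ⊗[k] A)) f ∧
        Module.Flat R' (LocalizedModule P.primeCompl (QuotSMulTop f (R' ⊗[k] A))) := by
    intro P hP
    haveI : (P.comap (algebraMap R' (R' ⊗[k] A))).IsPrime := Ideal.comap_isPrime _ _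
    have hne : fibMap k A R' (P.comap (algebraMap R' (R' ⊗[k] A))) f ≠ 0 := by
      intro h0
      have h1 := repr_map b (IsScalarTower.toAlgHom k R'
        (P.comap (algebraMap R' (R' ⊗[k] A))).ResidueField) f i₀
      change (Algebra.TensorProduct.basis _ b).repr (fibMap k A R' _ f) i₀ = _ at h1
      rw [h0, map_zero, Finsupp.zero_apply] at h1
      have h2 : IsUnit (algebraMap R' (P.comap (algebraMap R' (R' ⊗[k] A))).ResidueField
          ((Algebra.TensorProduct.basis R' b).repr f i₀)) := hu.map _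
      exact h2.ne_zero h1.symm
    have hreg0 := isSMulRegular_fibre k A R' _ f hne
    have hflat : Module.Flat R' (LocalizedModule P.primeCompl (R' ⊗[k] A)) :=
      flat_localizedModule_of_flat P.primeCompl
    exact core_fp (R' ⊗[k] A) P f (algebraMap (R' ⊗[k] A) P.ResidueField)
      (Ideal.ResidueField.map (P.comap (algebraMap R' (R' ⊗[k] A))) P
        (algebraMap R' (R' ⊗[k] A)) rfl)
      (Ideal.ker_algebraMap_residueField _)
      (fun a => (Ideal.ResidueField.map_algebraMap _ _ _ _ a).symm) hflat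
      (isSMulRegular_localizedModule_of_isSMulRegular _ f hreg0)
  exact ⟨isSMulRegular_of_forall_prime f fun P hP => (key P hP).1,
    flat_of_forall_prime fun P hP => (key P hP).2⟩

end Fibre

section Main

variable (k : Type u) [Field k] [IsAlgClosed k] (A : Type u) [CommRing A] [Algebra k A]
  [IsDomain A] [Algebra.FiniteType k A]

/-- Step A: an element of the vanishing ideal of `Uᶜ` nonzero on the fibre over `p` and at all
points of `Z`. -/
theorem exists_good_element (Z : Finset (A →ₐ[k] k)) (R : Type u) [CommRing R] [Algebra k R]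
    (U : TopologicalSpace.Opens (PrimeSpectrum (R ⊗[k] A)))
    (hZ : ∀ z ∈ Z, ∀ q : PrimeSpectrum R, PrimeSpectrum.comap (evz R z).toRingHom q ∈ U)
    (hsurj : ∀ q : PrimeSpectrum R, ∃ P ∈ U,
      PrimeSpectrum.comap (Algebra.TensorProduct.includeLeftRingHom : R →+* R ⊗[k] A) P = q)
    (p : PrimeSpectrum R) :
    ∃ f₀ : R ⊗[k] A, (∀ P : PrimeSpectrum (R ⊗[k] A), f₀ ∉ P.asIdeal → P ∈ U) ∧
      fibMap k A R p.asIdeal f₀ ≠ 0 ∧ ∀ z ∈ Z, evz R z f₀ ∉ p.asIdeal := by
  classical
  have hcl : IsClosed ((U : Set (PrimeSpectrum (R ⊗[k] A)))ᶜ) := U.isOpen.isClosed_compl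
  have hJU : ∀ P : PrimeSpectrum (R ⊗[k] A),
      PrimeSpectrum.vanishingIdeal ((U : Set (PrimeSpectrum (R ⊗[k] A)))ᶜ) ≤ P.asIdeal → P ∉ U := by
    intro P hle hPU
    have h1 : P ∈ PrimeSpectrum.zeroLocus
        (PrimeSpectrum.vanishingIdeal ((U : Set (PrimeSpectrum (R ⊗[k] A)))ᶜ) : Set (R ⊗[k] A)) :=
      (PrimeSpectrum.mem_zeroLocus _ _).mpr hle
    rw [PrimeSpectrum.zeroLocus_vanishingIdeal_eq_closure, hcl.closure_eq] at h1
    exact h1 hPU
  let b := Module.Basis.ofVectorSpace k A
  haveI : IsDomain (p.asIdeal.ResidueField ⊗[k] A) := isDomain_tensor' k A p.asIdeal.ResidueField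
  -- the primes to avoid
  let K₀ : Ideal (R ⊗[k] A) := RingHom.ker (fibMap k A R p.asIdeal).toRingHom
  let Kz : (A →ₐ[k] k) → Ideal (R ⊗[k] A) := fun z => Ideal.comap (evz R z).toRingHom p.asIdeal
  have hK₀ : K₀.IsPrime := RingHom.ker_isPrime _
  have hKz : ∀ z, (Kz z).IsPrime := fun z => Ideal.comap_isPrime _ _
  -- J is not contained in K₀
  have h0 : ¬ PrimeSpectrum.vanishingIdeal ((U : Set (PrimeSpectrum (R ⊗[k] A)))ᶜ) ≤ K₀ := by
    intro hle
    obtain ⟨P₀, hP₀U, hP₀p⟩ := hsurj p
    apply hJU P₀ _ hP₀U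
    refine hle.trans ?_
    intro x hx
    have hx0 : fibMap k A R p.asIdeal x = 0 := hx
    have hcoord : ∀ i, (Algebra.TensorProduct.basis R b).repr x i ∈ p.asIdeal := by
      intro i
      have h1 := repr_map b (IsScalarTower.toAlgHom k R p.asIdeal.ResidueField) x i
      change (Algebra.TensorProduct.basis _ b).repr (fibMap k A R p.asIdeal x) i = _ at h1
      rw [hx0, map_zero, Finsupp.zero_apply] at h1
      exact Ideal.algebraMap_residueField_eq_zero.mp h1.symm
    rw [← (Algebra.TensorProduct.basis R b).linearCombination_repr x,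
      Finsupp.linearCombination_apply]
    refine Ideal.sum_mem _ fun i _ => ?_
    show ((Algebra.TensorProduct.basis R b).repr x i) • (Algebra.TensorProduct.basis R b) i ∈
      P₀.asIdeal
    rw [Algebra.smul_def]
    refine Ideal.mul_mem_right _ _ ?_
    have : (Algebra.TensorProduct.basis R b).repr x i ∈
        (PrimeSpectrum.comap (Algebra.TensorProduct.includeLeftRingHom : R →+* R ⊗[k] A)
          P₀).asIdeal := by
      rw [hP₀p]; exact hcoord i
    exact this
  have hz : ∀ z ∈ Z,
      ¬ PrimeSpectrum.vanishingIdeal ((U : Set (PrimeSpectrum (R ⊗[k] A)))ᶜ) ≤ Kz z := by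
    intro z hzZ hle
    exact hJU _ hle (hZ z hzZ p)
  have hnot : ¬ ((PrimeSpectrum.vanishingIdeal ((U : Set (PrimeSpectrum (R ⊗[k] A)))ᶜ) :
      Set (R ⊗[k] A)) ⊆ ⋃ i ∈ ((insert K₀ (Z.image Kz) : Finset (Ideal (R ⊗[k] A))) : Set _),
        ((id i : Ideal (R ⊗[k] A)) : Set (R ⊗[k] A))) := by
    rw [Ideal.subset_union_prime (f := id) K₀ K₀ (fun i hi _ _ => by
      rcases Finset.mem_insert.mp hi with rfl | hi
      · exact hK₀
      · obtain ⟨z, -, rfl⟩ := Finset.mem_image.mp hi
        exact hKz z)]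
    rintro ⟨i, hi, hle⟩
    rcases Finset.mem_insert.mp hi with rfl | hi
    · exact h0 hle
    · obtain ⟨z, hzZ, rfl⟩ := Finset.mem_image.mp hi
      exact hz z hzZ hle
  obtain ⟨f₀, hf₀J, hf₀⟩ := Set.not_subset.mp hnot
  refine ⟨f₀, ?_, ?_, ?_⟩
  · intro P hP
    by_contra hPU
    apply hP
    have : P ∈ (U : Set (PrimeSpectrum (R ⊗[k] A)))ᶜ := hPU
    exact (PrimeSpectrum.mem_vanishingIdeal _ _).mp hf₀J P this
  · intro h
    apply hf₀
    simp only [Set.mem_iUnion]
    exact ⟨K₀, by simp, h⟩
  · intro z hzZ h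
    apply hf₀
    simp only [Set.mem_iUnion]
    exact ⟨Kz z, by simp only [Finset.coe_insert, Finset.coe_image, Set.mem_insert_iff,
      Set.mem_image, Finset.mem_coe]; exact Or.inr ⟨z, hzZ, rfl⟩, h⟩

end Main

section Main2

variable (k : Type u) [Field k] [IsAlgClosed k] (A : Type u) [CommRing A] [Algebra k A]
  [IsDomain A] [Algebra.FiniteType k A]

theorem main (Z : Finset (A →ₐ[k] k)) (R : Type u) [CommRing R] [Algebra k R]
    (U : TopologicalSpace.Opens (PrimeSpectrum (R ⊗[k] A)))
    (hZ : ∀ z ∈ Z, ∀ q : PrimeSpectrum R, PrimeSpectrum.comap (evz R z).toRingHom q ∈ U)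
    (hsurj : ∀ q : PrimeSpectrum R, ∃ P ∈ U,
      PrimeSpectrum.comap (Algebra.TensorProduct.includeLeftRingHom : R →+* R ⊗[k] A) P = q)
    (p : PrimeSpectrum R) :
    ∃ r : R, r ∉ p.asIdeal ∧
      ∃ f : (Localization.Away r) ⊗[k] A,
        f ∈ nonZeroDivisors ((Localization.Away r) ⊗[k] A) ∧
        Module.Flat (Localization.Away r)
          (((Localization.Away r) ⊗[k] A) ⧸ Ideal.span {f}) ∧
        (∀ z ∈ Z, IsUnit (evz (Localization.Away r) z f)) ∧
        (∀ P : PrimeSpectrum ((Localization.Away r) ⊗[k] A), f ∉ P.asIdeal →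
          PrimeSpectrum.comap (Algebra.TensorProduct.map
            (IsScalarTower.toAlgHom k R (Localization.Away r)) (AlgHom.id k A)).toRingHom P ∈ U) := by
  classical
  obtain ⟨f₀, hf₀U, hf₀p, hf₀Z⟩ := exists_good_element k A Z R U hZ hsurj p
  let b := Module.Basis.ofVectorSpace k A
  -- a coordinate outside p
  obtain ⟨i₀, hi₀⟩ : ∃ i₀, (Algebra.TensorProduct.basis R b).repr f₀ i₀ ∉ p.asIdeal := by
    by_contra hcon
    push Not at hcon
    apply hf₀p
    apply (Algebra.TensorProduct.basis p.asIdeal.ResidueField b).repr.injective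
    ext i
    have h1 := repr_map b (IsScalarTower.toAlgHom k R p.asIdeal.ResidueField) f₀ i
    change (Algebra.TensorProduct.basis _ b).repr (fibMap k A R p.asIdeal f₀) i = _ at h1
    rw [h1, map_zero, Finsupp.zero_apply]
    exact Ideal.algebraMap_residueField_eq_zero.mpr (hcon i)
  have hr₂ : ∏ z ∈ Z, evz R z f₀ ∉ p.asIdeal := by
    rw [Ideal.IsPrime.prod_mem_iff]
    rintro ⟨z, hz, hmem⟩
    exact hf₀Z z hz hmem
  refine ⟨(Algebra.TensorProduct.basis R b).repr f₀ i₀ * ∏ z ∈ Z, evz R z f₀, ?_, ?_⟩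
  · intro hmem
    rcases (Ideal.IsPrime.mem_or_mem inferInstance hmem) with h | h
    · exact hi₀ h
    · exact hr₂ h
  set r := (Algebra.TensorProduct.basis R b).repr f₀ i₀ * ∏ z ∈ Z, evz R z f₀ with hr
  have hunit : IsUnit (algebraMap R (Localization.Away r) r) :=
    IsLocalization.Away.algebraMap_isUnit r
  have hu1 : IsUnit (algebraMap R (Localization.Away r)
      ((Algebra.TensorProduct.basis R b).repr f₀ i₀)) := by
    rw [hr, map_mul] at hunit
    exact isUnit_of_mul_isUnit_left hunit
  have hu2 : ∀ z ∈ Z, IsUnit (algebraMap R (Localization.Away r) (evz R z f₀)) := by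
    intro z hz
    have h2 : IsUnit (algebraMap R (Localization.Away r) (∏ z ∈ Z, evz R z f₀)) := by
      rw [hr, map_mul] at hunit
      exact isUnit_of_mul_isUnit_right hunit
    exact isUnit_of_dvd_unit ((algebraMap R (Localization.Away r)).map_dvd
      (Finset.dvd_prod_of_mem (fun z => evz R z f₀) hz)) h2
  refine ⟨Algebra.TensorProduct.map (IsScalarTower.toAlgHom k R (Localization.Away r))
    (AlgHom.id k A) f₀, ?_, ?_, ?_, ?_⟩
  · -- nonzerodivisor
    have hcoord := repr_map b (IsScalarTower.toAlgHom k R (Localization.Away r)) f₀ i₀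
    obtain ⟨hreg, -⟩ := regular_flat_of_unit_coord k A (Localization.Away r) b
      (Algebra.TensorProduct.map (IsScalarTower.toAlgHom k R (Localization.Away r))
        (AlgHom.id k A) f₀) i₀ (by rw [hcoord]; exact hu1)
    rw [mem_nonZeroDivisors_iff_right]
    intro x hx
    apply hreg
    simp only [smul_eq_mul, mul_zero]
    rw [mul_comm]
    exact hx
  · -- flat quotient
    have hcoord := repr_map b (IsScalarTower.toAlgHom k R (Localization.Away r)) f₀ i₀
    obtain ⟨-, hflat⟩ := regular_flat_of_unit_coord k A (Localization.Away r) b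
      (Algebra.TensorProduct.map (IsScalarTower.toAlgHom k R (Localization.Away r))
        (AlgHom.id k A) f₀) i₀ (by rw [hcoord]; exact hu1)
    have heq : (Algebra.TensorProduct.map (IsScalarTower.toAlgHom k R (Localization.Away r))
        (AlgHom.id k A) f₀) • (⊤ : Submodule ((Localization.Away r) ⊗[k] A)
          ((Localization.Away r) ⊗[k] A)) = Ideal.span {Algebra.TensorProduct.map
            (IsScalarTower.toAlgHom k R (Localization.Away r)) (AlgHom.id k A) f₀} := by
      ext y
      rw [Submodule.mem_smul_pointwise_iff_exists, Ideal.mem_span_singleton']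
      constructor
      · rintro ⟨x, -, rfl⟩
        exact ⟨x, by rw [smul_eq_mul, mul_comm]⟩
      · rintro ⟨x, rfl⟩
        exact ⟨x, Submodule.mem_top, by rw [smul_eq_mul, mul_comm]⟩
    exact Module.Flat.of_linearEquiv
      ((Submodule.quotEquivOfEq _ _ heq).symm.restrictScalars (Localization.Away r))
  · intro z hz
    rw [evz_map]
    exact hu2 z hz
  · intro P hP
    apply hf₀U
    intro hmem
    exact hP hmem

end Main2

end Groth.Agent.Lib.Helper22.RelCartier
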