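import Mathlib

set_option autoImplicit false

open Polynomial MvPolynomial Ideal Nat RingHom List

namespace Groth.Agent.Lib.Helper22.RelNN

section nagata

variable {k : Type*} [Field k] {n : ℕ} (u : ℕ)
variable (v w : Fin (n + 1) →₀ ℕ)

/-- `X_i ↦ X_i + c • X_0 ^ (u ^ i)` for `i ≠ 0`, `X_0 ↦ X_0`, over any commutative ring. -/
noncomputable abbrev T1 (A : Type*) [CommRing A] (n : ℕ) (u : ℕ) (c : A) :
    MvPolynomial (Fin (n + 1)) A →ₐ[A] MvPolynomial (Fin (n + 1)) A :=
  aeval fun i ↦ if i = 0 then X 0 else X i + c • X 0 ^ (u ^ i.1)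

lemma t1_comp_t1_neg (A : Type*) [CommRing A] (n u : ℕ) (c : A) :
    (T1 A n u c).comp (T1 A n u (-c)) = AlgHom.id _ _ := by
  rw [comp_aeval, ← MvPolynomial.aeval_X_left]
  ext i v
  cases i using Fin.cases <;> simp

/-- the automorphism -/
noncomputable abbrev T (A : Type*) [CommRing A] (n u : ℕ) :
    MvPolynomial (Fin (n + 1)) A ≃ₐ[A] MvPolynomial (Fin (n + 1)) A :=
  AlgEquiv.ofAlgHom (T1 A n u 1) (T1 A n u (-1))
    (t1_comp_t1_neg A n u 1) (by simpa using t1_comp_t1_neg A n u (-1))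

variable {u}

lemma sum_r_mul_ne (hu : 1 < u) (vlt : ∀ i, v i < u) (wlt : ∀ i, w i < u) (ne : v ≠ w) :
    ∑ x : Fin (n + 1), u ^ x.1 * v x ≠ ∑ x : Fin (n + 1), u ^ x.1 * w x := by
  intro h
  refine ne <| Finsupp.ext <| congrFun <| ofFn_inj.mp ?_
  apply ofDigits_inj_of_len_eq hu
    (by simp) (by intro l hl; rw [List.mem_ofFn] at hl; obtain ⟨i, rfl⟩ := hl; exact vlt i)
    (by intro l hl; rw [List.mem_ofFn] at hl; obtain ⟨i, rfl⟩ := hl; exact wlt i)
  simpa only [ofDigits_eq_sum_mapIdx, mapIdx_eq_ofFn, get_ofFn, length_ofFn,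
    Fin.val_cast, mul_comm, sum_ofFn] using! h

lemma degreeOf_zero_t (hu : 1 < u) {a : k} (ha : a ≠ 0) : ((T k n u) (monomial v a)).degreeOf 0 =
    ∑ i : Fin (n + 1), (u ^ i.1) * v i := by
  rw [← natDegree_finSuccEquiv, monomial_eq, Finsupp.prod_pow v fun a ↦ X a]
  simp only [Fin.prod_univ_succ, Fin.sum_univ_succ, map_mul, map_prod, map_pow,
    AlgEquiv.ofAlgHom_apply, MvPolynomial.aeval_C, MvPolynomial.aeval_X, if_pos, Fin.succ_ne_zero,
    ite_false, one_smul, map_add, finSuccEquiv_X_zero, finSuccEquiv_X_succ, algebraMap_eq]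
  have h (i : Fin n) :
      (Polynomial.C (X (R := k) i) + Polynomial.X ^ (u ^ i.succ.1)) ^ v i.succ ≠ 0 :=
    pow_ne_zero (v i.succ) (leadingCoeff_ne_zero.mp <| by
      have hpos : 0 < u ^ i.succ.1 := pow_pos (by omega) _
      rw [add_comm, leadingCoeff_X_pow_add_C hpos]
      exact one_ne_zero)
  rw [natDegree_mul (by simp [ha]) (mul_ne_zero (by simp) (Finset.prod_ne_zero_iff.mpr
    (fun i _ ↦ h i))), natDegree_mul (by simp) (Finset.prod_ne_zero_iff.mpr (fun i _ ↦ h i)),
    natDegree_prod _ _ (fun i _ ↦ h i), natDegree_finSuccEquiv, degreeOf_C]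
  simpa only [natDegree_pow, zero_add, natDegree_X, mul_one, Fin.val_zero, pow_zero, one_mul,
    add_right_inj] using Finset.sum_congr rfl (fun i _ ↦ by
    rw [add_comm (Polynomial.C _), natDegree_X_pow_add_C, mul_comm])

/-- `T` maps different monomials of `f` to polynomials with different degrees in `X_0`. -/
lemma degreeOf_t_ne_of_ne (hu : 1 < u) (f : MvPolynomial (Fin (n + 1)) k) (hf : f.totalDegree < u)
    (hv : v ∈ f.support) (hw : w ∈ f.support) (ne : v ≠ w) :
    (T k n u <| monomial v <| coeff v f).degreeOf 0 ≠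
    (T k n u <| monomial w <| coeff w f).degreeOf 0 := by
  rw [degreeOf_zero_t _ hu <| mem_support_iff.mp hv, degreeOf_zero_t _ hu <| mem_support_iff.mp hw]
  refine sum_r_mul_ne v w hu (fun i ↦ ?_) (fun i ↦ ?_) ne <;>
  exact lt_of_le_of_lt ((monomial_le_degreeOf i ‹_›).trans (degreeOf_le_totalDegree f i)) hf

lemma leadingCoeff_finSuccEquiv_t (hu : 1 < u) (f : MvPolynomial (Fin (n + 1)) k) :
    (finSuccEquiv k n ((T k n u) ((monomial v) (coeff v f)))).leadingCoeff =
    algebraMap k _ (coeff v f) := by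
  rw [monomial_eq, Finsupp.prod_fintype]
  · simp only [map_mul, map_prod, leadingCoeff_mul, leadingCoeff_prod]
    rw [AlgEquiv.ofAlgHom_apply, algHom_C, algebraMap_eq, finSuccEquiv_apply,
      eval₂Hom_C, coe_comp]
    simp only [AlgEquiv.ofAlgHom_apply, Function.comp_apply, leadingCoeff_C, map_pow,
      leadingCoeff_pow, algebraMap_eq]
    have : ∀ j, ((finSuccEquiv k n) ((T1 k n u) 1 (X j))).leadingCoeff = 1 := fun j ↦ by
      by_cases h : j = 0
      · simp [h, finSuccEquiv_apply]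
      · simp only [aeval_eq_bind₁, bind₁_X_right, if_neg h, one_smul, map_add, map_pow]
        obtain ⟨i, rfl⟩ := Fin.exists_succ_eq.mpr h
        have hpos : 0 < u ^ i.succ.1 := pow_pos (by omega) _
        rw [finSuccEquiv_X_succ, finSuccEquiv_X_zero, add_comm, leadingCoeff_X_pow_add_C hpos]
    simp only [this, one_pow, Finset.prod_const_one, mul_one]
  exact fun i ↦ pow_zero _

/-- `T` maps `f` into some polynomial in `X_0` such that the leading coefficient is invertible. -/
lemma T_leadingcoeff_isUnit (hu : 1 < u) (f : MvPolynomial (Fin (n + 1)) k)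
    (hf : f.totalDegree < u) (fne : f ≠ 0) :
    IsUnit (finSuccEquiv k n (T k n u f)).leadingCoeff := by
  obtain ⟨v, vin, vs⟩ := Finset.exists_max_image f.support
    (fun v ↦ (T k n u ((monomial v) (coeff v f))).degreeOf 0) (support_nonempty.mpr fne)
  set h := fun w ↦ (MvPolynomial.monomial w) (coeff w f)
  simp only [← natDegree_finSuccEquiv] at vs
  replace vs : ∀ x ∈ f.support \ {v}, (finSuccEquiv k n ((T k n u) (h x))).degree <
      (finSuccEquiv k n ((T k n u) (h v))).degree := by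
    intro x hx
    obtain ⟨h1, h2⟩ := Finset.mem_sdiff.mp hx
    apply degree_lt_degree <| lt_of_le_of_ne (vs x h1) ?_
    simpa only [natDegree_finSuccEquiv]
      using degreeOf_t_ne_of_ne _ _ hu f hf h1 vin <| ne_of_not_mem_cons h2
  have coeff : (finSuccEquiv k n ((T k n u) (h v + ∑ x ∈ f.support \ {v}, h x))).leadingCoeff =
      (finSuccEquiv k n ((T k n u) (h v))).leadingCoeff := by
    simp only [map_add, map_sum]
    rw [add_comm]
    apply leadingCoeff_add_of_degree_lt <| (lt_of_le_of_lt <| degree_sum_le _ _) ?_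
    have h2 : h v ≠ 0 := by simpa [h] using mem_support_iff.mp vin
    replace h2 : (finSuccEquiv k n ((T k n u) (h v))) ≠ 0 := fun eq ↦ h2 <|
      by simpa only [map_eq_zero_iff _ (AlgEquiv.injective _)] using eq
    exact (Finset.sup_lt_iff <| Ne.bot_lt (fun x ↦ h2 <| degree_eq_bot.mp x)).mpr vs
  nth_rw 1 [← f.support_sum_monomial_coeff]
  rw [Finset.sum_eq_add_sum_sdiff_singleton_of_mem vin h]
  rw [leadingCoeff_finSuccEquiv_t _ hu] at coeff
  simpa only [coeff, algebraMap_eq] using (mem_support_iff.mp vin).isUnit.map MvPolynomial.C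

end nagata

end Groth.Agent.Lib.Helper22.RelNN
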