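import Mathlib
import Groth.Agent.Lib.Helper22RelNN

set_option autoImplicit false

open Polynomial MvPolynomial

namespace Groth.Agent.Lib.Helper22.RelNN

section lemmaC

variable {K : Type*} [Field K] {n : ℕ} {B : Type*} [CommRing B] [Algebra K B]

/-- the new map in one variable less -/
noncomputable def reduce (u : ℕ) (ψ : MvPolynomial (Fin (n + 1)) K →ₐ[K] B) :
    MvPolynomial (Fin n) K →ₐ[K] B :=
  MvPolynomial.aeval (fun i : Fin n => ψ (X i.succ) - ψ (X 0) ^ (u ^ i.succ.1))

theorem reduce_quasiFinite {u : ℕ} (hu : 1 < u) (ψ : MvPolynomial (Fin (n + 1)) K →ₐ[K] B)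
    (hψ : ψ.toRingHom.QuasiFinite) (F : MvPolynomial (Fin (n + 1)) K) (hF0 : F ≠ 0)
    (hFu : F.totalDegree < u) (hF : ψ F = 0) : (reduce u ψ).toRingHom.QuasiFinite := by
  set ψ' := reduce u ψ with hψ'
  letI algAB : Algebra (MvPolynomial (Fin n) K) B := ψ'.toRingHom.toAlgebra
  haveI : IsScalarTower K (MvPolynomial (Fin n) K) B :=
    IsScalarTower.of_algebraMap_eq (fun c => (ψ'.commutes c).symm)
  let Ψ : (MvPolynomial (Fin n) K)[X] →ₐ[MvPolynomial (Fin n) K] B := Polynomial.aeval (ψ (X 0))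
  let σ : MvPolynomial (Fin (n + 1)) K ≃ₐ[K] (MvPolynomial (Fin n) K)[X] :=
    (T K n u).trans (finSuccEquiv K n)
  have hcomp : (Ψ.restrictScalars K).comp σ.toAlgHom = ψ := by
    apply MvPolynomial.algHom_ext
    intro i
    refine Fin.cases ?_ (fun j => ?_) i
    · simp [σ, Ψ, finSuccEquiv_X_zero]
    · have h1 : algebraMap (MvPolynomial (Fin n) K) B (X j) =
          ψ (X j.succ) - ψ (X 0) ^ (u ^ j.succ.1) := by
        show ψ' (X j) = _
        simp [hψ', reduce]
      simp [σ, Ψ, finSuccEquiv_X_succ, finSuccEquiv_X_zero, Fin.succ_ne_zero, h1]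
  -- `Ψ` is quasi-finite
  have hΨ : Ψ.toRingHom.QuasiFinite := by
    have h1 : Ψ.toRingHom = ψ.toRingHom.comp σ.symm.toAlgHom.toRingHom := by
      refine RingHom.ext fun x => ?_
      obtain ⟨y, rfl⟩ := σ.surjective x
      have := congrArg (fun φ => φ y) hcomp
      simp only [AlgHom.comp_apply] at this
      simpa using this
    rw [h1]
    refine RingHom.QuasiFinite.comp hψ (RingHom.QuasiFinite.of_finite ?_)
    exact RingHom.Finite.of_surjective _ σ.symm.surjective
  -- the polynomial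
  set g : (MvPolynomial (Fin n) K)[X] := finSuccEquiv K n (T K n u F) with hg
  have hgunit : IsUnit g.leadingCoeff := T_leadingcoeff_isUnit hu F hFu hF0
  have hΨg : Ψ g = 0 := by
    have := congrArg (fun φ => φ F) hcomp
    simp only [AlgHom.comp_apply] at this
    rw [hF] at this
    exact this
  set g' : (MvPolynomial (Fin n) K)[X] := hgunit.unit⁻¹ • g with hg'
  have hg'monic : g'.Monic := monic_of_isUnit_leadingCoeff_inv_smul hgunit
  have hΨg' : Ψ g' = 0 := by rw [hg', Units.smul_def, map_smul, hΨg, smul_zero]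
  -- factor through the quotient
  let Q := (MvPolynomial (Fin n) K)[X] ⧸ Ideal.span {g'}
  let Ψbar : Q →+* B := Ideal.Quotient.lift (Ideal.span {g'}) Ψ.toRingHom (by
    intro a ha
    obtain ⟨c, rfl⟩ := Ideal.mem_span_singleton.mp ha
    show Ψ (g' * c) = 0
    rw [map_mul, hΨg', zero_mul])
  have hfac : Ψ.toRingHom = Ψbar.comp (Ideal.Quotient.mk (Ideal.span {g'})) := by
    refine RingHom.ext fun x => rfl
  have hΨbar : RingHom.QuasiFinite (R := Q) (S := B) Ψbar := by
    rw [hfac] at hΨ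
    exact RingHom.QuasiFinite.of_comp hΨ
  haveI : Module.Finite (MvPolynomial (Fin n) K) Q := hg'monic.finite_quotient
  have hπ : (algebraMap (MvPolynomial (Fin n) K) Q).QuasiFinite :=
    RingHom.QuasiFinite.of_finite (RingHom.finite_algebraMap.mpr inferInstance)
  have hfinal : ψ'.toRingHom = Ψbar.comp (algebraMap (MvPolynomial (Fin n) K) Q) := by
    refine RingHom.ext fun x => ?_
    show algebraMap (MvPolynomial (Fin n) K) B x = Ψ (Polynomial.C x)
    simp [Ψ]
  rw [hfinal]
  exact RingHom.QuasiFinite.comp hΨbar hπ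

end lemmaC

end Groth.Agent.Lib.Helper22.RelNN
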