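import Mathlib
import Groth.Agent.Lib.Helper14FTDim

set_option autoImplicit false
universe u

open MvPolynomial TensorProduct

namespace Groth.Agent.Lib.Helper22.RelNN

section lemmaA

/-- domain case -/
theorem exists_relation_of_dim_le_domain (k B : Type u) [Field k] [CommRing B] [IsDomain B]
    [Algebra k B] [Algebra.FiniteType k B] (m : ℕ) (hdim : ringKrullDim B ≤ (m : WithBot ℕ∞))
    (b : Fin (m + 1) → B) :
    ∃ F : MvPolynomial (Fin (m + 1)) k, F ≠ 0 ∧ MvPolynomial.aeval b F = 0 := by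
  obtain ⟨n, htr, hd, -⟩ := Groth.Agent.Lib.Helper14.FTDim.exists_dim k B
  have hnm : n ≤ m := by
    rw [hd] at hdim
    exact_mod_cast hdim
  by_contra hcon
  push_neg at hcon
  have hind : AlgebraicIndependent k b := by
    rw [algebraicIndependent_iff]
    intro p hp
    by_contra hp0
    exact hcon p hp0 hp
  have hinj : Function.Injective (algebraMap B (FractionRing B)) := IsFractionRing.injective _ _
  have hind' : AlgebraicIndependent k (fun i => algebraMap B (FractionRing B) (b i)) :=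
    hind.map' (f := IsScalarTower.toAlgHom k B (FractionRing B)) hinj
  have hle := hind'.lift_cardinalMk_le_trdeg
  rw [htr] at hle
  simp only [Cardinal.mk_fintype, Fintype.card_fin, Cardinal.lift_natCast, Cardinal.lift_id] at hle
  have : (m + 1 : ℕ) ≤ n := by exact_mod_cast hle
  omega

/-- general case: any `m+1` elements of a finite type algebra of dimension `≤ m` over a field
satisfy a nontrivial polynomial relation. -/
theorem exists_relation_of_dim_le (k B : Type u) [Field k] [CommRing B]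
    [Algebra k B] [Algebra.FiniteType k B] (m : ℕ) (hdim : ringKrullDim B ≤ (m : WithBot ℕ∞))
    (b : Fin (m + 1) → B) :
    ∃ F : MvPolynomial (Fin (m + 1)) k, F ≠ 0 ∧ MvPolynomial.aeval b F = 0 := by
  classical
  haveI : IsNoetherianRing B := Algebra.FiniteType.isNoetherianRing k B
  have hfin : (minimalPrimes B).Finite := minimalPrimes.finite_of_isNoetherianRing B
  have hex : ∀ q ∈ minimalPrimes B, ∃ F : MvPolynomial (Fin (m + 1)) k,
      F ≠ 0 ∧ MvPolynomial.aeval b F ∈ q := by
    intro q hq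
    haveI : q.IsPrime := hq.1.1
    have hdq : ringKrullDim (B ⧸ q) ≤ (m : WithBot ℕ∞) := (ringKrullDim_quotient_le q).trans hdim
    obtain ⟨F, hF0, hF⟩ := exists_relation_of_dim_le_domain k (B ⧸ q) m hdq
      (fun i => Ideal.Quotient.mk q (b i))
    refine ⟨F, hF0, ?_⟩
    rw [← Ideal.Quotient.eq_zero_iff_mem]
    have h1 : Ideal.Quotient.mk q (MvPolynomial.aeval b F) =
        MvPolynomial.aeval (fun i => Ideal.Quotient.mk q (b i)) F := by
      have := MvPolynomial.comp_aeval_apply (R := k) b (Ideal.Quotient.mkₐ k q) F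
      simpa using this
    rw [h1, hF]
  choose! G hG0 hGq using hex
  set F : MvPolynomial (Fin (m + 1)) k := ∏ q ∈ hfin.toFinset, G q with hF
  have hF0 : F ≠ 0 := by
    rw [hF, Finset.prod_ne_zero_iff]
    intro q hq
    exact hG0 q ((Set.Finite.mem_toFinset hfin).mp hq)
  have hnil : MvPolynomial.aeval b F ∈ nilradical B := by
    rw [nilradical, ← Ideal.sInf_minimalPrimes, Ideal.mem_sInf]
    intro q hq
    have hq' : q ∈ hfin.toFinset := (Set.Finite.mem_toFinset hfin).mpr hq
    rw [hF, map_prod]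
    exact Ideal.mem_of_dvd _ (Finset.dvd_prod_of_mem (fun q => MvPolynomial.aeval b (G q)) hq')
      (hGq q hq)
  obtain ⟨N, hN⟩ := mem_nilradical.mp hnil
  exact ⟨F ^ N, pow_ne_zero N hF0, by rw [map_pow, hN]⟩

end lemmaA


section lemmaB

variable {R S : Type u} [CommRing R] [CommRing S] [Algebra R S] {σ : Type*}

/-- the map induced on the fibre over `p` -/
noncomputable def fibreMap (ψ : MvPolynomial σ R →ₐ[R] S) (p : Ideal R) [p.IsPrime] :
    MvPolynomial σ p.ResidueField →ₐ[p.ResidueField] p.Fiber S :=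
  MvPolynomial.aeval (fun i => (1 : p.ResidueField) ⊗ₜ[R] ψ (X i))

theorem fibreMap_X (ψ : MvPolynomial σ R →ₐ[R] S) (p : Ideal R) [p.IsPrime] (i : σ) :
    fibreMap ψ p (X i) = (1 : p.ResidueField) ⊗ₜ[R] ψ (X i) := by
  simp [fibreMap]

theorem fibreMap_map (ψ : MvPolynomial σ R →ₐ[R] S) (p : Ideal R) [p.IsPrime]
    (F : MvPolynomial σ R) :
    fibreMap ψ p (MvPolynomial.map (algebraMap R p.ResidueField) F) =
      (1 : p.ResidueField) ⊗ₜ[R] ψ F := by
  have h1 : fibreMap ψ p (MvPolynomial.map (algebraMap R p.ResidueField) F) =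
      MvPolynomial.aeval (fun i => (1 : p.ResidueField) ⊗ₜ[R] ψ (X i)) F := by
    rw [fibreMap, aeval_def, eval₂_map, ← IsScalarTower.algebraMap_eq, ← aeval_def]
  rw [h1]
  have h2 := MvPolynomial.comp_aeval_apply (R := R) (fun i => ψ (X i))
    (Algebra.TensorProduct.includeRight : S →ₐ[R] p.ResidueField ⊗[R] S) F
  have h3 : MvPolynomial.aeval (fun i => ψ (X i)) F = ψ F := by
    have : MvPolynomial.aeval (fun i => ψ (X i)) = ψ := by
      apply MvPolynomial.algHom_ext
      intro i
      simp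
    rw [this]
  rw [h3] at h2
  simpa using h2.symm

/-- vanishing on the fibre from a relation modulo a sub-ideal of `p'` -/
theorem fibreMap_map_eq_zero (ψ : MvPolynomial σ R →ₐ[R] S) (p' : Ideal R) [p'.IsPrime]
    (F : MvPolynomial σ R) (c : R) (J : Ideal R) (hc : c ∉ p') (hJ : J ≤ p')
    (hrel : c • ψ F ∈ J.map (algebraMap R S)) :
    fibreMap ψ p' (MvPolynomial.map (algebraMap R p'.ResidueField) F) = 0 := by
  rw [fibreMap_map]
  have hker : J.map (algebraMap R S) ≤ RingHom.ker
      (Algebra.TensorProduct.includeRight : S →ₐ[R] p'.ResidueField ⊗[R] S).toRingHom := by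
    rw [Ideal.map_le_iff_le_comap]
    intro a ha
    rw [Ideal.mem_comap, RingHom.mem_ker]
    show (Algebra.TensorProduct.includeRight : S →ₐ[R] p'.ResidueField ⊗[R] S)
      (algebraMap R S a) = 0
    rw [AlgHom.commutes, Algebra.TensorProduct.algebraMap_apply,
      Ideal.algebraMap_residueField_eq_zero.mpr (hJ ha), zero_tmul]
  have h1 := hker hrel
  rw [RingHom.mem_ker] at h1
  have h2 : (algebraMap R p'.ResidueField c) • ((1 : p'.ResidueField) ⊗ₜ[R] ψ F) = 0 := by
    rw [algebraMap_smul, TensorProduct.smul_tmul', TensorProduct.smul_tmul, ]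
    have : (1 : p'.ResidueField) ⊗ₜ[R] (c • ψ F) =
      (Algebra.TensorProduct.includeRight : S →ₐ[R] p'.ResidueField ⊗[R] S) (c • ψ F) := rfl
    rw [this]
    exact h1
  have hc' : algebraMap R p'.ResidueField c ≠ 0 := by
    rw [Ne, Ideal.algebraMap_residueField_eq_zero]
    exact hc
  exact (smul_eq_zero.mp h2).resolve_left hc'

theorem map_ne_zero_of_coeff_notMem (p' : Ideal R) [p'.IsPrime]
    (F : MvPolynomial σ R) (v : σ →₀ ℕ) (hv : coeff v F ∉ p') :
    MvPolynomial.map (algebraMap R p'.ResidueField) F ≠ 0 := by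
  intro h
  have := congrArg (coeff v) h
  rw [coeff_map, coeff_zero, Ideal.algebraMap_residueField_eq_zero] at this
  exact hv this

end lemmaB


section lemmaB2

variable {R S : Type u} [CommRing R] [CommRing S] [Algebra R S] {σ : Type*}

theorem exists_residue_eq (p : Ideal R) [p.IsPrime] (a : p.ResidueField) :
    ∃ r s : R, s ∉ p ∧ algebraMap R p.ResidueField s * a = algebraMap R p.ResidueField r := by
  obtain ⟨t, rfl⟩ := IsLocalRing.residue_surjective a
  obtain ⟨⟨r, s⟩, rfl⟩ := IsLocalization.mk'_surjective p.primeCompl t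
  refine ⟨r, s.1, s.2, ?_⟩
  rw [IsScalarTower.algebraMap_apply R (Localization.AtPrime p) p.ResidueField,
    IsScalarTower.algebraMap_apply R (Localization.AtPrime p) p.ResidueField,
    IsLocalRing.ResidueField.algebraMap_eq, ← map_mul]
  congr 1
  exact IsLocalization.mk'_spec' _ r s

theorem exists_lift_smul (p : Ideal R) [p.IsPrime] (Fb : MvPolynomial σ p.ResidueField) :
    ∃ (s : R) (F : MvPolynomial σ R), s ∉ p ∧
      MvPolynomial.map (algebraMap R p.ResidueField) F = (algebraMap R p.ResidueField s) • Fb := by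
  induction Fb using MvPolynomial.induction_on with
  | C a =>
    obtain ⟨r, s, hs, h⟩ := exists_residue_eq p a
    refine ⟨s, C r, hs, ?_⟩
    rw [map_C, ← h, smul_eq_C_mul, C_mul]
  | add f g hf hg =>
    obtain ⟨s₁, F₁, hs₁, h₁⟩ := hf
    obtain ⟨s₂, F₂, hs₂, h₂⟩ := hg
    refine ⟨s₁ * s₂, C s₂ * F₁ + C s₁ * F₂, Ideal.IsPrime.mul_notMem ‹_› hs₁ hs₂, ?_⟩
    rw [map_add, map_mul, map_mul, h₁, h₂, map_C, map_C, map_mul, smul_add, smul_eq_C_mul,
      smul_eq_C_mul, smul_eq_C_mul, smul_eq_C_mul, C_mul]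
    ring
  | mul_X f i hf =>
    obtain ⟨s, F, hs, h⟩ := hf
    refine ⟨s, F * X i, hs, ?_⟩
    rw [map_mul, h, map_X, smul_mul_assoc]

/-- the kernel of `S → κ(p) ⊗ S` -/
theorem exists_smul_mem_of_one_tmul_eq_zero (p : Ideal R) [p.IsPrime] (x : S)
    (hx : (1 : p.ResidueField) ⊗ₜ[R] x = 0) :
    ∃ c : R, c ∉ p ∧ c • x ∈ p.map (algebraMap R S) := by
  letI : Algebra S (p.Fiber S) := Algebra.TensorProduct.rightAlgebra
  let e := Ideal.Fiber.algEquivAux₁ (S := S) p
  have h1 : e ((1 : p.ResidueField) ⊗ₜ[R] x) = 0 := by rw [hx, map_zero]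
  have h2 : (1 : p.ResidueField) ⊗ₜ[R] x = algebraMap S (p.Fiber S) x := rfl
  rw [h2, AlgEquiv.commutes] at h1
  rw [IsScalarTower.algebraMap_apply S
    (Localization (Algebra.algebraMapSubmonoid S p.primeCompl)) _,
    Ideal.Quotient.algebraMap_eq, Ideal.Quotient.eq_zero_iff_mem,
    IsLocalization.mem_map_algebraMap_iff (Algebra.algebraMapSubmonoid S p.primeCompl)] at h1
  obtain ⟨⟨⟨a, ha⟩, ⟨m, hm⟩⟩, h⟩ := h1
  obtain ⟨c, hc, rfl⟩ := hm
  simp only at h
  rw [← map_mul] at h
  obtain ⟨⟨m', hm'⟩, h'⟩ := (IsLocalization.eq_iff_exists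
    (Algebra.algebraMapSubmonoid S p.primeCompl) _).mp h
  obtain ⟨c', hc', rfl⟩ := hm'
  simp only at h'
  refine ⟨c' * c, Ideal.IsPrime.mul_notMem ‹_› hc' hc, ?_⟩
  have : (c' * c) • x = algebraMap R S c' * (x * algebraMap R S c) := by
    rw [Algebra.smul_def, map_mul]; ring
  rw [this, h']
  exact Ideal.mul_mem_left _ _ ha

end lemmaB2


end Groth.Agent.Lib.Helper22.RelNN
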