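import Mathlib
import Groth.Agent.Lib.Helper22RelNN3

set_option autoImplicit false
universe u

open MvPolynomial TensorProduct Topology

namespace Groth.Agent.Lib.Helper22.RelNN

section spread

variable {R S : Type u} [CommRing R] [CommRing S] [Algebra R S] {σ : Type*}

theorem exists_spread (ψ : MvPolynomial σ R →ₐ[R] S) (p : Ideal R) [p.IsPrime]
    (Fb : MvPolynomial σ p.ResidueField) (hFb0 : Fb ≠ 0) (hFb : fibreMap ψ p Fb = 0) :
    ∃ (F : MvPolynomial σ R) (v : σ →₀ ℕ) (c : R) (J : Ideal R),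
      coeff v F ∉ p ∧ c ∉ p ∧ J.FG ∧ J ≤ p ∧ c • ψ F ∈ J.map (algebraMap R S) := by
  classical
  obtain ⟨s, F, hs, hF⟩ := exists_lift_smul p Fb
  have hs' : algebraMap R p.ResidueField s ≠ 0 := by
    rw [Ne, Ideal.algebraMap_residueField_eq_zero]; exact hs
  have hne : MvPolynomial.map (algebraMap R p.ResidueField) F ≠ 0 := by
    rw [hF]; exact smul_ne_zero hs' hFb0
  obtain ⟨v, hv⟩ := MvPolynomial.ne_zero_iff.mp hne
  rw [coeff_map, Ne, Ideal.algebraMap_residueField_eq_zero] at hv
  have h0 : fibreMap ψ p (MvPolynomial.map (algebraMap R p.ResidueField) F) = 0 := by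
    rw [hF, map_smul, hFb, smul_zero]
  rw [fibreMap_map] at h0
  obtain ⟨c, hc, hmem⟩ := exists_smul_mem_of_one_tmul_eq_zero p (ψ F) h0
  -- finitely generated sub-ideal
  rw [Ideal.map, Ideal.span] at hmem
  obtain ⟨T, hT, hxT⟩ := Submodule.mem_span_finite_of_mem_span hmem
  obtain ⟨T₀, hT₀, rfl⟩ := Finset.subset_set_image_iff.mp hT
  refine ⟨F, v, c, Ideal.span (T₀ : Set R), hv, hc, ⟨T₀, rfl⟩, Ideal.span_le.mpr hT₀, ?_⟩
  have hle : Submodule.span S ((T₀.image (algebraMap R S) : Finset S) : Set S) ≤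
      (Ideal.span (T₀ : Set R)).map (algebraMap R S) := by
    rw [Submodule.span_le]
    intro y hy
    rw [Finset.coe_image] at hy
    obtain ⟨t, ht, rfl⟩ := hy
    exact Ideal.mem_map_of_mem _ (Ideal.subset_span ht)
  exact hle hxT

end spread

section compactness

theorem exists_finite_cover_constructible {X : Type*} [TopologicalSpace X] [CompactSpace X]
    [QuasiSober X] [PrespectralSpace X] [QuasiSeparatedSpace X] {ι : Type*} (N : ι → Set X)
    (hN : ∀ i, IsOpen[constructibleTopology X] (N i)) (hcov : ∀ x, ∃ i, x ∈ N i) :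
    ∃ t : Finset ι, ∀ x, ∃ i ∈ t, x ∈ N i := by
  let U : ι → Set (WithConstructibleTopology X) := fun i => WithTopology.ofTopology ⁻¹' N i
  have hU : ∀ i, IsOpen (U i) := fun i => by
    rw [WithConstructibleTopology.isOpen_iff]
    exact hN i
  have hcovU : (Set.univ : Set (WithConstructibleTopology X)) ⊆ ⋃ i, U i := by
    intro y _
    obtain ⟨i, hi⟩ := hcov (WithTopology.ofTopology y)
    exact Set.mem_iUnion.mpr ⟨i, hi⟩
  obtain ⟨t, ht⟩ := isCompact_univ.elim_finite_subcover U hU hcovU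
  refine ⟨t, fun x => ?_⟩
  have := ht (Set.mem_univ (WithTopology.toTopology _ x))
  simp only [Set.mem_iUnion] at this
  obtain ⟨i, hi, hx⟩ := this
  exact ⟨i, hi, hx⟩

theorem isOpen_constructible_basicOpen_inter_zeroLocus {R : Type*} [CommRing R] (e : R)
    (J : Ideal R) (hJ : J.FG) :
    IsOpen[constructibleTopology (PrimeSpectrum R)]
      ((PrimeSpectrum.basicOpen e : Set (PrimeSpectrum R)) ∩ PrimeSpectrum.zeroLocus J) := by
  have h1 : IsOpen[constructibleTopology (PrimeSpectrum R)]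
      (PrimeSpectrum.basicOpen e : Set (PrimeSpectrum R)) :=
    IsCompact.isOpen_constructibleTopology_of_isOpen (PrimeSpectrum.isCompact_basicOpen e)
      (PrimeSpectrum.basicOpen e).isOpen
  have h2 : IsOpen[constructibleTopology (PrimeSpectrum R)]
      (PrimeSpectrum.zeroLocus (J : Set R)) := by
    have := (PrimeSpectrum.isCompact_isOpen_iff_ideal (R := R)
      (s := (PrimeSpectrum.zeroLocus (J : Set R))ᶜ)).mpr ⟨J, hJ, rfl⟩
    exact IsCompact.isOpen_constructibleTopology_of_isClosed this.1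
      (PrimeSpectrum.isClosed_zeroLocus _)
  exact @IsOpen.inter _ (constructibleTopology (PrimeSpectrum R)) _ _ h1 h2

end compactness

end Groth.Agent.Lib.Helper22.RelNN
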