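import Mathlib
import Groth.Agent.Lib.Helper22RelNN3

set_option autoImplicit false
universe u

open MvPolynomial TensorProduct Topology

namespace Groth.Agent.Lib.Helper22.RelNN

section lemmaE

variable {R S : Type u} [CommRing R] [CommRing S] [Algebra R S] {σ : Type*}

/-- base change to the fibre preserves quasi-finiteness -/
theorem fibreMap_quasiFinite (ψ : MvPolynomial σ R →ₐ[R] S) (hψ : ψ.toRingHom.QuasiFinite)
    (p : Ideal R) [p.IsPrime] : (fibreMap ψ p).toRingHom.QuasiFinite := by
  letI algPS : Algebra (MvPolynomial σ R) S := ψ.toRingHom.toAlgebra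
  haveI : Algebra.QuasiFinite (MvPolynomial σ R) S := hψ
  letI algSB : Algebra S (p.Fiber S) := Algebra.TensorProduct.rightAlgebra
  haveI : Algebra.QuasiFinite S (p.Fiber S) := by
    haveI : Algebra.QuasiFinite R p.ResidueField := inferInstance
    haveI : Algebra.QuasiFinite S (S ⊗[R] p.ResidueField) := inferInstance
    exact (Algebra.QuasiFinite.iff_of_algEquiv
      (Algebra.TensorProduct.commRight R S p.ResidueField)).mp inferInstance
  letI algPB : Algebra (MvPolynomial σ R) (p.Fiber S) :=
    ((algebraMap S (p.Fiber S)).comp (algebraMap (MvPolynomial σ R) S)).toAlgebra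
  haveI : IsScalarTower (MvPolynomial σ R) S (p.Fiber S) :=
    IsScalarTower.of_algebraMap_eq (fun x => rfl)
  haveI : Algebra.QuasiFinite (MvPolynomial σ R) (p.Fiber S) :=
    Algebra.QuasiFinite.trans (MvPolynomial σ R) S (p.Fiber S)
  letI algPκB : Algebra (MvPolynomial σ p.ResidueField) (p.Fiber S) :=
    (fibreMap ψ p).toRingHom.toAlgebra
  letI algPPκ : Algebra (MvPolynomial σ R) (MvPolynomial σ p.ResidueField) :=
    (MvPolynomial.map (algebraMap R p.ResidueField)).toAlgebra
  haveI : IsScalarTower (MvPolynomial σ R) (MvPolynomial σ p.ResidueField) (p.Fiber S) := by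
    refine IsScalarTower.of_algebraMap_eq (fun x => ?_)
    show (1 : p.ResidueField) ⊗ₜ[R] ψ x =
      fibreMap ψ p (MvPolynomial.map (algebraMap R p.ResidueField) x)
    rw [fibreMap_map]
  exact Algebra.QuasiFinite.of_restrictScalars (MvPolynomial σ R)
    (MvPolynomial σ p.ResidueField) (p.Fiber S)

end lemmaE

section lemmaD

variable {R S : Type u} [CommRing R] [CommRing S] [Algebra R S] {σ : Type*}

/-- ideals of `κ(p)[σ]` are determined by their contraction to `R[σ]` -/
theorem ideal_eq_of_comap_map_eq (p : Ideal R) [p.IsPrime]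
    (I₁ I₂ : Ideal (MvPolynomial σ p.ResidueField))
    (h : I₁.comap (MvPolynomial.map (algebraMap R p.ResidueField)) =
      I₂.comap (MvPolynomial.map (algebraMap R p.ResidueField))) : I₁ = I₂ := by
  have key : ∀ J₁ J₂ : Ideal (MvPolynomial σ p.ResidueField),
      J₁.comap (MvPolynomial.map (algebraMap R p.ResidueField)) ≤
        J₂.comap (MvPolynomial.map (algebraMap R p.ResidueField)) → J₁ ≤ J₂ := by
    intro J₁ J₂ hJ x hx
    obtain ⟨s, F, hs, hF⟩ := exists_lift_smul p x
    have hs' : algebraMap R p.ResidueField s ≠ 0 := by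
      rw [Ne, Ideal.algebraMap_residueField_eq_zero]; exact hs
    have h1 : F ∈ J₁.comap (MvPolynomial.map (algebraMap R p.ResidueField)) := by
      rw [Ideal.mem_comap, hF, smul_eq_C_mul]
      exact Ideal.mul_mem_left _ _ hx
    have h2 := hJ h1
    rw [Ideal.mem_comap, hF, smul_eq_C_mul] at h2
    have hunit : IsUnit (C (algebraMap R p.ResidueField s) : MvPolynomial σ p.ResidueField) :=
      (IsUnit.mk0 _ hs').map C
    exact (Ideal.unit_mul_mem_iff_mem _ hunit).mp h2
  exact le_antisymm (key _ _ h.le) (key _ _ h.ge)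

/-- quasi-finiteness can be checked on the fibres over the base -/
theorem quasiFinite_of_fibreMap [Algebra.FiniteType R S] [Finite σ]
    (ψ : MvPolynomial σ R →ₐ[R] S)
    (h : ∀ (p : Ideal R) [p.IsPrime], (fibreMap ψ p).toRingHom.QuasiFinite) :
    ψ.toRingHom.QuasiFinite := by
  letI algPS : Algebra (MvPolynomial σ R) S := ψ.toRingHom.toAlgebra
  haveI : IsScalarTower R (MvPolynomial σ R) S :=
    IsScalarTower.of_algebraMap_eq (fun c => (ψ.commutes c).symm)
  haveI : Algebra.FiniteType (MvPolynomial σ R) S :=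
    Algebra.FiniteType.of_restrictScalars_finiteType R (MvPolynomial σ R) S
  show Algebra.QuasiFinite (MvPolynomial σ R) S
  rw [Algebra.QuasiFinite.iff_finite_comap_preimage_singleton]
  intro P
  by_cases hne : (PrimeSpectrum.comap (algebraMap (MvPolynomial σ R) S) ⁻¹' {P}).Nonempty
  swap
  · rw [Set.not_nonempty_iff_eq_empty] at hne
    rw [hne]; exact Set.finite_empty
  obtain ⟨q₀, hq₀⟩ := hne
  -- the prime of `R`
  let pp : PrimeSpectrum R := PrimeSpectrum.comap (algebraMap R (MvPolynomial σ R)) P
  let p : Ideal R := pp.asIdeal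
  haveI : p.IsPrime := pp.2
  have hover : ∀ q ∈ PrimeSpectrum.comap (algebraMap (MvPolynomial σ R) S) ⁻¹' {P},
      q ∈ PrimeSpectrum.comap (algebraMap R S) ⁻¹' {pp} := by
    intro q hq
    rw [Set.mem_preimage, Set.mem_singleton_iff] at hq ⊢
    rw [IsScalarTower.algebraMap_eq R (MvPolynomial σ R) S, PrimeSpectrum.comap_comp_apply, hq]
  -- fibre
  have hφ := h p
  letI algB : Algebra (MvPolynomial σ p.ResidueField) (p.Fiber S) :=
    (fibreMap ψ p).toRingHom.toAlgebra
  haveI : Algebra.QuasiFinite (MvPolynomial σ p.ResidueField) (p.Fiber S) := hφ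
  let e := PrimeSpectrum.preimageEquivFiber R S pp
  -- contraction of a prime of the fibre to `κ(p)[σ]` restricts to `P`
  have hcontr : ∀ (q : PrimeSpectrum S) (hq : q ∈ PrimeSpectrum.comap
      (algebraMap (MvPolynomial σ R) S) ⁻¹' {P}),
      (PrimeSpectrum.comap (algebraMap (MvPolynomial σ p.ResidueField) (p.Fiber S))
        (e ⟨q, hover q hq⟩)).asIdeal.comap (MvPolynomial.map (algebraMap R p.ResidueField)) =
        P.asIdeal := by
    intro q hq
    have hq' : q.asIdeal.comap (algebraMap (MvPolynomial σ R) S) = P.asIdeal := by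
      rw [Set.mem_preimage, Set.mem_singleton_iff] at hq
      exact congrArg PrimeSpectrum.asIdeal hq
    have hsymm : (e.symm (e ⟨q, hover q hq⟩)).1 = q := by rw [Equiv.symm_apply_apply]
    have hq2 : (e ⟨q, hover q hq⟩).asIdeal.comap
        (Algebra.TensorProduct.includeRight : S →ₐ[R] p.Fiber S).toRingHom = q.asIdeal :=
      congrArg PrimeSpectrum.asIdeal hsymm
    rw [← hq', ← hq2]
    ext x
    simp only [PrimeSpectrum.comap_asIdeal, Ideal.mem_comap]
    have : algebraMap (MvPolynomial σ p.ResidueField) (p.Fiber S)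
        (MvPolynomial.map (algebraMap R p.ResidueField) x) =
        (Algebra.TensorProduct.includeRight : S →ₐ[R] p.Fiber S).toRingHom
          (algebraMap (MvPolynomial σ R) S x) := by
      show fibreMap ψ p (MvPolynomial.map (algebraMap R p.ResidueField) x) = _
      rw [fibreMap_map]
      rfl
    rw [this]
  let P' : PrimeSpectrum (MvPolynomial σ p.ResidueField) :=
    PrimeSpectrum.comap (algebraMap (MvPolynomial σ p.ResidueField) (p.Fiber S))
      (e ⟨q₀, hover q₀ hq₀⟩)
  have hfin := Algebra.QuasiFinite.finite_comap_preimage_singleton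
    (R := MvPolynomial σ p.ResidueField) (S := p.Fiber S) P'
  refine Set.Finite.subset (hfin.image (fun q' => (e.symm q').1)) ?_
  intro q hq
  refine ⟨e ⟨q, hover q hq⟩, ?_, by simp⟩
  rw [Set.mem_preimage, Set.mem_singleton_iff]
  apply PrimeSpectrum.ext
  exact ideal_eq_of_comap_map_eq p _ _ ((hcontr q hq).trans (hcontr q₀ hq₀).symm)

end lemmaD

end Groth.Agent.Lib.Helper22.RelNN
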