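import Mathlib
import Groth.Prelude.Def_EGA43
import Groth.Prelude.Def_FDesc
import Groth.Prelude.Def_MoreMor
import Groth.Agent.Lib.Helper22SC8
import Groth.Agent.Lib.Helper4DimFormulaAU

set_option autoImplicit false
set_option linter.style.haveILetI false
universe u
open CategoryTheory CategoryTheory.Limits AlgebraicGeometry Topology TopologicalSpace IsLocalRing
open EGA43

namespace Groth.Agent.Lib.Helper22.SC

section Final2

variable {X Y : Scheme.{u}}

theorem isLocallyConstant_dim_sectionComponent_iff [IsLocallyNoetherian Y] (f : X ⟶ Y)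
    [LocallyOfFiniteType f] (g : Y ⟶ X) (hg : g ≫ f = 𝟙 Y)
    (hint : ∀ y : Y, (∀ (K : Type u) [Field K]
        [Algebra (IsLocalRing.ResidueField (Y.presheaf.stalk y)) K],
        IsIrreducible ((FBase.bcπ (f.fiberToSpecResidueField y) K ≫ f.fiberι y).base ⁻¹'
          connectedComponentIn (f.base ⁻¹' {y}) (g.base y)) ∧
        ∀ x' : ↥(FBase.bc (f.fiberToSpecResidueField y) K),
          (FBase.bcπ (f.fiberToSpecResidueField y) K ≫ f.fiberι y).base x' ∈
            connectedComponentIn (f.base ⁻¹' {y}) (g.base y) →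
          _root_.IsReduced ((FBase.bc (f.fiberToSpecResidueField y) K).presheaf.stalk x'))) :
    (IsLocallyConstant (fun y : Y => topologicalKrullDim
        ↥(connectedComponentIn (f.base ⁻¹' {y}) (g.base y))) ↔
      ∀ x ∈ MoreMor.sectionComponents f g, EGA43.IsUnivOpenAt f x) ∧
    (IsLocallyConstant (fun y : Y => topologicalKrullDim
        ↥(connectedComponentIn (f.base ⁻¹' {y}) (g.base y))) →
      IsOpen (MoreMor.sectionComponents f g)) := by
  have hfg : ∀ z, f (g z) = z := fun z => by rw [← Scheme.Hom.comp_apply, hg]; rfl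
  have hirr : ∀ y : Y, (∀ (K : Type u) [Field K]
        [Algebra (IsLocalRing.ResidueField (Y.presheaf.stalk y)) K],
        IsIrreducible ((FBase.bcπ (f.fiberToSpecResidueField y) K ≫ f.fiberι y).base ⁻¹'
          connectedComponentIn (f.base ⁻¹' {y}) (g.base y))) :=
    fun y K _ _ => (hint y K).1
  -- geometric reducedness at the points of `X⁰`
  have hGR : ∀ x ∈ MoreMor.sectionComponents f g, GRAt f x := by
    intro x hx K _ _ x' hx'
    refine (hint (f x) K).2 x' ?_
    show (f.fiberι (f x)) ((FBase.bcπ (f.fiberToSpecResidueField (f x)) K) x') ∈ _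
    have : (FBase.bcπ (f.fiberToSpecResidueField (f x)) K) x' = f.asFiber x := hx'
    rw [this, Scheme.Hom.fiberι_asFiber]
    exact hx
  have hgSC : ∀ y : Y, g y ∈ MoreMor.sectionComponents f g := by
    intro y
    rw [mem_sectionComponents_iff f g (g y) y (hfg y)]
    exact mem_connectedComponentIn (hfg y)
  have hdir1 : IsLocallyConstant (fun y : Y => topologicalKrullDim
        ↥(connectedComponentIn (f.base ⁻¹' {y}) (g.base y))) →
      ∀ x ∈ MoreMor.sectionComponents f g, EGA43.IsUnivOpenAt f x := by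
    intro hlc x hx
    have hx' : x ∈ connectedComponentIn (f.base ⁻¹' {f x}) (g.base (f x)) := hx
    refine Groth.Agent.Lib.Helper4.DimFormula.isUnivOpenAt_of_dim_sectionComponent_const f g hg
      hirr (f x) ?_ x hx'
    refine ⟨_, (hlc.isOpen_fiber (topologicalKrullDim
      ↥(connectedComponentIn (f.base ⁻¹' {f x}) (g.base (f x))))).mem_nhds rfl, fun z hz => hz⟩
  refine ⟨⟨hdir1, ?_⟩, ?_⟩
  · intro hUO
    rw [IsLocallyConstant.iff_exists_open]
    intro y₀
    have hα : FBase.IsGeomReducedAt (f.fiberToSpecResidueField (f.base (g.base y₀)))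
        (f.asFiber (g.base y₀)) := hGR (g y₀) (hgSC y₀)
    obtain ⟨V, hV, hVeq⟩ := dim_sectionComponent_const f g hg hirr y₀
      (fun ξ hξ _ => hUO ξ ((mem_sectionComponents_iff f g ξ y₀
        (connectedComponentIn_subset (f ⁻¹' {y₀}) (g y₀) hξ)).mpr hξ)) (Or.inl hα)
    obtain ⟨U, hUV, hUo, hyU⟩ := mem_nhds_iff.mp hV
    exact ⟨U, hUo, hyU, fun z hz => hVeq z (hUV hz)⟩
  · intro hlc
    have hUO := hdir1 hlc
    rw [← subset_interior_iff_isOpen]
    intro x hx
    have hx' : x ∈ connectedComponentIn (f ⁻¹' {f x}) (g (f x)) := hx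
    refine subset_interior_sectionComponents f g hg (f x) ?_ hx'
    intro x₁ hx₁
    have hx₁SC : x₁ ∈ MoreMor.sectionComponents f g :=
      (mem_sectionComponents_iff f g x₁ (f x)
        (connectedComponentIn_subset (f ⁻¹' {f x}) (g (f x)) hx₁)).mpr hx₁
    exact uGood_of_isUnivOpenAt f x₁ (hUO x₁ hx₁SC) (hGR x₁ hx₁SC)

end Final2

end Groth.Agent.Lib.Helper22.SC
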