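import Mathlib
import Groth.Prelude.Def_EGA43
import Groth.Prelude.Def_FDesc
import Groth.Prelude.Def_MoreMor
import Groth.Agent.Lib.Helper22GRpb
import Groth.Agent.Lib.Helper22LimFlat
import Groth.Agent.Lib.Helper26UnivOpenAt

set_option autoImplicit false
set_option linter.style.haveILetI false
set_option linter.unusedSectionVars false
universe u
open CategoryTheory CategoryTheory.Limits AlgebraicGeometry Topology TopologicalSpace IsLocalRing

namespace Groth.Agent.Lib.Helper22.SC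

open Groth.Agent.Lib.Helper26.FGZ Groth.Agent.Lib.Helper3.LocusPair Groth.Agent.Lib.Helper22.GI

section Core

variable {I : Type u} [SmallCategory I] [IsCofiltered I]
    (D : I ⥤ Scheme.{u}) (c : Limits.Cone D) (hc : Limits.IsLimit c)
    [∀ (i j : I) (f : i ⟶ j), IsAffineHom (D.map f)] [∀ i, CompactSpace (D.obj i)]
    [∀ i, QuasiSeparatedSpace (D.obj i)] {X : Scheme.{u}} (u : X ⟶ c.pt)
    [LocallyOfFinitePresentation u] [QuasiCompact u] [QuasiSeparated u] (σ : c.pt ⟶ X)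
    (hσ : σ ≫ u = 𝟙 c.pt)

include hc hσ in
theorem subset_interior_sectionComponents_of_isLimit [Flat u]
    (hN : ∀ i, IsLocallyNoetherian (D.obj i)) (y : c.pt)
    (H : ∀ x ∈ connectedComponentIn (u ⁻¹' {y}) (σ y), GRAt u x) :
    connectedComponentIn (u ⁻¹' {y}) (σ y) ⊆ interior (MoreMor.sectionComponents u σ) := by
  obtain ⟨j, XJ, fJ, sJ, sY, hsJ, b1, b2, b3, b4, hpb, hcompat⟩ :=
    exists_stage_section_flat D c hc u σ hσ
  have hSC : MoreMor.sectionComponents u σ = sY ⁻¹' MoreMor.sectionComponents fJ sJ :=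
    Groth.Agent.S1324.result fJ sJ hsJ u sY (c.π.app j) hpb σ hσ hcompat
  haveI := hN j
  set y' := c.π.app j y with hy'
  haveI : LocallyOfFiniteType fJ := inferInstance
  haveI : UniversallyOpen fJ := UniversallyOpen.of_flat fJ
  have H' : ∀ x' ∈ connectedComponentIn (fJ ⁻¹' {y'}) (sJ y'), UGood fJ x' := by
    intro x' hx'
    have hfx' : fJ x' = y' := connectedComponentIn_subset (fJ ⁻¹' {y'}) (sJ y') hx'
    obtain ⟨a', ha'y, ha'x⟩ := exists_mem_fibre_of_mem hpb y x' hfx'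
    have h1 : x' ∈ MoreMor.sectionComponents fJ sJ :=
      (mem_sectionComponents_iff fJ sJ x' y' hfx').mpr hx'
    have h2 : a' ∈ MoreMor.sectionComponents u σ := by
      rw [hSC, Set.mem_preimage, ha'x]; exact h1
    have h3 : a' ∈ connectedComponentIn (u ⁻¹' {y}) (σ y) :=
      (mem_sectionComponents_iff u σ a' y ha'y).mp h2
    have h4 : GRAt fJ (sY a') := (gRAt_iff_of_isPullback hpb a').mp (H a' h3)
    rw [ha'x] at h4
    exact uGood_of_isUnivOpenAt fJ x'
      (Groth.Agent.Lib.Helper26.UnivOpenAt.isUnivOpenAt_of_universallyOpen fJ x') h4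
  have hM := subset_interior_sectionComponents fJ sJ hsJ y' H'
  intro x hx
  have hux : u x = y := connectedComponentIn_subset (u ⁻¹' {y}) (σ y) hx
  have h1 : x ∈ MoreMor.sectionComponents u σ := (mem_sectionComponents_iff u σ x y hux).mpr hx
  rw [hSC, Set.mem_preimage] at h1
  have h2 : fJ (sY x) = y' := by
    rw [← Scheme.Hom.comp_apply, hpb.w, Scheme.Hom.comp_apply, hux]
  have h3 : sY x ∈ connectedComponentIn (fJ ⁻¹' {y'}) (sJ y') :=
    (mem_sectionComponents_iff fJ sJ (sY x) y' h2).mp h1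
  have h4 := hM h3
  rw [hSC]
  exact preimage_interior_subset_interior_preimage sY.continuous h4

end Core

section Aff

variable {X Y : Scheme.{u}} (f : X ⟶ Y) (g : Y ⟶ X) (hg : g ≫ f = 𝟙 Y)

include hg in
theorem subset_interior_sectionComponents_of_flat_of_isAffine [IsAffine Y] [Flat f]
    [LocallyOfFinitePresentation f] [QuasiCompact f] [QuasiSeparated f] (y : Y)
    (H : ∀ x ∈ connectedComponentIn (f ⁻¹' {y}) (g y), GRAt f x) :
    connectedComponentIn (f ⁻¹' {y}) (g y) ⊆ interior (MoreMor.sectionComponents f g) := by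
  rw [← sectionComponents_comp_iso f g Y.isoSpec]
  let u : X ⟶ (specCone Γ(Y, ⊤)).pt := f ≫ Y.isoSpec.hom
  let σ : (specCone Γ(Y, ⊤)).pt ⟶ X := Y.isoSpec.inv ≫ g
  have hσ : σ ≫ u = 𝟙 (specCone Γ(Y, ⊤)).pt := by
    show (Y.isoSpec.inv ≫ g) ≫ f ≫ Y.isoSpec.hom = _
    rw [Category.assoc, ← Category.assoc g, hg, Category.id_comp]
    exact Y.isoSpec.inv_hom_id
  haveI : LocallyOfFinitePresentation u := by
    show LocallyOfFinitePresentation (f ≫ Y.isoSpec.hom)
    infer_instance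
  haveI : QuasiCompact u := by
    show QuasiCompact (f ≫ Y.isoSpec.hom)
    infer_instance
  haveI : QuasiSeparated u := by
    show QuasiSeparated (f ≫ Y.isoSpec.hom)
    infer_instance
  haveI : Flat u := by
    show Flat (f ≫ Y.isoSpec.hom)
    infer_instance
  have hN : ∀ i, IsLocallyNoetherian ((specDiagram Γ(Y, ⊤)).obj i) := by
    intro j
    haveI : IsNoetherianRing ↑(CommRingCat.of ↥(j.unop.1)) := noeth_fgSub Γ(Y, ⊤) j.unop
    haveI : IsNoetherian ((specDiagram Γ(Y, ⊤)).obj j) := by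
      show IsNoetherian (Spec (CommRingCat.of ↥(j.unop.1)))
      infer_instance
    infer_instance
  set y₁ : ↥(specCone Γ(Y, ⊤)).pt := Y.isoSpec.hom y with hy₁
  have hinj : Function.Injective ⇑Y.isoSpec.hom := Y.isoSpec.hom.homeomorph.injective
  have hfib : u ⁻¹' {y₁} = f ⁻¹' {y} := by
    ext z
    simp only [Set.mem_preimage, Set.mem_singleton_iff]
    show (f ≫ Y.isoSpec.hom) z = Y.isoSpec.hom y ↔ _
    rw [Scheme.Hom.comp_apply]
    exact hinj.eq_iff
  have hσy : σ y₁ = g y := by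
    show (Y.isoSpec.inv ≫ g) (Y.isoSpec.hom y) = g y
    rw [Scheme.Hom.comp_apply, ← Scheme.Hom.comp_apply Y.isoSpec.hom Y.isoSpec.inv,
      Y.isoSpec.hom_inv_id]
    rfl
  let ei : (specCone Γ(Y, ⊤)).pt ⟶ Y := Y.isoSpec.inv
  haveI : IsIso ei := Iso.isIso_inv Y.isoSpec
  have hpbI : IsPullback (𝟙 X) u f ei := by
    haveI : IsIso (𝟙 X) := IsIso.id _
    refine IsPullback.of_horiz_isIso ⟨?_⟩
    show 𝟙 X ≫ f = (f ≫ Y.isoSpec.hom) ≫ Y.isoSpec.inv
    rw [Category.id_comp, Category.assoc, Iso.hom_inv_id, Category.comp_id]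
  have H₁ : ∀ x ∈ connectedComponentIn (u ⁻¹' {y₁}) (σ y₁), GRAt u x := by
    intro x hx
    rw [hfib, hσy] at hx
    exact (gRAt_iff_of_isPullback hpbI x).mpr (H x hx)
  have := subset_interior_sectionComponents_of_isLimit
    (specDiagram Γ(Y, ⊤)) (specCone Γ(Y, ⊤)) (specIsLimit Γ(Y, ⊤)) u σ hσ hN y₁ H₁
  rw [hfib, hσy] at this
  exact this

include hg in
/-- **Section components of a flat morphism of finite presentation**: `X⁰` is a neighbourhood of
`X⁰_y` when the fibre `X_y` is geometrically reduced at the points of `X⁰_y`. -/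
theorem subset_interior_sectionComponents_of_flat [Flat f]
    [LocallyOfFinitePresentation f] [QuasiCompact f] [QuasiSeparated f] (y : Y)
    (H : ∀ x ∈ connectedComponentIn (f ⁻¹' {y}) (g y), GRAt f x) :
    connectedComponentIn (f ⁻¹' {y}) (g y) ⊆ interior (MoreMor.sectionComponents f g) := by
  have hfg : ∀ z, f (g z) = z := fun z => by rw [← Scheme.Hom.comp_apply, hg]; rfl
  obtain ⟨V, hV, hyV⟩ : ∃ V : Y.Opens, IsAffineOpen V ∧ y ∈ V := by
    obtain ⟨_, ⟨V, hV, rfl⟩, hyV, -⟩ := Y.isBasis_affineOpens.exists_subset_of_mem_open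
      (Set.mem_univ y) isOpen_univ
    exact ⟨V, hV, hyV⟩
  have hpb : IsPullback (f ⁻¹ᵁ V).ι (f ∣_ V) f V.ι := (isPullback_morphismRestrict f V).flip
  let s' : (V : Scheme.{u}) ⟶ (f ⁻¹ᵁ V : Scheme.{u}) :=
    hpb.lift (V.ι ≫ g) (𝟙 _) (by rw [Category.assoc, hg, Category.comp_id, Category.id_comp])
  have hs' : s' ≫ (f ∣_ V) = 𝟙 _ := hpb.lift_snd _ _ _
  have hs'g : s' ≫ (f ⁻¹ᵁ V).ι = V.ι ≫ g := hpb.lift_fst _ _ _
  have hSC := Groth.Agent.S1324.result f g hg (f ∣_ V) (f ⁻¹ᵁ V).ι V.ι hpb s' hs' hs'g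
  haveI : IsAffine (V : Scheme.{u}) := hV
  let y₃ : ↥(V : Scheme.{u}) := ⟨y, hyV⟩
  have hy₃ : V.ι y₃ = y := rfl
  have hVinj : Function.Injective V.ι := V.ι.isOpenEmbedding.injective
  have hfres : ∀ a : ↥(f ⁻¹ᵁ V : Scheme.{u}), V.ι ((f ∣_ V) a) = f ((f ⁻¹ᵁ V).ι a) := fun a => by
    rw [← Scheme.Hom.comp_apply, ← Scheme.Hom.comp_apply, hpb.w]
  have hs'p : (f ⁻¹ᵁ V).ι (s' y₃) = g y := by
    rw [← Scheme.Hom.comp_apply, hs'g, Scheme.Hom.comp_apply, hy₃]
  -- membership in the component, upstairs and downstairs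
  have hmem : ∀ a : ↥(f ⁻¹ᵁ V : Scheme.{u}),
      a ∈ connectedComponentIn ((f ∣_ V) ⁻¹' {y₃}) (s' y₃) ↔
      (f ⁻¹ᵁ V).ι a ∈ connectedComponentIn (f ⁻¹' {y}) (g y) := by
    intro a
    by_cases ha : (f ∣_ V) a = y₃
    · rw [← mem_sectionComponents_iff (f ∣_ V) s' a y₃ ha, hSC, Set.mem_preimage,
        mem_sectionComponents_iff f g _ y (by rw [← hfres, ha, hy₃])]
    · constructor
      · intro h
        exact absurd (connectedComponentIn_subset ((f ∣_ V) ⁻¹' {y₃}) (s' y₃) h) ha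
      · intro h
        exfalso
        apply ha
        apply hVinj
        rw [hfres, hy₃]
        exact connectedComponentIn_subset (f ⁻¹' {y}) (g y) h
  have H₃ : ∀ a ∈ connectedComponentIn ((f ∣_ V) ⁻¹' {y₃}) (s' y₃), GRAt (f ∣_ V) a := by
    intro a ha
    exact (gRAt_iff_of_isPullback hpb a).mpr (H _ ((hmem a).mp ha))
  have hM := subset_interior_sectionComponents_of_flat_of_isAffine (f ∣_ V) s' hs' y₃ H₃
  intro x hx
  have hfx : f x = y := connectedComponentIn_subset (f ⁻¹' {y}) (g y) hx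
  have hxV : x ∈ f ⁻¹ᵁ V := by
    show f x ∈ V
    rw [hfx]; exact hyV
  let x₃ : ↥(f ⁻¹ᵁ V : Scheme.{u}) := ⟨x, hxV⟩
  have hx₃ : (f ⁻¹ᵁ V).ι x₃ = x := rfl
  have hx₃C : x₃ ∈ connectedComponentIn ((f ∣_ V) ⁻¹' {y₃}) (s' y₃) := (hmem x₃).mpr hx
  have hint := hM hx₃C
  rw [mem_interior]
  refine ⟨(f ⁻¹ᵁ V).ι '' interior (MoreMor.sectionComponents (f ∣_ V) s'), ?_,
    (f ⁻¹ᵁ V).ι.isOpenEmbedding.isOpenMap _ isOpen_interior, ⟨x₃, hint, rfl⟩⟩
  rintro _ ⟨a, ha, rfl⟩
  have ha' : a ∈ MoreMor.sectionComponents (f ∣_ V) s' := interior_subset ha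
  rw [hSC] at ha'
  exact ha'

end Aff

end Groth.Agent.Lib.Helper22.SC
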