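import Mathlib
import Groth.Prelude.Def_EGA43
import Groth.Prelude.Def_FDesc
import Groth.Prelude.Def_MoreMor
import Groth.Agent.Lib.Helper22SCFlat

set_option autoImplicit false
set_option linter.style.haveILetI false
set_option linter.unusedSectionVars false
universe u
open CategoryTheory CategoryTheory.Limits AlgebraicGeometry Topology TopologicalSpace IsLocalRing

namespace Groth.Agent.Lib.Helper22.SC

section Smooth

variable {X Y : Scheme.{u}}

/-- the fibres of a smooth morphism are geometrically reduced at every point -/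
theorem gRAt_of_smooth (f : X ⟶ Y) [Smooth f] (x : X) : GRAt f x := by
  intro K _ _ x' _
  haveI : Smooth (f.fiberToSpecResidueField (f x)) := by
    show Smooth (pullback.snd f (Y.fromSpecResidueField (f x)))
    infer_instance
  haveI hs : Smooth (FBase.bcStr (f.fiberToSpecResidueField (f x)) K) := by
    show Smooth (pullback.snd (f.fiberToSpecResidueField (f x))
      (Spec.map (CommRingCat.ofHom (algebraMap _ K))))
    infer_instance
  refine Groth.Agent.Lib.Helper12.GeomRed.isReduced_stalk_of_smooth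
    (FBase.bcStr (f.fiberToSpecResidueField (f x)) K) x' ?_
  infer_instance

/-- compact opens inside a given open, through a point, capture connected components -/
theorem exists_compact_opens_le_mem_connectedComponentIn {X : Scheme.{u}}
    (F : Set X) [LocallyConnectedSpace ↥F] (O : X.Opens) (hFO : F ⊆ O) (p : X) (hp : p ∈ F)
    (x : X) (hx : x ∈ connectedComponentIn F p) :
    ∃ W : X.Opens, W ≤ O ∧ IsCompact (W : Set X) ∧ p ∈ W ∧
      x ∈ connectedComponentIn ((W : Set X) ∩ F) p := by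
  have haff : ∀ z : X, z ∈ O → ∃ U : X.Opens, IsAffineOpen U ∧ z ∈ U ∧ U ≤ O := by
    intro z hz
    obtain ⟨_, ⟨U, hU, rfl⟩, hzU, hUO⟩ := X.isBasis_affineOpens.exists_subset_of_mem_open
      hz O.2
    exact ⟨U, hU, hzU, hUO⟩
  let I := {W : X.Opens // W ≤ O ∧ IsCompact (W : Set X) ∧ p ∈ W}
  let 𝒲 : I → Set ↥F := fun W => Subtype.val ⁻¹' (W.1 : Set X)
  have h1 := connectedComponent_subset_iUnion_of_directed (⟨p, hp⟩ : ↥F) 𝒲
    (fun W => W.1.2.preimage continuous_subtype_val) (fun W => W.2.2.2)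
    (fun W₁ W₂ => ⟨⟨W₁.1 ⊔ W₂.1, sup_le W₁.2.1 W₂.2.1, W₁.2.2.1.union W₂.2.2.1,
      Or.inl W₁.2.2.2⟩, by
      rintro z (hz | hz)
      · exact Or.inl hz
      · exact Or.inr hz⟩)
    (fun z => by
      obtain ⟨U₁, hU₁, hz₁, hU₁O⟩ := haff z.1 (hFO z.2)
      obtain ⟨U₂, hU₂, hp₂, hU₂O⟩ := haff p (hFO hp)
      exact ⟨⟨U₁ ⊔ U₂, sup_le hU₁O hU₂O, hU₁.isCompact.union hU₂.isCompact, Or.inr hp₂⟩,
        Or.inl hz₁⟩)
  rw [connectedComponentIn_eq_image hp] at hx
  obtain ⟨x₀, hx₀, rfl⟩ := hx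
  obtain ⟨W, hW⟩ := Set.mem_iUnion.mp (h1 hx₀)
  refine ⟨W.1, W.2.1, W.2.2.1, W.2.2.2, ?_⟩
  have hpre : _root_.IsPreconnected (Subtype.val '' connectedComponentIn (𝒲 W) (⟨p, hp⟩ : ↥F)) :=
    isPreconnected_connectedComponentIn.image _ continuous_subtype_val.continuousOn
  have hsub : Subtype.val '' connectedComponentIn (𝒲 W) (⟨p, hp⟩ : ↥F) ⊆ (W.1 : Set X) ∩ F := by
    rintro _ ⟨a, ha, rfl⟩
    exact ⟨connectedComponentIn_subset (𝒲 W) _ ha, a.2⟩
  have hpm : p ∈ Subtype.val '' connectedComponentIn (𝒲 W) (⟨p, hp⟩ : ↥F) :=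
    ⟨⟨p, hp⟩, mem_connectedComponentIn W.2.2.2, rfl⟩
  exact hpre.subset_connectedComponentIn hpm hsub ⟨x₀, hW, rfl⟩

/-- a compact subset of an open of a scheme is contained in a compact open inside it -/
theorem exists_compact_opens_between {X : Scheme.{u}} (K : Set X) (hK : IsCompact K)
    (O : X.Opens) (hKO : K ⊆ O) :
    ∃ W : X.Opens, W ≤ O ∧ IsCompact (W : Set X) ∧ K ⊆ W := by
  have haff : ∀ z : X, z ∈ O → ∃ U : X.Opens, IsAffineOpen U ∧ z ∈ U ∧ U ≤ O := by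
    intro z hz
    obtain ⟨_, ⟨U, hU, rfl⟩, hzU, hUO⟩ := X.isBasis_affineOpens.exists_subset_of_mem_open
      hz O.2
    exact ⟨U, hU, hzU, hUO⟩
  classical
  let U : X → X.Opens := fun z => if hz : z ∈ O then (haff z hz).choose else ⊥
  have hU1 : ∀ z (hz : z ∈ O), IsAffineOpen (U z) ∧ z ∈ U z ∧ U z ≤ O := by
    intro z hz
    simp only [U, dif_pos hz]
    exact (haff z hz).choose_spec
  obtain ⟨t, -, htK⟩ := hK.elim_nhds_subcover (fun z => (U z : Set X))
    (fun z hz => (U z).2.mem_nhds (hU1 z (hKO hz)).2.1)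
  refine ⟨⨆ z ∈ t, U z, ?_, ?_, ?_⟩
  · refine iSup₂_le fun z _ => ?_
    by_cases hz : z ∈ O
    · exact (hU1 z hz).2.2
    · simp only [U, dif_neg hz]; exact bot_le
  · have : ((⨆ z ∈ t, U z : X.Opens) : Set X) = ⋃ z ∈ t, (U z : Set X) := by
      simp only [Opens.coe_iSup]
    rw [this]
    refine t.isCompact_biUnion fun z _ => ?_
    by_cases hz : z ∈ O
    · exact (hU1 z hz).1.isCompact
    · simp only [U, dif_neg hz]
      show IsCompact ((⊥ : X.Opens) : Set X)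
      rw [Opens.coe_bot]; exact isCompact_empty
  · intro k hk
    have := htK hk
    simp only [Opens.coe_iSup]
    exact this

end Smooth

section SmoothMain

variable {X S : Scheme.{u}}

/-- **EGA IV 15.6.5 for smooth morphisms**: `X⁰` is open. -/
theorem isOpen_sectionComponents_of_smooth [QuasiSeparatedSpace ↥X] (f : X ⟶ S) [Smooth f]
    (e : S ⟶ X) (he : e ≫ f = 𝟙 S) : IsOpen (MoreMor.sectionComponents f e) := by
  rw [← subset_interior_iff_isOpen]
  intro x hxSC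
  have hfg : ∀ z, f (e z) = z := fun z => by rw [← Scheme.Hom.comp_apply, he]; rfl
  set s := f x with hs
  have hx : x ∈ connectedComponentIn (f ⁻¹' {s}) (e s) := hxSC
  set F : Set X := f ⁻¹' {s} with hF
  have hpF : e s ∈ F := hfg s
  -- the fibre is locally connected
  haveI : LocallyConnectedSpace ↥F := by
    haveI : IsLocallyNoetherian (f.fiber s) :=
      LocallyOfFiniteType.isLocallyNoetherian (f.fiberToSpecResidueField s)
    haveI : LocallyConnectedSpace ↥(f.fiber s) := by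
      apply Groth.Agent.Lib.Helper14.locallyConnectedSpace_of_locally_noetherian
      intro z
      obtain ⟨_, ⟨U₀, hU₀, rfl⟩, hzU₀, -⟩ :=
        (f.fiber s).isBasis_affineOpens.exists_subset_of_mem_open (Set.mem_univ z) isOpen_univ
      replace hU₀ : IsAffineOpen U₀ := hU₀
      haveI : IsNoetherianRing Γ(f.fiber s, U₀) :=
        IsLocallyNoetherian.component_noetherian ⟨U₀, hU₀⟩
      haveI : NoetherianSpace {a // a ∈ (U₀ : Set ↥(f.fiber s))} :=
        noetherianSpace_of_isAffineOpen U₀ hU₀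
      exact ⟨(U₀ : Set ↥(f.fiber s)), U₀.2.mem_nhds hzU₀, inferInstance⟩
    exact (f.fiberHomeo s).symm.isOpenEmbedding.locallyConnectedSpace
  obtain ⟨V₀, hV₀, hsV₀⟩ : ∃ V : S.Opens, IsAffineOpen V ∧ s ∈ V := by
    obtain ⟨_, ⟨V, hV, rfl⟩, hyV, -⟩ := S.isBasis_affineOpens.exists_subset_of_mem_open
      (Set.mem_univ s) isOpen_univ
    exact ⟨V, hV, hyV⟩
  let O : X.Opens := f ⁻¹ᵁ V₀
  have hFO : F ⊆ O := fun z hz => by
    show f z ∈ V₀
    rw [show f z = s from hz]; exact hsV₀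
  obtain ⟨W₁, hW₁O, hW₁c, hpW₁, hxW₁⟩ :=
    exists_compact_opens_le_mem_connectedComponentIn F O hFO (e s) hpF x hx
  have hK : IsCompact (e '' (V₀ : Set S)) := hV₀.isCompact.image e.continuous
  have hKO : e '' (V₀ : Set S) ⊆ O := by
    rintro _ ⟨z, hz, rfl⟩
    show f (e z) ∈ V₀
    rw [hfg]; exact hz
  obtain ⟨W₂, hW₂O, hW₂c, hKW₂⟩ := exists_compact_opens_between _ hK O hKO
  let W : X.Opens := W₁ ⊔ W₂
  have hWO : W ≤ f ⁻¹ᵁ V₀ := sup_le hW₁O hW₂O
  have hWc : IsCompact (W : Set X) := hW₁c.union hW₂c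
  have e' : V₀ ≤ e ⁻¹ᵁ W := fun z hz => Or.inr (hKW₂ ⟨z, hz, rfl⟩)
  have hpW : e s ∈ W := Or.inl hpW₁
  have hxW : x ∈ connectedComponentIn ((W : Set X) ∩ F) (e s) :=
    connectedComponentIn_mono _ (Set.inter_subset_inter_left _ (fun a ha => Or.inl ha)) hxW₁
  let f₃ := f.resLE V₀ W hWO
  let g₃ := e.resLE W V₀ e'
  have hg₃ : g₃ ≫ f₃ = 𝟙 _ := by
    rw [← cancel_mono V₀.ι, Category.assoc, Scheme.Hom.resLE_comp_ι, ← Category.assoc,
      Scheme.Hom.resLE_comp_ι, Category.assoc, he, Category.comp_id, Category.id_comp]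
  haveI : CompactSpace ↥(W : Scheme.{u}) := isCompact_iff_compactSpace.mp hWc
  haveI : QuasiSeparatedSpace ↥(W : Scheme.{u}) := W.ι.isOpenEmbedding.quasiSeparatedSpace
  haveI : IsAffine (V₀ : Scheme.{u}) := hV₀
  haveI : QuasiCompact f₃ := inferInstance
  haveI : QuasiSeparated f₃ := inferInstance
  haveI : Smooth f₃ := inferInstance
  have hf₃ : ∀ z : ↥(W : Scheme.{u}), V₀.ι (f₃ z) = f (W.ι z) := fun z => by
    rw [← Scheme.Hom.comp_apply, ← Scheme.Hom.comp_apply, Scheme.Hom.resLE_comp_ι]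
  have hg₃p : ∀ z : ↥(V₀ : Scheme.{u}), W.ι (g₃ z) = e (V₀.ι z) := fun z => by
    rw [← Scheme.Hom.comp_apply, ← Scheme.Hom.comp_apply, Scheme.Hom.resLE_comp_ι]
  have hVinj : Function.Injective V₀.ι := V₀.ι.isOpenEmbedding.injective
  let s₃ : ↥(V₀ : Scheme.{u}) := ⟨s, hsV₀⟩
  have hs₃ : V₀.ι s₃ = s := rfl
  have hxWF : x ∈ (W : Set X) ∩ F := connectedComponentIn_subset ((W : Set X) ∩ F) (e s) hxW
  let x₃ : ↥(W : Scheme.{u}) := ⟨x, hxWF.1⟩
  have hx₃ : W.ι x₃ = x := rfl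
  have hfib : ∀ a : ↥(W : Scheme.{u}), f₃ a = s₃ ↔ f (W.ι a) = s := by
    intro a
    rw [← hVinj.eq_iff, hf₃, hs₃]
  have hM := subset_interior_sectionComponents_of_flat f₃ g₃ hg₃ s₃
    (fun a _ => gRAt_of_smooth f₃ a)
  have hx₃C : x₃ ∈ connectedComponentIn (f₃ ⁻¹' {s₃}) (g₃ s₃) := by
    set K : Set X := connectedComponentIn ((W : Set X) ∩ F) (e s) with hK
    have hKsub : K ⊆ (W : Set X) ∩ F := connectedComponentIn_subset _ _
    have hKr : K ⊆ Set.range W.ι := by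
      intro a ha
      rw [Scheme.Opens.range_ι]
      exact (hKsub ha).1
    have hpre' : _root_.IsPreconnected (W.ι ⁻¹' K) :=
      (isPreconnected_connectedComponentIn).preimage_of_isOpenMap
        W.ι.isOpenEmbedding.injective W.ι.isOpenEmbedding.isOpenMap hKr
    have hsub' : W.ι ⁻¹' K ⊆ f₃ ⁻¹' {s₃} := by
      intro a ha
      exact (hfib a).mpr (hKsub ha).2
    have hmem' : g₃ s₃ ∈ W.ι ⁻¹' K := by
      show W.ι (g₃ s₃) ∈ K
      rw [hg₃p, hs₃]
      exact mem_connectedComponentIn ⟨hpW, hpF⟩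
    exact hpre'.subset_connectedComponentIn hmem' hsub' (show W.ι x₃ ∈ K from hxW)
  have hx₃int := hM hx₃C
  rw [mem_interior]
  refine ⟨W.ι '' interior (MoreMor.sectionComponents f₃ g₃), ?_,
    W.ι.isOpenEmbedding.isOpenMap _ isOpen_interior, ⟨x₃, hx₃int, rfl⟩⟩
  rintro _ ⟨a, ha, rfl⟩
  have ha'' : a ∈ MoreMor.sectionComponents f₃ g₃ := interior_subset ha
  have ha' : a ∈ connectedComponentIn (f₃ ⁻¹' {f₃ a}) (g₃ (f₃ a)) := ha''
  show W.ι a ∈ connectedComponentIn (f ⁻¹' {f (W.ι a)}) (e (f (W.ι a)))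
  have hpre := (isPreconnected_connectedComponentIn (F := f₃ ⁻¹' {f₃ a}) (x := g₃ (f₃ a))).image
    W.ι W.ι.continuous.continuousOn
  have hsub : W.ι '' connectedComponentIn (f₃ ⁻¹' {f₃ a}) (g₃ (f₃ a)) ⊆
      f ⁻¹' {f (W.ι a)} := by
    rintro _ ⟨b, hb, rfl⟩
    have hb' : f₃ b = f₃ a := connectedComponentIn_subset (f₃ ⁻¹' {f₃ a}) (g₃ (f₃ a)) hb
    show f (W.ι b) = f (W.ι a)
    rw [← hf₃, ← hf₃, hb']
  have hmem : e (f (W.ι a)) ∈ W.ι '' connectedComponentIn (f₃ ⁻¹' {f₃ a}) (g₃ (f₃ a)) := by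
    refine ⟨g₃ (f₃ a), mem_connectedComponentIn ?_, ?_⟩
    · show f₃ (g₃ (f₃ a)) = f₃ a
      rw [← Scheme.Hom.comp_apply, hg₃]; rfl
    · rw [hg₃p, hf₃]
  exact hpre.subset_connectedComponentIn hmem hsub ⟨a, ha', rfl⟩

end SmoothMain

end Groth.Agent.Lib.Helper22.SC
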