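import Mathlib.LinearAlgebra.Matrix.SpecialLinearGroup
import Mathlib.LinearAlgebra.Matrix.NonsingularInverse
import Mathlib.RingTheory.RootsOfUnity.PrimitiveRoots
import Mathlib.GroupTheory.OrderOfElement
import Mathlib.Tactic.FieldSimp
import Mathlib.Tactic.Ring
import Mathlib.Tactic.FinCases
import Mathlib.Tactic.LinearCombination

/-!
# Helper22: the companion matrix `[[0,-1],[1,ξ+ξ⁻¹]]` and its order
-/

set_option autoImplicit false

namespace Groth.Agent.Lib.Helper22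

open Matrix

section OverL

variable {L : Type*} [Field L]

theorem comp_mul_P (ξ : L) (hξ0 : ξ ≠ 0) :
    (!![0, -1; 1, ξ + ξ⁻¹] : Matrix (Fin 2) (Fin 2) L) * !![1, 1; -ξ, -ξ⁻¹]
      = !![1, 1; -ξ, -ξ⁻¹] * Matrix.diagonal ![ξ, ξ⁻¹] := by
  ext i j
  fin_cases i <;> fin_cases j <;>
    simp [Matrix.mul_apply, Fin.sum_univ_two, Matrix.diagonal] <;> field_simp <;> ring

theorem comp_pow_mul_P (ξ : L) (hξ0 : ξ ≠ 0) (m : ℕ) :
    (!![0, -1; 1, ξ + ξ⁻¹] : Matrix (Fin 2) (Fin 2) L) ^ m * !![1, 1; -ξ, -ξ⁻¹]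
      = !![1, 1; -ξ, -ξ⁻¹] * Matrix.diagonal ![ξ ^ m, ξ⁻¹ ^ m] := by
  induction m with
  | zero =>
    have : (Matrix.diagonal ![ξ ^ 0, ξ⁻¹ ^ 0] : Matrix (Fin 2) (Fin 2) L) = 1 := by
      ext i j; fin_cases i <;> fin_cases j <;> simp [Matrix.diagonal]
    rw [pow_zero, one_mul, this, mul_one]
  | succ m ih =>
    have hd : (Matrix.diagonal ![ξ ^ (m + 1), ξ⁻¹ ^ (m + 1)] : Matrix (Fin 2) (Fin 2) L)
        = Matrix.diagonal ![ξ ^ m, ξ⁻¹ ^ m] * Matrix.diagonal ![ξ, ξ⁻¹] := by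
      rw [Matrix.diagonal_mul_diagonal]
      congr 1
      ext i; fin_cases i <;> simp [pow_succ]
    rw [pow_succ, Matrix.mul_assoc, comp_mul_P ξ hξ0, ← Matrix.mul_assoc, ih, Matrix.mul_assoc, hd]

theorem comp_pow_eq_one_iff (ξ : L) (hξ0 : ξ ≠ 0) (hξ2 : ξ ^ 2 ≠ 1) (m : ℕ) :
    (!![0, -1; 1, ξ + ξ⁻¹] : Matrix (Fin 2) (Fin 2) L) ^ m = 1 ↔ ξ ^ m = 1 := by
  have key := comp_pow_mul_P ξ hξ0 m
  constructor
  · intro h
    rw [h, one_mul] at key
    have := congrFun (congrFun key 0) 0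
    simp [Matrix.mul_apply, Fin.sum_univ_two, Matrix.diagonal] at this
    exact this.symm
  · intro h
    have h' : ξ⁻¹ ^ m = 1 := by rw [inv_pow, h, inv_one]
    have hd : (Matrix.diagonal ![ξ ^ m, ξ⁻¹ ^ m] : Matrix (Fin 2) (Fin 2) L) = 1 := by
      rw [h, h']
      ext i j; fin_cases i <;> fin_cases j <;> simp [Matrix.diagonal]
    rw [hd, mul_one] at key
    have hdet : IsUnit (!![1, 1; -ξ, -ξ⁻¹] : Matrix (Fin 2) (Fin 2) L).det := by
      rw [Matrix.det_fin_two_of, isUnit_iff_ne_zero]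
      intro h0
      apply hξ2
      have : ξ * (1 * -ξ⁻¹ - 1 * -ξ) = 0 := by rw [h0, mul_zero]
      have h1 : ξ * (1 * -ξ⁻¹ - 1 * -ξ) = ξ ^ 2 - 1 := by field_simp; ring
      rw [h1] at this
      exact sub_eq_zero.mp this
    calc (!![0, -1; 1, ξ + ξ⁻¹] : Matrix (Fin 2) (Fin 2) L) ^ m
        = !![0, -1; 1, ξ + ξ⁻¹] ^ m * (!![1, 1; -ξ, -ξ⁻¹] * (!![1, 1; -ξ, -ξ⁻¹])⁻¹) := by
          rw [Matrix.mul_nonsing_inv _ hdet, mul_one]
      _ = 1 := by rw [← Matrix.mul_assoc, key, Matrix.mul_nonsing_inv _ hdet]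

theorem comp_pow_eq_smul (ξ : L) (hξ0 : ξ ≠ 0) (hξ2 : ξ ^ 2 ≠ 1) (m : ℕ) (s : L)
    (h1 : ξ ^ m = s) (h2 : ξ⁻¹ ^ m = s) :
    (!![0, -1; 1, ξ + ξ⁻¹] : Matrix (Fin 2) (Fin 2) L) ^ m = s • (1 : Matrix (Fin 2) (Fin 2) L) := by
  have key := comp_pow_mul_P ξ hξ0 m
  have hd : (Matrix.diagonal ![ξ ^ m, ξ⁻¹ ^ m] : Matrix (Fin 2) (Fin 2) L)
      = s • (1 : Matrix (Fin 2) (Fin 2) L) := by
    rw [h1, h2]
    ext i j; fin_cases i <;> fin_cases j <;> simp [Matrix.diagonal]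
  rw [hd, Matrix.mul_smul, mul_one] at key
  have hdet : IsUnit (!![1, 1; -ξ, -ξ⁻¹] : Matrix (Fin 2) (Fin 2) L).det := by
    rw [Matrix.det_fin_two_of, isUnit_iff_ne_zero]
    intro h0
    apply hξ2
    have : ξ * (1 * -ξ⁻¹ - 1 * -ξ) = 0 := by rw [h0, mul_zero]
    have h1 : ξ * (1 * -ξ⁻¹ - 1 * -ξ) = ξ ^ 2 - 1 := by field_simp; ring
    rw [h1] at this
    exact sub_eq_zero.mp this
  calc (!![0, -1; 1, ξ + ξ⁻¹] : Matrix (Fin 2) (Fin 2) L) ^ m
      = !![0, -1; 1, ξ + ξ⁻¹] ^ m * (!![1, 1; -ξ, -ξ⁻¹] * (!![1, 1; -ξ, -ξ⁻¹])⁻¹) := by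
        rw [Matrix.mul_nonsing_inv _ hdet, mul_one]
    _ = s • (1 : Matrix (Fin 2) (Fin 2) L) := by
        rw [← Matrix.mul_assoc, key, Matrix.smul_mul, Matrix.mul_nonsing_inv _ hdet]

end OverL

section OverK

variable {K : Type*} {L : Type*} [Field K] [Field L] [Algebra K L]

/-- the companion matrix of `X² - 2cX + 1` as an element of `SL(2,K)`. -/
def compSL (c : K) : Matrix.SpecialLinearGroup (Fin 2) K :=
  ⟨!![0, -1; 1, 2 * c], by simp [Matrix.det_fin_two_of]⟩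

theorem compSL_map (c : K) (ξ : L) (hc : algebraMap K L (2 * c) = ξ + ξ⁻¹) :
    (compSL c).1.map (algebraMap K L) = !![0, -1; 1, ξ + ξ⁻¹] := by
  ext i j
  fin_cases i <;> fin_cases j <;> simp [compSL, ← hc]

theorem compSL_pow_eq_one_iff (c : K) (ξ : L) (hc : algebraMap K L (2 * c) = ξ + ξ⁻¹)
    (hξ0 : ξ ≠ 0) (hξ2 : ξ ^ 2 ≠ 1) (m : ℕ) :
    (compSL c) ^ m = 1 ↔ ξ ^ m = 1 := by
  rw [← comp_pow_eq_one_iff ξ hξ0 hξ2 m, ← compSL_map c ξ hc]
  have hinj : Function.Injective ((algebraMap K L).mapMatrix (m := Fin 2)) := by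
    intro A B h
    exact Matrix.map_injective (algebraMap K L).injective h
  have e1 : ((compSL c).1.map (algebraMap K L)) ^ m
      = (algebraMap K L).mapMatrix (((compSL c) ^ m : Matrix.SpecialLinearGroup (Fin 2) K).1) := by
    rw [Matrix.SpecialLinearGroup.coe_pow, map_pow]
    rfl
  rw [e1]
  constructor
  · intro h
    rw [h]
    simp
  · intro h
    apply Subtype.ext
    apply hinj
    rw [h]
    simp

theorem orderOf_compSL (c : K) (ξ : L) (hc : algebraMap K L (2 * c) = ξ + ξ⁻¹) (n : ℕ)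
    (hξ : IsPrimitiveRoot ξ n) (hn : 3 ≤ n) : orderOf (compSL c) = n := by
  have hξ0 : ξ ≠ 0 := hξ.ne_zero (by omega)
  have hξ2 : ξ ^ 2 ≠ 1 := by
    intro h
    have := hξ.dvd_of_pow_eq_one 2 h
    have := Nat.le_of_dvd (by norm_num) this
    omega
  apply Nat.dvd_antisymm
  · apply orderOf_dvd_of_pow_eq_one
    rw [compSL_pow_eq_one_iff c ξ hc hξ0 hξ2]
    exact hξ.pow_eq_one
  · apply hξ.dvd_of_pow_eq_one
    rw [← compSL_pow_eq_one_iff c ξ hc hξ0 hξ2]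
    exact pow_orderOf_eq_one _

/-- If `ξ` is a primitive `2n`-th root of unity (`n ≥ 2`), then `compSL c ^ n = -1` as a matrix. -/
theorem compSL_pow_half (c : K) (ξ : L) (hc : algebraMap K L (2 * c) = ξ + ξ⁻¹) (n : ℕ)
    (hξ : IsPrimitiveRoot ξ (2 * n)) (hn : 2 ≤ n) :
    ((compSL c) ^ n : Matrix.SpecialLinearGroup (Fin 2) K).1 = -1 := by
  have hξ0 : ξ ≠ 0 := hξ.ne_zero (by omega)
  have hξ2 : ξ ^ 2 ≠ 1 := by
    intro h
    have := hξ.dvd_of_pow_eq_one 2 h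
    have := Nat.le_of_dvd (by norm_num) this
    omega
  have hpow : ξ ^ n = -1 := by
    have h2 : IsPrimitiveRoot (ξ ^ n) (2 * n / n) :=
      hξ.pow_of_dvd (by omega) (Dvd.intro_left 2 rfl)
    rw [Nat.mul_div_cancel _ (by omega : 0 < n)] at h2
    exact h2.eq_neg_one_of_two_right
  have hpow' : ξ⁻¹ ^ n = -1 := by rw [inv_pow, hpow, inv_neg, inv_one]
  have hL := comp_pow_eq_smul ξ hξ0 hξ2 n (-1) hpow hpow'
  rw [← compSL_map c ξ hc] at hL
  have hinj : Function.Injective ((algebraMap K L).mapMatrix (m := Fin 2)) := by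
    intro A B h
    exact Matrix.map_injective (algebraMap K L).injective h
  apply hinj
  have e1 : ((compSL c).1.map (algebraMap K L)) ^ n
      = (algebraMap K L).mapMatrix (((compSL c) ^ n : Matrix.SpecialLinearGroup (Fin 2) K).1) := by
    rw [Matrix.SpecialLinearGroup.coe_pow, map_pow]
    rfl
  rw [← e1, hL]
  have hm : ((-1 : Matrix (Fin 2) (Fin 2) K)).map (algebraMap K L) = -1 := by
    ext i j; fin_cases i <;> fin_cases j <;> simp
  simp [hm]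

/-- The second generator for the binary dihedral group inside `SL(2,K)`. -/
def quatB (c x y : K) (h : x ^ 2 - (c ^ 2 - 1) * y ^ 2 = -1) :
    Matrix.SpecialLinearGroup (Fin 2) K :=
  ⟨!![x + c * y, y; y - 2 * c * (x + c * y), -(x + c * y)], by
    rw [Matrix.det_fin_two_of]; linear_combination -h⟩

theorem quatB_mul_self (c x y : K) (h : x ^ 2 - (c ^ 2 - 1) * y ^ 2 = -1) :
    ((quatB c x y h) * (quatB c x y h) : Matrix.SpecialLinearGroup (Fin 2) K).1 = -1 := by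
  rw [Matrix.SpecialLinearGroup.coe_mul]
  ext i j
  fin_cases i <;> fin_cases j <;>
    simp [quatB, Matrix.mul_apply, Fin.sum_univ_two] <;> first | ring1 | linear_combination h

theorem compSL_mul_quatB_mul (c x y : K) (h : x ^ 2 - (c ^ 2 - 1) * y ^ 2 = -1) :
    compSL c * quatB c x y h * compSL c = quatB c x y h := by
  apply Subtype.ext
  rw [Matrix.SpecialLinearGroup.coe_mul, Matrix.SpecialLinearGroup.coe_mul]
  ext i j
  fin_cases i <;> fin_cases j <;>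
    simp [quatB, compSL, Matrix.mul_apply, Fin.sum_univ_two] <;> ring

end OverK

end Groth.Agent.Lib.Helper22
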