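import Mathlib
import Groth.Agent.Lib.Helper28Catenary

universe u

namespace Groth.Agent.Lib.Helper22.SOP

section Avoid

variable {A : Type u} [CommRing A]

/-- Coset version of prime avoidance (Kaplansky, Thm 124). -/
theorem coset_avoid (I : Ideal A) (b : A) (s : Finset (Ideal A))
    (hprime : ∀ P ∈ s, P.IsPrime) (hinc : ∀ P ∈ s, ∀ Q ∈ s, P ≤ Q → P = Q)
    (hnot : ∀ P ∈ s, ¬ (Ideal.span {b} ⊔ I ≤ P)) :
    ∃ y ∈ I, ∀ P ∈ s, b + y ∉ P := by
  classical
  set s1 := s.filter (fun P => b ∈ P) with hs1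
  set s2 := s.filter (fun P => b ∉ P) with hs2
  have h1 : ¬ ((I : Set A) ⊆ ⋃ P ∈ (s1 : Set (Ideal A)), ((id P : Ideal A) : Set A)) := by
    intro h
    rw [Ideal.subset_union_prime (f := id) ⊤ ⊤ (fun P hP _ _ => hprime P (Finset.mem_of_mem_filter P hP))] at h
    obtain ⟨P, hP, hIP⟩ := h
    have hPs : P ∈ s := Finset.mem_of_mem_filter P hP
    have hbP : b ∈ P := (Finset.mem_filter.mp hP).2
    exact hnot P hPs (sup_le ((Ideal.span_singleton_le_iff_mem P).mpr hbP) hIP)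
  obtain ⟨y0, hy0I, hy0⟩ := Set.not_subset.mp h1
  have h2 : ¬ (((s2.inf id : Ideal A) : Set A) ⊆ ⋃ P ∈ (s1 : Set (Ideal A)), ((id P : Ideal A) : Set A)) := by
    intro h
    rw [Ideal.subset_union_prime (f := id) ⊤ ⊤ (fun P hP _ _ => hprime P (Finset.mem_of_mem_filter P hP))] at h
    obtain ⟨Q, hQ, hKQ⟩ := h
    have hQs : Q ∈ s := Finset.mem_of_mem_filter Q hQ
    have hbQ : b ∈ Q := (Finset.mem_filter.mp hQ).2
    obtain ⟨P, hP, hPQ⟩ := (Ideal.IsPrime.inf_le' (hprime Q hQs)).mp hKQ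
    have hPs : P ∈ s := Finset.mem_of_mem_filter P hP
    have hbP : b ∉ P := (Finset.mem_filter.mp hP).2
    have := hinc P hPs Q hQs hPQ
    exact hbP (this ▸ hbQ)
  obtain ⟨z, hzK, hz⟩ := Set.not_subset.mp h2
  refine ⟨z * y0, I.mul_mem_left z hy0I, fun P hP => ?_⟩
  by_cases hb : b ∈ P
  · have hP1 : P ∈ s1 := Finset.mem_filter.mpr ⟨hP, hb⟩
    have hPp := hprime P hP
    intro hmem
    have hzy : z * y0 ∈ P := by
      have := P.sub_mem hmem hb
      simpa using this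
    rcases hPp.mem_or_mem hzy with h | h
    · exact hz (Set.mem_biUnion (show P ∈ (s1 : Set (Ideal A)) from hP1) h)
    · exact hy0 (Set.mem_biUnion (show P ∈ (s1 : Set (Ideal A)) from hP1) h)
  · have hP2 : P ∈ s2 := Finset.mem_filter.mpr ⟨hP, hb⟩
    intro hmem
    have hzP : z ∈ P := by
      have : (s2.inf id : Ideal A) ≤ P := Finset.inf_le (f := id) hP2
      exact this hzK
    exact hb (by
      have := P.sub_mem hmem (P.mul_mem_right y0 hzP)
      simpa using this)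

/-- If `x ∈ J ⊇ I` avoids every minimal prime of `I`, then `dim A/J + 1 ≤ dim A/I`. -/
theorem ringKrullDim_quotient_succ_le_of_avoid (I J : Ideal A) (hIJ : I ≤ J) (x : A) (hxJ : x ∈ J)
    (hx : ∀ P ∈ I.minimalPrimes, x ∉ P) :
    ringKrullDim (A ⧸ J) + 1 ≤ ringKrullDim (A ⧸ I) := by
  by_cases hr' : J = ⊤
  · rw [hr', ringKrullDim_eq_bot_of_subsingleton]
    simp
  have : Nonempty (PrimeSpectrum.zeroLocus (R := A) J) := by
    rwa [Set.nonempty_coe_sort, Set.nonempty_iff_ne_empty, ne_eq,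
      PrimeSpectrum.zeroLocus_empty_iff_eq_top]
  have hne : Nonempty (PrimeSpectrum.zeroLocus (R := A) I) := by
    obtain ⟨q, hq⟩ := this
    exact ⟨⟨q, fun a ha => hq (hIJ ha)⟩⟩
  rw [ringKrullDim_quotient, ringKrullDim_quotient, Order.krullDim_eq_iSup_length,
    Order.krullDim_eq_iSup_length, ← WithBot.coe_one, ← WithBot.coe_add,
    ENat.iSup_add, WithBot.coe_le_coe, iSup_le_iff]
  intro l
  have hl0 : I ≤ l.head.1.asIdeal := fun a ha => l.head.2 (hIJ ha)
  have hxl0 : x ∈ l.head.1.asIdeal := l.head.2 hxJ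
  obtain ⟨p, hp, hp'⟩ := Ideal.exists_minimalPrimes_le (J := l.head.1.asIdeal) hl0
  let p' : PrimeSpectrum.zeroLocus (R := A) I := ⟨⟨p, hp.1.1⟩, hp.1.2⟩
  let l' : LTSeries (PrimeSpectrum.zeroLocus (R := A) I) :=
    l.map (fun q => ⟨q.1, fun a ha => q.2 (hIJ ha)⟩) (fun _ _ h => h)
  have hp'' : p' < l'.head := by
    refine lt_of_le_of_ne ?_ ?_
    · show p ≤ l.head.1.asIdeal
      exact hp'
    · intro h
      apply hx p hp
      have : p = l.head.1.asIdeal := by
        have := congrArg (fun q : PrimeSpectrum.zeroLocus (R := A) I => q.1.asIdeal) h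
        simpa [l', p'] using this
      rw [this]; exact hxl0
  refine le_trans ?_ (le_iSup _ (l'.cons p' hp''))
  simp [l']

end Avoid

end Groth.Agent.Lib.Helper22.SOP
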