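import Mathlib
import Groth.Agent.Lib.Helper28Catenary
import Groth.Agent.Lib.Helper22SOP1

universe u

namespace Groth.Agent.Lib.Helper22.SOP

open Groth.Agent.Lib.Helper28

/-- In a CM local ring `R` of dimension `s` with s.o.p. `t`, a prime containing the first `i` of the
`t`'s has height at least `i`. -/
theorem le_height_of_sop {R : Type u} [CommRing R] [hCM : LocCoh.IsCohenMacaulayLocalRing R] (s : ℕ)
    (hs : ringKrullDim R = s) (t : Fin s → R)
    (ht : ∀ i, t i ∈ IsLocalRing.maximalIdeal R)
    (hsop : ringKrullDim (R ⧸ Ideal.span (Set.range t)) = 0)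
    (i : ℕ) (hi : i ≤ s) (Q : Ideal R) [hQ : Q.IsPrime] (hQt : ∀ j : Fin s, (j : ℕ) < i → t j ∈ Q) :
    (i : ℕ∞) ≤ Q.height := by
  classical
  haveI : Nontrivial (R ⧸ Q) := Ideal.Quotient.nontrivial_iff.mpr hQ.ne_top
  haveI : IsLocalHom (Ideal.Quotient.mk Q) :=
    IsLocalHom.of_surjective (Ideal.Quotient.mk Q) Ideal.Quotient.mk_surjective
  have hdimeq := ringKrullDim_eq_quotient_add_height_of_isCohenMacaulayModule (R := R) (M := R)
    hCM.supportDim_eq_depth support_self_eq_univ Q
  -- the residual elements
  let t' : Fin (s - i) → R ⧸ Q := fun k => Ideal.Quotient.mk Q (t ⟨i + k, by omega⟩)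
  let S' : Finset (R ⧸ Q) := Finset.univ.image t'
  have hS'card : S'.card ≤ s - i := by
    refine (Finset.card_image_le).trans ?_
    simp
  have hjac : Ring.jacobson (R ⧸ Q) = IsLocalRing.maximalIdeal (R ⧸ Q) := by
    rw [← Ideal.jacobson_bot, IsLocalRing.jacobson_eq_maximalIdeal _ bot_ne_top]
  have hS'jac : (S' : Set (R ⧸ Q)) ⊆ Ring.jacobson (R ⧸ Q) := by
    intro z hz
    rw [hjac]
    simp only [S', Finset.coe_image, Finset.coe_univ, Set.image_univ, Set.mem_range] at hz
    obtain ⟨k, rfl⟩ := hz
    show Ideal.Quotient.mk Q (t ⟨i + k, by omega⟩) ∈ IsLocalRing.maximalIdeal (R ⧸ Q)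
    have h1 := ht ⟨i + k, by omega⟩
    rw [IsLocalRing.mem_maximalIdeal, mem_nonunits_iff] at h1 ⊢
    intro hu
    exact h1 (isUnit_of_map_unit (Ideal.Quotient.mk Q) _ hu)
  have h1 := ringKrullDim_le_ringKrullDim_quotient_add_card S' hS'jac
  -- the quotient has dimension ≤ 0
  have h2 : ringKrullDim ((R ⧸ Q) ⧸ Ideal.span (S' : Set (R ⧸ Q))) ≤ 0 := by
    rw [← hsop]
    let φ : R ⧸ Ideal.span (Set.range t) →+* (R ⧸ Q) ⧸ Ideal.span (S' : Set (R ⧸ Q)) :=
      Ideal.Quotient.lift _ ((Ideal.Quotient.mk (Ideal.span (S' : Set (R ⧸ Q)))).comp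
        (Ideal.Quotient.mk Q)) (by
        intro a ha
        have hle : Ideal.span (Set.range t) ≤ RingHom.ker
            ((Ideal.Quotient.mk (Ideal.span (S' : Set (R ⧸ Q)))).comp (Ideal.Quotient.mk Q)) := by
          rw [Ideal.span_le]
          rintro _ ⟨j, rfl⟩
          rw [SetLike.mem_coe, RingHom.mem_ker, RingHom.comp_apply]
          by_cases hj : (j : ℕ) < i
          · rw [Ideal.Quotient.eq_zero_iff_mem.mpr (hQt j hj), map_zero]
          · rw [Ideal.Quotient.eq_zero_iff_mem]
            apply Ideal.subset_span
            simp only [S', Finset.coe_image, Finset.coe_univ, Set.image_univ, Set.mem_range]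
            refine ⟨⟨(j : ℕ) - i, by omega⟩, ?_⟩
            show Ideal.Quotient.mk Q (t ⟨i + ((j : ℕ) - i), _⟩) = _
            congr 2
            apply Fin.ext
            simp only
            omega
        exact hle ha)
    refine ringKrullDim_le_of_surjective φ ?_
    apply Ideal.Quotient.lift_surjective_of_surjective
    exact (Ideal.Quotient.mk_surjective).comp Ideal.Quotient.mk_surjective
  -- assemble
  have h3 : ringKrullDim (R ⧸ Q) ≤ ((s - i : ℕ) : WithBot ℕ∞) := by
    refine h1.trans ?_
    calc ringKrullDim ((R ⧸ Q) ⧸ Ideal.span (S' : Set (R ⧸ Q))) + (S'.card : WithBot ℕ∞)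
        ≤ 0 + ((s - i : ℕ) : WithBot ℕ∞) := by
          gcongr
      _ = _ := zero_add _
  obtain ⟨d, hd⟩ : ∃ d : ℕ∞, ringKrullDim (R ⧸ Q) = d := by
    have := ringKrullDim_nonneg_of_nontrivial (R := R ⧸ Q)
    exact ⟨(ringKrullDim (R ⧸ Q)).unbot (by intro h; rw [h] at this; exact absurd this (by simp)),
      (WithBot.coe_unbot _ _).symm⟩
  rw [hd] at h3 hdimeq
  rw [hs] at hdimeq
  have h4 : d ≤ ((s - i : ℕ) : ℕ∞) := WithBot.coe_le_coe.mp h3
  have h5 : ((s : ℕ) : ℕ∞) = d + Q.height := by exact_mod_cast hdimeq
  rcases eq_or_ne Q.height ⊤ with htop | hne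
  · rw [htop]; exact le_top
  · obtain ⟨h, hh⟩ := ENat.ne_top_iff_exists.mp hne
    obtain ⟨d', hd'⟩ := ENat.ne_top_iff_exists.mp (ne_top_of_le_ne_top (ENat.natCast_ne_top _) h4)
    rw [← hh, ← hd'] at h5
    rw [← hd'] at h4
    rw [← hh]
    have h4' : d' ≤ s - i := by exact_mod_cast h4
    have h5' : s = d' + h := by exact_mod_cast h5
    exact_mod_cast (show i ≤ h by omega)

section Main

variable (A : Type u) [CommRing A] [IsNoetherianRing A] [IsLocalRing A] (p : Ideal A) [p.IsPrime]

theorem exists_lift_sop
    [LocCoh.IsCohenMacaulayLocalRing (Localization.AtPrime p)] (s : ℕ)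
    (hs : ringKrullDim (Localization.AtPrime p) = s) (t : Fin s → Localization.AtPrime p)
    (ht : ∀ i, t i ∈ IsLocalRing.maximalIdeal (Localization.AtPrime p))
    (hsop : ringKrullDim (Localization.AtPrime p ⧸ Ideal.span (Set.range t)) = 0) :
    ∃ x a : Fin s → A, (∀ i, x i ∈ p) ∧ (∀ i, a i ∉ p) ∧
      ringKrullDim (A ⧸ Ideal.span (Set.range x)) + (s : WithBot ℕ∞) = ringKrullDim A ∧
      ∀ i : Fin s, algebraMap A (Localization.AtPrime p) (x i) -
          algebraMap A (Localization.AtPrime p) (a i) * t i ∈
        Ideal.span (t '' {j : Fin s | j < i}) := by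
  classical
  let T : ℕ → Ideal (Localization.AtPrime p) := fun j => Ideal.span (t '' {k : Fin s | (k : ℕ) < j})
  have hTmono : ∀ {j j' : ℕ}, j ≤ j' → T j ≤ T j' := fun {j j'} hjj' =>
    Ideal.span_mono (Set.image_mono (fun k (hk : (k : ℕ) < j) => lt_of_lt_of_le hk hjj'))
  have hTmem : ∀ (k : Fin s) (j : ℕ), (k : ℕ) < j → t k ∈ T j := fun k j hk =>
    Ideal.subset_span ⟨k, hk, rfl⟩
  have hTmax : ∀ j, T j ≤ IsLocalRing.maximalIdeal (Localization.AtPrime p) := fun j => by
    rw [Ideal.span_le]; rintro _ ⟨k, _, rfl⟩; exact ht k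
  have hcomap_le : ∀ j, (T j).comap (algebraMap A (Localization.AtPrime p)) ≤ p := fun j => by
    have := Ideal.comap_mono (f := algebraMap A (Localization.AtPrime p)) (hTmax j)
    rwa [show (IsLocalRing.maximalIdeal (Localization.AtPrime p)).comap (algebraMap A (Localization.AtPrime p)) = p from
      IsLocalization.AtPrime.under_maximalIdeal (Localization.AtPrime p) p] at this
  have key : ∀ i : ℕ, i ≤ s → ∃ x a : ℕ → A, (∀ j, j < i → x j ∈ p) ∧ (∀ j, j < i → a j ∉ p) ∧
      ringKrullDim (A ⧸ Ideal.span (x '' {j | j < i})) + (i : WithBot ℕ∞) ≤ ringKrullDim A ∧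
      ∀ j (hj : j < s), j < i →
        algebraMap A (Localization.AtPrime p) (x j) - algebraMap A (Localization.AtPrime p) (a j) * t ⟨j, hj⟩ ∈ T j := by
    intro i
    induction i with
    | zero =>
      intro _
      refine ⟨fun _ => 0, fun _ => 1, fun j hj => absurd hj (Nat.not_lt_zero j),
        fun j hj => absurd hj (Nat.not_lt_zero j), ?_, fun j _ hj => absurd hj (Nat.not_lt_zero j)⟩
      have : ((fun _ => 0 : ℕ → A) '' {j | j < 0}) = ∅ := by
        ext z; simp
      rw [this, Ideal.span_empty, Nat.cast_zero, add_zero]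
      exact (ringKrullDim_eq_of_ringEquiv (RingEquiv.quotientBot A)).le
    | succ i ih =>
      intro hi1
      have hi : i < s := hi1
      obtain ⟨x, a, hxp, hap, hdim, hcong⟩ := ih hi.le
      set I : Ideal A := Ideal.span (x '' {j | j < i}) with hI
      set Ji : Ideal A := (T i).comap (algebraMap A (Localization.AtPrime p)) with hJi
      -- (1) I ≤ Ji
      have hIJ : I ≤ Ji := by
        rw [hI, Ideal.span_le]
        rintro _ ⟨j, hj, rfl⟩
        have hjs : j < s := lt_trans hj hi
        show algebraMap A (Localization.AtPrime p) (x j) ∈ T i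
        have h1 := hTmono (Nat.le_of_lt hj) (hcong j hjs hj)
        have h2 : algebraMap A (Localization.AtPrime p) (a j) * t ⟨j, hjs⟩ ∈ T i :=
          Ideal.mul_mem_left _ _ (hTmem ⟨j, hjs⟩ i hj)
        have := (T i).add_mem h1 h2
        simpa using this
      -- (2) write t i = b / c
      obtain ⟨b, c, hbc⟩ := IsLocalization.exists_mk'_eq p.primeCompl (t ⟨i, hi⟩)
      have hspec : algebraMap A (Localization.AtPrime p) (c : A) * t ⟨i, hi⟩ = algebraMap A (Localization.AtPrime p) b := by
        rw [← hbc, mul_comm]; exact IsLocalization.mk'_spec (Localization.AtPrime p) b c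
      have hbp : b ∈ p := by
        rw [← IsLocalization.AtPrime.to_map_mem_maximal_iff (Localization.AtPrime p) p b, ← hspec]
        exact Ideal.mul_mem_left _ _ (ht ⟨i, hi⟩)
      -- (3) the minimal primes of I
      have hfin : I.minimalPrimes.Finite := Ideal.finite_minimalPrimes_of_isNoetherianRing A I
      -- (4) the key non-containment
      have hnot : ∀ P ∈ hfin.toFinset, ¬ (Ideal.span {b} ⊔ Ji ≤ P) := by
        intro P hP hle
        rw [Set.Finite.mem_toFinset] at hP
        haveI hPprime : P.IsPrime := hP.1.1
        have hbP : b ∈ P := hle (Ideal.mem_sup_left (Ideal.mem_span_singleton_self b))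
        have hJP : Ji ≤ P := le_sup_right.trans hle
        have hPht : P.height ≤ i := by
          have hIeq : I = Ideal.span (((Finset.range i).image x : Finset A) : Set A) := by
            rw [hI]; congr 1; ext z; simp
          have := Ideal.height_le_card_of_mem_minimalPrimes_span_finset (hIeq ▸ hP)
          refine this.trans ?_
          have h2 := Finset.card_image_le (s := Finset.range i) (f := x)
          rw [Finset.card_range] at h2
          exact_mod_cast h2
        by_cases hPp : P ≤ p
        · have hdisj : Disjoint (p.primeCompl : Set A) (P : Set A) := by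
            rw [Set.disjoint_left]
            intro z hz hzP
            exact hz (hPp hzP)
          haveI hQprime : (P.map (algebraMap A (Localization.AtPrime p))).IsPrime :=
            IsLocalization.isPrime_of_isPrime_disjoint p.primeCompl (Localization.AtPrime p) P hPprime hdisj
          have hQht : (P.map (algebraMap A (Localization.AtPrime p))).height = P.height :=
            IsLocalization.height_map_of_disjoint p.primeCompl P hdisj
          have hmem : ∀ j : Fin s, (j : ℕ) < i + 1 → t j ∈ P.map (algebraMap A (Localization.AtPrime p)) := by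
            intro j hj
            rcases Nat.lt_succ_iff_lt_or_eq.mp hj with hlt | heq
            · have h1 : t j ∈ T i := hTmem j i hlt
              have h2 : T i = Ji.map (algebraMap A (Localization.AtPrime p)) :=
                (IsLocalization.map_under p.primeCompl (Localization.AtPrime p) (T i)).symm
              rw [h2] at h1
              exact Ideal.map_mono hJP h1
            · have hji : j = ⟨i, hi⟩ := Fin.ext heq
              rw [hji, ← hbc, IsLocalization.mk'_eq_mul_mk'_one]
              exact Ideal.mul_mem_right _ _ (Ideal.mem_map_of_mem _ hbP)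
          have h6 := le_height_of_sop s hs t ht hsop (i + 1) hi1 (P.map (algebraMap A (Localization.AtPrime p))) hmem
          rw [hQht] at h6
          have := h6.trans hPht
          have : i + 1 ≤ i := by exact_mod_cast this
          omega
        · apply hPp
          obtain ⟨P', hP', hP'P⟩ := Ideal.exists_minimalPrimes_le (I := Ji) (J := P) hJP
          obtain ⟨Q', hQ', hQ'P'⟩ := Ideal.minimalPrimes_comap_subset (algebraMap A (Localization.AtPrime p)) (T i) hP'
          haveI : Q'.IsPrime := hQ'.1.1
          have hP'p : P' ≤ p := by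
            rw [← hQ'P']
            have := Ideal.comap_mono (f := algebraMap A (Localization.AtPrime p)) (IsLocalRing.le_maximalIdeal
              (Ideal.IsPrime.ne_top (I := Q') inferInstance))
            rwa [show (IsLocalRing.maximalIdeal (Localization.AtPrime p)).comap (algebraMap A (Localization.AtPrime p)) = p from
              IsLocalization.AtPrime.under_maximalIdeal (Localization.AtPrime p) p] at this
          have hPP' : P ≤ P' := hP.2 ⟨hP'.1.1, hIJ.trans hP'.1.2⟩ hP'P
          exact hPP'.trans hP'p
      obtain ⟨y, hyJ, hy⟩ := coset_avoid Ji b hfin.toFinset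
        (fun P hP => ((Set.Finite.mem_toFinset hfin).mp hP).1.1)
        (fun P hP Q hQ hPQ => le_antisymm hPQ
          (((Set.Finite.mem_toFinset hfin).mp hQ).2 ((Set.Finite.mem_toFinset hfin).mp hP).1 hPQ))
        hnot
      -- (6) define the new sequences
      refine ⟨Function.update x i (b + y), Function.update a i (c : A), ?_, ?_, ?_, ?_⟩
      · intro j hj
        rcases Nat.lt_succ_iff_lt_or_eq.mp hj with hlt | heq
        · rw [Function.update_of_ne (Nat.ne_of_lt hlt)]; exact hxp j hlt
        · rw [heq, Function.update_self]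
          exact p.add_mem hbp (hcomap_le i hyJ)
      · intro j hj
        rcases Nat.lt_succ_iff_lt_or_eq.mp hj with hlt | heq
        · rw [Function.update_of_ne (Nat.ne_of_lt hlt)]; exact hap j hlt
        · rw [heq, Function.update_self]
          exact c.2
      · set I' : Ideal A := Ideal.span (Function.update x i (b + y) '' {j | j < i + 1}) with hI'
        have hII' : I ≤ I' := by
          rw [hI, Ideal.span_le]
          rintro _ ⟨j, hj, rfl⟩
          apply Ideal.subset_span
          refine ⟨j, Nat.lt_succ_of_lt hj, ?_⟩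
          rw [Function.update_of_ne (Nat.ne_of_lt hj)]
        have hxI' : b + y ∈ I' := by
          apply Ideal.subset_span
          exact ⟨i, Nat.lt_succ_self i, Function.update_self ..⟩
        have hdrop := ringKrullDim_quotient_succ_le_of_avoid I I' hII' (b + y) hxI'
          (fun P hP => hy P ((Set.Finite.mem_toFinset hfin).mpr hP))
        calc ringKrullDim (A ⧸ I') + ((i + 1 : ℕ) : WithBot ℕ∞)
            = (ringKrullDim (A ⧸ I') + 1) + (i : WithBot ℕ∞) := by
              push_cast; rw [add_assoc, add_comm (i : WithBot ℕ∞) 1]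
          _ ≤ ringKrullDim (A ⧸ I) + (i : WithBot ℕ∞) := by gcongr
          _ ≤ ringKrullDim A := hdim
      · intro j hjs hj
        rcases Nat.lt_succ_iff_lt_or_eq.mp hj with hlt | heq
        · rw [Function.update_of_ne (Nat.ne_of_lt hlt), Function.update_of_ne (Nat.ne_of_lt hlt)]
          exact hcong j hjs hlt
        · subst heq
          rw [Function.update_self, Function.update_self, map_add, hspec]
          have : algebraMap A (Localization.AtPrime p) b + algebraMap A (Localization.AtPrime p) y - algebraMap A (Localization.AtPrime p) b = algebraMap A (Localization.AtPrime p) y := by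
            ring
          rw [this]
          exact hyJ
  obtain ⟨x, a, hxp, hap, hdim, hcong⟩ := key s le_rfl
  refine ⟨fun k => x k, fun k => a k, fun k => hxp k k.2, fun k => hap k k.2, ?_, ?_⟩
  · have hrange : Set.range (fun k : Fin s => x k) = x '' {j | j < s} := by
      ext z
      constructor
      · rintro ⟨k, rfl⟩; exact ⟨k, k.2, rfl⟩
      · rintro ⟨j, hj, rfl⟩; exact ⟨⟨j, hj⟩, rfl⟩
    rw [hrange]
    refine le_antisymm hdim ?_
    have hjac : Ring.jacobson A = IsLocalRing.maximalIdeal A := by
      rw [← Ideal.jacobson_bot, IsLocalRing.jacobson_eq_maximalIdeal _ bot_ne_top]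
    have hsub : (((Finset.range s).image x : Finset A) : Set A) ⊆ Ring.jacobson A := by
      intro z hz
      rw [hjac]
      simp only [Finset.coe_image, Finset.coe_range, Set.mem_image, Set.mem_Iio] at hz
      obtain ⟨j, hj, rfl⟩ := hz
      exact IsLocalRing.le_maximalIdeal (Ideal.IsPrime.ne_top inferInstance) (hxp j hj)
    have h1 := ringKrullDim_le_ringKrullDim_quotient_add_card _ hsub
    have heq : (((Finset.range s).image x : Finset A) : Set A) = x '' {j | j < s} := by
      ext z; simp
    rw [heq] at h1
    refine h1.trans ?_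
    gcongr
    have h2 := Finset.card_image_le (s := Finset.range s) (f := x)
    rw [Finset.card_range] at h2
    exact_mod_cast h2
  · intro k
    exact hcong k k.2 k.2

end Main

end Groth.Agent.Lib.Helper22.SOP
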