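import Mathlib
import Groth.Agent.Lib.Helper22SOP1

universe u

namespace Groth.Agent.Lib.Helper22.SOP

variable {A : Type u} [CommRing A]

/-- Variant of the dimension drop: it is enough to avoid the non-maximal minimal primes. -/
theorem ringKrullDim_quotient_le_of_avoid_nonmax (I J : Ideal A) (hIJ : I ≤ J) (x : A) (hxJ : x ∈ J)
    (hx : ∀ P ∈ I.minimalPrimes, ¬ P.IsMaximal → x ∉ P) (n : ℕ)
    (hn : ringKrullDim (A ⧸ I) ≤ ((n + 1 : ℕ) : WithBot ℕ∞)) :
    ringKrullDim (A ⧸ J) ≤ (n : WithBot ℕ∞) := by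
  rw [ringKrullDim_quotient] at hn ⊢
  unfold Order.krullDim
  refine iSup_le fun l => ?_
  by_cases hl : l.length = 0
  · rw [hl]; exact_mod_cast Nat.zero_le n
  have hl0 : I ≤ l.head.1.asIdeal := fun a ha => l.head.2 (hIJ ha)
  have hxl0 : x ∈ l.head.1.asIdeal := l.head.2 hxJ
  obtain ⟨p, hp, hp'⟩ := Ideal.exists_minimalPrimes_le (J := l.head.1.asIdeal) hl0
  -- the head is not maximal
  have hhead_lt : l.head < l.last := by
    have := l.strictMono (show (0 : Fin (l.length + 1)) < Fin.last l.length from by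
      rw [Fin.lt_def]; simp; omega)
    exact this
  have hheadnm : ¬ l.head.1.asIdeal.IsMaximal := by
    intro hmax
    have hle : l.head.1.asIdeal ≤ l.last.1.asIdeal := hhead_lt.le
    have := hmax.eq_of_le l.last.1.2.ne_top hle
    exact hhead_lt.ne (Subtype.ext (PrimeSpectrum.ext this))
  have hpnm : ¬ p.IsMaximal := by
    intro hmax
    have := hmax.eq_of_le l.head.1.2.ne_top hp'
    exact hheadnm (this ▸ hmax)
  let p' : PrimeSpectrum.zeroLocus (R := A) I := ⟨⟨p, hp.1.1⟩, hp.1.2⟩
  let l' : LTSeries (PrimeSpectrum.zeroLocus (R := A) I) :=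
    l.map (fun q => ⟨q.1, fun a ha => q.2 (hIJ ha)⟩) (fun _ _ h => h)
  have hp'' : p' < l'.head := by
    refine lt_of_le_of_ne ?_ ?_
    · show p ≤ l.head.1.asIdeal
      exact hp'
    · intro h
      apply hx p hp hpnm
      have : p = l.head.1.asIdeal := by
        have := congrArg (fun q : PrimeSpectrum.zeroLocus (R := A) I => q.1.asIdeal) h
        simpa [l', p'] using this
      rw [this]; exact hxl0
  have h1 := (Order.LTSeries.length_le_krullDim (l'.cons p' hp'')).trans hn
  have h2 : (l'.cons p' hp'').length = l.length + 1 := by simp [l']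
  rw [h2] at h1
  have h3 : l.length + 1 ≤ n + 1 := by exact_mod_cast h1
  exact_mod_cast Nat.le_of_succ_le_succ h3

/-- In a semi-local ring, the Jacobson radical is not contained in a non-maximal prime. -/
theorem not_jacobson_le_of_not_isMaximal [Finite (MaximalSpectrum A)] (P : Ideal A) [hP : P.IsPrime]
    (hnm : ¬ P.IsMaximal) : ¬ Ring.jacobson A ≤ P := by
  classical
  intro hle
  haveI := Fintype.ofFinite (MaximalSpectrum A)
  have h1 : (Finset.univ : Finset (MaximalSpectrum A)).inf (fun m => m.asIdeal) ≤ Ring.jacobson A := by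
    rw [Ring.jacobson_eq_sInf_isMaximal]
    refine le_sInf fun I hI => ?_
    exact Finset.inf_le (f := fun m : MaximalSpectrum A => m.asIdeal)
      (Finset.mem_univ (⟨I, hI⟩ : MaximalSpectrum A))
  obtain ⟨m, _, hm⟩ := (Ideal.IsPrime.inf_le' hP).mp (h1.trans hle)
  have := m.isMaximal.eq_of_le hP.ne_top hm
  exact hnm (this ▸ m.isMaximal)

/-- Avoiding the non-maximal minimal primes of `I` inside an ideal `K`. -/
theorem exists_mem_avoid_nonmax [IsNoetherianRing A] (K I : Ideal A)
    (hK : ∀ P ∈ I.minimalPrimes, ¬ P.IsMaximal → ¬ K ≤ P) :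
    ∃ y ∈ K, ∀ P ∈ I.minimalPrimes, ¬ P.IsMaximal → y ∉ P := by
  classical
  have hfin : I.minimalPrimes.Finite := Ideal.finite_minimalPrimes_of_isNoetherianRing A I
  obtain ⟨y, hyK, hy⟩ := coset_avoid K 0 (hfin.toFinset.filter (fun P => ¬ P.IsMaximal))
    (fun P hP => ((Set.Finite.mem_toFinset hfin).mp (Finset.mem_filter.mp hP).1).1.1)
    (fun P hP Q hQ hPQ => le_antisymm hPQ
      (((Set.Finite.mem_toFinset hfin).mp (Finset.mem_filter.mp hQ).1).2
        ((Set.Finite.mem_toFinset hfin).mp (Finset.mem_filter.mp hP).1).1 hPQ))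
    (fun P hP hle => hK P ((Set.Finite.mem_toFinset hfin).mp (Finset.mem_filter.mp hP).1)
      (Finset.mem_filter.mp hP).2 (le_sup_right.trans hle))
  refine ⟨y, hyK, fun P hP hnm => ?_⟩
  have := hy P (Finset.mem_filter.mpr ⟨(Set.Finite.mem_toFinset hfin).mpr hP, hnm⟩)
  simpa using this

/-- Completing to a system of parameters in a semi-local Noetherian ring. -/
theorem exists_list_jacobson_dim_le_zero [IsNoetherianRing A] [Finite (MaximalSpectrum A)]
    (n : ℕ) : ∀ (J : Ideal A), ringKrullDim (A ⧸ J) ≤ (n : WithBot ℕ∞) →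
    ∃ ys : List A, ys.length = n ∧ (∀ y ∈ ys, y ∈ Ring.jacobson A) ∧
      ringKrullDim (A ⧸ (J ⊔ Ideal.ofList ys)) ≤ 0 := by
  induction n with
  | zero =>
    intro J hJ
    refine ⟨[], rfl, by simp, ?_⟩
    rw [Ideal.ofList_nil, sup_bot_eq]
    exact_mod_cast hJ
  | succ n ih =>
    intro J hJ
    obtain ⟨y, hyr, hy⟩ := exists_mem_avoid_nonmax (Ring.jacobson A) J
      (fun P hP hnm => by
        haveI := hP.1.1
        exact not_jacobson_le_of_not_isMaximal P hnm)
    have hdrop := ringKrullDim_quotient_le_of_avoid_nonmax J (J ⊔ Ideal.span {y}) le_sup_left y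
      (Ideal.mem_sup_right (Ideal.mem_span_singleton_self y)) hy n hJ
    obtain ⟨ys, hlen, hys, hdim⟩ := ih (J ⊔ Ideal.span {y}) hdrop
    refine ⟨y :: ys, by simp [hlen], ?_, ?_⟩
    · intro z hz
      rcases List.mem_cons.mp hz with rfl | hz
      · exact hyr
      · exact hys z hz
    · rw [Ideal.ofList_cons, ← sup_assoc]
      exact hdim

end Groth.Agent.Lib.Helper22.SOP
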