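import Mathlib
import Groth.Agent.Lib.Helper22SOP3

universe u

namespace Groth.Agent.Lib.Helper22.SOP

variable (A : Type u) [CommRing A] [IsNoetherianRing A] [Finite (MaximalSpectrum A)]

/-- A Noetherian semi-local nontrivial ring has finite Krull dimension (as a natural number). -/
theorem exists_nat_ringKrullDim_eq_of_semilocal [Nontrivial A] :
    ∃ d : ℕ, ringKrullDim A = (d : WithBot ℕ∞) := by
  classical
  haveI := Fintype.ofFinite (MaximalSpectrum A)
  set n : ℕ∞ := (Finset.univ : Finset (MaximalSpectrum A)).sup (fun m => m.asIdeal.height) with hn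
  have hnlt : n < ⊤ := by
    rw [hn, Finset.sup_lt_iff (by simp)]
    intro m _
    haveI := m.isMaximal.isPrime
    exact Ideal.height_lt_top_of_isPrime
  have hle : ringKrullDim A ≤ (n : WithBot ℕ∞) := by
    rw [ringKrullDim_le_iff_isMaximal_height_le]
    intro m hm
    have : m.height ≤ n := Finset.le_sup (f := fun m : MaximalSpectrum A => m.asIdeal.height)
      (Finset.mem_univ (⟨m, hm⟩ : MaximalSpectrum A))
    exact_mod_cast this
  have hnonneg := ringKrullDim_nonneg_of_nontrivial (R := A)
  obtain ⟨e, he⟩ : ∃ e : ℕ∞, ringKrullDim A = e :=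
    ⟨(ringKrullDim A).unbot (by intro h; rw [h] at hnonneg; exact absurd hnonneg (by simp)),
      (WithBot.coe_unbot _ _).symm⟩
  rw [he] at hle
  have hle' : e ≤ n := WithBot.coe_le_coe.mp hle
  obtain ⟨d, hd⟩ := ENat.ne_top_iff_exists.mp (ne_top_of_lt (lt_of_le_of_lt hle' hnlt))
  exact ⟨d, by rw [he, ← hd]; rfl⟩

theorem exists_parameters_in_ideal (a : Ideal A) (ha : a ≠ ⊤) (h : ℕ) (hh : a.height = h)
    (hpos : 0 < h) :
    ∃ x : Fin h → A, (∀ i, x i ∈ a) ∧ (∀ i, x i ∈ Ring.jacobson A) ∧
      (∃ ys : List A, (∀ y ∈ ys, y ∈ Ring.jacobson A) ∧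
        (((h + ys.length : ℕ) : ℕ∞) : WithBot ℕ∞) = ringKrullDim A ∧
        IsFiniteLength A (A ⧸ (Ideal.span (Set.range x) ⊔ Ideal.ofList ys))) ∧
      (a.map (Ideal.Quotient.mk (Ideal.span (Set.range x)))).height = 0 := by
  classical
  haveI : Nontrivial A := by
    by_contra hnt
    rw [not_nontrivial_iff_subsingleton] at hnt
    exact ha (Subsingleton.elim _ _)
  obtain ⟨d, hd⟩ := exists_nat_ringKrullDim_eq_of_semilocal A
  have hhd : h ≤ d := by
    have := Ideal.height_le_ringKrullDim_of_ne_top ha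
    rw [hh, hd] at this
    exact_mod_cast this
  -- inductive construction
  have key : ∀ i : ℕ, i ≤ h → ∃ x : ℕ → A, (∀ j, j < i → x j ∈ a ∧ x j ∈ Ring.jacobson A) ∧
      (∀ P ∈ (Ideal.span (x '' {j | j < i})).minimalPrimes, (i : ℕ∞) ≤ P.height ∨ P.IsMaximal) ∧
      ringKrullDim (A ⧸ Ideal.span (x '' {j | j < i})) ≤ ((d - i : ℕ) : WithBot ℕ∞) := by
    intro i
    induction i with
    | zero =>
      intro _
      refine ⟨fun _ => 0, fun j hj => absurd hj (Nat.not_lt_zero j), fun P _ => Or.inl (by simp), ?_⟩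
      have : ((fun _ => 0 : ℕ → A) '' {j | j < 0}) = ∅ := by
        ext z; simp
      rw [this, Ideal.span_empty, Nat.sub_zero, ← hd]
      exact (ringKrullDim_eq_of_ringEquiv (RingEquiv.quotientBot A)).le
    | succ i ih =>
      intro hi1
      have hi : i < h := hi1
      obtain ⟨x, hxa, hht, hdim⟩ := ih hi.le
      set I : Ideal A := Ideal.span (x '' {j | j < i}) with hI
      have hIa : I ≤ a := by
        rw [hI, Ideal.span_le]; rintro _ ⟨j, hj, rfl⟩; exact (hxa j hj).1
      have hPht : ∀ P ∈ I.minimalPrimes, P.height ≤ i := by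
        intro P hP
        have hIeq : I = Ideal.span (((Finset.range i).image x : Finset A) : Set A) := by
          rw [hI]; congr 1; ext z; simp
        have := Ideal.height_le_card_of_mem_minimalPrimes_span_finset (hIeq ▸ hP)
        refine this.trans ?_
        have h2 := Finset.card_image_le (s := Finset.range i) (f := x)
        rw [Finset.card_range] at h2
        exact_mod_cast h2
      have hK : ∀ P ∈ I.minimalPrimes, ¬ P.IsMaximal → ¬ (a ⊓ Ring.jacobson A) ≤ P := by
        intro P hP hnm hle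
        haveI := hP.1.1
        rcases (Ideal.IsPrime.inf_le (hP.1.1)).mp hle with h1 | h1
        · have h2 := Ideal.height_mono h1
          rw [hh] at h2
          have := h2.trans (hPht P hP)
          have : h ≤ i := by exact_mod_cast this
          omega
        · exact not_jacobson_le_of_not_isMaximal P hnm h1
      obtain ⟨y, hyK, hy⟩ := exists_mem_avoid_nonmax (a ⊓ Ring.jacobson A) I hK
      set I' : Ideal A := Ideal.span (Function.update x i y '' {j | j < i + 1}) with hI'
      have hII' : I ≤ I' := by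
        rw [hI, Ideal.span_le]
        rintro _ ⟨j, hj, rfl⟩
        apply Ideal.subset_span
        refine ⟨j, Nat.lt_succ_of_lt hj, ?_⟩
        rw [Function.update_of_ne (Nat.ne_of_lt hj)]
      have hyI' : y ∈ I' := by
        apply Ideal.subset_span
        exact ⟨i, Nat.lt_succ_self i, Function.update_self ..⟩
      refine ⟨Function.update x i y, ?_, ?_, ?_⟩
      · intro j hj
        rcases Nat.lt_succ_iff_lt_or_eq.mp hj with hlt | heq
        · rw [Function.update_of_ne (Nat.ne_of_lt hlt)]; exact hxa j hlt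
        · rw [heq, Function.update_self]
          exact ⟨hyK.1, hyK.2⟩
      · intro P' hP'
        by_cases hmax : P'.IsMaximal
        · exact Or.inr hmax
        left
        haveI hP'prime : P'.IsPrime := hP'.1.1
        obtain ⟨P, hP, hPP'⟩ := Ideal.exists_minimalPrimes_le (I := I) (J := P')
          (hII'.trans hP'.1.2)
        haveI hPprime : P.IsPrime := hP.1.1
        have hPnm : ¬ P.IsMaximal := by
          intro hm
          have := hm.eq_of_le hP'prime.ne_top hPP'
          exact hmax (this ▸ hm)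
        have h1 : (i : ℕ∞) ≤ P.height := (hht P hP).resolve_right hPnm
        have hyP : y ∉ P := hy P hP hPnm
        have hyP' : y ∈ P' := hP'.1.2 hyI'
        have hlt : P < P' := lt_of_le_of_ne hPP' (fun heq => hyP (heq ▸ hyP'))
        have h2 := Ideal.height_strict_mono_of_isPrime hlt
        have h3 : P.height + 1 ≤ P'.height := Order.add_one_le_of_lt h2
        calc ((i + 1 : ℕ) : ℕ∞) = (i : ℕ∞) + 1 := by push_cast; rfl
          _ ≤ P.height + 1 := by gcongr
          _ ≤ P'.height := h3
      · have hdi : d - i = (d - (i + 1)) + 1 := by omega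
        rw [hdi] at hdim
        exact ringKrullDim_quotient_le_of_avoid_nonmax I I' hII' y hyI' hy (d - (i + 1)) hdim
  obtain ⟨x, hxa, hht, hdim⟩ := key h le_rfl
  have hrange : Set.range (fun k : Fin h => x k) = x '' {j | j < h} := by
    ext z
    constructor
    · rintro ⟨k, rfl⟩; exact ⟨k, k.2, rfl⟩
    · rintro ⟨j, hj, rfl⟩; exact ⟨⟨j, hj⟩, rfl⟩
  refine ⟨fun k => x k, fun k => (hxa k k.2).1, fun k => (hxa k k.2).2, ?_, ?_⟩
  · rw [hrange]
    obtain ⟨ys, hlen, hys, hys0⟩ := exists_list_jacobson_dim_le_zero (d - h) _ hdim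
    refine ⟨ys, hys, ?_, ?_⟩
    · rw [hlen, hd, show h + (d - h) = d by omega]
      rfl
    · set J := Ideal.span (x '' {j | j < h}) ⊔ Ideal.ofList ys with hJ
      haveI : Ring.KrullDimLE 0 (A ⧸ J) := Ring.krullDimLE_iff.mpr (by exact_mod_cast hys0)
      haveI : IsArtinianRing (A ⧸ J) := isArtinianRing_iff_krullDimLE_zero.mpr inferInstance
      rw [isFiniteLength_iff_isNoetherian_isArtinian]
      refine ⟨inferInstance, ?_⟩
      exact isArtinian_of_surjective_algebraMap (R := A ⧸ J) (M := A ⧸ J) (S := A)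
        Ideal.Quotient.mk_surjective
  · rw [hrange]
    set I : Ideal A := Ideal.span (x '' {j | j < h}) with hI
    have hIa : I ≤ a := by
      rw [hI, Ideal.span_le]; rintro _ ⟨j, hj, rfl⟩; exact (hxa j hj).1
    -- a minimal prime of `a` of height `h`
    haveI : Nonempty a.minimalPrimes := Ideal.nonempty_minimalPrimes ha
    obtain ⟨⟨P₀, hP₀⟩, hP₀h⟩ := ENat.exists_eq_iInf (fun J : a.minimalPrimes => (J : Ideal A).height)
    have hP₀ht : P₀.height = h := by
      rw [← hh, a.height_eq_inf_minimalPrimes, iInf_subtype']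
      exact hP₀h
    haveI hP₀prime : P₀.IsPrime := hP₀.1.1
    obtain ⟨P, hP, hPP₀⟩ := Ideal.exists_minimalPrimes_le (I := I) (J := P₀) (hIa.trans hP₀.1.2)
    haveI hPprime : P.IsPrime := hP.1.1
    have hPeq : P = P₀ := by
      rcases hht P hP with h1 | h1
      · exact Ideal.eq_of_le_of_height_le (I := P) (J := P₀) hPP₀ (by rw [hP₀ht]; exact h1)
      · exact h1.eq_of_le hP₀prime.ne_top hPP₀
    rw [hPeq] at hP
    -- pass to the quotient
    have hcm := Ideal.comap_minimalPrimes_eq_of_surjective
      (f := Ideal.Quotient.mk I) Ideal.Quotient.mk_surjective ⊥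
    rw [← RingHom.ker_eq_comap_bot, Ideal.mk_ker] at hcm
    rw [hcm] at hP
    obtain ⟨Q₀, hQ₀, hQ₀P₀⟩ := hP
    haveI : Q₀.IsPrime := hQ₀.1.1
    have hle : a.map (Ideal.Quotient.mk I) ≤ Q₀ := by
      rw [Ideal.map_le_iff_le_comap, hQ₀P₀]; exact hP₀.1.2
    have h0 : Q₀.height = 0 := Ideal.height_eq_zero_iff.mpr hQ₀
    exact le_antisymm (h0 ▸ Ideal.height_mono hle) zero_le

end Groth.Agent.Lib.Helper22.SOP
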