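import Mathlib
import Groth.Agent.Lib.Helper22FinrankTowerB
import Groth.Agent.Lib.Helper20FinrankAdd

/-!
# Splitting a finite étale cover of degree `n` by a finite étale cover of degree `n!` (helper22)

A strengthening of helper20's `exists_split` / `split_of_finite_etale`: the splitting cover is
finite étale of constant degree `n!` (uses the tower formula `finrank_comp`).
-/

set_option autoImplicit false
set_option linter.style.haveILetI false
set_option linter.unusedSectionVars false
set_option linter.unusedVariables false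
universe u
open CategoryTheory CategoryTheory.Limits AlgebraicGeometry

namespace Groth.Agent.Lib.Helper22.SplitDeg

open Groth.Agent.Lib.Helper20.FinrankAdd Groth.Agent.Lib.Helper22.FinrankTower

instance : MorphismProperty.HasOfPostcompProperty @IsOpenImmersion
    (@LocallyOfFiniteType ⊓ @FormallyUnramified) := by
  rw [MorphismProperty.hasOfPostcompProperty_iff_le_diagonal]
  intro X Y f ⟨hft, hfu⟩
  exact inferInstanceAs <| IsOpenImmersion (pullback.diagonal f)

/-- A finite étale morphism of constant rank `n` acquires, after a finite étale surjective base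
change of constant degree `n!`, `n` sections with pairwise empty equalizers. -/
theorem exists_split_deg : ∀ (n : ℕ) {X S : Scheme.{u}} (φ : X ⟶ S) [IsFinite φ] [Etale φ]
    (_ : ∀ s, Scheme.Hom.finrank φ s = n),
    ∃ (Y : Scheme.{u}) (ψ : Y ⟶ S) (t : Fin n → (Y ⟶ X)), IsFinite ψ ∧ Etale ψ ∧
      (∀ s, Scheme.Hom.finrank ψ s = n.factorial) ∧ Surjective ψ ∧ (∀ i, t i ≫ φ = ψ) ∧
      ∀ i j, i < j → ∀ (W : Scheme.{u}) (c : W ⟶ Y), c ≫ t i = c ≫ t j → IsEmpty W := by
  intro n
  induction n with
  | zero =>
    intro X S φ _ _ _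
    refine ⟨S, 𝟙 S, fun i => i.elim0, inferInstance, inferInstance, fun s => ?_, inferInstance,
      fun i => i.elim0, fun i => i.elim0⟩
    rw [Scheme.Hom.finrank_eq_one_of_isIso]
    rfl
  | succ n ih =>
    intro X S φ _ _ hrk
    have hsurj : Surjective φ := by
      rw [← Scheme.Hom.one_le_finrank_iff_surjective]
      intro s
      rw [hrk]
      simp
    have hoiΔ : IsOpenImmersion (pullback.diagonal φ) := inferInstance
    have hciΔ : IsClosedImmersion (pullback.diagonal φ) := inferInstance
    let Z := complOpens (pullback.diagonal φ)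
    have hc := isCompl_complOpens (pullback.diagonal φ)
    have hci' : IsClosedImmersion Z.ι := isClosedImmersion_of_isCompl Z.ι _ hc.symm
    let p₁ : Z.toScheme ⟶ X := Z.ι ≫ pullback.fst φ φ
    have hadd := finrank_eq_add_of_isCompl (pullback.fst φ φ) (pullback.diagonal φ) Z.ι hc
    have hrk' : ∀ x, Scheme.Hom.finrank p₁ x = n := by
      intro x
      have h1 := congrFun hadd x
      rw [Pi.add_apply, Scheme.Hom.finrank_pullback_fst, hrk, pullback.diagonal_fst,
        Scheme.Hom.finrank_eq_one_of_isIso] at h1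
      simp only [Pi.one_apply] at h1
      change Scheme.Hom.finrank (Z.ι ≫ pullback.fst φ φ) x = n
      omega
    obtain ⟨Y, ψ', t', i1, i2, i3, i4, ht', hN'⟩ := ih p₁ hrk'
    refine ⟨Y, ψ' ≫ φ, Fin.cons ψ' (fun i => t' i ≫ Z.ι ≫ pullback.snd φ φ), inferInstance,
      inferInstance, fun s => ?_, inferInstance, ?_, ?_⟩
    · rw [finrank_comp ψ' φ n.factorial i3 s, hrk, Nat.factorial_succ, mul_comm]
    · intro i
      refine Fin.cases ?_ (fun i => ?_) i
      · rw [Fin.cons_zero]
      · rw [Fin.cons_succ, Category.assoc, Category.assoc, ← pullback.condition, ← ht' i]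
        simp only [p₁, Category.assoc]
    · intro i j hij W c hc'
      revert hij hc'
      refine Fin.cases ?_ (fun i => ?_) i <;> refine Fin.cases ?_ (fun j => ?_) j
      · intro hij; exact absurd hij (lt_irrefl _)
      · intro _ hc'
        rw [Fin.cons_zero, Fin.cons_succ] at hc'
        have hm : (c ≫ t' j ≫ Z.ι) = (c ≫ ψ') ≫ pullback.diagonal φ := by
          apply pullback.hom_ext
          · rw [Category.assoc, Category.assoc, Category.assoc, pullback.diagonal_fst,
              Category.comp_id, ← ht' j]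
          · rw [Category.assoc, Category.assoc, Category.assoc, pullback.diagonal_snd,
              Category.comp_id, hc']
        refine ⟨fun w => ?_⟩
        have h1 : (c ≫ t' j ≫ Z.ι) w ∈ Set.range (pullback.diagonal φ) := by
          rw [hm]; exact ⟨(c ≫ ψ') w, rfl⟩
        have h2 : (c ≫ t' j ≫ Z.ι) w ∈ (Set.range (pullback.diagonal φ))ᶜ :=
          ((c ≫ t' j) w).2
        exact h2 h1
      · intro hij; exact absurd hij (Fin.not_lt_zero _)
      · intro hij hc'
        rw [Fin.cons_succ, Fin.cons_succ] at hc'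
        have hm : (c ≫ t' i) ≫ Z.ι = (c ≫ t' j) ≫ Z.ι := by
          apply pullback.hom_ext
          · have e1 := ht' i
            have e2 := ht' j
            simp only [p₁] at e1 e2
            rw [Category.assoc, Category.assoc, Category.assoc, Category.assoc, e1, e2]
          · simpa only [Category.assoc] using hc'
        exact hN' i j (Fin.succ_lt_succ_iff.mp hij) W c ((cancel_mono Z.ι).mp hm)

/-- A finite étale morphism of constant rank `n` is split by a finite étale surjective cover of
constant degree `n!`. -/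
theorem split_of_finite_etale_deg {X S : Scheme.{u}} (φ : X ⟶ S) [IsFinite φ] [Etale φ] (n : ℕ)
    (hrk : ∀ s, Scheme.Hom.finrank φ s = n) :
    ∃ (Y : Scheme.{u}) (ψ : Y ⟶ S), IsFinite ψ ∧ Etale ψ ∧
      (∀ s, Scheme.Hom.finrank ψ s = n.factorial) ∧ Surjective ψ ∧
      ∃ (e : Limits.pullback φ ψ ≅ ∐ fun _ : Fin n => Y),
        ∀ i : Fin n, Limits.Sigma.ι (fun _ : Fin n => Y) i ≫ e.inv ≫ Limits.pullback.snd φ ψ = 𝟙 Y := by
  obtain ⟨Y, ψ, t, i1, i2, i3, i4, ht, hN⟩ := exists_split_deg n φ hrk
  refine ⟨Y, ψ, i1, i2, i3, i4, ?_⟩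
  let q := pullback.snd φ ψ
  let s : Fin n → (Y ⟶ pullback φ ψ) := fun i =>
    pullback.lift (t i) (𝟙 Y) (by rw [ht i, Category.id_comp])
  have hs : ∀ i, s i ≫ q = 𝟙 Y := fun i => pullback.lift_snd _ _ _
  have hst : ∀ i, s i ≫ pullback.fst φ ψ = t i := fun i => pullback.lift_fst _ _ _
  have hq1 : Etale q := inferInstance
  have hoi : ∀ i, IsOpenImmersion (s i) := fun i => by
    apply MorphismProperty.of_postcomp (W := @IsOpenImmersion)
      (W' := @LocallyOfFiniteType ⊓ @FormallyUnramified) (s i) q ⟨inferInstance, inferInstance⟩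
    rw [hs i]; infer_instance
  have hdisj_lt : ∀ i j, i < j → Disjoint (Set.range (s i)) (Set.range (s j)) := by
    intro i j hij
    rw [Set.disjoint_iff_forall_ne]
    rintro _ ⟨a, rfl⟩ _ ⟨b, rfl⟩ hab
    obtain ⟨w, -, -⟩ := Scheme.Pullback.exists_preimage_pullback (f := s i) (g := s j) a b hab
    have hfs : pullback.fst (s i) (s j) = pullback.snd (s i) (s j) := by
      have h1 := pullback.condition (f := s i) (g := s j)
      have h2 := congrArg (· ≫ q) h1
      simp only [Category.assoc, hs, Category.comp_id] at h2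
      exact h2
    have hc : pullback.fst (s i) (s j) ≫ t i = pullback.fst (s i) (s j) ≫ t j := by
      rw [← hst i, ← hst j, ← Category.assoc, ← Category.assoc, pullback.condition, hfs]
    exact (hN i j hij _ _ hc).false w
  have hdisj : ∀ i j, i ≠ j → Disjoint (Set.range (s i)) (Set.range (s j)) := by
    intro i j hij
    rcases lt_or_gt_of_ne hij with h | h
    · exact hdisj_lt i j h
    · exact (hdisj_lt j i h).symm
  have hrkq : ∀ y, Scheme.Hom.finrank q y = n := fun y => by
    rw [Scheme.Hom.finrank_pullback_snd, hrk]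
  have hcov := sections_cover n q hrkq s hs hoi hdisj
  have hoiσ : IsOpenImmersion (Sigma.desc s) :=
    isOpenImmersion_sigmaDesc _ s (fun i j hij => hdisj i j hij)
  have hiso : IsIso (Sigma.desc s) := by
    apply isIso_of_isOpenImmersion_of_opensRange_eq_top
    rw [eq_top_iff]
    intro z _
    obtain ⟨i, y, hy⟩ := hcov z
    exact ⟨Sigma.ι (fun _ : Fin n => Y) i y, by
      rw [← Scheme.Hom.comp_apply, Sigma.ι_desc, hy]⟩
  refine ⟨(asIso (Sigma.desc s)).symm, fun i => ?_⟩
  change Sigma.ι (fun _ : Fin n => Y) i ≫ Sigma.desc s ≫ q = 𝟙 Y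
  rw [← Category.assoc, Sigma.ι_desc, hs]

end Groth.Agent.Lib.Helper22.SplitDeg
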