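import Mathlib
import Groth.Agent.Lib.Helper22SplitDeg
import Groth.Agent.Lib.Helper20FEtFaith

/-!
# Counting sections of a finite étale cover over a connected base (helper22)

For `f : X ⟶ Y` finite étale of constant rank `n` and `φ : X' ⟶ Y` with `X'` nonempty connected,
the set of `Y`-morphisms `X' ⟶ X` is finite of cardinality `≤ n`, with equality iff the pulled-back
cover `X ×_Y X' ⟶ X'` is trivial.
-/

set_option autoImplicit false
set_option linter.style.haveILetI false
set_option linter.unusedSectionVars false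
set_option linter.unusedVariables false
universe u
open CategoryTheory CategoryTheory.Limits AlgebraicGeometry

namespace Groth.Agent.Lib.Helper22.SecCount

open Groth.Agent.Lib.Helper20.FinrankAdd Groth.Agent.Lib.Helper22.FinrankTower
open Groth.Agent.Lib.Helper22.SplitDeg

/-- `k` pairwise disjoint open-immersion sections of a finite flat morphism of constant rank `n`
over a nonempty base force `k ≤ n`. -/
theorem card_sections_le : ∀ (k n : ℕ) {Q Y : Scheme.{u}} [Nonempty Y] (q : Q ⟶ Y) [Flat q]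
    [IsFinite q] (_ : ∀ y, Scheme.Hom.finrank q y = n) (s : Fin k → (Y ⟶ Q))
    (_ : ∀ i, s i ≫ q = 𝟙 Y) (_ : ∀ i, IsOpenImmersion (s i))
    (_ : ∀ i j, i ≠ j → Disjoint (Set.range (s i)) (Set.range (s j))), k ≤ n := by
  intro k
  induction k with
  | zero => intros; exact Nat.zero_le _
  | succ k ih =>
    intro n Q Y _ q _ _ hrk s hs hoi hdisj
    have : IsOpenImmersion (s 0) := hoi 0
    have hsep : IsSeparated q := inferInstance
    have hci : IsClosedImmersion (s 0) := by
      apply MorphismProperty.of_postcomp (W := @IsClosedImmersion) (W' := @IsSeparated) (s 0) q hsep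
      rw [hs 0]; infer_instance
    let Q' := complOpens (s 0)
    have hc := isCompl_complOpens (s 0)
    have hci' : IsClosedImmersion Q'.ι := isClosedImmersion_of_isCompl Q'.ι (s 0) hc.symm
    have hadd := finrank_eq_add_of_isCompl q (s 0) Q'.ι hc
    have hrk' : ∀ y, Scheme.Hom.finrank (Q'.ι ≫ q) y = n - 1 := by
      intro y
      have h1 := congrFun hadd y
      rw [Pi.add_apply, hrk, hs 0, Scheme.Hom.finrank_eq_one_of_isIso] at h1
      simp only [Pi.one_apply] at h1
      omega
    have hn1 : 1 ≤ n := by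
      obtain ⟨y⟩ := ‹Nonempty Y›
      have h1 := congrFun hadd y
      rw [Pi.add_apply, hrk, hs 0, Scheme.Hom.finrank_eq_one_of_isIso] at h1
      simp only [Pi.one_apply] at h1
      omega
    have hrange : ∀ i : Fin k, Set.range (s i.succ) ⊆ Set.range Q'.ι := by
      intro i
      rw [Scheme.Opens.range_ι]
      intro x hx
      change x ∈ (Set.range (s 0))ᶜ
      intro hx0
      exact Set.disjoint_iff_forall_ne.mp (hdisj i.succ 0 (Fin.succ_ne_zero i)) hx hx0 rfl
    let s' : Fin k → (Y ⟶ Q'.toScheme) := fun i => IsOpenImmersion.lift Q'.ι (s i.succ) (hrange i)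
    have hs' : ∀ i, s' i ≫ Q'.ι = s i.succ := fun i => IsOpenImmersion.lift_fac _ _ _
    have h1 : ∀ i, s' i ≫ (Q'.ι ≫ q) = 𝟙 Y := fun i => by
      rw [← Category.assoc, hs', hs]
    have h2 : ∀ i, IsOpenImmersion (s' i) := fun i => by
      have : IsOpenImmersion (s' i ≫ Q'.ι) := by rw [hs']; exact hoi _
      exact IsOpenImmersion.of_comp (s' i) Q'.ι
    have h3 : ∀ i j, i ≠ j → Disjoint (Set.range (s' i)) (Set.range (s' j)) := by
      intro i j hij
      rw [Set.disjoint_iff_forall_ne]
      rintro _ ⟨a, rfl⟩ _ ⟨b, rfl⟩ hab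
      have : s i.succ a = s j.succ b := by
        rw [← hs', ← hs', Scheme.Hom.comp_apply, Scheme.Hom.comp_apply, hab]
      exact Set.disjoint_iff_forall_ne.mp (hdisj i.succ j.succ (fun h => hij (Fin.succ_injective _ h)))
        ⟨a, rfl⟩ ⟨b, rfl⟩ this
    have := ih (n - 1) (Q'.ι ≫ q) hrk' s' h1 h2 h3
    omega

/-- Two distinct sections of a finite étale morphism over a connected base have disjoint ranges. -/
theorem disjoint_of_ne {Q Y : Scheme.{u}} [ConnectedSpace Y] (q : Q ⟶ Y) [IsFinite q] [Etale q]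
    (s₁ s₂ : Y ⟶ Q) (h₁ : s₁ ≫ q = 𝟙 Y) (h₂ : s₂ ≫ q = 𝟙 Y) (hne : s₁ ≠ s₂) :
    Disjoint (Set.range s₁) (Set.range s₂) := by
  obtain ⟨C, hC, hC1, hC2⟩ :=
    Groth.Agent.Lib.Helper20.FEtFaith.exists_isClopen_agree (𝟙 Y) q s₁ s₂ h₁ h₂
  have hCe : C = ∅ := by
    rcases isClopen_iff.mp hC with h | h
    · exact h
    · exact absurd (hC2 h) hne
  rw [Set.disjoint_iff_forall_ne]
  rintro _ ⟨a, rfl⟩ _ ⟨b, rfl⟩ hab
  obtain ⟨w, hw1, -⟩ := Scheme.Pullback.exists_preimage_pullback (f := s₁) (g := s₂) a b hab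
  have hfs : pullback.fst s₁ s₂ = pullback.snd s₁ s₂ := by
    have e1 := pullback.condition (f := s₁) (g := s₂)
    have e2 := congrArg (· ≫ q) e1
    simp only [Category.assoc, h₁, h₂, Category.comp_id] at e2
    exact e2
  have hc : pullback.fst s₁ s₂ ≫ s₁ = pullback.fst s₁ s₂ ≫ s₂ := by
    rw [pullback.condition, hfs]
  have := hC1 (pullback.fst s₁ s₂) hc ⟨w, rfl⟩
  rw [hCe] at this
  exact this

variable {X Y X' : Scheme.{u}} (f : X ⟶ Y) (φ : X' ⟶ Y)

/-- The section of `X ×_Y X' ⟶ X'` attached to a `Y`-morphism `X' ⟶ X`. -/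
noncomputable def secOf (h : Over.mk φ ⟶ Over.mk f) : X' ⟶ pullback f φ :=
  pullback.lift h.left (𝟙 X') (by
    have := Over.w h
    simp only [Over.mk_hom] at this
    rw [this, Category.id_comp])

theorem secOf_snd (h : Over.mk φ ⟶ Over.mk f) : secOf f φ h ≫ pullback.snd f φ = 𝟙 X' :=
  pullback.lift_snd _ _ _

theorem secOf_fst (h : Over.mk φ ⟶ Over.mk f) : secOf f φ h ≫ pullback.fst f φ = h.left :=
  pullback.lift_fst _ _ _

theorem secOf_injective : Function.Injective (secOf f φ) := by
  intro h₁ h₂ h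
  apply Over.OverMorphism.ext
  rw [← secOf_fst f φ h₁, ← secOf_fst f φ h₂, h]

theorem isOpenImmersion_of_section {Q Y : Scheme.{u}} (q : Q ⟶ Y) [Etale q] (s : Y ⟶ Q)
    (hs : s ≫ q = 𝟙 Y) : IsOpenImmersion s := by
  apply MorphismProperty.of_postcomp (W := @IsOpenImmersion)
    (W' := @LocallyOfFiniteType ⊓ @FormallyUnramified) s q ⟨inferInstance, inferInstance⟩
  rw [hs]; infer_instance

/-- Any injective finite family of `Y`-morphisms `X' ⟶ X` has at most `n` members. -/
theorem le_of_injective [IsFinite f] [Etale f] (n : ℕ)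
    (hrk : ∀ y, Scheme.Hom.finrank f y = n) [Nonempty X'] [ConnectedSpace X'] (k : ℕ)
    (h : Fin k → (Over.mk φ ⟶ Over.mk f)) (hinj : Function.Injective h) : k ≤ n := by
  have hrkq : ∀ y, Scheme.Hom.finrank (pullback.snd f φ) y = n := fun y => by
    rw [Scheme.Hom.finrank_pullback_snd, hrk]
  refine card_sections_le k n (pullback.snd f φ) hrkq (fun i => secOf f φ (h i))
    (fun i => secOf_snd f φ _) (fun i => isOpenImmersion_of_section _ _ (secOf_snd f φ _)) ?_
  intro i j hij
  exact disjoint_of_ne (pullback.snd f φ) _ _ (secOf_snd f φ _) (secOf_snd f φ _)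
    (fun e => hij (hinj (secOf_injective f φ e)))

theorem main [IsFinite f] [Etale f] (n : ℕ)
    (hrk : ∀ y, Scheme.Hom.finrank f y = n) [Nonempty X'] [ConnectedSpace X'] :
    Finite (Over.mk φ ⟶ Over.mk f) ∧ Nat.card (Over.mk φ ⟶ Over.mk f) ≤ n ∧
      (Nat.card (Over.mk φ ⟶ Over.mk f) = n ↔
        ∃ e : pullback f φ ≅ ∐ fun _ : Fin n => X',
          e.hom ≫ Sigma.desc (fun _ : Fin n => 𝟙 X') = pullback.snd f φ) := by
  have hfin : Finite (Over.mk φ ⟶ Over.mk f) := by
    by_contra hinf
    rw [not_finite_iff_infinite] at hinf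
    let em := Infinite.natEmbedding (Over.mk φ ⟶ Over.mk f)
    have := le_of_injective f φ n hrk (n + 1) (fun i => em i.val)
      (fun i j hij => Fin.ext (em.injective hij))
    omega
  have hle : Nat.card (Over.mk φ ⟶ Over.mk f) ≤ n := by
    let eq := Finite.equivFin (Over.mk φ ⟶ Over.mk f)
    exact le_of_injective f φ n hrk _ (fun i => eq.symm i) eq.symm.injective
  refine ⟨hfin, hle, ⟨fun hcard => ?_, fun ⟨e, he⟩ => ?_⟩⟩
  · let eq : (Over.mk φ ⟶ Over.mk f) ≃ Fin n :=
      (Finite.equivFin (Over.mk φ ⟶ Over.mk f)).trans (finCongr hcard)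
    let q := pullback.snd f φ
    let s : Fin n → (X' ⟶ pullback f φ) := fun i => secOf f φ (eq.symm i)
    have hs : ∀ i, s i ≫ q = 𝟙 X' := fun i => secOf_snd f φ _
    have hoi : ∀ i, IsOpenImmersion (s i) := fun i => isOpenImmersion_of_section q _ (hs i)
    have hdisj : ∀ i j, i ≠ j → Disjoint (Set.range (s i)) (Set.range (s j)) := by
      intro i j hij
      exact disjoint_of_ne q _ _ (hs i) (hs j)
        (fun e => hij (eq.symm.injective (secOf_injective f φ e)))
    have hrkq : ∀ y, Scheme.Hom.finrank q y = n := fun y => by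
      rw [Scheme.Hom.finrank_pullback_snd, hrk]
    have hcov := sections_cover n q hrkq s hs hoi hdisj
    have hoiσ : IsOpenImmersion (Sigma.desc s) :=
      isOpenImmersion_sigmaDesc _ s (fun i j hij => hdisj i j hij)
    have hiso : IsIso (Sigma.desc s) := by
      apply isIso_of_isOpenImmersion_of_opensRange_eq_top
      rw [eq_top_iff]
      intro z _
      obtain ⟨i, y, hy⟩ := hcov z
      exact ⟨Sigma.ι (fun _ : Fin n => X') i y, by
        rw [← Scheme.Hom.comp_apply, Sigma.ι_desc, hy]⟩
    refine ⟨(asIso (Sigma.desc s)).symm, ?_⟩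
    change inv (Sigma.desc s) ≫ Sigma.desc (fun _ : Fin n => 𝟙 X') = q
    rw [IsIso.inv_comp_eq]
    apply Sigma.hom_ext
    intro i
    rw [Sigma.ι_desc, ← Category.assoc, Sigma.ι_desc, hs]
  · apply le_antisymm hle
    let σ : Fin n → (X' ⟶ pullback f φ) := fun i => Sigma.ι (fun _ : Fin n => X') i ≫ e.inv
    have hσ : ∀ i, σ i ≫ pullback.snd f φ = 𝟙 X' := fun i => by
      change (Sigma.ι (fun _ : Fin n => X') i ≫ e.inv) ≫ pullback.snd f φ = 𝟙 X'
      rw [← he, Category.assoc, Iso.inv_hom_id_assoc, Sigma.ι_desc]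
    let h : Fin n → (Over.mk φ ⟶ Over.mk f) := fun i =>
      Over.homMk (σ i ≫ pullback.fst f φ) (by
        change (σ i ≫ pullback.fst f φ) ≫ f = φ
        rw [Category.assoc, pullback.condition, ← Category.assoc, hσ, Category.id_comp])
    have hinj : Function.Injective h := by
      intro i j hij
      have h1 : σ i ≫ pullback.fst f φ = σ j ≫ pullback.fst f φ := congrArg (fun t => t.left) hij
      have h2 : σ i = σ j := by
        apply pullback.hom_ext h1
        rw [hσ, hσ]
      have h3 : Sigma.ι (fun _ : Fin n => X') i = Sigma.ι (fun _ : Fin n => X') j := by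
        have := congrArg (· ≫ e.hom) h2
        simpa only [σ, Category.assoc, Iso.inv_hom_id, Category.comp_id] using this
      by_contra hne
      obtain ⟨x⟩ := ‹Nonempty X'›
      have hd := disjoint_opensRange_sigmaι (fun _ : Fin n => X') i j hne
      have hx1 : Sigma.ι (fun _ : Fin n => X') i x ∈
          (Sigma.ι (fun _ : Fin n => X') i).opensRange := ⟨x, rfl⟩
      have hx2 : Sigma.ι (fun _ : Fin n => X') i x ∈
          (Sigma.ι (fun _ : Fin n => X') j).opensRange := ⟨x, by rw [h3]⟩
      have hmem : Sigma.ι (fun _ : Fin n => X') i x ∈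
          (Sigma.ι (fun _ : Fin n => X') i).opensRange ⊓
            (Sigma.ι (fun _ : Fin n => X') j).opensRange := ⟨hx1, hx2⟩
      rw [disjoint_iff.mp hd] at hmem
      exact hmem
    have := Nat.card_le_card_of_injective h hinj
    simpa using this

end Groth.Agent.Lib.Helper22.SecCount
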