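import Mathlib
import Groth.Prelude.Def_W4c2movlemaddchowShuffle
set_option autoImplicit false

namespace Groth.Agent.Lib.Helper22.Shuffle

open W4c2movlemaddchow Equiv

theorem extRight_castAdd (a t : ℕ) (σ : Perm (Fin a)) (i : Fin a) :
    extRight a t σ (Fin.castAdd t i) = Fin.castAdd t (σ i) := by
  simp [extRight, Equiv.permCongr_apply]

theorem extRight_natAdd (a t : ℕ) (σ : Perm (Fin a)) (l : Fin t) :
    extRight a t σ (Fin.natAdd a l) = Fin.natAdd a l := by
  simp [extRight, Equiv.permCongr_apply]

theorem extRight_mul (a t : ℕ) (σ ρ : Perm (Fin a)) :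
    extRight a t (σ * ρ) = extRight a t σ * extRight a t ρ := by
  ext x
  refine Fin.addCases (fun i => ?_) (fun l => ?_) x
  · simp [extRight_castAdd]
  · simp [extRight_natAdd]

theorem extRight_one (a t : ℕ) : extRight a t (1 : Perm (Fin a)) = 1 := by
  ext x
  refine Fin.addCases (fun i => ?_) (fun l => ?_) x
  · simp [extRight_castAdd]
  · simp [extRight_natAdd]

theorem extRight_injective (a t : ℕ) : Function.Injective (extRight a t) := by
  intro σ ρ h
  ext i
  have := congrArg (fun f => f (Fin.castAdd t i)) h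
  simp only [extRight_castAdd] at this
  exact congrArg Fin.val (Fin.castAdd_injective _ _ this)

theorem sign_extRight (a t : ℕ) (σ : Perm (Fin a)) :
    Equiv.Perm.sign (extRight a t σ) = Equiv.Perm.sign σ := by
  simp [extRight]

/-- the block embedding of the last `s+t` letters -/
def eL (r s t : ℕ) (j : Fin (s + t)) : Fin (r + s + t) :=
  (finCongr (Nat.add_assoc r s t)).symm (Fin.natAdd r j)

theorem eL_injective (r s t : ℕ) : Function.Injective (eL r s t) := by
  intro x y h
  have := (finCongr (Nat.add_assoc r s t)).symm.injective h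
  exact Fin.natAdd_injective _ _ this

theorem eL_val (r s t : ℕ) (j : Fin (s + t)) : ((eL r s t j : Fin (r + s + t)) : ℕ) = r + j := by
  simp [eL]

theorem eL_le_iff (r s t : ℕ) (x y : Fin (s + t)) : eL r s t x ≤ eL r s t y ↔ x ≤ y := by
  rw [Fin.le_def, Fin.le_def, eL_val, eL_val]
  omega

theorem eL_castAdd (r s t : ℕ) (j : Fin s) :
    eL r s t (Fin.castAdd t j) = Fin.castAdd t (Fin.natAdd r j) := by
  ext; simp [eL]

theorem eL_natAdd (r s t : ℕ) (l : Fin t) :
    eL r s t (Fin.natAdd s l) = Fin.natAdd (r + s) l := by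
  ext; simp [eL]; omega

theorem extLeft_eL (r s t : ℕ) (σ : Perm (Fin (s + t))) (j : Fin (s + t)) :
    extLeft r s t σ (eL r s t j) = eL r s t (σ j) := by
  simp [extLeft, eL, Equiv.permCongr_apply]

theorem extLeft_left (r s t : ℕ) (σ : Perm (Fin (s + t))) (i : Fin r) :
    extLeft r s t σ (Fin.castAdd t (Fin.castAdd s i)) = Fin.castAdd t (Fin.castAdd s i) := by
  have h : (Fin.castAdd t (Fin.castAdd s i) : Fin (r + s + t))
      = (finCongr (Nat.add_assoc r s t)).symm (Fin.castAdd (s + t) i) := by
    ext; simp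
  rw [h]
  simp [extLeft, Equiv.permCongr_apply]

theorem cases_left_eL (r s t : ℕ) {motive : Fin (r + s + t) → Prop}
    (h1 : ∀ i : Fin r, motive (Fin.castAdd t (Fin.castAdd s i)))
    (h2 : ∀ j : Fin (s + t), motive (eL r s t j)) (x : Fin (r + s + t)) : motive x := by
  have hx : x = (finCongr (Nat.add_assoc r s t)).symm ((finCongr (Nat.add_assoc r s t)) x) := by simp
  rw [hx]
  refine Fin.addCases (fun i => ?_) (fun j => ?_) ((finCongr (Nat.add_assoc r s t)) x)
  · have h : (finCongr (Nat.add_assoc r s t)).symm (Fin.castAdd (s + t) i)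
        = (Fin.castAdd t (Fin.castAdd s i) : Fin (r + s + t)) := by
      ext; simp
    rw [h]; exact h1 i
  · exact h2 j

theorem extLeft_mul (r s t : ℕ) (σ ρ : Perm (Fin (s + t))) :
    extLeft r s t (σ * ρ) = extLeft r s t σ * extLeft r s t ρ := by
  refine Equiv.ext fun x => ?_
  refine cases_left_eL r s t (motive := fun x => (extLeft r s t (σ * ρ)) x
    = (extLeft r s t σ * extLeft r s t ρ) x) (fun i => ?_) (fun j => ?_) x
  · simp [extLeft_left]
  · simp [extLeft_eL]

theorem extLeft_one (r s t : ℕ) : extLeft r s t (1 : Perm (Fin (s + t))) = 1 := by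
  refine Equiv.ext fun x => ?_
  refine cases_left_eL r s t (motive := fun x => (extLeft r s t 1) x
    = (1 : Perm (Fin (r + s + t))) x) (fun i => ?_) (fun j => ?_) x
  · simp [extLeft_left]
  · simp [extLeft_eL]

theorem sign_extLeft (r s t : ℕ) (σ : Perm (Fin (s + t))) :
    Equiv.Perm.sign (extLeft r s t σ) = Equiv.Perm.sign σ := by
  simp [extLeft]

/-- sorting lemma: inverse of the sorting permutation is monotone along `g` -/
theorem sort_inv_mono {a : ℕ} {α : Type*} [LinearOrder α] (g : Fin a → α)
    (hg : Function.Injective g) {x y : Fin a} (h : g x ≤ g y) :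
    (Tuple.sort g)⁻¹ x ≤ (Tuple.sort g)⁻¹ y := by
  by_contra hlt
  push_neg at hlt
  have hm := Tuple.monotone_sort g hlt.le
  simp only [Function.comp_apply, Equiv.Perm.inv_def, Equiv.apply_symm_apply] at hm
  have hxy : g x = g y := le_antisymm h hm
  have := hg hxy
  subst this
  exact lt_irrefl _ hlt

theorem eq_sort_of_monotone {a : ℕ} {α : Type*} [LinearOrder α] (g : Fin a → α)
    (hg : Function.Injective g) (σ : Perm (Fin a)) (h : Monotone (g ∘ σ)) :
    σ = Tuple.sort g := by
  rw [Tuple.eq_sort_iff]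
  refine ⟨h, fun i j hij hfij => ?_⟩
  have := σ.injective (hg hfij)
  exact absurd this hij.ne

end Groth.Agent.Lib.Helper22.Shuffle
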