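import Mathlib
import Groth.Agent.Lib.Helper22SigmaLin
import Groth.Agent.Lib.Helper22SigmaRing
import Groth.Agent.Lib.Helper14InvLim

/-!
# Helper22: semilinear maps on complete modules (lifting fixed bases), application to `W(k)`
-/

set_option autoImplicit false
universe u v
open IsLocalRing

namespace Groth.Agent.Lib.Helper22.SigmaComplete

open Groth.Agent.Lib.Helper22

section FrobPow
open Polynomial
variable {k : Type u} [Field k] (p : ℕ) [Fact p.Prime] [CharP k p]

theorem frobPow_iterate (ν j : ℕ) (x : k) :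
    (⇑((frobenius k p) ^ ν))^[j] x = x ^ (p ^ (ν * j)) := by
  rw [RingHom.coe_pow, ← Function.iterate_mul, iterate_frobenius]

variable [IsAlgClosed k]

theorem frobPow_h3 (ν : ℕ) (hν : 1 ≤ ν) (c : k) :
    ∃ y : k, ((frobenius k p) ^ ν) y - y + c = 0 := by
  have hp2 : 2 ≤ p := (Fact.out : p.Prime).two_le
  have hq2 : 2 ≤ p ^ ν := by
    calc 2 ≤ p ^ 1 := by rw [pow_one]; exact hp2
      _ ≤ p ^ ν := Nat.pow_le_pow_right (by omega) hν
  have hdeg : (X ^ (p ^ ν) - (X - C c) : k[X]).degree ≠ 0 := by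
    rw [degree_sub_eq_left_of_degree_lt]
    · rw [degree_X_pow]; exact_mod_cast (by omega : p ^ ν ≠ 0)
    · rw [degree_X_pow]
      calc (X - C c : k[X]).degree ≤ 1 := by
            refine le_trans (degree_sub_le _ _) (max_le degree_X_le ?_)
            exact le_trans degree_C_le (by norm_num)
        _ < ((p ^ ν : ℕ) : WithBot ℕ) := by exact_mod_cast (by omega : 1 < p ^ ν)
  obtain ⟨z, hz⟩ := IsAlgClosed.exists_root _ hdeg
  rw [IsRoot.def, eval_sub, eval_pow, eval_X, eval_sub, eval_X, eval_C] at hz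
  refine ⟨z, ?_⟩
  have h1 := frobPow_iterate p ν 1 z
  rw [Function.iterate_one, mul_one] at h1
  rw [h1]
  linear_combination hz

theorem frobPow_h2 (ν : ℕ) (hν : 1 ≤ ν) (n : ℕ) (b : Fin (n + 1) → k) (hb : b ≠ 0) :
    ∃ x : k, x ≠ 0 ∧ x = ∑ i : Fin (n + 1),
      (⇑((frobenius k p) ^ ν))^[i.val + 1] x * (⇑((frobenius k p) ^ ν))^[i.val] (b (Fin.rev i)) := by
  have hp2 : 2 ≤ p := (Fact.out : p.Prime).two_le
  have hpow_inj : ∀ a b : ℕ, p ^ a = p ^ b → a = b := fun a b h => Nat.pow_right_injective hp2 h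
  have hν0 : 0 < ν := hν
  obtain ⟨j0, hj0⟩ : ∃ j, b j ≠ 0 := by
    by_contra h
    push Not at h
    exact hb (funext h)
  let P : k[X] := ∑ i : Fin (n + 1),
    C ((b (Fin.rev i)) ^ (p ^ (ν * i.val))) * X ^ (p ^ (ν * (i.val + 1))) - X
  have hcoeff_one : P.coeff (p ^ 0) = -1 := by
    simp only [P, coeff_sub, finsetSum_coeff, coeff_C_mul, coeff_X_pow, pow_zero, coeff_X_one]
    rw [Finset.sum_eq_zero, zero_sub]
    intro j _
    rw [if_neg, mul_zero]
    intro h
    have := hpow_inj 0 (ν * (j.val + 1)) (by rw [pow_zero]; exact h)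
    have h2 : 0 < ν * (j.val + 1) := Nat.mul_pos hν0 (Nat.succ_pos _)
    omega
  have hcoeff_j0 : P.coeff (p ^ (ν * ((Fin.rev j0).val + 1))) =
      (b j0) ^ (p ^ (ν * (Fin.rev j0).val)) := by
    simp only [P, coeff_sub, finsetSum_coeff, coeff_C_mul, coeff_X_pow]
    rw [coeff_X, if_neg (fun h => by
      have := hpow_inj 0 (ν * ((Fin.rev j0).val + 1)) (by rw [pow_zero]; exact h)
      have h2 : 0 < ν * ((Fin.rev j0).val + 1) := Nat.mul_pos hν0 (Nat.succ_pos _)
      omega), sub_zero, Finset.sum_eq_single (Fin.rev j0)]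
    · rw [if_pos rfl, mul_one, Fin.rev_rev]
    · intro j _ hj
      rw [if_neg, mul_zero]
      intro h
      have := hpow_inj _ _ h
      have h3 := Nat.eq_of_mul_eq_mul_left hν0 this
      exact hj (Fin.ext (by omega))
    · intro h; exact absurd (Finset.mem_univ _) h
  obtain ⟨x, hx0, hx⟩ := SigmaLin.exists_ne_zero_root P (p ^ 0) (p ^ (ν * ((Fin.rev j0).val + 1)))
    (fun h => by
      have := hpow_inj _ _ h
      have h2 : 0 < ν * ((Fin.rev j0).val + 1) := Nat.mul_pos hν0 (Nat.succ_pos _)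
      omega)
    (by rw [hcoeff_one]; exact neg_ne_zero.mpr one_ne_zero)
    (by rw [hcoeff_j0]; exact pow_ne_zero _ hj0)
  refine ⟨x, hx0, ?_⟩
  have := hx
  simp only [P, eval_sub, eval_pow, eval_X, eval_finsetSum, eval_mul, eval_C] at this
  rw [sub_eq_zero] at this
  refine this.symm.trans ?_
  apply Finset.sum_congr rfl
  intro i _
  rw [frobPow_iterate, frobPow_iterate, mul_comm]

end FrobPow

section Transport
variable {K : Type u} [Field K] {k : Type v} [Field k] (φ : K →+* k) (hφs : Function.Surjective φ)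
  {σbar : K →+* K} {f : k →+* k} (hφ : ∀ c, φ (σbar c) = f (φ c))

include hφ in
theorem phi_iterate (j : ℕ) (c : K) : φ ((⇑σbar)^[j] c) = (⇑f)^[j] (φ c) := by
  induction j generalizing c with
  | zero => rfl
  | succ j ih => rw [Function.iterate_succ_apply, ih, hφ, Function.iterate_succ_apply]

include hφs hφ in
theorem transport_h2
    (h2 : ∀ (m : ℕ) (b : Fin (m + 1) → k), b ≠ 0 →
      ∃ x : k, x ≠ 0 ∧ x = ∑ i : Fin (m + 1), (⇑f)^[i.val + 1] x * (⇑f)^[i.val] (b (Fin.rev i)))
    (m : ℕ) (b : Fin (m + 1) → K) (hb : b ≠ 0) :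
    ∃ x : K, x ≠ 0 ∧ x = ∑ i : Fin (m + 1),
      (⇑σbar)^[i.val + 1] x * (⇑σbar)^[i.val] (b (Fin.rev i)) := by
  have hb' : (fun i => φ (b i)) ≠ 0 := by
    intro h
    apply hb
    funext i
    have := congrFun h i
    have h0 : (0 : Fin (m + 1) → K) i = 0 := rfl
    rw [h0]
    apply φ.injective
    rw [map_zero]
    exact this
  obtain ⟨x', hx'0, hx'⟩ := h2 m (fun i => φ (b i)) hb'
  obtain ⟨x, rfl⟩ := hφs x'
  refine ⟨x, fun h => hx'0 (by rw [h, map_zero]), φ.injective ?_⟩
  rw [map_sum]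
  conv_lhs => rw [hx']
  refine Finset.sum_congr rfl (fun i _ => ?_)
  rw [map_mul, phi_iterate φ hφ, phi_iterate φ hφ]

include hφs hφ in
theorem transport_h3 (h3 : ∀ c : k, ∃ y : k, f y - y + c = 0) (c : K) :
    ∃ y : K, σbar y - y + c = 0 := by
  obtain ⟨y', hy'⟩ := h3 (φ c)
  obtain ⟨y, rfl⟩ := hφs y'
  refine ⟨y, φ.injective ?_⟩
  rw [map_add, map_sub, hφ, map_zero]
  exact hy'

end Transport

section Complete
variable {R : Type u} [CommRing R] {σ : R →+* R} (p : ℕ)
  {M : Type v} [AddCommGroup M] [Module R M]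

theorem mem_pow_smul_top_iff (n : ℕ) (x : M) :
    x ∈ (Ideal.span {(p : R)} ^ n • ⊤ : Submodule R M) ↔ ∃ y : M, x = (p : R) ^ n • y := by
  rw [Ideal.span_singleton_pow, Submodule.ideal_span_singleton_smul,
    Submodule.mem_smul_pointwise_iff_exists]
  constructor
  · rintro ⟨y, -, hy⟩; exact ⟨y, hy.symm⟩
  · rintro ⟨y, hy⟩; exact ⟨y, trivial, hy.symm⟩

theorem map_pow_smul (T : M →ₛₗ[σ] M) (n : ℕ) (y : M) :
    T ((p : R) ^ n • y) = (p : R) ^ n • T y := by
  rw [T.map_smulₛₗ, map_pow, map_natCast]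

theorem map_p_smul (T : M →ₛₗ[σ] M) (y : M) :
    T ((p : R) • y) = (p : R) • T y := by
  rw [T.map_smulₛₗ, map_natCast]

/-- successive approximation: if `1 - T` is surjective modulo `p`, it is surjective on a
`p`-adically complete separated module. -/
theorem sub_surjective_of_complete [IsPrecomplete (Ideal.span {(p : R)}) M]
    [IsHausdorff (Ideal.span {(p : R)}) M] (T : M →ₛₗ[σ] M)
    (hstep : ∀ z : M, ∃ x z' : M, z - (x - T x) = (p : R) • z') :
    Function.Surjective (fun m : M => m - T m) := by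
  intro w
  choose X Z hXZ using hstep
  let z : ℕ → M := fun n => Z^[n] w
  let s : ℕ → M := fun n => ∑ i ∈ Finset.range n, (p : R) ^ i • X (z i)
  have hsucc : ∀ n, s (n + 1) = s n + (p : R) ^ n • X (z n) := fun n =>
    Finset.sum_range_succ _ _
  have hs : ∀ n, w - (s n - T (s n)) = (p : R) ^ n • z n := by
    intro n
    induction n with
    | zero => simp [s, z]
    | succ n ih =>
      have h2 : z (n + 1) = Z (z n) := Function.iterate_succ_apply' _ _ _
      rw [hsucc, map_add, map_pow_smul, h2, pow_succ, mul_smul, ← hXZ (z n)]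
      have : w - (s n + (p : R) ^ n • X (z n) - (T (s n) + (p : R) ^ n • T (X (z n)))) =
          (w - (s n - T (s n))) - (p : R) ^ n • (X (z n) - T (X (z n))) := by
        rw [smul_sub]; abel
      rw [this, ih, ← smul_sub]
  have hcauchy : ∀ {m n : ℕ}, m ≤ n →
      s m ≡ s n [SMOD (Ideal.span {(p : R)} ^ m • ⊤ : Submodule R M)] := by
    intro m n hmn
    induction n, hmn using Nat.le_induction with
    | base => exact SModEq.rfl
    | succ n hmn ih =>
      refine ih.trans ?_
      rw [SModEq.sub_mem, hsucc, sub_add_cancel_left, neg_mem_iff, mem_pow_smul_top_iff]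
      obtain ⟨d, rfl⟩ := Nat.exists_eq_add_of_le hmn
      exact ⟨(p : R) ^ d • X (z (m + d)), by rw [pow_add, mul_smul]⟩
  obtain ⟨y, hy⟩ := IsPrecomplete.prec' s hcauchy
  refine ⟨y, ?_⟩
  show y - T y = w
  rw [← sub_eq_zero]
  apply IsHausdorff.haus' (I := Ideal.span {(p : R)})
  intro n
  rw [SModEq.zero, mem_pow_smul_top_iff]
  have h1 := hy n
  rw [SModEq.sub_mem, mem_pow_smul_top_iff] at h1
  obtain ⟨d, hd⟩ := h1
  have h2 : s n = y + (p : R) ^ n • d := by rw [← hd]; abel
  have h3 := hs n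
  rw [h2, map_add, map_pow_smul] at h3
  refine ⟨-(z n) - (d - T d), ?_⟩
  rw [smul_sub, smul_neg, ← h3, smul_sub]
  abel

end Complete

section Local
variable {R : Type u} [CommRing R] [IsLocalRing R] {σ : R →+* R}
  {σbar : ResidueField R →+* ResidueField R}

/-- a surjective `σ`-semilinear endomorphism of a finite free complete module over a local ring
with maximal ideal `(p)` has a basis of fixed vectors (given the residue field hypotheses). -/
theorem exists_fixed_basis (p : ℕ) (hmax : maximalIdeal R = Ideal.span {(p : R)})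
    (hσbar : ∀ r : R, σbar (residue R r) = residue R (σ r))
    (h2 : ∀ (n : ℕ) (b : Fin (n + 1) → ResidueField R), b ≠ 0 →
      ∃ x : ResidueField R, x ≠ 0 ∧ x = ∑ i : Fin (n + 1),
        (⇑σbar)^[i.val + 1] x * (⇑σbar)^[i.val] (b (Fin.rev i)))
    (h3 : ∀ c : ResidueField R, ∃ y : ResidueField R, σbar y - y + c = 0)
    (M : Type v) [AddCommGroup M] [Module R M] [Module.Finite R M] [Module.Free R M]
    [IsPrecomplete (Ideal.span {(p : R)}) M] [IsHausdorff (Ideal.span {(p : R)}) M]
    (T : M →ₛₗ[σ] M) (hT : Function.Surjective T) :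
    ∃ (d : ℕ) (b : Module.Basis (Fin d) R M), ∀ i, T (b i) = b i := by
  have h1 : Submodule.span (ResidueField R) (Set.range ⇑(SigmaRing.quotM hσbar T)) = ⊤ := by
    rw [eq_top_iff]
    rintro x -
    obtain ⟨m, rfl⟩ := Submodule.Quotient.mk_surjective _ x
    obtain ⟨m', rfl⟩ := hT m
    exact Submodule.subset_span ⟨Submodule.Quotient.mk m', rfl⟩
  obtain ⟨⟨bbar, hbbar⟩, hsurjQ⟩ :=
    SigmaLin.exists_fixed_basis_and_surjective (SigmaRing.quotM hσbar T) h1 h2 h3
  have hstep : ∀ z : M, ∃ x z' : M, z - (x - T x) = (p : R) • z' := by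
    intro z
    obtain ⟨xbar, hxbar⟩ := hsurjQ (Submodule.Quotient.mk z)
    obtain ⟨x, rfl⟩ := Submodule.Quotient.mk_surjective _ xbar
    have hmem : z - (x - T x) ∈ SigmaRing.mM R M := by
      rw [← Submodule.Quotient.eq]
      simp only [SigmaRing.quotM_mk, ← Submodule.Quotient.mk_sub] at hxbar
      exact hxbar.symm
    obtain ⟨z', hz'⟩ := SigmaRing.exists_eq_smul_of_mem_mM p hmax hmem
    exact ⟨x, z', hz'⟩
  have hsurj := sub_surjective_of_complete p T hstep
  have hlift : ∀ i, ∃ m : M, T m = m ∧ (Submodule.Quotient.mk m : SigmaRing.Q R M) = bbar i := by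
    intro i
    obtain ⟨m0, hm0⟩ := Submodule.Quotient.mk_surjective _ (bbar i)
    have hmem : T m0 - m0 ∈ SigmaRing.mM R M := by
      rw [← Submodule.Quotient.eq, ← SigmaRing.quotM_mk hσbar T, hm0, hbbar]
    obtain ⟨z, hz⟩ := SigmaRing.exists_eq_smul_of_mem_mM p hmax hmem
    obtain ⟨y, hy⟩ := hsurj z
    have hy' : y - T y = z := hy
    refine ⟨m0 + (p : R) • y, ?_, ?_⟩
    · rw [map_add, map_p_smul]
      have h4 : T m0 = m0 + (p : R) • z := by rw [← hz]; abel
      rw [h4, ← hy', smul_sub]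
      abel
    · rw [Submodule.Quotient.mk_add, hm0,
        (Submodule.Quotient.mk_eq_zero _).mpr (SigmaRing.smul_mem_mM p hmax y), add_zero]
  choose b hbfix hbmk using hlift
  have hspan : Submodule.span R (Set.range b) = ⊤ := by
    rw [← IsLocalRing.map_mkQ_eq_top, Submodule.map_span, ← Set.range_comp]
    have hcomp : (⇑(Submodule.mkQ (SigmaRing.mM R M)) ∘ b) = ⇑bbar := funext hbmk
    rw [hcomp, ← Submodule.restrictScalars_span R (ResidueField R) Ideal.Quotient.mk_surjective,
      bbar.span_eq, Submodule.restrictScalars_top]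
  have hcard : Fintype.card (Fin (Module.finrank (ResidueField R) (SigmaRing.Q R M))) ≤
      Module.finrank R M := by
    rw [Fintype.card_fin]
    let c := Module.Free.chooseBasis R M
    rw [Module.finrank_eq_card_chooseBasisIndex R M]
    apply finrank_le_of_span_eq_top (v := fun i => (Submodule.Quotient.mk (c i) : SigmaRing.Q R M))
    rw [eq_top_iff]
    rintro x -
    obtain ⟨m, rfl⟩ := Submodule.Quotient.mk_surjective _ x
    have hm : m ∈ Submodule.span R (Set.range c) := by rw [c.span_eq]; trivial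
    induction hm using Submodule.span_induction with
    | mem x hx =>
      obtain ⟨i, rfl⟩ := hx
      exact Submodule.subset_span ⟨i, rfl⟩
    | zero => exact Submodule.zero_mem _
    | add x y _ _ hx hy => rw [Submodule.Quotient.mk_add]; exact Submodule.add_mem _ hx hy
    | smul r x _ hx =>
      rw [← SigmaRing.residue_smul_mk]
      exact Submodule.smul_mem _ _ hx
  have hli := linearIndependent_of_top_le_span_of_card_le_finrank hspan.ge hcard
  refine ⟨_, Module.Basis.mk hli hspan.ge, fun i => ?_⟩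
  rw [Module.Basis.mk_apply]
  exact hbfix i

end Local

section Surj

theorem isPrecomplete_of_surjective {R : Type*} [CommRing R] (I : Ideal R) {N M : Type*}
    [AddCommGroup N] [Module R N] [AddCommGroup M] [Module R M] (f : N →ₗ[R] M)
    (hf : Function.Surjective f) [IsPrecomplete I N] : IsPrecomplete I M := by
  rw [← AdicCompletion.of_surjective_iff]
  intro y
  obtain ⟨x, rfl⟩ := AdicCompletion.map_surjective I hf y
  obtain ⟨n, rfl⟩ := AdicCompletion.of_surjective I N x
  exact ⟨f n, (AdicCompletion.map_of I f n).symm⟩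

theorem isPrecomplete_of_finite {R : Type*} [CommRing R] (I : Ideal R) [IsPrecomplete I R]
    (M : Type*) [AddCommGroup M] [Module R M] [Module.Finite R M] : IsPrecomplete I M := by
  obtain ⟨n, f, hf⟩ := Module.Finite.exists_fin' R M
  haveI : IsPrecomplete I (Fin n → R) := Groth.Agent.Lib.Helper14.isPrecomplete_pi I n
  exact isPrecomplete_of_surjective I f hf

end Surj

section Witt
variable (k : Type u) [Field k] [IsAlgClosed k] (p : ℕ) [Fact p.Prime] [CharP k p]

local notation "𝕎" => WittVector p k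

theorem witt_maximalIdeal_eq : maximalIdeal 𝕎 = Ideal.span {((p : ℕ) : 𝕎)} :=
  (WittVector.irreducible p).maximalIdeal_eq

/-- the residue field of `W(k)` is `k` -/
noncomputable def wphi : ResidueField 𝕎 →+* k :=
  Ideal.Quotient.lift (maximalIdeal 𝕎) (WittVector.constantCoeff : 𝕎 →+* k) (fun a ha => by
    rw [witt_maximalIdeal_eq, ← WittVector.ker_constantCoeff] at ha
    exact ha)

theorem wphi_residue (x : 𝕎) : wphi k p (residue 𝕎 x) = WittVector.constantCoeff x :=
  Ideal.Quotient.lift_mk _ _ _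

theorem wphi_surjective : Function.Surjective (wphi k p) := by
  intro a
  obtain ⟨x, hx⟩ := WittVector.constantCoeff_surjective p (R := k) a
  exact ⟨residue 𝕎 x, by rw [wphi_residue, hx]⟩

/-- `ResidueField W(k) ≃ k` -/
noncomputable def wequiv : ResidueField 𝕎 ≃+* k :=
  RingEquiv.ofBijective (wphi k p) ⟨(wphi k p).injective, wphi_surjective k p⟩

theorem wequiv_residue (x : 𝕎) : wequiv k p (residue 𝕎 x) = WittVector.constantCoeff x :=
  wphi_residue k p x

theorem constantCoeff_frobenius_pow (ν : ℕ) (x : 𝕎) :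
    WittVector.constantCoeff (((WittVector.frobenius : 𝕎 →+* 𝕎) ^ ν) x) =
      ((frobenius k p) ^ ν) (WittVector.constantCoeff x) := by
  induction ν generalizing x with
  | zero => simp
  | succ ν ih =>
    rw [pow_succ, pow_succ, RingHom.mul_def, RingHom.mul_def, RingHom.comp_apply,
      RingHom.comp_apply, ih]
    congr 1
    show (WittVector.frobenius x).coeff 0 = _
    rw [WittVector.coeff_frobenius_charP, frobenius_def]
    rfl

/-- induced map on the residue field -/
noncomputable def wsbar (ν : ℕ) : ResidueField 𝕎 →+* ResidueField 𝕎 :=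
  (wequiv k p).symm.toRingHom.comp (((frobenius k p) ^ ν).comp (wequiv k p).toRingHom)

theorem wequiv_wsbar (ν : ℕ) (c : ResidueField 𝕎) :
    wequiv k p (wsbar k p ν c) = ((frobenius k p) ^ ν) (wequiv k p c) := by
  unfold wsbar
  simp

theorem wsbar_residue (ν : ℕ) (x : 𝕎) :
    wsbar k p ν (residue 𝕎 x) = residue 𝕎 (((WittVector.frobenius : 𝕎 →+* 𝕎) ^ ν) x) := by
  apply (wequiv k p).injective
  rw [wequiv_wsbar, wequiv_residue, wequiv_residue, constantCoeff_frobenius_pow]

theorem witt_exists_fixed_basis (ν : ℕ) (hν : 1 ≤ ν)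
    (M : Type v) [AddCommGroup M] [Module 𝕎 M] [Module.Finite 𝕎 M] [Module.Free 𝕎 M]
    (F : M →+ M)
    (hF : ∀ (a : 𝕎) (m : M),
      F (a • m) = ((⇑(WittVector.frobenius : 𝕎 →+* 𝕎))^[ν] a) • F m)
    (hsurj : Function.Surjective F) :
    ∃ (d : ℕ) (b : Module.Basis (Fin d) 𝕎 M), ∀ i, F (b i) = b i := by
  let T : M →ₛₗ[(WittVector.frobenius : 𝕎 →+* 𝕎) ^ ν] M :=
    { toFun := F
      map_add' := F.map_add
      map_smul' := fun a m => by
        show F (a • m) = (((WittVector.frobenius : 𝕎 →+* 𝕎) ^ ν) a) • F m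
        rw [hF, RingHom.coe_pow] }
  have hmax := witt_maximalIdeal_eq k p
  haveI : IsHausdorff (Ideal.span {((p : ℕ) : 𝕎)}) M :=
    hmax ▸ (inferInstance : IsHausdorff (maximalIdeal 𝕎) M)
  haveI : IsPrecomplete (Ideal.span {((p : ℕ) : 𝕎)}) M := isPrecomplete_of_finite _ M
  have hφ : ∀ c, (wequiv k p : ResidueField 𝕎 →+* k) (wsbar k p ν c) =
      ((frobenius k p) ^ ν) ((wequiv k p : ResidueField 𝕎 →+* k) c) := wequiv_wsbar k p ν
  have hφs : Function.Surjective (wequiv k p : ResidueField 𝕎 →+* k) := (wequiv k p).surjective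
  exact exists_fixed_basis p hmax (wsbar_residue k p ν)
    (transport_h2 _ hφs hφ (fun n b hb => frobPow_h2 p ν hν n b hb))
    (transport_h3 _ hφs hφ (fun c => frobPow_h3 p ν hν c)) M T hsurj

end Witt

end Groth.Agent.Lib.Helper22.SigmaComplete
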