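import Mathlib
import Groth.Agent.Lib.Helper22SigmaLin
import Groth.Agent.Lib.Helper22SigmaComplete

/-!
# Helper22: `id - T` is surjective for Frobenius-power-semilinear `T` over a separably closed field
-/

set_option autoImplicit false

namespace Groth.Agent.Lib.Helper22.SigmaSep

open Polynomial Groth.Agent.Lib.Helper22

universe u v

section General
variable {k : Type u} [Field k] {σ : k →+* k} {V : Type v} [AddCommGroup V] [Module k V]

/-- `id - T` is surjective (no surjectivity of `σ` needed). -/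
theorem sub_surjective [FiniteDimensional k V] (T : V →ₛₗ[σ] V)
    (h2 : ∀ (n : ℕ) (b : Fin (n + 1) → k), b ≠ 0 →
      ∃ x : k, x ≠ 0 ∧ x = ∑ i : Fin (n + 1), (⇑σ)^[i.val + 1] x * (⇑σ)^[i.val] (b (Fin.rev i)))
    (h3 : ∀ c : k, ∃ y : k, σ y - y + c = 0) :
    Function.Surjective (fun v : V => v - T v) := by
  obtain ⟨N, hW⟩ := SigmaLin.exists_W_stable T
  have hS := (SigmaLin.exists_fixed_basis_and_surjective
    (SigmaLin.restr T (SigmaLin.W T N) (SigmaLin.stable_map_mem T hW))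
    (SigmaLin.span_range_restr T _ _ (SigmaLin.stable_le_span_image T hW)) h2 h3).2
  intro z
  obtain ⟨y, hy⟩ := hS ⟨(⇑T)^[N] z, SigmaLin.iterate_mem_W T N z⟩
  have hy' : (y : V) - T (y : V) = (⇑T)^[N] z := by
    have := congrArg Subtype.val hy
    simpa using this
  refine ⟨(∑ i ∈ Finset.range N, (⇑T)^[i] z) + (y : V), ?_⟩
  show (∑ i ∈ Finset.range N, (⇑T)^[i] z) + (y : V) -
    T ((∑ i ∈ Finset.range N, (⇑T)^[i] z) + (y : V)) = z
  rw [map_add, map_sum]
  have hstep : ∀ i ∈ Finset.range N, T ((⇑T)^[i] z) = (⇑T)^[i + 1] z :=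
    fun i _ => (Function.iterate_succ_apply' _ _ _).symm
  rw [Finset.sum_congr rfl hstep]
  have htel : ∑ i ∈ Finset.range N, (⇑T)^[i] z - ∑ i ∈ Finset.range N, (⇑T)^[i + 1] z =
      z - (⇑T)^[N] z := by
    rw [← Finset.sum_sub_distrib, Finset.sum_range_sub' (fun i => (⇑T)^[i] z)]
    rfl
  have e : (∑ i ∈ Finset.range N, (⇑T)^[i] z) + (y : V) -
      (∑ i ∈ Finset.range N, (⇑T)^[i + 1] z + T (y : V)) =
      (∑ i ∈ Finset.range N, (⇑T)^[i] z - ∑ i ∈ Finset.range N, (⇑T)^[i + 1] z) +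
        ((y : V) - T (y : V)) := by abel
  rw [e, htel, hy']
  abel

theorem iterate_sum (T : V →ₛₗ[σ] V) (n : ℕ) {ι : Type*} (s : Finset ι) (f : ι → V) :
    (⇑T)^[n] (∑ i ∈ s, f i) = ∑ i ∈ s, (⇑T)^[n] (f i) := by
  induction n generalizing f with
  | zero => rfl
  | succ n ih =>
    simp only [Function.iterate_succ_apply]
    rw [map_sum, ih]

/-- The semisimple part `⨅ n, span (range T^[n+1])` has a basis of fixed vectors, and every fixed
vector is a `σ`-fixed-coefficient combination of it. -/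
theorem semisimplePart_basis [FiniteDimensional k V] (T : V →ₛₗ[σ] V)
    (h2 : ∀ (n : ℕ) (b : Fin (n + 1) → k), b ≠ 0 →
      ∃ x : k, x ≠ 0 ∧ x = ∑ i : Fin (n + 1), (⇑σ)^[i.val + 1] x * (⇑σ)^[i.val] (b (Fin.rev i)))
    (h3 : ∀ c : k, ∃ y : k, σ y - y + c = 0) :
    ∃ b : Module.Basis (Fin (Module.finrank k
        ↥(⨅ n : ℕ, Submodule.span k (Set.range ((⇑T)^[n + 1]))))) k
        ↥(⨅ n : ℕ, Submodule.span k (Set.range ((⇑T)^[n + 1]))),
      (∀ i, T (b i : V) = (b i : V)) ∧
      ∀ v : V, T v = v → ∃ c : Fin (Module.finrank k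
          ↥(⨅ n : ℕ, Submodule.span k (Set.range ((⇑T)^[n + 1])))) → k,
        (∀ i, σ (c i) = c i) ∧ v = ∑ i, c i • (b i : V) := by
  obtain ⟨N, hW⟩ := SigmaLin.exists_W_stable T
  have hEq : (⨅ n : ℕ, Submodule.span k (Set.range ((⇑T)^[n + 1]))) = SigmaLin.W T N := by
    rw [← SigmaLin.iInf_W_eq T hW]
    apply le_antisymm
    · refine le_iInf (fun n => ?_)
      exact (iInf_le (fun m => Submodule.span k (Set.range ((⇑T)^[m + 1]))) n).trans
        (SigmaLin.W_succ_le T n)
    · refine le_iInf (fun n => ?_)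
      exact iInf_le (fun m => SigmaLin.W T m) (n + 1)
  rw [hEq]
  obtain ⟨⟨b, hb⟩, -⟩ := SigmaLin.exists_fixed_basis_and_surjective
    (SigmaLin.restr T (SigmaLin.W T N) (SigmaLin.stable_map_mem T hW))
    (SigmaLin.span_range_restr T _ _ (SigmaLin.stable_le_span_image T hW)) h2 h3
  have hb' : ∀ i, T (b i : V) = (b i : V) := fun i => congrArg Subtype.val (hb i)
  refine ⟨b, hb', fun v hv => ?_⟩
  have hvW : v ∈ SigmaLin.W T N := by
    have h1 : (⇑T)^[N] v = v := Function.iterate_fixed hv N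
    rw [← h1]
    exact SigmaLin.iterate_mem_W T N v
  refine ⟨fun i => b.repr ⟨v, hvW⟩ i,
    fun i => SigmaLin.fixed_coord T b hb' ⟨v, hvW⟩ hv i, ?_⟩
  have h4 := congrArg (SigmaLin.W T N).subtype (b.sum_repr ⟨v, hvW⟩).symm
  rw [map_sum] at h4
  simpa using h4

end General

section Root

theorem exists_ne_zero_root_of_separable {k : Type u} [Field k] [IsSepClosed k] (P : k[X])
    (hsep : P.Separable) (h0 : P.coeff 0 = 0) (b : ℕ) (hb1 : 2 ≤ b) (hb : P.coeff b ≠ 0) :
    ∃ x : k, x ≠ 0 ∧ P.eval x = 0 := by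
  have hPQ : P = X * divX P := by
    have := X_mul_divX_add P
    rw [h0, C_0, add_zero] at this
    exact this.symm
  have hQsep : (divX P).Separable := by
    rw [hPQ] at hsep
    exact hsep.of_mul_right
  have hQdeg : (divX P).degree ≠ 0 := by
    have h1 : (divX P).coeff (b - 1) ≠ 0 := by
      rw [coeff_divX, Nat.sub_add_cancel (by omega)]; exact hb
    have h2 : b - 1 ≤ (divX P).natDegree := le_natDegree_of_ne_zero h1
    intro h
    have h3 : (divX P).natDegree = 0 := natDegree_eq_of_degree_eq_some h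
    omega
  obtain ⟨x, hx⟩ := IsSepClosed.exists_root (divX P) hQdeg hQsep
  rw [IsRoot.def] at hx
  refine ⟨x, ?_, ?_⟩
  · rintro rfl
    obtain ⟨a, c, hac⟩ := hsep
    have h1 := congrArg (eval 0) hac
    rw [hPQ] at h1
    simp [derivative_mul, hx] at h1
  · rw [hPQ, eval_mul, hx, mul_zero]

end Root

section FrobSep
variable {k : Type u} [Field k] [IsSepClosed k] (p : ℕ) [Fact p.Prime] [CharP k p]

theorem frobPow_h3 (ν : ℕ) (hν : 1 ≤ ν) (c : k) :
    ∃ y : k, ((frobenius k p) ^ ν) y - y + c = 0 := by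
  have hp2 : 2 ≤ p := (Fact.out : p.Prime).two_le
  have hq2 : 2 ≤ p ^ ν := by
    calc 2 ≤ p ^ 1 := by rw [pow_one]; exact hp2
      _ ≤ p ^ ν := Nat.pow_le_pow_right (by omega) hν
  obtain ⟨x, hx⟩ := IsSepClosed.exists_root_C_mul_X_pow_add_C_mul_X_add_C' p (p ^ ν) (1 : k) (-1) c
    (dvd_pow_self p (by omega)) hq2 (by norm_num)
  refine ⟨x, ?_⟩
  have h1 := SigmaComplete.frobPow_iterate p ν 1 x
  rw [Function.iterate_one, mul_one] at h1
  rw [h1]
  linear_combination hx

theorem frobPow_h2 (ν : ℕ) (hν : 1 ≤ ν) (n : ℕ) (b : Fin (n + 1) → k) (hb : b ≠ 0) :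
    ∃ x : k, x ≠ 0 ∧ x = ∑ i : Fin (n + 1),
      (⇑((frobenius k p) ^ ν))^[i.val + 1] x * (⇑((frobenius k p) ^ ν))^[i.val] (b (Fin.rev i)) := by
  have hp2 : 2 ≤ p := (Fact.out : p.Prime).two_le
  have hpow_inj : ∀ a b : ℕ, p ^ a = p ^ b → a = b := fun a b h => Nat.pow_right_injective hp2 h
  have hν0 : 0 < ν := hν
  obtain ⟨j0, hj0⟩ : ∃ j, b j ≠ 0 := by
    by_contra h
    push Not at h
    exact hb (funext h)
  let P : k[X] := ∑ i : Fin (n + 1),
    C ((b (Fin.rev i)) ^ (p ^ (ν * i.val))) * X ^ (p ^ (ν * (i.val + 1))) - X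
  have hcast : ∀ m : ℕ, 0 < m → ((p ^ m : ℕ) : k) = 0 := by
    intro m hm
    rw [Nat.cast_pow, CharP.cast_eq_zero k p, zero_pow hm.ne']
  have hder : derivative P = -1 := by
    simp only [P, derivative_sub, derivative_sum, derivative_X]
    rw [Finset.sum_eq_zero, zero_sub]
    intro i _
    rw [derivative_C_mul_X_pow, hcast _ (Nat.mul_pos hν0 (Nat.succ_pos _)), mul_zero, C_0,
      zero_mul]
  have hsep : P.Separable := ⟨0, -1, by rw [hder]; ring⟩
  have hcoeff_zero : P.coeff 0 = 0 := by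
    simp only [P, coeff_sub, finsetSum_coeff, coeff_C_mul, coeff_X_pow, coeff_X_zero, sub_zero]
    apply Finset.sum_eq_zero
    intro j _
    rw [if_neg, mul_zero]
    intro h
    have h2 : 0 < p ^ (ν * (j.val + 1)) := Nat.pos_of_ne_zero (by positivity)
    omega
  have hcoeff_j0 : P.coeff (p ^ (ν * ((Fin.rev j0).val + 1))) =
      (b j0) ^ (p ^ (ν * (Fin.rev j0).val)) := by
    simp only [P, coeff_sub, finsetSum_coeff, coeff_C_mul, coeff_X_pow]
    rw [coeff_X, if_neg (fun h => by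
      have := hpow_inj 0 (ν * ((Fin.rev j0).val + 1)) (by rw [pow_zero]; exact h)
      have h2 : 0 < ν * ((Fin.rev j0).val + 1) := Nat.mul_pos hν0 (Nat.succ_pos _)
      omega), sub_zero, Finset.sum_eq_single (Fin.rev j0)]
    · rw [if_pos rfl, mul_one, Fin.rev_rev]
    · intro j _ hj
      rw [if_neg, mul_zero]
      intro h
      have := hpow_inj _ _ h
      have h3 := Nat.eq_of_mul_eq_mul_left hν0 this
      exact hj (Fin.ext (by omega))
    · intro h; exact absurd (Finset.mem_univ _) h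
  have hb2 : 2 ≤ p ^ (ν * ((Fin.rev j0).val + 1)) := by
    have h2 : 1 ≤ ν * ((Fin.rev j0).val + 1) := Nat.mul_pos hν0 (Nat.succ_pos _)
    calc 2 ≤ p ^ 1 := by rw [pow_one]; exact hp2
      _ ≤ p ^ (ν * ((Fin.rev j0).val + 1)) := Nat.pow_le_pow_right (by omega) h2
  obtain ⟨x, hx0, hx⟩ := exists_ne_zero_root_of_separable P hsep hcoeff_zero
    (p ^ (ν * ((Fin.rev j0).val + 1))) hb2 (by rw [hcoeff_j0]; exact pow_ne_zero _ hj0)
  refine ⟨x, hx0, ?_⟩
  have := hx
  simp only [P, eval_sub, eval_pow, eval_X, eval_finsetSum, eval_mul, eval_C] at this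
  rw [sub_eq_zero] at this
  refine this.symm.trans ?_
  apply Finset.sum_congr rfl
  intro i _
  rw [SigmaComplete.frobPow_iterate, SigmaComplete.frobPow_iterate, mul_comm]

/-- Lang-type surjectivity: `v ↦ v - φ v` is surjective for `q`-linear `φ`, `q = p ^ r`, `r ≥ 1`,
on a finite-dimensional vector space over a separably closed field. -/
theorem sub_qLinear_surjective (r : ℕ) (hr : 0 < r) {V : Type v} [AddCommGroup V] [Module k V]
    [FiniteDimensional k V] (φ : V →+ V)
    (hφ : ∀ (c : k) (v : V), φ (c • v) = c ^ (p ^ r) • φ v) :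
    Function.Surjective (fun v : V => v - φ v) := by
  let T : V →ₛₗ[(frobenius k p) ^ r] V :=
    { toFun := φ
      map_add' := φ.map_add
      map_smul' := fun c v => by
        show φ (c • v) = ((frobenius k p) ^ r) c • φ v
        have h1 := SigmaComplete.frobPow_iterate p r 1 c
        rw [Function.iterate_one, mul_one] at h1
        rw [h1, hφ] }
  exact sub_surjective T (fun n b hb => frobPow_h2 p r hr n b hb) (fun c => frobPow_h3 p r hr c)

/-- A semisimple `q`-linear endomorphism over a separably closed field has a basis of fixed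
vectors, and fixed vectors have `F_q`-coordinates. -/
theorem exists_fixed_basis_qLinear (r : ℕ) (hr : 0 < r) {V : Type v} [AddCommGroup V] [Module k V]
    [FiniteDimensional k V] (φ : V →+ V)
    (hφ : ∀ (c : k) (v : V), φ (c • v) = c ^ (p ^ r) • φ v)
    (hss : Submodule.span k (Set.range φ) = ⊤) :
    ∃ b : Module.Basis (Fin (Module.finrank k V)) k V, (∀ i, φ (b i) = b i) ∧
      ∀ v : V, φ v = v → ∀ i, (b.repr v i) ^ (p ^ r) = b.repr v i := by
  let T : V →ₛₗ[(frobenius k p) ^ r] V :=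
    { toFun := φ
      map_add' := φ.map_add
      map_smul' := fun c v => by
        show φ (c • v) = ((frobenius k p) ^ r) c • φ v
        have h1 := SigmaComplete.frobPow_iterate p r 1 c
        rw [Function.iterate_one, mul_one] at h1
        rw [h1, hφ] }
  obtain ⟨⟨b, hb⟩, -⟩ := SigmaLin.exists_fixed_basis_and_surjective T hss
    (fun n b hb => frobPow_h2 p r hr n b hb) (fun c => frobPow_h3 p r hr c)
  refine ⟨b, hb, fun v hv i => ?_⟩
  have h2 : v = ∑ j, b.repr v j • b j := (b.sum_repr v).symm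
  have h3 : v = ∑ j, (b.repr v j) ^ (p ^ r) • b j := by
    have h4 : φ v = ∑ j, (b.repr v j) ^ (p ^ r) • b j := by
      conv_lhs => rw [h2]
      rw [map_sum]
      refine Finset.sum_congr rfl (fun j _ => ?_)
      rw [hφ]
      congr 1
      exact hb j
    rw [← h4, hv]
  have h5 : b.repr v i = b.repr (∑ j, (b.repr v j) ^ (p ^ r) • b j) i := by
    conv_lhs => rw [h3]
  rw [Module.Basis.repr_sum_self] at h5
  exact h5.symm

/-- S8721 -/
theorem semisimplePart_basis_qLinear (r : ℕ) (hr : 0 < r) {V : Type v} [AddCommGroup V]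
    [Module k V] [FiniteDimensional k V] (φ : V →+ V)
    (hφ : ∀ (c : k) (v : V), φ (c • v) = c ^ (p ^ r) • φ v) :
    ∃ b : Module.Basis (Fin (Module.finrank k
        ↥(⨅ n : ℕ, Submodule.span k (Set.range (φ^[n + 1]))))) k
        ↥(⨅ n : ℕ, Submodule.span k (Set.range (φ^[n + 1]))),
      (∀ i, φ (b i : V) = (b i : V)) ∧
      ∀ v : V, φ v = v → ∃ c : Fin (Module.finrank k
          ↥(⨅ n : ℕ, Submodule.span k (Set.range (φ^[n + 1])))) → k,
        (∀ i, c i ^ (p ^ r) = c i) ∧ v = ∑ i, c i • (b i : V) := by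
  let T : V →ₛₗ[(frobenius k p) ^ r] V :=
    { toFun := φ
      map_add' := φ.map_add
      map_smul' := fun c v => by
        show φ (c • v) = ((frobenius k p) ^ r) c • φ v
        have h1 := SigmaComplete.frobPow_iterate p r 1 c
        rw [Function.iterate_one, mul_one] at h1
        rw [h1, hφ] }
  obtain ⟨b, hb, hfix⟩ := semisimplePart_basis T
    (fun n b hb => frobPow_h2 p r hr n b hb) (fun c => frobPow_h3 p r hr c)
  refine ⟨b, hb, fun v hv => ?_⟩
  obtain ⟨c, hc, hv'⟩ := hfix v hv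
  refine ⟨c, fun i => ?_, hv'⟩
  have h1 := SigmaComplete.frobPow_iterate p r 1 (c i)
  rw [Function.iterate_one, mul_one] at h1
  rw [← h1]
  exact hc i

/-- S8722 -/
theorem fixed_iterate_qLinear (r : ℕ) (hr : 0 < r) {V : Type v} [AddCommGroup V]
    [Module k V] [FiniteDimensional k V] (φ : V →+ V)
    (hφ : ∀ (c : k) (v : V), φ (c • v) = c ^ (p ^ r) • φ v)
    (hss : Submodule.span k (Set.range φ) = ⊤) (n : ℕ) (v : V) :
    φ^[n] v = v ↔ ∃ (s : Finset V) (c : V → k), (∀ w ∈ s, φ w = w) ∧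
      (∀ w ∈ s, c w ^ ((p ^ r) ^ n) = c w) ∧ v = ∑ w ∈ s, c w • w := by
  classical
  let T : V →ₛₗ[(frobenius k p) ^ r] V :=
    { toFun := φ
      map_add' := φ.map_add
      map_smul' := fun c v => by
        show φ (c • v) = ((frobenius k p) ^ r) c • φ v
        have h1 := SigmaComplete.frobPow_iterate p r 1 c
        rw [Function.iterate_one, mul_one] at h1
        rw [h1, hφ] }
  have hTn : ∀ (s : Finset V) (c : V → k), (∀ w ∈ s, φ w = w) →
      φ^[n] (∑ w ∈ s, c w • w) = ∑ w ∈ s, c w ^ ((p ^ r) ^ n) • w := by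
    intro s c hs
    have h1 : (⇑T)^[n] (∑ w ∈ s, c w • w) = ∑ w ∈ s, (⇑T)^[n] (c w • w) := iterate_sum T n s _
    have h2 : φ^[n] (∑ w ∈ s, c w • w) = (⇑T)^[n] (∑ w ∈ s, c w • w) := rfl
    rw [h2, h1]
    refine Finset.sum_congr rfl (fun w hw => ?_)
    rw [SigmaLin.iterate_smul, SigmaComplete.frobPow_iterate, ← pow_mul]
    congr 1
    exact Function.iterate_fixed (hs w hw) n
  constructor
  · intro hv
    obtain ⟨b, hb, -⟩ := exists_fixed_basis_qLinear p r hr φ hφ hss
    let c : V → k := fun w => if h : ∃ i, b i = w then b.repr v h.choose else 0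
    have hc : ∀ i, c (b i) = b.repr v i := by
      intro i
      have h : ∃ j, b j = b i := ⟨i, rfl⟩
      simp only [c, dif_pos h]
      rw [b.injective h.choose_spec]
    have hsum : v = ∑ w ∈ Finset.univ.image b, c w • w := by
      rw [Finset.sum_image (fun i _ j _ h => b.injective h)]
      simp only [hc]
      exact (b.sum_repr v).symm
    have hfixs : ∀ w ∈ Finset.univ.image b, φ w = w := by
      intro w hw
      obtain ⟨i, -, rfl⟩ := Finset.mem_image.mp hw
      exact hb i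
    refine ⟨Finset.univ.image b, c, hfixs, ?_, hsum⟩
    -- coefficients
    have h3 : v = ∑ w ∈ Finset.univ.image b, c w ^ ((p ^ r) ^ n) • w := by
      rw [← hTn _ c hfixs, ← hsum, hv]
    intro w hw
    obtain ⟨i, -, rfl⟩ := Finset.mem_image.mp hw
    rw [Finset.sum_image (fun i _ j _ h => b.injective h)] at h3
    have h5 : b.repr v i = b.repr (∑ j, c (b j) ^ ((p ^ r) ^ n) • b j) i := by
      conv_lhs => rw [h3]
    rw [Module.Basis.repr_sum_self] at h5
    rw [hc]
    rw [hc] at h5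
    exact h5.symm
  · rintro ⟨s, c, hs, hc, rfl⟩
    rw [hTn s c hs]
    exact Finset.sum_congr rfl (fun w hw => by rw [hc w hw])

end FrobSep

end Groth.Agent.Lib.Helper22.SigmaSep
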