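import Mathlib
import Groth.Agent.Lib.Helper22SteinEtG
import Groth.Agent.Lib.Helper22SteinEtH
import Groth.Agent.Lib.Helper22HomotopyA
import Groth.Agent.Lib.Helper22LimConn
import Groth.Agent.Lib.Helper22NccA
import Groth.Agent.S7838
import Groth.Agent.S8533

set_option autoImplicit false
set_option linter.style.haveILetI false
set_option linter.unusedSectionVars false
set_option linter.unusedVariables false
universe u
open CategoryTheory CategoryTheory.Limits AlgebraicGeometry

namespace Groth.Agent.Lib.Helper22.SpecFF

open Groth.Agent.Lib.Helper22.SteinEtF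

/-- separable closedness is invariant under ring isomorphisms. -/
theorem isSepClosed_of_ringEquiv {k k' : Type*} [Field k] [Field k'] (e : k ≃+* k')
    [IsSepClosed k] : IsSepClosed k' := by
  refine IsSepClosed.of_exists_root k' fun p _ hirr hsep => ?_
  have hsep' : (p.map (e.symm : k' →+* k)).Separable := hsep.map
  have hdeg : (p.map (e.symm : k' →+* k)).degree ≠ 0 := by
    rw [Polynomial.degree_map]
    exact (Polynomial.degree_pos_of_irreducible hirr).ne'
  obtain ⟨x, hx⟩ := IsSepClosed.exists_root _ hdeg hsep'
  refine ⟨e x, ?_⟩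
  have h1 : Polynomial.eval₂ (e.symm : k' →+* k) x p = 0 := by
    rw [← Polynomial.eval_map]; exact hx
  have h2 := congrArg (e : k →+* k') h1
  rw [map_zero, Polynomial.hom_eval₂] at h2
  have h3 : ((e : k →+* k').comp (e.symm : k' →+* k)) = RingHom.id k' := by
    ext y; simp
  rw [h3, Polynomial.eval₂_id] at h2
  exact h2

/-- the residue field of the closed point of the spectrum of a local ring with separably closed
residue field is separably closed. -/
theorem isSepClosed_residueField_closedPoint (A : Type u) [CommRing A] [IsLocalRing A]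
    [IsSepClosed (IsLocalRing.ResidueField A)] :
    IsSepClosed ((Spec (CommRingCat.of A)).residueField
      ((IsLocalRing.closedPoint A : PrimeSpectrum A) : ↥(Spec (CommRingCat.of A)))) := by
  let x : ↥(Spec (CommRingCat.of A)) := (IsLocalRing.closedPoint A : PrimeSpectrum A)
  have hx : x.asIdeal = IsLocalRing.maximalIdeal A := rfl
  haveI : x.asIdeal.IsMaximal := by rw [hx]; infer_instance
  let e₁ : IsLocalRing.ResidueField A ≃+* x.asIdeal.ResidueField :=
    RingEquiv.ofBijective (algebraMap (A ⧸ x.asIdeal) x.asIdeal.ResidueField)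
      (Ideal.bijective_algebraMap_quotient_residueField x.asIdeal)
  let e₂ : x.asIdeal.ResidueField ≃+* (Spec (CommRingCat.of A)).residueField x :=
    (Scheme.Spec.residueFieldIso (CommRingCat.of A) x).symm.commRingCatIsoToRingEquiv
  exact isSepClosed_of_ringEquiv (e₁.trans e₂)

/-- étale over geometrically reduced fibres has geometrically reduced fibres. -/
theorem geomRed_comp_of_etale {Z X S : Scheme.{u}} (h : Z ⟶ X) [Etale h] (f : X ⟶ S)
    (hf : GeomRed f) : GeomRed (h ≫ f) := by
  intro Ω' _ _ σ'
  haveI := hf Ω' σ'
  let m := pullback.map (h ≫ f) σ' f σ' h (𝟙 _) (𝟙 _) (by simp) (by simp)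
  have hm1 : m ≫ pullback.fst f σ' = pullback.fst (h ≫ f) σ' ≫ h := pullback.lift_fst _ _ _
  have hm2 : m ≫ pullback.snd f σ' = pullback.snd (h ≫ f) σ' :=
    (pullback.lift_snd _ _ _).trans (Category.comp_id _)
  have hm : IsPullback (pullback.fst (h ≫ f) σ') m h (pullback.fst f σ') := by
    refine IsPullback.of_bot ?_ hm1.symm (IsPullback.of_hasPullback f σ')
    rw [hm2]
    exact IsPullback.of_hasPullback (h ≫ f) σ'
  haveI : Etale m := MorphismProperty.of_isPullback (P := @Etale) hm inferInstance
  exact Groth.Agent.Lib.Helper22.HomotopyA.isReduced_of_etale m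

/-- local constancy of the geometric number of connected components, with geometric reducedness
tested on algebraically closed points. -/
theorem isLocallyConstant_nGeomConnComp {X S : Scheme.{u}} (f : X ⟶ S) [IsProper f] [Flat f]
    [LocallyOfFinitePresentation f] (hred : GeomRed f) :
    IsLocallyConstant (fun s : ↑S => MoreMor.nGeomConnComp f s) := by
  obtain ⟨hfin, het⟩ := Groth.Agent.Lib.Helper22.SteinEtG.finite_etale_fromNormalization f hred
  have heq : (fun s : ↑S => MoreMor.nGeomConnComp f s) =
      (fun n : ℕ => (n : ℕ∞)) ∘ (Scheme.Hom.finrank f.fromNormalization) := by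
    funext s
    rw [(Groth.Agent.S7838.result f s).2,
      Groth.Agent.Lib.Helper22.SteinEtH.nGeomConnComp_eq_finrank f.fromNormalization s]
    rfl
  rw [heq]
  exact (Scheme.Hom.isLocallyConstant_finrank f.fromNormalization).comp _

end Groth.Agent.Lib.Helper22.SpecFF
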