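import Mathlib
import Groth.Agent.Lib.Helper22SpecFFA
import Groth.Agent.Lib.Helper22FEtFF

set_option autoImplicit false
set_option linter.style.haveILetI false
set_option linter.unusedSectionVars false
set_option linter.unusedVariables false
universe u
open CategoryTheory CategoryTheory.Limits AlgebraicGeometry

namespace Groth.Agent.Lib.Helper22.SpecFFB

open Groth.Agent.Lib.Helper22.SteinEtF Groth.Agent.Lib.Helper22.SpecFF

/-- a connected space has exactly one connected component. -/
theorem card_connectedComponents_eq_one {T : Type*} [TopologicalSpace T] [ConnectedSpace T] :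
    ENat.card (_root_.ConnectedComponents T) = 1 := by
  refine le_antisymm Groth.Agent.Lib.Helper22.LimConn.card_le_one_of_preconnectedSpace ?_
  rw [ENat.one_le_card_iff_nonempty]
  obtain ⟨x⟩ := (inferInstance : Nonempty T)
  exact ⟨(x : _root_.ConnectedComponents T)⟩

/-- over a strictly henselian local ring, the closed fibre of a connected proper scheme has
exactly one geometric connected component. -/
theorem nGeomConnComp_closedPoint_eq_one (A : Type u) [CommRing A] [HenselianLocalRing A]
    [IsSepClosed (IsLocalRing.ResidueField A)] {W : Scheme.{u}}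
    (p : W ⟶ Spec (CommRingCat.of A)) [IsProper p] [ConnectedSpace W] :
    MoreMor.nGeomConnComp p
      ((IsLocalRing.closedPoint A : PrimeSpectrum A) : ↥(Spec (CommRingCat.of A))) = 1 := by
  let s : ↥(Spec (CommRingCat.of A)) := (IsLocalRing.closedPoint A : PrimeSpectrum A)
  haveI hsc : IsSepClosed ((Spec (CommRingCat.of A)).residueField s) :=
    isSepClosed_residueField_closedPoint A
  let κ := (Spec (CommRingCat.of A)).residueField s
  have hbij : Function.Bijective (algebraMap κ (SeparableClosure κ)) :=
    ⟨(algebraMap κ (SeparableClosure κ)).injective,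
      IsSepClosed.algebraMap_surjective κ (SeparableClosure κ)⟩
  let e : κ ≃+* SeparableClosure κ := RingEquiv.ofBijective _ hbij
  have he : CommRingCat.ofHom (algebraMap κ (SeparableClosure κ)) = e.toCommRingCatIso.hom := rfl
  haveI : IsIso (CommRingCat.ofHom (algebraMap κ (SeparableClosure κ))) := by
    rw [he]; infer_instance
  have hσ : IsIso (Spec.map (CommRingCat.ofHom (algebraMap κ (SeparableClosure κ)))) :=
    inferInstance
  haveI hfst : IsIso (pullback.fst (p.fiberToSpecResidueField s)
      (Spec.map (CommRingCat.ofHom (algebraMap κ (SeparableClosure κ))))) :=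
    @pullback_fst_iso_of_right_iso _ _ _ _ _ _ _ hσ
  have h1 : MoreMor.nGeomConnComp p s = ENat.card (_root_.ConnectedComponents ↥(p.fiber s)) :=
    Groth.Agent.Lib.Helper22.NccA.card_cc_eq_of_iso
      (@asIso _ _ _ _ (pullback.fst (p.fiberToSpecResidueField s)
        (Spec.map (CommRingCat.ofHom (algebraMap κ (SeparableClosure κ))))) hfst)
  have h2 : ENat.card (_root_.ConnectedComponents ↥(p.fiber s)) =
      ENat.card (_root_.ConnectedComponents ↥W) :=
    ENat.card_congr (Equiv.ofBijective _ (Groth.Agent.S8533.result A p))
  show MoreMor.nGeomConnComp p s = 1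
  rw [h1, h2]
  exact card_connectedComponents_eq_one

/-- over a henselian local ring, a proper scheme has finitely many connected components. -/
theorem finite_connectedComponents_of_proper_henselian (A : Type u) [CommRing A]
    [HenselianLocalRing A] {W : Scheme.{u}} (p : W ⟶ Spec (CommRingCat.of A)) [IsProper p] :
    Finite (_root_.ConnectedComponents ↥W) := by
  let s : ↥(Spec (CommRingCat.of A)) := (IsLocalRing.closedPoint A : PrimeSpectrum A)
  have hlft : LocallyOfFiniteType (p.fiberToSpecResidueField s) := by
    have : LocallyOfFiniteType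
        (pullback.snd p ((Spec (CommRingCat.of A)).fromSpecResidueField s)) := inferInstance
    exact this
  have hN : IsLocallyNoetherian (p.fiber s) :=
    LocallyOfFiniteType.isLocallyNoetherian (p.fiberToSpecResidueField s)
  have hc : CompactSpace ↥(p.fiber s) := inferInstance
  have hN' : IsNoetherian (p.fiber s) := { }
  have hNS : TopologicalSpace.NoetherianSpace ↥(p.fiber s) := inferInstance
  haveI hfinF : Finite (_root_.ConnectedComponents ↥(p.fiber s)) :=
    Groth.Agent.Lib.Helper22.SteinE.finite_connectedComponents_of_finite_irreducibleComponents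
      TopologicalSpace.NoetherianSpace.finite_irreducibleComponents
  exact Finite.of_surjective _ (Groth.Agent.S8533.result A p).2

/-- over a henselian local ring, the connected components of a proper scheme are open. -/
theorem isOpen_connectedComponent_of_proper_henselian (A : Type u) [CommRing A]
    [HenselianLocalRing A] {W : Scheme.{u}} (p : W ⟶ Spec (CommRingCat.of A)) [IsProper p]
    (z : W) : IsOpen (connectedComponent z) := by
  haveI := finite_connectedComponents_of_proper_henselian A p
  exact Groth.Agent.Lib.Helper22.SteinEtC.isOpen_connectedComponent_of_finite z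

/-- the comparison square for a composite. -/
theorem isPullback_map_comp {Z X S T : Scheme.{u}} (h : Z ⟶ X) (f : X ⟶ S) (σ : T ⟶ S) :
    IsPullback (pullback.fst (h ≫ f) σ)
      (pullback.map (h ≫ f) σ f σ h (𝟙 _) (𝟙 _) (by simp) (by simp)) h (pullback.fst f σ) := by
  let m := pullback.map (h ≫ f) σ f σ h (𝟙 _) (𝟙 _) (by simp) (by simp)
  have hm1 : m ≫ pullback.fst f σ = pullback.fst (h ≫ f) σ ≫ h := pullback.lift_fst _ _ _
  have hm2 : m ≫ pullback.snd f σ = pullback.snd (h ≫ f) σ :=
    (pullback.lift_snd _ _ _).trans (Category.comp_id _)
  show IsPullback (pullback.fst (h ≫ f) σ) m h (pullback.fst f σ)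
  refine IsPullback.of_bot ?_ hm1.symm (IsPullback.of_hasPullback f σ)
  rw [hm2]
  exact IsPullback.of_hasPullback (h ≫ f) σ

/-- over a strictly henselian local ring, for a proper flat finitely presented morphism with
geometrically reduced fibres, every geometric fibre meets every connected component of the total
space in a connected set. -/
theorem connectedComponentsMap_fst_bijective (A : Type u) [CommRing A] [HenselianLocalRing A]
    [IsSepClosed (IsLocalRing.ResidueField A)] {W : Scheme.{u}}
    (p : W ⟶ Spec (CommRingCat.of A)) [IsProper p] [Flat p] [LocallyOfFinitePresentation p]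
    (hred : GeomRed p) (Ω : Type u) [Field Ω]
    (t : Spec (CommRingCat.of Ω) ⟶ Spec (CommRingCat.of A)) :
    Function.Bijective (pullback.fst p t).continuous.connectedComponentsMap := by
  let s₀ : ↥(Spec (CommRingCat.of A)) := (IsLocalRing.closedPoint A : PrimeSpectrum A)
  let pt : ↥(Spec (CommRingCat.of Ω)) := (IsLocalRing.closedPoint Ω : PrimeSpectrum Ω)
  have hsp : ∀ y : ↥(Spec (CommRingCat.of A)), y ⤳ s₀ := fun y =>
    IsLocalRing.specializes_closedPoint (R := A) y
  constructor
  · -- injective
    intro ca cb hab
    obtain ⟨a, rfl⟩ := _root_.ConnectedComponents.surjective_coe ca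
    obtain ⟨b, rfl⟩ := _root_.ConnectedComponents.surjective_coe cb
    have hab' : (((pullback.fst p t).base a : W) : _root_.ConnectedComponents W) =
        (((pullback.fst p t).base b : W) : _root_.ConnectedComponents W) := hab
    rw [_root_.ConnectedComponents.coe_eq_coe'] at hab'
    let z : W := (pullback.fst p t).base b
    let U : W.Opens := ⟨connectedComponent z, isOpen_connectedComponent_of_proper_henselian A p z⟩
    have hUc : IsClosed (U : Set W) := isClosed_connectedComponent
    obtain ⟨hfin, het⟩ := Groth.Agent.Lib.Helper22.FEtFF.prop_ι_of_isClopen U hUc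
    let q : (U : Scheme.{u}) ⟶ Spec (CommRingCat.of A) := U.ι ≫ p
    haveI : IsProper q := inferInstance
    haveI : Flat q := inferInstance
    haveI : LocallyOfFinitePresentation q := inferInstance
    have hredq : GeomRed q := geomRed_comp_of_etale U.ι p hred
    haveI : ConnectedSpace ↥(U : Scheme.{u}) := by
      have : ConnectedSpace ↥(connectedComponent z) :=
        isConnected_iff_connectedSpace.mp isConnected_connectedComponent
      exact this
    have h1 : MoreMor.nGeomConnComp q s₀ = 1 := nGeomConnComp_closedPoint_eq_one A q
    have hlc := isLocallyConstant_nGeomConnComp q hredq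
    have h2 : MoreMor.nGeomConnComp q (t.base pt) = 1 := by
      have hopen : IsOpen ((fun s => MoreMor.nGeomConnComp q s) ⁻¹' {1}) := hlc.isOpen_fiber _
      exact (hsp (t.base pt)).mem_open hopen h1
    haveI hpre : PreconnectedSpace ↥(pullback q t) :=
      Groth.Agent.Lib.Helper22.LimConn.preconnectedSpace_pullback_of_le_one q Ω t pt h2.le
    have sq := isPullback_map_comp U.ι p t
    have hau : (pullback.fst p t).base a ∈ U := hab'
    have hbu : z ∈ U := mem_connectedComponent
    obtain ⟨a', -, ha'⟩ := AlgebraicGeometry.Scheme.exists_preimage_of_isPullback sq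
      ⟨_, hau⟩ a rfl
    obtain ⟨b', -, hb'⟩ := AlgebraicGeometry.Scheme.exists_preimage_of_isPullback sq
      ⟨_, hbu⟩ b rfl
    rw [_root_.ConnectedComponents.coe_eq_coe']
    have hr : _root_.IsPreconnected (Set.range (pullback.map (U.ι ≫ p) t p t U.ι (𝟙 _) (𝟙 _)
        (by simp) (by simp)).base) :=
      isPreconnected_range (Scheme.Hom.continuous _)
    exact hr.subset_connectedComponent ⟨b', hb'⟩ ⟨a', ha'⟩
  · -- surjective
    intro c
    obtain ⟨z, rfl⟩ := _root_.ConnectedComponents.surjective_coe c
    have hCo : IsOpen (connectedComponent z) :=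
      isOpen_connectedComponent_of_proper_henselian A p z
    have hCc : IsClosed (connectedComponent z) := isClosed_connectedComponent
    have himc : IsClosed (p.base '' connectedComponent z) := p.isClosedMap _ hCc
    have himo : IsOpen (p.base '' connectedComponent z) := p.isOpenMap _ hCo
    have hs₀ : s₀ ∈ p.base '' connectedComponent z :=
      (hsp (p.base z)).mem_closed himc ⟨z, mem_connectedComponent, rfl⟩
    have hy : t.base pt ∈ p.base '' connectedComponent z := (hsp (t.base pt)).mem_open himo hs₀
    obtain ⟨w, hwC, hw⟩ := hy
    obtain ⟨a, ha1, ha2⟩ := Scheme.Pullback.exists_preimage_pullback (f := p) (g := t) w pt hw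
    refine ⟨(a : _root_.ConnectedComponents _), ?_⟩
    show (((pullback.fst p t).base a : W) : _root_.ConnectedComponents W) =
      (z : _root_.ConnectedComponents W)
    rw [_root_.ConnectedComponents.coe_eq_coe']
    have : (pullback.fst p t).base a = w := ha1
    rw [this]
    exact hwC

/-- bijectivity on connected components transports along an isomorphism of sources. -/
theorem bijective_connectedComponentsMap_of_iso_comp {P Q W : Scheme.{u}} (e : Q ≅ P)
    (g : P ⟶ W) (g' : Q ⟶ W) (h : e.hom ≫ g = g')
    (hb : Function.Bijective g'.continuous.connectedComponentsMap) :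
    Function.Bijective g.continuous.connectedComponentsMap := by
  have hg : ∀ a' : Q, g.base (e.hom.base a') = g'.base a' := fun a' =>
    congrArg (fun ψ : Q ⟶ W => ψ.base a') h
  have he : ∀ a : P, e.hom.base (e.inv.base a) = a := fun a =>
    congrArg (fun ψ : P ⟶ P => ψ.base a) e.inv_hom_id
  constructor
  · intro ca cb hab
    obtain ⟨a, rfl⟩ := _root_.ConnectedComponents.surjective_coe ca
    obtain ⟨b, rfl⟩ := _root_.ConnectedComponents.surjective_coe cb
    have hab' : ((g.base a : W) : _root_.ConnectedComponents W) =
        ((g.base b : W) : _root_.ConnectedComponents W) := hab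
    have h1 : g'.continuous.connectedComponentsMap ((e.inv.base a : Q) : _root_.ConnectedComponents Q)
        = g'.continuous.connectedComponentsMap ((e.inv.base b : Q) : _root_.ConnectedComponents Q) := by
      show ((g'.base (e.inv.base a) : W) : _root_.ConnectedComponents W) =
        ((g'.base (e.inv.base b) : W) : _root_.ConnectedComponents W)
      rw [← hg, ← hg, he, he]
      exact hab'
    have h2 := hb.1 h1
    rw [_root_.ConnectedComponents.coe_eq_coe'] at h2 ⊢
    have h3 : e.hom.base (e.inv.base a) ∈ connectedComponent (e.hom.base (e.inv.base b)) :=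
      e.hom.continuous.image_connectedComponent_subset _ ⟨_, h2, rfl⟩
    rwa [he, he] at h3
  · intro c
    obtain ⟨a', ha'⟩ := hb.2 c
    obtain ⟨a'', rfl⟩ := _root_.ConnectedComponents.surjective_coe a'
    refine ⟨((e.hom.base a'' : P) : _root_.ConnectedComponents P), ?_⟩
    rw [← ha']
    show ((g.base (e.hom.base a'') : W) : _root_.ConnectedComponents W) =
      ((g'.base a'' : W) : _root_.ConnectedComponents W)
    rw [hg]

/-- the specialisation statement: restriction of finite étale covers to a geometric fibre of a
proper flat finitely presented morphism with geometrically connected and reduced fibres over a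
strictly henselian local ring is fully faithful. -/
theorem restrict_full_faithful (A : Type u) [CommRing A] [HenselianLocalRing A]
    [IsSepClosed (IsLocalRing.ResidueField A)] {X : Scheme.{u}} (f : X ⟶ Spec (CommRingCat.of A))
    [IsProper f] [Flat f] [LocallyOfFinitePresentation f]
    (hred : GeomRed f)
    (Ω : Type u) [Field Ω] (t : Spec (CommRingCat.of Ω) ⟶ Spec (CommRingCat.of A)) :
    (FEt.restrict (pullback.fst f t)).Full ∧ (FEt.restrict (pullback.fst f t)).Faithful := by
  apply Groth.Agent.Lib.Helper22.FEtFF.full_faithful_of_connectedComponents_bijective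
    (pullback.fst f t)
  · intro W w _ _ z
    haveI : IsProper (w ≫ f) := inferInstance
    exact isOpen_connectedComponent_of_proper_henselian A (w ≫ f) z
  · intro Y
    have hY : IsFinite Y.hom ∧ Etale Y.hom := Y.prop
    haveI := hY.1
    haveI := hY.2
    haveI : IsProper (Y.hom ≫ f) := inferInstance
    haveI : Flat (Y.hom ≫ f) := inferInstance
    haveI : LocallyOfFinitePresentation (Y.hom ≫ f) := inferInstance
    have hredp : GeomRed (Y.hom ≫ f) := geomRed_comp_of_etale Y.hom f hred
    have hb := connectedComponentsMap_fst_bijective A (Y.hom ≫ f) hredp Ω t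
    have sq := isPullback_map_comp Y.hom f t
    exact bijective_connectedComponentsMap_of_iso_comp sq.isoPullback
      (pullback.fst Y.hom (pullback.fst f t)) (pullback.fst (Y.hom ≫ f) t)
      sq.isoPullback_hom_fst hb

end Groth.Agent.Lib.Helper22.SpecFFB
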