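import Mathlib

/-!
# Spreading out isomorphisms of local rings of finitely presented algebras (helper22)
-/

set_option autoImplicit false
universe u

namespace Groth.Agent.Lib.Helper22.SpreadIso

open IsLocalization

/-- Lemma A: an `R`-algebra map from a finitely presented algebra `S` to a localization `L = M⁻¹T`
factors through `T_t` for some `t ∈ M`. -/
theorem exists_lift_away {R S T L : Type*} [CommRing R] [CommRing S] [CommRing T] [CommRing L]
    [Algebra R S] [Algebra R T] [Algebra R L] [Algebra T L] [IsScalarTower R T L]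
    [Algebra.FinitePresentation R S] (M : Submonoid T) [IsLocalization M L] (ψ : S →ₐ[R] L) :
    ∃ t ∈ M, ∃ φ : S →ₐ[R] Localization.Away t,
      ∀ χ : Localization.Away t →ₐ[T] L, ∀ s, χ (φ s) = ψ s := by
  classical
  obtain ⟨n, f, hf, hker⟩ := Algebra.FinitePresentation.out (R := R) (A := S)
  -- choose numerators and denominators
  have h1 : ∀ i : Fin n, ∃ (a : T) (m : M), ψ (f (MvPolynomial.X i)) * algebraMap T L m =
      algebraMap T L a := fun i => by
    obtain ⟨⟨a, m⟩, h⟩ := IsLocalization.surj M (ψ (f (MvPolynomial.X i)))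
    exact ⟨a, m, h⟩
  choose a m ham using h1
  set m₀ : T := ∏ i, (m i : T) with hm₀
  have hm₀M : m₀ ∈ M := prod_mem (fun i _ => (m i).2)
  let a' : Fin n → T := fun i => a i * ∏ j ∈ Finset.univ.erase i, (m j : T)
  have ha' : ∀ i, ψ (f (MvPolynomial.X i)) * algebraMap T L m₀ = algebraMap T L (a' i) := by
    intro i
    rw [hm₀, ← Finset.mul_prod_erase Finset.univ (fun j => (m j : T)) (Finset.mem_univ i),
      map_mul, ← mul_assoc, ham, ← map_mul]
  let φ₀ : MvPolynomial (Fin n) R →ₐ[R] Localization.Away m₀ :=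
    MvPolynomial.aeval (fun i => IsLocalization.mk' (Localization.Away m₀) (a' i)
      (⟨m₀, Submonoid.mem_powers m₀⟩ : Submonoid.powers m₀))
  have hm₀unit : IsUnit (algebraMap T L m₀) := IsLocalization.map_units L ⟨m₀, hm₀M⟩
  have hφ₀ : ∀ (χ : Localization.Away m₀ →ₐ[T] L) (p : MvPolynomial (Fin n) R),
      χ (φ₀ p) = ψ (f p) := by
    intro χ p
    have : ((χ.restrictScalars R).comp φ₀) = ψ.comp f := by
      apply MvPolynomial.algHom_ext
      intro i
      simp only [AlgHom.comp_apply, AlgHom.restrictScalars_apply, φ₀, MvPolynomial.aeval_X]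
      apply hm₀unit.mul_right_cancel
      rw [ha', ← χ.commutes m₀, ← map_mul]
      rw [IsLocalization.mk'_spec (Localization.Away m₀) (a' i)
        (⟨m₀, Submonoid.mem_powers m₀⟩ : Submonoid.powers m₀)]
      exact χ.commutes _
    exact DFunLike.congr_fun this p
  let χ₀ : Localization.Away m₀ →ₐ[T] L :=
    IsLocalization.Away.liftAlgHom (f := Algebra.ofId T L) m₀ hm₀unit
  obtain ⟨s, hs⟩ := hker
  -- each generator of the kernel dies after inverting a further element of `M`
  have h2 : ∀ k : MvPolynomial (Fin n) R, k ∈ s → ∃ u ∈ M, ∀ u' : T, u ∣ u' →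
      ∀ ι : Localization.Away m₀ →ₐ[T] Localization.Away (m₀ * u'), ι (φ₀ k) = 0 := by
    intro k hk
    obtain ⟨N, c, hc⟩ := IsLocalization.Away.surj m₀ (φ₀ k)
    have hk0 : f k = 0 := by
      have : k ∈ RingHom.ker f.toRingHom := hs ▸ Ideal.subset_span hk
      exact this
    have hc0 : algebraMap T L c = 0 := by
      have := congrArg χ₀ hc
      rw [map_mul, hφ₀ χ₀ k, hk0, map_zero, zero_mul] at this
      rw [← χ₀.commutes c]
      exact this.symm
    obtain ⟨u, hu⟩ := (IsLocalization.map_eq_zero_iff M L c).mp hc0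
    refine ⟨u, u.2, fun u' hu' ι => ?_⟩
    have hcu : algebraMap T (Localization.Away (m₀ * u')) c = 0 := by
      have hunit : IsUnit (algebraMap T (Localization.Away (m₀ * u')) u) :=
        IsLocalization.Away.isUnit_of_dvd (x := m₀ * u') (hu'.trans (Dvd.intro_left _ rfl))
      apply hunit.mul_left_cancel
      rw [← map_mul, hu, map_zero, mul_zero]
    have hmunit : IsUnit (algebraMap T (Localization.Away (m₀ * u')) m₀ ^ N) :=
      (IsLocalization.Away.isUnit_of_dvd (x := m₀ * u') (Dvd.intro _ rfl)).pow N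
    apply hmunit.mul_right_cancel
    rw [zero_mul, ← ι.commutes m₀, ← map_pow, ← map_mul, hc, ι.commutes, hcu]
  choose! u huM hu using h2
  set u₀ : T := ∏ k ∈ s, u k with hu₀
  have hu₀M : u₀ ∈ M := prod_mem (fun k hk => huM k hk)
  refine ⟨m₀ * u₀, mul_mem hm₀M hu₀M, ?_⟩
  let ι : Localization.Away m₀ →ₐ[T] Localization.Away (m₀ * u₀) :=
    IsLocalization.Away.liftAlgHom (f := Algebra.ofId T (Localization.Away (m₀ * u₀))) m₀
      (IsLocalization.Away.isUnit_of_dvd (x := m₀ * u₀) (Dvd.intro _ rfl))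
  let φ₁ : MvPolynomial (Fin n) R →ₐ[R] Localization.Away (m₀ * u₀) :=
    (ι.restrictScalars R).comp φ₀
  have H : RingHom.ker f.toRingHom ≤ RingHom.ker φ₁.toRingHom := by
    rw [← hs, Ideal.span_le]
    intro k hk
    exact hu k hk u₀ (Finset.dvd_prod_of_mem _ hk) ι
  refine ⟨AlgHom.liftOfSurjective f hf φ₁ H, fun χ x => ?_⟩
  obtain ⟨p, rfl⟩ := hf x
  rw [AlgHom.liftOfSurjective_apply]
  exact hφ₀ (χ.comp ι) p

private lemma alg1 {K : Type*} [CommRing K] (z T A₁ C Y Al : K) (i k k₀ : ℕ)
    (hz : z * (T * (A₁ * C)) ^ i = Y) (hy : Y * A₁ ^ k = Al) (hT : T * A₁ ^ k₀ = C) :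
    z * (A₁ * C) ^ (i + i + k) = Al * A₁ ^ (k₀ * i + i) * C ^ k := by
  have hCi : C ^ i = T ^ i * (A₁ ^ k₀) ^ i := by rw [← hT, mul_pow]
  linear_combination (z * (A₁ * C) ^ i * A₁ ^ i * A₁ ^ k * C ^ k) * hCi +
    (A₁ ^ i * A₁ ^ k * C ^ k * (A₁ ^ k₀) ^ i) * hz + (A₁ ^ (k₀ * i + i) * C ^ k) * hy

private lemma alg2 {K : Type*} [CommRing K] (T A₁ C X Y : K) (j k₀ : ℕ)
    (h : (T * (A₁ * C)) ^ j * X = (T * (A₁ * C)) ^ j * Y) (hT : T * A₁ ^ k₀ = C) :
    C ^ j * (A₁ * C) ^ j * X = C ^ j * (A₁ * C) ^ j * Y := by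
  have hCj : C ^ j = T ^ j * (A₁ ^ k₀) ^ j := by rw [← hT, mul_pow]
  linear_combination ((A₁ * C) ^ j * (X - Y)) * hCj + ((A₁ ^ k₀) ^ j) * h

/-- Lemma B: if `B` is a finitely presented `A`-algebra and `L` is at the same time the
localization of `A` at a prime `p` and a localization of `B`, then `B_b` is the localization
`A_a` for suitable `a ∉ p` and `b` invertible in `L`. -/
theorem exists_away_isLocalization {A B L : Type*} [CommRing A] [CommRing B] [CommRing L]
    [Algebra A B] [Algebra A L] [Algebra B L] [IsScalarTower A B L]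
    [Algebra.FinitePresentation A B] (p : Ideal A) [p.IsPrime] [IsLocalization.AtPrime L p]
    (M : Submonoid B) [IsLocalization M L] :
    ∃ a ∉ p, ∃ b : B, IsUnit (algebraMap B L b) ∧
      IsLocalization.Away a (Localization.Away b) := by
  classical
  obtain ⟨a₁, ha₁, φ, hφ⟩ := exists_lift_away (R := A) (S := B) (T := A) (L := L) p.primeCompl
    (IsScalarTower.toAlgHom A B L)
  have ha₁unit : IsUnit (algebraMap A L a₁) := IsLocalization.map_units L ⟨a₁, ha₁⟩
  let χ₁ : Localization.Away a₁ →ₐ[A] L :=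
    IsLocalization.Away.liftAlgHom (f := Algebra.ofId A L) a₁ ha₁unit
  have hχ₁ : ∀ y : B, χ₁ (φ y) = algebraMap B L y := fun y => hφ χ₁ y
  -- numerators for all `y : B`
  have h1 : ∀ y : B, ∃ (k : ℕ) (α : A) (t : B), t ∈ M ∧
      φ y * algebraMap A (Localization.Away a₁) a₁ ^ k = algebraMap A _ α ∧
      t * (y * algebraMap A B a₁ ^ k - algebraMap A B α) = 0 := by
    intro y
    obtain ⟨k, α, h⟩ := IsLocalization.Away.surj a₁ (φ y)
    have h' := congrArg χ₁ h
    rw [map_mul, map_pow, hχ₁, χ₁.commutes, χ₁.commutes] at h'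
    have h0 : algebraMap B L (y * algebraMap A B a₁ ^ k - algebraMap A B α) = 0 := by
      rw [map_sub, map_mul, map_pow, ← IsScalarTower.algebraMap_apply,
        ← IsScalarTower.algebraMap_apply, h', sub_self]
    obtain ⟨t, ht⟩ := (IsLocalization.map_eq_zero_iff M L _).mp h0
    exact ⟨k, α, t, t.2, h, ht⟩
  choose k α t htM hkα ht using h1
  obtain ⟨s, hs⟩ := (Algebra.FiniteType.out : (⊤ : Subalgebra A B).FG)
  set t₀ : B := ∏ y ∈ s, t y with ht₀
  have ht₀M : t₀ ∈ M := prod_mem (fun y _ => htM y)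
  have ht₀unit : IsUnit (algebraMap B L t₀) := IsLocalization.map_units L ⟨t₀, ht₀M⟩
  set k₀ := k t₀ with hk₀
  set c := α t₀ with hc
  have hcp : c ∈ p.primeCompl := by
    rw [← IsLocalization.AtPrime.isUnit_to_map_iff L p c]
    have h' := congrArg χ₁ (hkα t₀)
    rw [map_mul, map_pow, hχ₁, χ₁.commutes, χ₁.commutes] at h'
    rw [← h']
    exact ht₀unit.mul (ha₁unit.pow _)
  refine ⟨a₁ * c, fun h => (Ideal.IsPrime.mem_or_mem ‹_› h).elim ha₁ hcp,
    t₀ * algebraMap A B (a₁ * c), ?_, ?_⟩
  · rw [map_mul, ← IsScalarTower.algebraMap_apply, map_mul]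
    exact ht₀unit.mul (ha₁unit.mul ((IsLocalization.AtPrime.isUnit_to_map_iff L p c).mpr hcp))
  set b : B := t₀ * algebraMap A B (a₁ * c) with hb
  have hAB : ∀ x : A, algebraMap A (Localization.Away b) x =
      algebraMap B (Localization.Away b) (algebraMap A B x) := fun x =>
    IsScalarTower.algebraMap_apply A B (Localization.Away b) x
  have hunit_of_dvd : ∀ y : B, y ∣ b → IsUnit (algebraMap B (Localization.Away b) y) :=
    fun y hy => IsLocalization.Away.isUnit_of_dvd (x := b) hy
  have hAunit : IsUnit (algebraMap A (Localization.Away b) a₁) := by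
    rw [hAB]
    apply hunit_of_dvd
    rw [hb, map_mul]
    exact ⟨t₀ * algebraMap A B c, by ring⟩
  have hCunit : IsUnit (algebraMap A (Localization.Away b) c) := by
    rw [hAB]
    apply hunit_of_dvd
    rw [hb, map_mul]
    exact ⟨t₀ * algebraMap A B a₁, by ring⟩
  let ι : Localization.Away a₁ →ₐ[A] Localization.Away b :=
    IsLocalization.Away.liftAlgHom (f := Algebra.ofId A (Localization.Away b)) a₁ hAunit
  have hcan : ∀ y : B, ι (φ y) = algebraMap B (Localization.Away b) y := by
    have : ι.comp φ = IsScalarTower.toAlgHom A B (Localization.Away b) := by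
      apply AlgHom.ext_of_adjoin_eq_top hs
      intro y hy
      simp only [AlgHom.comp_apply, IsScalarTower.coe_toAlgHom']
      apply (hAunit.pow (k y)).mul_right_cancel
      have h' := congrArg ι (hkα y)
      rw [map_mul, map_pow, ι.commutes, ι.commutes] at h'
      rw [h']
      have htunit : IsUnit (algebraMap B (Localization.Away b) (t y)) := by
        apply hunit_of_dvd
        rw [hb, ht₀]
        exact (Finset.dvd_prod_of_mem _ hy).trans (Dvd.intro _ rfl)
      have h0 : algebraMap B (Localization.Away b)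
          (y * algebraMap A B a₁ ^ k y - algebraMap A B (α y)) = 0 := by
        apply htunit.mul_left_cancel
        rw [← map_mul, ht, map_zero, mul_zero]
      rw [map_sub, map_mul, map_pow, ← hAB, ← hAB, sub_eq_zero] at h0
      exact h0.symm
    exact fun y => DFunLike.congr_fun this y
  have hbB : algebraMap B (Localization.Away b) b =
      algebraMap B (Localization.Away b) t₀ *
        (algebraMap A (Localization.Away b) a₁ * algebraMap A (Localization.Away b) c) := by
    show algebraMap B (Localization.Away b) (t₀ * algebraMap A B (a₁ * c)) = _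
    rw [map_mul, ← hAB, map_mul]
  have hT : algebraMap B (Localization.Away b) t₀ * algebraMap A (Localization.Away b) a₁ ^ k₀ =
      algebraMap A (Localization.Away b) c := by
    have h' := congrArg ι (hkα t₀)
    rw [map_mul, map_pow, ι.commutes, ι.commutes, hcan] at h'
    exact h'
  refine IsLocalization.Away.mk _ ?_ ?_ ?_
  · rw [map_mul]
    exact hAunit.mul hCunit
  · intro z
    obtain ⟨i, y, hz⟩ := IsLocalization.Away.surj b z
    have hy := congrArg ι (hkα y)
    rw [map_mul, map_pow, ι.commutes, ι.commutes, hcan] at hy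
    refine ⟨i + i + k y, α y * a₁ ^ (k₀ * i + i) * c ^ k y, ?_⟩
    rw [hbB] at hz
    simp only [map_mul, map_pow]
    exact alg1 z _ _ _ _ _ i (k y) k₀ hz hy hT
  · intro x y hxy
    rw [hAB, hAB] at hxy
    obtain ⟨j, hj⟩ := IsLocalization.Away.exists_of_eq b hxy
    have h' := congrArg φ hj
    rw [map_mul, map_mul, map_pow, φ.commutes, φ.commutes] at h'
    have hφb : φ b = φ t₀ * (algebraMap A (Localization.Away a₁) a₁ *
        algebraMap A (Localization.Away a₁) c) := by
      show φ (t₀ * algebraMap A B (a₁ * c)) = _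
      rw [map_mul, φ.commutes, map_mul]
    rw [hφb] at h'
    have h2 : algebraMap A (Localization.Away a₁) (c ^ j * (a₁ * c) ^ j * x) =
        algebraMap A (Localization.Away a₁) (c ^ j * (a₁ * c) ^ j * y) := by
      have hc' : φ t₀ * algebraMap A (Localization.Away a₁) a₁ ^ k₀ =
        algebraMap A (Localization.Away a₁) c := hkα t₀
      simp only [map_mul, map_pow]
      exact alg2 _ _ _ _ _ j k₀ h' hc'
    obtain ⟨m, hm⟩ := IsLocalization.Away.exists_of_eq a₁ h2
    refine ⟨m + j + j, ?_⟩
    linear_combination (c ^ m * a₁ ^ j) * hm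

end Groth.Agent.Lib.Helper22.SpreadIso
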