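import Mathlib
import Groth.Agent.Lib.Helper22SqZero
import Groth.Agent.Lib.Helper22SqZero2
import Groth.Agent.Lib.Helper22ThickAffine

/-!
# Thickenings of quasi-affine schemes are quasi-affine (Stacks 0B7L)

ns `Groth.Agent.Lib.Helper22.SqZeroQA`. For a surjective closed immersion `t : X ⟶ X'` with `X`
quasi-affine: `exists_coboundary_rad` (Čech `H¹` is killed by a power of `u` when `X_u` is affine),
`exists_isLiftOn_top_pow` (a power of `u` lifts to a global function of `X'`),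
`isQuasiAffine_of_sqZero'`, `isQuasiAffine_of_pow_eq_bot`, `isQuasiAffine_of_thickening`.
-/

set_option autoImplicit false
universe u

namespace Groth.Agent.Lib.Helper22.SqZeroQA

open AlgebraicGeometry CategoryTheory TopologicalSpace Limits
open Groth.Agent.Lib.Helper22.SqZero

variable {X X' : Scheme.{u}} {t : X ⟶ X'}

theorem exists_good_qa [IsClosedImmersion t] [X.IsQuasiAffine] (ht : Function.Surjective t)
    (x' : X') : ∃ (W : X'.Opens) (h : Γ(X, ⊤)), Good t W h ∧ x' ∈ W := by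
  obtain ⟨x, rfl⟩ := ht x'
  obtain ⟨_, ⟨U, hU, rfl⟩, hxU, -⟩ := X'.isBasis_affineOpens.exists_subset_of_mem_open
    (Set.mem_univ (t x)) isOpen_univ
  obtain ⟨_, ⟨_, ⟨h, hh, rfl⟩, rfl⟩, hxh, hle⟩ :=
    (Scheme.IsQuasiAffine.isBasis_basicOpen X).exists_subset_of_mem_open
      (show x ∈ ((t ⁻¹ᵁ U : X.Opens) : Set X) from hxU) (t ⁻¹ᵁ U).isOpen
  obtain ⟨η, hη⟩ := exists_isLiftOn (t := t) hU h
  refine ⟨X'.basicOpen η, h, ⟨hU.basicOpen η, ?_⟩, ?_⟩
  · rw [preimage_basicOpen_of_isLiftOn hη]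
    exact inf_eq_right.mpr hle
  · change x ∈ t ⁻¹ᵁ (X'.basicOpen η)
    rw [preimage_basicOpen_of_isLiftOn hη]
    exact ⟨hxU, hxh⟩

/-- if `X_u` is affine and covered by the `X_{h l}`, a power of `u` lies in the ideal generated by
the `N`-th powers of the `h l`. -/
theorem exists_pow_mem_span [CompactSpace X] [QuasiSeparatedSpace X] (u : Γ(X, ⊤))
    (hu : IsAffineOpen (X.basicOpen u)) {ι : Type*} (h : ι → Γ(X, ⊤))
    (hcov : X.basicOpen u ≤ ⨆ l, X.basicOpen (h l)) (N : ℕ) :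
    ∃ M : ℕ, u ^ M ∈ Ideal.span (Set.range fun l => h l ^ N) := by
  have hloc : IsLocalization.Away u Γ(X, X.basicOpen u) :=
    isLocalization_basicOpen_of_qcqs (U := ⊤) isCompact_univ isQuasiSeparated_univ u
  by_contra hcon
  push Not at hcon
  set J : Ideal Γ(X, ⊤) := Ideal.span (Set.range fun l => h l ^ N) with hJ
  have hdisj : Disjoint ((Submonoid.powers u : Submonoid Γ(X, ⊤)) : Set Γ(X, ⊤)) (J : Set Γ(X, ⊤)) := by
    rw [Set.disjoint_left]
    rintro _ ⟨M, rfl⟩ hM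
    exact hcon M hM
  have hne := (IsLocalization.map_algebraMap_ne_top_iff_disjoint (Submonoid.powers u)
    Γ(X, X.basicOpen u) J).mpr hdisj
  apply hne
  -- the restrictions generate the unit ideal
  have hspan : Ideal.span (Set.range fun l => algebraMap Γ(X, ⊤) Γ(X, X.basicOpen u) (h l)) = ⊤ := by
    rw [← hu.self_le_iSup_basicOpen_iff]
    intro x hx
    obtain ⟨l, hl⟩ := Opens.mem_iSup.mp (hcov hx)
    refine Opens.mem_iSup.mpr ⟨⟨_, ⟨l, rfl⟩⟩, ?_⟩
    simp only [RingHom.algebraMap_toAlgebra]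
    rw [Scheme.basicOpen_res]
    exact ⟨hx, hl⟩
  have hspanN := Ideal.span_pow_eq_top _ hspan N
  rw [hJ, Ideal.map_span, ← Set.range_comp]
  rw [← Set.range_comp] at hspanN
  convert hspanN using 3
  ext l
  simp only [Function.comp_apply, map_pow]

/-- Čech `H¹` of the square-zero kernel is killed by a power of `u`. -/
theorem exists_coboundary_rad [IsClosedImmersion t] (ht : Function.Surjective t)
    {ι : Type*} [Fintype ι] (W : ι → X'.Opens) (h : ι → Γ(X, ⊤)) (hW : ∀ k, Good t (W k) (h k))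
    (u : Γ(X, ⊤))
    (hrad : ∀ N : ℕ, ∃ M : ℕ, u ^ M ∈ Ideal.span (Set.range fun l => h l ^ N))
    (hsq : ∀ U : X'.Opens, IsAffineOpen U →
      ∀ a ∈ RingHom.ker (τ t U), ∀ b ∈ RingHom.ker (τ t U), a * b = 0)
    (c : ∀ k m, Γ(X', W k ⊓ W m)) (hc : ∀ k m, c k m ∈ RingHom.ker (τ t (W k ⊓ W m)))
    (hcocycle : ∀ k m l,
      rX' (inf_le_inf_right (W l) inf_le_left : W k ⊓ W m ⊓ W l ≤ W k ⊓ W l) (c k l) -
      rX' (inf_le_inf_right (W l) inf_le_right : W k ⊓ W m ⊓ W l ≤ W m ⊓ W l) (c m l) =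
      rX' (inf_le_left : W k ⊓ W m ⊓ W l ≤ W k ⊓ W m) (c k m)) :
    ∃ (M : ℕ) (e : ∀ k, Γ(X', W k)), (∀ k, e k ∈ RingHom.ker (τ t (W k))) ∧
      ∀ k m (υ : Γ(X', W k ⊓ W m)), IsLiftOn t (W k ⊓ W m) υ u →
        rX' (inf_le_left : W k ⊓ W m ≤ W k) (e k) -
        rX' (inf_le_right : W k ⊓ W m ≤ W m) (e m) = υ ^ M * c k m := by
  classical
  have hη : ∀ k l, ∃ η : Γ(X', W k), IsLiftOn t (W k) η (h l) :=
    fun k l => exists_isLiftOn (hW k).1 (h l)
  choose η hη using hη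
  have hW2 : ∀ k l, Good t (W k ⊓ W l) (h k * h l) := fun k l => (hW k).inf ht (hW l)
  have hW3 : ∀ k m l, Good t (W k ⊓ W m ⊓ W l) (h k * h m * h l) :=
    fun k m l => (hW2 k m).inf ht (hW l)
  have hbo : ∀ k l, W k ⊓ W l = X'.basicOpen (η k l) :=
    fun k l => (basicOpen_eq_inf ht (hη k l) (hW l)).symm
  -- Step 2
  have h2 : ∀ k l, ∃ (n : ℕ) (d : Γ(X', W k)), d ∈ RingHom.ker (τ t (W k)) ∧
      rX' (inf_le_left : W k ⊓ W l ≤ W k) d =
        (rX' (inf_le_left : W k ⊓ W l ≤ W k) (η k l)) ^ n * c k l :=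
    fun k l => exists_pow_mul_eq_rX' (hW k).1 (η k l) (hbo k l) inf_le_left (c k l) (hc k l)
  choose n₁ d₁ hd₁ker hd₁ using h2
  let N₁ := Finset.univ.sup (fun p : ι × ι => n₁ p.1 p.2)
  have hN₁ : ∀ k l, n₁ k l ≤ N₁ := fun k l =>
    Finset.le_sup (f := fun p : ι × ι => n₁ p.1 p.2) (Finset.mem_univ (k, l))
  let d : ∀ k, ι → Γ(X', W k) := fun k l => (η k l) ^ (N₁ - n₁ k l) * d₁ k l
  have hdker : ∀ k l, d k l ∈ RingHom.ker (τ t (W k)) :=
    fun k l => Ideal.mul_mem_left _ _ (hd₁ker k l)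
  have hd : ∀ k l, rX' (inf_le_left : W k ⊓ W l ≤ W k) (d k l) =
      (rX' (inf_le_left : W k ⊓ W l ≤ W k) (η k l)) ^ N₁ * c k l := by
    intro k l
    simp only [d, map_mul, map_pow, hd₁]
    rw [← mul_assoc, ← pow_add, Nat.sub_add_cancel (hN₁ k l)]
  -- Step 3
  let δ : ∀ k m, ι → Γ(X', W k ⊓ W m) := fun k m l =>
    rX' (inf_le_left : W k ⊓ W m ≤ W k) (d k l) - rX' (inf_le_right : W k ⊓ W m ≤ W m) (d m l) -
      (rX' (inf_le_left : W k ⊓ W m ≤ W k) (η k l)) ^ N₁ * c k m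
  have hδ : ∀ k m l, rX' (inf_le_left : W k ⊓ W m ⊓ W l ≤ W k ⊓ W m) (δ k m l) = 0 := by
    intro k m l
    have hk3 : (W k ⊓ W m ⊓ W l) ≤ W k := inf_le_left.trans inf_le_left
    have hm3 : (W k ⊓ W m ⊓ W l) ≤ W m := inf_le_left.trans inf_le_right
    have j₂ : W k ⊓ W m ⊓ W l ≤ W k ⊓ W l := inf_le_inf_right (W l) inf_le_left
    have j₃ : W k ⊓ W m ⊓ W l ≤ W m ⊓ W l := inf_le_inf_right (W l) inf_le_right
    have e1 : rX' (inf_le_left : W k ⊓ W m ⊓ W l ≤ W k ⊓ W m)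
        (rX' (inf_le_left : W k ⊓ W m ≤ W k) (d k l)) =
        (rX' hk3 (η k l)) ^ N₁ * rX' j₂ (c k l) := by
      rw [rX'_rX', ← rX'_rX' j₂ (inf_le_left : W k ⊓ W l ≤ W k), hd, map_mul, map_pow, rX'_rX']
    have e2 : rX' (inf_le_left : W k ⊓ W m ⊓ W l ≤ W k ⊓ W m)
        (rX' (inf_le_right : W k ⊓ W m ≤ W m) (d m l)) =
        (rX' hk3 (η k l)) ^ N₁ * rX' j₃ (c m l) := by
      rw [rX'_rX', ← rX'_rX' j₃ (inf_le_left : W m ⊓ W l ≤ W m), hd, map_mul, map_pow, rX'_rX']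
      exact mul_eq_of_isLiftOn (hsq _ (hW3 k m l).1) (((hη m l).res _).pow N₁)
        (((hη k l).res _).pow N₁) (rX'_mem_ker j₃ (hc m l))
    have e3 : rX' (inf_le_left : W k ⊓ W m ⊓ W l ≤ W k ⊓ W m)
        ((rX' (inf_le_left : W k ⊓ W m ≤ W k) (η k l)) ^ N₁ * c k m) =
        (rX' hk3 (η k l)) ^ N₁ * rX' inf_le_left (c k m) := by
      rw [map_mul, map_pow, rX'_rX']
    simp only [δ, map_sub]
    rw [e1, e2, e3, ← mul_sub, ← mul_sub, hcocycle k m l, sub_self, mul_zero]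
  have h3 : ∀ k m l, ∃ n : ℕ, (rX' (inf_le_left : W k ⊓ W m ≤ W k) (η k l)) ^ n * δ k m l = 0 := by
    intro k m l
    refine exists_pow_mul_eq_zero (hW2 k m).1 _ ?_ inf_le_left _ (hδ k m l)
    exact (basicOpen_eq_inf ht ((hη k l).res _) (hW l)).symm
  choose n₂ hn₂ using h3
  let N₂ := Finset.univ.sup (fun p : ι × ι × ι => n₂ p.1 p.2.1 p.2.2)
  have hN₂ : ∀ k m l, n₂ k m l ≤ N₂ := fun k m l =>
    Finset.le_sup (f := fun p : ι × ι × ι => n₂ p.1 p.2.1 p.2.2) (Finset.mem_univ (k, m, l))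
  have hδ0 : ∀ k m l, (rX' (inf_le_left : W k ⊓ W m ≤ W k) (η k l)) ^ N₂ * δ k m l = 0 := by
    intro k m l
    rw [← Nat.sub_add_cancel (hN₂ k m l), pow_add, mul_assoc, hn₂, mul_zero]
  -- Step 4 : "partition of `u ^ M`"
  obtain ⟨M, hM⟩ := hrad (N₁ + N₂)
  obtain ⟨a, ha⟩ := Ideal.mem_span_range_iff_exists_fun.mp hM
  have hα : ∀ k l, ∃ α : Γ(X', W k), IsLiftOn t (W k) α (a l) :=
    fun k l => exists_isLiftOn (hW k).1 (a l)
  choose α hα using hα
  let e : ∀ k, Γ(X', W k) := fun k => ∑ l, α k l * (η k l) ^ N₂ * d k l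
  have heker : ∀ k, e k ∈ RingHom.ker (τ t (W k)) :=
    fun k => Ideal.sum_mem _ fun l _ => Ideal.mul_mem_left _ _ (hdker k l)
  refine ⟨M, e, heker, ?_⟩
  intro k m υ hυ
  -- Step 5
  have hterm : ∀ l, rX' (inf_le_left : W k ⊓ W m ≤ W k) (α k l * (η k l) ^ N₂ * d k l) -
      rX' (inf_le_right : W k ⊓ W m ≤ W m) (α m l * (η m l) ^ N₂ * d m l) =
      rX' (inf_le_left : W k ⊓ W m ≤ W k) (α k l * (η k l) ^ (N₁ + N₂)) * c k m := by
    intro l
    have hsw : rX' (inf_le_right : W k ⊓ W m ≤ W m) (α m l * (η m l) ^ N₂) *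
        rX' (inf_le_right : W k ⊓ W m ≤ W m) (d m l) =
        rX' (inf_le_left : W k ⊓ W m ≤ W k) (α k l * (η k l) ^ N₂) *
        rX' (inf_le_right : W k ⊓ W m ≤ W m) (d m l) :=
      mul_eq_of_isLiftOn (hsq _ (hW2 k m).1) (((hα m l).mul ((hη m l).pow N₂)).res _)
        (((hα k l).mul ((hη k l).pow N₂)).res _) (rX'_mem_ker _ (hdker m l))
    have hδeq : rX' (inf_le_left : W k ⊓ W m ≤ W k) (d k l) -
        rX' (inf_le_right : W k ⊓ W m ≤ W m) (d m l) =
        δ k m l + (rX' (inf_le_left : W k ⊓ W m ≤ W k) (η k l)) ^ N₁ * c k m := by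
      simp only [δ]; ring
    rw [map_mul (rX' (inf_le_left : W k ⊓ W m ≤ W k)), map_mul (rX' (inf_le_right : W k ⊓ W m ≤ W m)),
      hsw, ← mul_sub, hδeq, mul_add]
    have hz : rX' (inf_le_left : W k ⊓ W m ≤ W k) (α k l * (η k l) ^ N₂) * δ k m l = 0 := by
      rw [map_mul, map_pow, mul_assoc, hδ0, mul_zero]
    rw [hz, zero_add, ← mul_assoc]
    congr 1
    simp only [map_mul, map_pow]
    ring
  rw [map_sum, map_sum, ← Finset.sum_sub_distrib, Finset.sum_congr rfl fun l _ => hterm l,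
    ← Finset.sum_mul, ← map_sum]
  have hone : IsLiftOn t (W k) (∑ l, α k l * (η k l) ^ (N₁ + N₂)) (u ^ M) := by
    rw [← ha]
    exact IsLiftOn.sum _ fun l _ => (hα k l).mul ((hη k l).pow _)
  exact mul_eq_of_isLiftOn (hsq _ (hW2 k m).1) (hone.res (inf_le_left : W k ⊓ W m ≤ W k))
    (hυ.pow M) (hc k m)

/-- finite good cover of a thickening of a quasi-affine scheme -/
theorem exists_finite_good_cover_qa [IsClosedImmersion t] [X.IsQuasiAffine]
    (ht : Function.Surjective t) :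
    ∃ (ι : Type u) (_ : Fintype ι) (W : ι → X'.Opens) (h : ι → Γ(X, ⊤)),
      (∀ k, Good t (W k) (h k)) ∧ (⨆ k, W k = ⊤) ∧ (⨆ k, X.basicOpen (h k) = ⊤) := by
  classical
  have hcomp : CompactSpace X' := by
    constructor
    rw [← Set.range_eq_univ.mpr ht]
    exact isCompact_range t.continuous
  choose W h hgood hmem using exists_good_qa (t := t) ht
  obtain ⟨s, hs⟩ := CompactSpace.elim_nhds_subcover (fun x' => (W x' : Set X'))
    (fun x' => (W x').2.mem_nhds (hmem x'))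
  refine ⟨s, inferInstance, fun k => W k.1, fun k => h k.1, fun k => hgood k.1, ?_, ?_⟩
  · rw [eq_top_iff]
    intro x _
    have : x ∈ ⋃ x' ∈ s, (W x' : Set X') := by rw [hs]; trivial
    simp only [Set.mem_iUnion] at this
    obtain ⟨x', hx's, hx⟩ := this
    exact Opens.mem_iSup.mpr ⟨⟨x', hx's⟩, hx⟩
  · rw [eq_top_iff]
    intro x _
    have : t x ∈ ⋃ x' ∈ s, (W x' : Set X') := by rw [hs]; trivial
    simp only [Set.mem_iUnion] at this
    obtain ⟨x', hx's, hx⟩ := this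
    refine Opens.mem_iSup.mpr ⟨⟨x', hx's⟩, ?_⟩
    have h1 : x ∈ t ⁻¹ᵁ (W x') := hx
    rw [(hgood x').2] at h1
    exact h1

theorem add_pow_succ_of_mul_self_eq_zero {R : Type*} [CommRing R] (a c : R) (hc : c * c = 0)
    (n : ℕ) : (a + c) ^ (n + 1) = a ^ (n + 1) + ((n + 1 : ℕ) : R) * (a ^ n * c) := by
  induction n with
  | zero => simp
  | succ n ih =>
    rw [pow_succ, ih]
    push_cast
    linear_combination ((n : R) + 1) * a ^ n * hc

/-- a power of `u` lifts to a global function of the thickening when `X_u` is affine. -/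
theorem exists_isLiftOn_top_pow [IsClosedImmersion t] [X.IsQuasiAffine]
    (ht : Function.Surjective t)
    (hsq : ∀ U : X'.Opens, IsAffineOpen U →
      ∀ a ∈ RingHom.ker (τ t U), ∀ b ∈ RingHom.ker (τ t U), a * b = 0)
    (u : Γ(X, ⊤)) (hu : IsAffineOpen (X.basicOpen u)) :
    ∃ (M : ℕ) (s : Γ(X', ⊤)), IsLiftOn t ⊤ s (u ^ (M + 1)) := by
  classical
  obtain ⟨ι, _, W, h, hW, hcov, hcovX⟩ := exists_finite_good_cover_qa (t := t) ht
  have hrad : ∀ N : ℕ, ∃ M : ℕ, u ^ M ∈ Ideal.span (Set.range fun l => h l ^ N) :=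
    fun N => exists_pow_mem_span u hu h (by rw [hcovX]; exact le_top) N
  have hγ : ∀ k, ∃ γ : Γ(X', W k), IsLiftOn t (W k) γ u := fun k => exists_isLiftOn (hW k).1 u
  choose γ hγ using hγ
  let c : ∀ k m, Γ(X', W k ⊓ W m) := fun k m =>
    rX' (inf_le_left : W k ⊓ W m ≤ W k) (γ k) - rX' (inf_le_right : W k ⊓ W m ≤ W m) (γ m)
  have hc : ∀ k m, c k m ∈ RingHom.ker (τ t (W k ⊓ W m)) :=
    fun k m => ((hγ k).res _).sub_mem_ker ((hγ m).res _)
  have hcoc : ∀ k m l,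
      rX' (inf_le_inf_right (W l) inf_le_left : W k ⊓ W m ⊓ W l ≤ W k ⊓ W l) (c k l) -
      rX' (inf_le_inf_right (W l) inf_le_right : W k ⊓ W m ⊓ W l ≤ W m ⊓ W l) (c m l) =
      rX' (inf_le_left : W k ⊓ W m ⊓ W l ≤ W k ⊓ W m) (c k m) := by
    intro k m l
    simp only [c, map_sub, rX'_rX']
    ring
  obtain ⟨M, e, heker, he⟩ := exists_coboundary_rad ht W h hW u hrad hsq c hc hcoc
  have hW2 : ∀ k l, Good t (W k ⊓ W l) (h k * h l) := fun k l => (hW k).inf ht (hW l)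
  -- glue
  let sf : ∀ k, Γ(X', W k) := fun k => γ k ^ (M + 1) - ((M + 1 : ℕ) : Γ(X', W k)) * e k
  have hcompat : TopCat.Presheaf.IsCompatible X'.presheaf W sf := by
    intro k m
    change rX' (inf_le_left : W k ⊓ W m ≤ W k) (γ k ^ (M + 1) - ((M + 1 : ℕ) : Γ(X', W k)) * e k) =
      rX' (inf_le_right : W k ⊓ W m ≤ W m) (γ m ^ (M + 1) - ((M + 1 : ℕ) : Γ(X', W m)) * e m)
    have h1 := he k m _ ((hγ m).res (inf_le_right : W k ⊓ W m ≤ W m))
    have hcc : c k m * c k m = 0 := hsq _ (hW2 k m).1 _ (hc k m) _ (hc k m)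
    have h2 := add_pow_succ_of_mul_self_eq_zero
      (rX' (inf_le_right : W k ⊓ W m ≤ W m) (γ m)) (c k m) hcc M
    have h3 : rX' (inf_le_right : W k ⊓ W m ≤ W m) (γ m) + c k m =
        rX' (inf_le_left : W k ⊓ W m ≤ W k) (γ k) := by simp only [c]; ring
    rw [h3] at h2
    simp only [map_sub, map_mul, map_pow, map_natCast]
    rw [h2]
    linear_combination (-((M + 1 : ℕ) : Γ(X', W k ⊓ W m))) * h1
  have hglue : ∃ s : Γ(X', ⊤), ∀ k, rX' (le_top : W k ≤ ⊤) s = sf k := by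
    obtain ⟨s, hs, -⟩ := X'.sheaf.existsUnique_gluing' W ⊤ (fun k => homOfLE le_top)
      (by rw [hcov]) sf hcompat
    exact ⟨s, hs⟩
  obtain ⟨s, hs'⟩ := hglue
  refine ⟨M, s, ?_⟩
  unfold IsLiftOn
  apply X.IsSheaf.section_ext
  intro x hx
  have hx' : t x ∈ (⨆ k, W k : X'.Opens) := by rw [hcov]; trivial
  obtain ⟨k, hk⟩ := Opens.mem_iSup.mp hx'
  refine ⟨t ⁻¹ᵁ (W k), t.preimage_mono le_top, hk, ?_⟩
  change rX (t.preimage_mono (le_top : W k ≤ ⊤)) (τ t ⊤ s) = rX _ (rX le_top (u ^ (M + 1)))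
  rw [← τ_rX' t (le_top : W k ≤ ⊤), hs' k]
  simp only [sf, map_sub, map_mul, map_pow, map_natCast]
  rw [RingHom.mem_ker.mp (heker k), mul_zero, sub_zero, hγ k, rX_rX]

/-- a square-zero thickening of a quasi-affine scheme is quasi-affine (sectionwise hypothesis) -/
theorem isQuasiAffine_of_sqZero' [IsClosedImmersion t] [X.IsQuasiAffine]
    (ht : Function.Surjective t)
    (hsq : ∀ U : X'.Opens, IsAffineOpen U →
      ∀ a ∈ RingHom.ker (τ t U), ∀ b ∈ RingHom.ker (τ t U), a * b = 0) : X'.IsQuasiAffine := by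
  have : CompactSpace X' := ThickAffine.compactSpace_of_surjective t ht
  refine Scheme.IsQuasiAffine.of_forall_exists_mem_basicOpen X' fun x' => ?_
  obtain ⟨x, rfl⟩ := ht x'
  obtain ⟨_, ⟨_, ⟨u, hu, rfl⟩, rfl⟩, hxu, -⟩ :=
    (Scheme.IsQuasiAffine.isBasis_basicOpen X).exists_subset_of_mem_open
      (Set.mem_univ x) isOpen_univ
  obtain ⟨M, s, hs⟩ := exists_isLiftOn_top_pow ht hsq u hu
  have hpre : t ⁻¹ᵁ (X'.basicOpen s) = X.basicOpen u := by
    rw [preimage_basicOpen_of_isLiftOn hs, Scheme.basicOpen_pow _ _ (Nat.succ_pos M)]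
    simp
  refine ⟨s, ?_, ?_⟩
  · have h1 : IsAffine (t ⁻¹ᵁ (X'.basicOpen s)).toScheme := by
      have : IsAffineOpen (t ⁻¹ᵁ (X'.basicOpen s)) := hpre ▸ hu
      exact this
    have hsurj : Surjective (t ∣_ (X'.basicOpen s)) := IsZariskiLocalAtTarget.restrict ⟨ht⟩ _
    exact ThickAffine.isAffine_of_thickening (t ∣_ (X'.basicOpen s)) hsurj.surj
  · change x ∈ t ⁻¹ᵁ (X'.basicOpen s)
    rw [hpre]
    exact hxu

/-- a square-zero thickening of a quasi-affine scheme is quasi-affine -/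
theorem isQuasiAffine_of_ker_mul_ker_eq_bot (t : X ⟶ X') [IsClosedImmersion t]
    [X.IsQuasiAffine] (ht : Function.Surjective t) (h : t.ker * t.ker = ⊥) :
    X'.IsQuasiAffine := by
  refine isQuasiAffine_of_sqZero' (t := t) ht ?_
  intro U hU a ha b hb
  have h1 : a * b ∈ (t.ker * t.ker).ideal ⟨U, hU⟩ := by
    rw [Scheme.IdealSheafData.ideal_mul]
    refine Ideal.mul_mem_mul ?_ ?_
    · rw [Scheme.Hom.ker_apply]; exact ha
    · rw [Scheme.Hom.ker_apply]; exact hb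
  rw [h] at h1
  exact h1

variable {Y : Scheme.{u}}

/-- relative square-zero step -/
theorem isQuasiAffine_subscheme_of_sq_le {J₁ J₂ : Y.IdealSheafData} (h : J₁ ≤ J₂)
    (hsq : J₂ * J₂ ≤ J₁) [J₂.subscheme.IsQuasiAffine] : J₁.subscheme.IsQuasiAffine :=
  isQuasiAffine_of_ker_mul_ker_eq_bot (Scheme.IdealSheafData.inclusion h)
    (surjective_inclusion h hsq) (ker_inclusion_mul h hsq)

/-- a nilpotent thickening of a quasi-affine scheme is quasi-affine -/
theorem isQuasiAffine_of_pow_eq_bot (J : Y.IdealSheafData) (n : ℕ) (hn : J ^ n = ⊥)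
    [J.subscheme.IsQuasiAffine] : Y.IsQuasiAffine := by
  have hle : ∀ k : ℕ, J ^ (k + 1) ≤ J ^ k := by
    intro k U
    rw [Scheme.IdealSheafData.ideal_pow, Scheme.IdealSheafData.ideal_pow]
    exact Ideal.pow_le_pow_right (Nat.le_succ k)
  have hstep : ∀ k : ℕ, (J ^ (k + 1)).subscheme.IsQuasiAffine := by
    intro k
    induction k with
    | zero => rw [zero_add, pow_one]; infer_instance
    | succ k ih =>
      refine isQuasiAffine_subscheme_of_sq_le (hle (k + 1)) ?_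
      intro U
      rw [Scheme.IdealSheafData.ideal_mul, Scheme.IdealSheafData.ideal_pow,
        Scheme.IdealSheafData.ideal_pow]
      simp only [Pi.mul_apply, Pi.pow_apply]
      rw [← pow_add]
      exact Ideal.pow_le_pow_right (by omega)
  have hn' : J ^ (n + 1) = ⊥ := by rw [pow_succ, hn, Scheme.IdealSheafData.bot_mul]
  have h1 : (⊥ : Y.IdealSheafData).subscheme.IsQuasiAffine := hn' ▸ hstep n
  exact Scheme.IsQuasiAffine.of_isAffineHom
    (inv (Scheme.IdealSheafData.subschemeι (⊥ : Y.IdealSheafData)))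

open Groth.Agent.Lib.Helper22.FTIdeal Groth.Agent.Lib.Helper22.FTLimit
open Groth.Agent.Lib.Helper22.ThickAffine

/-- Stacks 0B7L: a thickening of a quasi-affine scheme is quasi-affine. -/
theorem isQuasiAffine_of_thickening (t : X ⟶ X') [IsClosedImmersion t] [X.IsQuasiAffine]
    (ht : Function.Surjective t) : X'.IsQuasiAffine := by
  have : CompactSpace X' := compactSpace_of_surjective t ht
  have : QuasiSeparatedSpace X' := quasiSeparatedSpace_of_surjective t ht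
  set I := t.ker with hI
  -- the limit cone in Scheme
  let D : (Idx I)ᵒᵖ ⥤ Scheme.{u} := FTLimit.diag I ⋙ Over.forget X'
  let c : Cone D := (Over.forget X').mapCone (cone I)
  have : IsCofiltered (Idx I)ᵒᵖ := inferInstance
  have : IsConnected (Idx I)ᵒᵖ := IsCofiltered.isConnected _
  have hc : IsLimit c := isLimitOfPreserves (Over.forget X') (coneIsLimit I)
  have hpt : c.pt.IsQuasiAffine := by
    change I.subscheme.IsQuasiAffine
    exact Scheme.IsQuasiAffine.of_isAffineHom (inv t.toImage)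
  have haff : ∀ {i j : (Idx I)ᵒᵖ} (f : i ⟶ j), IsAffineHom (D.map f) := by
    intro i j f
    change IsAffineHom ((FTLimit.diag I).map f).left
    rw [diag_map_left]
    have h1 : IsClosedImmersion (Scheme.IdealSheafData.inclusion
      (show j.unop.1 ≤ i.unop.1 from f.unop.le)) := inferInstance
    have h2 : IsAffineHom (Scheme.IdealSheafData.inclusion
      (show j.unop.1 ≤ i.unop.1 from f.unop.le)) := inferInstance
    exact h2
  have hcomp : ∀ i : (Idx I)ᵒᵖ, CompactSpace (D.obj i) := by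
    intro i
    change CompactSpace i.unop.1.subscheme
    exact QuasiCompact.compactSpace_of_compactSpace i.unop.1.subschemeι
  have hqs : ∀ i : (Idx I)ᵒᵖ, QuasiSeparatedSpace (D.obj i) := by
    intro i
    change QuasiSeparatedSpace i.unop.1.subscheme
    exact quasiSeparatedSpace_of_quasiSeparated i.unop.1.subschemeι
  obtain ⟨i, hi⟩ := Scheme.exists_isQuasiAffine_of_isLimit D c hc
  have hi' : i.unop.1.subscheme.IsQuasiAffine := hi
  have hJnil : i.unop.1 ≤ X'.nilradical := i.unop.2.1.trans (ker_le_nilradical t ht)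
  obtain ⟨n, hn⟩ := exists_pow_eq_bot i.unop.1 i.unop.2.2 hJnil
  exact isQuasiAffine_of_pow_eq_bot i.unop.1 n hn

end Groth.Agent.Lib.Helper22.SqZeroQA
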