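import Mathlib

/-!
# Stein factorisation, part F (helper23): universal injectivity of the finite part
* `eq_of_comp_eq_of_isPurelyInseparable`, `mem_range_diagonal_of_isPurelyInseparable`: local forms of
  Mathlib's `tfae_universallyInjective`.
* `surjective_diagonal`: `X --f'--> Y' --g--> Y`, `f'` surjective, `Y'` integral, `g` separated with one-point
  generic fibre and purely inseparable residue extension at the generic point; if every irreducible component
  of `X ×_Y Y'` dominates `Y'` then the diagonal of `g` is surjective (so `g` is universally injective).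
* `eq_genericPoint_of_locallyQuasiFinite`, `geometricallyConnected_comp_of_universallyInjective`,
  `map_genericPoint_of_isDominant`.
-/

set_option autoImplicit false
set_option backward.isDefEq.respectTransparency.types false
universe u

namespace Groth.Agent.Lib.Helper23.SteinF
open AlgebraicGeometry CategoryTheory Limits IsLocalRing

set_option backward.defeqAttrib.useBackward true in
/-- local version of Mathlib's `tfae_universallyInjective` 3 → 2 -/
theorem eq_of_comp_eq_of_isPurelyInseparable {X Y : Scheme.{u}} (f : X ⟶ Y) (K : Type u) [Field K]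
    (g₁ g₂ : Spec (.of K) ⟶ X) (hg : g₁ ≫ f = g₂ ≫ f)
    (hpt : g₁ (closedPoint K) = g₂ (closedPoint K))
    (hpi : (f.residueFieldMap (g₁ (closedPoint K))).hom.IsPurelyInseparable) : g₁ = g₂ := by
  obtain ⟨e, h⟩ := Scheme.SpecToEquivOfField_eq_iff.mp congr((Y.SpecToEquivOfField K) $(hg))
  apply (X.SpecToEquivOfField K).injective
  dsimp at e h
  simp only [Scheme.descResidueField_stalkClosedPointTo_comp] at e h
  rw [← f.residueFieldMap_congr'_assoc hpt, CommRingCat.hom_ext_iff] at h
  rw [Scheme.SpecToEquivOfField_eq_iff]
  let x := g₁ (IsLocalRing.closedPoint K)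
  algebraize [(f.residueFieldMap (g₁ (IsLocalRing.closedPoint K))).hom]
  refine ⟨hpt, CommRingCat.hom_ext ?_⟩
  exact IsPurelyInseparable.injective_comp_algebraMap
    (Y.residueField (f x)) (X.residueField x) _ h

theorem mem_range_diagonal_of_isPurelyInseparable {X Y : Scheme.{u}} (f : X ⟶ Y) (x : X)
    (hpi : (f.residueFieldMap x).hom.IsPurelyInseparable) (z : ↥(pullback f f))
    (h1 : pullback.fst f f z = x) (h2 : pullback.snd f f z = x) :
    z ∈ Set.range (pullback.diagonal f) := by
  let φ := (pullback f f).fromSpecResidueField z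
  have hp1 : (φ ≫ pullback.fst f f) (closedPoint _) = x := by
    rw [Scheme.Hom.comp_apply, Scheme.fromSpecResidueField_apply]; exact h1
  have hp2 : (φ ≫ pullback.snd f f) (closedPoint _) = x := by
    rw [Scheme.Hom.comp_apply, Scheme.fromSpecResidueField_apply]; exact h2
  have hall : ∀ y, y = x → (f.residueFieldMap y).hom.IsPurelyInseparable := by
    rintro _ rfl; exact hpi
  have hφ₁ : φ ≫ pullback.fst f f = φ ≫ pullback.snd f f :=
    eq_of_comp_eq_of_isPurelyInseparable f ((pullback f f).residueField z) _ _
      (by simp [pullback.condition]) (hp1.trans hp2.symm) (hall _ hp1)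
  have hφ₂ : φ = (φ ≫ pullback.fst f f) ≫ pullback.diagonal f := by cat_disch
  refine ⟨(φ ≫ pullback.fst f f) (IsLocalRing.closedPoint _), ?_⟩
  rw [← Scheme.Hom.comp_apply, ← hφ₂, Scheme.fromSpecResidueField_apply]


theorem surjective_diagonal {X Y' Y : Scheme.{u}} (f' : X ⟶ Y') (g : Y' ⟶ Y) [Surjective f']
    [IsIntegral Y'] [IsSeparated g]
    (hfib : ∀ y' : Y', g y' = g (genericPoint Y') → y' = genericPoint Y')
    (hpi : (g.residueFieldMap (genericPoint Y')).hom.IsPurelyInseparable)
    (hopen : ∀ Z ∈ irreducibleComponents ↥(pullback (f' ≫ g) g),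
      Dense ((pullback.snd (f' ≫ g) g).base '' Z)) :
    Surjective (pullback.diagonal g) := by
  rw [surjective_iff]
  intro z₀
  let q' := pullback.snd f' (pullback.fst g g)
  let e := pullbackRightPullbackFstIso g g f'
  obtain ⟨z', hz'⟩ := q'.surjective z₀
  set z := e.hom z' with hz
  -- irreducible component through z
  have hZ : irreducibleComponent z ∈ irreducibleComponents ↥(pullback (f' ≫ g) g) :=
    irreducibleComponent_mem_irreducibleComponents z
  obtain ⟨ζ, hζ⟩ := QuasiSober.sober (isIrreducible_irreducibleComponent (x := z))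
    (isClosed_irreducibleComponent (x := z))
  have hdense := hopen _ hZ
  -- pr₂ ζ is the generic point
  have h2 : (pullback.snd (f' ≫ g) g) ζ = genericPoint Y' := by
    have hsub : (pullback.snd (f' ≫ g) g).base '' (irreducibleComponent z) ⊆
        closure {(pullback.snd (f' ≫ g) g) ζ} := by
      rw [← hζ.def]
      refine (image_closure_subset_closure_image
        (pullback.snd (f' ≫ g) g).base.hom.continuous).trans ?_
      rw [Set.image_singleton]
    have hcl : closure {(pullback.snd (f' ≫ g) g) ζ} = Set.univ := by
      apply Set.eq_univ_of_univ_subset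
      rw [← hdense.closure_eq]
      exact closure_minimal hsub isClosed_closure
    have hgen : IsGenericPoint ((pullback.snd (f' ≫ g) g) ζ) (Set.univ : Set Y') := hcl
    exact hgen.eq (genericPoint_spec Y')
  -- the point w₀
  set w₀ := q' (e.inv ζ) with hw₀
  have hw2 : pullback.snd g g w₀ = genericPoint Y' := by
    rw [← h2, hw₀, ← Scheme.Hom.comp_apply, ← Scheme.Hom.comp_apply]
    congr 2
    rw [← pullbackRightPullbackFstIso_hom_snd, Iso.inv_hom_id_assoc]
  have hw1 : pullback.fst g g w₀ = genericPoint Y' := by
    apply hfib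
    have hc : g (pullback.fst g g w₀) = g (pullback.snd g g w₀) :=
      congr(($(pullback.condition (f := g) (g := g))).base w₀)
    rw [hc, hw2]
  have hmem := mem_range_diagonal_of_isPurelyInseparable g _ hpi w₀ hw1 hw2
  -- specialization
  have hspec : ζ ⤳ z := hζ.specializes mem_irreducibleComponent
  have hspec2 : w₀ ⤳ z₀ := by
    have h3 : e.inv ζ ⤳ e.inv z := hspec.map e.inv.base.hom.continuous
    have h4 : e.inv z = z' := by
      rw [hz, ← Scheme.Hom.comp_apply, Iso.hom_inv_id]; rfl
    rw [h4] at h3
    have h5 := h3.map q'.base.hom.continuous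
    rw [hz'] at h5
    exact h5
  have hclosed : IsClosed (Set.range (pullback.diagonal g)) :=
    (pullback.diagonal g).isClosedEmbedding.isClosed_range
  exact hspec2.mem_closed hclosed hmem


theorem surjective_diagonal' {X Y' Y : Scheme.{u}} (f' : X ⟶ Y') (g : Y' ⟶ Y) (f : X ⟶ Y)
    (w : f' ≫ g = f) [Surjective f'] [IsIntegral Y'] [IsSeparated g]
    (hfib : ∀ y' : Y', g y' = g (genericPoint Y') → y' = genericPoint Y')
    (hpi : (g.residueFieldMap (genericPoint Y')).hom.IsPurelyInseparable)
    (hopen : ∀ Z ∈ irreducibleComponents ↥(pullback f g),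
      Dense ((pullback.snd f g).base '' Z)) :
    Surjective (pullback.diagonal g) := by
  subst w
  exact surjective_diagonal f' g hfib hpi hopen

theorem map_genericPoint_of_isDominant {X Y : Scheme.{u}} [IrreducibleSpace X] [IrreducibleSpace Y]
    (f : X ⟶ Y) [IsDominant f] : f (genericPoint X) = genericPoint Y := by
  have h1 : IsGenericPoint (f (genericPoint X)) (closure (f '' Set.univ)) :=
    (genericPoint_spec X).image f.continuous
  rw [Set.image_univ, f.denseRange.closure_range] at h1
  exact h1.eq (genericPoint_spec Y)


theorem eq_genericPoint_of_locallyQuasiFinite {Y' Y : Scheme.{u}} (g : Y' ⟶ Y) [IsIntegral Y']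
    [LocallyQuasiFinite g] (y' : Y') (h : g y' = g (genericPoint Y')) : y' = genericPoint Y' := by
  have hdisc : DiscreteTopology ↥(g ⁻¹' {g (genericPoint Y')}) :=
    (g.isDiscrete_preimage_singleton (g (genericPoint Y'))).to_subtype
  have hs : genericPoint Y' ⤳ y' := (genericPoint_spec Y').specializes trivial
  let a : ↥(g ⁻¹' {g (genericPoint Y')}) := ⟨genericPoint Y', rfl⟩
  let b : ↥(g ⁻¹' {g (genericPoint Y')}) := ⟨y', h⟩
  have hab : a ⤳ b := (subtype_specializes_iff a b).2 hs
  have := hab.eq
  exact (congrArg Subtype.val this).symm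


theorem geometricallyConnected_comp_of_universallyInjective {X Y' Y : Scheme.{u}} (f' : X ⟶ Y')
    (g : Y' ⟶ Y) [GeometricallyConnected f'] [UniversallyInjective g] [Surjective g] :
    GeometricallyConnected (f' ≫ g) := by
  refine ⟨geometrically_iff_of_isClosedUnderIsomorphisms.mpr fun K _ x ↦ ?_⟩
  rw [← (pullbackRightPullbackFstIso g x f').hom.homeomorph.connectedSpace_iff]
  haveI : UniversallyInjective (pullback.snd g x) :=
    MorphismProperty.pullback_snd (P := @UniversallyInjective) g x inferInstance
  haveI : Subsingleton ↥(pullback g x) := (pullback.snd g x).injective.subsingleton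
  haveI : Nonempty ↥(pullback g x) := by
    obtain ⟨a, -⟩ := (pullback.snd g x).surjective (IsLocalRing.closedPoint K)
    exact ⟨a⟩
  exact GeometricallyConnected.connectedSpace_of_subsingleton
    (f := pullback.snd f' (pullback.fst g x))

end Groth.Agent.Lib.Helper23.SteinF
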