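import Groth.Agent.Lib.Helper4UnibranchSch

/-!
# Normalization in a purely inseparable extension over a geometrically unibranch base (helper4)
-/

set_option autoImplicit false
set_option linter.style.haveILetI false
universe u

open AlgebraicGeometry CategoryTheory

namespace Groth.Agent.Lib.Helper4.UnibranchSch

open Groth.Agent.Lib.Helper4.Unibranch Groth.Agent.Lib.Helper4.NormCurve

/-- Injectivity on field-valued points of the normalization of a domain in a purely inseparable
extension of its fraction field, when all localizations are geometrically unibranch. -/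
theorem ptInj_of_isPurelyInseparable (A F K : Type u) [CommRing A] [IsDomain A] [Field F]
    [Algebra A F] [IsFractionRing A F] [Field K] [Algebra F K] [Algebra A K] [IsScalarTower A F K]
    [IsPurelyInseparable F K]
    (H : ∀ (p : Ideal A) [p.IsPrime], CAlg2.IsGeomUnibranch (Localization.AtPrime p))
    (Ω : Type u) [Field Ω] :
    Function.Injective (fun g : integralClosure A K →+* Ω =>
      g.comp (algebraMap A (integralClosure A K))) := by
  intro τ₁ τ₂ h
  let ι : integralClosure A F →ₐ[A] integralClosure A K :=
    (IsScalarTower.toAlgHom A F K).mapIntegralClosure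
  have h1 : τ₁.comp (ι : integralClosure A F →+* integralClosure A K) =
      τ₂.comp (ι : integralClosure A F →+* integralClosure A K) := by
    apply ptInj_of_isFractionRing A F H Ω
    ext a
    have h2 := congrArg (fun f : A →+* Ω => f a) h
    simp only [RingHom.comp_apply] at h2 ⊢
    have h3 : (ι : integralClosure A F →+* integralClosure A K)
        (algebraMap A (integralClosure A F) a) = algebraMap A (integralClosure A K) a :=
      ι.commutes a
    rw [h3]
    exact h2
  ext z
  obtain ⟨n, w, hw⟩ := IsPurelyInseparable.pow_mem F (ringExpChar F) (z : K)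
  have hwint : IsIntegral A w := by
    have h2 : IsIntegral A ((z : K) ^ (ringExpChar F) ^ n) := z.2.pow _
    rw [← hw] at h2
    exact (isIntegral_algHom_iff (IsScalarTower.toAlgHom A F K)
      (algebraMap F K).injective).mp h2
  have hι : ι ⟨w, hwint⟩ = z ^ (ringExpChar F) ^ n := Subtype.ext hw
  have h4 : τ₁ z ^ (ringExpChar F) ^ n = τ₂ z ^ (ringExpChar F) ^ n := by
    rw [← map_pow, ← map_pow, ← hι]
    exact congrArg (fun f : integralClosure A F →+* Ω => f ⟨w, hwint⟩) h1
  rcases expChar_is_prime_or_one F (ringExpChar F) with hq | hq
  · have hqF : ((ringExpChar F : ℕ) : F) = 0 := by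
      haveI := ringChar.charP F
      rcases CharP.char_is_prime_or_zero F (ringChar F) with hp | hp
      · have e : ringChar F = ringExpChar F := (char_eq_expChar_iff F _ _).mpr hp
        rw [← e]
        exact CharP.cast_eq_zero F (ringChar F)
      · haveI : CharP F 0 := hp ▸ ringChar.charP F
        have := expChar_one_of_char_zero F (ringExpChar F)
        rw [this] at hq
        exact absurd hq Nat.not_prime_one
    have hqA : ((ringExpChar F : ℕ) : A) = 0 := by
      apply IsFractionRing.injective A F
      rw [map_natCast, hqF, map_zero]
    have hq0 : ((ringExpChar F : ℕ) : Ω) = 0 := by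
      have := congrArg (τ₁.comp (algebraMap A (integralClosure A K))) hqA
      rw [map_natCast, map_zero] at this
      exact this
    haveI : CharP Ω (ringExpChar F) := (CharP.charP_iff_prime_eq_zero hq).mpr hq0
    haveI : ExpChar Ω (ringExpChar F) := ExpChar.prime hq
    exact iterateFrobenius_inj Ω (ringExpChar F) n h4
  · rw [hq, one_pow, pow_one, pow_one] at h4
    exact h4

section SchemePI

variable {X : Scheme.{u}} [IsIntegral X]

theorem universallyInjective_fromNormalization_gen_of_isPurelyInseparable
    (K : Type u) [Field K] (φ : X.functionField →+* K)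
    (hφ : letI := φ.toAlgebra; IsPurelyInseparable X.functionField K)
    [QuasiCompact (gen X K φ)] [QuasiSeparated (gen X K φ)]
    (hX : ∀ x : X, CAlg2.IsGeomUnibranch (X.presheaf.stalk x)) :
    UniversallyInjective (gen X K φ).fromNormalization := by
  apply of_forall_specMap_app
  rintro ⟨U, hU⟩
  letI := ((gen X K φ).app U).hom.toAlgebra
  show UniversallyInjective (Spec.map ((gen X K φ).fromNormalization.app U))
  rw [Scheme.Hom.fromNormalization_app _ hU]
  haveI := UniversallyInjective.respectsIso
  refine (specMap_comp_iso_iff @UniversallyInjective _ _).mpr ?_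
  rw [universallyInjective_specMap_iff]
  intro Ω _
  by_cases hne : Nonempty U
  · letI algFK : Algebra X.functionField K := φ.toAlgebra
    letI algAK : Algebra Γ(X, U) K := (φ.comp (X.germToFunctionField U).hom).toAlgebra
    haveI : IsScalarTower Γ(X, U) X.functionField K :=
      IsScalarTower.of_algebraMap_eq (fun _ => rfl)
    haveI : IsPurelyInseparable X.functionField K := hφ
    haveI : IsDomain Γ(X, U) := IsIntegral.component_integral U
    haveI : IsFractionRing Γ(X, U) X.functionField :=
      functionField_isFractionRing_of_isAffineOpen X U hU
    obtain ⟨ψ⟩ := exists_sectionsAlgEquiv K φ U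
    exact ptInj_of_algEquiv ψ.mapIntegralClosure
      (ptInj_of_isPurelyInseparable Γ(X, U) X.functionField K
        (isGeomUnibranch_localization_sections hX U hU) Ω)
  · have hU0 : U = ⊥ := by
      ext x
      simp only [TopologicalSpace.Opens.coe_bot, Set.mem_empty_iff_false, iff_false]
      exact fun hx => hne ⟨⟨x, hx⟩⟩
    subst hU0
    haveI : Subsingleton (integralClosure Γ(X, (⊥ : X.Opens))
        Γ(Spec (CommRingCat.of K), (gen X K φ) ⁻¹ᵁ ⊥)) :=
      Module.subsingleton Γ(X, (⊥ : X.Opens)) _
    intro g₁ _ _
    exfalso
    have h1 : g₁ 1 = g₁ 0 := congrArg g₁ (Subsingleton.elim _ _)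
    rw [map_one, map_zero] at h1
    exact one_ne_zero h1

/-- The normalization of an integral scheme with geometrically unibranch local rings in a purely
inseparable extension of its function field is a universal homeomorphism. -/
theorem isUnivHomeo_fromNormalization_of_isPurelyInseparable
    (K : Type u) [Field K] (φ : X.functionField →+* K)
    (hφ : letI := φ.toAlgebra; IsPurelyInseparable X.functionField K)
    (g : Spec (CommRingCat.of K) ⟶ X) (hg : g = gen X K φ) [QuasiCompact g] [QuasiSeparated g]
    (hX : ∀ x : X, CAlg2.IsGeomUnibranch (X.presheaf.stalk x)) :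
    FlatMor.IsUnivHomeo g.fromNormalization := by
  haveI : Surjective g.fromNormalization := surjective_fromNormalization_of_eq K φ g hg
  subst hg
  haveI : UniversallyInjective (gen X K φ).fromNormalization :=
    universallyInjective_fromNormalization_gen_of_isPurelyInseparable K φ hφ hX
  exact isUnivHomeo_of_isIntegralHom _

end SchemePI

end Groth.Agent.Lib.Helper4.UnibranchSch
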