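import Mathlib
import Groth.Prelude
import Groth.Agent.Lib.Helper22SteinF
import Groth.Agent.Lib.Helper23SteinF
import Groth.Agent.Lib.Helper4UnibranchPI

/-!
# Stein factorization over a geometrically unibranch base (helper22)
-/

set_option autoImplicit false
set_option linter.style.haveILetI false
set_option linter.unusedSectionVars false
set_option linter.unusedVariables false
universe u
open CategoryTheory Limits AlgebraicGeometry IsLocalRing Opposite TopologicalSpace

namespace Groth.Agent.Lib.Helper22.SteinG

open Groth.Agent.Lib.Helper22.SteinF Groth.Agent.Lib.Helper4.NormCurve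
  Groth.Agent.Lib.Helper4.UnibranchSch Groth.Agent.Lib.Helper23.SteinF

/-- if `a ≫ π` is universally injective and `a` is surjective, then `π` is universally
injective. -/
theorem universallyInjective_of_comp_of_surjective {N S' S : Scheme.{u}} (a : N ⟶ S') (π : S' ⟶ S)
    [Surjective a] [UniversallyInjective (a ≫ π)] : UniversallyInjective π := by
  refine ⟨fun X' Y' i₁ i₂ π' hp => ?_⟩
  let a' := pullback.snd a i₁
  haveI : Surjective a' := MorphismProperty.pullback_snd (P := @Surjective) a i₁ inferInstance
  have hpb1 : IsPullback a' (pullback.fst a i₁) i₁ a := (IsPullback.of_hasPullback a i₁).flip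
  have hpb : IsPullback (a' ≫ π') (pullback.fst a i₁) i₂ (a ≫ π) := hpb1.paste_horiz hp
  have hinj : Function.Injective (a' ≫ π') :=
    UniversallyInjective.universally_injective _ _ _ hpb
  show Function.Injective π'
  intro x y hxy
  obtain ⟨x', rfl⟩ := a'.surjective x
  obtain ⟨y', rfl⟩ := a'.surjective y
  have h1 : (a' ≫ π') x' = (a' ≫ π') y' := by
    rw [Scheme.Hom.comp_apply, Scheme.Hom.comp_apply]; exact hxy
  rw [hinj h1]

/-- base change of `f` along a field-valued point through the residue field of `s` is connected
when the fibre over `s` is geometrically connected. -/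
theorem connectedSpace_pullback_of_fiber {X S : Scheme.{u}} (f : X ⟶ S) (s : S)
    [hs : GeometricallyConnected (f.fiberToSpecResidueField s)] {L : Type u} [Field L]
    (w' : Spec (CommRingCat.of L) ⟶ Spec (S.residueField s)) :
    ConnectedSpace ↥(pullback f (w' ≫ S.fromSpecResidueField s)) := by
  rw [← (pullbackLeftPullbackSndIso f (S.fromSpecResidueField s) w').hom.homeomorph.connectedSpace_iff]
  exact hs.geometrically_connectedSpace w' _ _
    (IsPullback.of_hasPullback (f.fiberToSpecResidueField s) w')

/-- uniqueness of field-valued points of an integral morphism `π` over a point whose base change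
along the composite `f = g ≫ π` (with `g` surjective) is connected. -/
theorem eq_of_comp_eq_of_connected {X S' S : Scheme.{u}} (f : X ⟶ S) (g : X ⟶ S') (π : S' ⟶ S)
    (hf : g ≫ π = f) [Surjective g] [IsIntegralHom π] {L : Type u} [Field L]
    (y₁ y₂ : Spec (CommRingCat.of L) ⟶ S') (hy : y₁ ≫ π = y₂ ≫ π)
    [hc : ConnectedSpace ↥(pullback f (y₁ ≫ π))] : y₁ = y₂ := by
  let w := y₁ ≫ π
  let q : pullback f w ⟶ pullback π w :=
    pullback.lift (pullback.fst f w ≫ g) (pullback.snd f w)
      (by rw [Category.assoc, hf, pullback.condition])
  have hq1 : q ≫ pullback.fst π w = pullback.fst f w ≫ g := pullback.lift_fst _ _ _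
  have hq2 : q ≫ pullback.snd π w = pullback.snd f w := pullback.lift_snd _ _ _
  have HL : IsPullback (pullback.fst f w) q g (pullback.fst π w) := by
    refine (IsPullback.of_right ?_ hq1 (IsPullback.of_hasPullback π w).flip).flip
    rw [hq2, hf]
    exact (IsPullback.of_hasPullback f w).flip
  haveI : Surjective q := MorphismProperty.of_isPullback (P := @Surjective) HL inferInstance
  haveI : ConnectedSpace ↥(pullback π w) := q.surjective.connectedSpace q.continuous
  let s₁ : Spec (CommRingCat.of L) ⟶ pullback π w := pullback.lift y₁ (𝟙 _) (by simp [w])
  let s₂ : Spec (CommRingCat.of L) ⟶ pullback π w :=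
    pullback.lift y₂ (𝟙 _) (by simp only [w, Category.id_comp]; exact hy.symm)
  have hs := section_unique (pullback.snd π w) s₁ s₂ (pullback.lift_snd _ _ _)
    (pullback.lift_snd _ _ _)
  calc y₁ = s₁ ≫ pullback.fst π w := (pullback.lift_fst _ _ _).symm
    _ = s₂ ≫ pullback.fst π w := by rw [hs]
    _ = y₂ := pullback.lift_fst _ _ _

/-- the finite part of the Stein factorization of a proper dominant morphism of integral schemes
with geometrically connected generic fibre over a geometrically unibranch base is universally
injective. -/
theorem universallyInjective_fromNormalization {X S : Scheme.{u}} (f : X ⟶ S) [IsProper f]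
    [IsDominant f] [IsIntegral X] [IsIntegral S]
    (hS : ∀ s : S, CAlg2.IsGeomUnibranch (S.presheaf.stalk s))
    (hη : GeometricallyConnected (f.fiberToSpecResidueField (genericPoint S))) :
    UniversallyInjective f.fromNormalization := by
  haveI := isProper_toNormalization f
  haveI := geometricallyConnected_toNormalization f
  have hgπ : f.toNormalization ≫ f.fromNormalization = f := f.toNormalization_fromNormalization
  let ξ : ↥f.normalization := f.toNormalization (genericPoint X)
  have hξ : f.fromNormalization ξ = genericPoint S := by
    show f.fromNormalization (f.toNormalization (genericPoint X)) = genericPoint S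
    rw [← Scheme.Hom.comp_apply, hgπ]
    exact map_genericPoint_of_isDominant f
  haveI hη' : GeometricallyConnected (f.fiberToSpecResidueField (f.fromNormalization ξ)) := by
    rw [hξ]; exact hη
  -- `ξ` is a generic point of `S'`
  have hcl : closure ({ξ} : Set ↥f.normalization) = Set.univ := by
    have h1 : Set.range f.toNormalization ⊆ closure {ξ} := by
      rintro _ ⟨x, rfl⟩
      have hx : x ∈ closure ({genericPoint X} : Set X) := by
        rw [(genericPoint_spec X).def]; trivial
      have h3 := image_closure_subset_closure_image f.toNormalization.continuous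
        (s := ({genericPoint X} : Set X)) ⟨x, hx, rfl⟩
      rwa [Set.image_singleton] at h3
    have h2 : closure (Set.range f.toNormalization) = Set.univ :=
      f.toNormalization.denseRange.closure_range
    apply Set.eq_univ_of_univ_subset
    rw [← h2]
    exact closure_minimal h1 isClosed_closure
  let f₁ := f.normalization.fromSpecResidueField ξ
  let φ' := f.fromNormalization.residueFieldMap ξ
  have H1 : f₁ ≫ f.fromNormalization =
      Spec.map φ' ≫ S.fromSpecResidueField (f.fromNormalization ξ) :=
    (Scheme.Hom.SpecMap_residueFieldMap_fromSpecResidueField f.fromNormalization ξ).symm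
  have hsp : f.fromNormalization ξ ⤳ genericPoint S := specializes_of_eq hξ
  let φc : S.presheaf.stalk (genericPoint S) ⟶ f.normalization.residueField ξ :=
    S.presheaf.stalkSpecializes hsp ≫ S.residue (f.fromNormalization ξ) ≫ φ'
  have H2 : f₁ ≫ f.fromNormalization = Spec.map φc ≫ S.fromSpecStalk (genericPoint S) := by
    rw [H1]
    simp only [φc, Spec.map_comp, Category.assoc, Scheme.SpecMap_stalkSpecializes_fromSpecStalk]
    rfl
  have H3 : gen S (f.normalization.residueField ξ) φc.hom = f₁ ≫ f.fromNormalization := by
    rw [H2]; rfl
  -- pure inseparability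
  have hpi : letI := φc.hom.toAlgebra
      IsPurelyInseparable S.functionField (f.normalization.residueField ξ) := by
    letI := φc.hom.toAlgebra
    rw [isPurelyInseparable_iff_subsingleton_emb, subsingleton_iff]
    intro σ₁ σ₂
    apply AlgHom.coe_ringHom_injective
    let y₁ : Spec (CommRingCat.of (AlgebraicClosure (f.normalization.residueField ξ))) ⟶
        f.normalization := Spec.map (CommRingCat.ofHom σ₁.toRingHom) ≫ f₁
    let y₂ : Spec (CommRingCat.of (AlgebraicClosure (f.normalization.residueField ξ))) ⟶
        f.normalization := Spec.map (CommRingCat.ofHom σ₂.toRingHom) ≫ f₁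
    have hw : y₁ ≫ f.fromNormalization = y₂ ≫ f.fromNormalization := by
      simp only [y₁, y₂, Category.assoc, H2]
      rw [← Spec.map_comp_assoc, ← Spec.map_comp_assoc]
      congr 2
      ext x
      exact (σ₁.commutes x).trans (σ₂.commutes x).symm
    have hw' : y₁ ≫ f.fromNormalization =
        (Spec.map (CommRingCat.ofHom σ₁.toRingHom) ≫ Spec.map φ') ≫
          S.fromSpecResidueField (f.fromNormalization ξ) := by
      simp only [y₁, Category.assoc, H1]
    haveI hc : ConnectedSpace ↥(pullback f (y₁ ≫ f.fromNormalization)) := by
      rw [hw']
      exact connectedSpace_pullback_of_fiber f (f.fromNormalization ξ) _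
    have hy : y₁ = y₂ := eq_of_comp_eq_of_connected f f.toNormalization f.fromNormalization hgπ
      y₁ y₂ hw
    have h5 : Spec.map (CommRingCat.ofHom σ₁.toRingHom) =
        Spec.map (CommRingCat.ofHom σ₂.toRingHom) := (cancel_mono f₁).mp hy
    have h6 := Spec.map_injective h5
    exact congrArg CommRingCat.Hom.hom h6
  haveI hqc : QuasiCompact (gen S (f.normalization.residueField ξ) φc.hom) := inferInstance
  haveI hqs : QuasiSeparated (gen S (f.normalization.residueField ξ) φc.hom) :=
    QuasiSeparated.of_comp _ S.toSpecΓ
  haveI hUI := universallyInjective_fromNormalization_gen_of_isPurelyInseparable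
    (f.normalization.residueField ξ) φc.hom hpi hS
  let a : (gen S (f.normalization.residueField ξ) φc.hom).normalization ⟶ f.normalization :=
    (gen S (f.normalization.residueField ξ) φc.hom).normalizationDesc f₁ f.fromNormalization H3
  have ha1 : a ≫ f.fromNormalization =
      (gen S (f.normalization.residueField ξ) φc.hom).fromNormalization :=
    Scheme.Hom.normalizationDesc_comp ..
  have ha2 : (gen S (f.normalization.residueField ξ) φc.hom).toNormalization ≫ a = f₁ :=
    Scheme.Hom.toNormalization_normalizationDesc ..
  haveI : IsIntegralHom (a ≫ f.fromNormalization) := by rw [ha1]; infer_instance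
  haveI : IsIntegralHom a := IsIntegralHom.of_comp a f.fromNormalization
  haveI : Surjective a := by
    refine ⟨fun y => ?_⟩
    have hrc : IsClosed (Set.range a) := a.isClosedMap.isClosed_range
    have hξr : ξ ∈ Set.range a := by
      refine ⟨(gen S (f.normalization.residueField ξ) φc.hom).toNormalization
        (closedPoint (f.normalization.residueField ξ)), ?_⟩
      rw [← Scheme.Hom.comp_apply, ha2]
      exact Scheme.fromSpecResidueField_apply ξ _
    have h4 : closure {ξ} ⊆ Set.range a :=
      hrc.closure_subset_iff.mpr (Set.singleton_subset_iff.mpr hξr)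
    rw [hcl] at h4
    exact h4 (Set.mem_univ y)
  haveI : UniversallyInjective (a ≫ f.fromNormalization) := by rw [ha1]; exact hUI
  exact universallyInjective_of_comp_of_surjective a f.fromNormalization

/-- all fibres of a proper dominant morphism of integral schemes over a geometrically unibranch
base with geometrically connected generic fibre are geometrically connected. -/
theorem geometricallyConnected_of_geomUnibranch {X S : Scheme.{u}} (f : X ⟶ S) [IsProper f]
    [IsDominant f] [IsIntegral X] [IsIntegral S]
    (hS : ∀ s : S, CAlg2.IsGeomUnibranch (S.presheaf.stalk s))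
    (hη : GeometricallyConnected (f.fiberToSpecResidueField (genericPoint S))) :
    GeometricallyConnected f := by
  haveI := isProper_toNormalization f
  haveI := geometricallyConnected_toNormalization f
  haveI := universallyInjective_fromNormalization f hS hη
  haveI : Surjective f.fromNormalization := by
    refine ⟨fun y => ?_⟩
    have hrc : IsClosed (Set.range f.fromNormalization) :=
      f.fromNormalization.isClosedMap.isClosed_range
    have hsub : Set.range f ⊆ Set.range f.fromNormalization := by
      rintro _ ⟨x, rfl⟩
      exact ⟨f.toNormalization x, by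
        rw [← Scheme.Hom.comp_apply, f.toNormalization_fromNormalization]⟩
    have h4 : closure (Set.range f) ⊆ Set.range f.fromNormalization :=
      hrc.closure_subset_iff.mpr hsub
    rw [f.denseRange.closure_range] at h4
    exact h4 (Set.mem_univ y)
  have h := geometricallyConnected_comp_of_universallyInjective f.toNormalization
    f.fromNormalization
  rwa [f.toNormalization_fromNormalization] at h

end Groth.Agent.Lib.Helper22.SteinG
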