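import Mathlib

set_option autoImplicit false
set_option linter.style.haveILetI false
set_option linter.unusedSectionVars false
set_option linter.unusedVariables false

open CategoryTheory CategoryTheory.Limits AlgebraicGeometry
universe u

namespace Groth.Agent.Lib.Helper22StratA

/-- `j` becomes finite after base change along `g`. -/
def FinOver {U X T : Scheme.{u}} (j : U ⟶ X) (g : T ⟶ X) : Prop :=
  IsFinite (pullback.snd j g)

theorem FinOver.of_isPullback {U X T P : Scheme.{u}} {j : U ⟶ X} {g : T ⟶ X} {a : P ⟶ U}
    {b : P ⟶ T} (h : IsPullback a b j g) (hb : IsFinite b) : FinOver j g := by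
  have : pullback.snd j g = h.isoPullback.inv ≫ b := by rw [IsPullback.isoPullback_inv_snd]
  unfold FinOver
  rw [this]
  infer_instance

theorem FinOver.isFinite {U X T P : Scheme.{u}} {j : U ⟶ X} {g : T ⟶ X} (hf : FinOver j g)
    {a : P ⟶ U} {b : P ⟶ T} (h : IsPullback a b j g) : IsFinite b := by
  have : b = h.isoPullback.hom ≫ pullback.snd j g := by rw [IsPullback.isoPullback_hom_snd]
  rw [this]
  have : IsFinite (pullback.snd j g) := hf
  infer_instance

/-- precomposing the test morphism. -/
theorem FinOver.comp {U X T T' : Scheme.{u}} {j : U ⟶ X} {g : T ⟶ X} (hf : FinOver j g)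
    (t : T' ⟶ T) : FinOver j (t ≫ g) := by
  have h1 : IsPullback (pullback.fst (pullback.snd j g) t ≫ pullback.fst j g)
      (pullback.snd (pullback.snd j g) t) j (t ≫ g) :=
    IsPullback.paste_horiz (IsPullback.of_hasPullback (pullback.snd j g) t)
      (IsPullback.of_hasPullback j g)
  have : IsFinite (pullback.snd j g) := hf
  exact FinOver.of_isPullback h1 inferInstance

/-- base change of the whole situation. -/
theorem FinOver.baseChange {U X T U' X' : Scheme.{u}} {j : U ⟶ X} {g : T ⟶ X}
    (hf : FinOver j g) {j' : U' ⟶ X'} {h' : U' ⟶ U} {h : X' ⟶ X} (hsq : IsPullback h' j' j h) :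
    FinOver j' (pullback.snd g h) := by
  -- the big rectangle
  have h1 : IsPullback (pullback.fst j' (pullback.snd g h) ≫ h') (pullback.snd j' (pullback.snd g h))
      j (pullback.snd g h ≫ h) :=
    IsPullback.paste_horiz (IsPullback.of_hasPullback j' (pullback.snd g h)) hsq
  have h2 : pullback.snd g h ≫ h = pullback.fst g h ≫ g := pullback.condition.symm
  rw [h2] at h1
  exact (hf.comp (pullback.fst g h)).isFinite h1

/-- passing from an open piece of the base to the whole base. -/
theorem FinOver.of_restrict {U X T U' X' : Scheme.{u}} {j : U ⟶ X} {j' : U' ⟶ X'} {h' : U' ⟶ U}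
    {h : X' ⟶ X} (hsq : IsPullback h' j' j h) {g : T ⟶ X'} (hf : FinOver j' g) :
    FinOver j (g ≫ h) := by
  have h1 : IsPullback (pullback.fst j' g ≫ h') (pullback.snd j' g) j (g ≫ h) :=
    IsPullback.paste_horiz (IsPullback.of_hasPullback j' g) hsq
  exact FinOver.of_isPullback h1 hf

end Groth.Agent.Lib.Helper22StratA
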