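/-
Helper library (helper4): generic finiteness, algebraic part. A finite type algebra `R → S` with only
finitely many primes over a minimal prime `𝔭` of `R` becomes finite (integral) after inverting some
`g ∉ 𝔭`.
-/
import Mathlib

set_option autoImplicit false
set_option linter.style.haveILetI false
universe u

open IsLocalRing TensorProduct Polynomial

namespace Groth.Agent.Lib.Helper4.GenFinite

/-- Integrality lifts modulo a nil ideal. -/
theorem isIntegral_of_isIntegral_quotient_of_le_nilradical {R S : Type*} [CommRing R] [CommRing S]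
    [Algebra R S] (J : Ideal S) (hJ : J ≤ nilradical S) (x : S)
    (hx : IsIntegral R (Ideal.Quotient.mk J x)) : IsIntegral R x := by
  obtain ⟨P, hP, hPx⟩ := hx
  have h1 : Polynomial.aeval x P ∈ J := by
    rw [← Ideal.Quotient.eq_zero_iff_mem, ← Ideal.Quotient.mkₐ_eq_mk R, ← Polynomial.aeval_algHom_apply]
    exact hPx
  obtain ⟨N, hN⟩ := hJ h1
  refine ⟨P ^ N, hP.pow N, ?_⟩
  rw [← Polynomial.aeval_def, map_pow, hN]

/-- A quasi-finite algebra over a zero-dimensional local ring is integral. -/
theorem isIntegral_of_quasiFinite_of_krullDimLE_zero (R S : Type*) [CommRing R] [CommRing S]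
    [Algebra R S] [IsLocalRing R] [Ring.KrullDimLE 0 R] [Algebra.QuasiFinite R S] :
    Algebra.IsIntegral R S := by
  let e : (maximalIdeal R).Fiber S ≃ₐ[R] S ⧸ (maximalIdeal R).map (algebraMap R S) :=
    (Algebra.TensorProduct.congr (.symm <| .ofBijective _
      (Ideal.bijective_algebraMap_quotient_residueField (maximalIdeal R))) .refl).trans <|
    (Algebra.TensorProduct.comm _ _ _).trans
    ((Algebra.TensorProduct.quotIdealMapEquivTensorQuot S (maximalIdeal R)).symm.restrictScalars _)
  have hfin : Module.Finite R (S ⧸ (maximalIdeal R).map (algebraMap R S)) :=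
    have : Module.Finite R ((maximalIdeal R).Fiber S) :=
      .trans (maximalIdeal R).ResidueField _
    .of_surjective e.toLinearMap e.surjective
  have hint : Algebra.IsIntegral R (S ⧸ (maximalIdeal R).map (algebraMap R S)) := inferInstance
  constructor
  intro x
  apply isIntegral_of_isIntegral_quotient_of_le_nilradical
    ((maximalIdeal R).map (algebraMap R S)) ?_ x (hint.isIntegral _)
  rw [Ideal.map_le_iff_le_comap, ← Ring.KrullDimLE.nilradical_eq_maximalIdeal]
  exact fun x hx ↦ IsNilpotent.map hx _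

/-- Localizing a finite type algebra at a minimal prime with finite fibre gives an integral
algebra. -/
theorem isIntegral_localization_of_minimal {R S : Type u} [CommRing R] [CommRing S] [Algebra R S]
    [Algebra.FiniteType R S] (𝔭 : Ideal R) [𝔭.IsPrime] (hmin : 𝔭 ∈ minimalPrimes R)
    (hfin : {q : PrimeSpectrum S | q.asIdeal.comap (algebraMap R S) = 𝔭}.Finite) :
    Algebra.IsIntegral (Localization.AtPrime 𝔭)
      (Localization (Algebra.algebraMapSubmonoid S 𝔭.primeCompl)) := by
  let R' := Localization.AtPrime 𝔭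
  let M := Algebra.algebraMapSubmonoid S 𝔭.primeCompl
  let S' := Localization M
  haveI : Ring.KrullDimLE 0 R' := .of_isLocalization _ hmin _
  haveI hft : Algebra.FiniteType R' S' := by
    have h1 : (algebraMap R S).FiniteType := RingHom.finiteType_algebraMap.mpr inferInstance
    haveI : IsLocalization (Submonoid.map (algebraMap R S) 𝔭.primeCompl) S' :=
      inferInstanceAs (IsLocalization M S')
    have h2 := RingHom.finiteType_localizationPreserves (algebraMap R S) 𝔭.primeCompl R' S' h1
    exact RingHom.finiteType_algebraMap.mp h2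
  haveI : Algebra.QuasiFinite R' S' := by
    rw [Algebra.QuasiFinite.iff_finite_comap_preimage_singleton]
    intro P
    have hinj : Function.Injective (PrimeSpectrum.comap (algebraMap S S')) :=
      PrimeSpectrum.localization_comap_injective S' M
    refine (Set.Finite.preimage hinj.injOn hfin).subset ?_
    intro Q _
    change ((Q.asIdeal.comap (algebraMap S S')).comap (algebraMap R S)) = 𝔭
    have hprime : ((Q.asIdeal.comap (algebraMap S S')).comap (algebraMap R S)).IsPrime :=
      inferInstance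
    have hdisj : Disjoint (M : Set S) (Q.asIdeal.comap (algebraMap S S') : Set S) :=
      ((IsLocalization.isPrime_iff_isPrime_disjoint M S' Q.asIdeal).mp Q.2).2
    have hle : (Q.asIdeal.comap (algebraMap S S')).comap (algebraMap R S) ≤ 𝔭 := by
      intro r hr
      by_contra hr'
      exact Set.disjoint_left.mp hdisj ⟨r, hr', rfl⟩ hr
    exact (hmin.2 ⟨hprime, bot_le⟩ hle).antisymm hle |>.symm ▸ rfl
  exact isIntegral_of_quasiFinite_of_krullDimLE_zero R' S'


/-- If `u • P(y) = 0` for a monic `P` then `u • y` is integral. -/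
theorem isIntegral_smul_of_smul_aeval_eq_zero {R S : Type*} [CommRing R] [CommRing S] [Algebra R S]
    (u : R) (y : S) (P : R[X]) (hP : P.Monic) (h : u • aeval y P = 0) : IsIntegral R (u • y) := by
  rcases subsingleton_or_nontrivial R with hR | hR
  · have : Subsingleton S := by
      refine ⟨fun a b => ?_⟩
      rw [← one_smul R a, ← one_smul R b, Subsingleton.elim (1 : R) 0, zero_smul, zero_smul]
    rw [Subsingleton.elim (u • y) 0]
    exact isIntegral_zero
  refine ⟨(X * P).scaleRoots u, (monic_scaleRoots_iff u).mpr (monic_X.mul hP), ?_⟩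
  have hdeg : (X * P).natDegree = P.natDegree + 1 := by
    rw [mul_comm, natDegree_mul_X hP.ne_zero]
  have h1 := scaleRoots_eval₂_mul (p := X * P) (algebraMap R S) y u
  rw [Algebra.smul_def, h1, hdeg, pow_succ, mul_assoc, eval₂_mul, eval₂_X, ← aeval_def,
    mul_left_comm (algebraMap R S u), ← Algebra.smul_def u, h, mul_zero, mul_zero]

/-- Spreading out integrality of one element from the localization at `𝔭`. -/
theorem exists_isIntegral_smul_of_isIntegral_localization {R S : Type u} [CommRing R] [CommRing S]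
    [Algebra R S] (𝔭 : Ideal R) [𝔭.IsPrime] (s : S)
    (hs : IsIntegral (Localization.AtPrime 𝔭)
      (algebraMap S (Localization (Algebra.algebraMapSubmonoid S 𝔭.primeCompl)) s)) :
    ∃ g ∉ 𝔭, IsIntegral R (g • s) := by
  let R' := Localization.AtPrime 𝔭
  let M := Algebra.algebraMapSubmonoid S 𝔭.primeCompl
  let S' := Localization M
  obtain ⟨m, hm⟩ := IsIntegral.exists_multiple_integral_of_isLocalization 𝔭.primeCompl
    (Rₘ := R') (algebraMap S S' s) hs
  obtain ⟨Q, hQ, hQ0⟩ := hm
  have h1 : algebraMap S S' (aeval (m.1 • s) Q) = 0 := by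
    have h0 : m • algebraMap S S' s = algebraMap S S' (m.1 • s) := by
      rw [Submonoid.smul_def, Algebra.smul_def, Algebra.smul_def, map_mul,
        ← IsScalarTower.algebraMap_apply R S S']
    rw [← hQ0, ← aeval_def, h0, aeval_algebraMap_apply]
  obtain ⟨c, hc⟩ := (IsLocalization.map_eq_zero_iff M S' _).mp h1
  obtain ⟨u, hu, huc⟩ := c.2
  have h2 : u • aeval (m.1 • s) Q = 0 := by
    rw [Algebra.smul_def, huc]; exact hc
  refine ⟨u * m.1, 𝔭.primeCompl.mul_mem hu m.2, ?_⟩
  rw [mul_smul]
  exact isIntegral_smul_of_smul_aeval_eq_zero u (m.1 • s) Q hQ h2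

/-- **Generic finiteness, algebraic form.** -/
theorem exists_forall_exists_isIntegral_pow_smul {R S : Type u} [CommRing R] [CommRing S]
    [Algebra R S] [Algebra.FiniteType R S] (𝔭 : Ideal R) [𝔭.IsPrime] (hmin : 𝔭 ∈ minimalPrimes R)
    (hfin : {q : PrimeSpectrum S | q.asIdeal.comap (algebraMap R S) = 𝔭}.Finite) :
    ∃ g ∉ 𝔭, ∀ s : S, ∃ n : ℕ, IsIntegral R (g ^ n • s) := by
  classical
  have hint := isIntegral_localization_of_minimal 𝔭 hmin hfin
  obtain ⟨t, ht⟩ := (Algebra.FiniteType.out : (⊤ : Subalgebra R S).FG)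
  have hgi : ∀ s : S, ∃ g ∉ 𝔭, IsIntegral R (g • s) := fun s =>
    exists_isIntegral_smul_of_isIntegral_localization 𝔭 s (hint.isIntegral _)
  choose gi hgi_mem hgi_int using hgi
  let g : R := ∏ s ∈ t, gi s
  have hg : g ∉ 𝔭 := by
    intro h
    obtain ⟨s, -, hs⟩ := (Ideal.IsPrime.prod_mem_iff (p := 𝔭)).mp h
    exact hgi_mem s hs
  refine ⟨g, hg, ?_⟩
  have hgen : ∀ s ∈ t, IsIntegral R (g • s) := by
    intro s hs
    have : g = (∏ s' ∈ t.erase s, gi s') * gi s := by
      rw [Finset.prod_erase_mul _ _ hs]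
    rw [this, mul_smul]
    exact (hgi_int s).smul _
  intro s
  have hs : s ∈ Algebra.adjoin R (t : Set S) := by rw [ht]; trivial
  induction hs using Algebra.adjoin_induction with
  | mem x hx => exact ⟨1, by simpa using hgen x hx⟩
  | algebraMap r => exact ⟨0, by simpa using isIntegral_algebraMap⟩
  | add x y _ _ hx hy =>
    obtain ⟨n, hn⟩ := hx
    obtain ⟨m, hm⟩ := hy
    refine ⟨n + m, ?_⟩
    have : g ^ (n + m) • (x + y) = g ^ m • (g ^ n • x) + g ^ n • (g ^ m • y) := by
      rw [smul_add, ← mul_smul, ← mul_smul, ← pow_add, ← pow_add, add_comm m n]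
    rw [this]
    exact (hn.smul _).add (hm.smul _)
  | mul x y _ _ hx hy =>
    obtain ⟨n, hn⟩ := hx
    obtain ⟨m, hm⟩ := hy
    refine ⟨n + m, ?_⟩
    have : g ^ (n + m) • (x * y) = (g ^ n • x) * (g ^ m • y) := by
      rw [smul_mul_smul_comm, pow_add]
    rw [this]
    exact hn.mul hm

/-- Ring hom form: finiteness of the localized map. -/
theorem finite_awayMap_of_forall_exists_isIntegralElem {R S : Type u} [CommRing R] [CommRing S]
    (φ : R →+* S) (hφ : φ.FiniteType) (g : R)
    (hg : ∀ s : S, ∃ n : ℕ, φ.IsIntegralElem (φ g ^ n * s))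
    (Rg Sg : Type u) [CommRing Rg] [CommRing Sg] [Algebra R Rg] [Algebra S Sg]
    [IsLocalization.Away g Rg] [IsLocalization.Away (φ g) Sg] :
    (IsLocalization.Away.map Rg Sg φ g).Finite := by
  rw [RingHom.finite_iff_isIntegral_and_finiteType]
  refine ⟨?_, RingHom.finiteType_localizationPreserves.away φ g Rg Sg hφ⟩
  set ψ := IsLocalization.Away.map Rg Sg φ g with hψ
  have hcomm : ∀ r : R, ψ (algebraMap R Rg r) = algebraMap S Sg (φ r) := fun r =>
    IsLocalization.map_eq _ r
  have hunit : IsUnit (algebraMap R Rg g) := IsLocalization.Away.algebraMap_isUnit g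
  -- images of elements of `S` are integral
  have h1 : ∀ s : S, ψ.IsIntegralElem (algebraMap S Sg s) := by
    intro s
    obtain ⟨n, P, hP, hPs⟩ := hg s
    have h2 : ψ.IsIntegralElem (algebraMap S Sg (φ g ^ n * s)) := by
      refine ⟨P.map (algebraMap R Rg), hP.map _, ?_⟩
      rw [eval₂_map]
      have : ψ.comp (algebraMap R Rg) = (algebraMap S Sg).comp φ := RingHom.ext hcomm
      rw [this, ← hom_eval₂, hPs, map_zero]
    obtain ⟨w, hw⟩ := (hunit.pow n).exists_left_inv
    have h3 : algebraMap S Sg s = ψ w * algebraMap S Sg (φ g ^ n * s) := by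
      rw [map_mul, map_pow, ← hcomm, ← map_pow, ← mul_assoc, ← map_mul, hw, map_one, one_mul]
    rw [h3]
    exact RingHom.IsIntegralElem.mul _ (ψ.isIntegralElem_map) h2
  intro x
  obtain ⟨⟨s, ⟨_, k, rfl⟩⟩, hs⟩ := IsLocalization.surj (Submonoid.powers (φ g)) x
  obtain ⟨w, hw⟩ := (hunit.pow k).exists_left_inv
  have h4 : x = ψ w * algebraMap S Sg s := by
    have h5 : x * algebraMap S Sg (φ g ^ k) = algebraMap S Sg s := hs
    rw [← h5, map_pow, ← hcomm, ← map_pow, mul_left_comm, ← map_mul, hw, map_one, mul_one]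
  rw [h4]
  exact RingHom.IsIntegralElem.mul _ (ψ.isIntegralElem_map) (h1 s)


/-- **Generic finiteness, ring hom form.** -/
theorem exists_forall_exists_isIntegralElem {R S : Type u} [CommRing R] [CommRing S]
    (φ : R →+* S) (hφ : φ.FiniteType) (𝔭 : Ideal R) [𝔭.IsPrime] (hmin : 𝔭 ∈ minimalPrimes R)
    (hfin : {q : PrimeSpectrum S | q.asIdeal.comap φ = 𝔭}.Finite) :
    ∃ g ∉ 𝔭, ∀ s : S, ∃ n : ℕ, φ.IsIntegralElem (φ g ^ n * s) := by
  algebraize [φ]
  obtain ⟨g, hg, h⟩ := exists_forall_exists_isIntegral_pow_smul (R := R) (S := S) 𝔭 hmin hfin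
  refine ⟨g, hg, fun s => ?_⟩
  obtain ⟨n, hn⟩ := h s
  refine ⟨n, ?_⟩
  have : g ^ n • s = φ g ^ n * s := by
    rw [Algebra.smul_def, map_pow]; rfl
  rw [← this]
  exact hn

end Groth.Agent.Lib.Helper4.GenFinite
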