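/-
Helper library (helper4): generic finiteness, scheme level. For `f : X ⟶ Y` locally of finite type
and `η` a generic point of an irreducible component of `Y` with finite fibre, `f` is finite over a
neighbourhood of `η` (affine-locally on the source, and globally for quasi-compact `f` under a
disjointness condition).
-/
import Mathlib
import Groth.Agent.Lib.Helper4GenFinite
import Groth.Agent.Lib.Helper12ClosureImage
import Groth.Agent.Lib.Helper14IrrComp

set_option autoImplicit false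
set_option linter.style.haveILetI false
universe u
open CategoryTheory CategoryTheory.Limits AlgebraicGeometry TopologicalSpace Polynomial

namespace Groth.Agent.Lib.Helper4.GenFinite

/-- A generic point of an irreducible component has no proper generizations. -/
theorem eq_of_specializes_of_mem_irreducibleComponents {Y : Scheme.{u}} {η : Y}
    (hη : closure {η} ∈ irreducibleComponents (Y : Type u)) {y : Y} (h : y ⤳ η) : y = η :=
  (Groth.Agent.Lib.Helper14.closure_mem_irreducibleComponents_iff η).mp hη y h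

/-- The prime ideal of a generic point of an irreducible component is a minimal prime. -/
theorem primeIdealOf_mem_minimalPrimes {Y : Scheme.{u}} {V : Y.Opens} (hV : IsAffineOpen V) (η : Y)
    (hηV : η ∈ V) (hη : closure {η} ∈ irreducibleComponents (Y : Type u)) :
    (hV.primeIdealOf ⟨η, hηV⟩).asIdeal ∈ minimalPrimes Γ(Y, V) := by
  refine ⟨⟨(hV.primeIdealOf ⟨η, hηV⟩).isPrime, bot_le⟩, ?_⟩
  rintro q ⟨hq, -⟩ hle
  let q' : Spec Γ(Y, V) := ⟨q, hq⟩
  have h1 : q' ⤳ hV.primeIdealOf ⟨η, hηV⟩ :=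
    (PrimeSpectrum.le_iff_specializes q' (hV.primeIdealOf ⟨η, hηV⟩)).mp hle
  have h2 : hV.fromSpec q' ⤳ hV.fromSpec (hV.primeIdealOf ⟨η, hηV⟩) :=
    h1.map hV.fromSpec.continuous
  rw [hV.fromSpec_primeIdealOf] at h2
  have h3 := eq_of_specializes_of_mem_irreducibleComponents hη h2
  have h4 : q' = hV.primeIdealOf ⟨η, hηV⟩ := by
    apply hV.fromSpec.isOpenEmbedding.injective
    rw [hV.fromSpec_primeIdealOf]
    exact h3
  rw [← h4]

set_option backward.isDefEq.respectTransparency.types false in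
/-- Finiteness of `D(φ r) → D(r)` from the ring-level statement. -/
theorem isFinite_resLE_basicOpen_of_away_map_finite {X Y : Scheme.{u}} (f : X ⟶ Y)
    {V : Y.Opens} (hV : IsAffineOpen V) {U : X.Opens} (hU : IsAffineOpen U) (e : U ≤ f ⁻¹ᵁ V)
    (r : Γ(Y, V))
    (hfin : letI := hV.isLocalization_basicOpen r
      letI := hU.isLocalization_basicOpen (f.appLE V U e r)
      (IsLocalization.Away.map Γ(Y, Y.basicOpen r) Γ(X, X.basicOpen (f.appLE V U e r))
        (f.appLE V U e).hom r).Finite)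
    (hle : X.basicOpen (f.appLE V U e r) ≤ f ⁻¹ᵁ (Y.basicOpen r)) :
    IsFinite (f.resLE (Y.basicOpen r) (X.basicOpen (f.appLE V U e r)) hle) := by
  haveI hA1 : IsAffine (Y.basicOpen r).toScheme := hV.basicOpen r
  haveI hA2 : IsAffine (X.basicOpen (f.appLE V U e r)).toScheme := hU.basicOpen _
  have h1 : (f.appLE (Y.basicOpen r) (X.basicOpen (f.appLE V U e r)) hle).hom.Finite := by
    rw [IsAffineOpen.appLE_eq_away_map f hV hU e r]
    exact hfin
  have h3 : (f.resLE (Y.basicOpen r) (X.basicOpen (f.appLE V U e r)) hle).appTop.hom.Finite :=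
    (RingHom.finite_respectsIso.arrow_mk_iso_iff (arrowResLEAppIso f _ _ hle)).mpr h1
  exact (HasAffineProperty.iff_of_isAffine (P := @IsFinite)).mpr ⟨hA2, h3⟩

/-- membership in a basic open of an affine open, via the prime ideal -/
theorem mem_basicOpen_iff_not_mem_primeIdealOf {Y : Scheme.{u}} {V : Y.Opens} (hV : IsAffineOpen V)
    (y : Y) (hy : y ∈ V) (g : Γ(Y, V)) :
    y ∈ Y.basicOpen g ↔ g ∉ (hV.primeIdealOf ⟨y, hy⟩).asIdeal := by
  have h1 : hV.primeIdealOf ⟨y, hy⟩ ∈ PrimeSpectrum.basicOpen g ↔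
      g ∉ (hV.primeIdealOf ⟨y, hy⟩).asIdeal := Iff.rfl
  rw [← h1, ← hV.fromSpec_preimage_basicOpen]
  change _ ↔ hV.fromSpec (hV.primeIdealOf ⟨y, hy⟩) ∈ Y.basicOpen g
  rw [hV.fromSpec_primeIdealOf]

/-- **Affine-local generic finiteness.** -/
theorem exists_isFinite_resLE_basicOpen {X Y : Scheme.{u}} (f : X ⟶ Y) [LocallyOfFiniteType f]
    {V : Y.Opens} (hV : IsAffineOpen V) {U : X.Opens} (hU : IsAffineOpen U) (e : U ≤ f ⁻¹ᵁ V)
    (η : Y) (hηV : η ∈ V) (hη : closure {η} ∈ irreducibleComponents (Y : Type u))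
    (hfin : ((U : Set X) ∩ f.base ⁻¹' {η}).Finite) :
    ∃ r₀ : Γ(Y, V), η ∈ Y.basicOpen r₀ ∧ ∀ (r' : Γ(Y, V))
      (hle : X.basicOpen (f.appLE V U e (r₀ * r')) ≤ f ⁻¹ᵁ (Y.basicOpen (r₀ * r'))),
      IsFinite (f.resLE (Y.basicOpen (r₀ * r')) (X.basicOpen (f.appLE V U e (r₀ * r'))) hle) := by
  set φ := (f.appLE V U e).hom with hφdef
  have hφ : φ.FiniteType := f.finiteType_appLE hV hU e
  set 𝔭 := (hV.primeIdealOf ⟨η, hηV⟩).asIdeal with h𝔭
  haveI : 𝔭.IsPrime := (hV.primeIdealOf ⟨η, hηV⟩).isPrime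
  have hmin : 𝔭 ∈ minimalPrimes Γ(Y, V) := primeIdealOf_mem_minimalPrimes hV η hηV hη
  have hcomm : Spec.map (f.appLE V U e) ≫ hV.fromSpec = hU.fromSpec ≫ f :=
    hV.SpecMap_appLE_fromSpec f hU e
  have hfin' : {q : PrimeSpectrum Γ(X, U) | q.asIdeal.comap φ = 𝔭}.Finite := by
    have hinj : Set.InjOn (fun q : Spec Γ(X, U) => hU.fromSpec q)
        ((fun q : Spec Γ(X, U) => hU.fromSpec q) ⁻¹' ((U : Set X) ∩ f.base ⁻¹' {η})) :=
      hU.fromSpec.isOpenEmbedding.injective.injOn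
    refine (hfin.preimage hinj).subset ?_
    intro q hq
    have hq' : q.asIdeal.comap φ = 𝔭 := hq
    refine ⟨?_, ?_⟩
    · have : hU.fromSpec q ∈ Set.range hU.fromSpec := ⟨q, rfl⟩
      rw [hU.range_fromSpec] at this
      exact this
    · change f (hU.fromSpec q) = η
      rw [← Scheme.Hom.comp_apply, ← hcomm, Scheme.Hom.comp_apply]
      have : (Spec.map (f.appLE V U e)) q = hV.primeIdealOf ⟨η, hηV⟩ := by
        apply PrimeSpectrum.ext
        exact hq'
      rw [this, hV.fromSpec_primeIdealOf]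
  obtain ⟨g, hg, h⟩ := exists_forall_exists_isIntegralElem φ hφ 𝔭 hmin hfin'
  refine ⟨g, (mem_basicOpen_iff_not_mem_primeIdealOf hV η hηV g).mpr hg, fun r' hle => ?_⟩
  apply isFinite_resLE_basicOpen_of_away_map_finite f hV hU e (g * r') ?_ hle
  letI := hV.isLocalization_basicOpen (g * r')
  letI := hU.isLocalization_basicOpen (f.appLE V U e (g * r'))
  apply finite_awayMap_of_forall_exists_isIntegralElem φ hφ (g * r')
  intro s
  obtain ⟨n, hn⟩ := h s
  refine ⟨n, ?_⟩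
  have : φ (g * r') ^ n * s = φ (r' ^ n) * (φ g ^ n * s) := by
    rw [map_mul, mul_pow, map_pow]; ring
  rw [this]
  exact RingHom.IsIntegralElem.mul _ (φ.isIntegralElem_map) hn

/-- A finite fibre of a morphism locally of finite type is discrete. -/
theorem isDiscrete_preimage_singleton_of_finite {X Y : Scheme.{u}} (f : X ⟶ Y)
    [LocallyOfFiniteType f] (y : Y) (hfin : (f.base ⁻¹' {y}).Finite) :
    _root_.IsDiscrete (f.base ⁻¹' {y}) := by
  let g := f.fiberToSpecResidueField y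
  haveI : LocallyOfFiniteType g := by
    change LocallyOfFiniteType (pullback.snd _ _)
    infer_instance
  haveI : Finite (f.fiber y) := by
    haveI := hfin.to_subtype
    exact (f.fiberHomeo y).toEquiv.finite_iff.mpr inferInstance
  haveI : LocallyQuasiFinite g := .of_finite_preimage_singleton g (fun _ => Set.toFinite _)
  haveI : IsLocallyArtinian (f.fiber y) := IsLocallyArtinian.of_locallyQuasiFinite g
  simpa [Scheme.Hom.range_fiberι] using
    (isDiscrete_univ_iff.mpr inferInstance).image (f.fiberι y).isEmbedding.toIsInducing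

/-- Integrality of sections glues over a finite open cover. -/
theorem isIntegral_app_of_iSup {X Y : Scheme.{u}} (f : X ⟶ Y) (V : Y.Opens)
    {ι : Type u} [Finite ι] (U : ι → X.Opens) (hle : ∀ i, U i ≤ f ⁻¹ᵁ V)
    (hcov : f ⁻¹ᵁ V ≤ ⨆ i, U i)
    (hint : ∀ i, (f.appLE V (U i) (hle i)).hom.IsIntegral) :
    (f.app V).hom.IsIntegral := by
  classical
  haveI := Fintype.ofFinite ι
  intro s
  set φ := (f.app V).hom with hφ
  let res : ∀ i, Γ(X, f ⁻¹ᵁ V) →+* Γ(X, U i) := fun i => (X.presheaf.map (homOfLE (hle i)).op).hom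
  have hφi : ∀ i, (f.appLE V (U i) (hle i)).hom = (res i).comp φ := fun i => rfl
  have h1 : ∀ i, ∃ p : Polynomial Γ(Y, V), p.Monic ∧
      eval₂ (f.appLE V (U i) (hle i)).hom (res i s) p = 0 := fun i => hint i (res i s)
  choose p hp hps using h1
  refine ⟨∏ i, p i, monic_prod_of_monic _ _ (fun i _ => hp i), ?_⟩
  apply X.sheaf.eq_of_locally_eq' U (f ⁻¹ᵁ V) (fun i => homOfLE (hle i)) hcov
  intro i
  change res i (eval₂ φ s (∏ i, p i)) = res i 0
  rw [map_zero, hom_eval₂, ← hφi, eval₂_finsetProd]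
  exact Finset.prod_eq_zero (Finset.mem_univ i) (hps i)

set_option backward.isDefEq.respectTransparency.types false in
/-- finiteness of `f ∣_ V` in terms of `f.app V`, when `f ⁻¹ V` is affine. -/
theorem isFinite_morphismRestrict_iff {X Y : Scheme.{u}} (f : X ⟶ Y) {V : Y.Opens}
    (hV : IsAffineOpen V) :
    IsFinite (f ∣_ V) ↔ IsAffineOpen (f ⁻¹ᵁ V) ∧ (f.app V).hom.Finite := by
  haveI : IsAffine V.toScheme := hV
  rw [HasAffineProperty.iff_of_isAffine (P := @IsFinite)]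
  have h : (f ∣_ V).appTop.hom.Finite ↔ (f.app V).hom.Finite := by
    rw [← Scheme.Hom.resLE_eq_morphismRestrict, ← Scheme.Hom.appLE_eq_app]
    exact RingHom.finite_respectsIso.arrow_mk_iso_iff (arrowResLEAppIso f V (f ⁻¹ᵁ V) le_rfl)
  rw [h]
  rfl

set_option backward.isDefEq.respectTransparency.types false in
/-- finiteness of `f.resLE V U` in terms of `f.appLE V U`, for `U`, `V` affine. -/
theorem isFinite_resLE_iff {X Y : Scheme.{u}} (f : X ⟶ Y) {V : Y.Opens}
    (hV : IsAffineOpen V) {U : X.Opens} (hU : IsAffineOpen U) (e : U ≤ f ⁻¹ᵁ V) :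
    IsFinite (f.resLE V U e) ↔ (f.appLE V U e).hom.Finite := by
  haveI : IsAffine V.toScheme := hV
  haveI : IsAffine U.toScheme := hU
  rw [HasAffineProperty.iff_of_isAffine (P := @IsFinite), and_iff_right (by infer_instance)]
  exact RingHom.finite_respectsIso.arrow_mk_iso_iff (arrowResLEAppIso f V U e)

/-- Gluing finiteness over finitely many pairwise disjoint affine pieces. -/
theorem isFinite_morphismRestrict_of_disjoint_cover {X Y : Scheme.{u}} (f : X ⟶ Y)
    [LocallyOfFiniteType f] {V : Y.Opens} (hV : IsAffineOpen V)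
    {ι : Type u} [Finite ι] (U : ι → X.Opens) (hU : ∀ i, IsAffineOpen (U i))
    (hle : ∀ i, U i ≤ f ⁻¹ᵁ V) (hcov : f ⁻¹ᵁ V ≤ ⨆ i, U i)
    (hdisj : Pairwise (Function.onFun Disjoint U))
    (hfin : ∀ i, IsFinite (f.resLE V (U i) (hle i))) :
    IsFinite (f ∣_ V) := by
  have hsup : f ⁻¹ᵁ V = ⨆ i, U i := le_antisymm hcov (iSup_le hle)
  have hAff : IsAffineOpen (f ⁻¹ᵁ V) := by
    rw [hsup]; exact .iSup_of_disjoint hU hdisj
  rw [isFinite_morphismRestrict_iff f hV]
  refine ⟨hAff, ?_⟩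
  rw [RingHom.finite_iff_isIntegral_and_finiteType]
  constructor
  · apply isIntegral_app_of_iSup f V U hle hcov
    intro i
    exact ((isFinite_resLE_iff f hV (hU i) (hle i)).mp (hfin i)).to_isIntegral
  · rw [← Scheme.Hom.appLE_eq_app]
    exact f.finiteType_appLE hV hAff le_rfl

/-- for quasi-compact `f` and closed `Z`, points of the closure of `f '' Z` are specializations of
points of `f '' Z`. -/
theorem exists_specializes_of_mem_closure_image' {X Y : Scheme.{u}} (f : X ⟶ Y) [QuasiCompact f]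
    (Z : Set X) (hZ : IsClosed Z)
    (z : Y) (hz : z ∈ closure (f.base '' Z)) : ∃ x ∈ Z, f.base x ⤳ z := by
  let I := Scheme.IdealSheafData.vanishingIdeal (X := X) ⟨Z, hZ⟩
  have hr : Set.range I.subschemeι.base = Z := by
    rw [Scheme.IdealSheafData.range_subschemeι, Scheme.IdealSheafData.coe_support_vanishingIdeal]
    rfl
  have hrange : Set.range (I.subschemeι ≫ f).base = f.base '' Z := by
    rw [← hr, ← Set.range_comp]
    rfl
  obtain ⟨w, hw⟩ := Groth.Agent.Lib.Helper12.exists_specializes_of_mem_closure_range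
    (I.subschemeι ≫ f) z (by rw [hrange]; exact hz)
  refine ⟨I.subschemeι.base w, ?_, hw⟩
  rw [← hr]
  exact ⟨w, rfl⟩

/-- Shrinking the base so that the preimage lies in a given open containing the fibre. -/
theorem exists_basicOpen_preimage_le {X Y : Scheme.{u}} (f : X ⟶ Y) [QuasiCompact f]
    {V : Y.Opens} (hV : IsAffineOpen V) (η : Y) (hηV : η ∈ V)
    (hη : closure {η} ∈ irreducibleComponents (Y : Type u))
    (U' : X.Opens) (hF : f.base ⁻¹' {η} ⊆ (U' : Set X)) :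
    ∃ r : Γ(Y, V), η ∈ Y.basicOpen r ∧ f ⁻¹ᵁ (Y.basicOpen r) ≤ U' := by
  have hZ : IsClosed ((U' : Set X)ᶜ) := U'.2.isClosed_compl
  have h1 : η ∉ closure (f.base '' ((U' : Set X)ᶜ)) := by
    intro h
    obtain ⟨x, hxZ, hx⟩ := exists_specializes_of_mem_closure_image' f _ hZ η h
    have := eq_of_specializes_of_mem_irreducibleComponents hη hx
    exact hxZ (hF this)
  let O : Y.Opens := ⟨(closure (f.base '' ((U' : Set X)ᶜ)))ᶜ, isClosed_closure.isOpen_compl⟩
  obtain ⟨r, hr, hηr⟩ := hV.exists_basicOpen_le (V := O) ⟨η, h1⟩ hηV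
  refine ⟨r, hηr, ?_⟩
  intro x hx
  by_contra hxU
  have h2 : f.base x ∈ O := hr hx
  exact h2 (subset_closure ⟨x, hxU, rfl⟩)

/-- Shrinking the base so that the preimage misses a compact open not meeting the fibre. -/
theorem exists_basicOpen_preimage_disjoint {X Y : Scheme.{u}} (f : X ⟶ Y)
    {V : Y.Opens} (hV : IsAffineOpen V) (η : Y) (hηV : η ∈ V)
    (hη : closure {η} ∈ irreducibleComponents (Y : Type u))
    (W : X.Opens) (hWc : IsCompact (W : Set X)) (hWV : W ≤ f ⁻¹ᵁ V)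
    (hF : ∀ x ∈ W, f.base x ≠ η) :
    ∃ r : Γ(Y, V), η ∈ Y.basicOpen r ∧ W ⊓ f ⁻¹ᵁ (Y.basicOpen r) = ⊥ := by
  obtain ⟨s, hs, hsW⟩ := (isCompact_iff_finite_and_eq_biUnion_affineOpens (U := W)).mp hWc
  have hsW' : (W : Set X) = ⋃ i ∈ s, ((i : X.Opens) : Set X) := by
    rw [hsW]; simp
  have h1 : η ∉ closure (f.base '' (W : Set X)) := by
    intro h
    rw [hsW', Set.image_iUnion₂, hs.closure_biUnion] at h
    simp only [Set.mem_iUnion] at h
    obtain ⟨k, hk, hηk⟩ := h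
    have hkW : k.1 ≤ W := by
      intro x hx
      change x ∈ (W : Set X)
      rw [hsW']
      exact Set.mem_biUnion hk hx
    obtain ⟨x, hxk, hx⟩ :=
      Groth.Agent.Lib.Helper12.exists_specializes_of_mem_closure_image_affineOpen f hV k.2
        (hkW.trans hWV) η hηV hηk
    exact hF x (hkW hxk) (eq_of_specializes_of_mem_irreducibleComponents hη hx)
  let O : Y.Opens := ⟨(closure (f.base '' (W : Set X)))ᶜ, isClosed_closure.isOpen_compl⟩
  obtain ⟨r, hr, hηr⟩ := hV.exists_basicOpen_le (V := O) ⟨η, h1⟩ hηV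
  refine ⟨r, hηr, ?_⟩
  rw [eq_bot_iff]
  rintro x ⟨hxW, hx⟩
  have h2 : f.base x ∈ O := hr hx
  exact (h2 (subset_closure ⟨x, hxW, rfl⟩)).elim

theorem basicOpen_le_of_dvd {Y : Scheme.{u}} {V : Y.Opens} {a r : Γ(Y, V)} (h : a ∣ r) :
    Y.basicOpen r ≤ Y.basicOpen a := by
  obtain ⟨c, rfl⟩ := h
  rw [Scheme.basicOpen_mul]
  exact inf_le_left

theorem basicOpen_appLE_eq {X Y : Scheme.{u}} (f : X ⟶ Y) (V : Y.Opens) (U : X.Opens)
    (e : U ≤ f ⁻¹ᵁ V) (r : Γ(Y, V)) :
    X.basicOpen (f.appLE V U e r) = U ⊓ f ⁻¹ᵁ (Y.basicOpen r) := by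
  rw [Scheme.Hom.preimage_basicOpen]
  have : f.appLE V U e r = X.presheaf.map (homOfLE e).op (f.app V r) := rfl
  rw [this, Scheme.basicOpen_res]

/-- **Generic finiteness, assembly.** -/
theorem exists_isFinite_morphismRestrict_basicOpen {X Y : Scheme.{u}} (f : X ⟶ Y)
    [LocallyOfFiniteType f] [QuasiCompact f] {V : Y.Opens} (hV : IsAffineOpen V) (η : Y)
    (hηV : η ∈ V) (hη : closure {η} ∈ irreducibleComponents (Y : Type u))
    {ι : Type u} [Finite ι] (U : ι → X.Opens) (hU : ∀ i, IsAffineOpen (U i))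
    (hle : ∀ i, U i ≤ f ⁻¹ᵁ V)
    (hfin : ∀ i, ((U i : Set X) ∩ f.base ⁻¹' {η}).Finite)
    (hcov : f.base ⁻¹' {η} ⊆ ((⨆ i, U i : X.Opens) : Set X))
    (hdisj : ∀ i j, i ≠ j →
      ∃ r : Γ(Y, V), η ∈ Y.basicOpen r ∧ U i ⊓ U j ⊓ f ⁻¹ᵁ (Y.basicOpen r) = ⊥) :
    ∃ r : Γ(Y, V), η ∈ Y.basicOpen r ∧ IsFinite (f ∣_ Y.basicOpen r) := by
  classical
  haveI := Fintype.ofFinite ι
  have h0 := fun i => exists_isFinite_resLE_basicOpen f hV (hU i) (hle i) η hηV hη (hfin i)
  choose r₀ hr₀η hr₀fin using h0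
  have h1 : ∀ i j, ∃ r : Γ(Y, V), η ∈ Y.basicOpen r ∧
      (i ≠ j → U i ⊓ U j ⊓ f ⁻¹ᵁ (Y.basicOpen r) = ⊥) := by
    intro i j
    by_cases hij : i = j
    · exact ⟨1, by rw [Scheme.basicOpen_of_isUnit _ isUnit_one]; exact hηV, fun h => (h hij).elim⟩
    · obtain ⟨r, hr, h⟩ := hdisj i j hij
      exact ⟨r, hr, fun _ => h⟩
  choose r₁ hr₁η hr₁ using h1
  obtain ⟨r₂, hr₂η, hr₂⟩ := exists_basicOpen_preimage_le f hV η hηV hη (⨆ i, U i) hcov
  set r : Γ(Y, V) := (∏ i, r₀ i) * (∏ i, ∏ j, r₁ i j) * r₂ with hr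
  -- `η ∈ D(r)`
  set 𝔭 := (hV.primeIdealOf ⟨η, hηV⟩).asIdeal with h𝔭
  haveI : 𝔭.IsPrime := (hV.primeIdealOf ⟨η, hηV⟩).isPrime
  have hmem : ∀ g : Γ(Y, V), η ∈ Y.basicOpen g ↔ g ∉ 𝔭 :=
    fun g => mem_basicOpen_iff_not_mem_primeIdealOf hV η hηV g
  have hηr : η ∈ Y.basicOpen r := by
    rw [hmem, hr]
    intro h
    rcases (Ideal.IsPrime.mem_or_mem ‹_› h) with h | h
    · rcases (Ideal.IsPrime.mem_or_mem ‹_› h) with h | h
      · obtain ⟨i, -, hi⟩ := (Ideal.IsPrime.prod_mem_iff (p := 𝔭)).mp h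
        exact (hmem _).mp (hr₀η i) hi
      · obtain ⟨i, -, hi⟩ := (Ideal.IsPrime.prod_mem_iff (p := 𝔭)).mp h
        obtain ⟨j, -, hj⟩ := (Ideal.IsPrime.prod_mem_iff (p := 𝔭)).mp hi
        exact (hmem _).mp (hr₁η i j) hj
    · exact (hmem _).mp hr₂η h
  -- divisibility
  have hd0 : ∀ i, r₀ i ∣ r := fun i =>
    Dvd.dvd.mul_right (Dvd.dvd.mul_right (Finset.dvd_prod_of_mem _ (Finset.mem_univ i)) _) _
  have hd1 : ∀ i j, r₁ i j ∣ r := fun i j =>
    Dvd.dvd.mul_right (Dvd.dvd.mul_left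
      ((Finset.dvd_prod_of_mem _ (Finset.mem_univ j)).trans
        (Finset.dvd_prod_of_mem (fun i => ∏ j, r₁ i j) (Finset.mem_univ i))) _) _
  have hd2 : r₂ ∣ r := Dvd.intro_left _ rfl
  refine ⟨r, hηr, ?_⟩
  let P : ι → X.Opens := fun i => X.basicOpen (f.appLE V (U i) (hle i) r)
  have hP : ∀ i, P i = U i ⊓ f ⁻¹ᵁ (Y.basicOpen r) := fun i => basicOpen_appLE_eq f V (U i) (hle i) r
  have hPle : ∀ i, P i ≤ f ⁻¹ᵁ (Y.basicOpen r) := fun i => by rw [hP]; exact inf_le_right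
  have key : ∀ (r : Γ(Y, V)) (i : ι) (r' : Γ(Y, V)) (_ : r = r₀ i * r')
      (hle' : X.basicOpen (f.appLE V (U i) (hle i) r) ≤ f ⁻¹ᵁ (Y.basicOpen r)),
      IsFinite (f.resLE (Y.basicOpen r) (X.basicOpen (f.appLE V (U i) (hle i) r)) hle') := by
    intro r i r' h hle'
    subst h
    exact hr₀fin i r' hle'
  apply isFinite_morphismRestrict_of_disjoint_cover f (hV.basicOpen r) P
    (fun i => (hU i).basicOpen _) hPle
  · intro x hx
    have hx2 : x ∈ (⨆ i, U i : X.Opens) := hr₂ (f.preimage_mono (basicOpen_le_of_dvd hd2) hx)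
    rw [Opens.mem_iSup] at hx2 ⊢
    obtain ⟨i, hi⟩ := hx2
    refine ⟨i, ?_⟩
    rw [hP]
    exact ⟨hi, hx⟩
  · intro i j hij
    change Disjoint (P i) (P j)
    rw [disjoint_iff, eq_bot_iff, hP, hP]
    have : U i ⊓ f ⁻¹ᵁ Y.basicOpen r ⊓ (U j ⊓ f ⁻¹ᵁ Y.basicOpen r) ≤
        U i ⊓ U j ⊓ f ⁻¹ᵁ (Y.basicOpen (r₁ i j)) := by
      refine le_inf (le_inf (inf_le_left.trans inf_le_left) (inf_le_right.trans inf_le_left)) ?_
      exact (inf_le_left.trans inf_le_right).trans (f.preimage_mono (basicOpen_le_of_dvd (hd1 i j)))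
    exact this.trans (hr₁ i j hij).le
  · intro i
    obtain ⟨r', hr'⟩ := hd0 i
    exact key r i r' hr' (hPle i)

end Groth.Agent.Lib.Helper4.GenFinite
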