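/-
Helper library (helper4): generic finiteness, part 3 (gluing over unions of opens).
-/
import Mathlib
import Groth.Agent.Lib.Helper4GenFinite2

set_option autoImplicit false
set_option linter.style.haveILetI false
universe u
open CategoryTheory CategoryTheory.Limits AlgebraicGeometry TopologicalSpace Polynomial

namespace Groth.Agent.Lib.Helper4.GenFinite

/-- A target-local property holds over a union of opens if it holds over each of them. -/
theorem morphismRestrict_iSup_of_isZariskiLocalAtTarget (P : MorphismProperty Scheme.{u})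
    [IsZariskiLocalAtTarget P] {X Y : Scheme.{u}} (f : X ⟶ Y) {ι : Type*} (V : ι → Y.Opens)
    (h : ∀ i, P (f ∣_ V i)) : P (f ∣_ ⨆ i, V i) := by
  apply IsZariskiLocalAtTarget.of_iSup_eq_top (P := P) (fun i => (⨆ i, V i).ι ⁻¹ᵁ V i)
  · rw [eq_top_iff]
    intro x _
    have hx : x.1 ∈ ⨆ i, V i := x.2
    rw [Opens.mem_iSup] at hx
    obtain ⟨i, hi⟩ := hx
    exact Opens.mem_iSup.mpr ⟨i, hi⟩
  · intro i
    have e : (⨆ i, V i).ι ''ᵁ ((⨆ i, V i).ι ⁻¹ᵁ V i) = V i := by
      rw [Scheme.Hom.image_preimage_eq_opensRange_inf, Scheme.Opens.opensRange_ι]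
      exact inf_eq_right.mpr (le_iSup V i)
    exact (P.arrow_mk_iso_iff (morphismRestrictRestrict f _ _ ≪≫ morphismRestrictEq f e)).mpr (h i)

set_option backward.isDefEq.respectTransparency.types false in
/-- Finiteness over a union of opens. -/
theorem isFinite_morphismRestrict_iSup {X Y : Scheme.{u}} (f : X ⟶ Y) {ι : Type*}
    (V : ι → Y.Opens) (h : ∀ i, IsFinite (f ∣_ V i)) : IsFinite (f ∣_ ⨆ i, V i) :=
  morphismRestrict_iSup_of_isZariskiLocalAtTarget @IsFinite f V h

end Groth.Agent.Lib.Helper4.GenFinite
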