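import Groth.Agent.Lib.Helper4NwdE
import Groth.Agent.Lib.Helper4GenFinite3

/-!
# A quasi-finite morphism is finite over a dense open (helper4)

* `exists_generic_mem`: a nonempty affine open contains the generic point of an irreducible component.
* `isFinite_resLE_of_isClosed`: restricting a finite `P → O` to a relatively closed open `Q ⊆ P`.
* `exists_isFinite_morphismRestrict_le`: every nonempty affine open `O` of the target contains a
  nonempty open over which `f` is finite.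
* `exists_dense_isFinite_morphismRestrict`: the dense open.
-/

set_option autoImplicit false
set_option linter.style.haveILetI false

universe u

open AlgebraicGeometry CategoryTheory TopologicalSpace

namespace Groth.Agent.Lib.Helper4.Nwd

open Groth.Agent.Lib.Helper4.GenFinite

/-- every nonempty affine open contains the generic point of an irreducible component. -/
theorem exists_generic_mem {X : Scheme.{u}} {O : X.Opens} (hO : IsAffineOpen O)
    (hne : (O : Set X).Nonempty) :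
    ∃ η : X, η ∈ O ∧ closure {η} ∈ irreducibleComponents (X : Type u) := by
  obtain ⟨x, hx⟩ := hne
  obtain ⟨𝔭, h𝔭min, -⟩ := Ideal.exists_minimalPrimes_le
    (bot_le : (⊥ : Ideal Γ(X, O)) ≤ (hO.primeIdealOf ⟨x, hx⟩).asIdeal)
  haveI : 𝔭.IsPrime := h𝔭min.1.1
  let p : Spec Γ(X, O) := ⟨𝔭, h𝔭min.1.1⟩
  have hηO : hO.fromSpec p ∈ O := by
    have : hO.fromSpec p ∈ Set.range hO.fromSpec := ⟨p, rfl⟩
    rw [hO.range_fromSpec] at this
    exact this
  refine ⟨hO.fromSpec p, hηO, ?_⟩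
  rw [Groth.Agent.Lib.Helper14.closure_mem_irreducibleComponents_iff]
  intro y hy
  have hyO : y ∈ (O : Set X) := hy.mem_open O.isOpen hηO
  rw [← hO.range_fromSpec] at hyO
  obtain ⟨q, rfl⟩ := hyO
  have h1 : q ⤳ p := hO.fromSpec.isOpenEmbedding.isInducing.specializes_iff.mp hy
  have h2 : q.asIdeal ≤ 𝔭 := (PrimeSpectrum.le_iff_specializes q p).mpr h1
  have h3 : 𝔭 ≤ q.asIdeal := h𝔭min.2 ⟨q.isPrime, bot_le⟩ h2
  congr 1
  exact PrimeSpectrum.ext (le_antisymm h2 h3)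

theorem isClosedImmersion_homOfLE {Y : Scheme.{u}} {P Q : Y.Opens} (h : Q ≤ P) (C : Set Y)
    (hC : IsClosed C) (hQ : (Q : Set Y) = C ∩ P) : IsClosedImmersion (Y.homOfLE h) := by
  apply IsClosedImmersion.of_isPreimmersion
  have hι : ∀ q : Q.toScheme, P.ι (Y.homOfLE h q) = Q.ι q := by
    intro q
    rw [← Scheme.Hom.comp_apply, Scheme.homOfLE_ι]
  have : Set.range (Y.homOfLE h) = P.ι ⁻¹' C := by
    ext p
    constructor
    · rintro ⟨q, rfl⟩
      change P.ι (Y.homOfLE h q) ∈ C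
      rw [hι]
      have h1 : Q.ι q ∈ Set.range Q.ι := ⟨q, rfl⟩
      rw [Scheme.Opens.range_ι, hQ] at h1
      exact h1.1
    · intro hp
      have hp' : P.ι p ∈ C := hp
      have hpP : P.ι p ∈ (P : Set Y) := by
        have h1 : P.ι p ∈ Set.range P.ι := ⟨p, rfl⟩
        rw [Scheme.Opens.range_ι] at h1
        exact h1
      have hpQ : P.ι p ∈ (Q : Set Y) := by rw [hQ]; exact ⟨hp', hpP⟩
      rw [← Scheme.Opens.range_ι] at hpQ
      obtain ⟨q, hq⟩ := hpQ
      refine ⟨q, ?_⟩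
      apply P.ι.isOpenEmbedding.injective
      rw [hι, hq]
  rw [this]
  exact hC.preimage P.ι.continuous

theorem isFinite_resLE_of_isClosed {Y X : Scheme.{u}} (f : Y ⟶ X) {O : X.Opens} {P Q : Y.Opens}
    (e : P ≤ f ⁻¹ᵁ O) (h : Q ≤ P) (C : Set Y) (hC : IsClosed C) (hQ : (Q : Set Y) = C ∩ P)
    (hfin : IsFinite (f.resLE O P e)) : IsFinite (f.resLE O Q (h.trans e)) := by
  haveI := isClosedImmersion_homOfLE h C hC hQ
  rw [← Scheme.Hom.map_resLE f e h]
  infer_instance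

/-- Local generic finiteness, with a given finite affine cover of the preimage. -/
theorem exists_isFinite_morphismRestrict_le_aux {Y X : Scheme.{u}} (f : Y ⟶ X)
    [LocallyQuasiFinite f] [LocallyOfFiniteType f] [QuasiCompact f] {O : X.Opens}
    (hO : IsAffineOpen O) (hne : (O : Set X).Nonempty) {ι : Type u} [Finite ι]
    (V : ι → Y.Opens) (hV : ∀ i, IsAffineOpen (V i)) (hVle : ∀ i, V i ≤ f ⁻¹ᵁ O)
    (hVcov : ∀ y : Y, f y ∈ O → ∃ i, y ∈ V i) :
    ∃ O' : X.Opens, O' ≤ O ∧ (O' : Set X).Nonempty ∧ IsFinite (f ∣_ O') := by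
  classical
  obtain ⟨η, hηO, hη⟩ := exists_generic_mem hO hne
  obtain ⟨n, ⟨eqv⟩⟩ := Finite.exists_equiv_fin ι
  letI : LinearOrder ι := LinearOrder.lift' eqv eqv.injective
  -- step A
  have hfib : ∀ i, ((V i : Set Y) ∩ f.base ⁻¹' {η}).Finite := fun i =>
    (f.finite_preimage_singleton η).subset Set.inter_subset_right
  have h0 := fun i => exists_isFinite_resLE_basicOpen f hO (hV i) (hVle i) η hηO hη (hfib i)
  choose r₀ hr₀η hr₀fin using h0
  haveI := Fintype.ofFinite ι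
  set R₀ : Γ(X, O) := ∏ i, r₀ i with hR₀
  set 𝔭 := (hO.primeIdealOf ⟨η, hηO⟩).asIdeal with h𝔭
  haveI : 𝔭.IsPrime := (hO.primeIdealOf ⟨η, hηO⟩).isPrime
  have hmem : ∀ g : Γ(X, O), η ∈ X.basicOpen g ↔ g ∉ 𝔭 :=
    fun g => mem_basicOpen_iff_not_mem_primeIdealOf hO η hηO g
  have hηR₀ : η ∈ X.basicOpen R₀ := by
    rw [hmem, hR₀]
    intro h
    obtain ⟨i, -, hi⟩ := (Ideal.IsPrime.prod_mem_iff (p := 𝔭)).mp h
    exact (hmem _).mp (hr₀η i) hi
  have hd0 : ∀ i, r₀ i ∣ R₀ := fun i => Finset.dvd_prod_of_mem _ (Finset.mem_univ i)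
  have key : ∀ (i : ι) (r : Γ(X, O)) (_ : R₀ ∣ r)
      (hle' : Y.basicOpen (f.appLE O (V i) (hVle i) r) ≤ f ⁻¹ᵁ (X.basicOpen r)),
      IsFinite (f.resLE (X.basicOpen r) (Y.basicOpen (f.appLE O (V i) (hVle i) r)) hle') := by
    intro i r hr hle'
    obtain ⟨r', hr'⟩ := (hd0 i).trans hr
    subst hr'
    exact hr₀fin i r' hle'
  let PP : ι → Γ(X, O) → Y.Opens := fun i r => Y.basicOpen (f.appLE O (V i) (hVle i) r)
  have hPP : ∀ i r, PP i r = V i ⊓ f ⁻¹ᵁ (X.basicOpen r) :=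
    fun i r => basicOpen_appLE_eq f O (V i) (hVle i) r
  have hPPle : ∀ i r, PP i r ≤ f ⁻¹ᵁ (X.basicOpen r) := fun i r => by rw [hPP]; exact inf_le_right
  have hPPmem : ∀ i r y, y ∈ PP i r ↔ y ∈ V i ∧ f y ∈ X.basicOpen r := by
    intro i r y; rw [hPP]; rfl
  -- step B: boundaries
  let P : ι → Y.Opens := fun i => PP i R₀
  have hPfin : ∀ i, IsFinite (f.resLE (X.basicOpen R₀) (P i) (hPPle i R₀)) :=
    fun i => key i R₀ dvd_rfl _
  let B : ι × ι → Set Y := fun ij => frontier ((P ij.1 : Set Y) ∩ P ij.2) ∩ P ij.1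
  have hBnd : ∀ ij, IsNowhereDense (f '' B ij) := by
    intro ij
    apply isNowhereDense_image_of_finite_appLE f (hO.basicOpen R₀) ((hV ij.1).basicOpen _)
      (hPPle ij.1 R₀)
      ((isFinite_resLE_iff f (hO.basicOpen R₀) ((hV ij.1).basicOpen _) _).mp (hPfin ij.1))
      (B ij) (frontier ((P ij.1 : Set Y) ∩ P ij.2)) isClosed_frontier rfl
    exact (isNowhereDense_frontier_of_isOpen ((P ij.1).isOpen.inter (P ij.2).isOpen)).mono
      Set.inter_subset_left
  let N : Set X := ⋃ ij, f '' B ij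
  have hN : IsNowhereDense N := isNowhereDense_iUnion_of_finite _ hBnd
  have hex : ∃ x ∈ X.basicOpen R₀, x ∉ closure N := by
    by_contra hcon
    push Not at hcon
    have h1 : (X.basicOpen R₀ : Set X) ⊆ interior (closure N) :=
      interior_maximal hcon (X.basicOpen R₀).isOpen
    have h2 : η ∈ interior (closure N) := h1 hηR₀
    rw [hN] at h2
    exact h2
  obtain ⟨x, hxR₀, hxN⟩ := hex
  let O'' : X.Opens := X.basicOpen R₀ ⊓ ⟨(closure N)ᶜ, isClosed_closure.isOpen_compl⟩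
  have hxO'' : x ∈ O'' := ⟨hxR₀, hxN⟩
  have hxO : x ∈ O := (X.basicOpen_le R₀) hxR₀
  obtain ⟨s, hsle, hxs⟩ := hO.exists_basicOpen_le (V := O'') ⟨x, hxO''⟩ hxO
  set r := R₀ * s with hr
  set O₃ := X.basicOpen r with hO₃
  have hO₃le : O₃ ≤ O'' := by rw [hO₃, hr, Scheme.basicOpen_mul]; exact inf_le_right.trans hsle
  have hxO₃ : x ∈ O₃ := by rw [hO₃, hr, Scheme.basicOpen_mul]; exact ⟨hxR₀, hxs⟩
  have hO₃N : ∀ y : Y, f y ∈ O₃ → f y ∉ N := fun y hy hyN => (hO₃le hy).2 (subset_closure hyN)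
  let P' : ι → Y.Opens := fun i => PP i r
  have hP'fin : ∀ i, IsFinite (f.resLE O₃ (P' i) (hPPle i r)) :=
    fun i => key i r (Dvd.intro _ rfl) _
  have hP'mem : ∀ i y, y ∈ P' i ↔ y ∈ V i ∧ f y ∈ O₃ := fun i y => hPPmem i r y
  have hP'P : ∀ i, P' i ≤ P i := by
    intro i y hy
    rw [hP'mem] at hy
    refine (hPPmem i R₀ y).mpr ⟨hy.1, ?_⟩
    exact basicOpen_le_of_dvd (Dvd.intro _ rfl) hy.2
  -- the closedness claim
  have claim : ∀ i j y, y ∈ P' i → y ∈ closure ((P' i : Set Y) ∩ P' j) → y ∈ V j := by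
    intro i j y hyi hycl
    by_contra hyj
    have h1 : y ∈ closure ((P i : Set Y) ∩ P j) :=
      closure_mono (Set.inter_subset_inter (hP'P i) (hP'P j)) hycl
    have h2 : y ∉ (P i : Set Y) ∩ P j := fun h => hyj ((hPPmem j R₀ y).mp h.2).1
    have h3 : y ∈ B (i, j) := by
      refine ⟨?_, hP'P i hyi⟩
      rw [((P i).isOpen.inter (P j).isOpen).frontier_eq]
      exact ⟨h1, h2⟩
    exact hO₃N y ((hP'mem i y).mp hyi).2 (Set.mem_iUnion.mpr ⟨(i, j), y, h3, rfl⟩)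
  -- the pieces
  let Qs : ι → Set Y := fun k => (P' k : Set Y) ∩ (⋃ j, ⋃ (_ : j < k), (V j : Set Y))ᶜ
  have hQs : ∀ k, Qs k =
      (P' k : Set Y) ∩ (⋃ j, ⋃ (_ : j < k), closure ((P' k : Set Y) ∩ P' j))ᶜ := by
    intro k
    ext y
    simp only [Qs, Set.mem_inter_iff, Set.mem_compl_iff, Set.mem_iUnion, not_exists]
    constructor
    · rintro ⟨hyk, hy⟩
      exact ⟨hyk, fun j hj hcl => hy j hj (claim k j y hyk hcl)⟩
    · rintro ⟨hyk, hy⟩
      refine ⟨hyk, fun j hj hyj => hy j hj (subset_closure ⟨hyk, ?_⟩)⟩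
      exact (hP'mem j y).mpr ⟨hyj, ((hP'mem k y).mp hyk).2⟩
  have hQopen : ∀ k, IsOpen (Qs k) := by
    intro k
    rw [hQs]
    exact (P' k).isOpen.inter (isClosed_iUnion_of_finite fun j =>
      isClosed_iUnion_of_finite fun _ => isClosed_closure).isOpen_compl
  let Q : ι → Y.Opens := fun k => ⟨Qs k, hQopen k⟩
  have hQP' : ∀ k, Q k ≤ P' k := fun k y hy => hy.1
  have hCcl : ∀ k, IsClosed ((⋃ j, ⋃ (_ : j < k), (V j : Set Y))ᶜ) := fun k =>
    (isOpen_iUnion fun j => isOpen_iUnion fun _ => (V j).isOpen).isClosed_compl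
  have hQfin : ∀ k, IsFinite (f.resLE O₃ (Q k) ((hQP' k).trans (hPPle k r))) := fun k =>
    isFinite_resLE_of_isClosed f (hPPle k r) (hQP' k) _ (hCcl k) (Set.inter_comm _ _) (hP'fin k)
  have hO₃aff : IsAffineOpen O₃ := hO.basicOpen r
  have hQaff : ∀ k, IsAffineOpen (Q k) := by
    intro k
    haveI := hQfin k
    haveI : IsAffine O₃.toScheme := hO₃aff
    exact isAffine_of_isAffineHom (f.resLE O₃ (Q k) ((hQP' k).trans (hPPle k r)))
  refine ⟨O₃, X.basicOpen_le r, ⟨x, hxO₃⟩, ?_⟩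
  apply isFinite_morphismRestrict_of_disjoint_cover f hO₃aff Q hQaff
    (fun k => (hQP' k).trans (hPPle k r))
  · -- cover
    intro y hy
    have hyO₃ : f y ∈ O₃ := hy
    have hyO : f y ∈ O := X.basicOpen_le r hyO₃
    obtain ⟨i₀, hi₀⟩ := hVcov y hyO
    obtain ⟨k, hk, hkmin⟩ :=
      WellFounded.has_min (wellFounded_lt (α := ι)) {k | y ∈ V k} ⟨i₀, hi₀⟩
    rw [Opens.mem_iSup]
    refine ⟨k, (hP'mem k y).mpr ⟨hk, hyO₃⟩, ?_⟩
    simp only [Set.mem_compl_iff, Set.mem_iUnion, not_exists]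
    exact fun j hj hyj => hkmin j hyj hj
  · -- disjoint
    intro i j hij
    change Disjoint (Q i) (Q j)
    rw [disjoint_iff, eq_bot_iff]
    rintro y ⟨hyi, hyj⟩
    rcases lt_or_gt_of_ne hij with h | h
    · exact (hyj.2 (Set.mem_iUnion.mpr
        ⟨i, Set.mem_iUnion.mpr ⟨h, ((hP'mem i y).mp hyi.1).1⟩⟩)).elim
    · exact (hyi.2 (Set.mem_iUnion.mpr
        ⟨j, Set.mem_iUnion.mpr ⟨h, ((hP'mem j y).mp hyj.1).1⟩⟩)).elim
  · exact hQfin

/-- **Local generic finiteness without separatedness.** -/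
theorem exists_isFinite_morphismRestrict_le {Y X : Scheme.{u}} (f : Y ⟶ X) [LocallyQuasiFinite f]
    [LocallyOfFiniteType f] [QuasiCompact f] {O : X.Opens} (hO : IsAffineOpen O)
    (hne : (O : Set X).Nonempty) :
    ∃ O' : X.Opens, O' ≤ O ∧ (O' : Set X).Nonempty ∧ IsFinite (f ∣_ O') := by
  have hcpt : IsCompact ((f ⁻¹ᵁ O : Y.Opens) : Set Y) := f.isCompact_preimage hO.isCompact
  obtain ⟨S, hSfin, hS⟩ := (isCompact_iff_finite_and_eq_biUnion_affineOpens).mp hcpt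
  haveI : Finite ↥S := hSfin.to_subtype
  apply exists_isFinite_morphismRestrict_le_aux f hO hne (fun i : ↥S => (i.1 : Y.Opens))
    (fun i => i.1.2)
  · intro i
    rw [hS]
    exact le_iSup₂ (f := fun (j : Y.affineOpens) (_ : j ∈ S) => (j : Y.Opens)) i.1 i.2
  · intro y hy
    have : y ∈ f ⁻¹ᵁ O := hy
    rw [hS] at this
    simp only [Opens.mem_iSup] at this
    obtain ⟨j, hj, hyj⟩ := this
    exact ⟨⟨j, hj⟩, hyj⟩

/-- **A quasi-finite morphism is finite over a dense open of the target.** -/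
theorem exists_dense_isFinite_morphismRestrict {Y X : Scheme.{u}} (f : Y ⟶ X)
    [LocallyQuasiFinite f] [LocallyOfFiniteType f] [QuasiCompact f] :
    ∃ U : X.Opens, Dense (U : Set X) ∧ IsFinite (f ∣_ U) := by
  let J := {O' : X.Opens // IsFinite (f ∣_ O')}
  let W : J → X.Opens := fun j => j.1
  have hfin : IsFinite (f ∣_ ⨆ j, W j) := isFinite_morphismRestrict_iSup f W (fun j => j.2)
  refine ⟨⨆ j, W j, ?_, hfin⟩
  rw [dense_iff_inter_open]
  intro G hG hGne
  obtain ⟨x, hx⟩ := hGne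
  obtain ⟨_, ⟨O, hO, rfl⟩, hxO, hOG⟩ := X.isBasis_affineOpens.exists_subset_of_mem_open hx hG
  obtain ⟨O', hO'le, ⟨x', hx'⟩, hO'fin⟩ := exists_isFinite_morphismRestrict_le f hO ⟨x, hxO⟩
  refine ⟨x', hOG (hO'le hx'), ?_⟩
  exact (le_iSup W ⟨O', hO'fin⟩) hx'

end Groth.Agent.Lib.Helper4.Nwd
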