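import Mathlib
import Groth.Agent.Lib.Helper22StratA
import Groth.Agent.S0409

set_option autoImplicit false
set_option linter.style.haveILetI false
set_option linter.unusedSectionVars false
set_option linter.unusedVariables false

open CategoryTheory CategoryTheory.Limits AlgebraicGeometry Topology
universe u

namespace Groth.Agent.Lib.Helper22StratB

open Groth.Agent.Lib.Helper22StratA

/-- a finite stratification of the subset `Z` of `X` by immersions with constructible images such
that `j` becomes finite over each stratum. -/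
structure Strat {U X : Scheme.{u}} (j : U ⟶ X) (Z : Set ↥X) where
  ι : Type
  fin : Finite ι
  T : ι → Scheme.{u}
  g : ∀ i, T i ⟶ X
  imm : ∀ i, IsImmersion (g i)
  cons : ∀ i, IsConstructible (Set.range (g i).base)
  disj : Pairwise fun i i' => Disjoint (Set.range (g i).base) (Set.range (g i').base)
  cover : (⋃ i, Set.range (g i).base) = Z
  finite : ∀ i, FinOver j (g i)

/-- In a noetherian space every locally closed set is constructible. -/
theorem isConstructible_of_isLocallyClosed {α : Type*} [TopologicalSpace α]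
    [TopologicalSpace.NoetherianSpace α] (s : Set α) (hs : IsLocallyClosed s) :
    IsConstructible s := by
  obtain ⟨U, Z, hU, hZ, rfl⟩ := hs
  have h1 : IsConstructible U := (TopologicalSpace.NoetherianSpace.isCompact U).isConstructible hU
  have h2 : IsConstructible Z := by
    rw [← isConstructible_compl]
    exact (TopologicalSpace.NoetherianSpace.isCompact Zᶜ).isConstructible hZ.isOpen_compl
  exact h1.inter h2

theorem strat_noetherian_aux {U X : Scheme.{u}} [IsNoetherian X] (j : U ⟶ X)
    [LocallyQuasiFinite j] [LocallyOfFiniteType j] [QuasiCompact j]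
    (Z : TopologicalSpace.Closeds ↥X) : Nonempty (Strat j (Z : Set ↥X)) := by
  induction Z using WellFoundedLT.induction with
  | ind Z ih =>
  by_cases hZ : (Z : Set ↥X) = ∅
  · refine ⟨⟨PEmpty, inferInstance, PEmpty.elim, fun i => i.elim, fun i => i.elim,
      fun i => i.elim, fun i => i.elim, ?_, fun i => i.elim⟩⟩
    rw [hZ]; simp
  · let I := Scheme.IdealSheafData.vanishingIdeal Z
    let ιZ : I.subscheme ⟶ X := I.subschemeι
    have hrange : Set.range ιZ.base = (Z : Set ↥X) := by
      rw [Scheme.IdealSheafData.range_subschemeι, Scheme.IdealSheafData.coe_support_vanishingIdeal]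
    let jZ : pullback j ιZ ⟶ I.subscheme := pullback.snd j ιZ
    obtain ⟨O, hOd, hOf⟩ := Groth.Agent.S0409.result jZ
    let Z₁ : TopologicalSpace.Closeds ↥X :=
      ⟨ιZ.base '' ((O : Set ↥I.subscheme)ᶜ), ιZ.isClosedEmbedding.isClosedMap _ O.isOpen.isClosed_compl⟩
    have hZ₁le : (Z₁ : Set ↥X) ⊆ Z := by
      rw [← hrange]; exact Set.image_subset_range _ _
    obtain ⟨z, hz⟩ : ∃ z : ↥I.subscheme, z ∈ O := by
      obtain ⟨x, hx⟩ := Set.nonempty_iff_ne_empty.mpr hZ
      rw [← hrange] at hx
      obtain ⟨z₀, -⟩ := hx
      haveI : Nonempty ↥I.subscheme := ⟨z₀⟩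
      exact hOd.nonempty
    have hlt : Z₁ < Z := by
      refine lt_of_le_of_ne hZ₁le ?_
      intro heq
      have h1 : ιZ.base z ∈ (Z₁ : Set ↥X) := by
        rw [heq, ← hrange]; exact ⟨z, rfl⟩
      obtain ⟨z', hz', hzz⟩ := h1
      rw [ιZ.isClosedEmbedding.injective hzz] at hz'
      exact hz' hz
    obtain ⟨σ⟩ := ih Z₁ hlt
    have hσr : ∀ i, Set.range (σ.g i).base ⊆ ιZ.base '' ((O : Set ↥I.subscheme)ᶜ) := by
      intro i
      have := σ.cover
      intro x hx
      have h2 : x ∈ ⋃ i, Set.range (σ.g i).base := Set.mem_iUnion.mpr ⟨i, hx⟩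
      rw [this] at h2
      exact h2
    have hrO : Set.range (O.ι ≫ ιZ).base = ιZ.base '' (O : Set ↥I.subscheme) := by
      rw [Scheme.Hom.comp_base, TopCat.coe_comp, Set.range_comp, Scheme.Opens.range_ι]
    have hdisjO : ∀ i, Disjoint (Set.range (O.ι ≫ ιZ).base) (Set.range (σ.g i).base) := by
      intro i
      rw [hrO]
      refine Set.disjoint_left.mpr ?_
      rintro _ ⟨a, ha, rfl⟩ hb
      obtain ⟨b, hb, hab⟩ := hσr i hb
      rw [ιZ.isClosedEmbedding.injective hab] at hb
      exact hb ha
    have hfinO : FinOver j (O.ι ≫ ιZ) := by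
      have h1 : FinOver jZ O.ι := FinOver.of_isPullback (isPullback_morphismRestrict jZ O).flip hOf
      exact FinOver.of_restrict (IsPullback.of_hasPullback j ιZ) h1
    refine ⟨⟨Option σ.ι, ?_, fun o => o.elim (O : Scheme.{u}) σ.T,
      fun o => match o with
        | none => O.ι ≫ ιZ
        | some i => σ.g i, ?_, ?_, ?_, ?_, ?_⟩⟩
    · have := σ.fin; infer_instance
    · rintro (_ | i)
      · show IsImmersion (O.ι ≫ ιZ); infer_instance
      · exact σ.imm i
    · rintro (_ | i)
      · exact isConstructible_of_isLocallyClosed _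
          (IsImmersion.isLocallyClosed_range (f := O.ι ≫ ιZ))
      · exact σ.cons i
    · rintro (_ | i) (_ | i') hne
      · exact absurd rfl hne
      · exact hdisjO i'
      · exact (hdisjO i).symm
      · exact σ.disj (fun h => hne (congrArg some h))
    · ext x
      simp only [Set.mem_iUnion]
      constructor
      · rintro ⟨(_ | i), hx⟩
        · have : x ∈ Set.range (O.ι ≫ ιZ).base := hx
          rw [hrO] at this
          rw [← hrange]
          exact Set.image_subset_range _ _ this
        · exact hZ₁le (hσr i hx)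
      · intro hx
        rw [← hrange] at hx
        obtain ⟨a, rfl⟩ := hx
        by_cases ha : a ∈ O
        · refine ⟨none, ?_⟩
          show ιZ.base a ∈ Set.range (O.ι ≫ ιZ).base
          rw [hrO]; exact ⟨a, ha, rfl⟩
        · have h1 : ιZ.base a ∈ (Z₁ : Set ↥X) := ⟨a, ha, rfl⟩
          rw [← σ.cover] at h1
          obtain ⟨i, hi⟩ := Set.mem_iUnion.mp h1
          exact ⟨some i, hi⟩
    · rintro (_ | i)
      · exact hfinO
      · exact σ.finite i

theorem strat_noetherian {U X : Scheme.{u}} [IsNoetherian X] (j : U ⟶ X)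
    [LocallyQuasiFinite j] [LocallyOfFiniteType j] [QuasiCompact j] :
    Nonempty (Strat j (Set.univ : Set ↥X)) := by
  have := strat_noetherian_aux j ⊤
  simpa using this

end Groth.Agent.Lib.Helper22StratB
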