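import Mathlib
import Groth.Agent.Lib.Helper22StratB
import Groth.Agent.S5031

set_option autoImplicit false
set_option linter.style.haveILetI false
set_option linter.unusedSectionVars false
set_option linter.unusedVariables false

open CategoryTheory CategoryTheory.Limits AlgebraicGeometry Topology
universe u

namespace Groth.Agent.Lib.Helper22StratC

open Groth.Agent.Lib.Helper22StratA Groth.Agent.Lib.Helper22StratB

theorem lqf_of_etale {X S : Scheme.{u}} (f : X ⟶ S) [Etale f] : LocallyQuasiFinite f := by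
  constructor
  intro U hU V hV e
  have h1 := f.etale_appLE hU hV e
  algebraize [(f.appLE U V e).hom]
  have : Algebra.Etale Γ(S, U) Γ(X, V) := h1
  exact RingHom.quasiFinite_algebraMap.mpr inferInstance

/-- stratifications pull back. -/
theorem strat_baseChange {U X U' X' : Scheme.{u}} {j : U ⟶ X} {j' : U' ⟶ X'} {h' : U' ⟶ U}
    {h : X' ⟶ X} (hsq : IsPullback h' j' j h) (σ : Strat j (Set.univ : Set ↥X)) :
    Nonempty (Strat j' (Set.univ : Set ↥X')) := by
  have hr : ∀ i, Set.range (pullback.snd (σ.g i) h).base = h.base ⁻¹' Set.range (σ.g i).base :=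
    fun i => Scheme.Pullback.range_snd _ _
  refine ⟨⟨σ.ι, σ.fin, fun i => pullback (σ.g i) h, fun i => pullback.snd (σ.g i) h, ?_, ?_, ?_, ?_,
    ?_⟩⟩
  · intro i
    have := σ.imm i
    infer_instance
  · intro i
    rw [hr]
    exact h.isConstructible_preimage (σ.cons i)
  · intro i i' hne
    rw [hr, hr]
    exact (σ.disj hne).preimage _
  · simp_rw [hr]
    rw [← Set.preimage_iUnion, σ.cover, Set.preimage_univ]
  · intro i
    exact FinOver.baseChange (σ.finite i) hsq

/-- the affine case, by noetherian approximation. -/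
theorem strat_affine {U X : Scheme.{u}} [IsAffine X] (j : U ⟶ X) [Etale j] [QuasiCompact j]
    [QuasiSeparated j] : Nonempty (Strat j (Set.univ : Set ↥X)) := by
  let A : Type u := Γ(X, ⊤)
  let f : U ⟶ Spec (CommRingCat.of A) := j ≫ X.isoSpec.hom
  have hf1 : Etale f := inferInstanceAs (Etale (j ≫ X.isoSpec.hom))
  have hf2 : QuasiCompact f := inferInstanceAs (QuasiCompact (j ≫ X.isoSpec.hom))
  have hf3 : QuasiSeparated f := inferInstanceAs (QuasiSeparated (j ≫ X.isoSpec.hom))
  obtain ⟨A₀, hfg, U₀, f₀, g, hf₀e, hf₀qc, hpb⟩ := Groth.Agent.S5031.result A f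
  have hft : Algebra.FiniteType ℤ A₀ := (Subalgebra.fg_iff_finiteType A₀).mp hfg
  have hN : IsNoetherianRing A₀ := Algebra.FiniteType.isNoetherianRing ℤ A₀
  have hNS : IsNoetherian (Spec (CommRingCat.of ↥A₀)) := inferInstance
  have hlqf : LocallyQuasiFinite f₀ := lqf_of_etale f₀
  obtain ⟨σ₀⟩ := strat_noetherian f₀
  let φ := Spec.map (CommRingCat.ofHom (algebraMap (↥A₀) A))
  have hsq : IsPullback g j f₀ (X.isoSpec.hom ≫ φ) := by
    refine hpb.of_iso (Iso.refl _) (Iso.refl _) X.isoSpec.symm (Iso.refl _) ?_ ?_ ?_ ?_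
    · simp
    · simp [f]
    · simp
    · simp [φ]
  exact strat_baseChange hsq σ₀

end Groth.Agent.Lib.Helper22StratC
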