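import Mathlib
import Groth.Agent.Lib.Helper22StratC

set_option autoImplicit false
set_option linter.style.haveILetI false
set_option linter.unusedSectionVars false
set_option linter.unusedVariables false

open CategoryTheory CategoryTheory.Limits AlgebraicGeometry Topology
universe u

namespace Groth.Agent.Lib.Helper22StratD

open Groth.Agent.Lib.Helper22StratA Groth.Agent.Lib.Helper22StratB Groth.Agent.Lib.Helper22StratC

def Strat.congr {U X : Scheme.{u}} {j : U ⟶ X} {Z Z' : Set ↥X} (h : Z = Z')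
    (σ : Strat j Z) : Strat j Z' := h ▸ σ

/-- adding one more open piece. -/
theorem strat_union {U X : Scheme.{u}} [QuasiSeparatedSpace ↥X] (j : U ⟶ X) (W : X.Opens)
    (hW : IsCompact (W : Set ↥X)) (σ : Strat j (W : Set ↥X)) (V : X.Opens)
    (hV : IsCompact (V : Set ↥X)) (σV : Strat (j ∣_ V) (Set.univ : Set ↥(V : Scheme.{u}))) :
    Nonempty (Strat j ((W : Set ↥X) ∪ (V : Set ↥X))) := by
  -- the closed pieces
  let C : ∀ i : σV.ι, TopologicalSpace.Closeds ↥(σV.T i) := fun i =>
    ⟨(σV.g i ≫ V.ι).base ⁻¹' ((W : Set ↥X)ᶜ),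
      W.isOpen.isClosed_compl.preimage (σV.g i ≫ V.ι).continuous⟩
  let I : ∀ i : σV.ι, (σV.T i).IdealSheafData := fun i => Scheme.IdealSheafData.vanishingIdeal (C i)
  have hrI : ∀ i, Set.range (I i).subschemeι.base = (C i : Set ↥(σV.T i)) := by
    intro i
    rw [Scheme.IdealSheafData.range_subschemeι, Scheme.IdealSheafData.coe_support_vanishingIdeal]
  let gV : ∀ i : σV.ι, (I i).subscheme ⟶ X := fun i => (I i).subschemeι ≫ σV.g i ≫ V.ι
  have hrg : ∀ i, Set.range (gV i).base = Set.range (σV.g i ≫ V.ι).base ∩ (W : Set ↥X)ᶜ := by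
    intro i
    show Set.range ((I i).subschemeι ≫ (σV.g i ≫ V.ι)).base = _
    rw [Scheme.Hom.comp_base, TopCat.coe_comp, Set.range_comp, hrI]
    show (σV.g i ≫ V.ι).base '' ((σV.g i ≫ V.ι).base ⁻¹' ((W : Set ↥X)ᶜ)) = _
    rw [Set.image_preimage_eq_range_inter]
  have hrV : ∀ i, Set.range (σV.g i ≫ V.ι).base = V.ι.base '' Set.range (σV.g i).base := by
    intro i
    rw [Scheme.Hom.comp_base, TopCat.coe_comp, Set.range_comp]
  have hσW : ∀ i, Set.range (σ.g i).base ⊆ (W : Set ↥X) := by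
    intro i x hx
    have h2 : x ∈ ⋃ i, Set.range (σ.g i).base := Set.mem_iUnion.mpr ⟨i, hx⟩
    rw [σ.cover] at h2
    exact h2
  have hWc : IsConstructible ((W : Set ↥X)ᶜ) := by
    rw [isConstructible_compl]
    exact hW.isConstructible W.isOpen
  have hVr : IsRetrocompact (Set.range V.ι.base) := by
    rw [Scheme.Opens.range_ι]
    exact hV.isRetrocompact V.isOpen
  have hsq : IsPullback (j ⁻¹ᵁ V).ι (j ∣_ V) j V.ι := (isPullback_morphismRestrict j V).flip
  refine ⟨⟨σ.ι ⊕ σV.ι, ?_, fun o => match o with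
      | Sum.inl i => σ.T i
      | Sum.inr i => (I i).subscheme,
    fun o => match o with
      | Sum.inl i => σ.g i
      | Sum.inr i => gV i, ?_, ?_, ?_, ?_, ?_⟩⟩
  · have := σ.fin; have := σV.fin; infer_instance
  · rintro (i | i)
    · exact σ.imm i
    · have := σV.imm i
      show IsImmersion ((I i).subschemeι ≫ σV.g i ≫ V.ι)
      infer_instance
  · rintro (i | i)
    · exact σ.cons i
    · show IsConstructible (Set.range (gV i).base)
      rw [hrg, hrV]
      exact ((σV.cons i).image_of_isOpenEmbedding V.ι.isOpenEmbedding hVr).inter hWc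
  · rintro (i | i) (i' | i') hne
    · exact σ.disj (fun h => hne (congrArg Sum.inl h))
    · show Disjoint (Set.range (σ.g i).base) (Set.range (gV i').base)
      rw [hrg]
      exact Set.disjoint_left.mpr fun x hx hx' => hx'.2 (hσW i hx)
    · show Disjoint (Set.range (gV i).base) (Set.range (σ.g i').base)
      rw [hrg]
      exact Set.disjoint_left.mpr fun x hx hx' => hx.2 (hσW i' hx')
    · show Disjoint (Set.range (gV i).base) (Set.range (gV i').base)
      rw [hrg, hrg, hrV, hrV]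
      have hd := σV.disj (fun h => hne (congrArg Sum.inr h))
      refine Set.disjoint_left.mpr ?_
      rintro x ⟨⟨a, ha, rfl⟩, -⟩ ⟨⟨b, hb, hab⟩, -⟩
      rw [V.ι.isOpenEmbedding.injective hab] at hb
      exact Set.disjoint_left.mp hd ha hb
  · ext x
    simp only [Set.mem_iUnion, Set.mem_union]
    constructor
    · rintro ⟨(i | i), hx⟩
      · exact Or.inl (hσW i hx)
      · have hx' : x ∈ Set.range (gV i).base := hx
        rw [hrg, hrV] at hx'
        obtain ⟨⟨a, -, rfl⟩, -⟩ := hx'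
        exact Or.inr a.2
    · intro hx
      by_cases hxW : x ∈ (W : Set ↥X)
      · rw [← σ.cover] at hxW
        obtain ⟨i, hi⟩ := Set.mem_iUnion.mp hxW
        exact ⟨Sum.inl i, hi⟩
      · have hxV : x ∈ (V : Set ↥X) := hx.resolve_left hxW
        have h1 : (⟨x, hxV⟩ : ↥(V : Scheme.{u})) ∈ ⋃ i, Set.range (σV.g i).base := by
          rw [σV.cover]; trivial
        obtain ⟨i, hi⟩ := Set.mem_iUnion.mp h1
        refine ⟨Sum.inr i, ?_⟩
        show x ∈ Set.range (gV i).base
        rw [hrg, hrV]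
        exact ⟨⟨_, hi, rfl⟩, hxW⟩
  · rintro (i | i)
    · exact σ.finite i
    · exact (FinOver.of_restrict hsq (σV.finite i)).comp (I i).subschemeι

/-- the general case. -/
theorem strat_qcqs {U X : Scheme.{u}} [CompactSpace ↥X] [QuasiSeparatedSpace ↥X] (j : U ⟶ X)
    [Etale j] [QuasiCompact j] [QuasiSeparated j] : Nonempty (Strat j (Set.univ : Set ↥X)) := by
  classical
  obtain ⟨𝒱, h𝒱fin, h𝒱⟩ := isCompact_iff_finite_and_eq_biUnion_affineOpens.mp
    (show IsCompact ((⊤ : X.Opens) : Set ↥X) from isCompact_univ)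
  have key : ∀ s : Finset X.affineOpens, ∃ W : X.Opens, IsCompact (W : Set ↥X) ∧
      (W : Set ↥X) = ⋃ V ∈ s, ((V : X.affineOpens).1 : Set ↥X) ∧ Nonempty (Strat j (W : Set ↥X)) := by
    intro s
    induction s using Finset.induction_on with
    | empty =>
      refine ⟨⊥, by simp, by simp, ⟨⟨PEmpty, inferInstance, PEmpty.elim, fun i => i.elim,
        fun i => i.elim, fun i => i.elim, fun i => i.elim, ?_, fun i => i.elim⟩⟩⟩
      simp
    | insert V s hVs ih =>
      obtain ⟨W, hWc, hWs, ⟨σ⟩⟩ := ih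
      have hVaff : IsAffine (V.1 : Scheme.{u}) := V.2
      obtain ⟨σV⟩ := strat_affine (j ∣_ V.1)
      obtain ⟨σ'⟩ := strat_union j W hWc σ V.1 V.2.isCompact σV
      refine ⟨W ⊔ V.1, ?_, ?_, ⟨Strat.congr (by simp) σ'⟩⟩
      · simpa using hWc.union V.2.isCompact
      · rw [Finset.set_biUnion_insert, TopologicalSpace.Opens.coe_sup, hWs, Set.union_comm]
  obtain ⟨W, -, hWs, ⟨σ⟩⟩ := key h𝒱fin.toFinset
  refine ⟨Strat.congr ?_ σ⟩
  rw [hWs]
  have : ((⊤ : X.Opens) : Set ↥X) = Set.univ := rfl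
  rw [← this, h𝒱]
  ext x
  simp

end Groth.Agent.Lib.Helper22StratD
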