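import Mathlib
import Groth.Prelude.Def_TopMod
import Groth.Prelude.Def_LinTop

set_option autoImplicit false
universe u v w

namespace Groth.Agent.Lib.Helper22.TopModInv
open Topology Filter

section Limit
variable {A : Type u} {M : Type v} [CommRing A] [AddCommGroup M] [Module A M] [UniformSpace M]
  [IsUniformAddGroup M] [CompleteSpace M] [T2Space M]

/-- in a complete Hausdorff module whose zero neighbourhoods have a countable basis of
submodules `V n`, a compatible system of classes mod `V n` has a unique limit -/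
lemma existsUnique_limit (V : ℕ → Submodule A M) (hVanti : Antitone V)
    (hVbasis : (𝓝 (0 : M)).HasBasis (fun _ : ℕ => True) (fun n => (V n : Set M)))
    (z : ∀ n, M ⧸ V n)
    (hz : ∀ n, Submodule.factor (hVanti (Nat.le_succ n)) (z (n + 1)) = z n) :
    ∃! x : M, ∀ n, Submodule.Quotient.mk x = z n := by
  -- lifts
  choose m hm using fun n => Submodule.Quotient.mk_surjective (V n) (z n)
  have hstep : ∀ n, m (n + 1) - m n ∈ V n := by
    intro n
    have h1 := hz n
    rw [← hm (n + 1), ← hm n] at h1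
    have h2 : Submodule.factor (hVanti (Nat.le_succ n)) (Submodule.Quotient.mk (m (n + 1))) =
        Submodule.Quotient.mk (m (n + 1)) := Submodule.factor_mk _ _
    rw [h2] at h1
    exact (Submodule.Quotient.eq _).mp h1
  have hle : ∀ n k, n ≤ k → m k - m n ∈ V n := by
    intro n k hnk
    induction k, hnk using Nat.le_induction with
    | base => simp
    | succ k hk ih =>
      have h1 : m (k + 1) - m k ∈ V n := hVanti hk (hstep k)
      have : m (k + 1) - m n = (m (k + 1) - m k) + (m k - m n) := by abel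
      rw [this]
      exact (V n).add_mem h1 ih
  have hcauchy : CauchySeq m := by
    rw [hVbasis.uniformity_of_nhds_zero.cauchySeq_iff]
    intro n _
    refine ⟨n, fun k hk l hl => ?_⟩
    show m l - m k ∈ V n
    have : m l - m k = (m l - m n) - (m k - m n) := by abel
    rw [this]
    exact (V n).sub_mem (hle n l hl) (hle n k hk)
  obtain ⟨x, hx⟩ := cauchySeq_tendsto_of_complete hcauchy
  have hVopen : ∀ n, IsOpen (V n : Set M) := fun n =>
    (V n).toAddSubgroup.isOpen_of_mem_nhds (g := 0) (hVbasis.mem_of_mem trivial)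
  have hVclosed : ∀ n, IsClosed (V n : Set M) := fun n =>
    (V n).toAddSubgroup.isClosed_of_isOpen (hVopen n)
  have hxn : ∀ n, x - m n ∈ V n := by
    intro n
    have ht : Tendsto (fun k => m k - m n) atTop (𝓝 (x - m n)) := hx.sub_const _
    refine (hVclosed n).mem_of_tendsto ht ?_
    filter_upwards [eventually_ge_atTop n] with k hk
    exact hle n k hk
  refine ⟨x, fun n => ?_, ?_⟩
  · rw [← hm n]
    exact (Submodule.Quotient.eq _).mpr (hxn n)
  · intro y hy
    have hd : ∀ n, y - x ∈ V n := by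
      intro n
      have h1 : (Submodule.Quotient.mk y : M ⧸ V n) = Submodule.Quotient.mk (m n) := by
        rw [hy n, hm n]
      have h2 := (Submodule.Quotient.eq _).mp h1
      have : y - x = (y - m n) - (x - m n) := by abel
      rw [this]
      exact (V n).sub_mem h2 (hxn n)
    by_contra hne
    have hne' : y - x ≠ 0 := sub_ne_zero.mpr hne
    have : ({y - x}ᶜ : Set M) ∈ 𝓝 (0 : M) := isOpen_compl_singleton.mem_nhds (by
      simp only [Set.mem_compl_iff, Set.mem_singleton_iff]
      exact fun h => hne' h.symm)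
    obtain ⟨n, -, hn⟩ := hVbasis.mem_iff.mp this
    exact hn (hd n) rfl


/-- a compatible system of linear maps `N → M ⧸ V n` comes from a linear map `N → M` -/
lemma exists_limit_map {N : Type w} [AddCommGroup N] [Module A N]
    (V : ℕ → Submodule A M) (hVanti : Antitone V)
    (hVbasis : (𝓝 (0 : M)).HasBasis (fun _ : ℕ => True) (fun n => (V n : Set M)))
    (wn : ∀ n, N →ₗ[A] M ⧸ V n)
    (hcompat : ∀ n y, Submodule.factor (hVanti (Nat.le_succ n)) (wn (n + 1) y) = wn n y) :
    ∃ w : N →ₗ[A] M, ∀ n y, (Submodule.Quotient.mk (w y) : M ⧸ V n) = wn n y := by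
  choose w hw using fun y => existsUnique_limit V hVanti hVbasis (fun n => wn n y)
    (fun n => hcompat n y)
  refine ⟨{ toFun := w, map_add' := ?_, map_smul' := ?_ }, fun n y => (hw y).1 n⟩
  · intro y y'
    refine ((hw (y + y')).2 (w y + w y') fun n => ?_).symm
    rw [Submodule.Quotient.mk_add, (hw y).1 n, (hw y').1 n, map_add]
  · intro a y
    refine ((hw (a • y)).2 (a • w y) fun n => ?_).symm
    rw [Submodule.Quotient.mk_smul, (hw y).1 n, map_smul]

/-- uniqueness: an element which is zero mod every `V n` is zero -/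
lemma eq_of_forall_mk_eq (V : ℕ → Submodule A M) (hVanti : Antitone V)
    (hVbasis : (𝓝 (0 : M)).HasBasis (fun _ : ℕ => True) (fun n => (V n : Set M)))
    (x y : M) (h : ∀ n, (Submodule.Quotient.mk x : M ⧸ V n) = Submodule.Quotient.mk y) : x = y := by
  have h0 := existsUnique_limit V hVanti hVbasis (fun n => Submodule.Quotient.mk y)
    (fun n => Submodule.factor_mk _ _)
  exact h0.unique h (fun n => rfl)

end Limit


section Alg
variable {A : Type u} [CommRing A]

/-- lifting property over `A ⧸ J` phrased with `A`-linear maps between `J`-torsion modules -/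
lemma lift_torsion (J : Ideal A) {C : Type w} [AddCommGroup C] [Module A C]
    [Module.Projective (A ⧸ J) (C ⧸ (J • ⊤ : Submodule A C))]
    {P : Type*} {Q : Type*} [AddCommGroup P] [Module A P] [AddCommGroup Q] [Module A Q]
    (hP : Module.IsTorsionBySet A P J) (hQ : Module.IsTorsionBySet A Q J)
    (f : P →ₗ[A] Q) (hf : Function.Surjective f) (g : (C ⧸ (J • ⊤ : Submodule A C)) →ₗ[A] Q) :
    ∃ h : (C ⧸ (J • ⊤ : Submodule A C)) →ₗ[A] P, ∀ y, f (h y) = g y := by
  let _ : Module (A ⧸ J) P := hP.module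
  let _ : Module (A ⧸ J) Q := hQ.module
  have : IsScalarTower A (A ⧸ J) P := hP.isScalarTower
  have : IsScalarTower A (A ⧸ J) Q := hQ.isScalarTower
  have hs : Function.Surjective (algebraMap A (A ⧸ J)) := Ideal.Quotient.mk_surjective
  obtain ⟨h, hh⟩ := Module.projective_lifting_property (f.extendScalarsOfSurjective hs)
    (g.extendScalarsOfSurjective hs) hf
  refine ⟨h.restrictScalars A, fun y => ?_⟩
  have := congrArg (fun F => F y) hh
  exact this


/-- a `J`-torsion module is `J'`-torsion for `J' ≤ J` -/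
lemma torsion_quot_of_le {J' J : Ideal A} (hJ : J' ≤ J) (M : Type v) [AddCommGroup M] [Module A M] :
    Module.IsTorsionBySet A (M ⧸ (J • ⊤ : Submodule A M)) J' := by
  intro x a
  have h := Module.isTorsionBySet_quotient_ideal_smul M J
  exact @h x ⟨a.1, hJ a.2⟩

lemma smul_top_eq_bot_of_torsion {J : Ideal A} {P : Type*} [AddCommGroup P] [Module A P]
    (hP : Module.IsTorsionBySet A P J) : (J • ⊤ : Submodule A P) = ⊥ := by
  rw [eq_bot_iff]
  intro p hp
  refine Submodule.smul_induction_on hp (fun a ha m _ => ?_) (fun x y hx hy => ?_)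
  · rw [Submodule.mem_bot]
    exact @hP m ⟨a, ha⟩
  · exact Submodule.add_mem _ hx hy

/-- nilpotent-ideal step: a left inverse mod `J` lifts to a left inverse mod `J'`
when `J ^ k ≤ J' ≤ J` and `N/J'N` is projective. -/
lemma step_nilp {M : Type v} {N : Type w} [AddCommGroup M] [Module A M] [AddCommGroup N]
    [Module A N] (u : M →ₗ[A] N) {J' J : Ideal A} (hJ : J' ≤ J) (k : ℕ) (hk : J ^ k ≤ J')
    [Module.Projective (A ⧸ J') (N ⧸ (J' • ⊤ : Submodule A N))]
    (w : N →ₗ[A] M ⧸ (J • ⊤ : Submodule A M))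
    (hw : ∀ x, w (u x) = Submodule.Quotient.mk x) :
    ∃ w' : N →ₗ[A] M ⧸ (J' • ⊤ : Submodule A M),
      (∀ x, w' (u x) = Submodule.Quotient.mk x) ∧
      ∀ y, Submodule.factor (Submodule.smul_mono_left hJ) (w' y) = w y := by
  have hP : Module.IsTorsionBySet A (M ⧸ (J' • ⊤ : Submodule A M)) J' :=
    Module.isTorsionBySet_quotient_ideal_smul M J'
  have hQ : Module.IsTorsionBySet A (M ⧸ (J • ⊤ : Submodule A M)) J' := torsion_quot_of_le hJ M
  set f := Submodule.factor (Submodule.smul_mono_left hJ :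
    (J' • ⊤ : Submodule A M) ≤ J • ⊤) with hf
  have hfs : Function.Surjective f := Submodule.factor_surjective _
  -- g
  have hwker : (J' • ⊤ : Submodule A N) ≤ LinearMap.ker w := by
    intro y hy
    rw [LinearMap.mem_ker]
    refine Submodule.smul_induction_on hy (fun a ha n _ => ?_) (fun x y hx hy => ?_)
    · rw [map_smul]
      exact @hQ (w n) ⟨a, ha⟩
    · rw [map_add, hx, hy, add_zero]
  let g : (N ⧸ (J' • ⊤ : Submodule A N)) →ₗ[A] M ⧸ (J • ⊤ : Submodule A M) :=
    Submodule.liftQ _ w hwker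
  obtain ⟨h, hh⟩ := lift_torsion J' (C := N) hP hQ f hfs g
  let ubar : (M ⧸ (J' • ⊤ : Submodule A M)) →ₗ[A] N ⧸ (J' • ⊤ : Submodule A N) :=
    Submodule.mapQ _ _ u (Submodule.smul_top_le_comap_smul_top J' u)
  let φ : Module.End A (M ⧸ (J' • ⊤ : Submodule A M)) := h ∘ₗ ubar
  have hfφ : ∀ p, f (φ p) = f p := by
    intro p
    obtain ⟨x, rfl⟩ := Submodule.Quotient.mk_surjective _ p
    show f (h (ubar (Submodule.Quotient.mk x))) = _
    rw [hh]
    show g (Submodule.Quotient.mk (u x)) = _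
    show w (u x) = _
    rw [hw]
    rfl
  -- ε
  set ε : Module.End A (M ⧸ (J' • ⊤ : Submodule A M)) := 1 - φ with hε
  have hkerf : ∀ p, f p = 0 → p ∈ (J • ⊤ : Submodule A (M ⧸ (J' • ⊤ : Submodule A M))) := by
    intro p hp
    obtain ⟨x, rfl⟩ := Submodule.Quotient.mk_surjective _ p
    have hx : x ∈ (J • ⊤ : Submodule A M) := by
      have : (Submodule.Quotient.mk x : M ⧸ (J • ⊤ : Submodule A M)) = 0 := hp
      exact (Submodule.Quotient.mk_eq_zero _).mp this
    have h1 : Submodule.mkQ (J' • ⊤ : Submodule A M) x ∈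
        (J • ⊤ : Submodule A M).map (Submodule.mkQ (J' • ⊤ : Submodule A M)) :=
      Submodule.mem_map_of_mem hx
    rw [Submodule.map_smul''] at h1
    exact Submodule.smul_mono le_rfl le_top h1
  have hεmem : ∀ p, ε p ∈ (J • ⊤ : Submodule A (M ⧸ (J' • ⊤ : Submodule A M))) := by
    intro p
    apply hkerf
    rw [hε, LinearMap.sub_apply, map_sub, Module.End.one_apply, hfφ, sub_self]
  have hεpow : ∀ i p, (ε ^ i) p ∈ (J ^ i • ⊤ : Submodule A (M ⧸ (J' • ⊤ : Submodule A M))) := by
    intro i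
    induction i with
    | zero => intro p; simp
    | succ i ih =>
      intro p
      rw [show ε ^ (i + 1) = ε * ε ^ i from pow_succ' ε i, Module.End.mul_apply]
      have h1 := ih p
      refine Submodule.smul_induction_on h1 (fun a ha m _ => ?_) (fun x y hx hy => ?_)
      · rw [map_smul, pow_succ, mul_smul]
        exact Submodule.smul_mem_smul ha (hεmem m)
      · rw [map_add]
        exact Submodule.add_mem _ hx hy
  have hεnil : IsNilpotent ε := by
    refine ⟨k, ?_⟩
    apply LinearMap.ext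
    intro p
    have h1 : (ε ^ k) p ∈ (J' • ⊤ : Submodule A (M ⧸ (J' • ⊤ : Submodule A M))) :=
      Submodule.smul_mono_left hk (hεpow k p)
    rw [smul_top_eq_bot_of_torsion hP, Submodule.mem_bot] at h1
    rw [h1]
    rfl
  have hφunit : IsUnit φ := by
    have := hεnil.isUnit_one_sub
    rwa [hε, sub_sub_cancel] at this
  obtain ⟨U, hU⟩ := hφunit
  set ψ : Module.End A (M ⧸ (J' • ⊤ : Submodule A M)) := (U⁻¹ : (Module.End A _)ˣ).1 with hψ
  have hψφ : ∀ p, ψ (φ p) = p := fun p => by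
    have h2 : ψ * φ = 1 := by rw [hψ, ← hU]; exact U.inv_mul
    have := congrArg (fun F => F p) h2
    exact this
  have hφψ : ∀ p, φ (ψ p) = p := fun p => by
    have h1 : φ * ψ = 1 := by rw [hψ, ← hU]; exact U.mul_inv
    have := congrArg (fun F => F p) h1
    exact this
  refine ⟨ψ ∘ₗ h ∘ₗ Submodule.mkQ _, fun x => ?_, fun y => ?_⟩
  · show ψ (h (Submodule.Quotient.mk (u x))) = _
    exact hψφ (Submodule.Quotient.mk x)
  · show f (ψ (h (Submodule.Quotient.mk y))) = w y
    rw [← hfφ, hφψ, hh]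
    rfl


/-- cokernel step: a left inverse mod `J` lifts to a left inverse mod `J' ≤ J` when
some left inverse mod `J'` exists and `coker u / J' coker u` is projective. -/
lemma step_coker {M : Type v} {N : Type w} [AddCommGroup M] [Module A M] [AddCommGroup N]
    [Module A N] (u : M →ₗ[A] N) {J' J : Ideal A} (hJ : J' ≤ J)
    [Module.Projective (A ⧸ J') ((N ⧸ LinearMap.range u) ⧸
      (J' • ⊤ : Submodule A (N ⧸ LinearMap.range u)))]
    (w : N →ₗ[A] M ⧸ (J • ⊤ : Submodule A M))
    (hw : ∀ x, w (u x) = Submodule.Quotient.mk x)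
    (w'' : N →ₗ[A] M ⧸ (J' • ⊤ : Submodule A M))
    (hw'' : ∀ x, w'' (u x) = Submodule.Quotient.mk x) :
    ∃ w' : N →ₗ[A] M ⧸ (J' • ⊤ : Submodule A M),
      (∀ x, w' (u x) = Submodule.Quotient.mk x) ∧
      ∀ y, Submodule.factor (Submodule.smul_mono_left hJ) (w' y) = w y := by
  have hP : Module.IsTorsionBySet A (M ⧸ (J' • ⊤ : Submodule A M)) J' :=
    Module.isTorsionBySet_quotient_ideal_smul M J'
  have hQ : Module.IsTorsionBySet A (M ⧸ (J • ⊤ : Submodule A M)) J' := torsion_quot_of_le hJ M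
  set f := Submodule.factor (Submodule.smul_mono_left hJ :
    (J' • ⊤ : Submodule A M) ≤ J • ⊤) with hf
  have hfs : Function.Surjective f := Submodule.factor_surjective _
  let δ₀ : N →ₗ[A] M ⧸ (J • ⊤ : Submodule A M) := w - f ∘ₗ w''
  have hδ₀ : LinearMap.range u ≤ LinearMap.ker δ₀ := by
    rintro _ ⟨x, rfl⟩
    rw [LinearMap.mem_ker]
    show w (u x) - f (w'' (u x)) = 0
    rw [hw, hw'', sub_eq_zero]
    rfl
  let δ₁ : (N ⧸ LinearMap.range u) →ₗ[A] M ⧸ (J • ⊤ : Submodule A M) :=
    Submodule.liftQ _ δ₀ hδ₀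
  have hδ₁ : (J' • ⊤ : Submodule A (N ⧸ LinearMap.range u)) ≤ LinearMap.ker δ₁ := by
    intro y hy
    rw [LinearMap.mem_ker]
    refine Submodule.smul_induction_on hy (fun a ha n _ => ?_) (fun x y hx hy => ?_)
    · rw [map_smul]
      exact @hQ (δ₁ n) ⟨a, ha⟩
    · rw [map_add, hx, hy, add_zero]
  let δbar : ((N ⧸ LinearMap.range u) ⧸ (J' • ⊤ : Submodule A (N ⧸ LinearMap.range u))) →ₗ[A]
      M ⧸ (J • ⊤ : Submodule A M) := Submodule.liftQ _ δ₁ hδ₁
  obtain ⟨δ', hδ'⟩ := lift_torsion J' (C := N ⧸ LinearMap.range u) hP hQ f hfs δbar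
  refine ⟨w'' + δ' ∘ₗ Submodule.mkQ _ ∘ₗ Submodule.mkQ _, fun x => ?_, fun y => ?_⟩
  · show w'' (u x) + δ' (Submodule.Quotient.mk (Submodule.Quotient.mk (u x))) = _
    have h0 : (Submodule.Quotient.mk (u x) : N ⧸ LinearMap.range u) = 0 :=
      (Submodule.Quotient.mk_eq_zero _).mpr ⟨x, rfl⟩
    rw [h0, Submodule.Quotient.mk_zero, map_zero, add_zero, hw'']
  · show f (w'' y + δ' (Submodule.Quotient.mk (Submodule.Quotient.mk y))) = w y
    rw [map_add, hδ']
    show f (w'' y) + (w y - f (w'' y)) = w y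
    abel

end Alg


section Top
variable {A : Type u} {M : Type v} {N : Type w} [CommRing A] [TopologicalSpace A]
  [AddCommGroup M] [Module A M] [AddCommGroup N] [Module A N]

lemma hasBasis_nat [TopologicalSpace M] (𝔍 : ℕ → Ideal A) (h𝔍open : ∀ n, IsOpen (𝔍 n : Set A))
    (h𝔍basis : (𝓝 (0 : A)).HasBasis (fun _ : ℕ => True) (fun n => (𝔍 n : Set A)))
    (hM : TopMod.IsDeduced A M) :
    (𝓝 (0 : M)).HasBasis (fun _ : ℕ => True)
      (fun n => ((𝔍 n • ⊤ : Submodule A M) : Set M)) := by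
  refine hM.2.to_hasBasis (fun J hJ => ?_) (fun n _ => ⟨𝔍 n, h𝔍open n, subset_rfl⟩)
  obtain ⟨n, -, hn⟩ := h𝔍basis.mem_iff.mp (hJ.mem_nhds J.zero_mem)
  refine ⟨n, trivial, ?_⟩
  have : (𝔍 n • ⊤ : Submodule A M) ≤ J • ⊤ := Submodule.smul_mono_left hn
  exact this

/-- assemble a compatible system of left inverses into a left inverse -/
lemma exists_leftInverse_of_steps [UniformSpace M] [IsUniformAddGroup M] [CompleteSpace M]
    [T2Space M] (𝔍 : ℕ → Ideal A) (h𝔍open : ∀ n, IsOpen (𝔍 n : Set A)) (h𝔍anti : Antitone 𝔍)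
    (h𝔍basis : (𝓝 (0 : A)).HasBasis (fun _ : ℕ => True) (fun n => (𝔍 n : Set A)))
    (hM : TopMod.IsDeduced A M) (u : M →ₗ[A] N)
    (w0 : N →ₗ[A] M ⧸ (𝔍 0 • ⊤ : Submodule A M))
    (hw0 : ∀ x, w0 (u x) = Submodule.Quotient.mk x)
    (hstep : ∀ n (w : N →ₗ[A] M ⧸ (𝔍 n • ⊤ : Submodule A M)),
      (∀ x, w (u x) = Submodule.Quotient.mk x) →
      ∃ w' : N →ₗ[A] M ⧸ (𝔍 (n + 1) • ⊤ : Submodule A M),
        (∀ x, w' (u x) = Submodule.Quotient.mk x) ∧
        ∀ y, Submodule.factor (Submodule.smul_mono_left (h𝔍anti (Nat.le_succ n))) (w' y) = w y) :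
    ∃ w : N →ₗ[A] M, ∀ x, w (u x) = x := by
  let V : ℕ → Submodule A M := fun n => 𝔍 n • ⊤
  have hVanti : Antitone V := fun a b hab => Submodule.smul_mono_left (h𝔍anti hab)
  have hVbasis := hasBasis_nat 𝔍 h𝔍open h𝔍basis hM
  let LI : ℕ → Type _ := fun n =>
    {w : N →ₗ[A] M ⧸ (𝔍 n • ⊤ : Submodule A M) // ∀ x, w (u x) = Submodule.Quotient.mk x}
  have hstep' : ∀ n (w : LI n), ∃ w' : LI (n + 1),
      ∀ y, Submodule.factor (Submodule.smul_mono_left (h𝔍anti (Nat.le_succ n))) (w'.1 y) =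
        w.1 y := by
    intro n w
    obtain ⟨w', h1, h2⟩ := hstep n w.1 w.2
    exact ⟨⟨w', h1⟩, h2⟩
  choose next hnext using hstep'
  let seq : ∀ n, LI n := fun n => Nat.rec ⟨w0, hw0⟩ (fun n w => next n w) n
  have hseq : ∀ n y, Submodule.factor (hVanti (Nat.le_succ n)) ((seq (n + 1)).1 y) =
      (seq n).1 y := fun n y => hnext n (seq n) y
  obtain ⟨w, hw⟩ := exists_limit_map V hVanti hVbasis (fun n => (seq n).1) hseq
  refine ⟨w, fun x => ?_⟩
  apply eq_of_forall_mk_eq V hVanti hVbasis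
  intro n
  rw [hw n (u x)]
  exact (seq n).2 x

end Top

end Groth.Agent.Lib.Helper22.TopModInv
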