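import Mathlib

/-! Alternating edge labellings along walks (helper22). -/

namespace Groth.Agent.Lib.Helper22.WalkLabel
open SimpleGraph
universe u v

variable {V : Type u} [DecidableEq V] {A : Type v} [AddCommGroup A]

/-- alternating labelling along a walk: `t` on the first edge, `-t` on the second, ... -/
def L {H : SimpleGraph V} (t : A) : ∀ {u v : V}, H.Walk u v → (Sym2 V → A)
  | _, _, .nil => 0
  | u, _, .cons (v := v') _ p => Pi.single s(u, v') t - L t p

lemma L_add {H : SimpleGraph V} (t t' : A) {u v : V} (p : H.Walk u v) :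
    L (t + t') p = L t p + L t' p := by
  induction p with
  | nil => simp [L]
  | cons h p ih =>
    simp only [L, ih, Pi.single_add]
    abel

lemma L_zero {H : SimpleGraph V} {u v : V} (p : H.Walk u v) :
    L (0 : A) p = 0 := by
  induction p with
  | nil => simp [L]
  | cons h p ih => simp [L, ih]

lemma L_apply_of_notMem {H : SimpleGraph V} (t : A) {u v : V} (p : H.Walk u v) (e : Sym2 V)
    (he : e ∉ p.edges) : L t p e = 0 := by
  induction p with
  | nil => simp [L]
  | cons h p ih =>
    rw [Walk.edges_cons, List.mem_cons, not_or] at he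
    simp only [L, Pi.sub_apply, ih he.2, sub_zero]
    exact Pi.single_eq_of_ne he.1 _

lemma L_apply_of_notMem_edgeSet {H : SimpleGraph V} (t : A) {u v : V} (p : H.Walk u v)
    (e : Sym2 V) (he : e ∉ H.edgeSet) : L t p e = 0 :=
  L_apply_of_notMem t p e fun h => he (Walk.edges_subset_edgeSet p h)

lemma sum_single_incidence [Fintype V] (G : SimpleGraph V) [DecidableRel G.Adj] {a b : V}
    (hab : G.Adj a b) (t : A) (w : V) :
    ∑ e ∈ G.incidenceFinset w, (Pi.single s(a, b) t : Sym2 V → A) e =
      (if w = a then t else 0) + (if w = b then t else 0) := by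
  rw [Finset.sum_pi_single']
  have hne : a ≠ b := hab.ne
  simp only [mem_incidenceFinset, mk'_mem_incidenceSet_iff, hab, true_and]
  by_cases h1 : w = a
  · have : w ≠ b := fun h => hne (h1.symm.trans h)
    simp [h1, hne]
  · by_cases h2 : w = b
    · simp [h2, hne.symm]
    · simp [h1, h2]

lemma sum_incidence [Fintype V] (G : SimpleGraph V) [DecidableRel G.Adj] {H : SimpleGraph V}
    (hHG : H ≤ G) (t : A) {u v : V} (p : H.Walk u v) (w : V) :
    ∑ e ∈ G.incidenceFinset w, L t p e =
      (if w = u then t else 0) - ((-1 : ℤ) ^ p.length) • (if w = v then t else 0) := by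
  induction p with
  | nil => simp [L]
  | cons h p ih =>
    simp only [L, Pi.sub_apply, Finset.sum_sub_distrib, ih, Walk.length_cons]
    rw [sum_single_incidence G (hHG h), pow_succ]
    simp only [mul_neg, mul_one, neg_smul]
    abel

lemma even_length_iff {H : SimpleGraph V} (c : V → Bool)
    (hbip : ∀ v w : V, H.Adj v w → c v ≠ c w) {u v : V} (p : H.Walk u v) :
    Even p.length ↔ c u = c v := by
  induction p with
  | nil => simp
  | cons h p ih =>
    rw [Walk.length_cons, Nat.even_add_one, ih]
    have := hbip _ _ h
    revert this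
    cases c _ <;> cases c _ <;> cases c _ <;> simp

lemma neg_one_pow_length {H : SimpleGraph V} (c : V → Bool)
    (hbip : ∀ v w : V, H.Adj v w → c v ≠ c w) {u v : V} (p : H.Walk u v) :
    ((-1 : ℤ) ^ p.length) = if c u = c v then 1 else -1 := by
  split_ifs with h
  · exact Even.neg_one_pow ((even_length_iff c hbip p).2 h)
  · exact Odd.neg_one_pow (Nat.not_even_iff_odd.1 fun h' => h ((even_length_iff c hbip p).1 h'))

end Groth.Agent.Lib.Helper22.WalkLabel
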