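import Mathlib
import Groth.Agent.Lib.Helper22WalkLabel

/-! Edge labellings supported on a forest with zero incidence sums vanish (helper22). -/

namespace Groth.Agent.Lib.Helper22.WalkLabel
open SimpleGraph
universe u v

variable {V : Type u} [DecidableEq V] {A : Type v} [AddCommGroup A]

lemma sum_smul_mem_sym2 (S : Finset V) (g : V → ℤ) (a b : V) (hab : a ≠ b) (t : A) :
    ∑ w ∈ S, g w • (if w ∈ s(a, b) then t else 0) =
      (if a ∈ S then g a • t else 0) + (if b ∈ S then g b • t else 0) := by
  have : ∀ w, g w • (if w ∈ s(a, b) then t else 0) =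
      (if w = a then g a • t else 0) + (if w = b then g b • t else 0) := by
    intro w
    by_cases h1 : w = a
    · have h2 : w ≠ b := fun h => hab (h1.symm.trans h)
      have h3 : w ∈ s(a, b) := Sym2.mem_iff.2 (Or.inl h1)
      rw [if_pos h3, if_pos h1, if_neg h2, add_zero, h1]
    · by_cases h2 : w = b
      · have h3 : w ∈ s(a, b) := Sym2.mem_iff.2 (Or.inr h2)
        rw [if_pos h3, if_neg h1, if_pos h2, zero_add, h2]
      · have h3 : ¬ w ∈ s(a, b) := fun h => (Sym2.mem_iff.1 h).elim h1 h2
        rw [if_neg h3, if_neg h1, if_neg h2, add_zero, smul_zero]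
  simp only [this, Finset.sum_add_distrib, Finset.sum_ite_eq']

lemma eq_zero_of_forest [Fintype V] (G : SimpleGraph V) [DecidableRel G.Adj] (c : V → Bool)
    (hbip : ∀ v w : V, G.Adj v w → c v ≠ c w) (T : SimpleGraph V) (hTG : T ≤ G)
    (hT : T.IsAcyclic) (y : Sym2 V → A) (hy : ∀ e, e ∉ T.edgeSet → y e = 0)
    (hinc : ∀ w, ∑ e ∈ G.incidenceFinset w, y e = 0) : y = 0 := by
  classical
  funext e
  by_cases heT : e ∈ T.edgeSet
  swap
  · exact hy e heT
  induction e using Sym2.ind with
  | _ u v =>
  have hadj : T.Adj u v := heT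
  have hbr : ¬ (T.deleteEdges {s(u, v)}).Reachable u v :=
    isBridge_iff.1 (isAcyclic_iff_forall_adj_isBridge.1 hT hadj)
  let S : Finset V := Finset.univ.filter (fun w => (T.deleteEdges {s(u, v)}).Reachable u w)
  let sgn : V → ℤ := fun w => if c w then 1 else -1
  have hinc' : ∀ w, ∑ e : Sym2 V, (if w ∈ e then y e else 0) = 0 := by
    intro w
    refine Eq.trans ?_ (hinc w)
    rw [← Finset.sum_filter]
    symm
    apply Finset.sum_subset
    · intro e he
      rw [mem_incidenceFinset] at he
      simp [he.2]
    · intro e he he'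
      rw [Finset.mem_filter] at he
      rw [mem_incidenceFinset] at he'
      apply hy
      intro h
      exact he' ⟨edgeSet_mono hTG h, he.2⟩
  have hSig : ∑ e : Sym2 V, ∑ w ∈ S, sgn w • (if w ∈ e then y e else 0) = 0 := by
    rw [Finset.sum_comm]
    refine Finset.sum_eq_zero fun w _ => ?_
    rw [← Finset.smul_sum, hinc', smul_zero]
  have hterm : ∀ e : Sym2 V, e ≠ s(u, v) →
      ∑ w ∈ S, sgn w • (if w ∈ e then y e else 0) = 0 := by
    intro e hne
    by_cases heT' : e ∈ T.edgeSet
    · induction e using Sym2.ind with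
      | _ a b =>
      have hab : T.Adj a b := heT'
      have hab' : (T.deleteEdges {s(u, v)}).Adj a b := by
        rw [deleteEdges_adj]
        exact ⟨hab, by simpa using hne⟩
      have hSab : a ∈ S ↔ b ∈ S := by
        simp only [S, Finset.mem_filter, Finset.mem_univ, true_and]
        exact ⟨fun h => h.trans hab'.reachable, fun h => h.trans hab'.symm.reachable⟩
      have hcab : sgn a + sgn b = 0 := by
        have := hbip a b (hTG hab)
        simp only [sgn]
        revert this
        cases c a <;> cases c b <;> simp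
      rw [sum_smul_mem_sym2 S sgn a b hab.ne]
      by_cases haS : a ∈ S
      · rw [if_pos haS, if_pos (hSab.1 haS), ← add_smul, hcab, zero_smul]
      · rw [if_neg haS, if_neg (fun h => haS (hSab.2 h)), add_zero]
    · simp [hy e heT']
  rw [Finset.sum_eq_single s(u, v) (fun e _ he => hterm e he) (by simp),
    sum_smul_mem_sym2 S sgn u v hadj.ne] at hSig
  have huS : u ∈ S := by simp [S]
  have hvS : v ∉ S := by simpa [S] using hbr
  rw [if_pos huS, if_neg hvS, add_zero] at hSig
  simp only [sgn] at hSig
  cases hc : c u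
  · simpa [hc] using hSig
  · simpa [hc] using hSig

end Groth.Agent.Lib.Helper22.WalkLabel
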