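import Mathlib
import Groth.Prelude.Def_EGA43
import Groth.Prelude.Def_FDesc
import Groth.Agent.Lib.Helper22SC7
import Groth.Agent.Lib.Helper4VarDim2

set_option autoImplicit false
set_option linter.style.haveILetI false
universe u
open CategoryTheory CategoryTheory.Limits AlgebraicGeometry Topology TopologicalSpace IsLocalRing

namespace Groth.Agent.Lib.Helper22.UAC

section Alg

/-- in a Noetherian local ring with principal maximal ideal, every other prime is zero -/
theorem eq_bot_of_ne_maximalIdeal {R : Type*} [CommRing R] [IsLocalRing R] [IsNoetherianRing R]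
    {ϖ : R} (hm : maximalIdeal R = Ideal.span {ϖ}) (q : Ideal R) [q.IsPrime]
    (hq : q ≠ maximalIdeal R) : q = ⊥ := by
  have hle : q ≤ maximalIdeal R := IsLocalRing.le_maximalIdeal (Ideal.IsPrime.ne_top ‹_›)
  have hϖ : ϖ ∉ q := by
    intro h
    apply hq
    refine le_antisymm hle ?_
    rw [hm, Ideal.span_le]
    rintro _ rfl
    exact h
  have hϖm : ϖ ∈ maximalIdeal R := by rw [hm]; exact Ideal.mem_span_singleton_self ϖ
  have hsub : q ≤ maximalIdeal R • q := by
    intro a ha
    have ha' : a ∈ Ideal.span {ϖ} := by rw [← hm]; exact hle ha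
    obtain ⟨b, rfl⟩ := Ideal.mem_span_singleton'.mp ha'
    have hb : b ∈ q := (Ideal.IsPrime.mem_or_mem ‹_› ha).resolve_right hϖ
    rw [smul_eq_mul]
    have h3 := Ideal.mul_mem_mul hϖm hb
    rwa [mul_comm ϖ b] at h3
  exact Submodule.eq_bot_of_le_smul_of_le_jacobson_bot (maximalIdeal R) q
    (IsNoetherian.noetherian q) hsub (by rw [IsLocalRing.jacobson_eq_maximalIdeal ⊥ bot_ne_top])

/-- the maximal ideal is principal if the quotient by the principal ideal is reduced and the
maximal ideal is the only prime containing the generator -/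
theorem maximalIdeal_eq_span_of_isReduced {R : Type*} [CommRing R] [IsLocalRing R]
    {ϖ : R} (hϖ : ϖ ∈ maximalIdeal R) (hred : IsReduced (R ⧸ Ideal.span {ϖ}))
    (h : ∀ q : Ideal R, q.IsPrime → ϖ ∈ q → q = maximalIdeal R) :
    maximalIdeal R = Ideal.span {ϖ} := by
  have hrad : (Ideal.span {ϖ}).IsRadical :=
    (Ideal.isRadical_iff_quotient_reduced _).mpr hred
  have h1 : (Ideal.span {ϖ}).radical = maximalIdeal R := by
    rw [Ideal.radical_eq_sInf]
    apply le_antisymm
    · apply sInf_le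
      exact ⟨by rw [Ideal.span_le]; rintro _ rfl; exact hϖ, inferInstance⟩
    · apply le_sInf
      rintro q ⟨hq1, hq2⟩
      rw [h q hq2 (hq1 (Ideal.mem_span_singleton_self ϖ))]
  rw [← h1, hrad.radical]

/-- reducedness of localizations passes to smaller primes -/
theorem isReduced_of_le {A SP SQ : Type*} [CommRing A] [CommRing SP] [CommRing SQ]
    [Algebra A SP] [Algebra A SQ] (P Q : Ideal A) [P.IsPrime] [Q.IsPrime]
    [IsLocalization.AtPrime SP P] [IsLocalization.AtPrime SQ Q] (hQP : Q ≤ P)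
    [IsReduced SP] : IsReduced SQ := by
  refine ⟨fun a ha => ?_⟩
  obtain ⟨n, hn⟩ := ha
  obtain ⟨s, u, rfl⟩ := IsLocalization.exists_mk'_eq Q.primeCompl a
  rw [← IsLocalization.mk'_pow, IsLocalization.mk'_eq_zero_iff] at hn
  obtain ⟨v, hv⟩ := hn
  have h1 : (algebraMap A SP ((v : A) * s)) ^ (n + 1) = 0 := by
    rw [← map_pow]
    have : ((v : A) * s) ^ (n + 1) = (v : A) ^ n * s * ((v : A) * s ^ n) := by ring
    rw [this, hv, mul_zero, map_zero]
  have h2 : algebraMap A SP ((v : A) * s) = 0 := IsReduced.eq_zero _ ⟨_, h1⟩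
  obtain ⟨w, hw⟩ := (IsLocalization.map_eq_zero_iff P.primeCompl SP _).mp h2
  rw [IsLocalization.mk'_eq_zero_iff]
  have hwQ : (w : A) ∉ Q := fun h => w.2 (hQP h)
  refine ⟨⟨(w : A) * (v : A), ?_⟩, ?_⟩
  · exact Submonoid.mul_mem _ hwQ v.2
  · show (w : A) * (v : A) * s = 0
    rw [mul_assoc]; exact hw

end Alg

section Sch

/-- reducedness of stalks passes to generizations -/
theorem isReduced_stalk_of_specializes {X : Scheme.{u}} {θ x : X} (h : θ ⤳ x)
    (hx : IsReduced (X.presheaf.stalk x)) : IsReduced (X.presheaf.stalk θ) := by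
  obtain ⟨_, ⟨U, hU, rfl⟩, hxU, -⟩ := X.isBasis_affineOpens.exists_subset_of_mem_open
    (Set.mem_univ x) isOpen_univ
  replace hU : IsAffineOpen U := hU
  have hθU : θ ∈ U := h.mem_open U.2 hxU
  letI a1 : Algebra Γ(X, U) (X.presheaf.stalk x) := X.presheaf.algebra_section_stalk (U := U) ⟨x, hxU⟩
  letI a2 : Algebra Γ(X, U) (X.presheaf.stalk θ) := X.presheaf.algebra_section_stalk (U := U) ⟨θ, hθU⟩
  haveI l1 : IsLocalization.AtPrime (X.presheaf.stalk x) (hU.primeIdealOf ⟨x, hxU⟩).asIdeal :=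
    hU.isLocalization_stalk ⟨x, hxU⟩
  haveI l2 : IsLocalization.AtPrime (X.presheaf.stalk θ) (hU.primeIdealOf ⟨θ, hθU⟩).asIdeal :=
    hU.isLocalization_stalk ⟨θ, hθU⟩
  have hle : (hU.primeIdealOf ⟨θ, hθU⟩).asIdeal ≤ (hU.primeIdealOf ⟨x, hxU⟩).asIdeal :=
    (Groth.Agent.Lib.Helper4.VarDim.primeIdealOf_le_iff hU θ x hθU hxU).mpr h
  exact isReduced_of_le (SP := X.presheaf.stalk x) (SQ := X.presheaf.stalk θ)
    (hU.primeIdealOf ⟨x, hxU⟩).asIdeal (hU.primeIdealOf ⟨θ, hθU⟩).asIdeal hle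

variable {X S : Scheme.{u}} (f : X ⟶ S)

open Groth.Agent.Lib.Helper22.SC in
/-- **Local structure at a maximal point of a reduced fibre over a point with principal maximal
ideal**: such a point has at most one proper generization, which is a maximal point with reduced
local ring. -/
theorem generization_unique [IsLocallyNoetherian X] (x : X) (t0 : S.presheaf.stalk (f x))
    (hmax : maximalIdeal (S.presheaf.stalk (f x)) = Ideal.span {t0})
    (hred : IsReduced (X.presheaf.stalk x ⧸
      (maximalIdeal (S.presheaf.stalk (f x))).map (f.stalkMap x).hom))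
    (hxmax : ∀ x' : X, x' ⤳ x → f x' = f x → x' = x)
    (θ : X) (hθ : θ ⤳ x) (hne : θ ≠ x) :
    (∀ θ' : X, θ' ⤳ x → θ' ≠ x → θ' = θ) ∧ (∀ θ' : X, θ' ⤳ θ → θ' = θ) ∧
      IsReduced (X.presheaf.stalk θ) := by
  set R := X.presheaf.stalk x with hR
  set ϖ : R := (f.stalkMap x).hom t0 with hϖ
  haveI : IsNoetherianRing R := inferInstance
  have hmap : (maximalIdeal (S.presheaf.stalk (f x))).map (f.stalkMap x).hom = Ideal.span {ϖ} := by
    rw [hmax, Ideal.map_span, Set.image_singleton]
  have hϖm : ϖ ∈ maximalIdeal R := by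
    have h1 : t0 ∈ maximalIdeal (S.presheaf.stalk (f x)) := by
      rw [hmax]; exact Ideal.mem_span_singleton_self t0
    exact ((IsLocalRing.mem_maximalIdeal _).mpr
      (fun hu => (IsLocalRing.mem_maximalIdeal _).mp h1 (isUnit_of_map_unit (f.stalkMap x).hom t0 hu)))
  have hinj : Function.Injective (X.fromSpecStalk x) := (X.fromSpecStalk x).isEmbedding.injective
  have hprime : ∀ q : Ideal R, q.IsPrime → ϖ ∈ q → q = maximalIdeal R := by
    intro q hq hϖq
    let Q : Spec (X.presheaf.stalk x) := (⟨q, hq⟩ : PrimeSpectrum R)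
    have h1 : f (X.fromSpecStalk x Q) = f x := (apply_fromSpecStalk_eq_iff x t0 hmax Q).mpr hϖq
    have h2 : X.fromSpecStalk x Q ⤳ x := by
      have : X.fromSpecStalk x Q ∈ Set.range (X.fromSpecStalk x) := ⟨Q, rfl⟩
      rwa [Scheme.range_fromSpecStalk] at this
    have h3 := hxmax _ h2 h1
    have h4 : Q = closedPoint R := by
      apply hinj
      rw [h3, Scheme.fromSpecStalk_closedPoint]
    exact congrArg PrimeSpectrum.asIdeal h4
  have hred' : IsReduced (R ⧸ Ideal.span {ϖ}) := by rw [← hmap]; exact hred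
  have hm : maximalIdeal R = Ideal.span {ϖ} := maximalIdeal_eq_span_of_isReduced hϖm hred' hprime
  -- generizations correspond to primes
  have key : ∀ θ' : X, θ' ⤳ x → θ' ≠ x →
      ∃ Q : Spec (X.presheaf.stalk x), X.fromSpecStalk x Q = θ' ∧ Q.asIdeal = ⊥ := by
    intro θ' hθ' hne'
    have : θ' ∈ Set.range (X.fromSpecStalk x) := by
      rw [Scheme.range_fromSpecStalk]; exact hθ'
    obtain ⟨Q, rfl⟩ := this
    refine ⟨Q, rfl, ?_⟩
    haveI := Q.isPrime
    apply eq_bot_of_ne_maximalIdeal hm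
    intro hQ
    apply hne'
    have : Q = closedPoint R := PrimeSpectrum.ext hQ
    rw [this, Scheme.fromSpecStalk_closedPoint]
  obtain ⟨Q, hQθ, hQ⟩ := key θ hθ hne
  have huniq : ∀ θ' : X, θ' ⤳ x → θ' ≠ x → θ' = θ := by
    intro θ' hθ' hne'
    obtain ⟨Q', hQ'θ, hQ'⟩ := key θ' hθ' hne'
    have : Q' = Q := PrimeSpectrum.ext (hQ'.trans hQ.symm)
    rw [← hQ'θ, this, hQθ]
  refine ⟨huniq, ?_, ?_⟩
  · intro θ' hθ'
    by_cases h1 : θ' = x
    · exfalso
      apply hne
      have h2 : x ⤳ θ := h1 ▸ hθ'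
      exact (hθ.antisymm h2).eq
    · exact huniq θ' (hθ'.trans hθ) h1
  · have hdom : IsDomain R := by
      haveI hbot : (⊥ : Ideal R).IsPrime := hQ ▸ Q.isPrime
      exact IsDomain.of_bot_isPrime R
    haveI : IsReduced R := inferInstance
    exact isReduced_stalk_of_specializes hθ ‹_›

end Sch

end Groth.Agent.Lib.Helper22.UAC
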