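import Mathlib
import Groth.Prelude.Def_EGA43
import Groth.Prelude.Def_FDesc
import Groth.Prelude.Def_Flat
import Groth.Agent.Lib.Helper22UAC1
import Groth.Agent.Lib.Helper22SC8

set_option autoImplicit false
set_option linter.style.haveILetI false
universe u
open CategoryTheory CategoryTheory.Limits AlgebraicGeometry Topology TopologicalSpace IsLocalRing

namespace Groth.Agent.Lib.Helper22.UAC

open Groth.Agent.Lib.Helper22.SC

section Lift

variable {X Y X' Y' : Scheme.{u}} {f : X ⟶ Y} {f' : X' ⟶ Y'} {g' : X' ⟶ X} {g : Y' ⟶ Y}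

/-- generizations inside a fibre lift along the projection of a pullback square -/
theorem exists_specializes_lift (sq : IsPullback g' f' f g) (θ : X') (t : X)
    (ht : f t = g (f' θ)) (hsp : t ⤳ g' θ) :
    ∃ t' : X', f' t' = f' θ ∧ t' ⤳ θ ∧ g' t' = t := by
  set y' := f' θ with hy'
  have hpb := isPullback_fiberMapY sq y'
  haveI : Flat (Spec.map (g.residueFieldMap y')) := by
    rw [Flat.SpecMap_iff]
    letI := (g.residueFieldMap y').hom.toAlgebra
    show Module.Flat _ _
    infer_instance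
  haveI : Flat (fiberMapY sq y') := MorphismProperty.of_isPullback (P := @Flat) hpb.flip inferInstance
  have hgen : GeneralizingMap (fiberMapY sq y') := Flat.generalizingMap _
  -- points of the fibres
  obtain ⟨θF, hθF⟩ : ∃ θF : f'.fiber y', f'.fiberι y' θF = θ := by
    have : θ ∈ Set.range (f'.fiberι y') := by rw [f'.range_fiberι]; rfl
    exact this
  obtain ⟨tF, htF⟩ : ∃ tF : f.fiber (g y'), f.fiberι (g y') tF = t := by
    have : t ∈ Set.range (f.fiberι (g y')) := by rw [f.range_fiberι]; exact ht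
    exact this
  have h1 : f.fiberι (g y') (fiberMapY sq y' θF) = g' θ := by
    rw [← Scheme.Hom.comp_apply, fiberMapY_fiberι, Scheme.Hom.comp_apply, hθF]
  have h2 : tF ⤳ fiberMapY sq y' θF := by
    rw [← (f.fiberι (g y')).isEmbedding.isInducing.specializes_iff, htF, h1]
    exact hsp
  obtain ⟨t'F, ht'F, ht'F2⟩ := hgen h2
  refine ⟨f'.fiberι y' t'F, ?_, ?_, ?_⟩
  · have : f'.fiberι y' t'F ∈ Set.range (f'.fiberι y') := ⟨_, rfl⟩
    rw [f'.range_fiberι] at this
    exact this
  · rw [← hθF]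
    exact ht'F.map (f'.fiberι y').continuous
  · rw [← Scheme.Hom.comp_apply, ← fiberMapY_fiberι sq y', Scheme.Hom.comp_apply, ht'F2, htF]

end Lift

section Setup

variable {X Y : Scheme.{u}} (f : X ⟶ Y)

/-- the generic point of the unique irreducible component of the fibre through `x` -/
theorem exists_generic_of_unique_component (x : X)
    (h1 : ∃! Zc : Set ↥(f.fiber (f.base x)),
      Zc ∈ irreducibleComponents (↥(f.fiber (f.base x)) : Type u) ∧ f.asFiber x ∈ Zc) :
    ∃ ζ : ↥(f.fiber (f.base x)), f.asFiber x ∈ closure {ζ} ∧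
      (∀ z' : ↥(f.fiber (f.base x)), ζ ∈ closure {z'} → z' = ζ) ∧
      (∀ z : ↥(f.fiber (f.base x)), f.asFiber x ∈ closure {z} → z ∈ closure {ζ}) := by
  obtain ⟨Zc, ⟨hZc, hxZ⟩, huniq⟩ := h1
  have hZirr : IsIrreducible Zc := hZc.1
  have hZcl : IsClosed Zc := isClosed_of_mem_irreducibleComponents Zc hZc
  obtain ⟨ζ, hζ⟩ := QuasiSober.sober hZirr hZcl
  have hζd : closure {ζ} = Zc := hζ.def
  refine ⟨ζ, by rw [hζd]; exact hxZ, ?_, ?_⟩
  · intro z' hz'
    have h2 : Zc ≤ closure {z'} := by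
      rw [← hζd]
      exact closure_minimal (Set.singleton_subset_iff.mpr hz') isClosed_closure
    have h3 : closure ({z'} : Set _) ≤ Zc := hZc.2 isIrreducible_singleton.closure h2
    have h4 : z' ∈ closure {ζ} := by rw [hζd]; exact h3 (subset_closure rfl)
    have s1 : ζ ⤳ z' := specializes_iff_mem_closure.mpr h4
    have s2 : z' ⤳ ζ := specializes_iff_mem_closure.mpr hz'
    exact (s2.antisymm s1).eq
  · intro z hz
    obtain ⟨C, hC, hzC⟩ : ∃ C ∈ irreducibleComponents (↥(f.fiber (f.base x)) : Type u), z ∈ C :=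
      ⟨irreducibleComponent z, irreducibleComponent_mem_irreducibleComponents z,
        mem_irreducibleComponent⟩
    have hCcl : IsClosed C := isClosed_of_mem_irreducibleComponents C hC
    have hxC : f.asFiber x ∈ C :=
      (closure_minimal (Set.singleton_subset_iff.mpr hzC) hCcl) hz
    have : C = Zc := huniq C ⟨hC, hxC⟩
    rw [hζd, ← this]
    exact hzC

/-- `ζ₀` is the generic point of the unique irreducible component of the fibre through `x`, and
the fibre is geometrically reduced there -/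
structure IsGenFib (x ζ₀ : X) : Prop where
  hf : f ζ₀ = f x
  sp : ζ₀ ⤳ x
  le : ∀ z : X, f z = f x → z ⤳ x → ζ₀ ⤳ z
  max : ∀ z : X, f z = f x → z ⤳ ζ₀ → z = ζ₀
  gr : GRAt f ζ₀

theorem exists_isGenFib (x : X)
    (h1 : ∃! Zc : Set ↥(f.fiber (f.base x)),
      Zc ∈ irreducibleComponents (↥(f.fiber (f.base x)) : Type u) ∧ f.asFiber x ∈ Zc)
    (h2 : ∀ z : ↥(f.fiber (f.base x)), f.asFiber x ∈ closure {z} →
      (∀ z' : ↥(f.fiber (f.base x)), z ∈ closure {z'} → z' = z) →
      FBase.IsGeomReducedAt (f.fiberToSpecResidueField (f.base x)) z) :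
    ∃ ζ₀ : X, IsGenFib f x ζ₀ := by
  obtain ⟨ζ, hζx, hζmax, hζle⟩ := exists_generic_of_unique_component f x h1
  have hGR := h2 ζ hζx hζmax
  have hemb := (f.fiberι (f.base x)).isEmbedding
  have hfζ : f (f.fiberι (f.base x) ζ) = f x := by
    have : f.fiberι (f.base x) ζ ∈ Set.range (f.fiberι (f.base x)) := ⟨ζ, rfl⟩
    rw [f.range_fiberι] at this
    exact this
  have hpt : ∀ z : X, f z = f x → ∃ zF : ↥(f.fiber (f.base x)), f.fiberι (f.base x) zF = z := by
    intro z hz
    have : z ∈ Set.range (f.fiberι (f.base x)) := by rw [f.range_fiberι]; exact hz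
    exact this
  refine ⟨f.fiberι (f.base x) ζ, hfζ, ?_, ?_, ?_, ?_⟩
  · have := (specializes_iff_mem_closure.mpr hζx).map (f.fiberι (f.base x)).continuous
    rwa [f.fiberι_asFiber] at this
  · intro z hz hzx
    obtain ⟨zF, rfl⟩ := hpt z hz
    have h3 : zF ⤳ f.asFiber x := by
      rw [← hemb.isInducing.specializes_iff, f.fiberι_asFiber]; exact hzx
    have h4 := hζle zF h3.mem_closure
    exact (specializes_iff_mem_closure.mpr h4).map (f.fiberι (f.base x)).continuous
  · intro z hz hzζ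
    obtain ⟨zF, rfl⟩ := hpt z hz
    have h3 : zF ⤳ ζ := hemb.isInducing.specializes_iff.mp hzζ
    rw [hζmax zF h3.mem_closure]
  · rw [gRAt_iff f _ (f.base x) hfζ]
    have : (f.fiberHomeo (f.base x)).symm ⟨f.fiberι (f.base x) ζ, hfζ⟩ = ζ := by
      apply hemb.injective
      rw [Scheme.Hom.fiberι_fiberHomeo_symm]
    rw [this]
    exact hGR

end Setup

section Dim

open Groth.Agent.Lib.Helper4.DimFormula Groth.Agent.Lib.Helper4.VarDim
  Groth.Agent.Lib.Helper4.FibDim

variable {X Y : Scheme.{u}} (f : X ⟶ Y) [LocallyOfFiniteType f]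

theorem ptTrdeg_lt_of_specializes (a b : X) (h : a ⤳ b) (hf : f a = f b) (hne : a ≠ b) :
    ptTrdeg f b < ptTrdeg f a := by
  set s := f.base b with hs
  letI : (f.fiber s).Over (Spec (CommRingCat.of (Y.residueField s))) :=
    ⟨f.fiberToSpecResidueField s⟩
  haveI : LocallyOfFiniteType ((f.fiber s) ↘ Spec (CommRingCat.of (Y.residueField s))) :=
    locallyOfFiniteType_fiberToSpecResidueField f _
  obtain ⟨aF, haF⟩ : ∃ aF : f.fiber s, f.fiberι s aF = a := by
    have : a ∈ Set.range (f.fiberι s) := by rw [f.range_fiberι]; exact hf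
    exact this
  obtain ⟨bF, hbF⟩ : ∃ bF : f.fiber s, f.fiberι s bF = b := by
    have : b ∈ Set.range (f.fiberι s) := by rw [f.range_fiberι]; rfl
    exact this
  have hsp : aF ⤳ bF := by
    rw [← (f.fiberι s).isEmbedding.isInducing.specializes_iff, haF, hbF]; exact h
  have hneF : aF ≠ bF := by
    intro h'
    apply hne
    rw [← haF, ← hbF, h']
  have h1 := trdegNat_lt_of_specializes (Y.residueField s) (f.fiber s) aF bF hsp hneF
  rw [trdegNat_eq_ptTrdeg f s aF, trdegNat_eq_ptTrdeg f s bF, haF, hbF] at h1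
  exact h1

theorem mem_of_localDim_eq (x ζ₀ : X) (hG : IsGenFib f x ζ₀) (X' : Set X) (hcl : IsClosed X')
    (hx : x ∈ X')
    (hdim : FlatMor.localDim ↥(X' ∩ f.base ⁻¹' {f.base x}) ⟨x, hx, rfl⟩ = FlatMor.fibreDimAt f x) :
    ζ₀ ∈ X' := by
  obtain ⟨Z, ι, hι, hrange⟩ := exists_isClosedImmersion_range_eq X X' hcl
  have hxr : x ∈ Set.range ι.base := by rw [hrange]; exact hx
  obtain ⟨tx, rfl⟩ := hxr
  have hL : FlatMor.localDim ↥(X' ∩ f.base ⁻¹' {f.base (ι.base tx)}) ⟨ι.base tx, hx, rfl⟩ =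
      FlatMor.fibreDimAt (ι ≫ f) tx := by
    rw [fibreDimAt_eq_fibLD (ι ≫ f) tx]
    have h1 := fibLD_comp_isEmbedding f ι ι.isEmbedding tx
    refine Eq.trans ?_ h1.symm
    have hset : X' ∩ f.base ⁻¹' {f.base (ι.base tx)} =
        Set.range ι.base ∩ f.base ⁻¹' {f.base (ι.base tx)} := by rw [hrange]
    exact localDim_congr_set hset (ι.base tx) ⟨hx, rfl⟩
  obtain ⟨w', hw'f, hw'sp, hw'dim⟩ := exists_ptTrdeg_eq_fibreDimAt (ι ≫ f) tx
  rw [ptTrdeg_comp_of_isPreimmersion ι f w'] at hw'dim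
  have hzX' : ι.base w' ∈ X' := by rw [← hrange]; exact ⟨w', rfl⟩
  have hzf : f (ι.base w') = f (ι.base tx) := hw'f
  have hzsp : ι.base w' ⤳ ι.base tx := hw'sp.map ι.continuous
  have hζz : ζ₀ ⤳ ι.base w' := hG.le _ hzf hzsp
  by_cases hne : ζ₀ = ι.base w'
  · rw [hne]; exact hzX'
  · exfalso
    have h1 := ptTrdeg_lt_of_specializes f ζ₀ (ι.base w') hζz (hG.hf.trans hzf.symm) hne
    have h2 : (ptTrdeg f ζ₀ : WithBot ℕ∞) ≤ FlatMor.fibreDimAt f (ι.base tx) :=
      (ptTrdeg_le_fibreDimAt f ζ₀).trans (fibreDimAt_le_of_specializes f ζ₀ (ι.base tx) hG.sp)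
    rw [← hdim, hL, hw'dim] at h2
    have h3 : ptTrdeg f ζ₀ ≤ ptTrdeg f (ι.base w') := by exact_mod_cast h2
    omega

end Dim

end Groth.Agent.Lib.Helper22.UAC
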