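import Mathlib
import Groth.Prelude.Def_EGA43
import Groth.Prelude.Def_FDesc
import Groth.Prelude.Def_Flat
import Groth.Agent.Lib.Helper22UAC2

set_option autoImplicit false
set_option linter.style.haveILetI false
universe u
open CategoryTheory CategoryTheory.Limits AlgebraicGeometry Topology TopologicalSpace IsLocalRing

namespace Groth.Agent.Lib.Helper22.UAC

open Groth.Agent.Lib.Helper22.SC

section PB

variable {X Y X' Y' : Scheme.{u}} {f : X ⟶ Y} {f' : X' ⟶ Y'} {g' : X' ⟶ X} {g : Y' ⟶ Y}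

theorem exists_preimage_of_isPullback (sq : IsPullback g' f' f g) (a : X) (b : Y')
    (h : f a = g b) : ∃ z : X', g' z = a ∧ f' z = b := by
  obtain ⟨z, hz1, hz2⟩ := Scheme.Pullback.exists_preimage_pullback a b h
  refine ⟨sq.isoPullback.inv z, ?_, ?_⟩
  · rw [← Scheme.Hom.comp_apply, sq.isoPullback_inv_fst]; exact hz1
  · rw [← Scheme.Hom.comp_apply, sq.isoPullback_inv_snd]; exact hz2

end PB

section Main

variable {X Y : Scheme.{u}} (f : X ⟶ Y) [LocallyOfFiniteType f]
variable {V : Type u} [CommRing V] [IsDomain V] [IsDiscreteValuationRing V]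
variable (g : Spec (CommRingCat.of V) ⟶ Y)

theorem isOpen_singleton_genPt : IsOpen ({genPt V} : Set (Spec (CommRingCat.of V))) := by
  have : ({genPt V} : Set (Spec (CommRingCat.of V))) = {closedPoint V}ᶜ := by
    ext z
    simp only [Set.mem_singleton_iff, Set.mem_compl_iff]
    constructor
    · rintro rfl; exact genPt_ne_closedPoint V
    · intro h; exact (eq_closedPoint_or_eq_genPt V z).resolve_left h
  rw [this]
  exact (IsLocalRing.isClosed_singleton_closedPoint V).isOpen_compl

variable {f} {g}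

/-- proper generizations of a maximal point `ζA` of the special fibre lying over `ζ₀` -/
theorem generization_unique_pullback {ζ₀ : X} (hgr : GRAt f ζ₀)
    (ζA : ↥(pullback f g)) (hζ1 : pullback.fst f g ζA = ζ₀)
    (hζ2 : pullback.snd f g ζA = closedPoint V)
    (hζmax : ∀ t : ↥(pullback f g), pullback.snd f g t = closedPoint V → t ⤳ ζA → t = ζA)
    (θ : ↥(pullback f g)) (hθ : θ ⤳ ζA) (hne : θ ≠ ζA) :
    (∀ θ' : ↥(pullback f g), θ' ⤳ ζA → θ' ≠ ζA → θ' = θ) ∧
      (∀ θ' : ↥(pullback f g), θ' ⤳ θ → θ' = θ) ∧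
      IsReduced ((pullback f g).presheaf.stalk θ) := by
  haveI : IsLocallyNoetherian (pullback f g) :=
    LocallyOfFiniteType.isLocallyNoetherian (pullback.snd f g)
  obtain ⟨t0, ht0⟩ := exists_maximalIdeal_stalk_eq_span V (pullback.snd f g ζA) hζ2
  have hred := isReduced_quot_of_gRAt (IsPullback.of_hasPullback f g) ζA (by rw [hζ1]; exact hgr)
  refine generization_unique (pullback.snd f g) ζA t0 ht0 hred ?_ θ hθ hne
  intro x' hx' hx'2
  exact hζmax x' (hx'2.trans hζ2) hx'

/-- existence of a generization over the generic point inside a closed subscheme on which the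
morphism is universally open at the point over `ζ₀` -/
theorem exists_generization_of_isUnivOpenAt {Z : Scheme.{u}} (ι : Z ⟶ X) [IsClosedImmersion ι]
    (w₀ : Z) (hUO : EGA43.IsUnivOpenAt (ι ≫ f) w₀)
    (ζA : ↥(pullback f g)) (hζ1 : pullback.fst f g ζA = ι w₀)
    (hζ2 : pullback.snd f g ζA = closedPoint V) :
    ∃ θ : ↥(pullback f g), θ ⤳ ζA ∧ pullback.snd f g θ = genPt V ∧
      pullback.fst f g θ ∈ Set.range ι := by
  -- the base change of `Z`
  let κ : pullback (ι ≫ f) g ⟶ pullback f g :=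
    pullback.lift (pullback.fst (ι ≫ f) g ≫ ι) (pullback.snd (ι ≫ f) g)
      (by rw [Category.assoc]; exact pullback.condition)
  have hκ1 : κ ≫ pullback.fst f g = pullback.fst (ι ≫ f) g ≫ ι := pullback.lift_fst _ _ _
  have hκ2 : κ ≫ pullback.snd f g = pullback.snd (ι ≫ f) g := pullback.lift_snd _ _ _
  have sqZ : IsPullback κ (pullback.fst (ι ≫ f) g) (pullback.fst f g) ι := by
    have big : IsPullback (pullback.fst (ι ≫ f) g) (pullback.snd (ι ≫ f) g) (ι ≫ f) g :=
      IsPullback.of_hasPullback _ _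
    have right : IsPullback (pullback.fst f g) (pullback.snd f g) f g :=
      IsPullback.of_hasPullback _ _
    refine IsPullback.of_right (h₁₂ := pullback.snd f g) (h₂₂ := f) (v₁₃ := g) ?_ hκ1 right.flip
    rw [hκ2]
    exact big.flip
  haveI : IsLocallyNoetherian (pullback (ι ≫ f) g) :=
    LocallyOfFiniteType.isLocallyNoetherian (pullback.snd (ι ≫ f) g)
  -- a point over `w₀` and `ζA`
  obtain ⟨wA, hwA1, hwA2⟩ := exists_preimage_of_isPullback sqZ ζA w₀ hζ1
  have hOA := hUO _ g wA hwA2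
  have hsndwA : pullback.snd (ι ≫ f) g wA = closedPoint V := by
    rw [← hκ2, Scheme.Hom.comp_apply, hwA1, hζ2]
  -- `wA` lies in the closure of the generic fibre
  have hcl : wA ∈ closure ((pullback.snd (ι ≫ f) g).base ⁻¹' {genPt V}) := by
    rw [mem_closure_iff_nhds]
    intro U hU
    have h1 := hOA U hU
    rw [hsndwA] at h1
    have h2 : genPt V ∈ (pullback.snd (ι ≫ f) g).base '' U :=
      mem_of_mem_nhds ((genPt_specializes_closedPoint V) h1)
    obtain ⟨u, hu, hu2⟩ := h2
    exact ⟨u, hu, hu2⟩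
  have hopen : IsOpen ((pullback.snd (ι ≫ f) g).base ⁻¹' {genPt V}) :=
    isOpen_singleton_genPt.preimage (pullback.snd (ι ≫ f) g).continuous
  obtain ⟨θZ, hθZ1, hθZ2⟩ := exists_specializes_of_mem_closure_of_isOpen hopen hcl
  refine ⟨κ θZ, ?_, ?_, ?_⟩
  · rw [← hwA1]; exact hθZ2.map κ.continuous
  · rw [← Scheme.Hom.comp_apply, hκ2]; exact hθZ1
  · rw [← Scheme.Hom.comp_apply, hκ1, Scheme.Hom.comp_apply]; exact ⟨_, rfl⟩

open Scheme.IdealSheafData in
/-- **Main step**: an admissible component contains the image of a generization of `ζA` over the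
generic point, and is the closure of that image. -/
theorem exists_generization_adm {ζ₀ : X} (hgr : GRAt f ζ₀)
    (hgen : ∀ y : Y, y ⤳ g (genPt V) → y = g (genPt V))
    (ζA : ↥(pullback f g)) (hζ1 : pullback.fst f g ζA = ζ₀)
    (hζ2 : pullback.snd f g ζA = closedPoint V)
    (hζmax : ∀ t : ↥(pullback f g), pullback.snd f g t = closedPoint V → t ⤳ ζA → t = ζA)
    (X' : TopologicalSpace.Closeds X) (hX' : (X' : Set X) ∈ irreducibleComponents (X : Type u))
    (hζX' : ζ₀ ∈ X')
    (hUO : ∀ w : ↥(vanishingIdeal X').subscheme, (vanishingIdeal X').subschemeι w = ζ₀ →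
      EGA43.IsUnivOpenAt ((vanishingIdeal X').subschemeι ≫ f) w) :
    ∃ θ : ↥(pullback f g), θ ⤳ ζA ∧ θ ≠ ζA ∧ pullback.snd f g θ = genPt V ∧
      closure {pullback.fst f g θ} = (X' : Set X) := by
  have hrange : Set.range (vanishingIdeal X').subschemeι = (X' : Set X) := by
    rw [range_subschemeι, coe_support_vanishingIdeal]
  obtain ⟨w₀, hw₀⟩ : ∃ w₀, (vanishingIdeal X').subschemeι w₀ = ζ₀ := by
    have : ζ₀ ∈ Set.range (vanishingIdeal X').subschemeι := by rw [hrange]; exact hζX'
    exact this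
  obtain ⟨θ, hθ1, hθ2, hθ3⟩ := exists_generization_of_isUnivOpenAt (f := f) (g := g)
    (vanishingIdeal X').subschemeι w₀ (hUO w₀ hw₀) ζA (hζ1.trans hw₀.symm) hζ2
  have hne : θ ≠ ζA := by
    intro h
    rw [h, hζ2] at hθ2
    exact genPt_ne_closedPoint V hθ2.symm
  obtain ⟨-, hθmax, -⟩ := generization_unique_pullback hgr ζA hζ1 hζ2 hζmax θ hθ1 hne
  refine ⟨θ, hθ1, hne, hθ2, ?_⟩
  rw [hrange] at hθ3
  -- the generic point of `X'`
  have hirr : IsIrreducible (X' : Set X) := hX'.1
  obtain ⟨ξ, hξ⟩ := QuasiSober.sober hirr X'.isClosed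
  have hξd : closure {ξ} = (X' : Set X) := hξ.def
  have hsp : ξ ⤳ pullback.fst f g θ := by
    rw [specializes_iff_mem_closure, hξd]; exact hθ3
  have hfθ : f (pullback.fst f g θ) = g (pullback.snd f g θ) := by
    rw [← Scheme.Hom.comp_apply, ← Scheme.Hom.comp_apply, pullback.condition]
  have hfξ : f ξ = g (pullback.snd f g θ) := by
    have h1 : f ξ ⤳ f (pullback.fst f g θ) := hsp.map f.continuous
    rw [hfθ, hθ2] at h1
    rw [hθ2]
    exact hgen _ h1
  obtain ⟨t', -, ht'2, ht'3⟩ := exists_specializes_lift (IsPullback.of_hasPullback f g) θ ξ hfξ hsp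
  rw [hθmax t' ht'2] at ht'3
  rw [ht'3, hξd]

end Main

end Groth.Agent.Lib.Helper22.UAC
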