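import Mathlib
import Groth.Prelude.Def_EGA43
import Groth.Prelude.Def_FDesc
import Groth.Prelude.Def_Flat
import Groth.Agent.Lib.Helper22UAC3

set_option autoImplicit false
set_option linter.style.haveILetI false
universe u
open CategoryTheory CategoryTheory.Limits AlgebraicGeometry Topology TopologicalSpace IsLocalRing

namespace Groth.Agent.Lib.Helper22.UAC

open Groth.Agent.Lib.Helper22.SC

section MaxPt

variable {X Y : Scheme.{u}} (f : X ⟶ Y) [LocallyOfFiniteType f]
variable {V : Type u} [CommRing V] [IsDomain V] [IsDiscreteValuationRing V]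
variable (g : Spec (CommRingCat.of V) ⟶ Y)

omit [LocallyOfFiniteType f] in
open Groth.Agent.Lib.Helper4.VarDim in
/-- a maximal point of the special fibre lying over `ζ₀` -/
theorem exists_maximal_point {x ζ₀ : X} (hG : IsGenFib f x ζ₀) (hgc : g (closedPoint V) = f x) :
    ∃ ζA : ↥(pullback f g), pullback.fst f g ζA = ζ₀ ∧ pullback.snd f g ζA = closedPoint V ∧
      ∀ t : ↥(pullback f g), pullback.snd f g t = closedPoint V → t ⤳ ζA → t = ζA := by
  obtain ⟨a, ha1, ha2⟩ := Scheme.Pullback.exists_preimage_pullback (f := f) (g := g) ζ₀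
    (closedPoint V) (hG.hf.trans hgc.symm)
  set s : Spec (CommRingCat.of V) := closedPoint V with hs
  obtain ⟨aF, haF⟩ : ∃ aF : (pullback.snd f g).fiber s, (pullback.snd f g).fiberι s aF = a := by
    have : a ∈ Set.range ((pullback.snd f g).fiberι s) := by
      rw [(pullback.snd f g).range_fiberι]; exact ha2
    exact this
  obtain ⟨yF, hyF, hyFa⟩ := exists_generic_specializes aF
  have hemb := ((pullback.snd f g).fiberι s).isEmbedding
  have hsnd : ∀ zF : (pullback.snd f g).fiber s,
      pullback.snd f g ((pullback.snd f g).fiberι s zF) = s := by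
    intro zF
    have : (pullback.snd f g).fiberι s zF ∈ Set.range ((pullback.snd f g).fiberι s) := ⟨zF, rfl⟩
    rw [(pullback.snd f g).range_fiberι] at this
    exact this
  refine ⟨(pullback.snd f g).fiberι s yF, ?_, hsnd yF, ?_⟩
  · apply hG.max
    · rw [← Scheme.Hom.comp_apply, pullback.condition, Scheme.Hom.comp_apply, hsnd yF, hgc]
    · have h1 := (hyFa.map ((pullback.snd f g).fiberι s).continuous).map
        (pullback.fst f g).continuous
      rwa [haF, ha1] at h1
  · intro t ht htsp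
    obtain ⟨tF, rfl⟩ : ∃ tF : (pullback.snd f g).fiber s, (pullback.snd f g).fiberι s tF = t := by
      have : t ∈ Set.range ((pullback.snd f g).fiberι s) := by
        rw [(pullback.snd f g).range_fiberι]; exact ht
      exact this
    have h1 : tF ⤳ yF := hemb.isInducing.specializes_iff.mp htsp
    rw [eq_of_specializes_generic yF tF hyF h1]

end MaxPt

section Adm

variable {X Y : Scheme.{u}} (f : X ⟶ Y)

/-- admissible irreducible components (EGA IV 15.6.3) -/
def Adm (x : X) (X' : TopologicalSpace.Closeds X) : Prop :=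
  (X' : Set X) ∈ irreducibleComponents (X : Type u) ∧ ∃ hx : x ∈ X',
    FlatMor.localDim ↥((X' : Set X) ∩ f.base ⁻¹' {f.base x})
        ⟨x, ⟨hx, Set.mem_singleton (f.base x)⟩⟩ = FlatMor.fibreDimAt f x ∧
    ∀ w : ↥(Scheme.IdealSheafData.vanishingIdeal X').subscheme,
      f.base ((Scheme.IdealSheafData.vanishingIdeal X').subschemeι.base w) = f.base x →
      x ∈ closure {(Scheme.IdealSheafData.vanishingIdeal X').subschemeι.base w} →
      (∀ t : X, t ∈ (X' : Set X) → f.base t = f.base x →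
          (Scheme.IdealSheafData.vanishingIdeal X').subschemeι.base w ∈ closure {t} →
          t = (Scheme.IdealSheafData.vanishingIdeal X').subschemeι.base w) →
      EGA43.IsUnivOpenAt ((Scheme.IdealSheafData.vanishingIdeal X').subschemeι ≫ f) w

variable {f}

theorem Adm.mem [LocallyOfFiniteType f] {x ζ₀ : X} (hG : IsGenFib f x ζ₀)
    {X' : TopologicalSpace.Closeds X} (h : Adm f x X') : ζ₀ ∈ X' := by
  obtain ⟨-, hx, hdim, -⟩ := h
  exact mem_of_localDim_eq f x ζ₀ hG (X' : Set X) X'.isClosed hx hdim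

theorem Adm.isUnivOpenAt {x ζ₀ : X} (hG : IsGenFib f x ζ₀)
    {X' : TopologicalSpace.Closeds X} (h : Adm f x X')
    (w : ↥(Scheme.IdealSheafData.vanishingIdeal X').subscheme)
    (hw : (Scheme.IdealSheafData.vanishingIdeal X').subschemeι w = ζ₀) :
    EGA43.IsUnivOpenAt ((Scheme.IdealSheafData.vanishingIdeal X').subschemeι ≫ f) w := by
  obtain ⟨-, hx, -, hUO⟩ := h
  refine hUO w ?_ ?_ ?_
  · exact (congrArg f.base hw).trans hG.hf
  · exact (hw ▸ hG.sp).mem_closure
  · intro t _ htf ht
    have h1 : t ⤳ ζ₀ := by rw [← hw]; exact specializes_iff_mem_closure.mpr ht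
    exact (hG.max t htf h1).trans hw.symm

variable {V : Type u} [CommRing V] [IsDomain V] [IsDiscreteValuationRing V]
variable {g : Spec (CommRingCat.of V) ⟶ Y}

/-- uniqueness of the admissible component, given a suitable trait -/
theorem Adm.eq_of_dvr [LocallyOfFiniteType f] {x ζ₀ : X} (hG : IsGenFib f x ζ₀)
    (hgc : g (closedPoint V) = f x)
    (hgen : ∀ y : Y, y ⤳ g (genPt V) → y = g (genPt V))
    {X₁ X₂ : TopologicalSpace.Closeds X} (h₁ : Adm f x X₁) (h₂ : Adm f x X₂) : X₁ = X₂ := by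
  obtain ⟨ζA, hζ1, hζ2, hζmax⟩ := exists_maximal_point f g hG hgc
  obtain ⟨θ₁, hθ₁, hne₁, -, hcl₁⟩ := exists_generization_adm hG.gr hgen ζA hζ1 hζ2 hζmax X₁ h₁.1
    (h₁.mem hG) (fun w hw => h₁.isUnivOpenAt hG w hw)
  obtain ⟨θ₂, hθ₂, hne₂, -, hcl₂⟩ := exists_generization_adm hG.gr hgen ζA hζ1 hζ2 hζmax X₂ h₂.1
    (h₂.mem hG) (fun w hw => h₂.isUnivOpenAt hG w hw)
  obtain ⟨huniq, -, -⟩ := generization_unique_pullback hG.gr ζA hζ1 hζ2 hζmax θ₁ hθ₁ hne₁
  have : θ₂ = θ₁ := huniq θ₂ hθ₂ hne₂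
  apply TopologicalSpace.Closeds.ext
  rw [← hcl₁, ← hcl₂, this]

end Adm

end Groth.Agent.Lib.Helper22.UAC
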