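import Mathlib
import Groth.Prelude.Def_EGA43
import Groth.Prelude.Def_FDesc
import Groth.Prelude.Def_Flat
import Groth.Agent.Lib.Helper22UAC4
import Groth.Agent.Lib.Helper4DVRSch

set_option autoImplicit false
set_option linter.style.haveILetI false
universe u
open CategoryTheory CategoryTheory.Limits AlgebraicGeometry Topology TopologicalSpace IsLocalRing

namespace Groth.Agent.Lib.Helper22.UAC

open Groth.Agent.Lib.Helper22.SC

section Trait

variable {Y : Scheme.{u}} [IsLocallyNoetherian Y] [IrreducibleSpace Y]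

omit [IsLocallyNoetherian Y] in
theorem genericPoint_maximal (y : Y) (h : y ⤳ genericPoint Y) : y = genericPoint Y := by
  have h2 : genericPoint Y ⤳ y := (genericPoint_spec Y).specializes (Set.mem_univ y)
  exact (h.antisymm h2).eq

theorem exists_trait (y : Y) (hne : genericPoint Y ≠ y) {L : Type u} [Field L]
    (φ : Y.residueField (genericPoint Y) ⟶ CommRingCat.of L) (hφ : φ.hom.EssFiniteType) :
    ∃ (V : ValuationSubring L) (_ : IsDiscreteValuationRing V)
      (g : Spec (CommRingCat.of V) ⟶ Y),
      Spec.map (CommRingCat.ofHom V.subtype) ≫ g =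
        Spec.map φ ≫ Y.fromSpecResidueField (genericPoint Y) ∧
      g (closedPoint V) = y ∧ g (genPt V) = genericPoint Y := by
  have hsp : genericPoint Y ⤳ y := (genericPoint_spec Y).specializes (Set.mem_univ y)
  obtain ⟨V, hV, g, hg1, hg2⟩ := Groth.Agent.Lib.Helper4.DVRSch.exists_dvr_hom hsp hne φ hφ
  refine ⟨V, hV, g, hg1, hg2, ?_⟩
  let pt : Spec (CommRingCat.of L) := closedPoint L
  have h1 : Spec.map (CommRingCat.ofHom V.subtype) pt = genPt V := by
    apply PrimeSpectrum.ext
    show Ideal.comap V.subtype (maximalIdeal L) = ⊥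
    rw [IsLocalRing.maximalIdeal_eq_bot, ← RingHom.ker_eq_comap_bot]
    exact (RingHom.injective_iff_ker_eq_bot _).mp Subtype.val_injective
  have h2 := congrArg (fun m => m pt) hg1
  simp only [Scheme.Hom.comp_apply] at h2
  rw [h1, Scheme.fromSpecResidueField_apply] at h2
  exact h2

end Trait

section PartI

variable {X Y : Scheme.{u}} [IsLocallyNoetherian Y] [IrreducibleSpace Y] {f : X ⟶ Y}
  [LocallyOfFiniteType f]

omit [IsLocallyNoetherian Y] in
/-- when `f x` is the generic point, an admissible component is the closure of `ζ₀` -/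
theorem Adm.coe_eq_closure_of_generic {x ζ₀ : X} (hG : IsGenFib f x ζ₀)
    (hy : genericPoint Y = f x) {X' : TopologicalSpace.Closeds X} (h : Adm f x X') :
    (X' : Set X) = closure {ζ₀} := by
  have hζ := h.mem hG
  have hirr : IsIrreducible (X' : Set X) := h.1.1
  obtain ⟨ξ, hξ⟩ := QuasiSober.sober hirr X'.isClosed
  have hξd : closure {ξ} = (X' : Set X) := hξ.def
  have hsp : ξ ⤳ ζ₀ := by rw [specializes_iff_mem_closure, hξd]; exact hζ
  have h1 : f ξ ⤳ f ζ₀ := hsp.map f.continuous
  rw [hG.hf, ← hy] at h1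
  have h2 : f ξ = f x := (genericPoint_maximal _ h1).trans hy
  rw [← hξd, hG.max ξ h2 hsp]

/-- **EGA IV 15.6.3 (i)**: there is at most one admissible component. -/
theorem Adm.eq {x ζ₀ : X} (hG : IsGenFib f x ζ₀)
    {X₁ X₂ : TopologicalSpace.Closeds X} (h₁ : Adm f x X₁) (h₂ : Adm f x X₂) : X₁ = X₂ := by
  by_cases hy : genericPoint Y = f x
  · apply TopologicalSpace.Closeds.ext
    rw [h₁.coe_eq_closure_of_generic hG hy, h₂.coe_eq_closure_of_generic hG hy]
  · obtain ⟨V, hV, g, -, hgc, hgg⟩ := exists_trait (f x) hy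
      (L := Y.residueField (genericPoint Y)) (𝟙 _) (RingHom.FiniteType.essFiniteType
        (RingHom.FiniteType.id _))
    refine Adm.eq_of_dvr (V := V) (g := g) hG hgc ?_ h₁ h₂
    intro y hy'
    rw [hgg] at hy' ⊢
    exact genericPoint_maximal y hy'

end PartI

end Groth.Agent.Lib.Helper22.UAC
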