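import Mathlib
import Groth.Prelude.Def_EGA43
import Groth.Prelude.Def_FDesc
import Groth.Prelude.Def_Flat
import Groth.Agent.Lib.Helper22UAC5
import Groth.Agent.Lib.Helper6BcRed

set_option autoImplicit false
set_option linter.style.haveILetI false
universe u
open CategoryTheory CategoryTheory.Limits AlgebraicGeometry Topology TopologicalSpace IsLocalRing

namespace Groth.Agent.Lib.Helper22.UAC

open Groth.Agent.Lib.Helper22.SC

section PI

theorem isGeomReducedAt_of_purelyInseparable {k : Type u} [Field k] {Z : Scheme.{u}}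
    (φ : Z ⟶ Spec (CommRingCat.of k)) (z : Z)
    (h : ∀ (k' : Type u) [Field k'] [Algebra k k'] [FiniteDimensional k k']
      [IsPurelyInseparable k k'] (x' : ↥(FBase.bc φ k')), (FBase.bcπ φ k').base x' = z →
        IsReduced ((FBase.bc φ k').presheaf.stalk x')) : FBase.IsGeomReducedAt φ z := by
  letI : Z.Over (Spec (CommRingCat.of k)) := ⟨φ⟩
  haveI h1 := Groth.Agent.Lib.Helper6.BcRed.isGeometricallyReduced_stalk_of_purelyInseparable k Z z
    (fun k' _ _ _ _ x' hx' => h k' x' hx')
  have h2 := Groth.Agent.Lib.Helper6.BcRed.isGeomReducedAt_of_isGeometricallyReduced_stalk k Z z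
  exact fun K _ _ x' hx' => h2 K x' hx'

/-- base change along a purely inseparable field extension is injective on points -/
theorem injective_bcπ_of_isPurelyInseparable {k : Type u} [Field k] {Z : Scheme.{u}}
    (φ : Z ⟶ Spec (CommRingCat.of k)) (k' : Type u) [Field k'] [Algebra k k']
    [IsPurelyInseparable k k'] : Function.Injective (FBase.bcπ φ k').base := by
  haveI : UniversallyInjective (Spec.map (CommRingCat.ofHom (algebraMap k k'))) := by
    have := (tfae_universallyInjective (Spec.map (CommRingCat.ofHom (algebraMap k k')))).out 0 1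
    rw [this]
    intro K _ g₁ g₂ hg
    dsimp only at hg
    obtain ⟨ψ₁, rfl⟩ := Spec.map_surjective g₁
    obtain ⟨ψ₂, rfl⟩ := Spec.map_surjective g₂
    rw [← Spec.map_comp, ← Spec.map_comp] at hg
    have hg' := Spec.map_injective hg
    congr 1
    apply CommRingCat.hom_ext
    have h3 : ψ₁.hom.comp (algebraMap k k') = ψ₂.hom.comp (algebraMap k k') := by
      have := congrArg CommRingCat.Hom.hom hg'
      simpa using this
    exact IsPurelyInseparable.injective_comp_algebraMap k k' K h3
  haveI : UniversallyInjective (FBase.bcπ φ k') := by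
    unfold FBase.bcπ
    exact MorphismProperty.of_isPullback (P := @UniversallyInjective)
      (IsPullback.of_hasPullback φ (Spec.map (CommRingCat.ofHom (algebraMap k k')))).flip
      inferInstance
  exact (FBase.bcπ φ k').injective

end PI

section OI

theorem away_of_dvr {L : Type u} [Field L] (V : ValuationSubring L)
    [IsDiscreteValuationRing V] {ϖ : V} (hϖ : Irreducible ϖ) : IsLocalization.Away ϖ L := by
  haveI h1 : IsLocalization (nonZeroDivisors V) (Localization.Away ϖ) := by
    refine IsLocalization.of_le_of_exists_dvd (Submonoid.powers ϖ) (nonZeroDivisors V) ?_ ?_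
    · rw [Submonoid.powers_le]
      exact mem_nonZeroDivisors_of_ne_zero hϖ.ne_zero
    · intro n hn
      have hn0 : n ≠ 0 := nonZeroDivisors.ne_zero hn
      obtain ⟨a, u, hu⟩ := IsDiscreteValuationRing.eq_unit_mul_pow_irreducible hn0 hϖ
      refine ⟨ϖ ^ a, ⟨a, rfl⟩, ?_⟩
      rw [hu]
      exact ⟨(↑u⁻¹ : V), by rw [mul_comm (↑u) (ϖ ^ a), mul_assoc, Units.mul_inv, mul_one]⟩
  let e : Localization.Away ϖ ≃ₐ[V] L := IsLocalization.algEquiv (nonZeroDivisors V) _ _
  exact IsLocalization.isLocalization_of_algEquiv (Submonoid.powers ϖ) e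

/-- the generic point of a discrete valuation ring is open -/
theorem isOpenImmersion_SpecMap_subtype {L : Type u} [Field L] (V : ValuationSubring L)
    [IsDiscreteValuationRing V] : IsOpenImmersion (Spec.map (CommRingCat.ofHom V.subtype)) := by
  obtain ⟨ϖ, hϖ⟩ := IsDiscreteValuationRing.exists_irreducible V
  haveI := away_of_dvr V hϖ
  exact IsOpenImmersion.of_isLocalization (R := V) (S := L) ϖ

theorem SpecMap_subtype_closedPoint {L : Type u} [Field L] (V : ValuationSubring L)
    [IsDiscreteValuationRing V] :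
    Spec.map (CommRingCat.ofHom V.subtype) (closedPoint L : Spec (CommRingCat.of L)) = genPt V := by
  apply PrimeSpectrum.ext
  show Ideal.comap V.subtype (maximalIdeal L) = ⊥
  rw [IsLocalRing.maximalIdeal_eq_bot, ← RingHom.ker_eq_comap_bot]
  exact (RingHom.injective_iff_ker_eq_bot _).mp Subtype.val_injective

end OI

section Transfer

variable {X Y : Scheme.{u}} (f : X ⟶ Y) (η : Y) {k' : Type u} [Field k']
  [Algebra (IsLocalRing.ResidueField (Y.presheaf.stalk η)) k'] (V : ValuationSubring k') [IsDiscreteValuationRing V]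
  (g : Spec (CommRingCat.of V) ⟶ Y)

/-- the generic fibre of the base change to a trait, as the base change of the fibre over `η` -/
theorem exists_openImmersion_bc
    (hj : Spec.map (CommRingCat.ofHom V.subtype) ≫ g =
      Spec.map (CommRingCat.ofHom (algebraMap (IsLocalRing.ResidueField (Y.presheaf.stalk η)) k')) ≫
        Y.fromSpecResidueField η) :
    ∃ κ : FBase.bc (f.fiberToSpecResidueField η) k' ⟶ pullback f g, IsOpenImmersion κ ∧
      κ ≫ pullback.fst f g = FBase.bcπ (f.fiberToSpecResidueField η) k' ≫ f.fiberι η ∧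
      IsPullback κ (FBase.bcStr (f.fiberToSpecResidueField η) k') (pullback.snd f g)
        (Spec.map (CommRingCat.ofHom V.subtype)) := by
  set φη := f.fiberToSpecResidueField η with hφη
  have sq1 : IsPullback (FBase.bcπ φη k') (FBase.bcStr φη k') φη
      (Spec.map (CommRingCat.ofHom (algebraMap (IsLocalRing.ResidueField (Y.presheaf.stalk η)) k'))) :=
    IsPullback.of_hasPullback _ _
  have sq2 : IsPullback (f.fiberι η) φη f (Y.fromSpecResidueField η) :=
    IsPullback.of_hasPullback _ _
  have sqL0 := sq1.paste_horiz sq2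
  have sqL : IsPullback (FBase.bcπ φη k' ≫ f.fiberι η) (FBase.bcStr φη k') f
      (Spec.map (CommRingCat.ofHom V.subtype) ≫ g) := by
    rw [hj]; exact sqL0
  let κ : FBase.bc φη k' ⟶ pullback f g :=
    pullback.lift (FBase.bcπ φη k' ≫ f.fiberι η)
      (FBase.bcStr φη k' ≫ Spec.map (CommRingCat.ofHom V.subtype))
      (by rw [Category.assoc]; exact sqL.w)
  have hκ1 : κ ≫ pullback.fst f g = FBase.bcπ φη k' ≫ f.fiberι η := pullback.lift_fst _ _ _
  have hκ2 : κ ≫ pullback.snd f g =
      FBase.bcStr φη k' ≫ Spec.map (CommRingCat.ofHom V.subtype) := pullback.lift_snd _ _ _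
  have sqκ : IsPullback κ (FBase.bcStr φη k') (pullback.snd f g)
      (Spec.map (CommRingCat.ofHom V.subtype)) := by
    refine IsPullback.of_right (h₁₂ := pullback.fst f g) (h₂₂ := g) (v₁₃ := f) ?_ hκ2
      (IsPullback.of_hasPullback f g)
    rw [hκ1]
    exact sqL
  haveI := isOpenImmersion_SpecMap_subtype V
  have hoi : IsOpenImmersion κ :=
    MorphismProperty.of_isPullback (P := @IsOpenImmersion) sqκ.flip inferInstance
  exact ⟨κ, hoi, hκ1, sqκ⟩

end Transfer

end Groth.Agent.Lib.Helper22.UAC
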