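import Mathlib
import Groth.Prelude.Def_EGA43
import Groth.Prelude.Def_FDesc
import Groth.Prelude.Def_Flat
import Groth.Agent.Lib.Helper22UAC6

set_option autoImplicit false
set_option linter.style.haveILetI false
universe u
open CategoryTheory CategoryTheory.Limits AlgebraicGeometry Topology TopologicalSpace IsLocalRing

namespace Groth.Agent.Lib.Helper22.UAC

open Groth.Agent.Lib.Helper22.SC

section PartII

variable {X Y : Scheme.{u}} [IsLocallyNoetherian Y] [IrreducibleSpace Y] {f : X ⟶ Y}
  [LocallyOfFiniteType f]

/-- **EGA IV 15.6.3 (ii)**: the generic fibre is geometrically reduced at the generic point of an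
admissible component. -/
theorem Adm.isGeomReducedAt {x ζ₀ : X} (hG : IsGenFib f x ζ₀)
    {X' : TopologicalSpace.Closeds X} (h : Adm f x X')
    (ζ : ↥(f.fiber (genericPoint Y)))
    (hζ : closure {(f.fiberι (genericPoint Y)).base ζ} = (X' : Set X)) :
    FBase.IsGeomReducedAt (f.fiberToSpecResidueField (genericPoint Y)) ζ := by
  have hemb := (f.fiberι (genericPoint Y)).isEmbedding
  by_cases hy : (genericPoint Y) = f x
  · have h1 := h.coe_eq_closure_of_generic hG hy
    rw [← hζ] at h1
    have h2 : (f.fiberι (genericPoint Y)).base ζ = ζ₀ := by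
      have s1 : (f.fiberι (genericPoint Y)).base ζ ⤳ ζ₀ := by
        rw [specializes_iff_mem_closure, h1]; exact subset_closure rfl
      have s2 : ζ₀ ⤳ (f.fiberι (genericPoint Y)).base ζ := by
        rw [specializes_iff_mem_closure, ← h1]; exact subset_closure rfl
      exact (s1.antisymm s2).eq
    have hfζ₀ : f ζ₀ = (genericPoint Y) := hG.hf.trans hy.symm
    have h3 := (gRAt_iff f ζ₀ (genericPoint Y) hfζ₀).mp hG.gr
    have h4 : (f.fiberHomeo (genericPoint Y)).symm ⟨ζ₀, hfζ₀⟩ = ζ := by
      apply hemb.injective
      rw [Scheme.Hom.fiberι_fiberHomeo_symm]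
      exact h2.symm
    rw [h4] at h3
    exact h3
  · apply isGeomReducedAt_of_purelyInseparable
    intro k' _ _ _ _ x' hx'
    have hφ : (CommRingCat.ofHom (algebraMap (IsLocalRing.ResidueField (Y.presheaf.stalk (genericPoint Y))) k') :
        Y.residueField (genericPoint Y) ⟶ CommRingCat.of k').hom.EssFiniteType := by
      apply RingHom.FiniteType.essFiniteType
      apply RingHom.Finite.finiteType
      exact RingHom.finite_algebraMap.mpr inferInstance
    obtain ⟨V, hV, g, hj, hgc, hgg⟩ := exists_trait (f x) hy _ hφ
    have hgen : ∀ y : Y, y ⤳ g (genPt V) → y = g (genPt V) := by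
      intro y hy'
      rw [hgg] at hy' ⊢
      exact genericPoint_maximal y hy'
    obtain ⟨ζA, hζ1, hζ2, hζmax⟩ := exists_maximal_point f g hG hgc
    obtain ⟨θ, hθ, hne, hθ2, hcl⟩ := exists_generization_adm hG.gr hgen ζA hζ1 hζ2 hζmax X' h.1
      (h.mem hG) (fun w hw => h.isUnivOpenAt hG w hw)
    obtain ⟨-, -, hred⟩ := generization_unique_pullback hG.gr ζA hζ1 hζ2 hζmax θ hθ hne
    have hfst : pullback.fst f g θ = (f.fiberι (genericPoint Y)).base ζ := by
      rw [← hζ] at hcl
      have s1 : pullback.fst f g θ ⤳ (f.fiberι (genericPoint Y)).base ζ := by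
        rw [specializes_iff_mem_closure, hcl]; exact subset_closure rfl
      have s2 : (f.fiberι (genericPoint Y)).base ζ ⤳ pullback.fst f g θ := by
        rw [specializes_iff_mem_closure, ← hcl]; exact subset_closure rfl
      exact (s1.antisymm s2).eq
    obtain ⟨κ, hoi, hκ1, sqκ⟩ := exists_openImmersion_bc f (genericPoint Y) V g hj
    have hpt : pullback.snd f g θ = Spec.map (CommRingCat.ofHom V.subtype)
        (closedPoint k' : Spec (CommRingCat.of k')) := by
      rw [SpecMap_subtype_closedPoint, hθ2]
    obtain ⟨x'', hx''1, -⟩ := exists_preimage_of_isPullback sqκ θ _ hpt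
    have h5 : (FBase.bcπ (f.fiberToSpecResidueField (genericPoint Y)) k').base x'' = ζ := by
      apply hemb.injective
      have := congrArg (fun m => m.base x'') hκ1
      simp only [Scheme.Hom.comp_base, TopCat.hom_comp, ContinuousMap.comp_apply] at this
      rw [← this]
      exact (congrArg (pullback.fst f g).base hx''1).trans hfst
    have h6 : x'' = x' :=
      injective_bcπ_of_isPurelyInseparable (f.fiberToSpecResidueField (genericPoint Y)) k' (h5.trans hx'.symm)
    subst h6
    haveI : IsIso (κ.stalkMap x'') := inferInstance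
    let e := (asIso (κ.stalkMap x'')).commRingCatIsoToRingEquiv
    rw [← hx''1] at hred
    exact isReduced_of_injective e.symm.toRingHom e.symm.injective

end PartII

end Groth.Agent.Lib.Helper22.UAC
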