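import Mathlib

set_option autoImplicit false
set_option linter.style.haveILetI false
set_option linter.unusedSectionVars false
set_option linter.unusedVariables false
universe u

open AlgebraicGeometry CategoryTheory Limits TopologicalSpace Opposite

namespace Groth.Agent.Lib.Helper22.UFO

/-- finiteness transported along an isomorphism of the ambient scheme -/
theorem isFinite_preimage_ι_comp {P Q S : Scheme.{u}} (Φ : P ⟶ Q) [IsIso Φ] (U : Q.Opens)
    (s : Q ⟶ S) (s' : P ⟶ S) (hs : Φ ≫ s = s') (h : IsFinite (U.ι ≫ s)) :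
    IsFinite ((Φ ⁻¹ᵁ U).ι ≫ s') := by
  have e : (Φ ⁻¹ᵁ U).ι ≫ s' = (Φ ∣_ U) ≫ (U.ι ≫ s) := by
    rw [← hs, ← Category.assoc, ← morphismRestrict_ι, Category.assoc]
  rw [e]
  infer_instance

theorem transport {X Y Y₀ : Scheme.{u}} (f : X ⟶ Y) (eY : Y ≅ Y₀) (f₁ : X ⟶ Y₀)
    (hf₁ : f ≫ eY.hom = f₁)
    (h : ∃ (Yu : Scheme.{u}) (a₀ : Yu ⟶ Y₀) (Uu : (pullback f₁ a₀).Opens),
      LocallyOfFinitePresentation a₀ ∧ QuasiCompact a₀ ∧ QuasiSeparated a₀ ∧
      IsFinite (Uu.ι ≫ pullback.snd f₁ a₀) ∧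
      ∀ (R : CommRingCat.{u}) (b₀ : Spec R ⟶ Y₀) (U' : (pullback f₁ b₀).Opens),
        IsFinite (U'.ι ≫ pullback.snd f₁ b₀) →
        ∃ (c : Spec R ⟶ Yu) (hc : c ≫ a₀ = b₀),
          (pullback.map f₁ b₀ f₁ a₀ (𝟙 X) c (𝟙 Y₀)
            ((Category.comp_id _).trans (Category.id_comp _).symm)
            ((Category.comp_id b₀).trans hc.symm)) ⁻¹ᵁ Uu = U') :
    ∃ (Yu : Scheme.{u}) (a : Yu ⟶ Y) (Uu : (pullback f a).Opens),
      LocallyOfFinitePresentation a ∧ QuasiCompact a ∧ QuasiSeparated a ∧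
      IsFinite (Uu.ι ≫ pullback.snd f a) ∧
      ∀ (Y' : Scheme.{u}) (b : Y' ⟶ Y) (U' : (pullback f b).Opens), IsAffine Y' →
        IsFinite (U'.ι ≫ pullback.snd f b) →
        ∃ (c : Y' ⟶ Yu) (hc : c ≫ a = b),
          (pullback.map f b f a (𝟙 X) c (𝟙 Y)
            ((Category.comp_id f).trans (Category.id_comp f).symm)
            ((Category.comp_id b).trans hc.symm)) ⁻¹ᵁ Uu = U' := by
  subst hf₁
  obtain ⟨Yu, a₀, Uu, hlfp, hqc, hqs, hfin, huniv⟩ := h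
  let Φa : pullback f (a₀ ≫ eY.inv) ⟶ pullback (f ≫ eY.hom) a₀ :=
    pullback.map f (a₀ ≫ eY.inv) (f ≫ eY.hom) a₀ (𝟙 X) (𝟙 Yu) eY.hom (by simp) (by simp)
  haveI : IsIso Φa := by dsimp only [Φa]; infer_instance
  refine ⟨Yu, a₀ ≫ eY.inv, Φa ⁻¹ᵁ Uu, inferInstance, inferInstance, inferInstance, ?_, ?_⟩
  · exact isFinite_preimage_ι_comp Φa Uu _ _ (by simp only [Φa]; rw [pullback.map, pullback.lift_snd, Category.comp_id]) hfin
  · intro Y' b U' hY' hU'
    let e' : Y' ≅ Spec Γ(Y', ⊤) := Y'.isoSpec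
    let b₀ : Spec Γ(Y', ⊤) ⟶ Y₀ := e'.inv ≫ b ≫ eY.hom
    let Φb : pullback f b ⟶ pullback (f ≫ eY.hom) b₀ :=
      pullback.map f b (f ≫ eY.hom) b₀ (𝟙 X) e'.hom eY.hom (by simp) (by simp [b₀])
    haveI : IsIso Φb := by dsimp only [Φb]; infer_instance
    have hfin' : IsFinite (((inv Φb) ⁻¹ᵁ U').ι ≫ pullback.snd (f ≫ eY.hom) b₀) := by
      have h1 : IsFinite (U'.ι ≫ (pullback.snd f b ≫ e'.hom)) := by
        rw [← Category.assoc]; infer_instance
      refine isFinite_preimage_ι_comp (inv Φb) U' (pullback.snd f b ≫ e'.hom) _ ?_ h1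
      rw [IsIso.inv_comp_eq]
      simp only [Φb]; rw [pullback.map, pullback.lift_snd]
    obtain ⟨c₀, hc₀, hpre⟩ := huniv Γ(Y', ⊤) b₀ ((inv Φb) ⁻¹ᵁ U') hfin'
    have hc : (e'.hom ≫ c₀) ≫ a₀ ≫ eY.inv = b := by
      rw [Category.assoc, ← Category.assoc c₀, hc₀]
      simp [b₀]
    refine ⟨e'.hom ≫ c₀, hc, ?_⟩
    have hcomm : pullback.map f b f (a₀ ≫ eY.inv) (𝟙 X) (e'.hom ≫ c₀) (𝟙 Y)
        ((Category.comp_id f).trans (Category.id_comp f).symm)
        ((Category.comp_id b).trans hc.symm) ≫ Φa =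
        Φb ≫ pullback.map (f ≫ eY.hom) b₀ (f ≫ eY.hom) a₀ (𝟙 X) c₀ (𝟙 Y₀)
            ((Category.comp_id _).trans (Category.id_comp _).symm)
            ((Category.comp_id b₀).trans hc₀.symm) := by
      apply pullback.hom_ext
      · simp only [Φa, Φb, pullback.map, Category.assoc, pullback.lift_fst, Category.comp_id]
      · simp only [Φa, Φb, pullback.map, Category.assoc, pullback.lift_snd, pullback.lift_snd_assoc,
          Category.comp_id]
    rw [← Scheme.Hom.comp_preimage, hcomm, Scheme.Hom.comp_preimage, hpre,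
      ← Scheme.Hom.comp_preimage, IsIso.hom_inv_id]
    rfl

end Groth.Agent.Lib.Helper22.UFO
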