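import Mathlib

set_option autoImplicit false
set_option linter.style.haveILetI false
set_option linter.unusedSectionVars false
set_option linter.unusedVariables false
universe u

open AlgebraicGeometry CategoryTheory Limits TopologicalSpace Opposite TensorProduct

namespace Groth.Agent.Lib.Helper22.UFO

section

variable {A B : Type u} [CommRing A] [CommRing B] [Algebra A B] {X : Scheme.{u}}
  (j : X ⟶ Spec (.of B))

/-- the structure morphism -/
noncomputable abbrev f₀ : X ⟶ Spec (.of A) := j ≫ Spec.map (CommRingCat.ofHom (algebraMap A B))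

variable (A) in
/-- the test morphism -/
noncomputable abbrev bR (R : Type u) [CommRing R] [Algebra A R] : Spec (.of R) ⟶ Spec (.of A) :=
  Spec.map (CommRingCat.ofHom (algebraMap A R))

/-- the open immersion of the base change of `X` into `Spec (B ⊗ R)` -/
noncomputable def jR (R : Type u) [CommRing R] [Algebra A R] :
    pullback (f₀ (A := A) j) (bR A R) ⟶ Spec (.of (B ⊗[A] R)) :=
  pullback.map (f₀ (A := A) j) (bR A R) (Spec.map (CommRingCat.ofHom (algebraMap A B))) (bR A R)
    j (𝟙 _) (𝟙 _) (by simp) (by simp) ≫ (pullbackSpecIso A B R).hom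

instance (R : Type u) [CommRing R] [Algebra A R] [IsOpenImmersion j] :
    IsOpenImmersion (jR (A := A) j R) := by
  unfold jR
  infer_instance

theorem jR_snd (R : Type u) [CommRing R] [Algebra A R] :
    jR (A := A) j R ≫ Spec.map (CommRingCat.ofHom
      (Algebra.TensorProduct.includeRight : R →ₐ[A] B ⊗[A] R).toRingHom) =
      pullback.snd (f₀ (A := A) j) (bR A R) := by
  unfold jR
  rw [Category.assoc]
  erw [pullbackSpecIso_hom_snd]
  rw [pullback.map, pullback.lift_snd, Category.comp_id]

theorem jR_fst (R : Type u) [CommRing R] [Algebra A R] :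
    jR (A := A) j R ≫ Spec.map (CommRingCat.ofHom
      (Algebra.TensorProduct.includeLeftRingHom : B →+* B ⊗[A] R)) =
      pullback.fst (f₀ (A := A) j) (bR A R) ≫ j := by
  unfold jR
  rw [Category.assoc, pullbackSpecIso_hom_fst, pullback.map, pullback.lift_fst]

theorem range_jR (R : Type u) [CommRing R] [Algebra A R] :
    Set.range (jR (A := A) j R) = (Spec.map (CommRingCat.ofHom
      (Algebra.TensorProduct.includeLeftRingHom : B →+* B ⊗[A] R))) ⁻¹' Set.range j := by
  have hfst := jR_fst (A := A) j R
  apply Set.Subset.antisymm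
  · rintro _ ⟨x, rfl⟩
    refine ⟨(pullback.fst (f₀ (A := A) j) (bR A R)) x, ?_⟩
    rw [← Scheme.Hom.comp_apply, ← Scheme.Hom.comp_apply, hfst]
  · intro y hy
    let y' := (pullbackSpecIso A B R).inv y
    have h1 : (pullback.fst (Spec.map (CommRingCat.ofHom (algebraMap A B))) (bR A R)) y' = Spec.map (CommRingCat.ofHom
        (Algebra.TensorProduct.includeLeftRingHom : B →+* B ⊗[A] R)) y := by
      rw [← Scheme.Hom.comp_apply, pullbackSpecIso_inv_fst]
    have h2 : y' ∈ Set.range (pullback.map (f₀ (A := A) j) (bR A R)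
        (Spec.map (CommRingCat.ofHom (algebraMap A B))) (bR A R)
        j (𝟙 _) (𝟙 _) (by simp) (by simp)) := by
      rw [Scheme.Pullback.range_map]
      refine ⟨?_, ?_⟩
      · show (pullback.fst (Spec.map (CommRingCat.ofHom (algebraMap A B))) (bR A R)) y' ∈ Set.range j
        rw [h1]; exact hy
      · simp
    obtain ⟨x, hx⟩ := h2
    refine ⟨x, ?_⟩
    unfold jR
    rw [Scheme.Hom.comp_apply, hx]
    simp [y']

theorem hom_ext_tensor (R : Type u) [CommRing R] [Algebra A R] {Z : Scheme.{u}}
    (h₁ h₂ : Z ⟶ Spec (.of (B ⊗[A] R)))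
    (hl : h₁ ≫ Spec.map (CommRingCat.ofHom
      (Algebra.TensorProduct.includeLeftRingHom : B →+* B ⊗[A] R)) =
      h₂ ≫ Spec.map (CommRingCat.ofHom
      (Algebra.TensorProduct.includeLeftRingHom : B →+* B ⊗[A] R)))
    (hr : h₁ ≫ Spec.map (CommRingCat.ofHom
      (Algebra.TensorProduct.includeRight : R →ₐ[A] B ⊗[A] R).toRingHom) =
      h₂ ≫ Spec.map (CommRingCat.ofHom
      (Algebra.TensorProduct.includeRight : R →ₐ[A] B ⊗[A] R).toRingHom)) : h₁ = h₂ := by
  rw [← cancel_mono (pullbackSpecIso A B R).inv]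
  apply pullback.hom_ext
  · rw [Category.assoc, Category.assoc, pullbackSpecIso_inv_fst]
    exact hl
  · rw [Category.assoc, Category.assoc]
    erw [pullbackSpecIso_inv_snd]
    exact hr

theorem bR_comp (R R' : Type u) [CommRing R] [Algebra A R] [CommRing R'] [Algebra A R']
    (ψ : R →ₐ[A] R') : Spec.map (CommRingCat.ofHom ψ.toRingHom) ≫ bR A R = bR A R' := by
  unfold bR
  rw [← Spec.map_comp]
  congr 1
  ext a
  exact ψ.commutes a

theorem jR_natural (R R' : Type u) [CommRing R] [Algebra A R] [CommRing R'] [Algebra A R']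
    (ψ : R →ₐ[A] R') :
    pullback.map (f₀ (A := A) j) (bR A R') (f₀ (A := A) j) (bR A R) (𝟙 X)
      (Spec.map (CommRingCat.ofHom ψ.toRingHom)) (𝟙 _) (by simp)
      (by rw [Category.comp_id, bR_comp]) ≫ jR (A := A) j R =
    jR (A := A) j R' ≫ Spec.map (CommRingCat.ofHom
      (Algebra.TensorProduct.map (AlgHom.id A B) ψ).toRingHom) := by
  apply hom_ext_tensor
  · rw [Category.assoc, jR_fst, pullback.map, pullback.lift_fst_assoc, Category.comp_id,
      Category.assoc, ← Spec.map_comp]
    have : CommRingCat.ofHom (Algebra.TensorProduct.includeLeftRingHom : B →+* B ⊗[A] R) ≫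
        CommRingCat.ofHom (Algebra.TensorProduct.map (AlgHom.id A B) ψ).toRingHom =
        CommRingCat.ofHom (Algebra.TensorProduct.includeLeftRingHom : B →+* B ⊗[A] R') := by
      ext b
      simp
    rw [this, jR_fst]
  · rw [Category.assoc, jR_snd, pullback.map, pullback.lift_snd,
      Category.assoc, ← Spec.map_comp]
    have : CommRingCat.ofHom
        (Algebra.TensorProduct.includeRight : R →ₐ[A] B ⊗[A] R).toRingHom ≫
        CommRingCat.ofHom (Algebra.TensorProduct.map (AlgHom.id A B) ψ).toRingHom =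
        CommRingCat.ofHom ψ.toRingHom ≫ CommRingCat.ofHom
        (Algebra.TensorProduct.includeRight : R' →ₐ[A] B ⊗[A] R').toRingHom := by
      ext b
      simp
    rw [this, Spec.map_comp, ← Category.assoc, jR_snd]

end

end Groth.Agent.Lib.Helper22.UFO
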