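import Mathlib
import Groth.Agent.S1458

set_option autoImplicit false
set_option linter.style.haveILetI false
set_option linter.unusedSectionVars false
set_option linter.unusedVariables false
universe u

namespace Groth.Agent.Lib.Helper22.UnivIdem

open Groth.Agent.S1458

open TensorProduct in
/-- weakly universal idempotent lying in the ideal generated by `g i ⊗ 1`. -/
theorem univ_idem {A B : Type u} [CommRing A] [CommRing B] [Algebra A B] [Module.Finite A B]
    [Algebra.FinitePresentation A B] {ρ : ℕ} (g : Fin ρ → B) :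
    ∃ (Au : Type u) (_ : CommRing Au) (_ : Algebra A Au) (eu : B ⊗[A] Au),
      Algebra.FinitePresentation A Au ∧ IsIdempotentElem eu ∧
      (∃ w : Fin ρ → B ⊗[A] Au, eu = ∑ p, w p * (g p ⊗ₜ[A] (1 : Au))) ∧
      ∀ (A' : Type u) [CommRing A'] [Algebra A A'] (e : B ⊗[A] A'), IsIdempotentElem e →
        (∃ w : Fin ρ → B ⊗[A] A', e = ∑ p, w p * (g p ⊗ₜ[A] (1 : A'))) →
        ∃ φ : Au →ₐ[A] A', Algebra.TensorProduct.map (AlgHom.id A B) φ eu = e := by
  classical
  have hfp : Module.FinitePresentation A B :=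
    Module.FinitePresentation.of_finite_of_finitePresentation A B
  obtain ⟨n, b, hb⟩ := Module.Finite.exists_fin (R := A) (M := B)
  have hπ : Function.Surjective (Fintype.linearCombination A b) := by
    rw [← LinearMap.range_eq_top, Fintype.range_linearCombination, hb]
  have hK : (LinearMap.ker (Fintype.linearCombination A b)).FG :=
    Module.FinitePresentation.fg_ker _ hπ
  obtain ⟨m, r, hr⟩ := Submodule.fg_iff_exists_fin_generating_family.1 hK
  have hc' : ∀ i j, ∃ v : Fin n → A, Fintype.linearCombination A b v = b i * b j :=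
    fun i j => hπ _
  choose c hc using hc'
  have hc2 : ∀ i j, b i * b j = ∑ k, c i j k • b k := by
    intro i j
    rw [← hc i j, Fintype.linearCombination_apply]
  have hrb : ∀ l, ∑ k, r l k • b k = 0 := by
    intro l
    have : r l ∈ LinearMap.ker (Fintype.linearCombination A b) := by
      rw [← hr]; exact Submodule.subset_span ⟨l, rfl⟩
    rw [LinearMap.mem_ker, Fintype.linearCombination_apply] at this
    exact this
  have hgam' : ∀ p, ∃ v : Fin n → A, Fintype.linearCombination A b v = g p := fun p => hπ _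
  choose gam hgam using hgam'
  have hgam2 : ∀ p, g p = ∑ j, gam p j • b j := by
    intro p
    rw [← hgam p, Fintype.linearCombination_apply]
  -- the key formula for `g p ⊗ 1`
  have hg1 : ∀ (A' : Type u) [CommRing A'] [Algebra A A'] (p : Fin ρ),
      g p ⊗ₜ[A] (1 : A') = ∑ j, b j ⊗ₜ[A] (algebraMap A A' (gam p j)) := by
    intro A' _ _ p
    rw [hgam2 p, TensorProduct.sum_tmul]
    refine Finset.sum_congr rfl fun j _ => ?_
    rw [TensorProduct.smul_tmul, Algebra.smul_def, mul_one]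
  -- the key formula for `∑ p, w p * (g p ⊗ 1)`
  have hsum : ∀ (A' : Type u) [CommRing A'] [Algebra A A'] (v : Fin ρ → Fin n → A'),
      ∑ p, (∑ i, b i ⊗ₜ[A] v p i) * (g p ⊗ₜ[A] (1 : A')) =
        ∑ k, b k ⊗ₜ[A] (∑ p, ∑ i, ∑ j, c i j k • (v p i * algebraMap A A' (gam p j))) := by
    intro A' _ _ v
    have h1 : ∀ p, (∑ i, b i ⊗ₜ[A] v p i) * (g p ⊗ₜ[A] (1 : A')) =
        ∑ k, b k ⊗ₜ[A] (∑ i, ∑ j, c i j k • (v p i * algebraMap A A' (gam p j))) := by
      intro p
      rw [hg1 A' p, theta_mul b c hc2 A' (v p) (fun j => algebraMap A A' (gam p j))]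
    simp_rw [h1]
    rw [Finset.sum_comm]
    refine Finset.sum_congr rfl fun k _ => ?_
    rw [TensorProduct.tmul_sum]
  -- a relation killed by tensoring
  have hkill : ∀ (A' : Type u) [CommRing A'] [Algebra A A'] (y : Fin m → A'),
      ∑ k, b k ⊗ₜ[A] (∑ l, r l k • y l) = 0 := by
    intro A' _ _ y
    simp_rw [TensorProduct.tmul_sum]
    rw [Finset.sum_comm]
    refine Finset.sum_eq_zero fun l _ => ?_
    have : ∀ k, b k ⊗ₜ[A] (r l k • y l) = (r l k • b k) ⊗ₜ[A] y l := by
      intro k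
      rw [TensorProduct.smul_tmul]
    simp_rw [this]
    rw [← TensorProduct.sum_tmul, hrb, TensorProduct.zero_tmul]
  let σ := (Fin n ⊕ Fin m) ⊕ ((Fin ρ × Fin n) ⊕ Fin m)
  let P := MvPolynomial σ A
  let X1 : Fin n → P := fun i => MvPolynomial.X (Sum.inl (Sum.inl i))
  let Y1 : Fin m → P := fun l => MvPolynomial.X (Sum.inl (Sum.inr l))
  let U : Fin ρ → Fin n → P := fun p i => MvPolynomial.X (Sum.inr (Sum.inl (p, i)))
  let Y2 : Fin m → P := fun l => MvPolynomial.X (Sum.inr (Sum.inr l))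
  let rel1 : Fin n → P := fun k =>
    (∑ i, ∑ j, c i j k • (X1 i * X1 j)) - X1 k - ∑ l, r l k • Y1 l
  let rel2 : Fin n → P := fun k =>
    X1 k - (∑ p, ∑ i, ∑ j, c i j k • (U p i * algebraMap A P (gam p j))) - ∑ l, r l k • Y2 l
  let J : Ideal P := Ideal.span (Set.range rel1 ∪ Set.range rel2)
  have hJ : J.FG :=
    ⟨((Set.finite_range rel1).union (Set.finite_range rel2)).toFinset, by simp [J]⟩
  let x : Fin n → P ⧸ J := fun i => Ideal.Quotient.mk J (X1 i)
  let y1 : Fin m → P ⧸ J := fun l => Ideal.Quotient.mk J (Y1 l)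
  let uu : Fin ρ → Fin n → P ⧸ J := fun p i => Ideal.Quotient.mk J (U p i)
  let y2 : Fin m → P ⧸ J := fun l => Ideal.Quotient.mk J (Y2 l)
  have hsm : ∀ (a : A) (p : P), Ideal.Quotient.mk J (a • p) = a • Ideal.Quotient.mk J p :=
    fun a p => map_smul (Ideal.Quotient.mkₐ A J) a p
  have halg : ∀ a : A, Ideal.Quotient.mk J (algebraMap A P a) = algebraMap A (P ⧸ J) a :=
    fun a => rfl
  have hrel1 : ∀ k, (∑ i, ∑ j, c i j k • (x i * x j)) = x k + ∑ l, r l k • y1 l := by
    intro k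
    have h0 : Ideal.Quotient.mk J (rel1 k) = 0 :=
      Ideal.Quotient.eq_zero_iff_mem.2 (Ideal.subset_span (Or.inl ⟨k, rfl⟩))
    have h1 : Ideal.Quotient.mk J (rel1 k) =
        (∑ i, ∑ j, c i j k • (x i * x j)) - x k - ∑ l, r l k • y1 l := by
      simp only [rel1, x, y1, map_sub, map_sum, hsm, map_mul]
    rw [h1, sub_sub, sub_eq_zero] at h0
    exact h0
  have hrel2 : ∀ k, x k = (∑ p, ∑ i, ∑ j, c i j k • (uu p i * algebraMap A (P ⧸ J) (gam p j))) +
      ∑ l, r l k • y2 l := by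
    intro k
    have h0 : Ideal.Quotient.mk J (rel2 k) = 0 :=
      Ideal.Quotient.eq_zero_iff_mem.2 (Ideal.subset_span (Or.inr ⟨k, rfl⟩))
    have h1 : Ideal.Quotient.mk J (rel2 k) =
        x k - (∑ p, ∑ i, ∑ j, c i j k • (uu p i * algebraMap A (P ⧸ J) (gam p j))) -
          ∑ l, r l k • y2 l := by
      simp only [rel2, x, y2, uu, map_sub, map_sum, hsm, map_mul, halg]
    rw [h1, sub_sub, sub_eq_zero] at h0
    exact h0
  refine ⟨P ⧸ J, inferInstance, inferInstance, ∑ k, b k ⊗ₜ[A] x k,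
    Algebra.FinitePresentation.quotient hJ, ?_, ?_, ?_⟩
  · -- idempotent
    show (∑ k, b k ⊗ₜ[A] x k) * (∑ k, b k ⊗ₜ[A] x k) = ∑ k, b k ⊗ₜ[A] x k
    rw [theta_mul b c hc2 (P ⧸ J) x x]
    simp_rw [hrel1, TensorProduct.tmul_add, Finset.sum_add_distrib]
    rw [add_eq_left]
    exact hkill (P ⧸ J) y1
  · refine ⟨fun p => ∑ i, b i ⊗ₜ[A] uu p i, ?_⟩
    rw [hsum (P ⧸ J) uu]
    have : ∀ k, b k ⊗ₜ[A] x k = b k ⊗ₜ[A] (∑ p, ∑ i, ∑ j, c i j k •
        (uu p i * algebraMap A (P ⧸ J) (gam p j))) + b k ⊗ₜ[A] (∑ l, r l k • y2 l) := by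
      intro k
      rw [← TensorProduct.tmul_add, ← hrel2 k]
    simp_rw [this, Finset.sum_add_distrib]
    rw [hkill (P ⧸ J) y2, add_zero]
  · intro A' _ _ e he hw
    obtain ⟨w, hw⟩ := hw
    obtain ⟨z, rfl⟩ := theta_surj b hb A' e
    have hv' : ∀ p, ∃ v : Fin n → A', w p = ∑ i, b i ⊗ₜ[A] v i := fun p =>
      theta_surj b hb A' (w p)
    choose v hv using hv'
    have hmul := theta_mul b c hc2 A' z z
    rw [he.eq] at hmul
    have hz0 : ∑ k, b k ⊗ₜ[A] ((∑ i, ∑ j, c i j k • (z i * z j)) - z k) = 0 := by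
      simp_rw [TensorProduct.tmul_sub, Finset.sum_sub_distrib]
      rw [← hmul, sub_self]
    obtain ⟨y1', hy1'⟩ := theta_ker b hb r hr A' _ hz0
    have hz1 : ∑ k, b k ⊗ₜ[A] (z k - ∑ p, ∑ i, ∑ j, c i j k •
        (v p i * algebraMap A A' (gam p j))) = 0 := by
      simp_rw [TensorProduct.tmul_sub, Finset.sum_sub_distrib]
      rw [← hsum A' v, sub_eq_zero, hw]
      refine Finset.sum_congr rfl fun p _ => ?_
      rw [hv p]
    obtain ⟨y2', hy2'⟩ := theta_ker b hb r hr A' _ hz1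
    let ev : σ → A' := Sum.elim (Sum.elim z y1') (Sum.elim (fun q => v q.1 q.2) y2')
    let φ₀ : P →ₐ[A] A' := MvPolynomial.aeval ev
    have hX1 : ∀ i, φ₀ (X1 i) = z i := fun i => MvPolynomial.aeval_X ev _
    have hY1 : ∀ l, φ₀ (Y1 l) = y1' l := fun l => MvPolynomial.aeval_X ev _
    have hU : ∀ p i, φ₀ (U p i) = v p i := fun p i => MvPolynomial.aeval_X ev _
    have hY2 : ∀ l, φ₀ (Y2 l) = y2' l := fun l => MvPolynomial.aeval_X ev _
    have hφ₀ : ∀ a ∈ J, φ₀ a = 0 := by
      intro a ha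
      have hJle : J ≤ RingHom.ker φ₀.toRingHom := by
        rw [Ideal.span_le]
        rintro _ (⟨k, rfl⟩ | ⟨k, rfl⟩)
        · show φ₀ (rel1 k) = 0
          simp only [rel1, map_sub, map_sum, map_smul, map_mul, hX1, hY1]
          rw [sub_eq_zero]
          exact hy1' k
        · show φ₀ (rel2 k) = 0
          simp only [rel2, map_sub, map_sum, map_smul, map_mul, hX1, hY2, hU, AlgHom.commutes]
          rw [sub_eq_zero]
          exact hy2' k
      exact hJle ha
    refine ⟨Ideal.Quotient.liftₐ J φ₀ hφ₀, ?_⟩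
    rw [map_sum]
    refine Finset.sum_congr rfl fun k _ => ?_
    rw [Algebra.TensorProduct.map_tmul]
    simp only [x, AlgHom.id_apply]
    congr 1
    exact hX1 k

end Groth.Agent.Lib.Helper22.UnivIdem
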