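import Mathlib
import Groth.Agent.Lib.Helper22UnivIdem
import Groth.Agent.Lib.Helper22UFOb

set_option autoImplicit false
set_option linter.style.haveILetI false
set_option linter.unusedSectionVars false
set_option linter.unusedVariables false
universe u

open AlgebraicGeometry CategoryTheory Limits TopologicalSpace Opposite TensorProduct

namespace Groth.Agent.Lib.Helper22.UFO

theorem exists_eq_sum_of_basicOpen_subset {C : Type*} [CommRing C] {ρ : ℕ} (e : C)
    (he : IsIdempotentElem e) (h : Fin ρ → C)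
    (hsub : (PrimeSpectrum.basicOpen e : Set (PrimeSpectrum C)) ⊆
      ⋃ p, (PrimeSpectrum.basicOpen (h p) : Set (PrimeSpectrum C))) :
    ∃ w : Fin ρ → C, e = ∑ p, w p * h p := by
  have htop : Ideal.span (insert (1 - e) (Set.range h)) = ⊤ := by
    by_contra hne
    obtain ⟨M, hM, hle⟩ := Ideal.exists_le_maximal _ hne
    let x : PrimeSpectrum C := ⟨M, hM.isPrime⟩
    have h1 : (1 - e) ∈ M := hle (Ideal.subset_span (Set.mem_insert _ _))
    have h2 : e ∉ M := fun he' =>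
      hM.ne_top ((Ideal.eq_top_iff_one _).2 (by simpa using M.add_mem h1 he'))
    have h3 : x ∈ (PrimeSpectrum.basicOpen e : Set (PrimeSpectrum C)) := h2
    obtain ⟨p, hp⟩ := Set.mem_iUnion.1 (hsub h3)
    exact hp (hle (Ideal.subset_span (Set.mem_insert_of_mem _ ⟨p, rfl⟩)))
  have h1 : (1 : C) ∈ Ideal.span (insert (1 - e) (Set.range h)) := by rw [htop]; trivial
  rw [Ideal.mem_span_insert] at h1
  obtain ⟨r, z, hz, h1⟩ := h1
  obtain ⟨c, rfl⟩ := (Ideal.mem_span_range_iff_exists_fun).1 hz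
  refine ⟨fun p => e * c p, ?_⟩
  have he0 : e * (1 - e) = 0 := by rw [mul_sub, mul_one, he.eq, sub_self]
  calc e = e * 1 := (mul_one e).symm
    _ = e * (r * (1 - e) + ∑ p, c p * h p) := by rw [← h1]
    _ = r * (e * (1 - e)) + ∑ p, e * c p * h p := by
      rw [mul_add, Finset.mul_sum]
      congr 1
      · ring
      · exact Finset.sum_congr rfl fun p _ => by ring
    _ = ∑ p, e * c p * h p := by rw [he0, mul_zero, zero_add]

/-- basic open of `Spec C` as an open of the scheme -/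
def DD {C : Type u} [CommRing C] (e : C) : (Spec (.of C)).Opens := PrimeSpectrum.basicOpen e

theorem mem_DD {C : Type u} [CommRing C] (e : C) (x : Spec (.of C)) :
    x ∈ DD e ↔ e ∉ x.asIdeal := Iff.rfl

theorem preimage_DD {C C' : Type u} [CommRing C] [CommRing C'] (ψ : C →+* C') (e : C) :
    (Spec.map (CommRingCat.ofHom ψ)) ⁻¹ᵁ DD e = DD (ψ e) := by
  ext x
  rfl

section

variable {A B : Type u} [CommRing A] [CommRing B] [Algebra A B] {X : Scheme.{u}}
  (j : X ⟶ Spec (.of B)) {ρ : ℕ} (g : Fin ρ → B)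

theorem range_jR' (hj : Set.range j = ⋃ p, (PrimeSpectrum.basicOpen (g p) : Set (PrimeSpectrum B)))
    (R : Type u) [CommRing R] [Algebra A R] :
    Set.range (jR (A := A) j R) =
      ⋃ p, (PrimeSpectrum.basicOpen (g p ⊗ₜ[A] (1 : R)) : Set (PrimeSpectrum (B ⊗[A] R))) := by
  rw [range_jR, hj]
  ext x
  constructor
  · intro hx
    obtain ⟨p, hp⟩ := Set.mem_iUnion.1 (Set.mem_preimage.1 hx)
    exact Set.mem_iUnion.2 ⟨p, hp⟩
  · intro hx
    obtain ⟨p, hp⟩ := Set.mem_iUnion.1 hx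
    exact Set.mem_preimage.2 (Set.mem_iUnion.2 ⟨p, hp⟩)

/-- the test-object step -/
theorem core_test [IsOpenImmersion j]
    (hj : Set.range j = ⋃ p, (PrimeSpectrum.basicOpen (g p) : Set (PrimeSpectrum B)))
    (Au : Type u) [CommRing Au] [Algebra A Au] (eu : B ⊗[A] Au)
    (huniv : ∀ (A' : Type u) [CommRing A'] [Algebra A A'] (e : B ⊗[A] A'), IsIdempotentElem e →
        (∃ w : Fin ρ → B ⊗[A] A', e = ∑ p, w p * (g p ⊗ₜ[A] (1 : A'))) →
        ∃ φ : Au →ₐ[A] A', Algebra.TensorProduct.map (AlgHom.id A B) φ eu = e)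
    (R : Type u) [CommRing R] [Algebra A R] (U' : (pullback (f₀ (A := A) j) (bR A R)).Opens)
    (hU' : IsFinite (U'.ι ≫ pullback.snd (f₀ (A := A) j) (bR A R))) :
    ∃ φ : Au →ₐ[A] R,
      (pullback.map (f₀ (A := A) j) (bR A R) (f₀ (A := A) j) (bR A Au) (𝟙 X)
        (Spec.map (CommRingCat.ofHom φ.toRingHom)) (𝟙 _) (by simp)
        (by rw [Category.comp_id, bR_comp])) ⁻¹ᵁ ((jR (A := A) j Au) ⁻¹ᵁ DD eu) = U' := by
  let inclR : R →+* B ⊗[A] R := (Algebra.TensorProduct.includeRight : R →ₐ[A] B ⊗[A] R).toRingHom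
  let k' : U'.toScheme ⟶ Spec (.of (B ⊗[A] R)) := U'.ι ≫ jR (A := A) j R
  haveI : UniversallyClosed (k' ≫ Spec.map (CommRingCat.ofHom inclR)) := by
    simp only [k', inclR]
    rw [Category.assoc, jR_snd]
    infer_instance
  haveI : UniversallyClosed k' :=
    UniversallyClosed.of_comp_of_isSeparated k' (Spec.map (CommRingCat.ofHom inclR))
  have hrange : Set.range k' = (jR (A := A) j R) '' (U' : Set _) := by
    simp only [k']
    rw [Scheme.Hom.comp_base, TopCat.coe_comp, Set.range_comp, Scheme.Opens.range_ι]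
  have hclosed : IsClosed ((jR (A := A) j R) '' (U' : Set _)) := by
    rw [← hrange]
    exact k'.isClosedMap.isClosed_range
  have hopen : IsOpen ((jR (A := A) j R) '' (U' : Set _)) :=
    (jR (A := A) j R).isOpenEmbedding.isOpenMap _ U'.2
  obtain ⟨e, he, hVe⟩ := PrimeSpectrum.isClopen_iff.mp
    (show IsClopen ((jR (A := A) j R) '' (U' : Set _) : Set (PrimeSpectrum (B ⊗[A] R))) from
      ⟨hclosed, hopen⟩)
  have hsub : (PrimeSpectrum.basicOpen e : Set (PrimeSpectrum (B ⊗[A] R))) ⊆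
      ⋃ p, (PrimeSpectrum.basicOpen (g p ⊗ₜ[A] (1 : R)) : Set (PrimeSpectrum (B ⊗[A] R))) := by
    rw [← range_jR' j g hj R, ← hVe]
    exact Set.image_subset_range _ _
  obtain ⟨w, hw⟩ := exists_eq_sum_of_basicOpen_subset e he (fun p => g p ⊗ₜ[A] (1 : R)) hsub
  obtain ⟨φ, hφ⟩ := huniv R e he ⟨w, hw⟩
  refine ⟨φ, ?_⟩
  rw [← Scheme.Hom.comp_preimage, jR_natural, Scheme.Hom.comp_preimage, preimage_DD]
  have hφ' : (Algebra.TensorProduct.map (AlgHom.id A B) φ).toRingHom eu = e := hφ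
  rw [hφ']
  ext x
  constructor
  · intro hx
    have hx' : (jR (A := A) j R) x ∈ (PrimeSpectrum.basicOpen e : Set (PrimeSpectrum (B ⊗[A] R))) := hx
    obtain ⟨x', hx'U, hxx'⟩ := (Set.ext_iff.1 hVe _).2 hx'
    have := (jR (A := A) j R).isOpenEmbedding.injective hxx'
    rw [← this]; exact hx'U
  · intro hx
    have : (jR (A := A) j R) x ∈ (jR (A := A) j R) '' (U' : Set _) := ⟨x, hx, rfl⟩
    exact (Set.ext_iff.1 hVe _).1 this

/-- the core statement over `Spec A` -/
theorem core [Module.Finite A B] [Algebra.FinitePresentation A B] [IsOpenImmersion j]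
    (hj : Set.range j = ⋃ p, (PrimeSpectrum.basicOpen (g p) : Set (PrimeSpectrum B))) :
    ∃ (Yu : Scheme.{u}) (a₀ : Yu ⟶ Spec (.of A)) (Uu : (pullback (f₀ (A := A) j) a₀).Opens),
      LocallyOfFinitePresentation a₀ ∧ QuasiCompact a₀ ∧ QuasiSeparated a₀ ∧
      IsFinite (Uu.ι ≫ pullback.snd (f₀ (A := A) j) a₀) ∧
      ∀ (R : CommRingCat.{u}) (b₀ : Spec R ⟶ Spec (.of A))
        (U' : (pullback (f₀ (A := A) j) b₀).Opens),
        IsFinite (U'.ι ≫ pullback.snd (f₀ (A := A) j) b₀) →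
        ∃ (c : Spec R ⟶ Yu) (hc : c ≫ a₀ = b₀),
          (pullback.map (f₀ (A := A) j) b₀ (f₀ (A := A) j) a₀ (𝟙 X) c (𝟙 _)
            ((Category.comp_id _).trans (Category.id_comp _).symm)
            ((Category.comp_id b₀).trans hc.symm)) ⁻¹ᵁ Uu = U' := by
  obtain ⟨Au, instAu, instAlgAu, eu, hfpAu, heu, ⟨wu, hwu⟩, huniv⟩ :=
    Groth.Agent.Lib.Helper22.UnivIdem.univ_idem (A := A) g
  refine ⟨Spec (.of Au), bR A Au, (jR (A := A) j Au) ⁻¹ᵁ DD eu, ?_, inferInstance, inferInstance,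
    ?_, ?_⟩
  · exact (HasRingHomProperty.Spec_iff (P := @LocallyOfFinitePresentation)).mpr
      (RingHom.finitePresentation_algebraMap.mpr hfpAu)
  · let inclR : Au →+* B ⊗[A] Au :=
      (Algebra.TensorProduct.includeRight : Au →ₐ[A] B ⊗[A] Au).toRingHom
    have hsubD : ((DD eu : (Spec (.of (B ⊗[A] Au))).Opens) : Set (Spec (.of (B ⊗[A] Au)))) ⊆
        Set.range (jR (A := A) j Au) := by
      rw [range_jR' j g hj Au]
      intro x hx
      by_contra hcon
      have hall : ∀ p, g p ⊗ₜ[A] (1 : Au) ∈ x.asIdeal := by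
        intro p
        by_contra hp
        exact hcon (Set.mem_iUnion.2 ⟨p, hp⟩)
      apply hx
      show eu ∈ x.asIdeal
      rw [hwu]
      exact Ideal.sum_mem _ fun p _ => Ideal.mul_mem_left _ _ (hall p)
    let k : ((jR (A := A) j Au) ⁻¹ᵁ DD eu).toScheme ⟶ Spec (.of (B ⊗[A] Au)) :=
      ((jR (A := A) j Au) ⁻¹ᵁ DD eu).ι ≫ jR (A := A) j Au
    have hrange : Set.range k = ((DD eu : (Spec (.of (B ⊗[A] Au))).Opens) : Set (Spec (.of (B ⊗[A] Au)))) := by
      simp only [k]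
      rw [Scheme.Hom.comp_base, TopCat.coe_comp, Set.range_comp, Scheme.Opens.range_ι]
      show (jR (A := A) j Au) '' ((jR (A := A) j Au) ⁻¹' ((DD eu : (Spec (.of (B ⊗[A] Au))).Opens) : Set (Spec (.of (B ⊗[A] Au))))) = _
      rw [Set.image_preimage_eq_inter_range, Set.inter_eq_left.mpr hsubD]
    have hclosedD : IsClosed ((DD eu : (Spec (.of (B ⊗[A] Au))).Opens) : Set (Spec (.of (B ⊗[A] Au)))) :=
      (PrimeSpectrum.isClopen_iff (s := (PrimeSpectrum.basicOpen eu : Set (PrimeSpectrum (B ⊗[A] Au)))).mpr ⟨eu, heu, rfl⟩).1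
    haveI : IsClosedImmersion k :=
      IsClosedImmersion.of_isPreimmersion k (by rw [hrange]; exact hclosedD)
    haveI : IsFinite (Spec.map (CommRingCat.ofHom (algebraMap A B))) :=
      (IsFinite.SpecMap_iff _).mpr (RingHom.finite_algebraMap.mpr inferInstance)
    haveI : IsFinite (Spec.map (CommRingCat.ofHom inclR)) := by
      have := pullbackSpecIso_inv_snd A B Au
      have h2 : IsFinite ((pullbackSpecIso A B Au).inv ≫
          pullback.snd (Spec.map (CommRingCat.ofHom (algebraMap A B)))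
            (Spec.map (CommRingCat.ofHom (algebraMap A Au)))) := inferInstance
      rw [this] at h2
      exact h2
    have e1 : ((jR (A := A) j Au) ⁻¹ᵁ DD eu).ι ≫ pullback.snd (f₀ (A := A) j) (bR A Au) =
        k ≫ Spec.map (CommRingCat.ofHom inclR) := by
      simp only [k, inclR]; rw [Category.assoc, jR_snd]
    rw [e1]; infer_instance
  · intro R b₀ U' hU'
    obtain ⟨φ, rfl⟩ : ∃ φ : CommRingCat.of A ⟶ R, Spec.map φ = b₀ :=
      ⟨Spec.preimage b₀, Spec.map_preimage b₀⟩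
    letI : Algebra A R := φ.hom.toAlgebra
    obtain ⟨φ', hφ'⟩ := core_test j g hj Au eu huniv R U' hU'
    exact ⟨Spec.map (CommRingCat.ofHom φ'.toRingHom), bR_comp _ _ φ', hφ'⟩

end

end Groth.Agent.Lib.Helper22.UFO
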