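import Mathlib
import Groth.Agent.Lib.Helper22UOb
import Groth.Agent.Lib.Helper22GI14
import Groth.Agent.Lib.Helper22GI12
import Groth.Agent.Lib.Helper22GIntG
import Groth.Agent.Lib.Helper3GrpFibDim
import Groth.Agent.Lib.Helper4DimFormulaAT
import Groth.Agent.S2396

set_option autoImplicit false
set_option linter.style.haveILetI false
set_option linter.unusedSectionVars false
set_option linter.unusedVariables false
universe u
open AlgebraicGeometry CategoryTheory TopologicalSpace IsLocalRing Limits

namespace Groth.Agent.Lib.Helper22.UOc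

open Groth.Agent.Lib.Helper22.UOb

/-- the section component over `y` is geometrically irreducible (EGA IV 15.6 hypothesis). -/
def GIsc {X Y : Scheme.{u}} (f : X ⟶ Y) (s : Y ⟶ X) (y : Y) : Prop :=
  ∀ (K : Type u) [Field K] [Algebra (IsLocalRing.ResidueField (Y.presheaf.stalk y)) K],
    IsIrreducible ((FBase.bcπ (f.fiberToSpecResidueField y) K ≫ f.fiberι y).base ⁻¹'
      connectedComponentIn (f.base ⁻¹' {y}) (s.base y))

variable {X Y : Scheme.{u}} (f : X ⟶ Y) (s : Y ⟶ X) (hs : s ≫ f = 𝟙 Y)

theorem sectionComponents_inter_fibre (y : Y) :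
    MoreMor.sectionComponents f s ∩ f.base ⁻¹' {y} =
      connectedComponentIn (f.base ⁻¹' {y}) (s.base y) := by
  ext x
  constructor
  · rintro ⟨hx, hxy⟩
    have hxy' : f.base x = y := hxy
    have : x ∈ connectedComponentIn (f.base ⁻¹' {f.base x}) (s.base (f.base x)) := hx
    rwa [hxy'] at this
  · intro hx
    have hxy : f.base x = y := by
      have := connectedComponentIn_subset _ _ hx
      exact this
    refine ⟨?_, hxy⟩
    show x ∈ connectedComponentIn (f.base ⁻¹' {f.base x}) (s.base (f.base x))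
    rw [hxy]
    exact hx

include hs in
/-- **EGA IV 9.7.12**: over a Noetherian base, the set of points over which the section component
is geometrically irreducible is constructible. -/
theorem isConstructible_setOf_GIsc [IsNoetherian Y] [LocallyOfFiniteType f] [QuasiCompact f] :
    Topology.IsConstructible {y : Y | GIsc f s y} := by
  haveI : IsLocallyNoetherian X := LocallyOfFiniteType.isLocallyNoetherian f
  haveI : CompactSpace ↥X := QuasiCompact.compactSpace_of_compactSpace f
  haveI : IsNoetherian X := { }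
  rw [Groth.Agent.S2396.result]
  intro T hTc hTi
  obtain ⟨y₀, hy₀⟩ := QuasiSober.sober hTi hTc
  have hy₀T : y₀ ∈ T := hy₀.mem
  have hTcl : closure ({y₀} : Set ↥Y) = T := hy₀.def
  obtain ⟨V, hVsub, hy₀V, hVopen, hclopen⟩ :=
    Groth.Agent.Lib.Helper22.GI.exists_isClopen_sectionComponents f s hs y₀
  rw [hTcl] at hVsub hVopen
  obtain ⟨O, hO, hOV⟩ := isOpen_induced_iff.mp hVopen
  have hVO : ∀ w ∈ T, (w ∈ V ↔ w ∈ O) := by
    intro w hw
    have : (⟨w, hw⟩ : ↑T) ∈ Subtype.val ⁻¹' O ↔ (⟨w, hw⟩ : ↑T) ∈ Subtype.val ⁻¹' V := by rw [hOV]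
    exact this.symm
  obtain ⟨Z₀, hZ₀, hZ₀E⟩ := isOpen_induced_iff.mp hclopen.2
  have hZmem : ∀ z (hz : z ∈ f.base ⁻¹' V), z ∈ Z₀ ↔ z ∈ MoreMor.sectionComponents f s :=
    fun z hz => by
      have : (⟨z, hz⟩ : ↑(f.base ⁻¹' V)) ∈ Subtype.val ⁻¹' Z₀ ↔
          (⟨z, hz⟩ : ↑(f.base ⁻¹' V)) ∈ Subtype.val ⁻¹' MoreMor.sectionComponents f s := by
        rw [hZ₀E]
      exact this
  let Z : X.Opens := ⟨Z₀, hZ₀⟩
  -- over `V`, the open `Z` cuts out the section components
  have hZfib : ∀ v ∈ V, (Z : Set X) ∩ f.base ⁻¹' {v} =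
      connectedComponentIn (f.base ⁻¹' {v}) (s.base v) := by
    intro v hv
    rw [← sectionComponents_inter_fibre f s v]
    ext z
    constructor
    · rintro ⟨hzZ, hzv⟩
      have hzv' : f.base z = v := hzv
      exact ⟨(hZmem z (by show f.base z ∈ V; rw [hzv']; exact hv)).mp hzZ, hzv⟩
    · rintro ⟨hzE, hzv⟩
      have hzv' : f.base z = v := hzv
      exact ⟨(hZmem z (by show f.base z ∈ V; rw [hzv']; exact hv)).mpr hzE, hzv⟩
  let h := Z.ι ≫ f
  haveI : LocallyOfFinitePresentation h :=
    LocallyOfFinitePresentation.iff_locallyOfFiniteType.mpr inferInstance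
  have hE₁ : Topology.IsConstructible {v : Y | MoreMor.nGeomIrredComp h v = 1} :=
    (Groth.Agent.Lib.Helper22.GI.isLocallyConstructible_nGeomIrredComp_eq h 1).isConstructible
  have hiff : ∀ v ∈ V, (GIsc f s v ↔ MoreMor.nGeomIrredComp h v = 1) := by
    intro v hv
    rw [← Groth.Agent.Lib.Helper22.GIntG.geometricallyIrreducible_fibre_iff h v]
    exact forall_isIrreducible_preimage_iff f v Z _ (hZfib v hv)
  rcases (Groth.Agent.S2396.result _).mp hE₁ T hTc hTi with hnd | ⟨U₁, hU₁, hU₁ne, hU₁sub⟩
  · left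
    -- the trace is contained in the union of two nowhere dense sets
    have hdense : Dense (Subtype.val ⁻¹' O : Set ↑T) := by
      haveI : PreirreducibleSpace ↑T := Subtype.preirreducibleSpace hTi.isPreirreducible
      exact (hO.preimage continuous_subtype_val).dense ⟨⟨y₀, hy₀T⟩, (hVO y₀ hy₀T).mp hy₀V⟩
    set A : Set ↑T := Subtype.val ⁻¹' {v : Y | MoreMor.nGeomIrredComp h v = 1} with hA
    set ET : Set ↑T := Subtype.val ⁻¹' {y : Y | GIsc f s y} with hET
    set OT : Set ↑T := Subtype.val ⁻¹' O with hOT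
    have hOTo : IsOpen OT := hO.preimage continuous_subtype_val
    have hsubE : ET ⊆ A ∪ OTᶜ := by
      rintro ⟨v, hvT⟩ hvE
      by_cases hvO : v ∈ O
      · left
        exact (hiff v ((hVO v hvT).mpr hvO)).mp hvE
      · right
        exact hvO
    show interior (closure ET) = ∅
    by_contra hne
    obtain ⟨w, hw⟩ := Set.nonempty_iff_ne_empty.mpr hne
    have hne2 : (interior (closure ET) ∩ OT).Nonempty :=
      hdense.inter_open_nonempty _ isOpen_interior ⟨w, hw⟩
    have hcl : closure ET ⊆ closure A ∪ OTᶜ := by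
      refine closure_minimal (hsubE.trans (Set.union_subset_union_left _ subset_closure)) ?_
      exact isClosed_closure.union hOTo.isClosed_compl
    have hsub2 : interior (closure ET) ∩ OT ⊆ interior (closure A) := by
      refine interior_maximal ?_ (isOpen_interior.inter hOTo)
      rintro z ⟨hz1, hz2⟩
      rcases hcl (interior_subset hz1) with hzA | hzO
      · exact hzA
      · exact absurd hz2 hzO
    have hndA : interior (closure A) = ∅ := hnd
    rw [hndA] at hsub2
    obtain ⟨z, hz⟩ := hne2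
    exact hsub2 hz
  · right
    refine ⟨U₁ ∩ O, hU₁.inter hO, ?_, ?_⟩
    · -- the generic point lies in every nonempty open of `T`
      obtain ⟨w, hwU₁, hwT⟩ := hU₁ne
      have hy₀U₁ : y₀ ∈ U₁ := by
        have hw : w ∈ closure ({y₀} : Set ↥Y) := hTcl ▸ hwT
        exact (specializes_iff_mem_closure.mpr hw).mem_open hU₁ hwU₁
      exact ⟨y₀, ⟨hy₀U₁, (hVO y₀ hy₀T).mp hy₀V⟩, hy₀T⟩
    · rintro v ⟨⟨hvU₁, hvO⟩, hvT⟩
      exact (hiff v ((hVO v hvT).mpr hvO)).mpr (hU₁sub ⟨hvU₁, hvT⟩)

include hs in
/-- over a Noetherian base, the set of points over which the section component is geometrically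
irreducible of dimension `d` is constructible. -/
theorem isConstructible_setOf_GIsc_dim_eq [IsNoetherian Y] [LocallyOfFiniteType f] [QuasiCompact f]
    (d : WithBot ℕ∞) :
    Topology.IsConstructible {y : Y | GIsc f s y ∧
      topologicalKrullDim ↥(connectedComponentIn (f.base ⁻¹' {y}) (s.base y)) = d} := by
  haveI : LocallyOfFinitePresentation f :=
    LocallyOfFinitePresentation.iff_locallyOfFiniteType.mpr inferInstance
  have h1 := isConstructible_setOf_GIsc f s hs
  have h2 : Topology.IsConstructible (s.base ⁻¹' {x : X | FlatMor.fibreDimAt f x = d}) :=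
    s.isConstructible_preimage
      (Groth.Agent.Lib.Helper3.GrpFibDim.isConstructible_setOf_fibreDimAt_eq f d)
  have heq : {y : Y | GIsc f s y ∧
      topologicalKrullDim ↥(connectedComponentIn (f.base ⁻¹' {y}) (s.base y)) = d} =
      {y : Y | GIsc f s y} ∩ s.base ⁻¹' {x : X | FlatMor.fibreDimAt f x = d} := by
    ext y
    simp only [Set.mem_ofPred_eq, Set.mem_inter_iff, Set.mem_preimage]
    constructor
    · rintro ⟨hG, hd⟩
      refine ⟨hG, ?_⟩
      have hirr := Groth.Agent.Lib.Helper4.DimFormula.isIrreducible_of_forall_bcπ f y _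
        (connectedComponentIn_subset _ _) hG
      rw [← Groth.Agent.Lib.Helper4.DimFormula.dim_sectionComponent_eq_fibreDimAt f s hs y hirr]
      exact hd
    · rintro ⟨hG, hd⟩
      refine ⟨hG, ?_⟩
      have hirr := Groth.Agent.Lib.Helper4.DimFormula.isIrreducible_of_forall_bcπ f y _
        (connectedComponentIn_subset _ _) hG
      rw [Groth.Agent.Lib.Helper4.DimFormula.dim_sectionComponent_eq_fibreDimAt f s hs y hirr]
      exact hd
  rw [heq]
  exact h1.inter h2

end Groth.Agent.Lib.Helper22.UOc
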