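import Mathlib
import Groth.Agent.Lib.Helper22UOc
import Groth.Agent.Lib.Helper22GRpb
import Groth.Agent.Lib.Helper20EtLocalSch
import Groth.Agent.Lib.Helper3LocDimBC
import Groth.Agent.S0386
import Groth.Agent.S1324

set_option autoImplicit false
set_option linter.style.haveILetI false
set_option linter.unusedSectionVars false
set_option linter.unusedVariables false
universe u
open AlgebraicGeometry CategoryTheory TopologicalSpace IsLocalRing Limits

namespace Groth.Agent.Lib.Helper22.UOd

open Groth.Agent.Lib.Helper22.UOb Groth.Agent.Lib.Helper22.UOc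

section PKG

variable {X Y X' Y' : Scheme.{u}} {f : X ⟶ Y} {f' : X' ⟶ Y'} {g' : X' ⟶ X} {g : Y' ⟶ Y}
  (sq : IsPullback g' f' f g) (s : Y ⟶ X) (hs : s ≫ f = 𝟙 Y) (s' : Y' ⟶ X')
  (hs' : s' ≫ f' = 𝟙 Y') (hss : s' ≫ g' = g ≫ s)

include sq hs hs' hss in
/-- the section component of a base change over a point. -/
theorem sectionComponent_eq (y' : Y') :
    connectedComponentIn (f'.base ⁻¹' {y'}) (s'.base y') =
      g'.base ⁻¹' (connectedComponentIn (f.base ⁻¹' {g.base y'}) (s.base (g.base y'))) ∩
        f'.base ⁻¹' {y'} := by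
  rw [← sectionComponents_inter_fibre f' s' y', ← sectionComponents_inter_fibre f s (g.base y'),
    Groth.Agent.S1324.result f s hs f' g' g sq s' hs' hss]
  ext z
  simp only [Set.mem_inter_iff, Set.mem_preimage, Set.mem_singleton_iff]
  constructor
  · rintro ⟨hz, hzy⟩
    refine ⟨⟨hz, ?_⟩, hzy⟩
    rw [← Scheme.Hom.comp_apply, sq.w, Scheme.Hom.comp_apply, hzy]
  · rintro ⟨⟨hz, -⟩, hzy⟩
    exact ⟨hz, hzy⟩

include sq hs hs' hss in
/-- geometric irreducibility of the section components is invariant under base change. -/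
theorem gIsc_iff [LocallyOfFiniteType f] (y' : Y') : GIsc f' s' y' ↔ GIsc f s (g.base y') := by
  have hx : f.base (s.base (g.base y')) = g.base y' := by
    rw [← Scheme.Hom.comp_apply, hs]
    rfl
  exact forall_isIrreducible_preimage_iff_of_isPullback sq y' (s.base (g.base y')) hx _
    (sectionComponent_eq sq s hs s' hs' hss y')

include sq hs hs' hss in
/-- the dimension of geometrically irreducible section components is invariant under base
change. -/
theorem dim_sectionComponent_eq [LocallyOfFiniteType f] (y' : Y') (h : GIsc f s (g.base y')) :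
    topologicalKrullDim ↥(connectedComponentIn (f'.base ⁻¹' {y'}) (s'.base y')) =
      topologicalKrullDim ↥(connectedComponentIn (f.base ⁻¹' {g.base y'}) (s.base (g.base y'))) := by
  haveI : LocallyOfFiniteType f' :=
    MorphismProperty.of_isPullback (P := @LocallyOfFiniteType) sq inferInstance
  have h' : GIsc f' s' y' := (gIsc_iff sq s hs s' hs' hss y').mpr h
  have hirr := Groth.Agent.Lib.Helper4.DimFormula.isIrreducible_of_forall_bcπ f (g.base y') _
    (connectedComponentIn_subset _ _) h
  have hirr' := Groth.Agent.Lib.Helper4.DimFormula.isIrreducible_of_forall_bcπ f' y' _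
    (connectedComponentIn_subset _ _) h'
  rw [Groth.Agent.Lib.Helper4.DimFormula.dim_sectionComponent_eq_fibreDimAt f' s' hs' y' hirr',
    Groth.Agent.Lib.Helper4.DimFormula.dim_sectionComponent_eq_fibreDimAt f s hs (g.base y') hirr,
    Groth.Agent.Lib.Helper3.LocDimBC.fibreDimAt_eq_of_isPullback f g g' f' sq _]
  congr 1
  rw [← Scheme.Hom.comp_apply, hss, Scheme.Hom.comp_apply]

end PKG

section FT

variable {X Y X' Y' : Scheme.{u}} {f : X ⟶ Y} {f' : X' ⟶ Y'} {g' : X' ⟶ X} {g : Y' ⟶ Y}

/-- a morphism locally of finite presentation which is flat at a point is flat on a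
neighbourhood. -/
theorem exists_flat_nbhd (f : X ⟶ Y) [LocallyOfFinitePresentation f] (x : X)
    (h : (f.stalkMap x).hom.Flat) : ∃ U : X.Opens, x ∈ U ∧ Flat (U.ι ≫ f) := by
  let U : X.Opens := ⟨{x : X | (f.stalkMap x).hom.Flat}, Groth.Agent.S0386.result f⟩
  refine ⟨U, h, ?_⟩
  refine Flat.of_stalkMap _ (fun z => ?_)
  exact (Groth.Agent.Lib.Helper20.EtLocal.stalkMap_ι_comp_iff RingHom.Flat.respectsIso f U z).mpr z.2

/-- flatness at a point ascends along base change. -/
theorem flat_stalkMap_of_isPullback (sq : IsPullback g' f' f g) [LocallyOfFinitePresentation f]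
    (x' : X') (h : (f.stalkMap (g'.base x')).hom.Flat) : (f'.stalkMap x').hom.Flat := by
  obtain ⟨U, hxU, hU⟩ := exists_flat_nbhd f (g'.base x') h
  let U' : X'.Opens := g' ⁻¹ᵁ U
  have hsqU : IsPullback (g' ∣_ U) (U'.ι ≫ f') (U.ι ≫ f) g :=
    (isPullback_morphismRestrict g' U).paste_vert sq
  haveI : Flat (U'.ι ≫ f') := MorphismProperty.of_isPullback (P := @Flat) hsqU hU
  exact Groth.Agent.Lib.Helper20.EtLocal.flat_stalkMap_of_nbhd f' x' U' hxU

/-- flatness at a point descends along base change by an open immersion. -/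
theorem flat_stalkMap_of_isPullback_of_isOpenImmersion (sq : IsPullback g' f' f g)
    [IsOpenImmersion g] (x' : X') (h : (f'.stalkMap x').hom.Flat) :
    (f.stalkMap (g'.base x')).hom.Flat := by
  haveI : IsOpenImmersion g' := MorphismProperty.of_isPullback (P := @IsOpenImmersion) sq.flip
    inferInstance
  have hQ := RingHom.Flat.respectsIso
  have h3 : ((f' ≫ g).stalkMap x').hom.Flat := by
    have := (hQ.cancel_left_isIso (g.stalkMap (f'.base x')) (f'.stalkMap x')).mpr h
    rw [← CommRingCat.hom_comp, ← Scheme.Hom.stalkMap_comp] at this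
    exact this
  have key : ∀ (φ : X' ⟶ Y), φ = f' ≫ g → (φ.stalkMap x').hom.Flat := by
    rintro φ rfl
    exact h3
  have h4 : ((g' ≫ f).stalkMap x').hom.Flat := key _ sq.w
  refine (hQ.cancel_right_isIso (f.stalkMap (g'.base x')) (g'.stalkMap x')).mp ?_
  rw [← CommRingCat.hom_comp, ← Scheme.Hom.stalkMap_comp]
  exact h4

end FT

end Groth.Agent.Lib.Helper22.UOd
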