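import Mathlib
import Groth.Agent.Lib.Helper22UOd
import Groth.Agent.Lib.Helper22GI15
import Groth.Agent.Lib.Helper3LimConstr
import Groth.Agent.S5926

set_option autoImplicit false
set_option linter.style.haveILetI false
set_option linter.unusedSectionVars false
set_option linter.unusedVariables false
universe u
open AlgebraicGeometry CategoryTheory TopologicalSpace IsLocalRing Limits

namespace Groth.Agent.Lib.Helper22.UOe

open Groth.Agent.Lib.Helper22.UOb Groth.Agent.Lib.Helper22.UOc Groth.Agent.Lib.Helper22.UOd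
open Groth.Agent.Lib.Helper26.FGZ Groth.Agent.Lib.Helper3.LocusPair
open Groth.Agent.Lib.Helper4.DimFormula

/-- **descent of a morphism with a section to a stage of a limit**, keeping the cartesian square
and the compatibility of the sections. -/
theorem exists_stage_section {I : Type u} [SmallCategory I] [IsCofiltered I]
    (D : I ⥤ Scheme.{u}) (c : Limits.Cone D) (hc : Limits.IsLimit c)
    [∀ (i j : I) (f : i ⟶ j), IsAffineHom (D.map f)] [∀ i, CompactSpace (D.obj i)]
    [∀ i, QuasiSeparatedSpace (D.obj i)] {X : Scheme.{u}} (u : X ⟶ c.pt)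
    [LocallyOfFinitePresentation u] [QuasiCompact u] [QuasiSeparated u] (σ : c.pt ⟶ X)
    (hσ : σ ≫ u = 𝟙 c.pt) :
    ∃ (j : I) (XJ : Scheme.{u}) (fJ : XJ ⟶ D.obj j) (sJ : D.obj j ⟶ XJ) (sY : X ⟶ XJ),
      sJ ≫ fJ = 𝟙 _ ∧ LocallyOfFinitePresentation fJ ∧ QuasiCompact fJ ∧
      IsPullback sY u fJ (c.π.app j) ∧ σ ≫ sY = c.π.app j ≫ sJ := by
  obtain ⟨i, Xi, ui, qX, a1, a2, a3, hX⟩ := Groth.Agent.S0591.result D c hc X u
  have hY0 : IsPullback (c.π.app i) (𝟙 c.pt) (𝟙 (D.obj i)) (c.π.app i) := by
    haveI : IsIso (𝟙 c.pt) := IsIso.id _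
    haveI : IsIso (𝟙 (D.obj i)) := IsIso.id _
    exact IsPullback.of_vert_isIso ⟨(Category.comp_id _).trans (Category.id_comp _).symm⟩
  haveI : CompactSpace Xi := QuasiCompact.compactSpace_of_compactSpace ui
  haveI : QuasiSeparatedSpace Xi := quasiSeparatedSpace_of_quasiSeparated ui
  obtain ⟨j, φ, fj, sX, sY, hfj, hsX1, hsX2, hsY1, hsY2, hcomm⟩ :=
    Groth.Agent.S9218.result D c hc i (𝟙 (D.obj i)) ui (c.π.app i) (𝟙 c.pt) hY0 qX u hX σ hσ
  haveI : IsIso (pullback.snd (𝟙 (D.obj i)) (D.map φ)) := inferInstance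
  have hsJ : (inv (pullback.snd (𝟙 (D.obj i)) (D.map φ)) ≫ fj) ≫ pullback.snd ui (D.map φ) =
      𝟙 _ := by
    rw [Category.assoc, hfj, IsIso.inv_hom_id]
  have hXJ : IsPullback sY u (pullback.snd ui (D.map φ)) (c.π.app j) := by
    refine IsPullback.of_right ?_ hsY2 (IsPullback.of_hasPullback ui (D.map φ))
    rw [hsY1, c.w φ]
    exact hX
  have hsXeq : sX = c.π.app j ≫ inv (pullback.snd (𝟙 (D.obj i)) (D.map φ)) := by
    rw [← cancel_mono (pullback.snd (𝟙 (D.obj i)) (D.map φ)), Category.assoc,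
      IsIso.inv_hom_id, Category.comp_id]
    exact hsX2.trans (Category.id_comp _)
  refine ⟨j, pullback ui (D.map φ), pullback.snd ui (D.map φ),
    inv (pullback.snd (𝟙 (D.obj i)) (D.map φ)) ≫ fj, sY, hsJ, inferInstance, inferInstance,
    hXJ, ?_⟩
  rw [← Category.assoc, ← hsXeq, hcomm]

/-- **EGA IV 15.6.7 (ii), affine reduced base**: reduction to the Noetherian case. -/
theorem flat_of_affine_reduced (A : Type u) [CommRing A] [IsReduced A] {X : Scheme.{u}}
    (u : X ⟶ (specCone A).pt) [LocallyOfFinitePresentation u] [QuasiCompact u]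
    [QuasiSeparated u] (σ : (specCone A).pt ⟶ X) (hσ : σ ≫ u = 𝟙 (specCone A).pt)
    (hirr : ∀ y, GIsc u σ y) (d : WithBot ℕ∞)
    (hdim : ∀ y, topologicalKrullDim ↥(connectedComponentIn (u.base ⁻¹' {y}) (σ.base y)) = d)
    (x₀ : X) (hx₀ : x₀ ∈ MoreMor.sectionComponents u σ)
    (hred : Groth.Agent.Lib.Helper22.SC.GRAt u x₀) :
    (u.stalkMap x₀).hom.Flat := by
  obtain ⟨j, XJ, fJ, sJ, sY, hsJ, h1, h2, hpbJ, hcommJ⟩ :=
    exists_stage_section (specDiagram A) (specCone A) (specIsLimit A) u σ hσ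
  haveI := h1
  haveI := h2
  haveI : LocallyOfFiniteType fJ := inferInstance
  haveI : IsNoetherianRing ↑(CommRingCat.of ↥(j.unop.1)) := noeth_fgSub A j.unop
  haveI : IsNoetherian ((specDiagram A).obj j) := by
    show IsNoetherian (Spec (CommRingCat.of ↥(j.unop.1)))
    infer_instance
  let E : Set ↥((specDiagram A).obj j) := {y | GIsc fJ sJ y ∧
      topologicalKrullDim ↥(connectedComponentIn (fJ.base ⁻¹' {y}) (sJ.base y)) = d}ᶜ
  have hE : Topology.IsConstructible E := (isConstructible_setOf_GIsc_dim_eq fJ sJ hsJ d).compl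
  have hEempty : (specCone A).π.app j ⁻¹' E = ∅ := by
    rw [Set.eq_empty_iff_forall_notMem]
    intro y hy
    apply hy
    have e1 : GIsc fJ sJ (((specCone A).π.app j).base y) :=
      (gIsc_iff hpbJ sJ hsJ σ hσ hcommJ y).mp (hirr y)
    have e2 := dim_sectionComponent_eq hpbJ sJ hsJ σ hσ hcommJ y e1
    exact ⟨e1, e2.symm.trans (hdim y)⟩
  obtain ⟨k, a, hka⟩ := Groth.Agent.Lib.Helper3.LimConstr.exists_preimage_eq_empty
    (specDiagram A) (specCone A) (specIsLimit A) j E hE hEempty
  -- the stage `k`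
  have hpbKJ : IsPullback (pullback.fst fJ ((specDiagram A).map a))
      (pullback.snd fJ ((specDiagram A).map a)) fJ ((specDiagram A).map a) :=
    IsPullback.of_hasPullback _ _
  have hsK : sectionBC fJ ((specDiagram A).map a) sJ hsJ ≫
      pullback.snd fJ ((specDiagram A).map a) = 𝟙 _ := sectionBC_snd _ _ _ _
  have hcommKJ : sectionBC fJ ((specDiagram A).map a) sJ hsJ ≫
      pullback.fst fJ ((specDiagram A).map a) = (specDiagram A).map a ≫ sJ :=
    sectionBC_fst _ _ _ _
  have hgoodK : ∀ y : ↥((specDiagram A).obj k),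
      GIsc (pullback.snd fJ ((specDiagram A).map a))
        (sectionBC fJ ((specDiagram A).map a) sJ hsJ) y ∧
      topologicalKrullDim ↥(connectedComponentIn
        ((pullback.snd fJ ((specDiagram A).map a)).base ⁻¹' {y})
        ((sectionBC fJ ((specDiagram A).map a) sJ hsJ).base y)) = d := by
    intro y
    have hy : ((specDiagram A).map a).base y ∉ E := by
      intro h
      have : y ∈ (specDiagram A).map a ⁻¹' E := h
      rw [hka] at this
      exact this
    have hy' : GIsc fJ sJ (((specDiagram A).map a).base y) ∧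
        topologicalKrullDim ↥(connectedComponentIn
          (fJ.base ⁻¹' {((specDiagram A).map a).base y})
          (sJ.base (((specDiagram A).map a).base y))) = d := not_not.mp hy
    exact ⟨(gIsc_iff hpbKJ sJ hsJ _ hsK hcommKJ y).mpr hy'.1,
      (dim_sectionComponent_eq hpbKJ sJ hsJ _ hsK hcommKJ y hy'.1).trans hy'.2⟩
  have hw : sY ≫ fJ = (u ≫ (specCone A).π.app k) ≫ (specDiagram A).map a := by
    rw [hpbJ.w, Category.assoc, (specCone A).w a]
  have hpbK : IsPullback (pullback.lift sY (u ≫ (specCone A).π.app k) hw) u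
      (pullback.snd fJ ((specDiagram A).map a)) ((specCone A).π.app k) := by
    refine IsPullback.of_right ?_ (pullback.lift_snd _ _ _) hpbKJ
    rw [pullback.lift_fst, (specCone A).w a]
    exact hpbJ
  have hcommK : σ ≫ pullback.lift sY (u ≫ (specCone A).π.app k) hw =
      (specCone A).π.app k ≫ sectionBC fJ ((specDiagram A).map a) sJ hsJ := by
    apply pullback.hom_ext
    · rw [Category.assoc, pullback.lift_fst, Category.assoc, sectionBC_fst, hcommJ,
        ← Category.assoc, (specCone A).w a]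
    · rw [Category.assoc, pullback.lift_snd, ← Category.assoc, hσ, Category.id_comp,
        Category.assoc, sectionBC_snd, Category.comp_id]
  -- the stage `k` is Noetherian and reduced
  haveI : IsNoetherianRing ↑(CommRingCat.of ↥(k.unop.1)) := noeth_fgSub A k.unop
  haveI : IsReduced ↥(k.unop.1) :=
    isReduced_of_injective (algebraMap ↥(k.unop.1) A) Subtype.val_injective
  haveI : IsLocallyNoetherian ((specDiagram A).obj k) := by
    show IsLocallyNoetherian (Spec (CommRingCat.of ↥(k.unop.1)))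
    infer_instance
  haveI : IsReduced ((specDiagram A).obj k) := by
    show IsReduced (Spec (CommRingCat.of ↥(k.unop.1)))
    infer_instance
  haveI : LocallyOfFiniteType (pullback.snd fJ ((specDiagram A).map a)) := inferInstance
  have hxK : (pullback.lift sY (u ≫ (specCone A).π.app k) hw).base x₀ ∈
      MoreMor.sectionComponents (pullback.snd fJ ((specDiagram A).map a))
        (sectionBC fJ ((specDiagram A).map a) sJ hsJ) := by
    have := Groth.Agent.S1324.result (pullback.snd fJ ((specDiagram A).map a))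
      (sectionBC fJ ((specDiagram A).map a) sJ hsJ) hsK u _ ((specCone A).π.app k) hpbK σ hσ
      hcommK
    rw [this] at hx₀
    exact hx₀
  have hredK : Groth.Agent.Lib.Helper22.SC.GRAt (pullback.snd fJ ((specDiagram A).map a))
      ((pullback.lift sY (u ≫ (specCone A).π.app k) hw).base x₀) :=
    (Groth.Agent.Lib.Helper22.SC.gRAt_iff_of_isPullback hpbK x₀).mp hred
  have hflatK := Groth.Agent.S5926.result (pullback.snd fJ ((specDiagram A).map a))
    (sectionBC fJ ((specDiagram A).map a) sJ hsJ) hsK (fun y => (hgoodK y).1) _ hxK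
    ⟨Set.univ, Filter.univ_mem, fun z _ => ((hgoodK z).2).trans (hgoodK _).2.symm⟩ hredK
  exact flat_stalkMap_of_isPullback hpbK x₀ hflatK

/-- **EGA IV 15.6.7 (ii)**, finite presentation case. -/
theorem flat_of_dim_const {X Y : Scheme.{u}} (f : X ⟶ Y)
    [LocallyOfFinitePresentation f] [QuasiCompact f] [QuasiSeparated f] (g : Y ⟶ X)
    (hg : g ≫ f = 𝟙 Y) (hirr : ∀ y, GIsc f g y) (x₀ : X)
    (hx₀ : x₀ ∈ MoreMor.sectionComponents f g)
    (hconst : ∃ V ∈ nhds (f.base x₀), ∀ z ∈ V,
      topologicalKrullDim ↥(connectedComponentIn (f.base ⁻¹' {z}) (g.base z)) =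
        topologicalKrullDim ↥(connectedComponentIn (f.base ⁻¹' {(f.base x₀)})
          (g.base (f.base x₀))))
    [IsReduced Y] (hred : Groth.Agent.Lib.Helper22.SC.GRAt f x₀) :
    (f.stalkMap x₀).hom.Flat := by
  obtain ⟨V, hV, hVd⟩ := hconst
  obtain ⟨_, ⟨W, hW, rfl⟩, hyW, hWV⟩ := (Y.isBasis_affineOpens).exists_subset_of_mem_open
    (mem_interior_iff_mem_nhds.mpr hV) isOpen_interior
  have hWa : IsAffineOpen W := hW
  let j : (specCone Γ(Y, W)).pt ⟶ Y := hWa.fromSpec
  haveI : IsOpenImmersion j := by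
    show IsOpenImmersion hWa.fromSpec
    infer_instance
  have hjW : ∀ y', j.base y' ∈ (W : Set Y) := by
    intro y'
    have : j.base y' ∈ Set.range hWa.fromSpec.base := Set.mem_range_self y'
    rwa [hWa.range_fromSpec] at this
  have sq : IsPullback (pullback.fst f j) (pullback.snd f j) f j := IsPullback.of_hasPullback f j
  have hσ : sectionBC f j g hg ≫ pullback.snd f j = 𝟙 _ := sectionBC_snd _ _ _ _
  have hss : sectionBC f j g hg ≫ pullback.fst f j = j ≫ g := sectionBC_fst _ _ _ _
  -- the point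
  obtain ⟨w, hw⟩ : ∃ w, j.base w = f.base x₀ := by
    have : f.base x₀ ∈ Set.range hWa.fromSpec.base := by
      rw [hWa.range_fromSpec]
      exact hyW
    exact this
  obtain ⟨x₀', hx₀'1, hx₀'2⟩ := Scheme.Pullback.exists_preimage_pullback x₀ w hw.symm
  haveI : IsReduced (Γ(Y, W) : Type u) := inferInstance
  have hirr' : ∀ y', GIsc (pullback.snd f j) (sectionBC f j g hg) y' := fun y' =>
    (gIsc_iff sq g hg _ hσ hss y').mpr (hirr (j.base y'))
  have hdim' : ∀ y', topologicalKrullDim ↥(connectedComponentIn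
      ((pullback.snd f j).base ⁻¹' {y'}) ((sectionBC f j g hg).base y')) =
      topologicalKrullDim ↥(connectedComponentIn (f.base ⁻¹' {(f.base x₀)})
          (g.base (f.base x₀))) := fun y' =>
    (dim_sectionComponent_eq sq g hg _ hσ hss y' (hirr (j.base y'))).trans
      (hVd _ (interior_subset (hWV (hjW y'))))
  have hx₀'' : x₀' ∈ MoreMor.sectionComponents (pullback.snd f j) (sectionBC f j g hg) := by
    rw [Groth.Agent.S1324.result f g hg (pullback.snd f j) (pullback.fst f j) j sq _ hσ hss]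
    show (pullback.fst f j).base x₀' ∈ MoreMor.sectionComponents f g
    rw [hx₀'1]
    exact hx₀
  have hred' : Groth.Agent.Lib.Helper22.SC.GRAt (pullback.snd f j) x₀' := by
    rw [Groth.Agent.Lib.Helper22.SC.gRAt_iff_of_isPullback sq x₀']
    have : (pullback.fst f j) x₀' = x₀ := hx₀'1
    rw [this]
    exact hred
  have hflat := flat_of_affine_reduced (Γ(Y, W) : Type u) (pullback.snd f j) (sectionBC f j g hg) hσ
    hirr' _ hdim' x₀' hx₀'' hred'
  have := flat_stalkMap_of_isPullback_of_isOpenImmersion sq x₀' hflat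
  have hx : (pullback.fst f j).base x₀' = x₀ := hx₀'1
  rw [hx] at this
  exact this

end Groth.Agent.Lib.Helper22.UOe
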