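import Mathlib
import Groth.Agent.Lib.Helper22UOd
import Groth.Agent.Lib.Helper22SC6
import Groth.Agent.Lib.Helper22SC5
import Groth.Agent.S3458

set_option autoImplicit false
set_option linter.style.haveILetI false
set_option linter.unusedSectionVars false
set_option linter.unusedVariables false
universe u
open AlgebraicGeometry CategoryTheory TopologicalSpace IsLocalRing Limits Topology

namespace Groth.Agent.Lib.Helper22.UOf

open Groth.Agent.Lib.Helper22.UOb Groth.Agent.Lib.Helper22.UOc Groth.Agent.Lib.Helper22.UOd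
open Groth.Agent.Lib.Helper22.SC
open Groth.Agent.Lib.Helper4.DimFormula

section DVR

variable {A : Type u} [CommRing A] [IsDomain A] [IsDiscreteValuationRing A]

/-- **The DVR case, specialization version**: if the point `h s` of the closed section component
is reduced in its fibre, is a specialization of a point of the generic section component, and `f`
is open at the points of the closed section component, then `h η` lies in the generic section
component. -/
theorem mem_connectedComponentIn_genPt_of_specializes {X : Scheme.{u}}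
    (f : X ⟶ Spec (CommRingCat.of A))
    [LocallyOfFiniteType f] (g h : Spec (CommRingCat.of A) ⟶ X) (hg : g ≫ f = 𝟙 _)
    (hh : h ≫ f = 𝟙 _)
    (hC : h (closedPoint A) ∈ connectedComponentIn (f ⁻¹' {closedPoint A}) (g (closedPoint A)))
    (hζ : ∃ ζ ∈ connectedComponentIn (f ⁻¹' {genPt A}) (g (genPt A)), ζ ⤳ h (closedPoint A))
    (hopen : ∀ ξ ∈ connectedComponentIn (f ⁻¹' {closedPoint A}) (g (closedPoint A)),
      EGA43.IsOpenAt f.base ξ)
    (Hh : IsReduced (X.presheaf.stalk (h (closedPoint A)) ⧸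
      (maximalIdeal ((Spec (CommRingCat.of A)).presheaf.stalk (f (h (closedPoint A))))).map
        (f.stalkMap (h (closedPoint A))).hom)) :
    h (genPt A) ∈ connectedComponentIn (f ⁻¹' {genPt A}) (g (genPt A)) := by
  set s : Spec (CommRingCat.of A) := closedPoint A with hs
  set η : Spec (CommRingCat.of A) := genPt A with hη
  haveI : IsLocallyNoetherian X := LocallyOfFiniteType.isLocallyNoetherian f
  have hfg : ∀ z, f (g z) = z := fun z => by rw [← Scheme.Hom.comp_apply, hg]; rfl
  have hfh : ∀ z, f (h z) = z := fun z => by rw [← Scheme.Hom.comp_apply, hh]; rfl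
  have hηs : η ≠ s := genPt_ne_closedPoint A
  set F : Set X := f ⁻¹' {s} with hF
  set C : Set X := connectedComponentIn F (g s) with hCdef
  set Fη : Set X := f ⁻¹' {η} with hFη
  set U : Set X := connectedComponentIn Fη (g η) with hUdef
  have hCF : C ⊆ F := connectedComponentIn_subset F _
  have hUF : U ⊆ Fη := connectedComponentIn_subset Fη _
  have hfp : f (h s) = s := hfh s
  have hgen_in_C : ∀ ξ : X, ξ ⤳ h s → f ξ = f (h s) → ξ ∈ C := by
    intro ξ hξ hfξ
    have hξF : ξ ∈ F := by
      show f ξ = s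
      rw [hfξ]; exact hfp
    have hpair : _root_.IsPreconnected ({ξ, h s} : Set X) := by
      refine (isPreconnected_singleton (x := ξ)).subset_closure (s := {ξ}) (by simp) ?_
      rintro z (rfl | rfl)
      · exact subset_closure rfl
      · exact specializes_iff_mem_closure.mp hξ
    have h1 := hpair.subset_connectedComponentIn (x := h s) (by simp) (by
      rintro z (rfl | rfl)
      · exact hξF
      · exact hCF hC)
    have e1 : C = connectedComponentIn F (h s) := connectedComponentIn_eq hC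
    rw [e1]
    exact h1 (by simp)
  obtain ⟨t0, hmax⟩ := exists_maximalIdeal_stalk_eq_span A (f (h s)) hfp
  have hconn : _root_.IsConnected (genOut f (h s)) := by
    refine isConnected_genOut (h s) t0 hmax Hh ?_
    refine notMem_of_mem_minimalPrimes (h s) t0 hmax η ?_ ?_ ?_
    · rw [hfp]; exact genPt_specializes_closedPoint A
    · rw [hfp]; exact not_closedPoint_specializes_genPt A
    · intro ξ hξ hfξ
      exact hopen ξ (hgen_in_C ξ hξ hfξ)
  have hsub : genOut f (h s) ⊆ Fη := by
    rintro z ⟨-, hz⟩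
    rcases eq_closedPoint_or_eq_genPt A (f z) with h1 | h1
    · exact absurd (h1.trans hfp.symm) hz
    · exact h1
  obtain ⟨ζ, hζU, hζsp⟩ := hζ
  have hζout : ζ ∈ genOut f (h s) := by
    refine ⟨hζsp, ?_⟩
    have h1 : f ζ = η := hUF hζU
    rw [h1, hfp]; exact hηs
  have hhout : h η ∈ genOut f (h s) := by
    refine ⟨(genPt_specializes_closedPoint A).map h.continuous, ?_⟩
    rw [hfh η, hfp]; exact hηs
  have h1 : genOut f (h s) ⊆ connectedComponentIn Fη ζ :=
    hconn.isPreconnected.subset_connectedComponentIn hζout hsub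
  have e2 : U = connectedComponentIn Fη ζ := connectedComponentIn_eq hζU
  rw [e2]
  exact h1 hhout

end DVR

section Gen

variable {X Y : Scheme.{u}}

/-- **stability under generization**: under the hypotheses of EGA IV 15.6.8 (locally Noetherian
base), every generization of a point `x` of `W` lies in `X⁰`. -/
theorem mem_sectionComponents_of_specializes [IsLocallyNoetherian Y] (f : X ⟶ Y)
    [LocallyOfFiniteType f] (g : Y ⟶ X) (hg : g ≫ f = 𝟙 Y) (hirr : ∀ y, GIsc f g y)
    (x : X) (hxSC : x ∈ MoreMor.sectionComponents f g)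
    (hconst : ∃ V ∈ nhds (f.base x), ∀ z ∈ V,
      topologicalKrullDim ↥(connectedComponentIn (f.base ⁻¹' {z}) (g.base z)) =
        topologicalKrullDim ↥(connectedComponentIn (f.base ⁻¹' {(f.base x)})
          (g.base (f.base x))))
    (hGR : GRAt f x) (x' : X) (hx'x : x' ⤳ x) : x' ∈ MoreMor.sectionComponents f g := by
  by_cases hne : x' = x
  · rw [hne]; exact hxSC
  haveI : IsLocallyNoetherian X := LocallyOfFiniteType.isLocallyNoetherian f
  obtain ⟨V, hV, k, hk1, hk2⟩ := Groth.Agent.Lib.Helper4.DVRSch.exists_dvr_hom hx'x hne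
    (L := X.residueField x') (𝟙 (X.residueField x')) (by
      show (RingHom.id _).EssFiniteType
      exact RingHom.FiniteType.essFiniteType (RingHom.FiniteType.id _))
  haveI := hV
  have hkη : k (genPt ↥V) = x' := by
    let pt : Spec (CommRingCat.of (X.residueField x')) := ⟨⊥, Ideal.isPrime_bot⟩
    have h1 : Spec.map (CommRingCat.ofHom V.subtype) pt = genPt ↥V := by
      apply PrimeSpectrum.ext
      show Ideal.comap V.subtype ⊥ = ⊥
      rw [← RingHom.ker_eq_comap_bot]
      exact (RingHom.injective_iff_ker_eq_bot _).mp Subtype.val_injective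
    rw [← h1]
    show (Spec.map (CommRingCat.ofHom V.subtype) ≫ k) pt = x'
    rw [hk1, Scheme.Hom.comp_apply]
    exact Scheme.fromSpecResidueField_apply _ _
  set s : Spec (CommRingCat.of ↥V) := closedPoint ↥V with hs
  set η : Spec (CommRingCat.of ↥V) := genPt ↥V with hη
  let t := k ≫ f
  let fT := pullback.snd f t
  have hpb : IsPullback (pullback.fst f t) fT f t := IsPullback.of_hasPullback f t
  let σh : Spec (CommRingCat.of ↥V) ⟶ pullback f t := pullback.lift k (𝟙 _) (by simp [t])
  let σg : Spec (CommRingCat.of ↥V) ⟶ pullback f t := sectionBC f t g hg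
  have hσh : σh ≫ fT = 𝟙 _ := pullback.lift_snd _ _ _
  have hσg : σg ≫ fT = 𝟙 _ := sectionBC_snd f t g hg
  have hσh1 : σh ≫ pullback.fst f t = k := pullback.lift_fst _ _ _
  have hσg1 : σg ≫ pullback.fst f t = t ≫ g := sectionBC_fst f t g hg
  have hSC : MoreMor.sectionComponents fT σg =
      (pullback.fst f t) ⁻¹' MoreMor.sectionComponents f g :=
    Groth.Agent.S1324.result f g hg fT (pullback.fst f t) t hpb σg hσg hσg1
  have hfTh : ∀ z, fT (σh z) = z := fun z => by rw [← Scheme.Hom.comp_apply, hσh]; rfl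
  have hfTg : ∀ z, fT (σg z) = z := fun z => by rw [← Scheme.Hom.comp_apply, hσg]; rfl
  have hfst_h : ∀ z, pullback.fst f t (σh z) = k z := fun z => by
    rw [← Scheme.Hom.comp_apply, hσh1]
  have hts : t s = f x := by
    show (k ≫ f) s = f x
    rw [Scheme.Hom.comp_apply, hk2]
  have htη : t η = f x' := by
    show (k ≫ f) η = f x'
    rw [Scheme.Hom.comp_apply, hkη]
  haveI : LocallyOfFiniteType fT :=
    MorphismProperty.of_isPullback (P := @LocallyOfFiniteType) hpb inferInstance
  -- the closed point of `σh` is in the component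
  have hC : σh s ∈ connectedComponentIn (fT ⁻¹' {s}) (σg s) := by
    rw [← mem_sectionComponents_iff fT σg (σh s) s (hfTh s), hSC, Set.mem_preimage, hfst_h, hk2]
    exact hxSC
  -- hypotheses over `T`
  have hirrT : ∀ τ, GIsc fT σg τ := fun τ =>
    (gIsc_iff hpb g hg σg hσg hσg1 τ).mpr (hirr _)
  have hdimT : ∀ τ : ↥(Spec (CommRingCat.of ↥V)),
      topologicalKrullDim ↥(connectedComponentIn (fT.base ⁻¹' {τ}) (σg.base τ)) =
      topologicalKrullDim ↥(connectedComponentIn (f.base ⁻¹' {t.base τ}) (g.base (t.base τ))) :=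
    fun τ => dim_sectionComponent_eq hpb g hg σg hσg hσg1 τ (hirr _)
  obtain ⟨N, hN, hNd⟩ := hconst
  have hfx'N : f.base x' ∈ N := mem_of_mem_nhds ((hx'x.map f.continuous) hN)
  have hdimeq : topologicalKrullDim ↥(connectedComponentIn (fT.base ⁻¹' {s}) (σg.base s)) =
      topologicalKrullDim ↥(connectedComponentIn (fT.base ⁻¹' {η}) (σg.base η)) := by
    rw [hdimT s, hdimT η]
    have e1 : t.base s = f.base x := hts
    have e2 : t.base η = f.base x' := htη
    rw [e1, e2]
    exact (hNd _ hfx'N).symm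
  have hirrTop : ∀ τ : ↥(Spec (CommRingCat.of ↥V)),
      IsIrreducible (connectedComponentIn (fT.base ⁻¹' {τ}) (σg.base τ)) := fun τ =>
    isIrreducible_of_forall_bcπ fT τ _ (connectedComponentIn_subset _ _) (hirrT τ)
  have hmain := sectionComponent_main fT σg hσg s η (genPt_specializes_closedPoint ↥V)
    ⟨connectedComponentIn (fT.base ⁻¹' {η}) (σg.base η),
      connectedComponentIn_subset _ _, hirrTop η,
      (fun Z' hZ' hZ'F hCZ' =>
        le_antisymm (hZ'.isPreirreducible.isPreconnected.subset_connectedComponentIn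
          (hCZ' (mem_connectedComponentIn (hfTg η))) hZ'F) hCZ'),
      mem_connectedComponentIn (hfTg η), rfl⟩
  have hsub := hmain.2 (hirrTop s) hdimeq
  -- the generic point of the generic component
  obtain ⟨ζ, hζ⟩ := QuasiSober.sober (hirrTop η).closure isClosed_closure
  have hζsp : ζ ⤳ σh s := by
    rw [specializes_iff_mem_closure, hζ.def]
    exact hsub hC
  have hζg : ζ ⤳ σg η := by
    rw [specializes_iff_mem_closure, hζ.def]
    exact subset_closure (mem_connectedComponentIn (hfTg η))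
  have hζη : fT ζ = η := by
    have h3 := hζg.map fT.continuous
    rw [hfTg η] at h3
    rcases eq_closedPoint_or_eq_genPt ↥V (fT ζ) with h1 | h1
    · rw [h1] at h3
      exact absurd h3 (not_closedPoint_specializes_genPt ↥V)
    · exact h1
  have hζU : ζ ∈ connectedComponentIn (fT ⁻¹' {η}) (σg η) := by
    have hpre : _root_.IsPreconnected
        (closure (connectedComponentIn (fT ⁻¹' {η}) (σg η)) ∩ fT ⁻¹' {η}) :=
      (isPreconnected_connectedComponentIn).subset_closure
        (fun a ha => ⟨subset_closure ha, connectedComponentIn_subset _ _ ha⟩)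
        Set.inter_subset_left
    refine hpre.subset_connectedComponentIn
      ⟨subset_closure (mem_connectedComponentIn (hfTg η)), hfTg η⟩ Set.inter_subset_right ⟨?_, hζη⟩
    exact hζ.mem
  have hUO := Groth.Agent.S3458.result f g hg (fun y K _ _ => hirr y K) (f.base x) ⟨N, hN, hNd⟩
  have hopenT : ∀ ξ ∈ connectedComponentIn (fT ⁻¹' {s}) (σg s), EGA43.IsOpenAt fT.base ξ := by
    intro ξ hξ
    have hfξ : fT ξ = s := connectedComponentIn_subset (fT ⁻¹' {s}) (σg s) hξ
    have h1 : ξ ∈ MoreMor.sectionComponents fT σg :=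
      (mem_sectionComponents_iff fT σg ξ s hfξ).mpr hξ
    rw [hSC, Set.mem_preimage] at h1
    have h2 : f (pullback.fst f t ξ) = f x := by
      rw [← Scheme.Hom.comp_apply, hpb.w, Scheme.Hom.comp_apply, hfξ, hts]
    have h3 := (mem_sectionComponents_iff f g _ (f x) h2).mp h1
    exact hUO _ h3 _ t ξ rfl
  have hredT : IsReduced ((pullback f t).presheaf.stalk (σh s) ⧸
      (maximalIdeal ((Spec (CommRingCat.of ↥V)).presheaf.stalk (fT (σh s)))).map
        (fT.stalkMap (σh s)).hom) := by
    refine isReduced_quot_of_gRAt hpb (σh s) ?_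
    rw [hfst_h, hk2]
    exact hGR
  have hmem := mem_connectedComponentIn_genPt_of_specializes fT σg σh hσg hσh hC
    ⟨ζ, hζU, hζsp⟩ hopenT hredT
  rw [← mem_sectionComponents_iff fT σg (σh η) η (hfTh η), hSC, Set.mem_preimage, hfst_h,
    hkη] at hmem
  exact hmem

/-- **EGA IV 15.6.8, key step** (locally Noetherian base): `X⁰` is a neighbourhood of every point
`x` of `X⁰` at which the fibre is geometrically reduced and near whose image the dimension of the
section components is constant. -/
theorem mem_interior_sectionComponents [IsLocallyNoetherian Y] (f : X ⟶ Y)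
    [LocallyOfFiniteType f] (g : Y ⟶ X) (hg : g ≫ f = 𝟙 Y) (hirr : ∀ y, GIsc f g y)
    (x : X) (hxSC : x ∈ MoreMor.sectionComponents f g)
    (hconst : ∃ V ∈ nhds (f.base x), ∀ z ∈ V,
      topologicalKrullDim ↥(connectedComponentIn (f.base ⁻¹' {z}) (g.base z)) =
        topologicalKrullDim ↥(connectedComponentIn (f.base ⁻¹' {(f.base x)})
          (g.base (f.base x))))
    (hGR : GRAt f x) : x ∈ interior (MoreMor.sectionComponents f g) := by
  haveI : IsLocallyNoetherian X := LocallyOfFiniteType.isLocallyNoetherian f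
  have hfg : ∀ z, f (g z) = z := fun z => by rw [← Scheme.Hom.comp_apply, hg]; rfl
  obtain ⟨y, hy⟩ : ∃ y : Y, y = f x := ⟨_, rfl⟩
  set F : Set X := f ⁻¹' {y} with hF
  have hpF : g y ∈ F := hfg y
  have hx : x ∈ connectedComponentIn F (g y) := by
    rw [hF, hy]
    exact hxSC
  obtain ⟨W, hWc, hpW, hxW⟩ := exists_compact_opens_mem_connectedComponentIn F (g y) hpF x hx
  obtain ⟨V, hV, hyV, hVW⟩ : ∃ V : Y.Opens, IsAffineOpen V ∧ y ∈ V ∧
      (V : Set Y) ⊆ g ⁻¹ᵁ W := by
    obtain ⟨_, ⟨V, hV, rfl⟩, hyV, hVW⟩ := Y.isBasis_affineOpens.exists_subset_of_mem_open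
      (show y ∈ g ⁻¹ᵁ W from hpW) (g ⁻¹ᵁ W).2
    exact ⟨V, hV, hyV, hVW⟩
  let W' : X.Opens := W ⊓ f ⁻¹ᵁ V
  have e : W' ≤ f ⁻¹ᵁ V := inf_le_right
  have e' : V ≤ g ⁻¹ᵁ W' := fun z hz => ⟨hVW hz, by
    show f (g z) ∈ V
    rw [hfg]; exact hz⟩
  let f₃ := f.resLE V W' e
  let g₃ := g.resLE W' V e'
  have hg₃ : g₃ ≫ f₃ = 𝟙 _ := by
    rw [← cancel_mono V.ι, Category.assoc, Scheme.Hom.resLE_comp_ι, ← Category.assoc,
      Scheme.Hom.resLE_comp_ι, Category.assoc, hg, Category.comp_id, Category.id_comp]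
  -- Noetherian space
  haveI : CompactSpace ↥(W : Scheme.{u}) := isCompact_iff_compactSpace.mp hWc
  haveI : IsNoetherian (W : Scheme.{u}) :=
    { toIsLocallyNoetherian := inferInstance, toCompactSpace := inferInstance }
  haveI hWN : NoetherianSpace {a // a ∈ (W : Set X)} :=
    (inferInstance : NoetherianSpace ↥(W : Scheme.{u}))
  haveI hW'N : NoetherianSpace {a // a ∈ (W' : Set X)} :=
    NoetherianSpace.of_subset (W := (W : Set X)) (V := (W' : Set X)) (fun a ha => ha.1)
  haveI : NoetherianSpace ↥(W' : Scheme.{u}) := hW'N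
  -- pointwise descriptions
  have hf₃ : ∀ z : ↥(W' : Scheme.{u}), V.ι (f₃ z) = f (W'.ι z) := fun z => by
    rw [← Scheme.Hom.comp_apply, ← Scheme.Hom.comp_apply, Scheme.Hom.resLE_comp_ι]
  have hg₃p : ∀ z : ↥(V : Scheme.{u}), W'.ι (g₃ z) = g (V.ι z) := fun z => by
    rw [← Scheme.Hom.comp_apply, ← Scheme.Hom.comp_apply, Scheme.Hom.resLE_comp_ι]
  have hVinj : Function.Injective V.ι := V.ι.isOpenEmbedding.injective
  have hxWF : x ∈ (W : Set X) ∩ F := connectedComponentIn_subset ((W : Set X) ∩ F) (g y) hxW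
  let x₃ : ↥(W' : Scheme.{u}) := ⟨x, hxWF.1, by
    show f x ∈ V
    rw [show f x = y from hxWF.2]; exact hyV⟩
  have hx₃ : W'.ι x₃ = x := rfl
  have hirrTop : ∀ z : Y, IsIrreducible (connectedComponentIn (f.base ⁻¹' {z}) (g.base z)) :=
    fun z => isIrreducible_of_forall_bcπ f z _ (connectedComponentIn_subset _ _) (hirr z)
  -- `X₃⁰` is the trace of `X⁰`
  have hX3 : ∀ a : ↥(W' : Scheme.{u}), W'.ι a ∈ MoreMor.sectionComponents f g →
      a ∈ MoreMor.sectionComponents f₃ g₃ := by
    intro a ha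
    have ha' : W'.ι a ∈ connectedComponentIn (f ⁻¹' {f (W'.ι a)}) (g (f (W'.ι a))) := ha
    have hpre : _root_.IsPreconnected
        (W'.ι ⁻¹' connectedComponentIn (f ⁻¹' {f (W'.ι a)}) (g (f (W'.ι a)))) :=
      ((hirrTop _).isPreirreducible.preimage W'.ι.isOpenEmbedding).isPreconnected
    have hsub : W'.ι ⁻¹' connectedComponentIn (f ⁻¹' {f (W'.ι a)}) (g (f (W'.ι a))) ⊆
        f₃ ⁻¹' {f₃ a} := by
      intro b hb
      have hb2 : W'.ι b ∈ connectedComponentIn (f ⁻¹' {f (W'.ι a)}) (g (f (W'.ι a))) := hb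
      have h1 : f (W'.ι b) = f (W'.ι a) :=
        connectedComponentIn_subset (f ⁻¹' {f (W'.ι a)}) (g (f (W'.ι a))) hb2
      show f₃ b = f₃ a
      apply hVinj
      rw [hf₃, hf₃, h1]
    have hmem : g₃ (f₃ a) ∈
        W'.ι ⁻¹' connectedComponentIn (f ⁻¹' {f (W'.ι a)}) (g (f (W'.ι a))) := by
      show W'.ι (g₃ (f₃ a)) ∈ connectedComponentIn (f ⁻¹' {f (W'.ι a)}) (g (f (W'.ι a)))
      rw [hg₃p, hf₃]
      exact mem_connectedComponentIn (hfg _)
    exact hpre.subset_connectedComponentIn hmem hsub ha'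
  have hcons : IsConstructible (MoreMor.sectionComponents f₃ g₃) :=
    Groth.Agent.Lib.Helper22.GI.isConstructible_sectionComponents_of_noetherianSpace f₃ g₃ hg₃
  have hx₃int : x₃ ∈ interior (MoreMor.sectionComponents f₃ g₃) := by
    by_contra hn
    have hcl : x₃ ∈ closure (MoreMor.sectionComponents f₃ g₃)ᶜ := by
      rw [closure_compl]; exact hn
    obtain ⟨a, han, hax⟩ :=
      exists_specializes_of_mem_closure hcons.compl.isLocallyConstructible hcl
    apply han
    apply hX3
    exact mem_sectionComponents_of_specializes f g hg hirr x hxSC hconst hGR (W'.ι a)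
      (hax.map W'.ι.continuous)
  rw [mem_interior]
  refine ⟨W'.ι '' interior (MoreMor.sectionComponents f₃ g₃), ?_,
    W'.ι.isOpenEmbedding.isOpenMap _ isOpen_interior, ⟨x₃, hx₃int, rfl⟩⟩
  rintro _ ⟨a, ha, rfl⟩
  have ha'' : a ∈ MoreMor.sectionComponents f₃ g₃ := interior_subset ha
  have ha' : a ∈ connectedComponentIn (f₃ ⁻¹' {f₃ a}) (g₃ (f₃ a)) := ha''
  show W'.ι a ∈ connectedComponentIn (f ⁻¹' {f (W'.ι a)}) (g (f (W'.ι a)))
  have hpre := (isPreconnected_connectedComponentIn (F := f₃ ⁻¹' {f₃ a}) (x := g₃ (f₃ a))).image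
    W'.ι W'.ι.continuous.continuousOn
  have hsub : W'.ι '' connectedComponentIn (f₃ ⁻¹' {f₃ a}) (g₃ (f₃ a)) ⊆
      f ⁻¹' {f (W'.ι a)} := by
    rintro _ ⟨b, hb, rfl⟩
    have hb' : f₃ b = f₃ a := connectedComponentIn_subset (f₃ ⁻¹' {f₃ a}) (g₃ (f₃ a)) hb
    show f (W'.ι b) = f (W'.ι a)
    rw [← hf₃, ← hf₃, hb']
  have hmem : g (f (W'.ι a)) ∈ W'.ι '' connectedComponentIn (f₃ ⁻¹' {f₃ a}) (g₃ (f₃ a)) := by
    refine ⟨g₃ (f₃ a), mem_connectedComponentIn ?_, ?_⟩
    · show f₃ (g₃ (f₃ a)) = f₃ a
      rw [← Scheme.Hom.comp_apply, hg₃]; rfl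
    · rw [hg₃p, hf₃]
  exact hpre.subset_connectedComponentIn hmem hsub ⟨a, ha', rfl⟩

end Gen

end Groth.Agent.Lib.Helper22.UOf
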