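import Mathlib
import Groth.Agent.Lib.Helper22UOe
import Groth.Agent.Lib.Helper22UOf
import Groth.Agent.Lib.Helper6Reduced
import Groth.Agent.S4963
import Groth.Agent.S5926

set_option autoImplicit false
set_option linter.style.haveILetI false
set_option linter.unusedSectionVars false
set_option linter.unusedVariables false
universe u
open AlgebraicGeometry CategoryTheory TopologicalSpace IsLocalRing Limits Topology

namespace Groth.Agent.Lib.Helper22.UOg

open Groth.Agent.Lib.Helper22.UOb Groth.Agent.Lib.Helper22.UOc Groth.Agent.Lib.Helper22.UOd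
open Groth.Agent.Lib.Helper22.UOe Groth.Agent.Lib.Helper22.UOf
open Groth.Agent.Lib.Helper22.SC
open Groth.Agent.Lib.Helper4.DimFormula
open Groth.Agent.Lib.Helper26.FGZ Groth.Agent.Lib.Helper3.LocusPair

/-- the set `W` of EGA IV 15.6.8. -/
def WSet {X Y : Scheme.{u}} (f : X ⟶ Y) (g : Y ⟶ X) : Set X :=
  {x : X | x ∈ MoreMor.sectionComponents f g ∧ (∃ V ∈ nhds (f.base x), ∀ z ∈ V, topologicalKrullDim ↥(connectedComponentIn (f.base ⁻¹' {z}) (g.base z)) = topologicalKrullDim ↥(connectedComponentIn (f.base ⁻¹' {(f.base x)}) (g.base (f.base x)))) ∧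
      FBase.IsGeomReducedAt (f.fiberToSpecResidueField (f.base x)) (f.asFiber x)}

section PKG

variable {X Y X' Y' : Scheme.{u}} {f : X ⟶ Y} {f' : X' ⟶ Y'} {g' : X' ⟶ X} {g : Y' ⟶ Y}
  (sq : IsPullback g' f' f g) (s : Y ⟶ X) (hs : s ≫ f = 𝟙 Y) (s' : Y' ⟶ X')
  (hs' : s' ≫ f' = 𝟙 Y') (hss : s' ≫ g' = g ≫ s)

include sq hs hs' hss in
/-- `W` is compatible with base change along a morphism which is open on the underlying spaces. -/
theorem wSet_eq_preimage [LocallyOfFiniteType f] (hirr : ∀ y, GIsc f s y)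
    (hopen : IsOpenMap g.base) : WSet f' s' = g'.base ⁻¹' WSet f s := by
  have hdim : ∀ y' : Y',
      topologicalKrullDim ↥(connectedComponentIn (f'.base ⁻¹' {y'}) (s'.base y')) =
      topologicalKrullDim ↥(connectedComponentIn (f.base ⁻¹' {g.base y'}) (s.base (g.base y'))) :=
    fun y' => dim_sectionComponent_eq sq s hs s' hs' hss y' (hirr _)
  have hSC := Groth.Agent.S1324.result f s hs f' g' g sq s' hs' hss
  ext x'
  have hfx : f.base (g'.base x') = g.base (f'.base x') := by
    rw [← Scheme.Hom.comp_apply, ← Scheme.Hom.comp_apply, sq.w]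
  constructor
  · rintro ⟨h1, ⟨V', hV', hV'd⟩, h3⟩
    refine ⟨?_, ⟨g.base '' V', ?_, ?_⟩, ?_⟩
    · rw [hSC] at h1
      exact h1
    · rw [hfx]
      exact hopen.image_mem_nhds hV'
    · rintro _ ⟨z', hz', rfl⟩
      rw [hfx, ← hdim z', ← hdim (f'.base x')]
      exact hV'd z' hz'
    · exact (gRAt_iff_of_isPullback sq x').mp h3
  · rintro ⟨h1, ⟨V, hV, hVd⟩, h3⟩
    refine ⟨?_, ⟨g.base ⁻¹' V, ?_, ?_⟩, ?_⟩
    · rw [hSC]
      exact h1
    · apply g.continuous.continuousAt.preimage_mem_nhds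
      rw [← hfx]
      exact hV
    · intro z' hz'
      rw [hdim z', hdim (f'.base x'), ← hfx]
      exact hVd _ hz'
    · exact (gRAt_iff_of_isPullback sq x').mpr h3

end PKG

section Const

variable {X Y : Scheme.{u}}

theorem wSet_eq_of_forall_dim_eq (f : X ⟶ Y) (g : Y ⟶ X) (d : WithBot ℕ∞)
    (hd : ∀ z, topologicalKrullDim ↥(connectedComponentIn (f.base ⁻¹' {z}) (g.base z)) = d) :
    WSet f g = {x : X | x ∈ MoreMor.sectionComponents f g ∧ GRAt f x} := by
  ext x
  constructor
  · rintro ⟨h1, -, h3⟩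
    exact ⟨h1, h3⟩
  · rintro ⟨h1, h3⟩
    exact ⟨h1, ⟨Set.univ, Filter.univ_mem, fun z _ => (hd z).trans (hd _).symm⟩, h3⟩

variable {X' Y' : Scheme.{u}} {f : X ⟶ Y} {f' : X' ⟶ Y'} {g' : X' ⟶ X} {g : Y' ⟶ Y}
  (sq : IsPullback g' f' f g) (s : Y ⟶ X) (hs : s ≫ f = 𝟙 Y) (s' : Y' ⟶ X')
  (hs' : s' ≫ f' = 𝟙 Y') (hss : s' ≫ g' = g ≫ s)

include sq hs hs' hss in
theorem wSet_eq_preimage_of_const (d : WithBot ℕ∞)
    (hd : ∀ z, topologicalKrullDim ↥(connectedComponentIn (f.base ⁻¹' {z}) (s.base z)) = d)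
    (hd' : ∀ z, topologicalKrullDim ↥(connectedComponentIn (f'.base ⁻¹' {z}) (s'.base z)) = d) :
    WSet f' s' = g'.base ⁻¹' WSet f s := by
  rw [wSet_eq_of_forall_dim_eq f s d hd, wSet_eq_of_forall_dim_eq f' s' d hd',
    Groth.Agent.S1324.result f s hs f' g' g sq s' hs' hss]
  ext x'
  constructor
  · rintro ⟨h1, h3⟩
    exact ⟨h1, (gRAt_iff_of_isPullback sq x').mp h3⟩
  · rintro ⟨h1, h3⟩
    exact ⟨h1, (gRAt_iff_of_isPullback sq x').mpr h3⟩

end Const

section Noeth

variable {X Y : Scheme.{u}}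

/-- EGA IV 15.6.8 over a reduced locally Noetherian base. -/
theorem isOpen_wSet_of_isReduced [IsLocallyNoetherian Y] [IsReduced Y] (f : X ⟶ Y)
    [LocallyOfFiniteType f] (g : Y ⟶ X) (hg : g ≫ f = 𝟙 Y) (hirr : ∀ y, GIsc f g y) :
    IsOpen (WSet f g) := by
  haveI : LocallyOfFinitePresentation f :=
    LocallyOfFinitePresentation.iff_locallyOfFiniteType.mpr inferInstance
  rw [isOpen_iff_mem_nhds]
  rintro x ⟨hxSC, hconst, hGR⟩
  have hflat := Groth.Agent.S5926.result f g hg hirr x hxSC hconst hGR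
  have hO := Groth.Agent.S4963.result f
  have hint := mem_interior_sectionComponents f g hg hirr x hxSC hconst hGR
  obtain ⟨N, hN, hNd⟩ := hconst
  have h1 : {x : X | (f.stalkMap x).hom.Flat ∧
      FBase.IsGeomReducedAt (f.fiberToSpecResidueField (f.base x)) (f.asFiber x)} ∈ nhds x :=
    hO.mem_nhds ⟨hflat, hGR⟩
  have h2 : interior (MoreMor.sectionComponents f g) ∈ nhds x := isOpen_interior.mem_nhds hint
  have h3 : f.base ⁻¹' interior N ∈ nhds x :=
    (isOpen_interior.preimage f.continuous).mem_nhds (mem_interior_iff_mem_nhds.mpr hN)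
  filter_upwards [h1, h2, h3] with a ha1 ha2 ha3
  have ha3' : f.base a ∈ interior N := ha3
  exact ⟨interior_subset ha2, ⟨N, mem_interior_iff_mem_nhds.mp ha3',
    fun z hz => (hNd z hz).trans (hNd _ (interior_subset ha3')).symm⟩, ha1.2⟩

/-- EGA IV 15.6.8 over a locally Noetherian base. -/
theorem isOpen_wSet_of_isLocallyNoetherian [IsLocallyNoetherian Y] (f : X ⟶ Y)
    [LocallyOfFiniteType f] (g : Y ⟶ X) (hg : g ≫ f = 𝟙 Y) (hirr : ∀ y, GIsc f g y) :
    IsOpen (WSet f g) := by
  have hsurj : Function.Surjective Y.nilradical.subschemeι.base := by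
    rw [← Set.range_eq_univ]
    exact Groth.Agent.Lib.Helper6.range_nilradical_subschemeι Y
  haveI : Surjective Y.nilradical.subschemeι := ⟨hsurj⟩
  haveI : IsLocallyNoetherian Y.nilradical.subscheme :=
    LocallyOfFiniteType.isLocallyNoetherian Y.nilradical.subschemeι
  haveI : IsReduced Y.nilradical.subscheme :=
    Groth.Agent.Lib.Helper6.isReduced_nilradical_subscheme Y
  have sq : IsPullback (pullback.fst f Y.nilradical.subschemeι)
      (pullback.snd f Y.nilradical.subschemeι) f Y.nilradical.subschemeι :=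
    IsPullback.of_hasPullback _ _
  have hσ : sectionBC f Y.nilradical.subschemeι g hg ≫ pullback.snd f Y.nilradical.subschemeι =
      𝟙 _ := sectionBC_snd _ _ _ _
  have hss : sectionBC f Y.nilradical.subschemeι g hg ≫ pullback.fst f Y.nilradical.subschemeι =
      Y.nilradical.subschemeι ≫ g := sectionBC_fst _ _ _ _
  have hopen : IsOpenMap Y.nilradical.subschemeι.base := by
    have hemb : IsOpenEmbedding Y.nilradical.subschemeι.base := by
      rw [Topology.isOpenEmbedding_iff]
      refine ⟨Y.nilradical.subschemeι.isClosedEmbedding.isEmbedding, ?_⟩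
      rw [Groth.Agent.Lib.Helper6.range_nilradical_subschemeι Y]
      exact isOpen_univ
    exact hemb.isOpenMap
  have hW := wSet_eq_preimage sq g hg _ hσ hss hirr hopen
  have hirr' : ∀ y', GIsc (pullback.snd f Y.nilradical.subschemeι)
      (sectionBC f Y.nilradical.subschemeι g hg) y' := fun y' =>
    (gIsc_iff sq g hg _ hσ hss y').mpr (hirr _)
  haveI : LocallyOfFiniteType (pullback.snd f Y.nilradical.subschemeι) := inferInstance
  have hopenr := isOpen_wSet_of_isReduced (pullback.snd f Y.nilradical.subschemeι)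
    (sectionBC f Y.nilradical.subschemeι g hg) hσ hirr'
  have hq : IsQuotientMap (pullback.fst f Y.nilradical.subschemeι).base := by
    refine IsClosedMap.isQuotientMap
      (pullback.fst f Y.nilradical.subschemeι).isClosedEmbedding.isClosedMap
      (pullback.fst f Y.nilradical.subschemeι).continuous ?_
    exact (inferInstance : Surjective (pullback.fst f Y.nilradical.subschemeι)).surj
  rw [← hq.isOpen_preimage, ← hW]
  exact hopenr

end Noeth

section FP

/-- Noetherian approximation of a finitely presented family with section whose section components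
are geometrically irreducible of constant dimension. -/
theorem exists_noetherian_stage (A : Type u) [CommRing A] {X : Scheme.{u}}
    (u : X ⟶ (specCone A).pt) [LocallyOfFinitePresentation u] [QuasiCompact u]
    [QuasiSeparated u] (σ : (specCone A).pt ⟶ X) (hσ : σ ≫ u = 𝟙 (specCone A).pt)
    (hirr : ∀ y, GIsc u σ y) (d : WithBot ℕ∞)
    (hdim : ∀ y, topologicalKrullDim ↥(connectedComponentIn (u.base ⁻¹' {y}) (σ.base y)) = d) :
    ∃ (YK XK : Scheme.{u}) (fK : XK ⟶ YK) (sK : YK ⟶ XK) (πK : (specCone A).pt ⟶ YK)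
      (sK' : X ⟶ XK), IsNoetherian YK ∧ LocallyOfFiniteType fK ∧ sK ≫ fK = 𝟙 _ ∧
      IsPullback sK' u fK πK ∧ σ ≫ sK' = πK ≫ sK ∧
      ∀ y : YK, GIsc fK sK y ∧
        topologicalKrullDim ↥(connectedComponentIn (fK.base ⁻¹' {y}) (sK.base y)) = d := by
  obtain ⟨j, XJ, fJ, sJ, sY, hsJ, h1, h2, hpbJ, hcommJ⟩ :=
    exists_stage_section (specDiagram A) (specCone A) (specIsLimit A) u σ hσ
  haveI := h1
  haveI := h2
  haveI : LocallyOfFiniteType fJ := inferInstance
  haveI : IsNoetherianRing ↑(CommRingCat.of ↥(j.unop.1)) := noeth_fgSub A j.unop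
  haveI : IsNoetherian ((specDiagram A).obj j) := by
    show IsNoetherian (Spec (CommRingCat.of ↥(j.unop.1)))
    infer_instance
  let E : Set ↥((specDiagram A).obj j) := {y | GIsc fJ sJ y ∧
      topologicalKrullDim ↥(connectedComponentIn (fJ.base ⁻¹' {y}) (sJ.base y)) = d}ᶜ
  have hE : Topology.IsConstructible E := (isConstructible_setOf_GIsc_dim_eq fJ sJ hsJ d).compl
  have hEempty : (specCone A).π.app j ⁻¹' E = ∅ := by
    rw [Set.eq_empty_iff_forall_notMem]
    intro y hy
    apply hy
    have e1 : GIsc fJ sJ (((specCone A).π.app j).base y) :=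
      (gIsc_iff hpbJ sJ hsJ σ hσ hcommJ y).mp (hirr y)
    have e2 := dim_sectionComponent_eq hpbJ sJ hsJ σ hσ hcommJ y e1
    exact ⟨e1, e2.symm.trans (hdim y)⟩
  obtain ⟨k, a, hka⟩ := Groth.Agent.Lib.Helper3.LimConstr.exists_preimage_eq_empty
    (specDiagram A) (specCone A) (specIsLimit A) j E hE hEempty
  have hpbKJ : IsPullback (pullback.fst fJ ((specDiagram A).map a))
      (pullback.snd fJ ((specDiagram A).map a)) fJ ((specDiagram A).map a) :=
    IsPullback.of_hasPullback _ _
  have hsK : sectionBC fJ ((specDiagram A).map a) sJ hsJ ≫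
      pullback.snd fJ ((specDiagram A).map a) = 𝟙 _ := sectionBC_snd _ _ _ _
  have hcommKJ : sectionBC fJ ((specDiagram A).map a) sJ hsJ ≫
      pullback.fst fJ ((specDiagram A).map a) = (specDiagram A).map a ≫ sJ :=
    sectionBC_fst _ _ _ _
  have hgoodK : ∀ y : ↥((specDiagram A).obj k),
      GIsc (pullback.snd fJ ((specDiagram A).map a))
        (sectionBC fJ ((specDiagram A).map a) sJ hsJ) y ∧
      topologicalKrullDim ↥(connectedComponentIn
        ((pullback.snd fJ ((specDiagram A).map a)).base ⁻¹' {y})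
        ((sectionBC fJ ((specDiagram A).map a) sJ hsJ).base y)) = d := by
    intro y
    have hy : ((specDiagram A).map a).base y ∉ E := by
      intro h
      have : y ∈ (specDiagram A).map a ⁻¹' E := h
      rw [hka] at this
      exact this
    have hy' : GIsc fJ sJ (((specDiagram A).map a).base y) ∧
        topologicalKrullDim ↥(connectedComponentIn
          (fJ.base ⁻¹' {((specDiagram A).map a).base y})
          (sJ.base (((specDiagram A).map a).base y))) = d := not_not.mp hy
    exact ⟨(gIsc_iff hpbKJ sJ hsJ _ hsK hcommKJ y).mpr hy'.1,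
      (dim_sectionComponent_eq hpbKJ sJ hsJ _ hsK hcommKJ y hy'.1).trans hy'.2⟩
  have hw : sY ≫ fJ = (u ≫ (specCone A).π.app k) ≫ (specDiagram A).map a := by
    rw [hpbJ.w, Category.assoc, (specCone A).w a]
  have hpbK : IsPullback (pullback.lift sY (u ≫ (specCone A).π.app k) hw) u
      (pullback.snd fJ ((specDiagram A).map a)) ((specCone A).π.app k) := by
    refine IsPullback.of_right ?_ (pullback.lift_snd _ _ _) hpbKJ
    rw [pullback.lift_fst, (specCone A).w a]
    exact hpbJ
  have hcommK : σ ≫ pullback.lift sY (u ≫ (specCone A).π.app k) hw =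
      (specCone A).π.app k ≫ sectionBC fJ ((specDiagram A).map a) sJ hsJ := by
    apply pullback.hom_ext
    · rw [Category.assoc, pullback.lift_fst, Category.assoc, sectionBC_fst, hcommJ,
        ← Category.assoc, (specCone A).w a]
    · rw [Category.assoc, pullback.lift_snd, ← Category.assoc, hσ, Category.id_comp,
        Category.assoc, sectionBC_snd, Category.comp_id]
  haveI : IsNoetherianRing ↑(CommRingCat.of ↥(k.unop.1)) := noeth_fgSub A k.unop
  have hNk : IsNoetherian ((specDiagram A).obj k) := by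
    show IsNoetherian (Spec (CommRingCat.of ↥(k.unop.1)))
    infer_instance
  exact ⟨(specDiagram A).obj k, pullback fJ ((specDiagram A).map a),
    pullback.snd fJ ((specDiagram A).map a), sectionBC fJ ((specDiagram A).map a) sJ hsJ,
    (specCone A).π.app k, pullback.lift sY (u ≫ (specCone A).π.app k) hw, hNk, inferInstance,
    hsK, hpbK, hcommK, hgoodK⟩

/-- EGA IV 15.6.8 over an affine base, with constant dimension. -/
theorem isOpen_wSet_of_affine (A : Type u) [CommRing A] {X : Scheme.{u}}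
    (u : X ⟶ (specCone A).pt) [LocallyOfFinitePresentation u] [QuasiCompact u]
    [QuasiSeparated u] (σ : (specCone A).pt ⟶ X) (hσ : σ ≫ u = 𝟙 (specCone A).pt)
    (hirr : ∀ y, GIsc u σ y) (d : WithBot ℕ∞)
    (hdim : ∀ y, topologicalKrullDim ↥(connectedComponentIn (u.base ⁻¹' {y}) (σ.base y)) = d) :
    IsOpen (WSet u σ) := by
  obtain ⟨YK, XK, fK, sK, πK, sK', hN, hLFT, hsK, hpbK, hcommK, hgoodK⟩ :=
    exists_noetherian_stage A u σ hσ hirr d hdim
  haveI := hN
  haveI := hLFT
  have hWk : IsOpen (WSet fK sK) :=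
    isOpen_wSet_of_isLocallyNoetherian fK sK hsK (fun y => (hgoodK y).1)
  have hW := wSet_eq_preimage_of_const hpbK sK hsK σ hσ hcommK d (fun z => (hgoodK z).2) hdim
  rw [hW]
  exact hWk.preimage sK'.continuous

/-- **EGA IV 15.6.8**, finite presentation case. -/
theorem isOpen_wSet_of_fp {X Y : Scheme.{u}} (f : X ⟶ Y)
    [LocallyOfFinitePresentation f] [QuasiCompact f] [QuasiSeparated f] (g : Y ⟶ X)
    (hg : g ≫ f = 𝟙 Y) (hirr : ∀ y, GIsc f g y) : IsOpen (WSet f g) := by
  rw [isOpen_iff_mem_nhds]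
  rintro x₀ hx₀W
  obtain ⟨hx₀, ⟨V, hV, hVd⟩, hred⟩ := id hx₀W
  obtain ⟨_, ⟨W, hW, rfl⟩, hyW, hWV⟩ := (Y.isBasis_affineOpens).exists_subset_of_mem_open
    (mem_interior_iff_mem_nhds.mpr hV) isOpen_interior
  have hWa : IsAffineOpen W := hW
  let j : (specCone Γ(Y, W)).pt ⟶ Y := hWa.fromSpec
  haveI : IsOpenImmersion j := by
    show IsOpenImmersion hWa.fromSpec
    infer_instance
  have hjW : ∀ y', j.base y' ∈ (W : Set Y) := by
    intro y'
    have : j.base y' ∈ Set.range hWa.fromSpec.base := Set.mem_range_self y'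
    rwa [hWa.range_fromSpec] at this
  have sq : IsPullback (pullback.fst f j) (pullback.snd f j) f j := IsPullback.of_hasPullback f j
  have hσ : sectionBC f j g hg ≫ pullback.snd f j = 𝟙 _ := sectionBC_snd _ _ _ _
  have hss : sectionBC f j g hg ≫ pullback.fst f j = j ≫ g := sectionBC_fst _ _ _ _
  obtain ⟨w, hw⟩ : ∃ w, j.base w = f.base x₀ := by
    have : f.base x₀ ∈ Set.range hWa.fromSpec.base := by
      rw [hWa.range_fromSpec]
      exact hyW
    exact this
  obtain ⟨x₀', hx₀'1, hx₀'2⟩ := Scheme.Pullback.exists_preimage_pullback x₀ w hw.symm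
  have hirr' : ∀ y', GIsc (pullback.snd f j) (sectionBC f j g hg) y' := fun y' =>
    (gIsc_iff sq g hg _ hσ hss y').mpr (hirr (j.base y'))
  have hdim' : ∀ y', topologicalKrullDim ↥(connectedComponentIn
      ((pullback.snd f j).base ⁻¹' {y'}) ((sectionBC f j g hg).base y')) =
      topologicalKrullDim ↥(connectedComponentIn (f.base ⁻¹' {(f.base x₀)})
          (g.base (f.base x₀))) := fun y' =>
    (dim_sectionComponent_eq sq g hg _ hσ hss y' (hirr (j.base y'))).trans
      (hVd _ (interior_subset (hWV (hjW y'))))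
  have hWeq := wSet_eq_preimage sq g hg _ hσ hss hirr j.isOpenEmbedding.isOpenMap
  have hopen' : IsOpen (WSet (pullback.snd f j) (sectionBC f j g hg)) :=
    isOpen_wSet_of_affine (Γ(Y, W) : Type u) (pullback.snd f j) (sectionBC f j g hg) hσ
      hirr' _ hdim'
  haveI : IsOpenImmersion (pullback.fst f j) := inferInstance
  have hmem : x₀' ∈ WSet (pullback.snd f j) (sectionBC f j g hg) := by
    rw [hWeq]
    show (pullback.fst f j).base x₀' ∈ WSet f g
    rw [hx₀'1]
    exact hx₀W
  have hnhds : (pullback.fst f j).base '' WSet (pullback.snd f j) (sectionBC f j g hg) ∈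
      nhds x₀ :=
    ((pullback.fst f j).isOpenEmbedding.isOpenMap _ hopen').mem_nhds ⟨x₀', hmem, hx₀'1⟩
  filter_upwards [hnhds]
  rintro _ ⟨a, ha, rfl⟩
  rw [hWeq] at ha
  exact ha

end FP

end Groth.Agent.Lib.Helper22.UOg
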