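import Mathlib
import Groth.Prelude
import Groth.Agent.Lib.Helper13SymAlg
import Groth.Agent.Lib.Helper23FTsub
import Groth.Agent.Lib.Helper10RelSpecHom
import Groth.Agent.Lib.Helper22ZmtFinC
import Groth.Agent.S8255

set_option autoImplicit false
set_option linter.style.haveILetI false
set_option linter.unusedSectionVars false
set_option linter.unusedVariables false
universe u

open AlgebraicGeometry CategoryTheory TopologicalSpace Opposite

namespace Groth.Agent.Lib.Helper22.VBEmb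

open Groth.Agent.Lib.Helper10.RelSpecHom

/-- closed immersion criterion over a cover of the target by affine opens with affine preimages -/
theorem isClosedImmersion_of_surjective_app {X Z : Scheme.{u}} (i : X ⟶ Z) {ι : Type*}
    (W : ι → Z.affineOpens) (hW : ⨆ k, (W k : Z.Opens) = ⊤)
    (haff : ∀ k, IsAffineOpen (i ⁻¹ᵁ (W k).1))
    (hsurj : ∀ k, Function.Surjective (i.app (W k).1).hom) : IsClosedImmersion i := by
  rw [HasAffineProperty.iff_of_iSup_eq_top (P := @IsClosedImmersion) W hW]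
  intro k
  refine ⟨haff k, ?_⟩
  have h := hsurj k
  rw [← Scheme.Opens.ι_image_top (W k).1] at h
  have h2 : Function.Surjective (i.app ((W k).1.ι ''ᵁ ⊤) ≫
      X.presheaf.map (eqToHom (image_morphismRestrict_preimage i (W k).1 ⊤)).op).hom := by
    rw [CommRingCat.hom_comp]
    exact ((ConcreteCategory.isIso_iff_bijective
      (X.presheaf.map (eqToHom (image_morphismRestrict_preimage i (W k).1 ⊤)).op)).mp
        inferInstance).2.comp h
  rw [morphismRestrict_appTop]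
  exact h2

open Groth.Agent.Helper13SymAlg in
/-- an affine morphism of finite type to a qcqs scheme embeds as a closed subscheme of a vector
bundle `V(E)` with `E` quasi-coherent of finite type. -/
theorem main {X Y : Scheme.{u}} [CompactSpace Y] [QuasiSeparatedSpace Y] (f : X ⟶ Y) [IsAffineHom f]
    [LocallyOfFiniteType f] :
    ∃ (E : Y.Modules) (_ : Coh.IsCoh E) (A : RelSpec.QCAlg Y) (j : E ⟶ A.toModule)
      (_ : RelSpec.IsSymAlg E A j) (i : X ⟶ A.spec), IsClosedImmersion i ∧ i ≫ A.π = f := by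
  classical
  let B : RelSpec.QCAlg Y := RelSpec.QCAlg.directImage f
  haveI : B.toModule.IsQuasicoherent := Groth.Agent.Helper18QCAlg.isQuasicoherent_toModule B
  obtain ⟨𝒱, h𝒱fin, h𝒱⟩ := isCompact_iff_finite_and_eq_biUnion_affineOpens.mp
    (show IsCompact ((⊤ : Y.Opens) : Set Y) from isCompact_univ)
  -- generators
  have hgen : ∀ V : Y.affineOpens, ∃ s : Finset Γ(X, f ⁻¹ᵁ V.1),
      ∀ C : Subring Γ(X, f ⁻¹ᵁ V.1), Set.range (f.app V.1).hom ⊆ C →
        (↑s : Set Γ(X, f ⁻¹ᵁ V.1)) ⊆ C → C = ⊤ := by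
    intro V
    have hft : (f.app V.1).hom.FiniteType := by
      rw [Scheme.Hom.app_eq_appLE]
      exact f.finiteType_appLE V.2 (V.2.preimage f) le_rfl
    letI := (f.app V.1).hom.toAlgebra
    obtain ⟨s, hs⟩ := (show Algebra.FiniteType Γ(Y, V.1) Γ(X, f ⁻¹ᵁ V.1) from hft).out
    refine ⟨s, fun C hC hsC => ?_⟩
    rw [eq_top_iff]
    intro x _
    have hx : x ∈ Algebra.adjoin Γ(Y, V.1) (↑s : Set Γ(X, f ⁻¹ᵁ V.1)) := by rw [hs]; trivial
    refine Algebra.adjoin_induction (p := fun y _ => y ∈ C) (fun y hy => hsC hy)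
      (fun r => hC ⟨r, rfl⟩) (fun y z _ _ hy hz => C.add_mem hy hz)
      (fun y z _ _ hy hz => C.mul_mem hy hz) hx
  choose s hs using hgen
  let a₀ : Σ U : Y.affineOpens, Γ(B.toModule, U.1) := ⟨⟨⊥, isAffineOpen_bot Y⟩, 0⟩
  let L : Finset (Σ U : Y.affineOpens, Γ(B.toModule, U.1)) :=
    h𝒱fin.toFinset.biUnion fun V => (s V).image fun a =>
      (⟨V, a⟩ : Σ U : Y.affineOpens, Γ(B.toModule, U.1))
  obtain ⟨E, j₀, hj₀, hq, hf, hmem⟩ :=
    Groth.Agent.Lib.Helper23.FTsub.exists_ft_sub_list B.toModule a₀ L.toList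
  haveI : E.IsQuasicoherent := hq
  let A : RelSpec.QCAlg Y := symAlg E
  let Ψ : A ⟶ B := ψ E B j₀
  have hΨ : j E ≫ RelSpec.QCAlg.Hom.toModuleMap Ψ = j₀ := j_ψ E B j₀
  let ω : AffAlg.alg A.π ⟶ AffAlg.alg f := A.gammaMap ≫ Ψ.hom
  have hω : A.π.c ≫ ω = f.c := by
    change A.π.c ≫ A.gammaMap ≫ Ψ.hom = f.c
    rw [← Category.assoc, A.π_c_gammaMap]
    exact Ψ.comm
  let i : X ⟶ A.spec := glued A.π f ω
  have hi : i ≫ A.π = f := glued_comp A.π f ω hω
  have halg : AffAlg.algHom A.π f i hi = ω := algHom_glued A.π f ω hω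
  have hiso : IsIso A.gammaMap := Groth.Agent.S8255.result A
  have happ : ∀ V : Y.Opens, i.appLE (A.π ⁻¹ᵁ V) (f ⁻¹ᵁ V) (by rw [← Scheme.Hom.comp_preimage, hi]) =
      A.gammaMap.app (op V) ≫ Ψ.hom.app (op V) := by
    intro V
    rw [← algHom_app A.π f i hi V, halg]
    rfl
  refine ⟨E, ⟨hq, hf⟩, A, j E, isSymAlg E, i, ?_, hi⟩
  let W : 𝒱 → A.spec.affineOpens := fun V => ⟨A.π ⁻¹ᵁ V.1.1, V.1.2.preimage A.π⟩
  have key : ∀ (U : A.spec.Opens) (W' : X.Opens) (hW' : W' = i ⁻¹ᵁ U),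
      Function.Surjective (i.appLE U W' hW'.le).hom → Function.Surjective (i.app U).hom := by
    intro U W' hW' h
    subst hW'
    rwa [Scheme.Hom.app_eq_appLE]
  refine isClosedImmersion_of_surjective_app i W ?_ ?_ ?_
  · rw [eq_top_iff]
    intro x _
    have hx : A.π x ∈ (⊤ : Y.Opens) := trivial
    rw [h𝒱] at hx
    simp only [Opens.mem_iSup] at hx
    obtain ⟨V, hV, hxV⟩ := hx
    exact Opens.mem_iSup.2 ⟨⟨V, hV⟩, hxV⟩
  · intro V
    have hpre : i ⁻¹ᵁ (A.π ⁻¹ᵁ V.1.1) = f ⁻¹ᵁ V.1.1 := by rw [← Scheme.Hom.comp_preimage, hi]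
    show IsAffineOpen (i ⁻¹ᵁ (A.π ⁻¹ᵁ V.1.1))
    rw [hpre]; exact V.1.2.preimage f
  · intro V
    have hpre : f ⁻¹ᵁ V.1.1 = i ⁻¹ᵁ (A.π ⁻¹ᵁ V.1.1) := by rw [← Scheme.Hom.comp_preimage, hi]
    refine key (A.π ⁻¹ᵁ V.1.1) (f ⁻¹ᵁ V.1.1) hpre ?_
    have happ' : ∀ t : Γ(A.spec, A.π ⁻¹ᵁ V.1.1),
        (i.appLE (A.π ⁻¹ᵁ V.1.1) (f ⁻¹ᵁ V.1.1) hpre.le).hom t =
          (Ψ.hom.app (op V.1.1)).hom ((A.gammaMap.app (op V.1.1)).hom t) := fun t =>
      congrArg (fun f => (CommRingCat.Hom.hom f) t) (happ V.1.1)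
    haveI : IsIso (A.gammaMap.app (op V.1.1)) := NatIso.isIso_app_of_isIso _ _
    have hbij : Function.Bijective (A.gammaMap.app (op V.1.1)).hom :=
      (ConcreteCategory.isIso_iff_bijective (A.gammaMap.app (op V.1.1))).mp inferInstance
    -- surjectivity of `Ψ` over `V`
    have hC : (Ψ.hom.app (op V.1.1)).hom.range = ⊤ := by
      refine hs V.1 _ ?_ ?_
      · rintro _ ⟨r, rfl⟩
        refine ⟨(A.str.app (op V.1.1)).hom r, ?_⟩
        exact congrArg (fun t => (CommRingCat.Hom.hom (t.app (op V.1.1))) r) Ψ.comm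
      · intro a ha
        have hmemL : (⟨V.1, a⟩ : Σ U : Y.affineOpens, Γ(B.toModule, U.1)) ∈ a₀ :: L.toList := by
          refine List.mem_cons_of_mem _ ?_
          rw [Finset.mem_toList]
          refine Finset.mem_biUnion.2 ⟨V.1, h𝒱fin.mem_toFinset.2 V.2, ?_⟩
          exact Finset.mem_image_of_mem _ ha
        obtain ⟨g, hg⟩ := hmem _ hmemL
        refine ⟨((j E).app V.1.1) g, ?_⟩
        have h1 := congrArg (fun t : E ⟶ B.toModule => (t.app V.1.1).hom g) hΨ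
        simp only [Scheme.Modules.Hom.comp_app] at h1
        exact h1.trans hg
    intro b
    have hb : b ∈ (Ψ.hom.app (op V.1.1)).hom.range := by rw [hC]; trivial
    obtain ⟨a', ha'⟩ := hb
    obtain ⟨t, ht⟩ := hbij.2 a'
    exact ⟨t, by rw [happ', ht, ha']⟩

end Groth.Agent.Lib.Helper22.VBEmb
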