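import Mathlib
import Groth.Agent.Lib.Helper22PruferNagataC
import Groth.Agent.Lib.Helper13Fiber

/-!
# helper22: reducedness for flat finite type algebras over valuation rings

* `exists_kill_nilradical`: `R` valuation ring, `B` torsion-free finite type `R`-algebra with `𝔪B`
  radical: there is `r ≡ 1 mod 𝔪B` killing the nilradical of `B`.
-/

set_option autoImplicit false
set_option linter.style.haveILetI false
set_option linter.unusedSectionVars false
set_option linter.unusedVariables false

universe u

namespace Groth.Agent.Lib.Helper22.ValRed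

open Groth.Agent.Lib.Helper22.PruferNagata

variable {R : Type u} [CommRing R] [IsDomain R] [ValuationRing R]

theorem valuationRing_localization (p : Ideal R) [p.IsPrime] :
    ValuationRing (Localization.AtPrime p) := by
  rw [ValuationRing.iff_dvd_total]
  refine ⟨fun x y => ?_⟩
  obtain ⟨⟨a, s⟩, rfl⟩ := IsLocalization.mk'_surjective p.primeCompl x
  obtain ⟨⟨b, t⟩, rfl⟩ := IsLocalization.mk'_surjective p.primeCompl y
  rcases ValuationRing.dvd_total a b with ⟨c, hc⟩ | ⟨c, hc⟩
  · left
    refine ⟨IsLocalization.mk' _ (c * s) t, ?_⟩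
    rw [← IsLocalization.mk'_mul, IsLocalization.mk'_eq_iff_eq]
    simp only [hc, Submonoid.coe_mul]
    congr 1
    ring
  · right
    refine ⟨IsLocalization.mk' _ (c * t) s, ?_⟩
    rw [← IsLocalization.mk'_mul, IsLocalization.mk'_eq_iff_eq]
    simp only [hc, Submonoid.coe_mul]
    congr 1
    ring

/-- an element of the extension `IB` of an ideal of a valuation ring is a multiple of a single
element of `I`. -/
theorem exists_eq_mul_of_mem_map {B : Type*} [CommRing B] [Algebra R B] (I : Ideal R) (x : B)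
    (hx : x ∈ I.map (algebraMap R B)) : ∃ π ∈ I, ∃ b : B, x = algebraMap R B π * b := by
  unfold Ideal.map at hx
  induction hx using Submodule.span_induction with
  | mem x hx =>
    obtain ⟨a, ha, rfl⟩ := hx
    exact ⟨a, ha, 1, (mul_one _).symm⟩
  | zero => exact ⟨0, I.zero_mem, 0, by simp⟩
  | add x y _ _ hx hy =>
    obtain ⟨π₁, h₁, b₁, rfl⟩ := hx
    obtain ⟨π₂, h₂, b₂, rfl⟩ := hy
    rcases ValuationRing.dvd_total π₁ π₂ with ⟨c, hc⟩ | ⟨c, hc⟩
    · refine ⟨π₁, h₁, b₁ + algebraMap R B c * b₂, ?_⟩
      rw [hc, map_mul]; ring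
    · refine ⟨π₂, h₂, algebraMap R B c * b₁ + b₂, ?_⟩
      rw [hc, map_mul]; ring
  | smul c x _ hx =>
    obtain ⟨π, h, b, rfl⟩ := hx
    exact ⟨π, h, c * b, by rw [smul_eq_mul]; ring⟩

theorem exists_kill_nilradical (B : Type u) [CommRing B] [Algebra R B] [Algebra.FiniteType R B]
    (htf : ∀ (a : R) (x : B), a ≠ 0 → a • x = 0 → x = 0)
    (hrad : ((IsLocalRing.maximalIdeal R).map (algebraMap R B)).IsRadical) :
    ∃ r : B, r - 1 ∈ (IsLocalRing.maximalIdeal R).map (algebraMap R B) ∧
      ∀ n ∈ nilradical B, r * n = 0 := by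
  have hR : ∀ (p : Ideal R) [p.IsMaximal], ValuationRing (Localization.AtPrime p) :=
    fun p _ => valuationRing_localization p
  haveI : Algebra.FinitePresentation R B := finitePresentation_of_torsionFree_prufer hR B htf
  have hsat : ∀ (a : R) (b : B), a ≠ 0 → algebraMap R B a * b ∈ nilradical B → b ∈ nilradical B := by
    intro a b ha hab
    obtain ⟨k, hk⟩ := hab
    refine ⟨k, ?_⟩
    rw [mul_pow, ← map_pow, ← Algebra.smul_def] at hk
    exact htf _ _ (pow_ne_zero k ha) hk
  have htfN : ∀ (a : R) (x : B ⧸ nilradical B), a ≠ 0 → a • x = 0 → x = 0 := by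
    intro a x ha hax
    obtain ⟨b, rfl⟩ := Ideal.Quotient.mk_surjective x
    have h0 : algebraMap R (B ⧸ nilradical B) a =
        Ideal.Quotient.mk (nilradical B) (algebraMap R B a) := rfl
    rw [Algebra.smul_def, h0, ← map_mul, Ideal.Quotient.eq_zero_iff_mem] at hax
    rw [Ideal.Quotient.eq_zero_iff_mem]
    exact hsat a b ha hax
  haveI : Algebra.FiniteType R (B ⧸ nilradical B) :=
    Algebra.FiniteType.of_surjective (Ideal.Quotient.mkₐ R (nilradical B))
      (Ideal.Quotient.mkₐ_surjective R (nilradical B))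
  haveI : Algebra.FinitePresentation R (B ⧸ nilradical B) :=
    finitePresentation_of_torsionFree_prufer hR _ htfN
  have hfg : (nilradical B).FG := by
    have := Algebra.FinitePresentation.ker_fG_of_surjective (Ideal.Quotient.mkₐ R (nilradical B))
      (Ideal.Quotient.mkₐ_surjective R (nilradical B))
    have hker : RingHom.ker (Ideal.Quotient.mkₐ R (nilradical B)).toRingHom = nilradical B :=
      Ideal.mk_ker
    rwa [hker] at this
  have hle : (nilradical B : Submodule B B) ≤
      ((IsLocalRing.maximalIdeal R).map (algebraMap R B)) • (nilradical B : Submodule B B) := by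
    intro n hn
    have h1 : n ∈ (IsLocalRing.maximalIdeal R).map (algebraMap R B) := by
      apply hrad
      obtain ⟨k, hk⟩ := hn
      exact ⟨k, by rw [hk]; exact Ideal.zero_mem _⟩
    obtain ⟨π, hπ, b, rfl⟩ := exists_eq_mul_of_mem_map _ n h1
    by_cases hπ0 : π = 0
    · rw [hπ0, map_zero, zero_mul]
      exact Submodule.zero_mem _
    · have hb : b ∈ nilradical B := hsat π b hπ0 hn
      exact Submodule.smul_mem_smul (Ideal.mem_map_of_mem _ hπ) hb
  obtain ⟨r, hr1, hr2⟩ := Submodule.exists_sub_one_mem_and_smul_eq_zero_of_fg_of_le_smul _ _ hfg hle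
  exact ⟨r, hr1, fun n hn => hr2 n hn⟩

theorem exists_kill_nilradical' (B : Type u) [CommRing B] [Algebra R B] [Algebra.FiniteType R B]
    (htf : ∀ (a : R) (x : B), a ≠ 0 → a • x = 0 → x = 0) (I : Ideal R)
    (hrad : (I.map (algebraMap R B)).IsRadical) :
    ∃ r : B, r - 1 ∈ I.map (algebraMap R B) ∧
      ∀ n ∈ nilradical B, r * n = 0 := by
  have hR : ∀ (p : Ideal R) [p.IsMaximal], ValuationRing (Localization.AtPrime p) :=
    fun p _ => valuationRing_localization p
  haveI : Algebra.FinitePresentation R B := finitePresentation_of_torsionFree_prufer hR B htf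
  have hsat : ∀ (a : R) (b : B), a ≠ 0 → algebraMap R B a * b ∈ nilradical B → b ∈ nilradical B := by
    intro a b ha hab
    obtain ⟨k, hk⟩ := hab
    refine ⟨k, ?_⟩
    rw [mul_pow, ← map_pow, ← Algebra.smul_def] at hk
    exact htf _ _ (pow_ne_zero k ha) hk
  have htfN : ∀ (a : R) (x : B ⧸ nilradical B), a ≠ 0 → a • x = 0 → x = 0 := by
    intro a x ha hax
    obtain ⟨b, rfl⟩ := Ideal.Quotient.mk_surjective x
    have h0 : algebraMap R (B ⧸ nilradical B) a =
        Ideal.Quotient.mk (nilradical B) (algebraMap R B a) := rfl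
    rw [Algebra.smul_def, h0, ← map_mul, Ideal.Quotient.eq_zero_iff_mem] at hax
    rw [Ideal.Quotient.eq_zero_iff_mem]
    exact hsat a b ha hax
  haveI : Algebra.FiniteType R (B ⧸ nilradical B) :=
    Algebra.FiniteType.of_surjective (Ideal.Quotient.mkₐ R (nilradical B))
      (Ideal.Quotient.mkₐ_surjective R (nilradical B))
  haveI : Algebra.FinitePresentation R (B ⧸ nilradical B) :=
    finitePresentation_of_torsionFree_prufer hR _ htfN
  have hfg : (nilradical B).FG := by
    have := Algebra.FinitePresentation.ker_fG_of_surjective (Ideal.Quotient.mkₐ R (nilradical B))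
      (Ideal.Quotient.mkₐ_surjective R (nilradical B))
    have hker : RingHom.ker (Ideal.Quotient.mkₐ R (nilradical B)).toRingHom = nilradical B :=
      Ideal.mk_ker
    rwa [hker] at this
  have hle : (nilradical B : Submodule B B) ≤
      (I.map (algebraMap R B)) • (nilradical B : Submodule B B) := by
    intro n hn
    have h1 : n ∈ I.map (algebraMap R B) := by
      apply hrad
      obtain ⟨k, hk⟩ := hn
      exact ⟨k, by rw [hk]; exact Ideal.zero_mem _⟩
    obtain ⟨π, hπ, b, rfl⟩ := exists_eq_mul_of_mem_map _ n h1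
    by_cases hπ0 : π = 0
    · rw [hπ0, map_zero, zero_mul]
      exact Submodule.zero_mem _
    · have hb : b ∈ nilradical B := hsat π b hπ0 hn
      exact Submodule.smul_mem_smul (Ideal.mem_map_of_mem _ hπ) hb
  obtain ⟨r, hr1, hr2⟩ := Submodule.exists_sub_one_mem_and_smul_eq_zero_of_fg_of_le_smul _ _ hfg hle
  exact ⟨r, hr1, fun n hn => hr2 n hn⟩


end Groth.Agent.Lib.Helper22.ValRed
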