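import Mathlib
import Groth.Agent.Lib.Helper22PruferNagataC
import Groth.Agent.Lib.Helper22ValRedA

/-!
# helper22: coherence-type lemmas for localizations of finite type torsion-free algebras over a
valuation ring

* `finitePresentation_of_torsionFree_localization`: a finite `V`-torsion-free module over a
  localization `A` of a finite type torsion-free `V`-algebra `B` is finitely presented over `A`.
-/

set_option autoImplicit false
set_option linter.style.haveILetI false
set_option linter.unusedSectionVars false
set_option linter.unusedVariables false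

universe u

namespace Groth.Agent.Lib.Helper22.ValPd

open Groth.Agent.Lib.Helper22.PruferNagata Groth.Agent.Lib.Helper22.ValRed

variable {V : Type u} [CommRing V] [IsDomain V] [ValuationRing V]

theorem finitePresentation_of_torsionFree_localization
    (B : Type u) [CommRing B] [Algebra V B] [Algebra.FiniteType V B]
    (hB : ∀ (a : V) (x : B), a ≠ 0 → a • x = 0 → x = 0)
    (S : Submonoid B) (A : Type u) [CommRing A] [Algebra B A] [IsLocalization S A]
    [Algebra V A] [IsScalarTower V B A]
    (M : Type u) [AddCommGroup M] [Module A M] [Module V M] [IsScalarTower V A M]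
    [Module.Finite A M] (hM : ∀ (a : V) (x : M), a ≠ 0 → a • x = 0 → x = 0) :
    Module.FinitePresentation A M := by
  classical
  have hR : ∀ (p : Ideal V) [p.IsMaximal], ValuationRing (Localization.AtPrime p) :=
    fun p _ => valuationRing_localization p
  letI : Module B M := Module.compHom M (algebraMap B A)
  haveI : IsScalarTower B A M := IsScalarTower.of_algebraMap_smul fun _ _ => rfl
  haveI : IsScalarTower V B M := by
    refine ⟨fun v b m => ?_⟩
    change algebraMap B A (v • b) • m = v • (algebraMap B A b • m)
    rw [Algebra.smul_def, map_mul, ← IsScalarTower.algebraMap_apply V B A, mul_smul,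
      algebraMap_smul]
  obtain ⟨s, hs⟩ := (Module.Finite.fg_top : (⊤ : Submodule A M).FG)
  let M₀ : Submodule B M := Submodule.span B (s : Set M)
  haveI : Module.Finite B M₀ := Module.Finite.span_of_finite B s.finite_toSet
  have hM₀ : ∀ (a : V) (x : M₀), a ≠ 0 → a • x = 0 → x = 0 := by
    intro a x ha hax
    apply Subtype.ext
    apply hM a x ha
    have := congrArg Subtype.val hax
    simpa using this
  haveI : Module.FinitePresentation B M₀ :=
    finitePresentation_module_of_torsionFree_prufer hR B hB M₀ hM₀
  haveI hloc : IsLocalizedModule S M₀.subtype := by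
    refine ⟨(isLocalizedModule_id S M A).map_units, ?_, ?_⟩
    · intro y
      have hy : y ∈ Submodule.span A (s : Set M) := by rw [hs]; trivial
      induction hy using Submodule.span_induction with
      | mem y hy => exact ⟨(⟨y, Submodule.subset_span hy⟩, 1), one_smul _ _⟩
      | zero => exact ⟨(0, 1), by simp⟩
      | add y z _ _ hy hz =>
        obtain ⟨⟨m₁, t₁⟩, h₁⟩ := hy
        obtain ⟨⟨m₂, t₂⟩, h₂⟩ := hz
        refine ⟨(t₂ • m₁ + t₁ • m₂, t₁ * t₂), ?_⟩
        simp only [Submodule.subtype_apply] at h₁ h₂ ⊢
        rw [Submodule.coe_add, Submodule.coe_smul_of_tower, Submodule.coe_smul_of_tower, ← h₁, ← h₂,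
          smul_add, mul_smul, mul_comm t₁ t₂, mul_smul, smul_comm t₁ t₂ y, smul_comm t₂ t₁ z]
      | smul a y _ hy =>
        obtain ⟨⟨m, t⟩, h⟩ := hy
        obtain ⟨⟨b, t'⟩, hb⟩ := IsLocalization.surj S a
        refine ⟨(b • m, t' * t), ?_⟩
        simp only [Submodule.subtype_apply] at h ⊢
        rw [Submodule.coe_smul, ← h]
        change algebraMap B A ((t' : B) * (t : B)) • a • y = algebraMap B A b • algebraMap B A t • y
        rw [← hb, map_mul]
        simp only [smul_smul]
        congr 1
        ring
    · intro x₁ x₂ h
      have : x₁ = x₂ := Subtype.ext h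
      exact ⟨1, by rw [this]⟩
  exact FinitePresentation.of_isBaseChange M₀.subtype
    ((isLocalizedModule_iff_isBaseChange S A M₀.subtype).mp hloc)

end Groth.Agent.Lib.Helper22.ValPd
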