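import Mathlib
import Groth.Agent.Lib.Helper22ValPdA
import Groth.Agent.Lib.Helper21PdLoc

/-!
# helper22: projective dimension over local rings flat over a valuation ring, via the fibre
-/

set_option autoImplicit false
set_option linter.style.haveILetI false
set_option linter.unusedSectionVars false
set_option linter.unusedVariables false

universe u

open CategoryTheory

namespace Groth.Agent.Lib.Helper22.ValPd

variable {V : Type u} [CommRing V] [IsDomain V] [ValuationRing V]

/-- single element trick: an element of `pF` is a multiple of a single element of `p`. -/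
theorem exists_eq_smul_of_mem_smul_top (p : Ideal V) {F : Type*} [AddCommGroup F] [Module V F]
    (x : F) (hx : x ∈ (p • ⊤ : Submodule V F)) : ∃ π ∈ p, ∃ y : F, x = π • y := by
  refine Submodule.smul_induction_on (p := fun x => ∃ π ∈ p, ∃ y : F, x = π • y) hx ?_ ?_
  · intro r hr n _
    exact ⟨r, hr, n, rfl⟩
  · rintro x y ⟨π₁, h₁, y₁, rfl⟩ ⟨π₂, h₂, y₂, rfl⟩
    rcases ValuationRing.dvd_total π₁ π₂ with ⟨c, hc⟩ | ⟨c, hc⟩
    · exact ⟨π₁, h₁, y₁ + c • y₂, by rw [hc, smul_add, mul_smul]⟩
    · exact ⟨π₂, h₂, c • y₁ + y₂, by rw [hc, smul_add, mul_smul]⟩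

variable {A : Type u} [CommRing A] [Algebra V A] (p : Ideal V)

/-- version for an `A`-module and the extended ideal `pA`. -/
theorem exists_eq_smul_of_mem_map_smul_top {F : Type*} [AddCommGroup F] [Module A F] [Module V F]
    [IsScalarTower V A F] (x : F)
    (hx : x ∈ (p.map (algebraMap V A) • ⊤ : Submodule A F)) : ∃ π ∈ p, ∃ y : F, x = π • y := by
  apply exists_eq_smul_of_mem_smul_top p x
  have h : (p • ⊤ : Submodule V F) =
      ((p.map (algebraMap V A) • ⊤ : Submodule A F)).restrictScalars V := by
    rw [Ideal.smul_restrictScalars, Submodule.restrictScalars_top]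
  rw [h]
  exact hx

/-- reduction mod `pA` of an injective map with `V`-torsion-free cokernel is injective. -/
theorem mapQ_injective_of_torsionFree {K' F K : Type*} [AddCommGroup K'] [Module A K']
    [AddCommGroup F] [Module A F] [Module V F] [IsScalarTower V A F]
    [AddCommGroup K] [Module A K] [Module V K] [IsScalarTower V A K]
    (hK : ∀ (a : V) (x : K), a ≠ 0 → a • x = 0 → x = 0)
    (i : K' →ₗ[A] F) (g : F →ₗ[A] K) (hi : Function.Injective i) (hex : Function.Exact i g)
    (x : K') (hx : i x ∈ (p.map (algebraMap V A) • ⊤ : Submodule A F)) :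
    x ∈ (p.map (algebraMap V A) • ⊤ : Submodule A K') := by
  obtain ⟨π, hπ, y, hy⟩ := exists_eq_smul_of_mem_map_smul_top p (i x) hx
  by_cases hπ0 : π = 0
  · rw [hπ0, zero_smul] at hy
    have : x = 0 := hi (by rw [hy, map_zero])
    rw [this]; exact Submodule.zero_mem _
  · have h1 : π • g y = 0 := by
      have : g (π • y) = 0 := by rw [← hy]; exact hex.apply_apply_eq_zero x
      rw [← algebraMap_smul A π y, map_smul, algebraMap_smul] at this
      exact this
    have h2 : g y = 0 := hK π _ hπ0 h1
    obtain ⟨x', hx'⟩ := (hex y).mp h2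
    have h3 : x = algebraMap V A π • x' := by
      apply hi
      rw [map_smul, hx', hy, algebraMap_smul]
    rw [h3]
    exact Submodule.smul_mem_smul (Ideal.mem_map_of_mem _ hπ) Submodule.mem_top

section Local

variable [IsLocalRing A]

/-- **freeness lifts from the fibre**: `K` finitely presented over the local ring `A`,
`V`-torsion-free, with `K/pK` free over `A/pA` (and `pA` in the maximal ideal): then `K` is free. -/
theorem free_of_free_quotient (hp : p.map (algebraMap V A) ≤ IsLocalRing.maximalIdeal A)
    (K : Type u) [AddCommGroup K] [Module A K] [Module V K] [IsScalarTower V A K]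
    [Module.FinitePresentation A K] (hK : ∀ (a : V) (x : K), a ≠ 0 → a • x = 0 → x = 0)
    [Module.Free (A ⧸ p.map (algebraMap V A))
      (K ⧸ (p.map (algebraMap V A) • ⊤ : Submodule A K))] : Module.Free A K := by
  classical
  have hjac : p.map (algebraMap V A) ≤ (⊥ : Ideal A).jacobson := by
    rw [IsLocalRing.jacobson_eq_maximalIdeal ⊥ bot_ne_top]
    exact hp
  haveI : Module.Finite (A ⧸ p.map (algebraMap V A))
      (K ⧸ (p.map (algebraMap V A) • ⊤ : Submodule A K)) :=
    Module.Finite.of_restrictScalars_finite A _ _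
  let ι := Module.Free.ChooseBasisIndex (A ⧸ p.map (algebraMap V A))
    (K ⧸ (p.map (algebraMap V A) • ⊤ : Submodule A K))
  let b : Module.Basis ι (A ⧸ p.map (algebraMap V A))
      (K ⧸ (p.map (algebraMap V A) • ⊤ : Submodule A K)) := Module.Free.chooseBasis _ _
  haveI : Fintype ι := Module.Free.ChooseBasisIndex.fintype _ _
  have hlift : ∀ i : ι, ∃ k : K, Submodule.Quotient.mk k = b i :=
    fun i => Submodule.Quotient.mk_surjective _ (b i)
  choose k hk using hlift
  let φ : (ι → A) →ₗ[A] K := Fintype.linearCombination A k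
  -- reduction of `φ`
  have hφmk : ∀ x : ι → A, (Submodule.Quotient.mk (φ x) :
      K ⧸ (p.map (algebraMap V A) • ⊤ : Submodule A K)) =
      ∑ i, (Ideal.Quotient.mk (p.map (algebraMap V A)) (x i)) • b i := by
    intro x
    have h0 : (Submodule.Quotient.mk (φ x) :
        K ⧸ (p.map (algebraMap V A) • ⊤ : Submodule A K)) =
        (p.map (algebraMap V A) • ⊤ : Submodule A K).mkQ (φ x) := rfl
    rw [h0]
    simp only [φ, Fintype.linearCombination_apply, map_sum, map_smul]
    refine Finset.sum_congr rfl fun i _ => ?_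
    rw [Submodule.mkQ_apply, hk]
    exact (algebraMap_smul (A ⧸ p.map (algebraMap V A)) (x i) (b i)).symm
  -- surjectivity by Nakayama
  have hsurj : Function.Surjective φ := by
    rw [← LinearMap.range_eq_top, eq_top_iff]
    refine Submodule.le_of_le_smul_of_le_jacobson_bot (I := p.map (algebraMap V A))
      Module.Finite.fg_top hjac ?_
    intro x _
    have h1 := b.sum_repr (Submodule.Quotient.mk x)
    obtain ⟨a, ha⟩ : ∃ a : ι → A, ∀ i, Ideal.Quotient.mk (p.map (algebraMap V A)) (a i) =
        b.repr (Submodule.Quotient.mk x) i :=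
      ⟨fun i => (Ideal.Quotient.mk_surjective (b.repr (Submodule.Quotient.mk x) i)).choose,
        fun i => (Ideal.Quotient.mk_surjective (b.repr (Submodule.Quotient.mk x) i)).choose_spec⟩
    have h2 : (Submodule.Quotient.mk (x - φ a) :
        K ⧸ (p.map (algebraMap V A) • ⊤ : Submodule A K)) = 0 := by
      rw [Submodule.Quotient.mk_sub, hφmk, ← h1]
      simp only [ha]
      exact sub_self _
    rw [Submodule.Quotient.mk_eq_zero] at h2
    have : x = φ a + (x - φ a) := by abel
    rw [this]
    exact Submodule.add_mem_sup (LinearMap.mem_range_self φ a) h2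
  -- injectivity
  have hfgker : (LinearMap.ker φ).FG := Module.FinitePresentation.fg_ker φ hsurj
  have hker : LinearMap.ker φ = ⊥ := by
    refine Submodule.eq_bot_of_le_smul_of_le_jacobson_bot (p.map (algebraMap V A)) _ hfgker ?_ hjac
    intro x hx
    rw [LinearMap.mem_ker] at hx
    -- coordinates of `x` lie in `pA`
    have hcoord : ∀ i, x i ∈ p.map (algebraMap V A) := by
      intro i
      have h1 := hφmk x
      rw [hx, Submodule.Quotient.mk_zero] at h1
      have h2 := Fintype.linearIndependent_iff.mp b.linearIndependent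
        (fun i => Ideal.Quotient.mk (p.map (algebraMap V A)) (x i)) h1.symm i
      exact Ideal.Quotient.eq_zero_iff_mem.mp h2
    have hxmem : x ∈ (p.map (algebraMap V A) • ⊤ : Submodule A (ι → A)) := by
      have : x = ∑ i, x i • (Pi.single i (1 : A) : ι → A) := by
        ext j
        simp [Finset.sum_apply, Pi.single_apply]
      rw [this]
      exact Submodule.sum_mem _ fun i _ => Submodule.smul_mem_smul (hcoord i) Submodule.mem_top
    obtain ⟨π, hπ, y, hy⟩ := exists_eq_smul_of_mem_map_smul_top p x hxmem
    by_cases hπ0 : π = 0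
    · rw [hy, hπ0, zero_smul]; exact Submodule.zero_mem _
    · have h1 : π • φ y = 0 := by
        rw [← algebraMap_smul A π (φ y), ← map_smul, algebraMap_smul, ← hy, hx]
      have h2 : φ y = 0 := hK π _ hπ0 h1
      rw [hy, ← algebraMap_smul A π y]
      exact Submodule.smul_mem_smul (Ideal.mem_map_of_mem _ hπ) (LinearMap.mem_ker.mpr h2)
  exact Module.Free.of_equiv
    (LinearEquiv.ofBijective φ ⟨LinearMap.ker_eq_bot.mp hker, hsurj⟩)

end Local

section Induction

variable [IsLocalRing A]

/-- the reduction functor on linear maps. -/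
noncomputable def redMap {M N : Type*} [AddCommGroup M] [Module A M] [AddCommGroup N] [Module A N]
    (I : Ideal A) (f : M →ₗ[A] N) :
    (M ⧸ (I • ⊤ : Submodule A M)) →ₗ[A ⧸ I] (N ⧸ (I • ⊤ : Submodule A N)) :=
  LinearMap.extendScalarsOfSurjective Ideal.Quotient.mk_surjective
    (Submodule.mapQ _ _ f (by
      rw [Submodule.smul_le]
      intro r hr n _
      rw [Submodule.mem_comap, map_smul]
      exact Submodule.smul_mem_smul hr Submodule.mem_top))

theorem redMap_mk {M N : Type*} [AddCommGroup M] [Module A M] [AddCommGroup N] [Module A N]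
    (I : Ideal A) (f : M →ₗ[A] N) (x : M) :
    redMap I f (Submodule.Quotient.mk x) = Submodule.Quotient.mk (f x) := rfl

theorem redMap_surjective {M N : Type*} [AddCommGroup M] [Module A M] [AddCommGroup N]
    [Module A N] (I : Ideal A) (f : M →ₗ[A] N) (hf : Function.Surjective f) :
    Function.Surjective (redMap I f) := by
  intro y
  obtain ⟨y, rfl⟩ := Submodule.Quotient.mk_surjective _ y
  obtain ⟨x, rfl⟩ := hf y
  exact ⟨Submodule.Quotient.mk x, rfl⟩

theorem redMap_exact {M N P : Type*} [AddCommGroup M] [Module A M] [AddCommGroup N]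
    [Module A N] [AddCommGroup P] [Module A P] (I : Ideal A) (f : M →ₗ[A] N) (g : N →ₗ[A] P)
    (hfg : Function.Exact f g) (hg : Function.Surjective g) :
    Function.Exact (redMap I f) (redMap I g) := by
  intro y
  obtain ⟨y, rfl⟩ := Submodule.Quotient.mk_surjective _ y
  constructor
  · intro h
    rw [redMap_mk, Submodule.Quotient.mk_eq_zero] at h
    -- `g y ∈ I P`, lift to `I N`
    have h1 : ∃ z ∈ (I • ⊤ : Submodule A N), g z = g y := by
      refine Submodule.smul_induction_on (p := fun w => ∃ z ∈ (I • ⊤ : Submodule A N), g z = w) h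
        ?_ ?_
      · intro r hr n _
        obtain ⟨n', rfl⟩ := hg n
        exact ⟨r • n', Submodule.smul_mem_smul hr Submodule.mem_top, map_smul _ _ _⟩
      · rintro _ _ ⟨z₁, h₁, rfl⟩ ⟨z₂, h₂, rfl⟩
        exact ⟨z₁ + z₂, Submodule.add_mem _ h₁ h₂, map_add _ _ _⟩
    obtain ⟨z, hz, hgz⟩ := h1
    have h2 : g (y - z) = 0 := by rw [map_sub, hgz, sub_self]
    obtain ⟨x, hx⟩ := (hfg (y - z)).mp h2
    refine ⟨Submodule.Quotient.mk x, ?_⟩
    rw [redMap_mk, hx, Submodule.Quotient.mk_sub, sub_eq_self, Submodule.Quotient.mk_eq_zero]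
    exact hz
  · rintro ⟨x, hx⟩
    obtain ⟨x, rfl⟩ := Submodule.Quotient.mk_surjective _ x
    rw [← hx, redMap_mk, redMap_mk, hfg.apply_apply_eq_zero, Submodule.Quotient.mk_zero]

variable (hp : p.map (algebraMap V A) ≤ IsLocalRing.maximalIdeal A)
  (hA : ∀ (a : V) (x : A), a ≠ 0 → a • x = 0 → x = 0)
  (hfp : ∀ (M : Type u) [AddCommGroup M] [Module A M] [Module V M] [IsScalarTower V A M]
    [Module.Finite A M], (∀ (a : V) (x : M), a ≠ 0 → a • x = 0 → x = 0) →
    Module.FinitePresentation A M)

include hp hA hfp in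
theorem pdLT_of_quotient (n : ℕ) :
    ∀ (K : Type u) [AddCommGroup K] [Module A K] [Module V K] [IsScalarTower V A K]
      [Module.FinitePresentation A K], (∀ (a : V) (x : K), a ≠ 0 → a • x = 0 → x = 0) →
      HasProjectiveDimensionLT (ModuleCat.of (A ⧸ p.map (algebraMap V A))
        (K ⧸ (p.map (algebraMap V A) • ⊤ : Submodule A K))) (n + 1) →
      HasProjectiveDimensionLT (ModuleCat.of A K) (n + 1) := by
  have hne : p.map (algebraMap V A) ≠ ⊤ := fun h =>
    (IsLocalRing.maximalIdeal.isMaximal A).ne_top (top_le_iff.mp (h ▸ hp))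
  haveI : Nontrivial (A ⧸ p.map (algebraMap V A)) := Ideal.Quotient.nontrivial_iff.mpr hne
  haveI : IsLocalRing (A ⧸ p.map (algebraMap V A)) :=
    IsLocalRing.of_surjective' (Ideal.Quotient.mk _) Ideal.Quotient.mk_surjective
  induction n with
  | zero =>
    intro K _ _ _ _ _ hK hpd
    rw [zero_add, Groth.Agent.Lib.Helper21.PdLoc.pdLT_one_iff] at hpd ⊢
    haveI := hpd
    haveI : Module.Finite (A ⧸ p.map (algebraMap V A))
        (K ⧸ (p.map (algebraMap V A) • ⊤ : Submodule A K)) :=
      Module.Finite.of_restrictScalars_finite A _ _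
    haveI : Module.Free (A ⧸ p.map (algebraMap V A))
        (K ⧸ (p.map (algebraMap V A) • ⊤ : Submodule A K)) := Module.free_of_flat_of_isLocalRing
    haveI := free_of_free_quotient p hp K hK
    infer_instance
  | succ n ih =>
    intro K _ _ _ _ _ hK hpd
    obtain ⟨r, g, hg⟩ := Module.Finite.exists_fin' A K
    let K' : Submodule A (Fin r → A) := LinearMap.ker g
    have hfgK' : K'.FG := Module.FinitePresentation.fg_ker g hg
    haveI : Module.Finite A K' := Module.Finite.iff_fg.mpr hfgK'
    have hF : ∀ (a : V) (x : Fin r → A), a ≠ 0 → a • x = 0 → x = 0 := by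
      intro a x ha hax
      funext i
      exact hA a (x i) ha (congrFun hax i)
    have hK' : ∀ (a : V) (x : K'), a ≠ 0 → a • x = 0 → x = 0 := by
      intro a x ha hax
      apply Subtype.ext
      apply hF a x ha
      have := congrArg Subtype.val hax
      simpa using this
    haveI : Module.FinitePresentation A K' := hfp K' hK'
    have hex : Function.Exact K'.subtype g := fun x => by
      simp [K', LinearMap.mem_ker]
    -- over `A`
    rw [Groth.Agent.Lib.Helper21.PdLoc.pdLT_succ_iff_of_ses K'.subtype g
      (Submodule.injective_subtype _) hg hex n]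
    apply ih K' hK'
    -- over the fibre
    haveI : Module.Free (A ⧸ p.map (algebraMap V A))
        ((Fin r → A) ⧸ (p.map (algebraMap V A) • ⊤ : Submodule A (Fin r → A))) :=
      Module.Free.of_equiv
        ((TensorProduct.quotTensorEquivQuotSMul (Fin r → A)
          (p.map (algebraMap V A))).extendScalarsOfSurjective Ideal.Quotient.mk_surjective)
    have hinj : Function.Injective (redMap (p.map (algebraMap V A)) K'.subtype) := by
      rw [injective_iff_map_eq_zero]
      intro x hx
      obtain ⟨x, rfl⟩ := Submodule.Quotient.mk_surjective _ x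
      rw [redMap_mk, Submodule.Quotient.mk_eq_zero] at hx
      rw [Submodule.Quotient.mk_eq_zero]
      exact mapQ_injective_of_torsionFree p hK K'.subtype g (Submodule.injective_subtype _) hex x hx
    rw [← Groth.Agent.Lib.Helper21.PdLoc.pdLT_succ_iff_of_ses
      (redMap (p.map (algebraMap V A)) K'.subtype) (redMap (p.map (algebraMap V A)) g) hinj
      (redMap_surjective _ g hg) (redMap_exact _ K'.subtype g hex hg) n]
    exact hpd

end Induction

end Groth.Agent.Lib.Helper22.ValPd
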