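import Mathlib
import Groth.Agent.Lib.Helper22ValPdB
import Groth.Agent.S0563

set_option autoImplicit false
set_option linter.style.haveILetI false
set_option linter.unusedSectionVars false
set_option linter.unusedVariables false

universe u

open CategoryTheory

namespace Groth.Agent.Lib.Helper22.ValPd

theorem torsionFree_of_flat {V : Type*} [CommRing V] [IsDomain V] (M : Type*) [AddCommGroup M]
    [Module V M] [Module.Flat V M] : ∀ (a : V) (x : M), a ≠ 0 → a • x = 0 → x = 0 := by
  intro a x ha hax
  have h := Module.Flat.isSMulRegular_of_nonZeroDivisors (M := M)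
    (mem_nonZeroDivisors_of_ne_zero ha)
  apply h
  show a • x = a • 0
  rw [smul_zero, hax]

section Concrete

variable (V : Type u) [CommRing V] [IsDomain V] [ValuationRing V]
    (B : Type u) [CommRing B] [Algebra V B] [Module.Flat V B] [Algebra.FinitePresentation V B]
    (q : Ideal B) [q.IsPrime]

theorem map_le_maximalIdeal :
    Ideal.map (algebraMap V (Localization.AtPrime q)) (Ideal.comap (algebraMap V B) q) ≤
      IsLocalRing.maximalIdeal (Localization.AtPrime q) := by
  rw [Ideal.map_le_iff_le_comap]
  intro a ha
  rw [Ideal.mem_comap, IsScalarTower.algebraMap_apply V B (Localization.AtPrime q),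
    IsLocalization.AtPrime.to_map_mem_maximal_iff (Localization.AtPrime q) q]
  exact ha

theorem torsionFree_localization :
    ∀ (a : V) (x : Localization.AtPrime q), a ≠ 0 → a • x = 0 → x = 0 := by
  haveI : Module.Flat B (Localization.AtPrime q) := IsLocalization.flat _ q.primeCompl
  haveI : Module.Flat V (Localization.AtPrime q) := Module.Flat.trans V B _
  exact torsionFree_of_flat _

theorem finitePresentation_of_torsionFree
    (M : Type u) [AddCommGroup M] [Module (Localization.AtPrime q) M] [Module V M]
    [IsScalarTower V (Localization.AtPrime q) M] [Module.Finite (Localization.AtPrime q) M]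
    (hM : ∀ (a : V) (x : M), a ≠ 0 → a • x = 0 → x = 0) :
    Module.FinitePresentation (Localization.AtPrime q) M :=
  finitePresentation_of_torsionFree_localization B (torsionFree_of_flat B) q.primeCompl
    (Localization.AtPrime q) M hM

/-- **S16178 core**: finitely presented `V`-torsion-free modules over `A = B_q` have projective
dimension at most the dimension of the regular fibre ring. -/
theorem pdLT_of_torsionFree (n : ℕ)
    (hreg : IsRegularLocalRing (Localization.AtPrime q ⧸ Ideal.map (algebraMap V (Localization.AtPrime q)) (Ideal.comap (algebraMap V B) q)))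
    (hn : ringKrullDim (Localization.AtPrime q ⧸ Ideal.map (algebraMap V (Localization.AtPrime q)) (Ideal.comap (algebraMap V B) q)) = n)
    (M : Type u) [AddCommGroup M] [Module (Localization.AtPrime q) M]
    [Module.FinitePresentation (Localization.AtPrime q) M]
    [Module V M] [IsScalarTower V (Localization.AtPrime q) M]
    (hM : ∀ (a : V) (x : M), a ≠ 0 → a • x = 0 → x = 0) :
    HasProjectiveDimensionLT (ModuleCat.of (Localization.AtPrime q) M) (n + 1) := by
  refine pdLT_of_quotient (Ideal.comap (algebraMap V B) q) (map_le_maximalIdeal V B q)
    (torsionFree_localization V B q)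
    (fun M _ _ _ _ _ hM => finitePresentation_of_torsionFree V B q M hM) n M hM ?_
  exact Groth.Agent.S0563.result _ n hn _

end Concrete

end Groth.Agent.Lib.Helper22.ValPd
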