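import Mathlib
import Groth.Agent.Lib.Helper22ValPdC

set_option autoImplicit false
set_option linter.style.haveILetI false
set_option linter.unusedSectionVars false
set_option linter.unusedVariables false

universe u

open CategoryTheory

namespace Groth.Agent.Lib.Helper22.ValPd

section Concrete

variable (V : Type u) [CommRing V] [IsDomain V] [ValuationRing V]
    (B : Type u) [CommRing B] [Algebra V B] [Module.Flat V B] [Algebra.FinitePresentation V B]
    (q : Ideal B) [q.IsPrime]

theorem torsionFree_pi (r : ℕ) :
    ∀ (a : V) (x : Fin r → Localization.AtPrime q), a ≠ 0 → a • x = 0 → x = 0 := by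
  intro a x ha hax
  funext i
  exact torsionFree_localization V B q a (x i) ha (congrFun hax i)

theorem torsionFree_submodule {F : Type*} [AddCommGroup F] [Module (Localization.AtPrime q) F]
    [Module V F] [IsScalarTower V (Localization.AtPrime q) F]
    (hF : ∀ (a : V) (x : F), a ≠ 0 → a • x = 0 → x = 0)
    (K : Submodule (Localization.AtPrime q) F) :
    ∀ (a : V) (x : K), a ≠ 0 → a • x = 0 → x = 0 := by
  intro a x ha hax
  apply Subtype.ext
  apply hF a x ha
  have := congrArg Subtype.val hax
  simpa using this

/-- **S16179 core**: every finitely presented module over `A = B_q` has projective dimension at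
most `n + 1`. -/
theorem pdLT_succ_of_finitePresentation (n : ℕ)
    (hreg : IsRegularLocalRing (Localization.AtPrime q ⧸ Ideal.map (algebraMap V (Localization.AtPrime q)) (Ideal.comap (algebraMap V B) q)))
    (hn : ringKrullDim (Localization.AtPrime q ⧸ Ideal.map (algebraMap V (Localization.AtPrime q)) (Ideal.comap (algebraMap V B) q)) = n)
    (M : Type u) [AddCommGroup M] [Module (Localization.AtPrime q) M]
    [Module.FinitePresentation (Localization.AtPrime q) M] :
    HasProjectiveDimensionLT (ModuleCat.of (Localization.AtPrime q) M) (n + 2) := by
  obtain ⟨r, g, hg⟩ := Module.Finite.exists_fin' (Localization.AtPrime q) M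
  have hfgK : (LinearMap.ker g).FG := Module.FinitePresentation.fg_ker g hg
  haveI : Module.Finite (Localization.AtPrime q) (LinearMap.ker g) := Module.Finite.iff_fg.mpr hfgK
  have hK := torsionFree_submodule V B q (torsionFree_pi V B q r) (LinearMap.ker g)
  haveI : Module.FinitePresentation (Localization.AtPrime q) (LinearMap.ker g) :=
    finitePresentation_of_torsionFree V B q _ hK
  have hex : Function.Exact (LinearMap.ker g).subtype g := fun x => by
    simp [LinearMap.mem_ker]
  rw [Groth.Agent.Lib.Helper21.PdLoc.pdLT_succ_iff_of_ses (LinearMap.ker g).subtype g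
    (Submodule.injective_subtype _) hg hex n]
  exact pdLT_of_torsionFree V B q n hreg hn _ hK

end Concrete

end Groth.Agent.Lib.Helper22.ValPd
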