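import Mathlib
import Groth.Agent.Lib.Helper22ValPdD

set_option autoImplicit false
set_option linter.style.haveILetI false
set_option linter.unusedSectionVars false
set_option linter.unusedVariables false

universe u

open CategoryTheory

namespace Groth.Agent.Lib.Helper22.ValPd

section Dual

variable {A : Type*} [CommRing A]

/-- a functional vanishing on the kernel of a surjection factors through it. -/
theorem mem_range_dualMap_iff {N P : Type*} [AddCommGroup N] [Module A N] [AddCommGroup P]
    [Module A P] (π : N →ₗ[A] P) (hπ : Function.Surjective π) (f : Module.Dual A N) :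
    f ∈ LinearMap.range π.dualMap ↔ ∀ l ∈ LinearMap.ker π, f l = 0 := by
  constructor
  · rintro ⟨f', rfl⟩ l hl
    rw [LinearMap.dualMap_apply, LinearMap.mem_ker.mp hl, map_zero]
  · intro h
    have hle : LinearMap.ker π ≤ LinearMap.ker f := fun l hl => LinearMap.mem_ker.mpr (h l hl)
    refine ⟨((LinearMap.ker π).liftQ f hle).comp (π.quotKerEquivOfSurjective hπ).symm.toLinearMap, ?_⟩
    ext x
    rw [LinearMap.dualMap_apply, LinearMap.comp_apply, LinearEquiv.coe_coe,
      LinearMap.quotKerEquivOfSurjective_symm_apply, Submodule.liftQ_apply]

end Dual

section Concrete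

variable (V : Type u) [CommRing V] [IsDomain V] [ValuationRing V]
    (B : Type u) [CommRing B] [Algebra V B] [Module.Flat V B] [Algebra.FinitePresentation V B]
    (q : Ideal B) [q.IsPrime]

theorem torsionFree_dual (N : Type*) [AddCommGroup N] [Module (Localization.AtPrime q) N] :
    ∀ (a : V) (f : Module.Dual (Localization.AtPrime q) N), a ≠ 0 → a • f = 0 → f = 0 := by
  intro a f ha haf
  ext x
  have : a • f x = 0 := by
    have := LinearMap.congr_fun haf x
    simpa using this
  exact torsionFree_localization V B q a (f x) ha this

include V in
/-- the dual of a finitely presented module over `A = B_q` is finite. -/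
theorem finite_dual (M : Type u) [AddCommGroup M] [Module (Localization.AtPrime q) M]
    [Module.FinitePresentation (Localization.AtPrime q) M] :
    Module.Finite (Localization.AtPrime q) (Module.Dual (Localization.AtPrime q) M) := by
  obtain ⟨r, g, hg⟩ := Module.Finite.exists_fin' (Localization.AtPrime q) M
  have hfgK : (LinearMap.ker g).FG := Module.FinitePresentation.fg_ker g hg
  haveI : Module.Finite (Localization.AtPrime q) (LinearMap.ker g) := Module.Finite.iff_fg.mpr hfgK
  obtain ⟨s, h', hh'⟩ := Module.Finite.exists_fin' (Localization.AtPrime q) (LinearMap.ker g)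
  let h : (Fin s → Localization.AtPrime q) →ₗ[Localization.AtPrime q]
      (Fin r → Localization.AtPrime q) := (LinearMap.ker g).subtype.comp h'
  have hrange : LinearMap.range h = LinearMap.ker g := by
    rw [LinearMap.range_comp, LinearMap.range_eq_top.mpr hh', Submodule.map_top,
      Submodule.range_subtype]
  -- `range g* = ker h*`
  have hker : LinearMap.range g.dualMap = LinearMap.ker h.dualMap := by
    ext f
    rw [mem_range_dualMap_iff g hg, LinearMap.mem_ker]
    constructor
    · intro hf
      refine LinearMap.ext fun x => ?_
      rw [LinearMap.dualMap_apply, LinearMap.zero_apply]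
      exact hf _ (hrange ▸ LinearMap.mem_range_self h x)
    · intro hf l hl
      rw [← hrange] at hl
      obtain ⟨x, rfl⟩ := hl
      have := LinearMap.congr_fun hf x
      simpa using this
  -- `range h*` is finitely presented
  haveI : Module.Finite (Localization.AtPrime q) (LinearMap.range h.dualMap) :=
    Module.Finite.range h.dualMap
  have htf := torsionFree_submodule V B q
    (torsionFree_dual V B q (Fin s → Localization.AtPrime q)) (LinearMap.range h.dualMap)
  haveI : Module.FinitePresentation (Localization.AtPrime q) (LinearMap.range h.dualMap) :=
    finitePresentation_of_torsionFree V B q (LinearMap.range h.dualMap) htf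
  haveI : Module.Finite (Localization.AtPrime q)
      (Module.Dual (Localization.AtPrime q) (Fin r → Localization.AtPrime q)) := inferInstance
  have hfgker : (LinearMap.ker h.dualMap.rangeRestrict).FG :=
    Module.FinitePresentation.fg_ker (R := Localization.AtPrime q)
      (M := Module.Dual (Localization.AtPrime q) (Fin r → Localization.AtPrime q))
      (N := LinearMap.range h.dualMap) h.dualMap.rangeRestrict
      h.dualMap.surjective_rangeRestrict
  rw [LinearMap.ker_rangeRestrict, ← hker] at hfgker
  haveI : Module.Finite (Localization.AtPrime q) (LinearMap.range g.dualMap) :=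
    Module.Finite.iff_fg.mpr hfgker
  exact Module.Finite.equiv
    (LinearEquiv.ofInjective g.dualMap (LinearMap.dualMap_injective_of_surjective hg)).symm

include V in
/-- **S16180 core**: a finitely presented reflexive module over `A = B_q` has projective dimension
at most `n - 1`. -/
theorem pdLT_of_reflexive (n : ℕ)
    (hreg : IsRegularLocalRing (Localization.AtPrime q ⧸ Ideal.map (algebraMap V (Localization.AtPrime q)) (Ideal.comap (algebraMap V B) q)))
    (hn : ringKrullDim (Localization.AtPrime q ⧸ Ideal.map (algebraMap V (Localization.AtPrime q)) (Ideal.comap (algebraMap V B) q)) = n)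
    (M : Type u) [AddCommGroup M] [Module (Localization.AtPrime q) M]
    [Module.FinitePresentation (Localization.AtPrime q) M]
    [Module.IsReflexive (Localization.AtPrime q) M] :
    HasProjectiveDimensionLT (ModuleCat.of (Localization.AtPrime q) M) (n - 1 + 1) := by
  haveI := finite_dual V B q M
  obtain ⟨t, π, hπ⟩ := Module.Finite.exists_fin' (Localization.AtPrime q)
    (Module.Dual (Localization.AtPrime q) M)
  let ι : M →ₗ[Localization.AtPrime q]
      Module.Dual (Localization.AtPrime q) (Fin t → Localization.AtPrime q) :=
    π.dualMap.comp (Module.evalEquiv (Localization.AtPrime q) M).toLinearMap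
  have hι : Function.Injective ι :=
    (LinearMap.dualMap_injective_of_surjective hπ).comp
      (Module.evalEquiv (Localization.AtPrime q) M).injective
  have hrange : LinearMap.range ι = LinearMap.range π.dualMap := by
    rw [LinearMap.range_comp, LinearEquiv.range, Submodule.map_top]
  -- the cokernel is torsion-free
  have hC : ∀ (a : V) (c : Module.Dual (Localization.AtPrime q)
      (Fin t → Localization.AtPrime q) ⧸ LinearMap.range ι), a ≠ 0 → a • c = 0 → c = 0 := by
    intro a c ha hac
    obtain ⟨f, rfl⟩ := Submodule.Quotient.mk_surjective _ c
    rw [← Submodule.Quotient.mk_smul, Submodule.Quotient.mk_eq_zero, hrange,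
      mem_range_dualMap_iff π hπ] at hac
    rw [Submodule.Quotient.mk_eq_zero, hrange, mem_range_dualMap_iff π hπ]
    intro l hl
    have h1 := hac l hl
    rw [LinearMap.smul_apply] at h1
    exact torsionFree_localization V B q a (f l) ha h1
  haveI : Module.FinitePresentation (Localization.AtPrime q)
      (Module.Dual (Localization.AtPrime q)
        (Fin t → Localization.AtPrime q) ⧸ LinearMap.range ι) :=
    finitePresentation_of_torsionFree V B q _ hC
  have hpdC := pdLT_of_torsionFree V B q n hreg hn _ hC
  have hex : Function.Exact ι (LinearMap.range ι).mkQ := LinearMap.exact_map_mkQ_range ι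
  rw [← Groth.Agent.Lib.Helper21.PdLoc.pdLT_succ_iff_of_ses ι (LinearMap.range ι).mkQ hι
    (Submodule.mkQ_surjective _) hex (n - 1)]
  exact hasProjectiveDimensionLT_of_ge _ (n + 1) _ (by omega)

end Concrete

end Groth.Agent.Lib.Helper22.ValPd
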