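import Mathlib
import Groth.Agent.Lib.Helper22ValPdD
import Groth.Agent.Lib.Helper5FFR

set_option autoImplicit false
set_option linter.style.haveILetI false
set_option linter.unusedSectionVars false
set_option linter.unusedVariables false

universe u

open CategoryTheory TensorProduct

namespace Groth.Agent.Lib.Helper22.ValPd

open Groth.Agent.Lib.Helper5.FFR

/-- The `A`-span of a set generating an `A'`-module `L` (`A'` a localization of `A`) localizes
to `L`. -/
theorem isLocalizedModule_span_subtype {A : Type*} [CommRing A] (S : Submonoid A) (A' : Type*)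
    [CommRing A'] [Algebra A A'] [IsLocalization S A'] (L : Type*) [AddCommGroup L] [Module A L]
    [Module A' L] [IsScalarTower A A' L] (s : Set L) (hs : Submodule.span A' s = ⊤) :
    IsLocalizedModule S (Submodule.span A s).subtype := by
  refine ⟨(isLocalizedModule_id S L A').map_units, ?_, ?_⟩
  · intro y
    have hy : y ∈ Submodule.span A' s := by rw [hs]; trivial
    induction hy using Submodule.span_induction with
    | mem y hy => exact ⟨(⟨y, Submodule.subset_span hy⟩, 1), one_smul _ _⟩
    | zero => exact ⟨(0, 1), by simp⟩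
    | add y z _ _ hy hz =>
      obtain ⟨⟨m₁, t₁⟩, h₁⟩ := hy
      obtain ⟨⟨m₂, t₂⟩, h₂⟩ := hz
      refine ⟨(t₂ • m₁ + t₁ • m₂, t₁ * t₂), ?_⟩
      simp only [Submodule.subtype_apply] at h₁ h₂ ⊢
      rw [Submodule.coe_add, Submodule.coe_smul_of_tower, Submodule.coe_smul_of_tower, ← h₁, ← h₂,
        smul_add, mul_smul, mul_comm t₁ t₂, mul_smul, smul_comm t₁ t₂ y, smul_comm t₂ t₁ z]
    | smul a y _ hy =>
      obtain ⟨⟨m, t⟩, h⟩ := hy
      obtain ⟨⟨b, t'⟩, hb⟩ := IsLocalization.surj S a
      refine ⟨(b • m, t' * t), ?_⟩
      simp only [Submodule.subtype_apply] at h ⊢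
      rw [Submodule.coe_smul, ← h]
      simp only [Submonoid.smul_def, Submonoid.coe_mul]
      rw [← algebraMap_smul A' ((t' : A) * (t : A)) (a • y), ← algebraMap_smul A' b ((t : A) • y),
        ← algebraMap_smul A' (t : A) y, smul_smul, smul_smul, map_mul]
      simp only at hb
      rw [← hb]
      congr 1
      ring
  · intro x₁ x₂ h
    have : x₁ = x₂ := Subtype.ext h
    exact ⟨1, by rw [this]⟩

section Abstract

variable {V : Type u} [CommRing V] [IsDomain V] [ValuationRing V]
  {A : Type u} [CommRing A] [Algebra V A] [IsLocalRing A]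
  (hA : ∀ (a : V) (x : A), a ≠ 0 → a • x = 0 → x = 0)
  (hfp : ∀ (M : Type u) [AddCommGroup M] [Module A M] [Module V M] [IsScalarTower V A M]
    [Module.Finite A M], (∀ (a : V) (x : M), a ≠ 0 → a • x = 0 → x = 0) →
    Module.FinitePresentation A M)

include hA hfp in
/-- finitely presented modules of finite projective dimension have finite free resolutions. -/
theorem hasFFR_of_pdLT (n : ℕ) :
    ∀ (M : Type u) [AddCommGroup M] [Module A M] [Module.FinitePresentation A M],
      HasProjectiveDimensionLT (ModuleCat.of A M) (n + 1) → HasFFR A n M := by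
  induction n with
  | zero =>
    intro M _ _ _ hpd
    rw [zero_add, Groth.Agent.Lib.Helper21.PdLoc.pdLT_one_iff] at hpd
    haveI := hpd
    rw [hasFFR_zero_iff]
    exact ⟨Module.free_of_flat_of_isLocalRing, inferInstance⟩
  | succ n ih =>
    intro M _ _ _ hpd
    obtain ⟨r, g, hg⟩ := Module.Finite.exists_fin' A M
    have hfgK : (LinearMap.ker g).FG := Module.FinitePresentation.fg_ker g hg
    haveI : Module.Finite A (LinearMap.ker g) := Module.Finite.iff_fg.mpr hfgK
    have hF : ∀ (a : V) (x : Fin r → A), a ≠ 0 → a • x = 0 → x = 0 := by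
      intro a x ha hax
      funext i
      exact hA a (x i) ha (congrFun hax i)
    have hK : ∀ (a : V) (x : LinearMap.ker g), a ≠ 0 → a • x = 0 → x = 0 := by
      intro a x ha hax
      apply Subtype.ext
      apply hF a x ha
      have := congrArg Subtype.val hax
      simpa using this
    haveI : Module.FinitePresentation A (LinearMap.ker g) := hfp _ hK
    have hex : Function.Exact (LinearMap.ker g).subtype g := fun x => by
      simp [LinearMap.mem_ker]
    rw [Groth.Agent.Lib.Helper21.PdLoc.pdLT_succ_iff_of_ses (LinearMap.ker g).subtype g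
      (Submodule.injective_subtype _) hg hex n] at hpd
    rw [hasFFR_succ_iff]
    exact ⟨Fin r → A, inferInstance, inferInstance, inferInstance, inferInstance, g, hg,
      ih _ hpd⟩

end Abstract

end Groth.Agent.Lib.Helper22.ValPd
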