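import Mathlib
import Groth.Agent.Lib.Helper22ValPdF

set_option autoImplicit false
set_option linter.style.haveILetI false
set_option linter.unusedSectionVars false
set_option linter.unusedVariables false

universe u

open CategoryTheory TensorProduct

namespace Groth.Agent.Lib.Helper22.ValPd

open Groth.Agent.Lib.Helper5.FFR

/-- **S9248**: `Pic (K ⊗_R A) = 0` for `A` local, flat and essentially of finite type over a
valuation ring `R` with regular closed fibre. -/
theorem pic_genericFibre_subsingleton (R A : Type u) [CommRing R] [IsDomain R]
    [ValuationRing R] [CommRing A] [IsLocalRing A] [Algebra R A] [IsLocalHom (algebraMap R A)]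
    [Module.Flat R A] [Algebra.EssFiniteType R A]
    (hreg : IsRegularRing (TensorProduct R (IsLocalRing.ResidueField R) A)) :
    Subsingleton (CommRing.Pic (TensorProduct R (FractionRing R) A)) := by
  classical
  -- coherence-type hypothesis
  have hA : ∀ (a : R) (x : A), a ≠ 0 → a • x = 0 → x = 0 := torsionFree_of_flat A
  have hB₀ : ∀ (a : R) (x : Algebra.EssFiniteType.subalgebra R A), a ≠ 0 → a • x = 0 → x = 0 := by
    intro a x ha hax
    apply Subtype.ext
    apply hA a x ha
    have := congrArg Subtype.val hax
    simpa using this
  have hfp : ∀ (M : Type u) [AddCommGroup M] [Module A M] [Module R M] [IsScalarTower R A M]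
      [Module.Finite A M], (∀ (a : R) (x : M), a ≠ 0 → a • x = 0 → x = 0) →
      Module.FinitePresentation A M := fun M _ _ _ _ _ hM =>
    finitePresentation_of_torsionFree_localization (Algebra.EssFiniteType.subalgebra R A) hB₀
      (Algebra.EssFiniteType.submonoid R A) A M hM
  -- the closed fibre
  have hp : (IsLocalRing.maximalIdeal R).map (algebraMap R A) ≤ IsLocalRing.maximalIdeal A :=
    ((IsLocalRing.local_hom_TFAE (algebraMap R A)).out 0 2 rfl rfl).mp inferInstance
  have hne : (IsLocalRing.maximalIdeal R).map (algebraMap R A) ≠ ⊤ := fun h =>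
    (IsLocalRing.maximalIdeal.isMaximal A).ne_top (top_le_iff.mp (h ▸ hp))
  haveI : Nontrivial (A ⧸ (IsLocalRing.maximalIdeal R).map (algebraMap R A)) :=
    Ideal.Quotient.nontrivial_iff.mpr hne
  haveI : IsLocalRing (A ⧸ (IsLocalRing.maximalIdeal R).map (algebraMap R A)) :=
    IsLocalRing.of_surjective' (Ideal.Quotient.mk _) Ideal.Quotient.mk_surjective
  let e : TensorProduct R (IsLocalRing.ResidueField R) A ≃+*
      A ⧸ (IsLocalRing.maximalIdeal R).map (algebraMap R A) :=
    ((Algebra.TensorProduct.comm R (IsLocalRing.ResidueField R) A).trans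
      ((Algebra.TensorProduct.quotIdealMapEquivTensorQuot A
        (IsLocalRing.maximalIdeal R)).symm.restrictScalars R)).toRingEquiv
  haveI := hreg
  haveI : IsRegularRing (A ⧸ (IsLocalRing.maximalIdeal R).map (algebraMap R A)) :=
    IsRegularRing.of_ringEquiv e
  haveI hregloc : IsRegularLocalRing (A ⧸ (IsLocalRing.maximalIdeal R).map (algebraMap R A)) :=
    IsRegularLocalRing.of_isRegularRing_of_isLocalRing _
  obtain ⟨n, hn⟩ := Groth.Agent.Lib.Helper5.exists_nat_ringKrullDim_eq
    (A ⧸ (IsLocalRing.maximalIdeal R).map (algebraMap R A))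
  -- finite free resolutions of torsion-free finite modules
  have hffr : ∀ (M : Type u) [AddCommGroup M] [Module A M] [Module R M] [IsScalarTower R A M]
      [Module.Finite A M], (∀ (a : R) (x : M), a ≠ 0 → a • x = 0 → x = 0) → HasFFR A n M := by
    intro M _ _ _ _ _ hM
    haveI : Module.FinitePresentation A M := hfp M hM
    apply hasFFR_of_pdLT hA hfp n M
    exact pdLT_of_quotient (IsLocalRing.maximalIdeal R) hp hA hfp n M hM
      (Groth.Agent.S0563.result _ n hn _)
  -- the generic fibre
  letI : Algebra A (TensorProduct R (FractionRing R) A) := Algebra.TensorProduct.rightAlgebra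
  haveI hloc : IsLocalization (Algebra.algebraMapSubmonoid A (nonZeroDivisors R))
      (TensorProduct R (FractionRing R) A) :=
    IsLocalization.tensorRight (S := A) (A := FractionRing R) (nonZeroDivisors R)
  haveI : Module.Flat A (TensorProduct R (FractionRing R) A) :=
    IsLocalization.flat _ (Algebra.algebraMapSubmonoid A (nonZeroDivisors R))
  rw [CommRing.Pic.subsingleton_iff]
  intro L _ _ _
  letI : Module A L := Module.compHom L (algebraMap A (TensorProduct R (FractionRing R) A))
  haveI : IsScalarTower A (TensorProduct R (FractionRing R) A) L :=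
    IsScalarTower.of_algebraMap_smul fun _ _ => rfl
  letI : Module R L := Module.compHom L (algebraMap R A)
  haveI : IsScalarTower R A L := IsScalarTower.of_algebraMap_smul fun _ _ => rfl
  have hL : ∀ (a : R) (x : L), a ≠ 0 → a • x = 0 → x = 0 := by
    intro a x ha hax
    have hu : IsUnit (algebraMap A (TensorProduct R (FractionRing R) A) (algebraMap R A a)) :=
      IsLocalization.map_units (TensorProduct R (FractionRing R) A)
        (⟨algebraMap R A a, a, mem_nonZeroDivisors_of_ne_zero ha, rfl⟩ :
          Algebra.algebraMapSubmonoid A (nonZeroDivisors R))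
    have h1 : algebraMap A (TensorProduct R (FractionRing R) A) (algebraMap R A a) • x = 0 := hax
    obtain ⟨w, hw⟩ := hu
    rw [← hw] at h1
    have := congrArg (fun z => (↑w⁻¹ : TensorProduct R (FractionRing R) A) • z) h1
    simpa [smul_smul] using this
  obtain ⟨s, hs⟩ := (Module.Finite.fg_top :
    (⊤ : Submodule (TensorProduct R (FractionRing R) A) L).FG)
  haveI : Module.Finite A (Submodule.span A (s : Set L)) :=
    Module.Finite.span_of_finite A s.finite_toSet
  have hM₀ : ∀ (a : R) (x : Submodule.span A (s : Set L)), a ≠ 0 → a • x = 0 → x = 0 := by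
    intro a x ha hax
    apply Subtype.ext
    apply hL a x ha
    have := congrArg Subtype.val hax
    simpa using this
  haveI := isLocalizedModule_span_subtype (Algebra.algebraMapSubmonoid A (nonZeroDivisors R))
    (TensorProduct R (FractionRing R) A) L (s : Set L) hs
  have hbc : IsBaseChange (TensorProduct R (FractionRing R) A)
      (Submodule.span A (s : Set L)).subtype :=
    IsLocalizedModule.isBaseChange (Algebra.algebraMapSubmonoid A (nonZeroDivisors R))
      (TensorProduct R (FractionRing R) A) _
  have h0 : HasFFR A n (Submodule.span A (s : Set L)) := hffr _ hM₀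
  have h1 : HasFFR (TensorProduct R (FractionRing R) A) n
      (TensorProduct A (TensorProduct R (FractionRing R) A) (Submodule.span A (s : Set L))) :=
    h0.baseChange (TensorProduct R (FractionRing R) A)
  have h2 : HasFFR (TensorProduct R (FractionRing R) A) n L := HasFFR.congr hbc.equiv h1
  haveI : Module.IsStablyFree (TensorProduct R (FractionRing R) A) L := h2.isStablyFree
  exact Module.free_of_isStablyFree_of_invertible (TensorProduct R (FractionRing R) A) L

end Groth.Agent.Lib.Helper22.ValPd
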