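import Mathlib
import Groth.Agent.Lib.Helper22ValRedA

set_option autoImplicit false
set_option linter.style.haveILetI false
set_option linter.unusedSectionVars false
set_option linter.unusedVariables false

universe u

namespace Groth.Agent.Lib.Helper22.ValRed

open TensorProduct

section General

/-- localization at an element which kills `√I / I` makes `I` radical. -/
theorem isRadical_map_away {B : Type*} [CommRing B] (I : Ideal B) (r : B)
    (h : ∀ n ∈ I.radical, r * n ∈ I) (C : Type*) [CommRing C] [Algebra B C]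
    [IsLocalization.Away r C] : (I.map (algebraMap B C)).IsRadical := by
  intro c hc
  obtain ⟨k, hk⟩ := hc
  obtain ⟨⟨b, s⟩, hbs⟩ := IsLocalization.surj (Submonoid.powers r) c
  simp only at hbs
  -- c * s = b
  have h1 : algebraMap B C (b ^ k) ∈ I.map (algebraMap B C) := by
    rw [map_pow, ← hbs, mul_pow]
    exact Ideal.mul_mem_right _ _ hk
  rw [IsLocalization.algebraMap_mem_map_algebraMap_iff (Submonoid.powers r)] at h1
  obtain ⟨s', hs', h2⟩ := h1
  have h3 : (s' * b) ^ (k + 1) ∈ I := by
    have : (s' * b) ^ (k + 1) = (s' ^ k * b) * (s' * b ^ k) := by ring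
    rw [this]
    exact Ideal.mul_mem_left _ _ h2
  have h4 : r * (s' * b) ∈ I := h _ ⟨k + 1, h3⟩
  have hr : IsUnit (algebraMap B C r) :=
    IsLocalization.map_units C (⟨r, Submonoid.mem_powers r⟩ : Submonoid.powers r)
  have hs'u : IsUnit (algebraMap B C s') :=
    IsLocalization.map_units C (⟨s', hs'⟩ : Submonoid.powers r)
  have hsu : IsUnit (algebraMap B C s) := IsLocalization.map_units C s
  have h5 : algebraMap B C (r * (s' * b)) ∈ I.map (algebraMap B C) := Ideal.mem_map_of_mem _ h4
  rw [map_mul, map_mul, ← hbs] at h5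
  have h6 : algebraMap B C r * (algebraMap B C s' * (c * algebraMap B C s)) =
      c * (algebraMap B C r * algebraMap B C s' * algebraMap B C s) := by ring
  rw [h6] at h5
  exact (Ideal.mul_unit_mem_iff_mem _ ((hr.mul hs'u).mul hsu)).mp h5

variable {R : Type u} [CommRing R]

/-- if `pC` is radical then the fibre ring `κ(p) ⊗ C` is reduced. -/
theorem isReduced_fiber_of_isRadical (C : Type u) [CommRing C] [Algebra R C] (p : Ideal R)
    [p.IsPrime] (h : (p.map (algebraMap R C)).IsRadical) : IsReduced (p.Fiber C) := by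
  refine ⟨fun z hz => ?_⟩
  obtain ⟨k, hk⟩ := hz
  obtain ⟨t, ht, c, hc⟩ := Ideal.Fiber.exists_smul_eq_one_tmul p z
  have h1 : (1 : p.ResidueField) ⊗ₜ[R] (c ^ k) = 0 := by
    have : ((1 : p.ResidueField) ⊗ₜ[R] c) ^ k = (1 : p.ResidueField) ⊗ₜ[R] (c ^ k) := by
      rw [Algebra.TensorProduct.tmul_pow, one_pow]
    rw [← this, ← hc, smul_pow, hk, smul_zero]
  obtain ⟨t', ht', h2⟩ := Groth.Agent.Helper13Fiber.exists_smul_mem_of_tmul_eq_zero p (c ^ k) h1
  have h3 : (p • ⊤ : Submodule R C) = (p.map (algebraMap R C)).restrictScalars R := by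
    rw [← Ideal.smul_top_eq_map]
  have h4 : t' • c ^ k ∈ p.map (algebraMap R C) := by
    have : t' • c ^ k ∈ (p.map (algebraMap R C)).restrictScalars R := h3 ▸ h2
    exact this
  have h5 : (t' • c) ^ (k + 1) ∈ p.map (algebraMap R C) := by
    have : (t' • c) ^ (k + 1) = (t' ^ k • c) * (t' • c ^ k) := by
      simp only [Algebra.smul_def, map_pow]; ring
    rw [this]
    exact Ideal.mul_mem_left _ _ h4
  have h6 : t' • c ∈ p.map (algebraMap R C) := h ⟨k + 1, h5⟩
  -- so `1 ⊗ (t' c) = 0`
  have h7 : (1 : p.ResidueField) ⊗ₜ[R] (t' • c) = 0 := by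
    have hle : p.map (algebraMap R C) ≤
        RingHom.ker (Algebra.TensorProduct.includeRight (R := R) (A := p.ResidueField) (B := C)).toRingHom := by
      rw [Ideal.map_le_iff_le_comap]
      intro a ha
      rw [Ideal.mem_comap, RingHom.mem_ker]
      change (1 : p.ResidueField) ⊗ₜ[R] (algebraMap R C a) = 0
      rw [Algebra.algebraMap_eq_smul_one, ← TensorProduct.smul_tmul, Algebra.smul_def, mul_one,
        Ideal.algebraMap_residueField_eq_zero.mpr ha, TensorProduct.zero_tmul]
    exact hle h6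
  -- `t'` acts invertibly
  have h8 : t' • ((1 : p.ResidueField) ⊗ₜ[R] c) = 0 := by
    rw [← TensorProduct.tmul_smul]; exact h7
  have hunit : ∀ (s : R), s ∉ p → ∀ w : p.Fiber C, s • w = 0 → w = 0 := by
    intro s hs w hw
    have hu : IsUnit (algebraMap R p.ResidueField s) := by
      rw [isUnit_iff_ne_zero]
      intro h0
      exact hs (Ideal.algebraMap_residueField_eq_zero.mp h0)
    obtain ⟨u, hu⟩ := hu
    have : w = (↑u⁻¹ : p.ResidueField) • (s • w) := by
      rw [← algebraMap_smul p.ResidueField s w, ← hu, smul_smul, Units.inv_mul, one_smul]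
    rw [this, hw, smul_zero]
  have h9 : (1 : p.ResidueField) ⊗ₜ[R] c = 0 := hunit t' ht' _ h8
  exact hunit t ht z (by rw [hc, h9])

/-- for a maximal ideal `m`, reducedness of the fibre `κ(m) ⊗ B` gives that `mB` is radical. -/
theorem isRadical_map_of_isReduced_fiber (B : Type u) [CommRing B] [Algebra R B] (m : Ideal R)
    [hm : m.IsMaximal] [IsReduced (m.Fiber B)] : (m.map (algebraMap R B)).IsRadical := by
  intro b hb
  obtain ⟨k, hk⟩ := hb
  have hle : m.map (algebraMap R B) ≤
      RingHom.ker (Algebra.TensorProduct.includeRight (R := R) (A := m.ResidueField) (B := B)).toRingHom := by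
    rw [Ideal.map_le_iff_le_comap]
    intro a ha
    rw [Ideal.mem_comap, RingHom.mem_ker]
    change (1 : m.ResidueField) ⊗ₜ[R] (algebraMap R B a) = 0
    rw [Algebra.algebraMap_eq_smul_one, ← TensorProduct.smul_tmul, Algebra.smul_def, mul_one,
      Ideal.algebraMap_residueField_eq_zero.mpr ha, TensorProduct.zero_tmul]
  have h1 : ((1 : m.ResidueField) ⊗ₜ[R] b) ^ k = 0 := by
    rw [Algebra.TensorProduct.tmul_pow, one_pow]
    exact hle hk
  have h2 : (1 : m.ResidueField) ⊗ₜ[R] b = 0 := IsReduced.eq_zero _ ⟨k, h1⟩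
  obtain ⟨t, ht, h3⟩ := Groth.Agent.Helper13Fiber.exists_smul_mem_of_tmul_eq_zero m b h2
  have h4 : t • b ∈ m.map (algebraMap R B) := by
    have h3' : (m • ⊤ : Submodule R B) = (m.map (algebraMap R B)).restrictScalars R := by
      rw [← Ideal.smul_top_eq_map]
    have : t • b ∈ (m.map (algebraMap R B)).restrictScalars R := h3' ▸ h3
    exact this
  -- `t` is invertible mod `m`
  obtain ⟨s, a, ha, hsa⟩ : ∃ s a : R, a ∈ m ∧ s * t + a = 1 := by
    obtain ⟨s, a, ha, h⟩ := hm.exists_inv ht
    exact ⟨s, a, ha, h⟩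
  have : b = s • (t • b) + a • b := by
    rw [smul_smul, ← add_smul, hsa, one_smul]
  rw [this]
  refine Ideal.add_mem _ ?_ ?_
  · rw [Algebra.smul_def]
    exact Ideal.mul_mem_left _ _ h4
  · rw [Algebra.smul_def]
    exact Ideal.mul_mem_right _ _ (Ideal.mem_map_of_mem _ ha)

end General

section Val

variable {R : Type u} [CommRing R] [IsDomain R] [ValuationRing R]

/-- relative version of `exists_kill_nilradical`: for a prime `p` of the valuation ring `R` and a
flat finite type `R`-algebra `B` with `IB` radical (where `p ≤ I`), there is `r ≡ 1 mod IB` with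
`r · √(pB) ⊆ pB`. -/
theorem exists_kill_radical (B : Type u) [CommRing B] [Algebra R B] [Algebra.FiniteType R B]
    [Module.Flat R B] (I : Ideal R)
    (hrad : (I.map (algebraMap R B)).IsRadical) (p : Ideal R) [p.IsPrime] (hpI : p ≤ I) :
    ∃ r : B, r - 1 ∈ I.map (algebraMap R B) ∧
      ∀ n ∈ (p.map (algebraMap R B)).radical, r * n ∈ p.map (algebraMap R B) := by
  haveI : ValuationRing (R ⧸ p) :=
    Function.Surjective.valuationRing (Ideal.Quotient.mk p) Ideal.Quotient.mk_surjective
  haveI : Algebra.FiniteType R (B ⧸ p.map (algebraMap R B)) :=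
    Algebra.FiniteType.of_surjective (Ideal.Quotient.mkₐ R _) (Ideal.Quotient.mkₐ_surjective R _)
  haveI : Algebra.FiniteType (R ⧸ p) (B ⧸ p.map (algebraMap R B)) :=
    Algebra.FiniteType.of_restrictScalars_finiteType R (R ⧸ p) (B ⧸ p.map (algebraMap R B))
  have hpB : p.map (algebraMap R B) ≤ I.map (algebraMap R B) := Ideal.map_mono hpI
  -- torsion-free
  have htf : ∀ (a : R ⧸ p) (x : B ⧸ p.map (algebraMap R B)), a ≠ 0 → a • x = 0 → x = 0 := by
    intro a x ha hax
    obtain ⟨a, rfl⟩ := Ideal.Quotient.mk_surjective a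
    obtain ⟨b, rfl⟩ := Ideal.Quotient.mk_surjective x
    have hap : a ∉ p := fun h => ha (Ideal.Quotient.eq_zero_iff_mem.mpr h)
    rw [Ideal.Quotient.mk_smul_mk_quotient_map_quotient, Ideal.Quotient.eq_zero_iff_mem] at hax
    rw [Ideal.Quotient.eq_zero_iff_mem]
    have e : (p.map (algebraMap R B) • ⊤ : Submodule B B) = p.map (algebraMap R B) := by
      rw [smul_eq_mul, Ideal.mul_top]
    have h1 : algebraMap R B a • b ∈ (p.map (algebraMap R B) • ⊤ : Submodule B B) := by
      rw [e]
      exact hax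
    have h2 := Groth.Agent.Helper13Fiber.mem_of_smul_mem_of_flat p B B hap h1
    rw [e] at h2
    exact h2
  -- the image ideal
  have hmap : ((I.map (Ideal.Quotient.mk p)).map
      (algebraMap (R ⧸ p) (B ⧸ p.map (algebraMap R B)))) =
      (I.map (algebraMap R B)).map (Ideal.Quotient.mk (p.map (algebraMap R B))) := by
    rw [Ideal.map_map, Ideal.map_map]
    congr 1
  have hrad' : ((I.map (Ideal.Quotient.mk p)).map
      (algebraMap (R ⧸ p) (B ⧸ p.map (algebraMap R B)))).IsRadical := by
    rw [hmap]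
    intro x hx
    obtain ⟨b, rfl⟩ := Ideal.Quotient.mk_surjective x
    obtain ⟨k, hk⟩ := hx
    rw [← map_pow, Ideal.mem_quotient_iff_mem hpB] at hk
    rw [Ideal.mem_quotient_iff_mem hpB]
    exact hrad ⟨k, hk⟩
  obtain ⟨r, hr1, hr2⟩ := exists_kill_nilradical' (R := R ⧸ p) (B ⧸ p.map (algebraMap R B))
    htf (I.map (Ideal.Quotient.mk p)) hrad'
  obtain ⟨r, rfl⟩ := Ideal.Quotient.mk_surjective r
  refine ⟨r, ?_, ?_⟩
  · rw [hmap, ← map_one (Ideal.Quotient.mk (p.map (algebraMap R B))), ← map_sub,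
      Ideal.mem_quotient_iff_mem hpB] at hr1
    exact hr1
  · intro n hn
    obtain ⟨k, hk⟩ := hn
    have h1 : Ideal.Quotient.mk (p.map (algebraMap R B)) n ∈
        nilradical (B ⧸ p.map (algebraMap R B)) := by
      refine mem_nilradical.mpr ⟨k, ?_⟩
      rw [← map_pow, Ideal.Quotient.eq_zero_iff_mem]
      exact hk
    have h2 := hr2 _ h1
    rw [← map_mul, Ideal.Quotient.eq_zero_iff_mem] at h2
    exact h2

end Val

end Groth.Agent.Lib.Helper22.ValRed
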