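import Mathlib
import Groth.Agent.Lib.Helper22ValRedB
import Groth.Agent.Lib.Helper10DVRFibre6

set_option autoImplicit false
set_option linter.style.haveILetI false
set_option linter.unusedSectionVars false
set_option linter.unusedVariables false

universe u

namespace Groth.Agent.Lib.Helper22.ValRed

open AlgebraicGeometry CategoryTheory CategoryTheory.Limits TopologicalSpace Opposite
open Groth.Agent.Lib.Helper10.DVRFibre

section General

variable {A : Type u} [CommRing A] {X : Scheme.{u}} (f : X ⟶ Spec (CommRingCat.of A))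

theorem mem_basicOpen_phi_iff (U : X.Opens) (a : A) (x : X) :
    x ∈ X.basicOpen (phi f U a) ↔ x ∈ U ∧ a ∉ (f x).asIdeal := by
  have h0 : phi f U a = X.presheaf.map (homOfLE (le_top : U ≤ ⊤)).op
      (f.appTop ((Scheme.ΓSpecIso (CommRingCat.of A)).inv a)) := rfl
  rw [h0, Scheme.basicOpen_res]
  have h1 : X.basicOpen (f.appTop ((Scheme.ΓSpecIso (CommRingCat.of A)).inv a)) =
      f ⁻¹ᵁ ((Spec (CommRingCat.of A)).basicOpen ((Scheme.ΓSpecIso (CommRingCat.of A)).inv a)) :=
    (Scheme.preimage_basicOpen f _).symm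
  have h2 : (Spec (CommRingCat.of A)).basicOpen ((Scheme.ΓSpecIso (CommRingCat.of A)).inv a)
      = PrimeSpectrum.basicOpen a := basicOpen_eq_of_affine (R := CommRingCat.of A) a
  rw [h1, h2]
  rfl

theorem phi_finiteType [LocallyOfFiniteType f] {U : X.Opens} (hU : IsAffineOpen U) :
    (phi f U).FiniteType := by
  have h1 : (f.appLE ⊤ U le_top).hom.FiniteType :=
    HasRingHomProperty.appLE (P := @LocallyOfFiniteType) f inferInstance
      ⟨⊤, isAffineOpen_top _⟩ ⟨U, hU⟩ le_top
  have h2 : (Scheme.ΓSpecIso (CommRingCat.of A)).inv.hom.FiniteType :=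
    RingHom.FiniteType.of_surjective _
      (ConcreteCategory.bijective_of_isIso (Scheme.ΓSpecIso (CommRingCat.of A)).inv).2
  exact RingHom.FiniteType.comp h1 h2

/-- sections not invertible at `x` form a proper ideal. -/
theorem not_mem_basicOpen_of_sub_one {U : X.Opens} (x : X) (hx : x ∈ U) (J : Ideal Γ(X, U))
    (hJ : ∀ g ∈ J, x ∉ X.basicOpen g) (r : Γ(X, U)) (hr : r - 1 ∈ J) : x ∈ X.basicOpen r := by
  by_contra hcon
  -- the ideal of sections vanishing at `x`
  let Jx : Ideal Γ(X, U) :=
    (IsLocalRing.maximalIdeal (X.presheaf.stalk x)).comap (X.presheaf.germ U x hx).hom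
  have hmem : ∀ g : Γ(X, U), g ∈ Jx ↔ x ∉ X.basicOpen g := by
    intro g
    rw [Scheme.mem_basicOpen _ _ _ hx]
    exact Iff.rfl
  have h1 : r - 1 ∈ Jx := (hmem _).mpr (hJ _ hr)
  have h2 : r ∈ Jx := (hmem _).mpr hcon
  have h3 : (1 : Γ(X, U)) ∈ Jx := by
    have := Ideal.sub_mem _ h2 h1
    rwa [sub_sub_cancel] at this
  have h4 : x ∉ X.basicOpen (1 : Γ(X, U)) := (hmem _).mp h3
  apply h4
  rw [Scheme.mem_basicOpen _ _ _ hx, map_one]
  exact isUnit_one

end General

section Val

variable {R : Type u} [CommRing R] [IsDomain R] [ValuationRing R] {X : Scheme.{u}}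
  (f : X ⟶ Spec (CommRingCat.of R))

/-- Step A: points of the special fibre have good affine neighbourhoods. -/
theorem exists_affine_isRadical_of_closedPoint [LocallyOfFiniteType f] [Flat f]
    (hred : IsReduced (f.fiber (IsLocalRing.closedPoint R))) (p : Ideal R) [p.IsPrime] (x : X)
    (hx : f x = IsLocalRing.closedPoint R) :
    ∃ V : X.Opens, IsAffineOpen V ∧ x ∈ V ∧ (p.map (phi f V)).IsRadical := by
  haveI := hred
  obtain ⟨U, hU, hxU⟩ := exists_affineOpen_mem x
  letI alg : Algebra R Γ(X, U) := (phi f U).toAlgebra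
  haveI : Module.Flat R Γ(X, U) := phi_flat f hU
  haveI : Algebra.FiniteType R Γ(X, U) := phi_finiteType f hU
  haveI hmax : (IsLocalRing.closedPoint R).asIdeal.IsMaximal := IsLocalRing.maximalIdeal.isMaximal R
  haveI h1 : IsReduced ((hU.fromSpec ≫ f).fiber (IsLocalRing.closedPoint R)) :=
    isReduced_fiber_fromSpec f hU (IsLocalRing.closedPoint R)
  rw [fromSpec_comp] at h1
  haveI : _root_.IsReduced ((IsLocalRing.closedPoint R).asIdeal.Fiber Γ(X, U)) :=
    isReduced_fiber_ring Γ(X, U) (IsLocalRing.closedPoint R)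
  have hrad : ((IsLocalRing.closedPoint R).asIdeal.map (algebraMap R Γ(X, U))).IsRadical :=
    isRadical_map_of_isReduced_fiber Γ(X, U) (IsLocalRing.closedPoint R).asIdeal
  have hp : p ≤ (IsLocalRing.closedPoint R).asIdeal :=
    IsLocalRing.le_maximalIdeal (Ideal.IsPrime.ne_top inferInstance)
  obtain ⟨r, hr1, hr2⟩ := exists_kill_radical Γ(X, U) (IsLocalRing.closedPoint R).asIdeal hrad p hp
  refine ⟨X.basicOpen r, hU.basicOpen r, ?_, ?_⟩
  · refine not_mem_basicOpen_of_sub_one x hxU _ ?_ r hr1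
    -- sections in `𝔪 Γ(X,U)` vanish at `x`
    intro g hg
    let Jx : Ideal Γ(X, U) :=
      (IsLocalRing.maximalIdeal (X.presheaf.stalk x)).comap (X.presheaf.germ U x hxU).hom
    have hmem : ∀ g : Γ(X, U), g ∈ Jx ↔ x ∉ X.basicOpen g := by
      intro g
      rw [Scheme.mem_basicOpen _ _ _ hxU]
      exact Iff.rfl
    have hle : (IsLocalRing.closedPoint R).asIdeal.map (algebraMap R Γ(X, U)) ≤ Jx := by
      rw [Ideal.map_le_iff_le_comap]
      intro a ha
      rw [Ideal.mem_comap, hmem]
      change x ∉ X.basicOpen (phi f U a)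
      rw [mem_basicOpen_phi_iff]
      rintro ⟨-, h⟩
      apply h
      rw [hx]
      exact ha
    exact (hmem g).mp (hle hg)
  · haveI : IsLocalization.Away r Γ(X, X.basicOpen r) := hU.isLocalization_basicOpen r
    have hcomp : phi f (X.basicOpen r) =
        (algebraMap Γ(X, U) Γ(X, X.basicOpen r)).comp (phi f U) := by
      ext a
      exact phi_basicOpen f r a
    rw [hcomp, ← Ideal.map_map]
    exact isRadical_map_away (p.map (phi f U)) r hr2 Γ(X, X.basicOpen r)

/-- Step B: all points have good affine neighbourhoods (by properness). -/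
theorem exists_affine_isRadical [IsProper f] [Flat f]
    (hred : IsReduced (f.fiber (IsLocalRing.closedPoint R))) (p : Ideal R) [p.IsPrime] (x : X) :
    ∃ V : X.Opens, IsAffineOpen V ∧ x ∈ V ∧ (p.map (phi f V)).IsRadical := by
  by_contra hcon
  let W : Set X := {z | ∃ V : X.Opens, IsAffineOpen V ∧ z ∈ V ∧ (p.map (phi f V)).IsRadical}
  have hWopen : IsOpen W := by
    rw [isOpen_iff_forall_mem_open]
    rintro z ⟨V, hV, hzV, hrad⟩
    exact ⟨V, fun z' hz' => ⟨V, hV, hz', hrad⟩, V.isOpen, hzV⟩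
  have hxW : x ∈ Wᶜ := hcon
  have hcl : IsClosed (f '' Wᶜ) := f.isClosedMap _ hWopen.isClosed_compl
  have h1 : f x ∈ f '' Wᶜ := ⟨x, hxW, rfl⟩
  have h2 : f x ⤳ IsLocalRing.closedPoint R := IsLocalRing.specializes_closedPoint (f x)
  obtain ⟨z, hzW, hz⟩ := h2.mem_closed hcl h1
  exact hzW (exists_affine_isRadical_of_closedPoint f hred p z hz)

/-- **Main theorem**: proper flat over a valuation ring with reduced special fibre: the total space
and all fibres are reduced. -/
theorem isReduced_and_fibres [IsProper f] [Flat f]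
    (hred : IsReduced (f.fiber (IsLocalRing.closedPoint R))) :
    IsReduced X ∧ ∀ s : PrimeSpectrum R, IsReduced (f.fiber s) := by
  refine ⟨?_, fun s => ?_⟩
  · apply isReduced_of_forall_exists_affine
    intro x
    obtain ⟨V, hV, hxV, hrad⟩ := exists_affine_isRadical f hred (⊥ : Ideal R) x
    refine ⟨V, hV, hxV, ?_⟩
    rw [Ideal.map_bot] at hrad
    exact Ideal.isRadical_bot_iff.mp hrad
  · apply isReduced_fiber_of_forall_exists_affine f s
    intro x
    obtain ⟨V, hV, hxV, hrad⟩ := exists_affine_isRadical f hred s.asIdeal x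
    refine ⟨V, hV, hxV, ?_⟩
    letI : Algebra R Γ(X, V) := (phi f V).toAlgebra
    exact isReduced_fiber_of_isRadical Γ(X, V) s.asIdeal hrad

end Val

end Groth.Agent.Lib.Helper22.ValRed
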