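import Mathlib

set_option autoImplicit false
set_option linter.style.haveILetI false
set_option linter.unusedSectionVars false
set_option linter.unusedVariables false
universe u

namespace Groth.Agent.Lib.Helper22.ZmtFp

open Polynomial in
/-- the image of `P(X_j)` in a polynomial ring -/
noncomputable def polyAt {A : Type u} [CommRing A] {n : ℕ} (j : Fin n) (P : A[X]) :
    MvPolynomial (Fin n) A := Polynomial.aeval (MvPolynomial.X j : MvPolynomial (Fin n) A) P

theorem exists_fg_le_map_eq {R S : Type*} [CommRing R] [CommRing S] (φ : R →+* S) (K : Ideal R)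
    (h : (K.map φ).FG) : ∃ K₀ : Ideal R, K₀ ≤ K ∧ K₀.FG ∧ K₀.map φ = K.map φ := by
  unfold Ideal.map at h
  obtain ⟨s', hs', hs⟩ := (Submodule.fg_span_iff_fg_span_finset_subset (R := S) (φ '' K)).mp h
  classical
  have : ∀ y : s', ∃ x : R, x ∈ K ∧ φ x = y.1 := fun y => hs' y.2
  choose x hxK hx using this
  refine ⟨Ideal.span (Set.range x), ?_, ?_, ?_⟩
  · rw [Ideal.span_le]
    rintro _ ⟨y, rfl⟩
    exact hxK y
  · exact ⟨Finset.univ.image x, by simp⟩
  · apply le_antisymm
    · exact Ideal.map_mono (by rw [Ideal.span_le]; rintro _ ⟨y, rfl⟩; exact hxK y)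
    · unfold Ideal.map
      change Submodule.span S (φ '' K) ≤ _
      rw [hs, Submodule.span_le]
      intro y hy
      have : y = φ (x ⟨y, hy⟩) := (hx ⟨y, hy⟩).symm
      rw [this]
      exact Ideal.subset_span ⟨_, Ideal.subset_span ⟨_, rfl⟩, rfl⟩

/-- For a surjection `q : R₀ → B` of `A`-algebras with `R₀` finitely presented and `B[1/g]` finitely
presented, there is a f.g. ideal `I_g ≤ ker q` absorbing `ker q` up to powers of a lift of `g`. -/
theorem exists_fg_le_ker {A R₀ B : Type u} [CommRing A] [CommRing R₀] [CommRing B] [Algebra A R₀]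
    [Algebra A B] [Algebra.FinitePresentation A R₀] (q : R₀ →ₐ[A] B) (hq : Function.Surjective q)
    (gt : R₀) [hfp : Algebra.FinitePresentation A (Localization.Away (q gt))] :
    ∃ I : Ideal R₀, I.FG ∧ I ≤ RingHom.ker q.toRingHom ∧
      ∀ c : R₀, q c = 0 → ∃ n : ℕ, gt ^ n * c ∈ I := by
  let L := Localization.Away gt
  let L' := Localization.Away (q gt)
  haveI : Algebra.FinitePresentation R₀ L := IsLocalization.Away.finitePresentation gt
  haveI : Algebra.FinitePresentation A L := Algebra.FinitePresentation.trans A R₀ L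
  let ψ : L →ₐ[A] L' := Localization.awayMapₐ q gt
  let ψ₀ : L →+* L' := ψ.toRingHom
  have hψ₀ : ∀ x : R₀, ψ₀ (algebraMap R₀ L x) = algebraMap B L' (q x) := by
    intro x
    change IsLocalization.Away.map L L' q.toRingHom gt (algebraMap R₀ L x) = _
    unfold IsLocalization.Away.map
    rw [IsLocalization.map_eq]
    rfl
  have hψsurj : Function.Surjective ψ :=
    IsLocalization.Away.mapₐ_surjective_of_surjective gt hq
  have hker : (RingHom.ker ψ.toRingHom).FG := Algebra.FinitePresentation.ker_fG_of_surjective ψ hψsurj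
  have hmap : (RingHom.ker q.toRingHom).map (algebraMap R₀ L) = RingHom.ker ψ.toRingHom := by
    apply le_antisymm
    · rw [Ideal.map_le_iff_le_comap]
      intro x hx
      rw [Ideal.mem_comap, RingHom.mem_ker]
      change ψ₀ (algebraMap R₀ L x) = 0
      rw [hψ₀]
      have : q x = 0 := hx
      rw [this, map_zero]
    · intro y hy
      obtain ⟨⟨x, ⟨_, m, rfl⟩⟩, h⟩ := IsLocalization.surj (Submonoid.powers gt) y
      have h' : y * algebraMap R₀ L (gt ^ m) = algebraMap R₀ L x := h
      have hy' : ψ₀ y = 0 := hy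
      have h1 : algebraMap B L' (q x) = 0 := by
        rw [← hψ₀, ← h', map_mul, hy', zero_mul]
      have h2 : algebraMap B L' (q x) = algebraMap B L' 0 := by rw [h1, map_zero]
      obtain ⟨⟨_, l, rfl⟩, hl⟩ := (IsLocalization.eq_iff_exists (Submonoid.powers (q gt)) L').mp h2
      have h3 : q (gt ^ l * x) = 0 := by
        rw [map_mul, map_pow]; simpa using hl
      have h4 : algebraMap R₀ L (gt ^ l * x) ∈ (RingHom.ker q.toRingHom).map (algebraMap R₀ L) :=
        Ideal.mem_map_of_mem _ h3
      have hu : IsUnit (algebraMap R₀ L gt) := IsLocalization.Away.algebraMap_isUnit gt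
      have h5 : algebraMap R₀ L (gt ^ l * x) = algebraMap R₀ L gt ^ (l + m) * y := by
        rw [map_mul, ← h', map_pow, map_pow, pow_add]; ring
      rw [h5] at h4
      exact (Ideal.unit_mul_mem_iff_mem _ (hu.pow _)).mp h4
  rw [← hmap] at hker
  obtain ⟨I, hIle, hIfg, hImap⟩ := exists_fg_le_map_eq _ _ hker
  refine ⟨I, hIfg, hIle, ?_⟩
  intro c hc
  have h1 : algebraMap R₀ L c ∈ I.map (algebraMap R₀ L) := by
    rw [hImap]
    exact Ideal.mem_map_of_mem _ hc
  rw [IsLocalization.mem_map_algebraMap_iff (Submonoid.powers gt)] at h1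
  obtain ⟨⟨x, ⟨_, m, rfl⟩⟩, hx⟩ := h1
  have hx' : algebraMap R₀ L (c * gt ^ m) = algebraMap R₀ L x.1 := by
    rw [map_mul]; exact hx
  obtain ⟨⟨_, l, rfl⟩, hl⟩ := (IsLocalization.eq_iff_exists (Submonoid.powers gt) L).mp hx'
  refine ⟨l + m, ?_⟩
  have : gt ^ (l + m) * c = gt ^ l * x.1 := by
    rw [pow_add, mul_assoc, mul_comm (gt ^ m) c]; exact hl
  rw [this]
  exact I.mul_mem_left _ x.2

/-- A finite `A`-algebra `B` all of whose localizations `B[1/g]`, `g ∈ G`, are finitely presented is
a quotient of a finite and finitely presented `A`-algebra `B₁` such that `B₁[1/g'] ≅ B[1/g]`. -/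
theorem exists_fp_cover {A B : Type u} [CommRing A] [CommRing B] [Algebra A B] [Module.Finite A B]
    (G : Finset B) (hG : ∀ g ∈ G, Algebra.FinitePresentation A (Localization.Away g)) :
    ∃ (B₁ : Type u) (_ : CommRing B₁) (_ : Algebra A B₁) (θ : B₁ →ₐ[A] B),
      Algebra.FinitePresentation A B₁ ∧ Module.Finite A B₁ ∧ Function.Surjective θ ∧
      ∀ g ∈ G, ∃ g' : B₁, θ g' = g ∧ ∀ c : B₁, θ c = 0 → ∃ n : ℕ, g' ^ n * c = 0 := by
  classical
  haveI : Algebra.FiniteType A B := inferInstance
  obtain ⟨n, q, hq⟩ := Algebra.FiniteType.iff_quotient_mvPolynomial''.mp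
    (inferInstance : Algebra.FiniteType A B)
  let R₀ := MvPolynomial (Fin n) A
  -- monic relations
  have hint : ∀ j : Fin n, ∃ P : Polynomial A, P.Monic ∧ Polynomial.aeval (q (MvPolynomial.X j)) P = 0 := by
    intro j
    obtain ⟨P, hP, h⟩ := Algebra.IsIntegral.isIntegral (R := A) (q (MvPolynomial.X j))
    exact ⟨P, hP, by rw [Polynomial.aeval_def]; exact h⟩
  choose P hPm hP0 using hint
  let Iint : Ideal R₀ := Ideal.span (Set.range fun j => polyAt j (P j))
  have hIint : Iint ≤ RingHom.ker q.toRingHom := by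
    rw [Ideal.span_le]
    rintro _ ⟨j, rfl⟩
    change q (polyAt j (P j)) = 0
    unfold polyAt
    rw [← Polynomial.aeval_algHom_apply]
    exact hP0 j
  -- lifts
  have hlift : ∀ g : B, ∃ gt : R₀, q gt = g := fun g => hq g
  choose lift hlift using hlift
  have hIg : ∀ g : B, ∃ I : Ideal R₀, g ∈ G → (I.FG ∧ I ≤ RingHom.ker q.toRingHom ∧
      ∀ c : R₀, q c = 0 → ∃ n : ℕ, lift g ^ n * c ∈ I) := by
    intro g
    by_cases hg : g ∈ G
    · haveI : Algebra.FinitePresentation A (Localization.Away (q (lift g))) := by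
        rw [hlift g]; exact hG g hg
      obtain ⟨I, h1, h2, h3⟩ := exists_fg_le_ker q hq (lift g)
      exact ⟨I, fun _ => ⟨h1, h2, h3⟩⟩
    · exact ⟨⊥, fun h => absurd h hg⟩
  choose Ig hIg using hIg
  let I' : Ideal R₀ := Iint ⊔ G.sup Ig
  have hI'fg : I'.FG := by
    refine Submodule.FG.sup ⟨Finset.univ.image fun j => polyAt j (P j), by simp [Iint]⟩ ?_
    have : ∀ (T : Finset B), T ⊆ G → (T.sup Ig).FG := by
      intro T
      induction T using Finset.induction_on with
      | empty =>
        intro _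
        rw [Finset.sup_empty]
        exact ⟨∅, by simp⟩
      | insert a T ha ih =>
        intro hT
        rw [Finset.sup_insert]
        exact Submodule.FG.sup (hIg a (hT (Finset.mem_insert_self a T))).1
          (ih fun x hx => hT (Finset.mem_insert_of_mem hx))
    exact this G (Finset.Subset.refl G)
  have hI'le : I' ≤ RingHom.ker q.toRingHom := by
    refine sup_le hIint (Finset.sup_le fun g hg => (hIg g hg).2.1)
  let B₁ := R₀ ⧸ I'
  let θ : B₁ →ₐ[A] B := Ideal.Quotient.liftₐ I' q (fun a ha => hI'le ha)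
  have hθ : ∀ x : R₀, θ (Ideal.Quotient.mk I' x) = q x := fun x => rfl
  refine ⟨B₁, inferInstance, inferInstance, θ, ?_, ?_, ?_, ?_⟩
  · exact Algebra.FinitePresentation.quotient hI'fg
  · -- finite: generated by integral elements
    have hx : ∀ j : Fin n, IsIntegral A (Ideal.Quotient.mk I' (MvPolynomial.X j : R₀)) := by
      intro j
      refine ⟨P j, hPm j, ?_⟩
      have h1 : Polynomial.eval₂ (algebraMap A B₁) (Ideal.Quotient.mk I' (MvPolynomial.X j : R₀)) (P j) =
          Ideal.Quotient.mk I' (polyAt j (P j)) := by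
        unfold polyAt
        rw [← Polynomial.aeval_def]
        exact (Polynomial.aeval_algHom_apply (Ideal.Quotient.mkₐ A I') (MvPolynomial.X j : R₀) (P j))
      rw [h1, Ideal.Quotient.eq_zero_iff_mem]
      exact le_sup_left (a := Iint) (b := G.sup Ig) (Ideal.subset_span ⟨j, rfl⟩)
    have hfg := fg_adjoin_of_finite (R := A) (s := Set.range fun j : Fin n =>
      Ideal.Quotient.mk I' (MvPolynomial.X j : R₀)) (Set.finite_range _)
      (by rintro _ ⟨j, rfl⟩; exact hx j)
    have htop : Algebra.adjoin A (Set.range fun j : Fin n =>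
        Ideal.Quotient.mk I' (MvPolynomial.X j : R₀)) = ⊤ := by
      have h1 : Algebra.adjoin A (Set.range (MvPolynomial.X : Fin n → R₀)) = ⊤ :=
        MvPolynomial.adjoin_range_X
      have h2 := congrArg (Subalgebra.map (Ideal.Quotient.mkₐ A I')) h1
      rw [AlgHom.map_adjoin, Algebra.map_top, ← Set.range_comp] at h2
      rw [(AlgHom.range_eq_top _).mpr (Ideal.Quotient.mkₐ_surjective A I')] at h2
      exact h2
    rw [htop] at hfg
    exact ⟨by simpa using hfg⟩
  · intro b
    obtain ⟨x, rfl⟩ := hq b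
    exact ⟨Ideal.Quotient.mk I' x, hθ x⟩
  · intro g hg
    refine ⟨Ideal.Quotient.mk I' (lift g), (hθ _).trans (hlift g), ?_⟩
    intro c hc
    obtain ⟨c₀, rfl⟩ := Ideal.Quotient.mk_surjective c
    have hc₀ : q c₀ = 0 := hc
    obtain ⟨m, hm⟩ := (hIg g hg).2.2 c₀ hc₀
    refine ⟨m, ?_⟩
    rw [← map_pow, ← map_mul, Ideal.Quotient.eq_zero_iff_mem]
    exact le_sup_right (a := Iint) (b := G.sup Ig) (Finset.le_sup (f := Ig) hg hm)

end Groth.Agent.Lib.Helper22.ZmtFp
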