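import Mathlib
import Groth.Agent.Lib.Helper22ZmtFinB
import Groth.Agent.Lib.Helper22ZmtFinD

set_option autoImplicit false
set_option linter.style.haveILetI false
set_option linter.unusedSectionVars false
set_option linter.unusedVariables false
universe u

open AlgebraicGeometry CategoryTheory TopologicalSpace Opposite

namespace Groth.Agent.Lib.Helper22.ZmtFp

open Groth.Agent.Lib.Helper22.ZmtFin

/-- variant of `bijective_of_away` with a kernel condition instead of injectivity -/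
theorem bijective_of_away' {C A C' A' : Type*} [CommRing C] [CommRing A] [CommRing C'] [CommRing A']
    (θ : C →+* A) (θ' : C' →+* A') (ρC : C →+* C') (ρA : A →+* A') (g : C)
    (hC : letI := ρC.toAlgebra; IsLocalization.Away g C')
    (hA : letI := ρA.toAlgebra; IsLocalization.Away (θ g) A')
    (hcomm : θ'.comp ρC = ρA.comp θ) (hker : ∀ c : C, θ c = 0 → ∃ n : ℕ, g ^ n * c = 0)
    (hsurj : ∀ a : A, ∃ n : ℕ, θ g ^ n * a ∈ θ.range) : Function.Bijective θ' := by
  letI := ρC.toAlgebra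
  letI := ρA.toAlgebra
  have hc : ∀ c : C, θ' (ρC c) = ρA (θ c) := fun c => RingHom.congr_fun hcomm c
  have hunitC : IsUnit (ρC g) := IsLocalization.Away.algebraMap_isUnit (S := C') g
  have hunitA : IsUnit (ρA (θ g)) := IsLocalization.Away.algebraMap_isUnit (S := A') (θ g)
  constructor
  · rw [injective_iff_map_eq_zero]
    intro c' hc'
    obtain ⟨⟨c, ⟨_, m, rfl⟩⟩, h⟩ := IsLocalization.surj (Submonoid.powers g) c'
    have h0 : algebraMap C C' = ρC := rfl
    have h' : c' * ρC g ^ m = ρC c := by simpa [h0] using h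
    have h1 : ρA (θ c) = 0 := by
      rw [← hc, ← h', map_mul, hc', zero_mul]
    have h2 : ρA (θ c) = ρA 0 := by rw [h1, map_zero]
    obtain ⟨⟨_, k, rfl⟩, hk⟩ := (IsLocalization.eq_iff_exists (Submonoid.powers (θ g)) A').mp h2
    have h3 : θ (g ^ k * c) = 0 := by
      rw [map_mul, map_pow]; simpa using hk
    obtain ⟨n, hn⟩ := hker _ h3
    have h4 : g ^ (n + k) * c = 0 := by rw [pow_add, mul_assoc]; exact hn
    have h5 : ρC g ^ (n + k) * ρC c = 0 := by rw [← map_pow, ← map_mul, h4, map_zero]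
    have h6 : ρC c = 0 := (hunitC.pow (n + k)).mul_right_eq_zero.mp h5
    have h7 : c' * ρC g ^ m = 0 := by rw [h', h6]
    exact (hunitC.pow m).mul_left_eq_zero.mp h7
  · intro a'
    obtain ⟨⟨a, ⟨_, m, rfl⟩⟩, h⟩ := IsLocalization.surj (Submonoid.powers (θ g)) a'
    have h0 : algebraMap A A' = ρA := rfl
    have h' : a' * ρA (θ g) ^ m = ρA a := by simpa [h0] using h
    obtain ⟨n, c, hcn⟩ := hsurj a
    obtain ⟨u, hu⟩ := hunitC.pow (n + m)
    refine ⟨ρC c * ↑u⁻¹, ?_⟩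
    have hu' : θ' (↑u⁻¹ : C') * ρA (θ g) ^ (n + m) = 1 := by
      rw [← map_pow, ← map_pow, ← hc, map_pow, ← hu, ← map_mul]
      simp
    have hAu : IsUnit (ρA (θ g) ^ (n + m)) := hunitA.pow _
    apply hAu.mul_left_injective
    simp only
    rw [map_mul, mul_assoc, hu', mul_one, hc, hcn, map_mul, map_pow, pow_add]
    rw [← h']; ring

/-- variant of `isIso_morphismRestrict_basicOpen` with a kernel condition -/
theorem isIso_morphismRestrict_basicOpen' {T' T : Scheme.{u}} (τ : T' ⟶ T) [IsAffineHom τ]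
    {P : T.Opens} (hP : IsAffineOpen P) {W : T'.Opens} (hW : IsAffineOpen W)
    (hWP : W = τ ⁻¹ᵁ P) (g' : Γ(T, P))
    (hker : ∀ c : Γ(T, P), (τ.appLE P W hWP.le).hom c = 0 → ∃ n : ℕ, g' ^ n * c = 0)
    (hsurj : ∀ a : Γ(T', W), ∃ n : ℕ,
      (τ.appLE P W hWP.le).hom g' ^ n * a ∈ (τ.appLE P W hWP.le).hom.range) :
    IsIso (τ ∣_ T.basicOpen g') := by
  have hDaff : IsAffineOpen (T.basicOpen g') := hP.basicOpen g'
  rw [isIso_morphismRestrict_iff_isIso_app τ hDaff]
  rw [ConcreteCategory.isIso_iff_bijective]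
  have hpre : τ ⁻¹ᵁ T.basicOpen g' = T'.basicOpen ((τ.appLE P W hWP.le).hom g') := by
    have h1 := Scheme.basicOpen_appLE τ W P hWP.le g'
    have h2 : τ ⁻¹ᵁ T.basicOpen g' ≤ W := by
      rw [hWP]; exact τ.preimage_mono (T.basicOpen_le g')
    have h1' : T'.basicOpen ((τ.appLE P W hWP.le).hom g') = W ⊓ τ ⁻¹ᵁ T.basicOpen g' := h1
    rw [h1', inf_eq_right.mpr h2]
  have hle : τ ⁻¹ᵁ T.basicOpen g' ≤ W := hpre.le.trans (T'.basicOpen_le _)
  refine bijective_of_away' (τ.appLE P W hWP.le).hom (τ.app (T.basicOpen g')).hom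
    (T.presheaf.map (homOfLE (T.basicOpen_le g')).op).hom
    (T'.presheaf.map (homOfLE hle).op).hom g' (hP.isLocalization_basicOpen g')
    (isLocalization_of_eq_basicOpen hW _ _ hpre) ?_ hker hsurj
  rw [← CommRingCat.hom_comp, ← CommRingCat.hom_comp]
  congr 1
  rw [Scheme.Hom.app_eq_appLE, Scheme.Hom.map_appLE, Scheme.Hom.appLE_map]

/-- if `τ` is an isomorphism over each member of a family of opens whose preimages cover the image
of the open immersion `ν`, then `ν ≫ τ` is an open immersion. -/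
theorem isOpenImmersion_comp_of_isIso_restrict {X T' T : Scheme.{u}} (ν : X ⟶ T') [IsOpenImmersion ν]
    (τ : T' ⟶ T) {ι : Type*} (D : ι → T.Opens) (hD : ∀ x, IsIso (τ ∣_ D x))
    (hν : ν.opensRange ≤ τ ⁻¹ᵁ ⨆ x, D x) : IsOpenImmersion (ν ≫ τ) := by
  let O' : T.Opens := ⨆ x : ι, D x
  have hO'iso : IsIso (τ ∣_ O') := by
    let 𝒰 := Scheme.Opens.iSupOpenCover D
    refine (IsZariskiLocalAtTarget.iff_of_openCover (P := .isomorphisms _) 𝒰).mpr fun x ↦ ?_
    refine (MorphismProperty.arrow_mk_iso_iff (.isomorphisms _)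
      ((morphismRestrictRestrict ..).symm ≪≫ morphismRestrictOpensRange ..)).mp ?_
    have : Scheme.Opens.ι _ ''ᵁ (𝒰.f x).opensRange = D x := by
      simp only [Scheme.Opens.iSupOpenCover, 𝒰, ← Scheme.Hom.opensRange_comp, Scheme.homOfLE_ι,
        Scheme.Opens.opensRange_ι]
    convert! hD x
  let ν' : X ⟶ (τ ⁻¹ᵁ O').toScheme := IsOpenImmersion.lift (τ ⁻¹ᵁ O').ι ν (by
    rw [Scheme.Opens.range_ι]
    exact hν)
  have hν' : ν' ≫ (τ ⁻¹ᵁ O').ι = ν := IsOpenImmersion.lift_fac _ _ _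
  haveI : IsOpenImmersion (ν' ≫ (τ ⁻¹ᵁ O').ι) := by rw [hν']; infer_instance
  haveI : IsOpenImmersion ν' := IsOpenImmersion.of_comp ν' (τ ⁻¹ᵁ O').ι
  have e : ν ≫ τ = ν' ≫ (τ ∣_ O') ≫ O'.ι := by
    rw [morphismRestrict_ι, ← Category.assoc, hν']
  rw [e]
  infer_instance

end Groth.Agent.Lib.Helper22.ZmtFp
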