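import Mathlib
import Groth.Agent.S0385
import Groth.Agent.Lib.Helper22ZmtFpA
import Groth.Agent.Lib.Helper22ZmtFpB

set_option autoImplicit false
set_option linter.style.haveILetI false
set_option linter.unusedSectionVars false
set_option linter.unusedVariables false
universe u

open AlgebraicGeometry CategoryTheory TopologicalSpace Opposite

namespace Groth.Agent.Lib.Helper22.ZmtFp

open Groth.Agent.Lib.Helper22.ZmtFin

theorem finitePresentation_away_of_comp {A B L : Type u} [CommRing A] [CommRing B] [CommRing L]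
    [Algebra A B] [Algebra B L] (g : B) [IsLocalization.Away g L]
    (h : ((algebraMap B L).comp (algebraMap A B)).FinitePresentation) :
    Algebra.FinitePresentation A (Localization.Away g) := by
  letI : Algebra A L := ((algebraMap B L).comp (algebraMap A B)).toAlgebra
  haveI : IsScalarTower A B L := IsScalarTower.of_algebraMap_eq (fun _ => rfl)
  haveI : Algebra.FinitePresentation A L := h
  let e : L ≃ₐ[B] Localization.Away g := IsLocalization.algEquiv (Submonoid.powers g) L _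
  exact Algebra.FinitePresentation.equiv (e.restrictScalars A)

/-- **Zariski's main theorem, finitely presented affine form.** -/
theorem exists_fp_factorization_affine {X S : Scheme.{u}} [IsAffine S] (f : X ⟶ S) [IsSeparated f]
    [QuasiCompact f] [LocallyQuasiFinite f] [LocallyOfFinitePresentation f] :
    ∃ (B₁ : Type u) (_ : CommRing B₁) (_ : Algebra Γ(S, ⊤) B₁) (j : X ⟶ Spec (.of B₁)) (ρ : ℕ)
      (g : Fin ρ → B₁),
      Module.Finite Γ(S, ⊤) B₁ ∧ Algebra.FinitePresentation Γ(S, ⊤) B₁ ∧ IsOpenImmersion j ∧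
      j ≫ Spec.map (CommRingCat.ofHom (algebraMap Γ(S, ⊤) B₁)) = f ≫ S.isoSpec.hom ∧
      Set.range j = ⋃ p, (PrimeSpectrum.basicOpen (g p) : Set (PrimeSpectrum B₁)) := by
  classical
  haveI : LocallyOfFiniteType f := inferInstance
  obtain ⟨T₀, j₀, π₀, hj₀, hj₀qc, hπ₀, hfac⟩ := Groth.Agent.S0385.result f
  haveI : IsAffine T₀ := isAffine_of_isAffineHom π₀
  letI : Algebra Γ(S, ⊤) Γ(T₀, ⊤) := π₀.appTop.hom.toAlgebra
  haveI : Module.Finite Γ(S, ⊤) Γ(T₀, ⊤) := RingHom.finite_algebraMap.mp π₀.finite_appTop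
  haveI : CompactSpace X := QuasiCompact.compactSpace_of_compactSpace f
  have hcomp : IsCompact (j₀.opensRange : Set T₀) := isCompact_range j₀.continuous
  obtain ⟨G, hG⟩ := exists_finset_basicOpen (isAffineOpen_top T₀) j₀.opensRange hcomp le_top
  have hGfp : ∀ g ∈ G, Algebra.FinitePresentation Γ(S, ⊤) (Localization.Away g) := by
    intro g hg
    have hDle : T₀.basicOpen g ≤ j₀.opensRange := by
      rw [hG]; exact le_iSup₂ (f := fun g _ => T₀.basicOpen g) g hg
    have hUaff : IsAffineOpen (j₀ ⁻¹ᵁ T₀.basicOpen g) := by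
      have : IsAffineOpen (j₀ ''ᵁ (j₀ ⁻¹ᵁ T₀.basicOpen g)) := by
        rw [j₀.image_preimage_eq_opensRange_inf, inf_eq_right.mpr hDle]
        exact (isAffineOpen_top T₀).basicOpen g
      exact (j₀.isAffineOpen_iff_of_isOpenImmersion).mp this
    have h1 := f.finitePresentation_appLE (isAffineOpen_top S) hUaff le_top
    have h2 : f.appLE ⊤ (j₀ ⁻¹ᵁ T₀.basicOpen g) le_top =
        π₀.appLE ⊤ (T₀.basicOpen g) le_top ≫ j₀.app (T₀.basicOpen g) := by
      rw [Scheme.Hom.app_eq_appLE, Scheme.Hom.appLE_comp_appLE]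
      exact appLE_congr hfac.symm _ _ _
    haveI : IsIso (j₀.app (T₀.basicOpen g)) := j₀.isIso_app _ hDle
    have h3 : (π₀.appLE ⊤ (T₀.basicOpen g) le_top).hom.FinitePresentation := by
      rw [h2] at h1
      exact (RingHom.finitePresentation_respectsIso.cancel_right_isIso _ (j₀.app _)).mp h1
    haveI := (isAffineOpen_top T₀).isLocalization_basicOpen g
    exact finitePresentation_away_of_comp g (L := Γ(T₀, T₀.basicOpen g)) h3
  obtain ⟨B₁, instB₁, instAB₁, θ, hfp, hfin, hsurj, hlift⟩ := exists_fp_cover G hGfp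
  have hlift' : ∀ g : G, ∃ g' : B₁, θ g' = g.1 ∧ ∀ c : B₁, θ c = 0 → ∃ n : ℕ, g' ^ n * c = 0 :=
    fun g => hlift g.1 g.2
  choose g' hg'θ hg'ker using hlift'
  let i : T₀ ⟶ Spec (.of B₁) := T₀.isoSpec.hom ≫ Spec.map (CommRingCat.ofHom θ.toRingHom)
  have hiapp : i.appTop = (Scheme.ΓSpecIso (.of B₁)).hom ≫ CommRingCat.ofHom θ.toRingHom := by
    simp only [i, Scheme.Hom.comp_appTop, Scheme.isoSpec_hom, Scheme.toSpecΓ_appTop,
      Scheme.ΓSpecIso_naturality]
  have happLE : ∀ h : (⊤ : T₀.Opens) ≤ i ⁻¹ᵁ ⊤, i.appLE ⊤ ⊤ h = i.appTop := by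
    intro h
    rw [Scheme.Hom.appTop, Scheme.Hom.app_eq_appLE]
    rfl
  have hiθ : ∀ c : B₁, i.appTop.hom ((Scheme.ΓSpecIso (.of B₁)).inv.hom c) = θ c := by
    intro c
    rw [hiapp]
    simp
  -- the basic opens upstairs
  let D : G → (Spec (.of B₁)).Opens := fun g =>
    (Spec (.of B₁)).basicOpen ((Scheme.ΓSpecIso (.of B₁)).inv.hom (g' g))
  have hDpre : ∀ g : G, i ⁻¹ᵁ D g = T₀.basicOpen g.1 := by
    intro g
    simp only [D]
    rw [Scheme.preimage_basicOpen_top, hiθ, hg'θ]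
  have key : ∀ g : G, IsIso (i ∣_ D g) := by
    intro g
    refine isIso_morphismRestrict_basicOpen' i (isAffineOpen_top _) (isAffineOpen_top T₀) rfl _ ?_ ?_
    · intro c hc
      rw [happLE] at hc
      obtain ⟨c₀, rfl⟩ : ∃ c₀ : B₁, (Scheme.ΓSpecIso (.of B₁)).inv.hom c₀ = c :=
        ⟨(Scheme.ΓSpecIso (.of B₁)).hom.hom c, by simp⟩
      rw [hiθ] at hc
      obtain ⟨n, hn⟩ := hg'ker g c₀ hc
      refine ⟨n, ?_⟩
      rw [← map_pow, ← map_mul, hn, map_zero]
    · intro a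
      refine ⟨0, ?_⟩
      rw [pow_zero, one_mul, happLE]
      obtain ⟨c₀, rfl⟩ := hsurj a
      exact ⟨(Scheme.ΓSpecIso (.of B₁)).inv.hom c₀, hiθ c₀⟩
  have hcov : j₀.opensRange ≤ i ⁻¹ᵁ ⨆ g, D g := by
    rw [hG]
    refine iSup₂_le fun g hg => ?_
    rw [← hDpre ⟨g, hg⟩]
    exact i.preimage_mono (le_iSup D ⟨g, hg⟩)
  have hoi : IsOpenImmersion (j₀ ≫ i) := isOpenImmersion_comp_of_isIso_restrict j₀ i D key hcov
  obtain ⟨ρ, ⟨eρ⟩⟩ := Finite.exists_equiv_fin G
  refine ⟨B₁, instB₁, instAB₁, j₀ ≫ i, ρ, fun p => g' (eρ.symm p), hfin, hfp, hoi, ?_, ?_⟩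
  · have h1 : CommRingCat.ofHom (algebraMap Γ(S, ⊤) B₁) ≫ CommRingCat.ofHom θ.toRingHom =
        π₀.appTop := by
      ext a
      exact θ.commutes a
    simp only [i, Category.assoc]
    rw [← Spec.map_comp, h1, Scheme.isoSpec_hom_naturality, ← Category.assoc, hfac]
  · have hDeq : ∀ g : G, ((D g : (Spec (.of B₁)).Opens) : Set (Spec (.of B₁))) =
        (PrimeSpectrum.basicOpen (g' g) : Set (PrimeSpectrum B₁)) := by
      intro g
      simp only [D]
      have := basicOpen_eq_of_affine (R := .of B₁) (g' g)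
      exact congrArg (fun U : (Spec (.of B₁)).Opens => (U : Set (Spec (.of B₁)))) this
    apply Set.Subset.antisymm
    · rintro _ ⟨x, rfl⟩
      have hx : j₀ x ∈ j₀.opensRange := ⟨x, rfl⟩
      rw [hG] at hx
      simp only [Opens.mem_iSup] at hx
      obtain ⟨g, hg, hxg⟩ := hx
      refine Set.mem_iUnion.2 ⟨eρ ⟨g, hg⟩, ?_⟩
      have hmem : j₀ x ∈ i ⁻¹ᵁ D ⟨g, hg⟩ := by rw [hDpre]; exact hxg
      have h2 : i (j₀ x) ∈ ((D ⟨g, hg⟩ : (Spec (.of B₁)).Opens) : Set (Spec (.of B₁))) := hmem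
      rw [hDeq] at h2
      have h3 : g' (eρ.symm (eρ ⟨g, hg⟩)) = g' ⟨g, hg⟩ := by rw [Equiv.symm_apply_apply]
      show (j₀ ≫ i) x ∈
        (PrimeSpectrum.basicOpen (g' (eρ.symm (eρ ⟨g, hg⟩))) : Set (PrimeSpectrum B₁))
      rw [h3]; exact h2
    · intro y hy
      obtain ⟨p, hp⟩ := Set.mem_iUnion.1 hy
      rw [← hDeq] at hp
      haveI := key (eρ.symm p)
      have hsurj' : Function.Surjective (i ∣_ D (eρ.symm p)) :=
        (ConcreteCategory.bijective_of_isIso (C := TopCat) (i ∣_ D (eρ.symm p)).base).2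
      obtain ⟨t, ht⟩ := hsurj' ⟨y, hp⟩
      have ht' : i t.1 = y := by
        have := congrArg Subtype.val ht
        rwa [morphismRestrict_base_coe] at this
      have htD : t.1 ∈ T₀.basicOpen (eρ.symm p).1 := by
        rw [← hDpre]; exact t.2
      have htr : t.1 ∈ j₀.opensRange := by
        rw [hG]
        simp only [Opens.mem_iSup]
        exact ⟨(eρ.symm p).1, (eρ.symm p).2, htD⟩
      obtain ⟨x, hx⟩ := htr
      exact ⟨x, by rw [← ht', ← hx]; rfl⟩

end Groth.Agent.Lib.Helper22.ZmtFp
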