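import Mathlib
import Groth.Agent.Lib.Helper22NA10
import Groth.Agent.Lib.Helper26LimFP6
import Groth.Agent.Lib.Helper3BaseMap
import Groth.Agent.S9190
import Groth.Agent.S9194
import Groth.Agent.S0385

set_option autoImplicit false
set_option linter.style.haveILetI false
set_option linter.unusedSectionVars false
set_option linter.unusedVariables false

open CategoryTheory CategoryTheory.Limits AlgebraicGeometry
universe u

namespace Groth.Agent.Lib.Helper22ZmtQcqs

open Groth.Agent.Lib.Helper22 Groth.Agent.Lib.Helper2.LimLoc Groth.Agent.Lib.Helper26.LimFP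
  Groth.Agent.Lib.Helper3.BaseMap

/-- If `P` and `Q` descend to a stage, so does `P ⊓ Q` (copied from helper21's
`Helper21UnitFibE.qcqsDescent_inf` to keep the import closure small). -/
theorem qcqsDescent_inf' (P Q : MorphismProperty Scheme.{u}) [P.IsStableUnderBaseChange]
    [Q.IsStableUnderBaseChange] (hP : QcqsDescent P) (hQ : QcqsDescent Q) :
    QcqsDescent (P ⊓ Q) := by
  intro I _ _ D c hc _ i₀ _ _ X₀ Y₀ f₀ g₀ _ _ _ _ _ X Y f g qY qX hY hX hf
  obtain ⟨i, φ, Xi, Yi, fi, gi, pY, pX, h1, h2, h3⟩ :=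
    hP D c hc i₀ f₀ g₀ f g qY qX hY hX hf.1
  obtain ⟨j, ψ, Xj, Yj, fj, gj, pY', pX', h1', h2', h3'⟩ :=
    hQ D c hc i₀ f₀ g₀ f g qY qX hY hX hf.2
  have h4 : P (baseMap f₀ g₀ (D.map φ)) := (iff_of_isPullback f₀ g₀ P (D.map φ) h1 h2).mp h3
  have h4' : Q (baseMap f₀ g₀ (D.map ψ)) := (iff_of_isPullback f₀ g₀ Q (D.map ψ) h1' h2').mp h3'
  obtain ⟨k, a, b, hab⟩ := IsCofiltered.cospan φ ψ
  have h5 : P (baseMap f₀ g₀ (D.map (a ≫ φ))) := by
    rw [D.map_comp]
    exact of_comp f₀ g₀ P (D.map φ) (D.map a) h4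
  have h5' : Q (baseMap f₀ g₀ (D.map (a ≫ φ))) := by
    rw [hab, D.map_comp]
    exact of_comp f₀ g₀ Q (D.map ψ) (D.map b) h4'
  exact ⟨k, a ≫ φ, _, _, baseMap f₀ g₀ (D.map (a ≫ φ)), pullback.snd g₀ (D.map (a ≫ φ)),
    pullback.fst g₀ (D.map (a ≫ φ)), pullback.fst (f₀ ≫ g₀) (D.map (a ≫ φ)),
    IsPullback.of_hasPullback _ _, isPullback_baseMap f₀ g₀ _, h5, h5'⟩

theorem qcqsDescent_isSeparated : QcqsDescent.{u} @IsSeparated := by
  intro I _ _ D c hc _ i₀ _ _ X₀ Y₀ f₀ g₀ _ _ _ _ _ X Y f g qY qX hY hX hf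
  haveI : IsSeparated f := hf
  exact Groth.Agent.S9190.result D c hc i₀ f₀ g₀ f g qY qX hY hX

theorem qcqsDescent_locallyQuasiFinite : QcqsDescent.{u} @LocallyQuasiFinite := by
  intro I _ _ D c hc _ i₀ _ _ X₀ Y₀ f₀ g₀ _ _ _ _ _ X Y f g qY qX hY hX hf
  haveI : LocallyQuasiFinite f := hf
  exact Groth.Agent.S9194.result D c hc i₀ f₀ g₀ f g qY qX hY hX

/-- a separated quasi-finite finitely presented morphism to a qcqs scheme is a base change of
such a morphism to a Noetherian scheme. -/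
theorem exists_noetherian_model_qf {X' S' : Scheme.{u}} (f' : X' ⟶ S') [CompactSpace S']
    [QuasiSeparatedSpace S'] [IsSeparated f'] [LocallyQuasiFinite f'] [QuasiCompact f']
    [LocallyOfFinitePresentation f'] :
    ∃ (X Y : Scheme.{u}) (f : X ⟶ Y) (g : S' ⟶ Y) (p : X' ⟶ X),
      IsLocallyNoetherian Y ∧ CompactSpace Y ∧ QuasiSeparatedSpace Y ∧
      IsSeparated f ∧ LocallyQuasiFinite f ∧ LocallyOfFinitePresentation f ∧ QuasiCompact f ∧
      IsPullback p f' f g := by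
  obtain ⟨A, pA, DA, cA, hcA, eA, hA⟩ := NA10.exists_goodSys S'
  have := hA.dir
  have := hA.ne
  have : ∀ {x y : Aᵒᵖ} (a : x ⟶ y), IsAffineHom (DA.map a) := hA.aff
  have : ∀ (x y : Aᵒᵖ) (a : x ⟶ y), IsAffineHom (DA.map a) := fun _ _ a => hA.aff a
  have := hA.cpt
  have hlft := hA.lft
  have : ∀ x, QuasiSeparatedSpace (DA.obj x) := fun x => NA4.quasiSeparatedSpace_of_lft _
  have H : QcqsDescent.{u} ((@IsSeparated : MorphismProperty Scheme.{u}) ⊓ @LocallyQuasiFinite) :=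
    qcqsDescent_inf' _ _ qcqsDescent_isSeparated qcqsDescent_locallyQuasiFinite
  let F : X' ⟶ cA.pt := f' ≫ eA.inv
  haveI : IsSeparated F := inferInstance
  haveI : LocallyQuasiFinite F := inferInstance
  haveI : LocallyOfFinitePresentation F := inferInstance
  haveI : QuasiCompact F := inferInstance
  haveI : QuasiSeparated F := inferInstance
  obtain ⟨i, Xi, fi, gX, h1, h2, -, hPQ, pb⟩ := exists_model_of_qcqsDescent H hcA F
    ⟨inferInstance, inferInstance⟩
  refine ⟨Xi, DA.obj i, fi, eA.inv ≫ cA.π.app i, gX, NA4.isLocallyNoetherian_of_lft _,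
    inferInstance, inferInstance, hPQ.1, hPQ.2, h1, h2, ?_⟩
  refine IsPullback.of_iso pb (Iso.refl _) (Iso.refl _) eA (Iso.refl _) ?_ ?_ ?_ ?_
  · simp
  · simp [F]
  · simp
  · simp

/-- Zariski's main theorem over a qcqs base, with finitely presented finite part. -/
theorem exists_fp_factorization {X S : Scheme.{u}} (f : X ⟶ S) [CompactSpace ↑S]
    [QuasiSeparatedSpace ↑S] [IsSeparated f] [QuasiCompact f] [LocallyQuasiFinite f]
    [LocallyOfFinitePresentation f] :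
    ∃ (T : Scheme.{u}) (j : X ⟶ T) (π : T ⟶ S), IsOpenImmersion j ∧ QuasiCompact j ∧ IsFinite π ∧
      LocallyOfFinitePresentation π ∧ j ≫ π = f := by
  obtain ⟨X₀, Y₀, f₀, g, p, hN, hc, hqs, hsep, hlqf, hlfp, hqc, hsq⟩ := exists_noetherian_model_qf f
  obtain ⟨T₀, j₀, π₀, hj₀, hj₀qc, hπ₀, hjπ₀⟩ := Groth.Agent.S0385.result f₀
  have hπ₀fp : LocallyOfFinitePresentation π₀ :=
    LocallyOfFinitePresentation.iff_locallyOfFiniteType.mpr inferInstance
  have hcond : (p ≫ j₀) ≫ π₀ = f ≫ g := by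
    rw [Category.assoc, hjπ₀]; exact hsq.w
  let j : X ⟶ pullback π₀ g := pullback.lift (p ≫ j₀) f hcond
  have hj1 : j ≫ pullback.fst π₀ g = p ≫ j₀ := pullback.lift_fst _ _ _
  have hj2 : j ≫ pullback.snd π₀ g = f := pullback.lift_snd _ _ _
  -- the left square is a pullback
  have hleft : IsPullback p j j₀ (pullback.fst π₀ g) := by
    have hbig : IsPullback p (j ≫ pullback.snd π₀ g) (j₀ ≫ π₀) g := by
      rw [hj2, hjπ₀]; exact hsq
    exact IsPullback.of_bot hbig hj1.symm (IsPullback.of_hasPullback π₀ g)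
  refine ⟨pullback π₀ g, j, pullback.snd π₀ g, ?_, ?_, inferInstance, inferInstance, hj2⟩
  · exact MorphismProperty.of_isPullback (P := @IsOpenImmersion) hleft hj₀
  · exact MorphismProperty.of_isPullback (P := @QuasiCompact) hleft hj₀qc

end Groth.Agent.Lib.Helper22ZmtQcqs
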