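import Mathlib
import Groth.Agent.Lib.Helper23SecTw8

/-!
# Base loci and the stable base locus of an invertible module (helper23)

Namespace `Groth.Agent.Lib.Helper23.BaseLocus`.

* `Bs L m` : base locus of `L^{⊗ m}` (points lying in no `X_s`, `s` a global section of `L^{⊗ m}`)
* `isClosed_Bs`, `Bs_mul_subset` (`Bs (m*k) ⊆ Bs m` for `k > 0`), `Bs_tensorPow_eq` (`Bs(L^p) m = Bs(L) (p*m)`)
* `exists_stable` : on a Noetherian space, some `n₀ > 0` has `Bs n₀ ⊆ Bs m` for all `m > 0`.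
-/

set_option autoImplicit false
universe u
open CategoryTheory CategoryTheory.Limits AlgebraicGeometry TopologicalSpace Opposite

namespace Groth.Agent.Lib.Helper23.BaseLocus
open Groth.Agent.Lib.Helper23.AmpleIso Groth.Agent.Lib.Helper23.SecTw

variable {X : Scheme.{u}}

/-- base locus of `L^{⊗ m}` -/
def Bs (L : X.Modules) (m : ℕ) : Set X :=
  {x : X | ∀ s : Coh.structureModule X ⟶ CohB1.tensorPow L m, x ∉ CohB1.genLocus (CohB1.tensorPow L m) s}

theorem isClosed_Bs (L : X.Modules) (m : ℕ) : IsClosed (Bs L m) := by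
  have : Bs L m = (⋃ s : Coh.structureModule X ⟶ CohB1.tensorPow L m,
      ((CohB1.genLocus (CohB1.tensorPow L m) s : X.Opens) : Set X))ᶜ := by
    ext x
    simp only [Bs, Set.mem_setOf_eq, Set.mem_compl_iff, Set.mem_iUnion, SetLike.mem_coe, not_exists]
  rw [this]
  exact (isOpen_iUnion (fun s => (CohB1.genLocus (CohB1.tensorPow L m) s).2)).isClosed_compl

theorem Bs_mul_subset (L : X.Modules) (hL : PicF.IsInvertible L) (m k : ℕ) (hk : 0 < k) :
    Bs L (m * k) ⊆ Bs L m := by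
  intro x hx s hxs
  obtain ⟨Φ⟩ := nonempty_tensorPow_tensorPow_iso L hL m k (m * k) rfl
  refine hx (SecTwist.powHom s k ≫ Φ.hom) ?_
  rw [genLocus_comp_iso, genLocus_powHom (isInvertible_tensorPow hL m) s k hk]
  exact hxs

theorem Bs_eq_of_iso {L L' : X.Modules} (m m' : ℕ) (e : CohB1.tensorPow L m ≅ CohB1.tensorPow L' m') :
    Bs L m = Bs L' m' := by
  ext x
  constructor
  · intro hx s hxs
    refine hx (s ≫ e.inv) ?_
    have := genLocus_comp_iso e.symm s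
    rw [Iso.symm_hom] at this
    rw [this]; exact hxs
  · intro hx s hxs
    refine hx (s ≫ e.hom) ?_
    rw [genLocus_comp_iso]; exact hxs

theorem Bs_tensorPow_eq (L : X.Modules) (hL : PicF.IsInvertible L) (p m : ℕ) :
    Bs (CohB1.tensorPow L p) m = Bs L (p * m) := by
  obtain ⟨Φ⟩ := nonempty_tensorPow_tensorPow_iso L hL p m (p * m) rfl
  exact Bs_eq_of_iso _ _ Φ

/-- on a Noetherian space there is a smallest base locus among the `Bs m`, `m > 0` -/
theorem exists_stable [NoetherianSpace X] (L : X.Modules) (hL : PicF.IsInvertible L) :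
    ∃ n₀ : ℕ, 0 < n₀ ∧ ∀ m : ℕ, 0 < m → Bs L n₀ ⊆ Bs L m := by
  have hN : NoetherianSpace X := inferInstance
  have hwf' : WellFoundedLT (Closeds X) := ((noetherianSpace_TFAE X).out 0 1).1 hN
  have hwf : WellFounded fun s t : Closeds X => s < t := hwf'.wf
  obtain ⟨C, ⟨n₀, hn₀, rfl⟩, hmin⟩ := hwf.has_min
    {C : Closeds X | ∃ m : ℕ, 0 < m ∧ C = ⟨Bs L m, isClosed_Bs L m⟩} ⟨_, 1, Nat.one_pos, rfl⟩
  refine ⟨n₀, hn₀, fun m hm => ?_⟩
  have h1 : Bs L (n₀ * m) ⊆ Bs L n₀ := Bs_mul_subset L hL n₀ m hm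
  have h2 : Bs L (n₀ * m) ⊆ Bs L m := by
    rw [mul_comm]; exact Bs_mul_subset L hL m n₀ hn₀
  have h3 : Bs L (n₀ * m) = Bs L n₀ := by
    by_contra hne
    refine hmin ⟨Bs L (n₀ * m), isClosed_Bs L _⟩ ⟨n₀ * m, Nat.mul_pos hn₀ hm, rfl⟩ ?_
    exact lt_of_le_of_ne h1 (fun h => hne (congrArg (fun C : Closeds X => (C : Set X)) h))
  rw [← h3]; exact h2

/-- `B(L) = Bs(L^{k n₀})` -/
theorem stable_eq [NoetherianSpace X] (L : X.Modules) (hL : PicF.IsInvertible L) :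
    ∃ n₀ : ℕ, 0 < n₀ ∧ ∀ k : ℕ, 0 < k →
      {x : X | ∀ m : ℕ, 0 < m → x ∈ Bs L m} = Bs L (k * n₀) := by
  obtain ⟨n₀, hn₀, h⟩ := exists_stable L hL
  refine ⟨n₀, hn₀, fun k hk => ?_⟩
  apply Set.Subset.antisymm
  · intro x hx
    exact hx _ (Nat.mul_pos hk hn₀)
  · intro x hx m hm
    have h1 : Bs L (k * n₀) ⊆ Bs L n₀ := by
      rw [mul_comm]; exact Bs_mul_subset L hL n₀ k hk
    exact h m hm (h1 hx)

end Groth.Agent.Lib.Helper23.BaseLocus
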