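import Mathlib
import Groth.Prelude.Def_EtCore
import Groth.Prelude.Def_EtGm
import Groth.Agent.Lib.Helper21ConstHom
import Groth.Agent.Lib.Helper21EtOpen

/-!
# The constant étale sheaf is the sheaf of locally constant functions (helper23)

`lc X M` is the abelian sheaf `W ↦ C(W, M)` (`M` discrete) on the small étale site of `X`, obtained by
restricting Mathlib's fpqc sheaf `continuousMapPresheafAb`.  The canonical map `const X M ⟶ lc X M` is an
isomorphism.
-/

set_option autoImplicit false
set_option backward.isDefEq.respectTransparency.types false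
universe u
open CategoryTheory CategoryTheory.Limits AlgebraicGeometry Opposite

namespace Groth.Agent.Lib.Helper23.ConstLC
open Groth.Agent.Lib.Helper21.TorsA Groth.Agent.Lib.Helper21.ConstHom Groth.Agent.Lib.Helper21.EtOpen

/-- a type with the discrete topology -/
def Disc (M : Type) : Type := M

instance (M : Type) [AddCommGroup M] : AddCommGroup (Disc M) := inferInstanceAs (AddCommGroup M)
instance (M : Type) : TopologicalSpace (Disc M) := ⊥
instance (M : Type) : DiscreteTopology (Disc M) := ⟨rfl⟩
instance (M : Type) [AddCommGroup M] : IsTopologicalAddGroup (Disc M) := ⟨⟩ 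

/-- the big presheaf `U ↦ C(U, M)` with values in large abelian groups -/
noncomputable def lcBig (M : Type) [AddCommGroup M] : Scheme.{u}ᵒᵖ ⥤ AddCommGrpCat.{u + 1} :=
  continuousMapPresheafAb.{0, u} (Disc M) ⋙ AddCommGrpCat.uliftFunctor.{u + 1}

theorem isSheaf_lcBig (M : Type) [AddCommGroup M] :
    Presheaf.IsSheaf Scheme.etaleTopology (lcBig.{u} M) := by
  apply Presheaf.isSheaf_of_isSheaf_comp Scheme.etaleTopology (lcBig M) (forget AddCommGrpCat.{u+1})
  change Presheaf.IsSheaf Scheme.etaleTopology
    ((continuousMapPresheafAb.{0, u} (Disc M) ⋙ forget _) ⋙ uliftFunctor.{u+1})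
  rw [isSheaf_iff_isSheaf_of_type, Presieve.isSheaf_comp_uliftFunctor_iff]
  apply Presieve.isSheaf_of_le _
    (Scheme.etaleTopology_le_proetaleTopology.trans Scheme.proetaleTopology_le_fpqcTopology)
  rw [← isSheaf_iff_isSheaf_of_type]
  exact isSheaf_fpqcTopology_continuousMapPresheaf (Disc M)

/-- the sheaf of locally constant `M`-valued functions on the small étale site -/
noncomputable def lc (X : Scheme.{u}) (M : Type) [AddCommGroup M] : EtCoh.Ab X :=
  ((Scheme.Etale.forget X ⋙ Over.forget X).sheafPushforwardContinuous _ _ Scheme.etaleTopology).obj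
    ⟨lcBig M, isSheaf_lcBig M⟩

variable {X : Scheme.{u}} {M : Type} [AddCommGroup M]

/-- the function underlying a section of `lc X M` -/
def fn {W : X.Etale} (t : (lc X M).obj.obj (op W)) : C(W.left, Disc M) := t.down

/-- the section attached to a continuous function -/
def ofFn {W : X.Etale} (s : C(W.left, Disc M)) : (lc X M).obj.obj (op W) := ⟨s⟩

@[simp] lemma fn_ofFn {W : X.Etale} (s : C(W.left, Disc M)) : fn (ofFn (X := X) s) = s := rfl
@[simp] lemma ofFn_fn {W : X.Etale} (t : (lc X M).obj.obj (op W)) : ofFn (fn t) = t := rfl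

lemma fn_injective {W : X.Etale} : Function.Injective (fn (X := X) (M := M) (W := W)) :=
  fun _ _ h => ULift.ext _ _ h

lemma fn_res {V W : X.Etale} (f : W ⟶ V) (t : (lc X M).obj.obj (op V)) :
    fn (res _ (lc X M) f t) = (fn t).comp f.left.base.hom := rfl

lemma fn_add {W : X.Etale} (t t' : (lc X M).obj.obj (op W)) : fn (t + t') = fn t + fn t' := rfl
lemma fn_zero {W : X.Etale} : fn (0 : (lc X M).obj.obj (op W)) = 0 := rfl

/-- constants as sections of `lc X M` -/
def tHom (W : X.Etale) : ULift.{u+1} M →+ (lc X M).obj.obj (op W) where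
  toFun b := ofFn (ContinuousMap.const _ (b.down : Disc M))
  map_zero' := rfl
  map_add' _ _ := rfl

lemma fn_tHom (W : X.Etale) (b : ULift.{u+1} M) (w : W.left) : fn (tHom (X := X) W b) w = b.down := rfl

lemma res_tHom {V W : X.Etale} (f : W ⟶ V) (b : ULift.{u+1} M) :
    res _ (lc X M) f (tHom V b) = tHom W b := rfl

/-- an open of an étale `X`-scheme as an object of the small étale site -/
noncomputable def subObj (V : X.Etale) (W : V.left.Opens) : X.Etale :=
  Scheme.Etale.mk (W.ι ≫ V.hom)

/-- the inclusion -/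
noncomputable def subObjι (V : X.Etale) (W : V.left.Opens) : subObj V W ⟶ V :=
  MorphismProperty.Over.homMk W.ι rfl

theorem mono_cond (V : X.Etale) (b : ULift.{u+1} M) (h : tHom (X := X) V b = 0) :
    b = 0 ∨ (⊥ : Sieve V) ∈ X.smallEtaleTopology V := by
  rcases isEmpty_or_nonempty V.left with he | ⟨⟨v⟩⟩
  · right
    rw [mem_smallEtale_iff]
    intro z
    exact (he.false z).elim
  · left
    have h1 := congrArg (fun t => fn t v) h
    apply ULift.ext
    exact h1

theorem epi_cond (V : X.Etale) (e : (lc X M).obj.obj (op V)) :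
    ∃ S ∈ X.smallEtaleTopology V, ∀ ⦃W : X.Etale⦄ (f : W ⟶ V), S f →
      ∃ b : ULift.{u+1} M, tHom W b = res _ (lc X M) f e := by
  let S : Sieve V :=
    { arrows := fun W f => ∃ b : ULift.{u+1} M, tHom W b = res _ (lc X M) f e
      downward_closed := by
        rintro W W' f ⟨b, hb⟩ g
        refine ⟨b, ?_⟩
        rw [res_comp, ← hb, res_tHom] }
  refine ⟨S, ?_, fun W f hf => hf⟩
  rw [mem_smallEtale_iff]
  intro v
  let U : V.left.Opens := ⟨(fn e) ⁻¹' {fn e v}, (isOpen_discrete _).preimage (fn e).continuous⟩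
  refine ⟨subObj V U, subObjι V U, ⟨v, rfl⟩, ⟨⟨fn e v⟩, ?_⟩, rfl⟩
  apply fn_injective
  ext w
  rw [fn_res]
  exact (w.2 : fn e w.1 = fn e v).symm

/-- the canonical map from the constant sheaf to the sheaf of locally constant functions -/
theorem exists_constToLC (X : Scheme.{u}) (M : Type) [AddCommGroup M] :
    ∃ s : EtCoh.const X M ⟶ lc X M, IsIso s ∧ ∀ (V : X.Etale) (b : ULift.{u+1} M),
      (s.hom.app (op V)).hom (cst X.smallEtaleTopology (ULift.{u+1} M) V b) = tHom V b := by
  obtain ⟨s, hs⟩ := Groth.Agent.Lib.Helper21.ConstHom.exists_hom_of_family.{u, u+1}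
    (J := X.smallEtaleTopology) (B := ULift.{u+1} M) (lc X M) (tHom (X := X))
    (fun V W f b => res_tHom f b)
  haveI : Mono s := Groth.Agent.Lib.Helper21.ConstHom.mono_of_cst s
    (fun V b h => mono_cond V b ((hs V b).symm.trans h))
  haveI : Epi s := Groth.Agent.Lib.Helper21.ConstHom.epi_of_cst s (fun V e => by
    obtain ⟨S, hS, H⟩ := epi_cond V e
    refine ⟨S, hS, fun W f hf => ?_⟩
    obtain ⟨b, hb⟩ := H f hf
    exact ⟨b, (hs W b).trans hb⟩)
  exact ⟨s, isIso_of_mono_of_epi s, hs⟩

/-- the canonical map from the constant sheaf to the sheaf of locally constant functions -/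
noncomputable def constToLC (X : Scheme.{u}) (M : Type) [AddCommGroup M] : EtCoh.const X M ⟶ lc X M :=
  (exists_constToLC X M).choose

instance (X : Scheme.{u}) (M : Type) [AddCommGroup M] : IsIso (constToLC X M) :=
  (exists_constToLC X M).choose_spec.1

lemma constToLC_cst (V : X.Etale) (b : ULift.{u+1} M) :
    ((constToLC X M).hom.app (op V)).hom (cst X.smallEtaleTopology (ULift.{u+1} M) V b) = tHom V b :=
  (exists_constToLC X M).choose_spec.2 V b

/-- two maps out of a constant sheaf agreeing on constants are equal -/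
theorem hom_ext_cst {E : EtCoh.Ab X} (a b : EtCoh.const X M ⟶ E)
    (h : ∀ (V : X.Etale) (m : ULift.{u+1} M),
      (a.hom.app (op V)).hom (cst X.smallEtaleTopology (ULift.{u+1} M) V m) =
      (b.hom.app (op V)).hom (cst X.smallEtaleTopology (ULift.{u+1} M) V m)) : a = b := by
  apply Sheaf.hom_ext
  apply sheafify_hom_ext _ _ _ E.property
  ext V m
  exact h V.unop m

section Pull
variable {T X : Scheme.{u}} (f : T ⟶ X) (M : Type) [AddCommGroup M]

/-- the lifted group -/
abbrev MM : AddCommGrpCat.{u+1} := AddCommGrpCat.of (ULift.{u+1} M)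

lemma unit_cst (b : ULift.{u+1} M) :
    ((EtCore.constAdj X).unit.app (MM.{u} M)).hom b =
      cst X.smallEtaleTopology (ULift.{u+1} M) (EtCoh.top X) b := by
  rfl

/-- the comparison map `M_X ⟶ f_* M_T` -/
noncomputable def phi : EtCoh.const X M ⟶ (EtCoh.push f).obj (EtCoh.const T M) :=
  (EtCoh.pullPushAdj f).unit.app _ ≫ (EtCoh.push f).map (EtCore.pullConst f M).hom

/-- the adjunction used in the Prelude to define `pullConstIso` -/
noncomputable abbrev adj1 :
    constantSheaf X.smallEtaleTopology AddCommGrpCat.{u + 1} ⋙ EtCoh.pull f ⊣ EtCore.gsec T :=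
  ((EtCore.constAdj X).comp (EtCoh.pullPushAdj f)).ofNatIsoRight (EtCore.pushGsecIso f)

lemma cat_aux {C : Type*} [Category C] {A B D E F F' : C} (a : A ⟶ B) (gu : B ⟶ D) (gp : D ⟶ E)
    (IB : E ⟶ F) (IA : D ⟶ F') (tp : F' ⟶ F) (tpinv : F ⟶ F') (c : A ⟶ F)
    (h12 : c ≫ tpinv = a ≫ gu ≫ IA) (h3 : gp ≫ IB = IA ≫ tp) (h4 : tpinv ≫ tp = 𝟙 _) :
    a ≫ (gu ≫ gp) ≫ IB = c := by
  rw [Category.assoc, h3, ← Category.assoc gu, ← Category.assoc a, ← Category.assoc a,
    Category.assoc a gu, ← h12, Category.assoc, h4, Category.comp_id]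

lemma unit_phi :
    (EtCore.constAdj X).unit.app (MM.{u} M) ≫ (EtCore.gsec X).map (phi f M) ≫
      (EtCore.pushGsecIso f).hom.app (EtCoh.const T M) = (EtCore.constAdj T).unit.app (MM.{u} M) := by
  have h1 : (EtCore.constAdj T).unit.app (MM.{u} M) ≫
      (EtCore.gsec T).map ((EtCore.pullConstIso f).inv.app (MM.{u} M)) = (adj1 f).unit.app (MM.{u} M) :=
    Adjunction.unit_leftAdjointUniq_hom_app (EtCore.constAdj T) (adj1 f) (MM.{u} M)
  have h2 : (adj1 f).unit.app (MM.{u} M) = (EtCore.constAdj X).unit.app (MM.{u} M) ≫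
      (EtCore.gsec X).map ((EtCoh.pullPushAdj f).unit.app (EtCoh.const X M)) ≫
      (EtCore.pushGsecIso f).hom.app ((EtCoh.pull f).obj (EtCoh.const X M)) := by
    simp [adj1, Adjunction.comp_unit_app]
  have h3 := (EtCore.pushGsecIso f).hom.naturality (EtCore.pullConst f M).hom
  have h4 : (EtCore.gsec T).map ((EtCore.pullConstIso f).inv.app (MM.{u} M)) ≫
      (EtCore.gsec T).map (EtCore.pullConst f M).hom = 𝟙 _ := by
    rw [← Functor.map_comp]
    erw [Iso.inv_hom_id_app]
    exact CategoryTheory.Functor.map_id _ _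
  have e1 : (EtCore.gsec X).map (phi f M) =
      (EtCore.gsec X).map ((EtCoh.pullPushAdj f).unit.app (EtCoh.const X M)) ≫
        (EtCore.gsec X).map ((EtCoh.push f).map (EtCore.pullConst f M).hom) := Functor.map_comp _ _ _
  rw [e1]
  exact cat_aux _ _ _ _ _ _ _ _ (h1.trans h2) h3 h4

lemma phi_cst_top (b : ULift.{u+1} M) :
    ((phi f M).hom.app (op (EtCoh.top X))).hom
        (cst X.smallEtaleTopology (ULift.{u+1} M) (EtCoh.top X) b) =
      cst T.smallEtaleTopology (ULift.{u+1} M) ((EtCoh.bc f).obj (EtCoh.top X)) b := by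
  have h := ConcreteCategory.congr_hom (unit_phi f M) b
  have h' : res _ (EtCoh.const T M) (EtCore.bcTopIso f).inv
      (((phi f M).hom.app (op (EtCoh.top X))).hom
        (cst X.smallEtaleTopology (ULift.{u+1} M) (EtCoh.top X) b)) =
      cst T.smallEtaleTopology (ULift.{u+1} M) (EtCoh.top T) b := h
  have h2 := congrArg (res _ (EtCoh.const T M) (EtCore.bcTopIso f).hom) h'
  rw [← res_comp, Iso.hom_inv_id, res_id, res_cst] at h2
  exact h2

lemma phi_cst (V : X.Etale) (b : ULift.{u+1} M) :
    ((phi f M).hom.app (op V)).hom (cst X.smallEtaleTopology (ULift.{u+1} M) V b) =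
      cst T.smallEtaleTopology (ULift.{u+1} M) ((EtCoh.bc f).obj V) b := by
  let t : V ⟶ EtCoh.top X := (EtCore.topIsTerminal X).from V
  rw [← res_cst X.smallEtaleTopology t b, ← res_map (phi f M) t, phi_cst_top]
  exact res_cst T.smallEtaleTopology ((EtCoh.bc f).map t) b

/-- the projection `V ×_X T ⟶ V` -/
noncomputable abbrev pr (V : X.Etale) : ((EtCoh.bc f).obj V).left ⟶ V.left := pullback.fst V.hom f

lemma bc_map_pr {U V : X.Etale} (g : V ⟶ U) :
    ((EtCoh.bc f).map g).left ≫ pr f U = pr f V ≫ g.left :=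
  (EtCoh.isPullback_bc_map f g).w

/-- pulling back functions along the projections -/
noncomputable def gamma : lc X M ⟶ (EtCoh.push f).obj (lc T M) :=
  ⟨{ app := fun V => AddCommGrpCat.ofHom
        { toFun := fun t => ofFn ((fn t).comp (pr f V.unop).base.hom)
          map_zero' := rfl
          map_add' := fun _ _ => rfl }
     naturality := by
      intro U V g
      ext t
      apply fn_injective
      change ((fn t).comp g.unop.left.base.hom).comp (pr f V.unop).base.hom =
        ((fn t).comp (pr f U.unop).base.hom).comp ((EtCoh.bc f).map g.unop).left.base.hom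
      rw [ContinuousMap.comp_assoc, ContinuousMap.comp_assoc]
      congr 1
      have h := congrArg (fun k => k.base.hom) (bc_map_pr f g.unop)
      exact h.symm }⟩

lemma fn_gamma (V : X.Etale) (t : (lc X M).obj.obj (op V)) :
    fn (((gamma f M).hom.app (op V)).hom t) = (fn t).comp (pr f V).base.hom := rfl

theorem phi_gamma :
    phi f M ≫ (EtCoh.push f).map (constToLC T M) = constToLC X M ≫ gamma f M := by
  apply hom_ext_cst
  intro V m
  change (((EtCoh.push f).map (constToLC T M)).hom.app (op V)).hom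
      (((phi f M).hom.app (op V)).hom (cst X.smallEtaleTopology (ULift.{u+1} M) V m)) =
    ((gamma f M).hom.app (op V)).hom
      (((constToLC X M).hom.app (op V)).hom (cst X.smallEtaleTopology (ULift.{u+1} M) V m))
  rw [phi_cst, constToLC_cst]
  exact (constToLC_cst ((EtCoh.bc f).obj V) m)

theorem isIso_unit_iff :
    IsIso ((EtCoh.pullPushAdj f).unit.app (EtCoh.const X M)) ↔ IsIso (gamma f M) := by
  have h := phi_gamma f M
  constructor
  · intro hu
    haveI : IsIso (phi f M) := by
      change IsIso ((EtCoh.pullPushAdj f).unit.app (EtCoh.const X M) ≫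
        (EtCoh.push f).map (EtCore.pullConst f M).hom)
      infer_instance
    have : gamma f M = inv (constToLC X M) ≫ phi f M ≫ (EtCoh.push f).map (constToLC T M) := by
      rw [h, IsIso.inv_hom_id_assoc]
    rw [this]
    infer_instance
  · intro hg
    have h1 : phi f M = (constToLC X M ≫ gamma f M) ≫ inv ((EtCoh.push f).map (constToLC T M)) := by
      rw [← h, Category.assoc, IsIso.hom_inv_id, Category.comp_id]
    haveI : IsIso (phi f M) := by rw [h1]; infer_instance
    have h2 : (EtCoh.pullPushAdj f).unit.app (EtCoh.const X M) =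
        phi f M ≫ inv ((EtCoh.push f).map (EtCore.pullConst f M).hom) := by
      change _ = ((EtCoh.pullPushAdj f).unit.app (EtCoh.const X M) ≫
        (EtCoh.push f).map (EtCore.pullConst f M).hom) ≫ _
      rw [Category.assoc, IsIso.hom_inv_id, Category.comp_id]
    rw [h2]
    infer_instance

theorem isIso_gamma_iff :
    IsIso (gamma f M) ↔ ∀ V : X.Etale, Function.Bijective
      (fun s : C(V.left, Disc M) => s.comp (pr f V).base.hom) := by
  constructor
  · intro h V
    have h1 : IsIso ((gamma f M).hom.app (op V)) := inferInstance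
    have h2 := (ConcreteCategory.isIso_iff_bijective _).1 h1
    constructor
    · intro s s' hs
      have := h2.1 (a₁ := ofFn s) (a₂ := ofFn s') (fn_injective hs)
      exact congrArg fn this
    · intro s
      obtain ⟨t, ht⟩ := h2.2 (ofFn s)
      exact ⟨fn t, congrArg fn ht⟩
  · intro h
    haveI : ∀ V : X.Etaleᵒᵖ, IsIso ((gamma f M).hom.app V) := by
      intro V
      rw [ConcreteCategory.isIso_iff_bijective]
      constructor
      · intro t t' ht
        apply fn_injective
        exact (h V.unop).1 (congrArg fn ht)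
      · intro t
        obtain ⟨s, hs⟩ := (h V.unop).2 (fn t)
        exact ⟨ofFn s, fn_injective hs⟩
    haveI : IsIso (gamma f M).hom := NatIso.isIso_of_isIso_app _
    exact (isIso_iff_of_reflects_iso _ (sheafToPresheaf _ _)).1 ‹_›

end Pull

end Groth.Agent.Lib.Helper23.ConstLC
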