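import Mathlib

/-!
# Unique extension of locally constant functions (helper23)

* `bijective_comp_of_specializes`: a purely topological criterion for `C(V, N) → C(Z, N)` (`N` discrete)
  to be bijective.
* `exists_specializes_of_mem_closure_range`: for a quasi-compact morphism of schemes, the closure of the image
  is the set of specializations of points of the image.
* `bijective_comp_of_isDomain_stalk`: the criterion for a quasi-compact preimmersion into a scheme whose local
  rings are domains.
-/

set_option autoImplicit false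
set_option backward.isDefEq.respectTransparency.types false
universe u
open CategoryTheory CategoryTheory.Limits AlgebraicGeometry Opposite

namespace Groth.Agent.Lib.Helper23.ConstLCTop


/-- a continuous map to a discrete space takes equal values on points related by specialization -/
lemma eq_of_specializes {V N : Type*} [TopologicalSpace V] [TopologicalSpace N] [DiscreteTopology N]
    (s : C(V, N)) {x y : V} (h : x ⤳ y) : s x = s y :=
  (h.map s.continuous).eq

/-- **Unique extension of locally constant functions.** -/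
theorem bijective_comp_of_specializes {Z V N : Type*} [TopologicalSpace Z] [TopologicalSpace V]
    [TopologicalSpace N] [DiscreteTopology N]
    (p : C(Z, V)) (hp : Topology.IsInducing p)
    (h1 : ∀ w : V, ∃ z, p z ⤳ w)
    (h2 : ∀ a b w, p a ⤳ w → p b ⤳ w → ∃ z, p z ⤳ p a ∧ p z ⤳ p b)
    (h3 : ∀ A : Set Z, IsClopen A → ∀ w ∈ closure (p '' A), ∃ a ∈ A, p a ⤳ w) :
    Function.Bijective (fun s : C(V, N) => s.comp p) := by
  constructor
  · intro s s' h
    ext w
    obtain ⟨z, hz⟩ := h1 w
    have h' := DFunLike.congr_fun h z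
    simp only [ContinuousMap.comp_apply] at h'
    rw [← eq_of_specializes s hz, ← eq_of_specializes s' hz, h']
  · intro r
    have hA : ∀ m : N, IsClopen (r ⁻¹' {m}) := fun m => (isClopen_discrete {m}).preimage r.continuous
    have hB : ∀ m : N, IsClopen (r ⁻¹' {m})ᶜ := fun m => (hA m).compl
    have hdisj : ∀ m w, w ∈ closure (p '' (r ⁻¹' {m})) → w ∈ closure (p '' (r ⁻¹' {m})ᶜ) → False := by
      intro m w hw hw'
      obtain ⟨a, ha, haw⟩ := h3 _ (hA m) w hw
      obtain ⟨b, hb, hbw⟩ := h3 _ (hB m) w hw'
      obtain ⟨z, hza, hzb⟩ := h2 a b w haw hbw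
      have e1 := eq_of_specializes r (hp.specializes_iff.1 hza)
      have e2 := eq_of_specializes r (hp.specializes_iff.1 hzb)
      exact hb ((e2.symm.trans e1).trans ha)
    have hmem : ∀ (A : Set Z) (z : Z) (w : V), z ∈ A → p z ⤳ w → w ∈ closure (p '' A) := by
      intro A z w hz hzw
      exact hzw.mem_closed isClosed_closure (subset_closure ⟨z, hz, rfl⟩)
    have hopen : ∀ m, IsOpen (closure (p '' (r ⁻¹' {m}))) := by
      intro m
      have : closure (p '' (r ⁻¹' {m})) = (closure (p '' (r ⁻¹' {m})ᶜ))ᶜ := by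
        ext w
        constructor
        · intro hw hw'
          exact hdisj m w hw hw'
        · intro hw
          obtain ⟨z, hz⟩ := h1 w
          by_cases hzm : z ∈ r ⁻¹' {m}
          · exact hmem _ z w hzm hz
          · exact (hw (hmem _ z w hzm hz)).elim
      rw [this]
      exact isClosed_closure.isOpen_compl
    let st : V → N := fun w => r (h1 w).choose
    have hst1 : ∀ w, w ∈ closure (p '' (r ⁻¹' {st w})) := by
      intro w
      exact hmem _ (h1 w).choose w rfl (h1 w).choose_spec
    have hst2 : ∀ w m, w ∈ closure (p '' (r ⁻¹' {m})) → st w = m := by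
      intro w m hw
      by_contra hne
      apply hdisj m w hw
      have hsub : r ⁻¹' {st w} ⊆ (r ⁻¹' {m})ᶜ := by
        intro z hz hz'
        exact hne (hz.symm.trans hz')
      exact closure_mono (Set.image_mono hsub) (hst1 w)
    have hcont : Continuous st := by
      rw [continuous_discrete_rng]
      intro m
      have : st ⁻¹' {m} = closure (p '' (r ⁻¹' {m})) := by
        ext w
        constructor
        · intro hw
          have := hst1 w
          rwa [show st w = m from hw] at this
        · intro hw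
          exact hst2 w m hw
      rw [this]
      exact hopen m
    refine ⟨⟨st, hcont⟩, ?_⟩
    ext z
    exact hst2 (p z) (r z) (subset_closure ⟨z, rfl, rfl⟩)



/-- for a quasi-compact morphism, the closure of the image is the set of specializations of the image -/
theorem exists_specializes_of_mem_closure_range {Y V : Scheme.{u}} (h : Y ⟶ V) [QuasiCompact h] (w : V)
    (hw : w ∈ closure (Set.range h)) : ∃ y : Y, h y ⤳ w := by
  obtain ⟨_, ⟨W, hW, rfl⟩, hwW, -⟩ := V.isBasis_affineOpens.exists_subset_of_mem_open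
    (Set.mem_univ w) isOpen_univ
  have hc : IsCompact (h ⁻¹ᵁ W : Set Y) := h.isCompact_preimage hW.isCompact
  obtain ⟨R, g, hg⟩ := isCompact_iff_exists.1 hc
  have hrange : Set.range (g ≫ h) ⊆ Set.range hW.fromSpec := by
    rw [hW.range_fromSpec]
    rintro _ ⟨q, rfl⟩
    have : g q ∈ (h ⁻¹ᵁ W : Set Y) := by rw [← hg]; exact ⟨q, rfl⟩
    exact this
  let k : Spec R ⟶ Spec Γ(V, W) := IsOpenImmersion.lift hW.fromSpec (g ≫ h) hrange
  have hk : k ≫ hW.fromSpec = g ≫ h := IsOpenImmersion.lift_fac _ _ _
  let φ := Spec.preimage k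
  have hφ : Spec.map φ = k := Spec.map_preimage k
  let pw : ↥(Spec Γ(V, W)) := hW.primeIdealOf ⟨w, hwW⟩
  have hpw : hW.fromSpec pw = w := hW.fromSpec_primeIdealOf ⟨w, hwW⟩
  -- `w` lies in the closure of `range (g ≫ h)`
  have h1 : w ∈ closure (Set.range (g ≫ h)) := by
    rw [mem_closure_iff]
    intro o ho hwo
    have hne : ((o ∩ (W : Set V)) ∩ Set.range h).Nonempty :=
      mem_closure_iff.1 hw (o ∩ (W : Set V)) (ho.inter W.isOpen) ⟨hwo, hwW⟩
    obtain ⟨x, ⟨hxo, hxW⟩, ⟨y, rfl⟩⟩ := hne
    have : y ∈ Set.range g := by rw [hg]; exact hxW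
    obtain ⟨q, rfl⟩ := this
    exact ⟨_, hxo, ⟨q, rfl⟩⟩
  have h2 : pw ∈ closure (Set.range (Spec.map φ)) := by
    rw [hW.fromSpec.isOpenEmbedding.isInducing.closure_eq_preimage_closure_image]
    rw [Set.mem_preimage, hpw, ← Set.range_comp]
    have : (⇑hW.fromSpec ∘ ⇑(Spec.map φ)) = ⇑(g ≫ h) := by
      rw [hφ, ← hk]
      rfl
    rw [this]
    exact h1
  have h3 : (pw : PrimeSpectrum Γ(V, W)) ∈
      PrimeSpectrum.zeroLocus (RingHom.ker φ.hom : Set Γ(V, W)) := by
    rw [← PrimeSpectrum.closure_range_comap]
    exact h2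
  obtain ⟨Q, -, hQ, hQle⟩ := Ideal.exists_ideal_comap_le_prime (f := φ.hom)
    (pw : PrimeSpectrum Γ(V, W)).asIdeal (⊥ : Ideal R)
    (by
      intro x hx
      exact h3 hx)
  let q : Spec R := ⟨Q, hQ⟩
  refine ⟨g q, ?_⟩
  have h4 : (Spec.map φ) q ⤳ pw :=
    (PrimeSpectrum.le_iff_specializes (PrimeSpectrum.comap φ.hom q) pw).1 hQle
  have h5 := h4.map hW.fromSpec.continuous
  rw [hpw] at h5
  have h6 : hW.fromSpec ((Spec.map φ) q) = h (g q) := by
    rw [hφ, ← Scheme.Hom.comp_apply, hk]
    rfl
  rwa [h6] at h5



/-- the generic point of the set of generizations of a point whose local ring is a domain -/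
theorem exists_generic_generization {V : Scheme.{u}} (w : V) [IsDomain (V.presheaf.stalk w)] :
    ∃ ξ : V, ∀ x : V, x ⤳ w → ξ ⤳ x := by
  let b : ↥(Spec (V.presheaf.stalk w)) := (⟨⊥, Ideal.isPrime_bot⟩ : PrimeSpectrum (V.presheaf.stalk w))
  refine ⟨V.fromSpecStalk w b, ?_⟩
  intro x hx
  have : x ∈ Set.range (V.fromSpecStalk w) := by
    rw [Scheme.range_fromSpecStalk]
    exact hx
  obtain ⟨x', rfl⟩ := this
  have h1 : b ⤳ x' :=
    (PrimeSpectrum.le_iff_specializes (⟨⊥, Ideal.isPrime_bot⟩ : PrimeSpectrum (V.presheaf.stalk w)) x').1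
      bot_le
  exact h1.map (V.fromSpecStalk w).continuous

/-- the inclusion of a clopen subset is quasi-compact -/
theorem quasiCompact_ι_of_isClosed {Z : Scheme.{u}} (A : Z.Opens) (hA : IsClosed (A : Set Z)) :
    QuasiCompact A.ι := by
  constructor
  intro U hU hUc
  have hce : Topology.IsClosedEmbedding A.ι := by
    refine ⟨A.ι.isEmbedding, ?_⟩
    rw [Scheme.Opens.range_ι]
    exact hA
  exact hce.isCompact_preimage hUc

/-- **Unique extension of locally constant functions** along a quasi-compact preimmersion whose image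
is stable under generization and contains a generization of every point, to a scheme whose local rings
are domains. -/
theorem bijective_comp_of_isDomain_stalk {Z V : Scheme.{u}} (hV : ∀ w : V, IsDomain (V.presheaf.stalk w))
    (p : Z ⟶ V) [QuasiCompact p] [IsPreimmersion p]
    (ha : StableUnderGeneralization (Set.range p)) (hb : ∀ w : V, ∃ z : Z, p z ⤳ w)
    (N : Type*) [TopologicalSpace N] [DiscreteTopology N] :
    Function.Bijective (fun s : C(V, N) => s.comp p.base.hom) := by
  apply bijective_comp_of_specializes p.base.hom p.isEmbedding.isInducing hb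
  · intro a b w haw hbw
    haveI := hV w
    obtain ⟨ξ, hξ⟩ := exists_generic_generization w
    obtain ⟨z, rfl⟩ := ha (hξ _ haw) ⟨a, rfl⟩
    exact ⟨z, hξ _ haw, hξ _ hbw⟩
  · intro A hA w hw
    let A' : Z.Opens := ⟨A, hA.isOpen⟩
    haveI : QuasiCompact A'.ι := quasiCompact_ι_of_isClosed A' hA.isClosed
    have hr : Set.range (A'.ι ≫ p) = p '' A := by
      rw [Scheme.Hom.comp_base, TopCat.coe_comp, Set.range_comp, Scheme.Opens.range_ι]
      rfl
    obtain ⟨y, hy⟩ := exists_specializes_of_mem_closure_range (A'.ι ≫ p) w (by rw [hr]; exact hw)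
    exact ⟨y.1, y.2, hy⟩

end Groth.Agent.Lib.Helper23.ConstLCTop
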