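import Mathlib
import Groth.Agent.Lib.Helper23ConstLC
import Groth.Agent.Lib.Helper23ConstLCTop
import Groth.Agent.Lib.Helper20NormFin

/-!
# Constant sheaves on normal schemes: `M_X ⟶ j_* j^* M_X` (helper23)
-/

set_option autoImplicit false
set_option backward.isDefEq.respectTransparency.types false
universe u
open CategoryTheory CategoryTheory.Limits AlgebraicGeometry Opposite

namespace Groth.Agent.Lib.Helper23.ConstLCGeo
open Groth.Agent.Lib.Helper23.ConstLC Groth.Agent.Lib.Helper23.ConstLCTop

/-- the unit `M_X ⟶ f_* f^* M_X` is an isomorphism as soon as locally constant functions extend uniquely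
along all the projections `V ×_X T ⟶ V` -/
theorem isIso_unit_of_bijective {T X : Scheme.{u}} (f : T ⟶ X) (M : Type) [AddCommGroup M]
    (h : ∀ V : X.Etale, Function.Bijective
      (fun s : C(V.left, Disc M) => s.comp (pr f V).base.hom)) :
    IsIso ((EtCoh.pullPushAdj f).unit.app (EtCoh.const X M)) :=
  (isIso_unit_iff f M).2 ((isIso_gamma_iff f M).2 h)

/-- local rings of a scheme étale over a normal scheme are domains -/
theorem isDomain_stalk_of_etale {X : Scheme.{u}} (hX : Pi1.IsNormalScheme X) (V : X.Etale) (w : V.left) :
    IsDomain (V.left.presheaf.stalk w) := by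
  haveI : Etale V.hom := V.prop
  exact (Groth.Agent.Lib.Helper20NormFin.isNormalScheme_of_smooth hX V.hom w).1

/-- **Dense quasi-compact open immersions into a normal scheme.** -/
theorem isIso_unit_of_dense_open {X U : Scheme.{u}} (hX : Pi1.IsNormalScheme X)
    (j : U ⟶ X) [IsOpenImmersion j] [QuasiCompact j] (hj : Dense (Set.range j))
    (M : Type) [AddCommGroup M] :
    IsIso ((EtCoh.pullPushAdj j).unit.app (EtCoh.const X M)) := by
  apply isIso_unit_of_bijective
  intro V
  haveI : Etale V.hom := V.prop
  haveI : QuasiCompact (pr j V) := inferInstanceAs (QuasiCompact (pullback.fst V.hom j))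
  haveI : IsOpenImmersion (pr j V) := inferInstanceAs (IsOpenImmersion (pullback.fst V.hom j))
  have hr : Set.range (pr j V) = V.hom ⁻¹' Set.range j := Scheme.Pullback.range_fst V.hom j
  have hdense : Dense (Set.range (pr j V)) := by
    rw [hr]
    exact hj.preimage V.hom.isOpenMap
  apply bijective_comp_of_isDomain_stalk (isDomain_stalk_of_etale hX V) (pr j V)
  · exact (pr j V).isOpenEmbedding.isOpen_range.stableUnderGeneralization
  · intro w
    exact exists_specializes_of_mem_closure_range (pr j V) w (hdense w)

/-- a morphism from a scheme with finitely many points is quasi-compact -/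
theorem quasiCompact_of_finite {T X : Scheme.{u}} (g : T ⟶ X) [Finite T] : QuasiCompact g := by
  constructor
  intro U _ _
  exact (Set.toFinite _).isCompact

section generic
variable {X T : Scheme.{u}} [IsIntegral X] (g : T ⟶ X) (hg : Set.range g = {genericPoint X})

include hg in
lemma range_pr_generic (V : X.Etale) : Set.range (pr g V) = V.hom ⁻¹' {genericPoint X} := by
  rw [← hg]
  exact Scheme.Pullback.range_fst V.hom g

include hg in
/-- every point of an étale `X`-scheme has a generization over the generic point -/
theorem generic_exists_specializes (V : X.Etale) (w : V.left) : ∃ z, pr g V z ⤳ w := by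
  haveI : Etale V.hom := V.prop
  obtain ⟨a, haw, ha⟩ := Flat.generalizingMap (f := V.hom)
    (genericPoint_specializes (α := ↥X) (V.hom w))
  have : a ∈ Set.range (pr g V) := by rw [range_pr_generic g hg V]; exact ha
  obtain ⟨z, rfl⟩ := this
  exact ⟨z, haw⟩

include hg in
/-- locally constant functions on an étale scheme over a normal integral scheme are the same as
locally constant functions on its generic fibre -/
theorem generic_bijective (hX : Pi1.IsNormalScheme X) [IsPreimmersion g] (V : X.Etale)
    (N : Type*) [TopologicalSpace N] [DiscreteTopology N] :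
    Function.Bijective (fun s : C(V.left, N) => s.comp (pr g V).base.hom) := by
  haveI : Finite T := by
    haveI : Finite (Set.range g) := by rw [hg]; infer_instance
    exact Finite.of_injective_finite_range g.isEmbedding.injective
  haveI : QuasiCompact g := quasiCompact_of_finite g
  haveI : Etale V.hom := V.prop
  haveI : QuasiCompact (pr g V) := inferInstanceAs (QuasiCompact (pullback.fst V.hom g))
  haveI : IsPreimmersion (pr g V) := inferInstanceAs (IsPreimmersion (pullback.fst V.hom g))
  have hr := range_pr_generic g hg V
  apply bijective_comp_of_isDomain_stalk (isDomain_stalk_of_etale hX V) (pr g V)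
  · intro x y hyx hx
    rw [hr] at hx ⊢
    have h1 : V.hom y ⤳ genericPoint X := by
      have := hyx.map V.hom.continuous
      rwa [show V.hom x = genericPoint X from hx] at this
    exact (h1.antisymm (genericPoint_specializes (α := ↥X) _)).eq
  · exact generic_exists_specializes g hg V

include hg in
/-- **The generic point of a normal integral scheme.** -/
theorem isIso_unit_of_generic (hX : Pi1.IsNormalScheme X) [IsPreimmersion g]
    (M : Type) [AddCommGroup M] :
    IsIso ((EtCoh.pullPushAdj g).unit.app (EtCoh.const X M)) :=
  isIso_unit_of_bijective g M (fun V => generic_bijective g hg hX V (Disc M))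

end generic

/-- **Nonempty opens of a normal integral scheme.** -/
theorem isIso_unit_of_open {X : Scheme.{u}} [IsIntegral X] (hX : Pi1.IsNormalScheme X)
    (U : X.Opens) (hU : (U : Set X).Nonempty) (M : Type) [AddCommGroup M] :
    IsIso ((EtCoh.pullPushAdj U.ι).unit.app (EtCoh.const X M)) := by
  let g := X.fromSpecResidueField (genericPoint X)
  have hg : Set.range g = {genericPoint X} := Scheme.range_fromSpecResidueField _
  have hη : genericPoint X ∈ U := by
    obtain ⟨x, hx⟩ := hU
    exact (genericPoint_specializes (α := ↥X) x).mem_open U.isOpen hx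
  have hgU : Set.range g ⊆ Set.range U.ι := by
    rw [hg, Scheme.Opens.range_ι]
    exact Set.singleton_subset_iff.2 hη
  let g' : Spec (X.residueField (genericPoint X)) ⟶ U := IsOpenImmersion.lift U.ι g hgU
  have hg' : g' ≫ U.ι = g := IsOpenImmersion.lift_fac _ _ _
  apply isIso_unit_of_bijective
  intro V
  haveI : IsOpenImmersion (pr U.ι V) := inferInstanceAs (IsOpenImmersion (pullback.fst V.hom U.ι))
  let q : ((EtCoh.bc g).obj V).left ⟶ ((EtCoh.bc U.ι).obj V).left :=
    pullback.lift (pullback.fst V.hom g) (pullback.snd V.hom g ≫ g')
      (by rw [Category.assoc, hg']; exact pullback.condition)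
  have hq : q ≫ pr U.ι V = pr g V := pullback.lift_fst _ _ _
  have hqa : ∀ z, pr U.ι V (q z) = pr g V z := fun z => by
    rw [← hq]; rfl
  have hbij := generic_bijective g hg hX V (Disc M)
  have hbinj : ∀ s s' : C(((EtCoh.bc U.ι).obj V).left, Disc M),
      s.comp q.base.hom = s'.comp q.base.hom → s = s' := by
    intro s s' h
    ext z
    obtain ⟨ξ, hξ⟩ := generic_exists_specializes g hg V (pr U.ι V z)
    rw [← hqa] at hξ
    have h1 : q ξ ⤳ z := (pr U.ι V).isOpenEmbedding.isInducing.specializes_iff.1 hξ
    have h2 := DFunLike.congr_fun h ξ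
    simp only [ContinuousMap.comp_apply] at h2
    rw [← eq_of_specializes s h1, ← eq_of_specializes s' h1]
    exact h2
  have hcomp : ∀ s : C(V.left, Disc M),
      (s.comp (pr U.ι V).base.hom).comp q.base.hom = s.comp (pr g V).base.hom := by
    intro s
    rw [ContinuousMap.comp_assoc]
    congr 1
    exact congrArg (fun k => k.base.hom) hq
  constructor
  · intro s s' h
    apply hbij.1
    change s.comp (pr g V).base.hom = s'.comp (pr g V).base.hom
    rw [← hcomp, ← hcomp]
    exact congrArg (fun t => t.comp q.base.hom) h
  · intro r
    obtain ⟨s, hs⟩ := hbij.2 (r.comp q.base.hom)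
    refine ⟨s, hbinj _ _ ?_⟩
    rw [hcomp]
    exact hs

end Groth.Agent.Lib.Helper23.ConstLCGeo
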