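import Mathlib
import Groth.Prelude.Def_EtShriek2
import Groth.Prelude.Def_EtCore
import Groth.Prelude.Def_EtRestW
import Groth.Prelude.Def_EtMod2
import Groth.Agent.Lib.Helper21EtOpen
import Groth.Agent.Lib.Helper9JContAll
import Groth.Agent.Lib.Helper9EtPull

/-!
# Locally constant sheaves on small étale sites: over-sites versus pullbacks (helper23)

* `G U : U.left.Etale ⥤ Over U` is an equivalence of sites; `Psi U A : Sheaf (J.over U) A ≌ Sheaf U.left_et A`,
  sending `F.over U` to the restriction along `U → X` (`psiRestr`) and constant sheaves to constant sheaves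
  (`psiConst`).
* generic `pushA / pullA / pullCompA / pullConstIsoA / rhoA` for a value category `A` with `HasPull A`
  (instances for `AddCommGrpCat.{u+1}` and `ModuleCat.{u+1} Λ`).
* `over_iso_const_iff`: `F.over U ≅ const M` iff `pull U.hom F ≅ const M`.
* `IsLC A P F` (locally constant with values satisfying `P`), `isLC_iff`, `IsLC.pull`.
-/

set_option autoImplicit false
set_option backward.isDefEq.respectTransparency.types false
universe u
open CategoryTheory CategoryTheory.Limits AlgebraicGeometry Opposite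

namespace Groth.Agent.Lib.Helper23LCPull

open Groth.Agent.Lib.Helper21.EtOpen

variable {X : Scheme.{u}} (U : X.Etale)

/-- the structure morphism `(V → U → X) ⟶ U` in `X.Etale` -/
noncomputable def toU (V : U.left.Etale) : (EtShriek.compEtale U.hom).obj V ⟶ U :=
  MorphismProperty.Over.homMk V.hom rfl trivial

/-- the comparison functor from the small étale site of `U` to the over category of `U` -/
noncomputable def G : U.left.Etale ⥤ Over U where
  obj V := Over.mk (toU U V)
  map g := Over.homMk ((EtShriek.compEtale U.hom).map g) (by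
    apply MorphismProperty.Over.Hom.ext
    exact MorphismProperty.Over.w g)
  map_id V := by
    apply Over.OverMorphism.ext
    exact (EtShriek.compEtale U.hom).map_id V
  map_comp g h := by
    apply Over.OverMorphism.ext
    exact (EtShriek.compEtale U.hom).map_comp g h

lemma G_comp_forget : G U ⋙ Over.forget U = EtShriek.compEtale U.hom := rfl

instance : (G U).Faithful where
  map_injective {V W} g h e := by
    apply MorphismProperty.Over.Hom.ext
    have := congrArg (fun k => k.left.left) e
    exact this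

instance : (G U).Full where
  map_surjective {V W} h := by
    have e : h.left.left ≫ W.hom = V.hom := by
      have := congrArg (fun k => k.left) (Over.w h)
      exact this
    refine ⟨MorphismProperty.Over.homMk h.left.left e trivial, ?_⟩
    apply Over.OverMorphism.ext
    apply MorphismProperty.Over.Hom.ext
    rfl

instance : (G U).EssSurj where
  mem_essImage W := by
    have hw : W.hom.left ≫ U.hom = W.left.hom := MorphismProperty.Over.w W.hom
    have hW : EtCoh.etaleMP (W.hom.left ≫ U.hom) := by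
      rw [hw]; exact W.left.prop
    let V : U.left.Etale := MorphismProperty.Over.mk ⊤ W.hom.left
      (EtCoh.etaleMP.of_postcomp (W' := EtCoh.etaleMP) W.hom.left U.hom U.prop hW)
    let i : (EtShriek.compEtale U.hom).obj V ≅ W.left :=
      MorphismProperty.Over.isoMk (Iso.refl _) ((Category.id_comp _).trans hw.symm)
    refine ⟨V, ⟨Over.isoMk i ?_⟩⟩
    apply MorphismProperty.Over.Hom.ext
    exact Category.id_comp _

instance : (G U).IsEquivalence where

lemma functorPushforward_mem_iff {V : U.left.Etale} {S : Sieve V} :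
    S.functorPushforward (G U) ∈ (X.smallEtaleTopology.over U) ((G U).obj V) ↔
      S ∈ U.left.smallEtaleTopology V := by
  rw [GrothendieckTopology.mem_over_iff, mem_smallEtale_iff, mem_smallEtale_iff]
  constructor
  · intro h z
    obtain ⟨Y, f, y, hf, hy⟩ := h z
    rw [Sieve.overEquiv_iff] at hf
    obtain ⟨Z, g, k, hg, hk⟩ := hf
    refine ⟨Z, g, k.left.left y, hg, ?_⟩
    have h1 : f.left = k.left.left ≫ g.left := by
      have := congrArg (fun m => m.left.left) hk
      exact this
    rw [← hy, h1]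
    rfl
  · intro h z
    obtain ⟨Y', f', y, hf, hy⟩ := h z
    refine ⟨(EtShriek.compEtale U.hom).obj Y', (EtShriek.compEtale U.hom).map f', y, ?_, hy⟩
    rw [Sieve.overEquiv_iff]
    refine ⟨Y', f', Over.homMk (𝟙 _) ?_, hf, ?_⟩
    · apply MorphismProperty.Over.Hom.ext
      have : f'.left ≫ V.hom = Y'.hom := MorphismProperty.Over.w f'
      exact (Category.id_comp _).trans this.symm
    · apply Over.OverMorphism.ext
      simp [G]

instance isDenseSubsite_G :
    (G U).IsDenseSubsite U.left.smallEtaleTopology (X.smallEtaleTopology.over U) where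
  functorPushforward_mem_iff := functorPushforward_mem_iff U

/-- the equivalence of categories -/
noncomputable def eqv : U.left.Etale ≌ Over U := (G U).asEquivalence

instance : (eqv U).symm.inverse.IsDenseSubsite U.left.smallEtaleTopology
    (X.smallEtaleTopology.over U) := isDenseSubsite_G U

instance : (eqv U).inverse.IsDenseSubsite (X.smallEtaleTopology.over U)
    U.left.smallEtaleTopology :=
  inferInstanceAs ((eqv U).symm.functor.IsDenseSubsite (X.smallEtaleTopology.over U)
    U.left.smallEtaleTopology)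

variable (A : Type (u + 2)) [Category.{u + 1} A]

/-- the equivalence of sheaf categories -/
noncomputable def Psi : Sheaf (X.smallEtaleTopology.over U) A ≌ Sheaf U.left.smallEtaleTopology A :=
  ((eqv U).sheafCongr U.left.smallEtaleTopology (X.smallEtaleTopology.over U) A).symm

lemma Psi_obj_obj (H : Sheaf (X.smallEtaleTopology.over U) A) :
    ((Psi U A).functor.obj H).obj = (G U).op ⋙ H.obj := rfl

/-- `G` sends the terminal object to the terminal object -/
noncomputable def gTopIso : (G U).obj (EtCoh.top U.left) ≅ Over.mk (𝟙 U) :=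
  IsTerminal.uniqueUpToIso (IsTerminal.isTerminalObj (G U) _ (EtCore.topIsTerminal U.left))
    Over.mkIdTerminal

section Const

variable [HasWeakSheafify (X.smallEtaleTopology.over U) A]
  [HasWeakSheafify U.left.smallEtaleTopology A]

noncomputable def psiSecIso :
    (Psi U A).functor ⋙ (sheafSections U.left.smallEtaleTopology A).obj (op (EtCoh.top U.left)) ≅
      (sheafSections (X.smallEtaleTopology.over U) A).obj (op (Over.mk (𝟙 U))) :=
  NatIso.ofComponents (fun H => H.obj.mapIso (gTopIso U).op.symm) (fun {F G} φ => by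
    simp only [Functor.comp_map, Functor.mapIso_hom, Iso.symm_hom]
    exact (φ.hom.naturality _).symm)

noncomputable def constIso :
    constantSheaf U.left.smallEtaleTopology A ⋙ (Psi U A).inverse ≅
      constantSheaf (X.smallEtaleTopology.over U) A :=
  Adjunction.leftAdjointUniq
    (((constantSheafAdj U.left.smallEtaleTopology A (EtCore.topIsTerminal U.left)).comp
      (Psi U A).symm.toAdjunction).ofNatIsoRight (psiSecIso U A))
    (constantSheafAdj (X.smallEtaleTopology.over U) A Over.mkIdTerminal)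

/-- `Psi` sends constant sheaves to constant sheaves -/
noncomputable def psiConst (M : A) :
    (Psi U A).functor.obj ((constantSheaf (X.smallEtaleTopology.over U) A).obj M) ≅
      (constantSheaf U.left.smallEtaleTopology A).obj M :=
  (Psi U A).functor.mapIso ((constIso U A).app M).symm ≪≫ (Psi U A).counitIso.app _

end Const

section Restr

/-- restriction along an étale morphism, with values in `A` -/
noncomputable def restrA {T : Scheme.{u}} (j : T ⟶ X) [Etale j] :
    Sheaf X.smallEtaleTopology A ⥤ Sheaf T.smallEtaleTopology A :=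
  haveI := Groth.Agent.Lib.Helper9.JContAll.jCont j
  (EtShriek.compEtale j).sheafPushforwardContinuous A T.smallEtaleTopology X.smallEtaleTopology

/-- `Psi` sends the restriction to the over site to the restriction along `U → X` -/
noncomputable def psiRestr (F : Sheaf X.smallEtaleTopology A) :
    (Psi U A).functor.obj (F.over U) ≅ (restrA A U.hom).obj F :=
  (sheafToPresheaf _ _).preimageIso (Iso.refl _)

end Restr

section Generic

/-- direct image with values in `A` -/
noncomputable abbrev pushA {X Y : Scheme.{u}} (f : X ⟶ Y) :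
    Sheaf X.smallEtaleTopology A ⥤ Sheaf Y.smallEtaleTopology A :=
  (EtCoh.bc f).sheafPushforwardContinuous A Y.smallEtaleTopology X.smallEtaleTopology

/-- the value category admits inverse images on small étale sites -/
class HasPull : Prop where
  isRightAdjoint : ∀ {X Y : Scheme.{u}} (f : X ⟶ Y), (pushA A f).IsRightAdjoint
  hasWeakSheafify : ∀ (X : Scheme.{u}), HasWeakSheafify X.smallEtaleTopology A
  hasWeakSheafifyOver : ∀ {X : Scheme.{u}} (U : X.Etale), HasWeakSheafify (X.smallEtaleTopology.over U) A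

attribute [instance] HasPull.isRightAdjoint HasPull.hasWeakSheafify HasPull.hasWeakSheafifyOver

variable [HasPull A]

/-- inverse image with values in `A` -/
noncomputable abbrev pullA {X Y : Scheme.{u}} (f : X ⟶ Y) :
    Sheaf Y.smallEtaleTopology A ⥤ Sheaf X.smallEtaleTopology A :=
  (EtCoh.bc f).sheafPullback A Y.smallEtaleTopology X.smallEtaleTopology

noncomputable abbrev pullPushAdjA {X Y : Scheme.{u}} (f : X ⟶ Y) : pullA A f ⊣ pushA A f :=
  (EtCoh.bc f).sheafAdjunctionContinuous A Y.smallEtaleTopology X.smallEtaleTopology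

/-- Direct images compose. -/
noncomputable def pushCompA {X Y Z : Scheme.{u}} (f : X ⟶ Y) (g : Z ⟶ X) :
    pushA A g ⋙ pushA A f ≅ pushA A (g ≫ f) :=
  Functor.sheafPushforwardContinuousComp' (F := EtCoh.bc f) (G := EtCoh.bc g) (FG := EtCoh.bc (g ≫ f))
    ((MorphismProperty.Over.pullbackComp (P := EtCoh.etaleMP) (Q := ⊤) g f).symm :
      EtCoh.bc f ⋙ EtCoh.bc g ≅ EtCoh.bc (g ≫ f))
    A Y.smallEtaleTopology X.smallEtaleTopology Z.smallEtaleTopology

noncomputable def pullCompA {X Y Z : Scheme.{u}} (f : X ⟶ Y) (g : Y ⟶ Z) :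
    pullA A (f ≫ g) ≅ pullA A g ⋙ pullA A f :=
  Adjunction.leftAdjointUniq (pullPushAdjA A (f ≫ g))
    (((pullPushAdjA A g).comp (pullPushAdjA A f)).ofNatIsoRight (pushCompA A g f))

/-- global sections -/
noncomputable abbrev gsecA (X : Scheme.{u}) : Sheaf X.smallEtaleTopology A ⥤ A :=
  (sheafSections X.smallEtaleTopology A).obj (op (EtCoh.top X))

noncomputable abbrev constAdjA (X : Scheme.{u}) : constantSheaf X.smallEtaleTopology A ⊣ gsecA A X :=
  constantSheafAdj X.smallEtaleTopology A (EtCore.topIsTerminal X)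

noncomputable def pushGsecIsoA {X Y : Scheme.{u}} (f : X ⟶ Y) : pushA A f ⋙ gsecA A Y ≅ gsecA A X :=
  NatIso.ofComponents (fun F => F.obj.mapIso (EtCore.bcTopIso f).op.symm) (fun {F G} φ => by
    simp only [Functor.comp_map, Functor.mapIso_hom, Iso.symm_hom]
    exact (φ.hom.naturality _).symm)

noncomputable def pullConstIsoA {X Y : Scheme.{u}} (f : X ⟶ Y) :
    constantSheaf Y.smallEtaleTopology A ⋙ pullA A f ≅ constantSheaf X.smallEtaleTopology A :=
  Adjunction.leftAdjointUniq (((constAdjA A Y).comp (pullPushAdjA A f)).ofNatIsoRight (pushGsecIsoA A f))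
    (constAdjA A X)

/-- for étale `j`, restriction is left adjoint to direct image -/
noncomputable def restrPushAdjA {T X : Scheme.{u}} (j : T ⟶ X) [Etale j] : restrA A j ⊣ pushA A j :=
  haveI := Groth.Agent.Lib.Helper9.JContAll.jCont j
  (Groth.Agent.S0651.compBcAdj j).sheafPushforwardContinuous (E := A)
    T.smallEtaleTopology X.smallEtaleTopology

noncomputable def rhoA {T X : Scheme.{u}} (j : T ⟶ X) [Etale j] : pullA A j ≅ restrA A j :=
  Adjunction.leftAdjointUniq (pullPushAdjA A j) (restrPushAdjA A j)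

theorem over_iso_const_iff (F : Sheaf X.smallEtaleTopology A) (M : A) :
    Nonempty (F.over U ≅ (constantSheaf (X.smallEtaleTopology.over U) A).obj M) ↔
      Nonempty ((pullA A U.hom).obj F ≅ (constantSheaf U.left.smallEtaleTopology A).obj M) := by
  constructor
  · rintro ⟨e⟩
    exact ⟨(rhoA A U.hom).app F ≪≫ (psiRestr U A F).symm ≪≫ (Psi U A).functor.mapIso e ≪≫
      psiConst U A M⟩
  · rintro ⟨e⟩
    exact ⟨(Psi U A).functor.preimageIso (psiRestr U A F ≪≫ ((rhoA A U.hom).app F).symm ≪≫ e ≪≫
      (psiConst U A M).symm)⟩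

/-- locally constant with value objects satisfying `P` -/
def IsLC (P : A → Prop) {X : Scheme.{u}} (F : Sheaf X.smallEtaleTopology A) : Prop :=
  ∃ (ι : Type u) (U : ι → X.Etale), EtCoh.Covers U ∧ ∀ i, ∃ M : A, P M ∧
    Nonempty (F.over (U i) ≅ (constantSheaf (X.smallEtaleTopology.over (U i)) A).obj M)

variable {A}

theorem isLC_iff (P : A → Prop) {X : Scheme.{u}} (F : Sheaf X.smallEtaleTopology A) :
    IsLC A P F ↔ ∃ (ι : Type u) (U : ι → X.Etale), EtCoh.Covers U ∧ ∀ i, ∃ M : A, P M ∧
      Nonempty ((pullA A (U i).hom).obj F ≅ (constantSheaf (U i).left.smallEtaleTopology A).obj M) := by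
  constructor
  · rintro ⟨ι, U, hU, h⟩
    refine ⟨ι, U, hU, fun i => ?_⟩
    obtain ⟨M, hM, e⟩ := h i
    exact ⟨M, hM, (over_iso_const_iff (U i) A F M).1 e⟩
  · rintro ⟨ι, U, hU, h⟩
    refine ⟨ι, U, hU, fun i => ?_⟩
    obtain ⟨M, hM, e⟩ := h i
    exact ⟨M, hM, (over_iso_const_iff (U i) A F M).2 e⟩

theorem nonempty_pull_iso_of_eq {X Y : Scheme.{u}} {f f' : X ⟶ Y} (h : f = f')
    (F : Sheaf Y.smallEtaleTopology A) : Nonempty ((pullA A f).obj F ≅ (pullA A f').obj F) := by
  subst h
  exact ⟨Iso.refl _⟩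

theorem IsLC.pull (P : A → Prop) {X Y : Scheme.{u}} (f : X ⟶ Y) (F : Sheaf Y.smallEtaleTopology A)
    (h : IsLC A P F) : IsLC A P ((pullA A f).obj F) := by
  rw [isLC_iff] at h ⊢
  obtain ⟨ι, U, hU, h⟩ := h
  refine ⟨ι, fun i => (EtCoh.bc f).obj (U i), ?_, fun i => ?_⟩
  · intro x
    obtain ⟨i, y, hy⟩ := hU (f x)
    obtain ⟨z, -, hz⟩ := Scheme.Pullback.exists_preimage_pullback (f := (U i).hom) (g := f) y x hy
    exact ⟨i, z, hz⟩
  · obtain ⟨M, hM, ⟨e⟩⟩ := h i
    refine ⟨M, hM, ?_⟩
    let V := (EtCoh.bc f).obj (U i)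
    let fi : V.left ⟶ (U i).left := pullback.fst (U i).hom f
    have hw : V.hom ≫ f = fi ≫ (U i).hom := pullback.condition.symm
    obtain ⟨e1⟩ := nonempty_pull_iso_of_eq hw F
    exact ⟨((pullCompA A V.hom f).app F).symm ≪≫ e1 ≪≫ (pullCompA A fi (U i).hom).app F ≪≫
      (pullA A fi).mapIso e ≪≫ (pullConstIsoA A fi).app M⟩

end Generic

instance : HasPull.{u} AddCommGrpCat.{u + 1} where
  isRightAdjoint f := inferInstance
  hasWeakSheafify X := inferInstance
  hasWeakSheafifyOver U := inferInstance

instance (Λ : Type (u + 1)) [CommRing Λ] : HasPull.{u} (ModuleCat.{u + 1} Λ) where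
  isRightAdjoint f := inferInstance
  hasWeakSheafify X := inferInstance
  hasWeakSheafifyOver U := inferInstance

theorem isLocallyConstant_iff {X : Scheme.{u}} (F : EtCoh.Ab X) :
    EtRest.IsLocallyConstant F ↔ IsLC AddCommGrpCat.{u + 1} (fun _ => True) F := by
  constructor
  · rintro ⟨ι, U, hU, h⟩
    refine ⟨ι, U, hU, fun i => ?_⟩
    obtain ⟨M, _, e⟩ := h i
    exact ⟨AddCommGrpCat.of M, trivial, e⟩
  · rintro ⟨ι, U, hU, h⟩
    refine ⟨ι, U, hU, fun i => ?_⟩
    obtain ⟨M, -, e⟩ := h i
    exact ⟨M, inferInstance, e⟩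

theorem isFiniteLocallyConstant_iff {X : Scheme.{u}} (F : EtCoh.Ab X) :
    EtCoh.IsFiniteLocallyConstant F ↔ IsLC AddCommGrpCat.{u + 1}
      (fun N => ∃ (M : Type) (_ : AddCommGroup M) (_ : Finite M),
        N = AddCommGrpCat.of (ULift.{u + 1} M)) F := by
  constructor
  · rintro ⟨ι, U, hU, h⟩
    refine ⟨ι, U, hU, fun i => ?_⟩
    obtain ⟨M, i1, i2, e⟩ := h i
    exact ⟨_, ⟨M, i1, i2, rfl⟩, e⟩
  · rintro ⟨ι, U, hU, h⟩
    refine ⟨ι, U, hU, fun i => ?_⟩
    obtain ⟨N, ⟨M, i1, i2, rfl⟩, e⟩ := h i
    exact ⟨M, i1, i2, e⟩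

theorem isFTLocConst_iff (Λ : Type (u + 1)) [CommRing Λ] {X : Scheme.{u}} (F : EtModW.Mod Λ X) :
    EtModW.IsFTLocConst Λ F ↔ IsLC (ModuleCat.{u + 1} Λ) (fun N => Module.Finite Λ N) F := by
  constructor
  · rintro ⟨ι, U, hU, h⟩
    refine ⟨ι, U, hU, fun i => ?_⟩
    obtain ⟨M, i1, i2, i3, e⟩ := h i
    exact ⟨ModuleCat.of Λ M, i3, e⟩
  · rintro ⟨ι, U, hU, h⟩
    refine ⟨ι, U, hU, fun i => ?_⟩
    obtain ⟨N, hN, e⟩ := h i
    exact ⟨N, inferInstance, inferInstance, hN, e⟩

theorem isLocallyConstant_pull {X Y : Scheme.{u}} (f : X ⟶ Y) (G : EtCoh.Ab Y)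
    (hG : EtRest.IsLocallyConstant G) : EtRest.IsLocallyConstant ((EtCoh.pull f).obj G) := by
  rw [isLocallyConstant_iff] at hG ⊢
  exact IsLC.pull _ f G hG

theorem isFiniteLocallyConstant_pull {X Y : Scheme.{u}} (f : X ⟶ Y) (G : EtCoh.Ab Y)
    (hG : EtCoh.IsFiniteLocallyConstant G) : EtCoh.IsFiniteLocallyConstant ((EtCoh.pull f).obj G) := by
  rw [isFiniteLocallyConstant_iff] at hG ⊢
  exact IsLC.pull _ f G hG

theorem isFTLocConst_pull (Λ : Type (u + 1)) [CommRing Λ] {X Y : Scheme.{u}} (f : X ⟶ Y)
    (G : EtModW.Mod Λ Y) (hG : EtModW.IsFTLocConst Λ G) :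
    EtModW.IsFTLocConst Λ ((EtModW.pull Λ f).obj G) := by
  rw [isFTLocConst_iff] at hG ⊢
  exact IsLC.pull _ f G hG

end Groth.Agent.Lib.Helper23LCPull

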