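import Mathlib

/-!
# Finite stratifications of schemes by constructible locally closed subschemes (helper23)

Abstract combinatorics behind constructible sheaves. For a sieve `Q` on a scheme `X` (a property of morphisms
`T ⟶ X` stable under precomposition, e.g. "the pullback of `F` along `T ⟶ X` is finite locally constant"):

* `Str Q`: `X` has a finite partition into constructible locally closed subschemes (immersions with pairwise
  disjoint constructible ranges covering `X`) all belonging to `Q`.
* `Str.pull`, `Str.glueFam`, `Str.glue`, `Str.of_openCover`: base change, gluing along a finite family of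
  immersions, along an open and its closed complement, along a finite retrocompact open cover.
* `LocStr Q` (Zariski-locally `Str`), `Constr Q` (every affine open has strata); `constr_iff_locStr`,
  `constr_iff_str` (qcqs), `Constr.pull`, `Constr.of_openCover`.
* `ConsTop`: in a compact quasi-separated quasi-sober prespectral space, constructible sets are compact and
  a cover by constructible sets has a finite subcover (compactness of the constructible topology).
-/

set_option autoImplicit false
universe u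
open CategoryTheory CategoryTheory.Limits AlgebraicGeometry Opposite Topology

namespace Groth.Agent.Lib.Helper23Strata

namespace ConsTop

open Set


variable {X : Type*} [TopologicalSpace X]

theorem isClopen_constructibleTopology [CompactSpace X] {s : Set X} (hs : IsConstructible s) :
    IsOpen[constructibleTopology X] s ∧ IsOpen[constructibleTopology X] sᶜ := by
  induction hs using IsConstructible.empty_union_induction with
  | open_retrocompact U hUopen hUcomp =>
    refine ⟨hUcomp.isCompact.isOpen_constructibleTopology_of_isOpen hUopen,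
      IsCompact.isOpen_constructibleTopology_of_isClosed ?_ hUopen.isClosed_compl⟩
    rw [compl_compl]
    exact hUcomp.isCompact
  | union s hs t ht hs' ht' =>
    refine ⟨@IsOpen.union X s t (constructibleTopology X) hs'.1 ht'.1, ?_⟩
    rw [Set.compl_union]
    exact @IsOpen.inter X (constructibleTopology X) _ _ hs'.2 ht'.2
  | compl s hs hs' =>
    refine ⟨hs'.2, ?_⟩
    rw [compl_compl]
    exact hs'.1

theorem isOpen_constructibleTopology_of_isOpen [PrespectralSpace X] {U : Set X} (hU : IsOpen U) :
    IsOpen[constructibleTopology X] U := by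
  obtain ⟨S, hS, rfl⟩ := (PrespectralSpace.isTopologicalBasis (X := X)).open_eq_sUnion hU
  refine @isOpen_sUnion X (constructibleTopology X) _ (fun t ht => ?_)
  obtain ⟨h1, h2⟩ := hS ht
  exact h2.isOpen_constructibleTopology_of_isOpen h1

theorem continuous_ofTopology' [PrespectralSpace X] :
    Continuous (WithTopology.ofTopology : WithConstructibleTopology X → X) := by
  constructor
  intro U hU
  exact isOpen_constructibleTopology_of_isOpen hU

variable [CompactSpace X] [QuasiSober X] [PrespectralSpace X] [QuasiSeparatedSpace X]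

theorem isCompact_of_isConstructible {s : Set X} (hs : IsConstructible s) : IsCompact s := by
  have h1 : IsClosed ((WithTopology.ofTopology : WithConstructibleTopology X → X) ⁻¹' s) := by
    rw [← isOpen_compl_iff]
    exact (isClopen_constructibleTopology hs).2
  have h2 := h1.isCompact.image continuous_ofTopology'
  rwa [Set.image_preimage_eq _ (WithTopology.ofTopology_surjective _)] at h2

theorem exists_finite_subcover {ι : Type*} (Z : ι → Set X) (hZ : ∀ i, IsConstructible (Z i))
    (hcov : ⋃ i, Z i = univ) : ∃ t : Finset ι, ⋃ i ∈ t, Z i = univ := by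
  have h1 : ∀ i, IsOpen ((WithTopology.ofTopology : WithConstructibleTopology X → X) ⁻¹' Z i) :=
    fun i => (isClopen_constructibleTopology (hZ i)).1
  have h2 : (univ : Set (WithConstructibleTopology X)) ⊆
      ⋃ i, (WithTopology.ofTopology : WithConstructibleTopology X → X) ⁻¹' Z i := by
    rw [← Set.preimage_iUnion, hcov, Set.preimage_univ]
  obtain ⟨t, ht⟩ := isCompact_univ.elim_finite_subcover _ h1 h2
  refine ⟨t, Set.eq_univ_of_forall fun x => ?_⟩
  have := ht (Set.mem_univ (WithTopology.toTopology _ x))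
  simp only [Set.mem_iUnion, Set.mem_preimage] at this ⊢
  exact this


end ConsTop


variable {X : Scheme.{u}}

/-- a finite partition of `X` into constructible locally closed subschemes along which `Q` holds -/
def Str (Q : Sieve X) : Prop :=
  ∃ (ι : Type) (_ : Finite ι) (T : ι → Scheme.{u}) (g : ∀ i, T i ⟶ X),
    (∀ i, IsImmersion (g i)) ∧ (∀ i, IsConstructible (Set.range (g i))) ∧
    Pairwise (fun i j => Disjoint (Set.range (g i)) (Set.range (g j))) ∧
    (⋃ i, Set.range (g i)) = Set.univ ∧ ∀ i, Q (g i)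

theorem exists_closedImmersion (Z : Set X) (hZ : IsClosed Z) :
    ∃ (C : Scheme.{u}) (c : C ⟶ X), IsClosedImmersion c ∧ Set.range c = Z := by
  let I := Scheme.IdealSheafData.vanishingIdeal (X := X) ⟨Z, hZ⟩
  refine ⟨I.subscheme, I.subschemeι, inferInstance, ?_⟩
  rw [Scheme.IdealSheafData.range_subschemeι]
  simp [I]

theorem Str.pull {Q : Sieve X} {X' : Scheme.{u}} (f : X' ⟶ X) (h : Str Q) :
    Str (Q.pullback f) := by
  obtain ⟨ι, hι, T, g, h1, h2, h3, h4, h5⟩ := h
  refine ⟨ι, hι, fun i => pullback (g i) f, fun i => pullback.snd (g i) f, fun i => inferInstance,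
    fun i => ?_, ?_, ?_, fun i => ?_⟩
  · rw [Scheme.Pullback.range_snd]
    exact Scheme.Hom.isConstructible_preimage f (h2 i)
  · intro i j hij
    rw [Scheme.Pullback.range_snd, Scheme.Pullback.range_snd]
    exact (h3 hij).preimage _
  · simp_rw [Scheme.Pullback.range_snd]
    rw [← Set.preimage_iUnion, h4, Set.preimage_univ]
  · change Q (pullback.snd (g i) f ≫ f)
    rw [← pullback.condition]
    exact Q.downward_closed (h5 i) _

theorem Str.glueFam {Q : Sieve X} {κ : Type} [Finite κ] (A : κ → Scheme.{u}) (a : ∀ k, A k ⟶ X)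
    [∀ k, IsImmersion (a k)]
    (ha : ∀ k (s : Set (A k)), IsConstructible s → IsConstructible (a k '' s))
    (hdisj : Pairwise (fun k l => Disjoint (Set.range (a k)) (Set.range (a l))))
    (hcov : (⋃ k, Set.range (a k)) = Set.univ)
    (h : ∀ k, Str (Q.pullback (a k))) : Str Q := by
  choose ι hι T g h1 h2 h3 h4 h5 using h
  haveI : ∀ k, Finite (ι k) := hι
  have hr : ∀ (p : Σ k, ι k), Set.range (g p.1 p.2 ≫ a p.1) = a p.1 '' Set.range (g p.1 p.2) := by
    intro p
    rw [Scheme.Hom.comp_base, TopCat.coe_comp, Set.range_comp]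
  refine ⟨Σ k, ι k, inferInstance, fun p => T p.1 p.2, fun p => g p.1 p.2 ≫ a p.1,
    fun p => ?_, fun p => ?_, ?_, ?_, fun p => h5 p.1 p.2⟩
  · haveI := h1 p.1 p.2
    infer_instance
  · rw [hr]
    exact ha _ _ (h2 p.1 p.2)
  · rintro ⟨k, i⟩ ⟨l, j⟩ hne
    change Disjoint (Set.range (g k i ≫ a k)) (Set.range (g l j ≫ a l))
    rw [hr ⟨k, i⟩, hr ⟨l, j⟩]
    by_cases hkl : k = l
    · subst hkl
      have hij : i ≠ j := fun e => hne (by rw [e])
      exact (Set.disjoint_image_iff (a k).isEmbedding.injective).2 (h3 k hij)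
    · exact (hdisj hkl).mono (Set.image_subset_range _ _) (Set.image_subset_range _ _)
  · apply Set.eq_univ_of_forall
    intro x
    have hx : x ∈ ⋃ k, Set.range (a k) := by rw [hcov]; trivial
    obtain ⟨k, y, rfl⟩ := Set.mem_iUnion.1 hx
    have hy : y ∈ ⋃ i, Set.range (g k i) := by rw [h4]; trivial
    obtain ⟨i, z, rfl⟩ := Set.mem_iUnion.1 hy
    exact Set.mem_iUnion.2 ⟨⟨k, i⟩, z, rfl⟩

theorem isRetrocompact_preimage {X' : Scheme.{u}} (f : X' ⟶ X) {t : Set X} (ht : IsOpen t)
    (ht' : IsRetrocompact t) : IsRetrocompact (f ⁻¹' t) :=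
  IsRetrocompact_iff_isSpectralMap_subtypeVal.mpr
    (quasiCompact_iff_isSpectralMap.mp
    (MorphismProperty.of_isPullback (P := @QuasiCompact)
    (isPullback_morphismRestrict f ⟨t, ht⟩)
    (quasiCompact_iff_isSpectralMap.mpr (IsRetrocompact_iff_isSpectralMap_subtypeVal.mp ht'))))

theorem Str.glue {Q : Sieve X} (O : X.Opens) (hO : IsRetrocompact (O : Set X)) {C : Scheme.{u}}
    (c : C ⟶ X) [IsClosedImmersion c] (hc : Set.range c = (O : Set X)ᶜ)
    (h1 : Str (Q.pullback O.ι)) (h2 : Str (Q.pullback c)) : Str Q := by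
  let A : Bool → Scheme.{u} := fun b => if b then O.toScheme else C
  let a : ∀ b, A b ⟶ X := fun b => match b with
    | true => O.ι
    | false => c
  haveI : ∀ b, IsImmersion (a b) := fun b => match b with
    | true => inferInstanceAs (IsImmersion O.ι)
    | false => inferInstanceAs (IsImmersion c)
  refine Str.glueFam A a ?_ ?_ ?_ ?_
  · intro b s hs
    match b with
    | true =>
      exact hs.image_of_isOpenEmbedding O.ι.isOpenEmbedding (by
        change IsRetrocompact (Set.range O.ι)
        rw [Scheme.Opens.range_ι]; exact hO)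
    | false =>
      exact hs.image_of_isClosedEmbedding c.isClosedEmbedding (by
        change IsRetrocompact (Set.range c)ᶜ
        rw [hc, compl_compl]; exact hO)
  · intro b b' hne
    match b, b' with
    | true, true => exact (hne rfl).elim
    | false, false => exact (hne rfl).elim
    | true, false =>
      change Disjoint (Set.range O.ι) (Set.range c)
      rw [Scheme.Opens.range_ι, hc]
      exact disjoint_compl_right
    | false, true =>
      change Disjoint (Set.range c) (Set.range O.ι)
      rw [Scheme.Opens.range_ι, hc]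
      exact disjoint_compl_left
  · apply Set.eq_univ_of_forall
    intro x
    by_cases hx : x ∈ O
    · refine Set.mem_iUnion.2 ⟨true, ?_⟩
      change x ∈ Set.range O.ι
      rw [Scheme.Opens.range_ι]; exact hx
    · refine Set.mem_iUnion.2 ⟨false, ?_⟩
      change x ∈ Set.range c
      rw [hc]; exact hx
  · intro b
    match b with
    | true => exact h1
    | false => exact h2

theorem Str.of_isEmpty {Q : Sieve X} [IsEmpty X] : Str Q := by
  refine ⟨PEmpty, inferInstance, fun i => i.elim, fun i => i.elim, fun i => i.elim,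
    fun i => i.elim, fun i => i.elim, ?_, fun i => i.elim⟩
  apply Set.eq_univ_of_forall
  intro x
  exact isEmptyElim x

theorem pullback_restrict_eq {Q : Sieve X} {C : Scheme.{u}} (c : C ⟶ X) (O : X.Opens) :
    (Q.pullback O.ι).pullback (c ∣_ O) = (Q.pullback c).pullback (c ⁻¹ᵁ O).ι := by
  rw [← Sieve.pullback_comp, ← Sieve.pullback_comp, morphismRestrict_ι]

theorem Str.of_openCover : ∀ (r : ℕ) {X : Scheme.{u}} (Q : Sieve X) (O : Fin r → X.Opens),
    (∀ l, IsRetrocompact (O l : Set X)) → (⋃ l, (O l : Set X)) = Set.univ →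
    (∀ l, Str (Q.pullback (O l).ι)) → Str Q := by
  intro r
  induction r with
  | zero =>
    intro X Q O _ hcov _
    haveI : IsEmpty X := by
      constructor
      intro x
      have hx : x ∈ ⋃ l, (O l : Set X) := by rw [hcov]; trivial
      obtain ⟨l, -⟩ := Set.mem_iUnion.1 hx
      exact l.elim0
    exact Str.of_isEmpty
  | succ r ih =>
    intro X Q O hO hcov h
    obtain ⟨C, c, hc1, hc2⟩ := exists_closedImmersion ((O 0 : Set X)ᶜ) (O 0).isOpen.isClosed_compl
    refine Str.glue (O 0) (hO 0) c hc2 (h 0) ?_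
    refine ih (Q.pullback c) (fun l => c ⁻¹ᵁ (O l.succ)) (fun l => ?_) ?_ (fun l => ?_)
    · exact isRetrocompact_preimage c (O l.succ).isOpen (hO l.succ)
    · apply Set.eq_univ_of_forall
      intro y
      have hy : c y ∈ ⋃ l, (O l : Set X) := by rw [hcov]; trivial
      obtain ⟨l, hl⟩ := Set.mem_iUnion.1 hy
      have hy0 : c y ∉ (O 0 : Set X) := by
        have : c y ∈ Set.range c := ⟨y, rfl⟩
        rw [hc2] at this
        exact this
      obtain ⟨l', rfl⟩ : ∃ l', Fin.succ l' = l := by
        refine Fin.exists_succ_eq.2 ?_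
        rintro rfl
        exact hy0 hl
      exact Set.mem_iUnion.2 ⟨l', hl⟩
    · rw [← pullback_restrict_eq]
      exact (h l.succ).pull _

theorem Str.of_openCover' {κ : Type*} [Finite κ] (Q : Sieve X) (O : κ → X.Opens)
    (hO : ∀ l, IsRetrocompact (O l : Set X)) (hcov : (⋃ l, (O l : Set X)) = Set.univ)
    (h : ∀ l, Str (Q.pullback (O l).ι)) : Str Q := by
  obtain ⟨r, ⟨e⟩⟩ := Finite.exists_equiv_fin κ
  refine Str.of_openCover r Q (fun l => O (e.symm l)) (fun l => hO _) ?_ (fun l => h _)
  apply Set.eq_univ_of_forall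
  intro x
  have hx : x ∈ ⋃ l, (O l : Set X) := by rw [hcov]; trivial
  obtain ⟨l, hl⟩ := Set.mem_iUnion.1 hx
  exact Set.mem_iUnion.2 ⟨e l, by rwa [Equiv.symm_apply_apply]⟩

/-- locally on `X` there are strata -/
def LocStr (Q : Sieve X) : Prop := ∀ x : X, ∃ O : X.Opens, x ∈ O ∧ Str (Q.pullback O.ι)

theorem Str.locStr {Q : Sieve X} (h : Str Q) : LocStr Q := fun _ => ⟨⊤, trivial, h.pull _⟩

theorem Str.of_le {Q : Sieve X} {O W : X.Opens} (hWO : W ≤ O) (h : Str (Q.pullback O.ι)) :
    Str (Q.pullback W.ι) := by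
  have := h.pull (X.homOfLE hWO)
  rwa [← Sieve.pullback_comp, Scheme.homOfLE_ι] at this

theorem LocStr.str {Q : Sieve X} [CompactSpace X] [QuasiSeparatedSpace X] (h : LocStr Q) : Str Q := by
  choose O hxO hO using h
  have hW : ∀ x : X, ∃ W : X.Opens, IsAffineOpen W ∧ x ∈ W ∧ W ≤ O x := fun x => by
    obtain ⟨W, hW, hxW, hWO⟩ := exists_isAffineOpen_mem_and_subset (X := X) (x := x) (U := O x) (hxO x)
    exact ⟨W, hW, hxW, hWO⟩
  choose W hWa hxW hWO using hW
  obtain ⟨t, ht⟩ := isCompact_univ.elim_finite_subcover (fun x => (W x : Set X))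
    (fun x => (W x).isOpen) (fun x _ => Set.mem_iUnion.2 ⟨x, hxW x⟩)
  refine Str.of_openCover' (κ := t) Q (fun l => W l.1)
    (fun l => (hWa l.1).isCompact.isRetrocompact (W l.1).isOpen) ?_ (fun l => (hO l.1).of_le (hWO l.1))
  apply Set.eq_univ_of_forall
  intro x
  have := ht (Set.mem_univ x)
  simp only [Set.mem_iUnion] at this ⊢
  obtain ⟨l, hl, hx⟩ := this
  exact ⟨⟨l, hl⟩, hx⟩

theorem LocStr.pull {Q : Sieve X} {X' : Scheme.{u}} (f : X' ⟶ X) (h : LocStr Q) :
    LocStr (Q.pullback f) := by
  intro x'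
  obtain ⟨O, hxO, hO⟩ := h (f x')
  refine ⟨f ⁻¹ᵁ O, hxO, ?_⟩
  rw [← pullback_restrict_eq]
  exact hO.pull _

theorem LocStr.of_openCover {Q : Sieve X} {ι : Type*} (U : ι → X.Opens) (hU : ⨆ i, U i = ⊤)
    (h : ∀ i, LocStr (Q.pullback (U i).ι)) : LocStr Q := by
  intro x
  have hx : x ∈ ⨆ i, U i := by rw [hU]; trivial
  obtain ⟨i, hi⟩ := TopologicalSpace.Opens.mem_iSup.1 hx
  obtain ⟨O', hxO', hO'⟩ := h i ⟨x, hi⟩
  refine ⟨(U i).ι ''ᵁ O', ⟨⟨x, hi⟩, hxO', rfl⟩, ?_⟩
  have hr : Set.range ((U i).ι ''ᵁ O').ι = Set.range (O'.ι ≫ (U i).ι) := by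
    rw [Scheme.Opens.range_ι, Scheme.Hom.comp_base, TopCat.coe_comp, Set.range_comp,
      Scheme.Opens.range_ι]
    rfl
  let e := IsOpenImmersion.isoOfRangeEq ((U i).ι ''ᵁ O').ι (O'.ι ≫ (U i).ι) hr
  have he : e.hom ≫ O'.ι ≫ (U i).ι = ((U i).ι ''ᵁ O').ι := IsOpenImmersion.isoOfRangeEq_hom_fac _ _ hr
  have := hO'.pull e.hom
  rwa [← Sieve.pullback_comp, ← Sieve.pullback_comp, Category.assoc, he] at this

/-- every affine open has strata -/
def Constr (Q : Sieve X) : Prop := ∀ U : X.Opens, IsAffineOpen U → Str (Q.pullback U.ι)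

theorem constr_iff_locStr {Q : Sieve X} : Constr Q ↔ LocStr Q := by
  constructor
  · intro h x
    obtain ⟨U, hU, hxU, -⟩ := exists_isAffineOpen_mem_and_subset (X := X) (x := x) (U := ⊤) trivial
    exact ⟨U, hxU, h U hU⟩
  · intro h U hU
    haveI : IsAffine U.toScheme := hU
    exact (h.pull U.ι).str

theorem constr_iff_str {Q : Sieve X} [CompactSpace X] [QuasiSeparatedSpace X] : Constr Q ↔ Str Q :=
  constr_iff_locStr.trans ⟨fun h => h.str, fun h => h.locStr⟩

theorem Constr.pull {Q : Sieve X} {X' : Scheme.{u}} (f : X' ⟶ X) (h : Constr Q) :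
    Constr (Q.pullback f) :=
  constr_iff_locStr.2 ((constr_iff_locStr.1 h).pull f)

theorem Constr.of_openCover {Q : Sieve X} {ι : Type*} (U : ι → X.Opens) (hU : ⨆ i, U i = ⊤)
    (h : ∀ i, Constr (Q.pullback (U i).ι)) : Constr Q :=
  constr_iff_locStr.2 (LocStr.of_openCover U hU fun i => constr_iff_locStr.1 (h i))


end Groth.Agent.Lib.Helper23Strata
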