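import Mathlib
import Groth.Prelude.Def_PBC
import Groth.Prelude.Def_EtCore
import Groth.Agent.Lib.Helper23Strata
import Groth.Agent.Lib.Helper23LCPull

/-!
# Constructible abelian sheaves on small étale sites via abstract strata (helper23)

* `QF F : Sieve X`: morphisms `g : T ⟶ X` with `g^* F` finite locally constant; `QF_pull`.
* `adaptedStrata_univ_iff`, `adaptedStrata_opens_iff`, `isConstructible_iff`: translation of the Prelude's
  `EtPBC.AdaptedStrata` / `EtPBC.IsConstructible` into `Str` / `Constr` of `Helper23Strata`.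
* `isConstructible_pull`, `isConstructible_iff_adaptedStrata_univ`, `isConstructible_of_openCover`.
-/

set_option autoImplicit false
set_option backward.isDefEq.respectTransparency.types false
universe u
open CategoryTheory CategoryTheory.Limits AlgebraicGeometry Opposite Topology

namespace Groth.Agent.Lib.Helper23Constr

open Groth.Agent.Lib.Helper23Strata Groth.Agent.Lib.Helper23LCPull

variable {X : Scheme.{u}}

theorem isFiniteLocallyConstant_of_iso {F F' : EtCoh.Ab X} (e : F ≅ F')
    (h : EtCoh.IsFiniteLocallyConstant F) : EtCoh.IsFiniteLocallyConstant F' := by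
  obtain ⟨ι, U, hU, h⟩ := h
  refine ⟨ι, U, hU, fun i => ?_⟩
  obtain ⟨M, i1, i2, ⟨e'⟩⟩ := h i
  exact ⟨M, i1, i2, ⟨((X.smallEtaleTopology.overPullback AddCommGrpCat.{u + 1} (U i)).mapIso e).symm ≪≫ e'⟩⟩

/-- the sieve of morphisms along which `F` becomes finite locally constant -/
def QF (F : EtCoh.Ab X) : Sieve X where
  arrows T g := EtCoh.IsFiniteLocallyConstant ((EtCoh.pull g).obj F)
  downward_closed {T T'} g hg h := by
    exact isFiniteLocallyConstant_of_iso ((EtCore.pullComp h g).app F).symm
      (isFiniteLocallyConstant_pull h _ hg)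

theorem QF_pull {X' : Scheme.{u}} (f : X' ⟶ X) (F : EtCoh.Ab X) :
    (QF F).pullback f = QF ((EtCoh.pull f).obj F) := by
  ext T g
  constructor
  · intro h
    exact isFiniteLocallyConstant_of_iso ((EtCore.pullComp g f).app F) h
  · intro h
    exact isFiniteLocallyConstant_of_iso ((EtCore.pullComp g f).app F).symm h

theorem adaptedStrata_univ_iff (F : EtCoh.Ab X) :
    EtPBC.AdaptedStrata F (Set.univ : Set X) ↔ Str (QF F) := by
  constructor
  · rintro ⟨n, T, g, h1, h2, h3, h4, h5⟩
    refine ⟨Fin n, inferInstance, T, g, h1, fun i => ?_, h3, h4, fun i => h5 i⟩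
    have := (h2 i).preimage_of_isOpenEmbedding (Homeomorph.Set.univ X).symm.isOpenEmbedding
    exact this
  · rintro ⟨ι, hι, T, g, h1, h2, h3, h4, h5⟩
    obtain ⟨n, ⟨e⟩⟩ := Finite.exists_equiv_fin ι
    refine ⟨n, fun k => T (e.symm k), fun k => g (e.symm k), fun k => h1 _, fun k => ?_, ?_, ?_,
      fun k _ => h5 _⟩
    · exact (h2 (e.symm k)).preimage_of_isOpenEmbedding (Homeomorph.Set.univ X).isOpenEmbedding
    · intro k l hkl
      exact h3 (fun h => hkl (e.symm.injective h))
    · rw [← h4]
      ext x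
      simp only [Set.mem_iUnion]
      constructor
      · rintro ⟨k, hk⟩
        exact ⟨_, hk⟩
      · rintro ⟨i, hi⟩
        obtain ⟨k, rfl⟩ := e.symm.surjective i
        exact ⟨k, hi⟩

theorem adaptedStrata_opens_iff (F : EtCoh.Ab X) (U : X.Opens) :
    EtPBC.AdaptedStrata F (U : Set X) ↔ Str ((QF F).pullback U.ι) := by
  constructor
  · rintro ⟨n, T, g, h1, h2, h3, h4, h5⟩
    have hsub : ∀ i, Set.range (g i) ⊆ Set.range U.ι := fun i => by
      rw [Scheme.Opens.range_ι, ← h4]
      exact Set.subset_iUnion (fun i => Set.range (g i)) i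
    let g' : ∀ i, T i ⟶ U.toScheme := fun i => IsOpenImmersion.lift U.ι (g i) (hsub i)
    have hg' : ∀ i, g' i ≫ U.ι = g i := fun i => IsOpenImmersion.lift_fac _ _ _
    have hr : ∀ i, Set.range (g' i) = U.ι ⁻¹' Set.range (g i) := fun i => by
      rw [← hg' i, Scheme.Hom.comp_base, TopCat.coe_comp, Set.range_comp,
        Set.preimage_image_eq _ U.ι.isEmbedding.injective]
    refine ⟨Fin n, inferInstance, T, g', fun i => ?_, fun i => ?_, ?_, ?_, fun i => ?_⟩
    · haveI : IsImmersion (g' i ≫ U.ι) := by rw [hg']; exact h1 i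
      exact IsImmersion.of_comp (g' i) U.ι
    · rw [hr]
      exact h2 i
    · intro i j hij
      rw [hr, hr]
      exact (h3 hij).preimage _
    · simp_rw [hr]
      rw [← Set.preimage_iUnion, h4]
      ext x
      simp only [Set.mem_preimage, Set.mem_univ, iff_true]
      exact x.2
    · change QF F (g' i ≫ U.ι)
      rw [hg']
      exact h5 i
  · rintro ⟨ι, hι, T, g, h1, h2, h3, h4, h5⟩
    obtain ⟨n, ⟨e⟩⟩ := Finite.exists_equiv_fin ι
    have hr : ∀ i, U.ι ⁻¹' Set.range (g i ≫ U.ι) = Set.range (g i) := fun i => by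
      rw [Scheme.Hom.comp_base, TopCat.coe_comp, Set.range_comp,
        Set.preimage_image_eq _ U.ι.isEmbedding.injective]
    refine ⟨n, fun k => T (e.symm k), fun k => g (e.symm k) ≫ U.ι, fun k => ?_, fun k => ?_, ?_, ?_,
      fun k _ => h5 _⟩
    · haveI := h1 (e.symm k)
      infer_instance
    · change IsConstructible (U.ι ⁻¹' Set.range (g (e.symm k) ≫ U.ι))
      rw [hr]
      exact h2 _
    · intro k l hkl
      have hne : e.symm k ≠ e.symm l := fun h => hkl (e.symm.injective h)
      rw [Scheme.Hom.comp_base, TopCat.coe_comp, Set.range_comp, Scheme.Hom.comp_base, TopCat.coe_comp,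
        Set.range_comp]
      exact (Set.disjoint_image_iff U.ι.isEmbedding.injective).2 (h3 hne)
    · ext x
      simp only [Set.mem_iUnion]
      constructor
      · rintro ⟨k, y, rfl⟩
        exact (g (e.symm k) y).2
      · intro hx
        have hx' : (⟨x, hx⟩ : U.toScheme) ∈ ⋃ i, Set.range (g i) := by rw [h4]; trivial
        obtain ⟨i, y, hy⟩ := Set.mem_iUnion.1 hx'
        obtain ⟨k, rfl⟩ := e.symm.surjective i
        refine ⟨k, y, ?_⟩
        rw [Scheme.Hom.comp_apply, hy]
        rfl

theorem isConstructible_iff (F : EtCoh.Ab X) : EtPBC.IsConstructible F ↔ Constr (QF F) :=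
  forall_congr' fun U => forall_congr' fun _ => adaptedStrata_opens_iff F U

theorem isConstructible_pull {X Y : Scheme.{u}} (f : X ⟶ Y) (F : EtCoh.Ab Y)
    (hF : EtPBC.IsConstructible F) : EtPBC.IsConstructible ((EtCoh.pull f).obj F) := by
  rw [isConstructible_iff] at hF ⊢
  rw [← QF_pull]
  exact hF.pull f

theorem isConstructible_iff_adaptedStrata_univ (X : Scheme.{u}) [CompactSpace X] [QuasiSeparatedSpace X]
    (F : EtCoh.Ab X) : EtPBC.IsConstructible F ↔ EtPBC.AdaptedStrata F (Set.univ : Set X) := by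
  rw [isConstructible_iff, adaptedStrata_univ_iff]
  exact constr_iff_str

theorem isConstructible_of_openCover {X : Scheme.{u}} (F : EtCoh.Ab X) {ι : Type*} (U : ι → X.Opens)
    (hU : ⨆ i, U i = ⊤) (h : ∀ i, EtPBC.IsConstructible ((EtCoh.pull (U i).ι).obj F)) :
    EtPBC.IsConstructible F := by
  rw [isConstructible_iff]
  refine Constr.of_openCover U hU (fun i => ?_)
  rw [QF_pull, ← isConstructible_iff]
  exact h i

end Groth.Agent.Lib.Helper23Constr
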