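import Mathlib
import Groth.Prelude.Def_PBC
import Groth.Agent.Lib.Helper23LCPull

/-!
# Generators of constructible sheaves: maps out of `j_! ℤ/n` (helper23)

* `nsmul_app`, `killedBy_iff`: `EtCoh.KilledBy n F ↔ n • 𝟙 F = 0`;
* `adjC U`: the adjunction `M ↦ j_{U!} M ⊣ F ↦ F(U)`; `secMap`, `tSec`, `secMap_tSec`.
-/

set_option autoImplicit false
set_option backward.isDefEq.respectTransparency.types false
universe u
open CategoryTheory CategoryTheory.Limits AlgebraicGeometry Opposite

namespace Groth.Agent.Lib.Helper23ConstrGen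

variable {X : Scheme.{u}}

theorem nsmul_app {F G : EtCoh.Ab X} (φ : F ⟶ G) (n : ℕ) (V : X.Etaleᵒᵖ) (s : F.obj.obj V) :
    ((n • φ).hom.app V).hom s = n • (φ.hom.app V).hom s := by
  induction n with
  | zero => simp
  | succ n ih =>
    rw [succ_nsmul, succ_nsmul, Sheaf.Hom.add_app]
    change ((n • φ).hom.app V).hom s + (φ.hom.app V).hom s = _
    rw [ih]

theorem killedBy_iff (n : ℕ) (F : EtCoh.Ab X) : EtCoh.KilledBy n F ↔ n • 𝟙 F = 0 := by
  constructor
  · intro h
    apply Sheaf.hom_ext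
    ext V s
    have := nsmul_app (𝟙 F) n V s
    rw [this]
    exact h V.unop s
  · intro h U s
    have := nsmul_app (𝟙 F) n (op U) s
    rw [h] at this
    exact this.symm

section SecMap

variable (U : X.Etale)

/-- the adjunction `M ↦ j_{U!} M_U ⊣ F ↦ F(U)` -/
noncomputable def adjC :
    constantSheaf (X.smallEtaleTopology.over U) AddCommGrpCat.{u + 1} ⋙ EtPBC.extZero U ⊣
      X.smallEtaleTopology.overPullback AddCommGrpCat.{u + 1} U ⋙
        (sheafSections (X.smallEtaleTopology.over U) AddCommGrpCat.{u + 1}).obj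
          (op (Over.mk (𝟙 U))) :=
  (constantSheafAdj (X.smallEtaleTopology.over U) AddCommGrpCat.{u + 1} Over.mkIdTerminal).comp
    (EtPBC.extZeroAdj U)

variable (n : ℕ)

/-- auxiliary: the homomorphism `ℤ → F(U)`, `1 ↦ s` -/
noncomputable def liftArg {F : EtCoh.Ab X} (s : F.obj.obj (op U)) (hs : n • s = 0) :
    {f : ℤ →+ F.obj.obj (op U) // f n = 0} :=
  ⟨zmultiplesHom _ s, by
    change ((n : ℤ) • s) = 0
    rw [natCast_zsmul, hs]⟩

/-- the group homomorphism `ℤ/n → F(U)` attached to a section killed by `n` -/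
noncomputable def zmodHom {F : EtCoh.Ab X} (s : F.obj.obj (op U)) (hs : n • s = 0) :
    AddCommGrpCat.of (ULift.{u + 1} (ZMod n)) ⟶ F.obj.obj (op U) :=
  AddCommGrpCat.ofHom ((ZMod.lift n (liftArg U n s hs)).comp AddEquiv.ulift.toAddMonoidHom)

theorem zmodHom_one {F : EtCoh.Ab X} (s : F.obj.obj (op U)) (hs : n • s = 0) :
    (zmodHom U n s hs).hom ⟨1⟩ = s := by
  change ZMod.lift n (liftArg U n s hs) (1 : ZMod n) = s
  have := ZMod.lift_coe n (liftArg U n s hs) 1
  rw [Int.cast_one] at this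
  rw [this]
  change zmultiplesHom _ s 1 = s
  simp

/-- the morphism `j_{U!} ℤ/n ⟶ F` attached to a section of `F` over `U` killed by `n` -/
noncomputable def secMap {F : EtCoh.Ab X} (s : F.obj.obj (op U)) (hs : n • s = 0) :
    EtPBC.extZeroConst U (ZMod n) ⟶ F :=
  ((adjC U).homEquiv _ F).symm (zmodHom U n s hs)

/-- the tautological section of `j_{U!} ℤ/n` over `U` -/
noncomputable def tSec : (EtPBC.extZeroConst U (ZMod n)).obj.obj (op U) :=
  ((adjC U).unit.app (AddCommGrpCat.of (ULift.{u + 1} (ZMod n)))).hom ⟨1⟩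

theorem secMap_tSec {F : EtCoh.Ab X} (s : F.obj.obj (op U)) (hs : n • s = 0) :
    ((secMap U n s hs).hom.app (op U)).hom (tSec U n) = s := by
  have h := (adjC U).homEquiv_unit (f := secMap U n s hs)
  rw [secMap, Equiv.apply_symm_apply] at h
  have h2 := congrArg (fun m => m.hom (⟨1⟩ : ULift.{u + 1} (ZMod n))) h
  have h3 := zmodHom_one U n s hs
  exact (h2.symm.trans h3)

end SecMap

end Groth.Agent.Lib.Helper23ConstrGen
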