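import Mathlib
import Groth.Agent.Lib.Helper23LCPull
import Groth.Agent.Lib.Helper23Constr
import Groth.Agent.Lib.Helper23ConstLC
import Groth.Agent.S0101

/-!
# Finite locally constant abelian sheaves: kernels and cokernels (helper23)

* `exists_small_model`, `isFlc_iff_pull`, `isFlc_of_cover` (flc is étale-local), `isFlc_const`.
* `lcMap`, `exists_open_lcMap`: a map `lc V M ⟶ lc V N` (`M` finite) is Zariski-locally induced by a homomorphism;
  `constMap`, `constMap_constToLC`, `eC`, `exists_open_constMap`.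
* `isFlc_kernel`, `isFlc_cokernel`.
-/

set_option autoImplicit false
set_option backward.isDefEq.respectTransparency.types false
universe u
open CategoryTheory CategoryTheory.Limits AlgebraicGeometry Opposite

namespace Groth.Agent.Lib.Helper23FlcSerre

section A


open Groth.Agent.Lib.Helper23LCPull Groth.Agent.Lib.Helper23Constr

variable {X : Scheme.{u}}

theorem exists_small_model (A : AddCommGrpCat.{u + 1}) [Finite A] :
    ∃ (M : Type) (_ : AddCommGroup M) (_ : Finite M),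
      Nonempty (A ≅ AddCommGrpCat.of (ULift.{u + 1} M)) := by
  haveI : Small.{0} A := inferInstance
  refine ⟨Shrink.{0} A, inferInstance, Finite.of_equiv A (equivShrink A), ⟨?_⟩⟩
  exact ((Shrink.addEquiv (α := A)).symm.trans AddEquiv.ulift.symm).toAddCommGrpIso

theorem isFlc_iff_pull (F : EtCoh.Ab X) :
    EtCoh.IsFiniteLocallyConstant F ↔ ∃ (ι : Type u) (U : ι → X.Etale), EtCoh.Covers U ∧ ∀ i,
      ∃ (M : Type) (_ : AddCommGroup M) (_ : Finite M),
        Nonempty ((EtCoh.pull (U i).hom).obj F ≅ EtCoh.const (U i).left M) := by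
  rw [isFiniteLocallyConstant_iff, isLC_iff]
  constructor
  · rintro ⟨ι, U, hU, h⟩
    refine ⟨ι, U, hU, fun i => ?_⟩
    obtain ⟨N, ⟨M, i1, i2, rfl⟩, e⟩ := h i
    exact ⟨M, i1, i2, e⟩
  · rintro ⟨ι, U, hU, h⟩
    refine ⟨ι, U, hU, fun i => ?_⟩
    obtain ⟨M, i1, i2, e⟩ := h i
    exact ⟨_, ⟨M, i1, i2, rfl⟩, e⟩

theorem isFlc_of_cover (F : EtCoh.Ab X) {ι : Type u} (U : ι → X.Etale) (hU : EtCoh.Covers U)
    (h : ∀ i, EtCoh.IsFiniteLocallyConstant ((EtCoh.pull (U i).hom).obj F)) :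
    EtCoh.IsFiniteLocallyConstant F := by
  simp_rw [isFlc_iff_pull] at h
  rw [isFlc_iff_pull]
  choose κ V hV h using h
  refine ⟨Σ i, κ i, fun p => (EtShriek.compEtale (U p.1).hom).obj (V p.1 p.2), ?_, fun p => ?_⟩
  · intro x
    obtain ⟨i, y, hy⟩ := hU x
    obtain ⟨k, z, hz⟩ := hV i y
    refine ⟨⟨i, k⟩, z, ?_⟩
    change ((V i k).hom ≫ (U i).hom) z = x
    rw [Scheme.Hom.comp_apply]
    change (U i).hom ((V i k).hom z) = x
    rw [show (V i k).hom z = y from hz]
    exact hy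
  · obtain ⟨M, i1, i2, ⟨e⟩⟩ := h p.1 p.2
    refine ⟨M, i1, i2, ⟨?_⟩⟩
    exact (EtCore.pullComp (V p.1 p.2).hom (U p.1).hom).app F ≪≫ e

theorem isFlc_const (X : Scheme.{u}) (M : Type) [AddCommGroup M] [Finite M] :
    EtCoh.IsFiniteLocallyConstant (EtCoh.const X M) := by
  rw [isFlc_iff_pull]
  refine ⟨PUnit, fun _ => EtCoh.top X, fun x => ⟨⟨⟩, x, rfl⟩, fun _ => ?_⟩
  exact ⟨M, inferInstance, inferInstance, ⟨EtCore.pullConst _ M⟩⟩


end A

section B


open Groth.Agent.Lib.Helper23LCPull Groth.Agent.Lib.Helper23.ConstLC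
open Groth.Agent.Lib.Helper21.TorsA Groth.Agent.Lib.Helper21.ConstHom

variable {V : Scheme.{u}} {M N : Type} [AddCommGroup M] [AddCommGroup N]

/-- a homomorphism of discrete groups as a continuous map -/
def hc (h : M →+ N) : C(Disc M, Disc N) := ⟨h, continuous_of_discreteTopology⟩

/-- post-composition with a homomorphism on locally constant functions -/
noncomputable def lcMap (V : Scheme.{u}) (h : M →+ N) : lc V M ⟶ lc V N where
  hom :=
    { app := fun W => AddCommGrpCat.ofHom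
        { toFun := fun t => ofFn ((hc h).comp (fn t))
          map_zero' := by
            apply fn_injective
            ext w
            exact h.map_zero
          map_add' := fun t t' => by
            apply fn_injective
            ext w
            exact h.map_add _ _ }
      naturality := fun W W' f => by
        ext t
        rfl }

lemma fn_lcMap (h : M →+ N) {W : V.Etale} (t : (lc V M).obj.obj (op W)) (w : W.left) :
    fn (((lcMap V h).hom.app (op W)).hom t) w = h (fn t w) := rfl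

lemma restrA_lc {T : Scheme.{u}} (j : T ⟶ V) [Etale j] :
    (restrA AddCommGrpCat.{u + 1} j).obj (lc V M) = lc T M := rfl

/-- the map to the terminal object of the small étale site -/
noncomputable abbrev toTop (W : V.Etale) : W ⟶ EtCoh.top V := (EtCore.topIsTerminal V).from W

lemma toTop_left (W : V.Etale) : (toTop W).left = W.hom := by
  have := MorphismProperty.Over.w (toTop W)
  exact (Category.comp_id _).symm.trans this

theorem exists_open_lcMap [Finite M] (ψ : lc V M ⟶ lc V N) (v : V) :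
    ∃ (V' : V.Opens) (h : M →+ N), v ∈ V' ∧
      ((restrA AddCommGrpCat.{u + 1} V'.ι).map ψ : lc (V' : Scheme.{u}) M ⟶ lc (V' : Scheme.{u}) N) =
        lcMap (V' : Scheme.{u}) h := by
  let f : M → C(V, Disc N) := fun m =>
    fn (((ψ.hom.app (op (EtCoh.top V))).hom (tHom (EtCoh.top V) ⟨m⟩)))
  let V' : V.Opens := ⟨⋂ m, (f m) ⁻¹' {f m v}, isOpen_iInter_of_finite fun m =>
    (isOpen_discrete _).preimage (f m).continuous⟩
  have hf_add : ∀ m m', f (m + m') = f m + f m' := fun m m' => by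
    have e : (⟨m + m'⟩ : ULift.{u + 1} M) = ⟨m⟩ + ⟨m'⟩ := rfl
    simp only [f]
    rw [e, map_add, map_add]
    rfl
  have hf_zero : f 0 = 0 := by
    have e : (⟨(0 : M)⟩ : ULift.{u + 1} M) = 0 := rfl
    simp only [f]
    rw [e, map_zero, map_zero]
    rfl
  let h : M →+ N :=
    { toFun := fun m => f m v
      map_zero' := by rw [hf_zero]; rfl
      map_add' := fun m m' => by rw [hf_add]; rfl }
  refine ⟨V', h, Set.mem_iInter.2 fun m => rfl, ?_⟩
  apply Sheaf.hom_ext
  ext ⟨W⟩ t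
  apply fn_injective
  ext w
  change fn (((ψ.hom.app (op ((EtShriek.compEtale V'.ι).obj W))).hom t)) w = h (fn t w)
  set m : M := fn t w with hm
  let W' : W.left.Opens := ⟨(fn t) ⁻¹' {m}, (isOpen_discrete _).preimage (fn t).continuous⟩
  let Y : (V' : Scheme.{u}).Etale := subObj W W'
  let ι' : (EtShriek.compEtale V'.ι).obj Y ⟶ (EtShriek.compEtale V'.ι).obj W :=
    (EtShriek.compEtale V'.ι).map (subObjι W W')
  let w' : Y.left := ⟨w, rfl⟩
  have h1 : fn (((ψ.hom.app (op ((EtShriek.compEtale V'.ι).obj W))).hom t)) w =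
      fn (res _ (lc V N) ι' (((ψ.hom.app (op ((EtShriek.compEtale V'.ι).obj W))).hom t))) w' := by
    rw [fn_res]
    rfl
  rw [h1, res_map]
  have h2 : res _ (lc V M) ι' t = tHom ((EtShriek.compEtale V'.ι).obj Y) ⟨m⟩ := by
    apply fn_injective
    ext y
    rw [fn_res]
    exact y.2
  have h3 : tHom (X := V) (M := M) ((EtShriek.compEtale V'.ι).obj Y) ⟨m⟩ =
      res _ (lc V M) (toTop ((EtShriek.compEtale V'.ι).obj Y)) (tHom (EtCoh.top V) ⟨m⟩) :=
    (res_tHom _ _).symm
  rw [h2, h3, ← res_map, fn_res]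
  change f m ((toTop ((EtShriek.compEtale V'.ι).obj Y)).left w') = f m v
  rw [toTop_left]
  have h4 : ((EtShriek.compEtale V'.ι).obj Y).hom w' ∈ (V' : Set V) := by
    change (Y.hom ≫ V'.ι) w' ∈ (V' : Set V)
    rw [Scheme.Hom.comp_apply]
    exact (Y.hom w').2
  exact Set.mem_iInter.1 h4 m

/-- the lifted homomorphism -/
def uh (h : M →+ N) : ULift.{u + 1} M →+ ULift.{u + 1} N :=
  (AddEquiv.ulift.symm.toAddMonoidHom.comp h).comp AddEquiv.ulift.toAddMonoidHom

/-- the map of constant sheaves induced by a homomorphism -/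
noncomputable def constMap (V : Scheme.{u}) (h : M →+ N) : EtCoh.const V M ⟶ EtCoh.const V N :=
  (constantSheaf V.smallEtaleTopology AddCommGrpCat.{u + 1}).map (AddCommGrpCat.ofHom (uh h))

lemma constMap_cst (h : M →+ N) (W : V.Etale) (m : ULift.{u + 1} M) :
    ((constMap V h).hom.app (op W)).hom (cst V.smallEtaleTopology (ULift.{u + 1} M) W m) =
      cst V.smallEtaleTopology (ULift.{u + 1} N) W (uh h m) := by
  have := toSheafify_naturality V.smallEtaleTopology
    ((Functor.const V.Etaleᵒᵖ).map (AddCommGrpCat.ofHom (uh.{u} h)))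
  have h1 := congrArg (fun η => η.app (op W)) this
  have h2 := ConcreteCategory.congr_hom h1 m
  exact h2.symm

theorem constMap_constToLC (h : M →+ N) :
    constMap V h ≫ constToLC V N = constToLC V M ≫ lcMap V h := by
  apply hom_ext_cst
  intro W m
  change ((constToLC V N).hom.app (op W)).hom (((constMap V h).hom.app (op W)).hom _) =
    ((lcMap V h).hom.app (op W)).hom (((constToLC V M).hom.app (op W)).hom _)
  rw [constMap_cst, constToLC_cst, constToLC_cst]
  rfl

/-- comparison of the pullback of a constant sheaf to an open with the constant sheaf, through `lc` -/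
noncomputable def eC (V' : V.Opens) (M : Type) [AddCommGroup M] :
    (EtCoh.pull V'.ι).obj (EtCoh.const V M) ≅ EtCoh.const (V' : Scheme.{u}) M :=
  (rhoA AddCommGrpCat.{u + 1} V'.ι).app _ ≪≫
    ((restrA AddCommGrpCat.{u + 1} V'.ι).mapIso (asIso (constToLC V M)) ≪≫
      (asIso (constToLC (V' : Scheme.{u}) M)).symm :)

theorem exists_open_constMap [Finite M] (ψ : EtCoh.const V M ⟶ EtCoh.const V N) (v : V) :
    ∃ (V' : V.Opens) (h : M →+ N), v ∈ V' ∧
      (EtCoh.pull V'.ι).map ψ ≫ (eC V' N).hom = (eC V' M).hom ≫ constMap (V' : Scheme.{u}) h := by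
  let ψ' : lc V M ⟶ lc V N := inv (constToLC V M) ≫ ψ ≫ constToLC V N
  obtain ⟨V', h, hv, hψ⟩ := exists_open_lcMap ψ' v
  refine ⟨V', h, hv, ?_⟩
  have e1 : (EtCoh.pull V'.ι).map ψ ≫ (rhoA AddCommGrpCat.{u + 1} V'.ι).hom.app (EtCoh.const V N) =
      (rhoA AddCommGrpCat.{u + 1} V'.ι).hom.app (EtCoh.const V M) ≫
        (restrA AddCommGrpCat.{u + 1} V'.ι).map ψ :=
    (rhoA AddCommGrpCat.{u + 1} V'.ι).hom.naturality ψ
  have e2 : (restrA AddCommGrpCat.{u + 1} V'.ι).map ψ ≫
      (restrA AddCommGrpCat.{u + 1} V'.ι).map (constToLC V N) =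
      (restrA AddCommGrpCat.{u + 1} V'.ι).map (constToLC V M) ≫
        (restrA AddCommGrpCat.{u + 1} V'.ι).map ψ' := by
    rw [← Functor.map_comp, ← Functor.map_comp]
    congr 1
    simp [ψ']
  have e3 : lcMap (V' : Scheme.{u}) h ≫ inv (constToLC (V' : Scheme.{u}) N) =
      inv (constToLC (V' : Scheme.{u}) M) ≫ constMap (V' : Scheme.{u}) h := by
    rw [IsIso.comp_inv_eq, Category.assoc, constMap_constToLC, IsIso.inv_hom_id_assoc]
  simp only [eC, Iso.trans_hom, Iso.app_hom, Functor.mapIso_hom, asIso_hom, Iso.symm_hom, asIso_inv,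
    Category.assoc]
  rw [reassoc_of% e1, reassoc_of% e2]
  congr 2
  rw [hψ]
  exact e3


end B

section C


open Groth.Agent.Lib.Helper23LCPull Groth.Agent.Lib.Helper23Constr

variable {V : Scheme.{u}} {M N : Type} [AddCommGroup M] [AddCommGroup N]

noncomputable instance (V : Scheme.{u}) :
    PreservesFiniteLimits (constantSheaf V.smallEtaleTopology AddCommGrpCat.{u + 1}) := by
  unfold constantSheaf
  exact comp_preservesFiniteLimits _ _

noncomputable instance (V : Scheme.{u}) :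
    PreservesFiniteColimits (constantSheaf V.smallEtaleTopology AddCommGrpCat.{u + 1}) :=
  have : PreservesColimitsOfSize.{0, 0} (constantSheaf V.smallEtaleTopology AddCommGrpCat.{u + 1}) :=
    (EtCore.constAdj V).leftAdjoint_preservesColimits
  PreservesColimitsOfSize.preservesFiniteColimits _

instance (V : Scheme.{u}) :
    (constantSheaf V.smallEtaleTopology AddCommGrpCat.{u + 1}).PreservesZeroMorphisms :=
  haveI := (EtCore.constAdj V).isLeftAdjoint
  Functor.preservesZeroMorphisms_of_isLeftAdjoint _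

theorem exists_iso_const_kernel [Finite M] (h : M →+ N) :
    ∃ (K₀ : Type) (_ : AddCommGroup K₀) (_ : Finite K₀),
      Nonempty (kernel (constMap V h) ≅ EtCoh.const V K₀) := by
  let f := AddCommGrpCat.ofHom (uh.{u} h)
  haveI : Finite (kernel f : AddCommGrpCat.{u + 1}) :=
    Finite.of_equiv _ (AddCommGrpCat.kernelIsoKer f).addCommGroupIsoToAddEquiv.symm.toEquiv
  obtain ⟨K₀, i1, i2, ⟨e⟩⟩ := exists_small_model (kernel f)
  refine ⟨K₀, i1, i2, ⟨?_⟩⟩
  exact (PreservesKernel.iso (constantSheaf V.smallEtaleTopology AddCommGrpCat.{u + 1}) f).symm ≪≫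
    (constantSheaf V.smallEtaleTopology AddCommGrpCat.{u + 1}).mapIso e

theorem exists_iso_const_cokernel [Finite N] (h : M →+ N) :
    ∃ (K₀ : Type) (_ : AddCommGroup K₀) (_ : Finite K₀),
      Nonempty (cokernel (constMap V h) ≅ EtCoh.const V K₀) := by
  let f := AddCommGrpCat.ofHom (uh.{u} h)
  haveI : Finite (cokernel f : AddCommGrpCat.{u + 1}) :=
    Finite.of_equiv _ (AddCommGrpCat.cokernelIsoQuotient f).addCommGroupIsoToAddEquiv.symm.toEquiv
  obtain ⟨K₀, i1, i2, ⟨e⟩⟩ := exists_small_model (cokernel f)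
  refine ⟨K₀, i1, i2, ⟨?_⟩⟩
  exact (PreservesCokernel.iso (constantSheaf V.smallEtaleTopology AddCommGrpCat.{u + 1}) f).symm ≪≫
    (constantSheaf V.smallEtaleTopology AddCommGrpCat.{u + 1}).mapIso e

open Groth.Agent.Lib.Helper21.EtOpen (opObj)

instance pull_pfl {X Y : Scheme.{u}} (f : X ⟶ Y) : PreservesFiniteLimits (EtCoh.pull f) :=
  Groth.Agent.S0101.result f

theorem isFlc_kernel_const [Finite M] (ψ : EtCoh.const V M ⟶ EtCoh.const V N) :
    EtCoh.IsFiniteLocallyConstant (kernel ψ) := by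
  choose V' h hv hψ using fun v => exists_open_constMap ψ v
  refine isFlc_of_cover (kernel ψ) (fun v : V => opObj (V' v)) (fun v => ⟨v, ⟨v, hv v⟩, rfl⟩)
    (fun v => ?_)
  obtain ⟨K₀, i1, i2, ⟨e⟩⟩ := exists_iso_const_kernel (V := ↑(V' v)) (h v)
  have e1 : (EtCoh.pull (V' v).ι).obj (kernel ψ) ≅ kernel ((EtCoh.pull (V' v).ι).map ψ) :=
    PreservesKernel.iso _ _
  have e2 : kernel ((EtCoh.pull (V' v).ι).map ψ) ≅ kernel (constMap _ (h v)) :=
    kernel.mapIso _ _ (eC _ M) (eC _ N) (hψ v)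
  exact isFiniteLocallyConstant_of_iso (e1 ≪≫ e2 ≪≫ e).symm (isFlc_const _ K₀)

theorem isFlc_cokernel_const [Finite M] [Finite N] (ψ : EtCoh.const V M ⟶ EtCoh.const V N) :
    EtCoh.IsFiniteLocallyConstant (cokernel ψ) := by
  choose V' h hv hψ using fun v => exists_open_constMap ψ v
  refine isFlc_of_cover (cokernel ψ) (fun v : V => opObj (V' v)) (fun v => ⟨v, ⟨v, hv v⟩, rfl⟩)
    (fun v => ?_)
  obtain ⟨K₀, i1, i2, ⟨e⟩⟩ := exists_iso_const_cokernel (V := ↑(V' v)) (h v)
  have e1 : (EtCoh.pull (V' v).ι).obj (cokernel ψ) ≅ cokernel ((EtCoh.pull (V' v).ι).map ψ) :=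
    PreservesCokernel.iso _ _
  have e2 : cokernel ((EtCoh.pull (V' v).ι).map ψ) ≅ cokernel (constMap _ (h v)) :=
    cokernel.mapIso _ _ (eC _ M) (eC _ N) (hψ v)
  exact isFiniteLocallyConstant_of_iso (e1 ≪≫ e2 ≪≫ e).symm (isFlc_const _ K₀)

variable {X : Scheme.{u}}

theorem isFlc_kernel_of_iso_const {F G : EtCoh.Ab X} (φ : F ⟶ G) [Finite M]
    (eF : F ≅ EtCoh.const X M) (eG : G ≅ EtCoh.const X N) :
    EtCoh.IsFiniteLocallyConstant (kernel φ) := by
  have e : kernel φ ≅ kernel (eF.inv ≫ φ ≫ eG.hom) :=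
    kernel.mapIso _ _ eF eG (by simp)
  exact isFiniteLocallyConstant_of_iso e.symm (isFlc_kernel_const _)

theorem isFlc_cokernel_of_iso_const {F G : EtCoh.Ab X} (φ : F ⟶ G) [Finite M] [Finite N]
    (eF : F ≅ EtCoh.const X M) (eG : G ≅ EtCoh.const X N) :
    EtCoh.IsFiniteLocallyConstant (cokernel φ) := by
  have e : cokernel φ ≅ cokernel (eF.inv ≫ φ ≫ eG.hom) :=
    cokernel.mapIso _ _ eF eG (by simp)
  exact isFiniteLocallyConstant_of_iso e.symm (isFlc_cokernel_const _)

theorem isFlc_kernel_of_iso_const_left {F G : EtCoh.Ab X} (φ : F ⟶ G) [Finite M]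
    (eF : F ≅ EtCoh.const X M) (hG : EtCoh.IsFiniteLocallyConstant G) :
    EtCoh.IsFiniteLocallyConstant (kernel φ) := by
  obtain ⟨ι, U, hU, h⟩ := (isFlc_iff_pull G).1 hG
  refine isFlc_of_cover (kernel φ) U hU (fun i => ?_)
  obtain ⟨N, i1, i2, ⟨eG⟩⟩ := h i
  have e1 : (EtCoh.pull (U i).hom).obj (kernel φ) ≅ kernel ((EtCoh.pull (U i).hom).map φ) :=
    PreservesKernel.iso _ _
  exact isFiniteLocallyConstant_of_iso e1.symm (isFlc_kernel_of_iso_const _
    ((EtCoh.pull (U i).hom).mapIso eF ≪≫ EtCore.pullConst _ M) eG)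

theorem isFlc_cokernel_of_iso_const_left {F G : EtCoh.Ab X} (φ : F ⟶ G) [Finite M]
    (eF : F ≅ EtCoh.const X M) (hG : EtCoh.IsFiniteLocallyConstant G) :
    EtCoh.IsFiniteLocallyConstant (cokernel φ) := by
  obtain ⟨ι, U, hU, h⟩ := (isFlc_iff_pull G).1 hG
  refine isFlc_of_cover (cokernel φ) U hU (fun i => ?_)
  obtain ⟨N, i1, i2, ⟨eG⟩⟩ := h i
  have e1 : (EtCoh.pull (U i).hom).obj (cokernel φ) ≅ cokernel ((EtCoh.pull (U i).hom).map φ) :=
    PreservesCokernel.iso _ _
  exact isFiniteLocallyConstant_of_iso e1.symm (isFlc_cokernel_of_iso_const _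
    ((EtCoh.pull (U i).hom).mapIso eF ≪≫ EtCore.pullConst _ M) eG)

theorem isFlc_kernel {F G : EtCoh.Ab X} (φ : F ⟶ G) (hF : EtCoh.IsFiniteLocallyConstant F)
    (hG : EtCoh.IsFiniteLocallyConstant G) : EtCoh.IsFiniteLocallyConstant (kernel φ) := by
  obtain ⟨ι, U, hU, h⟩ := (isFlc_iff_pull F).1 hF
  refine isFlc_of_cover (kernel φ) U hU (fun i => ?_)
  obtain ⟨M, i1, i2, ⟨eF⟩⟩ := h i
  have e1 : (EtCoh.pull (U i).hom).obj (kernel φ) ≅ kernel ((EtCoh.pull (U i).hom).map φ) :=
    PreservesKernel.iso _ _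
  exact isFiniteLocallyConstant_of_iso e1.symm (isFlc_kernel_of_iso_const_left _ eF
    (isFiniteLocallyConstant_pull _ _ hG))

theorem isFlc_cokernel {F G : EtCoh.Ab X} (φ : F ⟶ G) (hF : EtCoh.IsFiniteLocallyConstant F)
    (hG : EtCoh.IsFiniteLocallyConstant G) : EtCoh.IsFiniteLocallyConstant (cokernel φ) := by
  obtain ⟨ι, U, hU, h⟩ := (isFlc_iff_pull F).1 hF
  refine isFlc_of_cover (cokernel φ) U hU (fun i => ?_)
  obtain ⟨M, i1, i2, ⟨eF⟩⟩ := h i
  have e1 : (EtCoh.pull (U i).hom).obj (cokernel φ) ≅ cokernel ((EtCoh.pull (U i).hom).map φ) :=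
    PreservesCokernel.iso _ _
  exact isFiniteLocallyConstant_of_iso e1.symm (isFlc_cokernel_of_iso_const_left _ eF
    (isFiniteLocallyConstant_pull _ _ hG))


end C

end Groth.Agent.Lib.Helper23FlcSerre
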