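import Mathlib
import Groth.Prelude.Def_PBC
import Groth.Agent.S0671
import Groth.Agent.S0101
import Groth.Agent.Lib.Helper23FlcSerre

/-!
# Supports of abelian étale sheaves (helper23)

* `supp_eq_of_iso`, `not_isZero_stalk_of_mem_supp` (nonvanishing of the stalk does not depend on the geometric point),
  `exists_geometric_point`, `supp_pull` (support commutes with pullback), `supp_const_of_nontrivial`,
  `supp_const_of_subsingleton`, `isClopen_supp_of_isFlc`.
-/

set_option autoImplicit false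
set_option backward.isDefEq.respectTransparency.types false
universe u
open CategoryTheory CategoryTheory.Limits AlgebraicGeometry Opposite

namespace Groth.Agent.Lib.Helper23EtSupp

open Groth.Agent.Lib.Helper16.EtStalk Groth.Agent.Lib.Helper23.ConstLC Groth.Agent.Lib.Helper23FlcSerre

variable {X : Scheme.{u}}

theorem supp_subset_of_iso {F F' : EtCoh.Ab X} (e : F ≅ F') : EtPBC.supp F ⊆ EtPBC.supp F' := by
  rintro x ⟨Ω, i1, i2, ξ, hξ, hnz⟩
  exact ⟨Ω, i1, i2, ξ, hξ, fun h => hnz (h.of_iso ((EtCoh.stalk ξ).mapIso e))⟩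

theorem supp_eq_of_iso {F F' : EtCoh.Ab X} (e : F ≅ F') : EtPBC.supp F = EtPBC.supp F' :=
  Set.Subset.antisymm (supp_subset_of_iso e) (supp_subset_of_iso e.symm)

theorem range_eq_singleton {Ω : Type u} [Field Ω] (ξ : Spec (CommRingCat.of Ω) ⟶ X) {x : X}
    (h : ξ default = x) : Set.range ξ = {x} := by
  rw [Groth.Agent.S0671.range_spec_field, h]

theorem apply_default_of_range {Ω : Type u} [Field Ω] (ξ : Spec (CommRingCat.of Ω) ⟶ X) {x : X}
    (h : Set.range ξ = {x}) : ξ default = x := by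
  have : ξ default ∈ Set.range ξ := ⟨default, rfl⟩
  rw [h] at this
  exact this

/-- nonvanishing of the geometric stalk over `x` does not depend on the geometric point over `x` -/
theorem not_isZero_stalk_of_mem_supp (F : EtCoh.Ab X) {x : X} (hx : x ∈ EtPBC.supp F)
    {Ω : Type u} [Field Ω] [IsSepClosed Ω] (ξ : Spec (CommRingCat.of Ω) ⟶ X)
    (hξ : Set.range ξ = {x}) : ¬ IsZero ((EtCoh.stalk ξ).obj F) := by
  rw [(Groth.Agent.S0671.result F).2] at hx
  simp only [Set.mem_iUnion] at hx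
  obtain ⟨U, σ, y, hy, hyx⟩ := hx
  have hξx := apply_default_of_range ξ hξ
  obtain ⟨l, hl1, hl2⟩ := Scheme.exists_fac_of_etale_of_isSepClosed U.hom ξ y (hyx.trans hξx.symm)
  let Φ := Scheme.pointSmallEtale ξ
  let x₀ : Φ.fiber.obj U := Over.homMk l hl1
  intro hz
  have hss := AddCommGrpCat.isZero_iff_subsingleton.mp hz
  have e2 : Φ.toPresheafFiber U x₀ F.obj σ = Φ.toPresheafFiber U x₀ F.obj 0 :=
    @Subsingleton.elim _ hss _ _
  obtain ⟨W, g, w, hw, hg⟩ := (Φ.toPresheafFiber_eq_iff' U x₀ σ 0).mp e2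
  rw [map_zero] at hg
  refine hy W g ⟨(w.left : Spec (CommRingCat.of Ω) ⟶ W.left) (default : Spec (CommRingCat.of Ω)), ?_⟩ hg
  have e3 : w.left ≫ g.left = x₀.left := congrArg (fun m => m.left) hw
  rw [← hl2]
  exact congrArg (fun m : Spec (CommRingCat.of Ω) ⟶ U.left => m default) e3

theorem exists_geometric_point (x : X) :
    ∃ (Ω : Type u) (_ : Field Ω) (_ : IsSepClosed Ω) (ξ : Spec (CommRingCat.of Ω) ⟶ X),
      Set.range ξ = {x} := by
  let Ω := SeparableClosure (X.residueField x)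
  let l : Spec (CommRingCat.of Ω) ⟶ X :=
    Spec.map (CommRingCat.ofHom (algebraMap (X.residueField x) Ω)) ≫ X.fromSpecResidueField x
  refine ⟨Ω, inferInstance, inferInstance, l, range_eq_singleton l ?_⟩
  dsimp only [l]
  rw [Scheme.Hom.comp_apply]
  exact Scheme.fromSpecResidueField_apply _ _

theorem mem_supp_iff (F : EtCoh.Ab X) (x : X) :
    x ∈ EtPBC.supp F ↔ ∀ (Ω : Type u) [Field Ω] [IsSepClosed Ω] (ξ : Spec (CommRingCat.of Ω) ⟶ X),
      Set.range ξ = {x} → ¬ IsZero ((EtCoh.stalk ξ).obj F) := by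
  constructor
  · intro hx Ω _ _ ξ hξ
    exact not_isZero_stalk_of_mem_supp F hx ξ hξ
  · intro h
    obtain ⟨Ω, i1, i2, ξ, hξ⟩ := exists_geometric_point x
    exact ⟨Ω, i1, i2, ξ, hξ, h Ω ξ hξ⟩

/-- the support commutes with pullback -/
theorem supp_pull {X Y : Scheme.{u}} (f : X ⟶ Y) (F : EtCoh.Ab Y) :
    EtPBC.supp ((EtCoh.pull f).obj F) = f ⁻¹' EtPBC.supp F := by
  ext x
  constructor
  · rintro ⟨Ω, i1, i2, ξ, hξ, hnz⟩
    refine ⟨Ω, i1, i2, ξ ≫ f, range_eq_singleton _ ?_, fun h => hnz ?_⟩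
    · rw [Scheme.Hom.comp_apply, apply_default_of_range ξ hξ]
    · exact h.of_iso ((Groth.Agent.S0101.stalkPullIso f ξ).app F).symm
  · intro hx
    obtain ⟨Ω, i1, i2, ξ, hξ⟩ := exists_geometric_point x
    refine ⟨Ω, i1, i2, ξ, hξ, fun h => ?_⟩
    have h2 : Set.range (ξ ≫ f) = {f x} := by
      apply range_eq_singleton
      rw [Scheme.Hom.comp_apply, apply_default_of_range ξ hξ]
    exact not_isZero_stalk_of_mem_supp F hx (ξ ≫ f) h2
      (h.of_iso ((Groth.Agent.S0101.stalkPullIso f ξ).app F))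

section Const

variable (X) (M : Type) [AddCommGroup M]

theorem supp_lc_of_nontrivial [Nontrivial M] : EtPBC.supp (lc X M) = Set.univ := by
  apply Set.eq_univ_of_forall
  intro x
  rw [(Groth.Agent.S0671.result (lc X M)).2]
  simp only [Set.mem_iUnion]
  obtain ⟨m, hm⟩ := exists_ne (0 : M)
  refine ⟨EtCoh.top X, tHom (EtCoh.top X) ⟨m⟩, x, ?_, rfl⟩
  rintro W g ⟨w, -⟩ h0
  have h1 := congrArg (fun t => fn t w) h0
  exact hm h1

theorem supp_lc_of_subsingleton [Subsingleton M] : EtPBC.supp (lc X M) = ∅ := by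
  rw [(Groth.Agent.S0671.result (lc X M)).2]
  apply Set.eq_empty_of_forall_notMem
  intro x hx
  simp only [Set.mem_iUnion] at hx
  obtain ⟨U, σ, y, hy, -⟩ := hx
  apply hy U (𝟙 U) ⟨y, rfl⟩
  apply fn_injective
  ext w
  exact Subsingleton.elim (α := M) _ _

theorem supp_const_of_nontrivial [Nontrivial M] : EtPBC.supp (EtCoh.const X M) = Set.univ := by
  rw [supp_eq_of_iso (asIso (constToLC X M))]
  exact supp_lc_of_nontrivial X M

theorem supp_const_of_subsingleton [Subsingleton M] : EtPBC.supp (EtCoh.const X M) = ∅ := by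
  rw [supp_eq_of_iso (asIso (constToLC X M))]
  exact supp_lc_of_subsingleton X M

end Const

/-- the support of a finite locally constant sheaf is open and closed -/
theorem isClopen_supp_of_isFlc (F : EtCoh.Ab X) (hF : EtCoh.IsFiniteLocallyConstant F) :
    IsClopen (EtPBC.supp F) := by
  rw [isFlc_iff_pull] at hF
  obtain ⟨ι, U, hU, h⟩ := hF
  have key : ∀ i, (U i).hom ⁻¹' EtPBC.supp F = Set.univ ∨ (U i).hom ⁻¹' EtPBC.supp F = ∅ := by
    intro i
    obtain ⟨M, i1, i2, ⟨e⟩⟩ := h i
    rw [← supp_pull, supp_eq_of_iso e]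
    rcases subsingleton_or_nontrivial M with hM | hM
    · right
      exact supp_const_of_subsingleton _ M
    · left
      exact supp_const_of_nontrivial _ M
  have hopen : ∀ i, IsOpen (Set.range (U i).hom) := fun i => (U i).hom.isOpenMap.isOpen_range
  constructor
  · rw [← isOpen_compl_iff]
    rw [isOpen_iff_forall_mem_open]
    intro x hx
    obtain ⟨i, y, hy⟩ := hU x
    refine ⟨Set.range (U i).hom, ?_, hopen i, ⟨y, hy⟩⟩
    rintro _ ⟨z, rfl⟩ hz
    rcases key i with h1 | h1
    · apply hx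
      rw [← hy]
      have : y ∈ (U i).hom ⁻¹' EtPBC.supp F := h1 ▸ Set.mem_univ y
      exact this
    · have : z ∈ (U i).hom ⁻¹' EtPBC.supp F := hz
      rw [h1] at this
      exact this
  · rw [isOpen_iff_forall_mem_open]
    intro x hx
    obtain ⟨i, y, hy⟩ := hU x
    refine ⟨Set.range (U i).hom, ?_, hopen i, ⟨y, hy⟩⟩
    rintro _ ⟨z, rfl⟩
    rcases key i with h1 | h1
    · have : z ∈ (U i).hom ⁻¹' EtPBC.supp F := h1 ▸ Set.mem_univ z
      exact this
    · have : y ∈ (U i).hom ⁻¹' EtPBC.supp F := by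
        change (U i).hom y ∈ EtPBC.supp F
        rw [hy]
        exact hx
      rw [h1] at this
      exact this.elim

section Top

open Topology Groth.Agent.Lib.Helper23Strata

/-- a relatively clopen subset of a constructible subset of a spectral space is constructible -/
theorem isConstructible_of_relClopen {Y : Type*} [TopologicalSpace Y] [CompactSpace Y] [QuasiSober Y]
    [PrespectralSpace Y] [QuasiSeparatedSpace Y] {Z W : Set Y} (hZ : IsConstructible Z)
    (O C : Set Y) (hO : IsOpen O) (hC : IsClosed C) (h1 : W = Z ∩ O) (h2 : W = Z ∩ C) :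
    IsConstructible W := by
  have hZc : IsCompact Z := ConsTop.isCompact_of_isConstructible hZ
  have hWc : IsCompact W := h2 ▸ hZc.inter_right hC
  have hWO : W ⊆ O := h1 ▸ Set.inter_subset_right
  have hb : ∀ w ∈ W, ∃ V : Set Y, (IsOpen V ∧ IsCompact V) ∧ w ∈ V ∧ V ⊆ O := fun w hw =>
    (PrespectralSpace.isTopologicalBasis (X := Y)).exists_subset_of_mem_open (hWO hw) hO
  choose! V hV hwV hVO using hb
  obtain ⟨t, hcov⟩ := hWc.elim_nhds_subcover' (fun w hw => V w)
    (fun w hw => (hV w hw).1.mem_nhds (hwV w hw))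
  let O' : Set Y := ⋃ w ∈ t, V w.1
  have hO'open : IsOpen O' := isOpen_biUnion fun w _ => (hV w.1 w.2).1
  have hO'c : IsCompact O' := t.isCompact_biUnion fun w _ => (hV w.1 w.2).2
  have hO'O : O' ⊆ O := Set.iUnion₂_subset fun w _ => hVO w.1 w.2
  have hW : W = Z ∩ O' := by
    apply Set.Subset.antisymm
    · exact Set.subset_inter (h1 ▸ Set.inter_subset_left) hcov
    · rw [h1]
      exact Set.inter_subset_inter_right _ hO'O
  rw [hW]
  exact hZ.inter (hO'c.isConstructible hO'open)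

end Top

section Str

open Topology Groth.Agent.Lib.Helper23Strata Groth.Agent.Lib.Helper23Constr

/-- the support of a sheaf with an adapted stratification is constructible -/
theorem isConstructible_supp_of_str {Y : Scheme.{u}} [CompactSpace Y] [QuasiSeparatedSpace Y]
    (G : EtCoh.Ab Y) (h : Str (QF G)) : IsConstructible (EtPBC.supp G) := by
  obtain ⟨ι, hfin, T, g, himm, hcons, -, hcov, hQ⟩ := h
  have e : EtPBC.supp G = ⋃ i, (Set.range (g i) ∩ EtPBC.supp G) := by
    rw [← Set.iUnion_inter, hcov, Set.univ_inter]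
  rw [e]
  refine IsConstructible.iUnion fun i => ?_
  have hclopen := isClopen_supp_of_isFlc _ (hQ i)
  rw [supp_pull] at hclopen
  have hemb : IsEmbedding (g i) := (g i).isEmbedding
  obtain ⟨O, hO, hOe⟩ := hemb.isInducing.isOpen_iff.1 hclopen.2
  obtain ⟨C, hC, hCe⟩ := hemb.isInducing.isClosed_iff.1 hclopen.1
  refine isConstructible_of_relClopen (hcons i) O C hO hC ?_ ?_
  · ext y
    constructor
    · rintro ⟨⟨z, rfl⟩, hz⟩
      refine ⟨⟨z, rfl⟩, ?_⟩
      have : z ∈ (g i) ⁻¹' O := by rw [hOe]; exact hz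
      exact this
    · rintro ⟨⟨z, rfl⟩, hz⟩
      refine ⟨⟨z, rfl⟩, ?_⟩
      have : z ∈ (g i) ⁻¹' O := hz
      rw [hOe] at this
      exact this
  · ext y
    constructor
    · rintro ⟨⟨z, rfl⟩, hz⟩
      refine ⟨⟨z, rfl⟩, ?_⟩
      have : z ∈ (g i) ⁻¹' C := by rw [hCe]; exact hz
      exact this
    · rintro ⟨⟨z, rfl⟩, hz⟩
      refine ⟨⟨z, rfl⟩, ?_⟩
      have : z ∈ (g i) ⁻¹' C := hz
      rw [hCe] at this
      exact this

/-- the support of a constructible sheaf is locally constructible -/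
theorem isLocallyConstructible_supp (F : EtCoh.Ab X) (hF : EtPBC.IsConstructible F) :
    IsLocallyConstructible (EtPBC.supp F) := by
  intro x
  obtain ⟨U, hU, hxU, -⟩ := X.isBasis_affineOpens.exists_subset_of_mem_open
    (Set.mem_univ x) isOpen_univ
  obtain ⟨U, rfl⟩ : ∃ U' : X.Opens, (U' : Set X) = U := by
    obtain ⟨U', hU', rfl⟩ := hU
    exact ⟨U', rfl⟩
  have hUaff : IsAffineOpen U := by
    obtain ⟨U', hU', hUU'⟩ := hU
    have : U' = U := SetLike.coe_injective hUU'
    exact this ▸ hU'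
  refine ⟨U, U.2.mem_nhds hxU, U.2, ?_⟩
  have h1 := (isConstructible_iff F).1 hF U hUaff
  rw [QF_pull] at h1
  haveI : IsAffine (U : Scheme.{u}) := hUaff
  have h2 := isConstructible_supp_of_str _ h1
  rw [supp_pull] at h2
  exact h2

end Str

end Groth.Agent.Lib.Helper23EtSupp
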