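import Mathlib
import Groth.Agent.Lib.Helper23Strata

/-!
# Common refinement of stratifications (helper23)

`Str.mono`, `Constr.mono`, `Str.inf`, `Constr.inf` for the abstract strata of `Helper23Strata`.
-/

set_option autoImplicit false
universe u
open CategoryTheory CategoryTheory.Limits AlgebraicGeometry Opposite Topology

namespace Groth.Agent.Lib.Helper23Strata



variable {X : Scheme.{u}}

theorem Str.mono {Q Q' : Sieve X} (hQ : Q ≤ Q') (h : Str Q) : Str Q' := by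
  obtain ⟨ι, hι, T, g, h1, h2, h3, h4, h5⟩ := h
  exact ⟨ι, hι, T, g, h1, h2, h3, h4, fun i => hQ _ (h5 i)⟩

theorem Constr.mono {Q Q' : Sieve X} (hQ : Q ≤ Q') (h : Constr Q) : Constr Q' :=
  fun U hU => Str.mono (Sieve.pullback_monotone _ hQ) (h U hU)

theorem Str.inf {Q₁ Q₂ : Sieve X} (h₁ : Str Q₁) (h₂ : Str Q₂) : Str (Q₁ ⊓ Q₂) := by
  obtain ⟨ι₁, hι₁, T₁, g₁, a1, a2, a3, a4, a5⟩ := h₁
  obtain ⟨ι₂, hι₂, T₂, g₂, b1, b2, b3, b4, b5⟩ := h₂
  haveI := a1; haveI := b1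
  have hr : ∀ p : ι₁ × ι₂, Set.range (pullback.fst (g₁ p.1) (g₂ p.2) ≫ g₁ p.1) =
      Set.range (g₁ p.1) ∩ Set.range (g₂ p.2) := fun p => by
    rw [Scheme.Hom.comp_base, TopCat.coe_comp, Set.range_comp, Scheme.Pullback.range_fst,
      Set.image_preimage_eq_inter_range, Set.inter_comm]
  refine ⟨ι₁ × ι₂, inferInstance, fun p => pullback (g₁ p.1) (g₂ p.2),
    fun p => pullback.fst (g₁ p.1) (g₂ p.2) ≫ g₁ p.1, fun p => inferInstance, fun p => ?_, ?_, ?_,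
    fun p => ⟨Q₁.downward_closed (a5 p.1) _, ?_⟩⟩
  · rw [hr]
    exact (a2 p.1).inter (b2 p.2)
  · intro p q hpq
    rw [hr, hr]
    by_cases h1 : p.1 = q.1
    · have h2 : p.2 ≠ q.2 := fun h2 => hpq (Prod.ext h1 h2)
      exact (b3 h2).mono Set.inter_subset_right Set.inter_subset_right
    · exact (a3 h1).mono Set.inter_subset_left Set.inter_subset_left
  · apply Set.eq_univ_of_forall
    intro x
    have hx1 : x ∈ ⋃ i, Set.range (g₁ i) := by rw [a4]; trivial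
    have hx2 : x ∈ ⋃ i, Set.range (g₂ i) := by rw [b4]; trivial
    obtain ⟨i, hi⟩ := Set.mem_iUnion.1 hx1
    obtain ⟨j, hj⟩ := Set.mem_iUnion.1 hx2
    refine Set.mem_iUnion.2 ⟨(i, j), ?_⟩
    rw [hr]
    exact ⟨hi, hj⟩
  · change Q₂ (pullback.fst (g₁ p.1) (g₂ p.2) ≫ g₁ p.1)
    rw [pullback.condition]
    exact Q₂.downward_closed (b5 p.2) _

theorem Constr.inf {Q₁ Q₂ : Sieve X} (h₁ : Constr Q₁) (h₂ : Constr Q₂) : Constr (Q₁ ⊓ Q₂) := by
  intro U hU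
  rw [Sieve.pullback_inter]
  exact Str.inf (h₁ U hU) (h₂ U hU)


end Groth.Agent.Lib.Helper23Strata
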