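import Mathlib

/-!
# Lifting standard étale algebras along a quotient map (helper9)

For a ring `A`, an ideal `I` and a standard étale pair `Q` over `A ⧸ I` there is a standard étale
pair `P` over `A` whose base change to `A ⧸ I` is the standard étale algebra of `Q`.
-/

set_option autoImplicit false
set_option linter.style.haveILetI false

universe u

open Polynomial TensorProduct

namespace Groth.Agent.Lib.Helper9.CILift

variable {A : Type u} [CommRing A] (I : Ideal A) (Q : StandardEtalePair (A ⧸ I))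

/-- the `A`-algebra structure on the standard étale algebra of a pair over `A ⧸ I` -/
noncomputable abbrev algQ : Algebra A Q.Ring :=
  ((algebraMap (A ⧸ I) Q.Ring).comp (Ideal.Quotient.mk I)).toAlgebra

theorem exists_lift_pair :
    ∃ P : StandardEtalePair A, P.f.map (Ideal.Quotient.mk I) = Q.f ∧
      ∃ g : A[X], g.map (Ideal.Quotient.mk I) = Q.g ∧ P.g = g * derivative P.f := by
  obtain ⟨f, hf, -, hfm⟩ := Polynomial.lifts_and_natDegree_eq_and_monic
    (f := Ideal.Quotient.mk I) (p := Q.f)
    ((Polynomial.mem_lifts _).2 (Polynomial.map_surjective _ Ideal.Quotient.mk_surjective Q.f))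
    Q.monic_f
  obtain ⟨g, hg⟩ := Polynomial.map_surjective _ (Ideal.Quotient.mk_surjective (I := I)) Q.g
  exact ⟨⟨f, hfm, g * derivative f, ⟨g, 0, 1, by ring⟩⟩, hf, g, hg, rfl⟩

section Iso

noncomputable local instance instAlgQ : Algebra A Q.Ring := algQ I Q

local instance instTowerQ : IsScalarTower A (A ⧸ I) Q.Ring := IsScalarTower.of_algebraMap_eq' rfl

variable (P : StandardEtalePair A) (hf : P.f.map (Ideal.Quotient.mk I) = Q.f) (g : A[X])
  (hg : g.map (Ideal.Quotient.mk I) = Q.g) (hPg : P.g = g * derivative P.f)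

include hf hg hPg

theorem hasMap_QX : P.HasMap Q.X := by
  have h1 : aeval Q.X P.f = 0 := by
    have := Q.hasMap_X.1
    rw [← hf, ← Ideal.Quotient.algebraMap_eq, aeval_map_algebraMap] at this
    exact this
  refine ⟨h1, ?_⟩
  rw [hPg, map_mul]
  refine IsUnit.mul ?_ ?_
  · have := Q.hasMap_X.2
    rw [← hg, ← Ideal.Quotient.algebraMap_eq, aeval_map_algebraMap] at this
    exact this
  · have := Q.hasMap_X.isUnit_derivative_f
    rw [← hf, ← Ideal.Quotient.algebraMap_eq, derivative_map, aeval_map_algebraMap] at this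
    exact this

/-- the comparison map from the lifted standard étale algebra -/
noncomputable def psi : P.Ring →ₐ[A] Q.Ring := P.lift Q.X (hasMap_QX I Q P hf g hg hPg)

theorem psi_X : psi I Q P hf g hg hPg P.X = Q.X := P.lift_X _ _

theorem hasMap_tmul : Q.HasMap ((1 : A ⧸ I) ⊗ₜ[A] P.X) := by
  let ir : P.Ring →ₐ[A] (A ⧸ I) ⊗[A] P.Ring := Algebra.TensorProduct.includeRight
  have key : ∀ p : A[X], aeval ((1 : A ⧸ I) ⊗ₜ[A] P.X) (p.map (Ideal.Quotient.mk I)) =
      ir (aeval P.X p) := by
    intro p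
    rw [← Ideal.Quotient.algebraMap_eq, aeval_map_algebraMap]
    exact aeval_algHom_apply ir P.X p
  refine ⟨?_, ?_⟩
  · rw [← hf, key, P.hasMap_X.1, map_zero]
  · rw [← hg, key]
    apply IsUnit.map
    have h2 := P.hasMap_X.2
    rw [hPg, map_mul] at h2
    exact isUnit_of_mul_isUnit_left h2

/-- the inverse comparison map -/
noncomputable def phi : Q.Ring →ₐ[A ⧸ I] (A ⧸ I) ⊗[A] P.Ring :=
  Q.lift _ (hasMap_tmul I Q P hf g hg hPg)

theorem phi_X : phi I Q P hf g hg hPg Q.X = (1 : A ⧸ I) ⊗ₜ[A] P.X := Q.lift_X _ _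

/-- the base change of the lifted pair is the given pair -/
noncomputable def tensorEquiv : (A ⧸ I) ⊗[A] P.Ring ≃ₐ[A ⧸ I] Q.Ring :=
  AlgEquiv.ofAlgHom
    (Algebra.TensorProduct.lift (Algebra.ofId (A ⧸ I) Q.Ring) (psi I Q P hf g hg hPg)
      (fun _ _ => Commute.all _ _))
    (phi I Q P hf g hg hPg)
    (by
      apply Q.hom_ext
      rw [AlgHom.comp_apply, phi_X, Algebra.TensorProduct.lift_tmul, map_one, one_mul, psi_X]
      rfl)
    (by
      apply Algebra.TensorProduct.ext
      · ext
      · apply P.hom_ext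
        simp only [AlgHom.comp_apply, AlgHom.coe_restrictScalars',
          Algebra.TensorProduct.includeRight_apply, Algebra.TensorProduct.lift_tmul, map_one,
          one_mul, psi_X, phi_X, AlgHom.coe_id, id_eq])

theorem tensorEquiv_tmul (a : A ⧸ I) (b : P.Ring) :
    tensorEquiv I Q P hf g hg hPg (a ⊗ₜ b) =
      algebraMap (A ⧸ I) Q.Ring a * psi I Q P hf g hg hPg b := by
  simp [tensorEquiv]

end Iso

open CategoryTheory CategoryTheory.Limits in
/-- **Lifting standard étale algebras along a quotient**: a pushout square of commutative rings. -/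
theorem exists_lift :
    ∃ (P : StandardEtalePair A) (ψ : P.Ring →+* Q.Ring),
      IsPushout (CommRingCat.ofHom (Ideal.Quotient.mk I))
        (CommRingCat.ofHom (algebraMap A P.Ring))
        (CommRingCat.ofHom (algebraMap (A ⧸ I) Q.Ring)) (CommRingCat.ofHom ψ) := by
  obtain ⟨P, hf, g, hg, hPg⟩ := exists_lift_pair I Q
  letI : Algebra A Q.Ring := algQ I Q
  haveI : IsScalarTower A (A ⧸ I) Q.Ring := IsScalarTower.of_algebraMap_eq' rfl
  refine ⟨P, (psi I Q P hf g hg hPg).toRingHom, ?_⟩
  refine (CommRingCat.isPushout_tensorProduct A (A ⧸ I) P.Ring).of_iso (Iso.refl _) (Iso.refl _)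
    (Iso.refl _) (tensorEquiv I Q P hf g hg hPg).toRingEquiv.toCommRingCatIso ?_ ?_ ?_ ?_
  · simp
  · simp
  · ext a
    simp [tensorEquiv_tmul]
  · ext b
    simp [tensorEquiv_tmul]

open CategoryTheory CategoryTheory.Limits in
/-- **Local lifting of étale algebras along a quotient map.** -/
theorem exists_etale_lift (B : Type u) [CommRing B] [Algebra (A ⧸ I) B] [Algebra.Etale (A ⧸ I) B]
    (q : Ideal B) [q.IsPrime] :
    ∃ (b : B) (_ : b ∉ q) (C : Type u) (_ : CommRing C) (_ : Algebra A C) (_ : Algebra.Etale A C)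
      (ψ : C →+* Localization.Away b),
      IsPushout (CommRingCat.ofHom (Ideal.Quotient.mk I)) (CommRingCat.ofHom (algebraMap A C))
        (CommRingCat.ofHom (algebraMap (A ⧸ I) (Localization.Away b))) (CommRingCat.ofHom ψ) := by
  obtain ⟨b, hbq, hstd⟩ := Algebra.IsEtaleAt.exists_isStandardEtale (R := A ⧸ I) q
  obtain ⟨Pres⟩ := hstd.nonempty_standardEtalePresentation
  obtain ⟨P, ψ, hpo⟩ := exists_lift I Pres.P
  let ε : Localization.Away b ≃+* Pres.P.Ring := Pres.equivRing.toRingEquiv
  refine ⟨b, hbq, P.Ring, inferInstance, inferInstance, inferInstance,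
    ε.symm.toRingHom.comp ψ, ?_⟩
  refine hpo.of_iso (Iso.refl _) (Iso.refl _) (Iso.refl _) ε.symm.toCommRingCatIso ?_ ?_ ?_ ?_
  · simp
  · simp
  · ext a
    simp only [Iso.refl_hom, Category.id_comp, CommRingCat.hom_comp, CommRingCat.hom_ofHom,
      RingHom.coe_comp, Function.comp_apply, RingEquiv.toCommRingCatIso_hom]
    change Pres.equivRing.symm (algebraMap (A ⧸ I) Pres.P.Ring a) = _
    rw [AlgEquiv.commutes]
  · ext c
    simp

end Groth.Agent.Lib.Helper9.CILift
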