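import Mathlib
import Groth.Agent.Lib.Helper9CILift1

/-!
# Local lifting of étale morphisms along a closed immersion (helper9)

`exists_local_lift`: for a closed immersion `f : X ⟶ Y`, an étale morphism `g : U ⟶ X` and a point
`u` of `U`, there are an étale `e : V ⟶ Y` and an open immersion `V ×_Y X ⟶ U` over `X` whose image
contains `u`.
-/

set_option autoImplicit false
set_option linter.style.haveILetI false
set_option backward.isDefEq.respectTransparency false

universe u

open CategoryTheory CategoryTheory.Limits AlgebraicGeometry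

namespace Groth.Agent.Lib.Helper9.CILift

set_option maxHeartbeats 1600000 in
theorem exists_local_lift {X Y U : Scheme.{u}} (f : X ⟶ Y) [IsClosedImmersion f] (g : U ⟶ X)
    [Etale g] (u : U) :
    ∃ (V : Scheme.{u}) (e : V ⟶ Y) (_ : Etale e) (h : pullback e f ⟶ U),
      h ≫ g = pullback.snd e f ∧ IsOpenImmersion h ∧ u ∈ Set.range h := by
  -- (a) an affine open of `Y`
  obtain ⟨A, jY, hjY, ⟨a0, ha0⟩, -⟩ := Scheme.exists_affine_mem_range_and_range_subset
    (x := f (g u)) (U := (⊤ : Y.Opens)) (by simp)
  -- (b) its preimage in `X`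
  obtain ⟨I, eX, hsnd⟩ := IsClosedImmersion.Spec_iff.1
    (inferInstance : IsClosedImmersion (pullback.snd f jY))
  -- (c) the points
  obtain ⟨xA, hxA1, -⟩ := Scheme.Pullback.exists_preimage_pullback (f := f) (g := jY) (g u) a0
    ha0.symm
  obtain ⟨uA, huA1, -⟩ := Scheme.Pullback.exists_preimage_pullback (f := g)
    (g := pullback.fst f jY) u xA hxA1.symm
  -- (d) an affine open neighbourhood
  obtain ⟨B, jU, hjU, ⟨q, hq⟩, -⟩ := Scheme.exists_affine_mem_range_and_range_subset
    (x := uA) (U := (⊤ : (pullback g (pullback.fst f jY)).Opens)) (by simp)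
  let β : CommRingCat.of (A ⧸ I) ⟶ B :=
    Spec.preimage (jU ≫ pullback.snd g (pullback.fst f jY) ≫ eX.hom)
  have hβ : Spec.map β = jU ≫ pullback.snd g (pullback.fst f jY) ≫ eX.hom := Spec.map_preimage _
  have het : Etale (Spec.map β) := by rw [hβ]; infer_instance
  rw [HasRingHomProperty.Spec_iff (P := @Etale)] at het
  letI : Algebra (A ⧸ I) B := β.hom.toAlgebra
  haveI : Algebra.Etale (A ⧸ I) B := by
    have : (algebraMap (A ⧸ I) B).Etale := het
    rwa [RingHom.etale_algebraMap] at this
  -- (e) the algebraic lift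
  obtain ⟨b, hbq, C, _, _, hCet, ψ, hpo⟩ := exists_etale_lift I B q.asIdeal
  -- (f) the étale `Y`-scheme
  let αC : A ⟶ CommRingCat.of C := CommRingCat.ofHom (algebraMap A C)
  let e : Spec (CommRingCat.of C) ⟶ Y := Spec.map αC ≫ jY
  have hαC : Etale (Spec.map αC) := by
    rw [HasRingHomProperty.Spec_iff (P := @Etale)]
    change (algebraMap A C).Etale
    rw [RingHom.etale_algebraMap]
    exact hCet
  have he : Etale e := inferInstance
  -- (g) the two pullback squares
  let p₁ : pullback f jY ⟶ X := pullback.fst f jY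
  have hsq1 := (isPullback_SpecMap_of_isPushout _ _ _ _ hpo).flip
  have hsq2 : IsPullback (Spec.map (CommRingCat.ofHom (Ideal.Quotient.mk I))) (eX.inv ≫ p₁) jY f :=
    (IsPullback.of_hasPullback f jY).flip.of_iso eX (Iso.refl _) (Iso.refl _) (Iso.refl _)
      (by rw [Iso.refl_hom, Category.comp_id]; exact hsnd)
      (by rw [Iso.refl_hom, Category.comp_id, Iso.hom_inv_id_assoc])
      (by simp) (by simp)
  have hPB := hsq1.paste_vert hsq2
  -- (h) the open immersion
  let iso := hPB.isoPullback
  let loc : B ⟶ CommRingCat.of (Localization.Away b) :=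
    CommRingCat.ofHom (algebraMap B (Localization.Away b))
  let k : Spec (CommRingCat.of (Localization.Away b)) ⟶ U :=
    Spec.map loc ≫ jU ≫ pullback.fst g p₁
  have hk : IsOpenImmersion k := inferInstance
  refine ⟨Spec (CommRingCat.of C), e, he, iso.inv ≫ k, ?_, inferInstance, ?_⟩
  · rw [← hPB.isoPullback_inv_snd, Category.assoc]
    congr 1
    have h1 : jU ≫ pullback.snd g p₁ = Spec.map β ≫ eX.inv := by
      rw [hβ, Category.assoc, Category.assoc, Iso.hom_inv_id, Category.comp_id]
    have h2 : β ≫ loc = CommRingCat.ofHom (algebraMap (A ⧸ I) (Localization.Away b)) := by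
      ext a
      exact (IsScalarTower.algebraMap_apply (A ⧸ I) B (Localization.Away b) a).symm
    calc k ≫ g = Spec.map loc ≫ jU ≫ pullback.fst g p₁ ≫ g := by simp [k]
      _ = Spec.map loc ≫ jU ≫ pullback.snd g p₁ ≫ p₁ := by rw [pullback.condition]
      _ = Spec.map loc ≫ (jU ≫ pullback.snd g p₁) ≫ p₁ := by simp
      _ = Spec.map loc ≫ (Spec.map β ≫ eX.inv) ≫ p₁ := by rw [h1]
      _ = Spec.map (β ≫ loc) ≫ eX.inv ≫ p₁ := by rw [Spec.map_comp]; simp
      _ = _ := by rw [h2]
  · have hqb : q ∈ Set.range (PrimeSpectrum.comap (algebraMap B (Localization.Away b))) := by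
      rw [PrimeSpectrum.localization_away_comap_range (Localization.Away b) b]
      exact hbq
    obtain ⟨q', hq'⟩ := hqb
    refine ⟨iso.hom q', ?_⟩
    have h3 : (iso.inv ≫ k) (iso.hom q') = k q' := by
      rw [← Scheme.Hom.comp_apply, Iso.hom_inv_id_assoc]
    rw [h3]
    change (pullback.fst g p₁) (jU ((Spec.map loc) q')) = u
    have h4 : (Spec.map loc) q' = q := hq'
    rw [h4, hq, huA1]

end Groth.Agent.Lib.Helper9.CILift
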