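import Mathlib
import Groth.Prelude.Def_EtCore
import Groth.Agent.Lib.Helper9CILift2

/-!
# Étale neighbourhoods along a closed immersion (helper9)

For a closed immersion `i : Z ⟶ X` and a geometric point `ζ` of `Z`:
* `liftPt`, `projPt`: geometric points of `U ×_X Z` over `ζ` ↔ geometric points of `U` over `i ∘ ζ`;
* `exists_relative_lift`: an étale neighbourhood `W ⟶ U ×_X Z` of `ζ` is dominated by the base
  change of an étale neighbourhood `V ⟶ U` of `i ∘ ζ`.
-/

set_option autoImplicit false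
set_option linter.style.haveILetI false
set_option backward.isDefEq.respectTransparency false

universe u

open CategoryTheory CategoryTheory.Limits AlgebraicGeometry Opposite

namespace Groth.Agent.Lib.Helper9.CIStalk

variable {Z X : Scheme.{u}} (i : Z ⟶ X) {Ω : Type u} [Field Ω] [IsSepClosed Ω]
  (ζ : Spec (CommRingCat.of Ω) ⟶ Z)

/-- the base change of an object, with explicit underlying scheme -/
lemma bc_left (U : X.Etale) : ((EtCoh.bc i).obj U).left = pullback U.hom i := rfl

lemma bc_hom (U : X.Etale) : ((EtCoh.bc i).obj U).hom = pullback.snd U.hom i := rfl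

lemma bc_map_fst {U V : X.Etale} (k : V ⟶ U) :
    ((EtCoh.bc i).map k).left ≫ pullback.fst U.hom i = pullback.fst V.hom i ≫ k.left := by
  dsimp [EtCoh.bc]
  exact pullback.lift_fst _ _ _

lemma bc_map_snd {U V : X.Etale} (k : V ⟶ U) :
    ((EtCoh.bc i).map k).left ≫ pullback.snd U.hom i = pullback.snd V.hom i := by
  dsimp [EtCoh.bc]
  exact pullback.lift_snd _ _ _

/-- a geometric point of `U` over `i ∘ ζ` gives a geometric point of `U ×_X Z` over `ζ` -/
noncomputable def liftPt (U : X.Etale) (u : (Scheme.pointSmallEtale (ζ ≫ i)).fiber.obj U) :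
    (Scheme.pointSmallEtale ζ).fiber.obj ((EtCoh.bc i).obj U) :=
  Over.homMk (pullback.lift u.left ζ (Over.w u)) (by
    change pullback.lift u.left ζ (Over.w u) ≫ pullback.snd U.hom i = ζ
    exact pullback.lift_snd _ _ _)

/-- a geometric point of `U ×_X Z` over `ζ` gives a geometric point of `U` over `i ∘ ζ` -/
noncomputable def projPt (U : X.Etale)
    (v : (Scheme.pointSmallEtale ζ).fiber.obj ((EtCoh.bc i).obj U)) :
    (Scheme.pointSmallEtale (ζ ≫ i)).fiber.obj U :=
  Over.homMk (v.left ≫ pullback.fst U.hom i) (by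
    change (v.left ≫ pullback.fst U.hom i) ≫ U.hom = ζ ≫ i
    have hv : v.left ≫ pullback.snd U.hom i = ζ := Over.w v
    rw [Category.assoc, pullback.condition, ← Category.assoc, hv])

lemma liftPt_projPt (U : X.Etale)
    (v : (Scheme.pointSmallEtale ζ).fiber.obj ((EtCoh.bc i).obj U)) :
    liftPt i ζ U (projPt i ζ U v) = v := by
  apply Over.OverMorphism.ext
  have hv : v.left ≫ pullback.snd U.hom i = ζ := Over.w v
  change pullback.lift (v.left ≫ pullback.fst U.hom i) ζ _ = v.left
  apply pullback.hom_ext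
  · rw [pullback.lift_fst]
  · rw [pullback.lift_snd, hv]

lemma projPt_liftPt (U : X.Etale) (u : (Scheme.pointSmallEtale (ζ ≫ i)).fiber.obj U) :
    projPt i ζ U (liftPt i ζ U u) = u := by
  apply Over.OverMorphism.ext
  change pullback.lift u.left ζ _ ≫ pullback.fst U.hom i = u.left
  rw [pullback.lift_fst]

lemma projPt_map {U V : X.Etale} (k : V ⟶ U)
    (v : (Scheme.pointSmallEtale ζ).fiber.obj ((EtCoh.bc i).obj V)) :
    projPt i ζ U ((Scheme.pointSmallEtale ζ).fiber.map ((EtCoh.bc i).map k) v) =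
      (Scheme.pointSmallEtale (ζ ≫ i)).fiber.map k (projPt i ζ V v) := by
  apply Over.OverMorphism.ext
  change (v.left ≫ ((EtCoh.bc i).map k).left) ≫ pullback.fst U.hom i =
    (v.left ≫ pullback.fst V.hom i) ≫ k.left
  rw [Category.assoc, bc_map_fst, Category.assoc]

lemma liftPt_map {U V : X.Etale} (k : V ⟶ U)
    (u : (Scheme.pointSmallEtale (ζ ≫ i)).fiber.obj V) :
    (Scheme.pointSmallEtale ζ).fiber.map ((EtCoh.bc i).map k) (liftPt i ζ V u) =
      liftPt i ζ U ((Scheme.pointSmallEtale (ζ ≫ i)).fiber.map k u) := by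
  have h1 := projPt_map i ζ k (liftPt i ζ V u)
  rw [projPt_liftPt] at h1
  rw [← h1, liftPt_projPt]

set_option maxHeartbeats 1600000 in
/-- an étale neighbourhood of `ζ` over `U ×_X Z` is dominated by the base change of an étale
neighbourhood of `i ∘ ζ` over `U` -/
theorem exists_relative_lift [IsClosedImmersion i] (U : X.Etale) (W : Z.Etale)
    (φ : W ⟶ (EtCoh.bc i).obj U) (w : (Scheme.pointSmallEtale ζ).fiber.obj W) :
    ∃ (V : X.Etale) (k : V ⟶ U) (h : (EtCoh.bc i).obj V ⟶ W)
      (v : (Scheme.pointSmallEtale ζ).fiber.obj ((EtCoh.bc i).obj V)),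
      h ≫ φ = (EtCoh.bc i).map k ∧ (Scheme.pointSmallEtale ζ).fiber.map h v = w := by
  let f' : pullback U.hom i ⟶ U.left := pullback.fst U.hom i
  let g' : W.left ⟶ pullback U.hom i := φ.left
  haveI : Etale g' := inferInstanceAs (Etale φ.left)
  let wl : Spec (CommRingCat.of Ω) ⟶ W.left := w.left
  obtain ⟨V₀, e, he, h, h1, h2, h3⟩ :=
    Groth.Agent.Lib.Helper9.CILift.exists_local_lift f' g' (wl default)
  haveI : Etale (e ≫ U.hom) := inferInstance
  let V : X.Etale := Scheme.Etale.mk (e ≫ U.hom)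
  let k : V ⟶ U := MorphismProperty.Over.homMk e rfl trivial
  let θ := pullbackRightPullbackFstIso U.hom i e
  have hφw : φ.left ≫ pullback.snd U.hom i = W.hom := Over.w φ.hom
  have hover : (θ.inv ≫ h) ≫ W.hom = pullback.snd (e ≫ U.hom) i := by
    rw [Category.assoc, ← hφw, ← Category.assoc h, h1]
    exact pullbackRightPullbackFstIso_inv_snd_snd U.hom i e
  let h' : (EtCoh.bc i).obj V ⟶ W := MorphismProperty.Over.homMk (θ.inv ≫ h) hover trivial
  have hrange : Set.range wl ⊆ Set.range h := by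
    rintro _ ⟨a, rfl⟩
    rwa [Subsingleton.elim a default]
  let v₀ : Spec (CommRingCat.of Ω) ⟶ pullback e f' := IsOpenImmersion.lift h wl hrange
  have hv₀ : v₀ ≫ h = wl := IsOpenImmersion.lift_fac h wl hrange
  have hww : wl ≫ W.hom = ζ := Over.w w
  have hvover : (v₀ ≫ θ.hom) ≫ pullback.snd (e ≫ U.hom) i = ζ := by
    rw [Category.assoc, pullbackRightPullbackFstIso_hom_snd, ← Category.assoc, ← h1,
      ← Category.assoc, hv₀, Category.assoc, hφw, hww]
  let v : (Scheme.pointSmallEtale ζ).fiber.obj ((EtCoh.bc i).obj V) :=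
    Over.homMk (v₀ ≫ θ.hom) hvover
  refine ⟨V, k, h', v, ?_, ?_⟩
  · apply MorphismProperty.Over.Hom.ext
    change (θ.inv ≫ h) ≫ φ.left = ((EtCoh.bc i).map k).left
    have key : (θ.inv ≫ h) ≫ φ.left = θ.inv ≫ pullback.snd e f' := by
      rw [Category.assoc]
      exact congrArg (fun m => θ.inv ≫ m) h1
    rw [key]
    apply pullback.hom_ext
    · rw [bc_map_fst, Category.assoc]
      exact pullbackRightPullbackFstIso_inv_snd_fst U.hom i e
    · rw [bc_map_snd, Category.assoc]
      exact pullbackRightPullbackFstIso_inv_snd_snd U.hom i e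
  · apply Over.OverMorphism.ext
    change (v₀ ≫ θ.hom) ≫ (θ.inv ≫ h) = wl
    rw [Category.assoc, Iso.hom_inv_id_assoc, hv₀]

end Groth.Agent.Lib.Helper9.CIStalk
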