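import Mathlib
import Groth.Agent.Lib.Helper9SpPoint2

/-!
# Geometric points of the small étale site of a scheme detect covers (helper9)
-/

set_option autoImplicit false
set_option linter.style.haveILetI false
set_option backward.isDefEq.respectTransparency false
open CategoryTheory CategoryTheory.Limits AlgebraicGeometry Opposite
universe u

namespace Groth.Agent.Lib.Helper9.EtPoint

variable (X : Scheme.{u})

/-- the points of the small étale site defined by geometric points -/
def geomPoints : Set (GrothendieckTopology.Point.{u} X.smallEtaleTopology) :=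
  {Φ | ∃ (Ω : Type u) (_ : Field Ω) (_ : IsSepClosed Ω) (ξ : Spec (CommRingCat.of Ω) ⟶ X),
    Φ = Scheme.pointSmallEtale ξ}

/-- every point of an étale `X`-scheme is hit by a geometric point -/
lemma exists_geometric_lift (W : X.Etale) (w : W.left) :
    ∃ (Ω : Type u) (_ : Field Ω) (_ : IsSepClosed Ω) (ξ : Spec (CommRingCat.of Ω) ⟶ X)
      (x : (Scheme.pointSmallEtale ξ).fiber.obj W),
      x.left (default : Spec (CommRingCat.of Ω)) = w := by
  let κ := W.left.residueField w
  let ξ' : Spec (CommRingCat.of (AlgebraicClosure κ)) ⟶ W.left :=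
    Spec.map (CommRingCat.ofHom (algebraMap κ (AlgebraicClosure κ))) ≫
      W.left.fromSpecResidueField w
  refine ⟨AlgebraicClosure κ, inferInstance, inferInstance, ξ' ≫ W.hom, Over.homMk ξ' rfl, ?_⟩
  exact Scheme.fromSpecResidueField_apply w _

lemma geomPoints_detect ⦃W : X.Etale⦄ (T : Sieve W)
    (h : ∀ Φ ∈ geomPoints X, ∀ x : Φ.fiber.obj W,
      ∃ (Y : X.Etale) (g : Y ⟶ W) (_ : T g) (y : Φ.fiber.obj Y), Φ.fiber.map g y = x) :
    T ∈ X.smallEtaleTopology W := by
  obtain ⟨α, Z, f, rfl⟩ := T.exists_eq_ofArrows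
  rw [Scheme.ofArrows_mem_smallEtaleTopology_iff]
  ext w
  simp only [Set.mem_iUnion, Set.mem_range, Set.mem_univ, iff_true]
  obtain ⟨Ω, _, _, ξ, x, hx⟩ := exists_geometric_lift X W w
  obtain ⟨Y, g, hg, y, hy⟩ := h (Scheme.pointSmallEtale ξ) ⟨Ω, _, _, ξ, rfl⟩ x
  obtain ⟨Z', p, _, ⟨i⟩, rfl⟩ := hg
  refine ⟨i, p.left (y.left (default : Spec (CommRingCat.of Ω))), ?_⟩
  rw [← hx, ← hy]
  rfl

end Groth.Agent.Lib.Helper9.EtPoint
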