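import Mathlib
import Groth.Prelude.Def_EtCore
import Groth.Agent.Lib.Helper9CIStalk
import Groth.Agent.Lib.Helper9EtPoint

/-!
# Base change along a closed immersion is a cover-dense, locally full functor of étale sites
(helper9)
-/

set_option autoImplicit false
set_option linter.style.haveILetI false
set_option backward.isDefEq.respectTransparency false

universe u

open CategoryTheory CategoryTheory.Limits AlgebraicGeometry Opposite

namespace Groth.Agent.Lib.Helper9.CIStalk

variable {Z X : Scheme.{u}} (i : Z ⟶ X) [IsClosedImmersion i]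

theorem isCoverDense_bc : (EtCoh.bc i).IsCoverDense Z.smallEtaleTopology where
  is_cover W := by
    apply Groth.Agent.Lib.Helper9.EtPoint.geomPoints_detect
    rintro Φ ⟨Ω, _, _, ζ, rfl⟩ w
    let φ : W ⟶ (EtCoh.bc i).obj (EtCoh.top X) := (EtCore.bcTopIsTerminal i).from W
    obtain ⟨V, k, h, v, -, hv⟩ := exists_relative_lift i ζ (EtCoh.top X) W φ w
    exact ⟨(EtCoh.bc i).obj V, h, Presieve.in_coverByImage (EtCoh.bc i) h, v, hv⟩

theorem isLocallyFull_bc : (EtCoh.bc i).IsLocallyFull Z.smallEtaleTopology where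
  functorPushforward_imageSieve_mem {U V} f := by
    apply Groth.Agent.Lib.Helper9.EtPoint.geomPoints_detect
    rintro Φ ⟨Ω, _, _, ζ, rfl⟩ x
    let e := PreservesLimitPair.iso (EtCoh.bc i) U V
    let φ : (EtCoh.bc i).obj U ⟶ (EtCoh.bc i).obj (U ⨯ V) := prod.lift (𝟙 _) f ≫ e.inv
    obtain ⟨V', k', h, v, hk, hv⟩ := exists_relative_lift i ζ (U ⨯ V) ((EtCoh.bc i).obj U) φ x
    have h1 : (EtCoh.bc i).map (k' ≫ prod.fst) = h := by
      rw [Functor.map_comp, ← hk, Category.assoc, Category.assoc,
        PreservesLimitPair.iso_inv_fst, prod.lift_fst, Category.comp_id]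
    have h2 : (EtCoh.bc i).map (k' ≫ prod.snd) = h ≫ f := by
      rw [Functor.map_comp, ← hk, Category.assoc, Category.assoc,
        PreservesLimitPair.iso_inv_snd, prod.lift_snd]
    refine ⟨(EtCoh.bc i).obj V', (EtCoh.bc i).map (k' ≫ prod.fst), ?_, v, ?_⟩
    · apply Sieve.image_mem_functorPushforward
      exact ⟨k' ≫ prod.snd, by rw [h2, h1]⟩
    · rw [h1]
      exact hv

end Groth.Agent.Lib.Helper9.CIStalk
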