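import Mathlib
import Groth.Prelude.Def_EtCore
import Groth.Agent.Lib.Helper9CIDense

/-!
# The essential image of the direct image along a closed immersion (helper9)
-/

set_option autoImplicit false
set_option linter.style.haveILetI false
set_option backward.isDefEq.respectTransparency false

universe u

open CategoryTheory CategoryTheory.Limits AlgebraicGeometry Opposite

namespace Groth.Agent.Lib.Helper9.CIStalk

/-- pointwise criterion for covering sieves of the small étale site -/
lemma mem_smallEtale_iff (X : Scheme.{u}) (U : X.Etale) (R : Sieve U) :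
    R ∈ X.smallEtaleTopology U ↔
      ∀ x : U.left, ∃ (Y : X.Etale) (f : Y ⟶ U) (y : Y.left), R f ∧ f.left y = x := by
  have eX : X.smallEtaleTopology =
      (X.smallPretopology (P := EtCoh.etaleMP) (Q := EtCoh.etaleMP)).toGrothendieck :=
    Scheme.smallGrothendieckTopology_eq_toGrothendieck_smallPretopology X le_rfl
  rw [eX]
  refine Iff.trans (Scheme.mem_toGrothendieck_smallPretopology U R) ?_
  constructor
  · intro h x
    obtain ⟨Y, f, y, hf, -, hy⟩ := h x
    exact ⟨Y, f, y, hf, hy⟩
  · intro h x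
    obtain ⟨Y, f, y, hf, hy⟩ := h x
    exact ⟨Y, f, y, hf, inferInstanceAs (Etale f.left), hy⟩

variable {Z X : Scheme.{u}} (i : Z ⟶ X)

theorem isLocallyFaithful_bc : (EtCoh.bc i).IsLocallyFaithful Z.smallEtaleTopology where
  functorPushforward_equalizer_mem {U V} f₁ f₂ h := by
    have hmem : (Sieve.equalizer f₁ f₂).functorPushforward (EtCoh.bc i)
        ((EtCoh.bc i).map (equalizer.ι f₁ f₂)) :=
      Sieve.image_mem_functorPushforward _ _ (equalizer.condition f₁ f₂)
    haveI : IsIso (equalizer.ι ((EtCoh.bc i).map f₁) ((EtCoh.bc i).map f₂)) :=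
      equalizer.ι_of_eq h
    haveI : IsIso ((EtCoh.bc i).map (equalizer.ι f₁ f₂)) := by
      rw [← equalizerComparison_comp_π f₁ f₂ (EtCoh.bc i)]
      infer_instance
    have htop : (Sieve.equalizer f₁ f₂).functorPushforward (EtCoh.bc i) = ⊤ := by
      rw [← Sieve.id_mem_iff_eq_top]
      have := Sieve.downward_closed _ hmem (inv ((EtCoh.bc i).map (equalizer.ι f₁ f₂)))
      rwa [IsIso.inv_hom_id] at this
    rw [htop]
    exact GrothendieckTopology.top_mem _ _

/-- the sieve of arrows whose source lies over the complement of `Z` -/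
def awaySieve (U : X.Etale) : Sieve U where
  arrows V _ := Disjoint (Set.range V.hom) (Set.range i)
  downward_closed := by
    intro V W g hg h
    refine Set.disjoint_of_subset_left ?_ hg
    rintro _ ⟨a, rfl⟩
    refine ⟨h.left a, ?_⟩
    have hw : h.left ≫ V.hom = W.hom := Over.w h.hom
    rw [← hw]
    rfl

lemma awaySieve_apply {U V : X.Etale} (g : V ⟶ U) :
    awaySieve i U g ↔ Disjoint (Set.range V.hom) (Set.range i) := Iff.rfl

set_option maxHeartbeats 1600000 in
/-- a covering sieve for the induced topology, enlarged by the part away from `Z`, is an étale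
covering sieve -/
theorem sup_awaySieve_mem [IsClosedImmersion i] (U : X.Etale) (S : Sieve U)
    (hS : S.functorPushforward (EtCoh.bc i) ∈ Z.smallEtaleTopology ((EtCoh.bc i).obj U)) :
    S ⊔ awaySieve i U ∈ X.smallEtaleTopology U := by
  rw [mem_smallEtale_iff]
  intro x
  by_cases hx : U.hom x ∈ Set.range i
  · obtain ⟨z, hz⟩ := hx
    obtain ⟨z', hz'1, -⟩ := Scheme.Pullback.exists_preimage_pullback (f := U.hom) (g := i) x z
      hz.symm
    obtain ⟨W, ψ, w, hψ, hw⟩ := (mem_smallEtale_iff Z _ _).1 hS z'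
    obtain ⟨U', k, χ, hk, rfl⟩ := hψ
    refine ⟨U', k, (pullback.fst U'.hom i) (χ.left w), Or.inl hk, ?_⟩
    have h1 := bc_map_fst i k
    have h2 : (χ ≫ (EtCoh.bc i).map k).left w = z' := hw
    have h3 : (χ ≫ (EtCoh.bc i).map k).left = χ.left ≫ ((EtCoh.bc i).map k).left := rfl
    rw [h3, Scheme.Hom.comp_apply] at h2
    have h4 := congr($h1 (χ.left w))
    rw [Scheme.Hom.comp_apply, Scheme.Hom.comp_apply, h2] at h4
    exact h4.symm.trans hz'1
  · let Oc : X.Opens := ⟨(Set.range i)ᶜ, i.isClosedEmbedding.isClosed_range.isOpen_compl⟩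
    let O : U.left.Opens := U.hom ⁻¹ᵁ Oc
    haveI : Etale (O.ι ≫ U.hom) := inferInstance
    let V : X.Etale := Scheme.Etale.mk (O.ι ≫ U.hom)
    let g : V ⟶ U := MorphismProperty.Over.homMk O.ι rfl trivial
    refine ⟨V, g, ⟨x, hx⟩, Or.inr ?_, rfl⟩
    rw [awaySieve_apply, Set.disjoint_left]
    rintro _ ⟨a, rfl⟩ ha
    have : (O.ι ≫ U.hom) a ∈ Oc := a.2
    exact this ha

set_option maxHeartbeats 1600000 in
/-- a sheaf vanishing away from `Z` is a sheaf for the topology induced from `Z` -/
theorem isSheaf_induced [IsClosedImmersion i] (F : EtCoh.Ab X)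
    (hF : ∀ U : X.Etale, Disjoint (Set.range U.hom) (Set.range i) →
      IsZero (F.obj.obj (op U))) :
    Presheaf.IsSheaf ((EtCoh.bc i).inducedTopology Z.smallEtaleTopology) F.obj := by
  classical
  haveI := isCoverDense_bc i
  haveI := isLocallyFull_bc i
  haveI := isLocallyFaithful_bc i
  rw [Presheaf.isSheaf_iff_isSheaf_forget _ _ (forget AddCommGrpCat.{u + 1}),
    isSheaf_iff_isSheaf_of_type]
  have hFs : Presieve.IsSheaf X.smallEtaleTopology (F.obj ⋙ forget AddCommGrpCat.{u + 1}) :=
    (isSheaf_iff_isSheaf_of_type _ _).mp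
      ((Presheaf.isSheaf_iff_isSheaf_forget _ _ (forget AddCommGrpCat)).mp F.property)
  intro U S hS
  rw [Functor.mem_inducedTopology_iff_of_isCoverDense] at hS
  have hcov := sup_awaySieve_mem i U S hS
  have hsub : ∀ {V : X.Etale} (g : V ⟶ U), awaySieve i U g →
      Subsingleton ((F.obj ⋙ forget AddCommGrpCat.{u + 1}).obj (op V)) := by
    intro V g hg
    exact AddCommGrpCat.subsingleton_of_isZero (hF V hg)
  intro x hx
  let x' : Presieve.FamilyOfElements (F.obj ⋙ forget AddCommGrpCat.{u + 1})
      (S ⊔ awaySieve i U).arrows :=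
    fun V g _ => if h : S g then x g h else (0 : F.obj.obj (op V))
  have hx' : x'.Compatible := by
    intro Y₁ Y₂ W g₁ g₂ f₁ f₂ h₁ h₂ hcomm
    by_cases hS1 : S f₁
    · by_cases hS2 : S f₂
      · simp only [x', dif_pos hS1, dif_pos hS2]
        exact hx g₁ g₂ hS1 hS2 hcomm
      · have hT : awaySieve i U f₂ := h₂.resolve_left hS2
        haveI := hsub (g₂ ≫ f₂) ((awaySieve i U).downward_closed hT g₂)
        exact Subsingleton.elim _ _
    · have hT : awaySieve i U f₁ := h₁.resolve_left hS1
      haveI := hsub (g₁ ≫ f₁) ((awaySieve i U).downward_closed hT g₁)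
      exact Subsingleton.elim _ _
  obtain ⟨t, ht, huniq⟩ := hFs (S ⊔ awaySieve i U) hcov x' hx'
  refine ⟨t, ?_, ?_⟩
  · intro V g hg
    have h1 := ht g (Or.inl hg)
    simp only [x', dif_pos hg] at h1
    exact h1
  · intro t' ht'
    apply huniq
    intro V g hg
    by_cases hSg : S g
    · simp only [x', dif_pos hSg]
      exact ht' g hSg
    · have hT : awaySieve i U g := hg.resolve_left hSg
      haveI := hsub g hT
      exact Subsingleton.elim _ _

/-- the base change of an étale scheme lying over the complement of `Z` is covered by the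
empty sieve -/
lemma bot_mem_of_disjoint (U : X.Etale) (hU : Disjoint (Set.range U.hom) (Set.range i)) :
    (⊥ : Sieve ((EtCoh.bc i).obj U)) ∈ Z.smallEtaleTopology ((EtCoh.bc i).obj U) := by
  rw [mem_smallEtale_iff]
  intro z
  exfalso
  have z' : ↥(pullback U.hom i) := z
  have hc := congr($(pullback.condition (f := U.hom) (g := i)) z')
  rw [Scheme.Hom.comp_apply, Scheme.Hom.comp_apply] at hc
  exact Set.disjoint_left.1 hU ⟨_, rfl⟩ ⟨_, hc.symm⟩

set_option maxHeartbeats 1600000 in
/-- **The essential image of `i_*`** for a closed immersion `i`. -/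
theorem essImage_push_iff [IsClosedImmersion i] (F : EtCoh.Ab X) :
    (EtCoh.push i).essImage F ↔
      ∀ U : X.Etale, Disjoint (Set.range U.hom) (Set.range i) →
        IsZero (F.obj.obj (op U)) := by
  constructor
  · rintro ⟨G, ⟨e⟩⟩ U hU
    have e1 : F.obj.obj (op U) ≅ G.obj.obj (op ((EtCoh.bc i).obj U)) :=
      ((sheafToPresheaf _ _).mapIso e.symm).app (op U)
    refine IsZero.of_iso ?_ e1
    exact (Sheaf.isTerminalOfBotCover G _ (bot_mem_of_disjoint i U hU)).isZero
  · intro hF
    haveI := isCoverDense_bc i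
    haveI := isLocallyFull_bc i
    haveI := isLocallyFaithful_bc i
    haveI : ∀ W, HasLimitsOfShape (StructuredArrow W (EtCoh.bc i).op) AddCommGrpCat.{u + 1} :=
      fun W => by
        haveI := hasLimitsOfSizeShrink.{u, u + 1, u + 1, u + 1} AddCommGrpCat.{u + 1}
        infer_instance
    let J' := (EtCoh.bc i).inducedTopology Z.smallEtaleTopology
    let F' : Sheaf J' AddCommGrpCat.{u + 1} := ⟨F.obj, isSheaf_induced i F hF⟩
    let Φ := (EtCoh.bc i).sheafPushforwardContinuous AddCommGrpCat.{u + 1} J' Z.smallEtaleTopology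
    haveI : Φ.IsEquivalence := inferInstance
    let G := Φ.objPreimage F'
    let e : Φ.obj G ≅ F' := Φ.objObjPreimageIso F'
    have e1 : (EtCoh.bc i).op ⋙ G.obj ≅ F.obj := (sheafToPresheaf _ _).mapIso e
    refine ⟨G, ⟨?_⟩⟩
    exact (fullyFaithfulSheafToPresheaf _ _).preimageIso e1

end Groth.Agent.Lib.Helper9.CIStalk
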