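import Mathlib

/-!
# Stalks of constant sheaves and of restrictions to `Over` sites (helper9)

* `stalkConstIso`: the stalk of a constant sheaf at a point of a site is the value;
* `stalkOverIso`: the stalk of `F.over U` at `Φ.over x` is the stalk of `F` at `Φ`.
-/

set_option autoImplicit false
set_option linter.style.haveILetI false
set_option backward.isDefEq.respectTransparency false
open CategoryTheory CategoryTheory.Limits Opposite
universe u

namespace Groth.Agent.Lib.Helper9.LccStalk

variable {C : Type (u + 1)} [Category.{u} C] {J : GrothendieckTopology C}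
  (Φ : GrothendieckTopology.Point.{u} J)

/-- the stalk of a constant presheaf -/
noncomputable def presheafFiberConstIso (M : AddCommGrpCat.{u + 1}) :
    (Φ.presheafFiber (A := AddCommGrpCat.{u + 1})).obj ((Functor.const Cᵒᵖ).obj M) ≅ M := by
  let e : (CategoryOfElements.π Φ.fiber).op ⋙ (Functor.const Cᵒᵖ).obj M ≅
      (Functor.const _).obj M := NatIso.ofComponents (fun _ => Iso.refl _)
  have hc : IsColimit ((Cocone.precompose e.hom).obj (constCocone Φ.fiber.Elementsᵒᵖ M)) :=
    (IsColimit.precomposeHomEquiv e _).symm (isColimitConstCocone _ M)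
  exact (Φ.isColimitPresheafFiberCocone _).coconePointUniqueUpToIso hc

/-- the stalk of a constant sheaf -/
noncomputable def stalkConstIso [HasWeakSheafify J AddCommGrpCat.{u + 1}]
    (M : AddCommGrpCat.{u + 1}) :
    (Φ.sheafFiber (A := AddCommGrpCat.{u + 1})).obj
      ((constantSheaf J AddCommGrpCat.{u + 1}).obj M) ≅ M :=
  (Φ.presheafToSheafCompSheafFiberIso AddCommGrpCat.{u + 1}).app ((Functor.const Cᵒᵖ).obj M) ≪≫
    presheafFiberConstIso Φ M

variable {U : C} (x : Φ.fiber.obj U)

/-- the comparison functor on categories of elements -/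
def elemFunctor : (Φ.over x).fiber.Elements ⥤ Φ.fiber.Elements :=
  (FunctorToTypes.fromOverFunctorElementsEquivalence Φ.fiber x).functor ⋙ Over.forget _

instance : (elemFunctor Φ x).Initial := by
  unfold elemFunctor
  infer_instance

/-- the stalk of the restriction of a presheaf to an `Over` site -/
noncomputable def presheafFiberOverIso (P : Cᵒᵖ ⥤ AddCommGrpCat.{u + 1}) :
    ((Φ.over x).presheafFiber (A := AddCommGrpCat.{u + 1})).obj ((Over.forget U).op ⋙ P) ≅
      (Φ.presheafFiber (A := AddCommGrpCat.{u + 1})).obj P := by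
  let e : (CategoryOfElements.π (Φ.over x).fiber).op ⋙ (Over.forget U).op ⋙ P ≅
      (elemFunctor Φ x).op ⋙ (CategoryOfElements.π Φ.fiber).op ⋙ P :=
    NatIso.ofComponents (fun _ => Iso.refl _) (by
      intro a b f
      simp only [Iso.refl_hom, Category.comp_id, Category.id_comp]
      rfl)
  exact HasColimit.isoOfNatIso e ≪≫
    Functor.Final.colimitIso (elemFunctor Φ x).op ((CategoryOfElements.π Φ.fiber).op ⋙ P)

/-- the stalk of the restriction of a sheaf to an `Over` site -/
noncomputable def stalkOverIso (F : Sheaf J AddCommGrpCat.{u + 1}) :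
    ((Φ.over x).sheafFiber (A := AddCommGrpCat.{u + 1})).obj (F.over U) ≅
      (Φ.sheafFiber (A := AddCommGrpCat.{u + 1})).obj F :=
  presheafFiberOverIso Φ x F.obj

end Groth.Agent.Lib.Helper9.LccStalk
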