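import Mathlib
import Groth.Prelude.Def_EtBase
import Groth.Agent.Lib.Helper9LccStalk
import Groth.Agent.Lib.Helper9CIEss

/-!
# Finite locally constant sheaves on a connected scheme (helper9)
-/

set_option autoImplicit false
set_option linter.style.haveILetI false
set_option backward.isDefEq.respectTransparency false
open CategoryTheory CategoryTheory.Limits AlgebraicGeometry Opposite
universe u

namespace Groth.Agent.Lib.Helper9.Lcc

open Groth.Agent.Lib.Helper9.LccStalk
open Groth.Agent.Lib.Helper9.CIStalk (mem_smallEtale_iff)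

variable {X : Scheme.{u}}

/-- the constant sheaf on an `Over` site of the small étale site -/
noncomputable abbrev constOver (U : X.Etale) (M : Type) [AddCommGroup M] :
    Sheaf (X.smallEtaleTopology.over U) AddCommGrpCat.{u + 1} :=
  (constantSheaf (X.smallEtaleTopology.over U) AddCommGrpCat.{u + 1}).obj
    (AddCommGrpCat.of (ULift.{u + 1} M))

set_option maxHeartbeats 800000 in
/-- the value group of a locally constant sheaf at a point is its stalk -/
theorem nonempty_stalk_iso (F : EtCoh.Ab X) (U : X.Etale) (M : Type) [AddCommGroup M]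
    (e : EtCoh.restr F U ≅ constOver U M)
    (Φ : GrothendieckTopology.Point.{u} X.smallEtaleTopology) (x : Φ.fiber.obj U) :
    Nonempty ((Φ.sheafFiber (A := AddCommGrpCat.{u + 1})).obj F ≅
      AddCommGrpCat.of (ULift.{u + 1} M)) := by
  have i1 := stalkOverIso Φ x F
  have i2 := ((Φ.over x).sheafFiber (A := AddCommGrpCat.{u + 1})).mapIso e
  have i3 := stalkConstIso (J := X.smallEtaleTopology.over U) (Φ.over x)
    (AddCommGrpCat.of (ULift.{u + 1} M))
  exact ⟨i1.symm ≪≫ i2 ≪≫ i3⟩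

set_option maxHeartbeats 800000 in
theorem nonempty_addEquiv_of_lifts (F : EtCoh.Ab X) {U V : X.Etale} (M N : Type)
    [AddCommGroup M] [AddCommGroup N] (eU : EtCoh.restr F U ≅ constOver U M)
    (eV : EtCoh.restr F V ≅ constOver V N)
    (Φ : GrothendieckTopology.Point.{u} X.smallEtaleTopology) (xu : Φ.fiber.obj U)
    (xv : Φ.fiber.obj V) : Nonempty (M ≃+ N) := by
  obtain ⟨i1⟩ := nonempty_stalk_iso F U M eU Φ xu
  obtain ⟨i2⟩ := nonempty_stalk_iso F V N eV Φ xv
  let i3 : AddCommGrpCat.of (ULift.{u + 1} M) ≅ AddCommGrpCat.of (ULift.{u + 1} N) :=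
    i1.symm ≪≫ i2
  exact ⟨AddEquiv.ulift.symm.trans (i3.addCommGroupIsoToAddEquiv.trans AddEquiv.ulift)⟩

theorem exists_geomPoint (x : X) :
    ∃ (Ω : Type u) (_ : Field Ω) (_ : IsSepClosed Ω) (ξ : Spec (CommRingCat.of Ω) ⟶ X),
      ξ default = x := by
  refine ⟨AlgebraicClosure (X.residueField x), inferInstance, inferInstance,
    Spec.map (CommRingCat.ofHom (algebraMap (X.residueField x)
      (AlgebraicClosure (X.residueField x)))) ≫ X.fromSpecResidueField x, ?_⟩
  rw [Scheme.Hom.comp_apply]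
  exact Scheme.fromSpecResidueField_apply _ _

theorem exists_common_lifts {U V : X.Etale} (u : U.left) (v : V.left)
    (huv : U.hom u = V.hom v) :
    ∃ (Φ : GrothendieckTopology.Point.{u} X.smallEtaleTopology), Nonempty (Φ.fiber.obj U) ∧
      Nonempty (Φ.fiber.obj V) := by
  obtain ⟨Ω, _, _, ξ, hξ⟩ := exists_geomPoint (U.hom u)
  obtain ⟨lu, hlu, -⟩ := Scheme.exists_fac_of_etale_of_isSepClosed U.hom ξ u hξ.symm
  obtain ⟨lv, hlv, -⟩ := Scheme.exists_fac_of_etale_of_isSepClosed V.hom ξ v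
    (huv.symm.trans hξ.symm)
  have xu : (Scheme.pointSmallEtale ξ).fiber.obj U := Over.homMk lu hlu
  have xv : (Scheme.pointSmallEtale ξ).fiber.obj V := Over.homMk lv hlv
  exact ⟨Scheme.pointSmallEtale ξ, ⟨xu⟩, ⟨xv⟩⟩

theorem nonempty_addEquiv_of_common_point (F : EtCoh.Ab X) {U V : X.Etale} (M N : Type)
    [AddCommGroup M] [AddCommGroup N] (eU : EtCoh.restr F U ≅ constOver U M)
    (eV : EtCoh.restr F V ≅ constOver V N) (u : U.left) (v : V.left) (huv : U.hom u = V.hom v) :
    Nonempty (M ≃+ N) := by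
  obtain ⟨Φ, ⟨xu⟩, ⟨xv⟩⟩ := exists_common_lifts u v huv
  exact nonempty_addEquiv_of_lifts F M N eU eV Φ xu xv

/-- sheaves on the `Over` site of an empty object are zero -/
theorem isZero_of_isEmpty (U : X.Etale) [IsEmpty U.left]
    (G : Sheaf (X.smallEtaleTopology.over U) AddCommGrpCat.{u + 1}) : IsZero G := by
  have hsub : ∀ Y : Over U, Subsingleton (G.obj.obj (op Y)) := by
    intro Y
    have hbot : (⊥ : Sieve Y) ∈ (X.smallEtaleTopology.over U) Y := by
      rw [GrothendieckTopology.mem_over_iff, map_bot, mem_smallEtale_iff]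
      intro y
      exact isEmptyElim (Y.hom.left y)
    refine ⟨fun a b => ?_⟩
    exact (Sheaf.isSeparated G) Y ⊥ hbot a b (fun Z f hf => hf.elim)
  rw [IsZero.iff_id_eq_zero]
  apply Sheaf.hom_ext
  ext Y a
  haveI := hsub Y.unop
  exact Subsingleton.elim _ _

/-- constant sheaves on isomorphic groups are isomorphic -/
noncomputable def constOverIso (U : X.Etale) {M N : Type} [AddCommGroup M] [AddCommGroup N]
    (e : M ≃+ N) : constOver U M ≅ constOver U N :=
  (constantSheaf (X.smallEtaleTopology.over U) AddCommGrpCat.{u + 1}).mapIso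
    (AddEquiv.toAddCommGrpIso (AddEquiv.ulift.trans (e.trans AddEquiv.ulift.symm)))

theorem main [ConnectedSpace X] (F : EtCoh.Ab X) (h : EtCoh.IsFiniteLocallyConstant F) :
    ∃ (M : Type) (_ : AddCommGroup M) (_ : Finite M) (ι : Type u) (U : ι → X.Etale),
      EtCoh.Covers U ∧ ∀ i, Nonempty (EtCoh.restr F (U i) ≅ constOver (U i) M) := by
  classical
  obtain ⟨ι, U, hcov, hU⟩ := h
  choose M hA hF e using hU
  letI : ∀ i, AddCommGroup (M i) := hA
  obtain ⟨x₀⟩ : Nonempty X := inferInstance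
  obtain ⟨i₀, y₀, hy₀⟩ := hcov x₀
  have key : ∀ i j (u : (U i).left) (v : (U j).left), (U i).hom u = (U j).hom v →
      Nonempty (M i ≃+ M j) := by
    intro i j u v huv
    obtain ⟨ei⟩ := e i
    obtain ⟨ej⟩ := e j
    exact nonempty_addEquiv_of_common_point F (M i) (M j) ei ej u v huv
  have hopen : ∀ i, IsOpen (Set.range (U i).hom) := fun i =>
    (U i).hom.isOpenMap.isOpen_range
  let A : Set X := ⋃ (i : ι) (_ : Nonempty (M i ≃+ M i₀)), Set.range (U i).hom
  let B : Set X := ⋃ (i : ι) (_ : ¬ Nonempty (M i ≃+ M i₀)), Set.range (U i).hom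
  have hAo : IsOpen A := isOpen_iUnion fun i => isOpen_iUnion fun _ => hopen i
  have hBo : IsOpen B := isOpen_iUnion fun i => isOpen_iUnion fun _ => hopen i
  have hcompl : Aᶜ = B := by
    ext x
    simp only [A, B, Set.mem_compl_iff, Set.mem_iUnion, Set.mem_range, not_exists]
    constructor
    · intro hx
      obtain ⟨i, y, hy⟩ := hcov x
      exact ⟨i, fun hi => hx i hi y hy, y, hy⟩
    · rintro ⟨j, hj, v, hv⟩ i hi u hu
      obtain ⟨e1⟩ := key j i v u (hv.trans hu.symm)
      obtain ⟨e2⟩ := hi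
      exact hj ⟨e1.trans e2⟩
  have hAc : IsClosed A := by
    rw [← isOpen_compl_iff, hcompl]
    exact hBo
  have hx₀ : x₀ ∈ A := by
    simp only [A, Set.mem_iUnion, Set.mem_range]
    exact ⟨i₀, ⟨AddEquiv.refl _⟩, y₀, hy₀⟩
  have hAuniv : A = Set.univ := (isClopen_iff.1 ⟨hAc, hAo⟩).resolve_left
    (Set.nonempty_iff_ne_empty.1 ⟨x₀, hx₀⟩)
  have hall : ∀ i, Nonempty (U i).left → Nonempty (M i ≃+ M i₀) := by
    rintro i ⟨y⟩
    have hmem : (U i).hom y ∈ A := hAuniv ▸ Set.mem_univ _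
    simp only [A, Set.mem_iUnion, Set.mem_range] at hmem
    obtain ⟨j, hj, v, hv⟩ := hmem
    obtain ⟨e1⟩ := key i j y v hv.symm
    obtain ⟨e2⟩ := hj
    exact ⟨e1.trans e2⟩
  refine ⟨M i₀, hA i₀, hF i₀, ι, U, hcov, fun i => ?_⟩
  by_cases hne : Nonempty (U i).left
  · obtain ⟨e1⟩ := hall i hne
    obtain ⟨ei⟩ := e i
    exact ⟨ei ≪≫ constOverIso (U i) e1⟩
  · haveI : IsEmpty (U i).left := not_nonempty_iff.1 hne
    exact ⟨(isZero_of_isEmpty (U i) _).iso (isZero_of_isEmpty (U i) _)⟩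

end Groth.Agent.Lib.Helper9.Lcc
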