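import Mathlib
import Groth.Prelude.Def_EtShriek2
import Groth.Agent.Lib.Helper9JContAll

/-!
# Pseudo-functoriality of extension by zero along étale morphisms (helper23)

* `restrAlongComp`, `extZeroComp`: `i_! ⋙ j_! ≅ (i ≫ j)_!`;
* `extZeroId`: `(𝟙)_! ≅ 𝟭`; `extZeroCongr`.
-/

set_option autoImplicit false
set_option backward.isDefEq.respectTransparency.types false
universe u
open CategoryTheory CategoryTheory.Limits AlgebraicGeometry Opposite

namespace Groth.Agent.Lib.Helper23ExtZeroFun

attribute [local instance] Groth.Agent.Lib.Helper9.JContAll.jCont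

variable {V U X : Scheme.{u}}

/-- composition of the site functors -/
noncomputable def compEtaleComp (i : V ⟶ U) (j : U ⟶ X) [hi : Etale i] [hj : Etale j] :
    EtShriek.compEtale i ⋙ EtShriek.compEtale j ≅ EtShriek.compEtale (i ≫ j) :=
  (MorphismProperty.Over.mapComp (P := EtCoh.etaleMP.{u}) (Q := ⊤) (f := i) hi (g := j) hj).symm

noncomputable def compEtaleId (Z : Scheme.{u}) : EtShriek.compEtale (𝟙 Z) ≅ 𝟭 _ :=
  MorphismProperty.Over.mapId (P := EtCoh.etaleMP.{u}) (Q := ⊤) Z

noncomputable def compEtaleCongr {j j' : U ⟶ X} [hj : Etale j] [hj' : Etale j'] (h : j = j') :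
    EtShriek.compEtale j ≅ EtShriek.compEtale j' :=
  MorphismProperty.Over.mapCongr (P := EtCoh.etaleMP.{u}) (Q := ⊤) h hj

noncomputable def restrAlongComp (i : V ⟶ U) (j : U ⟶ X) [Etale i] [Etale j] :
    EtShriek.restrAlong j ⋙ EtShriek.restrAlong i ≅ EtShriek.restrAlong (i ≫ j) :=
  Functor.sheafPushforwardContinuousComp' (F := EtShriek.compEtale i) (G := EtShriek.compEtale j)
    (FG := EtShriek.compEtale (i ≫ j)) (compEtaleComp i j) AddCommGrpCat.{u + 1}
    V.smallEtaleTopology U.smallEtaleTopology X.smallEtaleTopology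

noncomputable def restrAlongId (Z : Scheme.{u}) : EtShriek.restrAlong (𝟙 Z) ≅ 𝟭 _ :=
  Functor.sheafPushforwardContinuousId' (compEtaleId Z) AddCommGrpCat.{u + 1} Z.smallEtaleTopology

noncomputable def restrAlongCongr {j j' : U ⟶ X} [Etale j] [Etale j'] (h : j = j') :
    EtShriek.restrAlong j ≅ EtShriek.restrAlong j' :=
  Functor.sheafPushforwardContinuousIso (compEtaleCongr h) AddCommGrpCat.{u + 1}
    U.smallEtaleTopology X.smallEtaleTopology

noncomputable def extZeroComp (i : V ⟶ U) (j : U ⟶ X) [Etale i] [Etale j] :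
    EtShriek.extZero i ⋙ EtShriek.extZero j ≅ EtShriek.extZero (i ≫ j) :=
  Adjunction.leftAdjointUniq ((EtShriek.extZeroAdj i).comp (EtShriek.extZeroAdj j))
    ((EtShriek.extZeroAdj (i ≫ j)).ofNatIsoRight (restrAlongComp i j).symm)

noncomputable def extZeroId (Z : Scheme.{u}) : EtShriek.extZero (𝟙 Z) ≅ 𝟭 _ :=
  Adjunction.leftAdjointUniq ((EtShriek.extZeroAdj (𝟙 Z)).ofNatIsoRight (restrAlongId Z))
    Adjunction.id

noncomputable def extZeroCongr {j j' : U ⟶ X} [Etale j] [Etale j'] (h : j = j') :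
    EtShriek.extZero j ≅ EtShriek.extZero j' :=
  Adjunction.leftAdjointUniq ((EtShriek.extZeroAdj j).ofNatIsoRight (restrAlongCongr h))
    (EtShriek.extZeroAdj j')

end Groth.Agent.Lib.Helper23ExtZeroFun
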