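import Mathlib
import Groth.Agent.S6627

set_option autoImplicit false
set_option backward.isDefEq.respectTransparency.types false
universe u

namespace Groth.Agent.Lib.Helper23.PropB
open AlgebraicGeometry CategoryTheory Limits TopologicalSpace TensorProduct
open Groth.Agent.Lib.Helper20.ResFld

/-- one clopen finite piece of an étale `Q → P` over `V`, with a point alone in its fibre and purely
inseparable residue field extension, maps isomorphically onto a clopen piece of `P` near the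
fibre. -/
theorem piece {P V Q : Scheme.{u}} (p : P ⟶ V) [IsSeparated p] (Gt : Q ⟶ P) [Etale Gt]
    (W' : Q.Opens) [IsFinite (W'.ι ≫ Gt ≫ p)] (w' : Q) (hw' : w' ∈ W')
    (huniq : ∀ t ∈ W', p (Gt t) = p (Gt w') → t = w')
    (hpins : PInsep ((Gt ≫ p).residueFieldMap w').hom) :
    ∃ (Z : P.Opens) (O : Scheme.{u}) (m : O ⟶ Q) (Tz : Set V),
      IsClosed (Z : Set P) ∧ IsClosed Tz ∧ p (Gt w') ∉ Tz ∧ Gt w' ∈ Z ∧
      (∀ z ∈ Z, p z = p (Gt w') → z = Gt w') ∧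
      (∀ C : Set P, IsClosed C → IsClosed (p '' ((Z : Set P) ∩ C))) ∧
      IsOpenImmersion (m ≫ Gt) ∧ ∀ z ∈ Z, p z ∉ Tz → z ∈ Set.range (m ≫ Gt) := by
  let G : (W' : Scheme.{u}) ⟶ P := W'.ι ≫ Gt
  haveI : Etale G := inferInstance
  haveI : IsFinite (G ≫ p) := by
    have : G ≫ p = W'.ι ≫ Gt ≫ p := by simp only [G, Category.assoc]
    rw [this]; infer_instance
  haveI : IsFinite G := IsFinite.of_comp G p
  let w'₀ : ↥(W' : Scheme.{u}) := ⟨w', hw'⟩
  have hfib : ∀ z : ↥(W' : Scheme.{u}), G z = G w'₀ → z = w'₀ := by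
    intro z hz
    have h3 : W'.ι z = w' := huniq _ z.2 (congrArg p hz)
    exact Subtype.ext h3
  have hpi : (G.residueFieldMap w'₀).hom.IsPurelyInseparable := by
    have h1 : PInsep ((W'.ι ≫ Gt ≫ p).residueFieldMap w'₀).hom :=
      Groth.Agent.S6627.pInsep_comp_of_isOpenImmersion W'.ι (Gt ≫ p) w'₀ hpins
    have h2 : PInsep ((G ≫ p).residueFieldMap w'₀).hom :=
      Groth.Agent.S6627.pInsep_of_eq (by simp only [G, Category.assoc]) _ h1
    exact (pInsep_iff _).1 (Groth.Agent.S6627.pInsep_of_comp G _ _ h2)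
  obtain ⟨N, hwN, hopen⟩ := Groth.Agent.S6627.exists_isOpenImmersion_of_finite_etale G w'₀ hfib hpi
  let O : (W' : Scheme.{u}).Opens := G ⁻¹ᵁ N
  have hZopen : IsOpen (Set.range G) := G.isOpenMap.isOpen_range
  have hZclosed : IsClosed (Set.range G) := G.isClosedMap.isClosed_range
  let Z : P.Opens := ⟨Set.range G, hZopen⟩
  let T : Set V := (G ≫ p) '' (G ⁻¹' ((N : Set P)ᶜ))
  have hT : IsClosed T :=
    (G ≫ p).isClosedMap _ (N.isOpen.isClosed_compl.preimage G.continuous)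
  have hptT : p (Gt w') ∉ T := by
    rintro ⟨z, hz, hzpt⟩
    have hzw : z = w'₀ := by
      have h3 : W'.ι z = w' := huniq _ z.2 hzpt
      exact Subtype.ext h3
    subst hzw
    exact hz hwN
  refine ⟨Z, O, O.ι ≫ W'.ι, T, hZclosed, hT, hptT, ⟨w'₀, rfl⟩, ?_, ?_, ?_, ?_⟩
  · rintro _ ⟨t, rfl⟩ ht
    have : t = w'₀ := by
      have h3 : W'.ι t = w' := huniq _ t.2 ht
      exact Subtype.ext h3
    rw [this]; rfl
  · intro C hC
    have h1 : p '' ((Z : Set P) ∩ C) = (G ≫ p) '' (G ⁻¹' C) := by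
      ext y
      constructor
      · rintro ⟨_, ⟨⟨t, rfl⟩, htC⟩, rfl⟩
        exact ⟨t, htC, rfl⟩
      · rintro ⟨t, htC, rfl⟩
        exact ⟨G t, ⟨⟨t, rfl⟩, htC⟩, rfl⟩
    rw [h1]
    exact (G ≫ p).isClosedMap _ (hC.preimage G.continuous)
  · have : (O.ι ≫ W'.ι) ≫ Gt = O.ι ≫ G := by simp only [G, Category.assoc]
    rw [this]; exact hopen
  · rintro _ ⟨t, rfl⟩ hz
    have htN : G t ∈ N := by
      by_contra hcon
      exact hz ⟨t, hcon, rfl⟩
    exact ⟨⟨t, htN⟩, rfl⟩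


/-- local form of condition (B) for a single étale morphism `g`. -/
def LB {X Y U : Scheme.{u}} (f : X ⟶ Y) (g : U ⟶ X) (y : Y) : Prop :=
  ∃ (V' : Scheme.{u}) (v' : V' ⟶ Y) (_ : Etale v') (pt' : V'), v' pt' = y ∧
    ∃ (μ : Type u) (W : μ → (pullback f v').Opens), (∀ a b, a ≠ b → Disjoint (W a) (W b)) ∧
      (⨆ a, W a) = ⊤ ∧
      ∀ a, ∃ h : ((W a : (pullback f v').Opens) : Scheme.{u}) ⟶ U,
        h ≫ g = (W a).ι ≫ pullback.fst f v'

theorem lb_of_isFinite {X Y U : Scheme.{u}} (f : X ⟶ Y) [IsFinite f] (g : U ⟶ X) [Etale g]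
    [Surjective g] [IsSeparated (g ≫ f)] (y : Y) : LB f g y := by
  classical
  let F : U ⟶ Y := g ≫ f
  haveI : LocallyQuasiFinite g :=
    ((Groth.Agent.Lib.Helper6.SmQF.etale_iff_smooth_and_locallyQuasiFinite g).1 inferInstance).2
  haveI : IsSeparated F := ‹_›
  haveI : LocallyOfFiniteType F := inferInstance
  haveI : LocallyQuasiFinite F := inferInstance
  have hS₀ : (f ⁻¹' {y}).Finite := Scheme.Hom.finite_preimage_singleton f y
  choose ux hux using fun x : X => g.surjective x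
  let T : Set U := ux '' (f ⁻¹' {y})
  have hT : T.Finite := hS₀.image _
  have hTs : ∀ t ∈ T, F t = y ∧ F.QuasiFiniteAt t := by
    rintro _ ⟨x, hx, rfl⟩
    refine ⟨?_, F.quasiFiniteAt _⟩
    change f (g (ux x)) = y
    rw [hux]; exact hx
  obtain ⟨V, v, pt, hv, hvpt, -, Vz, -, H⟩ :=
    Groth.Agent.Lib.Helper20.EtSections.exists_etale_split_clopen F y T hT hTs
  haveI := hv
  let P := pullback f v
  let p : P ⟶ V := pullback.snd f v
  let Gt : pullback F v ⟶ P :=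
    (pullbackRightPullbackFstIso f v g).inv ≫ pullback.snd g (pullback.fst f v)
  haveI : Etale Gt := inferInstance
  have hGt_snd : Gt ≫ p = pullback.snd F v := pullbackRightPullbackFstIso_inv_snd_snd f v g
  have hGt_fst : Gt ≫ pullback.fst f v = pullback.fst F v ≫ g :=
    pullbackRightPullbackFstIso_inv_snd_fst f v g
  let μ : Type u := {z : ↥P // p z = pt}
  haveI : Finite μ := (Scheme.Hom.finite_preimage_singleton p pt).to_subtype
  have key : ∀ z : μ, ∃ w : ↥(pullback F v), pullback.snd F v w = pt ∧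
      pullback.fst F v w ∈ T ∧ Gt w = z.1 := by
    intro z
    let x := pullback.fst f v z.1
    have hx : f x = y := by
      have h1 : (pullback.fst f v ≫ f) z.1 = (pullback.snd f v ≫ v) z.1 := by
        rw [pullback.condition]
      have h2 : (pullback.snd f v ≫ v) z.1 = v (p z.1) := rfl
      rw [z.2, hvpt] at h2
      exact h1.trans h2
    obtain ⟨q, hq1, hq2⟩ := Scheme.Pullback.exists_preimage_pullback (f := g)
      (g := pullback.fst f v) (ux x) z.1 (hux x)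
    refine ⟨(pullbackRightPullbackFstIso f v g).hom q, ?_, ⟨x, hx, ?_⟩, ?_⟩
    · change ((pullbackRightPullbackFstIso f v g).hom ≫ pullback.snd F v) q = pt
      rw [pullbackRightPullbackFstIso_hom_snd]
      change p (pullback.snd g (pullback.fst f v) q) = pt
      rw [hq2]; exact z.2
    · change _ = ((pullbackRightPullbackFstIso f v g).hom ≫ pullback.fst F v) q
      rw [pullbackRightPullbackFstIso_hom_fst]
      exact hq1.symm
    · change ((pullbackRightPullbackFstIso f v g).hom ≫ Gt) q = z.1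
      simp only [Gt, Iso.hom_inv_id_assoc]
      exact hq2
  choose wz hwz1 hwz2 hwz3 using key
  have hpiece : ∀ z : μ, ∃ (Z : P.Opens) (O : Scheme.{u}) (m : O ⟶ pullback F v) (Tz : Set V),
      IsClosed (Z : Set P) ∧ IsClosed Tz ∧ pt ∉ Tz ∧ z.1 ∈ Z ∧
      (∀ z' ∈ Z, p z' = pt → z' = z.1) ∧
      (∀ C : Set P, IsClosed C → IsClosed (p '' ((Z : Set P) ∩ C))) ∧
      IsOpenImmersion (m ≫ Gt) ∧ ∀ z' ∈ Z, p z' ∉ Tz → z' ∈ Set.range (m ≫ Gt) := by
    intro z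
    obtain ⟨hmem, hclopen, hfin, huniq, hpins, -⟩ := H (wz z) (hwz1 z) (hwz2 z)
    haveI : IsFinite ((Vz (wz z)).ι ≫ Gt ≫ p) := by rw [hGt_snd]; exact hfin
    have hpw : p (Gt (wz z)) = pt := by rw [hwz3]; exact z.2
    obtain ⟨Z, O, m, Tz, h1, h2, h3, h4, h5, h6, h7, h8⟩ := piece p Gt (Vz (wz z)) (wz z) hmem
      (by
        intro t ht htp
        apply huniq t ht
        have : pullback.snd F v t = p (Gt t) := by rw [← hGt_snd]; rfl
        rw [this, htp, hpw])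
      (Groth.Agent.S6627.pInsep_of_eq hGt_snd.symm _ hpins)
    rw [hpw] at h3 h5
    rw [hwz3] at h4 h5
    exact ⟨Z, O, m, Tz, h1, h2, h3, h4, h5, h6, h7, h8⟩
  choose Z O m Tz hZc hTzc hptTz hzZ hZfib hZimg hmopen hZrange using hpiece
  -- closed subsets of `V` to be removed
  haveI : IsFinite p := inferInstance
  let R : Set ↥P := (⋃ z, (Z z : Set ↥P))ᶜ
  have hRclosed : IsClosed R := (isOpen_iUnion fun z => (Z z).isOpen).isClosed_compl
  let D₁ : Set ↥V := ⋃ z, Tz z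
  let D₂ : Set ↥V := ⋃ z, ⋃ z', ⋃ (_ : z ≠ z'), p '' ((Z z : Set ↥P) ∩ (Z z' : Set ↥P))
  let D₃ : Set ↥V := p '' R
  have hD₁ : IsClosed D₁ := isClosed_iUnion_of_finite hTzc
  have hD₂ : IsClosed D₂ := by
    refine isClosed_iUnion_of_finite fun z => isClosed_iUnion_of_finite fun z' => ?_
    by_cases hzz' : z = z'
    · simp [hzz']
    · simp only [ne_eq, hzz', not_false_eq_true, Set.iUnion_true]
      exact hZimg z _ (hZc z')
  have hD₃ : IsClosed D₃ := p.isClosedMap _ hRclosed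
  have hptD₁ : pt ∉ D₁ := by
    simp only [D₁, Set.mem_iUnion, not_exists]
    exact hptTz
  have hptD₂ : pt ∉ D₂ := by
    simp only [D₂, Set.mem_iUnion, not_exists]
    rintro z z' hzz' ⟨q, ⟨hq1, hq2⟩, hq⟩
    have e1 := hZfib z q hq1 hq
    have e2 := hZfib z' q hq2 hq
    exact hzz' (Subtype.ext (e1.symm.trans e2))
  have hptD₃ : pt ∉ D₃ := by
    rintro ⟨q, hqR, hq⟩
    apply hqR
    exact Set.mem_iUnion.2 ⟨⟨q, hq⟩, hzZ ⟨q, hq⟩⟩
  let V₀ : V.Opens := ⟨(D₁ ∪ D₂ ∪ D₃)ᶜ, ((hD₁.union hD₂).union hD₃).isOpen_compl⟩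
  have hptV₀ : pt ∈ V₀ := by
    change pt ∉ D₁ ∪ D₂ ∪ D₃
    simp only [Set.mem_union, not_or]
    exact ⟨⟨hptD₁, hptD₂⟩, hptD₃⟩
  let vf : (V₀ : Scheme.{u}) ⟶ Y := V₀.ι ≫ v
  let ρ : pullback f vf ⟶ P :=
    (pullbackLeftPullbackSndIso f v V₀.ι).inv ≫ pullback.fst (pullback.snd f v) V₀.ι
  have hρ_fst : ρ ≫ pullback.fst f v = pullback.fst f vf := by
    simp only [ρ, Category.assoc]
    exact pullbackLeftPullbackSndIso_inv_fst f v V₀.ι
  have hρ_snd : ρ ≫ p = pullback.snd f vf ≫ V₀.ι := by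
    simp only [ρ, Category.assoc]
    exact pullbackLeftPullbackSndIso_inv_fst_snd f v V₀.ι
  have hρV₀ : ∀ q : ↥(pullback f vf), p (ρ q) ∉ D₁ ∪ D₂ ∪ D₃ := by
    intro q
    have h1 : p (ρ q) = V₀.ι (pullback.snd f vf q) := by
      change (ρ ≫ p) q = _
      rw [hρ_snd]; rfl
    rw [h1]
    exact (pullback.snd f vf q).2
  let W : μ → (pullback f vf).Opens := fun z => ρ ⁻¹ᵁ (Z z)
  refine ⟨V₀, vf, inferInstance, ⟨pt, hptV₀⟩, hvpt, μ, W, ?_, ?_, ?_⟩
  · intro a b hab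
    rw [disjoint_iff]
    ext q
    simp only [Opens.coe_inf, Set.mem_inter_iff, SetLike.mem_coe, Opens.coe_bot,
      Set.mem_empty_iff_false, iff_false, not_and]
    intro ha hb
    apply hρV₀ q
    refine Or.inl (Or.inr ?_)
    exact Set.mem_iUnion.2 ⟨a, Set.mem_iUnion.2 ⟨b, Set.mem_iUnion.2 ⟨hab, ρ q, ⟨ha, hb⟩, rfl⟩⟩⟩
  · rw [eq_top_iff]
    intro q _
    by_contra hcon
    apply hρV₀ q
    refine Or.inr ⟨ρ q, ?_, rfl⟩
    intro hmem
    obtain ⟨z, hz⟩ := Set.mem_iUnion.1 hmem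
    exact hcon (Opens.mem_iSup.2 ⟨z, hz⟩)
  · intro z
    haveI : IsOpenImmersion (m z ≫ Gt) := hmopen z
    have hrange : Set.range ((W z).ι ≫ ρ) ⊆ Set.range (m z ≫ Gt) := by
      rintro _ ⟨q, rfl⟩
      refine hZrange z _ q.2 ?_
      intro hq
      apply hρV₀ ((W z).ι q)
      exact Or.inl (Or.inl (Set.mem_iUnion.2 ⟨z, hq⟩))
    let l : ((W z : (pullback f vf).Opens) : Scheme.{u}) ⟶ O z :=
      IsOpenImmersion.lift (m z ≫ Gt) ((W z).ι ≫ ρ) hrange
    have hl : l ≫ m z ≫ Gt = (W z).ι ≫ ρ := IsOpenImmersion.lift_fac _ _ _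
    refine ⟨l ≫ m z ≫ pullback.fst F v, ?_⟩
    calc (l ≫ m z ≫ pullback.fst F v) ≫ g = l ≫ m z ≫ (pullback.fst F v ≫ g) := by
          simp only [Category.assoc]
      _ = (l ≫ m z ≫ Gt) ≫ pullback.fst f v := by rw [← hGt_fst]; simp only [Category.assoc]
      _ = (W z).ι ≫ pullback.fst f vf := by rw [hl, Category.assoc, hρ_fst]

/-- descent of an étale morphism to a finite level, scheme form -/
theorem exists_finite_model' {X₁ Y₁ U₁ : Scheme.{u}} [IsAffine X₁] [IsAffine Y₁] [IsAffine U₁]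
    (f₁ : X₁ ⟶ Y₁) [IsIntegralHom f₁] (g₁ : U₁ ⟶ X₁) [Etale g₁] :
    ∃ (X' U' : Scheme.{u}) (f' : X' ⟶ Y₁) (c : X₁ ⟶ X') (g' : U' ⟶ X') (b : U₁ ⟶ U'),
      IsFinite f' ∧ Etale g' ∧ c ≫ f' = f₁ ∧ IsPullback b g₁ g' c ∧ IsAffine U' ∧
      Function.Surjective c := by
  let A := Γ(Y₁, ⊤)
  let B := Γ(X₁, ⊤)
  let C := Γ(U₁, ⊤)
  let φ : A ⟶ B := f₁.appTop
  let ψ : B ⟶ C := g₁.appTop
  have hφ : φ.hom.IsIntegral :=
    ((HasAffineProperty.iff_of_isAffine (P := @IsIntegralHom)).1 ‹IsIntegralHom f₁›).2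
  have hψ : ψ.hom.Etale := (HasRingHomProperty.iff_of_isAffine (P := @Etale)).1 ‹Etale g₁›
  algebraize [φ.hom, ψ.hom]
  obtain ⟨B₀, C₀, _, _, hB₀fg, hC₀et, ⟨e⟩⟩ := Algebra.Etale.exists_subalgebra_fg A B C
  haveI : Algebra.IsIntegral A B₀ :=
    Algebra.IsIntegral.of_injective B₀.val Subtype.val_injective
  haveI : Algebra.FiniteType A B₀ := (Subalgebra.fg_iff_finiteType B₀).mp hB₀fg
  haveI : Module.Finite A B₀ := Algebra.IsIntegral.finite
  let X' : Scheme.{u} := Spec (.of B₀)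
  let U' : Scheme.{u} := Spec (.of C₀)
  let g' : U' ⟶ X' := Spec.map (CommRingCat.ofHom (algebraMap B₀ C₀))
  have hg' : Etale g' := HasRingHomProperty.Spec_iff.mpr (RingHom.etale_algebraMap.mpr hC₀et)
  let f' : X' ⟶ Y₁ := Spec.map (CommRingCat.ofHom (algebraMap A B₀)) ≫ Y₁.isoSpec.inv
  haveI : IsFinite (Spec.map (CommRingCat.ofHom (algebraMap A B₀))) :=
    (IsFinite.SpecMap_iff _).mpr (RingHom.finite_algebraMap.mpr ‹_›)
  have hf' : IsFinite f' := inferInstance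
  let c : X₁ ⟶ X' := X₁.isoSpec.hom ≫ Spec.map (CommRingCat.ofHom (algebraMap B₀ B))
  have hc : c ≫ f' = f₁ := by
    have h1 : CommRingCat.ofHom (algebraMap A B₀) ≫ CommRingCat.ofHom (algebraMap B₀ B) = φ := by
      ext a
      rfl
    simp only [c, f', Category.assoc]
    rw [← Spec.map_comp_assoc, h1, Scheme.isoSpec_hom_naturality_assoc, Iso.hom_inv_id,
      Category.comp_id]
  let β : C₀ →+* C := (e.symm.toAlgHom.toRingHom).comp
    (Algebra.TensorProduct.includeRight (R := B₀) (A := B) (B := C₀)).toRingHom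
  let b : U₁ ⟶ U' := U₁.isoSpec.hom ≫ Spec.map (CommRingCat.ofHom β)
  have hcsurj : Function.Surjective c := by
    haveI : Algebra.IsIntegral B₀ B := Algebra.IsIntegral.tower_top (R := A)
    haveI : FaithfulSMul B₀ B :=
      (faithfulSMul_iff_algebraMap_injective B₀ B).mpr Subtype.val_injective
    have h1 : Function.Surjective (Spec.map (CommRingCat.ofHom (algebraMap B₀ B))) :=
      Algebra.IsIntegral.comap_surjective B₀ B
    have h2 : Function.Surjective X₁.isoSpec.hom :=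
      (ConcreteCategory.bijective_of_isIso (X₁.isoSpec.hom.base)).2
    exact h1.comp h2
  refine ⟨X', U', f', c, g', b, hf', hg', hc, ?_, inferInstance, hcsurj⟩
  have hpo := CommRingCat.isPushout_tensorProduct B₀ B C₀
  have hpb0 := (isPullback_SpecMap_of_isPushout _ _ _ _ hpo).flip
  let eC : CommRingCat.of C ≅ CommRingCat.of (B ⊗[B₀] C₀) := e.toRingEquiv.toCommRingCatIso
  let e₁ : Spec (.of (B ⊗[B₀] C₀)) ≅ U₁ := Scheme.Spec.mapIso eC.op ≪≫ U₁.isoSpec.symm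
  refine hpb0.of_iso e₁ (Iso.refl _) X₁.isoSpec.symm (Iso.refl _) ?_ ?_ ?_ ?_
  · have h1 : CommRingCat.ofHom β ≫ eC.hom =
        CommRingCat.ofHom (Algebra.TensorProduct.includeRight (R := B₀) (A := B) (B := C₀)).toRingHom := by
      ext x
      change e (e.symm (Algebra.TensorProduct.includeRight x)) = _
      rw [AlgEquiv.apply_symm_apply]
      rfl
    simp only [Iso.refl_hom, Category.comp_id, e₁, b, Iso.trans_hom, Iso.symm_hom, Category.assoc,
      Iso.inv_hom_id_assoc, Functor.mapIso_hom, Iso.op_hom, Scheme.Spec_map, Quiver.Hom.unop_op]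
    rw [← Spec.map_comp, h1]
  · have h2 : ψ ≫ eC.hom =
        CommRingCat.ofHom (Algebra.TensorProduct.includeLeftRingHom (R := B₀) (A := B) (B := C₀)) := by
      ext x
      change e (algebraMap B C x) = _
      rw [e.commutes]
      rfl
    simp only [e₁, Iso.trans_hom, Iso.symm_hom, Category.assoc, Functor.mapIso_hom, Iso.op_hom,
      Scheme.Spec_map, Quiver.Hom.unop_op]
    rw [← Scheme.isoSpec_inv_naturality, ← Spec.map_comp_assoc, h2]
  · simp; rfl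
  · simp [c]


/-- transfer of `LB`: if `f₁ = c ≫ f'` and `g₁` is the base change of `g'` along `c`. -/
theorem lb_of_isPullback {X₁ X' Y₁ U₁ U' : Scheme.{u}} (f₁ : X₁ ⟶ Y₁) (g₁ : U₁ ⟶ X₁) (y : Y₁)
    (f' : X' ⟶ Y₁) (c : X₁ ⟶ X') (hc : c ≫ f' = f₁) (g' : U' ⟶ X') (b : U₁ ⟶ U')
    (hpb : IsPullback b g₁ g' c) (H : LB f' g' y) : LB f₁ g₁ y := by
  obtain ⟨V, v, hv, pt, hpt, μ, W', hdisj, hcov, hh'⟩ := H
  let θ : pullback f₁ v ⟶ pullback f' v :=
    pullback.map f₁ v f' v c (𝟙 V) (𝟙 Y₁) (by simp [hc]) (by simp)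
  have hθ_fst : θ ≫ pullback.fst f' v = pullback.fst f₁ v ≫ c := pullback.lift_fst _ _ _
  refine ⟨V, v, hv, pt, hpt, μ, fun a => θ ⁻¹ᵁ W' a, ?_, ?_, ?_⟩
  · intro a b hab
    have := hdisj a b hab
    rw [disjoint_iff] at this ⊢
    ext q
    simp only [Opens.coe_inf, Set.mem_inter_iff, SetLike.mem_coe, Opens.coe_bot,
      Set.mem_empty_iff_false, iff_false, not_and]
    intro ha hb
    have hmem : θ q ∈ W' a ⊓ W' b := ⟨ha, hb⟩
    rw [this] at hmem
    exact hmem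
  · rw [eq_top_iff]
    intro q _
    have hmem : θ q ∈ ⨆ a, W' a := by rw [hcov]; trivial
    obtain ⟨a, ha⟩ := Opens.mem_iSup.1 hmem
    exact Opens.mem_iSup.2 ⟨a, ha⟩
  · intro a
    obtain ⟨h', hh'a⟩ := hh' a
    have hcomm : ((θ ∣_ W' a) ≫ h') ≫ g' = ((θ ⁻¹ᵁ W' a).ι ≫ pullback.fst f₁ v) ≫ c := by
      rw [Category.assoc, hh'a, ← Category.assoc, morphismRestrict_ι, Category.assoc, hθ_fst,
        Category.assoc]
    exact ⟨hpb.lift ((θ ∣_ W' a) ≫ h') ((θ ⁻¹ᵁ W' a).ι ≫ pullback.fst f₁ v) hcomm,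
      hpb.lift_snd _ _ _⟩

/-- transfer of `LB` along an étale base change of the target. -/
theorem lb_of_baseChange {X Y U Y₁ U₁ : Scheme.{u}} (f : X ⟶ Y) (g : U ⟶ X)
    (j : Y₁ ⟶ Y) [Etale j] (g₁ : U₁ ⟶ pullback f j) (k : U₁ ⟶ U)
    (hk : k ≫ g = g₁ ≫ pullback.fst f j) (y₁ : Y₁)
    (H : LB (pullback.snd f j) g₁ y₁) : LB f g (j y₁) := by
  obtain ⟨V, v, hv, pt, hpt, μ, W₁, hdisj, hcov, hh₁⟩ := H
  let e := pullbackLeftPullbackSndIso f j v
  refine ⟨V, v ≫ j, inferInstance, pt, ?_, μ, fun a => e.inv ⁻¹ᵁ W₁ a, ?_, ?_, ?_⟩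
  · change j (v pt) = j y₁
    rw [hpt]
  · intro a b hab
    have := hdisj a b hab
    rw [disjoint_iff] at this ⊢
    ext q
    simp only [Opens.coe_inf, Set.mem_inter_iff, SetLike.mem_coe, Opens.coe_bot,
      Set.mem_empty_iff_false, iff_false, not_and]
    intro ha hb
    have hmem : e.inv q ∈ W₁ a ⊓ W₁ b := ⟨ha, hb⟩
    rw [this] at hmem
    exact hmem
  · rw [eq_top_iff]
    intro q _
    have hmem : e.inv q ∈ ⨆ a, W₁ a := by rw [hcov]; trivial
    obtain ⟨a, ha⟩ := Opens.mem_iSup.1 hmem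
    exact Opens.mem_iSup.2 ⟨a, ha⟩
  · intro a
    obtain ⟨h₁, hh₁a⟩ := hh₁ a
    refine ⟨(e.inv ∣_ W₁ a) ≫ h₁ ≫ k, ?_⟩
    calc ((e.inv ∣_ W₁ a) ≫ h₁ ≫ k) ≫ g = (e.inv ∣_ W₁ a) ≫ (h₁ ≫ g₁) ≫ pullback.fst f j := by
          simp only [Category.assoc, hk]
      _ = ((e.inv ∣_ W₁ a) ≫ (W₁ a).ι) ≫ pullback.fst _ _ ≫ pullback.fst f j := by
          rw [hh₁a]; simp only [Category.assoc]
      _ = (e.inv ⁻¹ᵁ W₁ a).ι ≫ pullback.fst f (v ≫ j) := by
          rw [morphismRestrict_ι, Category.assoc]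
          congr 1
          exact pullbackLeftPullbackSndIso_inv_fst f j v

/-- `LB` for an integral morphism of affine schemes and a surjective étale morphism from an affine
scheme. -/
theorem lb_of_isIntegralHom_of_isAffine {X₁ Y₁ U₁ : Scheme.{u}} [IsAffine X₁] [IsAffine Y₁]
    [IsAffine U₁] (f₁ : X₁ ⟶ Y₁) [IsIntegralHom f₁] (g₁ : U₁ ⟶ X₁) [Etale g₁] [Surjective g₁]
    (y : Y₁) : LB f₁ g₁ y := by
  obtain ⟨X', U', f', c, g', b, hf', hg', hc, hpb, hU', hcs⟩ := exists_finite_model' f₁ g₁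
  refine lb_of_isPullback f₁ g₁ y f' c hc g' b hpb ?_
  haveI : Surjective g' := by
    constructor
    intro x'
    obtain ⟨x₁, rfl⟩ := hcs x'
    obtain ⟨u₁, rfl⟩ := g₁.surjective x₁
    refine ⟨b u₁, ?_⟩
    change (b ≫ g') u₁ = (g₁ ≫ c) u₁
    rw [hpb.w]
  haveI : IsSeparated (g' ≫ f') := inferInstance
  exact lb_of_isFinite f' g' y

end Groth.Agent.Lib.Helper23.PropB
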