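import Mathlib
import Groth.Agent.Lib.Helper23PropB

set_option autoImplicit false
set_option backward.isDefEq.respectTransparency.types false
universe u

namespace Groth.Agent.Lib.Helper23.FinStalkA
open AlgebraicGeometry CategoryTheory Limits TopologicalSpace
open Groth.Agent.Lib.Helper20.ResFld

/-- two geometric points with the same image point, with purely inseparable residue field extension
over the base, and equal composite to the base, are equal -/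
theorem geo_ext {P V : Scheme.{u}} (q : P ⟶ V) (w : P) (hpi : PInsep (q.residueFieldMap w).hom)
    {Ω : Type u} [Field Ω] (ω ω' : Spec (CommRingCat.of Ω) ⟶ P)
    (h1 : ω default = w) (h2 : ω' default = w) (h : ω ≫ q = ω' ≫ q) : ω = ω' := by
  obtain ⟨⟨w₁, a⟩, rfl⟩ := (Scheme.SpecToEquivOfField Ω P).symm.surjective ω
  obtain ⟨⟨w₂, a'⟩, rfl⟩ := (Scheme.SpecToEquivOfField Ω P).symm.surjective ω'
  have e1 : w₁ = w := by
    rw [← h1]
    simp [Scheme.SpecToEquivOfField]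
  have e2 : w₂ = w := by
    rw [← h2]
    simp [Scheme.SpecToEquivOfField]
  subst e1
  subst e2
  dsimp [Scheme.SpecToEquivOfField] at h ⊢
  congr 1
  simp only [Category.assoc, ← Scheme.Hom.SpecMap_residueFieldMap_fromSpecResidueField] at h
  rw [← Category.assoc, ← Category.assoc, cancel_mono, ← Spec.map_comp, ← Spec.map_comp] at h
  have h3 := Spec.map_injective h
  congr 1
  rw [pInsep_iff] at hpi
  letI := (q.residueFieldMap w₂).hom.toAlgebra
  have h4 := IsPurelyInseparable.injective_comp_algebraMap (V.residueField (q w₂))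
    (P.residueField w₂) Ω (a₁ := a.hom) (a₂ := a'.hom) (by
      have := congrArg CommRingCat.Hom.hom h3
      exact this)
  ext x
  exact congrArg (fun m => m x) h4

end Groth.Agent.Lib.Helper23.FinStalkA

namespace Groth.Agent.Lib.Helper23.FinStalkA
open AlgebraicGeometry CategoryTheory Limits TopologicalSpace
open Groth.Agent.Lib.Helper20.ResFld

variable {Ω : Type u} [Field Ω]

/-- pointed form of condition (A) for one geometric point, for a given clopen piece `W` -/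
def GoodW {X Y U V : Scheme.{u}} (f : X ⟶ Y) (g : U ⟶ X) (u : Spec (CommRingCat.of Ω) ⟶ U)
    (p : V ⟶ Y) (v : Spec (CommRingCat.of Ω) ⟶ V) (W : (pullback f p).Opens) : Prop :=
  IsClosed (W : Set ↥(pullback f p)) ∧
  ∃ (h : (W : Scheme.{u}) ⟶ U) (ω : Spec (CommRingCat.of Ω) ⟶ (W : Scheme.{u})),
    h ≫ g = W.ι ≫ pullback.fst f p ∧ ω ≫ h = u ∧ ω ≫ W.ι ≫ pullback.snd f p = v

/-- pointed form of condition (A) for one geometric point -/
def Good {X Y U V : Scheme.{u}} (f : X ⟶ Y) (g : U ⟶ X) (u : Spec (CommRingCat.of Ω) ⟶ U)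
    (p : V ⟶ Y) (v : Spec (CommRingCat.of Ω) ⟶ V) : Prop :=
  ∃ W : (pullback f p).Opens, GoodW f g u p v W

theorem exists_good [IsSepClosed Ω] {X Y U : Scheme.{u}} (f : X ⟶ Y) [IsSeparated f]
    [LocallyQuasiFinite f] [LocallyOfFiniteType f] (g : U ⟶ X) [Etale g]
    (u : Spec (CommRingCat.of Ω) ⟶ U) :
    ∃ (V : Scheme.{u}) (p : V ⟶ Y) (_ : Etale p) (v : Spec (CommRingCat.of Ω) ⟶ V),
      v ≫ p = u ≫ g ≫ f ∧ Good f g u p v := by
  obtain ⟨V, p, hp, W, hW, h, hh, w, hw⟩ := Groth.Agent.S6627.result f U g (u default)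
  haveI := hp
  haveI : Etale (W.ι ≫ pullback.fst f p) := inferInstance
  haveI : Etale (h ≫ g) := by rw [hh]; infer_instance
  haveI : Etale h := Etale.of_comp h g
  obtain ⟨ω, hω, -⟩ := Scheme.exists_fac_of_etale_of_isSepClosed h u w hw
  refine ⟨V, p, hp, ω ≫ W.ι ≫ pullback.snd f p, ?_, W, hW, h, ω, hh, hω, rfl⟩
  rw [Category.assoc, Category.assoc, ← pullback.condition, ← Category.assoc W.ι, ← hh,
    Category.assoc, ← Category.assoc ω, hω]

/-- the map between base changes of `f` induced by a map of bases -/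
noncomputable def bcMap {X Y V V' : Scheme.{u}} (f : X ⟶ Y) (p : V ⟶ Y) (p' : V' ⟶ Y) (φ : V' ⟶ V)
    (hφ : φ ≫ p = p') : pullback f p' ⟶ pullback f p :=
  pullback.map f p' f p (𝟙 X) φ (𝟙 Y) (by simp) (by simp [hφ])

lemma bcMap_fst {X Y V V' : Scheme.{u}} (f : X ⟶ Y) (p : V ⟶ Y) (p' : V' ⟶ Y) (φ : V' ⟶ V)
    (hφ : φ ≫ p = p') : bcMap f p p' φ hφ ≫ pullback.fst f p = pullback.fst f p' :=
  (pullback.lift_fst _ _ _).trans (Category.comp_id _)

lemma bcMap_snd {X Y V V' : Scheme.{u}} (f : X ⟶ Y) (p : V ⟶ Y) (p' : V' ⟶ Y) (φ : V' ⟶ V)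
    (hφ : φ ≫ p = p') : bcMap f p p' φ hφ ≫ pullback.snd f p = pullback.snd f p' ≫ φ :=
  pullback.lift_snd _ _ _

/-- the geometric point of a clopen piece is the expected point of the fibre product -/
lemma goodW_point {X Y U V : Scheme.{u}} {f : X ⟶ Y} {g : U ⟶ X}
    {u : Spec (CommRingCat.of Ω) ⟶ U} {p : V ⟶ Y} {v : Spec (CommRingCat.of Ω) ⟶ V}
    {W : (pullback f p).Opens} {h : (W : Scheme.{u}) ⟶ U}
    {ω : Spec (CommRingCat.of Ω) ⟶ (W : Scheme.{u})}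
    (hh : h ≫ g = W.ι ≫ pullback.fst f p) (hω : ω ≫ h = u)
    (hωv : ω ≫ W.ι ≫ pullback.snd f p = v) (hc : (u ≫ g) ≫ f = v ≫ p) :
    ω ≫ W.ι = pullback.lift (u ≫ g) v hc := by
  apply pullback.hom_ext
  · rw [Category.assoc, pullback.lift_fst, ← hh, ← Category.assoc, hω]
  · rw [Category.assoc, pullback.lift_snd, hωv]

theorem goodW_refine {X Y U V V' : Scheme.{u}} (f : X ⟶ Y) (g : U ⟶ X)
    (u : Spec (CommRingCat.of Ω) ⟶ U) (p : V ⟶ Y) (v : Spec (CommRingCat.of Ω) ⟶ V)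
    (W : (pullback f p).Opens)
    (hG : GoodW f g u p v W) (p' : V' ⟶ Y) (v' : Spec (CommRingCat.of Ω) ⟶ V') (φ : V' ⟶ V)
    (hφ : φ ≫ p = p') (hv : v' ≫ φ = v) (hvp : v ≫ p = u ≫ g ≫ f) :
    GoodW f g u p' v' ((bcMap f p p' φ hφ) ⁻¹ᵁ W) := by
  obtain ⟨hW, h, ω, hh, hω, hωv⟩ := hG
  let Φ : pullback f p' ⟶ pullback f p := bcMap f p p' φ hφ
  have hΦ1 : Φ ≫ pullback.fst f p = pullback.fst f p' := bcMap_fst f p p' φ hφ
  have hΦ2 : Φ ≫ pullback.snd f p = pullback.snd f p' ≫ φ := bcMap_snd f p p' φ hφ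
  let W' : (pullback f p').Opens := Φ ⁻¹ᵁ W
  have hW' : IsClosed (W' : Set ↥(pullback f p')) := hW.preimage Φ.continuous
  have hcond : (u ≫ g) ≫ f = v' ≫ p' := by
    rw [← hφ, ← Category.assoc, hv, hvp, Category.assoc]
  let pt : Spec (CommRingCat.of Ω) ⟶ pullback f p' := pullback.lift (u ≫ g) v' hcond
  have hptΦ : pt ≫ Φ = ω ≫ W.ι := by
    apply pullback.hom_ext
    · rw [Category.assoc, hΦ1, pullback.lift_fst, Category.assoc, ← hh, ← Category.assoc, hω]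
    · rw [Category.assoc, hΦ2, ← Category.assoc, pullback.lift_snd, hv, Category.assoc, hωv]
  have hrange : Set.range pt ⊆ Set.range W'.ι := by
    rintro _ ⟨a, rfl⟩
    rw [Scheme.Opens.range_ι]
    change Φ (pt a) ∈ W
    have h1 : Φ (pt a) = (pt ≫ Φ) a := rfl
    rw [h1, hptΦ]
    exact (ω a).2
  let ω' : Spec (CommRingCat.of Ω) ⟶ (W' : Scheme.{u}) := IsOpenImmersion.lift W'.ι pt hrange
  have hω' : ω' ≫ W'.ι = pt := IsOpenImmersion.lift_fac _ _ _
  have hres : ω' ≫ (Φ ∣_ W) = ω := by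
    rw [← cancel_mono W.ι, Category.assoc, morphismRestrict_ι, ← Category.assoc, hω', hptΦ]
  refine ⟨hW', (Φ ∣_ W) ≫ h, ω', ?_, ?_, ?_⟩
  · rw [Category.assoc, hh, ← Category.assoc, morphismRestrict_ι, Category.assoc, hΦ1]
  · rw [← Category.assoc, hres, hω]
  · rw [← Category.assoc, hω', pullback.lift_snd]

theorem good_refine {X Y U V V' : Scheme.{u}} (f : X ⟶ Y) (g : U ⟶ X)
    (u : Spec (CommRingCat.of Ω) ⟶ U) (p : V ⟶ Y) (v : Spec (CommRingCat.of Ω) ⟶ V)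
    (hG : Good f g u p v) (p' : V' ⟶ Y) (v' : Spec (CommRingCat.of Ω) ⟶ V') (φ : V' ⟶ V)
    (hφ : φ ≫ p = p') (hv : v' ≫ φ = v) (hvp : v ≫ p = u ≫ g ≫ f) : Good f g u p' v' := by
  obtain ⟨W, hW⟩ := hG
  exact ⟨_, goodW_refine f g u p v W hW p' v' φ hφ hv hvp⟩

theorem goodW_shrink {X Y U V : Scheme.{u}} (f : X ⟶ Y) (g : U ⟶ X)
    (u : Spec (CommRingCat.of Ω) ⟶ U) (p : V ⟶ Y) (v : Spec (CommRingCat.of Ω) ⟶ V)
    (W W' : (pullback f p).Opens) (hG : GoodW f g u p v W) (hle : W' ≤ W)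
    (hW' : IsClosed (W' : Set ↥(pullback f p))) (hvp : v ≫ p = u ≫ g ≫ f)
    (hpt : (pullback.lift (u ≫ g) v (by rw [Category.assoc, hvp])) default ∈ W') :
    GoodW f g u p v W' := by
  obtain ⟨hW, h, ω, hh, hω, hωv⟩ := hG
  have hc : (u ≫ g) ≫ f = v ≫ p := by rw [Category.assoc, hvp]
  have hωpt := goodW_point hh hω hωv hc
  let pt : Spec (CommRingCat.of Ω) ⟶ pullback f p := pullback.lift (u ≫ g) v hc
  have hrange : Set.range pt ⊆ Set.range W'.ι := by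
    rintro _ ⟨a, rfl⟩
    rw [Scheme.Opens.range_ι]
    rw [Subsingleton.elim a default]
    exact hpt
  let ω' : Spec (CommRingCat.of Ω) ⟶ (W' : Scheme.{u}) := IsOpenImmersion.lift W'.ι pt hrange
  have hω' : ω' ≫ W'.ι = pt := IsOpenImmersion.lift_fac _ _ _
  have hres : ω' ≫ (pullback f p).homOfLE hle = ω := by
    rw [← cancel_mono W.ι, Category.assoc, Scheme.homOfLE_ι, hω', hωpt]
  refine ⟨hW', (pullback f p).homOfLE hle ≫ h, ω', ?_, ?_, ?_⟩
  · rw [Category.assoc, hh, ← Category.assoc, Scheme.homOfLE_ι]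
  · rw [← Category.assoc, hres, hω]
  · rw [← Category.assoc, hω', pullback.lift_snd]

theorem exists_good_all [IsSepClosed Ω] {X Y : Scheme.{u}} (f : X ⟶ Y) [IsSeparated f]
    [LocallyQuasiFinite f] [LocallyOfFiniteType f] (η : Spec (CommRingCat.of Ω) ⟶ Y)
    {ι : Type*} (S : Finset ι) (U : ι → Scheme.{u}) (g : ∀ i, U i ⟶ X) [∀ i, Etale (g i)]
    (u : ∀ i, Spec (CommRingCat.of Ω) ⟶ U i) (hu : ∀ i, u i ≫ g i ≫ f = η)
    {V₀ : Scheme.{u}} (p₀ : V₀ ⟶ Y) [Etale p₀] (v₀ : Spec (CommRingCat.of Ω) ⟶ V₀)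
    (hv₀ : v₀ ≫ p₀ = η) :
    ∃ (V : Scheme.{u}) (p : V ⟶ Y) (_ : Etale p) (v : Spec (CommRingCat.of Ω) ⟶ V) (φ : V ⟶ V₀),
      φ ≫ p₀ = p ∧ v ≫ φ = v₀ ∧ v ≫ p = η ∧ ∀ i ∈ S, Good f (g i) (u i) p v := by
  classical
  induction S using Finset.induction_on with
  | empty =>
    exact ⟨V₀, p₀, inferInstance, v₀, 𝟙 _, Category.id_comp _, Category.comp_id _, hv₀,
      fun i hi => absurd hi (Finset.notMem_empty i)⟩
  | insert a S _ ih =>
    obtain ⟨V, p, hp, v, φ, h1, h2, h3, h4⟩ := ih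
    obtain ⟨Va, pa, hpa, va, hva, hGa⟩ := exists_good f (g a) (u a)
    haveI := hp
    haveI := hpa
    have hva' : va ≫ pa = η := hva.trans (hu a)
    let V' := pullback p pa
    let p' : V' ⟶ Y := pullback.fst p pa ≫ p
    let v' : Spec (CommRingCat.of Ω) ⟶ V' := pullback.lift v va (h3.trans hva'.symm)
    refine ⟨V', p', inferInstance, v', pullback.fst p pa ≫ φ, ?_, ?_, ?_, ?_⟩
    · rw [Category.assoc, h1]
    · rw [← Category.assoc, pullback.lift_fst, h2]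
    · rw [← Category.assoc, pullback.lift_fst, h3]
    · intro i hi
      rcases Finset.mem_insert.1 hi with rfl | hi
      · exact good_refine f (g i) (u i) pa va hGa p' v' (pullback.snd p pa)
          pullback.condition.symm (pullback.lift_snd _ _ _) hva
      · exact good_refine f (g i) (u i) p v (h4 i hi) p' v' (pullback.fst p pa) rfl
          (pullback.lift_fst _ _ _) (h3.trans (hu i).symm)


/-- over an algebraically closed field, every point of a finite `V`-scheme over the image of a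
geometric point `v` of `V` is the image of a geometric point over `v` -/
theorem exists_geo_lift [IsAlgClosed Ω] {P V : Scheme.{u}} (q : P ⟶ V) [IsFinite q]
    (v : Spec (CommRingCat.of Ω) ⟶ V) (c : P) (hc : q c = v default) :
    ∃ ω : Spec (CommRingCat.of Ω) ⟶ P, ω ≫ q = v ∧ ω default = c := by
  obtain ⟨c', h1, h2⟩ := Scheme.Pullback.exists_preimage_pullback (f := q) (g := v) c default hc
  let sQ : pullback q v ⟶ Spec (CommRingCat.of Ω) := pullback.snd q v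
  haveI : IsFinite sQ := inferInstance
  have hdisc : _root_.IsDiscrete (sQ ⁻¹' {sQ c'}) := sQ.isDiscrete_preimage_singleton _
  have huniv : sQ ⁻¹' {sQ c'} = Set.univ := by
    ext z
    simp only [Set.mem_preimage, Set.mem_singleton_iff, Set.mem_univ, iff_true]
    exact Subsingleton.elim _ _
  rw [huniv] at hdisc
  haveI : DiscreteTopology ↥(pullback q v) := by
    rw [isDiscrete_iff_discreteTopology] at hdisc
    haveI := hdisc
    exact (Homeomorph.Set.univ ↥(pullback q v)).discreteTopology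
  have hclosed : IsClosed ({c'} : Set ↥(pullback q v)) := isClosed_discrete _
  refine ⟨pointOfClosedPoint sQ c' hclosed ≫ pullback.fst q v, ?_, ?_⟩
  · rw [Category.assoc, pullback.condition, ← Category.assoc, pointOfClosedPoint_comp,
      Category.id_comp]
  · rw [Scheme.Hom.comp_apply, pointOfClosedPoint_apply, h1]


/-- separation of the geometric points above `η` by clopen pieces after an étale base change -/
theorem exists_sep [IsAlgClosed Ω] {X Y : Scheme.{u}} (f : X ⟶ Y) [IsFinite f]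
    (η : Spec (CommRingCat.of Ω) ⟶ Y) :
    Finite {ξ : Spec (CommRingCat.of Ω) ⟶ X // ξ ≫ f = η} ∧
    ∃ (V₁ : Scheme.{u}) (p₁ : V₁ ⟶ Y) (_ : Etale p₁) (v₁ : Spec (CommRingCat.of Ω) ⟶ V₁)
      (hv₁ : v₁ ≫ p₁ = η)
      (Z : {ξ : Spec (CommRingCat.of Ω) ⟶ X // ξ ≫ f = η} → (pullback f p₁).Opens),
      (∀ ξ, IsClosed (Z ξ : Set ↥(pullback f p₁))) ∧
      (∀ a b, a ≠ b → Disjoint (Z a) (Z b)) ∧
      ∀ ξ : {ξ : Spec (CommRingCat.of Ω) ⟶ X // ξ ≫ f = η},
        (pullback.lift ξ.1 v₁ (ξ.2.trans hv₁.symm)) default ∈ Z ξ := by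
  classical
  let y : Y := η default
  have hS₀ : (f ⁻¹' {y}).Finite := Scheme.Hom.finite_preimage_singleton f y
  have hTs : ∀ t ∈ f ⁻¹' {y}, f t = y ∧ f.QuasiFiniteAt t := fun t ht => ⟨ht, f.quasiFiniteAt t⟩
  obtain ⟨V₁, p₁, pt₁, hp₁, hpt₁, -, Vz, hdisj, H⟩ :=
    Groth.Agent.Lib.Helper20.EtSections.exists_etale_split_clopen f y (f ⁻¹' {y}) hS₀ hTs
  haveI := hp₁
  obtain ⟨v₁, hv₁, hv₁pt⟩ := Scheme.exists_fac_of_etale_of_isSepClosed p₁ η pt₁ hpt₁
  let P₁ := pullback f p₁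
  let pt1 : {ξ : Spec (CommRingCat.of Ω) ⟶ X // ξ ≫ f = η} → (Spec (CommRingCat.of Ω) ⟶ P₁) :=
    fun ξ => pullback.lift ξ.1 v₁ (ξ.2.trans hv₁.symm)
  let w : {ξ : Spec (CommRingCat.of Ω) ⟶ X // ξ ≫ f = η} → ↥P₁ := fun ξ => pt1 ξ default
  have hw_snd : ∀ ξ, pullback.snd f p₁ (w ξ) = pt₁ := by
    intro ξ
    change (pt1 ξ ≫ pullback.snd f p₁) default = pt₁
    rw [pullback.lift_snd]; exact hv₁pt
  have hw_fst : ∀ ξ, pullback.fst f p₁ (w ξ) ∈ f ⁻¹' {y} := by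
    intro ξ
    change f ((pt1 ξ ≫ pullback.fst f p₁) default) = y
    rw [pullback.lift_fst]
    change (ξ.1 ≫ f) default = y
    rw [ξ.2]
  have hw_inj : Function.Injective w := by
    intro a b hab
    obtain ⟨-, -, -, -, hpins, -⟩ := H (w a) (hw_snd a) (hw_fst a)
    have h1 : pt1 a = pt1 b := by
      refine geo_ext (pullback.snd f p₁) (w a) hpins (pt1 a) (pt1 b) rfl hab.symm ?_
      rw [pullback.lift_snd, pullback.lift_snd]
    apply Subtype.ext
    have h2 : pt1 a ≫ pullback.fst f p₁ = pt1 b ≫ pullback.fst f p₁ := by rw [h1]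
    rwa [pullback.lift_fst, pullback.lift_fst] at h2
  refine ⟨?_, V₁, p₁, hp₁, v₁, hv₁, fun ξ => Vz (w ξ), ?_, ?_, ?_⟩
  · haveI : Finite {z : ↥P₁ // pullback.snd f p₁ z = pt₁} :=
      (Scheme.Hom.finite_preimage_singleton (pullback.snd f p₁) pt₁).to_subtype
    exact Finite.of_injective (fun ξ => (⟨w ξ, hw_snd ξ⟩ : {z : ↥P₁ // pullback.snd f p₁ z = pt₁}))
      (fun a b hab => hw_inj (congrArg Subtype.val hab))
  · intro ξ
    exact (H (w ξ) (hw_snd ξ) (hw_fst ξ)).2.1.isClosed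
  · intro a b hab
    rw [disjoint_iff]
    ext q
    simp only [Opens.coe_inf, Set.mem_inter_iff, SetLike.mem_coe, Opens.coe_bot,
      Set.mem_empty_iff_false, iff_false, not_and]
    intro ha hb
    exact hab (hw_inj (hdisj (w a) (w b) (hw_snd a) (hw_fst a) (hw_snd b) (hw_fst b) ⟨q, ha, hb⟩))
  · intro ξ
    exact (H (w ξ) (hw_snd ξ) (hw_fst ξ)).1


/-- **Local structure of a finite morphism at a geometric point.** Given étale neighbourhoods
`(U ξ, u ξ)` of all the geometric points `ξ` above `η`, there is an étale neighbourhood `(V, v)` of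
`η` over which `X` splits into disjoint clopen pieces `W ξ`, each containing the geometric point
`(ξ, v)` and mapping to `U ξ` compatibly with the geometric points. -/
theorem exists_split_nbhd [IsAlgClosed Ω] {X Y : Scheme.{u}} (f : X ⟶ Y) [IsFinite f]
    (η : Spec (CommRingCat.of Ω) ⟶ Y)
    (U : {ξ : Spec (CommRingCat.of Ω) ⟶ X // ξ ≫ f = η} → Scheme.{u})
    (g : ∀ ξ, U ξ ⟶ X) [∀ ξ, Etale (g ξ)]
    (u : ∀ ξ, Spec (CommRingCat.of Ω) ⟶ U ξ) (hu : ∀ ξ, u ξ ≫ g ξ = ξ.1) :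
    ∃ (V : Scheme.{u}) (p : V ⟶ Y) (_ : Etale p) (v : Spec (CommRingCat.of Ω) ⟶ V), v ≫ p = η ∧
      ∃ W : {ξ : Spec (CommRingCat.of Ω) ⟶ X // ξ ≫ f = η} → (pullback f p).Opens,
        (∀ a b, a ≠ b → Disjoint (W a) (W b)) ∧ (⨆ a, W a) = ⊤ ∧
        ∀ ξ, GoodW f (g ξ) (u ξ) p v (W ξ) := by
  classical
  obtain ⟨hfin, V₁, p₁, hp₁, v₁, hv₁, Z, hZc, hZd, hZpt⟩ := exists_sep f η
  haveI := hp₁
  haveI := hfin
  letI : Fintype {ξ : Spec (CommRingCat.of Ω) ⟶ X // ξ ≫ f = η} := Fintype.ofFinite _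
  have huf : ∀ ξ : {ξ : Spec (CommRingCat.of Ω) ⟶ X // ξ ≫ f = η}, u ξ ≫ g ξ ≫ f = η := by
    intro ξ
    rw [← Category.assoc, hu ξ, ξ.2]
  obtain ⟨V, p, hp, v, φ, hφ, hvφ, hvp, hG⟩ :=
    exists_good_all f η (Finset.univ) U g u huf p₁ v₁ hv₁
  haveI := hp
  choose W0 hW0 using fun ξ => hG ξ (Finset.mem_univ ξ)
  let Φ : pullback f p ⟶ pullback f p₁ := bcMap f p₁ p φ hφ
  let W1 : {ξ : Spec (CommRingCat.of Ω) ⟶ X // ξ ≫ f = η} → (pullback f p).Opens :=
    fun ξ => W0 ξ ⊓ Φ ⁻¹ᵁ (Z ξ)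
  have hvp' : ∀ ξ : {ξ : Spec (CommRingCat.of Ω) ⟶ X // ξ ≫ f = η}, v ≫ p = u ξ ≫ g ξ ≫ f :=
    fun ξ => hvp.trans (huf ξ).symm
  have hcξ : ∀ ξ : {ξ : Spec (CommRingCat.of Ω) ⟶ X // ξ ≫ f = η}, (u ξ ≫ g ξ) ≫ f = v ≫ p :=
    fun ξ => by rw [Category.assoc, hvp' ξ]
  have hW1c : ∀ ξ, IsClosed (W1 ξ : Set ↥(pullback f p)) := by
    intro ξ
    exact (hW0 ξ).1.inter ((hZc ξ).preimage Φ.continuous)
  have hpt1 : ∀ ξ, (pullback.lift (u ξ ≫ g ξ) v (hcξ ξ)) default ∈ W1 ξ := by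
    intro ξ
    obtain ⟨-, h, ω, hh, hω, hωv⟩ := hW0 ξ
    have hωpt := goodW_point hh hω hωv (hcξ ξ)
    refine ⟨?_, ?_⟩
    · rw [← hωpt]
      exact (ω default).2
    · change Φ ((pullback.lift (u ξ ≫ g ξ) v (hcξ ξ)) default) ∈ Z ξ
      have h1 : pullback.lift (u ξ ≫ g ξ) v (hcξ ξ) ≫ Φ =
          pullback.lift ξ.1 v₁ (ξ.2.trans hv₁.symm) := by
        apply pullback.hom_ext
        · rw [Category.assoc, bcMap_fst, pullback.lift_fst, pullback.lift_fst, hu ξ]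
        · rw [Category.assoc, bcMap_snd, ← Category.assoc, pullback.lift_snd, pullback.lift_snd,
            hvφ]
      have h2 : Φ ((pullback.lift (u ξ ≫ g ξ) v (hcξ ξ)) default) =
          (pullback.lift (u ξ ≫ g ξ) v (hcξ ξ) ≫ Φ) default := rfl
      rw [h2, h1]
      exact hZpt ξ
  have hG1 : ∀ ξ, GoodW f (g ξ) (u ξ) p v (W1 ξ) := fun ξ =>
    goodW_shrink f (g ξ) (u ξ) p v (W0 ξ) (W1 ξ) (hW0 ξ) inf_le_left (hW1c ξ) (hvp' ξ) (hpt1 ξ)
  have hW1d : ∀ a b, a ≠ b → Disjoint (W1 a) (W1 b) := by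
    intro a b hab
    rw [disjoint_iff]
    ext q
    simp only [Opens.coe_inf, Set.mem_inter_iff, SetLike.mem_coe, Opens.coe_bot,
      Set.mem_empty_iff_false, iff_false, not_and]
    intro ha hb
    have h1 : Φ q ∈ Z a := ha.2
    have h2 : Φ q ∈ Z b := hb.2
    have h3 := hZd a b hab
    rw [disjoint_iff] at h3
    have h4 : Φ q ∈ Z a ⊓ Z b := ⟨h1, h2⟩
    rw [h3] at h4
    exact h4
  -- the closed set to remove
  let sP : pullback f p ⟶ V := pullback.snd f p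
  haveI : IsFinite sP := inferInstance
  let C : Set ↥(pullback f p) := (⋃ ξ, (W1 ξ : Set ↥(pullback f p)))ᶜ
  have hCc : IsClosed C := (isOpen_iUnion fun ξ => (W1 ξ).isOpen).isClosed_compl
  let D : Set ↥V := sP '' C
  have hDc : IsClosed D := sP.isClosedMap _ hCc
  have hvD : v default ∉ D := by
    rintro ⟨c, hcC, hc⟩
    obtain ⟨ω, hω1, hω2⟩ := exists_geo_lift sP v c hc
    have hξ : (ω ≫ pullback.fst f p) ≫ f = η := by
      rw [Category.assoc, pullback.condition, ← Category.assoc, hω1, hvp]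
    let ξ : {ξ : Spec (CommRingCat.of Ω) ⟶ X // ξ ≫ f = η} := ⟨ω ≫ pullback.fst f p, hξ⟩
    have h1 : ω = pullback.lift (u ξ ≫ g ξ) v (hcξ ξ) := by
      apply pullback.hom_ext
      · rw [pullback.lift_fst, hu ξ]
      · rw [pullback.lift_snd]; exact hω1
    apply hcC
    refine Set.mem_iUnion.2 ⟨ξ, ?_⟩
    rw [← hω2, h1]
    exact hpt1 ξ
  let V₀ : V.Opens := ⟨Dᶜ, hDc.isOpen_compl⟩
  have hrange : Set.range v ⊆ Set.range V₀.ι := by
    rintro _ ⟨a, rfl⟩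
    rw [Scheme.Opens.range_ι, Subsingleton.elim a default]
    exact hvD
  let v₀ : Spec (CommRingCat.of Ω) ⟶ (V₀ : Scheme.{u}) := IsOpenImmersion.lift V₀.ι v hrange
  have hv₀ : v₀ ≫ V₀.ι = v := IsOpenImmersion.lift_fac _ _ _
  let p₀ : (V₀ : Scheme.{u}) ⟶ Y := V₀.ι ≫ p
  let ρ : pullback f p₀ ⟶ pullback f p := bcMap f p p₀ V₀.ι rfl
  refine ⟨V₀, p₀, inferInstance, v₀, ?_, fun ξ => ρ ⁻¹ᵁ (W1 ξ), ?_, ?_, ?_⟩
  · rw [← Category.assoc, hv₀, hvp]
  · intro a b hab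
    rw [disjoint_iff]
    ext q
    simp only [Opens.coe_inf, Set.mem_inter_iff, SetLike.mem_coe, Opens.coe_bot,
      Set.mem_empty_iff_false, iff_false, not_and]
    intro ha hb
    have h3 := hW1d a b hab
    rw [disjoint_iff] at h3
    have h4 : ρ q ∈ W1 a ⊓ W1 b := ⟨ha, hb⟩
    rw [h3] at h4
    exact h4
  · rw [eq_top_iff]
    intro q _
    by_contra hcon
    have h1 : sP (ρ q) = V₀.ι (pullback.snd f p₀ q) := by
      change (ρ ≫ pullback.snd f p) q = _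
      rw [bcMap_snd]; rfl
    have h2 : sP (ρ q) ∉ D := by
      rw [h1]
      exact (pullback.snd f p₀ q).2
    apply h2
    refine ⟨ρ q, ?_, rfl⟩
    intro hmem
    obtain ⟨ξ, hξ⟩ := Set.mem_iUnion.1 hmem
    exact hcon (Opens.mem_iSup.2 ⟨ξ, hξ⟩)
  · intro ξ
    exact goodW_refine f (g ξ) (u ξ) p v (W1 ξ) (hG1 ξ) p₀ v₀ V₀.ι rfl hv₀ (hvp' ξ)

end Groth.Agent.Lib.Helper23.FinStalkA
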