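import Mathlib
import Groth.Agent.Lib.Helper23FinStalkA
import Groth.Agent.Lib.Helper16EtGlue

set_option autoImplicit false
set_option backward.isDefEq.respectTransparency false
universe u v' u' w'

namespace Groth.Agent.Lib.Helper23.FinStalkB
open AlgebraicGeometry CategoryTheory Limits TopologicalSpace Opposite
open Groth.Agent.Lib.Helper23.FinStalkA Groth.Agent.Lib.Helper16.SmallEtale
  Groth.Agent.Lib.Helper16.EtGlue

variable {X Y : Scheme.{u}} (f : X ⟶ Y) {Ω : Type u} [Field Ω] [IsSepClosed Ω]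
  (η : Spec (CommRingCat.of Ω) ⟶ Y)

/-- a geometric point of `V` over `η` and a geometric point `ξ` of `X` over `η` give a geometric
point of `V ×_Y X` over `ξ` -/
noncomputable def liftPt (ξ : Spec (CommRingCat.of Ω) ⟶ X) (hξ : ξ ≫ f = η) (V : Y.Etale)
    (v : (Scheme.pointSmallEtale η).fiber.obj V) :
    (Scheme.pointSmallEtale ξ).fiber.obj ((EtCoh.bc f).obj V) :=
  Over.homMk (pullback.lift v.left ξ ((Over.w v).trans hξ.symm)) (by
    change pullback.lift v.left ξ _ ≫ pullback.snd V.hom f = ξ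
    exact pullback.lift_snd _ _ _)

lemma liftPt_left (ξ : Spec (CommRingCat.of Ω) ⟶ X) (hξ : ξ ≫ f = η) (V : Y.Etale)
    (v : (Scheme.pointSmallEtale η).fiber.obj V) :
    (liftPt f η ξ hξ V v).left = pullback.lift v.left ξ ((Over.w v).trans hξ.symm) := rfl

lemma liftPt_map (ξ : Spec (CommRingCat.of Ω) ⟶ X) (hξ : ξ ≫ f = η) {V V' : Y.Etale} (k : V' ⟶ V)
    (v' : (Scheme.pointSmallEtale η).fiber.obj V') :
    (Scheme.pointSmallEtale ξ).fiber.map ((EtCoh.bc f).map k) (liftPt f η ξ hξ V' v') =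
      liftPt f η ξ hξ V ((Scheme.pointSmallEtale η).fiber.map k v') := by
  apply Over.OverMorphism.ext
  have hw : (v'.left ≫ k.left) ≫ V.hom = ξ ≫ f := by
    rw [Category.assoc]
    have : k.left ≫ V.hom = V'.hom := Over.w k.hom
    rw [this]
    exact (Over.w v').trans hξ.symm
  change pullback.lift v'.left ξ ((Over.w v').trans hξ.symm) ≫ ((EtCoh.bc f).map k).left =
    pullback.lift (v'.left ≫ k.left) ξ hw
  apply pullback.hom_ext
  · exact (Category.assoc _ _ _).trans ((congrArg (_ ≫ ·) (bc_map_left_fst f k)).trans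
      ((Category.assoc _ _ _).symm.trans ((congrArg (· ≫ k.left) (pullback.lift_fst _ _ _)).trans
        (pullback.lift_fst _ _ _).symm)))
  · exact (Category.assoc _ _ _).trans ((congrArg (_ ≫ ·) (bc_map_left_snd f k)).trans
      ((pullback.lift_snd _ _ _).trans (pullback.lift_snd _ _ _).symm))


section theta

variable {A : Type u'} [Category.{v'} A] [HasColimitsOfSize.{u, u} A]

/-- the canonical map from the stalk of `f_* P` at `η` to the stalk of `P` at a geometric point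
`ξ` above `η` -/
noncomputable def theta (ξ : Spec (CommRingCat.of Ω) ⟶ X) (hξ : ξ ≫ f = η) (P : X.Etaleᵒᵖ ⥤ A) :
    (Scheme.pointSmallEtale η).presheafFiber.obj ((EtCoh.bc f).op ⋙ P) ⟶
      (Scheme.pointSmallEtale ξ).presheafFiber.obj P :=
  (Scheme.pointSmallEtale η).presheafFiberDesc
    (fun V v => (Scheme.pointSmallEtale ξ).toPresheafFiber ((EtCoh.bc f).obj V)
      (liftPt f η ξ hξ V v) P)
    (by
      intro V' V k v'
      have h1 := (Scheme.pointSmallEtale ξ).toPresheafFiber_w ((EtCoh.bc f).map k)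
        (liftPt f η ξ hξ V' v') P
      rw [liftPt_map] at h1
      exact h1)

@[reassoc (attr := simp)]
lemma toPresheafFiber_theta (ξ : Spec (CommRingCat.of Ω) ⟶ X) (hξ : ξ ≫ f = η)
    (P : X.Etaleᵒᵖ ⥤ A) (V : Y.Etale) (v : (Scheme.pointSmallEtale η).fiber.obj V) :
    (Scheme.pointSmallEtale η).toPresheafFiber V v ((EtCoh.bc f).op ⋙ P) ≫ theta f η ξ hξ P =
      (Scheme.pointSmallEtale ξ).toPresheafFiber ((EtCoh.bc f).obj V) (liftPt f η ξ hξ V v) P :=
  (Scheme.pointSmallEtale η).toPresheafFiber_presheafFiberDesc _ _ V v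

/-- naturality of `theta` in the presheaf -/
lemma theta_naturality (ξ : Spec (CommRingCat.of Ω) ⟶ X) (hξ : ξ ≫ f = η)
    {P Q : X.Etaleᵒᵖ ⥤ A} (a : P ⟶ Q) :
    (Scheme.pointSmallEtale η).presheafFiber.map (Functor.whiskerLeft (EtCoh.bc f).op a) ≫
      theta f η ξ hξ Q =
    theta f η ξ hξ P ≫ (Scheme.pointSmallEtale ξ).presheafFiber.map a := by
  apply (Scheme.pointSmallEtale η).presheafFiber_hom_ext
  intro V v
  rw [GrothendieckTopology.Point.toPresheafFiber_naturality_assoc, toPresheafFiber_theta,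
    toPresheafFiber_theta_assoc, GrothendieckTopology.Point.toPresheafFiber_naturality]
  rfl

end theta


section pieces

/-- an open of a scheme isomorphic to the underlying scheme of `B`, as an object of `X.Etale` -/
noncomputable def pieceObj {X : Scheme.{u}} (B : X.Etale) {Q : Scheme.{u}} (e : Q ≅ B.left)
    (W : Q.Opens) : X.Etale :=
  Scheme.Etale.mk (W.ι ≫ e.hom ≫ B.hom)

/-- the inclusion of a piece -/
noncomputable def pieceMap {X : Scheme.{u}} (B : X.Etale) {Q : Scheme.{u}} (e : Q ≅ B.left)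
    (W : Q.Opens) : pieceObj B e W ⟶ B :=
  MorphismProperty.Over.homMk (W.ι ≫ e.hom) (by simp [pieceObj]) trivial

lemma pieceMap_left {X : Scheme.{u}} (B : X.Etale) {Q : Scheme.{u}} (e : Q ≅ B.left)
    (W : Q.Opens) : (pieceMap B e W).left = W.ι ≫ e.hom := rfl

lemma pieceObj_hom {X : Scheme.{u}} (B : X.Etale) {Q : Scheme.{u}} (e : Q ≅ B.left)
    (W : Q.Opens) : (pieceObj B e W).hom = W.ι ≫ e.hom ≫ B.hom := rfl

/-- gluing sections over a disjoint open cover of (a scheme isomorphic to) `B.left` -/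
lemma exists_unique_glue_pieces {X : Scheme.{u}} (F : X.Etaleᵒᵖ ⥤ Type w')
    (hF : Presieve.IsSheaf X.smallEtaleTopology F) (B : X.Etale) {Q : Scheme.{u}}
    (e : Q ≅ B.left) {μ : Type*} (W : μ → Q.Opens)
    (hd : ∀ a b, a ≠ b → Disjoint (W a) (W b)) (hc : (⨆ a, W a) = ⊤)
    (t : ∀ a, F.obj (op (pieceObj B e (W a)))) :
    ∃! s : F.obj (op B), ∀ a, F.map (pieceMap B e (W a)).op s = t a := by
  refine exists_unique_glue F hF (fun a => pieceObj B e (W a)) (fun a => pieceMap B e (W a))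
    ?_ ?_ ?_ t
  · intro a
    rw [pieceMap_left]
    infer_instance
  · intro a b hab x y hxy
    rw [pieceMap_left, pieceMap_left, Scheme.Hom.comp_apply, Scheme.Hom.comp_apply] at hxy
    have hinj : Function.Injective e.hom := (e.hom.homeomorph).injective
    have h1 := hinj hxy
    have h2 := hd a b hab
    rw [disjoint_iff] at h2
    have h3 : (W a).ι x ∈ W a ⊓ W b := ⟨x.2, h1 ▸ y.2⟩
    rw [h2] at h3
    exact h3
  · intro q
    have h1 : e.inv q ∈ (⨆ a, W a) := by rw [hc]; trivial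
    obtain ⟨a, ha⟩ := Opens.mem_iSup.1 h1
    refine ⟨a, ⟨e.inv q, ha⟩, ?_⟩
    rw [pieceMap_left, Scheme.Hom.comp_apply]
    change e.hom (e.inv q) = q
    rw [← Scheme.Hom.comp_apply, e.inv_hom_id]
    rfl

end pieces


section bij

variable {X Y : Scheme.{u}} (f : X ⟶ Y) {Ω : Type u} [Field Ω] [IsAlgClosed Ω]
  (η : Spec (CommRingCat.of Ω) ⟶ Y)
variable {A : Type u'} [Category.{v'} A] [HasColimitsOfSize.{u, u} A]
  {FC : A → A → Type*} {CC : A → Type w'} [∀ X Y, FunLike (FC X Y) (CC X) (CC Y)]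
  [ConcreteCategory.{w'} A FC]

lemma theta_germ (ξ : Spec (CommRingCat.of Ω) ⟶ X) (hξ : ξ ≫ f = η)
    (P : X.Etaleᵒᵖ ⥤ A) (V : Y.Etale) (v : (Scheme.pointSmallEtale η).fiber.obj V)
    (z : ToType (P.obj (op ((EtCoh.bc f).obj V)))) :
    theta f η ξ hξ P ((Scheme.pointSmallEtale η).toPresheafFiber V v ((EtCoh.bc f).op ⋙ P) z) =
      (Scheme.pointSmallEtale ξ).toPresheafFiber ((EtCoh.bc f).obj V) (liftPt f η ξ hξ V v) P z := by
  rw [← ConcreteCategory.comp_apply, toPresheafFiber_theta]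

variable [PreservesFilteredColimitsOfSize.{u, u} (forget A)] [IsFinite f]

theorem theta_surjective (P : X.Etaleᵒᵖ ⥤ A)
    (hP : Presieve.IsSheaf X.smallEtaleTopology (P ⋙ forget A))
    (t : ∀ ξ : {ξ : Spec (CommRingCat.of Ω) ⟶ X // ξ ≫ f = η},
      ToType ((Scheme.pointSmallEtale ξ.1).presheafFiber.obj P)) :
    ∃ a : ToType ((Scheme.pointSmallEtale η).presheafFiber.obj ((EtCoh.bc f).op ⋙ P)),
      ∀ ξ : {ξ : Spec (CommRingCat.of Ω) ⟶ X // ξ ≫ f = η}, theta f η ξ.1 ξ.2 P a = t ξ := by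
  have key : ∀ ξ : {ξ : Spec (CommRingCat.of Ω) ⟶ X // ξ ≫ f = η},
      ∃ (U : X.Etale) (u : (Scheme.pointSmallEtale ξ.1).fiber.obj U) (s : ToType (P.obj (op U))),
        (Scheme.pointSmallEtale ξ.1).toPresheafFiber U u P s = t ξ :=
    fun ξ => (Scheme.pointSmallEtale ξ.1).toPresheafFiber_jointly_surjective (t ξ)
  choose U u s hs using key
  obtain ⟨V, p, hp, v, hvp, W, hWd, hWc, hG⟩ := exists_split_nbhd f η (fun ξ => (U ξ).left)
    (fun ξ => (U ξ).hom) (fun ξ => (u ξ).left) (fun ξ => Over.w (u ξ))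
  haveI := hp
  let V' : Y.Etale := Scheme.Etale.mk p
  let v' : (Scheme.pointSmallEtale η).fiber.obj V' := Over.homMk v hvp
  let B' : X.Etale := (EtCoh.bc f).obj V'
  let e : pullback f p ≅ B'.left := pullbackSymmetry f p
  have he1 : e.hom ≫ pullback.fst V'.hom f = pullback.snd f p := pullbackSymmetry_hom_comp_fst f p
  have he2 : e.hom ≫ pullback.snd V'.hom f = pullback.fst f p := pullbackSymmetry_hom_comp_snd f p
  choose h ω hh hω hωv using fun ξ => (hG ξ).2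
  have hho : ∀ ξ, h ξ ≫ (U ξ).hom = (pieceObj B' e (W ξ)).hom := by
    intro ξ
    rw [pieceObj_hom, hh ξ]
    change _ = (W ξ).ι ≫ e.hom ≫ pullback.snd V'.hom f
    rw [he2]
  let ho : ∀ ξ, pieceObj B' e (W ξ) ⟶ U ξ := fun ξ =>
    MorphismProperty.Over.homMk (h ξ) (hho ξ) trivial
  have hωo : ∀ ξ : {ξ : Spec (CommRingCat.of Ω) ⟶ X // ξ ≫ f = η},
      ω ξ ≫ (pieceObj B' e (W ξ)).hom = ξ.1 := by
    intro ξ
    rw [← hho ξ, ← Category.assoc, hω ξ]
    exact Over.w (u ξ)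
  let ωo : ∀ ξ : {ξ : Spec (CommRingCat.of Ω) ⟶ X // ξ ≫ f = η},
      (Scheme.pointSmallEtale ξ.1).fiber.obj (pieceObj B' e (W ξ)) := fun ξ =>
    Over.homMk (ω ξ) (hωo ξ)
  have h1 : ∀ ξ, (Scheme.pointSmallEtale ξ.1).fiber.map (ho ξ) (ωo ξ) = u ξ := by
    intro ξ
    apply Over.OverMorphism.ext
    exact hω ξ
  have h2 : ∀ ξ : {ξ : Spec (CommRingCat.of Ω) ⟶ X // ξ ≫ f = η},
      (Scheme.pointSmallEtale ξ.1).fiber.map (pieceMap B' e (W ξ)) (ωo ξ) =
        liftPt f η ξ.1 ξ.2 V' v' := by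
    intro ξ
    apply Over.OverMorphism.ext
    change ω ξ ≫ (W ξ).ι ≫ e.hom = pullback.lift v ξ.1 _
    apply pullback.hom_ext
    · rw [pullback.lift_fst, Category.assoc, Category.assoc, he1, hωv ξ]
    · rw [pullback.lift_snd, Category.assoc, Category.assoc, he2, ← hh ξ, ← Category.assoc, hω ξ]
      exact Over.w (u ξ)
  obtain ⟨z, hz, -⟩ := exists_unique_glue_pieces (P ⋙ forget A) hP B' e W hWd hWc
    (fun ξ => (P ⋙ forget A).map (ho ξ).op (s ξ))
  refine ⟨(Scheme.pointSmallEtale η).toPresheafFiber V' v' ((EtCoh.bc f).op ⋙ P) z, fun ξ => ?_⟩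
  rw [theta_germ, ← h2 ξ, ← (Scheme.pointSmallEtale ξ.1).toPresheafFiber_w_apply]
  have hz' : P.map (pieceMap B' e (W ξ)).op z = P.map (ho ξ).op (s ξ) := hz ξ
  rw [hz', (Scheme.pointSmallEtale ξ.1).toPresheafFiber_w_apply, h1 ξ, hs ξ]


theorem theta_injective (P : X.Etaleᵒᵖ ⥤ A)
    (hP : Presieve.IsSheaf X.smallEtaleTopology (P ⋙ forget A))
    (a₁ a₂ : ToType ((Scheme.pointSmallEtale η).presheafFiber.obj ((EtCoh.bc f).op ⋙ P)))
    (hθ : ∀ ξ : {ξ : Spec (CommRingCat.of Ω) ⟶ X // ξ ≫ f = η},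
      theta f η ξ.1 ξ.2 P a₁ = theta f η ξ.1 ξ.2 P a₂) : a₁ = a₂ := by
  obtain ⟨V₀, v₀, z₁, z₂, rfl, rfl⟩ :=
    (Scheme.pointSmallEtale η).toPresheafFiber_jointly_surjective₂ a₁ a₂
  let B₀ : X.Etale := (EtCoh.bc f).obj V₀
  have key : ∀ ξ : {ξ : Spec (CommRingCat.of Ω) ⟶ X // ξ ≫ f = η},
      ∃ (U : X.Etale) (g : U ⟶ B₀) (u : (Scheme.pointSmallEtale ξ.1).fiber.obj U),
        (Scheme.pointSmallEtale ξ.1).fiber.map g u = liftPt f η ξ.1 ξ.2 V₀ v₀ ∧
        P.map g.op z₁ = P.map g.op z₂ := by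
    intro ξ
    have h1 := hθ ξ
    rw [theta_germ, theta_germ] at h1
    exact ((Scheme.pointSmallEtale ξ.1).toPresheafFiber_eq_iff' _ _ z₁ z₂).mp h1
  choose U g u hgu hgz using key
  -- the relative situation
  let f₀ : B₀.left ⟶ V₀.left := pullback.fst V₀.hom f
  haveI : IsFinite f₀ := inferInstance
  let η₀ : Spec (CommRingCat.of Ω) ⟶ V₀.left := v₀.left
  have hη₀ : η₀ ≫ V₀.hom = η := Over.w v₀
  have hback : ∀ ξ₀ : {ξ₀ : Spec (CommRingCat.of Ω) ⟶ B₀.left // ξ₀ ≫ f₀ = η₀},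
      (ξ₀.1 ≫ pullback.snd V₀.hom f) ≫ f = η := by
    intro ξ₀
    rw [Category.assoc, ← pullback.condition, ← Category.assoc]
    have : ξ₀.1 ≫ pullback.fst V₀.hom f = η₀ := ξ₀.2
    rw [this, hη₀]
  let back : {ξ₀ : Spec (CommRingCat.of Ω) ⟶ B₀.left // ξ₀ ≫ f₀ = η₀} →
      {ξ : Spec (CommRingCat.of Ω) ⟶ X // ξ ≫ f = η} :=
    fun ξ₀ => ⟨ξ₀.1 ≫ pullback.snd V₀.hom f, hback ξ₀⟩
  have hu₀ : ∀ ξ₀ : {ξ₀ : Spec (CommRingCat.of Ω) ⟶ B₀.left // ξ₀ ≫ f₀ = η₀},
      (u (back ξ₀)).left ≫ (g (back ξ₀)).left = ξ₀.1 := by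
    intro ξ₀
    have h1 := congrArg (fun m => m.left) (hgu (back ξ₀))
    have h2 : (u (back ξ₀)).left ≫ (g (back ξ₀)).left =
        pullback.lift v₀.left (back ξ₀).1 ((Over.w v₀).trans (back ξ₀).2.symm) := h1
    rw [h2]
    apply pullback.hom_ext
    · rw [pullback.lift_fst]; exact ξ₀.2.symm
    · rw [pullback.lift_snd]; rfl
  obtain ⟨V, p, hp, v, hvp, W, hWd, hWc, hG⟩ := exists_split_nbhd f₀ η₀
    (fun ξ₀ => (U (back ξ₀)).left) (fun ξ₀ => (g (back ξ₀)).left) (fun ξ₀ => (u (back ξ₀)).left) hu₀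
  haveI := hp
  let V' : Y.Etale := Scheme.Etale.mk (p ≫ V₀.hom)
  let k : V' ⟶ V₀ := MorphismProperty.Over.homMk p rfl trivial
  have hv' : v ≫ p ≫ V₀.hom = η := by rw [← Category.assoc, hvp, hη₀]
  let v' : (Scheme.pointSmallEtale η).fiber.obj V' := Over.homMk v hv'
  have hkv : (Scheme.pointSmallEtale η).fiber.map k v' = v₀ := by
    apply Over.OverMorphism.ext
    exact hvp
  let B' : X.Etale := (EtCoh.bc f).obj V'
  let e : pullback f₀ p ≅ B'.left :=
    pullbackSymmetry f₀ p ≪≫ pullbackRightPullbackFstIso V₀.hom f p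
  have he1 : e.hom ≫ pullback.fst V'.hom f = pullback.snd f₀ p := by
    change (pullbackSymmetry f₀ p ≪≫ pullbackRightPullbackFstIso V₀.hom f p).hom ≫
      pullback.fst (p ≫ V₀.hom) f = _
    rw [Iso.trans_hom, Category.assoc, pullbackRightPullbackFstIso_hom_fst,
      pullbackSymmetry_hom_comp_fst]
  have he2 : e.hom ≫ pullback.snd V'.hom f = pullback.fst f₀ p ≫ pullback.snd V₀.hom f := by
    change (pullbackSymmetry f₀ p ≪≫ pullbackRightPullbackFstIso V₀.hom f p).hom ≫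
      pullback.snd (p ≫ V₀.hom) f = _
    rw [Iso.trans_hom, Category.assoc, pullbackRightPullbackFstIso_hom_snd,
      ← Category.assoc, pullbackSymmetry_hom_comp_snd]
  have he3 : e.hom ≫ ((EtCoh.bc f).map k).left = pullback.fst f₀ p := by
    apply pullback.hom_ext
    · rw [Category.assoc, bc_map_left_fst, ← Category.assoc, he1]
      exact pullback.condition.symm
    · rw [Category.assoc, bc_map_left_snd, he2]
  choose h ω hh hω hωv using fun ξ₀ => (hG ξ₀).2
  have hho : ∀ ξ₀, h ξ₀ ≫ (U (back ξ₀)).hom = (pieceObj B' e (W ξ₀)).hom := by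
    intro ξ₀
    have h1 : (g (back ξ₀)).left ≫ B₀.hom = (U (back ξ₀)).hom := Over.w (g (back ξ₀)).hom
    rw [pieceObj_hom, ← h1, ← Category.assoc, hh ξ₀]
    change _ = (W ξ₀).ι ≫ e.hom ≫ pullback.snd V'.hom f
    rw [he2, Category.assoc]
    rfl
  let ho : ∀ ξ₀, pieceObj B' e (W ξ₀) ⟶ U (back ξ₀) := fun ξ₀ =>
    MorphismProperty.Over.homMk (h ξ₀) (hho ξ₀) trivial
  have hcompat : ∀ ξ₀, ho ξ₀ ≫ g (back ξ₀) = pieceMap B' e (W ξ₀) ≫ (EtCoh.bc f).map k := by
    intro ξ₀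
    apply MorphismProperty.Over.Hom.ext
    change h ξ₀ ≫ (g (back ξ₀)).left = ((W ξ₀).ι ≫ e.hom) ≫ ((EtCoh.bc f).map k).left
    rw [hh ξ₀, Category.assoc, he3]
  let y₁ : ToType (P.obj (op B')) := P.map ((EtCoh.bc f).map k).op z₁
  let y₂ : ToType (P.obj (op B')) := P.map ((EtCoh.bc f).map k).op z₂
  have hy : ∀ ξ₀, P.map (pieceMap B' e (W ξ₀)).op y₁ = P.map (pieceMap B' e (W ξ₀)).op y₂ := by
    intro ξ₀
    have e1 : ∀ z : ToType (P.obj (op B₀)), P.map (pieceMap B' e (W ξ₀)).op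
        (P.map ((EtCoh.bc f).map k).op z) = P.map (ho ξ₀).op (P.map (g (back ξ₀)).op z) := by
      intro z
      rw [← ConcreteCategory.comp_apply, ← ConcreteCategory.comp_apply, ← P.map_comp, ← P.map_comp,
        ← op_comp, ← op_comp, hcompat ξ₀]
    change P.map (pieceMap B' e (W ξ₀)).op (P.map ((EtCoh.bc f).map k).op z₁) =
      P.map (pieceMap B' e (W ξ₀)).op (P.map ((EtCoh.bc f).map k).op z₂)
    rw [e1, e1, hgz]
  have hyy : y₁ = y₂ := by
    obtain ⟨z, -, hz⟩ := exists_unique_glue_pieces (P ⋙ forget A) hP B' e W hWd hWc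
      (fun ξ₀ => (P ⋙ forget A).map (pieceMap B' e (W ξ₀)).op y₁)
    exact (hz y₁ (fun _ => rfl)).trans (hz y₂ (fun ξ₀ => (hy ξ₀).symm)).symm
  have e1 : ∀ z : ToType (P.obj (op B₀)),
      (Scheme.pointSmallEtale η).toPresheafFiber V₀ v₀ ((EtCoh.bc f).op ⋙ P) z =
      (Scheme.pointSmallEtale η).toPresheafFiber V' v' ((EtCoh.bc f).op ⋙ P)
        (P.map ((EtCoh.bc f).map k).op z) := by
    intro z
    have := (Scheme.pointSmallEtale η).toPresheafFiber_w_apply k v' ((EtCoh.bc f).op ⋙ P) z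
    rw [hkv] at this
    exact this.symm
  rw [e1 z₁, e1 z₂]
  exact congrArg _ hyy


/-- **Stalk of a finite direct image**: the canonical map from the stalk of `f_* P` at `η` to the
product of the stalks of `P` at the geometric points above `η` is bijective. -/
theorem theta_bijective (P : X.Etaleᵒᵖ ⥤ A)
    (hP : Presieve.IsSheaf X.smallEtaleTopology (P ⋙ forget A)) :
    Function.Bijective
      (fun (a : ToType ((Scheme.pointSmallEtale η).presheafFiber.obj ((EtCoh.bc f).op ⋙ P)))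
        (ξ : {ξ : Spec (CommRingCat.of Ω) ⟶ X // ξ ≫ f = η}) => theta f η ξ.1 ξ.2 P a) := by
  refine ⟨fun a₁ a₂ h => theta_injective f η P hP a₁ a₂ (fun ξ => congrFun h ξ), fun t => ?_⟩
  obtain ⟨a, ha⟩ := theta_surjective f η P hP t
  exact ⟨a, funext ha⟩

/-- the set of geometric points above `η` is finite -/
theorem finite_lifts :
    Finite {ξ : Spec (CommRingCat.of Ω) ⟶ X // ξ ≫ f = η} := (exists_sep f η).1

end bij

end Groth.Agent.Lib.Helper23.FinStalkB
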