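import Mathlib
import Groth.Agent.Lib.Helper23FinStalkB
import Groth.Agent.Lib.Helper16EtStalk

/-!
# Stalk of a finite direct image, abelian sheaves (helper23)

`thetaAb f F η ξ hξ : (f_* F)_η ⟶ F_ξ`, `ThetaAb f F η : (f_* F)_η ⟶ ∏_ξ F_ξ`, `isIso_ThetaAb`.
-/

set_option autoImplicit false
set_option backward.isDefEq.respectTransparency.types false
open CategoryTheory CategoryTheory.Limits AlgebraicGeometry Opposite
universe u

namespace Groth.Agent.Lib.Helper23.FinStalkC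
open Groth.Agent.Lib.Helper23.FinStalkB Groth.Agent.Lib.Helper16.EtStalk

/-- `theta` for abelian sheaves, with the stalk functors of the prelude -/
noncomputable def thetaAb {X Y : Scheme.{u}} (f : X ⟶ Y)
    (F : EtCoh.Ab X) {Ω : Type u} [Field Ω] [IsAlgClosed Ω] (η : Spec (CommRingCat.of Ω) ⟶ Y)
    (ξ : Spec (CommRingCat.of Ω) ⟶ X) (hξ : ξ ≫ f = η) :
      (EtCoh.stalk η).obj ((EtCoh.push f).obj F) ⟶ (EtCoh.stalk ξ).obj F :=
  theta f η ξ hξ F.obj

/-- the map to the product of all stalks above `η` -/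
noncomputable def ThetaAb {X Y : Scheme.{u}} (f : X ⟶ Y)
    (F : EtCoh.Ab X) {Ω : Type u} [Field Ω] [IsAlgClosed Ω] (η : Spec (CommRingCat.of Ω) ⟶ Y) :
      (EtCoh.stalk η).obj ((EtCoh.push f).obj F) ⟶
        ∏ᶜ fun ξ : {ξ : Spec (CommRingCat.of Ω) ⟶ X // ξ ≫ f = η} => (EtCoh.stalk ξ.1).obj F :=
  Pi.lift (fun ξ => thetaAb f F η ξ.1 ξ.2)

theorem thetaAb_bijective {X Y : Scheme.{u}} (f : X ⟶ Y) [IsFinite f]
    (F : EtCoh.Ab X) {Ω : Type u} [Field Ω] [IsAlgClosed Ω] (η : Spec (CommRingCat.of Ω) ⟶ Y) :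
    Function.Bijective (fun (a : (EtCoh.stalk η).obj ((EtCoh.push f).obj F))
      (ξ : {ξ : Spec (CommRingCat.of Ω) ⟶ X // ξ ≫ f = η}) => thetaAb f F η ξ.1 ξ.2 a) :=
  theta_bijective f η F.obj
    ((isSheaf_iff_isSheaf_of_type _ _).1
      ((Presheaf.isSheaf_iff_isSheaf_forget _ F.obj (forget AddCommGrpCat.{u + 1})).1 F.property))

/-- the canonical map from the stalk of a finite direct image to the product of the stalks above is
an isomorphism (abelian sheaves) -/
theorem isIso_ThetaAb {X Y : Scheme.{u}} (f : X ⟶ Y) [IsFinite f]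
    (F : EtCoh.Ab X) {Ω : Type u} [Field Ω] [IsAlgClosed Ω] (η : Spec (CommRingCat.of Ω) ⟶ Y) :
    IsIso (ThetaAb f F η) := by
  let G : {ξ : Spec (CommRingCat.of Ω) ⟶ X // ξ ≫ f = η} → AddCommGrpCat.{u + 1} :=
    fun ξ => (EtCoh.stalk ξ.1).obj F
  let U := forget AddCommGrpCat.{u + 1}
  haveI : PreservesLimitsOfShape (Discrete {ξ : Spec (CommRingCat.of Ω) ⟶ X // ξ ≫ f = η}) U :=
    inferInstance
  let e2 := Types.productIso.{u, u + 1} (fun ξ => U.obj (G ξ))
  have hb : Function.Bijective (U.map (ThetaAb f F η) ≫ piComparison U G ≫ e2.hom) := by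
    have h3 : (⇑(ConcreteCategory.hom (U.map (ThetaAb f F η) ≫ piComparison U G ≫ e2.hom))) =
        (fun (a : (EtCoh.stalk η).obj ((EtCoh.push f).obj F))
          (ξ : {ξ : Spec (CommRingCat.of Ω) ⟶ X // ξ ≫ f = η}) => thetaAb f F η ξ.1 ξ.2 a) := by
      funext a
      funext ξ
      have h2 : e2.hom ((piComparison U G) (U.map (ThetaAb f F η) a)) ξ =
          (Pi.π (fun ξ => U.obj (G ξ)) ξ) ((piComparison U G) (U.map (ThetaAb f F η) a)) :=
        Types.productIso_hom_comp_eval_apply.{u, u + 1} (fun ξ => U.obj (G ξ)) ξ _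
      refine h2.trans ?_
      rw [← types_comp_apply (piComparison U G), piComparison_comp_π,
        ← types_comp_apply (U.map (ThetaAb f F η)), ← U.map_comp]
      have h4 : ThetaAb f F η ≫ Pi.π G ξ = thetaAb f F η ξ.1 ξ.2 := Pi.lift_π _ _
      rw [h4]
      rfl
    rw [h3]
    exact thetaAb_bijective f F η
  have h4 : IsIso (U.map (ThetaAb f F η) ≫ piComparison U G ≫ e2.hom) :=
    (isIso_iff_bijective _).2 hb
  have h5 : IsIso (U.map (ThetaAb f F η)) :=
    IsIso.of_isIso_comp_right (U.map (ThetaAb f F η)) (piComparison U G ≫ e2.hom)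
  exact isIso_of_reflects_iso (ThetaAb f F η) U


end Groth.Agent.Lib.Helper23.FinStalkC
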