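import Mathlib
import Groth.Agent.Lib.Helper23FinStalkC
import Groth.Agent.Lib.Helper16StalkPull

set_option autoImplicit false
set_option backward.isDefEq.respectTransparency.types false
universe u

namespace Groth.Agent.Lib.Helper23.FinStalkD
open AlgebraicGeometry CategoryTheory Limits Opposite
open Groth.Agent.Lib.Helper23.FinStalkB Groth.Agent.Lib.Helper23.FinStalkC
  Groth.Agent.Lib.Helper16.EtStalk Groth.Agent.Lib.Helper16.SmallEtale
  Groth.Agent.Lib.Helper16.StalkPull Groth.Agent.S0100 Groth.Agent.S0101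

/-- every point of an etale `X`-scheme is the image of a geometric point with algebraically closed
field -/
lemma exists_geometric_point_algClosed {X : Scheme.{u}} (U : X.Etale) (p : U.left) :
    ∃ (Ω : Type u) (_ : Field Ω) (_ : IsAlgClosed Ω) (ξ : Spec (CommRingCat.of Ω) ⟶ X)
      (x : (Scheme.pointSmallEtale ξ).fiber.obj U),
      (x.left : Spec (CommRingCat.of Ω) ⟶ U.left) (default : Spec (CommRingCat.of Ω)) = p := by
  let Ω := AlgebraicClosure (U.left.residueField p)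
  let l : Spec (CommRingCat.of Ω) ⟶ U.left :=
    Spec.map (CommRingCat.ofHom (algebraMap (U.left.residueField p) Ω)) ≫
      U.left.fromSpecResidueField p
  refine ⟨Ω, inferInstance, inferInstance, l ≫ U.hom, Over.homMk l rfl, ?_⟩
  change l default = p
  dsimp only [l]
  rw [Scheme.Hom.comp_apply]
  exact Scheme.fromSpecResidueField_apply _ _

/-- a map of abelian etale sheaves injective on all stalks at algebraically closed geometric points
is a monomorphism -/
lemma mono_of_stalks_algClosed {X : Scheme.{u}} {F G : EtCoh.Ab X} (a : F ⟶ G)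
    (h : ∀ (Ω : Type u) [Field Ω] [IsAlgClosed Ω] (ξ : Spec (CommRingCat.of Ω) ⟶ X),
      Function.Injective ((EtCoh.stalk ξ).map a)) : Mono a := by
  haveI : Sheaf.IsLocallyInjective a := by
    constructor
    intro U x y hxy
    induction U using Opposite.rec with | _ U => ?_
    rw [mem_smallEtale_iff]
    intro p
    obtain ⟨Ω, _, _, ξ, x₀, hx₀⟩ := exists_geometric_point_algClosed U p
    let Φ := Scheme.pointSmallEtale ξ
    have e1 : (EtCoh.stalk ξ).map a (Φ.toPresheafFiber U x₀ F.obj x) =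
        (EtCoh.stalk ξ).map a (Φ.toPresheafFiber U x₀ F.obj y) := by
      have n1 := Φ.toPresheafFiber_naturality_apply a.hom U x₀ x
      have n2 := Φ.toPresheafFiber_naturality_apply a.hom U x₀ y
      exact n1.trans ((congrArg _ hxy).trans n2.symm)
    have e2 := h Ω ξ e1
    obtain ⟨W, g, w, hw, hg⟩ := (Φ.toPresheafFiber_eq_iff' U x₀ x y).mp e2
    refine ⟨W, g, (w.left : Spec (CommRingCat.of Ω) ⟶ W.left) (default : Spec (CommRingCat.of Ω)),
      hg, ?_⟩
    have e3 : w.left ≫ g.left = x₀.left := congrArg (fun m => m.left) hw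
    rw [← hx₀]
    exact congrArg (fun m : Spec (CommRingCat.of Ω) ⟶ U.left => m default) e3
  exact Sheaf.mono_of_isLocallyInjective a

/-- a map of abelian etale sheaves surjective on all stalks at algebraically closed geometric
points is an epimorphism -/
lemma epi_of_stalks_algClosed {X : Scheme.{u}} {F G : EtCoh.Ab X} (a : F ⟶ G)
    (h : ∀ (Ω : Type u) [Field Ω] [IsAlgClosed Ω] (ξ : Spec (CommRingCat.of Ω) ⟶ X),
      Function.Surjective ((EtCoh.stalk ξ).map a)) : Epi a := by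
  haveI : Sheaf.IsLocallySurjective a := by
    constructor
    intro U t
    rw [mem_smallEtale_iff]
    intro p
    obtain ⟨Ω, _, _, ξ, x₀, hx₀⟩ := exists_geometric_point_algClosed U p
    let Φ := Scheme.pointSmallEtale ξ
    obtain ⟨σ, hσ⟩ := h Ω ξ (Φ.toPresheafFiber U x₀ G.obj t)
    obtain ⟨V, v, s, rfl⟩ := Φ.toPresheafFiber_jointly_surjective (P := F.obj) σ
    have n1 : (EtCoh.stalk ξ).map a (Φ.toPresheafFiber V v F.obj s) =
        Φ.toPresheafFiber V v G.obj (a.hom.app (op V) s) :=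
      Φ.toPresheafFiber_naturality_apply a.hom V v s
    let m : Φ.fiber.Elements := IsCofiltered.min (⟨V, v⟩ : Φ.fiber.Elements) ⟨U, x₀⟩
    let gV : m ⟶ ⟨V, v⟩ := IsCofiltered.minToLeft _ _
    let gU : m ⟶ ⟨U, x₀⟩ := IsCofiltered.minToRight _ _
    have hgV : Φ.fiber.map gV.1 m.2 = v := gV.2
    have hgU : Φ.fiber.map gU.1 m.2 = x₀ := gU.2
    have e1 : Φ.toPresheafFiber m.1 m.2 G.obj (G.obj.map gU.1.op t) =
        Φ.toPresheafFiber m.1 m.2 G.obj (G.obj.map gV.1.op (a.hom.app (op V) s)) := by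
      rw [Φ.toPresheafFiber_w_apply, Φ.toPresheafFiber_w_apply, hgV, hgU, ← hσ, n1]
    obtain ⟨W', g, w', hw', hg⟩ := (Φ.toPresheafFiber_eq_iff' m.1 m.2 _ _).mp e1
    refine ⟨W', g ≫ gU.1, (w'.left : Spec (CommRingCat.of Ω) ⟶ W'.left)
      (default : Spec (CommRingCat.of Ω)), ⟨F.obj.map (g ≫ gV.1).op s, ?_⟩, ?_⟩
    · have n2 := NatTrans.naturality_apply a.hom (g ≫ gV.1).op s
      rw [n2]
      rw [op_comp, Functor.map_comp, ConcreteCategory.comp_apply, ← hg,
        ← ConcreteCategory.comp_apply, ← Functor.map_comp, ← op_comp]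
    · have e3 : w'.left ≫ (g ≫ gU.1).left = x₀.left := by
        have h1 : Φ.fiber.map (g ≫ gU.1) w' = x₀ := by
          rw [Functor.map_comp]
          change Φ.fiber.map gU.1 (Φ.fiber.map g w') = x₀
          rw [hw', hgU]
        exact congrArg (fun m => m.left) h1
      rw [← hx₀]
      exact congrArg (fun m : Spec (CommRingCat.of Ω) ⟶ U.left => m default) e3
  exact Sheaf.epi_of_isLocallySurjective a

/-- a map of abelian etale sheaves bijective on all stalks at algebraically closed geometric points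
is an isomorphism -/
lemma isIso_of_stalks_algClosed {X : Scheme.{u}} {F G : EtCoh.Ab X} (a : F ⟶ G)
    (h : ∀ (Ω : Type u) [Field Ω] [IsAlgClosed Ω] (ξ : Spec (CommRingCat.of Ω) ⟶ X),
      Function.Bijective ((EtCoh.stalk ξ).map a)) : IsIso a := by
  haveI := mono_of_stalks_algClosed a (fun Ω _ _ ξ => (h Ω ξ).1)
  haveI := epi_of_stalks_algClosed a (fun Ω _ _ ξ => (h Ω ξ).2)
  exact isIso_of_mono_of_epi a


section stalkPull

variable {X Y : Scheme.{u}} (f : X ⟶ Y) {Ω : Type u} [Field Ω] [IsSepClosed Ω]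
  (ξ : Spec (CommRingCat.of Ω) ⟶ X)

lemma fiberIso_hom_left (U : Y.Etale)
    (x : (Scheme.pointSmallEtale ξ).fiber.obj ((EtCoh.bc f).obj U)) :
    (((fiberIso f ξ).hom.app U x).left : Spec (CommRingCat.of Ω) ⟶ U.left) =
      (x.left : Spec (CommRingCat.of Ω) ⟶ ((EtCoh.bc f).obj U).left) ≫ pullback.fst U.hom f := by
  simp [fiberIso, Adjunction.compCoyonedaIso]
  erw [Adjunction.homEquiv_counit]
  simp [MorphismProperty.Over.pullbackCompForgetIso]
  congr 1

lemma fiberIso_inv_eq_liftPt (U : Y.Etale) (v : (Scheme.pointSmallEtale (ξ ≫ f)).fiber.obj U) :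
    (fiberIso f ξ).inv.app U v = liftPt f (ξ ≫ f) ξ rfl U v := by
  have h1 : (fiberIso f ξ).hom.app U (liftPt f (ξ ≫ f) ξ rfl U v) = v := by
    apply Over.OverMorphism.ext
    rw [fiberIso_hom_left, liftPt_left]
    exact pullback.lift_fst _ _ _
  have h2 : (fiberIso f ξ).inv.app U ((fiberIso f ξ).hom.app U (liftPt f (ξ ≫ f) ξ rfl U v)) =
      liftPt f (ξ ≫ f) ξ rfl U v := by
    rw [← types_comp_apply ((fiberIso f ξ).hom.app U), ← NatTrans.comp_app, Iso.hom_inv_id]
    rfl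
  rw [h1] at h2
  exact h2

/-- compatibility of the stalk isomorphism of an inverse image with germs, in terms of `liftPt` -/
lemma stalkPull_germ (G : EtCoh.Ab Y) (U : Y.Etale)
    (v : (Scheme.pointSmallEtale (ξ ≫ f)).fiber.obj U) (σ : G.obj.obj (op U)) :
    (stalkPullIso f ξ).hom.app G
        ((Scheme.pointSmallEtale (ξ ≫ f)).toPresheafFiber U v G.obj σ) =
      (Scheme.pointSmallEtale ξ).toPresheafFiber ((EtCoh.bc f).obj U) (liftPt f (ξ ≫ f) ξ rfl U v)
        ((EtCoh.pull f).obj G).obj (((EtCoh.pullPushAdj f).unit.app G).hom.app (op U) σ) := by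
  have h := germ_compat f ξ G U v σ
  rw [fiberIso_inv_eq_liftPt] at h
  exact h

end stalkPull


section bc0

variable {X Y X' Y' : Scheme.{u}} (f : X ⟶ Y) (g : Y' ⟶ Y) (f' : X' ⟶ Y') (g' : X' ⟶ X)
  (w : g' ≫ f = f' ≫ g)

/-- the canonical comparison `(V ×_Y Y') ×_{Y'} X' ⟶ (V ×_Y X) ×_X X'` in the small étale site of
`X'` -/
noncomputable def iotaBC (V : Y.Etale) :
    (EtCoh.bc f').obj ((EtCoh.bc g).obj V) ⟶ (EtCoh.bc g').obj ((EtCoh.bc f).obj V) :=
  (MorphismProperty.Over.pullbackComp (P := EtCoh.etaleMP) (Q := ⊤) f' g).inv.app V ≫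
    (MorphismProperty.Over.pullbackCongr (P := EtCoh.etaleMP) (Q := ⊤) w).inv.app V ≫
      (MorphismProperty.Over.pullbackComp (P := EtCoh.etaleMP) (Q := ⊤) g' f).hom.app V

lemma bc0_unit (F : EtCoh.Ab X) (V : Y.Etale) (s : F.obj.obj (op ((EtCoh.bc f).obj V))) :
    (EtCoh.baseChange0 f g f' g' w F).hom.app (op ((EtCoh.bc g).obj V))
      (((EtCoh.pullPushAdj g).unit.app ((EtCoh.push f).obj F)).hom.app (op V) s) =
    ((EtCoh.pull g').obj F).obj.map (iotaBC f g f' g' w V).op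
      (((EtCoh.pullPushAdj g').unit.app F).hom.app (op ((EtCoh.bc f).obj V)) s) := by
  have h1 : (EtCoh.pullPushAdj g).unit.app ((EtCoh.push f).obj F) ≫
      (EtCoh.push g).map (EtCoh.baseChange0 f g f' g' w F) =
      (EtCoh.push f).map ((EtCoh.pullPushAdj g').unit.app F) ≫ (EtCoh.pushComp f g').hom.app _ ≫
        (EtCoh.pushCongr w).hom.app _ ≫ (EtCoh.pushComp g f').inv.app _ := by
    have h0 := Equiv.apply_symm_apply ((EtCoh.pullPushAdj g).homEquiv _ _)
      ((EtCoh.push f).map ((EtCoh.pullPushAdj g').unit.app F) ≫ (EtCoh.pushComp f g').hom.app _ ≫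
        (EtCoh.pushCongr w).hom.app _ ≫ (EtCoh.pushComp g f').inv.app _)
    rw [Adjunction.homEquiv_unit] at h0
    exact h0
  have h2 := congrArg (fun m => m.hom.app (op V) s) h1
  refine Eq.trans ?_ (h2.trans ?_)
  · rfl
  · simp [EtCoh.pushComp, EtCoh.pushCongr, iotaBC]
    rfl


lemma iotaBC_left_fst_fst (V : Y.Etale) :
    (iotaBC f g f' g' w V).left ≫ pullback.fst (pullback.snd V.hom f) g' ≫ pullback.fst V.hom f =
      pullback.fst (pullback.snd V.hom g) f' ≫ pullback.fst V.hom g := by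
  have hc := MorphismProperty.Over.pullbackComp_left_fst_fst (P := EtCoh.etaleMP) (Q := ⊤) g' f V
  have ha := MorphismProperty.Over.pullbackComp_left_fst_fst (P := EtCoh.etaleMP) (Q := ⊤) f' g V
  have hb := MorphismProperty.Over.pullbackCongr_hom_app_left_fst (P := EtCoh.etaleMP) (Q := ⊤) w V
  let a := (MorphismProperty.Over.pullbackComp (P := EtCoh.etaleMP) (Q := ⊤) f' g).inv.app V
  let a' := (MorphismProperty.Over.pullbackComp (P := EtCoh.etaleMP) (Q := ⊤) f' g).hom.app V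
  let b := (MorphismProperty.Over.pullbackCongr (P := EtCoh.etaleMP) (Q := ⊤) w).inv.app V
  let b' := (MorphismProperty.Over.pullbackCongr (P := EtCoh.etaleMP) (Q := ⊤) w).hom.app V
  let c := (MorphismProperty.Over.pullbackComp (P := EtCoh.etaleMP) (Q := ⊤) g' f).hom.app V
  have haa : a.left ≫ a'.left = 𝟙 _ := by
    have : a ≫ a' = 𝟙 _ := by
      dsimp only [a, a']
      rw [← NatTrans.comp_app, Iso.inv_hom_id]
      rfl
    exact congrArg (fun m => m.left) this
  have hbb : b.left ≫ b'.left = 𝟙 _ := by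
    have : b ≫ b' = 𝟙 _ := by
      dsimp only [b, b']
      rw [← NatTrans.comp_app, Iso.inv_hom_id]
      rfl
    exact congrArg (fun m => m.left) this
  have hι : (iotaBC f g f' g' w V).left = a.left ≫ b.left ≫ c.left := rfl
  have hb2 : b.left ≫ pullback.fst V.hom (g' ≫ f) = pullback.fst V.hom (f' ≫ g) :=
    calc b.left ≫ pullback.fst V.hom (g' ≫ f)
        = b.left ≫ b'.left ≫ pullback.fst V.hom (f' ≫ g) := congrArg (b.left ≫ ·) hb.symm
      _ = (b.left ≫ b'.left) ≫ pullback.fst V.hom (f' ≫ g) := (Category.assoc _ _ _).symm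
      _ = 𝟙 _ ≫ pullback.fst V.hom (f' ≫ g) := congrArg (· ≫ pullback.fst V.hom (f' ≫ g)) hbb
      _ = _ := Category.id_comp _
  have ha2 : a.left ≫ pullback.fst V.hom (f' ≫ g) =
      pullback.fst (pullback.snd V.hom g) f' ≫ pullback.fst V.hom g :=
    calc a.left ≫ pullback.fst V.hom (f' ≫ g)
        = a.left ≫ a'.left ≫ pullback.fst (pullback.snd V.hom g) f' ≫ pullback.fst V.hom g :=
          congrArg (a.left ≫ ·) ha.symm
      _ = (a.left ≫ a'.left) ≫ pullback.fst (pullback.snd V.hom g) f' ≫ pullback.fst V.hom g :=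
          (Category.assoc _ _ _).symm
      _ = 𝟙 _ ≫ pullback.fst (pullback.snd V.hom g) f' ≫ pullback.fst V.hom g :=
          congrArg (· ≫ pullback.fst (pullback.snd V.hom g) f' ≫ pullback.fst V.hom g) haa
      _ = _ := Category.id_comp _
  have s1 : (iotaBC f g f' g' w V).left ≫ pullback.fst (pullback.snd V.hom f) g' ≫
      pullback.fst V.hom f = a.left ≫ b.left ≫ c.left ≫ pullback.fst (pullback.snd V.hom f) g' ≫
          pullback.fst V.hom f := by
    rw [hι]
    exact (Category.assoc _ _ _).trans (congrArg (a.left ≫ ·) (Category.assoc _ _ _))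
  have s2 : a.left ≫ b.left ≫ c.left ≫ pullback.fst (pullback.snd V.hom f) g' ≫
      pullback.fst V.hom f = a.left ≫ b.left ≫ pullback.fst V.hom (g' ≫ f) :=
    congrArg (a.left ≫ ·) (congrArg (b.left ≫ ·) hc)
  have s3 : a.left ≫ b.left ≫ pullback.fst V.hom (g' ≫ f) =
      a.left ≫ pullback.fst V.hom (f' ≫ g) := congrArg (a.left ≫ ·) hb2
  exact s1.trans (s2.trans (s3.trans ha2))


omit w in
lemma lift_ext2 {S Vl : Scheme.{u}} (b : Vl ⟶ Y) (m₁ m₂ : S ⟶ pullback (pullback.snd b f) g')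
    (h1 : m₁ ≫ pullback.snd (pullback.snd b f) g' = m₂ ≫ pullback.snd (pullback.snd b f) g')
    (h2 : m₁ ≫ pullback.fst (pullback.snd b f) g' ≫ pullback.fst b f =
      m₂ ≫ pullback.fst (pullback.snd b f) g' ≫ pullback.fst b f) : m₁ = m₂ := by
  apply pullback.hom_ext
  · apply pullback.hom_ext
    · simpa only [Category.assoc] using h2
    · rw [Category.assoc, Category.assoc, pullback.condition, ← Category.assoc, ← Category.assoc, h1]
  · exact h1

lemma iotaBC_pt {Ω : Type u} [Field Ω] [IsSepClosed Ω] (η' : Spec (CommRingCat.of Ω) ⟶ Y')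
    (ξ' : Spec (CommRingCat.of Ω) ⟶ X') (hξ' : ξ' ≫ f' = η') (V : Y.Etale)
    (v : (Scheme.pointSmallEtale (η' ≫ g)).fiber.obj V) (hh : (ξ' ≫ g') ≫ f = η' ≫ g) :
    (Scheme.pointSmallEtale ξ').fiber.map (iotaBC f g f' g' w V)
      (liftPt f' η' ξ' hξ' ((EtCoh.bc g).obj V) (liftPt g (η' ≫ g) η' rfl V v)) =
    liftPt g' (ξ' ≫ g') ξ' rfl ((EtCoh.bc f).obj V) (liftPt f (η' ≫ g) (ξ' ≫ g') hh V v) := by
  apply Over.OverMorphism.ext
  let P1 : Spec (CommRingCat.of Ω) ⟶ pullback (pullback.snd V.hom g) f' :=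
    (liftPt f' η' ξ' hξ' ((EtCoh.bc g).obj V) (liftPt g (η' ≫ g) η' rfl V v)).left
  let P2 : Spec (CommRingCat.of Ω) ⟶ pullback (pullback.snd V.hom f) g' :=
    (liftPt g' (ξ' ≫ g') ξ' rfl ((EtCoh.bc f).obj V) (liftPt f (η' ≫ g) (ξ' ≫ g') hh V v)).left
  let ι : pullback (pullback.snd V.hom g) f' ⟶ pullback (pullback.snd V.hom f) g' :=
    (iotaBC f g f' g' w V).left
  change P1 ≫ ι = P2
  have hP1_snd : P1 ≫ pullback.snd (pullback.snd V.hom g) f' = ξ' := pullback.lift_snd _ _ _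
  have hP1_fst : P1 ≫ pullback.fst (pullback.snd V.hom g) f' =
      (liftPt g (η' ≫ g) η' rfl V v).left := pullback.lift_fst _ _ _
  have hP2_snd : P2 ≫ pullback.snd (pullback.snd V.hom f) g' = ξ' := pullback.lift_snd _ _ _
  have hP2_fst : P2 ≫ pullback.fst (pullback.snd V.hom f) g' =
      (liftPt f (η' ≫ g) (ξ' ≫ g') hh V v).left := pullback.lift_fst _ _ _
  have hl1 : (liftPt g (η' ≫ g) η' rfl V v).left ≫ pullback.fst V.hom g = v.left :=
    pullback.lift_fst _ _ _
  have hl2 : (liftPt f (η' ≫ g) (ξ' ≫ g') hh V v).left ≫ pullback.fst V.hom f = v.left :=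
    pullback.lift_fst _ _ _
  have hιw : ι ≫ pullback.snd (pullback.snd V.hom f) g' =
      pullback.snd (pullback.snd V.hom g) f' := Over.w (iotaBC f g f' g' w V).hom
  have hιf : ι ≫ pullback.fst (pullback.snd V.hom f) g' ≫ pullback.fst V.hom f =
      pullback.fst (pullback.snd V.hom g) f' ≫ pullback.fst V.hom g :=
    iotaBC_left_fst_fst f g f' g' w V
  refine lift_ext2 f g' V.hom (P1 ≫ ι) P2 ?_ ?_
  · rw [Category.assoc, hιw, hP1_snd, hP2_snd]
  · rw [Category.assoc, hιf, ← Category.assoc, hP1_fst, ← Category.assoc, hP2_fst]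
    exact hl1.trans hl2.symm


/-- the base change map on stalks is compatible with the decomposition of the stalks of finite
direct images -/
lemma bc0_theta {Ω : Type u} [Field Ω] [IsAlgClosed Ω] (F : EtCoh.Ab X)
    (η' : Spec (CommRingCat.of Ω) ⟶ Y')
    (ξ' : Spec (CommRingCat.of Ω) ⟶ X') (hξ' : ξ' ≫ f' = η') (hh : (ξ' ≫ g') ≫ f = η' ≫ g)
    (a : (EtCoh.stalk (η' ≫ g)).obj ((EtCoh.push f).obj F)) :
    thetaAb f' ((EtCoh.pull g').obj F) η' ξ' hξ'
      ((EtCoh.stalk η').map (EtCoh.baseChange0 f g f' g' w F)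
        ((stalkPullIso g η').hom.app ((EtCoh.push f).obj F) a)) =
    (stalkPullIso g' ξ').hom.app F (thetaAb f F (η' ≫ g) (ξ' ≫ g') hh a) := by
  obtain ⟨V, v, s, rfl⟩ := (Scheme.pointSmallEtale (η' ≫ g)).toPresheafFiber_jointly_surjective
    (P := ((EtCoh.push f).obj F).obj) a
  rw [stalkPull_germ g η' ((EtCoh.push f).obj F) V v s]
  have e2 := (Scheme.pointSmallEtale η').toPresheafFiber_naturality_apply
    (EtCoh.baseChange0 f g f' g' w F).hom ((EtCoh.bc g).obj V) (liftPt g (η' ≫ g) η' rfl V v)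
    (((EtCoh.pullPushAdj g).unit.app ((EtCoh.push f).obj F)).hom.app (op V) s)
  have e2' : (EtCoh.stalk η').map (EtCoh.baseChange0 f g f' g' w F)
      ((Scheme.pointSmallEtale η').toPresheafFiber ((EtCoh.bc g).obj V)
        (liftPt g (η' ≫ g) η' rfl V v) ((EtCoh.pull g).obj ((EtCoh.push f).obj F)).obj
        (((EtCoh.pullPushAdj g).unit.app ((EtCoh.push f).obj F)).hom.app (op V) s)) =
      (Scheme.pointSmallEtale η').toPresheafFiber ((EtCoh.bc g).obj V)
        (liftPt g (η' ≫ g) η' rfl V v) ((EtCoh.push f').obj ((EtCoh.pull g').obj F)).obj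
        ((EtCoh.baseChange0 f g f' g' w F).hom.app (op ((EtCoh.bc g).obj V))
          (((EtCoh.pullPushAdj g).unit.app ((EtCoh.push f).obj F)).hom.app (op V) s)) := e2
  rw [e2', bc0_unit]
  have e4 := theta_germ f' η' ξ' hξ' ((EtCoh.pull g').obj F).obj ((EtCoh.bc g).obj V)
    (liftPt g (η' ≫ g) η' rfl V v)
    (((EtCoh.pull g').obj F).obj.map (iotaBC f g f' g' w V).op
      (((EtCoh.pullPushAdj g').unit.app F).hom.app (op ((EtCoh.bc f).obj V)) s))
  refine e4.trans ?_
  rw [(Scheme.pointSmallEtale ξ').toPresheafFiber_w_apply, iotaBC_pt f g f' g' w η' ξ' hξ' V v hh]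
  have e5 := theta_germ f (η' ≫ g) (ξ' ≫ g') hh F.obj V v s
  have e5' : thetaAb f F (η' ≫ g) (ξ' ≫ g') hh
      ((Scheme.pointSmallEtale (η' ≫ g)).toPresheafFiber V v ((EtCoh.push f).obj F).obj s) =
      (Scheme.pointSmallEtale (ξ' ≫ g')).toPresheafFiber ((EtCoh.bc f).obj V)
        (liftPt f (η' ≫ g) (ξ' ≫ g') hh V v) F.obj s := e5
  rw [e5', stalkPull_germ g' ξ' F ((EtCoh.bc f).obj V) (liftPt f (η' ≫ g) (ξ' ≫ g') hh V v) s]


/-- **Finite base change in degree zero**: for a cartesian square with `f` finite the base change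
map `g⁻¹ f_* F ⟶ f'_* g'⁻¹ F` is an isomorphism. -/
theorem isIso_baseChange0_of_finite [IsFinite f] (h : IsPullback g' f' f g) (F : EtCoh.Ab X) :
    IsIso (EtCoh.baseChange0 f g f' g' h.w F) := by
  haveI : IsFinite f' := MorphismProperty.of_isPullback (P := @IsFinite) h ‹_›
  apply isIso_of_stalks_algClosed
  intro Ω _ _ η'
  let Ξ' := {ξ' : Spec (CommRingCat.of Ω) ⟶ X' // ξ' ≫ f' = η'}
  let Ξ := {ξ : Spec (CommRingCat.of Ω) ⟶ X // ξ ≫ f = η' ≫ g}
  have hh : ∀ ξ' : Ξ', (ξ'.1 ≫ g') ≫ f = η' ≫ g := by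
    intro ξ'
    rw [Category.assoc, h.w, ← Category.assoc, ξ'.2]
  let Φ : Ξ' → Ξ := fun ξ' => ⟨ξ'.1 ≫ g', hh ξ'⟩
  have hΦ : Function.Bijective Φ := by
    constructor
    · intro a b hab
      apply Subtype.ext
      apply h.hom_ext
      · exact congrArg Subtype.val hab
      · rw [a.2, b.2]
    · intro ξ
      refine ⟨⟨h.lift ξ.1 η' ξ.2, h.lift_snd _ _ _⟩, ?_⟩
      apply Subtype.ext
      exact h.lift_fst _ _ _
  let eΦ : Ξ' ≃ Ξ := Equiv.ofBijective Φ hΦ
  let A : Ξ → Type (u + 1) := fun ξ => ((EtCoh.stalk ξ.1).obj F : AddCommGrpCat.{u + 1})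
  -- the four bijections
  have hΘ := thetaAb_bijective f F (η' ≫ g)
  have hΘ' := thetaAb_bijective f' ((EtCoh.pull g').obj F) η'
  have hσ : Function.Bijective ((stalkPullIso g η').hom.app ((EtCoh.push f).obj F)) :=
    (ConcreteCategory.isIso_iff_bijective _).mp inferInstance
  have hρ : ∀ ξ' : Ξ', Function.Bijective ((stalkPullIso g' ξ'.1).hom.app F) := fun ξ' =>
    (ConcreteCategory.isIso_iff_bijective _).mp inferInstance
  -- reindexing
  let Θ : ((EtCoh.stalk (η' ≫ g)).obj ((EtCoh.push f).obj F) : AddCommGrpCat.{u + 1}) →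
      ∀ ξ : Ξ, A ξ := fun a ξ => thetaAb f F (η' ≫ g) ξ.1 ξ.2 a
  let Ψ : ((EtCoh.stalk (η' ≫ g)).obj ((EtCoh.push f).obj F) : AddCommGrpCat.{u + 1}) →
      ∀ ξ' : Ξ', A (eΦ ξ') := fun a ξ' => Θ a (eΦ ξ')
  have hΨ : Function.Bijective Ψ := by
    have h1 : Ψ = (Equiv.piCongrLeft A eΦ).symm ∘ Θ := by
      funext a
      funext ξ'
      change Θ a (eΦ ξ') = (Equiv.piCongrLeft A eΦ).symm (Θ a) ξ'
      rw [Equiv.piCongrLeft_symm_apply]
    rw [h1]
    exact (Equiv.bijective _).comp hΘ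
  let R : (∀ ξ' : Ξ', A (eΦ ξ')) →
      ∀ ξ' : Ξ', ((EtCoh.stalk ξ'.1).obj ((EtCoh.pull g').obj F) : AddCommGrpCat.{u + 1}) :=
    fun t ξ' => (stalkPullIso g' ξ'.1).hom.app F (t ξ')
  have hR : Function.Bijective R := by
    constructor
    · intro t₁ t₂ ht
      funext ξ'
      exact (hρ ξ').1 (congrFun ht ξ')
    · intro c
      choose t ht using fun ξ' => (hρ ξ').2 (c ξ')
      exact ⟨t, funext ht⟩
  let Θ' : ((EtCoh.stalk η').obj ((EtCoh.push f').obj ((EtCoh.pull g').obj F)) :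
      AddCommGrpCat.{u + 1}) →
      ∀ ξ' : Ξ', ((EtCoh.stalk ξ'.1).obj ((EtCoh.pull g').obj F) : AddCommGrpCat.{u + 1}) :=
    fun c ξ' => thetaAb f' ((EtCoh.pull g').obj F) η' ξ'.1 ξ'.2 c
  have hkey : Θ' ∘ ((EtCoh.stalk η').map (EtCoh.baseChange0 f g f' g' h.w F) ∘
      ((stalkPullIso g η').hom.app ((EtCoh.push f).obj F))) = R ∘ Ψ := by
    funext a
    funext ξ'
    exact bc0_theta f g f' g' h.w F η' ξ'.1 ξ'.2 (hh ξ') a
  have h2 : Function.Bijective (Θ' ∘ ((EtCoh.stalk η').map (EtCoh.baseChange0 f g f' g' h.w F) ∘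
      ((stalkPullIso g η').hom.app ((EtCoh.push f).obj F)))) := by
    rw [hkey]
    exact hR.comp hΨ
  have h3 := (Function.Bijective.of_comp_iff' hΘ' _).1 h2
  exact (Function.Bijective.of_comp_iff _ hσ).1 h3

end bc0

end Groth.Agent.Lib.Helper23.FinStalkD
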