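import Mathlib
import Groth.Agent.Lib.Helper23FlcSerre

/-!
# Finite locally constant abelian sheaves are closed under extensions (helper23)

* `exists_lifts`, `exists_cocycle`: in an extension of `lc N` by `lc M` (finite groups) the constants of `N` lift
  étale-locally, with a constant cocycle.
* `exists_finite_subgroup`, `exists_iso_const_of_lifts`: such an extension with global lifts is constant.
* `isFlc_of_shortExact_lc`, `isFlc_of_shortExact`.
-/

set_option autoImplicit false
set_option backward.isDefEq.respectTransparency.types false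
universe u
open CategoryTheory CategoryTheory.Limits AlgebraicGeometry Opposite

namespace Groth.Agent.Lib.Helper23FlcExt

open Groth.Agent.Lib.Helper23LCPull Groth.Agent.Lib.Helper23Constr Groth.Agent.Lib.Helper23FlcSerre
open Groth.Agent.Lib.Helper23.ConstLC
open Groth.Agent.Lib.Helper21.TorsA Groth.Agent.Lib.Helper21.ConstHom Groth.Agent.Lib.Helper21.EtOpen

variable {V : Scheme.{u}} {M N : Type} [AddCommGroup M] [AddCommGroup N]

/-- finite intersections of covering sieves are covering -/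
theorem iInf_mem_of_finite {C : Type*} [Category C] (J : GrothendieckTopology C) {X : C}
    {κ : Type*} [Finite κ] (S : κ → Sieve X) (hS : ∀ k, S k ∈ J X) : (⨅ k, S k) ∈ J X := by
  classical
  haveI := Fintype.ofFinite κ
  have : ∀ t : Finset κ, (t.inf S) ∈ J X := by
    intro t
    induction t using Finset.induction_on with
    | empty => simpa using J.top_mem X
    | insert k t _ ih =>
      rw [Finset.inf_insert]
      exact J.intersection_covering (hS k) ih
  have h := this Finset.univ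
  rwa [Finset.inf_univ_eq_iInf] at h

/-- Step 1: all constants lift simultaneously on an étale neighbourhood -/
theorem exists_lifts [Finite N] {E : EtCoh.Ab V} (b : E ⟶ lc V N) [Epi b] (v : V) :
    ∃ (W : V.Etale) (w : W.left) (e : N → E.obj.obj (op W)), W.hom w = v ∧
      ∀ n, (b.hom.app (op W)).hom (e n) = tHom W ⟨n⟩ := by
  have h1 : ∀ n : N, ∃ S ∈ V.smallEtaleTopology (EtCoh.top V), ∀ ⦃W : V.Etale⦄ (g : W ⟶ EtCoh.top V),
      S g → ∃ t : E.obj.obj (op W), (b.hom.app (op W)).hom t = tHom W ⟨n⟩ := fun n =>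
    locally_surjective_of_epi b (EtCoh.top V) (tHom (EtCoh.top V) ⟨n⟩)
  choose S hS H using h1
  have hS' := iInf_mem_of_finite _ S hS
  rw [mem_smallEtale_iff] at hS'
  obtain ⟨W, f, w, hf, hw⟩ := hS' v
  have hf' : ∀ n, S n f := fun n => by
    have := (Sieve.sInf_apply (Ss := Set.range S) (f := f)).1 hf
    exact this (S n) ⟨n, rfl⟩
  choose e he using fun n => H n f (hf' n)
  refine ⟨W, w, e, ?_, he⟩
  have hfe : f = toTop W := (EtCore.topIsTerminal V).hom_ext _ _
  rw [← hw, hfe, toTop_left]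
  rfl

lemma tHom_add' (W : V.Etale) (n n' : N) :
    tHom (X := V) W (⟨n + n'⟩ : ULift.{u + 1} N) = tHom W ⟨n⟩ + tHom W ⟨n'⟩ := by
  have e : (⟨n + n'⟩ : ULift.{u + 1} N) = ⟨n⟩ + ⟨n'⟩ := rfl
  rw [e, map_add]

/-- Step 2: after shrinking, the cocycle of the lifts is constant -/
theorem exists_cocycle [Finite N] {E : EtCoh.Ab V} (a : lc V M ⟶ E) (b : E ⟶ lc V N)
    (w0 : a ≫ b = 0) (hS : (ShortComplex.mk a b w0).ShortExact) (v : V) :
    ∃ (Y : V.Etale) (y : Y.left) (e : N → E.obj.obj (op Y)) (γ : N → N → M), Y.hom y = v ∧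
      (∀ n, (b.hom.app (op Y)).hom (e n) = tHom Y ⟨n⟩) ∧
      ∀ n n', e n + e n' - e (n + n') = (a.hom.app (op Y)).hom (tHom Y ⟨γ n n'⟩) := by
  haveI : Epi b := hS.epi_g
  obtain ⟨W, w, e, hw, he⟩ := exists_lifts b v
  have hc : ∀ p : N × N, ∃ f : (lc V M).obj.obj (op W),
      (a.hom.app (op W)).hom f = e p.1 + e p.2 - e (p.1 + p.2) := fun p => by
    refine exact_sections hS W (e p.1 + e p.2 - e (p.1 + p.2)) ?_
    change (b.hom.app (op W)).hom _ = 0
    rw [map_sub, map_add, he, he, he, tHom_add', sub_self]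
  choose f hf using hc
  let W' : W.left.Opens := ⟨⋂ p, (fn (f p)) ⁻¹' {fn (f p) w}, isOpen_iInter_of_finite fun p =>
    (isOpen_discrete _).preimage (fn (f p)).continuous⟩
  have hwW' : w ∈ W' := Set.mem_iInter.2 fun p => rfl
  refine ⟨subObj W W', ⟨w, hwW'⟩, fun n => res _ E (subObjι W W') (e n),
    fun n n' => fn (f (n, n')) w, ?_, fun n => ?_, fun n n' => ?_⟩
  · change (W'.ι ≫ W.hom) ⟨w, hwW'⟩ = v
    rw [Scheme.Hom.comp_apply]
    exact hw
  · change (b.hom.app _).hom (res _ E (subObjι W W') (e n)) = _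
    rw [← res_map, he, res_tHom]
  · change res _ E (subObjι W W') (e n) + res _ E (subObjι W W') (e n') -
      res _ E (subObjι W W') (e (n + n')) = _
    rw [← map_add, ← map_sub, ← hf (n, n'), res_map]
    congr 1
    apply fn_injective
    ext y'
    rw [fn_res]
    exact Set.mem_iInter.1 y'.2 (n, n')

/-- Step 3 (abstract): the finite subgroup attached to lifts with constant cocycle -/
theorem exists_finite_subgroup {G : Type*} [AddCommGroup G] {M N : Type*} [AddCommGroup M]
    [AddCommGroup N] [Finite M] [Finite N] (α : M →+ G) (e : N → G) (γ : N → N → M)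
    (h : ∀ n n', e n + e n' - e (n + n') = α (γ n n')) :
    ∃ T : AddSubgroup G, Finite T ∧ ∀ x, x ∈ T ↔ ∃ m n, x = α m + e n := by
  have h0 : e 0 = α (γ 0 0) := by
    have := h 0 0
    rw [add_zero, add_sub_cancel_right] at this
    exact this
  let T : AddSubgroup G :=
    { carrier := {x | ∃ m n, x = α m + e n}
      zero_mem' := ⟨-γ 0 0, 0, by rw [map_neg, h0]; abel⟩
      add_mem' := by
        rintro x y ⟨m, n, rfl⟩ ⟨m', n', rfl⟩
        refine ⟨m + m' + γ n n', n + n', ?_⟩
        rw [map_add, map_add, ← h]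
        abel
      neg_mem' := by
        rintro x ⟨m, n, rfl⟩
        refine ⟨-m - γ n (-n) - γ 0 0, -n, ?_⟩
        have h1 := h n (-n)
        rw [add_neg_cancel, h0] at h1
        rw [map_sub, map_sub, map_neg, ← h1]
        abel }
  refine ⟨T, ?_, fun x => Iff.rfl⟩
  have : (T : Set G) ⊆ Set.range (fun p : M × N => α p.1 + e p.2) := by
    rintro x ⟨m, n, rfl⟩
    exact ⟨(m, n), rfl⟩
  exact (Set.finite_range _).subset this

lemma tHom_eq_zero {W : V.Etale} (p : W.left) (n : ULift.{u + 1} N) (h : tHom (X := V) W n = 0) :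
    n = 0 := by
  have h1 := congrArg (fun t => fn t p) h
  apply ULift.ext
  exact h1

/-- Step 4 (global form): an extension of `lc N` by `lc M` with global lifts of constant cocycle is constant -/
theorem exists_iso_const_of_lifts [Finite M] [Finite N] {E : EtCoh.Ab V} (a : lc V M ⟶ E)
    (b : E ⟶ lc V N) (w0 : a ≫ b = 0) (hS : (ShortComplex.mk a b w0).ShortExact)
    (e : N → E.obj.obj (op (EtCoh.top V))) (γ : N → N → M)
    (he : ∀ n, (b.hom.app (op (EtCoh.top V))).hom (e n) = tHom (EtCoh.top V) ⟨n⟩)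
    (hγ : ∀ n n', e n + e n' - e (n + n') =
      (a.hom.app (op (EtCoh.top V))).hom (tHom (EtCoh.top V) ⟨γ n n'⟩)) :
    ∃ (S₀ : Type) (_ : AddCommGroup S₀) (_ : Finite S₀), Nonempty (E ≅ EtCoh.const V S₀) := by
  haveI : Mono a := hS.mono_f
  haveI : Epi b := hS.epi_g
  let α : M →+ E.obj.obj (op (EtCoh.top V)) :=
    { toFun := fun m => (a.hom.app (op (EtCoh.top V))).hom (tHom (EtCoh.top V) ⟨m⟩)
      map_zero' := by
        have e0 : (⟨(0 : M)⟩ : ULift.{u + 1} M) = 0 := rfl
        rw [e0, map_zero, map_zero]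
      map_add' := fun m m' => by rw [tHom_add', map_add] }
  obtain ⟨T, hTfin, hT⟩ := exists_finite_subgroup α e γ hγ
  have h0 : e 0 = α (γ 0 0) := by
    have := hγ 0 0
    rw [add_zero, add_sub_cancel_right] at this
    exact this
  -- the family of restriction maps
  let t : ∀ W : V.Etale, T →+ E.obj.obj (op W) := fun W =>
    (AddCommGrpCat.Hom.hom (E.obj.map (toTop W).op)).comp T.subtype
  have ht : ∀ ⦃W' W : V.Etale⦄ (f : W ⟶ W') (x : T), res _ E f (t W' x) = t W x := by
    intro W' W f x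
    change res _ E f (res _ E (toTop W') x.1) = res _ E (toTop W) x.1
    rw [← res_comp]
    congr 2
    exact (EtCore.topIsTerminal V).hom_ext _ _
  obtain ⟨s, hs⟩ := exists_hom_of_family.{u, u + 1} (J := V.smallEtaleTopology) (B := T) E t ht
  -- restriction of the structure
  have hbα : ∀ (W : V.Etale) (m : M), (b.hom.app (op W)).hom (res _ E (toTop W) (α m)) = 0 := by
    intro W m
    rw [← res_map]
    have : (b.hom.app (op (EtCoh.top V))).hom (α m) = 0 :=
      zero_sections (ShortComplex.mk a b w0) (EtCoh.top V) _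
    rw [this, map_zero]
  have hbe : ∀ (W : V.Etale) (n : N), (b.hom.app (op W)).hom (res _ E (toTop W) (e n)) = tHom W ⟨n⟩ := by
    intro W n
    rw [← res_map, he, res_tHom]
  have hresα : ∀ (W : V.Etale) (m : M), res _ E (toTop W) (α m) = (a.hom.app (op W)).hom (tHom W ⟨m⟩) := by
    intro W m
    change res _ E (toTop W) ((a.hom.app (op (EtCoh.top V))).hom _) = _
    rw [res_map, res_tHom]
  haveI : Mono s := by
    refine mono_of_cst s (fun W x hx => ?_)
    rw [hs] at hx
    rcases isEmpty_or_nonempty W.left with hemp | ⟨⟨p⟩⟩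
    · right
      rw [mem_smallEtale_iff]
      intro z
      exact (hemp.false z).elim
    · left
      obtain ⟨m, n, hmn⟩ := (hT x.1).1 x.2
      have hx' : res _ E (toTop W) (α m) + res _ E (toTop W) (e n) = 0 := by
        rw [← map_add, ← hmn]
        exact hx
      have hn : n = 0 := by
        have h1 := congrArg (fun z => (b.hom.app (op W)).hom z) hx'
        simp only [map_add, map_zero] at h1
        rw [hbα, hbe, zero_add] at h1
        have := tHom_eq_zero p _ h1
        exact congrArg ULift.down this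
      subst hn
      rw [h0, ← map_add, ← map_add, hresα] at hx'
      have h2 : tHom (X := V) W (⟨m + γ 0 0⟩ : ULift.{u + 1} M) = 0 :=
        injective_app_of_mono a W (by rw [hx', map_zero])
      have h3 : m + γ 0 0 = 0 := congrArg ULift.down (tHom_eq_zero p _ h2)
      apply Subtype.ext
      rw [hmn, h0, ← map_add, h3, map_zero]
      rfl
  haveI : Epi s := by
    refine epi_of_cst s (fun W x => ?_)
    let S : Sieve W :=
      { arrows := fun W₃ f => ∃ y : T, t W₃ y = res _ E f x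
        downward_closed := by
          rintro W₃ W₄ f ⟨y, hy⟩ g
          refine ⟨y, ?_⟩
          rw [res_comp, ← hy, ht] }
    refine ⟨S, ?_, fun W₃ f hf => ?_⟩
    swap
    · obtain ⟨y, hy⟩ := hf
      exact ⟨y, (hs W₃ y).trans hy⟩
    rw [mem_smallEtale_iff]
    intro p
    set bx := (b.hom.app (op W)).hom x with hbx
    let n : N := fn bx p
    let O₁ : W.left.Opens := ⟨(fn bx) ⁻¹' {n}, (isOpen_discrete _).preimage (fn bx).continuous⟩
    let W₁ : V.Etale := subObj W O₁
    let ι₁ : W₁ ⟶ W := subObjι W O₁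
    let p₁ : W₁.left := ⟨p, rfl⟩
    let x₁ : E.obj.obj (op W₁) := res _ E ι₁ x - res _ E (toTop W₁) (e n)
    have hx₁ : (b.hom.app (op W₁)).hom x₁ = 0 := by
      change (b.hom.app (op W₁)).hom (res _ E ι₁ x - res _ E (toTop W₁) (e n)) = 0
      rw [map_sub, hbe, ← res_map, sub_eq_zero]
      apply fn_injective
      ext q
      rw [fn_res]
      exact q.2
    obtain ⟨f₁, hf₁⟩ := exact_sections hS W₁ x₁ hx₁
    change (a.hom.app (op W₁)).hom f₁ = x₁ at hf₁
    let m : M := fn f₁ p₁
    let O₂ : W₁.left.Opens := ⟨(fn f₁) ⁻¹' {m}, (isOpen_discrete _).preimage (fn f₁).continuous⟩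
    let W₂ : V.Etale := subObj W₁ O₂
    let ι₂ : W₂ ⟶ W₁ := subObjι W₁ O₂
    let p₂ : W₂.left := ⟨p₁, rfl⟩
    have hf₂ : res _ (lc V M) ι₂ f₁ = tHom W₂ ⟨m⟩ := by
      apply fn_injective
      ext q
      rw [fn_res]
      exact q.2
    refine ⟨W₂, ι₂ ≫ ι₁, p₂, ⟨⟨α m + e n, (hT _).2 ⟨m, n, rfl⟩⟩, ?_⟩, rfl⟩
    change res _ E (toTop W₂) (α m + e n) = res _ E (ι₂ ≫ ι₁) x
    have hx : res _ E ι₁ x = x₁ + res _ E (toTop W₁) (e n) := by
      change _ = res _ E ι₁ x - res _ E (toTop W₁) (e n) + res _ E (toTop W₁) (e n)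
      rw [sub_add_cancel]
    rw [res_comp, hx, map_add, map_add, hresα, ← hf₁, res_map, hf₂, ← res_comp]
    congr 3
    exact (EtCore.topIsTerminal V).hom_ext _ _
  haveI : IsIso s := isIso_of_mono_of_epi s
  haveI : Finite (AddCommGrpCat.of T : AddCommGrpCat.{u + 1}) := hTfin
  obtain ⟨S₀, i1, i2, ⟨e₀⟩⟩ := exists_small_model (AddCommGrpCat.of T)
  exact ⟨S₀, i1, i2, ⟨(asIso s).symm ≪≫
    (constantSheaf V.smallEtaleTopology AddCommGrpCat.{u + 1}).mapIso e₀⟩⟩

noncomputable instance restrA_pfl {T : Scheme.{u}} (j : T ⟶ V) [Etale j] :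
    PreservesFiniteLimits (restrA AddCommGrpCat.{u + 1} j) :=
  preservesFiniteLimits_of_natIso (rhoA AddCommGrpCat.{u + 1} j)

noncomputable instance restrA_pfc {T : Scheme.{u}} (j : T ⟶ V) [Etale j] :
    PreservesFiniteColimits (restrA AddCommGrpCat.{u + 1} j) :=
  preservesFiniteColimits_of_natIso (rhoA AddCommGrpCat.{u + 1} j)

instance restrA_pzm {T : Scheme.{u}} (j : T ⟶ V) [Etale j] :
    (restrA AddCommGrpCat.{u + 1} j).PreservesZeroMorphisms where
  map_zero _ _ := rfl

/-- Step 5: an extension of `lc N` by `lc M` is finite locally constant -/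
theorem isFlc_of_shortExact_lc [Finite M] [Finite N] {E : EtCoh.Ab V} (a : lc V M ⟶ E)
    (b : E ⟶ lc V N) (w0 : a ≫ b = 0) (hS : (ShortComplex.mk a b w0).ShortExact) :
    EtCoh.IsFiniteLocallyConstant E := by
  rw [isFlc_iff_pull]
  choose Y y e γ hy he hγ using fun v => exists_cocycle a b w0 hS v
  refine ⟨V, Y, fun v => ⟨v, y v, hy v⟩, fun v => ?_⟩
  let F := restrA AddCommGrpCat.{u + 1} (Y v).hom
  let r : (EtShriek.compEtale (Y v).hom).obj (EtCoh.top (Y v).left) ⟶ Y v :=
    toU (Y v) (EtCoh.top (Y v).left)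
  have hS₁ := hS.map_of_exact F
  obtain ⟨S₀, i1, i2, ⟨e₀⟩⟩ := exists_iso_const_of_lifts (V := (Y v).left) (M := M) (N := N)
    (F.map a) (F.map b) ((ShortComplex.mk a b w0).map F).zero hS₁
    (fun n => res _ E r (e v n)) (γ v)
    (fun n => by
      change (b.hom.app (op _)).hom (res _ E r (e v n)) = _
      rw [← res_map, he v n]
      rfl)
    (fun n n' => by
      change res _ E r (e v n) + res _ E r (e v n') - res _ E r (e v (n + n')) =
        (a.hom.app (op _)).hom _
      rw [← map_add, ← map_sub, hγ v n n', res_map]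
      rfl)
  exact ⟨S₀, i1, i2, ⟨(rhoA AddCommGrpCat.{u + 1} (Y v).hom).app E ≪≫ e₀⟩⟩

variable {X : Scheme.{u}}

theorem isFlc_of_shortExact_const [Finite M] [Finite N] (S : ShortComplex (EtCoh.Ab X))
    (hS : S.ShortExact) (e1 : S.X₁ ≅ EtCoh.const X M) (e3 : S.X₃ ≅ EtCoh.const X N) :
    EtCoh.IsFiniteLocallyConstant S.X₂ := by
  let i1 : S.X₁ ≅ lc X M := e1 ≪≫ asIso (constToLC X M)
  let i3 : S.X₃ ≅ lc X N := e3 ≪≫ asIso (constToLC X N)
  have w0 : (i1.inv ≫ S.f) ≫ (S.g ≫ i3.hom) = 0 := by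
    rw [Category.assoc, ← Category.assoc S.f, S.zero, zero_comp, comp_zero]
  let S' : ShortComplex (EtCoh.Ab X) := ShortComplex.mk (i1.inv ≫ S.f) (S.g ≫ i3.hom) w0
  let eS : S ≅ S' := ShortComplex.isoMk i1 (Iso.refl _) i3 (by simp [S']) (by simp [S'])
  exact isFlc_of_shortExact_lc _ _ w0 (ShortComplex.shortExact_of_iso eS hS)

instance pull_pfl' {X Y : Scheme.{u}} (f : X ⟶ Y) : PreservesFiniteLimits (EtCoh.pull f) :=
  Groth.Agent.S0101.result f

theorem isFlc_of_shortExact_const_left [Finite M] (S : ShortComplex (EtCoh.Ab X))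
    (hS : S.ShortExact) (e1 : S.X₁ ≅ EtCoh.const X M) (h3 : EtCoh.IsFiniteLocallyConstant S.X₃) :
    EtCoh.IsFiniteLocallyConstant S.X₂ := by
  obtain ⟨ι, U, hU, h⟩ := (isFlc_iff_pull S.X₃).1 h3
  refine isFlc_of_cover S.X₂ U hU (fun i => ?_)
  obtain ⟨N, j1, j2, ⟨e3⟩⟩ := h i
  exact isFlc_of_shortExact_const (S.map (EtCoh.pull (U i).hom)) (hS.map_of_exact _)
    ((EtCoh.pull (U i).hom).mapIso e1 ≪≫ EtCore.pullConst _ M) e3

theorem isFlc_of_shortExact (S : ShortComplex (EtCoh.Ab X)) (hS : S.ShortExact)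
    (h1 : EtCoh.IsFiniteLocallyConstant S.X₁) (h3 : EtCoh.IsFiniteLocallyConstant S.X₃) :
    EtCoh.IsFiniteLocallyConstant S.X₂ := by
  obtain ⟨ι, U, hU, h⟩ := (isFlc_iff_pull S.X₁).1 h1
  refine isFlc_of_cover S.X₂ U hU (fun i => ?_)
  obtain ⟨M, j1, j2, ⟨e1⟩⟩ := h i
  exact isFlc_of_shortExact_const_left (S.map (EtCoh.pull (U i).hom)) (hS.map_of_exact _) e1
    (isFiniteLocallyConstant_pull _ _ h3)

end Groth.Agent.Lib.Helper23FlcExt
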