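import Mathlib
import Groth.Agent.Lib.Helper23FinStalkD
import Groth.Agent.S0622

/-!
# Stalk criteria at algebraically closed geometric points, continued (helper23)

`shortExact_of_stalks`, `stalk_unit_thetaAb`, `thetaAb_bijective_of_mono`, `isZero_stalk_of_algClosure`.
-/

set_option autoImplicit false
set_option backward.isDefEq.respectTransparency.types false
universe u

namespace Groth.Agent.Lib.Helper23.FinStalkE
open CategoryTheory CategoryTheory.Limits AlgebraicGeometry Opposite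
open Groth.Agent.Lib.Helper23.FinStalkA Groth.Agent.Lib.Helper23.FinStalkB
  Groth.Agent.Lib.Helper23.FinStalkC Groth.Agent.Lib.Helper23.FinStalkD
  Groth.Agent.Lib.Helper16.EtGlue Groth.Agent.S0101

/-- vanishing of a stalk at a separably closed geometric point can be tested after passing to the
algebraic closure -/
lemma isZero_stalk_of_algClosure {Y : Scheme.{u}} {Ω : Type u} [Field Ω] [IsSepClosed Ω]
    (ξ : Spec (CommRingCat.of Ω) ⟶ Y) (G : EtCoh.Ab Y)
    (hG : IsZero ((EtCoh.stalk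
      (Spec.map (CommRingCat.ofHom (algebraMap Ω (AlgebraicClosure Ω))) ≫ ξ)).obj G)) :
    IsZero ((EtCoh.stalk ξ).obj G) := by
  let ι : Spec (CommRingCat.of (AlgebraicClosure Ω)) ⟶ Spec (CommRingCat.of Ω) :=
    Spec.map (CommRingCat.ofHom (algebraMap Ω (AlgebraicClosure Ω)))
  let Φ := Scheme.pointSmallEtale ξ
  let Φ' := Scheme.pointSmallEtale (ι ≫ ξ)
  haveI : Subsingleton ((EtCoh.stalk (ι ≫ ξ)).obj G) :=
    AddCommGrpCat.isZero_iff_subsingleton.1 hG
  suffices h : ∀ a : (EtCoh.stalk ξ).obj G, a = 0 by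
    haveI : Subsingleton ((EtCoh.stalk ξ).obj G) := ⟨fun a b => (h a).trans (h b).symm⟩
    exact AddCommGrpCat.isZero_of_subsingleton _
  intro a
  obtain ⟨W, w, s, rfl⟩ := Φ.toPresheafFiber_jointly_surjective (P := G.obj) a
  let wb : Φ'.fiber.obj W := Over.homMk (ι ≫ w.left) (by
    have := Over.w w
    simp only [Category.assoc]
    exact congrArg (ι ≫ ·) this)
  have h0 : Φ'.toPresheafFiber W wb G.obj s = Φ'.toPresheafFiber W wb G.obj 0 :=
    @Subsingleton.elim ((EtCoh.stalk (ι ≫ ξ)).obj G) _ _ _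
  obtain ⟨W', k, wb1, hw, hk⟩ := (Φ'.toPresheafFiber_eq_iff' W wb s 0).mp h0
  let wl : Spec (CommRingCat.of Ω) ⟶ W.left := w.left
  let wbl : Spec (CommRingCat.of (AlgebraicClosure Ω)) ⟶ W'.left := wb1.left
  have e3 : wbl ≫ k.left = ι ≫ wl := congrArg (fun m => m.left) hw
  obtain ⟨l, hl1, hl2⟩ := Scheme.exists_fac_of_etale_of_isSepClosed k.left wl
    (wbl (default : Spec (CommRingCat.of (AlgebraicClosure Ω)))) (by
      have := congrArg (fun m : Spec (CommRingCat.of (AlgebraicClosure Ω)) ⟶ W.left =>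
        m (default : Spec (CommRingCat.of (AlgebraicClosure Ω)))) e3
      simp only [Scheme.Hom.comp_apply] at this
      refine this.trans ?_
      exact congrArg _ (Subsingleton.elim _ _))
  let w' : Φ.fiber.obj W' := Over.homMk l (by
    have h1 : k.left ≫ W.hom = W'.hom := Over.w k.hom
    change l ≫ W'.hom = ξ
    rw [← h1, ← Category.assoc, hl1]
    exact Over.w w)
  have hw' : Φ.fiber.map k w' = w := by
    apply Over.OverMorphism.ext
    exact hl1
  rw [← hw', ← Φ.toPresheafFiber_w_apply, hk]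
  simp only [map_zero]
  rfl

/-- a three-term complex of abelian etale sheaves is short exact as soon as at every algebraically
closed geometric point either the first map is bijective on stalks and the third stalk vanishes, or
the first stalk vanishes and the second map is bijective on stalks -/
lemma shortExact_of_stalks {X : Scheme.{u}} {A B C : EtCoh.Ab X} (f : A ⟶ B) (g : B ⟶ C)
    (w : f ≫ g = 0)
    (h : ∀ (Ω : Type u) [Field Ω] [IsAlgClosed Ω] (ξ : Spec (CommRingCat.of Ω) ⟶ X),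
      (Function.Bijective ((EtCoh.stalk ξ).map f) ∧ Subsingleton ((EtCoh.stalk ξ).obj C)) ∨
      (Subsingleton ((EtCoh.stalk ξ).obj A) ∧ Function.Bijective ((EtCoh.stalk ξ).map g))) :
    (ShortComplex.mk f g w).ShortExact := by
  haveI : Mono f := by
    apply mono_of_stalks_algClosed
    intro Ω _ _ ξ
    rcases h Ω ξ with ⟨h1, _⟩ | ⟨h1, _⟩
    · exact h1.1
    · intro a b _
      exact Subsingleton.elim _ _
  haveI : Epi g := by
    apply epi_of_stalks_algClosed
    intro Ω _ _ ξ
    rcases h Ω ξ with ⟨_, h1⟩ | ⟨_, h1⟩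
    · intro c
      exact ⟨0, Subsingleton.elim _ _⟩
    · exact h1.2
  have hex : (ShortComplex.mk f g w).Exact := by
    rw [ShortComplex.exact_iff_epi_kernel_lift]
    change Epi (kernel.lift g f w)
    apply epi_of_stalks_algClosed
    intro Ω _ _ ξ x
    have hκ : Function.Injective ((EtCoh.stalk ξ).map (kernel.ι g)) :=
      ((Groth.Agent.S0622.result (ShortComplex.mk f g w) (kernel.ι g)).2.1.1 inferInstance) Ω ξ
    have h1 : (EtCoh.stalk ξ).map g ((EtCoh.stalk ξ).map (kernel.ι g) x) = 0 := by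
      rw [← ConcreteCategory.comp_apply, ← Functor.map_comp, kernel.condition]
      have h0 : (EtCoh.stalk ξ).map (0 : kernel g ⟶ C) = 0 := Functor.map_zero _ _ _
      rw [h0]
      rfl
    rcases h Ω ξ with ⟨h2, _⟩ | ⟨_, h2⟩
    · obtain ⟨a, ha⟩ := h2.2 ((EtCoh.stalk ξ).map (kernel.ι g) x)
      refine ⟨a, hκ ?_⟩
      rw [← ConcreteCategory.comp_apply, ← Functor.map_comp, kernel.lift_ι]
      exact ha
    · have h3 : (EtCoh.stalk ξ).map (kernel.ι g) x = 0 := h2.1 (h1.trans (map_zero _).symm)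
      refine ⟨0, hκ ?_⟩
      rw [h3, map_zero, map_zero]
  exact ShortComplex.ShortExact.mk' hex ‹Mono f› ‹Epi g›


lemma isZero_pi_of_isZero {C : Type*} [Category C] [HasZeroMorphisms C] {ι : Type*} (X : ι → C)
    [HasProduct X] (h : ∀ i, IsZero (X i)) : IsZero (∏ᶜ X) := by
  rw [IsZero.iff_id_eq_zero]
  apply Pi.hom_ext
  intro i
  exact (h i).eq_of_tgt _ _

lemma isZero_sigma_of_isEmpty {C : Type*} [Category C] [HasZeroMorphisms C] {ι : Type*} [IsEmpty ι]
    (X : ι → C) [HasCoproduct X] : IsZero (∐ X) := by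
  rw [IsZero.iff_id_eq_zero]
  apply Sigma.hom_ext
  intro i
  exact isEmptyElim i

/-- the unit `F ⟶ f_* f⁻¹ F` on stalks, followed by the projection of the stalk of the direct image
to the stalk at a lift, is the stalk isomorphism of the inverse image -/
lemma stalk_unit_thetaAb {X Y : Scheme.{u}} (f : X ⟶ Y) (G : EtCoh.Ab Y)
    {Ω : Type u} [Field Ω] [IsAlgClosed Ω] (ξ : Spec (CommRingCat.of Ω) ⟶ X)
    (a : (EtCoh.stalk (ξ ≫ f)).obj G) :
    thetaAb f ((EtCoh.pull f).obj G) (ξ ≫ f) ξ rfl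
      ((EtCoh.stalk (ξ ≫ f)).map ((EtCoh.pullPushAdj f).unit.app G) a) =
    (stalkPullIso f ξ).hom.app G a := by
  obtain ⟨V, v, s, rfl⟩ := (Scheme.pointSmallEtale (ξ ≫ f)).toPresheafFiber_jointly_surjective
    (P := G.obj) a
  rw [stalkPull_germ f ξ G V v s]
  have e2 := (Scheme.pointSmallEtale (ξ ≫ f)).toPresheafFiber_naturality_apply
    ((EtCoh.pullPushAdj f).unit.app G).hom V v s
  have e2' : (EtCoh.stalk (ξ ≫ f)).map ((EtCoh.pullPushAdj f).unit.app G)
      ((Scheme.pointSmallEtale (ξ ≫ f)).toPresheafFiber V v G.obj s) =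
      (Scheme.pointSmallEtale (ξ ≫ f)).toPresheafFiber V v
        ((EtCoh.push f).obj ((EtCoh.pull f).obj G)).obj
        (((EtCoh.pullPushAdj f).unit.app G).hom.app (op V) s) := e2
  rw [e2']
  exact theta_germ f (ξ ≫ f) ξ rfl ((EtCoh.pull f).obj G).obj V v _


lemma bijective_eval_of_unique {ι : Type*} [Unique ι] {α : Type*} {β : ι → Type*}
    (φ : α → ∀ i, β i) (h : Function.Bijective φ) (i : ι) :
    Function.Bijective (fun a => φ a i) := by
  have : i = default := Subsingleton.elim _ _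
  subst this
  exact (Equiv.piUnique β).bijective.comp h

lemma thetaAb_bijective_of_mono {X Y : Scheme.{u}} (f : X ⟶ Y) [IsFinite f] [Mono f]
    (F : EtCoh.Ab X) {Ω : Type u} [Field Ω] [IsAlgClosed Ω] (η : Spec (CommRingCat.of Ω) ⟶ Y)
    (ξ : Spec (CommRingCat.of Ω) ⟶ X) (hξ : ξ ≫ f = η) :
    Function.Bijective (thetaAb f F η ξ hξ) := by
  haveI : Unique {ζ : Spec (CommRingCat.of Ω) ⟶ X // ζ ≫ f = η} :=
    { default := ⟨ξ, hξ⟩
      uniq := fun ζ => Subtype.ext ((cancel_mono f).1 (ζ.2.trans hξ.symm)) }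
  exact bijective_eval_of_unique
    (β := fun ζ : {ζ : Spec (CommRingCat.of Ω) ⟶ X // ζ ≫ f = η} => (EtCoh.stalk ζ.1).obj F)
    _ (thetaAb_bijective f F η) ⟨ξ, hξ⟩

end Groth.Agent.Lib.Helper23.FinStalkE
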