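import Mathlib
import Groth.Agent.Lib.Helper23FinStalkA
import Groth.Agent.S6628

/-!
# Local structure of an integral universally injective morphism at a geometric point (helper23)

Generalisation of `Helper23FinStalkA` from finite morphisms to integral universally injective
morphisms (geometric fibres with at most one point).
-/

set_option autoImplicit false
set_option backward.isDefEq.respectTransparency.types false
universe u

namespace Groth.Agent.Lib.Helper23.IntStalkA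
open AlgebraicGeometry CategoryTheory Limits TopologicalSpace
open Groth.Agent.Lib.Helper23.FinStalkA

variable {Ω : Type u} [Field Ω]

theorem exists_good_of_propA [IsSepClosed Ω] {X Y U : Scheme.{u}} (f : X ⟶ Y)
    (hA : BigSite.PropA f) (g : U ⟶ X) [Etale g]
    (u : Spec (CommRingCat.of Ω) ⟶ U) :
    ∃ (V : Scheme.{u}) (p : V ⟶ Y) (_ : Etale p) (v : Spec (CommRingCat.of Ω) ⟶ V),
      v ≫ p = u ≫ g ≫ f ∧ Good f g u p v := by
  obtain ⟨V, p, hp, W, hW, h, hh, w, hw⟩ := hA U g (u default)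
  haveI := hp
  haveI : Etale (W.ι ≫ pullback.fst f p) := inferInstance
  haveI : Etale (h ≫ g) := by rw [hh]; infer_instance
  haveI : Etale h := Etale.of_comp h g
  obtain ⟨ω, hω, -⟩ := Scheme.exists_fac_of_etale_of_isSepClosed h u w hw
  refine ⟨V, p, hp, ω ≫ W.ι ≫ pullback.snd f p, ?_, W, hW, h, ω, hh, hω, rfl⟩
  rw [Category.assoc, Category.assoc, ← pullback.condition, ← Category.assoc W.ι, ← hh,
    Category.assoc, ← Category.assoc ω, hω]

theorem exists_good_all_of_propA [IsSepClosed Ω] {X Y : Scheme.{u}} (f : X ⟶ Y)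
    (hA : BigSite.PropA f) (η : Spec (CommRingCat.of Ω) ⟶ Y)
    {ι : Type*} (S : Finset ι) (U : ι → Scheme.{u}) (g : ∀ i, U i ⟶ X) [∀ i, Etale (g i)]
    (u : ∀ i, Spec (CommRingCat.of Ω) ⟶ U i) (hu : ∀ i, u i ≫ g i ≫ f = η)
    {V₀ : Scheme.{u}} (p₀ : V₀ ⟶ Y) [Etale p₀] (v₀ : Spec (CommRingCat.of Ω) ⟶ V₀)
    (hv₀ : v₀ ≫ p₀ = η) :
    ∃ (V : Scheme.{u}) (p : V ⟶ Y) (_ : Etale p) (v : Spec (CommRingCat.of Ω) ⟶ V) (φ : V ⟶ V₀),
      φ ≫ p₀ = p ∧ v ≫ φ = v₀ ∧ v ≫ p = η ∧ ∀ i ∈ S, Good f (g i) (u i) p v := by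
  classical
  induction S using Finset.induction_on with
  | empty =>
    exact ⟨V₀, p₀, inferInstance, v₀, 𝟙 _, Category.id_comp _, Category.comp_id _, hv₀,
      fun i hi => absurd hi (Finset.notMem_empty i)⟩
  | insert a S _ ih =>
    obtain ⟨V, p, hp, v, φ, h1, h2, h3, h4⟩ := ih
    obtain ⟨Va, pa, hpa, va, hva, hGa⟩ := exists_good_of_propA f hA (g a) (u a)
    haveI := hp
    haveI := hpa
    have hva' : va ≫ pa = η := hva.trans (hu a)
    let V' := pullback p pa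
    let p' : V' ⟶ Y := pullback.fst p pa ≫ p
    let v' : Spec (CommRingCat.of Ω) ⟶ V' := pullback.lift v va (h3.trans hva'.symm)
    refine ⟨V', p', inferInstance, v', pullback.fst p pa ≫ φ, ?_, ?_, ?_, ?_⟩
    · rw [Category.assoc, h1]
    · rw [← Category.assoc, pullback.lift_fst, h2]
    · rw [← Category.assoc, pullback.lift_fst, h3]
    · intro i hi
      rcases Finset.mem_insert.1 hi with rfl | hi
      · exact good_refine f (g i) (u i) pa va hGa p' v' (pullback.snd p pa)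
          pullback.condition.symm (pullback.lift_snd _ _ _) hva
      · exact good_refine f (g i) (u i) p v (h4 i hi) p' v' (pullback.fst p pa) rfl
          (pullback.lift_fst _ _ _) (h3.trans (hu i).symm)



/-- a point of an integral scheme over an algebraically closed field is the image of a section -/
theorem exists_section_of_integral [IsAlgClosed Ω] {P : Scheme.{u}}
    (s : P ⟶ Spec (CommRingCat.of Ω)) [IsIntegralHom s] (c : P) :
    ∃ ω : Spec (CommRingCat.of Ω) ⟶ P, ω ≫ s = 𝟙 _ ∧ ω default = c := by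
  haveI : IsAffine P := isAffine_of_isAffineHom s
  let B : CommRingCat := Γ(P, ⊤)
  let e : P ≅ Spec B := P.isoSpec
  let s' : Spec B ⟶ Spec (CommRingCat.of Ω) := e.inv ≫ s
  let ψ : CommRingCat.of Ω ⟶ B := Spec.preimage s'
  have hψ : Spec.map ψ = s' := Spec.map_preimage s'
  haveI : IsIntegralHom s' := inferInstance
  have hψi : ψ.hom.IsIntegral := by
    rw [← IsIntegralHom.SpecMap_iff, hψ]
    infer_instance
  let c' : Spec B := e.hom c
  let p : Ideal B := c'.asIdeal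
  haveI : p.IsPrime := c'.isPrime
  let π : B →+* (B ⧸ p) := Ideal.Quotient.mk p
  have hπ : Function.Surjective π := Ideal.Quotient.mk_surjective
  let χ : Ω →+* (B ⧸ p) := π.comp ψ.hom
  have hχi : χ.IsIntegral := RingHom.IsIntegral.trans _ _ hψi (RingHom.isIntegral_of_surjective _ hπ)
  have hχb : Function.Bijective χ := IsAlgClosed.ringHom_bijective_of_isIntegral χ hχi
  let E : Ω ≃+* (B ⧸ p) := RingEquiv.ofBijective χ hχb
  let ρ : B →+* Ω := (E.symm : (B ⧸ p) →+* Ω).comp π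
  have hρψ : ρ.comp ψ.hom = RingHom.id Ω := by
    ext x
    change E.symm (χ x) = x
    exact E.symm_apply_apply x
  let ω' : Spec (CommRingCat.of Ω) ⟶ Spec B := Spec.map (CommRingCat.ofHom ρ)
  refine ⟨ω' ≫ e.inv, ?_, ?_⟩
  · rw [Category.assoc]
    change ω' ≫ s' = _
    rw [← hψ, ← Spec.map_comp]
    have : ψ ≫ CommRingCat.ofHom ρ = 𝟙 _ := by
      ext x
      exact congrArg (fun m => m x) hρψ
    rw [this, Spec.map_id]
  · have h1 : ω' default = c' := by
      apply PrimeSpectrum.ext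
      change Ideal.comap ρ (default : Spec (CommRingCat.of Ω)).asIdeal = p
      ext b
      have h0 : (default : Spec (CommRingCat.of Ω)).asIdeal = ⊥ := by
        have := (default : Spec (CommRingCat.of Ω)).isPrime
        exact (Ideal.eq_bot_or_top _).resolve_right this.ne_top
      rw [h0, Ideal.mem_comap, Ideal.mem_bot]
      change E.symm (π b) = 0 ↔ b ∈ p
      rw [E.symm.map_eq_zero_iff, Ideal.Quotient.eq_zero_iff_mem]
    rw [Scheme.Hom.comp_apply, h1]
    change e.inv (e.hom c) = c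
    rw [← Scheme.Hom.comp_apply, e.hom_inv_id]
    rfl

/-- over an algebraically closed field, every point of an integral `V`-scheme over the image of a
geometric point `v` of `V` is the image of a geometric point over `v` -/
theorem exists_geo_lift_integral [IsAlgClosed Ω] {P V : Scheme.{u}} (q : P ⟶ V) [IsIntegralHom q]
    (v : Spec (CommRingCat.of Ω) ⟶ V) (c : P) (hc : q c = v default) :
    ∃ ω : Spec (CommRingCat.of Ω) ⟶ P, ω ≫ q = v ∧ ω default = c := by
  obtain ⟨c', h1, h2⟩ := Scheme.Pullback.exists_preimage_pullback (f := q) (g := v) c default hc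
  obtain ⟨ω, hω1, hω2⟩ := exists_section_of_integral (pullback.snd q v) c'
  refine ⟨ω ≫ pullback.fst q v, ?_, ?_⟩
  · rw [Category.assoc, pullback.condition, ← Category.assoc, hω1, Category.id_comp]
  · rw [Scheme.Hom.comp_apply, hω2, h1]

/-- **Local structure of an integral morphism at a geometric point with finite, separated
geometric fibre.** Given étale neighbourhoods `(U ξ, u ξ)` of all the geometric points `ξ` above
`η`, there is an étale neighbourhood `(V, v)` of `η` over which `X` splits into disjoint clopen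
pieces `W ξ`, each containing the geometric point `(ξ, v)` and mapping to `U ξ` compatibly with the
geometric points. -/
theorem exists_split_nbhd_of_sep [IsAlgClosed Ω] {X Y : Scheme.{u}} (f : X ⟶ Y) [IsIntegralHom f]
    (η : Spec (CommRingCat.of Ω) ⟶ Y)
    (hsep : Finite {ξ : Spec (CommRingCat.of Ω) ⟶ X // ξ ≫ f = η} ∧
      ∃ (V₁ : Scheme.{u}) (p₁ : V₁ ⟶ Y) (_ : Etale p₁) (v₁ : Spec (CommRingCat.of Ω) ⟶ V₁)
        (hv₁ : v₁ ≫ p₁ = η)
        (Z : {ξ : Spec (CommRingCat.of Ω) ⟶ X // ξ ≫ f = η} → (pullback f p₁).Opens),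
        (∀ ξ, IsClosed (Z ξ : Set ↥(pullback f p₁))) ∧
        (∀ a b, a ≠ b → Disjoint (Z a) (Z b)) ∧
        ∀ ξ : {ξ : Spec (CommRingCat.of Ω) ⟶ X // ξ ≫ f = η},
          (pullback.lift ξ.1 v₁ (ξ.2.trans hv₁.symm)) default ∈ Z ξ)
    (U : {ξ : Spec (CommRingCat.of Ω) ⟶ X // ξ ≫ f = η} → Scheme.{u})
    (g : ∀ ξ, U ξ ⟶ X) [∀ ξ, Etale (g ξ)]
    (u : ∀ ξ, Spec (CommRingCat.of Ω) ⟶ U ξ) (hu : ∀ ξ, u ξ ≫ g ξ = ξ.1) :
    ∃ (V : Scheme.{u}) (p : V ⟶ Y) (_ : Etale p) (v : Spec (CommRingCat.of Ω) ⟶ V), v ≫ p = η ∧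
      ∃ W : {ξ : Spec (CommRingCat.of Ω) ⟶ X // ξ ≫ f = η} → (pullback f p).Opens,
        (∀ a b, a ≠ b → Disjoint (W a) (W b)) ∧ (⨆ a, W a) = ⊤ ∧
        ∀ ξ, GoodW f (g ξ) (u ξ) p v (W ξ) := by
  classical
  obtain ⟨hfin, V₁, p₁, hp₁, v₁, hv₁, Z, hZc, hZd, hZpt⟩ := hsep
  haveI := hp₁
  haveI := hfin
  letI : Fintype {ξ : Spec (CommRingCat.of Ω) ⟶ X // ξ ≫ f = η} := Fintype.ofFinite _
  have huf : ∀ ξ : {ξ : Spec (CommRingCat.of Ω) ⟶ X // ξ ≫ f = η}, u ξ ≫ g ξ ≫ f = η := by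
    intro ξ
    rw [← Category.assoc, hu ξ, ξ.2]
  obtain ⟨V, p, hp, v, φ, hφ, hvφ, hvp, hG⟩ :=
    exists_good_all_of_propA f (Groth.Agent.S6628.result f) η (Finset.univ) U g u huf p₁ v₁ hv₁
  haveI := hp
  choose W0 hW0 using fun ξ => hG ξ (Finset.mem_univ ξ)
  let Φ : pullback f p ⟶ pullback f p₁ := bcMap f p₁ p φ hφ
  let W1 : {ξ : Spec (CommRingCat.of Ω) ⟶ X // ξ ≫ f = η} → (pullback f p).Opens :=
    fun ξ => W0 ξ ⊓ Φ ⁻¹ᵁ (Z ξ)
  have hvp' : ∀ ξ : {ξ : Spec (CommRingCat.of Ω) ⟶ X // ξ ≫ f = η}, v ≫ p = u ξ ≫ g ξ ≫ f :=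
    fun ξ => hvp.trans (huf ξ).symm
  have hcξ : ∀ ξ : {ξ : Spec (CommRingCat.of Ω) ⟶ X // ξ ≫ f = η}, (u ξ ≫ g ξ) ≫ f = v ≫ p :=
    fun ξ => by rw [Category.assoc, hvp' ξ]
  have hW1c : ∀ ξ, IsClosed (W1 ξ : Set ↥(pullback f p)) := by
    intro ξ
    exact (hW0 ξ).1.inter ((hZc ξ).preimage Φ.continuous)
  have hpt1 : ∀ ξ, (pullback.lift (u ξ ≫ g ξ) v (hcξ ξ)) default ∈ W1 ξ := by
    intro ξ
    obtain ⟨-, h, ω, hh, hω, hωv⟩ := hW0 ξ
    have hωpt := goodW_point hh hω hωv (hcξ ξ)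
    refine ⟨?_, ?_⟩
    · rw [← hωpt]
      exact (ω default).2
    · change Φ ((pullback.lift (u ξ ≫ g ξ) v (hcξ ξ)) default) ∈ Z ξ
      have h1 : pullback.lift (u ξ ≫ g ξ) v (hcξ ξ) ≫ Φ =
          pullback.lift ξ.1 v₁ (ξ.2.trans hv₁.symm) := by
        apply pullback.hom_ext
        · rw [Category.assoc, bcMap_fst, pullback.lift_fst, pullback.lift_fst, hu ξ]
        · rw [Category.assoc, bcMap_snd, ← Category.assoc, pullback.lift_snd, pullback.lift_snd,
            hvφ]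
      have h2 : Φ ((pullback.lift (u ξ ≫ g ξ) v (hcξ ξ)) default) =
          (pullback.lift (u ξ ≫ g ξ) v (hcξ ξ) ≫ Φ) default := rfl
      rw [h2, h1]
      exact hZpt ξ
  have hG1 : ∀ ξ, GoodW f (g ξ) (u ξ) p v (W1 ξ) := fun ξ =>
    goodW_shrink f (g ξ) (u ξ) p v (W0 ξ) (W1 ξ) (hW0 ξ) inf_le_left (hW1c ξ) (hvp' ξ) (hpt1 ξ)
  have hW1d : ∀ a b, a ≠ b → Disjoint (W1 a) (W1 b) := by
    intro a b hab
    rw [disjoint_iff]
    ext q
    simp only [Opens.coe_inf, Set.mem_inter_iff, SetLike.mem_coe, Opens.coe_bot,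
      Set.mem_empty_iff_false, iff_false, not_and]
    intro ha hb
    have h1 : Φ q ∈ Z a := ha.2
    have h2 : Φ q ∈ Z b := hb.2
    have h3 := hZd a b hab
    rw [disjoint_iff] at h3
    have h4 : Φ q ∈ Z a ⊓ Z b := ⟨h1, h2⟩
    rw [h3] at h4
    exact h4
  -- the closed set to remove
  let sP : pullback f p ⟶ V := pullback.snd f p
  haveI : IsIntegralHom sP := inferInstance
  let C : Set ↥(pullback f p) := (⋃ ξ, (W1 ξ : Set ↥(pullback f p)))ᶜ
  have hCc : IsClosed C := (isOpen_iUnion fun ξ => (W1 ξ).isOpen).isClosed_compl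
  let D : Set ↥V := sP '' C
  have hDc : IsClosed D := sP.isClosedMap _ hCc
  have hvD : v default ∉ D := by
    rintro ⟨c, hcC, hc⟩
    obtain ⟨ω, hω1, hω2⟩ := exists_geo_lift_integral sP v c hc
    have hξ : (ω ≫ pullback.fst f p) ≫ f = η := by
      rw [Category.assoc, pullback.condition, ← Category.assoc, hω1, hvp]
    let ξ : {ξ : Spec (CommRingCat.of Ω) ⟶ X // ξ ≫ f = η} := ⟨ω ≫ pullback.fst f p, hξ⟩
    have h1 : ω = pullback.lift (u ξ ≫ g ξ) v (hcξ ξ) := by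
      apply pullback.hom_ext
      · rw [pullback.lift_fst, hu ξ]
      · rw [pullback.lift_snd]; exact hω1
    apply hcC
    refine Set.mem_iUnion.2 ⟨ξ, ?_⟩
    rw [← hω2, h1]
    exact hpt1 ξ
  let V₀ : V.Opens := ⟨Dᶜ, hDc.isOpen_compl⟩
  have hrange : Set.range v ⊆ Set.range V₀.ι := by
    rintro _ ⟨a, rfl⟩
    rw [Scheme.Opens.range_ι, Subsingleton.elim a default]
    exact hvD
  let v₀ : Spec (CommRingCat.of Ω) ⟶ (V₀ : Scheme.{u}) := IsOpenImmersion.lift V₀.ι v hrange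
  have hv₀ : v₀ ≫ V₀.ι = v := IsOpenImmersion.lift_fac _ _ _
  let p₀ : (V₀ : Scheme.{u}) ⟶ Y := V₀.ι ≫ p
  let ρ : pullback f p₀ ⟶ pullback f p := bcMap f p p₀ V₀.ι rfl
  refine ⟨V₀, p₀, inferInstance, v₀, ?_, fun ξ => ρ ⁻¹ᵁ (W1 ξ), ?_, ?_, ?_⟩
  · rw [← Category.assoc, hv₀, hvp]
  · intro a b hab
    rw [disjoint_iff]
    ext q
    simp only [Opens.coe_inf, Set.mem_inter_iff, SetLike.mem_coe, Opens.coe_bot,
      Set.mem_empty_iff_false, iff_false, not_and]
    intro ha hb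
    have h3 := hW1d a b hab
    rw [disjoint_iff] at h3
    have h4 : ρ q ∈ W1 a ⊓ W1 b := ⟨ha, hb⟩
    rw [h3] at h4
    exact h4
  · rw [eq_top_iff]
    intro q _
    by_contra hcon
    have h1 : sP (ρ q) = V₀.ι (pullback.snd f p₀ q) := by
      change (ρ ≫ pullback.snd f p) q = _
      rw [bcMap_snd]; rfl
    have h2 : sP (ρ q) ∉ D := by
      rw [h1]
      exact (pullback.snd f p₀ q).2
    apply h2
    refine ⟨ρ q, ?_, rfl⟩
    intro hmem
    obtain ⟨ξ, hξ⟩ := Set.mem_iUnion.1 hmem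
    exact hcon (Opens.mem_iSup.2 ⟨ξ, hξ⟩)
  · intro ξ
    exact goodW_refine f (g ξ) (u ξ) p v (W1 ξ) (hG1 ξ) p₀ v₀ V₀.ι rfl hv₀ (hvp' ξ)


/-- the geometric fibres of a universally injective morphism have at most one point -/
theorem subsingleton_lifts {X Y : Scheme.{u}} (f : X ⟶ Y) [UniversallyInjective f]
    (η : Spec (CommRingCat.of Ω) ⟶ Y) :
    Subsingleton {ξ : Spec (CommRingCat.of Ω) ⟶ X // ξ ≫ f = η} := by
  constructor
  intro a b
  apply Subtype.ext
  have h0 : UniversallyInjective f ↔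
      ∀ (K : Type u) [Field K], Function.Injective (fun g : Spec (.of K) ⟶ X ↦ g ≫ f) :=
    (tfae_universallyInjective f).out 0 1
  exact h0.1 ‹UniversallyInjective f› Ω (a.2.trans b.2.symm)

/-- **Local structure of an integral universally injective morphism at a geometric point.** -/
theorem exists_split_nbhd_ui [IsAlgClosed Ω] {X Y : Scheme.{u}} (f : X ⟶ Y) [IsIntegralHom f]
    [UniversallyInjective f] (η : Spec (CommRingCat.of Ω) ⟶ Y)
    (U : {ξ : Spec (CommRingCat.of Ω) ⟶ X // ξ ≫ f = η} → Scheme.{u})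
    (g : ∀ ξ, U ξ ⟶ X) [∀ ξ, Etale (g ξ)]
    (u : ∀ ξ, Spec (CommRingCat.of Ω) ⟶ U ξ) (hu : ∀ ξ, u ξ ≫ g ξ = ξ.1) :
    ∃ (V : Scheme.{u}) (p : V ⟶ Y) (_ : Etale p) (v : Spec (CommRingCat.of Ω) ⟶ V), v ≫ p = η ∧
      ∃ W : {ξ : Spec (CommRingCat.of Ω) ⟶ X // ξ ≫ f = η} → (pullback f p).Opens,
        (∀ a b, a ≠ b → Disjoint (W a) (W b)) ∧ (⨆ a, W a) = ⊤ ∧
        ∀ ξ, GoodW f (g ξ) (u ξ) p v (W ξ) := by
  haveI := subsingleton_lifts f η
  refine exists_split_nbhd_of_sep f η ⟨inferInstance, Y, 𝟙 Y, inferInstance, η, Category.comp_id _,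
    fun _ => ⊤, fun _ => isClosed_univ, fun a b hab => absurd (Subsingleton.elim a b) hab,
    fun _ => trivial⟩ U g u hu

end Groth.Agent.Lib.Helper23.IntStalkA
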