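import Mathlib
import Groth.Agent.Lib.Helper23FinStalkB
import Groth.Agent.Lib.Helper23IntStalkA

/-!
# Stalks of direct images along integral universally injective morphisms (helper23)

`theta_bijective_ui`: for `f` integral and universally injective, the canonical map from the stalk of
`f_* P` at an algebraically closed geometric point `η` to the product of the stalks of `P` at the (at
most one) geometric points above `η` is bijective.
-/

set_option autoImplicit false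
set_option backward.isDefEq.respectTransparency false
universe u v' u' w'

namespace Groth.Agent.Lib.Helper23.IntStalkB
open AlgebraicGeometry CategoryTheory Limits TopologicalSpace Opposite
open Groth.Agent.Lib.Helper23.FinStalkA Groth.Agent.Lib.Helper23.FinStalkB
  Groth.Agent.Lib.Helper23.IntStalkA Groth.Agent.Lib.Helper16.SmallEtale
  Groth.Agent.Lib.Helper16.EtGlue

variable {X Y : Scheme.{u}} (f : X ⟶ Y) {Ω : Type u} [Field Ω] [IsAlgClosed Ω]
  (η : Spec (CommRingCat.of Ω) ⟶ Y)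
variable {A : Type u'} [Category.{v'} A] [HasColimitsOfSize.{u, u} A]
  {FC : A → A → Type*} {CC : A → Type w'} [∀ X Y, FunLike (FC X Y) (CC X) (CC Y)]
  [ConcreteCategory.{w'} A FC]

variable [PreservesFilteredColimitsOfSize.{u, u} (forget A)] [IsIntegralHom f] [UniversallyInjective f]

theorem theta_surjective_ui (P : X.Etaleᵒᵖ ⥤ A)
    (hP : Presieve.IsSheaf X.smallEtaleTopology (P ⋙ forget A))
    (t : ∀ ξ : {ξ : Spec (CommRingCat.of Ω) ⟶ X // ξ ≫ f = η},
      ToType ((Scheme.pointSmallEtale ξ.1).presheafFiber.obj P)) :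
    ∃ a : ToType ((Scheme.pointSmallEtale η).presheafFiber.obj ((EtCoh.bc f).op ⋙ P)),
      ∀ ξ : {ξ : Spec (CommRingCat.of Ω) ⟶ X // ξ ≫ f = η}, theta f η ξ.1 ξ.2 P a = t ξ := by
  have key : ∀ ξ : {ξ : Spec (CommRingCat.of Ω) ⟶ X // ξ ≫ f = η},
      ∃ (U : X.Etale) (u : (Scheme.pointSmallEtale ξ.1).fiber.obj U) (s : ToType (P.obj (op U))),
        (Scheme.pointSmallEtale ξ.1).toPresheafFiber U u P s = t ξ :=
    fun ξ => (Scheme.pointSmallEtale ξ.1).toPresheafFiber_jointly_surjective (t ξ)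
  choose U u s hs using key
  obtain ⟨V, p, hp, v, hvp, W, hWd, hWc, hG⟩ := exists_split_nbhd_ui f η (fun ξ => (U ξ).left)
    (fun ξ => (U ξ).hom) (fun ξ => (u ξ).left) (fun ξ => Over.w (u ξ))
  haveI := hp
  let V' : Y.Etale := Scheme.Etale.mk p
  let v' : (Scheme.pointSmallEtale η).fiber.obj V' := Over.homMk v hvp
  let B' : X.Etale := (EtCoh.bc f).obj V'
  let e : pullback f p ≅ B'.left := pullbackSymmetry f p
  have he1 : e.hom ≫ pullback.fst V'.hom f = pullback.snd f p := pullbackSymmetry_hom_comp_fst f p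
  have he2 : e.hom ≫ pullback.snd V'.hom f = pullback.fst f p := pullbackSymmetry_hom_comp_snd f p
  choose h ω hh hω hωv using fun ξ => (hG ξ).2
  have hho : ∀ ξ, h ξ ≫ (U ξ).hom = (pieceObj B' e (W ξ)).hom := by
    intro ξ
    rw [pieceObj_hom, hh ξ]
    change _ = (W ξ).ι ≫ e.hom ≫ pullback.snd V'.hom f
    rw [he2]
  let ho : ∀ ξ, pieceObj B' e (W ξ) ⟶ U ξ := fun ξ =>
    MorphismProperty.Over.homMk (h ξ) (hho ξ) trivial
  have hωo : ∀ ξ : {ξ : Spec (CommRingCat.of Ω) ⟶ X // ξ ≫ f = η},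
      ω ξ ≫ (pieceObj B' e (W ξ)).hom = ξ.1 := by
    intro ξ
    rw [← hho ξ, ← Category.assoc, hω ξ]
    exact Over.w (u ξ)
  let ωo : ∀ ξ : {ξ : Spec (CommRingCat.of Ω) ⟶ X // ξ ≫ f = η},
      (Scheme.pointSmallEtale ξ.1).fiber.obj (pieceObj B' e (W ξ)) := fun ξ =>
    Over.homMk (ω ξ) (hωo ξ)
  have h1 : ∀ ξ, (Scheme.pointSmallEtale ξ.1).fiber.map (ho ξ) (ωo ξ) = u ξ := by
    intro ξ
    apply Over.OverMorphism.ext
    exact hω ξ
  have h2 : ∀ ξ : {ξ : Spec (CommRingCat.of Ω) ⟶ X // ξ ≫ f = η},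
      (Scheme.pointSmallEtale ξ.1).fiber.map (pieceMap B' e (W ξ)) (ωo ξ) =
        liftPt f η ξ.1 ξ.2 V' v' := by
    intro ξ
    apply Over.OverMorphism.ext
    change ω ξ ≫ (W ξ).ι ≫ e.hom = pullback.lift v ξ.1 _
    apply pullback.hom_ext
    · rw [pullback.lift_fst, Category.assoc, Category.assoc, he1, hωv ξ]
    · rw [pullback.lift_snd, Category.assoc, Category.assoc, he2, ← hh ξ, ← Category.assoc, hω ξ]
      exact Over.w (u ξ)
  obtain ⟨z, hz, -⟩ := exists_unique_glue_pieces (P ⋙ forget A) hP B' e W hWd hWc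
    (fun ξ => (P ⋙ forget A).map (ho ξ).op (s ξ))
  refine ⟨(Scheme.pointSmallEtale η).toPresheafFiber V' v' ((EtCoh.bc f).op ⋙ P) z, fun ξ => ?_⟩
  rw [theta_germ, ← h2 ξ, ← (Scheme.pointSmallEtale ξ.1).toPresheafFiber_w_apply]
  have hz' : P.map (pieceMap B' e (W ξ)).op z = P.map (ho ξ).op (s ξ) := hz ξ
  rw [hz', (Scheme.pointSmallEtale ξ.1).toPresheafFiber_w_apply, h1 ξ, hs ξ]


theorem theta_injective_ui (P : X.Etaleᵒᵖ ⥤ A)
    (hP : Presieve.IsSheaf X.smallEtaleTopology (P ⋙ forget A))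
    (a₁ a₂ : ToType ((Scheme.pointSmallEtale η).presheafFiber.obj ((EtCoh.bc f).op ⋙ P)))
    (hθ : ∀ ξ : {ξ : Spec (CommRingCat.of Ω) ⟶ X // ξ ≫ f = η},
      theta f η ξ.1 ξ.2 P a₁ = theta f η ξ.1 ξ.2 P a₂) : a₁ = a₂ := by
  obtain ⟨V₀, v₀, z₁, z₂, rfl, rfl⟩ :=
    (Scheme.pointSmallEtale η).toPresheafFiber_jointly_surjective₂ a₁ a₂
  let B₀ : X.Etale := (EtCoh.bc f).obj V₀
  have key : ∀ ξ : {ξ : Spec (CommRingCat.of Ω) ⟶ X // ξ ≫ f = η},
      ∃ (U : X.Etale) (g : U ⟶ B₀) (u : (Scheme.pointSmallEtale ξ.1).fiber.obj U),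
        (Scheme.pointSmallEtale ξ.1).fiber.map g u = liftPt f η ξ.1 ξ.2 V₀ v₀ ∧
        P.map g.op z₁ = P.map g.op z₂ := by
    intro ξ
    have h1 := hθ ξ
    rw [theta_germ, theta_germ] at h1
    exact ((Scheme.pointSmallEtale ξ.1).toPresheafFiber_eq_iff' _ _ z₁ z₂).mp h1
  choose U g u hgu hgz using key
  -- the relative situation
  let f₀ : B₀.left ⟶ V₀.left := pullback.fst V₀.hom f
  haveI : IsIntegralHom f₀ := inferInstance
  haveI : UniversallyInjective f₀ :=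
    MorphismProperty.pullback_fst (P := @UniversallyInjective) _ _ inferInstance
  let η₀ : Spec (CommRingCat.of Ω) ⟶ V₀.left := v₀.left
  have hη₀ : η₀ ≫ V₀.hom = η := Over.w v₀
  have hback : ∀ ξ₀ : {ξ₀ : Spec (CommRingCat.of Ω) ⟶ B₀.left // ξ₀ ≫ f₀ = η₀},
      (ξ₀.1 ≫ pullback.snd V₀.hom f) ≫ f = η := by
    intro ξ₀
    rw [Category.assoc, ← pullback.condition, ← Category.assoc]
    have : ξ₀.1 ≫ pullback.fst V₀.hom f = η₀ := ξ₀.2
    rw [this, hη₀]
  let back : {ξ₀ : Spec (CommRingCat.of Ω) ⟶ B₀.left // ξ₀ ≫ f₀ = η₀} →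
      {ξ : Spec (CommRingCat.of Ω) ⟶ X // ξ ≫ f = η} :=
    fun ξ₀ => ⟨ξ₀.1 ≫ pullback.snd V₀.hom f, hback ξ₀⟩
  have hu₀ : ∀ ξ₀ : {ξ₀ : Spec (CommRingCat.of Ω) ⟶ B₀.left // ξ₀ ≫ f₀ = η₀},
      (u (back ξ₀)).left ≫ (g (back ξ₀)).left = ξ₀.1 := by
    intro ξ₀
    have h1 := congrArg (fun m => m.left) (hgu (back ξ₀))
    have h2 : (u (back ξ₀)).left ≫ (g (back ξ₀)).left =
        pullback.lift v₀.left (back ξ₀).1 ((Over.w v₀).trans (back ξ₀).2.symm) := h1
    rw [h2]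
    apply pullback.hom_ext
    · rw [pullback.lift_fst]; exact ξ₀.2.symm
    · rw [pullback.lift_snd]; rfl
  obtain ⟨V, p, hp, v, hvp, W, hWd, hWc, hG⟩ := exists_split_nbhd_ui f₀ η₀
    (fun ξ₀ => (U (back ξ₀)).left) (fun ξ₀ => (g (back ξ₀)).left) (fun ξ₀ => (u (back ξ₀)).left) hu₀
  haveI := hp
  let V' : Y.Etale := Scheme.Etale.mk (p ≫ V₀.hom)
  let k : V' ⟶ V₀ := MorphismProperty.Over.homMk p rfl trivial
  have hv' : v ≫ p ≫ V₀.hom = η := by rw [← Category.assoc, hvp, hη₀]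
  let v' : (Scheme.pointSmallEtale η).fiber.obj V' := Over.homMk v hv'
  have hkv : (Scheme.pointSmallEtale η).fiber.map k v' = v₀ := by
    apply Over.OverMorphism.ext
    exact hvp
  let B' : X.Etale := (EtCoh.bc f).obj V'
  let e : pullback f₀ p ≅ B'.left :=
    pullbackSymmetry f₀ p ≪≫ pullbackRightPullbackFstIso V₀.hom f p
  have he1 : e.hom ≫ pullback.fst V'.hom f = pullback.snd f₀ p := by
    change (pullbackSymmetry f₀ p ≪≫ pullbackRightPullbackFstIso V₀.hom f p).hom ≫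
      pullback.fst (p ≫ V₀.hom) f = _
    rw [Iso.trans_hom, Category.assoc, pullbackRightPullbackFstIso_hom_fst,
      pullbackSymmetry_hom_comp_fst]
  have he2 : e.hom ≫ pullback.snd V'.hom f = pullback.fst f₀ p ≫ pullback.snd V₀.hom f := by
    change (pullbackSymmetry f₀ p ≪≫ pullbackRightPullbackFstIso V₀.hom f p).hom ≫
      pullback.snd (p ≫ V₀.hom) f = _
    rw [Iso.trans_hom, Category.assoc, pullbackRightPullbackFstIso_hom_snd,
      ← Category.assoc, pullbackSymmetry_hom_comp_snd]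
  have he3 : e.hom ≫ ((EtCoh.bc f).map k).left = pullback.fst f₀ p := by
    apply pullback.hom_ext
    · rw [Category.assoc, bc_map_left_fst, ← Category.assoc, he1]
      exact pullback.condition.symm
    · rw [Category.assoc, bc_map_left_snd, he2]
  choose h ω hh hω hωv using fun ξ₀ => (hG ξ₀).2
  have hho : ∀ ξ₀, h ξ₀ ≫ (U (back ξ₀)).hom = (pieceObj B' e (W ξ₀)).hom := by
    intro ξ₀
    have h1 : (g (back ξ₀)).left ≫ B₀.hom = (U (back ξ₀)).hom := Over.w (g (back ξ₀)).hom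
    rw [pieceObj_hom, ← h1, ← Category.assoc, hh ξ₀]
    change _ = (W ξ₀).ι ≫ e.hom ≫ pullback.snd V'.hom f
    rw [he2, Category.assoc]
    rfl
  let ho : ∀ ξ₀, pieceObj B' e (W ξ₀) ⟶ U (back ξ₀) := fun ξ₀ =>
    MorphismProperty.Over.homMk (h ξ₀) (hho ξ₀) trivial
  have hcompat : ∀ ξ₀, ho ξ₀ ≫ g (back ξ₀) = pieceMap B' e (W ξ₀) ≫ (EtCoh.bc f).map k := by
    intro ξ₀
    apply MorphismProperty.Over.Hom.ext
    change h ξ₀ ≫ (g (back ξ₀)).left = ((W ξ₀).ι ≫ e.hom) ≫ ((EtCoh.bc f).map k).left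
    rw [hh ξ₀, Category.assoc, he3]
  let y₁ : ToType (P.obj (op B')) := P.map ((EtCoh.bc f).map k).op z₁
  let y₂ : ToType (P.obj (op B')) := P.map ((EtCoh.bc f).map k).op z₂
  have hy : ∀ ξ₀, P.map (pieceMap B' e (W ξ₀)).op y₁ = P.map (pieceMap B' e (W ξ₀)).op y₂ := by
    intro ξ₀
    have e1 : ∀ z : ToType (P.obj (op B₀)), P.map (pieceMap B' e (W ξ₀)).op
        (P.map ((EtCoh.bc f).map k).op z) = P.map (ho ξ₀).op (P.map (g (back ξ₀)).op z) := by
      intro z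
      rw [← ConcreteCategory.comp_apply, ← ConcreteCategory.comp_apply, ← P.map_comp, ← P.map_comp,
        ← op_comp, ← op_comp, hcompat ξ₀]
    change P.map (pieceMap B' e (W ξ₀)).op (P.map ((EtCoh.bc f).map k).op z₁) =
      P.map (pieceMap B' e (W ξ₀)).op (P.map ((EtCoh.bc f).map k).op z₂)
    rw [e1, e1, hgz]
  have hyy : y₁ = y₂ := by
    obtain ⟨z, -, hz⟩ := exists_unique_glue_pieces (P ⋙ forget A) hP B' e W hWd hWc
      (fun ξ₀ => (P ⋙ forget A).map (pieceMap B' e (W ξ₀)).op y₁)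
    exact (hz y₁ (fun _ => rfl)).trans (hz y₂ (fun ξ₀ => (hy ξ₀).symm)).symm
  have e1 : ∀ z : ToType (P.obj (op B₀)),
      (Scheme.pointSmallEtale η).toPresheafFiber V₀ v₀ ((EtCoh.bc f).op ⋙ P) z =
      (Scheme.pointSmallEtale η).toPresheafFiber V' v' ((EtCoh.bc f).op ⋙ P)
        (P.map ((EtCoh.bc f).map k).op z) := by
    intro z
    have := (Scheme.pointSmallEtale η).toPresheafFiber_w_apply k v' ((EtCoh.bc f).op ⋙ P) z
    rw [hkv] at this
    exact this.symm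
  rw [e1 z₁, e1 z₂]
  exact congrArg _ hyy


/-- **Stalk of an integral universally injective direct image**: the canonical map from the stalk of `f_* P` at `η` to the
product of the stalks of `P` at the geometric points above `η` is bijective. -/
theorem theta_bijective_ui (P : X.Etaleᵒᵖ ⥤ A)
    (hP : Presieve.IsSheaf X.smallEtaleTopology (P ⋙ forget A)) :
    Function.Bijective
      (fun (a : ToType ((Scheme.pointSmallEtale η).presheafFiber.obj ((EtCoh.bc f).op ⋙ P)))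
        (ξ : {ξ : Spec (CommRingCat.of Ω) ⟶ X // ξ ≫ f = η}) => theta f η ξ.1 ξ.2 P a) := by
  refine ⟨fun a₁ a₂ h => theta_injective_ui f η P hP a₁ a₂ (fun ξ => congrFun h ξ), fun t => ?_⟩
  obtain ⟨a, ha⟩ := theta_surjective_ui f η P hP t
  exact ⟨a, funext ha⟩


end Groth.Agent.Lib.Helper23.IntStalkB
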