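import Mathlib
import Groth.Agent.Lib.Helper23IntStalkB
import Groth.Agent.Lib.Helper23FinStalkE

/-!
# Direct images of abelian étale sheaves along integral universally injective morphisms (helper23)

`thetaAb_bijective_ui`, `thetaAb_bijective_of_ui`, `subsingleton_stalk_push_of_isEmpty`,
`stalk_counit` (the counit on stalks is `thetaAb` up to `stalkPullIso`), `isIso_counit_ui`.
-/

set_option autoImplicit false
set_option backward.isDefEq.respectTransparency.types false
universe u

namespace Groth.Agent.Lib.Helper23.IntStalkC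
open CategoryTheory CategoryTheory.Limits AlgebraicGeometry Opposite
open Groth.Agent.Lib.Helper23.FinStalkA Groth.Agent.Lib.Helper23.FinStalkB
  Groth.Agent.Lib.Helper23.FinStalkC Groth.Agent.Lib.Helper23.FinStalkD
  Groth.Agent.Lib.Helper23.FinStalkE Groth.Agent.Lib.Helper23.IntStalkA
  Groth.Agent.Lib.Helper23.IntStalkB
  Groth.Agent.Lib.Helper16.EtGlue Groth.Agent.S0101

theorem thetaAb_bijective_ui {X Y : Scheme.{u}} (f : X ⟶ Y) [IsIntegralHom f]
    [UniversallyInjective f]
    (F : EtCoh.Ab X) {Ω : Type u} [Field Ω] [IsAlgClosed Ω] (η : Spec (CommRingCat.of Ω) ⟶ Y) :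
    Function.Bijective (fun (a : (EtCoh.stalk η).obj ((EtCoh.push f).obj F))
      (ξ : {ξ : Spec (CommRingCat.of Ω) ⟶ X // ξ ≫ f = η}) => thetaAb f F η ξ.1 ξ.2 a) :=
  theta_bijective_ui f η F.obj
    ((isSheaf_iff_isSheaf_of_type _ _).1
      ((Presheaf.isSheaf_iff_isSheaf_forget _ F.obj (forget AddCommGrpCat.{u + 1})).1 F.property))

/-- for an integral universally injective morphism the stalk of the direct image at `ξ ≫ f` is the
stalk at `ξ` -/
lemma thetaAb_bijective_of_ui {X Y : Scheme.{u}} (f : X ⟶ Y) [IsIntegralHom f]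
    [UniversallyInjective f]
    (F : EtCoh.Ab X) {Ω : Type u} [Field Ω] [IsAlgClosed Ω] (η : Spec (CommRingCat.of Ω) ⟶ Y)
    (ξ : Spec (CommRingCat.of Ω) ⟶ X) (hξ : ξ ≫ f = η) :
    Function.Bijective (thetaAb f F η ξ hξ) := by
  haveI := subsingleton_lifts f η
  haveI : Unique {ζ : Spec (CommRingCat.of Ω) ⟶ X // ζ ≫ f = η} :=
    { default := ⟨ξ, hξ⟩
      uniq := fun ζ => Subsingleton.elim _ _ }
  exact bijective_eval_of_unique
    (β := fun ζ : {ζ : Spec (CommRingCat.of Ω) ⟶ X // ζ ≫ f = η} => (EtCoh.stalk ζ.1).obj F)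
    _ (thetaAb_bijective_ui f F η) ⟨ξ, hξ⟩

/-- the stalk of the direct image vanishes at geometric points outside the image -/
lemma subsingleton_stalk_push_of_isEmpty {X Y : Scheme.{u}} (f : X ⟶ Y) [IsIntegralHom f]
    [UniversallyInjective f]
    (F : EtCoh.Ab X) {Ω : Type u} [Field Ω] [IsAlgClosed Ω] (η : Spec (CommRingCat.of Ω) ⟶ Y)
    (h : IsEmpty {ξ : Spec (CommRingCat.of Ω) ⟶ X // ξ ≫ f = η}) :
    Subsingleton ((EtCoh.stalk η).obj ((EtCoh.push f).obj F)) := by
  have hb := thetaAb_bijective_ui f F η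
  constructor
  intro a b
  apply hb.1
  funext ξ
  exact (h.false ξ).elim

/-- the counit `f⁻¹ f_* F ⟶ F` on the stalk at `ξ` is `thetaAb` up to the stalk isomorphism of the
inverse image -/
lemma stalk_counit {X Y : Scheme.{u}} (f : X ⟶ Y) (F : EtCoh.Ab X)
    {Ω : Type u} [Field Ω] [IsAlgClosed Ω] (ξ : Spec (CommRingCat.of Ω) ⟶ X)
    (a : (EtCoh.stalk (ξ ≫ f)).obj ((EtCoh.push f).obj F)) :
    (EtCoh.stalk ξ).map ((EtCoh.pullPushAdj f).counit.app F)
      ((stalkPullIso f ξ).hom.app ((EtCoh.push f).obj F) a) =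
    thetaAb f F (ξ ≫ f) ξ rfl a := by
  rw [← stalk_unit_thetaAb f ((EtCoh.push f).obj F) ξ a]
  have hn := theta_naturality f (ξ ≫ f) ξ rfl ((EtCoh.pullPushAdj f).counit.app F).hom
  have hn' := congrArg (fun m => m ((EtCoh.stalk (ξ ≫ f)).map
    ((EtCoh.pullPushAdj f).unit.app ((EtCoh.push f).obj F)) a)) 
    (congrArg (fun m => (ConcreteCategory.hom m : _ → _)) hn)
  refine Eq.trans ?_ (hn'.symm.trans ?_)
  · rfl
  · change thetaAb f F (ξ ≫ f) ξ rfl ((EtCoh.stalk (ξ ≫ f)).map ((EtCoh.push f).map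
      ((EtCoh.pullPushAdj f).counit.app F)) ((EtCoh.stalk (ξ ≫ f)).map
        ((EtCoh.pullPushAdj f).unit.app ((EtCoh.push f).obj F)) a)) = _
    have h3 : (EtCoh.stalk (ξ ≫ f)).map ((EtCoh.push f).map
        ((EtCoh.pullPushAdj f).counit.app F)) ((EtCoh.stalk (ξ ≫ f)).map
          ((EtCoh.pullPushAdj f).unit.app ((EtCoh.push f).obj F)) a) = a := by
      have t := (EtCoh.pullPushAdj f).right_triangle_components F
      have t2 : (EtCoh.stalk (ξ ≫ f)).map ((EtCoh.pullPushAdj f).unit.app ((EtCoh.push f).obj F)) ≫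
          (EtCoh.stalk (ξ ≫ f)).map ((EtCoh.push f).map ((EtCoh.pullPushAdj f).counit.app F)) =
          𝟙 _ := by
        rw [← Functor.map_comp, t]
        exact (EtCoh.stalk (ξ ≫ f)).map_id _
      exact congrArg (fun m => (ConcreteCategory.hom m) a) t2
    rw [h3]


/-- the counit `f⁻¹ f_* F ⟶ F` is an isomorphism for `f` integral and universally injective -/
theorem isIso_counit_ui {X Y : Scheme.{u}} (f : X ⟶ Y) [IsIntegralHom f] [UniversallyInjective f]
    (F : EtCoh.Ab X) : IsIso ((EtCoh.pullPushAdj f).counit.app F) := by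
  apply isIso_of_stalks_algClosed
  intro Ω _ _ ξ
  have h1 : Function.Bijective (fun a => (EtCoh.stalk ξ).map ((EtCoh.pullPushAdj f).counit.app F)
      ((stalkPullIso f ξ).hom.app ((EtCoh.push f).obj F) a)) := by
    have : (fun a => (EtCoh.stalk ξ).map ((EtCoh.pullPushAdj f).counit.app F)
        ((stalkPullIso f ξ).hom.app ((EtCoh.push f).obj F) a)) =
        (fun a => thetaAb f F (ξ ≫ f) ξ rfl a) := funext (stalk_counit f F ξ)
    rw [this]
    exact thetaAb_bijective_of_ui f F (ξ ≫ f) ξ rfl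
  have h2 : Function.Bijective ((stalkPullIso f ξ).hom.app ((EtCoh.push f).obj F)) :=
    ConcreteCategory.bijective_of_isIso _
  exact (Function.Bijective.of_comp_iff _ h2).1 h1

end Groth.Agent.Lib.Helper23.IntStalkC
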