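import Mathlib
import Groth.Agent.Lib.Helper23EtSupp
import Groth.Agent.Lib.Helper23FlcExt
import Groth.Agent.Lib.Helper19SecDescG
import Groth.Agent.Lib.Helper20EtSplitSch
import Groth.Agent.Lib.Helper23FinStalkD
import Groth.Agent.S0069
import Groth.Agent.S0631

/-!
# Pushforward of finite locally constant sheaves along finite étale morphisms (helper23)

* `isZero_of_supp_eq_empty`, `supp_eq_empty_of_isZero`, `isIso_of_isIso_pull` (a jointly surjective family of
  morphisms gives a jointly conservative family of pullback functors).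
* `isIso_decomp`: a sheaf on a finite disjoint union of clopen subschemes is the product of its pieces.
* `isFlc_pi`, `isFlc_push_finite_etale`.
-/

set_option autoImplicit false
set_option backward.isDefEq.respectTransparency.types false
universe u
open CategoryTheory CategoryTheory.Limits AlgebraicGeometry Opposite

namespace Groth.Agent.Lib.Helper23FinEtPush

open Groth.Agent.Lib.Helper16.EtStalk Groth.Agent.Lib.Helper23EtSupp Groth.Agent.Lib.Helper23FlcSerre
  Groth.Agent.Lib.Helper23FlcExt Groth.Agent.Lib.Helper23Constr Groth.Agent.Lib.Helper23LCPull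

variable {X : Scheme.{u}}

theorem isZero_of_supp_eq_empty (H : EtCoh.Ab X) (h : EtPBC.supp H = ∅) : IsZero H := by
  apply isZero_of_stalks
  intro Ω _ _ ξ
  by_contra hnz
  have : ξ default ∈ EtPBC.supp H :=
    ⟨Ω, inferInstance, inferInstance, ξ, range_eq_singleton ξ rfl, hnz⟩
  rw [h] at this
  exact this

theorem supp_eq_empty_of_isZero (H : EtCoh.Ab X) (h : IsZero H) : EtPBC.supp H = ∅ := by
  apply Set.eq_empty_of_forall_notMem
  rintro x ⟨Ω, _, _, ξ, -, hnz⟩
  haveI : (EtCoh.stalk ξ).IsLeftAdjoint :=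
    ((Scheme.pointSmallEtale ξ).skyscraperSheafAdjunction (A := AddCommGrpCat.{u + 1})).isLeftAdjoint
  exact hnz ((EtCoh.stalk ξ).map_isZero h)

instance pull_pfc {X Y : Scheme.{u}} (f : X ⟶ Y) : PreservesFiniteColimits (EtCoh.pull f) := by
  have : PreservesColimitsOfSize.{0, 0} (EtCoh.pull f) :=
    (EtCoh.pullPushAdj f).leftAdjoint_preservesColimits
  exact PreservesColimitsOfSize.preservesFiniteColimits _

instance pull_pzm {X Y : Scheme.{u}} (f : X ⟶ Y) : (EtCoh.pull f).PreservesZeroMorphisms := by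
  haveI : (EtCoh.pull f).IsLeftAdjoint := (EtCoh.pullPushAdj f).isLeftAdjoint
  infer_instance

/-- pullbacks along a jointly surjective family of morphisms detect isomorphisms -/
theorem isIso_of_isIso_pull {C : Scheme.{u}} {A B : EtCoh.Ab C} (φ : A ⟶ B) {ι : Type*}
    (Z : ι → Scheme.{u}) (j : ∀ i, Z i ⟶ C) (hj : ∀ c : C, ∃ (i : ι) (z : Z i), j i z = c)
    (h : ∀ i, IsIso ((EtCoh.pull (j i)).map φ)) : IsIso φ := by
  have hk : IsZero (kernel φ) := by
    apply isZero_of_supp_eq_empty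
    apply Set.eq_empty_of_forall_notMem
    intro x hx
    obtain ⟨i, z, rfl⟩ := hj x
    have h1 : z ∈ EtPBC.supp ((EtCoh.pull (j i)).obj (kernel φ)) := by
      rw [supp_pull]
      exact hx
    haveI := h i
    have e1 : (EtCoh.pull (j i)).obj (kernel φ) ≅ kernel ((EtCoh.pull (j i)).map φ) :=
      PreservesKernel.iso _ _
    rw [supp_eq_of_iso e1, supp_eq_empty_of_isZero _ (isZero_kernel_of_mono _)] at h1
    exact h1
  have hc : IsZero (cokernel φ) := by
    apply isZero_of_supp_eq_empty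
    apply Set.eq_empty_of_forall_notMem
    intro x hx
    obtain ⟨i, z, rfl⟩ := hj x
    have h1 : z ∈ EtPBC.supp ((EtCoh.pull (j i)).obj (cokernel φ)) := by
      rw [supp_pull]
      exact hx
    haveI := h i
    have e1 : (EtCoh.pull (j i)).obj (cokernel φ) ≅ cokernel ((EtCoh.pull (j i)).map φ) :=
      PreservesCokernel.iso _ _
    rw [supp_eq_of_iso e1, supp_eq_empty_of_isZero _ (isZero_cokernel_of_epi _)] at h1
    exact h1
  haveI : Mono φ := Preadditive.mono_of_isZero_kernel φ hk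
  haveI : Epi φ := Preadditive.epi_of_isZero_cokernel φ hc
  exact isIso_of_mono_of_epi φ

section Decomp

variable {C : Scheme.{u}} {n : ℕ} (Z : Fin n → Scheme.{u}) (ι : ∀ i, Z i ⟶ C)

/-- the pieces -/
noncomputable abbrev piece (G : EtCoh.Ab C) (i : Fin n) : EtCoh.Ab C :=
  (EtCoh.push (ι i)).obj ((EtCoh.pull (ι i)).obj G)

/-- the canonical map to the product of the pieces -/
noncomputable def decomp (G : EtCoh.Ab C) : G ⟶ ∏ᶜ (piece Z ι G) :=
  Pi.lift (fun i => (EtCoh.pullPushAdj (ι i)).unit.app G)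

theorem supp_push_subset {Z₀ : Scheme.{u}} (i : Z₀ ⟶ C) [IsClosedImmersion i] (M : EtCoh.Ab Z₀) :
    EtPBC.supp ((EtCoh.push i).obj M) ⊆ Set.range i := by
  rintro x ⟨Ω, _, _, ξ, hξ, hnz⟩
  by_contra hx
  apply hnz
  apply Groth.Agent.S0069.result i M ξ
  change Disjoint (Set.range ξ) (Set.range i)
  rw [hξ, Set.disjoint_singleton_left]
  exact hx

theorem mono_pi_π_of_isZero {D : Type*} [Category D] [HasZeroMorphisms D] {κ : Type*} (A : κ → D)
    [HasProduct A] (j : κ) (h : ∀ i, i ≠ j → IsZero (A i)) : Mono (Pi.π A j) := by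
  constructor
  intro W a b hab
  apply Pi.hom_ext
  intro i
  by_cases hij : i = j
  · subst hij
    exact hab
  · exact (h i hij).eq_of_tgt _ _

theorem isIso_decomp [∀ i, IsClosedImmersion (ι i)]
    (hdisj : Pairwise (fun i j => Disjoint (Set.range (ι i)) (Set.range (ι j))))
    (hsurj : ∀ c : C, ∃ (i : Fin n) (z : Z i), ι i z = c) (G : EtCoh.Ab C) :
    IsIso (decomp Z ι G) := by
  apply isIso_of_isIso_pull _ Z ι hsurj
  intro j
  -- the `j`-th unit becomes an isomorphism
  have h1 : IsIso ((EtCoh.pull (ι j)).map ((EtCoh.pullPushAdj (ι j)).unit.app G)) := by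
    haveI : IsIso ((EtCoh.pullPushAdj (ι j)).counit.app ((EtCoh.pull (ι j)).obj G)) :=
      (Groth.Agent.S0631.result (ι j)).2.2.2 _
    have tri := (EtCoh.pullPushAdj (ι j)).left_triangle_components G
    haveI : IsIso ((EtCoh.pull (ι j)).map ((EtCoh.pullPushAdj (ι j)).unit.app G) ≫
        (EtCoh.pullPushAdj (ι j)).counit.app ((EtCoh.pull (ι j)).obj G)) := by
      rw [tri]
      exact IsIso.id _
    exact IsIso.of_isIso_comp_right _
      ((EtCoh.pullPushAdj (ι j)).counit.app ((EtCoh.pull (ι j)).obj G))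
  -- the other pieces die
  have h2 : ∀ i, i ≠ j → IsZero ((EtCoh.pull (ι j)).obj (piece Z ι G i)) := by
    intro i hij
    apply isZero_of_supp_eq_empty
    rw [supp_pull]
    apply Set.eq_empty_of_forall_notMem
    intro z hz
    have hz' := supp_push_subset (ι i) _ hz
    exact Set.disjoint_left.1 (hdisj hij) hz' ⟨z, rfl⟩
  have h3 : Mono ((EtCoh.pull (ι j)).map (Pi.π (piece Z ι G) j)) := by
    rw [← piComparison_comp_π]
    haveI := mono_pi_π_of_isZero (fun i => (EtCoh.pull (ι j)).obj (piece Z ι G i)) j h2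
    infer_instance
  have h4 : (EtCoh.pull (ι j)).map (decomp Z ι G) ≫ (EtCoh.pull (ι j)).map (Pi.π (piece Z ι G) j) =
      (EtCoh.pull (ι j)).map ((EtCoh.pullPushAdj (ι j)).unit.app G) := by
    rw [← Functor.map_comp]
    congr 1
    exact Pi.lift_π _ _
  obtain ⟨w, -, hw2⟩ := h1.out
  haveI : IsSplitEpi ((EtCoh.pull (ι j)).map (Pi.π (piece Z ι G) j)) :=
    IsSplitEpi.mk' ⟨w ≫ (EtCoh.pull (ι j)).map (decomp Z ι G), by rw [Category.assoc, h4, hw2]; rfl⟩
  haveI : IsIso ((EtCoh.pull (ι j)).map (Pi.π (piece Z ι G) j)) := isIso_of_mono_of_isSplitEpi _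
  haveI : IsIso ((EtCoh.pull (ι j)).map (decomp Z ι G) ≫
      (EtCoh.pull (ι j)).map (Pi.π (piece Z ι G) j)) := by
    rw [h4]
    exact h1
  exact IsIso.of_isIso_comp_right _ ((EtCoh.pull (ι j)).map (Pi.π (piece Z ι G) j))

end Decomp

section Pi

theorem isFlc_of_isZero (F : EtCoh.Ab X) (h : IsZero F) : EtCoh.IsFiniteLocallyConstant F := by
  have h0 : IsZero (EtCoh.const X PUnit) := by
    have : IsZero (AddCommGrpCat.of (ULift.{u + 1} PUnit)) :=
      AddCommGrpCat.isZero_of_subsingleton _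
    exact (constantSheaf X.smallEtaleTopology AddCommGrpCat.{u + 1}).map_isZero this
  exact isFiniteLocallyConstant_of_iso (h0.iso h) (isFlc_const X PUnit)

theorem isFlc_prod (A B : EtCoh.Ab X) (hA : EtCoh.IsFiniteLocallyConstant A)
    (hB : EtCoh.IsFiniteLocallyConstant B) : EtCoh.IsFiniteLocallyConstant (A ⨯ B) := by
  let S : ShortComplex (EtCoh.Ab X) := ShortComplex.mk (biprod.inl : A ⟶ A ⊞ B) biprod.snd (by simp)
  have hS : S.ShortExact := (ShortComplex.Splitting.ofHasBinaryBiproduct A B).shortExact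
  have h2 : EtCoh.IsFiniteLocallyConstant (A ⊞ B) := isFlc_of_shortExact S hS hA hB
  exact isFiniteLocallyConstant_of_iso (biprod.isoProd A B) h2

theorem isFlc_pi : ∀ (n : ℕ) (A : Fin n → EtCoh.Ab X),
    (∀ i, EtCoh.IsFiniteLocallyConstant (A i)) → EtCoh.IsFiniteLocallyConstant (∏ᶜ A) := by
  intro n
  induction n with
  | zero =>
    intro A _
    apply isFlc_of_isZero
    have : IsTerminal (∏ᶜ A) := by
      refine IsTerminal.ofUniqueHom (fun W => Pi.lift (fun i => i.elim0)) (fun W m => ?_)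
      apply Pi.hom_ext
      intro i
      exact i.elim0
    exact (isZero_zero _).of_iso (this.uniqueUpToIso (isZero_zero _).isTerminal)
  | succ n ih =>
    intro A hA
    have h1 := ih (fun i => A i.succ) (fun i => hA i.succ)
    have h2 := isFlc_prod (A 0) (∏ᶜ fun i : Fin n => A i.succ) (hA 0) h1
    let c₁ : Fan fun i : Fin n => A i.succ := Fan.mk _ (Pi.π fun i : Fin n => A i.succ)
    have t₁ : IsLimit c₁ := productIsProduct _
    let c₂ : BinaryFan (A 0) c₁.pt := BinaryFan.mk (prod.fst : A 0 ⨯ c₁.pt ⟶ A 0) prod.snd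
    have t₂ : IsLimit c₂ := prodIsProd _ _
    have t := extendFanIsLimit A t₁ t₂
    have e : (∏ᶜ A) ≅ A 0 ⨯ c₁.pt := (productIsProduct A).conePointUniqueUpToIso t
    exact isFiniteLocallyConstant_of_iso e.symm h2

end Pi

section Main

open Groth.Agent.Lib.Helper19.SecDescEt

theorem isClosedImmersion_sigmaι {n : ℕ} (Z : Fin n → Scheme.{u}) (i : Fin n) :
    IsClosedImmersion (Sigma.ι Z i) := by
  apply IsClosedImmersion.of_isPreimmersion
  rw [← isOpen_compl_iff]
  have e : (Set.range (Sigma.ι Z i))ᶜ = ⋃ j ∈ {j : Fin n | j ≠ i}, Set.range (Sigma.ι Z j) := by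
    ext x
    simp only [Set.mem_compl_iff, Set.mem_iUnion, Set.mem_setOf_eq, exists_prop]
    constructor
    · intro hx
      obtain ⟨j, y, hy⟩ := (sigmaOpenCover Z).exists_eq x
      refine ⟨j, ?_, ⟨y, hy⟩⟩
      rintro rfl
      exact hx ⟨y, hy⟩
    · rintro ⟨j, hji, ⟨y, hy⟩⟩ ⟨z, hz⟩
      have h1 := disjoint_opensRange_sigmaι Z j i hji
      have h2 : x ∈ (Sigma.ι Z j).opensRange ⊓ (Sigma.ι Z i).opensRange := ⟨⟨y, hy⟩, ⟨z, hz⟩⟩
      rw [h1.eq_bot] at h2
      exact h2
  rw [e]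
  exact isOpen_biUnion fun j _ => (Sigma.ι Z j).isOpenEmbedding.isOpen_range

theorem isFlc_push_fold {Z : Scheme.{u}} (n : ℕ) (G : EtCoh.Ab (∐ fun _ : Fin n => Z))
    (hG : EtCoh.IsFiniteLocallyConstant G) :
    EtCoh.IsFiniteLocallyConstant ((EtCoh.push (Sigma.desc fun _ : Fin n => 𝟙 Z)).obj G) := by
  let Zf : Fin n → Scheme.{u} := fun _ => Z
  let ι : ∀ i : Fin n, Zf i ⟶ ∐ Zf := fun i => Sigma.ι Zf i
  let fold : (∐ Zf) ⟶ Z := Sigma.desc fun _ : Fin n => 𝟙 Z
  haveI : ∀ i, IsClosedImmersion (ι i) := fun i => isClosedImmersion_sigmaι Zf i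
  have hdisj : Pairwise (fun i j => Disjoint (Set.range (ι i)) (Set.range (ι j))) := by
    intro i j hij
    rw [Set.disjoint_left]
    rintro x ⟨y, hy⟩ ⟨z, hz⟩
    have h1 := disjoint_opensRange_sigmaι Zf i j hij
    have h2 : x ∈ (Sigma.ι Zf i).opensRange ⊓ (Sigma.ι Zf j).opensRange := ⟨⟨y, hy⟩, ⟨z, hz⟩⟩
    rw [h1.eq_bot] at h2
    exact h2
  have hsurj : ∀ c : ↥(∐ Zf), ∃ (i : Fin n) (z : Zf i), ι i z = c := fun c =>
    (sigmaOpenCover Zf).exists_eq c
  haveI := isIso_decomp Zf ι hdisj hsurj G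
  haveI : PreservesLimit (Discrete.functor (piece Zf ι G)) (EtCoh.push fold) := by
    haveI : PreservesLimitsOfSize.{0, 0} (EtCoh.push fold) :=
      (EtCoh.pullPushAdj fold).rightAdjoint_preservesLimits
    infer_instance
  have e1 : (EtCoh.push fold).obj G ≅ ∏ᶜ fun i => (EtCoh.push fold).obj (piece Zf ι G i) :=
    (EtCoh.push fold).mapIso (asIso (decomp Zf ι G)) ≪≫ PreservesProduct.iso _ _
  have e2 : ∀ i, (EtCoh.push fold).obj (piece Zf ι G i) ≅ (EtCoh.pull (ι i)).obj G := fun i =>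
    (EtCoh.pushComp fold (ι i)).app _ ≪≫
      (EtCoh.pushCongr (show ι i ≫ fold = 𝟙 Z from Sigma.ι_desc _ _)).app _ ≪≫ (pushId Z).app _
  have h3 : ∀ i, EtCoh.IsFiniteLocallyConstant ((EtCoh.push fold).obj (piece Zf ι G i)) := fun i =>
    isFiniteLocallyConstant_of_iso (e2 i).symm (isFiniteLocallyConstant_pull (ι i) G hG)
  exact isFiniteLocallyConstant_of_iso e1.symm (isFlc_pi n _ h3)

/-- the pushforward of a finite locally constant sheaf along a finite étale morphism is finite locally constant -/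
theorem isFlc_push_finite_etale {X Y : Scheme.{u}} (f : X ⟶ Y) [IsFinite f] [Etale f]
    (F : EtCoh.Ab X) (h : EtCoh.IsFiniteLocallyConstant F) :
    EtCoh.IsFiniteLocallyConstant ((EtCoh.push f).obj F) := by
  have key := fun y : Y => Groth.Agent.Lib.Helper20.EtSplit.exists_isPullback_sigma f y
  choose R' g hg u hu n top hpb using key
  let U : Y → Y.Etale := fun y => @Scheme.Etale.mk Y (Spec (R' y)) (g y) (hg y)
  refine isFlc_of_cover _ U (fun y => ⟨y, u y, hu y⟩) (fun y => ?_)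
  change EtCoh.IsFiniteLocallyConstant ((EtCoh.pull (g y)).obj ((EtCoh.push f).obj F))
  haveI := Groth.Agent.Lib.Helper23.FinStalkD.isIso_baseChange0_of_finite f (g y)
    (Limits.Sigma.desc fun _ : Fin (n y) => 𝟙 (Spec (R' y))) (top y) (hpb y) F
  refine isFiniteLocallyConstant_of_iso (asIso (EtCoh.baseChange0 f (g y)
    (Limits.Sigma.desc fun _ : Fin (n y) => 𝟙 (Spec (R' y))) (top y) (hpb y).w F)).symm ?_
  exact isFlc_push_fold (n y) _ (isFiniteLocallyConstant_pull (top y) F h)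

end Main

end Groth.Agent.Lib.Helper23FinEtPush
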