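import Groth.Agent.Lib.Helper16SmallEtale
import Groth.Agent.Lib.Helper9JContAll
import Groth.Prelude.Def_EtShriek2
import Groth.Prelude.Def_EtCore

/-!
# Extension by zero commutes with base change (helper9)
-/

set_option autoImplicit false
universe u
open CategoryTheory CategoryTheory.Limits AlgebraicGeometry Opposite

namespace Groth.Agent.Lib.Helper9.ExtZeroBC

open Groth.Agent.Lib.Helper16.SmallEtale

variable {V' V Y X : Scheme.{u}} (j : V ⟶ X) [AlgebraicGeometry.Etale j]
  (f : Y ⟶ X) (j' : V' ⟶ Y) [AlgebraicGeometry.Etale j'] (f' : V' ⟶ V)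
  (h : IsPullback j' f' f j)

include h in
lemma big (W : V.Etale) :
    IsPullback (pullback.fst W.hom f') (pullback.snd W.hom f' ≫ j') (W.hom ≫ j) f :=
  ((IsPullback.of_hasPullback W.hom f').flip.paste_horiz h).flip

set_option backward.isDefEq.respectTransparency.types false in
/-- the Beck–Chevalley isomorphism of site functors -/
noncomputable def theta :
    EtCoh.bc f' ⋙ EtShriek.compEtale j' ≅ EtShriek.compEtale j ⋙ EtCoh.bc f :=
  NatIso.ofComponents
    (fun W => MorphismProperty.Over.isoMk (big j f j' f' h W).isoPullback
      (IsPullback.isoPullback_hom_snd _))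
    (fun {W W'} g => by
      apply MorphismProperty.Over.Hom.ext
      apply pullback.hom_ext
      · have k1 : (big j f j' f' h W').isoPullback.hom ≫ pullback.fst (W'.hom ≫ j) f =
            pullback.fst W'.hom f' := IsPullback.isoPullback_hom_fst _
        have k2 : (big j f j' f' h W).isoPullback.hom ≫ pullback.fst (W.hom ≫ j) f =
            pullback.fst W.hom f' := IsPullback.isoPullback_hom_fst _
        have e1 : ((EtCoh.bc f).map ((EtShriek.compEtale j).map g)).left ≫
            pullback.fst (W'.hom ≫ j) f = pullback.fst (W.hom ≫ j) f ≫ g.left :=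
          bc_map_left_fst f ((EtShriek.compEtale j).map g)
        have e2 : ((EtCoh.bc f').map g).left ≫ pullback.fst W'.hom f' =
            pullback.fst W.hom f' ≫ g.left := bc_map_left_fst f' g
        change (((EtCoh.bc f').map g).left ≫ (big j f j' f' h W').isoPullback.hom) ≫
            pullback.fst (W'.hom ≫ j) f =
          ((big j f j' f' h W).isoPullback.hom ≫
            ((EtCoh.bc f).map ((EtShriek.compEtale j).map g)).left) ≫ pullback.fst (W'.hom ≫ j) f
        exact (Category.assoc _ _ _).trans
          ((congrArg (fun m => ((EtCoh.bc f').map g).left ≫ m) k1).trans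
          (e2.trans
          ((congrArg (fun m => m ≫ g.left) k2.symm).trans
          ((Category.assoc _ _ _).trans
          ((congrArg (fun m => (big j f j' f' h W).isoPullback.hom ≫ m) e1.symm).trans
          (Category.assoc _ _ _).symm)))))
      · have k1 : (big j f j' f' h W').isoPullback.hom ≫ pullback.snd (W'.hom ≫ j) f =
            pullback.snd W'.hom f' ≫ j' := IsPullback.isoPullback_hom_snd _
        have k2 : (big j f j' f' h W).isoPullback.hom ≫ pullback.snd (W.hom ≫ j) f =
            pullback.snd W.hom f' ≫ j' := IsPullback.isoPullback_hom_snd _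
        have e1 : ((EtCoh.bc f).map ((EtShriek.compEtale j).map g)).left ≫
            pullback.snd (W'.hom ≫ j) f = pullback.snd (W.hom ≫ j) f :=
          bc_map_left_snd f ((EtShriek.compEtale j).map g)
        have e2 : ((EtCoh.bc f').map g).left ≫ pullback.snd W'.hom f' =
            pullback.snd W.hom f' := bc_map_left_snd f' g
        change (((EtCoh.bc f').map g).left ≫ (big j f j' f' h W').isoPullback.hom) ≫
            pullback.snd (W'.hom ≫ j) f =
          ((big j f j' f' h W).isoPullback.hom ≫
            ((EtCoh.bc f).map ((EtShriek.compEtale j).map g)).left) ≫ pullback.snd (W'.hom ≫ j) f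
        exact (Category.assoc _ _ _).trans
          ((congrArg (fun m => ((EtCoh.bc f').map g).left ≫ m) k1).trans
          ((Category.assoc _ _ _).symm.trans
          ((congrArg (fun m => m ≫ j') e2).trans
          (k2.symm.trans
          ((congrArg (fun m => (big j f j' f' h W).isoPullback.hom ≫ m) e1.symm).trans
          (Category.assoc _ _ _).symm))))))

variable [EtShriek.JCont j] [EtShriek.JCont j']

set_option backward.isDefEq.respectTransparency.types false in
/-- `f_*` followed by restriction to `V` is restriction to `V'` followed by `f'_*` -/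
noncomputable def pushRestrIso :
    EtCoh.push f ⋙ EtShriek.restrAlong j ≅ EtShriek.restrAlong j' ⋙ EtCoh.push f' := by
  haveI : (EtCoh.bc f' ⋙ EtShriek.compEtale j').IsContinuous V.smallEtaleTopology
      Y.smallEtaleTopology :=
    Functor.isContinuous_comp _ _ _ V'.smallEtaleTopology _
  exact Functor.sheafPushforwardContinuousComp' (F := EtShriek.compEtale j) (G := EtCoh.bc f)
    (FG := EtCoh.bc f' ⋙ EtShriek.compEtale j') (theta j f j' f' h).symm
    AddCommGrpCat.{u + 1} V.smallEtaleTopology X.smallEtaleTopology Y.smallEtaleTopology ≪≫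
    (Functor.sheafPushforwardContinuousComp (EtCoh.bc f') (EtShriek.compEtale j')
      AddCommGrpCat.{u + 1} V.smallEtaleTopology V'.smallEtaleTopology Y.smallEtaleTopology).symm

/-- extension by zero commutes with base change -/
noncomputable def extZeroBaseChange :
    EtCoh.pull f' ⋙ EtShriek.extZero j' ≅ EtShriek.extZero j ⋙ EtCoh.pull f :=
  Adjunction.leftAdjointUniq
    (((EtCoh.pullPushAdj f').comp (EtShriek.extZeroAdj j')).ofNatIsoRight
      (pushRestrIso j f j' f' h).symm)
    ((EtShriek.extZeroAdj j).comp (EtCoh.pullPushAdj f))

end Groth.Agent.Lib.Helper9.ExtZeroBC
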