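import Mathlib
import Groth.Agent.Lib.Helper23ExtZeroFun
import Groth.Agent.Lib.Helper23FinEtPush
import Groth.Agent.Lib.Helper9EtPull
import Groth.Agent.S0649
import Groth.Agent.S0651
import Groth.Agent.S0652

/-!
# Extension by zero of finite locally constant sheaves along finite étale morphisms (helper23)

* `nonempty_push_iso_extZero`: `ι_* H ≅ ι_! H` for an open and closed immersion `ι`;
* `isFlc_extZero_fold`, `isFlc_extZero_finite_etale`.
-/

set_option autoImplicit false
set_option backward.isDefEq.respectTransparency.types false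
universe u
open CategoryTheory CategoryTheory.Limits AlgebraicGeometry Opposite

namespace Groth.Agent.Lib.Helper23ExtZeroFlc

open Groth.Agent.Lib.Helper23ExtZeroFun Groth.Agent.Lib.Helper23FinEtPush
  Groth.Agent.Lib.Helper23FlcSerre Groth.Agent.Lib.Helper23Constr Groth.Agent.Lib.Helper23LCPull

attribute [local instance] Groth.Agent.Lib.Helper9.JContAll.jCont

theorem nonempty_push_iso_extZero {Z W : Scheme.{u}} (ι : Z ⟶ W) [IsOpenImmersion ι]
    [IsClosedImmersion ι] [Etale ι] (H : EtCoh.Ab Z) :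
    Nonempty ((EtCoh.push ι).obj H ≅ (EtShriek.extZero ι).obj H) := by
  apply Groth.Agent.S0652.result ι H
  · haveI := (Groth.Agent.S0651.result ι H).1
    exact ⟨((Groth.Agent.Lib.Helper9.EtPull.rho ι).app _).symm ≪≫
      asIso ((EtCoh.pullPushAdj ι).counit.app H)⟩
  · intro Ω _ _ ξ hξ
    apply Groth.Agent.S0069.result ι H ξ
    rw [Set.disjoint_left]
    intro x hx hx'
    exact hξ hx hx'

theorem isFlc_extZero_fold {Z : Scheme.{u}} (n : ℕ) [Etale (Sigma.desc fun _ : Fin n => 𝟙 Z)]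
    (G : EtCoh.Ab (∐ fun _ : Fin n => Z)) (hG : EtCoh.IsFiniteLocallyConstant G) :
    EtCoh.IsFiniteLocallyConstant
      ((EtShriek.extZero (Sigma.desc fun _ : Fin n => 𝟙 Z)).obj G) := by
  let Zf : Fin n → Scheme.{u} := fun _ => Z
  let ι : ∀ i : Fin n, Zf i ⟶ ∐ Zf := fun i => Sigma.ι Zf i
  let fold : (∐ Zf) ⟶ Z := Sigma.desc fun _ : Fin n => 𝟙 Z
  haveI : ∀ i, IsClosedImmersion (ι i) := fun i => isClosedImmersion_sigmaι Zf i
  haveI : ∀ i, IsOpenImmersion (ι i) := fun i => inferInstanceAs (IsOpenImmersion (Sigma.ι Zf i))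
  have hdisj : Pairwise (fun i j => Disjoint (Set.range (ι i)) (Set.range (ι j))) := by
    intro i j hij
    rw [Set.disjoint_left]
    rintro x ⟨y, hy⟩ ⟨z, hz⟩
    have h1 := disjoint_opensRange_sigmaι Zf i j hij
    have h2 : x ∈ (Sigma.ι Zf i).opensRange ⊓ (Sigma.ι Zf j).opensRange := ⟨⟨y, hy⟩, ⟨z, hz⟩⟩
    rw [h1.eq_bot] at h2
    exact h2
  have hsurj : ∀ c : ↥(∐ Zf), ∃ (i : Fin n) (z : Zf i), ι i z = c := fun c =>
    (sigmaOpenCover Zf).exists_eq c
  haveI := isIso_decomp Zf ι hdisj hsurj G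
  haveI : (EtShriek.restrAlong fold).Additive := {}
  haveI : (EtShriek.extZero fold).Additive := (EtShriek.extZeroAdj fold).left_adjoint_additive
  have e1 : (EtShriek.extZero fold).obj G ≅
      ∏ᶜ fun i => (EtShriek.extZero fold).obj (piece Zf ι G i) :=
    (EtShriek.extZero fold).mapIso (asIso (decomp Zf ι G)) ≪≫ PreservesProduct.iso _ _
  have e2 : ∀ i, Nonempty ((EtShriek.extZero fold).obj (piece Zf ι G i) ≅ (EtCoh.pull (ι i)).obj G) := by
    intro i
    obtain ⟨a⟩ := nonempty_push_iso_extZero (ι i) ((EtCoh.pull (ι i)).obj G)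
    exact ⟨(EtShriek.extZero fold).mapIso a ≪≫ (extZeroComp (ι i) fold).app _ ≪≫
      (extZeroCongr (show ι i ≫ fold = 𝟙 Z from Sigma.ι_desc _ _)).app _ ≪≫ (extZeroId Z).app _⟩
  have h3 : ∀ i, EtCoh.IsFiniteLocallyConstant ((EtShriek.extZero fold).obj (piece Zf ι G i)) := by
    intro i
    obtain ⟨e⟩ := e2 i
    exact isFiniteLocallyConstant_of_iso e.symm (isFiniteLocallyConstant_pull (ι i) G hG)
  exact isFiniteLocallyConstant_of_iso e1.symm (isFlc_pi n _ h3)

/-- extension by zero of a finite locally constant sheaf along a finite étale morphism is finite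
locally constant -/
theorem isFlc_extZero_finite_etale {X Y : Scheme.{u}} (f : X ⟶ Y) [IsFinite f] [Etale f]
    (F : EtCoh.Ab X) (h : EtCoh.IsFiniteLocallyConstant F) :
    EtCoh.IsFiniteLocallyConstant ((EtShriek.extZero f).obj F) := by
  have key := fun y : Y => Groth.Agent.Lib.Helper20.EtSplit.exists_isPullback_sigma f y
  choose R' g hg u hu n top hpb using key
  let U : Y → Y.Etale := fun y => @Scheme.Etale.mk Y (Spec (R' y)) (g y) (hg y)
  refine isFlc_of_cover _ U (fun y => ⟨y, u y, hu y⟩) (fun y => ?_)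
  change EtCoh.IsFiniteLocallyConstant ((EtCoh.pull (g y)).obj ((EtShriek.extZero f).obj F))
  haveI : Etale (g y) := hg y
  haveI : Etale (Limits.Sigma.desc fun _ : Fin (n y) => 𝟙 (Spec (R' y))) :=
    MorphismProperty.of_isPullback (P := @Etale) (hpb y) inferInstance
  obtain ⟨e⟩ := Groth.Agent.S0649.result f (g y)
    (Limits.Sigma.desc fun _ : Fin (n y) => 𝟙 (Spec (R' y))) (top y) (hpb y).flip
  exact isFiniteLocallyConstant_of_iso (e.app F)
    (isFlc_extZero_fold (n y) _ (isFiniteLocallyConstant_pull (top y) F h))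

end Groth.Agent.Lib.Helper23ExtZeroFlc
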