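import Mathlib
import Groth.Agent.Lib.Helper23ConstrGen
import Groth.Agent.Lib.Helper23EtSupp
import Groth.Agent.Lib.Helper23StrataInf
import Groth.Agent.Lib.Helper9Lcc
import Groth.Agent.S0131
import Groth.Agent.S0133
import Groth.Agent.S0182

/-!
# Finite generation of constructible sheaves (helper23)
-/

set_option autoImplicit false
set_option backward.isDefEq.respectTransparency.types false
universe u
open CategoryTheory CategoryTheory.Limits AlgebraicGeometry Opposite

namespace Groth.Agent.Lib.Helper23ConstrGen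

section Stalk

variable {X : Scheme.{u}} {Ω : Type u} [Field Ω] [IsSepClosed Ω] (ξ : Spec (CommRingCat.of Ω) ⟶ X)

instance stalkAdditive : (EtCoh.stalk ξ).Additive := by
  have : PreservesBinaryBiproducts (EtCoh.stalk ξ) :=
    preservesBinaryBiproducts_of_preservesBinaryCoproducts _
  exact Functor.additive_of_preservesBinaryBiproducts _

/-- range of a stalk map as a subgroup -/
noncomputable def imS {F G : EtCoh.Ab X} (φ : F ⟶ G) : AddSubgroup ((EtCoh.stalk ξ).obj G) :=
  ((EtCoh.stalk ξ).map φ).hom.range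

theorem imS_comp_le {E F G : EtCoh.Ab X} (ψ : E ⟶ F) (φ : F ⟶ G) : imS ξ (ψ ≫ φ) ≤ imS ξ φ := by
  rintro _ ⟨a, rfl⟩
  refine ⟨((EtCoh.stalk ξ).map ψ).hom a, ?_⟩
  rw [Functor.map_comp]
  rfl

theorem imS_biproduct_desc {ι : Type*} [Fintype ι] (P : ι → EtCoh.Ab X) {G : EtCoh.Ab X}
    (φ : ∀ i, P i ⟶ G) :
    imS ξ (biproduct.desc φ) = ⨆ i, imS ξ (φ i) := by
  apply le_antisymm
  · rintro _ ⟨a, rfl⟩
    have h1 : (EtCoh.stalk ξ).map (biproduct.desc φ) =
        ∑ i, (EtCoh.stalk ξ).map (biproduct.π P i) ≫ (EtCoh.stalk ξ).map (φ i) := by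
      simp_rw [← Functor.map_comp]
      rw [← Functor.map_sum]
      congr 1
      apply biproduct.hom_ext'
      intro j
      rw [biproduct.ι_desc, Preadditive.comp_sum]
      rw [Finset.sum_eq_single j]
      · simp
      · intro i _ hij
        rw [biproduct.ι_π_ne_assoc _ (Ne.symm hij), zero_comp]
      · intro h
        exact absurd (Finset.mem_univ j) h
    rw [h1]
    have h2 : ∀ (s : Finset ι),
        (∑ i ∈ s, (EtCoh.stalk ξ).map (biproduct.π P i) ≫ (EtCoh.stalk ξ).map (φ i)).hom a ∈
          ⨆ i, imS ξ (φ i) := by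
      intro s
      classical
      induction s using Finset.induction_on with
      | empty => simp
      | insert i s hi ih =>
        rw [Finset.sum_insert hi]
        refine add_mem ?_ ih
        exact AddSubgroup.mem_iSup_of_mem i ⟨((EtCoh.stalk ξ).map (biproduct.π P i)).hom a, rfl⟩
    exact h2 Finset.univ
  · apply iSup_le
    intro i
    have := imS_comp_le ξ (biproduct.ι P i) (biproduct.desc φ)
    rwa [biproduct.ι_desc] at this

/-- every element of the fiber of a geometric point comes from an affine étale neighbourhood -/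
theorem exists_affine_refinement (V : X.Etale) (v : (Scheme.pointSmallEtale ξ).fiber.obj V) :
    ∃ (U : X.Etale) (_ : IsAffine U.left) (g : U ⟶ V) (u : (Scheme.pointSmallEtale ξ).fiber.obj U),
      (Scheme.pointSmallEtale ξ).fiber.map g u = v := by
  cases V with | _ Y f
  obtain ⟨y, hy, rfl⟩ := Over.homMk_surjective v
  dsimp at y hy
  obtain ⟨R, j, _, y', rfl⟩ : ∃ (R : CommRingCat) (j : Spec (.of R) ⟶ Y)
      (_ : IsOpenImmersion j) (y' : _ ⟶ _), y' ≫ j = y := by
    obtain ⟨R, j, _, hj, _⟩ := AlgebraicGeometry.Scheme.exists_affine_mem_range_and_range_subset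
      (x := y.base default) (U := ⊤) (by simp)
    refine ⟨R, j, inferInstance, _, IsOpenImmersion.lift_fac j y ?_⟩
    rintro _ ⟨a, rfl⟩
    rwa [Subsingleton.elim a default]
  refine ⟨(Scheme.AffineEtale.Spec X).obj (Scheme.AffineEtale.mk (j ≫ f)), ?_,
    MorphismProperty.Over.homMk j rfl (by simp), Over.homMk y' ?_, ?_⟩
  · change IsAffine (Spec _)
    infer_instance
  · rw [Category.assoc] at hy
    exact hy
  · cat_disch

/-- affine generators: sections of `F` over affine étale `X`-schemes -/
structure Gen (F : EtCoh.Ab X) where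
  /-- the affine étale scheme -/
  U : X.Etale
  aff : IsAffine U.left
  /-- the section -/
  s : F.obj.obj (op U)

/-- the map `j_{U!} ℤ/n ⟶ F` of a generator -/
noncomputable def Gen.map {F : EtCoh.Ab X} {n : ℕ} (hFn : EtCoh.KilledBy n F) (G : Gen F) :
    EtPBC.extZeroConst G.U (ZMod n) ⟶ F :=
  secMap G.U n G.s (hFn G.U G.s)

theorem germ_mem_imS (U : X.Etale) (n : ℕ) {F : EtCoh.Ab X} (s : F.obj.obj (op U)) (hs : n • s = 0)
    (v : (Scheme.pointSmallEtale ξ).fiber.obj U) :
    ((Scheme.pointSmallEtale ξ).toPresheafFiber U v F.obj).hom s ∈ imS ξ (secMap U n s hs) := by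
  refine ⟨((Scheme.pointSmallEtale ξ).toPresheafFiber U v
    (EtPBC.extZeroConst U (ZMod n)).obj).hom (tSec U n), ?_⟩
  have := (Scheme.pointSmallEtale ξ).toPresheafFiber_naturality_apply (secMap U n s hs).hom U v
    (tSec U n)
  rw [secMap_tSec] at this
  exact this

/-- every element of a stalk is in the image of the map of some affine generator -/
theorem exists_gen {F : EtCoh.Ab X} {n : ℕ} (hFn : EtCoh.KilledBy n F)
    (a : (EtCoh.stalk ξ).obj F) : ∃ G : Gen F, a ∈ imS ξ (G.map hFn) := by
  obtain ⟨V, v, s, rfl⟩ := (Scheme.pointSmallEtale ξ).toPresheafFiber_jointly_surjective a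
  obtain ⟨U, hU, g, u, rfl⟩ := exists_affine_refinement ξ V v
  refine ⟨⟨U, hU, (F.obj.map g.op).hom s⟩, ?_⟩
  have h1 := germ_mem_imS ξ U n ((F.obj.map g.op).hom s) (hFn U _) u
  have h2 := (Scheme.pointSmallEtale ξ).toPresheafFiber_w_apply g u F.obj s
  exact h2 ▸ h1

end Stalk

end Groth.Agent.Lib.Helper23ConstrGen
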