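import Mathlib
import Groth.Agent.Lib.Helper23ConstrGen2
import Groth.Agent.S0132

/-!
# Finite generation of constructible sheaves, part 3 (helper23)
-/

set_option autoImplicit false
set_option backward.isDefEq.respectTransparency.types false
universe u
open CategoryTheory CategoryTheory.Limits AlgebraicGeometry Opposite

namespace Groth.Agent.Lib.Helper23ConstrGen

open Groth.Agent.Lib.Helper23Strata Groth.Agent.Lib.Helper23Constr

section FinStalk

/-- a finite locally constant sheaf has a finite stalk at some geometric point over every point -/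
theorem exists_finite_stalk_of_isFlc {T : Scheme.{u}} (G : EtCoh.Ab T)
    (hG : EtCoh.IsFiniteLocallyConstant G) (t : T) :
    ∃ (Ω : Type u) (_ : Field Ω) (_ : IsSepClosed Ω) (τ : Spec (CommRingCat.of Ω) ⟶ T),
      τ default = t ∧ Finite ((EtCoh.stalk τ).obj G) := by
  obtain ⟨ι, U, hU, h⟩ := hG
  obtain ⟨i, y, hy⟩ := hU t
  obtain ⟨M, i1, i2, ⟨e⟩⟩ := h i
  obtain ⟨Ω, i3, i4, τ', hτ'⟩ := Groth.Agent.Lib.Helper9.Lcc.exists_geomPoint y
  refine ⟨Ω, i3, i4, τ' ≫ (U i).hom, ?_, ?_⟩
  · rw [Scheme.Hom.comp_apply, hτ', hy]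
  · let Φ := Scheme.pointSmallEtale (τ' ≫ (U i).hom)
    let x₀ : Φ.fiber.obj (U i) := Over.homMk τ' rfl
    obtain ⟨j⟩ := Groth.Agent.Lib.Helper9.Lcc.nonempty_stalk_iso G (U i) M e Φ x₀
    have : Finite (ULift.{u + 1} M) := inferInstance
    exact Finite.of_equiv _ j.addCommGroupIsoToAddEquiv.symm.toEquiv

/-- a constructible sheaf on a qcqs scheme has a finite stalk at some geometric point over every
point -/
theorem exists_finite_stalk {X : Scheme.{u}} [CompactSpace X] [QuasiSeparatedSpace X]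
    (F : EtCoh.Ab X) (hF : EtPBC.IsConstructible F) (x : X) :
    ∃ (Ω : Type u) (_ : Field Ω) (_ : IsSepClosed Ω) (ξ : Spec (CommRingCat.of Ω) ⟶ X),
      ξ default = x ∧ Finite ((EtCoh.stalk ξ).obj F) := by
  rw [isConstructible_iff, constr_iff_str] at hF
  obtain ⟨ι, hfin, T, g, himm, hcons, -, hcov, hQ⟩ := hF
  have hx : x ∈ ⋃ i, Set.range (g i) := hcov ▸ Set.mem_univ x
  obtain ⟨i, t, rfl⟩ := Set.mem_iUnion.1 hx
  obtain ⟨Ω, i3, i4, τ, hτ, hfinite⟩ := exists_finite_stalk_of_isFlc _ (hQ i) t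
  refine ⟨Ω, i3, i4, τ ≫ g i, ?_, ?_⟩
  · rw [Scheme.Hom.comp_apply, hτ]
  · have e := (Groth.Agent.S0101.stalkPullIso (g i) τ).app F
    have hfinite' : Finite ((EtCoh.pull (g i) ⋙ EtCoh.stalk τ).obj F) := hfinite
    exact Finite.of_equiv _ e.addCommGroupIsoToAddEquiv.symm.toEquiv

end FinStalk

section Biprod

variable {C : Type*} [Category C] [Abelian C] [HasFiniteBiproducts C]

/-- a property of objects stable under isomorphisms, zero objects and binary products is stable
under finite products -/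
theorem prop_pi (P : C → Prop) (hiso : ∀ {A B : C}, (A ≅ B) → P A → P B)
    (h0 : ∀ A, IsZero A → P A) (h2 : ∀ A B, P A → P B → P (A ⨯ B)) :
    ∀ (n : ℕ) (A : Fin n → C), (∀ i, P (A i)) → P (∏ᶜ A) := by
  intro n
  induction n with
  | zero =>
    intro A _
    apply h0
    have : IsTerminal (∏ᶜ A) := by
      refine IsTerminal.ofUniqueHom (fun W => Pi.lift (fun i => i.elim0)) (fun W m => ?_)
      apply Pi.hom_ext
      intro i
      exact i.elim0
    exact (isZero_zero _).of_iso (this.uniqueUpToIso (isZero_zero _).isTerminal)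
  | succ n ih =>
    intro A hA
    have h1 := ih (fun i => A i.succ) (fun i => hA i.succ)
    have h2' := h2 (A 0) (∏ᶜ fun i : Fin n => A i.succ) (hA 0) h1
    let c₁ : Fan fun i : Fin n => A i.succ := Fan.mk _ (Pi.π fun i : Fin n => A i.succ)
    have t₁ : IsLimit c₁ := productIsProduct _
    let c₂ : BinaryFan (A 0) c₁.pt := BinaryFan.mk (prod.fst : A 0 ⨯ c₁.pt ⟶ A 0) prod.snd
    have t₂ : IsLimit c₂ := prodIsProd _ _
    have t := extendFanIsLimit A t₁ t₂
    have e : (∏ᶜ A) ≅ A 0 ⨯ c₁.pt := (productIsProduct A).conePointUniqueUpToIso t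
    exact hiso e.symm h2'

theorem prop_biproduct (P : C → Prop) (hiso : ∀ {A B : C}, (A ≅ B) → P A → P B)
    (h0 : ∀ A, IsZero A → P A) (h2 : ∀ A B, P A → P B → P (A ⨯ B))
    {ι : Type*} [Finite ι] (A : ι → C) (hA : ∀ i, P (A i)) : P (⨁ A) := by
  obtain ⟨n, ⟨e⟩⟩ := Finite.exists_equiv_fin ι
  have h1 := prop_pi P hiso h0 h2 n (A ∘ e.symm) (fun i => hA _)
  have h3 : P (⨁ (A ∘ e.symm)) := hiso (biproduct.isoProduct _).symm h1
  exact hiso (biproduct.whiskerEquiv (f := A ∘ e.symm) (g := A) e.symm (fun j => Iso.refl _)) h3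

end Biprod

section Constr

variable {X : Scheme.{u}}

theorem isConstructible_of_isZero {F : EtCoh.Ab X} (hF : EtPBC.IsConstructible F) (Z : EtCoh.Ab X)
    (hZ : IsZero Z) : EtPBC.IsConstructible Z := by
  have h1 := Groth.Agent.S0131.isConstructible_kernel (𝟙 F) hF hF
  have h2 : IsZero (kernel (𝟙 F)) := isZero_kernel_of_mono _
  exact Groth.Agent.S0133.isConstructible_of_iso (h2.iso hZ) h1

theorem isConstructible_prod (A B : EtCoh.Ab X) (hA : EtPBC.IsConstructible A)
    (hB : EtPBC.IsConstructible B) : EtPBC.IsConstructible (A ⨯ B) := by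
  let S : ShortComplex (EtCoh.Ab X) := ShortComplex.mk (biprod.inl : A ⟶ A ⊞ B) biprod.snd (by simp)
  have hS : S.ShortExact := (ShortComplex.Splitting.ofHasBinaryBiproduct A B).shortExact
  have h2 : EtPBC.IsConstructible (A ⊞ B) :=
    Groth.Agent.S0132.isConstructible_of_shortExact S hS hA hB
  exact Groth.Agent.S0133.isConstructible_of_iso (biprod.isoProd A B) h2

theorem isConstructible_biproduct {F : EtCoh.Ab X} (hF : EtPBC.IsConstructible F)
    {ι : Type*} [Finite ι] (A : ι → EtCoh.Ab X) (hA : ∀ i, EtPBC.IsConstructible (A i)) :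
    EtPBC.IsConstructible (⨁ A) :=
  prop_biproduct (fun A => EtPBC.IsConstructible A)
    (fun e h => Groth.Agent.S0133.isConstructible_of_iso e h)
    (fun Z hZ => isConstructible_of_isZero hF Z hZ)
    (fun A B hA hB => isConstructible_prod A B hA hB) A hA

end Constr

end Groth.Agent.Lib.Helper23ConstrGen
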