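import Mathlib
import Groth.Agent.Lib.Helper23ConstrGen3

/-!
# Finite generation of constructible sheaves, part 4 (helper23)

On a qcqs scheme, a constructible abelian sheaf killed by `n > 0` is a quotient of a finite direct sum
of sheaves `j_{U!} ℤ/n` with `U` affine étale (`exists_epi`).
-/

set_option autoImplicit false
set_option backward.isDefEq.respectTransparency.types false
universe u
open CategoryTheory CategoryTheory.Limits AlgebraicGeometry Opposite

namespace Groth.Agent.Lib.Helper23ConstrGen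

open Groth.Agent.Lib.Helper23Strata Groth.Agent.Lib.Helper23Constr

section Ab

theorem nonempty_iso_cokernel {C : Type*} [Category C] [Abelian C] {P P' F : C} (Φ : P ⟶ F) [Epi Φ]
    (Ψ : P' ⟶ kernel Φ) [Epi Ψ] : Nonempty (F ≅ cokernel (Ψ ≫ kernel.ι Φ)) := by
  have e1 : cokernel (Ψ ≫ kernel.ι Φ) ≅ cokernel (kernel.ι Φ) := cokernelEpiComp Ψ (kernel.ι Φ)
  have h := Abelian.epiIsCokernelOfKernel (f := Φ) _ (kernelIsKernel Φ)
  have e2 : cokernel (kernel.ι Φ) ≅ F :=
    (colimit.isColimit (parallelPair (kernel.ι Φ) 0)).coconePointUniqueUpToIso h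
  exact ⟨(e1 ≪≫ e2).symm⟩

theorem additive_of_adj {C D : Type*} [Category C] [Category D] [Preadditive C] [Preadditive D]
    [HasBinaryBiproducts C] [HasBinaryBiproducts D] {L : C ⥤ D} {R : D ⥤ C} (adj : L ⊣ R) :
    L.Additive := by
  have : L.IsLeftAdjoint := adj.isLeftAdjoint
  have : PreservesColimitsOfSize.{0, 0} L := adj.leftAdjoint_preservesColimits
  have : PreservesBinaryBiproducts L := preservesBinaryBiproducts_of_preservesBinaryCoproducts _
  exact Functor.additive_of_preservesBinaryBiproducts _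

end Ab

section Main

variable {X : Scheme.{u}}

theorem nsmul_id_extZeroConst (U : X.Etale) (n : ℕ) :
    n • 𝟙 (EtPBC.extZeroConst U (ZMod n)) = 0 := by
  have hadd : (constantSheaf (X.smallEtaleTopology.over U) AddCommGrpCat.{u + 1} ⋙
      EtPBC.extZero U).Additive := additive_of_adj (adjC U)
  have h1 : n • 𝟙 (AddCommGrpCat.of (ULift.{u + 1} (ZMod n))) = 0 := by
    ext x
    rw [AddCommGrpCat.hom_nsmul, AddCommGrpCat.hom_zero]
    change (n • x).down = 0
    rw [ULift.smul_down, nsmul_eq_mul]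
    simp
  have h2 := congrArg (fun m => (constantSheaf (X.smallEtaleTopology.over U) AddCommGrpCat.{u + 1} ⋙
      EtPBC.extZero U).map m) h1
  simp only [Functor.map_nsmul, Functor.map_zero] at h2
  rw [CategoryTheory.Functor.map_id] at h2
  exact h2

theorem nsmul_id_biproduct {ι : Type*} [Finite ι] (A : ι → EtCoh.Ab X) (n : ℕ)
    (h : ∀ i, n • 𝟙 (A i) = 0) : n • 𝟙 (⨁ A) = 0 := by
  apply biproduct.hom_ext'
  intro j
  rw [Preadditive.comp_nsmul, Category.comp_id, comp_zero]
  have : biproduct.ι A j = 𝟙 (A j) ≫ biproduct.ι A j := by simp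
  rw [this, ← Preadditive.nsmul_comp, h, zero_comp]

variable {F : EtCoh.Ab X} {n : ℕ} (hFn : EtCoh.KilledBy n F)

/-- the direct sum of the `j_{U!} ℤ/n` over a finite set of generators -/
noncomputable def PS (S : Finset (Gen F)) (n : ℕ) : EtCoh.Ab X :=
  ⨁ fun G : ↥S => EtPBC.extZeroConst G.1.U (ZMod n)

/-- the map `⨁ j_{U!} ℤ/n ⟶ F` of a finite set of generators -/
noncomputable def ΦS (S : Finset (Gen F)) : PS S n ⟶ F :=
  biproduct.desc fun G : ↥S => G.1.map hFn

theorem nsmul_id_PS (S : Finset (Gen F)) : n • 𝟙 (PS S n) = 0 :=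
  nsmul_id_biproduct _ n (fun G => nsmul_id_extZeroConst G.1.U n)

section Stalk

variable {Ω : Type u} [Field Ω] [IsSepClosed Ω] (ξ : Spec (CommRingCat.of Ω) ⟶ X)

theorem imS_ΦS (S : Finset (Gen F)) : imS ξ (ΦS hFn S) = ⨆ G : ↥S, imS ξ (G.1.map hFn) :=
  imS_biproduct_desc ξ _ _

theorem imS_ΦS_mono {S S' : Finset (Gen F)} (h : S ⊆ S') :
    imS ξ (ΦS hFn S) ≤ imS ξ (ΦS hFn S') := by
  rw [imS_ΦS, imS_ΦS]
  exact iSup_le fun G => le_iSup_of_le (⟨G.1, h G.2⟩ : ↥S') le_rfl

theorem isZero_stalk_cokernel_iff {F G : EtCoh.Ab X} (φ : F ⟶ G) :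
    IsZero ((EtCoh.stalk ξ).obj (cokernel φ)) ↔ imS ξ φ = ⊤ := by
  have e : (EtCoh.stalk ξ).obj (cokernel φ) ≅ cokernel ((EtCoh.stalk ξ).map φ) :=
    PreservesCokernel.iso _ _
  rw [e.isZero_iff]
  constructor
  · intro h
    have := Preadditive.epi_of_isZero_cokernel _ h
    rw [AddCommGrpCat.epi_iff_surjective] at this
    exact AddMonoidHom.range_eq_top.2 this
  · intro h
    have : Epi ((EtCoh.stalk ξ).map φ) := by
      rw [AddCommGrpCat.epi_iff_surjective]
      exact AddMonoidHom.range_eq_top.1 h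
    exact isZero_cokernel_of_epi _

end Stalk

open Groth.Agent.Lib.Helper23EtSupp in
theorem isConstructible_PS [CompactSpace X] [QuasiSeparatedSpace X]
    (hF : EtPBC.IsConstructible F) (hn : 0 < n) (S : Finset (Gen F)) :
    EtPBC.IsConstructible (PS S n) := by
  refine isConstructible_biproduct hF _ (fun G => ?_)
  haveI := G.1.aff
  haveI : NeZero n := ⟨hn.ne'⟩
  exact Groth.Agent.S0133.result X G.1.U (ZMod n)

open Groth.Agent.Lib.Helper23EtSupp in
/-- every point is outside the support of the cokernel of the map of some finite set of generators -/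
theorem exists_finset_not_mem_supp [CompactSpace X] [QuasiSeparatedSpace X]
    (hF : EtPBC.IsConstructible F) (x : X) :
    ∃ S : Finset (Gen F), x ∉ EtPBC.supp (cokernel (ΦS hFn S)) := by
  classical
  obtain ⟨Ω, i1, i2, ξ, hξ, hfin⟩ := exists_finite_stalk F hF x
  haveI := Fintype.ofFinite ((EtCoh.stalk ξ).obj F)
  choose G hG using exists_gen ξ hFn
  refine ⟨Finset.univ.image G, fun hx => ?_⟩
  have h1 := (mem_supp_iff _ x).1 hx Ω ξ (range_eq_singleton ξ hξ)
  apply h1
  rw [isZero_stalk_cokernel_iff, eq_top_iff]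
  intro a _
  rw [imS_ΦS]
  exact (le_iSup (fun G' : ↥(Finset.univ.image G) => imS ξ (G'.1.map hFn))
    ⟨G a, Finset.mem_image_of_mem G (Finset.mem_univ a)⟩) (hG a)

open Groth.Agent.Lib.Helper23EtSupp in
/-- a constructible sheaf killed by `n` on a qcqs scheme is a quotient of a finite direct sum of
`j_{U!} ℤ/n` with `U` affine étale -/
theorem exists_epi [CompactSpace X] [QuasiSeparatedSpace X] (hn : 0 < n)
    (hF : EtPBC.IsConstructible F) : ∃ S : Finset (Gen F), Epi (ΦS hFn S) := by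
  classical
  have hcons : ∀ S : Finset (Gen F),
      Topology.IsConstructible (EtPBC.supp (cokernel (ΦS hFn S)))ᶜ := by
    intro S
    have h1 := Groth.Agent.S0131.isConstructible_cokernel (ΦS hFn S) (isConstructible_PS hF hn S) hF
    rw [isConstructible_iff, constr_iff_str] at h1
    exact (isConstructible_supp_of_str _ h1).compl
  have hcov : ⋃ S : Finset (Gen F), (EtPBC.supp (cokernel (ΦS hFn S)))ᶜ = Set.univ := by
    apply Set.eq_univ_of_forall
    intro x
    obtain ⟨S, hS⟩ := exists_finset_not_mem_supp hFn hF x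
    exact Set.mem_iUnion.2 ⟨S, hS⟩
  obtain ⟨t, ht⟩ := ConsTop.exists_finite_subcover _ hcons hcov
  refine ⟨t.biUnion id, ?_⟩
  apply Groth.Agent.Lib.Helper16.EtStalk.epi_of_stalks
  intro Ω _ _ ξ
  have hx : ξ default ∈ ⋃ S ∈ t, (EtPBC.supp (cokernel (ΦS hFn S)))ᶜ := ht ▸ Set.mem_univ _
  simp only [Set.mem_iUnion] at hx
  obtain ⟨S, hSt, hS⟩ := hx
  have h2 : IsZero ((EtCoh.stalk ξ).obj (cokernel (ΦS hFn S))) := by
    by_contra hnz
    exact hS ⟨Ω, inferInstance, inferInstance, ξ, range_eq_singleton ξ rfl, hnz⟩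
  rw [isZero_stalk_cokernel_iff] at h2
  have h3 : imS ξ (ΦS hFn (t.biUnion id)) = ⊤ := by
    rw [eq_top_iff, ← h2]
    apply imS_ΦS_mono
    intro G hG
    exact Finset.mem_biUnion.2 ⟨S, hSt, hG⟩
  exact AddMonoidHom.range_eq_top.1 h3

end Main

end Groth.Agent.Lib.Helper23ConstrGen
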