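import Mathlib
import Groth.Agent.Lib.Helper23ConstrGen4

/-!
# Constructible sheaves on qcqs schemes are killed by a positive integer (helper23)

* `exists_lift_of_immersion`: a field-valued point whose image lies in the range of an immersion lifts.
* `eq_zero_of_stalks`: a morphism of abelian étale sheaves vanishing on all geometric stalks is zero.
* `exists_killedBy_of_isConstructible`: constructible on qcqs ⟹ killed by some `N > 0`.
* `isConstructible_zero`: zero sheaves are constructible.
-/

set_option autoImplicit false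
set_option backward.isDefEq.respectTransparency.types false
universe u
open CategoryTheory CategoryTheory.Limits AlgebraicGeometry Opposite

namespace Groth.Agent.Lib.Helper23ConstrTors

open Groth.Agent.Lib.Helper23Strata Groth.Agent.Lib.Helper23Constr Groth.Agent.Lib.Helper23ConstrGen

/-- a field-valued point whose image lies in the range of an immersion lifts along the immersion -/
theorem exists_lift_of_immersion {T X : Scheme.{u}} (g : T ⟶ X) [IsImmersion g] {Ω : Type u} [Field Ω]
    (ξ : Spec (CommRingCat.of Ω) ⟶ X) (h : ξ default ∈ Set.range g) :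
    ∃ τ : Spec (CommRingCat.of Ω) ⟶ T, τ ≫ g = ξ := by
  obtain ⟨t, ht⟩ := h
  obtain ⟨z, hz1, hz2⟩ := Scheme.Pullback.exists_preimage_pullback (f := ξ) (g := g) default t ht.symm
  have hsurj : Surjective (pullback.fst ξ g) := by
    constructor
    intro y
    exact ⟨z, hz1.trans (Subsingleton.elim _ _)⟩
  have hcl : IsClosedImmersion (pullback.fst ξ g) := by
    apply IsClosedImmersion.of_isPreimmersion
    rw [hsurj.1.range_eq]
    exact isClosed_univ
  have hiso : IsIso (pullback.fst ξ g) := isIso_of_isClosedImmersion_of_surjective _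
  refine ⟨inv (pullback.fst ξ g) ≫ pullback.snd ξ g, ?_⟩
  rw [Category.assoc, ← pullback.condition, IsIso.inv_hom_id_assoc]

section Stalks

variable {X : Scheme.{u}}

theorem isIso_cokernel_π_of_eq_zero {C : Type*} [Category C] [Abelian C] {A B : C} (f : A ⟶ B)
    (h : f = 0) : IsIso (cokernel.π f) := by
  subst h
  infer_instance

/-- a morphism of abelian étale sheaves vanishing on all geometric stalks is zero -/
theorem eq_zero_of_stalks {F G : EtCoh.Ab X} (φ : F ⟶ G)
    (h : ∀ (Ω : Type u) [Field Ω] [IsSepClosed Ω] (ξ : Spec (CommRingCat.of Ω) ⟶ X),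
      (EtCoh.stalk ξ).map φ = 0) : φ = 0 := by
  have hmono : Mono (cokernel.π φ) := by
    apply Groth.Agent.Lib.Helper16.EtStalk.mono_of_stalks
    intro Ω _ _ ξ
    have h1 := isIso_cokernel_π_of_eq_zero _ (h Ω ξ)
    have h2 : cokernel.π ((EtCoh.stalk ξ).map φ) ≫ (PreservesCokernel.iso (EtCoh.stalk ξ) φ).inv =
        (EtCoh.stalk ξ).map (cokernel.π φ) := by
      rw [PreservesCokernel.iso_inv]
      exact π_comp_cokernelComparison _ _
    have h3 : IsIso ((EtCoh.stalk ξ).map (cokernel.π φ)) := by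
      rw [← h2]
      infer_instance
    exact ((ConcreteCategory.isIso_iff_bijective _).1 h3).1
  exact eq_zero_of_mono_cokernel φ

/-- all geometric stalks are killed by `N` -/
def StalkKilled (N : ℕ) (F : EtCoh.Ab X) : Prop :=
  ∀ (Ω : Type u) [Field Ω] [IsSepClosed Ω] (ξ : Spec (CommRingCat.of Ω) ⟶ X)
    (a : (EtCoh.stalk ξ).obj F), N • a = 0

theorem killedBy_of_stalkKilled {N : ℕ} {F : EtCoh.Ab X} (h : StalkKilled N F) :
    EtCoh.KilledBy N F := by
  rw [killedBy_iff]
  apply eq_zero_of_stalks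
  intro Ω _ _ ξ
  rw [Functor.map_nsmul, CategoryTheory.Functor.map_id]
  ext a
  rw [AddCommGrpCat.hom_nsmul, AddCommGrpCat.hom_zero]
  exact h Ω ξ a

theorem nsmul_eq_zero_of_iso {A B : AddCommGrpCat.{u + 1}} (e : A ≅ B) (N : ℕ)
    (h : ∀ b : B, N • b = 0) (a : A) : N • a = 0 := by
  have h1 : e.inv.hom (e.hom.hom a) = a := by
    have := congrArg (fun m => m.hom a) e.hom_inv_id
    exact this
  rw [← h1, ← map_nsmul, h, map_zero]

/-- a finite locally constant sheaf on a quasi-compact scheme has stalks killed by some `N > 0` -/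
theorem exists_stalkKilled_of_isFlc {T : Scheme.{u}} [CompactSpace T] (G : EtCoh.Ab T)
    (hG : EtCoh.IsFiniteLocallyConstant G) : ∃ N : ℕ, 0 < N ∧ StalkKilled N G := by
  classical
  obtain ⟨ι, U, hU, h⟩ := hG
  choose M i1 i2 e using h
  have hopen : ∀ i, IsOpen (Set.range (U i).hom) := fun i => (U i).hom.isOpenMap.isOpen_range
  have hcov : (Set.univ : Set T) ⊆ ⋃ i, Set.range (U i).hom := by
    intro t _
    obtain ⟨i, y, hy⟩ := hU t
    exact Set.mem_iUnion.2 ⟨i, y, hy⟩
  obtain ⟨s, hs⟩ := isCompact_univ.elim_finite_subcover _ hopen hcov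
  refine ⟨∏ i ∈ s, Nat.card (M i), Finset.prod_pos fun i _ => ?_, ?_⟩
  · haveI := i2 i
    exact Nat.card_pos
  · intro Ω _ _ ξ a
    have h1 := hs (Set.mem_univ (ξ default))
    simp only [Set.mem_iUnion] at h1
    obtain ⟨i, his, y, hy⟩ := h1
    obtain ⟨l, hl1, hl2⟩ := Scheme.exists_fac_of_etale_of_isSepClosed (U i).hom ξ y hy
    let Φ := Scheme.pointSmallEtale ξ
    let x₀ : Φ.fiber.obj (U i) := Over.homMk l hl1
    obtain ⟨j⟩ := Groth.Agent.Lib.Helper9.Lcc.nonempty_stalk_iso G (U i) (M i) (e i).some Φ x₀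
    refine nsmul_eq_zero_of_iso j _ (fun b => ?_) a
    obtain ⟨k, hk⟩ := Finset.dvd_prod_of_mem (fun i => Nat.card (M i)) his
    rw [hk, mul_nsmul]
    have : Nat.card (M i) • b = 0 := by
      apply ULift.ext
      rw [ULift.smul_down]
      exact card_nsmul_eq_zero'
    rw [this, smul_zero]

/-- a constructible sheaf on a qcqs scheme is killed by some `N > 0` -/
theorem exists_killedBy_of_isConstructible [CompactSpace X] [QuasiSeparatedSpace X]
    (F : EtCoh.Ab X) (hF : EtPBC.IsConstructible F) : ∃ N : ℕ, 0 < N ∧ EtCoh.KilledBy N F := by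
  classical
  rw [isConstructible_iff, constr_iff_str] at hF
  obtain ⟨ι, hfin, T, g, himm, hcons, -, hcov, hQ⟩ := hF
  haveI := Fintype.ofFinite ι
  have hcomp : ∀ i, CompactSpace (T i) := by
    intro i
    have h1 := ConsTop.isCompact_of_isConstructible (hcons i)
    rw [← Set.image_univ, ← (g i).isEmbedding.isCompact_iff] at h1
    exact ⟨h1⟩
  have hN : ∀ i, ∃ N : ℕ, 0 < N ∧ StalkKilled N ((EtCoh.pull (g i)).obj F) := fun i =>
    haveI := hcomp i
    exists_stalkKilled_of_isFlc _ (hQ i)
  choose N hNpos hNk using hN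
  refine ⟨∏ i, N i, Finset.prod_pos fun i _ => hNpos i, killedBy_of_stalkKilled ?_⟩
  intro Ω _ _ ξ a
  have hx : ξ default ∈ ⋃ i, Set.range (g i) := hcov ▸ Set.mem_univ _
  obtain ⟨i, hi⟩ := Set.mem_iUnion.1 hx
  haveI := himm i
  obtain ⟨τ, rfl⟩ := exists_lift_of_immersion (g i) ξ hi
  have e := (Groth.Agent.S0101.stalkPullIso (g i) τ).app F
  refine nsmul_eq_zero_of_iso e _ (fun b => ?_) a
  obtain ⟨k, hk⟩ := Finset.dvd_prod_of_mem N (Finset.mem_univ i)
  rw [hk, mul_nsmul]
  have := hNk i Ω τ b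
  rw [this, smul_zero]

/-- zero sheaves are constructible -/
theorem isConstructible_of_isZero [CompactSpace X] [QuasiSeparatedSpace X] (Z : EtCoh.Ab X)
    (hZ : IsZero Z) : EtPBC.IsConstructible Z := by
  rw [isConstructible_iff, constr_iff_str]
  refine ⟨Unit, inferInstance, fun _ => X, fun _ => 𝟙 X, fun _ => inferInstance, fun _ => ?_, ?_, ?_,
    fun _ => ?_⟩
  · have : Set.range (𝟙 X : X ⟶ X) = Set.univ := by
      ext x
      simp
    rw [this]
    exact Topology.IsConstructible.univ
  · intro i j hij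
    exact (hij (Subsingleton.elim _ _)).elim
  · apply Set.eq_univ_of_forall
    intro x
    exact Set.mem_iUnion.2 ⟨(), x, by simp⟩
  · have hadd : (EtCoh.pull (𝟙 X)).Additive := (EtCoh.pullPushAdj (𝟙 X)).left_adjoint_additive
    exact Groth.Agent.Lib.Helper23FinEtPush.isFlc_of_isZero _ ((EtCoh.pull (𝟙 X)).map_isZero hZ)

end Stalks

end Groth.Agent.Lib.Helper23ConstrTors
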