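import Mathlib

/-!
# Compactness of objects with respect to a fixed filtered cocone (helper23)

`CptAt F c`: every map `F ⟶ c.pt` factors through a stage of the cocone, and two maps into a stage
which agree in `c.pt` agree at a later stage.  For a filtered index category this says that
`Hom(F, -)` sends `c` to a colimit cocone (`CptAt.isColimit`).  Stability under isomorphisms, zero
objects, binary biproducts and cokernels.
-/

set_option autoImplicit false
universe u
open CategoryTheory CategoryTheory.Limits Opposite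

namespace Groth.Agent.Lib.Helper23CptObj

variable {C : Type*} [Category C] {I : Type*} [Category I] {D : I ⥤ C}

/-- `F` is compact with respect to the cocone `c` -/
structure CptAt (F : C) (c : Cocone D) : Prop where
  surj : ∀ f : F ⟶ c.pt, ∃ (i : I) (g : F ⟶ D.obj i), g ≫ c.ι.app i = f
  inj : ∀ (i : I) (g g' : F ⟶ D.obj i), g ≫ c.ι.app i = g' ≫ c.ι.app i →
    ∃ (j : I) (a : i ⟶ j), g ≫ D.map a = g' ≫ D.map a

/-- `Hom(F, -)` sends the cocone to a colimit cocone -/
noncomputable def CptAt.isColimit [IsFiltered I] {F : C} {c : Cocone D} (h : CptAt F c) :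
    IsColimit ((coyoneda.obj (op F)).mapCocone c) := by
  apply Types.FilteredColimit.isColimitOf'
  · intro f
    obtain ⟨i, g, hg⟩ := h.surj f
    exact ⟨i, g, hg.symm⟩
  · intro i g g' hgg
    obtain ⟨j, a, ha⟩ := h.inj i g g' hgg
    exact ⟨j, a, ha⟩

theorem CptAt.of_isColimit [IsFiltered I] {F : C} {c : Cocone D}
    (h : IsColimit ((coyoneda.obj (op F)).mapCocone c)) : CptAt F c where
  surj f := by
    obtain ⟨i, g, hg⟩ := Types.jointly_surjective_of_isColimit h f
    exact ⟨i, g, hg⟩
  inj i g g' hgg := by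
    obtain ⟨j, a, ha⟩ := (Types.FilteredColimit.isColimit_eq_iff' h (i := i) g g').1 hgg
    exact ⟨j, a, ha⟩

theorem CptAt.of_iso {F F' : C} {c : Cocone D} (e : F ≅ F') (h : CptAt F c) : CptAt F' c where
  surj f := by
    obtain ⟨i, g, hg⟩ := h.surj (e.hom ≫ f)
    exact ⟨i, e.inv ≫ g, by rw [Category.assoc, hg, e.inv_hom_id_assoc]⟩
  inj i g g' hgg := by
    obtain ⟨j, a, ha⟩ := h.inj i (e.hom ≫ g) (e.hom ≫ g') (by simp only [Category.assoc, hgg])
    refine ⟨j, a, ?_⟩
    simp only [Category.assoc] at ha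
    exact (cancel_epi e.hom).1 ha

theorem CptAt.of_isZero [HasZeroMorphisms C] [Nonempty I] {F : C} {c : Cocone D} (hF : IsZero F) :
    CptAt F c where
  surj f := ⟨Classical.arbitrary I, 0, hF.eq_of_src _ _⟩
  inj i g g' _ := ⟨i, 𝟙 i, hF.eq_of_src _ _⟩

theorem CptAt.biprod [IsFiltered I] [HasZeroMorphisms C] {A B : C} [HasBinaryBiproduct A B]
    {c : Cocone D} (hA : CptAt A c) (hB : CptAt B c) : CptAt (A ⊞ B) c where
  surj f := by
    obtain ⟨i, gA, hgA⟩ := hA.surj (biprod.inl ≫ f)
    obtain ⟨j, gB, hgB⟩ := hB.surj (biprod.inr ≫ f)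
    refine ⟨IsFiltered.max i j, biprod.desc (gA ≫ D.map (IsFiltered.leftToMax i j))
      (gB ≫ D.map (IsFiltered.rightToMax i j)), ?_⟩
    apply biprod.hom_ext'
    · rw [biprod.inl_desc_assoc, Category.assoc, c.w, hgA]
    · rw [biprod.inr_desc_assoc, Category.assoc, c.w, hgB]
  inj i g g' hgg := by
    obtain ⟨jA, aA, haA⟩ := hA.inj i (biprod.inl ≫ g) (biprod.inl ≫ g')
      (by simp only [Category.assoc, hgg])
    obtain ⟨jB, aB, haB⟩ := hB.inj i (biprod.inr ≫ g) (biprod.inr ≫ g')
      (by simp only [Category.assoc, hgg])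
    obtain ⟨k, bA, bB, hb⟩ := IsFiltered.span aA aB
    refine ⟨k, aA ≫ bA, ?_⟩
    apply biprod.hom_ext'
    · have := congrArg (fun m => m ≫ D.map bA) haA
      simpa only [Category.assoc, ← Functor.map_comp] using this
    · have := congrArg (fun m => m ≫ D.map bB) haB
      rw [hb]
      simpa only [Category.assoc, ← Functor.map_comp] using this

theorem CptAt.cokernel [HasZeroMorphisms C] {P' P : C} (φ : P' ⟶ P) [HasCokernel φ]
    {c : Cocone D} (hP' : CptAt P' c) (hP : CptAt P c) : CptAt (cokernel φ) c where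
  surj f := by
    obtain ⟨i, g, hg⟩ := hP.surj (cokernel.π φ ≫ f)
    obtain ⟨j, a, ha⟩ := hP'.inj i (φ ≫ g) 0 (by
      rw [Category.assoc, hg, cokernel.condition_assoc, zero_comp, zero_comp])
    rw [zero_comp, Category.assoc] at ha
    refine ⟨j, cokernel.desc φ (g ≫ D.map a) ha, ?_⟩
    rw [← cancel_epi (cokernel.π φ), cokernel.π_desc_assoc, Category.assoc, c.w, hg]
  inj i g g' hgg := by
    obtain ⟨j, a, ha⟩ := hP.inj i (cokernel.π φ ≫ g) (cokernel.π φ ≫ g')
      (by simp only [Category.assoc, hgg])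
    refine ⟨j, a, ?_⟩
    simp only [Category.assoc] at ha
    exact (cancel_epi (cokernel.π φ)).1 ha

end Groth.Agent.Lib.Helper23CptObj
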