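import Mathlib

/-!
# Transfer of Ext groups along a fully faithful exact functor preserving injectives (helper9)
-/


set_option autoImplicit false
open CategoryTheory CategoryTheory.Limits Opposite Abelian
universe w v v' u u'

namespace Groth.Agent.Lib.Helper9.ExtTransfer

variable {𝒜 : Type u} [Category.{v} 𝒜] [Abelian 𝒜] {ℬ : Type u'} [Category.{v'} ℬ] [Abelian ℬ]
  [HasExt.{w} 𝒜] [HasExt.{w} ℬ]
  (R : 𝒜 ⥤ ℬ) [R.Additive] [PreservesFiniteLimits R] [PreservesFiniteColimits R] [R.Full] [R.Faithful]
  [EnoughInjectives 𝒜] [R.PreservesInjectiveObjects]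

/-- a fully faithful exact functor preserving injectives induces isomorphisms on Ext, naturally in the second
variable -/
noncomputable def extIso (A : 𝒜) (n : ℕ) :
    (extFunctor.{w} n).obj (op A) ≅ R ⋙ (extFunctor.{w} n).obj (op (R.obj A)) :=
  NatIso.ofComponents
    (fun F => (AddEquiv.ofBijective (R.mapExtAddHom A F n)
      (R.mapExt_bijective_of_preservesInjectiveObjects A F n)).toAddCommGrpIso)
    (by
      intro F F' f
      ext x
      obtain ⟨x', rfl⟩ : ∃ x' : Ext.{w} A F n, x' = x := ⟨x, rfl⟩
      change Ext.mapExactFunctor R (x'.comp (Ext.mk₀ f) (add_zero n)) =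
        (Ext.mapExactFunctor R x').comp (Ext.mk₀ (R.map f)) (add_zero n)
      rw [Ext.mapExactFunctor_comp, Ext.mapExactFunctor_mk₀])

end Groth.Agent.Lib.Helper9.ExtTransfer
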