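import Mathlib

/-!
# Cohomology of a small site with a terminal object is the cohomology of that object (helper9)
-/

set_option autoImplicit false
open CategoryTheory CategoryTheory.Limits Opposite Abelian
universe u

namespace Groth.Agent.Lib.Helper9.HTerminal

variable {C : Type u} [SmallCategory C] (J : GrothendieckTopology C) {T : C} (hT : IsTerminal T)

/-- uniqueness of morphisms to a terminal object -/
@[instance_reducible]
def uniq (V : C) : Unique (V ⟶ T) := ⟨⟨hT.from V⟩, fun f => hT.hom_ext f _⟩

/-- the free abelian presheaf on the presheaf represented by a terminal object is the constant presheaf `ℤ` -/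
noncomputable def freeYonedaIso :
    yoneda.obj T ⋙ AddCommGrpCat.free.{u} ≅ (Functor.const Cᵒᵖ).obj (AddCommGrpCat.of (ULift.{u} ℤ)) :=
  NatIso.ofComponents
    (fun V => (letI : Unique (V.unop ⟶ T) := uniq hT V.unop
               (FreeAbelianGroup.uniqueEquiv (V.unop ⟶ T)).trans AddEquiv.ulift.symm).toAddCommGrpIso)
    (by
      intro V V' g
      ext x
      letI : Unique (V.unop ⟶ T) := uniq hT V.unop
      letI : Unique (V'.unop ⟶ T) := uniq hT V'.unop
      change (((FreeAbelianGroup.uniqueEquiv (V'.unop ⟶ T)).trans AddEquiv.ulift.symm)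
          (FreeAbelianGroup.map ((yoneda.obj T).map g) x)) =
        ((FreeAbelianGroup.uniqueEquiv (V.unop ⟶ T)).trans AddEquiv.ulift.symm) x
      induction x using FreeAbelianGroup.induction_on with
      | zero => simp
      | of k =>
          simp only [FreeAbelianGroup.map_of_apply, AddEquiv.trans_apply]
          rw [Subsingleton.elim ((yoneda.obj T).map g k) default, Subsingleton.elim k default]
          simp [FreeAbelianGroup.uniqueEquiv, FreeAbelianGroup.lift_apply_of]
      | neg k ih => simp only [map_neg, FreeAbelianGroup.map_of_apply, AddEquiv.trans_apply] at ih ⊢; rw [ih]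
      | add x y hx hy => rw [map_add, map_add, hx, hy, map_add])

/-- Ext out of the constant sheaf `ℤ` is `H^q(T, -)` for a terminal object `T` of the site -/
noncomputable def extConstIso (q : ℕ) :
    (extFunctor.{u} q).obj (op ((constantSheaf J AddCommGrpCat.{u}).obj (AddCommGrpCat.of (ULift.{u} ℤ)))) ≅
      (Sheaf.cohomologyPresheafFunctor.{u} J q).flip.obj (op T) :=
  (extFunctor.{u} q).mapIso ((presheafToSheaf J AddCommGrpCat.{u}).mapIso (freeYonedaIso hT)).op ≪≫
    (NatIso.ofComponents (fun F => Iso.refl _) (by intro F G f; rfl) :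
      (extFunctor.{u} q).obj (op ((presheafToSheaf J AddCommGrpCat.{u}).obj
        (yoneda.obj T ⋙ AddCommGrpCat.free.{u}))) ≅
      (Sheaf.cohomologyPresheafFunctor.{u} J q).flip.obj (op T))

/-- `Sheaf.functorH` is Ext out of the constant sheaf -/
noncomputable def functorHExtIso (q : ℕ) :
    (Sheaf.functorH J q : Sheaf J AddCommGrpCat.{u} ⥤ AddCommGrpCat.{u}) ≅
      (extFunctor.{u} q).obj (op ((constantSheaf J AddCommGrpCat.{u}).obj (AddCommGrpCat.of (ULift.{u} ℤ)))) :=
  NatIso.ofComponents (fun F => Iso.refl _) (by intro F G f; rfl)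

/-- `H^q(C, -)` is `H^q(T, -)` for a terminal object `T` of the site -/
noncomputable def functorHIso (q : ℕ) :
    (Sheaf.functorH J q : Sheaf J AddCommGrpCat.{u} ⥤ AddCommGrpCat.{u}) ≅
      (Sheaf.cohomologyPresheafFunctor.{u} J q).flip.obj (op T) :=
  functorHExtIso J q ≪≫ extConstIso J hT q

end Groth.Agent.Lib.Helper9.HTerminal
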