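import Mathlib
import Groth.Prelude.Def_EtCore
import Groth.Agent.Lib.Helper9EtFp
import Groth.Agent.Lib.Helper9ExtTransfer
import Groth.Agent.Lib.Helper9HTerminal
import Groth.Agent.S0862

/-!
# Étale cohomology of a qcqs scheme via the small coherent model (helper9)
-/

set_option autoImplicit false
set_option linter.style.haveILetI false
open CategoryTheory CategoryTheory.Limits AlgebraicGeometry Opposite Abelian
universe u

namespace Groth.Agent.Lib.Helper9.EtFp

variable (X : Scheme.{u})

/-- restriction of abelian étale sheaves to the small model -/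
noncomputable abbrev Rab : EtCoh.Ab X ⥤ Sheaf (Jfp X) AddCommGrpCat.{u + 1} :=
  (G X).sheafPushforwardContinuous AddCommGrpCat.{u + 1} (Jfp X) X.smallEtaleTopology

instance : (Rab X).IsEquivalence := by unfold Rab; infer_instance

instance : (Rab X).Additive where
  map_add := by intros; rfl

instance : (Rab X).PreservesInjectiveObjects :=
  Functor.preservesInjectiveObjects_of_adjunction_of_preservesMonomorphisms
    (Rab X).asEquivalence.symm.toAdjunction

/-- the terminal object of the small model -/
noncomputable def topFp [CompactSpace X] [QuasiSeparatedSpace X] : Cfp X :=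
  mk X (EtCoh.top X) ⟨inferInstanceAs (CompactSpace X), inferInstanceAs (QuasiSeparatedSpace X)⟩

noncomputable def topFpIsTerminal [CompactSpace X] [QuasiSeparatedSpace X] : IsTerminal (topFp X) :=
  IsTerminal.isTerminalOfObj (G X) (topFp X) (EtCore.topIsTerminal X)

/-- restriction commutes with the constant sheaf functors -/
noncomputable def constIso [CompactSpace X] [QuasiSeparatedSpace X] :
    constantSheaf X.smallEtaleTopology AddCommGrpCat.{u + 1} ⋙ Rab X ≅
      constantSheaf (Jfp X) AddCommGrpCat.{u + 1} := by
  have adj1 : constantSheaf X.smallEtaleTopology AddCommGrpCat.{u + 1} ⋙ Rab X ⊣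
      (Rab X).inv ⋙ (sheafSections X.smallEtaleTopology AddCommGrpCat.{u + 1}).obj (op (EtCoh.top X)) :=
    (constantSheafAdj X.smallEtaleTopology AddCommGrpCat.{u + 1} (EtCore.topIsTerminal X)).comp
      (Rab X).asEquivalence.toAdjunction
  have adj2 := constantSheafAdj (Jfp X) AddCommGrpCat.{u + 1} (topFpIsTerminal X)
  have e : (Rab X).inv ⋙ (sheafSections X.smallEtaleTopology AddCommGrpCat.{u + 1}).obj (op (EtCoh.top X)) ≅
      (sheafSections (Jfp X) AddCommGrpCat.{u + 1}).obj (op (topFp X)) :=
    Functor.isoWhiskerLeft (Rab X).inv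
      (show (sheafSections X.smallEtaleTopology AddCommGrpCat.{u + 1}).obj (op (EtCoh.top X)) ≅
        Rab X ⋙ (sheafSections (Jfp X) AddCommGrpCat.{u + 1}).obj (op (topFp X)) from Iso.refl _) ≪≫
      (Functor.associator _ _ _).symm ≪≫
      Functor.isoWhiskerRight (Rab X).asEquivalence.counitIso _ ≪≫ Functor.leftUnitor _
  exact adj1.leftAdjointUniq (adj2.ofNatIsoRight e.symm)

/-- étale cohomology of `X` is the cohomology of the terminal object of the small model -/
noncomputable def hfIso [CompactSpace X] [QuasiSeparatedSpace X] (n : ℕ) :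
    EtCoh.HF X n ≅
      Rab X ⋙ (Sheaf.cohomologyPresheafFunctor.{u + 1} (Jfp X) n).flip.obj (op (topFp X)) :=
  (NatIso.ofComponents (fun F => Iso.refl _) (by intro F G f; rfl) :
    EtCoh.HF X n ≅ (extFunctor.{u + 1} n).obj
      (op ((constantSheaf X.smallEtaleTopology AddCommGrpCat.{u + 1}).obj
        (AddCommGrpCat.of (ULift.{u + 1} ℤ))))) ≪≫
    ExtTransfer.extIso (Rab X) _ n ≪≫
    Functor.isoWhiskerLeft (Rab X)
      ((extFunctor.{u + 1} n).mapIso ((constIso X).app (AddCommGrpCat.of (ULift.{u + 1} ℤ))).symm.op ≪≫
        HTerminal.extConstIso (Jfp X) (topFpIsTerminal X) n)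

theorem preservesColimitsOfShape_HF [CompactSpace X] [QuasiSeparatedSpace X] (n : ℕ)
    (I : Type (u + 1)) [SmallCategory I] [IsFiltered I] :
    PreservesColimitsOfShape I (EtCoh.HF X n) := by
  have h : PreservesColimitsOfShape I
      ((Sheaf.cohomologyPresheafFunctor.{u + 1} (Jfp X) n).flip.obj (op (topFp X))) := by
    constructor
    intro F
    exact Groth.Agent.S0862.result (Jfp X) Set.univ
      (fun U ι Y => Finite ι ∧ Sieve.ofArrows (fun i => (Y i).left) (fun i => (Y i).hom) ∈ Jfp X U)
      (fun U ι Y hY => ⟨hY.1, trivial, hY.2, fun _ _ => trivial⟩)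
      (fun U _ T hT => exists_finite_subcover X T hT)
      (topFp X) trivial n I F
  haveI := h
  exact preservesColimitsOfShape_of_natIso (hfIso X n).symm

attribute [local instance] CategoryTheory.uliftCategory in
/-- from index categories in `Type (u+1)` to index categories in `Type u` -/
theorem preservesColimitsOfShape_of_small_up {A : Type*} [Category* A] {B : Type*} [Category* B]
    (H : A ⥤ B)
    (h : ∀ (I : Type (u + 1)) [SmallCategory I] [IsFiltered I], PreservesColimitsOfShape I H)
    (J : Type u) [SmallCategory J] [IsFiltered J] : PreservesColimitsOfShape J H := by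
  let e : J ≌ ULiftHom.{u + 1} (ULift.{u + 1} J) := ULiftHomULiftCategory.equiv.{u + 1, u + 1} J
  haveI : IsFiltered (ULiftHom.{u + 1} (ULift.{u + 1} J)) := IsFiltered.of_equivalence e
  haveI := h (ULiftHom.{u + 1} (ULift.{u + 1} J))
  exact preservesColimitsOfShape_of_equiv e.symm _

theorem preservesColimitsOfShape_HF' [CompactSpace X] [QuasiSeparatedSpace X] (n : ℕ)
    (J : Type u) [SmallCategory J] [IsFiltered J] :
    PreservesColimitsOfShape J (EtCoh.HF X n) :=
  preservesColimitsOfShape_of_small_up (EtCoh.HF X n)
    (fun I _ _ => preservesColimitsOfShape_HF X n I) J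

end Groth.Agent.Lib.Helper9.EtFp
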