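import Mathlib
import Groth.Agent.Lib.Helper16FiltColim

/-!
# Finite products of filtered colimit cocones of abelian groups (helper9)
-/

set_option autoImplicit false
set_option linter.style.haveILetI false
open CategoryTheory CategoryTheory.Limits Opposite
universe u

namespace Groth.Agent.Lib.Helper9.PiGood

open Groth.Agent.Lib.Helper16.FiltColim

variable {I : Type u} [SmallCategory I] {α : Type u} (Gs : α → I ⥤ AddCommGrpCat.{u})

/-- the product of a family of diagrams of abelian groups -/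
noncomputable def piFunctor : I ⥤ AddCommGrpCat.{u} where
  obj i := ∏ᶜ fun a => (Gs a).obj i
  map f := Limits.Pi.map fun a => (Gs a).map f

variable {Gs}

/-- the product cocone -/
noncomputable def piCocone (cs : ∀ a, Cocone (Gs a)) : Cocone (piFunctor Gs) where
  pt := ∏ᶜ fun a => (cs a).pt
  ι := { app := fun i => Limits.Pi.map fun a => (cs a).ι.app i
         naturality := by
          intro i j f
          apply Limits.Pi.hom_ext
          intro a
          simp [piFunctor] }

lemma pi_map_apply {P Q : α → AddCommGrpCat.{u}} (f : ∀ a, P a ⟶ Q a) (y : (∏ᶜ P : AddCommGrpCat.{u})) (a : α) :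
    (Pi.π Q a).hom ((Limits.Pi.map f).hom y) = (f a).hom ((Pi.π P a).hom y) := by
  rw [← ConcreteCategory.comp_apply, ← ConcreteCategory.comp_apply, Limits.Pi.map_π]

lemma pi_ext {P : α → AddCommGrpCat.{u}} (y z : (∏ᶜ P : AddCommGrpCat.{u}))
    (h : ∀ a, (Pi.π P a).hom y = (Pi.π P a).hom z) : y = z :=
  Concrete.limit_ext _ y z (fun ⟨a⟩ => h a)

lemma exists_pi {P : α → AddCommGrpCat.{u}} (y : ∀ a, P a) :
    ∃ z : (∏ᶜ P : AddCommGrpCat.{u}), ∀ a, (Pi.π P a).hom z = y a :=
  ⟨(Concrete.productEquiv P).symm y, fun a => Concrete.productEquiv_symm_apply_π P y a⟩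

theorem good_piCocone [IsFiltered I] [Finite α] (cs : ∀ a, Cocone (Gs a)) (h : ∀ a, Good (cs a)) :
    Good (piCocone cs) := by
  constructor
  · intro z
    obtain ⟨z', rfl⟩ : ∃ z' : (∏ᶜ fun a => (cs a).pt : AddCommGrpCat.{u}), z' = z := ⟨z, rfl⟩
    obtain ⟨k, y, hy⟩ := exists_common_lift Gs cs (fun a => (h a).surj)
      (fun a => (Limits.Pi.π (fun a => (cs a).pt) a).hom z')
    obtain ⟨y', hy'⟩ := exists_pi (P := fun a => (Gs a).obj k) y
    refine ⟨k, y', pi_ext (P := fun a => (cs a).pt) _ _ (fun a => ?_)⟩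
    change (Limits.Pi.π (fun a => (cs a).pt) a).hom ((Limits.Pi.map fun a => (cs a).ι.app k).hom y') = _
    rw [pi_map_apply, hy', hy]
  · intro k y hy
    obtain ⟨y', rfl⟩ : ∃ y' : (∏ᶜ fun a => (Gs a).obj k : AddCommGrpCat.{u}), y' = y := ⟨y, rfl⟩
    have hy0 : ∀ a, ((cs a).ι.app k).hom ((Limits.Pi.π (fun a => (Gs a).obj k) a).hom y') = 0 := by
      intro a
      have h1 : (Limits.Pi.π (fun a => (cs a).pt) a).hom
          ((Limits.Pi.map fun a => (cs a).ι.app k).hom y') = 0 := by
        have h2 : (Limits.Pi.map fun a => (cs a).ι.app k).hom y' = 0 := hy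
        rw [h2, map_zero]
      rw [pi_map_apply] at h1
      exact h1
    obtain ⟨l, g, hg⟩ := exists_common_kill Gs cs (fun a => (h a).inj) k
      (fun a => (Limits.Pi.π (fun a => (Gs a).obj k) a).hom y') hy0
    refine ⟨l, g, pi_ext (P := fun a => (Gs a).obj l) _ _ (fun a => ?_)⟩
    change (Limits.Pi.π (fun a => (Gs a).obj l) a).hom ((Limits.Pi.map fun a => (Gs a).map g).hom y') =
      (Limits.Pi.π (fun a => (Gs a).obj l) a).hom (0 : (∏ᶜ fun a => (Gs a).obj l : AddCommGrpCat.{u}))
    rw [pi_map_apply, hg, map_zero]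

end Groth.Agent.Lib.Helper9.PiGood
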