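import Mathlib
import Groth.Prelude.Def_EtCore
import Groth.Prelude.Def_EtCech
import Groth.Agent.Lib.Helper9EtFpH
import Groth.Agent.Lib.Helper9PiGood
import Groth.Agent.Lib.Helper16QcSect
import Groth.Agent.Lib.Helper13HomologyColim

/-!
# Čech cohomology of finite families of qcqs étale schemes commutes with filtered colimits (helper9)
-/

set_option autoImplicit false
set_option linter.style.haveILetI false
open CategoryTheory CategoryTheory.Limits AlgebraicGeometry Opposite
universe u

namespace Groth.Agent.Lib.Helper9.EtFp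

open Groth.Agent.Lib.Helper16.FiltColim Groth.Agent.Lib.Helper16.QcSect Groth.Agent.Lib.Helper9.PiGood

section A
variable (X : Scheme.{u}) [CompactSpace X] [QuasiSeparatedSpace X]

lemma fpProp_top : fpProp X (EtCoh.top X) :=
  ⟨inferInstanceAs (CompactSpace X), inferInstanceAs (QuasiSeparatedSpace X)⟩

instance : (fpProp X).IsClosedUnderLimitsOfShape (Discrete PEmpty.{1}) := by
  constructor
  rintro V ⟨h⟩
  have hV : IsTerminal V := by
    refine IsLimit.ofIsoLimit ((IsLimit.postcomposeHomEquiv (Functor.uniqueFromEmpty _) _).symm h.isLimit) ?_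
    exact Cone.ext (Iso.refl _) (by rintro ⟨⟨⟩⟩)
  exact (fpProp X).prop_of_iso ((EtCore.topIsTerminal X).uniqueUpToIso hV) (fpProp_top X)

/-- `fpProp` is closed under finite limits when `X` is qcqs -/
theorem fpProp_of_isLimit {K : Type} [SmallCategory K] [FinCategory K] (D : K ⥤ X.Etale)
    (hD : ∀ k, fpProp X (D.obj k)) (c : Cone D) (hc : IsLimit c) : fpProp X c.pt := by
  haveI : HasTerminal (Fp X) := inferInstance
  haveI : HasPullbacks (Fp X) := inferInstance
  haveI : HasFiniteLimits (Fp X) := hasFiniteLimits_of_hasTerminal_and_pullbacks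
  haveI : PreservesLimitsOfShape (Discrete PEmpty.{1}) (fpProp X).ι := inferInstance
  haveI : PreservesLimitsOfShape WalkingCospan (fpProp X).ι := inferInstance
  haveI : PreservesFiniteLimits (fpProp X).ι := preservesFiniteLimits_of_preservesTerminal_and_pullbacks _
  let D' : K ⥤ Fp X := (fpProp X).lift D hD
  have hl : IsLimit ((fpProp X).ι.mapCone (limit.cone D')) := isLimitOfPreserves _ (limit.isLimit D')
  have e : c.pt ≅ (fpProp X).ι.obj (limit D') := hc.conePointUniqueUpToIso hl
  exact (fpProp X).prop_of_iso e.symm (limit D').property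

/-- finite products in `Over U` of qcqs étale schemes over a qcqs étale scheme are qcqs -/
theorem fpProp_prod_left {U : X.Etale} (hU : fpProp X U) {α : Type} [Finite α] (Z : α → Over U)
    (hZ : ∀ k, fpProp X (Z k).left) (c : Cone (Discrete.functor Z)) (hc : IsLimit c) :
    fpProp X c.pt.left := by
  haveI := Fintype.ofFinite α
  have hl : IsLimit ((Over.ConstructProducts.conesEquiv U (Discrete.functor Z)).inverse.obj c) :=
    IsLimit.ofRightAdjoint (Over.ConstructProducts.conesEquiv U (Discrete.functor Z)).toAdjunction hc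
  refine fpProp_of_isLimit X _ ?_ _ hl
  rintro (_ | k)
  · exact hU
  · exact hZ k

theorem fpProp_pi_left {U : X.Etale} [HasFiniteProducts (Over U)] (hU : fpProp X U) {n : ℕ}
    (Z : Fin n → Over U) (hZ : ∀ k, fpProp X (Z k).left) : fpProp X (∏ᶜ Z).left :=
  fpProp_prod_left X hU Z hZ _ (limit.isLimit _)

end A

section B

variable (X : Scheme.{u})

lemma qc (W : Cfp X) : QC (Jfp X) W := by
  intro T hT
  obtain ⟨ι, Y, ⟨hfin, hcov⟩, hYT⟩ := exists_finite_subcover X T hT
  exact ⟨ι, hfin, Y, hYT, hcov⟩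

lemma qc2 (W : Cfp X) : QC2 (Jfp X) W := by
  intro T hT
  obtain ⟨ι, Y, ⟨hfin, hcov⟩, hYT⟩ := exists_finite_subcover X T hT
  exact ⟨ι, hfin, Y, hYT, hcov, fun a b => ⟨_, 𝟙 _, 𝟙 _, Category.id_comp _, qc X _⟩⟩

/-- sections of abelian étale sheaves over a qcqs étale scheme commute with filtered colimits -/
theorem good_sections_et {I : Type (u + 1)} [SmallCategory I] [IsFiltered I] (D : I ⥤ EtCoh.Ab X)
    (c : Cocone D) (hc : IsColimit c) (V : X.Etale) (hV : fpProp X V) :
    Good ((sheafToPresheaf X.smallEtaleTopology AddCommGrpCat.{u + 1} ⋙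
      (evaluation X.Etaleᵒᵖ AddCommGrpCat.{u + 1}).obj (op V)).mapCocone c) := by
  have h := good_sections' (Jfp X) (D ⋙ Rab X) (mk X V hV) (qc2 X _) ((Rab X).mapCocone c)
    (isColimitOfPreserves (Rab X) hc)
  exact h

end B

section C

variable (X : Scheme.{u}) [CompactSpace X] [QuasiSeparatedSpace X] {U : X.Etale}
  [HasFiniteProducts (Over U)] {ι : Type (u + 1)} (Uf : ι → Over U)

/-- the Čech complex functor on abelian étale sheaves -/
noncomputable abbrev cechCx : EtCoh.Ab X ⥤ CochainComplex AddCommGrpCat.{u + 1} ℕ :=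
  sheafToPresheaf X.smallEtaleTopology AddCommGrpCat.{u + 1} ⋙
    (Functor.whiskeringLeft (Over U)ᵒᵖ X.Etaleᵒᵖ AddCommGrpCat.{u + 1}).obj (Over.forget U).op ⋙
    cechComplexFunctor Uf

/-- sections over the fibre product indexed by `x` -/
noncomputable abbrev secAt {n : ℕ} (x : Fin (n + 1) → ι) : EtCoh.Ab X ⥤ AddCommGrpCat.{u + 1} :=
  sheafToPresheaf X.smallEtaleTopology AddCommGrpCat.{u + 1} ⋙
    (evaluation X.Etaleᵒᵖ AddCommGrpCat.{u + 1}).obj (op (∏ᶜ (Uf ∘ x)).left)

variable [Finite ι]

theorem good_cechCx_eval (hU : fpProp X U) (hUf : ∀ i, fpProp X (Uf i).left)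
    {I : Type (u + 1)} [SmallCategory I] [IsFiltered I] (D : I ⥤ EtCoh.Ab X)
    (c : Cocone D) (hc : IsColimit c) (n : ℕ) :
    Good ((cechCx X Uf ⋙ HomologicalComplex.eval _ _ n).mapCocone c) := by
  have h := good_piCocone (α := Fin (n + 1) → ι) (Gs := fun x => D ⋙ secAt X Uf x)
    (fun x => (secAt X Uf x).mapCocone c)
    (fun x => good_sections_et X D c hc _ (fpProp_pi_left X hU _ (fun k => hUf (x k))))
  exact h

theorem preservesColimitsOfShape_cechCx (hU : fpProp X U) (hUf : ∀ i, fpProp X (Uf i).left)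
    (I : Type (u + 1)) [SmallCategory I] [IsFiltered I] :
    PreservesColimitsOfShape I (cechCx X Uf) := by
  refine HomologicalComplex.preservesColimitsOfShape_of_eval _ (fun n => ⟨fun {D} => ?_⟩)
  exact preservesColimit_of_preserves_colimit_cocone (colimit.isColimit D)
    (isColimitOfGood (good_cechCx_eval X Uf hU hUf D _ (colimit.isColimit D) n))

theorem preservesColimitsOfShape_cechH (hU : fpProp X U) (hUf : ∀ i, fpProp X (Uf i).left)
    (q : ℕ) (I : Type (u + 1)) [SmallCategory I] [IsFiltered I] :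
    PreservesColimitsOfShape I
      (sheafToPresheaf X.smallEtaleTopology AddCommGrpCat.{u + 1} ⋙ EtCech.cechHFunctor Uf q) := by
  haveI := preservesColimitsOfShape_cechCx X Uf hU hUf I
  haveI : PreservesColimitsOfShape I
      (HomologicalComplex.homologyFunctor AddCommGrpCat.{u + 1} (ComplexShape.up ℕ) q) :=
    Groth.Agent.Helper13HomologyColim.preservesColimitsOfShape_homologicalComplex_homologyFunctor _ _
  change PreservesColimitsOfShape I (cechCx X Uf ⋙
    HomologicalComplex.homologyFunctor AddCommGrpCat.{u + 1} (ComplexShape.up ℕ) q)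
  infer_instance

end C

end Groth.Agent.Lib.Helper9.EtFp
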