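import Mathlib
import Groth.Agent.Lib.Helper23CptObj
import Groth.Agent.Lib.Helper23ConstrTors
import Groth.Agent.Lib.Helper9EtFpCech
import Groth.Agent.Lib.Helper9EtFpH
import Groth.Agent.S0138

/-!
# Constructible sheaves on qcqs schemes are compact objects (helper23)
-/

set_option autoImplicit false
set_option backward.isDefEq.respectTransparency.types false
universe u
open CategoryTheory CategoryTheory.Limits AlgebraicGeometry Opposite

namespace Groth.Agent.Lib.Helper23ConstrCpt

open Groth.Agent.Lib.Helper23ConstrGen Groth.Agent.Lib.Helper23ConstrTors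
open Groth.Agent.Lib.Helper23CptObj Groth.Agent.Lib.Helper9.EtFp Groth.Agent.Lib.Helper16.FiltColim

variable {X : Scheme.{u}}

theorem ulift_zmod_hom_ext {n : ℕ} {A : AddCommGrpCat.{u + 1}}
    (φ ψ : AddCommGrpCat.of (ULift.{u + 1} (ZMod n)) ⟶ A) (h : φ.hom ⟨1⟩ = ψ.hom ⟨1⟩) : φ = ψ := by
  ext ⟨x⟩
  obtain ⟨k, rfl⟩ := ZMod.intCast_surjective x
  have e : (⟨(k : ZMod n)⟩ : ULift.{u + 1} (ZMod n)) = k • (⟨1⟩ : ULift.{u + 1} (ZMod n)) := by
    apply ULift.ext
    rw [ULift.smul_down]
    simp
  rw [e, map_zsmul, map_zsmul, h]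

section SecMap

variable (U : X.Etale) (n : ℕ)

theorem secMap_eq_of {G : EtCoh.Ab X} (f : EtPBC.extZeroConst U (ZMod n) ⟶ G) (s : G.obj.obj (op U))
    (hs : n • s = 0) (h : (f.hom.app (op U)).hom (tSec U n) = s) : secMap U n s hs = f := by
  apply ((adjC U).homEquiv _ G).injective
  rw [secMap, Equiv.apply_symm_apply]
  apply ulift_zmod_hom_ext
  rw [zmodHom_one]
  have h1 := (adjC U).homEquiv_unit (f := f)
  have h2 := congrArg (fun m => m.hom (⟨1⟩ : ULift.{u + 1} (ZMod n))) h1
  exact (h2.trans h).symm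

theorem nsmul_tSec : n • tSec U n = 0 :=
  (killedBy_iff n _).2 (nsmul_id_extZeroConst U n) U (tSec U n)

theorem nsmul_apply_tSec {G : EtCoh.Ab X} (f : EtPBC.extZeroConst U (ZMod n) ⟶ G) :
    n • (f.hom.app (op U)).hom (tSec U n) = 0 := by
  rw [← map_nsmul, nsmul_tSec, map_zero]

theorem secMap_comp {G G' : EtCoh.Ab X} (s : G.obj.obj (op U)) (hs : n • s = 0) (ψ : G ⟶ G')
    (hs' : n • (ψ.hom.app (op U)).hom s = 0) :
    secMap U n s hs ≫ ψ = secMap U n ((ψ.hom.app (op U)).hom s) hs' := by
  symm
  apply secMap_eq_of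
  have := secMap_tSec U n s hs
  change (ψ.hom.app (op U)).hom (((secMap U n s hs).hom.app (op U)).hom (tSec U n)) = _
  rw [this]

end SecMap

section Cpt

variable [CompactSpace X] [QuasiSeparatedSpace X] {I : Type (u + 1)} [SmallCategory I] [IsFiltered I]
  {D : I ⥤ EtCoh.Ab X} {c : Cocone D} (hc : IsColimit c)

include hc in
theorem cptAt_extZeroConst (U : X.Etale) (hU : fpProp X U) (n : ℕ) :
    CptAt (EtPBC.extZeroConst U (ZMod n)) c := by
  have hgood := good_sections_et X D c hc U hU
  constructor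
  · intro f
    obtain ⟨i, y, hy⟩ := hgood.surj ((f.hom.app (op U)).hom (tSec U n))
    have h0 : ((c.ι.app i).hom.app (op U)).hom (n • y) = 0 := by
      rw [map_nsmul]
      have : ((c.ι.app i).hom.app (op U)).hom y = (f.hom.app (op U)).hom (tSec U n) := hy
      rw [this, nsmul_apply_tSec]
    obtain ⟨j, a, ha⟩ := hgood.inj i (n • y) h0
    have ha' : n • ((D.map a).hom.app (op U)).hom y = 0 := by
      rw [← map_nsmul]
      exact ha
    refine ⟨j, secMap U n (((D.map a).hom.app (op U)).hom y) ha', ?_⟩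
    have hs' : n • ((c.ι.app j).hom.app (op U)).hom (((D.map a).hom.app (op U)).hom y) = 0 := by
      rw [← map_nsmul, ha', map_zero]
    rw [secMap_comp U n _ ha' (c.ι.app j) hs']
    apply secMap_eq_of
    have h1 : ((c.ι.app j).hom.app (op U)).hom (((D.map a).hom.app (op U)).hom y) =
        ((c.ι.app i).hom.app (op U)).hom y := by
      have := c.w a
      rw [← this]
      rfl
    rw [h1]
    exact hy.symm
  · intro i g g' hgg
    have h0 : ((c.ι.app i).hom.app (op U)).hom
        ((g.hom.app (op U)).hom (tSec U n) - (g'.hom.app (op U)).hom (tSec U n)) = 0 := by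
      rw [map_sub, sub_eq_zero]
      have := congrArg (fun m : EtPBC.extZeroConst U (ZMod n) ⟶ c.pt =>
        (m.hom.app (op U)).hom (tSec U n)) hgg
      exact this
    obtain ⟨j, a, ha⟩ := hgood.inj i _ h0
    refine ⟨j, a, ?_⟩
    have ha' : ((D.map a).hom.app (op U)).hom ((g.hom.app (op U)).hom (tSec U n)) =
        ((D.map a).hom.app (op U)).hom ((g'.hom.app (op U)).hom (tSec U n)) := by
      have ha2 : ((D.map a).hom.app (op U)).hom
        ((g.hom.app (op U)).hom (tSec U n) - (g'.hom.app (op U)).hom (tSec U n)) = 0 := ha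
      rw [map_sub, sub_eq_zero] at ha2
      exact ha2
    have e1 := secMap_eq_of U n (g ≫ D.map a) _ (nsmul_apply_tSec U n (g ≫ D.map a)) rfl
    have e2 := secMap_eq_of U n (g' ≫ D.map a) _ (nsmul_apply_tSec U n (g ≫ D.map a)) ha'.symm
    rw [← e1, ← e2]

include hc in
theorem cptAt_biproduct_extZeroConst {b : ℕ} (U : Fin b → X.Etale) (hU : ∀ i, IsAffine (U i).left)
    (n : ℕ) : CptAt (⨁ fun i => EtPBC.extZeroConst (U i) (ZMod n)) c := by
  haveI : Nonempty I := IsFiltered.nonempty
  refine prop_biproduct (fun A => CptAt A c) (fun e h => h.of_iso e)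
    (fun A hA => CptAt.of_isZero hA)
    (fun A B hA hB => (CptAt.biprod hA hB).of_iso (biprod.isoProd A B)) _ (fun i => ?_)
  haveI := hU i
  exact cptAt_extZeroConst hc (U i) ⟨inferInstance, inferInstance⟩ n

include hc in
/-- a constructible sheaf on a qcqs scheme is compact with respect to filtered colimit cocones -/
theorem cptAt_of_isConstructible (F : EtCoh.Ab X) (hF : EtPBC.IsConstructible F) : CptAt F c := by
  obtain ⟨N, hN, hFN⟩ := exists_killedBy_of_isConstructible F hF
  obtain ⟨a, b, V, U, hV, hU, φ, ⟨e⟩⟩ := Groth.Agent.S0138.result X N hN F hF hFN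
  exact (CptAt.cokernel φ (cptAt_biproduct_extZeroConst hc V hV N)
    (cptAt_biproduct_extZeroConst hc U hU N)).of_iso e.symm

end Cpt

section Main

variable [CompactSpace X] [QuasiSeparatedSpace X]

theorem preservesColimitsOfShape_coyoneda_up (F : EtCoh.Ab X) (hF : EtPBC.IsConstructible F)
    (I : Type (u + 1)) [SmallCategory I] [IsFiltered I] :
    PreservesColimitsOfShape I (coyoneda.obj (op F)) :=
  ⟨fun {D} => preservesColimit_of_preserves_colimit_cocone (colimit.isColimit D)
    (cptAt_of_isConstructible (colimit.isColimit D) F hF).isColimit⟩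

theorem preservesColimitsOfShape_coyoneda (F : EtCoh.Ab X) (hF : EtPBC.IsConstructible F)
    (J : Type u) [SmallCategory J] [IsFiltered J] :
    PreservesColimitsOfShape J (coyoneda.obj (op F)) :=
  preservesColimitsOfShape_of_small_up (coyoneda.obj (op F))
    (fun I _ _ => preservesColimitsOfShape_coyoneda_up F hF I) J

/-- compactness in elementwise form, for index categories in `Type u` -/
theorem cptAt_of_isConstructible' (F : EtCoh.Ab X) (hF : EtPBC.IsConstructible F)
    {J : Type u} [SmallCategory J] [IsFiltered J] {D : J ⥤ EtCoh.Ab X} {c : Cocone D}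
    (hc : IsColimit c) : CptAt F c := by
  haveI := preservesColimitsOfShape_coyoneda F hF J
  exact CptAt.of_isColimit (isColimitOfPreserves (coyoneda.obj (op F)) hc)

end Main

end Groth.Agent.Lib.Helper23ConstrCpt
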