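import Mathlib
import Groth.Agent.Lib.Helper23ConstrCpt
import Groth.Agent.S3508

/-!
# Torsion sheaves on qcqs schemes are filtered colimits of constructible sheaves (helper23)
-/

set_option autoImplicit false
set_option backward.isDefEq.respectTransparency.types false
universe u
open CategoryTheory CategoryTheory.Limits AlgebraicGeometry Opposite

namespace Groth.Agent.Lib.Helper23ConstrColim

open Groth.Agent.Lib.Helper23ConstrGen Groth.Agent.Lib.Helper23ConstrTors

noncomputable instance ab5 : AB5OfSize.{u, u} AddCommGrpCat.{u + 1} :=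
  AB5OfSize_of_univLE.{u, u, u + 1, u + 1} AddCommGrpCat.{u + 1}

section Stalk

variable {X : Scheme.{u}} {Ω : Type u} [Field Ω] [IsSepClosed Ω] (ξ : Spec (CommRingCat.of Ω) ⟶ X)

/-- left exactness of the stalk functor, elementwise -/
theorem exists_of_stalk_map_eq_zero {A B : EtCoh.Ab X} (f : A ⟶ B) (p : (EtCoh.stalk ξ).obj A)
    (hp : ((EtCoh.stalk ξ).map f).hom p = 0) :
    ∃ q : (EtCoh.stalk ξ).obj (kernel f), ((EtCoh.stalk ξ).map (kernel.ι f)).hom q = p := by
  let S : ShortComplex (EtCoh.Ab X) := ShortComplex.mk (kernel.ι f) f (kernel.condition f)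
  have hS : S.Exact := S.exact_of_f_is_kernel (kernelIsKernel f)
  have hS' : (S.map (EtCoh.stalk ξ)).Exact := hS.map _
  rw [ShortComplex.ab_exact_iff] at hS'
  obtain ⟨q, hq⟩ := hS' p hp
  exact ⟨q, hq⟩

/-- every element of a stalk of a torsion sheaf is in the image of a map `j_{U!} ℤ/n ⟶ F` with `U`
affine étale and `n > 0` -/
theorem exists_gen_of_isTorsion {F : EtCoh.Ab X} (hF : EtCoh.IsTorsion F)
    (a : (EtCoh.stalk ξ).obj F) :
    ∃ (U : X.Etale) (_ : IsAffine U.left) (n : ℕ) (_ : 0 < n) (s : F.obj.obj (op U)) (hs : n • s = 0),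
      a ∈ imS ξ (secMap U n s hs) := by
  obtain ⟨V, v, s, rfl⟩ := (Scheme.pointSmallEtale ξ).toPresheafFiber_jointly_surjective a
  obtain ⟨V', g, ⟨v'₀, hv'₀⟩, hfin⟩ := hF V s (v.left (default : Spec (CommRingCat.of Ω)))
  obtain ⟨l, hl1, hl2⟩ := Scheme.exists_fac_of_etale_of_isSepClosed g.left v.left v'₀ hv'₀
  obtain ⟨n, hn, hns⟩ := isOfFinAddOrder_iff_nsmul_eq_zero.1 hfin
  have hl3 : l ≫ V'.hom = ξ := by
    have hw : g.left ≫ V.hom = V'.hom := MorphismProperty.Over.w g
    rw [← hw, ← Category.assoc, hl1]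
    exact Over.w v
  let v' : (Scheme.pointSmallEtale ξ).fiber.obj V' := Over.homMk l hl3
  have hv' : (Scheme.pointSmallEtale ξ).fiber.map g v' = v := by
    apply Over.OverMorphism.ext
    exact hl1
  obtain ⟨U, hU, g', u, hu⟩ := exists_affine_refinement ξ V' v'
  have hns' : n • (F.obj.map g'.op).hom ((F.obj.map g.op).hom s) = 0 := by
    rw [← map_nsmul]
    have : n • (F.obj.map g.op).hom s = 0 := hns
    rw [this, map_zero]
  refine ⟨U, hU, n, hn, (F.obj.map g'.op).hom ((F.obj.map g.op).hom s), hns', ?_⟩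
  · have h1 := germ_mem_imS ξ U n ((F.obj.map g'.op).hom ((F.obj.map g.op).hom s)) hns' u
    have h2 := (Scheme.pointSmallEtale ξ).toPresheafFiber_w_apply g' u F.obj ((F.obj.map g.op).hom s)
    have h3 := (Scheme.pointSmallEtale ξ).toPresheafFiber_w_apply g v' F.obj s
    rw [hu] at h2
    rw [hv'] at h3
    exact h3 ▸ h2 ▸ h1

end Stalk

end Groth.Agent.Lib.Helper23ConstrColim
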