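import Mathlib
import Groth.Agent.Lib.Helper23ConstrColim

/-!
# Torsion sheaves on qcqs schemes are filtered colimits of constructible sheaves, part 2 (helper23)
-/

set_option autoImplicit false
set_option backward.isDefEq.respectTransparency.types false
universe u
open CategoryTheory CategoryTheory.Limits AlgebraicGeometry Opposite

namespace Groth.Agent.Lib.Helper23ConstrColim

open Groth.Agent.Lib.Helper23ConstrGen Groth.Agent.Lib.Helper23ConstrTors

/-- presentation data of a constructible sheaf -/
structure PData (X : Scheme.{u}) where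
  /-- the torsion order -/
  N : ℕ
  /-- number of relations -/
  a : ℕ
  /-- number of generators -/
  b : ℕ
  /-- relation schemes -/
  V : Fin a → X.Etale
  /-- generator schemes -/
  U : Fin b → X.Etale
  hN : 0 < N
  hV : ∀ j, IsAffine (V j).left
  hU : ∀ i, IsAffine (U i).left
  /-- the presentation -/
  φ : (⨁ fun j => EtPBC.extZeroConst (V j) (ZMod N)) ⟶ ⨁ fun i => EtPBC.extZeroConst (U i) (ZMod N)

variable {X : Scheme.{u}}

/-- the presented sheaf -/
noncomputable def PData.sheaf (p : PData X) : EtCoh.Ab X := cokernel p.φ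

section

variable [CompactSpace X] [QuasiSeparatedSpace X]

theorem PData.isConstructible (p : PData X) : EtPBC.IsConstructible p.sheaf :=
  (Groth.Agent.S3508.result X p.sheaf).2 ⟨p.b, p.a, p.U, p.V, fun _ => p.N, fun _ => p.N,
    fun i => ⟨p.hN, p.hU i⟩, fun j => ⟨p.hN, p.hV j⟩, p.φ, ⟨Iso.refl _⟩⟩

theorem exists_pdata (G : EtCoh.Ab X) (hG : EtPBC.IsConstructible G) :
    ∃ p : PData X, Nonempty (p.sheaf ≅ G) := by
  obtain ⟨N, hN, hGN⟩ := exists_killedBy_of_isConstructible G hG
  obtain ⟨a, b, V, U, hV, hU, φ, ⟨e⟩⟩ := Groth.Agent.S0138.result X N hN G hG hGN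
  exact ⟨⟨N, a, b, V, U, hN, hV, hU, φ⟩, ⟨e.symm⟩⟩

end

variable (F : EtCoh.Ab X)

/-- index objects: presentation data together with a map of the presented sheaf to `F` -/
def JObj : Type (u + 1) := Σ p : PData X, (p.sheaf ⟶ F)

/-- the object of `Over F` -/
noncomputable def JObj.over (j : JObj F) : Over F := Over.mk j.2

/-- the index category -/
abbrev J : Type (u + 1) := InducedCategory (Over F) (JObj.over F)

noncomputable instance : SmallCategory (J F) := inferInstanceAs (Category (InducedCategory _ _))

section

variable [CompactSpace X] [QuasiSeparatedSpace X]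

theorem exists_J (G : Over F) (hG : EtPBC.IsConstructible G.left) :
    ∃ j : J F, Nonempty (JObj.over F j ≅ G) := by
  obtain ⟨p, ⟨e⟩⟩ := exists_pdata G.left hG
  exact ⟨⟨p, e.hom ≫ G.hom⟩, ⟨Over.isoMk e (by simp [JObj.over])⟩⟩

theorem isConstructible_J (j : J F) : EtPBC.IsConstructible (JObj.over F j).left :=
  PData.isConstructible j.1

open ZeroObject in
instance : IsFiltered (J F) := by
  haveI : IsFilteredOrEmpty (J F) := by
    constructor
    · intro j₁ j₂
      let G : Over F := Over.mk (biprod.desc (JObj.over F j₁).hom (JObj.over F j₂).hom)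
      have hG : EtPBC.IsConstructible G.left :=
        Groth.Agent.S0133.isConstructible_of_iso (biprod.isoProd _ _).symm
          (isConstructible_prod _ _ (isConstructible_J F j₁) (isConstructible_J F j₂))
      obtain ⟨j, ⟨e⟩⟩ := exists_J F G hG
      refine ⟨j, InducedCategory.homMk (Over.homMk biprod.inl (by simp [G]) ≫ e.inv),
        InducedCategory.homMk (Over.homMk biprod.inr (by simp [G]) ≫ e.inv), trivial⟩
    · intro j₁ j₂ f g
      let G : Over F := Over.mk (cokernel.desc (f.hom.left - g.hom.left) (JObj.over F j₂).hom (by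
        rw [Preadditive.sub_comp, Over.w, Over.w, sub_self]))
      have hG : EtPBC.IsConstructible G.left :=
        Groth.Agent.S0131.isConstructible_cokernel _ (isConstructible_J F j₁) (isConstructible_J F j₂)
      obtain ⟨j, ⟨e⟩⟩ := exists_J F G hG
      refine ⟨j, InducedCategory.homMk (Over.homMk (cokernel.π _) (by simp [G]) ≫ e.inv), ?_⟩
      apply InducedCategory.hom_ext
      rw [InducedCategory.comp_hom, InducedCategory.comp_hom, InducedCategory.homMk_hom,
        ← Category.assoc, ← Category.assoc]
      congr 1
      apply Over.OverMorphism.ext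
      rw [Over.comp_left, Over.comp_left]
      change f.hom.left ≫ cokernel.π _ = g.hom.left ≫ cokernel.π _
      rw [← sub_eq_zero, ← Preadditive.sub_comp]
      exact cokernel.condition _
  have h0 : EtPBC.IsConstructible (Over.mk (0 : (0 : EtCoh.Ab X) ⟶ F)).left :=
    isConstructible_of_isZero _ (isZero_zero _)
  obtain ⟨j, -⟩ := exists_J F _ h0
  exact { nonempty := ⟨j⟩ }

end

end Groth.Agent.Lib.Helper23ConstrColim
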