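import Mathlib
import Groth.Agent.Lib.Helper23ConstrColim2

/-!
# Torsion sheaves on qcqs schemes are filtered colimits of constructible sheaves, part 3 (helper23)
-/

set_option autoImplicit false
set_option backward.isDefEq.respectTransparency.types false
universe u
open CategoryTheory CategoryTheory.Limits AlgebraicGeometry Opposite

namespace Groth.Agent.Lib.Helper23ConstrColim

open Groth.Agent.Lib.Helper23ConstrGen Groth.Agent.Lib.Helper23ConstrTors

variable {X : Scheme.{u}} (F : EtCoh.Ab X)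

/-- the diagram of constructible sheaves over `F` -/
noncomputable def DF : J F ⥤ EtCoh.Ab X := inducedFunctor (JObj.over F) ⋙ Over.forget F

/-- the tautological cocone with point `F` -/
noncomputable def coconeF : Cocone (DF F) :=
  (Over.forgetCocone F).whisker (inducedFunctor (JObj.over F))

/-- the colimit inclusions, with source written as an object over `F` -/
noncomputable def ιJ (j : J F) : (JObj.over F j).left ⟶ colimit (DF F) := colimit.ι (DF F) j

/-- the comparison map -/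
noncomputable def θ : colimit (DF F) ⟶ F := colimit.desc (DF F) (coconeF F)

theorem ιJ_θ (j : J F) : ιJ F j ≫ θ F = (JObj.over F j).hom :=
  colimit.ι_desc (coconeF F) j

theorem ιJ_w {j j' : J F} (m : j ⟶ j') : m.hom.left ≫ ιJ F j' = ιJ F j :=
  colimit.w (DF F) m

section Stalk

variable {Ω : Type u} [Field Ω] [IsSepClosed Ω] (ξ : Spec (CommRingCat.of Ω) ⟶ X)

theorem stalk_comp_apply {A B C : EtCoh.Ab X} (f : A ⟶ B) (g : B ⟶ C) (x : (EtCoh.stalk ξ).obj A) :
    ((EtCoh.stalk ξ).map (f ≫ g)).hom x =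
      ((EtCoh.stalk ξ).map g).hom (((EtCoh.stalk ξ).map f).hom x) := by
  rw [Functor.map_comp]
  rfl

noncomputable instance preservesColimits_stalk :
    PreservesColimitsOfSize.{u + 1, u + 1} (EtCoh.stalk ξ) :=
  ((Scheme.pointSmallEtale ξ).skyscraperSheafAdjunction
    (A := AddCommGrpCat.{u + 1})).leftAdjoint_preservesColimits

end Stalk

variable [CompactSpace X] [QuasiSeparatedSpace X]

theorem epi_desc (hF : EtCoh.IsTorsion F) : Epi (θ F) := by
  apply Groth.Agent.Lib.Helper16.EtStalk.epi_of_stalks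
  intro Ω _ _ ξ a
  obtain ⟨U, hU, n, hn, s, hs, ⟨t, ht⟩⟩ := exists_gen_of_isTorsion ξ hF a
  let G : Over F := Over.mk (secMap U n s hs)
  have hG : EtPBC.IsConstructible G.left := by
    haveI := hU
    haveI : NeZero n := ⟨hn.ne'⟩
    exact Groth.Agent.S0133.result X U (ZMod n)
  obtain ⟨j, ⟨e⟩⟩ := exists_J F G hG
  have h1 : secMap U n s hs = (e.inv.left ≫ ιJ F j) ≫ θ F := by
    rw [Category.assoc, ιJ_θ]
    exact (Over.w e.inv).symm
  refine ⟨((EtCoh.stalk ξ).map (e.inv.left ≫ ιJ F j)).hom t, ?_⟩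
  have h2 := stalk_comp_apply ξ (e.inv.left ≫ ιJ F j) (θ F) t
  rw [← h1] at h2
  exact h2.symm.trans ht

theorem mono_desc : Mono (θ F) := by
  apply Groth.Agent.Lib.Helper16.EtStalk.mono_of_stalks
  intro Ω _ _ ξ
  rw [injective_iff_map_eq_zero]
  intro z hz
  have hcol := isColimitOfPreserves (EtCoh.stalk ξ) (colimit.isColimit (DF F))
  obtain ⟨j, b, rfl⟩ := Concrete.isColimit_exists_rep (DF F ⋙ EtCoh.stalk ξ) hcol z
  change ((EtCoh.stalk ξ).map (θ F)).hom (((EtCoh.stalk ξ).map (ιJ F j)).hom b) = 0 at hz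
  rw [← stalk_comp_apply, ιJ_θ] at hz
  change ((EtCoh.stalk ξ).map (ιJ F j)).hom b = 0
  -- the kernel of `D_j ⟶ F`
  obtain ⟨q, hq⟩ := exists_of_stalk_map_eq_zero ξ (JObj.over F j).hom b hz
  obtain ⟨N, hN, hDN⟩ := exists_killedBy_of_isConstructible _ (isConstructible_J F j)
  have hKN : EtCoh.KilledBy N (kernel (JObj.over F j).hom) :=
    Groth.Agent.S0138.killedBy_kernel _ N ((killedBy_iff N _).1 hDN)
  obtain ⟨G', ⟨t, ht⟩⟩ := exists_gen ξ hKN q
  obtain ⟨ψ, hψdef⟩ : ∃ ψ' : EtPBC.extZeroConst G'.U (ZMod N) ⟶ (JObj.over F j).left,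
    ψ' = G'.map hKN ≫ kernel.ι (JObj.over F j).hom := ⟨_, rfl⟩
  have hψ : ψ ≫ (JObj.over F j).hom = 0 := by
    rw [hψdef, Category.assoc, kernel.condition, comp_zero]
  let G'' : Over F := Over.mk (cokernel.desc ψ (JObj.over F j).hom hψ)
  have hG'' : EtPBC.IsConstructible G''.left := by
    refine Groth.Agent.S0131.isConstructible_cokernel ψ ?_ (isConstructible_J F j)
    haveI := G'.aff
    haveI : NeZero N := ⟨hN.ne'⟩
    exact Groth.Agent.S0133.result X G'.U (ZMod N)
  obtain ⟨j'', ⟨e⟩⟩ := exists_J F G'' hG''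
  let m : j ⟶ j'' := InducedCategory.homMk
    (Over.homMk (cokernel.π ψ) (by simp [G'']) ≫ e.inv)
  have hm : m.hom.left = cokernel.π ψ ≫ e.inv.left := rfl
  have hb : b = ((EtCoh.stalk ξ).map ψ).hom t := by
    rw [hψdef, stalk_comp_apply]
    exact (hq.symm.trans (congrArg _ ht.symm))
  have h3 : ψ ≫ ιJ F j = 0 := by
    rw [← ιJ_w F m, hm]
    have h4 : ψ ≫ cokernel.π ψ = 0 := cokernel.condition ψ
    rw [Category.assoc, ← Category.assoc ψ, h4, zero_comp]
  rw [hb, ← stalk_comp_apply, h3, Functor.map_zero]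
  rfl

end Groth.Agent.Lib.Helper23ConstrColim
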