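import Mathlib
import Groth.Agent.Lib.Helper23ConstrColim3

/-!
# Torsion sheaves as filtered colimits of constructible sheaves with a side condition (helper23)

Let `Q` be a property of abelian étale sheaves stable under isomorphisms, zero objects, binary
biproducts and quotients, such that every map `G ⟶ F` from a constructible sheaf factors through a
constructible quotient of `G` satisfying `Q` (`QHyp F Q`).  Then a torsion sheaf `F` on a qcqs scheme
is a filtered colimit of constructible sheaves satisfying `Q` (`exists_colimit`).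
-/

set_option autoImplicit false
set_option backward.isDefEq.respectTransparency.types false
universe u
open CategoryTheory CategoryTheory.Limits AlgebraicGeometry Opposite

namespace Groth.Agent.Lib.Helper23ConstrColimQ

open Groth.Agent.Lib.Helper23ConstrGen Groth.Agent.Lib.Helper23ConstrTors
  Groth.Agent.Lib.Helper23ConstrColim

variable {X : Scheme.{u}} (F : EtCoh.Ab X) (Q : EtCoh.Ab X → Prop)

/-- the closure hypotheses on `Q` -/
structure QHyp : Prop where
  iso : ∀ {A B : EtCoh.Ab X}, (A ≅ B) → Q A → Q B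
  zero : ∀ A : EtCoh.Ab X, IsZero A → Q A
  biprod : ∀ A B : EtCoh.Ab X, Q A → Q B → Q (A ⊞ B)
  quot : ∀ {A B : EtCoh.Ab X} (π : A ⟶ B), Epi π → Q A → Q B
  shrink : ∀ (G : Over F), EtPBC.IsConstructible G.left →
    ∃ (G' : Over F) (π : G ⟶ G'), Epi π.left ∧ EtPBC.IsConstructible G'.left ∧ Q G'.left

/-- index objects: presented constructible sheaves over `F` satisfying `Q` -/
def JQObj : Type (u + 1) := {j : JObj F // Q (JObj.over F j).left}

/-- the object of `Over F` -/
noncomputable def JQObj.over (j : JQObj F Q) : Over F := JObj.over F j.1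

/-- the index category -/
abbrev JQ : Type (u + 1) := InducedCategory (Over F) (JQObj.over F Q)

noncomputable instance : SmallCategory (JQ F Q) := inferInstanceAs (Category (InducedCategory _ _))

variable {F Q}

theorem Q_JQ (j : JQ F Q) : Q (JQObj.over F Q j).left := j.2

section

variable [CompactSpace X] [QuasiSeparatedSpace X]

theorem isConstructible_JQ (j : JQ F Q) : EtPBC.IsConstructible (JQObj.over F Q j).left :=
  PData.isConstructible j.1.1

variable (hQ : QHyp F Q)

include hQ in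
theorem exists_JQ (G : Over F) (hG : EtPBC.IsConstructible G.left) (hGQ : Q G.left) :
    ∃ j : JQ F Q, Nonempty (JQObj.over F Q j ≅ G) := by
  obtain ⟨p, ⟨e⟩⟩ := exists_pdata G.left hG
  refine ⟨⟨⟨p, e.hom ≫ G.hom⟩, hQ.iso e.symm hGQ⟩, ⟨Over.isoMk e (by simp [JQObj.over, JObj.over])⟩⟩

open ZeroObject in
include hQ in
theorem isFiltered_JQ : IsFiltered (JQ F Q) := by
  haveI : IsFilteredOrEmpty (JQ F Q) := by
    constructor
    · intro j₁ j₂
      let G : Over F := Over.mk (biprod.desc (JQObj.over F Q j₁).hom (JQObj.over F Q j₂).hom)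
      have hG : EtPBC.IsConstructible G.left :=
        Groth.Agent.S0133.isConstructible_of_iso (biprod.isoProd _ _).symm
          (isConstructible_prod _ _ (isConstructible_JQ j₁) (isConstructible_JQ j₂))
      obtain ⟨j, ⟨e⟩⟩ := exists_JQ hQ G hG (hQ.biprod _ _ (Q_JQ j₁) (Q_JQ j₂))
      refine ⟨j, InducedCategory.homMk (Over.homMk biprod.inl (by simp [G]) ≫ e.inv),
        InducedCategory.homMk (Over.homMk biprod.inr (by simp [G]) ≫ e.inv), trivial⟩
    · intro j₁ j₂ f g
      let G : Over F := Over.mk (cokernel.desc (f.hom.left - g.hom.left) (JQObj.over F Q j₂).hom (by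
        rw [Preadditive.sub_comp, Over.w, Over.w, sub_self]))
      have hG : EtPBC.IsConstructible G.left :=
        Groth.Agent.S0131.isConstructible_cokernel _ (isConstructible_JQ j₁) (isConstructible_JQ j₂)
      obtain ⟨j, ⟨e⟩⟩ := exists_JQ hQ G hG
        (hQ.quot (cokernel.π (f.hom.left - g.hom.left)) inferInstance (Q_JQ j₂))
      refine ⟨j, InducedCategory.homMk (Over.homMk (cokernel.π _) (by simp [G]) ≫ e.inv), ?_⟩
      apply InducedCategory.hom_ext
      rw [InducedCategory.comp_hom, InducedCategory.comp_hom, InducedCategory.homMk_hom,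
        ← Category.assoc, ← Category.assoc]
      congr 1
      apply Over.OverMorphism.ext
      rw [Over.comp_left, Over.comp_left]
      change f.hom.left ≫ cokernel.π _ = g.hom.left ≫ cokernel.π _
      rw [← sub_eq_zero, ← Preadditive.sub_comp]
      exact cokernel.condition _
  have h0 : EtPBC.IsConstructible (Over.mk (0 : (0 : EtCoh.Ab X) ⟶ F)).left :=
    isConstructible_of_isZero _ (isZero_zero _)
  obtain ⟨j, -⟩ := exists_JQ hQ _ h0 (hQ.zero _ (isZero_zero _))
  exact { nonempty := ⟨j⟩ }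

end

variable (F Q)

/-- the diagram -/
noncomputable def DFQ : JQ F Q ⥤ EtCoh.Ab X := inducedFunctor (JQObj.over F Q) ⋙ Over.forget F

/-- the tautological cocone with point `F` -/
noncomputable def coconeFQ : Cocone (DFQ F Q) :=
  (Over.forgetCocone F).whisker (inducedFunctor (JQObj.over F Q))

/-- the colimit inclusions -/
noncomputable def ιJQ (j : JQ F Q) : (JQObj.over F Q j).left ⟶ colimit (DFQ F Q) :=
  colimit.ι (DFQ F Q) j

/-- the comparison map -/
noncomputable def θQ : colimit (DFQ F Q) ⟶ F := colimit.desc (DFQ F Q) (coconeFQ F Q)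

theorem ιJQ_θQ (j : JQ F Q) : ιJQ F Q j ≫ θQ F Q = (JQObj.over F Q j).hom :=
  colimit.ι_desc (coconeFQ F Q) j

theorem ιJQ_w {j j' : JQ F Q} (m : j ⟶ j') : m.hom.left ≫ ιJQ F Q j' = ιJQ F Q j :=
  colimit.w (DFQ F Q) m

variable {F Q}

variable [CompactSpace X] [QuasiSeparatedSpace X] (hQ : QHyp F Q)

include hQ in
theorem epi_θQ (hF : EtCoh.IsTorsion F) : Epi (θQ F Q) := by
  apply Groth.Agent.Lib.Helper16.EtStalk.epi_of_stalks
  intro Ω _ _ ξ a
  obtain ⟨U, hU, n, hn, s, hs, ⟨t, ht⟩⟩ := exists_gen_of_isTorsion ξ hF a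
  let G : Over F := Over.mk (secMap U n s hs)
  have hG : EtPBC.IsConstructible G.left := by
    haveI := hU
    haveI : NeZero n := ⟨hn.ne'⟩
    exact Groth.Agent.S0133.result X U (ZMod n)
  obtain ⟨G', π, -, hG', hG'Q⟩ := hQ.shrink G hG
  obtain ⟨j, ⟨e⟩⟩ := exists_JQ hQ G' hG' hG'Q
  have h1 : secMap U n s hs = (π.left ≫ e.inv.left ≫ ιJQ F Q j) ≫ θQ F Q := by
    rw [Category.assoc, Category.assoc, ιJQ_θQ]
    have h2 : e.inv.left ≫ (JQObj.over F Q j).hom = G'.hom := Over.w e.inv
    rw [h2]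
    exact (Over.w π).symm
  refine ⟨((EtCoh.stalk ξ).map (π.left ≫ e.inv.left ≫ ιJQ F Q j)).hom t, ?_⟩
  have h2 := stalk_comp_apply ξ (π.left ≫ e.inv.left ≫ ιJQ F Q j) (θQ F Q) t
  rw [← h1] at h2
  exact h2.symm.trans ht

include hQ in
theorem mono_θQ : Mono (θQ F Q) := by
  apply Groth.Agent.Lib.Helper16.EtStalk.mono_of_stalks
  intro Ω _ _ ξ
  rw [injective_iff_map_eq_zero]
  intro z hz
  have hcol := isColimitOfPreserves (EtCoh.stalk ξ) (colimit.isColimit (DFQ F Q))
  haveI := isFiltered_JQ hQ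
  obtain ⟨j, b, rfl⟩ := Concrete.isColimit_exists_rep (DFQ F Q ⋙ EtCoh.stalk ξ) hcol z
  change ((EtCoh.stalk ξ).map (θQ F Q)).hom (((EtCoh.stalk ξ).map (ιJQ F Q j)).hom b) = 0 at hz
  rw [← stalk_comp_apply, ιJQ_θQ] at hz
  change ((EtCoh.stalk ξ).map (ιJQ F Q j)).hom b = 0
  obtain ⟨q, hq⟩ := exists_of_stalk_map_eq_zero ξ (JQObj.over F Q j).hom b hz
  obtain ⟨N, hN, hDN⟩ := exists_killedBy_of_isConstructible _ (isConstructible_JQ j)
  have hKN : EtCoh.KilledBy N (kernel (JQObj.over F Q j).hom) :=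
    Groth.Agent.S0138.killedBy_kernel _ N ((killedBy_iff N _).1 hDN)
  obtain ⟨G', ⟨t, ht⟩⟩ := exists_gen ξ hKN q
  obtain ⟨ψ, hψdef⟩ : ∃ ψ' : EtPBC.extZeroConst G'.U (ZMod N) ⟶ (JQObj.over F Q j).left,
    ψ' = G'.map hKN ≫ kernel.ι (JQObj.over F Q j).hom := ⟨_, rfl⟩
  have hψ : ψ ≫ (JQObj.over F Q j).hom = 0 := by
    rw [hψdef, Category.assoc, kernel.condition, comp_zero]
  let G'' : Over F := Over.mk (cokernel.desc ψ (JQObj.over F Q j).hom hψ)
  have hG'' : EtPBC.IsConstructible G''.left := by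
    refine Groth.Agent.S0131.isConstructible_cokernel ψ ?_ (isConstructible_JQ j)
    haveI := G'.aff
    haveI : NeZero N := ⟨hN.ne'⟩
    exact Groth.Agent.S0133.result X G'.U (ZMod N)
  obtain ⟨j'', ⟨e⟩⟩ := exists_JQ hQ G'' hG'' (hQ.quot (cokernel.π ψ) inferInstance (Q_JQ j))
  let m : j ⟶ j'' := InducedCategory.homMk
    (Over.homMk (cokernel.π ψ) (by simp [G'']) ≫ e.inv)
  have hm : m.hom.left = cokernel.π ψ ≫ e.inv.left := rfl
  have hb : b = ((EtCoh.stalk ξ).map ψ).hom t := by
    rw [hψdef, stalk_comp_apply]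
    exact (hq.symm.trans (congrArg _ ht.symm))
  have h3 : ψ ≫ ιJQ F Q j = 0 := by
    rw [← ιJQ_w F Q m, hm]
    have h4 : ψ ≫ cokernel.π ψ = 0 := cokernel.condition ψ
    rw [Category.assoc, ← Category.assoc ψ, h4, zero_comp]
  rw [hb, ← stalk_comp_apply, h3, Functor.map_zero]
  rfl

include hQ in
/-- a torsion sheaf is a filtered colimit of constructible sheaves satisfying `Q` -/
theorem exists_colimit (hF : EtCoh.IsTorsion F) :
    ∃ (J : Type (u + 1)) (_ : SmallCategory J) (_ : IsFiltered J) (D : J ⥤ EtCoh.Ab X)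
      (c : Cocone D) (_ : IsColimit c), Nonempty (c.pt ≅ F) ∧
      ∀ j, EtPBC.IsConstructible (D.obj j) ∧ Q (D.obj j) := by
  haveI := epi_θQ hQ hF
  haveI := mono_θQ hQ
  haveI : IsIso ((colimit.isColimit (DFQ F Q)).desc (coconeFQ F Q)) :=
    isIso_of_mono_of_epi (θQ F Q)
  exact ⟨JQ F Q, inferInstance, isFiltered_JQ hQ, DFQ F Q, coconeFQ F Q,
    IsColimit.ofPointIso (colimit.isColimit (DFQ F Q)), ⟨Iso.refl _⟩,
    fun j => ⟨isConstructible_JQ j, Q_JQ j⟩⟩

end Groth.Agent.Lib.Helper23ConstrColimQ
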