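import Mathlib
import Groth.Agent.Lib.Helper23ConstrColimQ

/-!
# Shrinking the support of constructible sheaves over a torsion sheaf (helper23)
-/

set_option autoImplicit false
set_option backward.isDefEq.respectTransparency.types false
universe u
open CategoryTheory CategoryTheory.Limits AlgebraicGeometry Opposite

namespace Groth.Agent.Lib.Helper23ConstrShrink

open Groth.Agent.Lib.Helper23ConstrGen Groth.Agent.Lib.Helper23ConstrTors
  Groth.Agent.Lib.Helper23ConstrColim Groth.Agent.Lib.Helper23ConstrColimQ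
  Groth.Agent.Lib.Helper23EtSupp Groth.Agent.Lib.Helper23Strata Groth.Agent.Lib.Helper23Constr

variable {X : Scheme.{u}}

section Supp

theorem isZero_stalk_of_not_mem_supp (A : EtCoh.Ab X) {Ω : Type u} [Field Ω] [IsSepClosed Ω]
    (ξ : Spec (CommRingCat.of Ω) ⟶ X) (h : ξ default ∉ EtPBC.supp A) :
    IsZero ((EtCoh.stalk ξ).obj A) := by
  by_contra hnz
  exact h ⟨Ω, inferInstance, inferInstance, ξ, range_eq_singleton ξ rfl, hnz⟩

theorem supp_subset_of_epi {A B : EtCoh.Ab X} (π : A ⟶ B) [Epi π] :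
    EtPBC.supp B ⊆ EtPBC.supp A := by
  rintro x ⟨Ω, i1, i2, ξ, hξ, hnz⟩
  refine ⟨Ω, i1, i2, ξ, hξ, fun hz => hnz ?_⟩
  have h1 : Epi ((EtCoh.stalk ξ).map π) := inferInstance
  rw [AddCommGrpCat.epi_iff_surjective] at h1
  have hs := AddCommGrpCat.isZero_iff_subsingleton.mp hz
  rw [AddCommGrpCat.isZero_iff_subsingleton]
  exact h1.subsingleton

theorem supp_of_isZero {A : EtCoh.Ab X} (hA : IsZero A) : EtPBC.supp A = ∅ := by
  ext x
  simp only [Set.mem_empty_iff_false, iff_false]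
  rintro ⟨Ω, i1, i2, ξ, hξ, hnz⟩
  exact hnz ((EtCoh.stalk ξ).map_isZero hA)

theorem supp_biprod_subset (A B : EtCoh.Ab X) :
    EtPBC.supp (A ⊞ B) ⊆ EtPBC.supp A ∪ EtPBC.supp B := by
  rintro x ⟨Ω, i1, i2, ξ, hξ, hnz⟩
  by_contra hx
  rw [Set.mem_union, not_or] at hx
  have hxξ := apply_default_of_range ξ hξ
  have hA := isZero_stalk_of_not_mem_supp A ξ (hxξ ▸ hx.1)
  have hB := isZero_stalk_of_not_mem_supp B ξ (hxξ ▸ hx.2)
  apply hnz
  rw [IsZero.iff_id_eq_zero, ← CategoryTheory.Functor.map_id, ← biprod.total, Functor.map_add,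
    Functor.map_comp, Functor.map_comp, hA.eq_of_tgt ((EtCoh.stalk ξ).map biprod.fst) 0,
    hB.eq_of_tgt ((EtCoh.stalk ξ).map biprod.snd) 0, zero_comp, zero_comp, add_zero]

/-- properties of supports give `QHyp`-type closure properties -/
theorem qhyp_of_supp (F : EtCoh.Ab X) (P : Set X → Prop) (hmono : ∀ {A B : Set X}, B ⊆ A → P A → P B)
    (hunion : ∀ {A B : Set X}, P A → P B → P (A ∪ B)) (hempty : P ∅)
    (hshrink : ∀ (G : Over F), EtPBC.IsConstructible G.left →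
      ∃ (G' : Over F) (π : G ⟶ G'), Epi π.left ∧ EtPBC.IsConstructible G'.left ∧
        P (EtPBC.supp G'.left)) :
    QHyp F (fun A => P (EtPBC.supp A)) where
  iso e h := by rwa [← supp_eq_of_iso e]
  zero A hA := by rw [supp_of_isZero hA]; exact hempty
  biprod A B hA hB := hmono (supp_biprod_subset A B) (hunion hA hB)
  quot π hπ hA := by
    haveI := hπ
    exact hmono (supp_subset_of_epi π) hA
  shrink := hshrink

end Supp

section Kill

variable {F : EtCoh.Ab X} (G : Over F) {N : ℕ} (hKN : EtCoh.KilledBy N (kernel G.hom))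

/-- the relations map of a finite set of generators of the kernel of `G ⟶ F` -/
noncomputable def ΨR (R : Finset (Gen (kernel G.hom))) : PS R N ⟶ G.left :=
  ΦS hKN R ≫ kernel.ι G.hom

theorem ΨR_hom (R : Finset (Gen (kernel G.hom))) : ΨR G hKN R ≫ G.hom = 0 := by
  rw [ΨR, Category.assoc, kernel.condition, comp_zero]

/-- the quotient of `G` by finitely many relations, over `F` -/
noncomputable def GR (R : Finset (Gen (kernel G.hom))) : Over F :=
  Over.mk (cokernel.desc (ΨR G hKN R) G.hom (ΨR_hom G hKN R))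

/-- the projection `G ⟶ G_R` -/
noncomputable def πR (R : Finset (Gen (kernel G.hom))) : G ⟶ GR G hKN R :=
  Over.homMk (cokernel.π (ΨR G hKN R)) (by simp [GR])

instance (R : Finset (Gen (kernel G.hom))) : Epi (πR G hKN R).left :=
  inferInstanceAs (Epi (cokernel.π (ΨR G hKN R)))

section Stalk

variable {Ω : Type u} [Field Ω] [IsSepClosed Ω] (ξ : Spec (CommRingCat.of Ω) ⟶ X)

theorem imS_ΨR_mono {R R' : Finset (Gen (kernel G.hom))} (h : R ⊆ R') :
    imS ξ (ΨR G hKN R) ≤ imS ξ (ΨR G hKN R') := by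
  rintro _ ⟨t, rfl⟩
  have h1 : ((EtCoh.stalk ξ).map (ΦS hKN R)).hom t ∈ imS ξ (ΦS hKN R') :=
    imS_ΦS_mono hKN ξ h ⟨t, rfl⟩
  obtain ⟨t', ht'⟩ := h1
  refine ⟨t', ?_⟩
  change ((EtCoh.stalk ξ).map (ΦS hKN R' ≫ kernel.ι G.hom)).hom t' =
    ((EtCoh.stalk ξ).map (ΦS hKN R ≫ kernel.ι G.hom)).hom t
  rw [stalk_comp_apply, stalk_comp_apply]
  exact congrArg _ ht'

end Stalk

theorem not_mem_supp_GR_iff (R : Finset (Gen (kernel G.hom))) (x : X) :
    x ∉ EtPBC.supp (GR G hKN R).left ↔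
      ∀ (Ω : Type u) [Field Ω] [IsSepClosed Ω] (ξ : Spec (CommRingCat.of Ω) ⟶ X),
        ξ default = x → imS ξ (ΨR G hKN R) = ⊤ := by
  constructor
  · intro hx Ω _ _ ξ hξ
    rw [← isZero_stalk_cokernel_iff]
    exact isZero_stalk_of_not_mem_supp _ ξ (hξ ▸ hx)
  · rintro h ⟨Ω, i1, i2, ξ, hξ, hnz⟩
    apply hnz
    change IsZero ((EtCoh.stalk ξ).obj (cokernel (ΨR G hKN R)))
    rw [isZero_stalk_cokernel_iff]
    exact h Ω ξ (apply_default_of_range ξ hξ)

theorem supp_GR_anti {R R' : Finset (Gen (kernel G.hom))} (h : R ⊆ R') :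
    EtPBC.supp (GR G hKN R').left ⊆ EtPBC.supp (GR G hKN R).left := by
  intro x hx
  by_contra hx'
  rw [not_mem_supp_GR_iff] at hx'
  have : x ∉ EtPBC.supp (GR G hKN R').left := by
    rw [not_mem_supp_GR_iff]
    intro Ω _ _ ξ hξ
    exact top_le_iff.1 ((hx' Ω ξ hξ).symm ▸ imS_ΨR_mono G hKN ξ h)
  exact this hx

variable [CompactSpace X] [QuasiSeparatedSpace X]

theorem isConstructible_GR (hG : EtPBC.IsConstructible G.left) (hN : 0 < N)
    (R : Finset (Gen (kernel G.hom))) : EtPBC.IsConstructible (GR G hKN R).left := by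
  refine Groth.Agent.S0131.isConstructible_cokernel (ΨR G hKN R) ?_ hG
  refine isConstructible_biproduct hG _ (fun G' => ?_)
  haveI := G'.1.aff
  haveI : NeZero N := ⟨hN.ne'⟩
  exact Groth.Agent.S0133.result X G'.1.U (ZMod N)

/-- a point outside the support of `F` is outside the support of some `G_R` -/
theorem exists_not_mem_supp_GR (hG : EtPBC.IsConstructible G.left) {x : X}
    (hx : x ∉ EtPBC.supp F) : ∃ R : Finset (Gen (kernel G.hom)), x ∉ EtPBC.supp (GR G hKN R).left := by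
  classical
  obtain ⟨Ω, i1, i2, ξ, hξ, hfin⟩ := exists_finite_stalk G.left hG x
  haveI := Fintype.ofFinite ((EtCoh.stalk ξ).obj G.left)
  have hF0 : IsZero ((EtCoh.stalk ξ).obj F) := isZero_stalk_of_not_mem_supp F ξ (hξ ▸ hx)
  have h1 : ∀ a : (EtCoh.stalk ξ).obj G.left, ∃ G' : Gen (kernel G.hom),
      a ∈ imS ξ (G'.map hKN ≫ kernel.ι G.hom) := by
    intro a
    have ha : ((EtCoh.stalk ξ).map G.hom).hom a = 0 :=
      @Subsingleton.elim _ (AddCommGrpCat.isZero_iff_subsingleton.mp hF0) _ _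
    obtain ⟨q, hq⟩ := exists_of_stalk_map_eq_zero ξ G.hom a ha
    obtain ⟨G', ⟨t, ht⟩⟩ := exists_gen ξ hKN q
    refine ⟨G', ⟨t, ?_⟩⟩
    change ((EtCoh.stalk ξ).map (G'.map hKN ≫ kernel.ι G.hom)).hom t = a
    rw [stalk_comp_apply]
    exact (congrArg _ ht).trans hq
  choose G' hG' using h1
  refine ⟨Finset.univ.image G', fun hx' => ?_⟩
  have h2 := (mem_supp_iff _ x).1 hx' Ω ξ (range_eq_singleton ξ hξ)
  apply h2
  change IsZero ((EtCoh.stalk ξ).obj (cokernel (ΨR G hKN (Finset.univ.image G'))))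
  rw [isZero_stalk_cokernel_iff, eq_top_iff]
  intro a _
  obtain ⟨t, ht⟩ := hG' a
  have hmem : G' a ∈ Finset.univ.image G' := Finset.mem_image_of_mem G' (Finset.mem_univ a)
  have h3 : ((EtCoh.stalk ξ).map ((G' a).map hKN)).hom t ∈ imS ξ (ΦS hKN (Finset.univ.image G')) := by
    rw [imS_ΦS]
    exact (le_iSup (fun G'' : ↥(Finset.univ.image G') => imS ξ (G''.1.map hKN)) ⟨G' a, hmem⟩)
      ⟨t, rfl⟩
  obtain ⟨t', ht'⟩ := h3
  refine ⟨t', ?_⟩
  change ((EtCoh.stalk ξ).map (ΦS hKN (Finset.univ.image G') ≫ kernel.ι G.hom)).hom t' = a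
  rw [stalk_comp_apply]
  have h4 : ((EtCoh.stalk ξ).map ((G' a).map hKN ≫ kernel.ι G.hom)).hom t = a := ht
  rw [stalk_comp_apply] at h4
  exact (congrArg _ ht').trans h4

end Kill

end Groth.Agent.Lib.Helper23ConstrShrink
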