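import Mathlib
import Groth.Prelude.Def_PBC
import Groth.Agent.S0671
import Groth.Agent.Lib.Helper23EtSupp
import Groth.Agent.Lib.Helper23FlcSerre
import Groth.Agent.Lib.Helper23Constr
import Groth.Agent.Lib.Helper23ConstrGen4
import Groth.Agent.S0131
import Groth.Agent.S0133

/-!
# Subsheaves of finite locally constant / constructible sheaves (helper23)

* `isOpen_supp_of_mono_lc`, `isOpen_supp_of_mono_flc`: the support of a subsheaf of a finite locally
  constant sheaf is open.
-/

set_option autoImplicit false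
set_option backward.isDefEq.respectTransparency.types false
universe u
open CategoryTheory CategoryTheory.Limits AlgebraicGeometry Opposite

namespace Groth.Agent.Lib.Helper23ConstrSub

open Groth.Agent.Lib.Helper23.ConstLC Groth.Agent.Lib.Helper23EtSupp Groth.Agent.Lib.Helper23FlcSerre

variable {X : Scheme.{u}}

theorem injective_app_of_mono {H E : EtCoh.Ab X} (ι : H ⟶ E) [Mono ι] (W : X.Etale) :
    Function.Injective (ι.hom.app (op W)).hom := by
  haveI : Mono ((sheafToPresheaf _ _).map ι) := inferInstance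
  have h1 : Mono (ι.hom.app (op W)) :=
    (NatTrans.mono_iff_mono_app ((sheafToPresheaf _ _).map ι)).1 inferInstance (op W)
  exact (AddCommGrpCat.mono_iff_injective _).1 h1

theorem isOpen_supp_of_mono_lc {M : Type} [AddCommGroup M] {H : EtCoh.Ab X} (ι : H ⟶ lc X M)
    [Mono ι] : IsOpen (EtPBC.supp H) := by
  rw [isOpen_iff_forall_mem_open]
  intro y hy
  rw [(Groth.Agent.S0671.result H).2] at hy
  simp only [Set.mem_iUnion] at hy
  obtain ⟨U, σ, u, hu, huy⟩ := hy
  have nat : ∀ {W : X.Etale} (g : W ⟶ U),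
      (ι.hom.app (op W)).hom (H.obj.map g.op σ) =
        (lc X M).obj.map g.op ((ι.hom.app (op U)).hom σ) := by
    intro W g
    exact congrArg (fun k => k.hom σ) (ι.hom.naturality g.op)
  have hfu : fn ((ι.hom.app (op U)).hom σ) u ≠ 0 := by
    intro h0
    let U' : U.left.Opens := ⟨(fn ((ι.hom.app (op U)).hom σ)) ⁻¹' {0},
      (isOpen_discrete _).preimage (fn ((ι.hom.app (op U)).hom σ)).continuous⟩
    have huU' : u ∈ U' := h0
    apply hu (subObj U U') (subObjι U U') ⟨⟨u, huU'⟩, rfl⟩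
    apply injective_app_of_mono ι
    rw [map_zero, nat]
    apply fn_injective
    ext w
    exact w.2
  let U' : U.left.Opens := ⟨((fn ((ι.hom.app (op U)).hom σ)) ⁻¹' {0})ᶜ,
    ((isClosed_discrete _).preimage (fn ((ι.hom.app (op U)).hom σ)).continuous).isOpen_compl⟩
  refine ⟨U.hom '' (U' : Set U.left), ?_, U.hom.isOpenMap _ U'.2, ⟨u, hfu, huy⟩⟩
  rintro _ ⟨u', hu', rfl⟩
  rw [(Groth.Agent.S0671.result H).2]
  simp only [Set.mem_iUnion]
  refine ⟨U, σ, u', ?_, rfl⟩
  rintro W g ⟨w, hw⟩ h0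
  apply hu'
  have h1 := nat g
  rw [h0, map_zero] at h1
  have h2 := congrArg (fun t => fn t w) h1
  change (0 : Disc M) = fn ((ι.hom.app (op U)).hom σ) (g.left.base w) at h2
  rw [hw] at h2
  exact h2.symm

/-- the support of a subsheaf of a finite locally constant sheaf is open -/
theorem isOpen_supp_of_mono_flc {H E : EtCoh.Ab X} (ι : H ⟶ E) [Mono ι]
    (hE : EtCoh.IsFiniteLocallyConstant E) : IsOpen (EtPBC.supp H) := by
  rw [isFlc_iff_pull] at hE
  obtain ⟨I, U, hU, h⟩ := hE
  have key : ∀ i, IsOpen ((U i).hom ⁻¹' EtPBC.supp H) := by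
    intro i
    obtain ⟨M, i1, i2, ⟨e⟩⟩ := h i
    rw [← supp_pull]
    haveI : Mono ((EtCoh.pull (U i).hom).map ι) := inferInstance
    exact isOpen_supp_of_mono_lc ((EtCoh.pull (U i).hom).map ι ≫ e.hom ≫ constToLC _ M)
  rw [isOpen_iff_forall_mem_open]
  intro x hx
  obtain ⟨i, y, hy⟩ := hU x
  refine ⟨(U i).hom '' ((U i).hom ⁻¹' EtPBC.supp H), ?_, (U i).hom.isOpenMap _ (key i),
    ⟨y, ?_, hy⟩⟩
  · rintro _ ⟨z, hz, rfl⟩
    exact hz
  · change (U i).hom y ∈ EtPBC.supp H
    rw [hy]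
    exact hx

/-- spreading out: if the subsheaf `H` of a constructible sheaf has zero stalk at `ζ`, then it has zero
stalks on an open neighbourhood of `ζ` in the closure of `ζ` -/
theorem exists_open_spread [CompactSpace X] [QuasiSeparatedSpace X] {H F' : EtCoh.Ab X}
    (ι : H ⟶ F') [Mono ι] (hF' : EtPBC.IsConstructible F') {ζ : X} (hζ : ζ ∉ EtPBC.supp H) :
    ∃ O : Set X, IsOpen O ∧ ζ ∈ O ∧ ∀ x ∈ O, ζ ⤳ x → x ∉ EtPBC.supp H := by
  obtain ⟨n, T, g, himm, -, -, hunion, hflc⟩ :=
    (Groth.Agent.Lib.Helper23Constr.isConstructible_iff_adaptedStrata_univ X F').1 hF'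
  have hζu : ζ ∈ ⋃ i, Set.range (g i) := hunion ▸ Set.mem_univ ζ
  obtain ⟨i, t, ht⟩ := Set.mem_iUnion.1 hζu
  haveI := himm i
  haveI : Mono ((EtCoh.pull (g i)).map ι) := inferInstance
  have hV : IsOpen ((g i) ⁻¹' EtPBC.supp H) := by
    rw [← supp_pull]
    exact isOpen_supp_of_mono_flc ((EtCoh.pull (g i)).map ι) (hflc i)
  obtain ⟨O, C, hO, hC, hOC⟩ := IsImmersion.isLocallyClosed_range (f := g i)
  have hζr : ζ ∈ O ∩ C := hOC ▸ ⟨t, ht⟩
  refine ⟨O, hO, hζr.1, fun x hxO hsp hx => hζ ?_⟩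
  have hxC : x ∈ C := hsp.mem_closed hC hζr.2
  have hxr : x ∈ Set.range (g i) := hOC ▸ ⟨hxO, hxC⟩
  obtain ⟨t', rfl⟩ := hxr
  rw [← ht] at hsp ⊢
  have hsp' : t ⤳ t' := (g i).isEmbedding.isInducing.specializes_iff.1 hsp
  exact hsp'.mem_open hV hx

section Main

open Groth.Agent.Lib.Helper23ConstrGen Groth.Agent.Lib.Helper23Strata

/-- every point is outside the support of the cokernel of the map of some finite set of generators
of a subsheaf of a constructible sheaf -/
theorem exists_finset_not_mem_supp_of_mono [CompactSpace X] [QuasiSeparatedSpace X]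
    {G F : EtCoh.Ab X} (ι : G ⟶ F) [Mono ι] {n : ℕ} (hGn : EtCoh.KilledBy n G)
    (hF : EtPBC.IsConstructible F) (x : X) :
    ∃ S : Finset (Gen G), x ∉ EtPBC.supp (cokernel (ΦS hGn S)) := by
  classical
  obtain ⟨Ω, i1, i2, ξ, hξ, hfin⟩ := exists_finite_stalk F hF x
  haveI : Mono ((EtCoh.stalk ξ).map ι) := inferInstance
  have hinj : Function.Injective ((EtCoh.stalk ξ).map ι).hom :=
    (AddCommGrpCat.mono_iff_injective _).1 inferInstance
  haveI : Finite ((EtCoh.stalk ξ).obj G) := Finite.of_injective _ hinj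
  haveI := Fintype.ofFinite ((EtCoh.stalk ξ).obj G)
  choose Gg hG using exists_gen ξ hGn
  refine ⟨Finset.univ.image Gg, fun hx => ?_⟩
  have h1 := (mem_supp_iff _ x).1 hx Ω ξ (range_eq_singleton ξ hξ)
  apply h1
  rw [isZero_stalk_cokernel_iff, eq_top_iff]
  intro a _
  rw [imS_ΦS]
  exact (le_iSup (fun G' : ↥(Finset.univ.image Gg) => imS ξ (G'.1.map hGn))
    ⟨Gg a, Finset.mem_image_of_mem Gg (Finset.mem_univ a)⟩) (hG a)

theorem isConstructible_PS' [CompactSpace X] [QuasiSeparatedSpace X] {G F : EtCoh.Ab X}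
    (hF : EtPBC.IsConstructible F) {n : ℕ} (hn : 0 < n) (S : Finset (Gen G)) :
    EtPBC.IsConstructible (PS S n) := by
  refine isConstructible_biproduct hF _ (fun g => ?_)
  haveI := g.1.aff
  haveI : NeZero n := ⟨hn.ne'⟩
  exact Groth.Agent.S0133.result X g.1.U (ZMod n)

/-- a subsheaf, killed by `n`, of a constructible sheaf on a Noetherian scheme is a quotient of a
finite direct sum of sheaves `j_{U!} ℤ/n` -/
theorem exists_epi_of_mono [IsNoetherian X] {G F : EtCoh.Ab X} (ι : G ⟶ F) [Mono ι] {n : ℕ}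
    (hn : 0 < n) (hGn : EtCoh.KilledBy n G) (hF : EtPBC.IsConstructible F) :
    ∃ S : Finset (Gen G), Epi (ΦS hGn S) := by
  classical
  -- for every point a finite set of generators and a locally closed neighbourhood
  have hpt : ∀ x : X, ∃ (S : Finset (Gen G)) (L : Set X), Topology.IsConstructible L ∧ x ∈ L ∧
      ∀ y ∈ L, y ∉ EtPBC.supp (cokernel (ΦS hGn S)) := by
    intro x
    obtain ⟨S, hS⟩ := exists_finset_not_mem_supp_of_mono ι hGn hF x
    have sq : IsPullback (ΦS hGn S) (𝟙 _) ι (ΦS hGn S ≫ ι) :=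
      IsPullback.of_vert_isIso_mono (by simp)
    haveI := Abelian.mono_cokernel_map_of_isPullback sq
    have hF' : EtPBC.IsConstructible (cokernel (ΦS hGn S ≫ ι)) :=
      Groth.Agent.S0131.isConstructible_cokernel _ (isConstructible_PS' hF hn S) hF
    obtain ⟨O, hO, hxO, hOs⟩ := exists_open_spread (cokernel.map _ _ _ _ sq.w) hF' hS
    refine ⟨S, O ∩ closure {x}, ?_, ⟨hxO, subset_closure rfl⟩, ?_⟩
    · refine Topology.IsConstructible.inter ?_ ?_
      · exact (TopologicalSpace.NoetherianSpace.isCompact _).isConstructible hO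
      · rw [← Topology.isConstructible_compl]
        exact (TopologicalSpace.NoetherianSpace.isCompact _).isConstructible
          isClosed_closure.isOpen_compl
    · rintro y ⟨hyO, hyc⟩
      exact hOs y hyO (specializes_iff_mem_closure.2 hyc)
  choose S L hL hxL hLS using hpt
  have hcov : ⋃ x, L x = Set.univ := Set.eq_univ_of_forall fun x => Set.mem_iUnion.2 ⟨x, hxL x⟩
  obtain ⟨t, ht⟩ := ConsTop.exists_finite_subcover _ hL hcov
  refine ⟨t.biUnion S, ?_⟩
  apply Groth.Agent.Lib.Helper16.EtStalk.epi_of_stalks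
  intro Ω _ _ ξ
  have hx : ξ default ∈ ⋃ x ∈ t, L x := ht ▸ Set.mem_univ _
  simp only [Set.mem_iUnion] at hx
  obtain ⟨x, hxt, hx⟩ := hx
  have h2 : IsZero ((EtCoh.stalk ξ).obj (cokernel (ΦS hGn (S x)))) := by
    by_contra hnz
    exact hLS x _ hx ⟨Ω, inferInstance, inferInstance, ξ, range_eq_singleton ξ rfl, hnz⟩
  rw [isZero_stalk_cokernel_iff] at h2
  have h3 : imS ξ (ΦS hGn (t.biUnion S)) = ⊤ := by
    rw [eq_top_iff, ← h2]
    apply imS_ΦS_mono
    intro g hg
    exact Finset.mem_biUnion.2 ⟨x, hxt, hg⟩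
  exact AddMonoidHom.range_eq_top.1 h3

/-- a subobject of an object killed by `n` is killed by `n` -/
theorem killedBy_of_mono {F G : EtCoh.Ab X} (ι : G ⟶ F) [Mono ι] (n : ℕ)
    (hFn : EtCoh.KilledBy n F) : EtCoh.KilledBy n G := by
  rw [killedBy_iff] at hFn ⊢
  rw [← cancel_mono ι, zero_comp, Preadditive.nsmul_comp, Category.id_comp]
  have : n • ι = ι ≫ (n • 𝟙 F) := by rw [Preadditive.comp_nsmul, Category.comp_id]
  rw [this, hFn, comp_zero]

/-- a quotient of an object killed by `n` is killed by `n` -/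
theorem killedBy_of_epi {F Q : EtCoh.Ab X} (π : F ⟶ Q) [Epi π] (n : ℕ)
    (hFn : EtCoh.KilledBy n F) : EtCoh.KilledBy n Q := by
  rw [killedBy_iff] at hFn ⊢
  rw [← cancel_epi π, comp_zero, Preadditive.comp_nsmul, Category.comp_id]
  have : n • π = (n • 𝟙 F) ≫ π := by rw [Preadditive.nsmul_comp, Category.id_comp]
  rw [this, hFn, zero_comp]

/-- Noetherian `X`: a subsheaf of a constructible sheaf, itself killed by `n > 0`, is constructible -/
theorem isConstructible_of_mono [IsNoetherian X] {F G : EtCoh.Ab X} (ι : G ⟶ F)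
    [Mono ι] (n : ℕ) (hn : 0 < n) (hGn : EtCoh.KilledBy n G) (hF : EtPBC.IsConstructible F) :
    EtPBC.IsConstructible G := by
  obtain ⟨S, hS⟩ := exists_epi_of_mono ι hn hGn hF
  have h1 : EtPBC.IsConstructible (cokernel (ΦS hGn S ≫ ι)) :=
    Groth.Agent.S0131.isConstructible_cokernel _ (isConstructible_PS' hF hn S) hF
  have h2 : EtPBC.IsConstructible (cokernel ι) :=
    Groth.Agent.S0133.isConstructible_of_iso (cokernelEpiComp (ΦS hGn S) ι) h1
  have h3 := Groth.Agent.S0131.isConstructible_kernel (cokernel.π ι) hF h2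
  have hlim := Abelian.monoIsKernelOfCokernel (f := ι) _ (colimit.isColimit _)
  exact Groth.Agent.S0133.isConstructible_of_iso
    (IsLimit.conePointUniqueUpToIso (kernelIsKernel (cokernel.π ι)) hlim) h3

/-- Noetherian `X`: a quotient of a constructible sheaf killed by `n > 0` is constructible -/
theorem isConstructible_of_epi [IsNoetherian X] {F Q : EtCoh.Ab X} (π : F ⟶ Q)
    [Epi π] (n : ℕ) (hn : 0 < n) (hFn : EtCoh.KilledBy n F) (hF : EtPBC.IsConstructible F) :
    EtPBC.IsConstructible Q := by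
  have hK : EtPBC.IsConstructible (kernel π) :=
    isConstructible_of_mono (kernel.ι π) n hn (killedBy_of_mono (kernel.ι π) n hFn) hF
  have h1 := Groth.Agent.S0131.isConstructible_cokernel (kernel.ι π) hK hF
  have hcolim := Abelian.epiIsCokernelOfKernel (f := π) _ (limit.isLimit _)
  exact Groth.Agent.S0133.isConstructible_of_iso
    (IsColimit.coconePointUniqueUpToIso (cokernelIsCokernel (kernel.ι π)) hcolim) h1

end Main

end Groth.Agent.Lib.Helper23ConstrSub
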