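import Mathlib
import Groth.Prelude.Def_EtCore
import Groth.Prelude.Def_SGA4b

set_option autoImplicit false
open CategoryTheory CategoryTheory.Limits AlgebraicGeometry Opposite
universe u

namespace Groth.Agent.Lib.LeadSepPt

instance (k : Type u) [Field k] : Subsingleton (Spec (CommRingCat.of k)) :=
  inferInstanceAs (Subsingleton (PrimeSpectrum k))

/-- sections through every point of an étale scheme over a separably closed field -/
theorem exists_section_aux (k : Type u) [Field k] [IsSepClosed k]
    {V : Scheme.{u}} (g : V ⟶ Spec (CommRingCat.of k)) [Etale g] (x : V) :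
    ∃ s : Spec (CommRingCat.of k) ⟶ V, s ≫ g = 𝟙 _ ∧ x ∈ Set.range s := by
  obtain ⟨⟨y, a⟩, h⟩ := (Scheme.SpecToEquivOfField k (Spec (CommRingCat.of k))).symm.surjective (𝟙 _)
  have hy : y = g x := Subsingleton.elim _ _
  subst hy
  obtain ⟨β, hβ⟩ : ∃ β : V.residueField x ⟶ CommRingCat.of k, g.residueFieldMap x ≫ β = a := by
    algebraize [(g.residueFieldMap x).hom, a.hom]
    let b : V.residueField x →ₐ[(Spec (CommRingCat.of k)).residueField (g x)] k :=
      IsSepClosed.lift
    refine ⟨CommRingCat.ofHom b.toRingHom, ?_⟩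
    ext1; exact b.comp_algebraMap
  refine ⟨Spec.map β ≫ V.fromSpecResidueField x, ?_, ?_⟩
  · rw [← h, Category.assoc, ← Scheme.Hom.SpecMap_residueFieldMap_fromSpecResidueField,
      ← Spec.map_comp_assoc, hβ]
    rfl
  · refine ⟨IsLocalRing.closedPoint k, ?_⟩
    exact Scheme.fromSpecResidueField_apply x _

theorem exists_section (k : Type u) [Field k] [IsSepClosed k]
    (U : (Spec (CommRingCat.of k)).Etale) (x : U.left) :
    ∃ s : EtCoh.top (Spec (CommRingCat.of k)) ⟶ U, x ∈ Set.range s.left := by
  have : Etale U.hom := U.prop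
  obtain ⟨s, hs, hx⟩ := exists_section_aux k U.hom x
  exact ⟨MorphismProperty.Over.homMk s hs, hx⟩


section dense

variable (k : Type u) [Field k] [IsSepClosed k]

/-- the inclusion of the one-object category `{Spec k}` -/
noncomputable abbrev G : Discrete PUnit.{1} ⥤ (Spec (CommRingCat.of k)).Etale :=
  Functor.fromPUnit (EtCoh.top (Spec (CommRingCat.of k)))

instance : (G k).Faithful where
  map_injective := fun _ => Subsingleton.elim _ _

instance : (G k).Full where
  map_surjective := fun _ => ⟨⟨⟨Subsingleton.elim _ _⟩⟩, (EtCore.topIsTerminal _).hom_ext _ _⟩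

instance : (G k).IsCoverDense (Spec (CommRingCat.of k)).smallEtaleTopology where
  is_cover U := by
    refine GrothendieckTopology.superset_covering _ ?_
      ((Scheme.ofArrows_mem_smallEtaleTopology_iff
        (W := U) (ι := (EtCoh.top (Spec (CommRingCat.of k)) ⟶ U))
        (Z := fun _ => EtCoh.top (Spec (CommRingCat.of k))) (fun s => s)).2 ?_)
    · rintro V f ⟨W, g, _, ⟨s⟩, rfl⟩
      exact ⟨⟨⟨PUnit.unit⟩, g, s, rfl⟩⟩
    · ext x
      simp only [Set.mem_iUnion, Set.mem_univ, iff_true]
      exact exists_section k U x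


omit [IsSepClosed k] in
set_option backward.defeqAttrib.useBackward true in
set_option backward.isDefEq.respectTransparency false in
/-- a covering sieve of the nonempty `Spec k` contains an arrow -/
theorem exists_arrow_of_mem (R : Sieve (EtCoh.top (Spec (CommRingCat.of k))))
    (hR : R ∈ (Spec (CommRingCat.of k)).smallEtaleTopology _) :
    ∃ (V : (Spec (CommRingCat.of k)).Etale) (f : V ⟶ EtCoh.top _), R f := by
  obtain ⟨𝒰, h, hp, le⟩ := (Scheme.mem_smallGrothendieckTopology _ _).1 hR
  obtain ⟨i, y, -⟩ := 𝒰.exists_eq (IsLocalRing.closedPoint k)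
  exact ⟨_, _, le _ _ ⟨i⟩⟩

instance : Functor.IsDenseSubsite (⊥ : GrothendieckTopology (Discrete PUnit.{1}))
    (Spec (CommRingCat.of k)).smallEtaleTopology (G k) where
  functorPushforward_mem_iff := by
    intro X S
    constructor
    · intro h
      obtain ⟨V, f, Y, g, a, hg, -⟩ := exists_arrow_of_mem k _ h
      rw [GrothendieckTopology.bot_covering]
      rw [← Sieve.id_mem_iff_eq_top]
      obtain ⟨⟨⟩⟩ := X
      obtain ⟨⟨⟩⟩ := Y
      have : g = 𝟙 _ := Subsingleton.elim _ _
      rw [← this]
      exact hg
    · intro h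
      rw [GrothendieckTopology.bot_covering] at h
      subst h
      rw [Sieve.functorPushforward_top]
      exact GrothendieckTopology.top_mem _ _


/-- evaluation at the unique object of the trivial one-object site -/
noncomputable abbrev ev : Sheaf (⊥ : GrothendieckTopology (Discrete PUnit.{1})) (Type (u + 1)) ⥤
    Type (u + 1) :=
  (sheafSections (⊥ : GrothendieckTopology (Discrete PUnit.{1})) (Type (u + 1))).obj
    (op ⟨PUnit.unit⟩)

instance : (ev.{u}).Faithful where
  map_injective := by
    intro F F' f g h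
    ext X x
    obtain ⟨⟨⟨⟩⟩⟩ := X
    exact congrArg (fun φ => (ConcreteCategory.hom φ).toFun x) h

instance : (ev.{u}).Full where
  map_surjective := by
    intro F F' φ
    refine ⟨⟨{ app := fun X => ?_, naturality := ?_ }⟩, ?_⟩
    · obtain ⟨⟨⟨⟩⟩⟩ := X
      exact φ
    · rintro ⟨⟨⟨⟩⟩⟩ ⟨⟨⟨⟩⟩⟩ f
      have : f = 𝟙 _ := Subsingleton.elim _ _
      subst this
      simp
    · rfl

instance : (ev.{u}).EssSurj where
  mem_essImage S := by
    refine ⟨⟨(Functor.const _).obj S, Presheaf.isSheaf_bot _⟩, ⟨Iso.refl _⟩⟩

instance : (ev.{u}).IsEquivalence where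

/-- global sections on `(Spec k)_et` is an equivalence for `k` separably closed -/
theorem sections_isEquivalence :
    ((sheafSections (Spec (CommRingCat.of k)).smallEtaleTopology (Type (u + 1))).obj
      (op (EtCoh.top (Spec (CommRingCat.of k))))).IsEquivalence := by
  have h1 : ((G k).sheafPushforwardContinuous (Type (u + 1))
      (⊥ : GrothendieckTopology (Discrete PUnit.{1}))
      (Spec (CommRingCat.of k)).smallEtaleTopology).IsEquivalence := inferInstance
  have h2 : ((G k).sheafPushforwardContinuous (Type (u + 1))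
      (⊥ : GrothendieckTopology (Discrete PUnit.{1}))
      (Spec (CommRingCat.of k)).smallEtaleTopology ⋙ ev.{u}).IsEquivalence := inferInstance
  exact Functor.isEquivalence_of_iso
    (NatIso.ofComponents (fun F => Iso.refl _) (fun f => by simp <;> rfl) :
      ((G k).sheafPushforwardContinuous (Type (u + 1))
      (⊥ : GrothendieckTopology (Discrete PUnit.{1}))
      (Spec (CommRingCat.of k)).smallEtaleTopology ⋙ ev.{u}) ≅ _)

end dense

/-- `Γ(Y, f_* F) ≅ Γ(X, F)` -/
noncomputable def pushShSectionsIso {X Y : Scheme.{u}} (f : X ⟶ Y) :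
    EtDesc.pushSh f ⋙ (sheafSections Y.smallEtaleTopology (Type (u + 1))).obj (op (EtCoh.top Y)) ≅
      (sheafSections X.smallEtaleTopology (Type (u + 1))).obj (op (EtCoh.top X)) :=
  NatIso.ofComponents (fun F => F.obj.mapIso (EtCore.bcTopIso f).op.symm)
    (fun {F F'} φ => by
      simp only [Functor.comp_map, Functor.mapIso_hom, Iso.symm_hom]
      exact (φ.hom.naturality _).symm)

theorem pullSh_isEquivalence (k k' : Type u) [Field k] [IsSepClosed k] [Field k'] [IsSepClosed k']
    [Algebra k k'] :
    (EtDesc.pullSh (Spec.map (CommRingCat.ofHom (algebraMap k k')))).IsEquivalence := by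
  have h1 := sections_isEquivalence k
  have h2 := sections_isEquivalence k'
  have h3 : (EtDesc.pushSh (Spec.map (CommRingCat.ofHom (algebraMap k k'))) ⋙
      (sheafSections (Spec (CommRingCat.of k)).smallEtaleTopology (Type (u + 1))).obj
        (op (EtCoh.top _))).IsEquivalence :=
    Functor.isEquivalence_of_iso (pushShSectionsIso _).symm
  have h4 : (EtDesc.pushSh (Spec.map (CommRingCat.ofHom (algebraMap k k')))).IsEquivalence :=
    Functor.isEquivalence_of_comp_right _
      ((sheafSections (Spec (CommRingCat.of k)).smallEtaleTopology (Type (u + 1))).obj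
        (op (EtCoh.top _)))
  exact (EtDesc.adjSh (Spec.map (CommRingCat.ofHom (algebraMap k k')))).isEquivalence_left_of_isEquivalence_right

end Groth.Agent.Lib.LeadSepPt
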