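import Mathlib
import Groth.Agent.Lib.LeadSepPt
import Groth.Agent.Lib.Helper21TorsA
import Groth.Agent.Lib.Helper21EtOpen

/-!
# Direct images along morphisms from the spectrum of a separably closed field are exact (helper23)
-/

set_option autoImplicit false
set_option backward.isDefEq.respectTransparency.types false
universe u
open CategoryTheory CategoryTheory.Limits AlgebraicGeometry Opposite

namespace Groth.Agent.Lib.Helper23.SepClosedPush
open Groth.Agent.Lib.Helper21.TorsA Groth.Agent.Lib.Helper21.EtOpen Groth.Agent.Lib.LeadSepPt

section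
variable (k : Type u) [Field k] [IsSepClosed k]

local notation "S" => Spec (CommRingCat.of k)

/-- on the small étale site of a separably closed field, epimorphisms of abelian sheaves are surjective
on sections over every object -/
theorem surjective_app_of_epi {F G : EtCoh.Ab S} (φ : F ⟶ G) [Epi φ] (W : (S).Etale) :
    Function.Surjective (φ.hom.app (op W)).hom := by
  intro s
  have hloc : Sheaf.IsLocallySurjective φ := by
    rw [Sheaf.isLocallySurjective_iff_epi']; infer_instance
  have hS := hloc.imageSieve_mem (U := W) s
  rw [mem_smallEtale_iff] at hS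
  -- sections through every point lying in the image sieve
  have h1 : ∀ w : W.left, ∃ τ : EtCoh.top S ⟶ W, w ∈ Set.range τ.left ∧
      ∃ t : F.obj.obj (op (EtCoh.top S)), (φ.hom.app (op (EtCoh.top S))).hom t = res _ G τ s := by
    intro w
    obtain ⟨W', f, w', hf, hw'⟩ := hS w
    obtain ⟨σ, hσ⟩ := exists_section k W' w'
    refine ⟨σ ≫ f, ?_, ?_⟩
    · obtain ⟨c, hc⟩ := hσ
      exact ⟨c, by
        change f.left (σ.left c) = w
        rw [hc, hw']⟩
    · obtain ⟨t, ht⟩ := hf
      refine ⟨res _ F σ t, ?_⟩
      rw [← res_map, res_comp]
      exact congrArg (res _ G σ) ht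
  choose τ hτ t ht using h1
  haveI : Subsingleton ↥(EtCoh.top S).left :=
    inferInstanceAs (Subsingleton (Spec (CommRingCat.of k)))
  have hpt : ∀ (w : W.left) (c : (EtCoh.top S).left), (τ w).left c = w := by
    intro w c
    obtain ⟨c', hc'⟩ := hτ w
    rw [Subsingleton.elim c c']
    exact hc'
  have hcov : Sieve.ofArrows (fun _ : W.left => EtCoh.top S) τ ∈ (S).smallEtaleTopology W := by
    rw [Scheme.ofArrows_mem_smallEtaleTopology_iff]
    ext w
    simp only [Set.mem_iUnion, Set.mem_univ, iff_true]
    exact ⟨w, hτ w⟩
  have hF := isSheafFor_forget F _ hcov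
  rw [Sieve.ofArrows, ← Presieve.isSheafFor_iff_generate, Presieve.isSheafFor_arrows_iff] at hF
  have hcompat : Presieve.Arrows.Compatible (F.obj ⋙ forget AddCommGrpCat.{u+1}) τ t := by
    intro i j Z gi gj hg
    have hgg : gi = gj := (EtCore.topIsTerminal S).hom_ext gi gj
    subst hgg
    by_cases hij : i = j
    · subst hij
      rfl
    · have hZ : IsEmpty Z.left := by
        constructor
        intro z
        apply hij
        have h2 := congrArg (fun m => m.left z) hg
        change (τ i).left (gi.left z) = (τ j).left (gi.left z) at h2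
        rw [hpt, hpt] at h2
        exact h2
      have hbot : (⊥ : Sieve Z) ∈ (S).smallEtaleTopology Z := by
        rw [mem_smallEtale_iff]
        intro z
        exact (hZ.false z).elim
      exact eq_of_bot_mem F hbot _ _
  obtain ⟨a, ha, -⟩ := hF t hcompat
  refine ⟨a, ?_⟩
  apply ext_of_cover G _ hcov
  rintro Z f ⟨Z', g, _, ⟨w⟩, rfl⟩
  rw [res_comp, res_comp, res_map]
  congr 1
  have haw : res _ F (τ w) a = t w := ha w
  rw [haw]
  exact ht w

/-- direct image along a morphism from the spectrum of a separably closed field preserves epimorphisms -/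
theorem push_preservesEpimorphisms {Y : Scheme.{u}} (g : S ⟶ Y) :
    (EtCoh.push g).PreservesEpimorphisms := by
  constructor
  intro F G φ hφ
  rw [← Sheaf.isLocallySurjective_iff_epi']
  constructor
  intro V s
  obtain ⟨a, ha⟩ := surjective_app_of_epi k φ ((EtCoh.bc g).obj V) s
  refine (Y.smallEtaleTopology).superset_covering ?_ ((Y.smallEtaleTopology).top_mem V)
  intro V' i _
  refine ⟨(((EtCoh.push g).obj F).obj.map i.op).hom a, ?_⟩
  have h1 := ConcreteCategory.congr_hom (((EtCoh.push g).map φ).hom.naturality i.op) a
  refine h1.trans ?_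
  exact congrArg (((EtCoh.push g).obj G).obj.map i.op).hom ha

/-- direct image along a morphism from the spectrum of a separably closed field is exact -/
theorem preservesFiniteColimits_push {Y : Scheme.{u}} (g : S ⟶ Y) :
    PreservesFiniteColimits (EtCoh.push g) := by
  haveI := push_preservesEpimorphisms k g
  haveI : PreservesFiniteLimits (EtCoh.push g) := by
    haveI := (EtCoh.pullPushAdj g).rightAdjoint_preservesLimits
    infer_instance
  rw [Functor.preservesFiniteColimits_iff_forall_exact_map_and_epi]
  intro T hT
  refine ⟨?_, ?_⟩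
  · exact ((Functor.preservesFiniteLimits_iff_forall_exact_map_and_mono _).mp inferInstance T hT).1
  · haveI := hT.epi_g
    infer_instance

/-- the higher right derived functors of an exact functor vanish. -/
theorem isZero_rightDerived_succ_of_preservesHomology {C D : Type*} [Category C] [Category D]
    [Abelian C] [Abelian D] [HasInjectiveResolutions C] (F : C ⥤ D) [F.Additive]
    [F.PreservesHomology] (X : C) (n : ℕ) : IsZero ((F.rightDerived (n + 1)).obj X) := by
  let I := injectiveResolution X
  refine IsZero.of_iso ?_ (I.isoRightDerivedObj F (n + 1))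
  have h : (I.cocomplex).ExactAt (n + 1) := I.cocomplex_exactAt_succ n
  have h' : ((F.mapHomologicalComplex _).obj I.cocomplex).ExactAt (n + 1) :=
    ShortComplex.Exact.map h F
  exact (HomologicalComplex.exactAt_iff_isZero_homology _ _).1 h'

/-- higher direct images along a morphism from the spectrum of a separably closed field vanish -/
theorem isZero_Rpush {Y : Scheme.{u}} (g : S ⟶ Y) (F : EtCoh.Ab S) (q : ℕ) (hq : 0 < q) :
    IsZero ((EtCoh.Rpush g q).obj F) := by
  haveI := preservesFiniteColimits_push k g
  haveI : PreservesFiniteLimits (EtCoh.push g) := by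
    haveI := (EtCoh.pullPushAdj g).rightAdjoint_preservesLimits
    infer_instance
  haveI : (EtCoh.push g).PreservesHomology := inferInstance
  obtain ⟨n, rfl⟩ : ∃ n, q = n + 1 := ⟨q - 1, by omega⟩
  exact isZero_rightDerived_succ_of_preservesHomology (EtCoh.push g) F n

end
end Groth.Agent.Lib.Helper23.SepClosedPush
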