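import Mathlib
import Groth.Agent.Lib.Helper16DimShift

/-!
# Bijectivity of a natural δ-compatible family by dimension shifting (helper9)

Degenerate Leray: if `G : 𝒜 ⥤ ℬ` is left exact and exact on the short exact sequences of
a resolution-like datum with `Ext`-acyclic middle terms (both before and after applying `G`),
then a natural δ-compatible family `Ext(A', G M) → Ext(A, M)` which is bijective in degree `0`
is bijective in all degrees on `Z 0`.
-/

set_option autoImplicit false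
universe w w' v v' u u'
open CategoryTheory CategoryTheory.Limits Abelian

namespace Groth.Agent.Lib.Helper9.DimShiftBij

open Groth.Agent.Lib.Helper16.DimShift

variable {𝒜 : Type u} [Category.{v} 𝒜] [Abelian 𝒜] [HasExt.{w} 𝒜]
variable {ℬ : Type u'} [Category.{v'} ℬ] [Abelian ℬ] [HasExt.{w'} ℬ]
variable (G : 𝒜 ⥤ ℬ) [G.Additive] [PreservesFiniteLimits G]

theorem bijective_of_dimShift (A : 𝒜) (A' : ℬ)
    (τ : ∀ (M : 𝒜) (n : ℕ), Ext.{w'} A' (G.obj M) n →+ Ext.{w} A M n)
    (hnat : ∀ {M N : 𝒜} (φ : M ⟶ N) (n : ℕ) (x : Ext.{w'} A' (G.obj M) n),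
      τ N n (x.comp (Ext.mk₀ (G.map φ)) (add_zero n)) = (τ M n x).comp (Ext.mk₀ φ) (add_zero n))
    (hδ : ∀ (S : ShortComplex 𝒜) (hS : S.ShortExact) (hS' : (S.map G).ShortExact) (n : ℕ)
      (x : Ext.{w'} A' (G.obj S.X₃) n),
      τ S.X₁ (n + 1) (x.comp hS'.extClass rfl) = (τ S.X₃ n x).comp hS.extClass rfl)
    (h0 : ∀ M, Function.Bijective (τ M 0)) :
    ∀ (p : ℕ) (D : Data 𝒜) (_ : ∀ k, Epi (G.map (D.g k)))
      (_ : ∀ k q, Subsingleton (Ext.{w} A (D.J k) (q + 1)))
      (_ : ∀ k q, Subsingleton (Ext.{w'} A' (G.obj (D.J k)) (q + 1))),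
      Function.Bijective (τ (D.Z 0) p) := by
  intro p
  induction p using Nat.strong_induction_on with
  | _ p ih =>
    intro D hepi hJ hJ'
    rcases p with _ | p
    · exact h0 _
    -- the two short exact sequences
    let S : ShortComplex 𝒜 := ShortComplex.mk (D.f 0) (D.g 0) (D.w 0)
    have hS : S.ShortExact := D.hS 0
    have hS' : (S.map G).ShortExact := (D.mapOfEpi G hepi).hS 0
    have hbij : Function.Bijective (τ (D.Z 1) p) :=
      ih p (Nat.lt_succ_self p) D.shift (fun k => hepi (k + 1)) (fun k q => hJ (k + 1) q)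
        (fun k q => hJ' (k + 1) q)
    have hsurjJ : Function.Surjective (τ (D.J 0) p) := by
      rcases p with _ | p
      · exact (h0 _).2
      · intro y
        exact ⟨0, ((map_zero _).trans (@Subsingleton.elim _ (hJ 0 p) _ _))⟩
    have hδ0 : ∀ x : Ext.{w'} A' (G.obj (D.Z 1)) p,
        τ (D.Z 0) (p + 1) (x.comp hS'.extClass rfl) = (τ (D.Z 1) p x).comp hS.extClass rfl :=
      hδ S hS hS' p
    have hg : ∀ x : Ext.{w'} A' (G.obj (D.J 0)) p,
        τ (D.Z 1) p (x.comp (Ext.mk₀ (G.map (D.g 0))) (add_zero p)) =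
          (τ (D.J 0) p x).comp (Ext.mk₀ (D.g 0)) (add_zero p) := hnat (D.g 0) p
    have ex1' : ∀ x : Ext.{w'} A' (G.obj (D.Z 0)) (p + 1),
        ∃ z : Ext.{w'} A' (G.obj (D.Z 1)) p, z.comp hS'.extClass rfl = x := fun x =>
      Ext.covariant_sequence_exact₁ A' hS' x (@Subsingleton.elim _ (hJ' 0 p) _ _) rfl
    have ex1 : ∀ y : Ext.{w} A (D.Z 0) (p + 1),
        ∃ z : Ext.{w} A (D.Z 1) p, z.comp hS.extClass rfl = y := fun y =>
      Ext.covariant_sequence_exact₁ A hS y (@Subsingleton.elim _ (hJ 0 p) _ _) rfl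
    have ex3 : ∀ z : Ext.{w} A (D.Z 1) p, z.comp hS.extClass rfl = 0 →
        ∃ w : Ext.{w} A (D.J 0) p, w.comp (Ext.mk₀ (D.g 0)) (add_zero p) = z := fun z hz =>
      Ext.covariant_sequence_exact₃ A hS z rfl hz
    have van' : ∀ w : Ext.{w'} A' (G.obj (D.J 0)) p,
        (w.comp (Ext.mk₀ (G.map (D.g 0))) (add_zero p)).comp hS'.extClass rfl = 0 := fun w =>
      (Ext.comp_assoc_of_second_deg_zero _ _ _ _).trans
        ((congrArg (fun t => w.comp t rfl) hS'.comp_extClass).trans (Ext.comp_zero _ _ _ _ _))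
    constructor
    · rw [injective_iff_map_eq_zero]
      intro x hx
      obtain ⟨z', hz'⟩ := ex1' x
      have e1 : (τ (D.Z 1) p z').comp hS.extClass rfl = 0 := by
        rw [← hδ0, hz', hx]
      obtain ⟨w, hw⟩ := ex3 _ e1
      obtain ⟨w', hw'⟩ := hsurjJ w
      have e : z' = w'.comp (Ext.mk₀ (G.map (D.g 0))) (add_zero p) := by
        apply hbij.1
        rw [hg, hw', hw]
      rw [← hz', e]
      exact van' w'
    · intro y
      obtain ⟨z, hz⟩ := ex1 y
      obtain ⟨z', hz'⟩ := hbij.2 z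
      exact ⟨_, (hδ0 z').trans (by rw [hz', hz])⟩

end Groth.Agent.Lib.Helper9.DimShiftBij
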