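import Groth.Agent.Lib.Helper9EtAcycChase
import Groth.Agent.Lib.Helper9DimShiftBij
import Groth.Agent.S0101
import Groth.Prelude.Def_EtLim

/-!
# `EtLim.HofPush` : naturality, δ-compatibility, degree zero, and the degenerate Leray case (helper9)
-/

set_option autoImplicit false
universe u
open CategoryTheory CategoryTheory.Limits AlgebraicGeometry Opposite Abelian

namespace Groth.Agent.Lib.Helper9.HofPush

open Groth.Agent.Lib.Helper9.ExtNat Groth.Agent.Lib.Helper16.ExtCompare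
open Groth.Agent.Lib.Helper16.DimShift

variable {X Y : Scheme.{u}} (f : X ⟶ Y) [PreservesFiniteLimits (EtCoh.pull f)]

lemma HofPush_apply (F : EtCoh.Ab X) (n : ℕ) (x : EtCoh.H Y ((EtCoh.push f).obj F) n) :
    EtLim.HofPush f F n x =
      (cmp (EtCoh.pull f) (EtCore.pullConst f ℤ).inv ((EtCoh.push f).obj F) n x).comp
        (Ext.mk₀ ((EtCoh.pullPushAdj f).counit.app F)) (add_zero n) := rfl

lemma HofPush_nat {M N : EtCoh.Ab X} (φ : M ⟶ N) (n : ℕ)
    (x : Ext.{u + 1} (EtCoh.const Y ℤ) ((EtCoh.push f).obj M) n) :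
    EtLim.HofPush f N n (x.comp (Ext.mk₀ ((EtCoh.push f).map φ)) (add_zero n)) =
      (EtLim.HofPush f M n x).comp (Ext.mk₀ φ) (add_zero n) := by
  rw [HofPush_apply, HofPush_apply, cmp_postcomp, Ext.comp_assoc_of_third_deg_zero,
    Ext.comp_assoc_of_third_deg_zero, Ext.mk₀_comp_mk₀, Ext.mk₀_comp_mk₀]
  congr 2
  exact (EtCoh.pullPushAdj f).counit.naturality φ

lemma HofPush_δ (S : ShortComplex (EtCoh.Ab X)) (hS : S.ShortExact)
    (hS' : (S.map (EtCoh.push f)).ShortExact) (n : ℕ)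
    (x : Ext.{u + 1} (EtCoh.const Y ℤ) ((EtCoh.push f).obj S.X₃) n) :
    EtLim.HofPush f S.X₁ (n + 1) (x.comp hS'.extClass rfl) =
      (EtLim.HofPush f S.X₃ n x).comp hS.extClass rfl := by
  have h1 := cmp_comp_extClass (EtCoh.pull f) (EtCore.pullConst f ℤ).inv hS' n x
  let φ : (S.map (EtCoh.push f)).map (EtCoh.pull f) ⟶ S :=
    { τ₁ := (EtCoh.pullPushAdj f).counit.app S.X₁
      τ₂ := (EtCoh.pullPushAdj f).counit.app S.X₂
      τ₃ := (EtCoh.pullPushAdj f).counit.app S.X₃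
      comm₁₂ := ((EtCoh.pullPushAdj f).counit.naturality S.f).symm
      comm₂₃ := ((EtCoh.pullPushAdj f).counit.naturality S.g).symm }
  have h2 := ShortComplex.ShortExact.extClass_naturality (hS'.map_of_exact (EtCoh.pull f)) hS φ
  refine (HofPush_apply f S.X₁ (n + 1) _).trans ?_
  refine Eq.trans ?_ (congrArg (fun t => t.comp hS.extClass rfl) (HofPush_apply f S.X₃ n x)).symm
  refine (congrArg (fun t => t.comp (Ext.mk₀ ((EtCoh.pullPushAdj f).counit.app S.X₁))
    (add_zero (n + 1))) h1).trans ?_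
  refine (Ext.comp_assoc_of_third_deg_zero _ _ _ _).trans ?_
  refine (congrArg (fun t => (cmp (EtCoh.pull f) (EtCore.pullConst f ℤ).inv
    ((EtCoh.push f).obj S.X₃) n x).comp t rfl) h2).trans ?_
  exact (Ext.comp_assoc_of_second_deg_zero _ _ _ _).symm

lemma HofPush_mk₀ (M : EtCoh.Ab X) (φ : EtCoh.const Y ℤ ⟶ (EtCoh.push f).obj M) :
    EtLim.HofPush f M 0 (Ext.mk₀ φ) =
      Ext.mk₀ ((EtCore.pullConst f ℤ).inv ≫ ((EtCoh.pullPushAdj f).homEquiv _ _).symm φ) := by
  rw [HofPush_apply, cmp_mk₀, Ext.mk₀_comp_mk₀, Adjunction.homEquiv_counit, Category.assoc]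

lemma HofPush_zero_bijective (M : EtCoh.Ab X) : Function.Bijective (EtLim.HofPush f M 0) := by
  let g : (EtCoh.const Y ℤ ⟶ (EtCoh.push f).obj M) → (EtCoh.const X ℤ ⟶ M) := fun φ =>
    (EtCore.pullConst f ℤ).inv ≫ ((EtCoh.pullPushAdj f).homEquiv _ _).symm φ
  have hg : Function.Bijective g := by
    have h1 : Function.Bijective (fun ψ : (EtCoh.pull f).obj (EtCoh.const Y ℤ) ⟶ M =>
        (EtCore.pullConst f ℤ).inv ≫ ψ) :=
      ⟨fun a b h => (cancel_epi _).1 h, fun b => ⟨(EtCore.pullConst f ℤ).hom ≫ b, by simp⟩⟩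
    exact h1.comp ((EtCoh.pullPushAdj f).homEquiv _ _).symm.bijective
  have h2 : (EtLim.HofPush f M 0) ∘ (Ext.mk₀ : _ → Ext.{u + 1} _ _ 0) = Ext.mk₀ ∘ g :=
    funext (HofPush_mk₀ f M)
  have h3 : Function.Bijective ((EtLim.HofPush f M 0) ∘ (Ext.mk₀ : _ → Ext.{u + 1} _ _ 0)) := by
    rw [h2]
    exact (Ext.mk₀_bijective _ _).comp hg
  exact (Function.Bijective.of_comp_iff _ (Ext.mk₀_bijective _ _)).1 h3

/-- degenerate Leray: if `R^q f_* F = 0` for `q > 0` then `H^p(Y, f_* F) ≃ H^p(X, F)` -/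
theorem HofPush_bijective (F : EtCoh.Ab X)
    (hR : ∀ q : ℕ, 0 < q → IsZero ((EtCoh.Rpush f q).obj F)) (p : ℕ) :
    Function.Bijective (EtLim.HofPush f F p) := by
  let I : InjectiveResolution F := injectiveResolution F
  have hvan : ∀ n : ℕ, IsZero (((EtCoh.push f).rightDerived (n + 1)).obj F) := fun n =>
    hR (n + 1) (Nat.succ_pos n)
  have hepi : ∀ k, Epi ((EtCoh.push f).map ((ofResolution I).g k)) :=
    epi_map_gg I (EtCoh.push f) hvan
  have hinj : ∀ k, Injective ((ofResolution I).J k) := fun k => I.injective k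
  have hJ : ∀ k q, Subsingleton (Ext.{u + 1} (EtCoh.const X ℤ) ((ofResolution I).J k) (q + 1)) :=
    fun k q => by
      haveI := hinj k
      exact Ext.subsingleton_of_injective _ _ q
  have hJ' : ∀ k q, Subsingleton
      (Ext.{u + 1} (EtCoh.const Y ℤ) ((EtCoh.push f).obj ((ofResolution I).J k)) (q + 1)) :=
    fun k q => by
      haveI : Injective ((EtCoh.push f).obj ((ofResolution I).J k)) :=
        (EtCoh.pullPushAdj f).map_injective _ (hinj k)
      exact Ext.subsingleton_of_injective _ _ q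
  exact Groth.Agent.Lib.Helper9.DimShiftBij.bijective_of_dimShift (EtCoh.push f)
    (EtCoh.const X ℤ) (EtCoh.const Y ℤ) (fun M n => EtLim.HofPush f M n)
    (fun φ n x => HofPush_nat f φ n x) (fun S hS hS' n x => HofPush_δ f S hS hS' n x)
    (HofPush_zero_bijective f) p (ofResolution I) hepi hJ hJ'

end Groth.Agent.Lib.Helper9.HofPush
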