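import Mathlib
import Groth.Agent.Lib.Helper3HenselA

/-!
# Sections of étale morphisms over a henselian local ring (helper9)

* `exists_algHom_of_etale`: for `R` henselian local, `A` étale over `R` and an `R`-algebra map
  `ψ : A → κ(R)`, there is an `R`-algebra map `A → R` lifting `ψ`.
* `exists_section`: for `f : U ⟶ Spec R` étale and `l : Spec κ(R) ⟶ U` over the closed point,
  there is a section of `f` through `l`.
-/

set_option autoImplicit false
set_option backward.isDefEq.respectTransparency false

universe u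

open CategoryTheory CategoryTheory.Limits AlgebraicGeometry

namespace Groth.Agent.Lib.Helper9.Hens

theorem exists_algHom_of_etale {R : Type*} [CommRing R] [HenselianLocalRing R]
    {A : Type*} [CommRing A] [Algebra R A] [Algebra.Etale R A]
    (ψ : A →ₐ[R] IsLocalRing.ResidueField R) :
    ∃ σ : A →ₐ[R] R, ∀ a, IsLocalRing.residue R (σ a) = ψ a := by
  let q : Ideal A := RingHom.ker ψ.toRingHom
  haveI : q.IsPrime := RingHom.ker_isPrime ψ.toRingHom
  have h2 : q.primeCompl ≤ (IsUnit.submonoid (IsLocalRing.ResidueField R)).comap ψ := by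
    intro a ha
    change IsUnit (ψ a)
    rw [isUnit_iff_ne_zero]
    intro h0
    exact ha h0
  let τ : q.ResidueField →ₐ[R] IsLocalRing.ResidueField R :=
    Ideal.ResidueField.liftₐ q ψ le_rfl h2
  obtain ⟨σ, hσ, -⟩ := Groth.Agent.Lib.Helper3.Hensel.existsUnique_algHom_of_etale
    (R := R) (S := R) q τ
  refine ⟨σ, fun a => ?_⟩
  rw [hσ a]
  exact Ideal.ResidueField.liftₐ_algebraMap q ψ le_rfl h2 a

theorem exists_section {R : Type u} [CommRing R] [HenselianLocalRing R]
    {U : Scheme.{u}} (f : U ⟶ Spec (CommRingCat.of R)) [Etale f]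
    (l : Spec (CommRingCat.of (IsLocalRing.ResidueField R)) ⟶ U)
    (hl : l ≫ f = Spec.map (CommRingCat.ofHom (IsLocalRing.residue R))) :
    ∃ σ : Spec (CommRingCat.of R) ⟶ U, σ ≫ f = 𝟙 _ ∧
      Spec.map (CommRingCat.ofHom (IsLocalRing.residue R)) ≫ σ = l := by
  obtain ⟨A, j, hjo, hj, -⟩ := Scheme.exists_affine_mem_range_and_range_subset
    (x := l default) (U := (⊤ : U.Opens)) (by simp)
  have hrange : Set.range l ⊆ Set.range j := by
    rintro _ ⟨a, rfl⟩
    rwa [Subsingleton.elim a default]
  let l' : Spec (CommRingCat.of (IsLocalRing.ResidueField R)) ⟶ Spec A :=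
    IsOpenImmersion.lift j l hrange
  have hl' : l' ≫ j = l := IsOpenImmersion.lift_fac j l hrange
  let φ : CommRingCat.of R ⟶ A := Spec.preimage (j ≫ f)
  have hφ : Spec.map φ = j ≫ f := Spec.map_preimage _
  let ψ : A ⟶ CommRingCat.of (IsLocalRing.ResidueField R) := Spec.preimage l'
  have hψ : Spec.map ψ = l' := Spec.map_preimage _
  have hφψ : φ ≫ ψ = CommRingCat.ofHom (IsLocalRing.residue R) := by
    apply Spec.map_injective
    rw [Spec.map_comp, hφ, hψ, ← Category.assoc, hl', hl]
  have het : Etale (Spec.map φ) := by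
    rw [hφ]; infer_instance
  rw [HasRingHomProperty.Spec_iff (P := @Etale)] at het
  letI : Algebra R A := φ.hom.toAlgebra
  haveI : Algebra.Etale R A := by
    have : (algebraMap R A).Etale := het
    rwa [RingHom.etale_algebraMap] at this
  let ψa : A →ₐ[R] IsLocalRing.ResidueField R :=
    { ψ.hom with
      commutes' := fun r => by
        have := congrArg (fun k => k.hom r) hφψ
        exact this }
  obtain ⟨σ₀, hσ₀⟩ := exists_algHom_of_etale ψa
  refine ⟨Spec.map (CommRingCat.ofHom σ₀.toRingHom) ≫ j, ?_, ?_⟩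
  · rw [Category.assoc, ← hφ, ← Spec.map_comp, ← Spec.map_id]
    congr 1
    ext r
    exact σ₀.commutes r
  · rw [← Category.assoc, ← Spec.map_comp, ← hl', ← hψ]
    congr 2
    ext a
    exact hσ₀ a

end Groth.Agent.Lib.Helper9.Hens
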