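import Mathlib
import Groth.Prelude.Def_EtCore
import Groth.Agent.Lib.Helper9Hens6

/-!
# The small étale site of a strictly henselian local ring (helper9)

* `exists_section_site`: every étale neighbourhood of the closed geometric point has a section;
* `gsec_surjective_of_epi`: global sections is right exact;
* `projective_constZ`: the constant sheaf `ℤ` is projective.
-/

set_option autoImplicit false
set_option linter.style.haveILetI false
set_option backward.isDefEq.respectTransparency false
open CategoryTheory CategoryTheory.Limits AlgebraicGeometry Opposite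
universe u

namespace Groth.Agent.Lib.Helper9.Hens

variable (R : Type u) [CommRing R] [HenselianLocalRing R]
  [IsSepClosed (IsLocalRing.ResidueField R)]

/-- the closed geometric point -/
noncomputable abbrev clPt :
    Spec (CommRingCat.of (IsLocalRing.ResidueField R)) ⟶ Spec (CommRingCat.of R) :=
  Spec.map (CommRingCat.ofHom (IsLocalRing.residue R))

/-- the tautological lift of the closed geometric point to the terminal object -/
noncomputable def basePt :
    (Scheme.pointSmallEtale (clPt R)).fiber.obj (EtCoh.top (Spec (CommRingCat.of R))) :=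
  Over.homMk (clPt R) (Category.comp_id _)

theorem exists_section_site (U : (Spec (CommRingCat.of R)).Etale)
    (l : (Scheme.pointSmallEtale (clPt R)).fiber.obj U) :
    ∃ σ : EtCoh.top (Spec (CommRingCat.of R)) ⟶ U,
      (Scheme.pointSmallEtale (clPt R)).fiber.map σ (basePt R) = l := by
  have hl : l.left ≫ U.hom = clPt R := Over.w l
  obtain ⟨σ, hσ1, hσ2⟩ := exists_section U.hom l.left hl
  refine ⟨MorphismProperty.Over.homMk σ hσ1 trivial, ?_⟩
  exact Over.OverMorphism.ext hσ2

theorem section_comp {U : (Spec (CommRingCat.of R)).Etale}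
    (σ : EtCoh.top (Spec (CommRingCat.of R)) ⟶ U) (f : U ⟶ EtCoh.top (Spec (CommRingCat.of R))) :
    σ ≫ f = 𝟙 _ :=
  (EtCore.topIsTerminal _).hom_ext _ _

/-- global sections over a strictly henselian local ring preserve epimorphisms -/
theorem gsec_surjective_of_epi {F G : EtCoh.Ab (Spec (CommRingCat.of R))} (φ : F ⟶ G) [Epi φ] :
    Function.Surjective (φ.hom.app (op (EtCoh.top (Spec (CommRingCat.of R))))) := by
  intro t
  haveI : Sheaf.IsLocallySurjective φ := (Sheaf.isLocallySurjective_iff_epi' (φ := φ)).2 inferInstance
  have hmem := Presheaf.imageSieve_mem (Spec (CommRingCat.of R)).smallEtaleTopology φ.hom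
    (U := op (EtCoh.top (Spec (CommRingCat.of R)))) t
  obtain ⟨V, f, ⟨s, hs⟩, v, -⟩ :=
    (Scheme.pointSmallEtale (clPt R)).jointly_surjective _ hmem (basePt R)
  obtain ⟨σ, -⟩ := exists_section_site R V v
  refine ⟨F.obj.map σ.op s, ?_⟩
  have h1 := NatTrans.naturality_apply φ.hom σ.op s
  rw [h1, hs]
  have h2 : G.obj.map σ.op (G.obj.map f.op t) = G.obj.map (σ ≫ f).op t := by
    rw [op_comp, G.obj.map_comp]
    rfl
  rw [h2, section_comp R σ f]
  simp

theorem uliftEquiv_apply (G : AddCommGrpCat.{u + 1})
    (f : AddCommGrpCat.of (ULift.{u + 1} ℤ) ⟶ G) :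
    AddCommGrpCat.uliftZMultiplesAddEquiv G f = f.hom ⟨1⟩ := by
  rfl

theorem projective_uliftInt : Projective (AddCommGrpCat.of (ULift.{u + 1} ℤ)) where
  factors {E X} f e _ := by
    have hs := (AddCommGrpCat.epi_iff_surjective e).1 inferInstance
    obtain ⟨y, hy⟩ := hs ((AddCommGrpCat.uliftZMultiplesAddEquiv X) f)
    refine ⟨(AddCommGrpCat.uliftZMultiplesAddEquiv E).symm y, ?_⟩
    apply (AddCommGrpCat.uliftZMultiplesAddEquiv X).injective
    rw [← hy, uliftEquiv_apply]
    change e.hom (((AddCommGrpCat.uliftZMultiplesAddEquiv E).symm y).hom ⟨1⟩) = _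
    rw [← uliftEquiv_apply, AddEquiv.apply_symm_apply]

instance gsec_preservesEpimorphisms :
    (EtCore.gsec (Spec (CommRingCat.of R))).PreservesEpimorphisms where
  preserves {F G} φ _ := by
    rw [AddCommGrpCat.epi_iff_surjective]
    exact gsec_surjective_of_epi R φ

/-- over a strictly henselian local ring the constant sheaf `ℤ` is projective -/
theorem projective_constZ :
    Projective ((constantSheaf (Spec (CommRingCat.of R)).smallEtaleTopology
      AddCommGrpCat.{u + 1}).obj (AddCommGrpCat.of (ULift.{u + 1} ℤ))) :=
  (EtCore.constAdj (Spec (CommRingCat.of R))).map_projective _ projective_uliftInt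

/-- vanishing of higher étale cohomology over a strictly henselian local ring -/
theorem subsingleton_H (F : EtCoh.Ab (Spec (CommRingCat.of R))) (n : ℕ) :
    Subsingleton (EtCoh.H (Spec (CommRingCat.of R)) F (n + 1)) := by
  haveI := projective_constZ R
  exact Abelian.Ext.subsingleton_of_projective _ _ _

end Groth.Agent.Lib.Helper9.Hens
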