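import Mathlib
import Groth.Agent.S0099
import Groth.Agent.S0073
import Groth.Agent.S0101
import Groth.Agent.Lib.Helper23SepClosedPush
import Groth.Agent.Lib.Helper9HofPush

/-!
# Cohomology of coproducts of skyscraper-type sheaves (helper23)
-/

set_option autoImplicit false
set_option backward.isDefEq.respectTransparency.types false
universe u
open CategoryTheory CategoryTheory.Limits AlgebraicGeometry Opposite

namespace Groth.Agent.Lib.Helper23.CoprodH

/-- separable closedness transfers along ring isomorphisms -/
theorem isSepClosed_of_ringEquiv {K L : Type*} [Field K] [Field L] (e : K ≃+* L) [IsSepClosed K] :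
    IsSepClosed L := by
  apply IsSepClosed.of_exists_root
  intro q hq hirr hsep
  have hsep' : (q.map (e.symm : L →+* K)).Separable := hsep.map
  have hdeg : (q.map (e.symm : L →+* K)).degree ≠ 0 := by
    rw [Polynomial.degree_map]
    exact (Polynomial.degree_pos_of_irreducible hirr).ne'
  obtain ⟨z, hz⟩ := IsSepClosed.exists_root _ hdeg hsep'
  refine ⟨e z, ?_⟩
  have h1 : Polynomial.eval₂ (e.symm : L →+* K) z q = 0 := by
    rw [← Polynomial.eval_map]; exact hz
  have h2 : ((e : K →+* L).comp (e.symm : L →+* K)) = RingHom.id L := by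
    ext x; simp
  have h3 := congrArg (e : K →+* L) h1
  rw [Polynomial.hom_eval₂, h2, Polynomial.eval₂_id, map_zero] at h3
  exact h3

/-- étale cohomology of the spectrum of a separably closed field vanishes in positive degrees -/
theorem subsingleton_H_sepClosed (K : Type u) [Field K] [IsSepClosed K]
    (F : EtCoh.Ab (Spec (CommRingCat.of K))) (i : ℕ) (hi : 1 ≤ i) :
    Subsingleton (EtCoh.H (Spec (CommRingCat.of K)) F i) := by
  haveI : IsSepClosed (IsLocalRing.ResidueField K) :=
    isSepClosed_of_ringEquiv (RingEquiv.ofBijective (IsLocalRing.residue K)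
      ⟨(IsLocalRing.residue K).injective, IsLocalRing.residue_surjective⟩)
  exact Groth.Agent.S0073.result K F i hi

/-- cohomology of a direct image from the spectrum of a separably closed field vanishes -/
theorem subsingleton_H_push_sepClosed (K : Type u) [Field K] [IsSepClosed K] {X : Scheme.{u}}
    (g : Spec (CommRingCat.of K) ⟶ X) (G : EtCoh.Ab (Spec (CommRingCat.of K))) (q : ℕ) (hq : 1 ≤ q) :
    Subsingleton (EtCoh.H X ((EtCoh.push g).obj G) q) := by
  haveI := Groth.Agent.S0101.result g
  have hbij := Groth.Agent.Lib.Helper9.HofPush.HofPush_bijective g G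
    (fun q hq => Groth.Agent.Lib.Helper23.SepClosedPush.isZero_Rpush K g G q hq) q
  haveI := subsingleton_H_sepClosed K G q hq
  exact hbij.1.subsingleton

/-- the vertex of a colimit cocone over a diagram of zero objects is zero -/
theorem isZero_pt_of_isColimit {J C : Type*} [Category J] [Category C] [HasZeroMorphisms C]
    {D : J ⥤ C} (c : Cocone D) (hc : IsColimit c) (h : ∀ j, IsZero (D.obj j)) : IsZero c.pt := by
  rw [IsZero.iff_id_eq_zero]
  apply hc.hom_ext
  intro j
  exact (h j).eq_of_src _ _

/-- an additive functor killing all the summands kills a finite coproduct -/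
theorem isZero_map_sigma {C D : Type*} [Category C] [Category D] [Preadditive C] [Preadditive D]
    [HasFiniteBiproducts C] (G : C ⥤ D) [G.Additive] {ι : Type*} [Finite ι] (f : ι → C)
    (h : ∀ j, IsZero (G.obj (f j))) : IsZero (G.obj (∐ f)) := by
  classical
  haveI := Fintype.ofFinite ι
  refine IsZero.of_iso ?_ (G.mapIso (biproduct.isoCoproduct f).symm)
  rw [IsZero.iff_id_eq_zero, ← G.map_id]
  have ht := IsBilimit.total (biproduct.isBilimit f)
  rw [← ht, G.map_sum]
  apply Finset.sum_eq_zero
  intro j _
  rw [G.map_comp, (h j).eq_of_tgt (G.map (biproduct.π f j)) 0, zero_comp]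

/-- on a qcqs scheme, cohomology of a coproduct vanishes if the cohomology of each summand does -/
theorem subsingleton_H_of_isColimit_cofan {X : Scheme.{u}} [CompactSpace X] [QuasiSeparatedSpace X]
    {A : Type u} (F : A → EtCoh.Ab X) (q : ℕ) (hF : ∀ a, Subsingleton (EtCoh.H X (F a) q))
    (c : Cofan F) (hc : IsColimit c) : Subsingleton (EtCoh.H X c.pt q) := by
  haveI : (EtCoh.HF X q).Additive := by unfold EtCoh.HF; infer_instance
  have hz : ∀ a, IsZero ((EtCoh.HF X q).obj (F a)) := fun a =>
    (AddCommGrpCat.isZero_iff_subsingleton).2 (hF a)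
  haveI := Groth.Agent.S0099.result X q (Finset (Discrete A))
  have h1 := isColimitOfPreserves (EtCoh.HF X q)
    (CoproductsFromFiniteFiltered.isColimitFiniteSubproductsCocone F)
  have h2 : IsZero ((EtCoh.HF X q).obj (∐ F)) := by
    refine isZero_pt_of_isColimit _ h1 ?_
    intro s
    exact isZero_map_sigma (EtCoh.HF X q) _ (fun j => hz _)
  have e : c.pt ≅ ∐ F := hc.coconePointUniqueUpToIso (coproductIsCoproduct F)
  have h3 : IsZero ((EtCoh.HF X q).obj c.pt) := IsZero.of_iso h2 ((EtCoh.HF X q).mapIso e)
  exact (AddCommGrpCat.isZero_iff_subsingleton).1 h3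

end Groth.Agent.Lib.Helper23.CoprodH
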