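import Mathlib

/-!
# Dimension shifting: a left exact functor preserving injectives preserves "flasque" objects (helper23)

`subsingleton_ext_map`: let `Φ : A ⥤ B` be a left exact additive functor between abelian categories
preserving injectives, `T k` test objects of `A`, `P i` test objects of `B` detecting epimorphisms, with
natural bijections `(P i ⟶ Φ G) ≃ (T (σ i) ⟶ G)`.  If `Ext^q(T k, F) = 0` for all `k` and `q > 0`, then
`Ext^q(P i, Φ F) = 0` for all `i` and `q > 0`.
-/

set_option autoImplicit false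
set_option backward.isDefEq.respectTransparency.types false
universe w w' v v' u u'
open CategoryTheory CategoryTheory.Limits Abelian

namespace Groth.Agent.Lib.Helper23DimShiftVan

variable {A : Type u} [Category.{v} A] [Abelian A] [HasExt.{w} A] [EnoughInjectives A]
variable {B : Type u'} [Category.{v'} B] [Abelian B] [HasExt.{w'} B]

section Flasque

variable {κ : Type*} (T : κ → A)

/-- `F` is acyclic for all `Hom(T k, -)` -/
def Fl (F : A) : Prop := ∀ (k : κ) (q : ℕ), 0 < q → Subsingleton (Ext.{w} (T k) F q)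

variable {T}

theorem fl_X₃ (S : ShortComplex A) (hS : S.ShortExact) (h1 : Fl T S.X₁) [Injective S.X₂] :
    Fl T S.X₃ := by
  intro k q hq
  refine ⟨fun a b => ?_⟩
  have key : ∀ x₃ : Ext.{w} (T k) S.X₃ q, x₃ = 0 := by
    intro x₃
    haveI := h1 k (q + 1) (by omega)
    obtain ⟨x₂, rfl⟩ := Ext.covariant_sequence_exact₃ _ hS x₃ rfl (Subsingleton.elim _ _)
    obtain ⟨n, rfl⟩ : ∃ n, q = n + 1 := ⟨q - 1, by omega⟩
    rw [Ext.eq_zero_of_injective x₂, Ext.zero_comp]
  rw [key a, key b]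

theorem exists_lift (S : ShortComplex A) (hS : S.ShortExact) (h1 : Fl T S.X₁) (k : κ)
    (ψ : T k ⟶ S.X₃) : ∃ φ : T k ⟶ S.X₂, φ ≫ S.g = ψ := by
  haveI := h1 k 1 (by omega)
  obtain ⟨x₂, hx₂⟩ := Ext.covariant_sequence_exact₃ _ hS (Ext.mk₀ ψ : Ext.{w} (T k) S.X₃ 0) rfl
    (Subsingleton.elim _ _)
  obtain ⟨φ, rfl⟩ := (Ext.mk₀_bijective _ _).2 x₂
  rw [Ext.mk₀_comp_mk₀] at hx₂
  exact ⟨φ, (Ext.mk₀_bijective _ _).1 hx₂⟩

end Flasque

variable (Φ : A ⥤ B) [Φ.Additive] [PreservesFiniteLimits Φ]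
variable {κ : Type*} (T : κ → A) {ι : Type*} (P : ι → B) (σ : ι → κ)
variable (e : ∀ (i : ι) (G : A), (P i ⟶ Φ.obj G) ≃ (T (σ i) ⟶ G))
variable (he : ∀ (i : ι) {G G' : A} (φ : P i ⟶ Φ.obj G) (g : G ⟶ G'),
  e i G' (φ ≫ Φ.map g) = e i G φ ≫ g)
variable (hinj : ∀ I : A, Injective I → Injective (Φ.obj I))
variable (hepi : ∀ {G G' : B} (g : G ⟶ G'), (∀ (i : ι) (ψ : P i ⟶ G'), ∃ φ : P i ⟶ G, φ ≫ g = ψ) → Epi g)

/-- the short exact sequence `0 → F → I → Q → 0` with `I` injective -/
noncomputable def ses (F : A) : ShortComplex A :=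
  ShortComplex.mk (Injective.ι F) (cokernel.π (Injective.ι F)) (cokernel.condition _)

theorem ses_shortExact (F : A) : (ses F).ShortExact :=
  { exact := ShortComplex.exact_cokernel _
    mono_f := inferInstanceAs (Mono (Injective.ι F))
    epi_g := inferInstanceAs (Epi (cokernel.π (Injective.ι F))) }

instance (F : A) : Injective (ses F).X₂ := inferInstanceAs (Injective (Injective.under F))

include he hepi in
theorem map_ses_shortExact (F : A) (hF : Fl T F) : ((ses F).map Φ).ShortExact := by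
  have hS := ses_shortExact F
  have hmono : Mono (Φ.map (ses F).f) := by
    haveI := hS.mono_f
    infer_instance
  have hepi' : Epi (Φ.map (ses F).g) := by
    apply hepi
    intro i ψ
    obtain ⟨φ', hφ'⟩ := exists_lift (ses F) hS hF (σ i) (e i _ ψ)
    refine ⟨(e i _).symm φ', ?_⟩
    apply (e i _).injective
    rw [he, Equiv.apply_symm_apply, hφ']
  exact { exact := hS.exact.map_of_mono_of_preservesKernel Φ hS.mono_f inferInstance
          mono_f := hmono
          epi_g := hepi' }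

include he hinj hepi in
theorem subsingleton_ext_map (q : ℕ) (hq : 0 < q) (F : A) (hF : Fl T F) (i : ι) :
    Subsingleton (Ext.{w'} (P i) (Φ.obj F) q) := by
  obtain ⟨n, rfl⟩ : ∃ n, q = n + 1 := ⟨q - 1, by omega⟩
  clear hq
  induction n generalizing F with
  | zero =>
    have hS := ses_shortExact F
    have hS' := map_ses_shortExact Φ T P σ e he hepi F hF
    haveI : Injective ((ses F).map Φ).X₂ := hinj _ (inferInstanceAs (Injective (ses F).X₂))
    refine ⟨fun a b => ?_⟩
    have key : ∀ x₁ : Ext.{w'} (P i) ((ses F).map Φ).X₁ (0 + 1), x₁ = 0 := by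
      intro x₁
      obtain ⟨x₃, rfl⟩ := Ext.covariant_sequence_exact₁ _ hS' x₁
        (Ext.eq_zero_of_injective _) (rfl : 0 + 1 = 0 + 1)
      obtain ⟨ψ, rfl⟩ := (Ext.mk₀_bijective _ _).2 x₃
      obtain ⟨φ', hφ'⟩ := exists_lift (ses F) hS hF (σ i) (e i _ ψ)
      let φ : P i ⟶ ((ses F).map Φ).X₂ := (e i _).symm φ'
      have hψ : ψ = φ ≫ ((ses F).map Φ).g := by
        apply (e i _).injective
        change _ = e i _ ((e i _).symm φ' ≫ Φ.map (ses F).g)
        rw [he, Equiv.apply_symm_apply, hφ']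
      rw [hψ, ← Ext.mk₀_comp_mk₀, Ext.comp_assoc_of_second_deg_zero]
      rw [hS'.comp_extClass, Ext.comp_zero]
    exact (key a).trans (key b).symm
  | succ n ih =>
    have hS := ses_shortExact F
    have hS' := map_ses_shortExact Φ T P σ e he hepi F hF
    haveI : Injective ((ses F).map Φ).X₂ := hinj _ (inferInstanceAs (Injective (ses F).X₂))
    have hQ : Fl T (ses F).X₃ := fl_X₃ (ses F) hS hF
    haveI : Subsingleton (Ext.{w'} (P i) ((ses F).map Φ).X₃ (n + 1)) := ih (ses F).X₃ hQ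
    refine ⟨fun a b => ?_⟩
    have key : ∀ x₁ : Ext.{w'} (P i) ((ses F).map Φ).X₁ (n + 1 + 1), x₁ = 0 := by
      intro x₁
      obtain ⟨x₃, rfl⟩ := Ext.covariant_sequence_exact₁ _ hS' x₁
        (Ext.eq_zero_of_injective _) (rfl : n + 1 + 1 = n + 1 + 1)
      rw [Subsingleton.elim x₃ 0, Ext.zero_comp]
    exact (key a).trans (key b).symm

end Groth.Agent.Lib.Helper23DimShiftVan
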