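import Mathlib
import Groth.Agent.Lib.Helper23IRes
import Groth.Agent.Lib.Helper23Bridge

/-!
# Resolutions by `A`-injective objects of a thick subcategory `ι : A' ⥤ A` (helper23)

* `quasiIsoAt_of_kernel`: quasi-iso criterion.
* `exists_nat`, `exists_int`: a bounded-below complex `K` of `A` with cohomology in the essential
  image of `ι` admits a quasi-iso `K ⟶ ι L` with `L` a bounded-below complex in `A'` whose terms
  are `A`-injective.
-/

set_option autoImplicit false
universe w w' v v' u u'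
open CategoryTheory CategoryTheory.Limits ZeroObject
open Groth.Agent.Lib.Helper23IRes

namespace Groth.Agent.Lib.Helper23EssSurj

section generic

variable {A : Type u} [Category.{v} A] [Abelian A] {ι₀ : Type*} {c : ComplexShape ι₀}

theorem exact_homologyι_opcyclesToCycles (K : HomologicalComplex A c) (i j : ι₀) (hij : c.Rel i j) :
    (ShortComplex.mk (K.homologyι i) (K.opcyclesToCycles i j) (by simp)).Exact := by
  let S := ShortComplex.mk (K.homologyι i) (K.opcyclesToCycles i j) (by simp)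
  let S' := ShortComplex.mk (K.homologyι i) (K.fromOpcycles i j) (by simp)
  let φ : S ⟶ S' :=
    { τ₁ := 𝟙 _
      τ₂ := 𝟙 _
      τ₃ := K.iCycles j }
  show S.Exact
  rw [ShortComplex.exact_iff_of_epi_of_isIso_of_mono φ]
  exact S'.exact_of_f_is_kernel (K.homologyIsKernel i j (c.next_eq' hij))

theorem exact_opcyclesToCycles_homologyπ (K : HomologicalComplex A c) (i j : ι₀) (hij : c.Rel i j) :
    (ShortComplex.mk (K.opcyclesToCycles i j) (K.homologyπ j) (by simp)).Exact := by
  let T := ShortComplex.mk (K.opcyclesToCycles i j) (K.homologyπ j) (by simp)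
  let T' := ShortComplex.mk (K.toCycles i j) (K.homologyπ j) (by simp)
  let π : T' ⟶ T :=
    { τ₁ := K.pOpcycles i
      τ₂ := 𝟙 _
      τ₃ := 𝟙 _ }
  show T.Exact
  rw [← ShortComplex.exact_iff_of_epi_of_isIso_of_mono π]
  exact T'.exact_of_g_is_cokernel (K.homologyIsCokernel i j (c.prev_eq' hij))

theorem quasiIsoAt_of_kernel {K M : HomologicalComplex A c} (φ : K ⟶ M) (i n n' : ι₀)
    (hi : c.prev n = i) (hn : c.next n = n') {C : A} (p : M.X n ⟶ C) (w : M.d i n ≫ p = 0)
    (hp : IsColimit (CokernelCofork.ofπ p w))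
    (γ : K.opcycles n ⟶ C) (hγ : K.pOpcycles n ≫ γ = φ.f n ≫ p)
    (mγ : Mono (K.homologyι n ≫ γ))
    (δ : C ⟶ M.X n') (hd : p ≫ δ = M.d n n')
    (hex : ∀ ⦃T : A⦄ (x : T ⟶ C), x ≫ δ = 0 → ∃ (T' : A) (π : T' ⟶ T) (_ : Epi π)
      (y : T' ⟶ K.homology n), π ≫ x = y ≫ K.homologyι n ≫ γ) : QuasiIsoAt φ n := by
  let e := opcyclesIsoOfIsColimit M i n hi p w hp
  have he : M.pOpcycles n ≫ e.hom = p := p_opcyclesIsoOfIsColimit M i n hi p w hp
  have F1 : e.hom ≫ δ = M.fromOpcycles n n' := by
    rw [← cancel_epi (M.pOpcycles n), reassoc_of% he, hd, M.p_fromOpcycles]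
  have F2 : HomologicalComplex.opcyclesMap φ n ≫ e.hom = γ := by
    rw [← cancel_epi (K.pOpcycles n), HomologicalComplex.p_opcyclesMap_assoc, he, hγ]
  have F3 : HomologicalComplex.homologyMap φ n ≫ M.homologyι n ≫ e.hom =
      K.homologyι n ≫ γ := by
    rw [HomologicalComplex.homologyι_naturality_assoc, F2]
  rw [quasiIsoAt_iff_isIso_homologyMap]
  have hmono : Mono (HomologicalComplex.homologyMap φ n) := mono_of_mono_fac F3
  have hepi : Epi (HomologicalComplex.homologyMap φ n) := by
    rw [epi_iff_surjective_up_to_refinements]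
    intro T z
    have hc : (z ≫ M.homologyι n ≫ e.hom) ≫ δ = 0 := by
      simp only [Category.assoc]
      rw [F1, M.homologyι_comp_fromOpcycles, comp_zero]
    obtain ⟨T', π, hπ, y, hy⟩ := hex _ hc
    refine ⟨T', π, hπ, y, ?_⟩
    have : Mono (M.homologyι n ≫ e.hom) := mono_comp _ _
    rw [← cancel_mono (M.homologyι n ≫ e.hom), Category.assoc, Category.assoc, F3]
    simpa only [Category.assoc] using hy
  exact isIso_of_mono_of_epi _

end generic

section construction

variable {A' : Type u'} [Category.{v'} A'] [Abelian A']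
    {A : Type u} [Category.{v} A] [Abelian A]
    (ι : A' ⥤ A) [ι.Additive] [PreservesFiniteLimits ι] [PreservesFiniteColimits ι] [ι.Full]
    [ι.Faithful]
    (hext : ∀ S : ShortComplex A, S.ShortExact → ι.essImage S.X₁ → ι.essImage S.X₃ → ι.essImage S.X₂)
    (hinj : ∀ X' : A', ∃ (Y' : A') (i : X' ⟶ Y'), Mono i ∧ Injective (ι.obj Y'))
    (K : CochainComplex A ℕ) (hK : ∀ n, ι.essImage (K.homology n))

/-- chosen embedding -/
noncomputable def Emb (X' : A') : A' := (hinj X').choose

/-- chosen embedding -/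
noncomputable def iEmb (X' : A') : X' ⟶ Emb ι hinj X' := (hinj X').choose_spec.choose

instance (X' : A') : Mono (iEmb ι hinj X') := (hinj X').choose_spec.choose_spec.1

theorem injective_Emb (X' : A') : Injective (ι.obj (Emb ι hinj X')) :=
  (hinj X').choose_spec.choose_spec.2

omit [PreservesFiniteLimits ι] [PreservesFiniteColimits ι] [ι.Full] [ι.Faithful] in
theorem aux1 {X Y : A'} (f g : X ⟶ Y) (h : f = g) : ι.map f ≫ ι.map (cokernel.π g) = 0 := by
  subst h
  rw [← ι.map_comp, cokernel.condition, ι.map_zero]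

omit [Abelian A'] [Abelian A] [ι.Additive] [PreservesFiniteLimits ι] [PreservesFiniteColimits ι]
  [ι.Full] [ι.Faithful] in
theorem aux3 {Y C Z : A'} (p : Y ⟶ C) (δ : C ⟶ Z) (dd : Y ⟶ Z) (h : dd = p ≫ δ) :
    ι.map p ≫ ι.map δ = ι.map dd := by
  subst h
  rw [ι.map_comp]

/-- the data at stage `n`. -/
structure Stage (n : ℕ) where
  X : A'
  C : A'
  f : K.X n ⟶ ι.obj X
  p : X ⟶ C
  γ : K.opcycles n ⟶ ι.obj C
  comm : K.pOpcycles n ≫ γ = f ≫ ι.map p
  hX : Injective (ι.obj X)
  mono_γ : Mono (K.homologyι n ≫ γ)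
  epi_p : Epi p

namespace Stage

variable {ι K} {n : ℕ} (s : Stage ι K n)

/-- the object of `A'` representing the homology. -/
noncomputable def Hob : A' := (hK n).witness

/-- the iso -/
noncomputable def eH : ι.obj (Hob (ι := ι) (K := K) hK (n := n)) ≅ K.homology n := (hK n).getIso

/-- the inclusion of the homology in `C`. -/
noncomputable def h : Hob (ι := ι) (K := K) hK (n := n) ⟶ s.C :=
  ι.preimage ((eH hK).hom ≫ K.homologyι n ≫ s.γ)

theorem map_h : ι.map (s.h hK) = (eH hK).hom ≫ K.homologyι n ≫ s.γ := ι.map_preimage _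

instance : Mono (s.h hK) := by
  have := s.mono_γ
  have : Mono (ι.map (s.h hK)) := by rw [map_h]; infer_instance
  exact ι.mono_of_mono_map this

/-- `C / H` -/
noncomputable abbrev B : A' := cokernel (s.h hK)
noncomputable abbrev πB : s.C ⟶ s.B hK := cokernel.π (s.h hK)

/-- the map `K.opcycles n ⟶ ι B`. -/
noncomputable def β : K.opcycles n ⟶ ι.obj (s.B hK) := s.γ ≫ ι.map (s.πB hK)

theorem homologyι_β : K.homologyι n ≫ s.β hK = 0 := by
  have h1 : K.homologyι n ≫ s.γ = (eH hK).inv ≫ ι.map (s.h hK) := by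
    rw [map_h, Iso.inv_hom_id_assoc]
  dsimp only [β]
  rw [reassoc_of% h1, ← ι.map_comp, cokernel.condition, ι.map_zero, comp_zero]

/-- the pushout -/
noncomputable abbrev E : A := pushout (s.β hK) (K.opcyclesToCycles n (n + 1))
noncomputable abbrev inl : ι.obj (s.B hK) ⟶ s.E hK := pushout.inl _ _
noncomputable abbrev inr : K.cycles (n + 1) ⟶ s.E hK := pushout.inr _ _

theorem isPushout : IsPushout (s.β hK) (K.opcyclesToCycles n (n + 1)) (s.inl hK) (s.inr hK) :=
  IsPushout.of_hasPushout _ _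

instance mono_inl : Mono (s.inl hK) := by
  apply Preadditive.mono_of_cancel_zero
  intro T b hb
  have hcw : b ≫ s.inl hK = (0 : T ⟶ K.cycles (n + 1)) ≫ s.inr hK := by rw [hb, zero_comp]
  obtain ⟨T', π, _, u, hu1, hu2⟩ := IsPushout.exists_lift_up_to_refinements (s.isPushout hK) b 0 hcw
  rw [comp_zero] at hu2
  obtain ⟨T'', π', _, w, hw⟩ :=
    (exact_homologyι_opcyclesToCycles K n (n + 1) rfl).exact_up_to_refinements u hu2
  dsimp at w hw
  rw [← cancel_epi π, ← cancel_epi π', comp_zero, comp_zero, ← hu1, reassoc_of% hw,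
    homologyι_β, comp_zero]

/-- the map to the next homology -/
noncomputable def ρ : s.E hK ⟶ K.homology (n + 1) :=
  pushout.desc 0 (K.homologyπ (n + 1)) (by simp)

theorem inl_ρ : s.inl hK ≫ s.ρ hK = 0 := pushout.inl_desc _ _ _
theorem inr_ρ : s.inr hK ≫ s.ρ hK = K.homologyπ (n + 1) := pushout.inr_desc _ _ _

instance : Epi (s.ρ hK) := epi_of_epi_fac (s.inr_ρ hK)

theorem shortExact : (ShortComplex.mk (s.inl hK) (s.ρ hK) (s.inl_ρ hK)).ShortExact where
  exact := by
    rw [ShortComplex.exact_iff_exact_up_to_refinements]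
    intro T x hx
    dsimp at x hx ⊢
    obtain ⟨T₁, π₁, _, b, z, hbz⟩ := (s.isPushout hK).hom_eq_add_up_to_refinements x
    have hz : z ≫ K.homologyπ (n + 1) = 0 := by
      have := hbz =≫ s.ρ hK
      rw [Category.assoc, hx, comp_zero, Preadditive.add_comp, Category.assoc, Category.assoc,
        inl_ρ, inr_ρ, comp_zero, zero_add] at this
      exact this.symm
    obtain ⟨T₂, π₂, _, u, hu⟩ :=
      (exact_opcyclesToCycles_homologyπ K n (n + 1) rfl).exact_up_to_refinements z hz
    dsimp at u hu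
    refine ⟨T₂, π₂ ≫ π₁, inferInstance, π₂ ≫ b + u ≫ s.β hK, ?_⟩
    rw [Category.assoc, hbz, Preadditive.comp_add, Preadditive.add_comp, Category.assoc,
      Category.assoc, (s.isPushout hK).w, ← reassoc_of% hu]
  mono_f := inferInstanceAs (Mono (s.inl hK))
  epi_g := inferInstanceAs (Epi (s.ρ hK))


/-- the object of `A'` representing `E`. -/
noncomputable def E' : A' :=
  (hext _ (s.shortExact hK) (ι.obj_mem_essImage _) (hK (n + 1))).witness

/-- the iso -/
noncomputable def eE : ι.obj (s.E' hext hK) ≅ s.E hK :=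
  (hext _ (s.shortExact hK) (ι.obj_mem_essImage _) (hK (n + 1))).getIso

/-- the next object -/
noncomputable abbrev Y : A' := Emb ι hinj (s.E' hext hK)

/-- the embedding -/
noncomputable abbrev m : s.E' hext hK ⟶ s.Y hext hinj hK := iEmb ι hinj (s.E' hext hK)

/-- `B ⟶ E'` -/
noncomputable def jB : s.B hK ⟶ s.E' hext hK := ι.preimage (s.inl hK ≫ (s.eE hext hK).inv)

theorem map_jB : ι.map (s.jB hext hK) = s.inl hK ≫ (s.eE hext hK).inv := ι.map_preimage _

instance : Mono (s.jB hext hK) := by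
  have : Mono (ι.map (s.jB hext hK)) := by rw [map_jB]; infer_instance
  exact ι.mono_of_mono_map this

/-- the part of the differential out of `C`. -/
noncomputable def δ : s.C ⟶ s.Y hext hinj hK := s.πB hK ≫ s.jB hext hK ≫ s.m hext hinj hK

/-- the differential -/
noncomputable def d : s.X ⟶ s.Y hext hinj hK := s.p ≫ s.δ hext hinj hK

/-- `E ⟶ ι Y` -/
noncomputable def θ : s.E hK ⟶ ι.obj (s.Y hext hinj hK) :=
  (s.eE hext hK).inv ≫ ι.map (s.m hext hinj hK)

instance : Mono (s.θ hext hinj hK) := by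
  have : Mono (ι.map (s.m hext hinj hK)) := inferInstance
  dsimp only [θ]
  infer_instance

theorem inl_θ : s.inl hK ≫ s.θ hext hinj hK = ι.map (s.jB hext hK ≫ s.m hext hinj hK) := by
  dsimp only [θ]
  rw [ι.map_comp, map_jB, Category.assoc]

/-- the next map -/
noncomputable def f' : K.X (n + 1) ⟶ ι.obj (s.Y hext hinj hK) :=
  haveI := injective_Emb ι hinj (s.E' hext hK)
  Injective.factorThru (s.inr hK ≫ s.θ hext hinj hK) (K.iCycles (n + 1))

theorem iCycles_f' : K.iCycles (n + 1) ≫ s.f' hext hinj hK = s.inr hK ≫ s.θ hext hinj hK := by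
  haveI := injective_Emb ι hinj (s.E' hext hK)
  exact Injective.comp_factorThru _ _

theorem comm_d : K.d n (n + 1) ≫ s.f' hext hinj hK = s.f ≫ ι.map (s.d hext hinj hK) := by
  have h1 : K.d n (n + 1) = K.pOpcycles n ≫ K.opcyclesToCycles n (n + 1) ≫ K.iCycles (n + 1) := by
    simp
  have h2 : s.β hK ≫ s.inl hK = K.opcyclesToCycles n (n + 1) ≫ s.inr hK := pushout.condition
  rw [h1, Category.assoc, Category.assoc, iCycles_f', ← reassoc_of% h2, inl_θ]
  dsimp only [β, d, δ]
  rw [Category.assoc, reassoc_of% s.comm, ← ι.map_comp, ← ι.map_comp]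

theorem w' : K.d n (n + 1) ≫ s.f' hext hinj hK ≫ ι.map (cokernel.π (s.d hext hinj hK)) = 0 := by
  rw [reassoc_of% (s.comm_d hext hinj hK), ← ι.map_comp, cokernel.condition, ι.map_zero, comp_zero]

/-- the next `γ` -/
noncomputable def γ' : K.opcycles (n + 1) ⟶ ι.obj (cokernel (s.d hext hinj hK)) :=
  K.descOpcycles (s.f' hext hinj hK ≫ ι.map (cokernel.π (s.d hext hinj hK))) n (by simp)
    (s.w' hext hinj hK)

theorem comm' : K.pOpcycles (n + 1) ≫ s.γ' hext hinj hK =
    s.f' hext hinj hK ≫ ι.map (cokernel.π (s.d hext hinj hK)) := by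
  simp [γ']

theorem mono_γ' : Mono (K.homologyι (n + 1) ≫ s.γ' hext hinj hK) := by
  apply Preadditive.mono_of_cancel_zero
  intro T x hx
  obtain ⟨T₁, π₁, _, z, hz⟩ := surjective_up_to_refinements_of_epi (K.homologyπ (n + 1)) x
  have h1 : (z ≫ s.inr hK ≫ s.θ hext hinj hK) ≫ ι.map (cokernel.π (s.d hext hinj hK)) = 0 := by
    rw [Category.assoc, ← iCycles_f', Category.assoc, ← s.comm' hext hinj hK,
      ← K.homology_π_ι_assoc, ← reassoc_of% hz, hx, comp_zero]
  have hex : ((ShortComplex.mk (s.d hext hinj hK) (cokernel.π (s.d hext hinj hK))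
      (cokernel.condition _)).map ι).Exact :=
    (ShortComplex.exact_of_g_is_cokernel _ (cokernelIsCokernel _)).map ι
  obtain ⟨T₂, π₂, _, y, hy⟩ : ∃ (T₂ : A) (π₂ : T₂ ⟶ T₁) (_ : Epi π₂) (y : T₂ ⟶ ι.obj s.X),
      π₂ ≫ z ≫ s.inr hK ≫ s.θ hext hinj hK = y ≫ ι.map (s.d hext hinj hK) :=
    hex.exact_up_to_refinements _ h1
  have h2 : π₂ ≫ z ≫ s.inr hK = y ≫ ι.map s.p ≫ ι.map (s.πB hK) ≫ s.inl hK := by
    rw [← cancel_mono (s.θ hext hinj hK)]
    simp only [Category.assoc]
    rw [inl_θ, hy]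
    dsimp only [d, δ]
    rw [← ι.map_comp, ← ι.map_comp]
  have h3 : π₂ ≫ z ≫ K.homologyπ (n + 1) = 0 := by
    rw [← s.inr_ρ hK, reassoc_of% h2, inl_ρ, comp_zero, comp_zero, comp_zero]
  rw [← cancel_epi π₁, ← cancel_epi π₂, comp_zero, comp_zero, hz, h3]

/-- the next stage -/
noncomputable abbrev next : Stage ι K (n + 1) where
  X := s.Y hext hinj hK
  C := cokernel (s.d hext hinj hK)
  f := s.f' hext hinj hK
  p := cokernel.π (s.d hext hinj hK)
  γ := s.γ' hext hinj hK
  comm := s.comm' hext hinj hK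
  hX := injective_Emb ι hinj _
  mono_γ := s.mono_γ' hext hinj hK
  epi_p := inferInstance

theorem d_comp_d : s.d hext hinj hK ≫ (s.next hext hinj hK).d hext hinj hK = 0 := by
  have h : (s.next hext hinj hK).d hext hinj hK =
      cokernel.π (s.d hext hinj hK) ≫ (s.next hext hinj hK).δ hext hinj hK := rfl
  rw [h, ← Category.assoc, cokernel.condition, zero_comp]

/-- the key exactness -/
theorem hex ⦃T : A⦄ (x : T ⟶ ι.obj s.C) (hx : x ≫ ι.map (s.δ hext hinj hK) = 0) :
    ∃ (T' : A) (π : T' ⟶ T) (_ : Epi π) (y : T' ⟶ K.homology n),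
      π ≫ x = y ≫ K.homologyι n ≫ s.γ := by
  have h0 : x ≫ ι.map (s.πB hK) = 0 := by
    have : Mono (ι.map (s.jB hext hK ≫ s.m hext hinj hK)) := inferInstance
    rw [← cancel_mono (ι.map (s.jB hext hK ≫ s.m hext hinj hK)), zero_comp, Category.assoc,
      ← ι.map_comp]
    exact hx
  have hex : ((ShortComplex.mk (s.h hK) (s.πB hK) (cokernel.condition _)).map ι).Exact :=
    (ShortComplex.exact_of_g_is_cokernel _ (cokernelIsCokernel _)).map ι
  obtain ⟨T₂, π₂, _, y, hy⟩ : ∃ (T₂ : A) (π₂ : T₂ ⟶ T) (_ : Epi π₂) (y : T₂ ⟶ ι.obj (Hob hK)),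
      π₂ ≫ x = y ≫ ι.map (s.h hK) := hex.exact_up_to_refinements x h0
  refine ⟨T₂, π₂, inferInstance, y ≫ (eH hK).hom, ?_⟩
  rw [hy, map_h, Category.assoc]

end Stage

variable (hz : IsZero (K.X 0))

/-- the initial stage -/
noncomputable def stage0 : Stage ι K 0 where
  X := 0
  C := 0
  f := 0
  p := 0
  γ := 0
  comm := by simp
  hX := by
    have : IsZero (ι.obj (0 : A')) := ι.map_isZero (isZero_zero _)
    exact ⟨fun _ _ _ => ⟨0, this.eq_of_tgt _ _⟩⟩
  mono_γ := by
    have : IsZero (K.homology 0) :=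
      (K.exactAt_iff_isZero_homology 0).1 (ShortComplex.exact_of_isZero_X₂ _ hz)
    exact ⟨fun _ _ _ => this.eq_of_tgt _ _⟩
  epi_p := ⟨fun _ _ _ => (isZero_zero _).eq_of_src _ _⟩

/-- all stages -/
noncomputable def stage : (n : ℕ) → Stage ι K n
  | 0 => stage0 ι K hz
  | n + 1 => (stage n).next hext hinj hK

/-- the resolution -/
noncomputable def L : CochainComplex A' ℕ :=
  CochainComplex.of (fun n => (stage ι hext hinj K hK hz n).X)
    (fun n => (stage ι hext hinj K hK hz n).d hext hinj hK)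
    (fun n => (stage ι hext hinj K hK hz n).d_comp_d hext hinj hK)

theorem L_d (n : ℕ) : (L ι hext hinj K hK hz).d n (n + 1) =
    (stage ι hext hinj K hK hz n).d hext hinj hK :=
  CochainComplex.of_d (fun n => (stage ι hext hinj K hK hz n).X)
    (fun n => (stage ι hext hinj K hK hz n).d hext hinj hK) n

/-- the map `K ⟶ ι L` -/
noncomputable def α : K ⟶ (ι.mapHomologicalComplex _).obj (L ι hext hinj K hK hz) where
  f n := (stage ι hext hinj K hK hz n).f
  comm' i j hij := by
    obtain rfl : i + 1 = j := hij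
    have := ((stage ι hext hinj K hK hz i).comm_d hext hinj hK).symm
    rw [← L_d] at this
    exact this

theorem L_inj (n : ℕ) : Injective (ι.obj ((L ι hext hinj K hK hz).X n)) :=
  (stage ι hext hinj K hK hz n).hX

theorem L_zero : IsZero ((L ι hext hinj K hK hz).X 0) := isZero_zero _

theorem quasiIso_α : QuasiIso (α ι hext hinj K hK hz) := by
  refine ⟨fun n => ?_⟩
  cases n with
  | zero =>
    rw [quasiIsoAt_iff_isIso_homologyMap]
    have h1 : IsZero (K.homology 0) :=
      (K.exactAt_iff_isZero_homology 0).1 (ShortComplex.exact_of_isZero_X₂ _ hz)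
    have h2 : IsZero (((ι.mapHomologicalComplex _).obj (L ι hext hinj K hK hz)).homology 0) := by
      refine (HomologicalComplex.exactAt_iff_isZero_homology _ 0).1
        (ShortComplex.exact_of_isZero_X₂ _ ?_)
      exact ι.map_isZero (L_zero ι hext hinj K hK hz)
    exact ⟨0, h1.eq_of_src _ _, h2.eq_of_src _ _⟩
  | succ k =>
    have hcol : IsColimit (CokernelCofork.ofπ
        (ι.map (cokernel.π ((stage ι hext hinj K hK hz k).d hext hinj hK)))
        (show ι.map ((stage ι hext hinj K hK hz k).d hext hinj hK) ≫ _ = 0 by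
          rw [← ι.map_comp, cokernel.condition, ι.map_zero])) :=
      CokernelCofork.mapIsColimit _ (cokernelIsCokernel _) ι
    refine quasiIsoAt_of_kernel (α ι hext hinj K hK hz) k (k + 1) (k + 1 + 1) (by simp) (by simp)
      (ι.map (cokernel.π ((stage ι hext hinj K hK hz k).d hext hinj hK))) ?_
      (isColimitOfEq ?_ _ hcol)
      (stage ι hext hinj K hK hz (k + 1)).γ (stage ι hext hinj K hK hz (k + 1)).comm
      (stage ι hext hinj K hK hz (k + 1)).mono_γ
      (ι.map ((stage ι hext hinj K hK hz (k + 1)).δ hext hinj hK)) ?_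
      ((stage ι hext hinj K hK hz (k + 1)).hex hext hinj hK)
    · exact aux1 ι _ _ (L_d ι hext hinj K hK hz k)
    · exact congrArg ι.map (L_d ι hext hinj K hK hz k)
    · exact aux3 ι _ _ _ ((L_d ι hext hinj K hK hz (k + 1)).trans rfl)


include hext hinj hK hz in
theorem exists_nat : ∃ (L : CochainComplex A' ℕ)
    (α : K ⟶ (ι.mapHomologicalComplex _).obj L), (∀ n, Injective (ι.obj (L.X n))) ∧
      IsZero (L.X 0) ∧ QuasiIso α :=
  ⟨L ι hext hinj K hK hz, α ι hext hinj K hK hz, L_inj ι hext hinj K hK hz,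
    L_zero ι hext hinj K hK hz, quasiIso_α ι hext hinj K hK hz⟩

end construction

section int

variable {A' : Type u'} [Category.{v'} A'] [Abelian A']
    {A : Type u} [Category.{v} A] [Abelian A]
    (ι : A' ⥤ A) [ι.Additive] [PreservesFiniteLimits ι] [PreservesFiniteColimits ι] [ι.Full]
    [ι.Faithful]
    (hext : ∀ S : ShortComplex A, S.ShortExact → ι.essImage S.X₁ → ι.essImage S.X₃ → ι.essImage S.X₂)
    (hinj : ∀ X' : A', ∃ (Y' : A') (i : X' ⟶ Y'), Mono i ∧ Injective (ι.obj Y'))

include hext hinj in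
theorem exists_int (K : CochainComplex A ℤ) (a : ℤ) [K.IsStrictlyGE a]
    (hK : ∀ n, ι.essImage (K.homology n)) :
    ∃ (L : CochainComplex A' ℤ) (α : K ⟶ (ι.mapHomologicalComplex _).obj L),
      L.IsStrictlyGE a ∧ (∀ n, Injective (ι.obj (L.X n))) ∧ QuasiIso α := by
  let e := ComplexShape.embeddingUpIntGE (a - 1)
  have hlift : ∀ {M : CochainComplex A ℕ} (φ : K.restriction e ⟶ M), e.HasLift φ := by
    intro M φ j hj i' hi'
    rw [ComplexShape.boundaryGE_embeddingUpIntGE_iff] at hj
    subst hj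
    have : i' < a := by
      have : i' + 1 = a - 1 + (0 : ℕ) := hi'
      lia
    exact (K.isZero_of_isStrictlyGE a i' this).eq_of_src _ _
  have hcase : ∀ n : ℤ, (∃ i : ℕ, e.f i = n) ∨ n < a - 1 := by
    intro n
    by_cases h : a - 1 ≤ n
    · exact Or.inl ⟨(n - (a - 1)).toNat, by simp [e]; lia⟩
    · exact Or.inr (by lia)
  have hzero : ∀ (M : CochainComplex A ℕ) (n : ℤ),
      n < a - 1 → IsZero ((M.extend e).X n) := by
    intro M n hn
    apply M.isZero_extend_X e
    intro i hi
    simp [e] at hi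
    lia
  have hzero' : ∀ (M : CochainComplex A' ℕ) (n : ℤ),
      n < a - 1 → IsZero ((M.extend e).X n) := by
    intro M n hn
    apply M.isZero_extend_X e
    intro i hi
    simp [e] at hi
    lia
  let ι₀ : K ⟶ (K.restriction e).extend e := e.liftExtend (𝟙 _) (hlift _)
  have hι₀ : IsIso ι₀ := by
    suffices ∀ n, IsIso (ι₀.f n) from HomologicalComplex.Hom.isIso_of_components _
    intro n
    obtain ⟨i, hi⟩ | hn := hcase n
    · rw [e.isIso_liftExtend_f_iff _ _ hi]
      dsimp
      infer_instance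
    · exact ⟨0, (K.isZero_of_isStrictlyGE a n (by lia)).eq_of_src _ _,
        (hzero _ n hn).eq_of_src _ _⟩
  have hK' : ∀ n, ι.essImage ((K.restriction e).homology n) := by
    intro n
    have i1 : ((K.restriction e).extend e).homology (e.f n) ≅ (K.restriction e).homology n :=
      (K.restriction e).extendHomologyIso e rfl
    have i2 : K.homology (e.f n) ≅ ((K.restriction e).extend e).homology (e.f n) :=
      asIso (HomologicalComplex.homologyMap ι₀ (e.f n))
    exact Functor.essImage.ofIso (i2 ≪≫ i1) (hK _)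
  have hz : IsZero ((K.restriction e).X 0) :=
    K.isZero_of_isStrictlyGE a _ (by simp [e])
  obtain ⟨L', α', hL', hL'0, hq⟩ := exists_nat ι hext hinj (K.restriction e) hK' hz
  let α : K ⟶ (ι.mapHomologicalComplex _).obj (L'.extend e) :=
    ι₀ ≫ HomologicalComplex.extendMap α' e ≫
      (Groth.Agent.Lib.Helper23Bridge.extendMapIso ι L' e).inv
  refine ⟨L'.extend e, α, ?_, ?_, ?_⟩
  · rw [CochainComplex.isStrictlyGE_iff]
    intro i hi
    by_cases h : i < a - 1
    · exact hzero' _ i h
    · have : e.f 0 = i := by simp [e]; lia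
      exact hL'0.of_iso (L'.extendXIso e this)
  · intro n
    obtain ⟨i, hi⟩ | hn := hcase n
    · have := hL' i
      exact Injective.of_iso (ι.mapIso (L'.extendXIso e hi).symm) this
    · exact (ι.map_isZero (hzero' _ n hn)).injective
  · have : QuasiIso (HomologicalComplex.extendMap α' e) := by
      rw [HomologicalComplex.quasiIso_extendMap_iff]
      exact hq
    dsimp only [α]
    infer_instance

end int


end Groth.Agent.Lib.Helper23EssSurj
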