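import Mathlib

set_option autoImplicit false
set_option linter.style.haveILetI false
universe u
open AlgebraicGeometry CategoryTheory TopologicalSpace Opposite

namespace Groth.Agent.Lib.Helper4.SpreadFP

variable {X : Scheme.{u}} {A R : CommRingCat.{u}}

lemma mem_finset_inf_opens {α ι : Type*} [TopologicalSpace α] (f : ι → Opens α) (s : Finset ι)
    (x : α) : x ∈ s.inf f ↔ ∀ i ∈ s, x ∈ f i := by
  classical
  induction s using Finset.induction_on with
  | empty => simp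
  | insert a s ha ih => simp [ih]

/-- ring-level lifting lemma: a map from a finitely presented `R`-algebra into a stalk lifts
to sections over a neighbourhood (no germ-injectivity needed). -/
lemma exists_lift_of_finitePresentation {x : X} {U : X.Opens} (hxU : x ∈ U)
    (φ : A ⟶ X.presheaf.stalk x) (φRA : R ⟶ A) (φRX : R ⟶ Γ(X, U))
    (hφRA : RingHom.FinitePresentation φRA.hom)
    (e : φRA ≫ φ = φRX ≫ X.presheaf.germ U x hxU) :
    ∃ (V : X.Opens) (hxV : x ∈ V) (φ' : A ⟶ Γ(X, V)) (i : V ≤ U), IsAffineOpen V ∧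
      φ = φ' ≫ X.presheaf.germ V x hxV ∧ φRX ≫ X.presheaf.map i.hom.op = φRA ≫ φ' := by
  classical
  letI := φRA.hom.toAlgebra
  obtain ⟨n, π, hπ, s, hs⟩ := hφRA
  -- step 1: lift the images of the variables
  choose W hxW a ha using fun i : Fin n ↦ X.presheaf.exists_germ_eq (φ (π (MvPolynomial.X i)))
  let V₁ : X.Opens := Finset.univ.inf W ⊓ U
  have hxV₁ : x ∈ V₁ := ⟨(mem_finset_inf_opens _ _ _).2 fun i _ => hxW i, hxU⟩
  have hV₁W : ∀ i, V₁ ≤ W i := fun i => inf_le_left.trans (Finset.inf_le (Finset.mem_univ i))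
  have hV₁U : V₁ ≤ U := inf_le_right
  let ρ : R →+* Γ(X, V₁) := (φRX ≫ X.presheaf.map (homOfLE hV₁U).op).hom
  let Ψ : MvPolynomial (Fin n) R →+* Γ(X, V₁) :=
    MvPolynomial.eval₂Hom ρ (fun i => X.presheaf.map (homOfLE (hV₁W i)).op (a i))
  have hΨ : ∀ p, X.presheaf.germ V₁ x hxV₁ (Ψ p) = φ (π p) := by
    intro p
    have : (X.presheaf.germ V₁ x hxV₁).hom.comp Ψ = φ.hom.comp π.toRingHom := by
      apply MvPolynomial.ringHom_ext
      · intro r
        simp only [Ψ, ρ, RingHom.coe_comp, Function.comp_apply, MvPolynomial.eval₂Hom_C]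
        have h1 := congr($e r)
        simp only [CommRingCat.hom_comp, RingHom.coe_comp, Function.comp_apply] at h1 ⊢
        rw [TopCat.Presheaf.germ_res_apply, ← h1]
        congr 1
        exact (π.commutes r).symm
      · intro i
        simp only [Ψ, RingHom.coe_comp, Function.comp_apply, MvPolynomial.eval₂Hom_X']
        rw [TopCat.Presheaf.germ_res_apply, ha]
        rfl
    exact congr($this p)
  -- step 2: kill the relations
  have hrel : ∀ p : MvPolynomial (Fin n) R, ∃ (V' : X.Opens) (_ : x ∈ V') (h : V' ≤ V₁),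
      p ∈ RingHom.ker π.toRingHom → X.presheaf.map (homOfLE h).op (Ψ p) = 0 := by
    intro p
    by_cases hp : p ∈ RingHom.ker π.toRingHom
    · have h0 : X.presheaf.germ V₁ x hxV₁ (Ψ p) = X.presheaf.germ V₁ x hxV₁ 0 := by
        rw [hΨ, map_zero]
        have : π p = 0 := hp
        rw [this, map_zero]
      obtain ⟨V', hxV', i1, i2, h⟩ := X.presheaf.germ_eq x hxV₁ hxV₁ _ _ h0
      refine ⟨V', hxV', i1.le, fun _ => ?_⟩
      rw [map_zero] at h
      exact h
    · exact ⟨V₁, hxV₁, le_rfl, fun h => absurd h hp⟩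
  choose V' hxV' hV'le hV'0 using hrel
  let V₂ : X.Opens := s.inf V' ⊓ V₁
  have hxV₂ : x ∈ V₂ := ⟨(mem_finset_inf_opens _ _ _).2 fun p _ => hxV' p, hxV₁⟩
  have hV₂V₁ : V₂ ≤ V₁ := inf_le_right
  let Ψ₂ : MvPolynomial (Fin n) R →+* Γ(X, V₂) :=
    (X.presheaf.map (homOfLE hV₂V₁).op).hom.comp Ψ
  have hker : RingHom.ker π.toRingHom ≤ RingHom.ker Ψ₂ := by
    rw [← hs, Ideal.span_le]
    intro p hp
    have hpk : p ∈ RingHom.ker π.toRingHom := hs ▸ Ideal.subset_span hp
    have hle : V₂ ≤ V' p := inf_le_left.trans (Finset.inf_le hp)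
    show Ψ₂ p = 0
    have : X.presheaf.map (homOfLE hV₂V₁).op = X.presheaf.map (homOfLE (hV'le p)).op ≫
        X.presheaf.map (homOfLE hle).op := by
      rw [← Functor.map_comp]; rfl
    simp only [Ψ₂, RingHom.coe_comp, Function.comp_apply]
    rw [this, CommRingCat.comp_apply, hV'0 p hpk, map_zero]
  let φ₂ : A →+* Γ(X, V₂) := RingHom.liftOfSurjective π.toRingHom hπ ⟨Ψ₂, hker⟩
  have hφ₂ : ∀ p, φ₂ (π p) = Ψ₂ p := fun p =>
    RingHom.liftOfRightInverse_comp_apply _ _ _ ⟨Ψ₂, hker⟩ p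
  -- step 3: shrink to an affine open
  obtain ⟨_, ⟨V, hV, rfl⟩, hxV, hVV₂⟩ :=
    X.isBasis_affineOpens.exists_subset_of_mem_open hxV₂ V₂.isOpen
  have hVV₂' : V ≤ V₂ := hVV₂
  refine ⟨V, hxV, CommRingCat.ofHom φ₂ ≫ X.presheaf.map (homOfLE hVV₂').op,
    hVV₂'.trans (hV₂V₁.trans hV₁U), hV, ?_, ?_⟩
  · ext b
    obtain ⟨p, rfl⟩ := hπ b
    simp only [CommRingCat.hom_comp, CommRingCat.hom_ofHom, RingHom.coe_comp, Function.comp_apply]
    rw [hφ₂]
    simp only [Ψ₂, RingHom.coe_comp, Function.comp_apply]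
    rw [TopCat.Presheaf.germ_res_apply, TopCat.Presheaf.germ_res_apply, hΨ]
  · ext r
    simp only [CommRingCat.hom_comp, CommRingCat.hom_ofHom, RingHom.coe_comp, Function.comp_apply]
    have h1 : φRA.hom r = π (MvPolynomial.C r) := (π.commutes r).symm
    rw [h1, hφ₂]
    simp only [Ψ₂, Ψ, ρ, RingHom.coe_comp, Function.comp_apply, MvPolynomial.eval₂Hom_C,
      CommRingCat.hom_comp]
    change _ = (X.presheaf.map (homOfLE hV₁U).op ≫
      X.presheaf.map (homOfLE hV₂V₁).op ≫ X.presheaf.map (homOfLE hVV₂').op) (φRX.hom r)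
    rw [← Functor.map_comp, ← Functor.map_comp]
    rfl


variable {Y S : Scheme.{u}} (sX : X ⟶ S) (sY : Y ⟶ S)

set_option backward.isDefEq.respectTransparency.types false in
/-- Spreading out (Stacks 0BX6) for a locally finitely presented target, without any
germ-injectivity assumption on the source. -/
lemma spread_out_of_finitePresentation [LocallyOfFinitePresentation sY] {x : X} {y : Y}
    (e : sX x = sY y) (φ : Y.presheaf.stalk y ⟶ X.presheaf.stalk x)
    (h : sY.stalkMap y ≫ φ =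
      S.presheaf.stalkSpecializes (Inseparable.of_eq e).specializes ≫ sX.stalkMap x) :
    ∃ (U : X.Opens) (hxU : x ∈ U) (f : U.toScheme ⟶ Y),
      Spec.map φ ≫ Y.fromSpecStalk y = U.fromSpecStalkOfMem x hxU ≫ f ∧
      f ≫ sY = U.ι ≫ sX := by
  obtain ⟨_, ⟨U, hU, rfl⟩, hxU, -⟩ :=
    S.isBasis_affineOpens.exists_subset_of_mem_open (Set.mem_univ (sX x)) isOpen_univ
  have hyU : sY y ∈ U := e ▸ hxU
  obtain ⟨_, ⟨V : Y.Opens, hV, rfl⟩, hyV, iVU⟩ :=
    Y.isBasis_affineOpens.exists_subset_of_mem_open hyU (sY ⁻¹ᵁ U).2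
  have : sY.appLE U V iVU ≫ Y.presheaf.germ V y hyV ≫ φ =
      sX.app U ≫ X.presheaf.germ (sX ⁻¹ᵁ U) x hxU := by
    rw [Scheme.Hom.appLE, Category.assoc, Y.presheaf.germ_res_assoc,
      ← Scheme.Hom.germ_stalkMap_assoc, h]
    simp
  obtain ⟨W, hxW, φ', i, hW, h₁, h₂⟩ :=
    exists_lift_of_finitePresentation (R := Γ(S, U)) (A := Γ(Y, V)) (U := sX ⁻¹ᵁ U) (x := x) hxU
    (Y.presheaf.germ _ y hyV ≫ φ) (sY.appLE U V iVU) (sX.app U)
    (sY.finitePresentation_appLE hU hV _) this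
  refine ⟨W, hxW, W.toSpecΓ ≫ Spec.map φ' ≫ hV.fromSpec, ?_, ?_⟩
  · rw [W.fromSpecStalkOfMem_toSpecΓ_assoc x hxW, ← Spec.map_comp_assoc, ← h₁,
      Spec.map_comp, Category.assoc, ← IsAffineOpen.fromSpecStalk,
      IsAffineOpen.fromSpecStalk_eq_fromSpecStalk]
  · simp only [Category.assoc]
    rw [← IsAffineOpen.SpecMap_appLE_fromSpec sY hU hV iVU, ← Spec.map_comp_assoc, ← h₂,
      ← Scheme.Hom.appLE, ← hW.isoSpec_hom, IsAffineOpen.SpecMap_appLE_fromSpec sX hU hW i,
      ← Iso.eq_inv_comp, IsAffineOpen.isoSpec_inv_ι_assoc]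

set_option backward.isDefEq.respectTransparency.types false in
lemma spread_out_of_finitePresentation' [LocallyOfFinitePresentation sY] {x : X}
    (φ : Spec (X.presheaf.stalk x) ⟶ Y)
    (h : φ ≫ sY = X.fromSpecStalk x ≫ sX) :
    ∃ (U : X.Opens) (hxU : x ∈ U) (f : U.toScheme ⟶ Y),
      φ = U.fromSpecStalkOfMem x hxU ≫ f ∧ f ≫ sY = U.ι ≫ sX := by
  have := spread_out_of_finitePresentation sX sY ?_ (Scheme.stalkClosedPointTo φ) ?_
  · simpa only [Scheme.Spec_stalkClosedPointTo_fromSpecStalk] using this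
  · rw [← Scheme.Hom.comp_apply, h, Scheme.Hom.comp_apply, Scheme.fromSpecStalk_closedPoint]
  · apply Spec.map_injective
    rw [← cancel_mono (S.fromSpecStalk _)]
    simpa only [Spec.map_comp, Category.assoc, Scheme.SpecMap_stalkMap_fromSpecStalk,
      Scheme.Spec_stalkClosedPointTo_fromSpecStalk_assoc,
      Scheme.SpecMap_stalkSpecializes_fromSpecStalk]

end Groth.Agent.Lib.Helper4.SpreadFP
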