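import Mathlib
import Groth.Prelude.Def_EtCore
import Groth.Agent.Lib.Helper9Hens6
import Groth.Agent.Lib.Helper18HenselMap
import Groth.Agent.Lib.Helper4SpreadFP
import Groth.Agent.S0527

/-!
# Schemes all of whose points are closed, with separably closed residue fields (helper9)

* `stalk_prime_eq`: each stalk has a single prime;
* `henselian_stalk`: each stalk is henselian;
* `exists_local_section`: an étale morphism has a section Zariski-locally around each point of
  its image.
-/

set_option autoImplicit false
set_option linter.style.haveILetI false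
set_option backward.isDefEq.respectTransparency false

universe u

open CategoryTheory CategoryTheory.Limits AlgebraicGeometry Opposite

namespace Groth.Agent.Lib.Helper9.ZeroDim

variable {S : Scheme.{u}}

theorem stalk_prime_eq (h1 : ∀ s : S, IsClosed ({s} : Set S)) (s : S)
    (p : Spec (S.presheaf.stalk s)) : p = IsLocalRing.closedPoint (S.presheaf.stalk s) := by
  have hp : (S.fromSpecStalk s) p ⤳ s := by
    have : (S.fromSpecStalk s) p ∈ Set.range (S.fromSpecStalk s) := ⟨p, rfl⟩
    rw [Scheme.range_fromSpecStalk] at this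
    exact this
  have h2 : (S.fromSpecStalk s) p = s := by
    have := hp.mem_closed (h1 _) rfl
    exact this.symm
  have h3 : (S.fromSpecStalk s) (IsLocalRing.closedPoint (S.presheaf.stalk s)) = s :=
    Scheme.fromSpecStalk_closedPoint
  have hinj : Function.Injective (S.fromSpecStalk s) :=
    (S.fromSpecStalk s).isEmbedding.injective
  exact hinj (h2.trans h3.symm)

theorem isNilpotent_of_mem_maximalIdeal (h1 : ∀ s : S, IsClosed ({s} : Set S)) (s : S)
    (x : S.presheaf.stalk s) (hx : x ∈ IsLocalRing.maximalIdeal (S.presheaf.stalk s)) :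
    IsNilpotent x := by
  rw [nilpotent_iff_mem_prime]
  intro J hJ
  have := stalk_prime_eq h1 s ⟨J, hJ⟩
  have h2 : J = IsLocalRing.maximalIdeal (S.presheaf.stalk s) :=
    congrArg PrimeSpectrum.asIdeal this
  rw [h2]
  exact hx

theorem henselian_stalk (h1 : ∀ s : S, IsClosed ({s} : Set S)) (s : S) :
    HenselianLocalRing (S.presheaf.stalk s) := by
  haveI : HenselianRing (S.presheaf.stalk s) (IsLocalRing.maximalIdeal (S.presheaf.stalk s)) :=
    Groth.Agent.S0527.result _ _ (isNilpotent_of_mem_maximalIdeal h1 s)
  exact Groth.Agent.Lib.Helper18HenselMap.henselianLocalRing_of_henselianRing _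

theorem exists_local_section (h1 : ∀ s : S, IsClosed ({s} : Set S))
    (h2 : ∀ s : S, IsSepClosed (S.residueField s)) {V : Scheme.{u}} (f : V ⟶ S) [Etale f]
    (v : V) :
    ∃ (W : S.Opens) (_ : f v ∈ W) (σ : W.toScheme ⟶ V), σ ≫ f = W.ι := by
  haveI : HenselianLocalRing (S.presheaf.stalk (f v)) := henselian_stalk h1 (f v)
  haveI : IsSepClosed (IsLocalRing.ResidueField (S.presheaf.stalk (f v))) := h2 (f v)
  obtain ⟨p, hp1, hp2⟩ := Scheme.Pullback.exists_preimage_pullback (f := f)
    (g := S.fromSpecStalk (f v)) v (IsLocalRing.closedPoint (S.presheaf.stalk (f v)))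
    (by rw [Scheme.fromSpecStalk_closedPoint])
  obtain ⟨l, hl, -⟩ := Scheme.exists_fac_of_etale_of_isSepClosed
    (pullback.snd f (S.fromSpecStalk (f v)))
    (Spec.map (CommRingCat.ofHom (IsLocalRing.residue (S.presheaf.stalk (f v))))) p (by
      rw [hp2]
      exact (IsLocalRing.PrimeSpectrum.comap_residue _ _).symm)
  obtain ⟨σ, hσ, -⟩ := Hens.exists_section (R := S.presheaf.stalk (f v))
    (pullback.snd f (S.fromSpecStalk (f v))) l hl
  obtain ⟨W, hW, g, -, hg⟩ := Groth.Agent.Lib.Helper4.SpreadFP.spread_out_of_finitePresentation'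
    (𝟙 S) f (x := f v) (σ ≫ pullback.fst _ _) (by
      rw [Category.assoc, pullback.condition, ← Category.assoc]
      erw [hσ]
      exact (Category.id_comp _).trans (Category.comp_id _).symm)
  exact ⟨W, hW, g, by simpa using hg⟩

end Groth.Agent.Lib.Helper9.ZeroDim
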