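import Mathlib
import Groth.Prelude.Def_EtBase
import Groth.Prelude.Def_EtZar
import Groth.Agent.Lib.Helper16BigZar
import Groth.Agent.Lib.Helper9ZeroDim1
import Groth.Agent.Lib.Helper21EtOpen

/-!
# Étale versus Zariski cohomology when all local rings are strictly henselian (helper23)

* `exists_local_section`: an étale morphism to a scheme all of whose local rings are strictly
  henselian has a section Zariski-locally around each point of its image;
* `flat_zarToEt`, `zarToEt_isCocontinuous`;
* `nonempty_H_resZar`: étale cohomology agrees with Zariski cohomology of the restriction.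
-/

set_option autoImplicit false
set_option linter.style.haveILetI false
set_option backward.isDefEq.respectTransparency false
universe u
open CategoryTheory CategoryTheory.Limits AlgebraicGeometry Opposite Abelian

namespace Groth.Agent.Lib.Helper23EtZarH

open Groth.Agent.Lib.Helper21.EtOpen

variable (X : Scheme.{u})

theorem exists_local_section {S : Scheme.{u}}
    (hS : ∀ s : S, EtCoh.IsStrictlyHenselianLocalRing (S.presheaf.stalk s))
    {V : Scheme.{u}} (f : V ⟶ S) [Etale f] (v : V) :
    ∃ (W : S.Opens) (_ : f v ∈ W) (σ : W.toScheme ⟶ V), σ ≫ f = W.ι := by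
  obtain ⟨hh, hsc⟩ := hS (f v)
  haveI : HenselianLocalRing (S.presheaf.stalk (f v)) := hh
  haveI : IsSepClosed (IsLocalRing.ResidueField (S.presheaf.stalk (f v))) := hsc
  obtain ⟨p, hp1, hp2⟩ := Scheme.Pullback.exists_preimage_pullback (f := f)
    (g := S.fromSpecStalk (f v)) v (IsLocalRing.closedPoint (S.presheaf.stalk (f v)))
    (by rw [Scheme.fromSpecStalk_closedPoint])
  obtain ⟨l, hl, -⟩ := Scheme.exists_fac_of_etale_of_isSepClosed
    (pullback.snd f (S.fromSpecStalk (f v)))
    (Spec.map (CommRingCat.ofHom (IsLocalRing.residue (S.presheaf.stalk (f v))))) p (by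
      rw [hp2]
      exact (IsLocalRing.PrimeSpectrum.comap_residue _ _).symm)
  obtain ⟨σ, hσ, -⟩ := Groth.Agent.Lib.Helper9.Hens.exists_section (R := S.presheaf.stalk (f v))
    (pullback.snd f (S.fromSpecStalk (f v))) l hl
  obtain ⟨W, hW, g, -, hg⟩ := Groth.Agent.Lib.Helper4.SpreadFP.spread_out_of_finitePresentation'
    (𝟙 S) f (x := f v) (σ ≫ pullback.fst _ _) (by
      rw [Category.assoc, pullback.condition, ← Category.assoc]
      erw [hσ]
      exact (Category.id_comp _).trans (Category.comp_id _).symm)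
  exact ⟨W, hW, g, by simpa using hg⟩

theorem hom_zarToEt_ext {Y : X.Etale} {U : X.Opens} (f g : Y ⟶ (EtZar.zarToEt X).obj U) :
    f = g :=
  hom_opObj_ext f g

theorem lands_of_hom {Y : X.Etale} {U : X.Opens} (f : Y ⟶ (EtZar.zarToEt X).obj U) :
    Lands Y U :=
  lands_of_hom_opObj f

/-- a morphism into an open, given the range condition. -/
noncomputable def liftTo {Y : X.Etale} {U : X.Opens} (h : Lands Y U) :
    Y ⟶ (EtZar.zarToEt X).obj U :=
  liftO h

instance isCofiltered_structuredArrow (Y : X.Etale) :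
    IsCofiltered (StructuredArrow Y (EtZar.zarToEt X)) where
  cone_objs A B := by
    have hA := lands_of_hom X A.hom
    have hB := lands_of_hom X B.hom
    refine ⟨StructuredArrow.mk (liftTo X (hA.inf hB)),
      StructuredArrow.homMk (homOfLE inf_le_left) (hom_zarToEt_ext X _ _),
      StructuredArrow.homMk (homOfLE inf_le_right) (hom_zarToEt_ext X _ _), trivial⟩
  cone_maps A B f g := ⟨A, 𝟙 A, by
    congr 1
    apply StructuredArrow.hom_ext
    exact Subsingleton.elim _ _⟩
  nonempty := ⟨StructuredArrow.mk (liftTo X (U := ⊤) ((lands_iff Y ⊤).2 fun _ => trivial))⟩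

instance flat_zarToEt : RepresentablyFlat (EtZar.zarToEt X) := ⟨fun _ => inferInstance⟩

instance hasExactColimits_costructuredArrow_zarToEt (d : (X.Etale)ᵒᵖ) :
    HasExactColimitsOfShape (CostructuredArrow (EtZar.zarToEt X).op d) AddCommGrpCat.{u + 1} := by
  have : IsFiltered (CostructuredArrow (EtZar.zarToEt X).op d) :=
    IsFiltered.of_equivalence (structuredArrowOpEquivalence (EtZar.zarToEt X) (unop d))
  have := AB5OfSize_of_univLE.{u, u, u + 1, u + 1} AddCommGrpCat.{u + 1}
  exact AB5OfSize.ofShape _

/-- The left adjoint of `resZar`. -/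
noncomputable abbrev zarPull [EtZar.ZarCont X] : EtZar.Ab X ⥤ EtCoh.Ab X :=
  (EtZar.zarToEt X).sheafPullback AddCommGrpCat.{u + 1} (Opens.grothendieckTopology X)
    X.smallEtaleTopology

/-- The adjunction between `zarPull` and `resZar`. -/
noncomputable abbrev zarAdj [EtZar.ZarCont X] : zarPull X ⊣ EtZar.resZar X :=
  (EtZar.zarToEt X).sheafAdjunctionContinuous AddCommGrpCat.{u + 1}
    (Opens.grothendieckTopology X) X.smallEtaleTopology

theorem zarPull_preservesFiniteLimits [EtZar.ZarCont X] :
    PreservesFiniteLimits (zarPull X) := by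
  have h : PreservesFiniteLimits ((EtZar.zarToEt X).op.lan : (_ ⥤ _ ⥤ AddCommGrpCat.{u + 1})) :=
    Groth.Agent.Lib.Helper6.lan_preservesFiniteLimits_of_flat' AddCommGrpCat.{u + 1}
      (EtZar.zarToEt X)
  exact Functor.sheafPullbackConstruction.preservesFiniteLimits (EtZar.zarToEt X)
    AddCommGrpCat.{u + 1} (Opens.grothendieckTopology X) X.smallEtaleTopology

theorem injective_resZar [EtZar.ZarCont X] (I : EtCoh.Ab X) [Injective I] :
    Injective ((EtZar.resZar X).obj I) := by
  haveI := zarPull_preservesFiniteLimits X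
  haveI : (zarPull X).PreservesMonomorphisms :=
    preservesMonomorphisms_of_preservesLimitsOfShape _
  exact Injective.injective_of_adjoint (zarAdj X) I

theorem cover_lift_zar
    (hS : ∀ s : X, EtCoh.IsStrictlyHenselianLocalRing (X.presheaf.stalk s))
    {U : X.Opens} (R : Sieve ((EtZar.zarToEt X).obj U))
    (hR : R ∈ X.smallEtaleTopology ((EtZar.zarToEt X).obj U)) :
    R.functorPullback (EtZar.zarToEt X) ∈ Opens.grothendieckTopology X U := by
  rw [mem_smallEtale_iff] at hR
  intro x hx
  obtain ⟨Y, f, y, hRf, hy⟩ := hR ⟨x, hx⟩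
  obtain ⟨W, hW, σ, hσ⟩ := exists_local_section hS Y.hom y
  have hyx : Y.hom y = x := by
    have hw : f.left ≫ U.ι = Y.hom := Over.w f.hom
    rw [← hw, Scheme.Hom.comp_apply]
    exact congrArg (fun t : (U : Scheme.{u}) => U.ι t) hy
  refine ⟨W ⊓ U, homOfLE inf_le_right, ?_, ⟨hyx ▸ hW, hx⟩⟩
  let e : (EtZar.zarToEt X).obj (W ⊓ U) ⟶ Y :=
    MorphismProperty.Over.homMk (X.homOfLE inf_le_left ≫ σ) (by
      rw [Category.assoc, hσ]
      exact X.homOfLE_ι _)
  have h2 := R.downward_closed hRf e
  have h3 : e ≫ f = (EtZar.zarToEt X).map (homOfLE inf_le_right) := hom_zarToEt_ext X _ _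
  rw [h3] at h2
  exact h2

theorem zarToEt_isCocontinuous
    (hS : ∀ s : X, EtCoh.IsStrictlyHenselianLocalRing (X.presheaf.stalk s)) :
    (EtZar.zarToEt X).IsCocontinuous (Opens.grothendieckTopology X) X.smallEtaleTopology where
  cover_lift {_ S} hS' := cover_lift_zar X hS S hS'

section cohomology
variable [EtZar.ZarCont X] [(EtZar.zarToEt X).IsCocontinuous
    (Opens.grothendieckTopology X) X.smallEtaleTopology]

instance resZar_preservesFiniteLimits : PreservesFiniteLimits (EtZar.resZar X) := by
  haveI := (zarAdj X).rightAdjoint_preservesLimits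
  infer_instance

instance resZar_preservesFiniteColimits : PreservesFiniteColimits (EtZar.resZar X) := by
  haveI := ((EtZar.zarToEt X).sheafAdjunctionCocontinuous AddCommGrpCat.{u + 1}
    (Opens.grothendieckTopology X) X.smallEtaleTopology).leftAdjoint_preservesColimits
  infer_instance

instance resZar_additive : (EtZar.resZar X).Additive where

instance resZar_preservesHomology : (EtZar.resZar X).PreservesHomology := inferInstance

/-- `zarToEt` of the terminal object is terminal. -/
noncomputable def zarTopIsTerminal : IsTerminal ((EtZar.zarToEt X).obj ⊤) :=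
  IsTerminal.ofUniqueHom (fun Y => liftTo X (U := ⊤) ((lands_iff Y ⊤).2 fun _ => trivial))
    (fun _ _ => hom_zarToEt_ext X _ _)

/-- restriction to the small Zariski site followed by global sections is global sections. -/
noncomputable def sectionsIso :
    EtZar.resZar X ⋙
        (sheafSections (Opens.grothendieckTopology X) AddCommGrpCat.{u + 1}).obj (op ⊤) ≅
      (sheafSections X.smallEtaleTopology AddCommGrpCat.{u + 1}).obj
        (op ((EtZar.zarToEt X).obj ⊤)) :=
  NatIso.ofComponents (fun _ => Iso.refl _) (fun f => by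
    simp only [Iso.refl_hom]
    rfl)

/-- the pullback of the constant sheaf is the constant sheaf. -/
noncomputable def pullConstIso :
    constantSheaf (Opens.grothendieckTopology X) AddCommGrpCat.{u + 1} ⋙ zarPull X ≅
      constantSheaf X.smallEtaleTopology AddCommGrpCat.{u + 1} :=
  Adjunction.leftAdjointUniq
    ((constantSheafAdj (Opens.grothendieckTopology X) AddCommGrpCat.{u + 1} isTerminalTop).comp
      (zarAdj X))
    ((constantSheafAdj X.smallEtaleTopology AddCommGrpCat.{u + 1} (zarTopIsTerminal X)).ofNatIsoRight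
      (sectionsIso X).symm)

open Groth.Agent.Lib.Helper21.DerAcyc Groth.Agent.Lib.Helper23ExtRD Groth.Agent.Lib.Helper23LocSS
  Groth.Agent.Lib.Helper21.FreeAb in
/-- étale cohomology agrees with Zariski cohomology of the restriction to the small Zariski
site, when restriction is exact. -/
theorem nonempty_H_resZar (F : EtCoh.Ab X) (p : ℕ) :
    Nonempty (EtZar.H ((EtZar.resZar X).obj F) p ≃+ EtCoh.H X F p) := by
  haveI : (zarPull X).Additive := (zarAdj X).left_adjoint_additive
  let E := EtZar.resZar X
  let ZC := (constantSheaf (Opens.grothendieckTopology X) AddCommGrpCat.{u + 1}).obj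
    (AddCommGrpCat.of (ULift ℤ))
  let ZD := (constantSheaf X.smallEtaleTopology AddCommGrpCat.{u + 1}).obj
    (AddCommGrpCat.of (ULift ℤ))
  let G : EtZar.Ab X ⥤ AddCommGrpCat.{u + 1} := preadditiveCoyoneda.obj (op ZC)
  let G' : EtCoh.Ab X ⥤ AddCommGrpCat.{u + 1} := preadditiveCoyoneda.obj (op ZD)
  have hE : ∀ I : EtCoh.Ab X, Injective I → ∀ q : ℕ, 0 < q →
      IsZero ((G.rightDerived q).obj (E.obj I)) := by
    intro I hI q hq
    obtain ⟨q, rfl⟩ : ∃ k, q = k + 1 := ⟨q - 1, by lia⟩
    haveI : Injective (E.obj I) := injective_resZar X I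
    exact Functor.isZero_rightDerived_obj_injective_succ G q (E.obj I)
  let iso : E ⋙ G ≅ G' :=
    adjCoyonedaIso (zarAdj X) ZC ≪≫
      coyonedaIsoOfIso ((pullConstIso X).app (AddCommGrpCat.of (ULift ℤ)))
  obtain ⟨e₁⟩ := nonempty_rightDerived_comp_iso E G hE F p
  let e₂ := (rightDerivedIso iso p).app F
  obtain ⟨e₃⟩ := rightDerived_coyoneda_iso ZC (E.obj F) p
  obtain ⟨e₄⟩ := rightDerived_coyoneda_iso ZD F p
  exact ⟨(e₃.symm ≪≫ e₁.symm ≪≫ e₂ ≪≫ e₄).addCommGroupIsoToAddEquiv⟩

end cohomology

end Groth.Agent.Lib.Helper23EtZarH
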