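import Mathlib
import Groth.Agent.Lib.Helper23ExtRD

/-!
# Naturality of `Ext^n(X, Y) ≅ (R^n Hom(X, -))(Y)` in `Y` (helper23)
-/

open CategoryTheory Limits Opposite Abelian

namespace Groth.Agent.Lib.Helper23ExtRDNat

open Groth.Agent.Lib.Helper23ExtRD

universe v u

variable {C : Type u} [Category.{v} C] [Abelian C] [HasExt.{v} C]

theorem aux_π {𝒞 : Type*} [Category 𝒞] [HasZeroMorphisms 𝒞] (S : ShortComplex 𝒞) [S.HasHomology]
    (hd : S.LeftHomologyData) {A : 𝒞} (e : hd.H ≅ A) :
    S.homologyπ ≫ (hd.homologyIso ≪≫ e).hom = hd.cyclesIso.hom ≫ hd.π ≫ e.hom := by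
  rw [Iso.trans_hom, ← Category.assoc, hd.homologyπ_comp_homologyIso_hom, Category.assoc]

section
variable {X Y : C} (R : InjectiveResolution Y)

/-- the additive equivalence `ker / range ≃+ Ext`. -/
noncomputable def quotEquiv (i n : ℕ)
    (h : (ψ R (X := X) i n).ker = AddMonoidHom.range (sc R X i n).abToCycles) :
    (AddMonoidHom.ker (sc R X i n).g.hom ⧸ AddMonoidHom.range (sc R X i n).abToCycles) ≃+
      Ext.{v} X Y n :=
  (QuotientAddGroup.quotientAddEquivOfEq h.symm).trans
    (QuotientAddGroup.quotientKerEquivOfSurjective (ψ R i n) (ψ_surjective R i n))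

theorem quotEquiv_mk (i n : ℕ)
    (h : (ψ R (X := X) i n).ker = AddMonoidHom.range (sc R X i n).abToCycles)
    (z : AddMonoidHom.ker (sc R X i n).g.hom) :
    quotEquiv R i n h (QuotientAddGroup.mk z) = ψ R i n z := rfl

/-- the isomorphism `H(sc) ≅ Ext`. -/
noncomputable def scIso (i n : ℕ)
    (h : (ψ R (X := X) i n).ker = AddMonoidHom.range (sc R X i n).abToCycles) :
    (sc R X i n).homology ≅ AddCommGrpCat.of (Ext.{v} X Y n) :=
  (sc R X i n).abHomologyIso ≪≫
    AddEquiv.toAddCommGrpIso (X := AddCommGrpCat.of _) (Y := AddCommGrpCat.of _) (quotEquiv R i n h)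

theorem π_scIso_hom (i n : ℕ)
    (h : (ψ R (X := X) i n).ker = AddMonoidHom.range (sc R X i n).abToCycles) :
    (sc R X i n).homologyπ ≫ (scIso R i n h).hom =
      (sc R X i n).abCyclesIso.hom ≫ AddCommGrpCat.ofHom (ψ R i n) := by
  refine (aux_π (sc R X i n) (sc R X i n).abLeftHomologyData _).trans ?_
  rfl

end

theorem abCyclesIso_hom_coe (S : ShortComplex AddCommGrpCat.{v}) (c : S.cycles) :
    ((S.abCyclesIso.hom c : AddMonoidHom.ker S.g.hom) : S.X₂) = S.iCycles c := by
  have h := S.abLeftHomologyData.cyclesIso_hom_comp_i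
  exact ConcreteCategory.congr_hom h c

theorem extMk_congr {X Y : C} (R : InjectiveResolution Y) {n : ℕ} {f f' : X ⟶ R.cocomplex.X n}
    (h : f = f') (m : ℕ) (hm : n + 1 = m) (hf : f ≫ R.cocomplex.d n m = 0) :
    R.extMk f m hm hf = R.extMk f' m hm (by rw [← h]; exact hf) := by
  subst h; rfl

section
variable {X Y Y' : C} {f : Y ⟶ Y'} {R : InjectiveResolution Y} {R' : InjectiveResolution Y'}

/-- the map of short complexes induced by a map of resolutions. -/
noncomputable def scMap (X : C) (φ : R.cocomplex ⟶ R'.cocomplex) (i n : ℕ) :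
    sc R X i n ⟶ sc R' X i n :=
  (HomologicalComplex.shortComplexFunctor' AddCommGrpCat.{v} (ComplexShape.up ℕ) i n (n + 1)).map
    (((preadditiveCoyoneda.obj (op X)).mapHomologicalComplex (ComplexShape.up ℕ)).map φ)

theorem scMap_τ₂_apply (φ : R.cocomplex ⟶ R'.cocomplex) (i n : ℕ) (g : X ⟶ R.cocomplex.X n) :
    (scMap X φ i n).τ₂.hom g = g ≫ φ.f n := rfl

theorem ψ_naturality (φ : InjectiveResolution.Hom R R' f) (i n : ℕ) (c : (sc R X i n).cycles) :
    ψ R' i n ((sc R' X i n).abCyclesIso.hom (ShortComplex.cyclesMap (scMap X φ.hom i n) c)) =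
      (ψ R i n ((sc R X i n).abCyclesIso.hom c)).comp (Ext.mk₀ f) (add_zero n) := by
  let zc : AddMonoidHom.ker (sc R X i n).g.hom := (sc R X i n).abCyclesIso.hom c
  let z' : AddMonoidHom.ker (sc R' X i n).g.hom :=
    (sc R' X i n).abCyclesIso.hom (ShortComplex.cyclesMap (scMap X φ.hom i n) c)
  have e1 := InjectiveResolution.extMk_comp_mk₀ (R := R) (zc.1 : X ⟶ R.cocomplex.X n) (n + 1) rfl
    zc.2 φ
  have hz' : (z'.1 : X ⟶ R'.cocomplex.X n) = (zc.1 : X ⟶ R.cocomplex.X n) ≫ φ.hom.f n := by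
    have h1 : (z'.1 : (sc R' X i n).X₂) =
        (sc R' X i n).iCycles (ShortComplex.cyclesMap (scMap X φ.hom i n) c) :=
      abCyclesIso_hom_coe _ _
    have h2 : (zc.1 : (sc R X i n).X₂) = (sc R X i n).iCycles c := abCyclesIso_hom_coe _ _
    have h := ShortComplex.cyclesMap_i (scMap X φ.hom i n)
    have h3 := ConcreteCategory.congr_hom h c
    refine h1.trans (h3.trans ?_)
    change (scMap X φ.hom i n).τ₂.hom ((sc R X i n).iCycles c) = _
    rw [← h2]
    rfl
  refine Eq.trans ?_ e1.symm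
  exact extMk_congr R' hz' (n + 1) rfl z'.2

theorem scIso_naturality (φ : InjectiveResolution.Hom R R' f) (i n : ℕ)
    (h : (ψ R (X := X) i n).ker = AddMonoidHom.range (sc R X i n).abToCycles)
    (h' : (ψ R' (X := X) i n).ker = AddMonoidHom.range (sc R' X i n).abToCycles) :
    ShortComplex.homologyMap (scMap X φ.hom i n) ≫ (scIso R' i n h').hom =
      (scIso R i n h).hom ≫ AddCommGrpCat.ofHom ((Ext.mk₀ f).postcomp X (add_zero n)) := by
  rw [← cancel_epi (sc R X i n).homologyπ, ShortComplex.homologyπ_naturality_assoc, π_scIso_hom,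
    ← Category.assoc _ (scIso R i n h).hom, π_scIso_hom, Category.assoc]
  ext c
  exact ψ_naturality φ i n c

end

theorem homologyIsoSc'_naturality {𝒞 : Type*} [Category 𝒞] [HasZeroMorphisms 𝒞] {ι : Type*}
    {c : ComplexShape ι} {K L : HomologicalComplex 𝒞 c} (g : K ⟶ L) (i j k : ι)
    (hi : c.prev j = i) (hk : c.next j = k) [K.HasHomology j] [L.HasHomology j]
    [(K.sc' i j k).HasHomology] [(L.sc' i j k).HasHomology] :
    HomologicalComplex.homologyMap g j ≫ (L.homologyIsoSc' i j k hi hk).hom =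
      (K.homologyIsoSc' i j k hi hk).hom ≫
        ShortComplex.homologyMap ((HomologicalComplex.shortComplexFunctor' 𝒞 c i j k).map g) := by
  have nat : (HomologicalComplex.shortComplexFunctor 𝒞 c j).map g ≫ (L.isoSc' i j k hi hk).hom =
      (K.isoSc' i j k hi hk).hom ≫ (HomologicalComplex.shortComplexFunctor' 𝒞 c i j k).map g :=
    (HomologicalComplex.natIsoSc' 𝒞 c i j k hi hk).hom.naturality g
  have e1 := ShortComplex.homologyMap_comp ((HomologicalComplex.shortComplexFunctor 𝒞 c j).map g)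
    (L.isoSc' i j k hi hk).hom
  have e2 := ShortComplex.homologyMap_comp (K.isoSc' i j k hi hk).hom
    ((HomologicalComplex.shortComplexFunctor' 𝒞 c i j k).map g)
  rw [nat] at e1
  exact e1.symm.trans e2

section
variable {X Y : C} (R : InjectiveResolution Y)

theorem ker_ψ (n : ℕ) :
    (ψ R (X := X) (n - 1) n).ker = AddMonoidHom.range (sc R X (n - 1) n).abToCycles := by
  cases n with
  | zero => exact ker_ψ_zero R
  | succ p => exact ker_ψ_succ R p

theorem prev_eq (n : ℕ) : (ComplexShape.up ℕ).prev n = n - 1 := by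
  cases n with
  | zero => simp
  | succ p => simp

/-- `Hⁿ(Hom(X, R)) ≅ Extⁿ(X, Y)`. -/
noncomputable def homIso (n : ℕ) :
    (homCx R X).homology n ≅ AddCommGrpCat.of (Ext.{v} X Y n) :=
  (homCx R X).homologyIsoSc' (n - 1) n (n + 1) (prev_eq n) (by simp) ≪≫
    scIso R (n - 1) n (ker_ψ R n)

end

theorem homIso_naturality {X Y Y' : C} {f : Y ⟶ Y'} {R : InjectiveResolution Y}
    {R' : InjectiveResolution Y'} (φ : InjectiveResolution.Hom R R' f) (n : ℕ) :
    HomologicalComplex.homologyMap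
        (((preadditiveCoyoneda.obj (op X)).mapHomologicalComplex (ComplexShape.up ℕ)).map φ.hom) n ≫
      (homIso R' n).hom =
    (homIso R n).hom ≫ AddCommGrpCat.ofHom ((Ext.mk₀ f).postcomp X (add_zero n)) := by
  dsimp only [homIso, Iso.trans_hom]
  rw [← Category.assoc, homologyIsoSc'_naturality, Category.assoc, Category.assoc]
  congr 1
  exact scIso_naturality φ (n - 1) n (ker_ψ R n) (ker_ψ R' n)

theorem comp_aux6 {𝒞 : Type*} [Category 𝒞] {A A' P P' B B' : 𝒞} (a : A ⟶ A') (iJ : A' ≅ P')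
    (iI : A ≅ P) (kI : P ≅ B) (kJ : P' ≅ B') (m : P ⟶ P') (b : B ⟶ B')
    (h1 : a ≫ iJ.hom = iI.hom ≫ m) (h2 : m ≫ kJ.hom = kI.hom ≫ b) :
    a ≫ (iJ ≪≫ kJ).hom = (iI ≪≫ kI).hom ≫ b := by
  simp only [Iso.trans_hom, Category.assoc]
  rw [reassoc_of% h1, h2]

/-- `Rⁿ Hom(X, -) ≅ Extⁿ(X, -)` as functors. -/
noncomputable def rightDerivedCoyonedaIso [HasInjectiveResolutions C] (X : C) (n : ℕ) :
    (preadditiveCoyoneda.obj (op X)).rightDerived n ≅ (extFunctor.{v} n).obj (op X) :=
  NatIso.ofComponents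
    (fun Y => (injectiveResolution Y).isoRightDerivedObj (preadditiveCoyoneda.obj (op X)) n ≪≫
      homIso (injectiveResolution Y) n)
    (fun {Y Y'} f => by
      let I := injectiveResolution Y
      let J := injectiveResolution Y'
      let φ : InjectiveResolution.Hom I J f :=
        { hom := InjectiveResolution.desc f J I
          ι_f_zero_comp_hom_f_zero := by
            rw [InjectiveResolution.desc_commutes_zero, CochainComplex.single₀_map_f_zero]
            rfl }
      have comm : I.ι.f 0 ≫ φ.hom.f 0 = f ≫ J.ι.f 0 := InjectiveResolution.desc_commutes_zero f J I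
      have h1 := InjectiveResolution.isoRightDerivedObj_hom_naturality f I J φ.hom comm
        (preadditiveCoyoneda.obj (op X)) n
      have h2 := homIso_naturality (X := X) φ n
      exact comp_aux6 _ _ _ _ _ _ _ h1 h2)

end Groth.Agent.Lib.Helper23ExtRDNat
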