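import Mathlib
import Groth.Agent.Lib.Helper23PB3

/-!
# External tensor products of ample modules (helper23)

Namespace `Groth.Agent.Lib.Helper23.ExtTensor`.

* `isAmple_tensorMod_pullback_pullback` : `π₁ : Z ⟶ U₁`, `π₂ : Z ⟶ U₂`, `Z` quasi-compact, `N_i` ample on `U_i`, and
  `π₁⁻¹ A₁ ⊓ π₂⁻¹ A₂` affine for all affine opens `A_i ⊆ U_i` ⇒ `π₁^* N₁ ⊗ π₂^* N₂` ample on `Z`.
-/

set_option autoImplicit false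
universe u
open CategoryTheory CategoryTheory.Limits AlgebraicGeometry TopologicalSpace Opposite

namespace Groth.Agent.Lib.Helper23.ExtTensor
open Groth.Agent.Lib.Helper23.AmpleIso Groth.Agent.Lib.Helper23.SecTw Groth.Agent.Lib.Helper23.PB

theorem isAmple_tensorMod_pullback_pullback {Z U₁ U₂ : Scheme.{u}} [CompactSpace Z] (π₁ : Z ⟶ U₁) (π₂ : Z ⟶ U₂)
    (N₁ : U₁.Modules) (N₂ : U₂.Modules) (h₁ : CohB1.IsAmple N₁) (h₂ : CohB1.IsAmple N₂)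
    (haff : ∀ (A₁ : U₁.Opens) (A₂ : U₂.Opens), IsAffineOpen A₁ → IsAffineOpen A₂ →
      IsAffineOpen (π₁ ⁻¹ᵁ A₁ ⊓ π₂ ⁻¹ᵁ A₂)) :
    CohB1.IsAmple (CohB1.tensorMod ((Scheme.Modules.pullback π₁).obj N₁) ((Scheme.Modules.pullback π₂).obj N₂)) := by
  have hP₁ := isInvertible_pullback π₁ N₁ h₁.1
  have hP₂ := isInvertible_pullback π₂ N₂ h₂.1
  refine ⟨isInvertible_tensorMod hP₁ hP₂, inferInstance, fun z => ?_⟩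
  obtain ⟨n₁, s₁, hx₁, ha₁⟩ := h₁.2.2 (π₁ z)
  obtain ⟨n₂, s₂, hx₂, ha₂⟩ := h₂.2.2 (π₂ z)
  obtain ⟨s₁', hs₁'⟩ := exists_pullback_section π₁ N₁ h₁.1 (n₁ + 1) s₁
  obtain ⟨s₂', hs₂'⟩ := exists_pullback_section π₂ N₂ h₂.1 (n₂ + 1) s₂
  obtain ⟨k, hk⟩ : ∃ k, (n₁ + 1) * (n₂ + 1) = k + 1 := ⟨n₁ * n₂ + n₁ + n₂, by ring⟩
  have hk' : (n₂ + 1) * (n₁ + 1) = k + 1 := by rw [mul_comm]; exact hk
  obtain ⟨Φ₁⟩ := nonempty_tensorPow_tensorPow_iso _ hP₁ (n₁ + 1) (n₂ + 1) (k + 1) hk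
  obtain ⟨Φ₂⟩ := nonempty_tensorPow_tensorPow_iso _ hP₂ (n₂ + 1) (n₁ + 1) (k + 1) hk'
  obtain ⟨Ψ⟩ := nonempty_tensorPow_tensorMod_iso _ _ hP₁ hP₂ (k + 1)
  refine ⟨k, SecTwist.tmulHom (SecTwist.powHom s₁' (n₂ + 1) ≫ Φ₁.hom) (SecTwist.powHom s₂' (n₁ + 1) ≫ Φ₂.hom) ≫ Ψ.hom,
    ?_, ?_⟩
  all_goals
    rw [genLocus_comp_iso, genLocus_tmulHom (isInvertible_tensorPow hP₁ (k + 1)) (isInvertible_tensorPow hP₂ (k + 1)),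
      genLocus_comp_iso, genLocus_comp_iso,
      genLocus_powHom (isInvertible_tensorPow hP₁ (n₁ + 1)) s₁' (n₂ + 1) (Nat.succ_pos _),
      genLocus_powHom (isInvertible_tensorPow hP₂ (n₂ + 1)) s₂' (n₁ + 1) (Nat.succ_pos _), hs₁', hs₂']
  · exact ⟨hx₁, hx₂⟩
  · exact haff _ _ ha₁ ha₂

theorem isAmple_restrict_tensorMod_pullback {P X₁ X₂ : Scheme.{u}} (p₁ : P ⟶ X₁) (p₂ : P ⟶ X₂)
    (L₁ : X₁.Modules) (L₂ : X₂.Modules) (hL₁ : PicF.IsInvertible L₁) (hL₂ : PicF.IsInvertible L₂)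
    (U₁ : X₁.Opens) (U₂ : X₂.Opens) (h₁ : CohB1.IsAmple (L₁.restrict U₁.ι)) (h₂ : CohB1.IsAmple (L₂.restrict U₂.ι))
    (W : P.Opens) (hWc : IsCompact (W : Set P)) (hW₁ : W ≤ p₁ ⁻¹ᵁ U₁) (hW₂ : W ≤ p₂ ⁻¹ᵁ U₂)
    (haff : ∀ (A₁ : X₁.Opens) (A₂ : X₂.Opens), IsAffineOpen A₁ → IsAffineOpen A₂ → A₁ ≤ U₁ → A₂ ≤ U₂ →
      IsAffineOpen (p₁ ⁻¹ᵁ A₁ ⊓ p₂ ⁻¹ᵁ A₂ ⊓ W)) :
    CohB1.IsAmple ((CohB1.tensorMod ((Scheme.Modules.pullback p₁).obj L₁)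
      ((Scheme.Modules.pullback p₂).obj L₂)).restrict W.ι) := by
  have hrange₁ : Set.range (W.ι ≫ p₁) ⊆ Set.range U₁.ι := by
    rintro _ ⟨z, rfl⟩
    rw [Scheme.Opens.range_ι]
    exact hW₁ z.2
  have hrange₂ : Set.range (W.ι ≫ p₂) ⊆ Set.range U₂.ι := by
    rintro _ ⟨z, rfl⟩
    rw [Scheme.Opens.range_ι]
    exact hW₂ z.2
  let j₁ : (↑W : Scheme.{u}) ⟶ (↑U₁ : Scheme.{u}) := IsOpenImmersion.lift U₁.ι (W.ι ≫ p₁) hrange₁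
  have hj₁ : j₁ ≫ U₁.ι = W.ι ≫ p₁ := IsOpenImmersion.lift_fac _ _ _
  let j₂ : (↑W : Scheme.{u}) ⟶ (↑U₂ : Scheme.{u}) := IsOpenImmersion.lift U₂.ι (W.ι ≫ p₂) hrange₂
  have hj₂ : j₂ ≫ U₂.ι = W.ι ≫ p₂ := IsOpenImmersion.lift_fac _ _ _
  obtain ⟨Θ⟩ := Groth.Agent.Lib.Helper23.SecTw.nonempty_restrict_tensorMod_iso _ _
    (isInvertible_pullback p₁ L₁ hL₁) (isInvertible_pullback p₂ L₂ hL₂) W
  refine isAmple_of_iso (Θ ≪≫ tensorModIso (pullbackRestrictIso' p₁ L₁ W.ι U₁.ι j₁ hj₁)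
    (pullbackRestrictIso' p₂ L₂ W.ι U₂.ι j₂ hj₂)).symm ?_
  haveI : CompactSpace ↥(W : Scheme.{u}) := isCompact_iff_compactSpace.1 hWc
  refine isAmple_tensorMod_pullback_pullback j₁ j₂ _ _ h₁ h₂ (fun A₁ A₂ hA₁ hA₂ => ?_)
  have hA₁' : IsAffineOpen (U₁.ι ''ᵁ A₁) := hA₁.image_of_isOpenImmersion U₁.ι
  have hA₂' : IsAffineOpen (U₂.ι ''ᵁ A₂) := hA₂.image_of_isOpenImmersion U₂.ι
  have h1 := haff _ _ hA₁' hA₂' (Groth.Agent.Lib.Helper23.SecTw.image_le_self U₁ _)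
    (Groth.Agent.Lib.Helper23.SecTw.image_le_self U₂ _)
  have h2 := h1.preimage_of_isOpenImmersion W.ι (by
    rw [Scheme.Opens.opensRange_ι]; exact inf_le_right)
  have h3 : W.ι ⁻¹ᵁ (p₁ ⁻¹ᵁ (U₁.ι ''ᵁ A₁) ⊓ p₂ ⁻¹ᵁ (U₂.ι ''ᵁ A₂) ⊓ W) = j₁ ⁻¹ᵁ A₁ ⊓ j₂ ⁻¹ᵁ A₂ := by
    ext z
    have hz₁ : p₁ (W.ι z) = U₁.ι (j₁ z) := by
      rw [← Scheme.Hom.comp_apply, ← Scheme.Hom.comp_apply, hj₁]
    have hz₂ : p₂ (W.ι z) = U₂.ι (j₂ z) := by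
      rw [← Scheme.Hom.comp_apply, ← Scheme.Hom.comp_apply, hj₂]
    constructor
    · rintro ⟨⟨⟨y₁, hy₁, hyz₁⟩, ⟨y₂, hy₂, hyz₂⟩⟩, -⟩
      have e₁ : y₁ = j₁ z := U₁.ι.isOpenEmbedding.injective (hyz₁.trans hz₁)
      have e₂ : y₂ = j₂ z := U₂.ι.isOpenEmbedding.injective (hyz₂.trans hz₂)
      refine ⟨?_, ?_⟩
      · change j₁ z ∈ A₁
        rw [← e₁]; exact hy₁
      · change j₂ z ∈ A₂
        rw [← e₂]; exact hy₂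
    · rintro ⟨hz1, hz2⟩
      exact ⟨⟨⟨j₁ z, hz1, hz₁.symm⟩, ⟨j₂ z, hz2, hz₂.symm⟩⟩, z.2⟩
  rwa [h3] at h2

end Groth.Agent.Lib.Helper23.ExtTensor
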