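import Mathlib
import Groth.Prelude
import Groth.Agent.Lib.Helper23FFNorm
import Groth.Agent.Lib.Helper10RedInd
set_option backward.isDefEq.respectTransparency.types false

/-!
# Integral closed subschemes dominating an integral target (helper23)

Namespace `Groth.Agent.Lib.Helper23.FFNorm`.
-/

set_option autoImplicit false
universe u
open CategoryTheory Limits AlgebraicGeometry TopologicalSpace Opposite

namespace Groth.Agent.Lib.Helper23.FFNorm

open Scheme.IdealSheafData in
/-- for a finite surjective morphism onto an integral scheme there is an integral closed subscheme of the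
source which still surjects onto the target -/
theorem exists_integral_closed_surjective {X Y : Scheme.{u}} (π : X ⟶ Y) [IsFinite π] [Surjective π]
    [IsIntegral Y] : ∃ (X' : Scheme.{u}) (ι : X' ⟶ X), IsClosedImmersion ι ∧ IsIntegral X' ∧
      Surjective (ι ≫ π) := by
  obtain ⟨x, hx⟩ := π.surjective (genericPoint Y)
  let Z : Closeds X := ⟨closure {x}, isClosed_closure⟩
  let X' : Scheme.{u} := (vanishingIdeal Z).subscheme
  let ι : X' ⟶ X := (vanishingIdeal Z).subschemeι
  haveI : IsReduced X' := Groth.Agent.Lib.Helper10.RedInd.isReduced_subscheme_vanishingIdeal Z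
  have hrange : Set.range ι = closure {x} := by
    rw [range_subschemeι]
    exact coe_support_vanishingIdeal Z
  haveI : IrreducibleSpace X' := by
    have h1 : IsIrreducible ((vanishingIdeal Z).support : Set X) := by
      rw [coe_support_vanishingIdeal]
      exact isIrreducible_singleton.closure
    exact Subtype.irreducibleSpace h1
  haveI : IsIntegral X' := isIntegral_of_irreducibleSpace_of_isReduced X'
  refine ⟨X', ι, inferInstance, inferInstance, ?_⟩
  constructor
  intro y
  have hcl : IsClosed (π '' (closure {x})) := π.isClosedMap _ isClosed_closure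
  have hmem : genericPoint Y ∈ π '' (closure {x}) := ⟨x, subset_closure rfl, hx⟩
  have hy : y ∈ closure {genericPoint Y} := by
    rw [(genericPoint_spec Y).def]
    trivial
  have hy' : y ∈ π '' (closure {x}) :=
    (hcl.closure_subset_iff.2 (Set.singleton_subset_iff.2 hmem)) hy
  obtain ⟨x', hx', rfl⟩ := hy'
  rw [← hrange] at hx'
  obtain ⟨x'', rfl⟩ := hx'
  exact ⟨x'', rfl⟩

/-- a finite surjective morphism onto a normal integral scheme carries a norm after restriction to a
suitable integral closed subscheme of the source -/
theorem exists_closed_hasNorm {X Y : Scheme.{u}} (π : X ⟶ Y) [IsFinite π] [Surjective π]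
    [IsIntegral Y] (hY : Pi1.IsNormalScheme Y) : ∃ (X' : Scheme.{u}) (ι : X' ⟶ X) (d : ℕ),
      IsClosedImmersion ι ∧ Nrm.HasNorm (ι ≫ π) d := by
  obtain ⟨X', ι, h1, h2, h3⟩ := exists_integral_closed_surjective π
  obtain ⟨d, hd⟩ := hasNorm (ι ≫ π) hY
  exact ⟨X', ι, d, h1, hd⟩

end Groth.Agent.Lib.Helper23.FFNorm
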