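import Mathlib
import Groth.Agent.Lib.Helper23FPQuot
import Groth.Agent.Lib.Helper18DirImgColim
import Groth.Agent.S0484
import Groth.Agent.Lib.Helper23TensorQCoh

/-!
# Finite type quasi-coherent modules as directed colimits of finitely presented ones (helper23)

* `wellPowered_modules`; `Pft`, `JJ K` (small directed poset of finite type quasi-coherent subobjects of `K`), `sub`, `idx`
* `DDobj`, `DDπ`, `DDdesc`, `DDmap`, `DD ι₀ : JJ K ⥤ X.Modules` (quotients of `G₀` by the subobjects), `coconeι`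
* `exists_ge_mem`, `kappa`, `bijective_kappa`, `isIso_kappa`, `isColimitCocone`
* `exists_directed_colimit`
-/

set_option autoImplicit false
set_option backward.isDefEq.respectTransparency.types false
universe u
open CategoryTheory Limits AlgebraicGeometry TopologicalSpace Opposite

namespace Groth.Agent.Lib.Helper23.FPColim

open Groth.Agent.Lib.Helper23.QCohLocal Groth.Agent.Lib.Helper2.Push Groth.Agent.Lib.Helper2.QCoh
  Groth.Agent.Lib.Helper23.FinType Groth.Agent.Lib.Helper23.ModLocal Groth.Agent.Lib.Helper23.Extend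
  Groth.Agent.Lib.Helper23.ExtendFP Groth.Agent.Lib.Helper2.FPAff Groth.Agent.Lib.Helper2.FinPushFP
  Groth.Agent.Lib.Helper23.FPQuot Groth.Agent.Lib.Helper23.FTsub

variable {X : Scheme.{u}}

instance wellPowered_modules (X : Scheme.{u}) : WellPowered.{u} X.Modules := by
  haveI : IsGrothendieckAbelian.{u} X.Modules := Groth.Agent.S0484.result _ X.ringCatSheaf
  exact IsGrothendieckAbelian.wellPowered _

section Index

/-- finite type quasi-coherent subobjects -/
def Pft {K : X.Modules} (S : Subobject K) : Prop :=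
  (S : X.Modules).IsQuasicoherent ∧ SheafOfModules.IsFiniteType (R := X.ringCatSheaf) (S : X.Modules)

/-- the (large) poset of finite type quasi-coherent subobjects -/
abbrev J₀ (K : X.Modules) : Type (u + 1) := {S : Subobject K // Pft S}

instance (K : X.Modules) : Small.{u} (J₀ K) := small_subtype _ _

/-- the small poset of finite type quasi-coherent subobjects -/
def JJ (K : X.Modules) : Type u := Shrink.{u} (J₀ K)

noncomputable instance (K : X.Modules) : PartialOrder (JJ K) := inferInstanceAs (PartialOrder (Shrink.{u} (J₀ K)))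

/-- the subobject attached to an index -/
noncomputable def sub {K : X.Modules} (j : JJ K) : Subobject K := ((equivShrink.{u} (J₀ K)).symm j).1

theorem pft_sub {K : X.Modules} (j : JJ K) : Pft (sub j) := ((equivShrink.{u} (J₀ K)).symm j).2

theorem sub_mono {K : X.Modules} {j j' : JJ K} (h : j ≤ j') : sub j ≤ sub j' := h

/-- the index of a finite type quasi-coherent subobject -/
noncomputable def idx {K : X.Modules} (S : Subobject K) (hS : Pft S) : JJ K := equivShrink.{u} (J₀ K) ⟨S, hS⟩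

@[simp] theorem sub_idx {K : X.Modules} (S : Subobject K) (hS : Pft S) : sub (idx S hS) = S := by
  unfold sub idx
  rw [Equiv.symm_apply_apply]

theorem le_iff {K : X.Modules} {j j' : JJ K} : j ≤ j' ↔ sub j ≤ sub j' := Iff.rfl

theorem pft_mk {K C : X.Modules} (c : C ⟶ K) [Mono c] [hq : C.IsQuasicoherent]
    [hf : SheafOfModules.IsFiniteType (R := X.ringCatSheaf) C] : Pft (Subobject.mk c) := by
  have e : (Subobject.mk c : X.Modules) ≅ C := Subobject.underlyingIso c
  exact ⟨Groth.Agent.Lib.Helper23.TensorQCoh.isQuasicoherent_of_iso e.symm, isFiniteType_of_iso e.symm⟩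

end Index


section Directed

theorem exists_ge_ge {K : X.Modules} [K.IsQuasicoherent] (j₁ j₂ : JJ K) : ∃ j₃ : JJ K, j₁ ≤ j₃ ∧ j₂ ≤ j₃ := by
  obtain ⟨hq₁, hf₁⟩ := pft_sub j₁
  obtain ⟨hq₂, hf₂⟩ := pft_sub j₂
  obtain ⟨C, c, ia, ib, hc, hCq, hCf, hac, hbc⟩ :=
    exists_sup_sub K (sub j₁ : X.Modules) (sub j₂ : X.Modules) (sub j₁).arrow (sub j₂).arrow
  refine ⟨idx (Subobject.mk c) (pft_mk c), ?_, ?_⟩
  · rw [le_iff, sub_idx]
    exact Subobject.le_mk_of_comm ia hac
  · rw [le_iff, sub_idx]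
    exact Subobject.le_mk_of_comm ib hbc

instance {K : X.Modules} [K.IsQuasicoherent] : IsDirected (JJ K) (· ≤ ·) := ⟨fun j₁ j₂ => exists_ge_ge j₁ j₂⟩

theorem pft_bot (K : X.Modules) : Pft (⊥ : Subobject K) := by
  have hz : IsZero ((⊥ : Subobject K) : X.Modules) := (isZero_zero _).of_iso Subobject.botCoeIsoZero
  have h := isFP_of_isZero hz
  have := h.2
  exact ⟨h.1, inferInstance⟩

instance {K : X.Modules} : Nonempty (JJ K) := ⟨idx ⊥ (pft_bot K)⟩

end Directed

section Functor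
variable {K G₀ F : X.Modules} (ι₀ : K ⟶ G₀)

/-- the quotient of `G₀` by the image of the subobject of `K` of index `j` -/
noncomputable def DDobj (j : JJ K) : X.Modules := cokernel ((sub j).arrow ≫ ι₀)

/-- the quotient map -/
noncomputable def DDπ (j : JJ K) : G₀ ⟶ DDobj ι₀ j := cokernel.π ((sub j).arrow ≫ ι₀)

instance (j : JJ K) : Epi (DDπ ι₀ j) := inferInstanceAs (Epi (cokernel.π ((sub j).arrow ≫ ι₀)))

theorem DDπ_condition (j : JJ K) : (sub j).arrow ≫ ι₀ ≫ DDπ ι₀ j = 0 := by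
  rw [← Category.assoc]
  exact cokernel.condition ((sub j).arrow ≫ ι₀)

/-- maps out of the quotient -/
noncomputable def DDdesc (j : JJ K) {Z : X.Modules} (k : G₀ ⟶ Z) (hk : ι₀ ≫ k = 0) : DDobj ι₀ j ⟶ Z :=
  cokernel.desc ((sub j).arrow ≫ ι₀) k (by rw [Category.assoc, hk, comp_zero])

@[reassoc]
theorem DDπ_desc (j : JJ K) {Z : X.Modules} (k : G₀ ⟶ Z) (hk : ι₀ ≫ k = 0) :
    DDπ ι₀ j ≫ DDdesc ι₀ j k hk = k :=
  cokernel.π_desc _ _ _

/-- the transition maps -/
noncomputable def DDmap {j j' : JJ K} (h : j ≤ j') : DDobj ι₀ j ⟶ DDobj ι₀ j' :=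
  cokernel.desc ((sub j).arrow ≫ ι₀) (DDπ ι₀ j') (by
    have h1 : (sub j).arrow = Subobject.ofLE (sub j) (sub j') (sub_mono h) ≫ (sub j').arrow :=
      (Subobject.ofLE_arrow _).symm
    rw [h1, Category.assoc, Category.assoc, DDπ_condition, comp_zero])

@[reassoc]
theorem DDπ_map {j j' : JJ K} (h : j ≤ j') : DDπ ι₀ j ≫ DDmap ι₀ h = DDπ ι₀ j' :=
  cokernel.π_desc _ _ _

instance {j j' : JJ K} (h : j ≤ j') : Epi (DDmap ι₀ h) := epi_of_epi_fac (DDπ_map ι₀ h)

/-- the diagram of quotients of `G₀` by the finite type quasi-coherent subobjects of `K` -/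
noncomputable def DD : JJ K ⥤ X.Modules where
  obj j := DDobj ι₀ j
  map {j j'} h := DDmap ι₀ (leOfHom h)
  map_id j := by
    rw [← cancel_epi (DDπ ι₀ j), DDπ_map, Category.comp_id]
  map_comp {j j' j''} h h' := by
    rw [← cancel_epi (DDπ ι₀ j), DDπ_map, DDπ_map_assoc, DDπ_map]

variable (ψ₀ : G₀ ⟶ F) (w : ι₀ ≫ ψ₀ = 0)

/-- the cocone over `F` -/
noncomputable def coconeι : DD ι₀ ⟶ (Functor.const (JJ K)).obj F where
  app j := DDdesc ι₀ j ψ₀ w
  naturality j j' h := by
    change DDmap ι₀ (leOfHom h) ≫ DDdesc ι₀ j' ψ₀ w = DDdesc ι₀ j ψ₀ w ≫ 𝟙 F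
    rw [← cancel_epi (DDπ ι₀ j), DDπ_map_assoc, DDπ_desc, DDπ_desc_assoc, Category.comp_id]

theorem isFP_DDobj [G₀.IsQuasicoherent] [SheafOfModules.IsFinitePresentation (R := X.ringCatSheaf) G₀]
    (j : JJ K) : (DDobj ι₀ j).IsQuasicoherent ∧
      SheafOfModules.IsFinitePresentation (R := X.ringCatSheaf) (DDobj ι₀ j) := by
  obtain ⟨hq, hf⟩ := pft_sub j
  exact isFP_cokernel ((sub j).arrow ≫ ι₀)

end Functor


section Colim
open Groth.Agent.Lib.Helper18.DirImgColim

theorem val_app_eq {A B : X.Modules} (φ : A ⟶ B) (U : X.Opens) (x : Γ(A, U)) :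
    (φ.val.app (op U)).hom x = φ.app U x := rfl

variable [CompactSpace X] [QuasiSeparatedSpace X] {G₀ F : X.Modules} (ψ₀ : G₀ ⟶ F) [Epi ψ₀]
  [G₀.IsQuasicoherent] [SheafOfModules.IsFinitePresentation (R := X.ringCatSheaf) G₀] [F.IsQuasicoherent]

/-- every section of the kernel over an affine open lies in a larger finite type quasi-coherent subobject -/
theorem exists_ge_mem {K : X.Modules} [K.IsQuasicoherent] (j : JJ K) {U : X.Opens} (hU : IsAffineOpen U)
    (k : Γ(K, U)) : ∃ (j' : JJ K) (_ : j ≤ j') (k' : Γ((sub j' : X.Modules), U)), (sub j').arrow.app U k' = k := by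
  obtain ⟨hq, hf⟩ := pft_sub j
  obtain ⟨K', i, hi, hq', hf', hmem⟩ := exists_ft_sub_list K ⟨⟨U, hU⟩, k⟩ []
  obtain ⟨g', hg'⟩ := hmem ⟨⟨U, hU⟩, k⟩ (List.mem_singleton.2 rfl)
  have := hq'
  have := hf'
  obtain ⟨C, c, ia, ib, hc, hCq, hCf, hac, hbc⟩ := exists_sup_sub K (sub j : X.Modules) K' (sub j).arrow i
  have := hc
  have := hCq
  have := hCf
  refine ⟨idx (Subobject.mk c) (pft_mk c), ?_, ?_⟩
  · rw [le_iff, sub_idx]
    exact Subobject.le_mk_of_comm ia hac
  · rw [sub_idx]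
    refine ⟨(Subobject.underlyingIso c).inv.app U (ib.app U g'), ?_⟩
    have h1 : (Subobject.underlyingIso c).inv ≫ (Subobject.mk c).arrow = c := Subobject.underlyingIso_arrow c
    have h2 := congrArg (fun φ : C ⟶ K => φ.app U (ib.app U g')) h1
    rw [Scheme.Modules.Hom.comp_app] at h2
    have h3 := congrArg (fun φ : K' ⟶ K => φ.app U g') hbc
    rw [Scheme.Modules.Hom.comp_app] at h3
    exact h2.trans (h3.trans hg')

/-- the comparison map from the colimit of the quotients to `F` -/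
noncomputable def kappa : colimit (DD (kernel.ι ψ₀)) ⟶ F :=
  colimit.desc (DD (kernel.ι ψ₀)) ⟨F, coconeι (kernel.ι ψ₀) ψ₀ (kernel.condition ψ₀)⟩

/-- the colimit inclusions, with domain written as `DDobj` -/
noncomputable def DDι (j : JJ (kernel ψ₀)) : DDobj (kernel.ι ψ₀) j ⟶ colimit (DD (kernel.ι ψ₀)) :=
  colimit.ι (DD (kernel.ι ψ₀)) j

theorem ι_kappa (j : JJ (kernel ψ₀)) :
    DDι ψ₀ j ≫ kappa ψ₀ = DDdesc (kernel.ι ψ₀) j ψ₀ (kernel.condition ψ₀) :=
  colimit.ι_desc _ _

theorem π_ι_kappa (j : JJ (kernel ψ₀)) :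
    DDπ (kernel.ι ψ₀) j ≫ DDι ψ₀ j ≫ kappa ψ₀ = ψ₀ := by
  rw [ι_kappa, DDπ_desc]

theorem DDmap_ι {j j' : JJ (kernel ψ₀)} (h : j ≤ j') : DDmap (kernel.ι ψ₀) h ≫ DDι ψ₀ j' = DDι ψ₀ j :=
  colimit.w (DD (kernel.ι ψ₀)) (homOfLE h)

theorem bijective_kappa {U : X.Opens} (hU : IsAffineOpen U) : Function.Bijective ((kappa ψ₀).app U) := by
  haveI hKq : (kernel ψ₀).IsQuasicoherent := isQuasicoherent_kernel ψ₀
  have hqc := qc2_of_isAffineOpen U hU
  constructor
  · rw [injective_iff_map_eq_zero]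
    intro t ht
    obtain ⟨j, y, hy⟩ := colim_surj (DD (kernel.ι ψ₀)) U hqc (colimit.cocone _) (colimit.isColimit _) t
    have hy' : (DDι ψ₀ j).app U y = t := hy
    have hDq := (isFP_DDobj (kernel.ι ψ₀) j).1
    obtain ⟨g, hg⟩ := surjective_app_of_epi (DDπ (kernel.ι ψ₀) j) hU y
    have h0 : ψ₀.app U g = 0 := by
      have h1 := congrArg (fun φ : G₀ ⟶ F => φ.app U g) (π_ι_kappa ψ₀ j)
      simp only [Scheme.Modules.Hom.comp_app] at h1
      have h2 : ψ₀.app U g = (kappa ψ₀).app U ((DDι ψ₀ j).app U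
          ((DDπ (kernel.ι ψ₀) j).app U g)) := h1.symm
      rw [h2, hg, hy', ht]
    let S : ShortComplex X.Modules := ShortComplex.mk (kernel.ι ψ₀) ψ₀ (kernel.condition ψ₀)
    have hS : S.Exact := ShortComplex.exact_kernel ψ₀
    have hmono : Mono S.f := inferInstanceAs (Mono (kernel.ι ψ₀))
    obtain ⟨k, hk⟩ := exists_of_app_eq_zero S hS U g h0
    have hk' : (kernel.ι ψ₀).app U k = g := hk
    obtain ⟨j', hle, k', hk''⟩ := exists_ge_mem j hU k
    have hzero : (DDmap (kernel.ι ψ₀) hle).app U y = 0 := by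
      have h1 := congrArg (fun φ : G₀ ⟶ DDobj (kernel.ι ψ₀) j' => φ.app U g) (DDπ_map (kernel.ι ψ₀) hle)
      simp only [Scheme.Modules.Hom.comp_app] at h1
      have h1' : (DDmap (kernel.ι ψ₀) hle).app U ((DDπ (kernel.ι ψ₀) j).app U g) =
          (DDπ (kernel.ι ψ₀) j').app U g := h1
      rw [hg] at h1'
      rw [h1', ← hk', ← hk'']
      have h2 := congrArg (fun φ : (sub j' : X.Modules) ⟶ DDobj (kernel.ι ψ₀) j' => φ.app U k')
        (DDπ_condition (kernel.ι ψ₀) j')
      simp only [Scheme.Modules.Hom.comp_app] at h2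
      exact h2
    have h3 := congrArg (fun φ : DDobj (kernel.ι ψ₀) j ⟶ colimit (DD (kernel.ι ψ₀)) => φ.app U y)
      (DDmap_ι ψ₀ hle)
    simp only [Scheme.Modules.Hom.comp_app] at h3
    have h3' : (DDι ψ₀ j').app U ((DDmap (kernel.ι ψ₀) hle).app U y) = (DDι ψ₀ j).app U y := h3
    rw [← hy', ← h3', hzero]
    exact map_zero _
  · intro s
    obtain ⟨g, hg⟩ := surjective_app_of_epi ψ₀ hU s
    let j : JJ (kernel ψ₀) := Classical.arbitrary _
    refine ⟨(DDι ψ₀ j).app U ((DDπ (kernel.ι ψ₀) j).app U g), ?_⟩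
    have h1 := congrArg (fun φ : G₀ ⟶ F => φ.app U g) (π_ι_kappa ψ₀ j)
    simp only [Scheme.Modules.Hom.comp_app] at h1
    exact h1.trans hg


theorem isIso_kappa : IsIso (kappa ψ₀) := by
  refine isIso_of_bijective_on_basis (kappa ψ₀) (fun U : X.affineOpens => (U : X.Opens)) ?_ (fun U => ?_)
  · have : Set.range (fun U : X.affineOpens => (U : X.Opens)) = X.affineOpens := Subtype.range_coe
    rw [this]
    exact X.isBasis_affineOpens
  · exact bijective_kappa ψ₀ U.2

/-- the cocone of quotients over `F` is a colimit cocone -/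
noncomputable def isColimitCocone :
    IsColimit (Cocone.mk F (coconeι (kernel.ι ψ₀) ψ₀ (kernel.condition ψ₀))) := by
  haveI : IsIso ((colimit.isColimit (DD (kernel.ι ψ₀))).desc
      (Cocone.mk F (coconeι (kernel.ι ψ₀) ψ₀ (kernel.condition ψ₀)))) := isIso_kappa ψ₀
  exact IsColimit.ofPointIso (colimit.isColimit (DD (kernel.ι ψ₀)))

omit [Epi ψ₀] [G₀.IsQuasicoherent] [SheafOfModules.IsFinitePresentation (R := X.ringCatSheaf) G₀]
  [F.IsQuasicoherent] in
/-- **Stacks 01PL-type**: on a qcqs scheme, a finite type quasi-coherent module is a directed colimit of finitely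
presented modules with surjective transition maps. -/
theorem exists_directed_colimit (F : X.Modules) [F.IsQuasicoherent]
    [SheafOfModules.IsFiniteType (R := X.ringCatSheaf) F] :
    ∃ (J : Type u) (_ : PartialOrder J) (_ : IsDirected J (· ≤ ·)) (_ : Nonempty J) (D : J ⥤ X.Modules)
      (ι : D ⟶ (Functor.const J).obj F), Nonempty (IsColimit (Cocone.mk F ι)) ∧
      (∀ j, SheafOfModules.IsFinitePresentation (R := X.ringCatSheaf) (D.obj j)) ∧
      ∀ (j j' : J) (h : j ⟶ j'), Epi (D.map h) := by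
  obtain ⟨G₀, ψ₀, hq₀, hfp₀, hepi⟩ := exists_fp_epi F
  haveI := hq₀
  haveI := hfp₀
  haveI := hepi
  haveI hKq : (kernel ψ₀).IsQuasicoherent := isQuasicoherent_kernel ψ₀
  refine ⟨JJ (kernel ψ₀), inferInstance, inferInstance, inferInstance, DD (kernel.ι ψ₀),
    coconeι (kernel.ι ψ₀) ψ₀ (kernel.condition ψ₀), ⟨isColimitCocone ψ₀⟩, fun j => ?_, fun j j' h => ?_⟩
  · exact (isFP_DDobj (kernel.ι ψ₀) j).2
  · exact inferInstanceAs (Epi (DDmap (kernel.ι ψ₀) (leOfHom h)))


end Colim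

end Groth.Agent.Lib.Helper23.FPColim
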