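import Mathlib
import Groth.Agent.Lib.Helper23FPColim

/-!
# Quasi-coherent modules on qcqs schemes as filtered colimits of finitely presented ones (helper23)

* `appAddHom`, `sum_app`, `biproduct_total'`, `bijective_biproduct_sections`, `isQuasicoherent_biproduct'`, `isFP_biproduct`
  (finite biproducts indexed by a `Fintype` in `Type u`)
* `exists_ge_factor`
* `Gα`, `ψα`, `φα` (chosen f.p. covers of the f.t. qcoh subobjects of `F`), `GT`, `φT`, `incl`
* `II F` (directed preorder of pairs), `DobjI`, `πI`, `mapI`, `DI`, `coconeI`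
* `kappaI`, `bijective_kappaI`, `isIso_kappaI`, `isColimitCoconeI`, `exists_filtered_colimit`
-/

set_option autoImplicit false
set_option backward.isDefEq.respectTransparency.types false
universe u
open CategoryTheory Limits AlgebraicGeometry TopologicalSpace Opposite

namespace Groth.Agent.Lib.Helper23.FPColim

open Groth.Agent.Lib.Helper23.QCohLocal Groth.Agent.Lib.Helper2.Push Groth.Agent.Lib.Helper2.QCoh
  Groth.Agent.Lib.Helper23.FinType Groth.Agent.Lib.Helper23.ModLocal Groth.Agent.Lib.Helper23.Extend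
  Groth.Agent.Lib.Helper23.ExtendFP Groth.Agent.Lib.Helper2.FPAff Groth.Agent.Lib.Helper2.FinPushFP
  Groth.Agent.Lib.Helper23.FPQuot Groth.Agent.Lib.Helper23.FTsub

variable {X : Scheme.{u}}

section Biproduct

/-- evaluation of morphisms at a section, as an additive map -/
noncomputable def appAddHom {A B : X.Modules} (W : X.Opens) (s : Γ(A, W)) : (A ⟶ B) →+ Γ(B, W) where
  toFun φ := φ.app W s
  map_zero' := rfl
  map_add' φ ψ := by rw [Scheme.Modules.Hom.add_app]; rfl

theorem sum_app {A B : X.Modules} {ι : Type*} (t : Finset ι) (φ : ι → (A ⟶ B)) (W : X.Opens) (s : Γ(A, W)) :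
    (∑ a ∈ t, φ a).app W s = ∑ a ∈ t, (φ a).app W s :=
  map_sum (appAddHom W s) φ t

variable {ι : Type u} [Fintype ι] (f : ι → X.Modules)

theorem biproduct_total' : (∑ a : ι, biproduct.π f a ≫ biproduct.ι f a) = 𝟙 (⨁ f : X.Modules) := by
  classical
  apply biproduct.hom_ext
  intro b
  rw [Preadditive.sum_comp, Category.id_comp]
  rw [Finset.sum_eq_single b]
  · rw [Category.assoc, biproduct.ι_π_self, Category.comp_id]
  · intro a _ hab
    rw [Category.assoc, biproduct.ι_π_ne f hab, comp_zero]
  · intro hb; exact absurd (Finset.mem_univ b) hb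

/-- sections of a finite biproduct -/
theorem bijective_biproduct_sections (W : X.Opens) :
    Function.Bijective (LinearMap.pi (fun a => appₗ (biproduct.π f a) W) :
      Γ((⨁ f : X.Modules), W) →ₗ[Γ(X, W)] ((a : ι) → Γ(f a, W))) := by
  classical
  constructor
  · rw [injective_iff_map_eq_zero]
    intro s hs
    have h1 : (∑ a : ι, biproduct.π f a ≫ biproduct.ι f a) = 𝟙 (⨁ f : X.Modules) := biproduct_total' f
    have h2 := congrArg (fun φ : (⨁ f : X.Modules) ⟶ (⨁ f : X.Modules) => φ.app W s) h1
    simp only [sum_app, Scheme.Modules.Hom.comp_app, Scheme.Modules.Hom.id_app] at h2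
    have h3 : ∀ a, (biproduct.π f a).app W s = 0 := fun a => congrFun hs a
    have h4 : s = ∑ a : ι, (biproduct.ι f a).app W ((biproduct.π f a).app W s) := h2.symm
    rw [h4]
    refine Finset.sum_eq_zero (fun a _ => ?_)
    rw [h3 a, map_zero]
  · intro v
    refine ⟨∑ a : ι, (biproduct.ι f a).app W (v a), ?_⟩
    funext b
    change (biproduct.π f b).app W (∑ a : ι, (biproduct.ι f a).app W (v a)) = v b
    rw [map_sum]
    rw [Finset.sum_eq_single b]
    · have := congrArg (fun φ : f b ⟶ f b => φ.app W (v b)) (biproduct.ι_π_self f b)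
      rw [Scheme.Modules.Hom.comp_app, Scheme.Modules.Hom.id_app] at this
      exact this
    · intro a _ hab
      have := congrArg (fun φ : f a ⟶ f b => φ.app W (v a)) (biproduct.ι_π_ne f hab)
      rw [Scheme.Modules.Hom.comp_app] at this
      exact this
    · intro hb; exact absurd (Finset.mem_univ b) hb

theorem isQuasicoherent_biproduct' (hf : ∀ a, (f a).IsQuasicoherent) : (⨁ f : X.Modules).IsQuasicoherent := by
  have h := isQuasicoherent_colimit (Discrete.functor f) (fun j => hf j.as)
  exact Groth.Agent.Lib.Helper23.TensorQCoh.isQuasicoherent_of_iso (biproduct.isoCoproduct f).symm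

/-- a finite direct sum of finitely presented quasi-coherent modules is finitely presented -/
theorem isFP_biproduct (hf : ∀ a, (f a).IsQuasicoherent)
    (hfp : ∀ a, SheafOfModules.IsFinitePresentation (R := X.ringCatSheaf) (f a)) :
    (⨁ f : X.Modules).IsQuasicoherent ∧
      SheafOfModules.IsFinitePresentation (R := X.ringCatSheaf) (⨁ f : X.Modules) := by
  have hq := isQuasicoherent_biproduct' f hf
  refine ⟨hq, isFP_of_fpOn_top (⨁ f : X.Modules) (fun W hW _ => ?_)⟩
  have : ∀ a, Module.FinitePresentation Γ(X, W) Γ(f a, W) := fun a => by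
    have := hf a
    have := hfp a
    exact finitePresentation_sections (f a) hW
  exact Module.FinitePresentation.of_equiv (LinearEquiv.ofBijective _ (bijective_biproduct_sections f W)).symm

end Biproduct


section Factor

/-- a map from a finite type quasi-coherent module into `K` factors through a larger finite type quasi-coherent
subobject -/
theorem exists_ge_factor {K : X.Modules} [K.IsQuasicoherent] (j : JJ K) {A : X.Modules} [A.IsQuasicoherent]
    [SheafOfModules.IsFiniteType (R := X.ringCatSheaf) A] (m : A ⟶ K) :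
    ∃ (j' : JJ K) (_ : j ≤ j') (r : A ⟶ (sub j' : X.Modules)), r ≫ (sub j').arrow = m := by
  obtain ⟨hq, hf⟩ := pft_sub j
  obtain ⟨C, c, ia, ib, hc, hCq, hCf, hac, hbc⟩ := exists_sup_sub K (sub j : X.Modules) A (sub j).arrow m
  have := hc
  have := hCq
  have := hCf
  refine ⟨idx (Subobject.mk c) (pft_mk c), ?_, ?_⟩
  · rw [le_iff, sub_idx]
    exact Subobject.le_mk_of_comm ia hac
  · rw [sub_idx]
    refine ⟨ib ≫ (Subobject.underlyingIso c).inv, ?_⟩
    rw [Category.assoc, Subobject.underlyingIso_arrow, hbc]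

/-- the arrow of a smaller index factors through the arrow of a larger one -/
theorem ofLE_arrow' {K : X.Modules} {j j' : JJ K} (h : j ≤ j') :
    Subobject.ofLE (sub j) (sub j') (sub_mono h) ≫ (sub j').arrow = (sub j).arrow :=
  Subobject.ofLE_arrow _

end Factor

section Data
variable [CompactSpace X] [QuasiSeparatedSpace X] (F : X.Modules) [F.IsQuasicoherent]

theorem exists_cover (α : JJ F) : ∃ (G : X.Modules) (ψ : G ⟶ (sub α : X.Modules)), G.IsQuasicoherent ∧
    SheafOfModules.IsFinitePresentation (R := X.ringCatSheaf) G ∧ Epi ψ := by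
  obtain ⟨hq, hf⟩ := pft_sub α
  exact exists_fp_epi (sub α : X.Modules)

/-- the chosen finitely presented cover of the subobject of index `α` -/
noncomputable def Gα (α : JJ F) : X.Modules := (exists_cover F α).choose

noncomputable def ψα (α : JJ F) : Gα F α ⟶ (sub α : X.Modules) := (exists_cover F α).choose_spec.choose

instance (α : JJ F) : (Gα F α).IsQuasicoherent := (exists_cover F α).choose_spec.choose_spec.1

instance (α : JJ F) : SheafOfModules.IsFinitePresentation (R := X.ringCatSheaf) (Gα F α) :=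
  (exists_cover F α).choose_spec.choose_spec.2.1

instance (α : JJ F) : Epi (ψα F α) := (exists_cover F α).choose_spec.choose_spec.2.2

/-- the map to `F` -/
noncomputable def φα (α : JJ F) : Gα F α ⟶ F := ψα F α ≫ (sub α).arrow

/-- the direct sum of the chosen covers over a finite set of indices -/
noncomputable def GT (T : Finset (JJ F)) : X.Modules := ⨁ (fun a : T => Gα F a.1)

noncomputable def φT (T : Finset (JJ F)) : GT F T ⟶ F := biproduct.desc (fun a : T => φα F a.1)

noncomputable def ιT (T : Finset (JJ F)) (a : T) : Gα F a.1 ⟶ GT F T := biproduct.ι (fun a : T => Gα F a.1) a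

@[reassoc]
theorem ιT_φT (T : Finset (JJ F)) (a : T) : ιT F T a ≫ φT F T = φα F a.1 := biproduct.ι_desc _ _

theorem GT_hom_ext {T : Finset (JJ F)} {Z : X.Modules} (g h : GT F T ⟶ Z)
    (w : ∀ a : T, ιT F T a ≫ g = ιT F T a ≫ h) : g = h := biproduct.hom_ext' _ _ w

/-- the inclusion of direct sums attached to an inclusion of finite sets -/
noncomputable def incl {T T' : Finset (JJ F)} (h : T ⊆ T') : GT F T ⟶ GT F T' :=
  biproduct.desc (fun a : T => ιT F T' ⟨a.1, h a.2⟩)

@[reassoc]
theorem ιT_incl {T T' : Finset (JJ F)} (h : T ⊆ T') (a : T) : ιT F T a ≫ incl F h = ιT F T' ⟨a.1, h a.2⟩ :=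
  biproduct.ι_desc _ _

@[reassoc]
theorem incl_φT {T T' : Finset (JJ F)} (h : T ⊆ T') : incl F h ≫ φT F T' = φT F T := by
  apply GT_hom_ext
  intro a
  rw [ιT_incl_assoc, ιT_φT, ιT_φT]

@[reassoc]
theorem incl_comp {T T' T'' : Finset (JJ F)} (h : T ⊆ T') (h' : T' ⊆ T'') :
    incl F h ≫ incl F h' = incl F (h.trans h') := by
  apply GT_hom_ext
  intro a
  rw [ιT_incl_assoc, ιT_incl, ιT_incl]

theorem incl_refl (T : Finset (JJ F)) : incl F (Finset.Subset.refl T) = 𝟙 _ := by
  apply GT_hom_ext
  intro a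
  rw [ιT_incl, Category.comp_id]

theorem isFP_GT (T : Finset (JJ F)) : (GT F T).IsQuasicoherent ∧
    SheafOfModules.IsFinitePresentation (R := X.ringCatSheaf) (GT F T) :=
  isFP_biproduct (fun a : T => Gα F a.1) (fun a => inferInstance) (fun a => inferInstance)

instance (T : Finset (JJ F)) : (GT F T).IsQuasicoherent := (isFP_GT F T).1

instance (T : Finset (JJ F)) : SheafOfModules.IsFinitePresentation (R := X.ringCatSheaf) (GT F T) := (isFP_GT F T).2

instance (T : Finset (JJ F)) : (kernel (φT F T)).IsQuasicoherent := isQuasicoherent_kernel _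

end Data


section Idx
variable [CompactSpace X] [QuasiSeparatedSpace X] (F : X.Modules) [F.IsQuasicoherent]

/-- the index set: a finite set `T` of finite type quasi-coherent subobjects of `F` and a finite type quasi-coherent
subobject of the kernel of `G_T ⟶ F` -/
structure II : Type u where
  T : Finset (JJ F)
  β : JJ (kernel (φT F T))

variable {F}

/-- the finitely presented module attached to an index -/
noncomputable def DobjI (i : II F) : X.Modules := DDobj (kernel.ι (φT F i.T)) i.β

noncomputable def πI (i : II F) : GT F i.T ⟶ DobjI i := DDπ (kernel.ι (φT F i.T)) i.β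

instance (i : II F) : Epi (πI i) := inferInstanceAs (Epi (DDπ (kernel.ι (φT F i.T)) i.β))

theorem πI_condition (i : II F) : (sub i.β).arrow ≫ kernel.ι (φT F i.T) ≫ πI i = 0 :=
  DDπ_condition (kernel.ι (φT F i.T)) i.β

/-- the composite `K'_β ⟶ K_T ⟶ G_T` -/
noncomputable def κI (i : II F) : (sub i.β : X.Modules) ⟶ GT F i.T := (sub i.β).arrow ≫ kernel.ι (φT F i.T)

@[reassoc]
theorem κI_πI (i : II F) : κI i ≫ πI i = 0 := by
  unfold κI; rw [Category.assoc]; exact πI_condition i

/-- the map to `F` -/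
noncomputable def descI (i : II F) : DobjI i ⟶ F :=
  DDdesc (kernel.ι (φT F i.T)) i.β (φT F i.T) (kernel.condition _)

@[reassoc]
theorem πI_descI (i : II F) : πI i ≫ descI i = φT F i.T := DDπ_desc _ _ _ _

theorem isFP_DobjI (i : II F) : (DobjI i).IsQuasicoherent ∧
    SheafOfModules.IsFinitePresentation (R := X.ringCatSheaf) (DobjI i) :=
  isFP_DDobj (kernel.ι (φT F i.T)) i.β

instance (i : II F) : (DobjI i).IsQuasicoherent := (isFP_DobjI i).1

/-- the order relation: inclusion of the finite sets, and the subobject of the kernel dies in the target quotient -/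
def LE' (i i' : II F) : Prop :=
  ∃ h : i.T ⊆ i'.T, κI i ≫ incl F h ≫ πI i' = 0

theorem LE'.subset {i i' : II F} (h : LE' i i') : i.T ⊆ i'.T := by
  obtain ⟨h1, -⟩ := h; exact h1

theorem LE'.zero {i i' : II F} (h : LE' i i') : κI i ≫ incl F h.subset ≫ πI i' = 0 := by
  obtain ⟨h1, h2⟩ := h; exact h2

/-- the transition maps -/
noncomputable def mapI {i i' : II F} (h : LE' i i') : DobjI i ⟶ DobjI i' :=
  cokernel.desc ((sub i.β).arrow ≫ kernel.ι (φT F i.T)) (incl F h.subset ≫ πI i') h.zero

@[reassoc]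
theorem πI_mapI {i i' : II F} (h : LE' i i') : πI i ≫ mapI h = incl F h.subset ≫ πI i' :=
  cokernel.π_desc _ _ _

theorem LE'.refl (i : II F) : LE' i i :=
  ⟨Finset.Subset.refl _, by rw [incl_refl, Category.id_comp]; exact κI_πI i⟩

theorem LE'.trans {i i' i'' : II F} (h : LE' i i') (h' : LE' i' i'') : LE' i i'' := by
  refine ⟨h.subset.trans h'.subset, ?_⟩
  have e1 : incl F (h.subset.trans h'.subset) ≫ πI i'' = incl F h.subset ≫ πI i' ≫ mapI h' := by
    rw [πI_mapI, ← incl_comp_assoc]
  have e2 : κI i ≫ incl F h.subset ≫ πI i' = 0 := h.zero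
  rw [e1, ← Category.assoc (incl F _), ← Category.assoc (κI i), e2, zero_comp]

noncomputable instance : Preorder (II F) where
  le := LE'
  le_refl := LE'.refl
  le_trans _ _ _ := LE'.trans

theorem le_def {i i' : II F} : i ≤ i' ↔ LE' i i' := Iff.rfl

theorem mk_le_mk {T : Finset (JJ F)} {β β' : JJ (kernel (φT F T))} (h : β ≤ β') :
    (⟨T, β⟩ : II F) ≤ ⟨T, β'⟩ := by
  refine ⟨Finset.Subset.refl _, ?_⟩
  rw [incl_refl, Category.id_comp]
  have e : (sub β).arrow = Subobject.ofLE (sub β) (sub β') (sub_mono h) ≫ (sub β').arrow := (ofLE_arrow' h).symm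
  change ((sub β).arrow ≫ kernel.ι (φT F T)) ≫ πI ⟨T, β'⟩ = 0
  rw [e, Category.assoc, Category.assoc]
  have := πI_condition (⟨T, β'⟩ : II F)
  change (sub β').arrow ≫ kernel.ι (φT F T) ≫ πI ⟨T, β'⟩ = 0 at this
  rw [this, comp_zero]

/-- the diagram of finitely presented modules -/
noncomputable def DI : II F ⥤ X.Modules where
  obj i := DobjI i
  map {i i'} h := mapI (leOfHom h)
  map_id i := by
    rw [← cancel_epi (πI i), πI_mapI, Category.comp_id]
    have : incl F (LE'.subset (leOfHom (𝟙 i))) = 𝟙 _ := incl_refl F i.T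
    rw [this, Category.id_comp]
  map_comp {i i' i''} h h' := by
    rw [← cancel_epi (πI i), πI_mapI, πI_mapI_assoc, πI_mapI, ← incl_comp_assoc]

/-- the cocone over `F` -/
noncomputable def coconeI : DI (F := F) ⟶ (Functor.const (II F)).obj F where
  app i := descI i
  naturality i i' h := by
    change mapI (leOfHom h) ≫ descI i' = descI i ≫ 𝟙 F
    rw [← cancel_epi (πI i), πI_mapI_assoc, πI_descI, πI_descI_assoc, incl_φT, Category.comp_id]

theorem le_mk_of_factor {i : II F} {T : Finset (JJ F)} (h : i.T ⊆ T) (β : JJ (kernel (φT F T)))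
    (r : (sub i.β : X.Modules) ⟶ (sub β : X.Modules))
    (hr : r ≫ (sub β).arrow ≫ kernel.ι (φT F T) = κI i ≫ incl F h) : i ≤ ⟨T, β⟩ := by
  refine ⟨h, ?_⟩
  have h1 : κI i ≫ incl F h ≫ πI ⟨T, β⟩ = (κI i ≫ incl F h) ≫ πI ⟨T, β⟩ := (Category.assoc _ _ _).symm
  rw [h1, ← hr, Category.assoc, Category.assoc]
  have := πI_condition (⟨T, β⟩ : II F)
  change (sub β).arrow ≫ kernel.ι (φT F T) ≫ πI ⟨T, β⟩ = 0 at this
  rw [this, comp_zero]

/-- the map `K'_β ⟶ K_T` induced by an inclusion of finite sets -/
noncomputable def liftK (i : II F) {T : Finset (JJ F)} (h : i.T ⊆ T) :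
    (sub i.β : X.Modules) ⟶ kernel (φT F T) :=
  kernel.lift (φT F T) (κI i ≫ incl F h) (by
    rw [Category.assoc, incl_φT]
    unfold κI
    rw [Category.assoc, kernel.condition, comp_zero])

theorem liftK_ι (i : II F) {T : Finset (JJ F)} (h : i.T ⊆ T) :
    liftK i h ≫ kernel.ι (φT F T) = κI i ≫ incl F h := kernel.lift_ι _ _ _

theorem exists_ge_ge_I (i₁ i₂ : II F) : ∃ i₃ : II F, i₁ ≤ i₃ ∧ i₂ ≤ i₃ := by
  classical
  let T : Finset (JJ F) := i₁.T ∪ i₂.T
  have h₁ : i₁.T ⊆ T := Finset.subset_union_left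
  have h₂ : i₂.T ⊆ T := Finset.subset_union_right
  obtain ⟨hq₁, hf₁⟩ := pft_sub i₁.β
  obtain ⟨hq₂, hf₂⟩ := pft_sub i₂.β
  let β₀ : JJ (kernel (φT F T)) := Classical.arbitrary _
  obtain ⟨β₁, -, r₁, hr₁⟩ := exists_ge_factor β₀ (liftK i₁ h₁)
  obtain ⟨β₂, hle, r₂, hr₂⟩ := exists_ge_factor β₁ (liftK i₂ h₂)
  refine ⟨⟨T, β₂⟩, ?_, ?_⟩
  · refine le_mk_of_factor h₁ β₂ (r₁ ≫ Subobject.ofLE (sub β₁) (sub β₂) (sub_mono hle)) ?_
    rw [Category.assoc, ← Category.assoc (Subobject.ofLE _ _ _), ofLE_arrow' hle, ← Category.assoc, hr₁, liftK_ι]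
  · refine le_mk_of_factor h₂ β₂ r₂ ?_
    rw [← Category.assoc, hr₂, liftK_ι]

instance : IsDirected (II F) (· ≤ ·) := ⟨exists_ge_ge_I⟩

instance : Nonempty (II F) := ⟨⟨∅, Classical.arbitrary _⟩⟩


end Idx


section ColimI
open Groth.Agent.Lib.Helper18.DirImgColim
variable [CompactSpace X] [QuasiSeparatedSpace X] (F : X.Modules) [F.IsQuasicoherent]

/-- the comparison map from the colimit to `F` -/
noncomputable def kappaI : colimit (DI (F := F)) ⟶ F := colimit.desc (DI (F := F)) ⟨F, coconeI⟩

variable {F}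

/-- the colimit inclusions -/
noncomputable def ιI (i : II F) : DobjI i ⟶ colimit (DI (F := F)) := colimit.ι (DI (F := F)) i

theorem ιI_kappaI (i : II F) : ιI i ≫ kappaI F = descI i := colimit.ι_desc _ _

theorem πI_ιI_kappaI (i : II F) : πI i ≫ ιI i ≫ kappaI F = φT F i.T := by
  rw [ιI_kappaI, πI_descI]

theorem mapI_ιI {i i' : II F} (h : i ≤ i') : mapI h ≫ ιI i' = ιI i :=
  colimit.w (DI (F := F)) (homOfLE h)

variable (F)

theorem bijective_kappaI {U : X.Opens} (hU : IsAffineOpen U) : Function.Bijective ((kappaI F).app U) := by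
  have hqc := qc2_of_isAffineOpen U hU
  constructor
  · rw [injective_iff_map_eq_zero]
    intro t ht
    obtain ⟨i, y, hy⟩ := colim_surj (DI (F := F)) U hqc (colimit.cocone _) (colimit.isColimit _) t
    have hy' : (ιI i).app U y = t := hy
    obtain ⟨g, hg⟩ := surjective_app_of_epi (πI i) hU y
    have h0 : (φT F i.T).app U g = 0 := by
      have h1 := congrArg (fun φ : GT F i.T ⟶ F => φ.app U g) (πI_ιI_kappaI i)
      simp only [Scheme.Modules.Hom.comp_app] at h1
      have h2 : (φT F i.T).app U g = (kappaI F).app U ((ιI i).app U ((πI i).app U g)) := h1.symm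
      rw [h2, hg, hy', ht]
    let S : ShortComplex X.Modules :=
      ShortComplex.mk (kernel.ι (φT F i.T)) (φT F i.T) (kernel.condition _)
    have hS : S.Exact := ShortComplex.exact_kernel (φT F i.T)
    have hmono : Mono S.f := inferInstanceAs (Mono (kernel.ι (φT F i.T)))
    obtain ⟨k, hk⟩ := exists_of_app_eq_zero S hS U g h0
    have hk' : (kernel.ι (φT F i.T)).app U k = g := hk
    obtain ⟨β', hle, k', hk''⟩ := exists_ge_mem i.β hU k
    have hle' : i ≤ ⟨i.T, β'⟩ := mk_le_mk hle
    have hzero : (mapI hle').app U y = 0 := by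
      have h1 := congrArg (fun φ : GT F i.T ⟶ DobjI (⟨i.T, β'⟩ : II F) => φ.app U g) (πI_mapI hle')
      simp only [Scheme.Modules.Hom.comp_app] at h1
      have h1' : (mapI hle').app U ((πI i).app U g) =
          (πI (⟨i.T, β'⟩ : II F)).app U ((incl F (LE'.subset hle')).app U g) := h1
      have hincl : incl F (LE'.subset hle') = 𝟙 _ := incl_refl F i.T
      rw [hg, hincl, Scheme.Modules.Hom.id_app] at h1'
      have h1'' : (mapI hle').app U y = (πI (⟨i.T, β'⟩ : II F)).app U g := h1'
      rw [h1'', ← hk', ← hk'']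
      have h2 := congrArg (fun φ : (sub β' : X.Modules) ⟶ DobjI (⟨i.T, β'⟩ : II F) => φ.app U k')
        (πI_condition (⟨i.T, β'⟩ : II F))
      simp only [Scheme.Modules.Hom.comp_app] at h2
      exact h2
    have h3 := congrArg (fun φ : DobjI i ⟶ colimit (DI (F := F)) => φ.app U y) (mapI_ιI hle')
    simp only [Scheme.Modules.Hom.comp_app] at h3
    have h3' : (ιI (⟨i.T, β'⟩ : II F)).app U ((mapI hle').app U y) = (ιI i).app U y := h3
    rw [← hy', ← h3', hzero]
    exact map_zero _
  · intro s
    obtain ⟨α, -, k', hk'⟩ := exists_ge_mem (K := F) (Classical.arbitrary _) hU s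
    obtain ⟨hq, hf⟩ := pft_sub α
    obtain ⟨g, hg⟩ := surjective_app_of_epi (ψα F α) hU k'
    let T : Finset (JJ F) := {α}
    let a : T := ⟨α, Finset.mem_singleton_self α⟩
    let i : II F := ⟨T, Classical.arbitrary _⟩
    refine ⟨(ιI i).app U ((πI i).app U ((ιT F T a).app U g)), ?_⟩
    have h1 := congrArg (fun φ : GT F T ⟶ F => φ.app U ((ιT F T a).app U g)) (πI_ιI_kappaI i)
    simp only [Scheme.Modules.Hom.comp_app] at h1
    refine h1.trans ?_
    have h2 := congrArg (fun φ : Gα F α ⟶ F => φ.app U g) (ιT_φT F T a)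
    simp only [Scheme.Modules.Hom.comp_app] at h2
    refine h2.trans ?_
    have h3 : (φα F α).app U g = (sub α).arrow.app U ((ψα F α).app U g) := by
      unfold φα
      rw [Scheme.Modules.Hom.comp_app]
      rfl
    rw [h3, hg, hk']

theorem isIso_kappaI : IsIso (kappaI F) := by
  refine isIso_of_bijective_on_basis (kappaI F) (fun U : X.affineOpens => (U : X.Opens)) ?_ (fun U => ?_)
  · have : Set.range (fun U : X.affineOpens => (U : X.Opens)) = X.affineOpens := Subtype.range_coe
    rw [this]
    exact X.isBasis_affineOpens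
  · exact bijective_kappaI F U.2

/-- the cocone of finitely presented modules over `F` is a colimit cocone -/
noncomputable def isColimitCoconeI : IsColimit (Cocone.mk F (coconeI (F := F))) := by
  haveI : IsIso ((colimit.isColimit (DI (F := F))).desc (Cocone.mk F (coconeI (F := F)))) := isIso_kappaI F
  exact IsColimit.ofPointIso (colimit.isColimit (DI (F := F)))

/-- **Stacks 01PG-type**: on a qcqs scheme, every quasi-coherent module is a filtered (indeed directed) colimit of
finitely presented modules. -/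
theorem exists_filtered_colimit :
    ∃ (I : Type u) (_ : SmallCategory I) (_ : IsFiltered I) (D : I ⥤ X.Modules) (c : Cocone D)
      (_ : IsColimit c), (∀ i, SheafOfModules.IsFinitePresentation (R := X.ringCatSheaf) (D.obj i)) ∧ c.pt = F :=
  ⟨II F, inferInstance, inferInstance, DI (F := F), Cocone.mk F (coconeI (F := F)), isColimitCoconeI F,
    fun i => (isFP_DobjI i).2, rfl⟩

end ColimI

end Groth.Agent.Lib.Helper23.FPColim
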