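import Mathlib
import Groth.Prelude
import Groth.Agent.Lib.Helper23FamPic
set_option backward.isDefEq.respectTransparency.types false

/-!
# Gluing invertible modules along a finite closed cover with discrete pairwise intersections (helper23)

Namespace `Groth.Agent.Lib.Helper23.FamPic`.
-/

set_option autoImplicit false
universe u
open CategoryTheory Limits AlgebraicGeometry TopologicalSpace Opposite

namespace Groth.Agent.Lib.Helper23.FamPic
open Groth.Agent.Lib.Helper23.SecTw Groth.Agent.Lib.Helper6 Groth.Agent.Lib.Helper23.PB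
  Groth.Agent.Helper13PullbackUnit Groth.Agent.Lib.Helper23.GenLocus Groth.Agent.Lib.Helper23.Extend
  Groth.Agent.Lib.Helper23.GenNear Groth.Agent.Lib.Helper23.FinPic Groth.Agent.Lib.Helper23.ClPic

/-- isolating neighbourhoods for a closed discrete subset -/
theorem exists_isolating_nhd_of_discrete {T : Type*} [TopologicalSpace T] (D : Set T) (hDc : IsClosed D)
    (hD : DiscreteTopology ↥D) (y : T) : ∃ O : Set T, IsOpen O ∧ y ∈ O ∧ ∀ w ∈ O, w ∈ D → w = y := by
  by_cases hy : y ∈ D
  · have h1 : IsOpen ({⟨y, hy⟩} : Set ↥D) := isOpen_discrete _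
    obtain ⟨O, hO, hO'⟩ := isOpen_induced_iff.1 h1
    refine ⟨O, hO, ?_, ?_⟩
    · have : (⟨y, hy⟩ : ↥D) ∈ Subtype.val ⁻¹' O := by
        rw [hO']
        rfl
      exact this
    · intro w hw hwD
      have : (⟨w, hwD⟩ : ↥D) ∈ Subtype.val ⁻¹' O := hw
      rw [hO'] at this
      exact congrArg Subtype.val (Set.mem_singleton_iff.1 this)
  · exact ⟨Dᶜ, hDc.isOpen_compl, hy, fun w hw hwD => absurd hwD hw⟩

section
variable {X : Scheme.{u}}

theorem resf_injective_of_le {A B : X.Opens} (h : A ≤ B) (h' : B ≤ A) : Function.Injective (resf (X := X) h) := by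
  intro a b hab
  have := congrArg (resf h') hab
  rw [resf_resf, resf_resf] at this
  have e : ∀ c : Γ(X, B), resf (le_refl B) c = c := fun c => by
    change X.presheaf.map (𝟙 _) c = c
    rw [X.presheaf.map_id]
    rfl
  rw [e, e] at this
  exact this

variable [IsReduced X] {n : ℕ} (Z : Fin n → X.IdealSheafData)
  (hcov : ⋃ i, ((Z i).support : Set X) = Set.univ)
  (hdisc : ∀ i j, i ≠ j → DiscreteTopology ↥(((Z i).support : Set X) ∩ ((Z j).support : Set X)))

include hcov hdisc in
/-- **gluing invertible modules given on the members of a finite closed cover with discrete pairwise intersections** -/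
theorem exists_invertible_of_closed_cover (L : ∀ i, (Z i).subscheme.Modules) (hL : ∀ i, PicF.IsInvertible (L i)) :
    ∃ M : X.Modules, PicF.IsInvertible M ∧
      ∀ i, Nonempty ((Scheme.Modules.pullback (Z i).subschemeι).obj M ≅ L i) := by
  classical
  -- the bad locus
  let D : Fin n × Fin n → Set X := fun p => if p.1 = p.2 then ∅ else
    ((Z p.1).support : Set X) ∩ ((Z p.2).support : Set X)
  have hDc : ∀ p, IsClosed (D p) := by
    intro p
    by_cases hp : p.1 = p.2
    · simp only [D, if_pos hp]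
      exact isClosed_empty
    · simp only [D, if_neg hp]
      exact (Z p.1).support.isClosed.inter (Z p.2).support.isClosed
  have hDd : ∀ p, DiscreteTopology ↥(D p) := by
    intro p
    by_cases hp : p.1 = p.2
    · have hDp : D p = ∅ := if_pos hp
      rw [hDp]
      infer_instance
    · have hDp : D p = ((Z p.1).support : Set X) ∩ ((Z p.2).support : Set X) := if_neg hp
      rw [hDp]
      exact hdisc p.1 p.2 hp
  have hTc : IsClosed (⋃ p, D p) := isClosed_iUnion_of_finite hDc
  let V : X.Opens := ⟨(⋃ p, D p)ᶜ, hTc.isOpen_compl⟩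
  have hVmem : ∀ w : X, w ∈ V ↔ ∀ i j, i ≠ j → ¬ (w ∈ (Z i).support ∧ w ∈ (Z j).support) := by
    intro w
    change w ∉ ⋃ p, D p ↔ _
    rw [Set.mem_iUnion, not_exists]
    constructor
    · intro h i j hij hw
      apply h (i, j)
      simp only [D, if_neg hij]
      exact hw
    · intro h p hp
      by_cases hp' : p.1 = p.2
      · simp only [D, if_pos hp'] at hp
        exact hp
      · simp only [D, if_neg hp'] at hp
        exact h p.1 p.2 hp' hp
  -- isolating neighbourhoods
  have hisol : ∀ y : X, ∃ O : X.Opens, y ∈ O ∧ ∀ w ∈ O, w ∉ V → w = y := by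
    intro y
    have h1 : ∀ p, ∃ O : Set X, IsOpen O ∧ y ∈ O ∧ ∀ w ∈ O, w ∈ D p → w = y := fun p =>
      exists_isolating_nhd_of_discrete (D p) (hDc p) (hDd p) y
    choose O hOo hyO hO using h1
    refine ⟨⟨⋂ p, O p, isOpen_iInter_of_finite hOo⟩, Set.mem_iInter.2 hyO, ?_⟩
    intro w hw hwV
    have hwT : w ∈ ⋃ p, D p := not_not.1 hwV
    obtain ⟨p, hp⟩ := Set.mem_iUnion.1 hwT
    exact hO p w (Set.mem_iInter.1 hw p) hp
  -- the opens over which `Z i → X` is an isomorphism
  have hOc : ∀ i, IsClosed (⋃ j ∈ {j : Fin n | j ≠ i}, ((Z j).support : Set X)) := fun i =>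
    (Set.toFinite _).isClosed_biUnion (fun j _ => (Z j).support.isClosed)
  let O : Fin n → X.Opens := fun i => ⟨_, (hOc i).isOpen_compl⟩
  have hOmem : ∀ i (w : X), w ∈ O i ↔ ∀ j, j ≠ i → w ∉ (Z j).support := by
    intro i w
    change w ∉ ⋃ j ∈ {j : Fin n | j ≠ i}, ((Z j).support : Set X) ↔ _
    simp only [Set.mem_iUnion, not_exists]
    constructor
    · intro h j hj hw
      exact h j hj hw
    · intro h j hj hw
      exact h j hj hw
  have hsupp : ∀ i (w : X), w ∈ O i → w ∈ (Z i).support := by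
    intro i w hw
    have h1 : w ∈ ⋃ i, ((Z i).support : Set X) := hcov ▸ Set.mem_univ w
    obtain ⟨j, hj⟩ := Set.mem_iUnion.1 h1
    by_cases hji : j = i
    · exact hji ▸ hj
    · exact absurd hj ((hOmem i w).1 hw j hji)
  have hrange : ∀ i, Set.range (Z i).subschemeι = ((Z i).support : Set X) := fun i => (Z i).range_subschemeι
  have hiso : ∀ i, IsIso ((Z i).subschemeι ∣_ O i) := by
    intro i
    haveI : Surjective ((Z i).subschemeι ∣_ O i) := by
      refine ⟨fun y => ?_⟩
      have hy : y.1 ∈ Set.range (Z i).subschemeι := by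
        rw [hrange]
        exact hsupp i y.1 y.2
      obtain ⟨z, hz⟩ := hy
      have hzO : z ∈ (Z i).subschemeι ⁻¹ᵁ O i := by
        change (Z i).subschemeι z ∈ O i
        rw [hz]
        exact y.2
      refine ⟨⟨z, hzO⟩, Subtype.ext ?_⟩
      rw [morphismRestrict_base_coe]
      exact hz
    exact AlgebraicGeometry.isIso_of_isClosedImmersion_of_surjective _
  have hVO : ∀ w : X, w ∈ V → ∃ i, w ∈ O i := by
    intro w hw
    have h1 : w ∈ ⋃ i, ((Z i).support : Set X) := hcov ▸ Set.mem_univ w
    obtain ⟨i, hi⟩ := Set.mem_iUnion.1 h1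
    refine ⟨i, (hOmem i w).2 (fun j hj hwj => ?_)⟩
    exact (hVmem w).1 hw j i hj ⟨hwj, hi⟩
  have hOdisj : ∀ i j, i ≠ j → O i ⊓ O j = ⊥ := by
    intro i j hij
    rw [eq_bot_iff]
    intro w hw
    exact ((hOmem j w).1 hw.2 i hij (hsupp i w hw.1)).elim
  have hpre : ∀ i (W : X.Opens), W ≤ V → (Z i).subschemeι ⁻¹ᵁ W ≤ (Z i).subschemeι ⁻¹ᵁ (W ⊓ O i) := by
    intro i W hW z hz
    refine ⟨hz, (hOmem i _).2 (fun j hj hzj => ?_)⟩
    have hzi : (Z i).subschemeι z ∈ (Z i).support := by
      rw [← SetLike.mem_coe, ← hrange]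
      exact ⟨z, rfl⟩
    exact (hVmem _).1 (hW hz) j i hj ⟨hzj, hzi⟩
  -- bijectivity
  have hbij : ∀ W : X.Opens, W ≤ V → Function.Bijective
      (fun (a : Γ(X, W)) (i : Fin n) => ((Z i).subschemeι.app W a : Γ((Z i).subscheme, (Z i).subschemeι ⁻¹ᵁ W))) := by
    intro W hW
    have hcovW : W ≤ ⨆ i, W ⊓ O i := by
      intro w hw
      obtain ⟨i, hi⟩ := hVO w (hW hw)
      exact Opens.mem_iSup.2 ⟨i, hw, hi⟩
    constructor
    · intro a a' haa'
      refine X.sheaf.eq_of_locally_eq' (fun i => W ⊓ O i) W (fun i => homOfLE inf_le_left) hcovW a a' (fun i => ?_)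
      change resf inf_le_left a = resf inf_le_left a'
      apply (bijective_app_of_le (Z i).subschemeι (O i) (hiso i) (W ⊓ O i) inf_le_right).1
      rw [app_resf₀, app_resf₀]
      have := congrFun haa' i
      exact congrArg _ this
    · intro b
      have h1 : ∀ i, ∃ a : Γ(X, W ⊓ O i), (Z i).subschemeι.app (W ⊓ O i) a =
          resf ((Z i).subschemeι.preimage_mono inf_le_left) (b i) := fun i =>
        (bijective_app_of_le (Z i).subschemeι (O i) (hiso i) (W ⊓ O i) inf_le_right).2 _
      choose a₁ ha₁ using h1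
      obtain ⟨a, ha⟩ := exists_glue (fun i => W ⊓ O i) W (fun i => inf_le_left) hcovW
        (fun i j hij => by
          rw [eq_bot_iff]
          exact (inf_le_inf inf_le_right inf_le_right).trans (hOdisj i j hij).le) a₁
      refine ⟨a, ?_⟩
      funext i
      apply resf_injective_of_le ((Z i).subschemeι.preimage_mono (inf_le_left : W ⊓ O i ≤ W)) (hpre i W hW)
      change resf _ ((Z i).subschemeι.app W a) = resf _ (b i)
      rw [← app_resf₀ (Z i).subschemeι (inf_le_left : W ⊓ O i ≤ W), ha, ha₁]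
  exact exists_pullback_iso_family (fun i => (Z i).subscheme) (fun i => (Z i).subschemeι) V hbij hisol L hL

end

end Groth.Agent.Lib.Helper23.FamPic
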