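import Mathlib
import Groth.Prelude.Def_EtBase

/-!
# Long exact cohomology sequence consequences for abelian étale sheaves (helper23)

* `bijective_map_g`, `bijective_map_f`, `isIso_HF_map_of_bijective`.
-/

set_option autoImplicit false
set_option backward.isDefEq.respectTransparency.types false
universe u
open CategoryTheory CategoryTheory.Limits AlgebraicGeometry Opposite Abelian

namespace Groth.Agent.Lib.Helper23HLes

variable {X : Scheme.{u}} {S : ShortComplex (EtCoh.Ab X)} (hS : S.ShortExact)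

include hS in
theorem injective_map_g (n : ℕ) (h0 : Subsingleton (EtCoh.H X S.X₁ n)) :
    Function.Injective (Sheaf.H.map S.g n) := by
  rw [injective_iff_map_eq_zero]
  intro x₂ hx₂
  rw [Sheaf.H.map_apply] at hx₂
  obtain ⟨x₁, rfl⟩ := Ext.covariant_sequence_exact₂ _ hS x₂ hx₂
  rw [Subsingleton.elim x₁ 0, Ext.zero_comp]

include hS in
theorem surjective_map_g (n : ℕ) (h1 : Subsingleton (EtCoh.H X S.X₁ (n + 1))) :
    Function.Surjective (Sheaf.H.map S.g n) := by
  intro x₃
  obtain ⟨x₂, hx₂⟩ := Ext.covariant_sequence_exact₃ _ hS x₃ rfl (Subsingleton.elim _ _)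
  exact ⟨x₂, by rw [Sheaf.H.map_apply]; exact hx₂⟩

include hS in
theorem injective_map_f (n : ℕ) (h0 : Subsingleton (EtCoh.H X S.X₃ n)) :
    Function.Injective (Sheaf.H.map S.f (n + 1)) := by
  rw [injective_iff_map_eq_zero]
  intro x₁ hx₁
  rw [Sheaf.H.map_apply] at hx₁
  obtain ⟨x₃, rfl⟩ := Ext.covariant_sequence_exact₁ _ hS x₁ hx₁ rfl
  rw [Subsingleton.elim x₃ 0, Ext.zero_comp]

include hS in
theorem surjective_map_f (n : ℕ) (h1 : Subsingleton (EtCoh.H X S.X₃ n)) :
    Function.Surjective (Sheaf.H.map S.f n) := by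
  intro x₂
  obtain ⟨x₁, hx₁⟩ := Ext.covariant_sequence_exact₂ _ hS x₂ (Subsingleton.elim _ _)
  exact ⟨x₁, by rw [Sheaf.H.map_apply]; exact hx₁⟩

theorem isIso_HF_map_of_bijective {F G : EtCoh.Ab X} (φ : F ⟶ G) (n : ℕ)
    (h : Function.Bijective (Sheaf.H.map φ n)) : IsIso ((EtCoh.HF X n).map φ) := by
  rw [ConcreteCategory.isIso_iff_bijective]
  exact h

theorem bijective_of_isIso_HF_map {F G : EtCoh.Ab X} (φ : F ⟶ G) (n : ℕ)
    [IsIso ((EtCoh.HF X n).map φ)] : Function.Bijective (Sheaf.H.map φ n) :=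
  (ConcreteCategory.isIso_iff_bijective ((EtCoh.HF X n).map φ)).1 inferInstance

end Groth.Agent.Lib.Helper23HLes
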