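import Mathlib
import Groth.Agent.Lib.Helper23IntStalkC

/-!
# The unit `G ⟶ f_* f⁻¹ G` for integral universally injective `f` (helper23)
-/

set_option autoImplicit false
set_option backward.isDefEq.respectTransparency.types false
universe u

namespace Groth.Agent.Lib.Helper23.IntStalkD
open CategoryTheory CategoryTheory.Limits AlgebraicGeometry Opposite
open Groth.Agent.Lib.Helper23.FinStalkA Groth.Agent.Lib.Helper23.FinStalkB
  Groth.Agent.Lib.Helper23.FinStalkC Groth.Agent.Lib.Helper23.FinStalkD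
  Groth.Agent.Lib.Helper23.FinStalkE Groth.Agent.Lib.Helper23.IntStalkA
  Groth.Agent.Lib.Helper23.IntStalkB Groth.Agent.Lib.Helper23.IntStalkC
  Groth.Agent.Lib.Helper16.EtGlue Groth.Agent.S0101

/-- for `f` integral and universally injective, the unit `G ⟶ f_* f⁻¹ G` is an isomorphism as soon as
the stalks of `G` vanish at the geometric points outside the image of `f` -/
lemma isIso_unit_of_stalks {X Y : Scheme.{u}} (f : X ⟶ Y) [IsIntegralHom f]
    [UniversallyInjective f] (G : EtCoh.Ab Y)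
    (h : ∀ (Ω : Type u) [Field Ω] [IsAlgClosed Ω] (η : Spec (CommRingCat.of Ω) ⟶ Y),
      η (default : Spec (CommRingCat.of Ω)) ∉ Set.range f.base →
        Subsingleton ((EtCoh.stalk η).obj G)) :
    IsIso ((EtCoh.pullPushAdj f).unit.app G) := by
  apply isIso_of_stalks_algClosed
  intro Ω _ _ η
  by_cases hη : η (default : Spec (CommRingCat.of Ω)) ∈ Set.range f.base
  · obtain ⟨c, hc'⟩ := hη
    obtain ⟨ξ, rfl, -⟩ := exists_geo_lift_integral f η c hc'
    have hcomp : ∀ a, thetaAb f ((EtCoh.pull f).obj G) (ξ ≫ f) ξ rfl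
        ((EtCoh.stalk (ξ ≫ f)).map ((EtCoh.pullPushAdj f).unit.app G) a) =
        (stalkPullIso f ξ).hom.app G a := stalk_unit_thetaAb f G ξ
    have hθ := thetaAb_bijective_of_ui f ((EtCoh.pull f).obj G) (ξ ≫ f) ξ rfl
    have h1 : Function.Bijective (fun a => thetaAb f ((EtCoh.pull f).obj G) (ξ ≫ f) ξ rfl
        ((EtCoh.stalk (ξ ≫ f)).map ((EtCoh.pullPushAdj f).unit.app G) a)) := by
      have : (fun a => thetaAb f ((EtCoh.pull f).obj G) (ξ ≫ f) ξ rfl
        ((EtCoh.stalk (ξ ≫ f)).map ((EtCoh.pullPushAdj f).unit.app G) a)) =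
        (fun a => (stalkPullIso f ξ).hom.app G a) := funext hcomp
      rw [this]
      exact ConcreteCategory.bijective_of_isIso ((stalkPullIso f ξ).hom.app G)
    exact (Function.Bijective.of_comp_iff' hθ _).1 h1
  · have h1 := h Ω η hη
    have hne : IsEmpty {ξ : Spec (CommRingCat.of Ω) ⟶ X // ξ ≫ f = η} := by
      constructor
      rintro ⟨ζ, hζ⟩
      apply hη
      refine ⟨ζ default, ?_⟩
      rw [← hζ]
      rfl
    have h2 := subsingleton_stalk_push_of_isEmpty f ((EtCoh.pull f).obj G) η hne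
    exact ⟨fun a b _ => @Subsingleton.elim ((EtCoh.stalk η).obj G) h1 _ _,
      fun b => ⟨0, @Subsingleton.elim _ h2 _ _⟩⟩


end Groth.Agent.Lib.Helper23.IntStalkD
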