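import Mathlib
import Groth.Prelude
import Groth.Agent.Lib.Helper23SecTw9
import Groth.Agent.Lib.Helper23SecTw10
import Groth.Agent.Lib.Helper23TensorUnit
set_option backward.isDefEq.respectTransparency.types false

/-!
# Points with values in integral algebras over a field land in an affine `X_s` (helper23)

Namespace `Groth.Agent.Lib.Helper23.IntegralPts`.

* `UProp R` : every `x : R` has `x^(2e) - x^e + 1` a unit for all `e` divisible by some `e₀ > 0`
  (holds for integral algebras over a field, `exists_isUnit_of_isIntegral`, and their localizations away from an element,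
  `uProp_of_isLocalization_away`).
* `phi6 a b = a⊗a - a⊗b + b⊗b`, `genLocus_phi6_inf`, `genLocus_phi6_le`, `isAffineOpen_genLocus_phi6`.
* `exists_pow_phi6` : for `g : Y ⟶ X` with `HG g`, some `e > 0` makes `X_{phi6 (a^e) (b^e)}` contain every point of the
  image of `g` lying in `X_a ∪ X_b`.
* `hg_spec` : `HG g` for `g : Spec A ⟶ X`, `A` integral over a field, `X` quasi-separated.
* `exists_affine_genLocus_of_hg` : `L` ample, `HG g`, image of `g` in an open `W` ⇒ image in an affine `X_s ⊆ W`.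
-/

set_option autoImplicit false
universe u

namespace Groth.Agent.Lib.Helper23.IntegralPts

open CategoryTheory CategoryTheory.Limits AlgebraicGeometry TopologicalSpace Opposite
open Groth.Agent.Lib.Helper23.SecTw Groth.Agent.Lib.Helper23.GenLocus Groth.Agent.Lib.Helper6
open Groth.Agent.Lib.Helper23.AmpleIso

section Algebra

/-- the key unit property -/
def UProp (R : Type*) [CommRing R] : Prop :=
  ∀ x : R, ∃ e₀ : ℕ, 0 < e₀ ∧ ∀ m : ℕ, 0 < m → IsUnit (x ^ (2 * (e₀ * m)) - x ^ (e₀ * m) + 1)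

theorem field_aux {F : Type*} [Field F] (t : F) (d : ℕ) (hd : 0 < d)
    (hd' : orderOf t ≠ 0 → orderOf t ∣ d) : t ^ (2 * d) - t ^ d + 1 ≠ 0 := by
  by_cases ho : orderOf t = 0
  · intro h
    -- u^2 - u + 1 = 0 ⇒ u^3 = -1 ⇒ u^6 = 1
    have h1 : (t ^ d) ^ 6 = 1 := by
      have hu : (t ^ d) ^ 2 - t ^ d + 1 = 0 := by rw [← pow_mul, mul_comm d 2]; exact h
      have h3 : (t ^ d) ^ 3 = -1 := by
        have : (t ^ d) ^ 3 + 1 = (t ^ d + 1) * ((t ^ d) ^ 2 - t ^ d + 1) := by ring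
        rw [hu, mul_zero] at this
        linear_combination this
      calc (t ^ d) ^ 6 = ((t ^ d) ^ 3) ^ 2 := by ring
        _ = 1 := by rw [h3]; ring
    rw [← pow_mul] at h1
    have : orderOf t ≠ 0 := by
      rw [Ne, orderOf_eq_zero_iff, not_not]
      exact isOfFinOrder_iff_pow_eq_one.2 ⟨d * 6, by positivity, h1⟩
    exact this ho
  · have h1 : t ^ d = 1 := orderOf_dvd_iff_pow_eq_one.1 (hd' ho)
    rw [pow_mul', h1]
    simp

theorem exists_isUnit_of_isArtinianRing (B : Type*) [CommRing B] [IsArtinianRing B] (x : B) :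
    ∃ e₀ : ℕ, 0 < e₀ ∧ ∀ m : ℕ, 0 < m → IsUnit (x ^ (2 * (e₀ * m)) - x ^ (e₀ * m) + 1) := by
  classical
  haveI : Fintype (MaximalSpectrum B) := Fintype.ofFinite _
  let d : MaximalSpectrum B → ℕ := fun 𝔪 =>
    if orderOf (Ideal.Quotient.mk 𝔪.asIdeal x) = 0 then 1 else orderOf (Ideal.Quotient.mk 𝔪.asIdeal x)
  have hdpos : ∀ 𝔪, 0 < d 𝔪 := by
    intro 𝔪
    simp only [d]
    split_ifs with h
    · exact Nat.one_pos
    · exact Nat.pos_of_ne_zero h
  refine ⟨∏ 𝔪, d 𝔪, Finset.prod_pos (fun 𝔪 _ => hdpos 𝔪), fun m hm => ?_⟩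
  by_contra hnu
  obtain ⟨I, hI, hxI⟩ := exists_max_ideal_of_mem_nonunits (show _ ∈ nonunits B from hnu)
  let 𝔪 : MaximalSpectrum B := ⟨I, hI⟩
  letI : Field (B ⧸ I) := Ideal.Quotient.field I
  have h0 : Ideal.Quotient.mk I (x ^ (2 * ((∏ 𝔪, d 𝔪) * m)) - x ^ ((∏ 𝔪, d 𝔪) * m) + 1) = 0 :=
    Ideal.Quotient.eq_zero_iff_mem.2 hxI
  rw [map_add, map_sub, map_pow, map_pow, map_one] at h0
  refine field_aux (Ideal.Quotient.mk I x) ((∏ 𝔪, d 𝔪) * m) (Nat.mul_pos (Finset.prod_pos (fun 𝔪 _ => hdpos 𝔪)) hm)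
    ?_ h0
  · intro ho
    have h1 : d 𝔪 = orderOf (Ideal.Quotient.mk I x) := by
      simp only [d, 𝔪]
      rw [if_neg ho]
    rw [← h1]
    exact Dvd.dvd.mul_right (Finset.dvd_prod_of_mem d (Finset.mem_univ 𝔪)) m


theorem exists_isUnit_of_isIntegral {k R : Type*} [Field k] [CommRing R] [Algebra k R] (x : R)
    (hx : IsIntegral k x) :
    ∃ e₀ : ℕ, 0 < e₀ ∧ ∀ m : ℕ, 0 < m → IsUnit (x ^ (2 * (e₀ * m)) - x ^ (e₀ * m) + 1) := by
  let B := Algebra.adjoin k {x}
  let b : B := ⟨x, Algebra.self_mem_adjoin_singleton k x⟩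
  haveI : Module.Finite k B := Algebra.finite_adjoin_simple_of_isIntegral hx
  haveI : IsArtinianRing B := isArtinian_of_tower k inferInstance
  obtain ⟨e₀, he₀, h⟩ := exists_isUnit_of_isArtinianRing B b
  refine ⟨e₀, he₀, fun m hm => ?_⟩
  have := (h m hm).map B.val
  simpa [b] using this

/-- a localization away from an element of an integral algebra over a field is again integral -/
theorem isIntegral_of_isLocalization_away {k A : Type*} [Field k] [CommRing A] [Algebra k A]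
    [Algebra.IsIntegral k A] (f : A) (R : Type*) [CommRing R] [Algebra A R] [Algebra k R] [IsScalarTower k A R]
    [IsLocalization.Away f R] (x : R) : IsIntegral k x := by
  obtain ⟨⟨a, ⟨_, n, rfl⟩⟩, hx⟩ := IsLocalization.surj (Submonoid.powers f) x
  simp only at hx
  have hu : IsUnit (algebraMap A R f) := IsLocalization.Away.algebraMap_isUnit f
  have hui : IsIntegral k (algebraMap A R f) := (Algebra.IsIntegral.isIntegral (R := k) f).algebraMap
  -- the inverse of `u` is integral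
  have hinv : IsIntegral k (↑hu.unit⁻¹ : R) := by
    let B := Algebra.adjoin k {algebraMap A R f}
    let b : B := ⟨algebraMap A R f, Algebra.self_mem_adjoin_singleton k _⟩
    haveI : Module.Finite k B := Algebra.finite_adjoin_simple_of_isIntegral hui
    haveI : IsArtinianRing B := isArtinian_of_tower k inferInstance
    have hb : b ∈ nonZeroDivisors B := by
      refine comap_nonZeroDivisors_le_of_injective (f := B.val) Subtype.val_injective ?_
      exact hu.mem_nonZeroDivisors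
    have hbu : IsUnit b := IsArtinianRing.isUnit_of_mem_nonZeroDivisors hb
    have h1 : (↑hu.unit⁻¹ : R) = B.val (↑hbu.unit⁻¹ : B) := by
      have h2 : algebraMap A R f * B.val (↑hbu.unit⁻¹ : B) = 1 := by
        have h4 : b * (↑hbu.unit⁻¹ : B) = 1 := hbu.mul_val_inv
        have h5 : B.val (b * (↑hbu.unit⁻¹ : B)) = B.val 1 := congrArg B.val h4
        rw [map_mul, map_one] at h5
        exact h5
      calc (↑hu.unit⁻¹ : R) = ↑hu.unit⁻¹ * (algebraMap A R f * B.val (↑hbu.unit⁻¹ : B)) := by rw [h2, mul_one]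
        _ = (↑hu.unit⁻¹ * algebraMap A R f) * B.val (↑hbu.unit⁻¹ : B) := by ring
        _ = B.val (↑hbu.unit⁻¹ : B) := by rw [hu.val_inv_mul, one_mul]
    rw [h1]
    haveI : Algebra.IsIntegral k B := Algebra.IsIntegral.of_finite k B
    exact (Algebra.IsIntegral.isIntegral (R := k) (↑hbu.unit⁻¹ : B)).map B.val
  have hx' : x = algebraMap A R a * (↑hu.unit⁻¹ : R) ^ n := by
    have h3 : algebraMap A R (f ^ n) * (↑hu.unit⁻¹ : R) ^ n = 1 := by
      rw [map_pow, ← mul_pow, hu.mul_val_inv, one_pow]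
    calc x = x * (algebraMap A R (f ^ n) * (↑hu.unit⁻¹ : R) ^ n) := by rw [h3, mul_one]
      _ = (x * algebraMap A R (f ^ n)) * (↑hu.unit⁻¹ : R) ^ n := by ring
      _ = algebraMap A R a * (↑hu.unit⁻¹ : R) ^ n := by rw [hx]
  rw [hx']
  exact ((Algebra.IsIntegral.isIntegral (R := k) a).algebraMap).mul (hinv.pow n)

theorem uProp_of_isLocalization_away {k A : Type*} [Field k] [CommRing A] [Algebra k A]
    [Algebra.IsIntegral k A] (f : A) (R : Type*) [CommRing R] [Algebra A R] [IsLocalization.Away f R] :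
    UProp R := by
  letI : Algebra k R := ((algebraMap A R).comp (algebraMap k A)).toAlgebra
  haveI : IsScalarTower k A R := IsScalarTower.of_algebraMap_eq (fun _ => rfl)
  intro x
  exact exists_isUnit_of_isIntegral x (isIntegral_of_isLocalization_away (k := k) f R x)


end Algebra

variable {X : Scheme.{u}}

theorem sv_sub {L : X.Modules} (σ τ : Coh.structureModule X ⟶ L) (W : X.Opens) :
    sv (σ - τ) W = sv σ W - sv τ W := by
  rw [val_eq_app, val_eq_app, val_eq_app]
  rfl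

/-- `a ⊗ a - a ⊗ b + b ⊗ b` -/
noncomputable def phi6 {M : X.Modules} (a b : Coh.structureModule X ⟶ M) :
    Coh.structureModule X ⟶ CohB1.tensorMod M M :=
  SecTwist.tmulHom a a - SecTwist.tmulHom a b + SecTwist.tmulHom b b

theorem tm_smul_smul' (M N : X.Modules) (U : X.Opens) (r r' : Γ(X, U)) (m : Γ(M, U)) (n : Γ(N, U)) :
    tm M N U (r • m) (r' • n) = (r * r') • tm M N U m n := by
  rw [tm_smul_left, tm_smul_right, mul_smul]

theorem sv_phi6 {M : X.Modules} (a b : Coh.structureModule X ⟶ M) (V : X.Opens) (ε : Γ(M, V)) (α β : Γ(X, V))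
    (ha : sv a V = α • ε) (hb : sv b V = β • ε) :
    sv (phi6 a b) V = (α * α - α * β + β * β) • tm M M V ε ε := by
  unfold phi6
  rw [sv_add, sv_sub, sv_tmulHom, sv_tmulHom, sv_tmulHom, ha, hb, tm_smul_smul', tm_smul_smul', tm_smul_smul',
    add_smul, sub_smul]

theorem genLocus_phi6_inf {M : X.Modules} (a b : Coh.structureModule X ⟶ M) (V : X.Opens) (ε : Γ(M, V))
    (hε : IsGen M V ε) (α β : Γ(X, V)) (ha : sv a V = α • ε) (hb : sv b V = β • ε) :
    CohB1.genLocus _ (phi6 a b) ⊓ V = X.basicOpen (α * α - α * β + β * β) :=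
  genLocus_inf_eq_of_isGen _ _ V _ _ (isGen_tm M M V ε ε hε hε) (sv_phi6 a b V ε α β ha hb)

theorem genLocus_phi6_le {M : X.Modules} (hM : PicF.IsInvertible M) (a b : Coh.structureModule X ⟶ M) :
    CohB1.genLocus _ (phi6 a b) ≤ CohB1.genLocus M a ⊔ CohB1.genLocus M b := by
  intro x hx
  obtain ⟨W, ε, hxW, hε⟩ := exists_gen M hM x
  have h1 := genLocus_phi6_inf a b W ε hε _ _ (sv_eq_coef_smul a hε) (sv_eq_coef_smul b hε)
  have h2 : x ∈ X.basicOpen (coef hε le_rfl (sv a W) * coef hε le_rfl (sv a W) -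
      coef hε le_rfl (sv a W) * coef hε le_rfl (sv b W) + coef hε le_rfl (sv b W) * coef hε le_rfl (sv b W)) := by
    rw [← h1]; exact ⟨hx, hxW⟩
  have h3 : coef hε le_rfl (sv a W) * coef hε le_rfl (sv a W) -
      coef hε le_rfl (sv a W) * coef hε le_rfl (sv b W) + coef hε le_rfl (sv b W) * coef hε le_rfl (sv b W) =
      coef hε le_rfl (sv a W) * (coef hε le_rfl (sv a W) - coef hε le_rfl (sv b W)) +
        coef hε le_rfl (sv b W) * coef hε le_rfl (sv b W) := by ring
  rw [h3] at h2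
  rcases basicOpen_add_le _ _ h2 with h | h
  · left
    rw [Scheme.basicOpen_mul] at h
    have : x ∈ CohB1.genLocus M a ⊓ W := by rw [genLocus_inf_eq_coef a hε]; exact h.1
    exact this.1
  · right
    rw [Scheme.basicOpen_mul] at h
    have : x ∈ CohB1.genLocus M b ⊓ W := by rw [genLocus_inf_eq_coef b hε]; exact h.1
    exact this.1

theorem coef_sum_phi6 {M : X.Modules} (a b : Coh.structureModule X ⟶ M) (U : X.Opens)
    (e : Γ(CohB1.tensorMod M M, U)) (hgen : IsGen (CohB1.tensorMod M M) U e) (he : sv (phi6 a b) U = e) :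
    coef hgen le_rfl (sv (SecTwist.tmulHom a a) U) - coef hgen le_rfl (sv (SecTwist.tmulHom a b) U) +
      coef hgen le_rfl (sv (SecTwist.tmulHom b b) U) = 1 := by
  have h1 : (coef hgen le_rfl (sv (SecTwist.tmulHom a a) U) - coef hgen le_rfl (sv (SecTwist.tmulHom a b) U) +
      coef hgen le_rfl (sv (SecTwist.tmulHom b b) U)) • e = e := by
    rw [add_smul, sub_smul, ← sv_eq_coef_smul _ hgen, ← sv_eq_coef_smul _ hgen, ← sv_eq_coef_smul _ hgen, ← he]
    unfold phi6
    rw [sv_add, sv_sub]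
  have h2 := hgen U le_rfl
  apply h2.1
  change _ • res _ le_rfl e = (1 : Γ(X, U)) • res _ le_rfl e
  rw [res_self, h1, one_smul]

theorem isAffineOpen_genLocus_phi6 {M : X.Modules} (hM : PicF.IsInvertible M) (a b : Coh.structureModule X ⟶ M)
    (ha : IsAffineOpen (CohB1.genLocus M a)) (hb : IsAffineOpen (CohB1.genLocus M b)) :
    IsAffineOpen (CohB1.genLocus _ (phi6 a b)) := by
  have hMM : PicF.IsInvertible (CohB1.tensorMod M M) := isInvertible_tensorMod hM hM
  have hgen := isGen_sv_genLocus (CohB1.tensorMod M M) (phi6 a b)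
  have hsum := coef_sum_phi6 a b _ _ hgen rfl
  refine isAffineOpen_of_isAffineOpen_basicOpen _
    {coef hgen le_rfl (sv (SecTwist.tmulHom a a) _), coef hgen le_rfl (sv (SecTwist.tmulHom a b) _),
      coef hgen le_rfl (sv (SecTwist.tmulHom b b) _)} ?_ ?_
  · rw [Ideal.eq_top_iff_one, ← hsum]
    refine Ideal.add_mem _ (Ideal.sub_mem _ (Ideal.subset_span ?_) (Ideal.subset_span ?_)) (Ideal.subset_span ?_)
    · simp
    · simp
    · simp
  · intro f hf
    simp only [Set.mem_insert_iff, Set.mem_singleton_iff] at hf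
    rcases hf with rfl | rfl | rfl
    · rw [← genLocus_inf_eq_coef _ hgen, genLocus_tmulHom hM hM, inf_idem]
      exact isAffineOpen_inf_genLocus _ hMM _ _ ha
    · rw [← genLocus_inf_eq_coef _ hgen, genLocus_tmulHom hM hM]
      exact isAffineOpen_inf_genLocus _ hMM _ _ (isAffineOpen_inf_genLocus _ hM b _ ha)
    · rw [← genLocus_inf_eq_coef _ hgen, genLocus_tmulHom hM hM, inf_idem]
      exact isAffineOpen_inf_genLocus _ hMM _ _ hb


/-- the hypothesis on `g : Y ⟶ X` : preimages of affine opens are finitely covered by opens with `UProp` sections -/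
def HG {Y : Scheme.{u}} (g : Y ⟶ X) : Prop :=
  ∀ V : X.Opens, IsAffineOpen V → ∃ (n : ℕ) (D : Fin n → Y.Opens),
    (∀ i, D i ≤ g ⁻¹ᵁ V) ∧ (g ⁻¹ᵁ V ≤ ⨆ i, D i) ∧ ∀ i, UProp Γ(Y, D i)

/-- if the image of `r` under `appLE` is a unit, the source open lies in the preimage of the basic open -/
theorem le_preimage_basicOpen_of_isUnit {Y : Scheme.{u}} (g : Y ⟶ X) (V : X.Opens) (D : Y.Opens)
    (hD : D ≤ g ⁻¹ᵁ V) (r : Γ(X, V)) (hr : IsUnit (g.appLE V D hD r)) : D ≤ g ⁻¹ᵁ (X.basicOpen r) := by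
  rw [Scheme.Hom.preimage_basicOpen]
  have h1 : Y.basicOpen (g.appLE V D hD r) = D ⊓ Y.basicOpen (g.app V r) := by
    rw [Scheme.Hom.appLE]
    exact Scheme.basicOpen_res Y (g.app V r) (homOfLE hD).op
  have h2 : Y.basicOpen (g.appLE V D hD r) = D := Y.basicOpen_of_isUnit hr
  rw [h2] at h1
  exact (le_of_eq h1).trans inf_le_right

/-- one-sided version: points over `X_a` -/
theorem exists_pow_phi6_left {Y : Scheme.{u}} {M : X.Modules} (hM : PicF.IsInvertible M)
    (a b : Coh.structureModule X ⟶ M) (ha : IsAffineOpen (CohB1.genLocus M a)) (g : Y ⟶ X) (hg : HG g) :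
    ∃ e₀ : ℕ, 0 < e₀ ∧ ∀ m : ℕ, 0 < m → ∀ y : Y, g y ∈ CohB1.genLocus M a →
      g y ∈ CohB1.genLocus _ (phi6 (SecTwist.powHom a (e₀ * m)) (SecTwist.powHom b (e₀ * m))) := by
  classical
  set V := CohB1.genLocus M a with hV
  have hε₀ := isGen_sv_genLocus M a
  set t := coef hε₀ le_rfl (sv b V) with ht
  obtain ⟨n, D, hDle, hcov, hU⟩ := hg V ha
  have h1 : ∀ i, ∃ e₀ : ℕ, 0 < e₀ ∧ ∀ m : ℕ, 0 < m →
      IsUnit ((g.appLE V (D i) (hDle i) t) ^ (2 * (e₀ * m)) - (g.appLE V (D i) (hDle i) t) ^ (e₀ * m) + 1) :=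
    fun i => hU i _
  choose e he hunit using h1
  refine ⟨∏ i, e i, Finset.prod_pos (fun i _ => he i), fun m hm y hy => ?_⟩
  obtain ⟨i, hyi⟩ := Opens.mem_iSup.1 (hcov (show y ∈ g ⁻¹ᵁ V from hy))
  -- write the exponent as `e i * m'`
  obtain ⟨c, hc⟩ : e i ∣ (∏ i, e i) * m := Dvd.dvd.mul_right (Finset.dvd_prod_of_mem e (Finset.mem_univ i)) m
  have hcpos : 0 < c := by
    rcases Nat.eq_zero_or_pos c with h | h
    · rw [h, mul_zero] at hc
      have : 0 < (∏ i, e i) * m := Nat.mul_pos (Finset.prod_pos (fun i _ => he i)) hm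
      omega
    · exact h
  set E := (∏ i, e i) * m with hE
  -- local computation on `V`
  have hε : IsGen (CohB1.tensorPow M E) V (pw M V (sv a V) E) := isGen_pw M V _ hε₀ E
  have ha' : sv (SecTwist.powHom a E) V = (1 : Γ(X, V)) • pw M V (sv a V) E := by
    rw [sv_powHom, one_smul]
  have hb' : sv (SecTwist.powHom b E) V = (t ^ E) • pw M V (sv a V) E := by
    rw [sv_powHom, sv_eq_coef_smul b hε₀, pw_smul]
  have h2 := genLocus_phi6_inf (SecTwist.powHom a E) (SecTwist.powHom b E) V _ hε _ _ ha' hb'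
  have h3 : D i ≤ g ⁻¹ᵁ (X.basicOpen ((1 : Γ(X, V)) * 1 - 1 * t ^ E + t ^ E * t ^ E)) := by
    refine le_preimage_basicOpen_of_isUnit g V (D i) (hDle i) _ ?_
    have h4 := hunit i c hcpos
    rw [← hc] at h4
    have h6 : g.appLE V (D i) (hDle i) ((1 : Γ(X, V)) * 1 - 1 * t ^ E + t ^ E * t ^ E) =
        (g.appLE V (D i) (hDle i) t) ^ (2 * E) - (g.appLE V (D i) (hDle i) t) ^ E + 1 := by
      simp only [map_add, map_sub, map_mul, map_one, map_pow]
      ring
    rw [h6]
    exact h4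
  have h5 : g y ∈ X.basicOpen ((1 : Γ(X, V)) * 1 - 1 * t ^ E + t ^ E * t ^ E) := h3 hyi
  rw [← h2] at h5
  exact h5.1

/-- one-sided version: points over `X_b` -/
theorem exists_pow_phi6_right {Y : Scheme.{u}} {M : X.Modules} (hM : PicF.IsInvertible M)
    (a b : Coh.structureModule X ⟶ M) (hb : IsAffineOpen (CohB1.genLocus M b)) (g : Y ⟶ X) (hg : HG g) :
    ∃ e₀ : ℕ, 0 < e₀ ∧ ∀ m : ℕ, 0 < m → ∀ y : Y, g y ∈ CohB1.genLocus M b →
      g y ∈ CohB1.genLocus _ (phi6 (SecTwist.powHom a (e₀ * m)) (SecTwist.powHom b (e₀ * m))) := by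
  classical
  set V := CohB1.genLocus M b with hV
  have hε₀ := isGen_sv_genLocus M b
  set t := coef hε₀ le_rfl (sv a V) with ht
  obtain ⟨n, D, hDle, hcov, hU⟩ := hg V hb
  have h1 : ∀ i, ∃ e₀ : ℕ, 0 < e₀ ∧ ∀ m : ℕ, 0 < m →
      IsUnit ((g.appLE V (D i) (hDle i) t) ^ (2 * (e₀ * m)) - (g.appLE V (D i) (hDle i) t) ^ (e₀ * m) + 1) :=
    fun i => hU i _
  choose e he hunit using h1
  refine ⟨∏ i, e i, Finset.prod_pos (fun i _ => he i), fun m hm y hy => ?_⟩
  obtain ⟨i, hyi⟩ := Opens.mem_iSup.1 (hcov (show y ∈ g ⁻¹ᵁ V from hy))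
  -- write the exponent as `e i * m'`
  obtain ⟨c, hc⟩ : e i ∣ (∏ i, e i) * m := Dvd.dvd.mul_right (Finset.dvd_prod_of_mem e (Finset.mem_univ i)) m
  have hcpos : 0 < c := by
    rcases Nat.eq_zero_or_pos c with h | h
    · rw [h, mul_zero] at hc
      have : 0 < (∏ i, e i) * m := Nat.mul_pos (Finset.prod_pos (fun i _ => he i)) hm
      omega
    · exact h
  set E := (∏ i, e i) * m with hE
  -- local computation on `V`
  have hε : IsGen (CohB1.tensorPow M E) V (pw M V (sv b V) E) := isGen_pw M V _ hε₀ E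
  have hb' : sv (SecTwist.powHom b E) V = (1 : Γ(X, V)) • pw M V (sv b V) E := by
    rw [sv_powHom, one_smul]
  have ha' : sv (SecTwist.powHom a E) V = (t ^ E) • pw M V (sv b V) E := by
    rw [sv_powHom, sv_eq_coef_smul a hε₀, pw_smul]
  have h2 := genLocus_phi6_inf (SecTwist.powHom a E) (SecTwist.powHom b E) V _ hε _ _ ha' hb'
  have h3 : D i ≤ g ⁻¹ᵁ (X.basicOpen (t ^ E * t ^ E - t ^ E * 1 + (1 : Γ(X, V)) * 1)) := by
    refine le_preimage_basicOpen_of_isUnit g V (D i) (hDle i) _ ?_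
    have h4 := hunit i c hcpos
    rw [← hc] at h4
    have h6 : g.appLE V (D i) (hDle i) (t ^ E * t ^ E - t ^ E * 1 + (1 : Γ(X, V)) * 1) =
        (g.appLE V (D i) (hDle i) t) ^ (2 * E) - (g.appLE V (D i) (hDle i) t) ^ E + 1 := by
      simp only [map_add, map_sub, map_mul, map_one, map_pow]
      ring
    rw [h6]
    exact h4
  have h5 : g y ∈ X.basicOpen (t ^ E * t ^ E - t ^ E * 1 + (1 : Γ(X, V)) * 1) := h3 hyi
  rw [← h2] at h5
  exact h5.1


/-- **two-section lemma** : some `e > 0` makes `X_{phi6 (a^e) (b^e)}` contain all points of the image of `g` lying in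
`X_a ∪ X_b` -/
theorem exists_pow_phi6 {Y : Scheme.{u}} {M : X.Modules} (hM : PicF.IsInvertible M)
    (a b : Coh.structureModule X ⟶ M) (ha : IsAffineOpen (CohB1.genLocus M a))
    (hb : IsAffineOpen (CohB1.genLocus M b)) (g : Y ⟶ X) (hg : HG g) :
    ∃ e : ℕ, 0 < e ∧ ∀ y : Y, (g y ∈ CohB1.genLocus M a ∨ g y ∈ CohB1.genLocus M b) →
      g y ∈ CohB1.genLocus _ (phi6 (SecTwist.powHom a e) (SecTwist.powHom b e)) := by
  obtain ⟨e₁, he₁, h₁⟩ := exists_pow_phi6_left hM a b ha g hg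
  obtain ⟨e₂, he₂, h₂⟩ := exists_pow_phi6_right hM a b hb g hg
  refine ⟨e₁ * e₂, Nat.mul_pos he₁ he₂, fun y hy => ?_⟩
  rcases hy with hy | hy
  · exact h₁ e₂ he₂ y hy
  · have := h₂ e₁ he₁ y hy
    rwa [mul_comm e₂ e₁] at this


/-- `UProp` for the sections over a basic open of `Spec A`, `A` integral over a field -/
theorem uProp_basicOpen (k A : Type u) [Field k] [CommRing A] [Algebra k A] [Algebra.IsIntegral k A]
    (f : Γ(Spec (CommRingCat.of A), ⊤)) : UProp Γ(Spec (CommRingCat.of A), (Spec (CommRingCat.of A)).basicOpen f) := by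
  letI : Algebra k Γ(Spec (CommRingCat.of A), ⊤) :=
    ((Scheme.ΓSpecIso (CommRingCat.of A)).inv.hom.comp (algebraMap k A)).toAlgebra
  haveI : Algebra.IsIntegral k Γ(Spec (CommRingCat.of A), ⊤) := by
    refine ⟨fun z => ?_⟩
    have hz : z = (Scheme.ΓSpecIso (CommRingCat.of A)).inv.hom ((Scheme.ΓSpecIso (CommRingCat.of A)).hom.hom z) := by
      rw [← CommRingCat.comp_apply, Iso.hom_inv_id]; rfl
    rw [hz]
    let φ : A →ₐ[k] Γ(Spec (CommRingCat.of A), ⊤) :=
      { (Scheme.ΓSpecIso (CommRingCat.of A)).inv.hom with commutes' := fun _ => rfl }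
    exact (Algebra.IsIntegral.isIntegral (R := k) ((Scheme.ΓSpecIso (CommRingCat.of A)).hom.hom z)).map φ
  haveI := (isAffineOpen_top (Spec (CommRingCat.of A))).isLocalization_basicOpen f
  exact uProp_of_isLocalization_away (k := k) f _

theorem hg_spec (k A : Type u) [Field k] [CommRing A] [Algebra k A] [Algebra.IsIntegral k A]
    [QuasiSeparatedSpace X] (g : Spec (CommRingCat.of A) ⟶ X) : HG g := by
  intro V hV
  have hc : IsCompact ((g ⁻¹ᵁ V : (Spec (CommRingCat.of A)).Opens) : Set (Spec (CommRingCat.of A))) :=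
    QuasiCompact.isCompact_preimage (f := g) _ V.isOpen hV.isCompact
  have h1 : ∀ y : (g ⁻¹ᵁ V : (Spec (CommRingCat.of A)).Opens), ∃ f : Γ(Spec (CommRingCat.of A), ⊤),
      (Spec (CommRingCat.of A)).basicOpen f ≤ g ⁻¹ᵁ V ∧ y.1 ∈ (Spec (CommRingCat.of A)).basicOpen f :=
    fun y => (isAffineOpen_top (Spec (CommRingCat.of A))).exists_basicOpen_le y trivial
  choose f hf hyf using h1
  obtain ⟨T, hT⟩ := hc.elim_finite_subcover
    (fun y : (g ⁻¹ᵁ V : (Spec (CommRingCat.of A)).Opens) => (((Spec (CommRingCat.of A)).basicOpen (f y) :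
      (Spec (CommRingCat.of A)).Opens) : Set (Spec (CommRingCat.of A))))
    (fun y => ((Spec (CommRingCat.of A)).basicOpen (f y)).2)
    (fun y hy => Set.mem_iUnion.2 ⟨⟨y, hy⟩, hyf ⟨y, hy⟩⟩)
  let e := T.equivFin
  refine ⟨T.card, fun i => (Spec (CommRingCat.of A)).basicOpen (f (e.symm i).1), fun i => hf _, ?_, fun i => ?_⟩
  · intro y hy
    obtain ⟨z, hz⟩ := Set.mem_iUnion.1 (hT hy)
    obtain ⟨hzT, hyz⟩ := Set.mem_iUnion.1 hz
    refine Opens.mem_iSup.2 ⟨e ⟨z, hzT⟩, ?_⟩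
    simpa using hyz
  · exact uProp_basicOpen k A _


open Groth.Agent.Lib.Helper23.TensorUnit in
/-- `M^e ⊗ M^e ≅ L^(N'+1)` for `M = L^c`, `c * (e + e) = N' + 1` -/
theorem nonempty_iso_aux (L : X.Modules) (hL : PicF.IsInvertible L) (c e N' : ℕ) (h : c * (e + e) = N' + 1) :
    Nonempty (CohB1.tensorMod (CohB1.tensorPow (CohB1.tensorPow L c) e) (CohB1.tensorPow (CohB1.tensorPow L c) e) ≅
      CohB1.tensorPow L (N' + 1)) := by
  have hM := isInvertible_tensorPow hL c
  obtain ⟨Φ₁⟩ := nonempty_tensorMod_tensorPow_add_iso (Coh.structureModule X) (CohB1.tensorPow L c)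
    (isInvertible_structureModule X) hM e e (e + e) rfl
  obtain ⟨Φ₃⟩ := nonempty_tensorPow_tensorPow_iso L hL c (e + e) (N' + 1) h
  exact ⟨tensorModIso (unitTensorIso (CohB1.tensorPow (CohB1.tensorPow L c) e)).symm (Iso.refl _) ≪≫ Φ₁ ≪≫
    unitTensorIso _ ≪≫ Φ₃⟩

/-- **main theorem** : if `HG g` and the image of `g : Y ⟶ X` (`Y` quasi-compact) lies in an open `W`, then it lies in an
affine `X_s ⊆ W` for a section `s` of a positive power of the ample `L`. -/
theorem exists_affine_genLocus_of_hg (L : X.Modules) (hL : CohB1.IsAmple L) {Y : Scheme.{u}} [CompactSpace Y]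
    (g : Y ⟶ X) (hg : HG g) (W : X.Opens) (hgW : Set.range g.base ⊆ (W : Set X)) :
    ∃ (n : ℕ) (s : Coh.structureModule X ⟶ CohB1.tensorPow L (n + 1)),
      IsAffineOpen (CohB1.genLocus _ s) ∧ CohB1.genLocus _ s ≤ W ∧
        Set.range g.base ⊆ (CohB1.genLocus _ s : Set X) := by
  classical
  have hinv := hL.1
  choose n σ hσx hσW hσaff using fun y : Y => exists_genLocus_nhd_of_isAmple L hL W (g y) (hgW ⟨y, rfl⟩)
  obtain ⟨T, hT⟩ := isCompact_univ.elim_finite_subcover
    (fun y : Y => ((g ⁻¹ᵁ CohB1.genLocus _ (σ y) : Y.Opens) : Set Y)) (fun y => (g ⁻¹ᵁ CohB1.genLocus _ (σ y)).2)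
    (fun y _ => Set.mem_iUnion.2 ⟨y, hσx y⟩)
  have key : ∀ T' : Finset Y, ∃ (N : ℕ) (s : Coh.structureModule X ⟶ CohB1.tensorPow L (N + 1)),
      IsAffineOpen (CohB1.genLocus _ s) ∧ CohB1.genLocus _ s ≤ W ∧
        ∀ y' ∈ T', ∀ z : Y, g z ∈ CohB1.genLocus _ (σ y') → g z ∈ CohB1.genLocus _ s := by
    intro T'
    induction T' using Finset.induction_on with
    | empty =>
      refine ⟨0, 0, ?_, ?_, fun y' hy' => absurd hy' (Finset.notMem_empty _)⟩
      · rw [genLocus_zero _ (isInvertible_tensorPow hinv 1)]; exact isAffineOpen_bot X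
      · rw [genLocus_zero _ (isInvertible_tensorPow hinv 1)]; exact bot_le
    | insert y₀ T' hy₀ ih =>
      obtain ⟨N, s, hsaff, hsW, hspt⟩ := ih
      obtain ⟨c, hc⟩ : ∃ c, (N + 1) * (n y₀ + 1) = c := ⟨_, rfl⟩
      have hcpos : 0 < c := by rw [← hc]; exact Nat.mul_pos (Nat.succ_pos _) (Nat.succ_pos _)
      obtain ⟨a, b, hab, hbb⟩ := exists_common_power_eq L hinv (N + 1) (n y₀ + 1) c
        (Nat.succ_pos _) (Nat.succ_pos _) hc s (σ y₀)
      have hM := isInvertible_tensorPow hinv c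
      have ha : IsAffineOpen (CohB1.genLocus _ a) := by rw [hab]; exact hsaff
      have hb : IsAffineOpen (CohB1.genLocus _ b) := by rw [hbb]; exact hσaff y₀
      obtain ⟨e, he, hpt⟩ := exists_pow_phi6 hM a b ha hb g hg
      have hM' := isInvertible_tensorPow hM e
      have ha' : CohB1.genLocus _ (SecTwist.powHom a e) = CohB1.genLocus _ a := genLocus_powHom hM a e he
      have hb' : CohB1.genLocus _ (SecTwist.powHom b e) = CohB1.genLocus _ b := genLocus_powHom hM b e he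
      obtain ⟨N', hN'⟩ : ∃ N', c * (e + e) = N' + 1 := ⟨c * (e + e) - 1, by
        have : 0 < c * (e + e) := Nat.mul_pos hcpos (by omega)
        omega⟩
      obtain ⟨Φ⟩ := nonempty_iso_aux L hinv c e N' hN'
      refine ⟨N', phi6 (SecTwist.powHom a e) (SecTwist.powHom b e) ≫ Φ.hom, ?_, ?_, ?_⟩
      · rw [genLocus_comp_iso]
        exact isAffineOpen_genLocus_phi6 hM' _ _ (by rw [ha']; exact ha) (by rw [hb']; exact hb)
      · rw [genLocus_comp_iso]
        refine (genLocus_phi6_le hM' _ _).trans ?_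
        rw [ha', hb', hab, hbb]
        exact sup_le hsW (hσW y₀)
      · intro y' hy' z hz
        rw [genLocus_comp_iso]
        rcases Finset.mem_insert.1 hy' with rfl | hy'
        · exact hpt z (Or.inr (by rw [hbb]; exact hz))
        · exact hpt z (Or.inl (by rw [hab]; exact hspt y' hy' z hz))
  obtain ⟨N, s, hsaff, hsW, hspt⟩ := key T
  refine ⟨N, s, hsaff, hsW, ?_⟩
  rintro _ ⟨z, rfl⟩
  obtain ⟨y, hy⟩ := Set.mem_iUnion.1 (hT (Set.mem_univ z))
  obtain ⟨hyT, hzy⟩ := Set.mem_iUnion.1 hy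
  exact hspt y hyT z hzy

end Groth.Agent.Lib.Helper23.IntegralPts
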