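import Mathlib

/-!
# Adjunction between bounded-below homotopy categories induced by an adjunction

`Groth.Agent.Lib.Helper23KPlusAdj.adjPlus adj : L.mapHomotopyCategoryPlus ⊣ R.mapHomotopyCategoryPlus`
for an adjunction `adj : L ⊣ R` of additive functors between preadditive categories.
-/

set_option autoImplicit false
universe v v' u u'
open CategoryTheory CategoryTheory.Limits

namespace Groth.Agent.Lib.Helper23KPlusAdj

variable {A : Type u} [Category.{v} A] [Preadditive A] {B : Type u'} [Category.{v'} B] [Preadditive B]
  {L : A ⥤ B} {R : B ⥤ A} (adj : L ⊣ R) [L.Additive] [R.Additive]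

/-- unit on complexes -/
@[simps]
def ηK {ι : Type*} (c : ComplexShape ι) (K : HomologicalComplex A c) :
    K ⟶ (R.mapHomologicalComplex c).obj ((L.mapHomologicalComplex c).obj K) where
  f n := adj.unit.app (K.X n)
  comm' i j _ := (adj.unit.naturality (K.d i j)).symm

/-- counit on complexes -/
@[simps]
def εK {ι : Type*} (c : ComplexShape ι) (M : HomologicalComplex B c) :
    (L.mapHomologicalComplex c).obj ((R.mapHomologicalComplex c).obj M) ⟶ M where
  f n := adj.counit.app (M.X n)
  comm' i j _ := (adj.counit.naturality (M.d i j)).symm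

theorem ηK_naturality {ι : Type*} (c : ComplexShape ι) {K K' : HomologicalComplex A c} (φ : K ⟶ K') :
    φ ≫ ηK adj c K' = ηK adj c K ≫ (R.mapHomologicalComplex c).map ((L.mapHomologicalComplex c).map φ) := by
  ext n
  exact adj.unit.naturality (φ.f n)

theorem εK_naturality {ι : Type*} (c : ComplexShape ι) {M M' : HomologicalComplex B c} (φ : M ⟶ M') :
    (L.mapHomologicalComplex c).map ((R.mapHomologicalComplex c).map φ) ≫ εK adj c M' = εK adj c M ≫ φ := by
  ext n
  exact adj.counit.naturality (φ.f n)

theorem left_triangleK {ι : Type*} (c : ComplexShape ι) (K : HomologicalComplex A c) :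
    (L.mapHomologicalComplex c).map (ηK adj c K) ≫ εK adj c ((L.mapHomologicalComplex c).obj K) = 𝟙 _ := by
  ext n
  exact adj.left_triangle_components (K.X n)

theorem right_triangleK {ι : Type*} (c : ComplexShape ι) (M : HomologicalComplex B c) :
    ηK adj c ((R.mapHomologicalComplex c).obj M) ≫ (R.mapHomologicalComplex c).map (εK adj c M) = 𝟙 _ := by
  ext n
  exact adj.right_triangle_components (M.X n)

/-- unit on `K⁺` -/
noncomputable def unitPlus :
    𝟭 (HomotopyCategory.Plus A) ⟶ L.mapHomotopyCategoryPlus ⋙ R.mapHomotopyCategoryPlus where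
  app X := ObjectProperty.homMk
    ((HomotopyCategory.quotient A (ComplexShape.up ℤ)).map (ηK adj (ComplexShape.up ℤ) X.obj.as))
  naturality X Y f := by
    obtain ⟨φ, hφ⟩ := (HomotopyCategory.quotient A (ComplexShape.up ℤ)).map_surjective f.hom
    ext : 1
    have h := congrArg (fun z => (HomotopyCategory.quotient A (ComplexShape.up ℤ)).map z)
      (ηK_naturality adj (ComplexShape.up ℤ) φ)
    simp only [Functor.map_comp] at h
    show f.hom ≫ (HomotopyCategory.quotient A (ComplexShape.up ℤ)).map (ηK adj (ComplexShape.up ℤ) Y.obj.as) =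
      (HomotopyCategory.quotient A (ComplexShape.up ℤ)).map (ηK adj (ComplexShape.up ℤ) X.obj.as) ≫
        (R.mapHomotopyCategory (ComplexShape.up ℤ)).map ((L.mapHomotopyCategory (ComplexShape.up ℤ)).map f.hom)
    rw [← hφ]
    exact h

/-- counit on `K⁺` -/
noncomputable def counitPlus :
    R.mapHomotopyCategoryPlus ⋙ L.mapHomotopyCategoryPlus ⟶ 𝟭 (HomotopyCategory.Plus B) where
  app X := ObjectProperty.homMk
    ((HomotopyCategory.quotient B (ComplexShape.up ℤ)).map (εK adj (ComplexShape.up ℤ) X.obj.as))
  naturality X Y f := by
    obtain ⟨φ, hφ⟩ := (HomotopyCategory.quotient B (ComplexShape.up ℤ)).map_surjective f.hom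
    ext : 1
    have h := congrArg (fun z => (HomotopyCategory.quotient B (ComplexShape.up ℤ)).map z)
      (εK_naturality adj (ComplexShape.up ℤ) φ)
    simp only [Functor.map_comp] at h
    show (L.mapHomotopyCategory (ComplexShape.up ℤ)).map ((R.mapHomotopyCategory (ComplexShape.up ℤ)).map f.hom) ≫
        (HomotopyCategory.quotient B (ComplexShape.up ℤ)).map (εK adj (ComplexShape.up ℤ) Y.obj.as) =
      (HomotopyCategory.quotient B (ComplexShape.up ℤ)).map (εK adj (ComplexShape.up ℤ) X.obj.as) ≫ f.hom
    rw [← hφ]
    exact h

/-- The adjunction between bounded-below homotopy categories induced by an adjunction of additive functors. -/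
noncomputable def adjPlus : L.mapHomotopyCategoryPlus ⊣ R.mapHomotopyCategoryPlus :=
  Adjunction.mkOfUnitCounit
    { unit := unitPlus adj
      counit := counitPlus adj
      left_triangle := by
        ext X : 2
        ext : 1
        have h := congrArg (fun z => (HomotopyCategory.quotient B (ComplexShape.up ℤ)).map z)
          (left_triangleK adj (ComplexShape.up ℤ) X.obj.as)
        simp only [Functor.map_comp] at h
        simp
        exact h
      right_triangle := by
        ext X : 2
        ext : 1
        have h := congrArg (fun z => (HomotopyCategory.quotient A (ComplexShape.up ℤ)).map z)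
          (right_triangleK adj (ComplexShape.up ℤ) X.obj.as)
        simp only [Functor.map_comp] at h
        simp
        exact h }

end Groth.Agent.Lib.Helper23KPlusAdj
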