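import Groth.Prelude.Def_W4c2quivmodsheafKron
import Mathlib

/-!
# Kronecker modules: shared lemmas (helper23)

`sumMap f : (Fin n → V) → W`, `piMap f : V → (Fin n → W)`, dimension bounds for
subrepresentations, and the (semi)stability criteria in the extremal dimension vectors.
-/

namespace Groth.Agent.Lib.Helper23

open KronMod Module

variable {K : Type*} [Field K] {V W : Type*}
  [AddCommGroup V] [Module K V] [AddCommGroup W] [Module K W] {n : ℕ}

/-- The sum map `Vⁿ → W`. -/
noncomputable def sumMap (f : Fin n → (V →ₗ[K] W)) : (Fin n → V) →ₗ[K] W :=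
  ∑ j, (f j) ∘ₗ (LinearMap.proj j)

@[simp] lemma sumMap_apply (f : Fin n → (V →ₗ[K] W)) (v : Fin n → V) :
    sumMap f v = ∑ j, f j (v j) := by
  simp [sumMap]

/-- The product map `V → Wⁿ`. -/
def piMap (f : Fin n → (V →ₗ[K] W)) : V →ₗ[K] (Fin n → W) := LinearMap.pi f

@[simp] lemma piMap_apply (f : Fin n → (V →ₗ[K] W)) (v : V) (j : Fin n) :
    piMap f v j = f j v := rfl

lemma isSubrep_iff (f : Fin n → (V →ₗ[K] W)) (V' : Submodule K V) (W' : Submodule K W) :
    IsSubrep f V' W' ↔ ∀ j, ∀ v ∈ V', f j v ∈ W' := by
  unfold IsSubrep
  refine forall_congr' (fun j => ?_)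
  rw [Submodule.map_le_iff_le_comap]
  rfl

lemma isSubrep_top_range (f : Fin n → (V →ₗ[K] W)) :
    IsSubrep f ⊤ (LinearMap.range (sumMap f)) := by
  classical
  rw [isSubrep_iff]
  intro j v _
  refine ⟨Pi.single j v, ?_⟩
  rw [sumMap_apply, Finset.sum_eq_single j]
  · simp
  · intro b _ hb
    simp [Pi.single_eq_of_ne hb]
  · intro h; exact absurd (Finset.mem_univ j) h

lemma isSubrep_ker_bot (f : Fin n → (V →ₗ[K] W)) :
    IsSubrep f (LinearMap.ker (piMap f)) ⊥ := by
  rw [isSubrep_iff]
  intro j v hv
  rw [LinearMap.mem_ker] at hv
  have := congrFun hv j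
  simpa using this

lemma finrank_fin_fun_eq [FiniteDimensional K V] :
    finrank K (Fin n → V) = n * finrank K V := by
  rw [Module.finrank_pi_fintype]
  simp

/-- If the sum map is injective, a subrepresentation `(V', W')` has `n · dim V' ≤ dim W'`. -/
lemma mul_finrank_le_of_sumMap_injective [FiniteDimensional K V] [FiniteDimensional K W]
    (f : Fin n → (V →ₗ[K] W)) (hinj : Function.Injective (sumMap f))
    (V' : Submodule K V) (W' : Submodule K W) (h : IsSubrep f V' W') :
    n * finrank K V' ≤ finrank K W' := by
  rw [isSubrep_iff] at h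
  let g : (Fin n → V') →ₗ[K] W' :=
    LinearMap.codRestrict W' ((sumMap f) ∘ₗ (LinearMap.pi fun j => V'.subtype ∘ₗ LinearMap.proj j))
      (by
        intro v
        simp only [LinearMap.coe_comp, Function.comp_apply, sumMap_apply]
        refine Submodule.sum_mem _ (fun j _ => ?_)
        exact h j _ (by simp))
  have hg : Function.Injective g := by
    intro a b hab
    have h1 := congrArg Subtype.val hab
    simp only [g, LinearMap.codRestrict_apply] at h1
    have h2 := hinj h1
    funext j
    have h3 := congrFun h2 j
    simpa using h3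
  have := LinearMap.finrank_le_finrank_of_injective hg
  rwa [finrank_fin_fun_eq] at this

/-- If the product map is injective, a subrepresentation `(V', W')` has `dim V' ≤ n · dim W'`. -/
lemma finrank_le_mul_of_piMap_injective [FiniteDimensional K V] [FiniteDimensional K W]
    (f : Fin n → (V →ₗ[K] W)) (hinj : Function.Injective (piMap f))
    (V' : Submodule K V) (W' : Submodule K W) (h : IsSubrep f V' W') :
    finrank K V' ≤ n * finrank K W' := by
  rw [isSubrep_iff] at h
  let g : V' →ₗ[K] (Fin n → W') :=
    LinearMap.pi fun j => LinearMap.codRestrict W' ((f j) ∘ₗ V'.subtype) (fun v => h j v v.2)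
  have hg : Function.Injective g := by
    intro a b hab
    apply Subtype.ext
    apply hinj
    funext j
    have h1 := congrArg Subtype.val (congrFun hab j)
    simpa [g] using h1
  have := LinearMap.finrank_le_finrank_of_injective hg
  rwa [finrank_fin_fun_eq] at this


theorem isSemistable_iff_sumMap_bijective [FiniteDimensional K V] [FiniteDimensional K W]
    (f : Fin n → (V →ₗ[K] W)) (hV : 0 < finrank K V) (hW : finrank K W = n * finrank K V) :
    IsSemistable f ↔ Function.Bijective (sumMap f) := by
  have hdim : finrank K (Fin n → V) = finrank K W := by rw [finrank_fin_fun_eq, hW]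
  constructor
  · intro hf
    have hsurj : LinearMap.range (sumMap f) = ⊤ := by
      by_contra hne
      have h1 := hf.2 ⊤ (LinearMap.range (sumMap f)) (isSubrep_top_range f)
        (fun h => by
          have : finrank K (⊤ : Submodule K V) = 0 := by rw [h.1]; simp
          rw [finrank_top] at this
          omega)
        (fun h => hne h.2)
      rw [finrank_top] at h1
      have h2 : finrank K W ≤ finrank K (LinearMap.range (sumMap f)) := by
        rw [mul_comm] at h1
        exact Nat.le_of_mul_le_mul_left h1 hV
      exact hne (Submodule.eq_top_of_finrank_eq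
        (le_antisymm (Submodule.finrank_le _) h2))
    have hs : Function.Surjective (sumMap f) := LinearMap.range_eq_top.mp hsurj
    exact ⟨(LinearMap.injective_iff_surjective_of_finrank_eq_finrank hdim).mpr hs, hs⟩
  · intro hb
    refine ⟨by omega, fun V' W' hsub _ _ => ?_⟩
    have h1 := mul_finrank_le_of_sumMap_injective f hb.1 V' W' hsub
    calc finrank K W * finrank K V' = finrank K V * (n * finrank K V') := by rw [hW]; ring
      _ ≤ finrank K V * finrank K W' := Nat.mul_le_mul_left _ h1

theorem isSemistable_iff_piMap_bijective [FiniteDimensional K V] [FiniteDimensional K W]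
    (f : Fin n → (V →ₗ[K] W)) (hW : 0 < finrank K W) (hV : finrank K V = n * finrank K W) :
    IsSemistable f ↔ Function.Bijective (piMap f) := by
  have hdim : finrank K V = finrank K (Fin n → W) := by rw [finrank_fin_fun_eq, hV]
  constructor
  · intro hf
    have hker : LinearMap.ker (piMap f) = ⊥ := by
      by_contra hne
      have h1 := hf.2 (LinearMap.ker (piMap f)) ⊥ (isSubrep_ker_bot f)
        (fun h => hne h.1)
        (fun h => by
          have : finrank K (⊤ : Submodule K W) = 0 := by rw [← h.2]; simp
          rw [finrank_top] at this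
          omega)
      rw [finrank_bot, mul_zero] at h1
      have h2 : finrank K (LinearMap.ker (piMap f)) = 0 := by
        rcases Nat.eq_zero_or_pos (finrank K (LinearMap.ker (piMap f))) with h | h
        · exact h
        · have := Nat.mul_pos hW h
          omega
      exact hne (Submodule.finrank_eq_zero.mp h2)
    have hi : Function.Injective (piMap f) := LinearMap.ker_eq_bot.mp hker
    exact ⟨hi, (LinearMap.injective_iff_surjective_of_finrank_eq_finrank hdim).mp hi⟩
  · intro hb
    refine ⟨by omega, fun V' W' hsub _ _ => ?_⟩
    have h1 := finrank_le_mul_of_piMap_injective f hb.1 V' W' hsub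
    calc finrank K W * finrank K V' ≤ finrank K W * (n * finrank K W') := Nat.mul_le_mul_left _ h1
      _ = finrank K V * finrank K W' := by rw [hV]; ring


/-- If some combination of the arrows is injective, a subrepresentation `(V', W')` has
`dim V' ≤ dim W'`. -/
lemma finrank_le_of_combination_injective [FiniteDimensional K V] [FiniteDimensional K W]
    (f : Fin n → (V →ₗ[K] W)) (z : Fin n → K)
    (hz : Function.Injective ((∑ j, z j • f j : V →ₗ[K] W) : V → W))
    (V' : Submodule K V) (W' : Submodule K W) (h : IsSubrep f V' W') :
    finrank K V' ≤ finrank K W' := by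
  rw [isSubrep_iff] at h
  let g : V' →ₗ[K] W' :=
    LinearMap.codRestrict W' ((∑ j, z j • f j : V →ₗ[K] W) ∘ₗ V'.subtype)
      (by
        intro v
        simp only [LinearMap.coe_comp, Function.comp_apply, LinearMap.coe_sum, Finset.sum_apply,
          LinearMap.smul_apply, Submodule.coe_subtype]
        exact Submodule.sum_mem _ (fun j _ => Submodule.smul_mem _ _ (h j v v.2)))
  have hg : Function.Injective g := by
    intro a b hab
    have h1 := congrArg Subtype.val hab
    simp only [g, LinearMap.codRestrict_apply, LinearMap.coe_comp, Function.comp_apply,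
      Submodule.coe_subtype] at h1
    exact Subtype.ext (hz h1)
  exact LinearMap.finrank_le_finrank_of_injective hg


lemma sumMap_single (f : Fin n → (V →ₗ[K] W)) (j : Fin n) (v : V) :
    sumMap f (Pi.single j v) = f j v := by
  classical
  rw [sumMap_apply, Finset.sum_eq_single j]
  · simp
  · intro b _ hb
    simp [Pi.single_eq_of_ne hb]
  · intro h; exact absurd (Finset.mem_univ j) h

/-- Existence and uniqueness of semistable modules in dimension vector `(d, n d)`. -/
theorem exists_unique_semistable_of_dim_eq_mul [FiniteDimensional K V] [FiniteDimensional K W]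
    (hV : 0 < finrank K V) (hW : finrank K W = n * finrank K V) :
    (∃ f : Fin n → (V →ₗ[K] W), IsSemistable f) ∧
    ∀ f f' : Fin n → (V →ₗ[K] W), IsSemistable f → IsSemistable f' → AreIso f f' := by
  classical
  constructor
  · have hdim : finrank K (Fin n → V) = finrank K W := by rw [finrank_fin_fun_eq, hW]
    let e : (Fin n → V) ≃ₗ[K] W := LinearEquiv.ofFinrankEq _ _ hdim
    let f : Fin n → (V →ₗ[K] W) := fun j => (e : (Fin n → V) →ₗ[K] W) ∘ₗ LinearMap.single K (fun _ => V) j
    refine ⟨f, (isSemistable_iff_sumMap_bijective f hV hW).mpr ?_⟩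
    have : ⇑(sumMap f) = ⇑e := by
      funext v
      rw [sumMap_apply]
      simp only [f, LinearMap.coe_comp, Function.comp_apply, LinearEquiv.coe_coe]
      rw [← map_sum]
      congr 1
      funext i
      simp [Finset.sum_apply, Pi.single_apply]
    rw [this]
    exact e.bijective
  · intro f f' hf hf'
    have hb := (isSemistable_iff_sumMap_bijective f hV hW).mp hf
    have hb' := (isSemistable_iff_sumMap_bijective f' hV hW).mp hf'
    let Φ := LinearEquiv.ofBijective (sumMap f) hb
    let Φ' := LinearEquiv.ofBijective (sumMap f') hb'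
    refine ⟨LinearEquiv.refl K V, Φ.symm.trans Φ', fun j => ?_⟩
    ext v
    simp only [LinearMap.coe_comp, LinearEquiv.coe_coe, Function.comp_apply,
      LinearEquiv.trans_apply, LinearEquiv.refl_apply]
    have h1 : Φ.symm (f j v) = Pi.single j v := by
      rw [LinearEquiv.symm_apply_eq]
      exact (sumMap_single f j v).symm
    rw [h1]
    exact sumMap_single f' j v

/-- Existence and uniqueness of semistable modules in dimension vector `(n d, d)`. -/
theorem exists_unique_semistable_of_mul_eq_dim [FiniteDimensional K V] [FiniteDimensional K W]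
    (hW : 0 < finrank K W) (hV : finrank K V = n * finrank K W) :
    (∃ f : Fin n → (V →ₗ[K] W), IsSemistable f) ∧
    ∀ f f' : Fin n → (V →ₗ[K] W), IsSemistable f → IsSemistable f' → AreIso f f' := by
  classical
  constructor
  · have hdim : finrank K V = finrank K (Fin n → W) := by rw [finrank_fin_fun_eq, hV]
    let e : V ≃ₗ[K] (Fin n → W) := LinearEquiv.ofFinrankEq _ _ hdim
    let f : Fin n → (V →ₗ[K] W) := fun j => LinearMap.proj j ∘ₗ (e : V →ₗ[K] (Fin n → W))
    refine ⟨f, (isSemistable_iff_piMap_bijective f hW hV).mpr ?_⟩
    have : ⇑(piMap f) = ⇑e := by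
      funext v j
      simp [f]
    rw [this]
    exact e.bijective
  · intro f f' hf hf'
    have hb := (isSemistable_iff_piMap_bijective f hW hV).mp hf
    have hb' := (isSemistable_iff_piMap_bijective f' hW hV).mp hf'
    let Ψ := LinearEquiv.ofBijective (piMap f) hb
    let Ψ' := LinearEquiv.ofBijective (piMap f') hb'
    refine ⟨Ψ.trans Ψ'.symm, LinearEquiv.refl K W, fun j => ?_⟩
    ext v
    simp only [LinearMap.coe_comp, LinearEquiv.coe_coe, Function.comp_apply,
      LinearEquiv.trans_apply, LinearEquiv.refl_apply]
    have h1 : piMap f' (Ψ'.symm (Ψ v)) = Ψ v := Ψ'.apply_symm_apply (Ψ v)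
    have h2 := congrFun h1 j
    rw [piMap_apply] at h2
    rw [h2]
    rfl


lemma isSemistable_of_isStable {f : Fin n → (V →ₗ[K] W)} (h : IsStable f) : IsSemistable f :=
  ⟨h.1, fun V' W' hs h1 h2 => (h.2 V' W' hs h1 h2).le⟩

/-- Stability in dimension vector `(d, n d)`. -/
theorem isStable_iff_of_dim_eq_mul [FiniteDimensional K V] [FiniteDimensional K W]
    (f : Fin n → (V →ₗ[K] W)) (hV : 0 < finrank K V) (hW : finrank K W = n * finrank K V) :
    IsStable f ↔ (IsSemistable f ∧ finrank K V = 1) := by
  constructor
  · intro hst
    refine ⟨isSemistable_of_isStable hst, ?_⟩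
    by_contra hne
    have h2 : 2 ≤ finrank K V := by omega
    obtain ⟨v, hv⟩ := (Module.finrank_pos_iff_exists_ne_zero (R := K) (M := V)).mp hV
    let V' : Submodule K V := K ∙ v
    let W' : Submodule K W := Submodule.span K (Set.range fun j => f j v)
    have hV' : finrank K V' = 1 := finrank_span_singleton hv
    have hW' : finrank K W' ≤ n := by
      have := finrank_range_le_card (R := K) (fun j => f j v)
      simpa [Set.finrank] using this
    have hsub : IsSubrep f V' W' := by
      rw [isSubrep_iff]
      intro j w hw
      obtain ⟨c, rfl⟩ := Submodule.mem_span_singleton.mp hw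
      rw [map_smul]
      exact Submodule.smul_mem _ _ (Submodule.subset_span ⟨j, rfl⟩)
    have h1 := hst.2 V' W' hsub
      (fun h => hv (by
        have : v ∈ V' := Submodule.mem_span_singleton_self v
        rw [h.1] at this
        simpa using this))
      (fun h => by
        have : finrank K V' = finrank K V := by rw [h.1, finrank_top]
        omega)
    rw [hV', mul_one, hW] at h1
    have : finrank K V * finrank K W' ≤ finrank K V * n := Nat.mul_le_mul_left _ hW'
    rw [mul_comm] at h1
    omega
  · rintro ⟨hss, h1⟩
    have hb := (isSemistable_iff_sumMap_bijective f hV hW).mp hss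
    refine ⟨hss.1, fun V' W' hsub hbot htop => ?_⟩
    have hsub' := (isSubrep_iff f V' W').mp hsub
    have hle : finrank K V' ≤ 1 := h1 ▸ Submodule.finrank_le V'
    rcases Nat.eq_zero_or_pos (finrank K V') with h0 | hpos
    · have hV'bot : V' = ⊥ := Submodule.finrank_eq_zero.mp h0
      have hW'ne : W' ≠ ⊥ := fun h => hbot ⟨hV'bot, h⟩
      have : 0 < finrank K W' := by
        rcases Nat.eq_zero_or_pos (finrank K W') with h | h
        · exact absurd (Submodule.finrank_eq_zero.mp h) hW'ne
        · exact h
      rw [h0, mul_zero, h1, one_mul]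
      exact this
    · exfalso
      have hV'top : V' = ⊤ := Submodule.eq_top_of_finrank_eq (by omega)
      apply htop
      refine ⟨hV'top, ?_⟩
      rw [eq_top_iff]
      intro w _
      obtain ⟨x, rfl⟩ := hb.2 w
      rw [sumMap_apply]
      exact Submodule.sum_mem _ (fun j _ => hsub' j _ (by rw [hV'top]; trivial))


/-- Stability in dimension vector `(n d, d)`. -/
theorem isStable_iff_of_mul_eq_dim [FiniteDimensional K V] [FiniteDimensional K W]
    (f : Fin n → (V →ₗ[K] W)) (hW : 0 < finrank K W) (hV : finrank K V = n * finrank K W) :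
    IsStable f ↔ (IsSemistable f ∧ finrank K W = 1) := by
  constructor
  · intro hst
    refine ⟨isSemistable_of_isStable hst, ?_⟩
    by_contra hne
    have h2 : 2 ≤ finrank K W := by omega
    have : Nontrivial W := Module.nontrivial_of_finrank_pos hW
    obtain ⟨lam, hlam, -⟩ := Submodule.exists_le_ker_of_lt_top (⊥ : Submodule K W) bot_lt_top
    let W' : Submodule K W := LinearMap.ker lam
    have hW' : finrank K W' + 1 = finrank K W := Module.Dual.finrank_ker_add_one_of_ne_zero hlam
    let g : V →ₗ[K] (Fin n → K) := LinearMap.pi fun j => lam ∘ₗ f j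
    let V' : Submodule K V := LinearMap.ker g
    have hrk := LinearMap.finrank_range_add_finrank_ker g
    have hr : finrank K (LinearMap.range g) ≤ n := by
      have := Submodule.finrank_le (LinearMap.range g)
      simpa using this
    have hsub : IsSubrep f V' W' := by
      rw [isSubrep_iff]
      intro j v hv
      have h1 : g v = 0 := hv
      have h2 := congrFun h1 j
      exact h2
    have h1 := hst.2 V' W' hsub
      (fun h => by
        have : finrank K W' = 0 := by rw [h.2, finrank_bot]
        omega)
      (fun h => by
        have : finrank K W' = finrank K W := by rw [h.2, finrank_top]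
        omega)
    have hV'ge : n * finrank K W' ≤ finrank K V' := by
      have e1 : finrank K V = n * finrank K W' + n := by rw [hV, ← hW']; ring
      have e2 : finrank K (LinearMap.ker g) = finrank K V' := rfl
      omega
    have h3 : finrank K W * (n * finrank K W') ≤ finrank K W * finrank K V' :=
      Nat.mul_le_mul_left _ hV'ge
    have h4 : finrank K V * finrank K W' = finrank K W * (n * finrank K W') := by
      rw [hV]; ring
    omega
  · rintro ⟨hss, h1⟩
    have hb := (isSemistable_iff_piMap_bijective f hW hV).mp hss
    refine ⟨hss.1, fun V' W' hsub hbot htop => ?_⟩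
    have hsub' := (isSubrep_iff f V' W').mp hsub
    have hle : finrank K W' ≤ 1 := h1 ▸ Submodule.finrank_le W'
    rcases Nat.eq_zero_or_pos (finrank K W') with h0 | hpos
    · exfalso
      have hW'bot : W' = ⊥ := Submodule.finrank_eq_zero.mp h0
      apply hbot
      refine ⟨?_, hW'bot⟩
      rw [eq_bot_iff]
      intro v hv
      have : piMap f v = 0 := by
        funext j
        have := hsub' j v hv
        rw [hW'bot] at this
        simpa using this
      have hv0 : v = 0 := hb.1 (by rw [this, map_zero])
      simp [hv0]
    · have hW'top : W' = ⊤ := Submodule.eq_top_of_finrank_eq (by omega)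
      have hV'ne : V' ≠ ⊤ := fun h => htop ⟨h, hW'top⟩
      have := Submodule.finrank_lt hV'ne
      have e : finrank K W' = 1 := by omega
      rw [h1, one_mul, e, mul_one]
      exact this


/-- Dimension vector `(1, 1)`: semistable, stable and nonzero are equivalent. -/
theorem isSemistable_isStable_iff_ne_zero_of_dim_one [FiniteDimensional K V]
    [FiniteDimensional K W] (f : Fin n → (V →ₗ[K] W))
    (hV : finrank K V = 1) (hW : finrank K W = 1) :
    (IsSemistable f ↔ f ≠ 0) ∧ (IsStable f ↔ f ≠ 0) := by
  have hss_ne : IsSemistable f → f ≠ 0 := by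
    intro hss h0
    have hsub : IsSubrep f ⊤ ⊥ := by
      rw [isSubrep_iff]
      intro j v _
      rw [h0]
      simp
    have h1 := hss.2 ⊤ ⊥ hsub
      (fun h => by
        have : finrank K (⊤ : Submodule K V) = 0 := by rw [h.1]; simp
        rw [finrank_top] at this
        omega)
      (fun h => by
        have : finrank K (⊤ : Submodule K W) = 0 := by rw [← h.2]; simp
        rw [finrank_top] at this
        omega)
    rw [finrank_top, finrank_bot, hV, hW] at h1
    omega
  have hne_st : f ≠ 0 → IsStable f := by
    intro hne
    obtain ⟨j, hj⟩ : ∃ j, f j ≠ 0 := by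
      by_contra hcon
      push Not at hcon
      exact hne (funext hcon)
    obtain ⟨v, hv⟩ : ∃ v, f j v ≠ 0 := by
      by_contra hcon
      push Not at hcon
      exact hj (LinearMap.ext hcon)
    refine ⟨by omega, fun V' W' hsub hbot htop => ?_⟩
    have hsub' := (isSubrep_iff f V' W').mp hsub
    have hV'le : finrank K V' ≤ 1 := hV ▸ Submodule.finrank_le V'
    have hW'le : finrank K W' ≤ 1 := hW ▸ Submodule.finrank_le W'
    rcases Nat.eq_zero_or_pos (finrank K V') with h0 | hpos
    · have hV'bot : V' = ⊥ := Submodule.finrank_eq_zero.mp h0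
      have hW'ne : W' ≠ ⊥ := fun h => hbot ⟨hV'bot, h⟩
      have : 0 < finrank K W' := by
        rcases Nat.eq_zero_or_pos (finrank K W') with h | h
        · exact absurd (Submodule.finrank_eq_zero.mp h) hW'ne
        · exact h
      rw [h0, mul_zero, hV, one_mul]
      exact this
    · exfalso
      have hV'top : V' = ⊤ := Submodule.eq_top_of_finrank_eq (by omega)
      apply htop
      refine ⟨hV'top, ?_⟩
      have hmem : f j v ∈ W' := hsub' j v (by rw [hV'top]; trivial)
      have hW'ne : W' ≠ ⊥ := by
        intro h
        rw [h] at hmem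
        exact hv (by simpa using hmem)
      have : 0 < finrank K W' := by
        rcases Nat.eq_zero_or_pos (finrank K W') with h | h
        · exact absurd (Submodule.finrank_eq_zero.mp h) hW'ne
        · exact h
      exact Submodule.eq_top_of_finrank_eq (by omega)
  exact ⟨⟨hss_ne, fun h => isSemistable_of_isStable (hne_st h)⟩,
    ⟨fun h => hss_ne (isSemistable_of_isStable h), hne_st⟩⟩


lemma finrank_span_singleton_le_one (w : W) : finrank K (K ∙ w) ≤ 1 := by
  by_cases hw : w = 0
  · rw [hw, Submodule.span_zero_singleton, finrank_bot]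
    omega
  · rw [finrank_span_singleton hw]

/-- A nonzero vector all of whose images lie on one line destabilises the module when
`2 ≤ dim V ≤ dim W`... more precisely it prevents stability when `dim V ≤ dim W`. -/
lemma not_isStable_of_line [FiniteDimensional K V] [FiniteDimensional K W]
    (f : Fin n → (V →ₗ[K] W)) (h2 : 2 ≤ finrank K V) (hle : finrank K V ≤ finrank K W)
    (v : V) (hv : v ≠ 0) (w : W) (hw : ∀ j, f j v ∈ K ∙ w) : ¬ IsStable f := by
  intro hst
  have hsub : IsSubrep f (K ∙ v) (K ∙ w) := by
    rw [isSubrep_iff]
    intro j x hx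
    obtain ⟨c, rfl⟩ := Submodule.mem_span_singleton.mp hx
    rw [map_smul]
    exact Submodule.smul_mem _ _ (hw j)
  have hV' : finrank K (K ∙ v) = 1 := finrank_span_singleton hv
  have hW' := finrank_span_singleton_le_one (K := K) w
  have h1 := hst.2 (K ∙ v) (K ∙ w) hsub
    (fun h => hv (by
      have : v ∈ K ∙ v := Submodule.mem_span_singleton_self v
      rw [h.1] at this
      simpa using this))
    (fun h => by
      have : finrank K (K ∙ v) = finrank K V := by rw [h.1, finrank_top]
      omega)
  rw [hV', mul_one] at h1
  have : finrank K V * finrank K (K ∙ w) ≤ finrank K V * 1 := Nat.mul_le_mul_left _ hW'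
  omega

/-- Two arrows over an algebraically closed field, dimension vector `(k, k)`, `k ≥ 2`:
no stable modules. -/
theorem not_isStable_two_arrows [IsAlgClosed K] [FiniteDimensional K V] [FiniteDimensional K W]
    (f : Fin 2 → (V →ₗ[K] W)) (k : ℕ) (hk : 2 ≤ k)
    (hV : finrank K V = k) (hW : finrank K W = k) : ¬ IsStable f := by
  by_cases hinj : Function.Injective (f 0)
  · -- `f 0` is an isomorphism; take an eigenvector of `(f 0)⁻¹ ∘ f 1`
    have hbij : Function.Bijective (f 0) :=
      ⟨hinj, (LinearMap.injective_iff_surjective_of_finrank_eq_finrank (hV.trans hW.symm)).mp hinj⟩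
    let e : V ≃ₗ[K] W := LinearEquiv.ofBijective (f 0) hbij
    let T : Module.End K V := (e.symm : W →ₗ[K] V) ∘ₗ f 1
    have : Nontrivial V := Module.nontrivial_of_finrank_pos (R := K) (by omega)
    obtain ⟨μ, hμ⟩ := Module.End.exists_eigenvalue T
    obtain ⟨v, hv⟩ := hμ.exists_hasEigenvector
    have hTv : T v = μ • v := hv.apply_eq_smul
    have h1 : f 1 v = μ • f 0 v := by
      have : e (T v) = f 1 v := by simp [T]
      rw [← this, hTv, map_smul]
      rfl
    refine not_isStable_of_line f (by omega) (by omega) v hv.2 (f 0 v) ?_
    intro j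
    fin_cases j
    · exact Submodule.mem_span_singleton_self _
    · show f 1 v ∈ K ∙ f 0 v
      rw [h1]
      exact Submodule.smul_mem _ _ (Submodule.mem_span_singleton_self _)
  · -- a kernel vector of `f 0`
    have hker : LinearMap.ker (f 0) ≠ ⊥ := fun h => hinj (LinearMap.ker_eq_bot.mp h)
    obtain ⟨v, hvmem, hv⟩ := Submodule.exists_mem_ne_zero_of_ne_bot hker
    refine not_isStable_of_line f (by omega) (by omega) v hv (f 1 v) ?_
    intro j
    fin_cases j
    · show f 0 v ∈ K ∙ f 1 v
      rw [LinearMap.mem_ker.mp hvmem]
      exact Submodule.zero_mem _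
    · exact Submodule.mem_span_singleton_self _


/-! ### Duality -/

/-- (Semi)stability with respect to an arbitrary relation on `ℕ`. -/
def GenStable (r : ℕ → ℕ → Prop) (f : Fin n → (V →ₗ[K] W)) : Prop :=
  0 < finrank K V + finrank K W ∧
  ∀ (V' : Submodule K V) (W' : Submodule K W), IsSubrep f V' W' →
    ¬ (V' = ⊥ ∧ W' = ⊥) → ¬ (V' = ⊤ ∧ W' = ⊤) →
    r (finrank K W * finrank K V') (finrank K V * finrank K W')

lemma isSemistable_iff_genStable (f : Fin n → (V →ₗ[K] W)) :
    IsSemistable f ↔ GenStable (· ≤ ·) f := Iff.rfl

lemma isStable_iff_genStable (f : Fin n → (V →ₗ[K] W)) :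
    IsStable f ↔ GenStable (· < ·) f := Iff.rfl

lemma finrank_pos_of_ne_bot [FiniteDimensional K V] {S : Submodule K V} (h : S ≠ ⊥) :
    0 < finrank K S := by
  rcases Nat.eq_zero_or_pos (finrank K S) with h0 | h0
  · exact absurd (Submodule.finrank_eq_zero.mp h0) h
  · exact h0

theorem genStable_dual_iff [FiniteDimensional K V] [FiniteDimensional K W]
    (r : ℕ → ℕ → Prop)
    (hr : ∀ a b a' b' : ℕ, a' ≤ a → b' ≤ b →
      (r (b * a') (a * b') ↔ r (a * (b - b')) (b * (a - a'))))
    (f : Fin n → (V →ₗ[K] W)) :
    GenStable r f ↔ GenStable r (fun j => (f j).dualMap) := by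
  constructor
  · intro hf
    refine ⟨by
      have := hf.1
      rw [Subspace.dual_finrank_eq, Subspace.dual_finrank_eq]
      omega, fun A B hsub hbot htop => ?_⟩
    rw [isSubrep_iff] at hsub
    have hsub' : IsSubrep f B.dualCoannihilator A.dualCoannihilator := by
      rw [isSubrep_iff]
      intro j v hv
      rw [Submodule.mem_dualCoannihilator] at hv ⊢
      intro φ hφ
      have := hv _ (hsub j φ hφ)
      simpa [LinearMap.dualMap_apply] using this
    have hA := Subspace.finrank_add_finrank_dualCoannihilator_eq A
    have hB := Subspace.finrank_add_finrank_dualCoannihilator_eq B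
    have h1 := hf.2 B.dualCoannihilator A.dualCoannihilator hsub'
      (fun h => htop (by
        constructor
        · apply Submodule.eq_top_of_finrank_eq
          rw [Subspace.dual_finrank_eq, ← hA, h.2, finrank_bot, add_zero]
        · apply Submodule.eq_top_of_finrank_eq
          rw [Subspace.dual_finrank_eq, ← hB, h.1, finrank_bot, add_zero]))
      (fun h => hbot (by
        constructor
        · apply Submodule.finrank_eq_zero.mp
          rw [h.2, finrank_top] at hA
          omega
        · apply Submodule.finrank_eq_zero.mp
          rw [h.1, finrank_top] at hB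
          omega))
    rw [Subspace.dual_finrank_eq, Subspace.dual_finrank_eq]
    have eA : finrank K A = finrank K W - finrank K A.dualCoannihilator := by omega
    have eB : finrank K B = finrank K V - finrank K B.dualCoannihilator := by omega
    rw [eA, eB]
    exact (hr _ _ _ _ (by omega) (by omega)).mp h1
  · intro hf
    refine ⟨by
      have := hf.1
      rw [Subspace.dual_finrank_eq, Subspace.dual_finrank_eq] at this
      omega, fun V' W' hsub hbot htop => ?_⟩
    rw [isSubrep_iff] at hsub
    have hsub' : IsSubrep (fun j => (f j).dualMap) W'.dualAnnihilator V'.dualAnnihilator := by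
      rw [isSubrep_iff]
      intro j φ hφ
      rw [Submodule.mem_dualAnnihilator] at hφ ⊢
      intro v hv
      rw [LinearMap.dualMap_apply]
      exact hφ _ (hsub j v hv)
    have hV' := Subspace.finrank_add_finrank_dualAnnihilator_eq V'
    have hW' := Subspace.finrank_add_finrank_dualAnnihilator_eq W'
    have h1 := hf.2 W'.dualAnnihilator V'.dualAnnihilator hsub'
      (fun h => htop (by
        constructor
        · apply Submodule.eq_top_of_finrank_eq
          rw [← hV', h.2, finrank_bot, add_zero]
        · apply Submodule.eq_top_of_finrank_eq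
          rw [← hW', h.1, finrank_bot, add_zero]))
      (fun h => hbot (by
        constructor
        · apply Submodule.finrank_eq_zero.mp
          rw [h.2, finrank_top, Subspace.dual_finrank_eq] at hV'
          omega
        · apply Submodule.finrank_eq_zero.mp
          rw [h.1, finrank_top, Subspace.dual_finrank_eq] at hW'
          omega))
    rw [Subspace.dual_finrank_eq, Subspace.dual_finrank_eq] at h1
    have eA : finrank K W'.dualAnnihilator = finrank K W - finrank K W' := by omega
    have eB : finrank K V'.dualAnnihilator = finrank K V - finrank K V' := by omega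
    rw [eA, eB] at h1
    exact (hr _ _ _ _ (by omega) (by omega)).mpr h1

theorem isSemistable_isStable_iff_dualMap [FiniteDimensional K V] [FiniteDimensional K W]
    (f : Fin n → (V →ₗ[K] W)) :
    (IsSemistable f ↔ IsSemistable (fun j => (f j).dualMap)) ∧
    (IsStable f ↔ IsStable (fun j => (f j).dualMap)) := by
  constructor
  · rw [isSemistable_iff_genStable, isSemistable_iff_genStable]
    refine genStable_dual_iff _ ?_ f
    intro a b a' b' ha hb
    show (b * a' ≤ a * b' ↔ a * (b - b') ≤ b * (a - a'))
    have h1 : a * b' ≤ a * b := Nat.mul_le_mul_left _ hb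
    have h2 : b * a' ≤ a * b := by rw [mul_comm a b]; exact Nat.mul_le_mul_left _ ha
    rw [Nat.mul_sub, Nat.mul_sub, mul_comm b a]
    generalize a * b = X at *
    generalize a * b' = Y at *
    generalize b * a' = Z at *
    omega
  · rw [isStable_iff_genStable, isStable_iff_genStable]
    refine genStable_dual_iff _ ?_ f
    intro a b a' b' ha hb
    show (b * a' < a * b' ↔ a * (b - b') < b * (a - a'))
    have h1 : a * b' ≤ a * b := Nat.mul_le_mul_left _ hb
    have h2 : b * a' ≤ a * b := by rw [mul_comm a b]; exact Nat.mul_le_mul_left _ ha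
    rw [Nat.mul_sub, Nat.mul_sub, mul_comm b a]
    generalize a * b = X at *
    generalize a * b' = Y at *
    generalize b * a' = Z at *
    omega

end Groth.Agent.Lib.Helper23
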