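import Groth.Agent.Lib.Helper23Kron

/-!
# Kronecker modules with two arrows: singular pencils are destabilised (helper23)
-/

namespace Groth.Agent.Lib.Helper23

open KronMod Module

universe u v w

section Lift

variable {K : Type u} [Field K] {V : Type v} {W : Type w}
  [AddCommGroup V] [Module K V] [AddCommGroup W] [Module K W]

/-- If `g` maps the line `K v` into `q`, the induced map on quotients is injective and
`g v ≠ 0`, then `g` is injective. -/
lemma injective_of_mapQ_injective (g : V →ₗ[K] W) (v : V) (q : Submodule K W)
    (h : (K ∙ v) ≤ q.comap g) (hinj : Function.Injective ((K ∙ v).mapQ q g h))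
    (hgv : g v ≠ 0) : Function.Injective g := by
  rw [← LinearMap.ker_eq_bot, eq_bot_iff]
  intro x hx
  rw [LinearMap.mem_ker] at hx
  have h1 : (K ∙ v).mapQ q g h (Submodule.Quotient.mk x) = 0 := by
    rw [Submodule.mapQ_apply, hx]
    rfl
  have h2 : (Submodule.Quotient.mk x : V ⧸ (K ∙ v)) = 0 := hinj (by rw [h1, map_zero])
  rw [Submodule.Quotient.mk_eq_zero] at h2
  obtain ⟨c, rfl⟩ := Submodule.mem_span_singleton.mp h2
  rw [map_smul] at hx
  rcases smul_eq_zero.mp hx with hc | hc
  · simp [hc]
  · exact absurd hc hgv

variable [Infinite K] [FiniteDimensional K V] [FiniteDimensional K W]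

/-- Key lemma: if `f0 v = 0`, `f1 v ≠ 0` and `f0` induces a bijection
`V / K v → W / K (f1 v)`, then some `f1 - μ f0` is bijective. -/
lemma exists_bijective_sub_smul (hdim : finrank K V = finrank K W) (f0 f1 : V →ₗ[K] W) (v : V)
    (hv0 : f0 v = 0) (hw : f1 v ≠ 0)
    (h0 : (K ∙ v) ≤ (K ∙ f1 v).comap f0) (h1 : (K ∙ v) ≤ (K ∙ f1 v).comap f1)
    (hbij : Function.Bijective ((K ∙ v).mapQ (K ∙ f1 v) f0 h0)) :
    ∃ μ : K, Function.Bijective (f1 - μ • f0) := by
  set p : Submodule K V := K ∙ v with hp
  set q : Submodule K W := K ∙ f1 v with hq
  set F0 := p.mapQ q f0 h0 with hF0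
  set F1 := p.mapQ q f1 h1 with hF1
  let e0 : (V ⧸ p) ≃ₗ[K] (W ⧸ q) := LinearEquiv.ofBijective F0 hbij
  let T : Module.End K (V ⧸ p) := (e0.symm : (W ⧸ q) →ₗ[K] (V ⧸ p)) ∘ₗ F1
  obtain ⟨μ, hμ⟩ := (Module.End.finite_spectrum T).exists_notMem
  rw [spectrum.notMem_iff, Module.End.isUnit_iff] at hμ
  refine ⟨μ, ?_⟩
  have hG : p ≤ q.comap (f1 - μ • f0) := by
    intro x hx
    have a := h0 hx
    have b := h1 hx
    simp only [Submodule.mem_comap, LinearMap.sub_apply, LinearMap.smul_apply] at a b ⊢
    exact Submodule.sub_mem _ b (Submodule.smul_mem _ _ a)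
  have hGq : p.mapQ q (f1 - μ • f0) hG = F1 - μ • F0 := by
    apply LinearMap.ext
    intro y
    induction y using Submodule.Quotient.induction_on with
    | H x => simp [hF0, hF1, Submodule.mapQ_apply]
  have hinjQ : Function.Injective (p.mapQ q (f1 - μ • f0) hG) := by
    rw [hGq, ← LinearMap.ker_eq_bot, eq_bot_iff]
    intro y hy
    rw [LinearMap.mem_ker, LinearMap.sub_apply, LinearMap.smul_apply, sub_eq_zero] at hy
    have hT : T y = μ • y := by
      show e0.symm (F1 y) = μ • y
      rw [hy, LinearEquiv.symm_apply_eq, map_smul]
      rfl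
    have : (algebraMap K (Module.End K (V ⧸ p)) μ - T) y = 0 := by
      rw [LinearMap.sub_apply, hT]
      simp [Module.algebraMap_end_apply]
    have hy0 : y = 0 := hμ.1 (by rw [this, map_zero])
    simp [hy0]
  have hGv : (f1 - μ • f0) v ≠ 0 := by
    rw [LinearMap.sub_apply, LinearMap.smul_apply, hv0, smul_zero, sub_zero]
    exact hw
  have hinj := injective_of_mapQ_injective (f1 - μ • f0) v q hG hinjQ hGv
  exact ⟨hinj, (LinearMap.injective_iff_surjective_of_finrank_eq_finrank hdim).mp hinj⟩

end Lift


section Pencil

variable {K : Type u} [Field K] [Infinite K]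

/-- A pencil `(f0, f1)` between spaces of the same dimension all of whose members are singular
admits an invariant pair `(V', W')` with `codim V' < codim W'`. -/
theorem exists_codim_lt_of_forall_not_bijective (k : ℕ) :
    ∀ (V : Type v) (W : Type w) [AddCommGroup V] [Module K V] [FiniteDimensional K V]
      [AddCommGroup W] [Module K W] [FiniteDimensional K W] (f0 f1 : V →ₗ[K] W),
      finrank K V = k → finrank K W = k →
      (∀ a b : K, ¬ Function.Bijective (a • f0 + b • f1)) →
      ∃ (V' : Submodule K V) (W' : Submodule K W),
        (∀ x ∈ V', f0 x ∈ W' ∧ f1 x ∈ W') ∧ finrank K (V ⧸ V') < finrank K (W ⧸ W') := by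
  induction k with
  | zero =>
    intro V W _ _ _ _ _ _ f0 f1 hV hW hns
    exfalso
    apply hns 0 0
    have h1 : Subsingleton V := Module.finrank_zero_iff.mp hV
    have h2 : Subsingleton W := Module.finrank_zero_iff.mp hW
    exact ⟨fun a b _ => Subsingleton.elim _ _, fun b => ⟨0, Subsingleton.elim _ _⟩⟩
  | succ k ih =>
    intro V W _ _ _ _ _ _ f0 f1 hV hW hns
    have hdim : finrank K V = finrank K W := hV.trans hW.symm
    -- `f0` is not injective
    have h0 : ¬ Function.Injective f0 := by
      intro hinj
      apply hns 1 0
      have : (1 : K) • f0 + (0 : K) • f1 = f0 := by simp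
      rw [this]
      exact ⟨hinj, (LinearMap.injective_iff_surjective_of_finrank_eq_finrank hdim).mp hinj⟩
    obtain ⟨v, hvmem, hv⟩ := Submodule.exists_mem_ne_zero_of_ne_bot
      (fun h => h0 (LinearMap.ker_eq_bot.mp h))
    have hf0v : f0 v = 0 := hvmem
    have hpV : finrank K (V ⧸ (K ∙ v)) = k := by
      have h1 := (K ∙ v).finrank_quotient_add_finrank
      rw [finrank_span_singleton hv, hV] at h1
      omega
    by_cases hw : f1 v = 0
    · refine ⟨K ∙ v, ⊥, ?_, ?_⟩
      · intro x hx
        obtain ⟨c, rfl⟩ := Submodule.mem_span_singleton.mp hx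
        simp [hf0v, hw]
      · have h2 := (⊥ : Submodule K W).finrank_quotient_add_finrank
        rw [finrank_bot, hW] at h2
        omega
    · set p : Submodule K V := K ∙ v with hp
      set q : Submodule K W := K ∙ f1 v with hq
      have hqW : finrank K (W ⧸ q) = k := by
        have h1 := q.finrank_quotient_add_finrank
        have hq1 : finrank K q = 1 := finrank_span_singleton hw
        rw [hq1, hW] at h1
        omega
      have hcomb : ∀ a b : K, p ≤ q.comap (a • f0 + b • f1) := by
        intro a b x hx
        obtain ⟨c, rfl⟩ := Submodule.mem_span_singleton.mp hx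
        simp only [Submodule.mem_comap, map_smul, LinearMap.add_apply, LinearMap.smul_apply,
          hf0v, smul_zero, zero_add]
        exact Submodule.smul_mem _ _ (Submodule.smul_mem _ _ (Submodule.mem_span_singleton_self _))
      have hp0 : p ≤ q.comap f0 := by
        have := hcomb 1 0
        simpa using this
      have hp1 : p ≤ q.comap f1 := by
        have := hcomb 0 1
        simpa using this
      set F0 := p.mapQ q f0 hp0 with hF0
      set F1 := p.mapQ q f1 hp1 with hF1
      have hFcomb : ∀ a b : K, p.mapQ q (a • f0 + b • f1) (hcomb a b) = a • F0 + b • F1 := by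
        intro a b
        apply LinearMap.ext
        intro y
        induction y using Submodule.Quotient.induction_on with
        | H x => simp [hF0, hF1, Submodule.mapQ_apply]
      by_cases hF0b : Function.Bijective F0
      · exfalso
        obtain ⟨μ, hμ⟩ := exists_bijective_sub_smul hdim f0 f1 v hf0v hw hp0 hp1 hF0b
        apply hns (-μ) 1
        have : (-μ) • f0 + (1 : K) • f1 = f1 - μ • f0 := by
          rw [one_smul, neg_smul]; abel
        rw [this]
        exact hμ
      · have hnsQ : ∀ a b : K, ¬ Function.Bijective (a • F0 + b • F1) := by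
          intro a b hb
          have hgv : (a • f0 + b • f1) v = 0 := by
            by_contra hne
            have hinj := injective_of_mapQ_injective (a • f0 + b • f1) v q (hcomb a b)
              (by rw [hFcomb]; exact hb.1) hne
            exact hns a b
              ⟨hinj, (LinearMap.injective_iff_surjective_of_finrank_eq_finrank hdim).mp hinj⟩
          have hb0 : b = 0 := by
            simp only [LinearMap.add_apply, LinearMap.smul_apply, hf0v, smul_zero, zero_add] at hgv
            rcases smul_eq_zero.mp hgv with h | h
            · exact h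
            · exact absurd h hw
          subst hb0
          rw [zero_smul, add_zero] at hb
          apply hF0b
          by_cases ha : a = 0
          · subst ha
            rw [zero_smul] at hb
            have hs1 : Subsingleton (V ⧸ p) :=
              ⟨fun x y => hb.1 (by simp)⟩
            have hs2 : Subsingleton (W ⧸ q) := by
              refine ⟨fun x y => ?_⟩
              obtain ⟨x', hx'⟩ := hb.2 x
              obtain ⟨y', hy'⟩ := hb.2 y
              rw [← hx', ← hy']
              simp
            exact ⟨fun a b _ => Subsingleton.elim _ _, fun b => ⟨0, Subsingleton.elim _ _⟩⟩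
          · have hF : F0 = a⁻¹ • (a • F0) := by rw [smul_smul, inv_mul_cancel₀ ha, one_smul]
            rw [hF]
            constructor
            · intro x y hxy
              simp only [LinearMap.smul_apply] at hxy
              have := smul_right_injective _ (inv_ne_zero ha) hxy
              exact hb.1 this
            · intro y
              obtain ⟨x, hx⟩ := hb.2 (a • y)
              refine ⟨x, ?_⟩
              simp only [LinearMap.smul_apply] at hx ⊢
              rw [hx, smul_smul, inv_mul_cancel₀ ha, one_smul]
        obtain ⟨Vq', Wq', hsub, hlt⟩ := ih (V ⧸ p) (W ⧸ q) F0 F1 hpV hqW hnsQ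
        have hsV : Function.Surjective (Vq'.mkQ ∘ₗ p.mkQ) :=
          (Submodule.mkQ_surjective _).comp (Submodule.mkQ_surjective _)
        have hsW : Function.Surjective (Wq'.mkQ ∘ₗ q.mkQ) :=
          (Submodule.mkQ_surjective _).comp (Submodule.mkQ_surjective _)
        refine ⟨LinearMap.ker (Vq'.mkQ ∘ₗ p.mkQ), LinearMap.ker (Wq'.mkQ ∘ₗ q.mkQ), ?_, ?_⟩
        · intro x hx
          have hx' : p.mkQ x ∈ Vq' := by
            rw [LinearMap.mem_ker, LinearMap.comp_apply, Submodule.mkQ_apply,
              Submodule.Quotient.mk_eq_zero] at hx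
            exact hx
          have h1 := hsub _ hx'
          constructor
          · rw [LinearMap.mem_ker, LinearMap.comp_apply, Submodule.mkQ_apply,
              Submodule.Quotient.mk_eq_zero]
            exact h1.1
          · rw [LinearMap.mem_ker, LinearMap.comp_apply, Submodule.mkQ_apply,
              Submodule.Quotient.mk_eq_zero]
            exact h1.2
        · rw [((Vq'.mkQ ∘ₗ p.mkQ).quotKerEquivOfSurjective hsV).finrank_eq,
            ((Wq'.mkQ ∘ₗ q.mkQ).quotKerEquivOfSurjective hsW).finrank_eq]
          exact hlt

/-- Two arrows, dimension vector `(k, k)`, infinite field: a semistable module has an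
invertible combination of its arrows. -/
theorem exists_bijective_combination_two_arrows {V : Type v} {W : Type w}
    [AddCommGroup V] [Module K V] [FiniteDimensional K V]
    [AddCommGroup W] [Module K W] [FiniteDimensional K W]
    (f : Fin 2 → (V →ₗ[K] W)) (k : ℕ) (hV : finrank K V = k) (hW : finrank K W = k)
    (hf : IsSemistable f) :
    ∃ z : Fin 2 → K, Function.Bijective ((∑ j, z j • f j : V →ₗ[K] W) : V → W) := by
  by_contra hcon
  push Not at hcon
  have hns : ∀ a b : K, ¬ Function.Bijective (a • f 0 + b • f 1) := by
    intro a b
    have := hcon ![a, b]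
    simpa [Fin.sum_univ_two] using this
  obtain ⟨V', W', hsub, hlt⟩ := exists_codim_lt_of_forall_not_bijective k V W (f 0) (f 1) hV hW hns
  have hsub' : IsSubrep f V' W' := by
    rw [isSubrep_iff]
    intro j x hx
    fin_cases j
    · exact (hsub x hx).1
    · exact (hsub x hx).2
  have hqV := V'.finrank_quotient_add_finrank
  have hqW := W'.finrank_quotient_add_finrank
  have h1 := hf.2 V' W' hsub'
    (fun h => by
      obtain ⟨e1, e2⟩ := h
      subst e1; subst e2
      rw [finrank_bot] at hqV hqW
      omega)
    (fun h => by
      obtain ⟨e1, e2⟩ := h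
      subst e1; subst e2
      rw [finrank_top] at hqV hqW
      omega)
  have hk : 0 < k := by
    have := hf.1
    omega
  rw [hV, hW] at h1
  have h2 : finrank K V' ≤ finrank K W' := Nat.le_of_mul_le_mul_left h1 hk
  omega

end Pencil


section TwoTwo

variable {K : Type u} [Field K] [Infinite K] {V : Type v} {W : Type w}
  [AddCommGroup V] [Module K V] [FiniteDimensional K V]
  [AddCommGroup W] [Module K W] [FiniteDimensional K W] {n : ℕ}

/-- Dimension vector `(2, 2)`, any number of arrows, infinite field: a semistable module has an
invertible combination of its arrows. -/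
theorem exists_bijective_combination_two_two
    (f : Fin n → (V →ₗ[K] W)) (hV : finrank K V = 2) (hW : finrank K W = 2)
    (hf : IsSemistable f) :
    ∃ z : Fin n → K, Function.Bijective ((∑ j, z j • f j : V →ₗ[K] W) : V → W) := by
  classical
  by_contra hcon
  push Not at hcon
  have hdim : finrank K V = finrank K W := hV.trans hW.symm
  set S : Submodule K (V →ₗ[K] W) := Submodule.span K (Set.range f) with hSdef
  have hS : ∀ g ∈ S, ¬ Function.Bijective g := by
    intro g hg
    obtain ⟨z, rfl⟩ := (Submodule.mem_span_range_iff_exists_fun K).mp hg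
    exact hcon z
  have hfS : ∀ j, f j ∈ S := fun j => Submodule.subset_span ⟨j, rfl⟩
  have hSinj : ∀ g ∈ S, ¬ Function.Injective g := fun g hg hinj =>
    hS g hg ⟨hinj, (LinearMap.injective_iff_surjective_of_finrank_eq_finrank hdim).mp hinj⟩
  -- Step 1: some arrow is nonzero
  obtain ⟨j0, hj0⟩ : ∃ j0, f j0 ≠ 0 := by
    by_contra hall
    push Not at hall
    have hsub : IsSubrep f ⊤ ⊥ := by
      rw [isSubrep_iff]
      intro j x _
      rw [hall j]
      simp
    have h1 := hf.2 ⊤ ⊥ hsub
      (fun h => by
        have : finrank K (⊤ : Submodule K V) = 0 := by rw [h.1]; simp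
        rw [finrank_top] at this
        omega)
      (fun h => by
        have : finrank K (⊤ : Submodule K W) = 0 := by rw [← h.2]; simp
        rw [finrank_top] at this
        omega)
    rw [finrank_top, finrank_bot, hV, hW] at h1
    omega
  set g := f j0 with hg
  -- Step 2: kernel vector and image vector of `g`
  obtain ⟨v, hvmem, hv⟩ := Submodule.exists_mem_ne_zero_of_ne_bot
    (fun h => hSinj g (hfS j0) (LinearMap.ker_eq_bot.mp h))
  have hgv : g v = 0 := hvmem
  obtain ⟨u, hu⟩ : ∃ u, g u ≠ 0 := by
    by_contra hall
    push Not at hall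
    exact hj0 (LinearMap.ext hall)
  set w := g u with hw
  have hrk := LinearMap.finrank_range_add_finrank_ker g
  rw [hV] at hrk
  have hker1 : 1 ≤ finrank K (LinearMap.ker g) :=
    finrank_pos_of_ne_bot (fun h => hv (by
      have : v ∈ LinearMap.ker g := hvmem
      rw [h] at this
      simpa using this))
  have hrange1 : 1 ≤ finrank K (LinearMap.range g) :=
    finrank_pos_of_ne_bot (fun h => hu (by
      have : g u ∈ LinearMap.range g := LinearMap.mem_range_self g u
      rw [h] at this
      simpa using this))
  have hkerEq : (K ∙ v) = LinearMap.ker g := by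
    apply Submodule.eq_of_le_of_finrank_eq
    · rw [Submodule.span_singleton_le_iff_mem]; exact hvmem
    · rw [finrank_span_singleton hv]; omega
  have hrangeEq : (K ∙ w) = LinearMap.range g := by
    apply Submodule.eq_of_le_of_finrank_eq
    · rw [Submodule.span_singleton_le_iff_mem]; exact LinearMap.mem_range_self g u
    · rw [finrank_span_singleton hu]; omega
  set p : Submodule K V := K ∙ v with hp
  set q : Submodule K W := K ∙ w with hq
  have hpq1 : finrank K (V ⧸ p) = 1 := by
    have h1 := p.finrank_quotient_add_finrank
    have : finrank K p = 1 := finrank_span_singleton hv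
    omega
  have hqq1 : finrank K (W ⧸ q) = 1 := by
    have h1 := q.finrank_quotient_add_finrank
    have : finrank K q = 1 := finrank_span_singleton hu
    omega
  -- Step 3: every member of the span maps `v` into `K w`
  have hstep3 : ∀ h ∈ S, h v ∈ q := by
    intro h hh
    by_contra hnot
    have hhv : h v ≠ 0 := fun h0 => hnot (by rw [h0]; exact Submodule.zero_mem _)
    have h0 : (K ∙ v) ≤ (K ∙ h v).comap g := by
      rw [Submodule.span_singleton_le_iff_mem, Submodule.mem_comap, hgv]
      exact Submodule.zero_mem _
    have h1 : (K ∙ v) ≤ (K ∙ h v).comap h := by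
      rw [Submodule.span_singleton_le_iff_mem, Submodule.mem_comap]
      exact Submodule.mem_span_singleton_self _
    have hq' : finrank K (W ⧸ (K ∙ h v)) = 1 := by
      have h1 := (K ∙ h v).finrank_quotient_add_finrank
      rw [finrank_span_singleton hhv] at h1
      omega
    have hinjQ : Function.Injective ((K ∙ v).mapQ (K ∙ h v) g h0) := by
      rw [← LinearMap.ker_eq_bot, eq_bot_iff]
      intro y hy
      induction y using Submodule.Quotient.induction_on with
      | H x =>
        rw [LinearMap.mem_ker, Submodule.mapQ_apply, Submodule.Quotient.mk_eq_zero] at hy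
        obtain ⟨c, hc⟩ := Submodule.mem_span_singleton.mp hy
        have hgx0 : g x = 0 := by
          by_contra hne
          have hc0 : c ≠ 0 := fun h0 => hne (by rw [← hc, h0, zero_smul])
          apply hnot
          have : h v = c⁻¹ • g x := by rw [← hc, smul_smul, inv_mul_cancel₀ hc0, one_smul]
          rw [this]
          have hmem : g x ∈ q := by rw [hrangeEq]; exact LinearMap.mem_range_self g x
          exact Submodule.smul_mem _ _ hmem
        have : x ∈ K ∙ v := by rw [← hp, hkerEq]; exact hgx0
        rw [Submodule.mem_bot, Submodule.Quotient.mk_eq_zero]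
        exact this
    have hbijQ : Function.Bijective ((K ∙ v).mapQ (K ∙ h v) g h0) :=
      ⟨hinjQ, (LinearMap.injective_iff_surjective_of_finrank_eq_finrank
        (hpq1.trans hq'.symm)).mp hinjQ⟩
    obtain ⟨μ, hμ⟩ := exists_bijective_sub_smul hdim g h v hgv hhv h0 h1 hbijQ
    exact hS _ (S.sub_mem hh (S.smul_mem μ (hfS j0))) hμ
  have hle : ∀ h ∈ S, p ≤ q.comap h := by
    intro h hh
    rw [hp, Submodule.span_singleton_le_iff_mem, Submodule.mem_comap]
    exact hstep3 h hh
  -- Claim C
  have hC : ∀ h (hh : h ∈ S), Function.Injective (p.mapQ q h (hle h hh)) → h v = 0 := by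
    intro h hh hinj
    by_contra hne
    exact hSinj h hh (injective_of_mapQ_injective h v q (hle h hh) hinj hne)
  -- in dimension one, a noninjective map on the quotient is zero
  have hzero : ∀ h (hh : h ∈ S), ¬ Function.Injective (p.mapQ q h (hle h hh)) →
      ∀ x, h x ∈ q := by
    intro h hh hni x
    have hk : LinearMap.ker (p.mapQ q h (hle h hh)) = ⊤ := by
      by_contra hne
      have := Submodule.finrank_lt hne
      rw [hpq1] at this
      have h0 : finrank K (LinearMap.ker (p.mapQ q h (hle h hh))) = 0 := by omega
      exact hni (LinearMap.ker_eq_bot.mp (Submodule.finrank_eq_zero.mp h0))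
    have : (Submodule.Quotient.mk x : V ⧸ p) ∈ LinearMap.ker (p.mapQ q h (hle h hh)) := by
      rw [hk]; trivial
    rw [LinearMap.mem_ker, Submodule.mapQ_apply, Submodule.Quotient.mk_eq_zero] at this
    exact this
  by_cases hcase : ∃ j1, Function.Injective (p.mapQ q (f j1) (hle _ (hfS j1)))
  · obtain ⟨j1, hj1⟩ := hcase
    have hv1 : f j1 v = 0 := hC _ (hfS j1) hj1
    have hallv : ∀ j, f j v = 0 := by
      intro j
      by_cases hj : Function.Injective (p.mapQ q (f j) (hle _ (hfS j)))
      · exact hC _ (hfS j) hj
      · have hz := hzero _ (hfS j) hj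
        have hsum : f j + f j1 ∈ S := S.add_mem (hfS j) (hfS j1)
        have hinj : Function.Injective (p.mapQ q (f j + f j1) (hle _ hsum)) := by
          rw [← LinearMap.ker_eq_bot, eq_bot_iff]
          intro y hy
          induction y using Submodule.Quotient.induction_on with
          | H x =>
            rw [LinearMap.mem_ker, Submodule.mapQ_apply, Submodule.Quotient.mk_eq_zero,
              LinearMap.add_apply] at hy
            have h2 : f j1 x ∈ q := by
              have := Submodule.sub_mem _ hy (hz x)
              simpa using this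
            have h3 : p.mapQ q (f j1) (hle _ (hfS j1)) (Submodule.Quotient.mk x) = 0 := by
              rw [Submodule.mapQ_apply, Submodule.Quotient.mk_eq_zero]
              exact h2
            have := hj1 (h3.trans (map_zero _).symm)
            rw [Submodule.mem_bot]
            exact this
        have := hC _ hsum hinj
        rw [LinearMap.add_apply, hv1, add_zero] at this
        exact this
    have hsub : IsSubrep f p ⊥ := by
      rw [isSubrep_iff]
      intro j x hx
      obtain ⟨c, rfl⟩ := Submodule.mem_span_singleton.mp hx
      rw [map_smul, hallv j, smul_zero]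
      exact Submodule.zero_mem _
    have hp1 : finrank K p = 1 := finrank_span_singleton hv
    have h1 := hf.2 p ⊥ hsub
      (fun h => by
        rw [h.1, finrank_bot] at hp1
        omega)
      (fun h => by
        have : finrank K (⊤ : Submodule K W) = 0 := by rw [← h.2]; simp
        rw [finrank_top] at this
        omega)
    rw [finrank_bot, hp1, hV, hW] at h1
    omega
  · push Not at hcase
    have hsub : IsSubrep f ⊤ q := by
      rw [isSubrep_iff]
      intro j x _
      exact hzero _ (hfS j) (hcase j) x
    have hq1 : finrank K q = 1 := finrank_span_singleton hu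
    have h1 := hf.2 ⊤ q hsub
      (fun h => by
        have : finrank K (⊤ : Submodule K V) = 0 := by rw [h.1]; simp
        rw [finrank_top] at this
        omega)
      (fun h => by
        rw [h.2, finrank_top] at hq1
        omega)
    rw [finrank_top, hq1, hV, hW] at h1
    omega

end TwoTwo

end Groth.Agent.Lib.Helper23
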