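import Mathlib
import Groth.Prelude
import Groth.Agent.Lib.Helper23Norm2
import Groth.Agent.Lib.Helper23PB
import Groth.Agent.Lib.Helper18Norm2
set_option backward.isDefEq.respectTransparency.types false

/-!
# Invertible modules trivialised by a finite cover carrying a norm (helper23)

Namespace `Groth.Agent.Lib.Helper23.NormTriv`.

* `tensorPow_trivial_of_norm` : `π : X ⟶ Y` with a norm of degree `d`, `L` invertible on `Y` with `π^* L ≅ O_X`
  ⇒ `L^{⊗ d} ≅ O_Y`.
* `tensorPow_trivial_of_isFinLocFreeOfDeg` : the same for `π` finite locally free of degree `d` (any `d`).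
-/

set_option autoImplicit false
universe u
open CategoryTheory Limits AlgebraicGeometry TopologicalSpace Opposite

namespace Groth.Agent.Lib.Helper23.NormTriv
open Groth.Agent.Lib.Helper23.SecTw Groth.Agent.Lib.Helper6 Groth.Agent.Lib.Helper23.GenLocus
  Groth.Agent.Lib.Helper23.Extend Groth.Agent.Lib.Helper23.GenNear Groth.Agent.Lib.Helper23.Norm
  Groth.Agent.Lib.Helper23.PB Groth.Agent.Helper13PullbackUnit

theorem resf_one' {Z : Scheme.{u}} {U V : Z.Opens} (h : V ≤ U) : resf h (1 : Γ(Z, U)) = 1 :=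
  map_one (Z.presheaf.map (homOfLE h).op).hom

theorem toS_resf_one {Z : Scheme.{u}} {U V : Z.Opens} (h : V ≤ U) :
    toS V (resf h (1 : Γ(Z, U))) = toS V 1 := by
  rw [resf_one']

variable {X Y : Scheme.{u}} (π : X ⟶ Y) {d : ℕ} (N : Nrm.NormOfDegree π d)

include N in
theorem tensorPow_trivial_of_norm (L : Y.Modules) (hL : PicF.IsInvertible L)
    (φ : (Scheme.Modules.pullback π).obj L ≅ Coh.structureModule X) :
    Nonempty (CohB1.tensorPow L d ≅ Coh.structureModule Y) := by
  classical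
  haveI : L.IsQuasicoherent := isQuasicoherent_of_isInvertible L hL
  have h0 := exists_affine_gen L hL
  choose V e hyV hVaff he using h0
  set L' := (Scheme.Modules.pullback π).obj L with hL'def
  let e' : ∀ i, Γ(L', π ⁻¹ᵁ V i) := fun i => unitSec π L le_rfl (e i)
  have he' : ∀ i, IsGen L' (π ⁻¹ᵁ V i) (e' i) := fun i => isGen_unitSec π L (hVaff i) (e i) (he i)
  -- transition units
  obtain ⟨g, hg⟩ : ∃ g : ∀ i j, Γ(Y, V i ⊓ V j), ∀ i j,
      res L (inf_le_left : V i ⊓ V j ≤ V i) (e i) =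
        g i j • res L (inf_le_right : V i ⊓ V j ≤ V j) (e j) :=
    ⟨fun i j => coef (he j) inf_le_right (res L inf_le_left (e i)),
      fun i j => (coef_spec (he j) _ _).symm⟩
  have hg' : ∀ i j, res L' (π.preimage_mono (inf_le_left : V i ⊓ V j ≤ V i)) (e' i) =
      π.app (V i ⊓ V j) (g i j) • res L' (π.preimage_mono (inf_le_right : V i ⊓ V j ≤ V j)) (e' j) := by
    intro i j
    have h2 := res_unitSec_of_transition π L (e i) (e j) (g i j) (hg i j)
    have h5 : π.appLE (V i ⊓ V j) (π ⁻¹ᵁ V i ⊓ π ⁻¹ᵁ V j) (preimage_inf_le π (V i) (V j)) =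
        π.app (V i ⊓ V j) := Scheme.Hom.appLE_eq_app π
    rw [h5] at h2
    exact h2
  -- the global frame of `π^* L`
  let S : ∀ U : X.Opens, Γ(L', U) := fun U => φ.inv.app U (toS U 1)
  have hS : ∀ U : X.Opens, IsGen L' U (S U) := fun U => isGen_of_iso φ.symm (isGen_one U)
  have hSres : ∀ {U U' : X.Opens} (h : U' ≤ U), res L' h (S U) = S U' := by
    intro U U' h
    have e1 := app_map φ.inv (homOfLE h) (toS U 1)
    change φ.inv.app _ (res _ _ _) = res _ _ _ at e1
    rw [← e1]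
    change φ.inv.app U' (toS U' (resf h 1)) = φ.inv.app U' (toS U' 1)
    rw [toS_resf_one]
  obtain ⟨a, ha⟩ : ∃ a : ∀ i, Γ(X, π ⁻¹ᵁ V i), ∀ i, S (π ⁻¹ᵁ V i) = a i • e' i := by
    refine ⟨fun i => coef (he' i) le_rfl (S _), fun i => ?_⟩
    have h1 := coef_spec (he' i) le_rfl (S (π ⁻¹ᵁ V i))
    rw [res_self] at h1
    exact h1.symm
  have hau : ∀ i, IsUnit (a i) := by
    intro i
    have h1 := hS (π ⁻¹ᵁ V i)
    rw [ha i] at h1
    exact (isGen_smul_iff (he' i) (a i)).1 h1
  have haa : ∀ i j, resf (π.preimage_mono (inf_le_left : V i ⊓ V j ≤ V i)) (a i) * π.app (V i ⊓ V j) (g i j) =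
      resf (π.preimage_mono (inf_le_right : V i ⊓ V j ≤ V j)) (a j) := by
    intro i j
    apply ((he' j) (π ⁻¹ᵁ (V i ⊓ V j)) (π.preimage_mono inf_le_right)).1
    change (resf _ (a i) * π.app (V i ⊓ V j) (g i j)) • res _ _ (e' j) = resf _ (a j) • res _ _ (e' j)
    rw [← res_smul, ← ha j, hSres, mul_smul, ← hg' i j, ← res_smul, ← ha i, hSres]
  have hcov : ∀ y : Y, ∃ i, y ∈ V i := fun y => ⟨y, hyV y⟩
  obtain ⟨Φ, -⟩ := exists_iso_of_frames (CohB1.tensorPow L d) (Coh.structureModule Y) V hcov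
    (fun i => N.norm (V i) (a i) • pw L _ (e i) d) (fun i => toS _ 1)
    (fun i => (isGen_smul_iff (isGen_pw L _ (e i) (he i) d) _).2 ((hau i).map (N.norm (V i))))
    (fun i => isGen_one (V i))
    (fun i j => by
      refine cocycle_of_transition
        ((isGen_smul_iff (isGen_pw L _ (e j) (he j) d) _).2 ((hau j).map (N.norm (V j)))) 1 ?_ ?_
      · rw [one_smul, res_smul, res_smul, res_pw, res_pw, hg i j, pw_smul, ← mul_smul, norm_resf π N, norm_resf π N,
          ← N.norm_app, ← map_mul, haa i j]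
      · rw [one_smul]
        change toS _ (resf inf_le_left (1 : Γ(Y, V i))) = toS _ (resf inf_le_right (1 : Γ(Y, V j)))
        rw [toS_resf_one, toS_resf_one])
  exact ⟨Φ⟩

/-- `π` finite locally free of degree `d`, `π^* L` trivial ⇒ `L^{⊗ d}` trivial -/
theorem tensorPow_trivial_of_isFinLocFreeOfDeg (hπ : Mor2.IsFinLocFreeOfDeg d π) (L : Y.Modules)
    (hL : PicF.IsInvertible L) (φ : (Scheme.Modules.pullback π).obj L ≅ Coh.structureModule X) :
    Nonempty (CohB1.tensorPow L d ≅ Coh.structureModule Y) := by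
  rcases Nat.eq_zero_or_pos d with h | h
  · subst h
    exact ⟨Iso.refl _⟩
  · obtain ⟨N⟩ := Groth.Agent.Helper18Norm.main_S8878 π d h hπ
    exact tensorPow_trivial_of_norm π N L hL φ

end Groth.Agent.Lib.Helper23.NormTriv
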