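import Mathlib
set_option backward.isDefEq.respectTransparency.types false

/-!
# Descent of `p`-th roots along étale algebras over normal domains (helper23)

Namespace `Groth.Agent.Lib.Helper23.PRoot`.  Pure Mathlib.

* `exists_pth_root_of_etale` : `A` an integrally closed domain of characteristic `p`, `B` a nontrivial étale `A`-algebra,
  `u : A` whose image in `B` is a `p`-th power ⇒ `u` is a `p`-th power in `A`.
-/

set_option autoImplicit false
universe u
open TensorProduct

namespace Groth.Agent.Lib.Helper23.PRoot

theorem exists_pth_root_of_etale {A B : Type u} [CommRing A] [IsDomain A] [IsIntegrallyClosed A] [CommRing B]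
    [Algebra A B] [Algebra.Etale A B] [Nontrivial B] (p : ℕ) [Fact p.Prime] [CharP A p]
    (u : A) (c : B) (hc : c ^ p = algebraMap A B u) : ∃ b : A, b ^ p = u := by
  classical
  let K := FractionRing A
  let B' := K ⊗[A] B
  haveI : Module.Flat A B := inferInstance
  haveI : Nontrivial B' := by
    have hinj : Function.Injective (Algebra.TensorProduct.includeRight : B →ₐ[A] K ⊗[A] B) :=
      Algebra.TensorProduct.includeRight_injective (IsFractionRing.injective A K)
    exact hinj.nontrivial
  obtain ⟨m, hm⟩ := Ideal.exists_maximal B'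
  letI : Field (B' ⧸ m) := Ideal.Quotient.field m
  let L := B' ⧸ m
  haveI : Algebra.Etale K B' := inferInstance
  haveI : Algebra.FormallyUnramified K L := inferInstance
  haveI : Algebra.EssFiniteType K L := inferInstance
  haveI : Algebra.IsSeparable K L := Algebra.FormallyUnramified.isSeparable K L
  haveI : CharP K p := inferInstance
  haveI : ExpChar K p := ExpChar.prime (Fact.out)
  let c' : L := Ideal.Quotient.mk m ((1 : K) ⊗ₜ[A] c)
  have hc' : c' ^ p = algebraMap K L (algebraMap A K u) := by
    change (Ideal.Quotient.mk m ((1 : K) ⊗ₜ[A] c)) ^ p = _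
    rw [← map_pow, Algebra.TensorProduct.tmul_pow, one_pow, hc]
    have h1 : ((1 : K) ⊗ₜ[A] (algebraMap A B u) : K ⊗[A] B) = algebraMap K (K ⊗[A] B) (algebraMap A K u) := by
      rw [Algebra.TensorProduct.algebraMap_apply]
      change _ = (algebraMap A K u) ⊗ₜ[A] (1 : B)
      rw [Algebra.algebraMap_eq_smul_one (A := B), Algebra.algebraMap_eq_smul_one (A := K), TensorProduct.tmul_smul,
        TensorProduct.smul_tmul']
    rw [h1]
    rfl
  have hmem : c' ∈ perfectClosure K L := by
    rw [mem_perfectClosure_iff_pow_mem p]
    exact ⟨1, by rw [pow_one, hc']; exact ⟨_, rfl⟩⟩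
  rw [perfectClosure.eq_bot_of_isSeparable K L, IntermediateField.mem_bot] at hmem
  obtain ⟨b', hb'⟩ := hmem
  have hb'p : b' ^ p = algebraMap A K u := by
    apply (algebraMap K L).injective
    rw [map_pow, hb', hc']
  have hint : IsIntegral A b' := by
    apply IsIntegral.of_pow (Fact.out : p.Prime).pos
    rw [hb'p]
    exact isIntegral_algebraMap
  obtain ⟨b, hb⟩ := IsIntegrallyClosed.isIntegral_iff.1 hint
  refine ⟨b, ?_⟩
  apply IsFractionRing.injective A K
  rw [map_pow, hb, hb'p]

end Groth.Agent.Lib.Helper23.PRoot
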