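import Mathlib
import Groth.Prelude
import Groth.Agent.Lib.Helper23NormTriv
import Groth.Agent.Lib.Helper23PRoot
import Groth.Agent.Lib.Helper23FinPic
import Groth.Agent.Lib.Helper4NormIso
set_option backward.isDefEq.respectTransparency.types false

/-!
# `p`-torsion invertible modules are not killed by finite étale covers (helper23)

Namespace `Groth.Agent.Lib.Helper23.PTors`.

* `tensorPow_trivial_of_etale_trivial` : `X` integral normal of characteristic `p`, `L` invertible with `L^{⊗ pk} ≅ O_X`,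
  `f : X' ⟶ X` finite étale with `X'` nonempty, all global units of `X'` being `p`-th powers, and `f^* L ≅ O_{X'}`
  ⇒ `L^{⊗ k} ≅ O_X`.
-/

set_option autoImplicit false
universe u
open CategoryTheory Limits AlgebraicGeometry TopologicalSpace Opposite

namespace Groth.Agent.Lib.Helper23.PTors
open Groth.Agent.Lib.Helper23.SecTw Groth.Agent.Lib.Helper6 Groth.Agent.Lib.Helper23.GenLocus
  Groth.Agent.Lib.Helper23.Extend Groth.Agent.Lib.Helper23.GenNear Groth.Agent.Lib.Helper23.Norm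
  Groth.Agent.Lib.Helper23.PB Groth.Agent.Helper13PullbackUnit Groth.Agent.Lib.Helper23.NormTriv
  Groth.Agent.Lib.Helper23.FinPic

theorem tensorPow_trivial_of_etale_trivial {X X' : Scheme.{u}} [IsIntegral X] (hnorm : Pi1.IsNormalScheme X)
    (p : ℕ) [Fact p.Prime] (hp0 : (p : Γ(X, ⊤)) = 0) (L : X.Modules) (hL : PicF.IsInvertible L) (k : ℕ)
    (α : CohB1.tensorPow L (p * k) ≅ Coh.structureModule X)
    [Nonempty X'] (hroot : ∀ u : Γ(X', ⊤), IsUnit u → ∃ v : Γ(X', ⊤), v ^ p = u)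
    (f : X' ⟶ X) [IsFinite f] [Etale f] (φ : (Scheme.Modules.pullback f).obj L ≅ Coh.structureModule X') :
    Nonempty (CohB1.tensorPow L k ≅ Coh.structureModule X) := by
  classical
  haveI : L.IsQuasicoherent := isQuasicoherent_of_isInvertible L hL
  have h0 := exists_affine_gen L hL
  choose V e hyV hVaff he using h0
  set L' := (Scheme.Modules.pullback f).obj L with hL'def
  let e' : ∀ i, Γ(L', f ⁻¹ᵁ V i) := fun i => unitSec f L le_rfl (e i)
  have he' : ∀ i, IsGen L' (f ⁻¹ᵁ V i) (e' i) := fun i => isGen_unitSec f L (hVaff i) (e i) (he i)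
  -- transition units
  obtain ⟨g, hg⟩ : ∃ g : ∀ i j, Γ(X, V i ⊓ V j), ∀ i j,
      res L (inf_le_left : V i ⊓ V j ≤ V i) (e i) =
        g i j • res L (inf_le_right : V i ⊓ V j ≤ V j) (e j) :=
    ⟨fun i j => coef (he j) inf_le_right (res L inf_le_left (e i)),
      fun i j => (coef_spec (he j) _ _).symm⟩
  have hg' : ∀ i j, res L' (f.preimage_mono (inf_le_left : V i ⊓ V j ≤ V i)) (e' i) =
      f.app (V i ⊓ V j) (g i j) • res L' (f.preimage_mono (inf_le_right : V i ⊓ V j ≤ V j)) (e' j) := by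
    intro i j
    have h2 := res_unitSec_of_transition f L (e i) (e j) (g i j) (hg i j)
    have h5 : f.appLE (V i ⊓ V j) (f ⁻¹ᵁ V i ⊓ f ⁻¹ᵁ V j) (preimage_inf_le f (V i) (V j)) =
        f.app (V i ⊓ V j) := Scheme.Hom.appLE_eq_app f
    rw [h5] at h2
    exact h2
  -- the functions `u i` trivialising `L^{pk}`
  let P : ∀ i, Γ(Coh.structureModule X, V i) := fun i => α.hom.app (V i) (pw L _ (e i) (p * k))
  have hP : ∀ i, IsGen (Coh.structureModule X) (V i) (P i) :=
    fun i => isGen_of_iso α (isGen_pw L _ (e i) (he i) (p * k))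
  let u : ∀ i, Γ(X, V i) := fun i => ofS _ (P i)
  have hu : ∀ i, IsUnit (u i) := by
    intro i
    obtain ⟨r, hr⟩ := ((hP i) _ le_rfl).2 (toS _ 1)
    have hr' : r • P i = toS _ 1 := by
      have : res (Coh.structureModule X) le_rfl (P i) = P i := res_self _ _
      rw [← this]; exact hr
    refine IsUnit.of_mul_eq_one r ?_
    rw [mul_comm]
    exact congrArg (ofS _) hr'
  have huu : ∀ i j, resf (inf_le_left : V i ⊓ V j ≤ V i) (u i) =
      g i j ^ (p * k) * resf (inf_le_right : V i ⊓ V j ≤ V j) (u j) := by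
    intro i j
    have h1 : res (Coh.structureModule X) (inf_le_left : V i ⊓ V j ≤ V i) (P i) =
        g i j ^ (p * k) • res (Coh.structureModule X) (inf_le_right : V i ⊓ V j ≤ V j) (P j) := by
      change res _ _ (α.hom.app _ (pw L _ (e i) (p * k))) = _ • res _ _ (α.hom.app _ (pw L _ (e j) (p * k)))
      have e1 := app_map α.hom (homOfLE (inf_le_left : V i ⊓ V j ≤ V i)) (pw L _ (e i) (p * k))
      have e2 := app_map α.hom (homOfLE (inf_le_right : V i ⊓ V j ≤ V j)) (pw L _ (e j) (p * k))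
      change α.hom.app _ (res _ _ _) = res _ _ _ at e1
      change α.hom.app _ (res _ _ _) = res _ _ _ at e2
      rw [← e1, ← e2, res_pw, res_pw, hg i j, pw_smul, Scheme.Modules.Hom.app_smul]
    exact congrArg (ofS _) h1
  -- the global frame of `f^* L`
  let S : ∀ U : X'.Opens, Γ(L', U) := fun U => φ.inv.app U (toS U 1)
  have hS : ∀ U : X'.Opens, IsGen L' U (S U) := fun U => isGen_of_iso φ.symm (isGen_one U)
  have hSres : ∀ {U U' : X'.Opens} (h : U' ≤ U), res L' h (S U) = S U' := by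
    intro U U' h
    have e1 := app_map φ.inv (homOfLE h) (toS U 1)
    change φ.inv.app _ (res _ _ _) = res _ _ _ at e1
    rw [← e1]
    change φ.inv.app U' (toS U' (resf h 1)) = φ.inv.app U' (toS U' 1)
    rw [toS_resf_one]
  obtain ⟨a, ha⟩ : ∃ a : ∀ i, Γ(X', f ⁻¹ᵁ V i), ∀ i, S (f ⁻¹ᵁ V i) = a i • e' i := by
    refine ⟨fun i => coef (he' i) le_rfl (S _), fun i => ?_⟩
    have h1 := coef_spec (he' i) le_rfl (S (f ⁻¹ᵁ V i))
    rw [res_self] at h1
    exact h1.symm
  have hau : ∀ i, IsUnit (a i) := by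
    intro i
    have h1 := hS (f ⁻¹ᵁ V i)
    rw [ha i] at h1
    exact (isGen_smul_iff (he' i) (a i)).1 h1
  have haa : ∀ i j, resf (f.preimage_mono (inf_le_left : V i ⊓ V j ≤ V i)) (a i) * f.app (V i ⊓ V j) (g i j) =
      resf (f.preimage_mono (inf_le_right : V i ⊓ V j ≤ V j)) (a j) := by
    intro i j
    apply ((he' j) (f ⁻¹ᵁ (V i ⊓ V j)) (f.preimage_mono inf_le_right)).1
    change (resf _ (a i) * f.app (V i ⊓ V j) (g i j)) • res _ _ (e' j) = resf _ (a j) • res _ _ (e' j)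
    rw [← res_smul, ← ha j, hSres, mul_smul, ← hg' i j, ← res_smul, ← ha i, hSres]
  -- the global unit `w`
  let wl : ∀ i, Γ(X', f ⁻¹ᵁ V i) := fun i => a i ^ (p * k) * f.app (V i) (u i)
  have hwl : ∀ i j, resf (f.preimage_mono (inf_le_left : V i ⊓ V j ≤ V i)) (wl i) =
      resf (f.preimage_mono (inf_le_right : V i ⊓ V j ≤ V j)) (wl j) := by
    intro i j
    change resf _ (a i ^ (p * k) * f.app (V i) (u i)) = resf _ (a j ^ (p * k) * f.app (V j) (u j))
    rw [resf_mul, resf_mul, resf_pow, resf_pow, ← haa i j, mul_pow,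
      ← app_resf₀ f (inf_le_left : V i ⊓ V j ≤ V i) (u i), ← app_resf₀ f (inf_le_right : V i ⊓ V j ≤ V j) (u j),
      huu i j, map_mul, map_pow, mul_assoc]
  have hcompat : TopCat.Presheaf.IsCompatible (modSheaf (Coh.structureModule X')).1 (fun i => f ⁻¹ᵁ V i)
      (fun i => toS _ (wl i)) := by
    intro i j
    exact congrArg (toS _) (hwl i j)
  obtain ⟨w₀, hw₀, -⟩ := (modSheaf (Coh.structureModule X')).existsUnique_gluing' (fun i => f ⁻¹ᵁ V i) ⊤
    (fun i => homOfLE le_top) (fun y _ => Opens.mem_iSup.2 ⟨f y, hyV (f y)⟩) _ hcompat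
  let w : Γ(X', ⊤) := ofS _ w₀
  have hw : ∀ i, resf (le_top : f ⁻¹ᵁ V i ≤ ⊤) w = wl i := fun i => congrArg (ofS _) (hw₀ i)
  have hwl_unit : ∀ i, IsUnit (wl i) := fun i => ((hau i).pow _).mul ((hu i).map _)
  have hwu : IsUnit w := by
    apply isUnit_of_forall_mem_basicOpen
    intro z _
    have h1 : IsUnit (resf (le_top : f ⁻¹ᵁ V (f z) ≤ ⊤) w) := by rw [hw]; exact hwl_unit _
    have h2 := X'.basicOpen_res w (homOfLE (le_top : f ⁻¹ᵁ V (f z) ≤ ⊤)).op
    have h3 := X'.basicOpen_of_isUnit h1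
    have h4 : z ∈ X'.basicOpen (resf (le_top : f ⁻¹ᵁ V (f z) ≤ ⊤) w) := by
      rw [h3]; exact hyV (f z)
    change z ∈ X'.basicOpen (X'.presheaf.map (homOfLE (le_top : f ⁻¹ᵁ V (f z) ≤ ⊤)).op w) at h4
    rw [h2] at h4
    exact h4.2
  obtain ⟨v, hv⟩ := hroot w hwu
  have hopen : IsOpen (Set.range f) := f.isOpenMap.isOpen_range
  have hb : ∀ i, ∃ b : Γ(X, V i), b ^ p = u i := by
    intro i
    haveI : Nonempty (V i) := ⟨⟨i, hyV i⟩⟩
    haveI : IsDomain Γ(X, V i) := IsIntegral.component_integral (V i)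
    haveI : IsIntegrallyClosed Γ(X, V i) :=
      Groth.Agent.Lib.Helper4.NormIso.isIntegrallyClosed_sections hnorm (V i) (hVaff i)
    have hne : ((V i : Set X) ∩ Set.range f).Nonempty :=
      nonempty_preirreducible_inter (V i).isOpen hopen ⟨i, hyV i⟩ (Set.range_nonempty f)
    obtain ⟨_, hz1, ⟨z, rfl⟩⟩ := hne
    haveI : Nonempty (f ⁻¹ᵁ V i) := ⟨⟨z, hz1⟩⟩
    haveI : Nontrivial Γ(X', f ⁻¹ᵁ V i) := inferInstance
    have het : (f.app (V i)).hom.Etale := by
      have h1 := Etale.etale_appLE f (hVaff i) ((hVaff i).preimage f) le_rfl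
      rwa [Scheme.Hom.appLE_eq_app] at h1
    letI := (f.app (V i)).hom.toAlgebra
    haveI : Algebra.Etale Γ(X, V i) Γ(X', f ⁻¹ᵁ V i) := het
    haveI : CharP Γ(X, V i) p := (CharP.charP_iff_prime_eq_zero Fact.out).2 (by
      have h2 := map_natCast (X.presheaf.map (homOfLE (le_top : V i ≤ ⊤)).op).hom p
      rw [← h2, hp0, map_zero])
    obtain ⟨ainv, hainv⟩ := (hau i).exists_right_inv
    refine Groth.Agent.Lib.Helper23.PRoot.exists_pth_root_of_etale p (u i)
      (resf (le_top : f ⁻¹ᵁ V i ≤ ⊤) v * ainv ^ k) ?_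
    change _ = f.app (V i) (u i)
    have h1 : a i ^ (p * k) * ainv ^ (p * k) = 1 := by rw [← mul_pow, hainv, one_pow]
    rw [mul_pow, ← resf_pow, hv, hw i, ← pow_mul, mul_comm k p]
    change a i ^ (p * k) * f.app (V i) (u i) * ainv ^ (p * k) = _
    calc a i ^ (p * k) * f.app (V i) (u i) * ainv ^ (p * k)
        = (a i ^ (p * k) * ainv ^ (p * k)) * f.app (V i) (u i) := by ring
      _ = f.app (V i) (u i) := by rw [h1, one_mul]
  choose b hb using hb
  have hbu : ∀ i, IsUnit (b i) := fun i => by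
    have h1 : IsUnit (b i ^ p) := by rw [hb]; exact hu i
    exact (isUnit_pow_iff (Fact.out : p.Prime).ne_zero).1 h1
  have hbb : ∀ i j, resf (inf_le_left : V i ⊓ V j ≤ V i) (b i) =
      g i j ^ k * resf (inf_le_right : V i ⊓ V j ≤ V j) (b j) := by
    intro i j
    have hne : ((V i : Set X) ∩ (V j : Set X)).Nonempty :=
      nonempty_preirreducible_inter (V i).isOpen (V j).isOpen ⟨i, hyV i⟩ ⟨j, hyV j⟩
    obtain ⟨z, hz⟩ := hne
    haveI : Nonempty (V i ⊓ V j : X.Opens) := ⟨⟨z, hz⟩⟩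
    haveI : IsDomain Γ(X, V i ⊓ V j) := IsIntegral.component_integral _
    haveI : CharP Γ(X, V i ⊓ V j) p := (CharP.charP_iff_prime_eq_zero Fact.out).2 (by
      have h2 := map_natCast (X.presheaf.map (homOfLE (le_top : V i ⊓ V j ≤ ⊤)).op).hom p
      rw [← h2, hp0, map_zero])
    haveI : ExpChar Γ(X, V i ⊓ V j) p := ExpChar.prime Fact.out
    apply frobenius_inj Γ(X, V i ⊓ V j) p
    rw [frobenius_def, frobenius_def, mul_pow, ← pow_mul, ← resf_pow, ← resf_pow, hb, hb, mul_comm k p]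
    exact huu i j
  choose binv hbinv using fun i => (hbu i).exists_right_inv
  have hbinv_unit : ∀ i, IsUnit (binv i) :=
    fun i => IsUnit.of_mul_eq_one (b i) (by rw [mul_comm]; exact hbinv i)
  have hbb' : ∀ i j, resf (inf_le_left : V i ⊓ V j ≤ V i) (binv i) * g i j ^ k =
      resf (inf_le_right : V i ⊓ V j ≤ V j) (binv j) := by
    intro i j
    have h1 : resf (inf_le_left : V i ⊓ V j ≤ V i) (b i) * resf (inf_le_left : V i ⊓ V j ≤ V i) (binv i) = 1 := by
      rw [← resf_mul, hbinv, resf_one']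
    have h2 : resf (inf_le_right : V i ⊓ V j ≤ V j) (b j) * resf (inf_le_right : V i ⊓ V j ≤ V j) (binv j) = 1 := by
      rw [← resf_mul, hbinv, resf_one']
    calc resf (inf_le_left : V i ⊓ V j ≤ V i) (binv i) * g i j ^ k
        = resf (inf_le_left : V i ⊓ V j ≤ V i) (binv i) * g i j ^ k *
            (resf (inf_le_right : V i ⊓ V j ≤ V j) (b j) * resf (inf_le_right : V i ⊓ V j ≤ V j) (binv j)) := by
          rw [h2, mul_one]
      _ = resf (inf_le_left : V i ⊓ V j ≤ V i) (binv i) *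
            (g i j ^ k * resf (inf_le_right : V i ⊓ V j ≤ V j) (b j)) *
            resf (inf_le_right : V i ⊓ V j ≤ V j) (binv j) := by ring
      _ = resf (inf_le_left : V i ⊓ V j ≤ V i) (binv i) * resf (inf_le_left : V i ⊓ V j ≤ V i) (b i) *
            resf (inf_le_right : V i ⊓ V j ≤ V j) (binv j) := by rw [← hbb i j]
      _ = resf (inf_le_right : V i ⊓ V j ≤ V j) (binv j) := by
          rw [mul_comm (resf (inf_le_left : V i ⊓ V j ≤ V i) (binv i)), h1, one_mul]
  have hcov : ∀ y : X, ∃ i, y ∈ V i := fun y => ⟨y, hyV y⟩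
  obtain ⟨Φ, -⟩ := exists_iso_of_frames (CohB1.tensorPow L k) (Coh.structureModule X) V hcov
    (fun i => binv i • pw L _ (e i) k) (fun i => toS _ 1)
    (fun i => (isGen_smul_iff (isGen_pw L _ (e i) (he i) k) _).2 (hbinv_unit i))
    (fun i => isGen_one (V i))
    (fun i j => by
      refine cocycle_of_transition
        ((isGen_smul_iff (isGen_pw L _ (e j) (he j) k) _).2 (hbinv_unit j)) 1 ?_ ?_
      · rw [one_smul, res_smul, res_smul, res_pw, res_pw, hg i j, pw_smul, ← mul_smul, hbb' i j]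
      · rw [one_smul]
        change toS _ (resf inf_le_left (1 : Γ(X, V i))) = toS _ (resf inf_le_right (1 : Γ(X, V j)))
        rw [toS_resf_one, toS_resf_one])
  exact ⟨Φ⟩

end Groth.Agent.Lib.Helper23.PTors
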