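import Mathlib
import Groth.Prelude
import Groth.Agent.Lib.Helper20PerfAff
import Groth.Agent.Lib.Helper23PB
import Groth.Agent.Lib.Helper23SecTw7
set_option backward.isDefEq.respectTransparency.types false

/-!
# Descent of sections along a perfection, up to p-th powers (helper23)

Namespace `Groth.Agent.Lib.Helper23.PerfDescent`.

* `exists_finite_frames` : finite affine cover with frames of an invertible module
* `exists_descent` : for a perfection `π : XP ⟶ X` of a qcqs scheme and a section `s'` of `(π^*L)^n`, there are `k` and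
  a section `s` of `L^(n p^k)` with `π⁻¹(X_s) = XP_{s'}`
* `isAmple_of_isAmple_pullback`, `isAmple_iff_isAmple_pullback`
-/

set_option autoImplicit false
universe u
open CategoryTheory Limits AlgebraicGeometry TopologicalSpace Opposite FrobSch

namespace Groth.Agent.Lib.Helper23.PerfDescent
open Groth.Agent.Lib.Helper23.SecTw Groth.Agent.Lib.Helper6 Groth.Agent.Lib.Helper23.PB
  Groth.Agent.Helper13PullbackUnit Groth.Agent.Lib.Helper23.GenLocus Groth.Agent.Lib.Helper23.Extend
  Groth.Agent.Lib.Helper20.PerfAff Groth.Agent.Lib.Helper20.Perfection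

/-- a finite cover of a quasi-compact scheme by affine opens carrying frames of an invertible module -/
theorem exists_finite_frames {X : Scheme.{u}} [CompactSpace X] (L : X.Modules) (hL : PicF.IsInvertible L) :
    ∃ (ι : Type u) (_ : Fintype ι) (U : ι → X.Opens) (e : ∀ i, Γ(L, U i)),
      (∀ i, IsAffineOpen (U i)) ∧ (∀ i, IsGen L (U i) (e i)) ∧ ∀ x : X, ∃ i, x ∈ U i := by
  classical
  have h1 : ∀ x : X, ∃ (A : X.Opens) (e : Γ(L, A)), x ∈ A ∧ IsAffineOpen A ∧ IsGen L A e := by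
    intro x
    obtain ⟨W, e, hxW, hgen⟩ := exists_gen L hL x
    obtain ⟨_, ⟨A, hA, rfl⟩, hxA, hAW⟩ :=
      X.isBasis_affineOpens.exists_subset_of_mem_open hxW W.isOpen
    exact ⟨A, res L hAW e, hxA, hA, by
      have := hgen.mono hAW
      exact this⟩
  choose A e hxA hA hgen using h1
  obtain ⟨t, ht⟩ := isCompact_univ.elim_nhds_subcover (fun x => (A x : Set X))
    (fun x _ => (A x).isOpen.mem_nhds (hxA x))
  refine ⟨t, inferInstance, fun i => A i.1, fun i => e i.1, fun i => hA i.1, fun i => hgen i.1, fun x => ?_⟩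
  have hx := ht.2 (Set.mem_univ x)
  simp only [Set.mem_iUnion] at hx
  obtain ⟨y, hy, hxy⟩ := hx
  exact ⟨⟨y, hy⟩, hxy⟩


section descent
variable (p : ℕ) [Fact p.Prime] {X XP : Scheme.{u}} [IsCharP X p] [IsCharP XP p] (π : XP ⟶ X)

theorem app_resf {V W : X.Opens} (h : V ≤ W) (c : Γ(X, W)) :
    π.app V (resf h c) = resf (π.preimage_mono h) (π.app W c) := by
  have := π.naturality (homOfLE h).op
  exact ConcreteCategory.congr_hom this c

/-- transition of the pulled back frames -/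
theorem res_unitSec_frame (L : X.Modules) {U₁ U₂ : X.Opens} (e₁ : Γ(L, U₁)) (e₂ : Γ(L, U₂))
    (g : Γ(X, U₁ ⊓ U₂)) (hg : g • res L inf_le_left e₁ = res L inf_le_right e₂) :
    res ((Scheme.Modules.pullback π).obj L) (π.preimage_mono (inf_le_right : U₁ ⊓ U₂ ≤ U₂))
        (unitSec π L le_rfl e₂) =
      π.app (U₁ ⊓ U₂) g • res ((Scheme.Modules.pullback π).obj L)
        (π.preimage_mono (inf_le_left : U₁ ⊓ U₂ ≤ U₁)) (unitSec π L le_rfl e₁) := by
  rw [res_unitSec π L le_rfl (le_refl (π ⁻¹ᵁ (U₁ ⊓ U₂))) inf_le_right (π.preimage_mono inf_le_right),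
    res_unitSec π L le_rfl (le_refl (π ⁻¹ᵁ (U₁ ⊓ U₂))) inf_le_left (π.preimage_mono inf_le_left),
    ← hg, unitSec_smul, Scheme.Hom.appLE_eq_app]


/-- **descent of sections along a perfection, up to `p`-th powers** -/
theorem exists_descent (hπ : IsPerfection π p) [CompactSpace X] [QuasiSeparatedSpace X]
    (L : X.Modules) (hL : PicF.IsInvertible L) (n : ℕ)
    (s' : Coh.structureModule XP ⟶ CohB1.tensorPow ((Scheme.Modules.pullback π).obj L) n) :
    ∃ (k : ℕ) (s : Coh.structureModule X ⟶ CohB1.tensorPow L (n * p ^ k)),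
      π ⁻¹ᵁ (CohB1.genLocus _ s) = CohB1.genLocus _ s' := by
  classical
  have hp : p.Prime := Fact.out
  obtain ⟨-, -, hsurj⟩ := props_of_isPerfection p π hπ
  haveI : L.IsQuasicoherent := isQuasicoherent_of_isInvertible L hL
  obtain ⟨ι, _, U, e, hUaff, hgen, hcov⟩ := exists_finite_frames L hL
  -- pulled back frames
  let f : ∀ i, Γ((Scheme.Modules.pullback π).obj L, π ⁻¹ᵁ U i) := fun i => unitSec π L le_rfl (e i)
  have hf : ∀ i, IsGen ((Scheme.Modules.pullback π).obj L) (π ⁻¹ᵁ U i) (f i) := fun i => isGen_unitSec π L (hUaff i) (e i) (hgen i)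
  have hFn : ∀ i, IsGen (CohB1.tensorPow ((Scheme.Modules.pullback π).obj L) n) (π ⁻¹ᵁ U i) (pw ((Scheme.Modules.pullback π).obj L) _ (f i) n) :=
    fun i => isGen_pw ((Scheme.Modules.pullback π).obj L) _ (f i) (hf i) n
  let t : ∀ i, Γ(XP, π ⁻¹ᵁ U i) := fun i => coef (hFn i) le_rfl (sv s' (π ⁻¹ᵁ U i))
  have ht : ∀ i, sv s' (π ⁻¹ᵁ U i) = t i • pw ((Scheme.Modules.pullback π).obj L) _ (f i) n := fun i => sv_eq_coef_smul s' (hFn i)
  -- descend the coefficients
  have h1 : ∀ i, ∃ (k : ℕ) (a : Γ(X, U i)), π.app (U i) a = t i ^ p ^ k := fun i =>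
    exists_pow_eq_app p π hπ (U i) (hUaff i).isCompact (t i)
  choose k a hka using h1
  set K := ∑ i, k i with hK
  obtain ⟨a', ha'⟩ : ∃ a' : ∀ i, Γ(X, U i), ∀ i, π.app (U i) (a' i) = t i ^ p ^ K := by
    refine ⟨fun i => a i ^ p ^ (K - k i), fun i => ?_⟩
    have hle : k i ≤ K := Finset.single_le_sum (fun _ _ => Nat.zero_le _) (Finset.mem_univ i)
    change π.app (U i) (a i ^ p ^ (K - k i)) = _
    rw [map_pow, hka, ← pow_mul, ← pow_add, Nat.add_sub_cancel' hle]
  -- transition functions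
  let g : ∀ i j, Γ(X, U i ⊓ U j) := fun i j => coef (hgen i) inf_le_left (res L inf_le_right (e j))
  have hg : ∀ i j, g i j • res L inf_le_left (e i) = res L inf_le_right (e j) :=
    fun i j => coef_spec (hgen i) inf_le_left _
  -- relation between coefficients
  have htt : ∀ i j, resf (π.preimage_mono (inf_le_left : U i ⊓ U j ≤ U i)) (t i) =
      resf (π.preimage_mono (inf_le_right : U i ⊓ U j ≤ U j)) (t j) * π.app (U i ⊓ U j) (g i j) ^ n := by
    intro i j
    apply ((hFn i) (π ⁻¹ᵁ (U i ⊓ U j)) (π.preimage_mono inf_le_left)).1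
    change resf _ (t i) • res _ _ (pw ((Scheme.Modules.pullback π).obj L) _ (f i) n) = (resf _ (t j) * _ ^ n) • res _ _ (pw ((Scheme.Modules.pullback π).obj L) _ (f i) n)
    rw [← res_smul, ← ht i, res_sv, mul_smul, res_pw, ← pw_smul,
      ← res_unitSec_frame π L (e i) (e j) (g i j) (hg i j), ← res_pw, ← res_smul, ← ht j, res_sv]
  -- the defect of the descended coefficients is nilpotent
  let d : ∀ i j, Γ(X, U i ⊓ U j) := fun i j =>
    resf inf_le_left (a' i) - resf inf_le_right (a' j) * g i j ^ (n * p ^ K)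
  have hd0 : ∀ i j, π.app (U i ⊓ U j) (d i j) = 0 := by
    intro i j
    change π.app (U i ⊓ U j) (resf inf_le_left (a' i) - resf inf_le_right (a' j) * g i j ^ (n * p ^ K)) = 0
    rw [map_sub, map_mul, map_pow, app_resf, app_resf, ha', ha', resf_pow, resf_pow, htt i j, mul_pow,
      ← pow_mul, sub_self]
  have hnil : ∀ i j, ∃ m, d i j ^ p ^ m = 0 := by
    intro i j
    have hcpt : IsCompact ((U i ⊓ U j : X.Opens) : Set X) :=
      QuasiSeparatedSpace.inter_isCompact (U i).1 (U j).1 (U i).2 (hUaff i).isCompact (U j).2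
        (hUaff j).isCompact
    obtain ⟨m, hm⟩ := isNilpotent_of_app_eq_zero π _ hcpt (d i j) (hd0 i j)
    exact ⟨m, pow_eq_zero_of_le (Nat.lt_pow_self hp.one_lt).le hm⟩
  choose fe hfe using hnil
  set F := ∑ i, ∑ j, fe i j with hF
  have hdF : ∀ i j, d i j ^ p ^ F = 0 := by
    intro i j
    have h1 : fe i j ≤ ∑ j, fe i j :=
      Finset.single_le_sum (f := fun j => fe i j) (fun _ _ => Nat.zero_le _) (Finset.mem_univ j)
    have h2 : ∑ j, fe i j ≤ F :=
      Finset.single_le_sum (f := fun i => ∑ j, fe i j) (fun _ _ => Nat.zero_le _) (Finset.mem_univ i)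
    exact pow_eq_zero_of_le (Nat.pow_le_pow_right hp.pos (h1.trans h2)) (hfe i j)
  have hb : ∀ i j, resf inf_le_left (a' i) ^ p ^ F =
      (resf inf_le_right (a' j) * g i j ^ (n * p ^ K)) ^ p ^ F := by
    intro i j
    rw [← sub_eq_zero, ← sub_pow_prime_pow p hp (natCast_eq_zero_app X p _)]
    exact hdF i j
  -- the glued section
  set N := n * p ^ (K + F) with hN
  obtain ⟨b, hb_def⟩ : ∃ b : ∀ i, Γ(X, U i), ∀ i, b i = a' i ^ p ^ F := ⟨_, fun _ => rfl⟩
  let σ : ∀ i, Γ(CohB1.tensorPow L N, U i) := fun i => b i • pw L (U i) (e i) N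
  have hcompat : TopCat.Presheaf.IsCompatible (modSheaf (CohB1.tensorPow L N)).1 U σ := by
    intro i j
    change res _ inf_le_left (b i • pw L (U i) (e i) N) = res _ inf_le_right (b j • pw L (U j) (e j) N)
    rw [res_smul, res_smul, res_pw, res_pw, ← hg i j, pw_smul, ← mul_smul]
    congr 1
    rw [hb_def, hb_def, resf_pow, resf_pow, hb i j, mul_pow, ← pow_mul, hN, pow_add, mul_assoc]
  obtain ⟨σ₀, hσ₀, -⟩ := (modSheaf (CohB1.tensorPow L N)).existsUnique_gluing' U ⊤
    (fun i => homOfLE le_top) (fun x _ => by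
      obtain ⟨i, hi⟩ := hcov x
      exact Opens.mem_iSup.2 ⟨i, hi⟩) σ hcompat
  refine ⟨K + F, secHom _ σ₀, ?_⟩
  have hsv : ∀ i, sv (secHom (CohB1.tensorPow L N) σ₀) (U i) = b i • pw L (U i) (e i) N := by
    intro i
    rw [sv_secHom]
    exact hσ₀ i
  have hGN : ∀ i, IsGen (CohB1.tensorPow L N) (U i) (pw L (U i) (e i) N) :=
    fun i => isGen_pw L _ (e i) (hgen i) N
  apply opens_eq_of_cover
  intro x'
  obtain ⟨i, hi⟩ := hcov (π x')
  refine ⟨π ⁻¹ᵁ U i, hi, ?_⟩
  have h1 := genLocus_inf_eq_coef (secHom (CohB1.tensorPow L N) σ₀) (hGN i)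
  have h2 : coef (hGN i) le_rfl (sv (secHom (CohB1.tensorPow L N) σ₀) (U i)) = b i := by
    symm
    apply coef_unique
    rw [res_self]
    exact (hsv i).symm
  rw [h2] at h1
  have h3 := genLocus_inf_eq_coef s' (hFn i)
  change CohB1.genLocus _ s' ⊓ π ⁻¹ᵁ U i = XP.basicOpen (t i) at h3
  rw [h3]
  change π ⁻¹ᵁ (CohB1.genLocus _ (secHom (CohB1.tensorPow L N) σ₀) ⊓ U i) = _
  rw [h1, Scheme.preimage_basicOpen]
  rw [hb_def, map_pow, ha', ← pow_mul, Scheme.basicOpen_pow]
  exact Nat.mul_pos (Nat.pow_pos hp.pos) (Nat.pow_pos hp.pos)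

/-- if the pullback of `L` to the perfection is ample then `L` is ample -/
theorem isAmple_of_isAmple_pullback (hπ : IsPerfection π p) [CompactSpace X] [QuasiSeparatedSpace X]
    (L : X.Modules) (hL : PicF.IsInvertible L)
    (h : CohB1.IsAmple ((Scheme.Modules.pullback π).obj L)) : CohB1.IsAmple L := by
  have hp : p.Prime := Fact.out
  obtain ⟨-, -, hsurj⟩ := props_of_isPerfection p π hπ
  refine ⟨hL, inferInstance, fun x => ?_⟩
  obtain ⟨x', rfl⟩ := π.surjective x
  obtain ⟨n, s', hx', haff⟩ := h.2.2 x'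
  obtain ⟨k, s, hs⟩ := exists_descent p π hπ L hL (n + 1) s'
  obtain ⟨m, hm⟩ : ∃ m, (n + 1) * p ^ k = m + 1 :=
    ⟨(n + 1) * p ^ k - 1, by
      have h0 : 0 < (n + 1) * p ^ k := Nat.mul_pos (Nat.succ_pos n) (Nat.pow_pos hp.pos (n := k))
      generalize (n + 1) * p ^ k = q at h0
      omega⟩
  have key : ∀ (N : ℕ) (_ : N = m + 1) (s : Coh.structureModule X ⟶ CohB1.tensorPow L N),
      ∃ s₁ : Coh.structureModule X ⟶ CohB1.tensorPow L (m + 1),
        CohB1.genLocus _ s₁ = CohB1.genLocus _ s := by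
    intro N hN s
    subst hN
    exact ⟨s, rfl⟩
  obtain ⟨s₁, hs₁⟩ := key _ hm s
  refine ⟨m, s₁, ?_, ?_⟩
  · rw [hs₁]
    have h2 : x' ∈ π ⁻¹ᵁ (CohB1.genLocus _ s) := by
      rw [hs]
      exact hx'
    exact h2
  · rw [hs₁]
    haveI : IsCharP (π ⁻¹ᵁ (CohB1.genLocus _ s)).toScheme p := IsCharP.of_hom (π ⁻¹ᵁ _).ι p
    haveI : IsCharP (CohB1.genLocus _ s).toScheme p := IsCharP.of_hom (CohB1.genLocus _ s).ι p
    have h1 := isPerfection_restrict p π hπ (CohB1.genLocus _ s)
    haveI : IsAffine (π ⁻¹ᵁ (CohB1.genLocus _ s)).toScheme := by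
      rw [hs]
      exact haff
    exact isAffine_of_isPerfection p (π ∣_ (CohB1.genLocus _ s)) h1

/-- ampleness of an invertible module can be tested on the perfection -/
theorem isAmple_iff_isAmple_pullback (hπ : IsPerfection π p) [CompactSpace X] [QuasiSeparatedSpace X]
    (L : X.Modules) (hL : PicF.IsInvertible L) :
    CohB1.IsAmple L ↔ CohB1.IsAmple ((Scheme.Modules.pullback π).obj L) := by
  refine ⟨fun h => ?_, isAmple_of_isAmple_pullback p π hπ L hL⟩
  obtain ⟨hint, -, -⟩ := props_of_isPerfection p π hπ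
  exact isAmple_pullback_of_isAffineHom π L h

end descent

end Groth.Agent.Lib.Helper23.PerfDescent
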