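import Mathlib
import Groth.Prelude
import Groth.Agent.Lib.Helper23PerfDescent
import Groth.Agent.Lib.Helper23GenNear
import Groth.Agent.Lib.Helper23SecTw10
set_option backward.isDefEq.respectTransparency.types false

/-!
# Picard groups of perfections (helper23)

Namespace `Groth.Agent.Lib.Helper23.PerfPic`.

* `cl_eq_cl_iff` : `PicF.cl L = PicF.cl L' ↔ Nonempty (L ≅ L')`
* `nonempty_iso_unit_of_isGen`, `exists_isGen_of_iso_unit`, `isGen_top_of_cover`
* `pow_bijective_of_isPerfect` : on a perfect scheme `s ↦ s^(p^n)` is bijective on sections over every open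
* `nonempty_iso_unit_of_tensorPow` : on a perfect scheme, `M^(p^n)` trivial ⇒ `M` trivial
* `nonempty_iso_unit_pullback_iff` : for a perfection `π` of a qcqs scheme, `π^*L` trivial ⇔ some `L^(p^n)` trivial
-/

set_option autoImplicit false
universe u
open CategoryTheory Limits AlgebraicGeometry TopologicalSpace Opposite FrobSch

namespace Groth.Agent.Lib.Helper23.PerfPic
open Groth.Agent.Lib.Helper23.SecTw Groth.Agent.Lib.Helper6 Groth.Agent.Lib.Helper23.PB
  Groth.Agent.Helper13PullbackUnit Groth.Agent.Lib.Helper23.GenLocus Groth.Agent.Lib.Helper23.Extend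
  Groth.Agent.Lib.Helper20.PerfAff Groth.Agent.Lib.Helper20.Perfection Groth.Agent.Lib.Helper23.PerfDescent
  Groth.Agent.Lib.Helper23.GenNear

theorem cl_eq_cl_iff {Y : Scheme.{u}} (L L' : Y.Modules) : PicF.cl L = PicF.cl L' ↔ Nonempty (L ≅ L') := by
  constructor
  · intro h
    have key : ∀ A B : Y.Modules, Relation.EqvGen (fun L L' : Y.Modules => Nonempty (L ≅ L')) A B →
        Nonempty (A ≅ B) := by
      intro A B hAB
      induction hAB with
      | rel _ _ h => exact h
      | refl _ => exact ⟨Iso.refl _⟩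
      | symm _ _ _ ih => exact ⟨ih.some.symm⟩
      | trans _ _ _ _ _ ih1 ih2 => exact ⟨ih1.some ≪≫ ih2.some⟩
    exact key L L' (Quot.eqvGen_exact h)
  · rintro ⟨e⟩
    exact Quot.sound ⟨e⟩

variable {X : Scheme.{u}}

/-- a global generator trivialises the module -/
theorem nonempty_iso_unit_of_isGen (M : X.Modules) (e : Γ(M, ⊤)) (he : IsGen M ⊤ e) :
    Nonempty (M ≅ Coh.structureModule X) := by
  obtain ⟨Φ, -⟩ := exists_iso_of_frames M (Coh.structureModule X) (fun _ : Unit => (⊤ : X.Opens))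
    (fun x => ⟨(), trivial⟩) (fun _ => e) (fun _ => toS ⊤ 1) (fun _ => he) (fun _ => isGen_one ⊤)
    (fun i j => cocycle_of_transition he 1 (by rw [one_smul]) (by rw [one_smul]))
  exact ⟨Φ⟩

theorem exists_isGen_of_iso_unit (M : X.Modules) (Φ : M ≅ Coh.structureModule X) :
    ∃ e : Γ(M, ⊤), IsGen M ⊤ e :=
  ⟨_, isGen_of_iso Φ.symm (isGen_one ⊤)⟩

/-- a global section generating locally generates globally -/
theorem isGen_top_of_cover (M : X.Modules) (ε : Γ(M, ⊤))
    (h : ∀ x : X, ∃ W : X.Opens, x ∈ W ∧ IsGen M W (res M le_top ε)) : IsGen M ⊤ ε := by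
  have h1 : CohB1.genLocus M (secHom M ε) = ⊤ := by
    rw [eq_top_iff]
    intro x _
    obtain ⟨W, hxW, hW⟩ := h x
    refine le_genLocus_of_isGen M (secHom M ε) W ?_ hxW
    rw [sv_secHom]
    exact hW
  have h2 := (isGen_sv_genLocus M (secHom M ε)).mono (show (⊤ : X.Opens) ≤ CohB1.genLocus M (secHom M ε) from
    h1 ▸ le_rfl)
  rw [res_sv, sv_secHom, res_self] at h2
  exact h2


section perfect
variable (p : ℕ) [Fact p.Prime]

/-- on a perfect scheme the `p^n`-th power map is bijective on the sections over every open -/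
theorem pow_bijective_of_isPerfect (Y : Scheme.{u}) [IsCharP Y p] (h : IsPerfect Y p) (W : Y.Opens) (n : ℕ) :
    Function.Bijective (fun s : Γ(Y, W) => s ^ p ^ n) := by
  haveI : IsIso (frob Y p) := h
  have h1 : Function.Bijective (fun s : Γ(Y, W) => s ^ p) := by
    have h2 : IsIso ((frob Y p).app W) := inferInstance
    exact ConcreteCategory.bijective_of_isIso ((frob Y p).app W)
  induction n with
  | zero =>
    have : (fun s : Γ(Y, W) => s ^ p ^ 0) = id := by
      funext s
      simp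
    rw [this]
    exact Function.bijective_id
  | succ n ih =>
    have : (fun s : Γ(Y, W) => s ^ p ^ (n + 1)) = (fun s : Γ(Y, W) => s ^ p) ∘ (fun s : Γ(Y, W) => s ^ p ^ n) := by
      funext s
      simp only [Function.comp, ← pow_mul, pow_succ]
    rw [this]
    exact h1.comp ih

/-- on a perfect scheme the Picard group has no `p`-torsion -/
theorem nonempty_iso_unit_of_tensorPow (Y : Scheme.{u}) [IsCharP Y p] (hY : IsPerfect Y p)
    (M : Y.Modules) (hM : PicF.IsInvertible M) (n : ℕ)
    (h : Nonempty (CohB1.tensorPow M (p ^ n) ≅ Coh.structureModule Y)) :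
    Nonempty (M ≅ Coh.structureModule Y) := by
  classical
  have hp : p.Prime := Fact.out
  obtain ⟨Φ⟩ := h
  obtain ⟨E, hE⟩ := exists_isGen_of_iso_unit _ Φ
  have h1 : ∀ x : Y, ∃ (W : Y.Opens) (e : Γ(M, W)), x ∈ W ∧ IsGen M W e := fun x => exists_gen M hM x
  choose W e hxW he using h1
  have hq : ∀ x, IsGen (CohB1.tensorPow M (p ^ n)) (W x) (pw M (W x) (e x) (p ^ n)) :=
    fun x => isGen_pw M _ (e x) (he x) _
  have hEW : ∀ x, IsGen (CohB1.tensorPow M (p ^ n)) (W x) (res _ le_top E) := fun x => hE.mono le_top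
  -- coefficients of `E` and their roots
  obtain ⟨u, hu⟩ : ∃ u : ∀ x, Γ(Y, W x), ∀ x, u x = coef (hq x) le_rfl (res _ le_top E) := ⟨_, fun _ => rfl⟩
  have huE : ∀ x, u x • pw M (W x) (e x) (p ^ n) = res _ le_top E := by
    intro x
    have := coef_spec (hq x) le_rfl (res _ le_top E)
    rw [res_self, ← hu] at this
    exact this
  have huu : ∀ x, IsUnit (u x) := fun x => by
    rw [hu]
    exact isUnit_coef_of_isGen (hq x) (hEW x)
  have h2 : ∀ x, ∃ v : Γ(Y, W x), v ^ p ^ n = u x := fun x => (pow_bijective_of_isPerfect p Y hY (W x) n).2 (u x)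
  choose v hv using h2
  have hvu : ∀ x, IsUnit (v x) := by
    intro x
    have := huu x
    rw [← hv x] at this
    exact (isUnit_pow_iff (pow_pos hp.pos n).ne').1 this
  -- transition
  have hcompat : TopCat.Presheaf.IsCompatible (modSheaf M).1 W (fun x => v x • e x) := by
    intro x y
    change res M inf_le_left (v x • e x) = res M inf_le_right (v y • e y)
    obtain ⟨g, hg⟩ : ∃ g : Γ(Y, W x ⊓ W y), g • res M inf_le_left (e x) = res M inf_le_right (e y) :=
      ⟨_, coef_spec (he x) inf_le_left _⟩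
    have h3 : resf inf_le_left (u x) = resf inf_le_right (u y) * g ^ p ^ n := by
      apply ((hq x) (W x ⊓ W y) inf_le_left).1
      change resf _ (u x) • res _ _ (pw M _ (e x) (p ^ n)) = (resf _ (u y) * g ^ p ^ n) • res _ _ (pw M _ (e x) (p ^ n))
      rw [← res_smul, huE x, mul_smul, res_pw, ← pw_smul, hg, ← res_pw, ← res_smul, huE y, res_res, res_res]
    have h4 : resf inf_le_left (v x) = resf inf_le_right (v y) * g := by
      apply (pow_bijective_of_isPerfect p Y hY (W x ⊓ W y) n).1
      change resf _ (v x) ^ p ^ n = (resf _ (v y) * g) ^ p ^ n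
      rw [mul_pow, ← resf_pow, ← resf_pow, hv, hv, h3]
    rw [res_smul, res_smul, h4, mul_smul, hg]
  obtain ⟨ε, hε, -⟩ := (modSheaf M).existsUnique_gluing' W ⊤ (fun x => homOfLE le_top)
    (fun x _ => Opens.mem_iSup.2 ⟨x, hxW x⟩) _ hcompat
  refine nonempty_iso_unit_of_isGen M ε (isGen_top_of_cover M ε (fun x => ⟨W x, hxW x, ?_⟩))
  have : res M le_top ε = v x • e x := hε x
  rw [this]
  exact (isGen_smul_iff (he x) (v x)).2 (hvu x)

/-- for a perfection `π` of a qcqs scheme: `π^* L` is trivial iff some `L^(p^n)` is trivial -/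
theorem nonempty_iso_unit_pullback_iff {X XP : Scheme.{u}} [IsCharP X p] [IsCharP XP p] (π : XP ⟶ X)
    (hπ : IsPerfection π p) [CompactSpace X] [QuasiSeparatedSpace X] (L : X.Modules) (hL : PicF.IsInvertible L) :
    Nonempty ((Scheme.Modules.pullback π).obj L ≅ Coh.structureModule XP) ↔
      ∃ n : ℕ, Nonempty (CohB1.tensorPow L (p ^ n) ≅ Coh.structureModule X) := by
  constructor
  · rintro ⟨Φ⟩
    obtain ⟨-, -, hsurj⟩ := props_of_isPerfection p π hπ
    obtain ⟨e', he'⟩ := exists_isGen_of_iso_unit _ Φ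
    have hF' := isGen_pw _ _ e' he' 1
    have h1 : CohB1.genLocus _ (secHom _ (pw ((Scheme.Modules.pullback π).obj L) ⊤ e' 1)) = ⊤ := by
      rw [eq_top_iff]
      refine le_genLocus_of_isGen _ _ ⊤ ?_
      rw [sv_secHom, res_self]
      exact hF'
    obtain ⟨k, s, hs⟩ := exists_descent p π hπ L hL 1 (secHom _ (pw ((Scheme.Modules.pullback π).obj L) ⊤ e' 1))
    rw [h1] at hs
    have h2 : CohB1.genLocus _ s = ⊤ := by
      rw [eq_top_iff]
      intro x _
      obtain ⟨x', rfl⟩ := π.surjective x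
      have : x' ∈ π ⁻¹ᵁ (CohB1.genLocus _ s) := by
        rw [hs]
        trivial
      exact this
    have h3 := (isGen_sv_genLocus _ s).mono (show (⊤ : X.Opens) ≤ CohB1.genLocus _ s from h2 ▸ le_rfl)
    rw [res_sv] at h3
    have h4 := nonempty_iso_unit_of_isGen _ _ h3
    rw [one_mul] at h4
    exact ⟨k, h4⟩
  · rintro ⟨n, ⟨Ψ⟩⟩
    obtain ⟨Θ⟩ := nonempty_pullback_tensorPow_iso π L hL (p ^ n)
    exact nonempty_iso_unit_of_tensorPow p XP hπ.1 _ (isInvertible_pullback π L hL) n
      ⟨Θ.symm ≪≫ (Scheme.Modules.pullback π).mapIso Ψ ≪≫ pullbackUnitIso π⟩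

end perfect

end Groth.Agent.Lib.Helper23.PerfPic
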