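import Mathlib
import Groth.Prelude
import Groth.Agent.Lib.Helper23PerfPic
import Groth.Agent.S10963
set_option backward.isDefEq.respectTransparency.types false

/-!
# Descent of invertible modules along a perfection, up to p-th powers (helper23)

Namespace `Groth.Agent.Lib.Helper23.PerfPic2`.

* `isUnit_of_isUnit_app` : units are detected after a surjective morphism
* `exists_finite_frames_perf` : finite affine cover of `X` with frames of `M` on the preimages
* `exists_tensorPow_iso_pullback` : for a perfection `π : XP ⟶ X` of a qcqs scheme and `M` invertible on `XP`, some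
  `M^(p^n)` is isomorphic to `π^* L` with `L` invertible on `X` (cocycle descent + S10963)
-/

set_option autoImplicit false
universe u
open CategoryTheory Limits AlgebraicGeometry TopologicalSpace Opposite FrobSch

namespace Groth.Agent.Lib.Helper23.PerfPic2
open Groth.Agent.Lib.Helper23.SecTw Groth.Agent.Lib.Helper6 Groth.Agent.Lib.Helper23.PB
  Groth.Agent.Helper13PullbackUnit Groth.Agent.Lib.Helper23.GenLocus Groth.Agent.Lib.Helper23.Extend
  Groth.Agent.Lib.Helper20.PerfAff Groth.Agent.Lib.Helper20.Perfection Groth.Agent.Lib.Helper23.PerfDescent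
  Groth.Agent.Lib.Helper23.GenNear Groth.Agent.Lib.Helper23.PerfPic

/-- units can be detected after a surjective morphism -/
theorem isUnit_of_isUnit_app {X XP : Scheme.{u}} (π : XP ⟶ X) [Surjective π] (S : X.Opens) (a : Γ(X, S))
    (h : IsUnit (π.app S a)) : IsUnit a := by
  apply RingedSpace.isUnit_of_isUnit_germ
  intro x hx
  obtain ⟨x', hx'⟩ := π.surjective x
  have h1 : x' ∈ π ⁻¹ᵁ (X.basicOpen a) := by
    rw [Scheme.preimage_basicOpen, Scheme.basicOpen_of_isUnit _ h]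
    change π x' ∈ S
    rw [hx']
    exact hx
  have h2 : x ∈ X.basicOpen a := hx' ▸ h1
  exact (X.mem_basicOpen a x hx).1 h2

section
variable (p : ℕ) [Fact p.Prime] {X XP : Scheme.{u}} [IsCharP X p] [IsCharP XP p] (π : XP ⟶ X)

/-- a finite affine cover of `X` over whose preimages an invertible module on the perfection has frames -/
theorem exists_finite_frames_perf (hπ : IsPerfection π p) [CompactSpace X]
    (M : XP.Modules) (hM : PicF.IsInvertible M) :
    ∃ (ι : Type u) (_ : Fintype ι) (U : ι → X.Opens) (m : ∀ i, Γ(M, π ⁻¹ᵁ U i)),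
      (∀ i, IsAffineOpen (U i)) ∧ (∀ i, IsGen M (π ⁻¹ᵁ U i) (m i)) ∧ ∀ x : X, ∃ i, x ∈ U i := by
  classical
  have hhomeo := isHomeomorph_of_isPerfection p π hπ
  have h1 : ∀ x : X, ∃ (A : X.Opens) (m : Γ(M, π ⁻¹ᵁ A)), x ∈ A ∧ IsAffineOpen A ∧ IsGen M (π ⁻¹ᵁ A) m := by
    intro x
    obtain ⟨x', rfl⟩ := hhomeo.surjective x
    obtain ⟨W, e, hxW, hgen⟩ := exists_gen M hM x'
    have hopen : IsOpen (π '' (W : Set XP)) := hhomeo.isOpenMap _ W.isOpen
    obtain ⟨_, ⟨A, hA, rfl⟩, hxA, hAW⟩ :=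
      X.isBasis_affineOpens.exists_subset_of_mem_open (Set.mem_image_of_mem _ hxW) hopen
    have hle : π ⁻¹ᵁ A ≤ W := by
      intro y hy
      obtain ⟨w, hw, hwy⟩ := hAW hy
      rw [← hhomeo.injective hwy]
      exact hw
    exact ⟨A, res M hle e, hxA, hA, hgen.mono hle⟩
  choose A e hxA hA hgen using h1
  obtain ⟨t, ht⟩ := isCompact_univ.elim_nhds_subcover (fun x => (A x : Set X))
    (fun x _ => (A x).isOpen.mem_nhds (hxA x))
  refine ⟨t, inferInstance, fun i => A i.1, fun i => e i.1, fun i => hA i.1, fun i => hgen i.1, fun x => ?_⟩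
  have hx := ht.2 (Set.mem_univ x)
  simp only [Set.mem_iUnion] at hx
  obtain ⟨y, hy, hxy⟩ := hx
  exact ⟨⟨y, hy⟩, hxy⟩

/-- every invertible module on the perfection has a `p`-power which descends -/
theorem exists_tensorPow_iso_pullback (hπ : IsPerfection π p) [CompactSpace X] [QuasiSeparatedSpace X]
    (M : XP.Modules) (hM : PicF.IsInvertible M) :
    ∃ (n : ℕ) (L : X.Modules), PicF.IsInvertible L ∧
      Nonempty (CohB1.tensorPow M (p ^ n) ≅ (Scheme.Modules.pullback π).obj L) := by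
  classical
  have hp : p.Prime := Fact.out
  obtain ⟨-, -, hsurj⟩ := props_of_isPerfection p π hπ
  obtain ⟨ι, _, U, m, hUaff, hm, hcov⟩ := exists_finite_frames_perf p π hπ M hM
  have hc2 : ∀ i j, IsCompact ((U i ⊓ U j : X.Opens) : Set X) := fun i j =>
    QuasiSeparatedSpace.inter_isCompact (U i).1 (U j).1 (U i).2 (hUaff i).isCompact (U j).2 (hUaff j).isCompact
  have hc3 : ∀ i j k, IsCompact ((U i ⊓ U j ⊓ U k : X.Opens) : Set X) := fun i j k =>
    QuasiSeparatedSpace.inter_isCompact (U i ⊓ U j).1 (U k).1 (U i ⊓ U j).2 (hc2 i j) (U k).2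
      (hUaff k).isCompact
  -- transition units
  obtain ⟨h, hh⟩ : ∃ h : ∀ i j, Γ(XP, π ⁻¹ᵁ (U i ⊓ U j)), ∀ i j,
      res M (π.preimage_mono (inf_le_left : U i ⊓ U j ≤ U i)) (m i) =
        h i j • res M (π.preimage_mono (inf_le_right : U i ⊓ U j ≤ U j)) (m j) :=
    ⟨fun i j => coef (hm j) (π.preimage_mono inf_le_right) (res M (π.preimage_mono inf_le_left) (m i)),
      fun i j => (coef_spec (hm j) _ _).symm⟩
  have hhu : ∀ i j, IsUnit (h i j) := by
    intro i j
    have h1 := (hm i).mono (π.preimage_mono (inf_le_left : U i ⊓ U j ≤ U i))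
    have h2 := (hm j).mono (π.preimage_mono (inf_le_right : U i ⊓ U j ≤ U j))
    rw [hh i j] at h1
    exact (isGen_smul_iff h2 (h i j)).1 h1
  have hhc : ∀ i j k,
      resf (π.preimage_mono (inf_le_inf_right (U k) inf_le_left : U i ⊓ U j ⊓ U k ≤ U i ⊓ U k)) (h i k) =
        resf (π.preimage_mono (inf_le_left : U i ⊓ U j ⊓ U k ≤ U i ⊓ U j)) (h i j) *
          resf (π.preimage_mono (inf_le_inf_right (U k) inf_le_right : U i ⊓ U j ⊓ U k ≤ U j ⊓ U k))
            (h j k) := by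
    intro i j k
    have hk := (hm k) (π ⁻¹ᵁ (U i ⊓ U j ⊓ U k)) (π.preimage_mono inf_le_right)
    apply hk.1
    change resf _ (h i k) • res M _ (m k) = (resf _ (h i j) * resf _ (h j k)) • res M _ (m k)
    have e1 := congrArg (res M (π.preimage_mono
      (inf_le_inf_right (U k) inf_le_left : U i ⊓ U j ⊓ U k ≤ U i ⊓ U k))) (hh i k)
    have e2 := congrArg (res M (π.preimage_mono (inf_le_left : U i ⊓ U j ⊓ U k ≤ U i ⊓ U j))) (hh i j)
    have e3 := congrArg (res M (π.preimage_mono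
      (inf_le_inf_right (U k) inf_le_right : U i ⊓ U j ⊓ U k ≤ U j ⊓ U k))) (hh j k)
    rw [res_smul, res_res, res_res] at e1 e2 e3
    rw [mul_smul, ← e3, ← e2, ← e1]
  -- descend the transition units
  have h4 : ∀ i j, ∃ (k : ℕ) (a : Γ(X, U i ⊓ U j)), π.app (U i ⊓ U j) a = h i j ^ p ^ k := fun i j =>
    exists_pow_eq_app p π hπ (U i ⊓ U j) (hc2 i j) (h i j)
  choose kk a hka using h4
  set K := ∑ i, ∑ j, kk i j with hK
  obtain ⟨c, hc⟩ : ∃ c : ∀ i j, Γ(X, U i ⊓ U j), ∀ i j, π.app (U i ⊓ U j) (c i j) = h i j ^ p ^ K := by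
    refine ⟨fun i j => a i j ^ p ^ (K - kk i j), fun i j => ?_⟩
    have h1 : kk i j ≤ ∑ j, kk i j :=
      Finset.single_le_sum (f := fun j => kk i j) (fun _ _ => Nat.zero_le _) (Finset.mem_univ j)
    have h2 : ∑ j, kk i j ≤ K :=
      Finset.single_le_sum (f := fun i => ∑ j, kk i j) (fun _ _ => Nat.zero_le _) (Finset.mem_univ i)
    change π.app (U i ⊓ U j) (a i j ^ p ^ (K - kk i j)) = _
    rw [map_pow, hka, ← pow_mul, ← pow_add, Nat.add_sub_cancel' (h1.trans h2)]
  have hcu : ∀ i j, IsUnit (c i j) := fun i j =>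
    isUnit_of_isUnit_app π _ (c i j) (by rw [hc]; exact (hhu i j).pow _)
  -- the cocycle defect is nilpotent
  have hD0 : ∀ i j k, π.app (U i ⊓ U j ⊓ U k)
      (resf (inf_le_inf_right (U k) inf_le_left : U i ⊓ U j ⊓ U k ≤ U i ⊓ U k) (c i k) -
        resf (inf_le_left : U i ⊓ U j ⊓ U k ≤ U i ⊓ U j) (c i j) *
          resf (inf_le_inf_right (U k) inf_le_right : U i ⊓ U j ⊓ U k ≤ U j ⊓ U k) (c j k)) = 0 := by
    intro i j k
    rw [map_sub, map_mul, app_resf, app_resf, app_resf, hc, hc, hc, resf_pow, resf_pow, resf_pow, hhc i j k,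
      mul_pow, sub_self]
  have hnil : ∀ i j k, ∃ f, (resf (inf_le_inf_right (U k) inf_le_left : U i ⊓ U j ⊓ U k ≤ U i ⊓ U k) (c i k) -
        resf (inf_le_left : U i ⊓ U j ⊓ U k ≤ U i ⊓ U j) (c i j) *
          resf (inf_le_inf_right (U k) inf_le_right : U i ⊓ U j ⊓ U k ≤ U j ⊓ U k) (c j k)) ^ p ^ f = 0 := by
    intro i j k
    obtain ⟨f, hf⟩ := isNilpotent_of_app_eq_zero π _ (hc3 i j k) _ (hD0 i j k)
    exact ⟨f, pow_eq_zero_of_le (Nat.lt_pow_self hp.one_lt).le hf⟩
  choose fe hfe using hnil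
  set F := ∑ i, ∑ j, ∑ k, fe i j k with hF
  have hQ : ∀ i j k, resf (inf_le_inf_right (U k) inf_le_left : U i ⊓ U j ⊓ U k ≤ U i ⊓ U k) (c i k) ^ p ^ F =
      (resf (inf_le_left : U i ⊓ U j ⊓ U k ≤ U i ⊓ U j) (c i j) *
        resf (inf_le_inf_right (U k) inf_le_right : U i ⊓ U j ⊓ U k ≤ U j ⊓ U k) (c j k)) ^ p ^ F := by
    intro i j k
    have h1 : fe i j k ≤ ∑ k, fe i j k :=
      Finset.single_le_sum (f := fun k => fe i j k) (fun _ _ => Nat.zero_le _) (Finset.mem_univ k)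
    have h2 : ∑ k, fe i j k ≤ ∑ j, ∑ k, fe i j k :=
      Finset.single_le_sum (f := fun j => ∑ k, fe i j k) (fun _ _ => Nat.zero_le _) (Finset.mem_univ j)
    have h3 : ∑ j, ∑ k, fe i j k ≤ F :=
      Finset.single_le_sum (f := fun i => ∑ j, ∑ k, fe i j k) (fun _ _ => Nat.zero_le _) (Finset.mem_univ i)
    rw [← sub_eq_zero, ← sub_pow_prime_pow p hp (natCast_eq_zero_app X p _)]
    exact pow_eq_zero_of_le (Nat.pow_le_pow_right hp.pos ((h1.trans h2).trans h3)) (hfe i j k)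
  -- the descended cocycle
  let η : ∀ i j, (Γ(X, U i ⊓ U j))ˣ := fun i j => ((hcu i j).pow (p ^ F)).unit
  have hηc : ∀ i j, ((η i j : (Γ(X, U i ⊓ U j))ˣ) : Γ(X, U i ⊓ U j)) = c i j ^ p ^ F := fun i j =>
    IsUnit.unit_spec _
  have hU : iSup U = ⊤ := by
    rw [eq_top_iff]
    intro x _
    obtain ⟨i, hi⟩ := hcov x
    exact Opens.mem_iSup.2 ⟨i, hi⟩
  obtain ⟨L, s, hLinv, hs, hst⟩ := Groth.Agent.S10963.result X U hU η (by
    intro i j k
    rw [hηc, hηc, hηc]
    have := hQ i j k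
    rw [mul_pow, ← resf_pow, ← resf_pow, ← resf_pow] at this
    exact this)
  haveI : L.IsQuasicoherent := isQuasicoherent_of_isInvertible L hLinv
  have hsgen : ∀ i, IsGen L (U i) (s i) := hs
  have hcovP : ∀ x' : XP, ∃ i, x' ∈ π ⁻¹ᵁ U i := fun x' => hcov (π x')
  obtain ⟨Φ, -⟩ := exists_iso_of_frames (CohB1.tensorPow M (p ^ (K + F))) ((Scheme.Modules.pullback π).obj L)
    (fun i => π ⁻¹ᵁ U i) hcovP (fun i => pw M _ (m i) (p ^ (K + F))) (fun i => unitSec π L le_rfl (s i))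
    (fun i => isGen_pw M _ (m i) (hm i) _) (fun i => isGen_unitSec π L (hUaff i) (s i) (hsgen i))
    (fun i j => by
      refine cocycle_of_transition (isGen_pw M _ (m j) (hm j) _) ((h i j : Γ(XP, π ⁻¹ᵁ (U i ⊓ U j))) ^ p ^ (K + F))
        ?_ ?_
      · have h1 : res (CohB1.tensorPow M (p ^ (K + F))) (π.preimage_mono (inf_le_left : U i ⊓ U j ≤ U i))
            (pw M _ (m i) (p ^ (K + F))) = (h i j) ^ p ^ (K + F) •
            res (CohB1.tensorPow M (p ^ (K + F))) (π.preimage_mono (inf_le_right : U i ⊓ U j ≤ U j))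
              (pw M _ (m j) (p ^ (K + F))) := by
          rw [res_pw, res_pw, hh i j, pw_smul]
        exact h1
      · have h2 := res_unitSec_of_transition π L (s i) (s j) (η i j) (hst i j)
        have h3 : π.appLE (U i ⊓ U j) (π ⁻¹ᵁ U i ⊓ π ⁻¹ᵁ U j) (preimage_inf_le π (U i) (U j))
            ((η i j : (Γ(X, U i ⊓ U j))ˣ) : Γ(X, U i ⊓ U j)) = (h i j) ^ p ^ (K + F) := by
          have h5 : π.appLE (U i ⊓ U j) (π ⁻¹ᵁ U i ⊓ π ⁻¹ᵁ U j) (preimage_inf_le π (U i) (U j)) =
              π.app (U i ⊓ U j) := Scheme.Hom.appLE_eq_app π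
          have h6 : π.app (U i ⊓ U j) (c i j ^ p ^ F) = h i j ^ p ^ (K + F) := by
            rw [map_pow, hc, ← pow_mul, ← pow_add]
          rw [h5, hηc]
          exact h6
        rw [h3] at h2
        exact h2)
  exact ⟨K + F, L, hLinv, ⟨Φ⟩⟩

end

end Groth.Agent.Lib.Helper23.PerfPic2
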