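import Mathlib

/-!
Cartesian squares of quotient modules: `M/(P ⊓ Q)` is the fibre product of `M/P` and `M/Q` over
`M/(P ⊔ Q)`.
-/

set_option autoImplicit false
universe u v
open CategoryTheory CategoryTheory.Limits

namespace Groth.Agent.Lib.Helper23

/-- A commutative square of surjections of modules, checked on elements, is cartesian. -/
theorem isPullback_moduleCat_of_elements {A : Type u} [CommRing A]
    {X₁ X₂ X₃ X₄ : ModuleCat.{v} A} (t : X₁ ⟶ X₂) (l : X₁ ⟶ X₃) (r : X₂ ⟶ X₄) (b : X₃ ⟶ X₄)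
    (w : t ≫ r = l ≫ b)
    (hinj : ∀ x y : X₁, t x = t y → l x = l y → x = y)
    (hsurj : ∀ (x₂ : X₂) (x₃ : X₃), r x₂ = b x₃ → ∃ x₁ : X₁, t x₁ = x₂ ∧ l x₁ = x₃) :
    IsPullback t l r b := by
  haveI : ReflectsLimit (cospan r b) (forget (ModuleCat.{v} A)) :=
    reflectsLimit_of_reflectsIsomorphisms _ _
  apply IsPullback.of_map_of_faithful (forget (ModuleCat.{v} A))
  rw [Types.isPullback_iff]
  refine ⟨?_, ?_, ?_⟩
  · rw [← Functor.map_comp, ← Functor.map_comp, w]
  · rintro x y ⟨h1, h2⟩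
    exact hinj x y h1 h2
  · intro x₂ x₃ h
    exact hsurj x₂ x₃ h

theorem isPullback_quotient_factor {A : Type u} [CommRing A] {M : Type v} [AddCommGroup M]
    [Module A M] (P Q I S : Submodule A M) (hI : I = P ⊓ Q) (hS : S = P ⊔ Q)
    (h1 : I ≤ P) (h2 : I ≤ Q) (h3 : P ≤ S) (h4 : Q ≤ S) :
    IsPullback (ModuleCat.ofHom (Submodule.factor h1)) (ModuleCat.ofHom (Submodule.factor h2))
      (ModuleCat.ofHom (Submodule.factor h3)) (ModuleCat.ofHom (Submodule.factor h4)) := by
  subst hI hS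
  apply isPullback_moduleCat_of_elements
  · ext x
    simp
  · intro x y hx hy
    obtain ⟨m, rfl⟩ := Submodule.Quotient.mk_surjective _ x
    obtain ⟨m', rfl⟩ := Submodule.Quotient.mk_surjective _ y
    simp only [ModuleCat.hom_ofHom, Submodule.factor, Submodule.mapQ_apply, LinearMap.id_coe, id_eq] at hx hy ⊢
    rw [Submodule.Quotient.eq] at hx hy ⊢
    exact ⟨hx, hy⟩
  · intro x₂ x₃ h
    obtain ⟨m1, rfl⟩ := Submodule.Quotient.mk_surjective _ x₂
    obtain ⟨m2, rfl⟩ := Submodule.Quotient.mk_surjective _ x₃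
    simp only [ModuleCat.hom_ofHom, Submodule.factor, Submodule.mapQ_apply, LinearMap.id_coe, id_eq] at h
    rw [Submodule.Quotient.eq, Submodule.mem_sup] at h
    obtain ⟨p, hp, q, hq, hpq⟩ := h
    refine ⟨Submodule.Quotient.mk (m1 - p), ?_, ?_⟩
    · simp only [ModuleCat.hom_ofHom, Submodule.factor, Submodule.mapQ_apply, LinearMap.id_coe, id_eq]
      rw [Submodule.Quotient.eq]
      simpa using P.neg_mem hp
    · simp only [ModuleCat.hom_ofHom, Submodule.factor, Submodule.mapQ_apply, LinearMap.id_coe, id_eq]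
      rw [Submodule.Quotient.eq]
      have : m1 - p - m2 = q := by
        have : m1 - p - m2 = (m1 - m2) - p := by abel
        rw [this, ← hpq]; abel
      rw [this]; exact hq

theorem comap_subtype_sup_of_le {A : Type u} [CommRing A] {N : Type v} [AddCommGroup N]
    [Module A N] (Z N1 N2 : Submodule A N) (h1 : N1 ≤ Z) (h2 : N2 ≤ Z) :
    Submodule.comap Z.subtype (N1 ⊔ N2) =
      Submodule.comap Z.subtype N1 ⊔ Submodule.comap Z.subtype N2 := by
  apply le_antisymm
  · rintro ⟨z, hz⟩ hmem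
    rw [Submodule.mem_comap, Submodule.mem_sup] at hmem
    obtain ⟨n1, hn1, n2, hn2, h⟩ := hmem
    rw [Submodule.mem_sup]
    refine ⟨⟨n1, h1 hn1⟩, by simpa using hn1, ⟨n2, h2 hn2⟩, by simpa using hn2, ?_⟩
    apply Subtype.ext
    simpa using h
  · exact sup_le (Submodule.comap_mono le_sup_left) (Submodule.comap_mono le_sup_right)

theorem isPullback_cocycle_square {A : Type u} [CommRing A] {N : Type v} [AddCommGroup N]
    [Module A N] (Z B : Submodule A N) (hBZ : B ≤ Z) (x : A)
    (hxH : IsSMulRegular (↥Z ⧸ Submodule.comap Z.subtype B) x)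
    (h1 : Submodule.comap Z.subtype (Ideal.span {x} • B) ≤
      Submodule.comap Z.subtype (Ideal.span {x} • Z))
    (h2 : Submodule.comap Z.subtype (Ideal.span {x} • B) ≤ Submodule.comap Z.subtype B)
    (h3 : Submodule.comap Z.subtype (Ideal.span {x} • Z) ≤
      Submodule.comap Z.subtype (B ⊔ Ideal.span {x} • Z))
    (h4 : Submodule.comap Z.subtype B ≤ Submodule.comap Z.subtype (B ⊔ Ideal.span {x} • Z)) :
    IsPullback (ModuleCat.ofHom (Submodule.factor h1)) (ModuleCat.ofHom (Submodule.factor h2))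
      (ModuleCat.ofHom (Submodule.factor h3)) (ModuleCat.ofHom (Submodule.factor h4)) := by
  apply isPullback_quotient_factor
  · -- intersection
    apply le_antisymm
    · exact le_inf h1 h2
    · rintro ⟨z, hz⟩ ⟨hP, hQ⟩
      simp only [SetLike.mem_coe, Submodule.mem_comap, Submodule.subtype_apply] at hP hQ ⊢
      rw [Submodule.ideal_span_singleton_smul, Submodule.mem_smul_pointwise_iff_exists] at hP ⊢
      obtain ⟨z', hz', rfl⟩ := hP
      refine ⟨z', ?_, rfl⟩
      have h0 : x • (Submodule.Quotient.mk (⟨z', hz'⟩ : ↥Z) :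
          ↥Z ⧸ Submodule.comap Z.subtype B) = x • 0 := by
        rw [smul_zero, ← Submodule.Quotient.mk_smul, Submodule.Quotient.mk_eq_zero]
        simpa using hQ
      have h5 := hxH h0
      rw [Submodule.Quotient.mk_eq_zero] at h5
      simpa using h5
  · rw [comap_subtype_sup_of_le Z B (Ideal.span {x} • Z) hBZ Submodule.smul_le_right, sup_comm]

end Groth.Agent.Lib.Helper23
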