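import Mathlib
import Groth.Prelude.Def_QCohCat
import Groth.Agent.Lib.Helper23FPColim2
import Groth.Agent.Lib.Helper27EpiGen2
import Groth.Agent.Lib.Helper18OmLS10

/-!
# Finitely presentable objects of `QCoh X` on a qcqs scheme are the finitely presented modules (helper23)

* `exists_genList`: a finite test family of sections of a finite type quasi-coherent module on a quasi-compact scheme
* `exists_map_list_eq_zero`, `exists_comp_map_eq_zero` (a map from a f.t. qcoh module to a stage of a filtered diagram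
  which dies in the colimit dies at a finite stage), `exists_lift_list`, `exists_lift` (maps from f.p. qcoh modules to
  filtered colimits of qcoh modules factor through a stage)
* `isFP_of_iso`, `isFP_of_retract`, `isFP_of_isFinitelyPresentable`, `isFinitelyPresentable_of_isFP`
-/

set_option autoImplicit false
set_option backward.isDefEq.respectTransparency.types false
universe u
open CategoryTheory Limits AlgebraicGeometry TopologicalSpace Opposite

namespace Groth.Agent.Lib.Helper23.QCohFP

open Groth.Agent.Lib.Helper23.QCohLocal Groth.Agent.Lib.Helper2.Push Groth.Agent.Lib.Helper2.QCoh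
  Groth.Agent.Lib.Helper23.FinType Groth.Agent.Lib.Helper23.ModLocal Groth.Agent.Lib.Helper23.Extend
  Groth.Agent.Lib.Helper23.ExtendFP Groth.Agent.Lib.Helper2.FPAff Groth.Agent.Lib.Helper2.FinPushFP
  Groth.Agent.Lib.Helper23.FPQuot Groth.Agent.Lib.Helper23.FTsub Groth.Agent.Lib.Helper23.FPColim
  Groth.Agent.Lib.Helper18.DirImgColim

variable {X : Scheme.{u}}


/-- a finite family of sections over affine opens of a finite type quasi-coherent module on a quasi-compact scheme
which detects equality of morphisms out of it and epimorphisms onto it -/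
theorem exists_genList [CompactSpace X] (N : X.Modules) [N.IsQuasicoherent]
    [SheafOfModules.IsFiniteType (R := X.ringCatSheaf) N] :
    ∃ l : List (Σ U : X.affineOpens, Γ(N, U.1)),
      (∀ (Z : X.Modules) (g h : N ⟶ Z), (∀ p ∈ l, g.app p.1.1 p.2 = h.app p.1.1 p.2) → g = h) ∧
      (∀ (S : X.Modules) [S.IsQuasicoherent] (φ : S ⟶ N),
        (∀ p ∈ l, ∃ s : Γ(S, p.1.1), φ.app p.1.1 s = p.2) → Epi φ) := by
  have hgen : ∀ V : X.affineOpens, ∃ T : Finset Γ(N, V.1), Submodule.span Γ(X, V.1) (T : Set Γ(N, V.1)) = ⊤ := by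
    intro V
    have : Module.Finite Γ(X, V.1) Γ(N, V.1) := finite_of_isFiniteType N V.2
    exact Module.Finite.fg_top
  choose Tg hTg using hgen
  obtain ⟨t, ht⟩ := isCompact_univ.elim_finite_subcover
    (fun V : X.affineOpens => ((V : X.Opens) : Set X)) (fun V => V.1.isOpen) (by
      intro x _
      obtain ⟨A, hA, hxA, -⟩ := Opens.isBasis_iff_nbhd.1 X.isBasis_affineOpens
        (show x ∈ (⊤ : X.Opens) from trivial)
      exact Set.mem_iUnion.2 ⟨⟨A, hA⟩, hxA⟩)
  have hcov : ∀ x : X, ∃ V : t, x ∈ V.1.1 := by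
    intro x
    have hx := ht (Set.mem_univ x)
    simp only [Set.mem_iUnion] at hx
    obtain ⟨V, hV, hxV⟩ := hx
    exact ⟨⟨V, hV⟩, hxV⟩
  let l : List (Σ U : X.affineOpens, Γ(N, U.1)) :=
    t.toList.flatMap (fun V => (Tg V).toList.map (fun τ => ⟨V, τ⟩))
  have hl : ∀ V ∈ t, ∀ τ ∈ Tg V, (⟨V, τ⟩ : Σ U : X.affineOpens, Γ(N, U.1)) ∈ l := by
    intro V hV τ hτ
    simp only [l, List.mem_flatMap, List.mem_map, Finset.mem_toList]
    exact ⟨V, hV, τ, hτ, rfl⟩
  refine ⟨l, ?_, ?_⟩
  · intro Z g h hgh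
    refine Groth.Agent.Lib.Helper27EpiGen.hom_ext_of_affine_cover N Z (fun V : t => V.1.1) (fun V => V.1.2) hcov g h ?_
    intro V m
    have hm : m ∈ Submodule.span Γ(X, V.1.1) ((Tg V.1 : Finset _) : Set Γ(N, V.1.1)) := by
      rw [hTg]; trivial
    have heq : Set.EqOn (appₗ g V.1.1) (appₗ h V.1.1) ((Tg V.1 : Finset _) : Set Γ(N, V.1.1)) := by
      intro τ hτ
      exact hgh ⟨V.1, τ⟩ (hl V.1 V.2 τ hτ)
    exact LinearMap.eqOn_span heq hm
  · intro S _ φ hφ
    refine Groth.Agent.Helper18OmLS.epi_of_surjective_app_cover φ (fun V : t => V.1.1) ?_ (fun V => V.1.2) ?_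
    · rw [IsOpenCover, eq_top_iff]
      intro x _
      obtain ⟨V, hV⟩ := hcov x
      exact Opens.mem_iSup.2 ⟨V, hV⟩
    · intro V
      have hr : LinearMap.range (appₗ φ V.1.1) = ⊤ := by
        rw [eq_top_iff, ← hTg V.1, Submodule.span_le]
        intro τ hτ
        obtain ⟨s, hs⟩ := hφ ⟨V.1, τ⟩ (hl V.1 V.2 τ hτ)
        exact ⟨s, hs⟩
      intro n
      obtain ⟨s, hs⟩ := LinearMap.range_eq_top.1 hr n
      exact ⟨s, hs⟩

theorem comp_app_apply {A B C : X.Modules} (φ : A ⟶ B) (ψ : B ⟶ C) (χ : A ⟶ C) (h : φ ≫ ψ = χ) (U : X.Opens)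
    (x : Γ(A, U)) : ψ.app U (φ.app U x) = χ.app U x := by
  subst h
  rw [Scheme.Modules.Hom.comp_app]
  rfl

section Filt
variable {J : Type u} [SmallCategory J] [IsFiltered J] (D : J ⥤ X.Modules) (c : Cocone D) (hc : IsColimit c)
include hc

/-- finitely many sections over affine opens dying in the colimit die at a finite stage -/
theorem exists_map_list_eq_zero (j : J) (l : List (Σ U : X.affineOpens, Γ(D.obj j, U.1)))
    (hl : ∀ p ∈ l, (c.ι.app j).app p.1.1 p.2 = 0) :
    ∃ (k : J) (a : j ⟶ k), ∀ p ∈ l, (D.map a).app p.1.1 p.2 = 0 := by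
  induction l with
  | nil => exact ⟨j, 𝟙 j, fun p hp => by simp at hp⟩
  | cons p₀ l ih =>
    obtain ⟨k, a, ha⟩ := ih (fun p hp => hl p (List.mem_cons_of_mem _ hp))
    have h0 : (c.ι.app k).app p₀.1.1 ((D.map a).app p₀.1.1 p₀.2) = 0 := by
      have := hl p₀ List.mem_cons_self
      rw [← c.w a, Scheme.Modules.Hom.comp_app] at this
      exact this
    obtain ⟨k', b, hb⟩ := colim_inj D p₀.1.1 (qc2_of_isAffineOpen p₀.1.1 p₀.1.2) c hc k
      ((D.map a).app p₀.1.1 p₀.2) h0
    refine ⟨k', a ≫ b, ?_⟩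
    intro p hp
    rw [D.map_comp, Scheme.Modules.Hom.comp_app]
    rcases List.mem_cons.1 hp with rfl | hp
    · exact hb
    · change (D.map b).app p.1.1 ((D.map a).app p.1.1 p.2) = 0
      rw [ha p hp, map_zero]

/-- **Lemma Z**: a morphism from a finite type quasi-coherent module to a stage of a filtered diagram which dies in
the colimit dies at a finite stage -/
theorem exists_comp_map_eq_zero [CompactSpace X] {N : X.Modules} [N.IsQuasicoherent]
    [SheafOfModules.IsFiniteType (R := X.ringCatSheaf) N] (j : J) (ν : N ⟶ D.obj j)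
    (h : ν ≫ c.ι.app j = 0) : ∃ (k : J) (a : j ⟶ k), ν ≫ D.map a = 0 := by
  obtain ⟨l, hl, -⟩ := exists_genList N
  let e : (Σ U : X.affineOpens, Γ(N, U.1)) → (Σ U : X.affineOpens, Γ(D.obj j, U.1)) :=
    fun p => ⟨p.1, ν.app p.1.1 p.2⟩
  have key := exists_map_list_eq_zero D c hc j (l.map e)
    (fun p hp => by
      obtain ⟨q, hq, rfl⟩ := List.mem_map.1 hp
      have := congrArg (fun φ : N ⟶ c.pt => φ.app q.1.1 q.2) h
      simpa [Scheme.Modules.Hom.comp_app] using this)
  obtain ⟨k, a, ha⟩ := key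
  refine ⟨k, a, hl _ _ _ (fun p hp => ?_)⟩
  have := ha (e p) (List.mem_map.2 ⟨p, hp, rfl⟩)
  rw [Scheme.Modules.Hom.comp_app]
  simpa using this

/-- lifting of finitely many sections of the colimit over affine opens to a common stage -/
theorem exists_lift_list (l : List (Σ U : X.affineOpens, Γ(c.pt, U.1))) :
    ∃ (j : J), ∀ p ∈ l, ∃ y : Γ(D.obj j, p.1.1), (c.ι.app j).app p.1.1 y = p.2 := by
  induction l with
  | nil => exact ⟨IsFiltered.nonempty.some, fun p hp => by simp at hp⟩
  | cons p₀ l ih =>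
    obtain ⟨j, hj⟩ := ih
    obtain ⟨j₀, y₀, hy₀⟩ := colim_surj D p₀.1.1 (qc2_of_isAffineOpen _ p₀.1.2) c hc p₀.2
    refine ⟨IsFiltered.max j j₀, ?_⟩
    intro p hp
    rcases List.mem_cons.1 hp with rfl | hp
    · refine ⟨(D.map (IsFiltered.rightToMax j j₀)).app _ y₀, ?_⟩
      have h1 := congrArg (fun φ : D.obj j₀ ⟶ c.pt => φ.app p.1.1 y₀) (c.w (IsFiltered.rightToMax j j₀))
      simp only [Scheme.Modules.Hom.comp_app] at h1
      exact h1.trans hy₀
    · obtain ⟨y, hy⟩ := hj p hp
      refine ⟨(D.map (IsFiltered.leftToMax j j₀)).app _ y, ?_⟩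
      have h1 := congrArg (fun φ : D.obj j ⟶ c.pt => φ.app p.1.1 y) (c.w (IsFiltered.leftToMax j j₀))
      simp only [Scheme.Modules.Hom.comp_app] at h1
      exact h1.trans hy

/-- a morphism from a finitely presented quasi-coherent module to a filtered colimit of quasi-coherent modules factors
through a stage -/
theorem exists_lift [CompactSpace X] [QuasiSeparatedSpace X] (hD : ∀ j, (D.obj j).IsQuasicoherent)
    {M : X.Modules} [M.IsQuasicoherent] [SheafOfModules.IsFinitePresentation (R := X.ringCatSheaf) M]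
    (f : M ⟶ c.pt) : ∃ (k : J) (f' : M ⟶ D.obj k), f' ≫ c.ι.app k = f := by
  have hMft : SheafOfModules.IsFiniteType (R := X.ringCatSheaf) M := inferInstance
  obtain ⟨l, -, hl⟩ := exists_genList M
  let e : (Σ U : X.affineOpens, Γ(M, U.1)) → (Σ U : X.affineOpens, Γ(c.pt, U.1)) :=
    fun p => ⟨p.1, f.app p.1.1 p.2⟩
  obtain ⟨j, hj⟩ := exists_lift_list D c hc (l.map e)
  haveI := hD j
  haveI hcq : c.pt.IsQuasicoherent := by
    haveI h1 : (colimit D).IsQuasicoherent := isQuasicoherent_colimit D hD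
    exact @Groth.Agent.Lib.Helper23.TensorQCoh.isQuasicoherent_of_iso _ _ _
      ((colimit.isColimit D).coconePointUniqueUpToIso hc) h1
  -- the module of pairs
  let P : X.Modules := M ⊞ D.obj j
  haveI hPq : P.IsQuasicoherent := isQuasicoherent_biprod M (D.obj j)
  let δ : P ⟶ c.pt := biprod.desc f (-(c.ι.app j))
  haveI hQq : (kernel δ).IsQuasicoherent := isQuasicoherent_kernel δ
  have hδ : kernel.ι δ ≫ biprod.fst ≫ f = kernel.ι δ ≫ biprod.snd ≫ c.ι.app j := by
    have h2 : δ = biprod.fst ≫ f - biprod.snd ≫ c.ι.app j := by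
      apply biprod.hom_ext' <;> simp [δ]
    have h1 : kernel.ι δ ≫ (biprod.fst ≫ f - biprod.snd ≫ c.ι.app j) = 0 := by
      rw [← h2]; exact kernel.condition δ
    rw [Preadditive.comp_sub, sub_eq_zero] at h1
    exact h1
  -- sections of the kernel over the generators
  have hq : ∀ p : (Σ U : X.affineOpens, Γ(M, U.1)), ∃ q : Γ(kernel δ, p.1.1),
      p ∈ l → (kernel.ι δ ≫ biprod.fst).app p.1.1 q = p.2 := by
    intro p
    by_cases hp : p ∈ l
    · obtain ⟨y, hy⟩ := hj (e p) (List.mem_map.2 ⟨p, hp, rfl⟩)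
      let s : Γ(P, p.1.1) := (biprod.inl : M ⟶ P).app p.1.1 p.2 + (biprod.inr : D.obj j ⟶ P).app p.1.1 y
      have hs : δ.app p.1.1 s = 0 := by
        have h1 : δ.app p.1.1 ((biprod.inl : M ⟶ P).app p.1.1 p.2) = f.app p.1.1 p.2 :=
          comp_app_apply _ _ _ (biprod.inl_desc f (-(c.ι.app j))) _ _
        have h2 : δ.app p.1.1 ((biprod.inr : D.obj j ⟶ P).app p.1.1 y) = -((c.ι.app j).app p.1.1 y) := by
          have := comp_app_apply _ _ _ (biprod.inr_desc f (-(c.ι.app j))) p.1.1 y
          rw [this]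
          rfl
        rw [map_add, h1, h2, hy]
        exact add_neg_cancel _
      obtain ⟨q, hq⟩ := exists_of_app_eq_zero (ShortComplex.mk (kernel.ι δ) δ (kernel.condition δ))
        (ShortComplex.exact_kernel δ) p.1.1 s hs
      refine ⟨q, fun _ => ?_⟩
      rw [Scheme.Modules.Hom.comp_app]
      change (biprod.fst : P ⟶ M).app p.1.1 ((kernel.ι δ).app p.1.1 q) = p.2
      have hq' : (kernel.ι δ).app p.1.1 q = s := hq
      rw [hq', map_add]
      have h3 : (biprod.fst : P ⟶ M).app p.1.1 ((biprod.inl : M ⟶ P).app p.1.1 p.2) = p.2 := by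
        have := comp_app_apply _ _ _ (biprod.inl_fst (X := M) (Y := D.obj j)) p.1.1 p.2
        rw [this, Scheme.Modules.Hom.id_app]
        rfl
      have h4 : (biprod.fst : P ⟶ M).app p.1.1 ((biprod.inr : D.obj j ⟶ P).app p.1.1 y) = 0 := by
        have := comp_app_apply _ _ _ (biprod.inr_fst (X := M) (Y := D.obj j)) p.1.1 y
        rw [this]
        rfl
      rw [h3, h4, add_zero]
    · exact ⟨0, fun h => absurd h hp⟩
  choose q hq using hq
  -- a finite type quasi-coherent submodule of the kernel containing these sections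
  let eQ : (Σ U : X.affineOpens, Γ(M, U.1)) → (Σ U : X.affineOpens, Γ(kernel δ, U.1)) := fun p => ⟨p.1, q p⟩
  obtain ⟨S, i, hi, hSq, hSf, hmem⟩ := exists_ft_sub_list (kernel δ) ⟨⟨⊥, isAffineOpen_bot X⟩, 0⟩ (l.map eQ)
  let pr : S ⟶ M := i ≫ kernel.ι δ ≫ biprod.fst
  haveI hpr : Epi pr := by
    refine hl S pr (fun p hp => ?_)
    obtain ⟨g, hg⟩ := hmem (eQ p) (List.mem_cons_of_mem _ (List.mem_map.2 ⟨p, hp, rfl⟩))
    refine ⟨g, ?_⟩
    have h1 := hq p hp
    rw [Scheme.Modules.Hom.comp_app] at h1 ⊢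
    change (kernel.ι δ ≫ biprod.fst).app p.1.1 (i.app p.1.1 g) = p.2
    rw [hg, Scheme.Modules.Hom.comp_app]
    exact h1
  -- the kernel of the projection is of finite type
  haveI hNq : (kernel pr).IsQuasicoherent := isQuasicoherent_kernel pr
  haveI hNf : SheafOfModules.IsFiniteType (R := X.ringCatSheaf) (kernel pr) := by
    refine (isFiniteType_iff_forall_affine (kernel pr)).2 ?_
    intro U hU
    have : Module.Finite Γ(X, U) Γ(S, U) := finite_of_isFiniteType S hU
    have : Module.FinitePresentation Γ(X, U) Γ(M, U) := finitePresentation_sections M hU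
    exact finite_of_shortExact (ShortComplex.mk (kernel.ι pr) pr (kernel.condition pr))
      { exact := ShortComplex.exact_kernel pr
        mono_f := inferInstanceAs (Mono (kernel.ι pr))
        epi_g := hpr } hU
  let σ : S ⟶ D.obj j := i ≫ kernel.ι δ ≫ biprod.snd
  have hσ : σ ≫ c.ι.app j = pr ≫ f := by
    simp only [σ, pr, Category.assoc]
    rw [hδ]
  have hν : (kernel.ι pr ≫ σ) ≫ c.ι.app j = 0 := by
    rw [Category.assoc, hσ, ← Category.assoc, kernel.condition, zero_comp]
  obtain ⟨k, a, ha⟩ := @exists_comp_map_eq_zero _ _ _ _ D c hc _ (kernel pr) hNq hNf j (kernel.ι pr ≫ σ) hν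
  -- descend to `M`
  let f' : M ⟶ D.obj k := Abelian.epiDesc pr (σ ≫ D.map a) (by rw [← Category.assoc]; exact ha)
  have hf' : pr ≫ f' = σ ≫ D.map a := Abelian.comp_epiDesc pr _ _
  refine ⟨k, f', ?_⟩
  rw [← cancel_epi pr, ← Category.assoc, hf', Category.assoc, c.w a, hσ]

end Filt



/-- finite presentation transfers along isomorphisms (quasi-coherent case) -/
theorem isFP_of_iso {A B : X.Modules} (e : A ≅ B) [A.IsQuasicoherent] [B.IsQuasicoherent]
    [SheafOfModules.IsFinitePresentation (R := X.ringCatSheaf) B] :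
    SheafOfModules.IsFinitePresentation (R := X.ringCatSheaf) A := by
  refine isFP_of_fpOn_top A (fun W hW _ => ?_)
  have : Module.FinitePresentation Γ(X, W) Γ(B, W) := finitePresentation_sections B hW
  have : IsIso (e.hom.app W) := (Scheme.Modules.Hom.isIso_iff_isIso_app (φ := e.hom)).1 inferInstance W
  exact fp_of_isIso_app e.hom W

/-- a retract of a finitely presented quasi-coherent module is finitely presented -/
theorem isFP_of_retract {M N : X.Modules} (s : M ⟶ N) (r : N ⟶ M) (h : s ≫ r = 𝟙 M)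
    [M.IsQuasicoherent] [N.IsQuasicoherent]
    [SheafOfModules.IsFinitePresentation (R := X.ringCatSheaf) N] :
    SheafOfModules.IsFinitePresentation (R := X.ringCatSheaf) M := by
  have hft : SheafOfModules.IsFiniteType (R := X.ringCatSheaf) N := inferInstance
  obtain ⟨hq, hfp⟩ := isFP_cokernel (𝟙 N - r ≫ s)
  have hw : (𝟙 N - r ≫ s) ≫ r = 0 := by
    rw [Preadditive.sub_comp, Category.id_comp, Category.assoc, h, Category.comp_id, sub_self]
  have hc : IsColimit (CokernelCofork.ofπ r hw) :=
    CokernelCofork.IsColimit.ofπ _ _ (fun g _ => s ≫ g)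
      (fun g hg => by
        have := hg
        rw [Preadditive.sub_comp, Category.id_comp, sub_eq_zero, Category.assoc] at this
        exact this.symm)
      (fun g hg b hb => by
        rw [← hb, ← Category.assoc, h, Category.id_comp])
  let e : M ≅ cokernel (𝟙 N - r ≫ s) := hc.coconePointUniqueUpToIso (colimit.isColimit _)
  exact @isFP_of_iso _ _ _ e _ hq hfp

open QCohCat

/-- finitely presentable objects of `QCoh X` are finitely presented modules -/
theorem isFP_of_isFinitelyPresentable [CompactSpace X] [QuasiSeparatedSpace X] (F : QCoh X)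
    (hF : IsFinitelyPresentable.{u} F) :
    SheafOfModules.IsFinitePresentation (R := X.ringCatSheaf) F.obj := by
  haveI : F.obj.IsQuasicoherent := F.property
  let D' : II F.obj ⥤ QCoh X := (isQCoh X).lift (DI (F := F.obj)) (fun i => (isFP_DobjI i).1)
  let c' : Cocone D' :=
    { pt := F
      ι :=
        { app := fun i => ObjectProperty.homMk ((coconeI (F := F.obj)).app i)
          naturality := fun i j f => by
            apply ObjectProperty.hom_ext
            exact (coconeI (F := F.obj)).naturality f } }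
  have hc' : IsColimit c' := by
    apply isColimitOfReflects (isQCoh X).ι
    exact IsColimit.ofIsoColimit (isColimitCoconeI F.obj) (Cocone.ext (Iso.refl _) (fun i => by
      simp [c']))
  obtain ⟨i, p, hp⟩ := IsFinitelyPresentable.exists_hom_of_isColimit hc' (𝟙 F)
  exact @isFP_of_retract _ _ (DobjI i) p.hom (descI i) (congrArg (·.hom) hp) _ (isFP_DobjI i).1 (isFP_DobjI i).2




/-- finitely presented quasi-coherent modules are finitely presentable objects of `QCoh X` -/
theorem isFinitelyPresentable_of_isFP [CompactSpace X] [QuasiSeparatedSpace X] (F : QCoh X)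
    [hF : SheafOfModules.IsFinitePresentation (R := X.ringCatSheaf) F.obj] :
    IsFinitelyPresentable.{u} F := by
  rw [isFinitelyPresentable_iff_preservesFilteredColimitsOfSize]
  refine ⟨fun J _ _ => ⟨fun {K} => ?_⟩⟩
  haveI : F.obj.IsQuasicoherent := F.property
  have hFt : SheafOfModules.IsFiniteType (R := X.ringCatSheaf) F.obj := inferInstance
  let D : J ⥤ X.Modules := K ⋙ (isQCoh X).ι
  have hD : ∀ j, (D.obj j).IsQuasicoherent := fun j => (K.obj j).property
  let c₀ : Cocone D := colimit.cocone D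
  have hc₀ : IsColimit c₀ := colimit.isColimit D
  have hq : (colimit D).IsQuasicoherent := isQuasicoherent_colimit D hD
  let c : Cocone K :=
    { pt := ⟨colimit D, hq⟩
      ι :=
        { app := fun j => ObjectProperty.homMk (c₀.ι.app j)
          naturality := fun i j f => by
            apply ObjectProperty.hom_ext
            exact c₀.ι.naturality f } }
  have hc : IsColimit c := by
    apply isColimitOfReflects (isQCoh X).ι
    exact IsColimit.ofIsoColimit hc₀ (Cocone.ext (Iso.refl _) (fun i => by simp [c]))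
  refine preservesColimit_of_preserves_colimit_cocone hc ?_
  refine Types.FilteredColimit.isColimitOf _ _ ?_ ?_
  · intro f
    obtain ⟨k, f', hf'⟩ := exists_lift D c₀ hc₀ hD (M := F.obj) f.hom
    refine ⟨k, ObjectProperty.homMk f', ?_⟩
    apply ObjectProperty.hom_ext
    exact hf'.symm
  · intro i j fi fj h
    have h' : fi.hom ≫ c₀.ι.app i = fj.hom ≫ c₀.ι.app j := congrArg (·.hom) h
    let k := IsFiltered.max i j
    let u : i ⟶ k := IsFiltered.leftToMax i j
    let v : j ⟶ k := IsFiltered.rightToMax i j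
    let g : F.obj ⟶ D.obj k := fi.hom ≫ D.map u - fj.hom ≫ D.map v
    have hg : g ≫ c₀.ι.app k = 0 := by
      simp only [g, Preadditive.sub_comp, Category.assoc]
      rw [c₀.w u, c₀.w v, h', sub_self]
    obtain ⟨k', a, ha⟩ := exists_comp_map_eq_zero D c₀ hc₀ k g hg
    refine ⟨k', u ≫ a, v ≫ a, ?_⟩
    apply ObjectProperty.hom_ext
    have h2 : fi.hom ≫ D.map (u ≫ a) = fj.hom ≫ D.map (v ≫ a) := by
      rw [D.map_comp, D.map_comp, ← Category.assoc, ← Category.assoc, ← sub_eq_zero, ← Preadditive.sub_comp]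
      exact ha
    exact h2

end Groth.Agent.Lib.Helper23.QCohFP
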