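import Mathlib
import Groth.Prelude.Def_QCohCat
import Groth.Agent.Lib.Helper23QCohFP

/-!
# `QCoh X` for a qcqs scheme: cocomplete abelian with a small separating family (helper23)

* `exists_finset_epi`, `exists_fin_epi`: a finite type quasi-coherent module on a quasi-compact scheme is a quotient of a
  finite coproduct of copies of any separator of `X.Modules`
* instances for `QCohCat.isQCoh X` (any scheme): closed under isomorphisms, small colimits, kernels, cokernels, finite
  products, contains zero; `HasColimits (QCoh X)`, `Abelian (QCoh X)`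
* `sep`, `Idx`, `famObj`, `fam`, `exists_fam_iso`, `isSeparating_fam`: a small separating family of `QCoh X` (qcqs `X`)
-/

set_option autoImplicit false
set_option backward.isDefEq.respectTransparency.types false
universe u u'
open CategoryTheory Limits AlgebraicGeometry TopologicalSpace Opposite

namespace Groth.Agent.Lib.Helper23.QCohGen

open Groth.Agent.Lib.Helper23.QCohFP Groth.Agent.Lib.Helper23.FPColim Groth.Agent.Lib.Helper23.FPQuot
  Groth.Agent.Lib.Helper23.FTsub Groth.Agent.Lib.Helper23.QCohLocal
open QCohCat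
open scoped ZeroObject

section Gen
variable {X : Scheme.{u}}

section FG
variable (G N : X.Modules)

/-- the sum of finitely many morphisms `G ⟶ N` -/
noncomputable def σ (T : Finset (G ⟶ N)) : (∐ fun _ : T => G) ⟶ N := Sigma.desc (fun i => i.1)

/-- the quotient of `N` by the images of the morphisms in `T` -/
noncomputable def C (T : Finset (G ⟶ N)) : X.Modules := cokernel (σ G N T)

noncomputable def p (T : Finset (G ⟶ N)) : N ⟶ C G N T := cokernel.π (σ G N T)

instance (T : Finset (G ⟶ N)) : Epi (p G N T) := inferInstanceAs (Epi (cokernel.π (σ G N T)))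

variable {G N}

theorem comp_p {T : Finset (G ⟶ N)} {i : G ⟶ N} (hi : i ∈ T) : i ≫ p G N T = 0 := by
  have h1 : i = Sigma.ι (fun _ : T => G) ⟨i, hi⟩ ≫ σ G N T := by
    simp [σ]
  rw [h1, Category.assoc]
  have h2 : σ G N T ≫ p G N T = 0 := cokernel.condition _
  rw [h2, comp_zero]

theorem σ_p {T T' : Finset (G ⟶ N)} (h : T ⊆ T') : σ G N T ≫ p G N T' = 0 := by
  apply Sigma.hom_ext
  intro i
  rw [← Category.assoc]
  simp only [σ, colimit.ι_desc, Cofan.mk_ι_app, comp_zero]
  exact comp_p (h i.2)

/-- the transition maps -/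
noncomputable def m {T T' : Finset (G ⟶ N)} (h : T ⊆ T') : C G N T ⟶ C G N T' :=
  cokernel.desc (σ G N T) (p G N T') (σ_p h)

theorem p_m {T T' : Finset (G ⟶ N)} (h : T ⊆ T') : p G N T ≫ m h = p G N T' := cokernel.π_desc _ _ _

variable (G N)

/-- the directed system of quotients -/
noncomputable def CD : Finset (G ⟶ N) ⥤ X.Modules where
  obj T := C G N T
  map f := m (leOfHom f)
  map_id T := by
    rw [← cancel_epi (p G N T), p_m, Category.comp_id]
  map_comp f g := by
    rw [← cancel_epi (p G N _), p_m, ← Category.assoc, p_m, p_m]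

/-- the projection with target written as a value of the functor -/
noncomputable def p' (T : Finset (G ⟶ N)) : N ⟶ (CD G N).obj T := p G N T

variable {G N}

theorem p'_map {T T' : Finset (G ⟶ N)} (f : T ⟶ T') : p' G N T ≫ (CD G N).map f = p' G N T' := p_m (leOfHom f)

theorem comp_p' {T : Finset (G ⟶ N)} {i : G ⟶ N} (hi : i ∈ T) : i ≫ p' G N T = 0 := comp_p hi

/-- a finite type quasi-coherent module on a quasi-compact scheme is a quotient of a finite coproduct of copies of a
separator -/
theorem exists_finset_epi [CompactSpace X] (hG : IsSeparator G) [N.IsQuasicoherent]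
    [SheafOfModules.IsFiniteType (R := X.ringCatSheaf) N] : ∃ T : Finset (G ⟶ N), Epi (σ G N T) := by
  let c := colimit.cocone (CD G N)
  have hc : IsColimit c := colimit.isColimit _
  have hθ : p' G N ∅ ≫ c.ι.app ∅ = 0 := by
    refine (isSeparator_def G).1 hG _ _ (fun i => ?_)
    rw [comp_zero]
    let f : (∅ : Finset (G ⟶ N)) ⟶ {i} := homOfLE (Finset.empty_subset {i})
    calc i ≫ p' G N ∅ ≫ c.ι.app ∅ = i ≫ p' G N ∅ ≫ ((CD G N).map f ≫ c.ι.app {i}) := by rw [c.w f]
      _ = (i ≫ (p' G N ∅ ≫ (CD G N).map f)) ≫ c.ι.app {i} := by simp only [Category.assoc]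
      _ = (i ≫ p' G N {i}) ≫ c.ι.app {i} := by rw [p'_map f]
      _ = 0 := by rw [comp_p' (Finset.mem_singleton_self i), zero_comp]
  obtain ⟨T, a, ha⟩ := exists_comp_map_eq_zero (CD G N) c hc ∅ (p' G N ∅) hθ
  have h1 : p' G N T = 0 := (p'_map a).symm.trans ha
  exact ⟨T, Abelian.epi_of_cokernel_π_eq_zero _ h1⟩

/-- a finite type quasi-coherent module on a quasi-compact scheme is a quotient of a finite coproduct of copies of a
separator, indexed by `Fin n` -/
theorem exists_fin_epi [CompactSpace X] (hG : IsSeparator G) [N.IsQuasicoherent]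
    [SheafOfModules.IsFiniteType (R := X.ringCatSheaf) N] :
    ∃ (n : ℕ) (π : (∐ fun _ : Fin n => G) ⟶ N), Epi π := by
  obtain ⟨T, hT⟩ := exists_finset_epi (N := N) hG
  let e : T ≃ Fin T.card := T.equivFin
  let π : (∐ fun _ : Fin T.card => G) ⟶ N := Sigma.desc (fun k => (e.symm k).1)
  let r : (∐ fun _ : T => G) ⟶ (∐ fun _ : Fin T.card => G) :=
    Sigma.desc (fun i => Sigma.ι (fun _ : Fin T.card => G) (e i))
  have hr : r ≫ π = σ G N T := by
    apply Sigma.hom_ext
    intro i
    simp [r, π, σ]
  refine ⟨T.card, π, ?_⟩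
  haveI : Epi (r ≫ π) := by rw [hr]; exact hT
  exact epi_of_epi r π

end FG


section Inst

instance : (isQCoh X).IsClosedUnderIsomorphisms where
  of_iso e h := @Groth.Agent.Lib.Helper23.TensorQCoh.isQuasicoherent_of_iso _ _ _ e h

instance (J : Type u) [SmallCategory J] : (isQCoh X).IsClosedUnderColimitsOfShape J :=
  ObjectProperty.IsClosedUnderColimitsOfShape.mk' (by
    rintro _ ⟨F, hF⟩
    exact isQuasicoherent_colimit F hF)

instance : HasColimits (QCoh X) := ⟨fun J _ => inferInstance⟩

instance : (isQCoh X).ContainsZero where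
  exists_zero := by
    obtain ⟨Z, hZ⟩ := (inferInstance : HasZeroObject X.Modules).zero
    exact ⟨Z, hZ, (isFP_of_isZero hZ).1⟩

instance : (isQCoh X).IsClosedUnderKernels where
  kernels_le := by
    rintro K ⟨f, k, hk, hA, hB⟩
    rename_i A B
    haveI : A.IsQuasicoherent := hA
    haveI : B.IsQuasicoherent := hB
    have h1 : (kernel f).IsQuasicoherent := isQuasicoherent_kernel f
    change SheafOfModules.IsQuasicoherent k.pt
    exact @Groth.Agent.Lib.Helper23.TensorQCoh.isQuasicoherent_of_iso _ _ _
      ((kernelIsKernel f).conePointUniqueUpToIso hk) h1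

instance : (isQCoh X).IsClosedUnderCokernels where
  cokernels_le := by
    rintro K ⟨f, k, hk, hA, hB⟩
    rename_i A B
    haveI : A.IsQuasicoherent := hA
    haveI : B.IsQuasicoherent := hB
    have h1 : (cokernel f).IsQuasicoherent := isQuasicoherent_cokernel f
    change SheafOfModules.IsQuasicoherent k.pt
    exact @Groth.Agent.Lib.Helper23.TensorQCoh.isQuasicoherent_of_iso _ _ _
      ((cokernelIsCokernel f).coconePointUniqueUpToIso hk) h1

theorem isQuasicoherent_limit_pair (F : Discrete WalkingPair ⥤ X.Modules) [HasLimit F]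
    (hF : ∀ j, (F.obj j).IsQuasicoherent) : (limit F).IsQuasicoherent := by
  haveI hA : (F.obj ⟨WalkingPair.left⟩).IsQuasicoherent := hF _
  haveI hB : (F.obj ⟨WalkingPair.right⟩).IsQuasicoherent := hF _
  have h1 : (F.obj ⟨WalkingPair.left⟩ ⊞ F.obj ⟨WalkingPair.right⟩ : X.Modules).IsQuasicoherent :=
    isQuasicoherent_biprod _ _
  let e : (F.obj ⟨WalkingPair.left⟩ ⊞ F.obj ⟨WalkingPair.right⟩ : X.Modules) ≅ limit F :=
    biprod.isoProd _ _ ≪≫ (HasLimit.isoOfNatIso (diagramIsoPair F)).symm
  exact @Groth.Agent.Lib.Helper23.TensorQCoh.isQuasicoherent_of_iso _ _ _ e h1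

instance : (isQCoh X).IsClosedUnderBinaryProducts :=
  ObjectProperty.IsClosedUnderLimitsOfShape.mk' (by
    rintro _ @⟨F, hlim, hF⟩
    exact isQuasicoherent_limit_pair F hF)

instance : (isQCoh X).IsClosedUnderFiniteProducts := ObjectProperty.IsClosedUnderFiniteProducts.mk'

noncomputable instance : Abelian (QCoh X) := inferInstance

end Inst

end Gen

section Family
variable (X : Scheme.{u})

theorem hasSeparator_modules : HasSeparator X.Modules := by
  haveI : IsGrothendieckAbelian.{u} X.Modules := Groth.Agent.S0484.result _ X.ringCatSheaf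
  infer_instance

/-- a separator of the category of all modules -/
noncomputable def sep : X.Modules :=
  haveI := hasSeparator_modules X
  separator X.Modules

theorem isSeparator_sep : IsSeparator (sep X) := by
  haveI := hasSeparator_modules X
  exact isSeparator_separator X.Modules

/-- the index set of the separating family -/
def Idx : Type u := Σ n : ℕ, Shrink.{u} (Subobject (∐ fun _ : Fin n => sep X))

/-- quotients of finite coproducts of copies of the separator -/
noncomputable def famObj (a : Idx X) : X.Modules := cokernel ((equivShrink _).symm a.2).arrow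

open Classical in
/-- the quasi-coherent quotients of finite coproducts of copies of the separator -/
noncomputable def fam (a : Idx X) : QCoh X :=
  if h : (famObj X a).IsQuasicoherent then ⟨famObj X a, h⟩
  else ⟨(0 : X.Modules), (isFP_of_isZero (isZero_zero _)).1⟩

variable {X}

theorem nonempty_cokernel_mk_iso {A N : X.Modules} (π : A ⟶ N) [Epi π] (S : Subobject A)
    (hS : S = Subobject.mk (kernel.ι π)) : Nonempty (cokernel S.arrow ≅ N) := by
  subst hS
  have e1 : cokernel (Subobject.mk (kernel.ι π)).arrow ≅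
      cokernel ((Subobject.underlyingIso (kernel.ι π)).hom ≫ kernel.ι π) :=
    cokernelIsoOfEq (Subobject.underlyingIso_hom_comp_eq_mk (kernel.ι π)).symm
  have e2 : cokernel ((Subobject.underlyingIso (kernel.ι π)).hom ≫ kernel.ι π) ≅ cokernel (kernel.ι π) :=
    cokernelEpiComp _ _
  have hc : IsColimit (CokernelCofork.ofπ π (kernel.condition π)) :=
    Abelian.epiIsCokernelOfKernel _ (limit.isLimit _)
  have e3 : cokernel (kernel.ι π) ≅ N := (colimit.isColimit _).coconePointUniqueUpToIso hc
  exact ⟨e1 ≪≫ e2 ≪≫ e3⟩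

/-- every finite type quasi-coherent module on a quasi-compact scheme is isomorphic to a member of the family -/
theorem exists_fam_iso [CompactSpace X] (N : X.Modules) [hN : N.IsQuasicoherent]
    [SheafOfModules.IsFiniteType (R := X.ringCatSheaf) N] : ∃ a : Idx X, Nonempty ((fam X a).obj ≅ N) := by
  obtain ⟨n, π, hπ⟩ := exists_fin_epi (N := N) (isSeparator_sep X)
  let a : Idx X := ⟨n, equivShrink _ (Subobject.mk (kernel.ι π))⟩
  obtain ⟨e⟩ : Nonempty (famObj X a ≅ N) :=
    nonempty_cokernel_mk_iso π _ (Equiv.symm_apply_apply _ _)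
  have hq : (famObj X a).IsQuasicoherent :=
    @Groth.Agent.Lib.Helper23.TensorQCoh.isQuasicoherent_of_iso _ _ _ e.symm hN
  refine ⟨a, ?_⟩
  have h1 : fam X a = ⟨famObj X a, hq⟩ := dif_pos hq
  rw [h1]
  exact ⟨e⟩

/-- the family is separating in `QCoh X` for qcqs `X` -/
theorem isSeparating_fam [CompactSpace X] [QuasiSeparatedSpace X] :
    (ObjectProperty.ofObj (fam X)).IsSeparating := by
  intro M N f g h
  haveI : M.obj.IsQuasicoherent := M.property
  apply ObjectProperty.hom_ext
  refine Groth.Agent.Lib.Helper27EpiGen.hom_ext_of_affine_cover M.obj N.obj (fun V : X.affineOpens => V.1)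
    (fun V => V.2) (fun x => ?_) f.hom g.hom ?_
  · obtain ⟨A, hA, hxA, -⟩ := Opens.isBasis_iff_nbhd.1 X.isBasis_affineOpens
      (show x ∈ (⊤ : X.Opens) from trivial)
    exact ⟨⟨A, hA⟩, hxA⟩
  · intro V s
    obtain ⟨K, i, hi, hq, hf, t, ht⟩ := Groth.Agent.S9819.result M.obj V s
    haveI : K.IsQuasicoherent := hq
    haveI : SheafOfModules.IsFiniteType (R := X.ringCatSheaf) K := hf
    obtain ⟨a, ⟨e⟩⟩ := exists_fam_iso K
    have h1 := h (fam X a) ⟨a⟩ (ObjectProperty.homMk (e.hom ≫ i))
    have h2 : (e.hom ≫ i) ≫ f.hom = (e.hom ≫ i) ≫ g.hom := congrArg (·.hom) h1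
    have h3 : i ≫ f.hom = i ≫ g.hom := by
      rw [Category.assoc, Category.assoc] at h2
      exact (cancel_epi e.hom).1 h2
    have ht' : i.app V.1 t = s := ht
    rw [← ht']
    have h4 := congrArg (fun φ : K ⟶ N.obj => φ.app V.1 t) h3
    simpa [Scheme.Modules.Hom.comp_app] using h4

end Family

end Groth.Agent.Lib.Helper23.QCohGen
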