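/-
helper23: quasi-coherent submodules of the sheaf of rational functions of an integral scheme are torsion-free,
and of generic rank one when nonzero (converse to `Helper23RatFun`).
-/
import Mathlib
import Groth.Agent.Lib.Helper23RatFun

set_option autoImplicit false
set_option backward.isDefEq.respectTransparency.types false
universe u
open CategoryTheory Limits AlgebraicGeometry TopologicalSpace Opposite

namespace Groth.Agent.Lib.Helper23.RatFun2
open Groth.Agent.Lib.Helper23.RatFun

variable {X : Scheme.{u}} [IsIntegral X]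

theorem preimage_eq_top {U : X.Opens} (h : genericPoint X ∈ U) : (jj X) ⁻¹ᵁ U = ⊤ := by
  ext p
  simp only [Opens.coe_top, Set.mem_univ, iff_true]
  change (jj X) p ∈ U
  have h1 : (jj X) p ∈ Set.range (X.fromSpecStalk (genericPoint X)) := ⟨p, rfl⟩
  rw [Scheme.range_fromSpecStalk] at h1
  exact h1.mem_open U.2 h

theorem toS_surjective_of_eq_top (V : (Spec (K X)).Opens) (hV : V = ⊤) : Function.Surjective (toS (X := X) V) := by
  subst hV
  exact (StructureSheaf.algebraMap_obj_top_bijective (R := K X)).2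

theorem toT_surjective {U : X.Opens} (h : genericPoint X ∈ U) : Function.Surjective (toT (X := X) U) :=
  toS_surjective_of_eq_top _ (preimage_eq_top h)

end Groth.Agent.Lib.Helper23.RatFun2

namespace Groth.Agent.Lib.Helper23.RatFun2
open Groth.Agent.Lib.Helper23.RatFun Groth.Agent.Lib.Helper23.Extend

variable {X : Scheme.{u}} [IsIntegral X]

/-- key computation: sections of a submodule of the sheaf of rational functions -/
theorem exists_eq_toT (G : X.Modules) (i : G ⟶ T X) {U : X.Opens} (h : genericPoint X ∈ U) (s : Γ(G, U)) :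
    ∃ a : K X, i.app U s = toT U a := by
  obtain ⟨a, ha⟩ := toT_surjective h (i.app U s)
  exact ⟨a, ha.symm⟩

theorem germ_ne_zero_of_ne_zero {U : X.Opens} (h : genericPoint X ∈ U) {f : Γ(X, U)} (hf : f ≠ 0) :
    X.presheaf.germ U _ h f ≠ 0 := by
  intro hg
  exact hf (germ_injective_of_isIntegral X _ h (hg.trans (map_zero _).symm))

/-- a section killed by a nonzero function vanishes -/
theorem eq_zero_of_smul_eq_zero (G : X.Modules) (i : G ⟶ T X) [Mono i] {U : X.Opens} (f : Γ(X, U)) (hf : f ≠ 0)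
    (s : Γ(G, U)) (hfs : f • s = 0) : s = 0 := by
  by_cases h : genericPoint X ∈ U
  · obtain ⟨a, ha⟩ := exists_eq_toT G i h s
    have h1 : i.app U (f • s) = 0 := by rw [hfs, map_zero]
    rw [Scheme.Modules.Hom.app_smul, ha, smul_toT h] at h1
    have h2 : X.presheaf.germ U _ h f * a = 0 := toT_injective h (h1.trans (toT_zero _).symm)
    have h3 : a = 0 := by
      rcases mul_eq_zero.1 h2 with h3 | h3
      · exact absurd h3 (germ_ne_zero_of_ne_zero h hf)
      · exact h3
    rw [h3, toT_zero] at ha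
    exact injective_app_of_mono i U (ha.trans (map_zero _).symm)
  · have hU : U = ⊥ := eq_bot_of_not_mem h
    haveI : Subsingleton Γ(G, U) := by rw [hU]; exact subsingleton_bot G
    exact Subsingleton.elim _ _

theorem isTorsionFree_of_mono (G : X.Modules) (i : G ⟶ T X) [Mono i] : TorSh.IsTorsionFree G := by
  intro x
  refine ⟨fun r hr => ?_⟩
  rw [isSMulRegular_iff_right_eq_zero_of_smul]
  intro m hm
  have hr0 : r ≠ 0 := hr.ne_zero
  obtain ⟨U, hxU, s, rfl⟩ := G.presheaf.exists_germ_eq m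
  obtain ⟨V, hxV, f, rfl⟩ := X.presheaf.exists_germ_eq r
  let W : X.Opens := U ⊓ V
  have hxW : x ∈ W := ⟨hxU, hxV⟩
  let s' : Γ(G, W) := G.presheaf.map (homOfLE (inf_le_left : W ≤ U)).op s
  let f' : Γ(X, W) := X.presheaf.map (homOfLE (inf_le_right : W ≤ V)).op f
  have hs' : G.presheaf.germ W x hxW s' = G.presheaf.germ U x hxU s :=
    TopCat.Presheaf.germ_res_apply G.presheaf (homOfLE (inf_le_left : W ≤ U)) x hxW s
  have hf' : X.presheaf.germ W x hxW f' = X.presheaf.germ V x hxV f :=
    TopCat.Presheaf.germ_res_apply X.presheaf (homOfLE (inf_le_right : W ≤ V)) x hxW f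
  have h1 : G.presheaf.germ W x hxW (f' • s') = 0 := by
    rw [Groth.Agent.Lib.Helper2.QCoh.germ_smul, hs', hf']
    exact hm
  obtain ⟨W', hxW', iU, iV, hres⟩ := TopCat.Presheaf.germ_eq G.presheaf x hxW hxW (f' • s') 0
    (by rw [h1, map_zero])
  rw [map_zero, Scheme.Modules.map_smul] at hres
  have hf'' : X.presheaf.map iU.op f' ≠ 0 := by
    intro h0
    apply hr0
    rw [← hf', ← TopCat.Presheaf.germ_res_apply X.presheaf iU x hxW' f', h0, map_zero]
  have h2 := eq_zero_of_smul_eq_zero G i _ hf'' _ hres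
  rw [← hs', ← TopCat.Presheaf.germ_res_apply G.presheaf iU x hxW' s', h2, map_zero]

end Groth.Agent.Lib.Helper23.RatFun2

namespace Groth.Agent.Lib.Helper23.RatFun2
open Groth.Agent.Lib.Helper23.RatFun Groth.Agent.Lib.Helper23.Extend

variable {X : Scheme.{u}} [IsIntegral X]

omit [IsIntegral X] in
/-- a nonzero module has a nonzero section -/
theorem exists_section_ne_zero (G : X.Modules) (hG : ¬ IsZero G) : ∃ (U : X.Opens) (s : Γ(G, U)), s ≠ 0 := by
  by_contra hcon
  simp only [not_exists, not_not] at hcon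
  apply hG
  rw [IsZero.iff_id_eq_zero]
  ext U s
  change s = 0
  exact hcon U s

theorem finrank_eq_one_of_mono (G : X.Modules) [G.IsQuasicoherent] (i : G ⟶ T X) [Mono i] (hG : ¬ IsZero G) :
    Module.finrank (X.presheaf.stalk (genericPoint X)) (G.presheaf.stalk (genericPoint X)) = 1 := by
  have hTF := isTorsionFree_of_mono G i
  obtain ⟨U, s, hs⟩ := exists_section_ne_zero G hG
  have hU : genericPoint X ∈ U := by
    by_contra h
    have hU : U = ⊥ := eq_bot_of_not_mem h
    haveI : Subsingleton Γ(G, U) := by rw [hU]; exact subsingleton_bot G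
    exact hs (Subsingleton.elim _ _)
  have hv : G.presheaf.germ U _ hU s ≠ 0 := fun h0 => hs (eq_zero_of_germ_eq_zero G hTF hU s h0)
  rw [finrank_eq_one_iff_of_nonzero' _ hv]
  intro w
  obtain ⟨U₁, hU₁, t, rfl⟩ := G.presheaf.exists_germ_eq w
  let W : X.Opens := U ⊓ U₁
  have hW : genericPoint X ∈ W := ⟨hU, hU₁⟩
  let s' : Γ(G, W) := G.presheaf.map (homOfLE (inf_le_left : W ≤ U)).op s
  let t' : Γ(G, W) := G.presheaf.map (homOfLE (inf_le_right : W ≤ U₁)).op t
  have hs' : G.presheaf.germ W _ hW s' = G.presheaf.germ U _ hU s :=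
    TopCat.Presheaf.germ_res_apply G.presheaf (homOfLE (inf_le_left : W ≤ U)) _ hW s
  have ht' : G.presheaf.germ W _ hW t' = G.presheaf.germ U₁ _ hU₁ t :=
    TopCat.Presheaf.germ_res_apply G.presheaf (homOfLE (inf_le_right : W ≤ U₁)) _ hW t
  clear_value s' t'
  obtain ⟨a, ha⟩ := exists_eq_toT G i hW s'
  obtain ⟨b, hb⟩ := exists_eq_toT G i hW t'
  have ha0 : a ≠ 0 := by
    intro h0
    rw [h0, toT_zero] at ha
    have : s' = 0 := injective_app_of_mono i W (ha.trans (map_zero _).symm)
    rw [← hs', this, map_zero] at hv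
    exact hv rfl
  obtain ⟨W₂, hW₂, g, hg⟩ := X.presheaf.exists_germ_eq (b / a : K X)
  let W₃ : X.Opens := W ⊓ W₂
  have hW₃ : genericPoint X ∈ W₃ := ⟨hW, hW₂⟩
  let i₁ : W₃ ⟶ W := homOfLE inf_le_left
  let i₂ : W₃ ⟶ W₂ := homOfLE inf_le_right
  have hg' : X.presheaf.germ W₃ _ hW₃ (X.presheaf.map i₂.op g) = b / a :=
    (TopCat.Presheaf.germ_res_apply X.presheaf i₂ _ hW₃ g).trans hg
  have key : X.presheaf.map i₂.op g • G.presheaf.map i₁.op s' = G.presheaf.map i₁.op t' := by
    apply injective_app_of_mono i W₃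
    rw [Scheme.Modules.Hom.app_smul, app_map, app_map, ha, hb, toT_res, toT_res, smul_toT hW₃, hg',
      div_mul_cancel₀ b ha0]
  refine ⟨b / a, ?_⟩
  have h1 := congrArg (G.presheaf.germ W₃ _ hW₃) key
  rw [Groth.Agent.Lib.Helper2.QCoh.germ_smul, hg', TopCat.Presheaf.germ_res_apply G.presheaf i₁ _ hW₃ s',
    TopCat.Presheaf.germ_res_apply G.presheaf i₁ _ hW₃ t', hs', ht'] at h1
  exact h1

end Groth.Agent.Lib.Helper23.RatFun2
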