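import Mathlib

/-!
# Abstract Artin gluing (helper23)

Given adjunctions `Li ⊣ Ri` (`A ⇄ B`) and `Lj ⊣ Rj` (`A ⇄ C`) with both counits invertible,
`Lj Ri = 0`, `Li`, `Lj` preserving pullbacks and jointly reflecting isomorphisms, the functor
`F ↦ (Li F, Lj F, Li η_F)` from `A` to the comma category of `𝟭 B` over `Rj ⋙ Li` is an equivalence.
-/

set_option autoImplicit false
set_option backward.isDefEq.respectTransparency.types false
universe v₁ v₂ v₃ u₁ u₂ u₃

namespace Groth.Agent.Lib.Helper23Recoll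
open CategoryTheory CategoryTheory.Limits

variable {A : Type u₁} {B : Type u₂} {C : Type u₃} [Category.{v₁} A] [Category.{v₂} B]
  [Category.{v₃} C]
  {Li : A ⥤ B} {Ri : B ⥤ A} (adjI : Li ⊣ Ri)
  {Lj : A ⥤ C} {Rj : C ⥤ A} (adjJ : Lj ⊣ Rj)

/-- the gluing functor -/
@[simps]
def glue (Li : A ⥤ B) {Lj : A ⥤ C} {Rj : C ⥤ A} (adjJ : Lj ⊣ Rj) :
    A ⥤ Comma (𝟭 B) (Rj ⋙ Li) where
  obj F :=
    { left := Li.obj F
      right := Lj.obj F
      hom := Li.map (adjJ.unit.app F) }
  map {F G} φ :=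
    { left := Li.map φ
      right := Lj.map φ
      w := by
        dsimp
        rw [← Functor.map_comp, ← Functor.map_comp]
        congr 1
        exact (adjJ.unit.naturality φ) }
  map_id F := by ext <;> simp
  map_comp φ ψ := by ext <;> simp

lemma lift_cond' {F : A} {G : B} {H : C} (φ : G ⟶ Li.obj (Rj.obj H)) (a : Li.obj F ⟶ G)
    (b : Lj.obj F ⟶ H) (hw : a ≫ φ = Li.map (adjJ.unit.app F) ≫ Li.map (Rj.map b)) :
    adjI.homEquiv _ _ a ≫ Ri.map φ = adjJ.homEquiv _ _ b ≫ adjI.unit.app (Rj.obj H) := by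
  rw [← Adjunction.homEquiv_naturality_right, hw]
  rw [Adjunction.homEquiv_unit (adj := adjJ), ← adjI.unit_naturality]
  rw [Adjunction.homEquiv_unit (adj := adjI)]
  simp

lemma cond_of_lift {F : A} {G : B} {H : C} (φ : G ⟶ Li.obj (Rj.obj H)) (a' : F ⟶ Ri.obj G)
    (b' : F ⟶ Rj.obj H) (h : a' ≫ Ri.map φ = b' ≫ adjI.unit.app (Rj.obj H)) :
    (adjI.homEquiv _ _).symm a' ≫ φ =
      Li.map (adjJ.unit.app F) ≫ Li.map (Rj.map ((adjJ.homEquiv _ _).symm b')) := by
  apply (adjI.homEquiv _ _).injective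
  rw [Adjunction.homEquiv_naturality_right, Equiv.apply_symm_apply, h]
  have h1 : adjJ.unit.app F ≫ Rj.map ((adjJ.homEquiv F H).symm b') = b' := by
    have := Adjunction.homEquiv_unit (adj := adjJ) (f := (adjJ.homEquiv F H).symm b')
    rw [Equiv.apply_symm_apply] at this
    exact this.symm
  rw [← Functor.map_comp]
  erw [h1]
  rw [Adjunction.homEquiv_unit (adj := adjI)]
  exact (adjI.unit_naturality b').symm

lemma isIso_of_comp_eq {D : Type*} [Category D] {X Y Z : D} (f : X ⟶ Y) (g : Y ⟶ Z) (k : X ⟶ Z)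
    (h : f ≫ g = k) (hg : IsIso g) (hk : IsIso k) : IsIso f := by
  subst h
  exact IsIso.of_isIso_comp_right f g

lemma isIso_comp_of {D : Type*} [Category D] {X Y Z : D} (f : X ⟶ Y) (g : Y ⟶ Z)
    (hf : IsIso f) (hg : IsIso g) : IsIso (f ≫ g) := inferInstance

lemma isIso_of_isZero {D : Type*} [Category D] {X Y : D} (hX : IsZero X) (hY : IsZero Y)
    (f : X ⟶ Y) : IsIso f :=
  ⟨⟨hY.to_ X, hX.eq_of_src _ _, hY.eq_of_src _ _⟩⟩

lemma isIso_comma {L : A ⥤ B} {R : C ⥤ B} {X Y : Comma L R} (f : X ⟶ Y) [IsIso f.left]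
    [IsIso f.right] : IsIso f := by
  have h : (Comma.isoMk (asIso f.left) (asIso f.right) f.w).hom = f := by
    apply CommaMorphism.ext <;> rfl
  rw [← h]
  infer_instance

variable [HasPullbacks A]

/-- the right adjoint on objects -/
noncomputable abbrev Qobj (T : Comma (𝟭 B) (Rj ⋙ Li)) : A :=
  pullback (Ri.map T.hom) (adjI.unit.app (Rj.obj T.right))

/-- the hom equivalence -/
noncomputable def e (F : A) (T : Comma (𝟭 B) (Rj ⋙ Li)) :
    ((glue Li adjJ).obj F ⟶ T) ≃ (F ⟶ Qobj adjI T) where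
  toFun m := pullback.lift (adjI.homEquiv F T.left m.left) (adjJ.homEquiv F T.right m.right)
    (lift_cond' adjI adjJ T.hom m.left m.right m.w)
  invFun ψ :=
    { left := (adjI.homEquiv F T.left).symm (ψ ≫ pullback.fst _ _)
      right := (adjJ.homEquiv F T.right).symm (ψ ≫ pullback.snd _ _)
      w := cond_of_lift adjI adjJ T.hom (ψ ≫ pullback.fst _ _) (ψ ≫ pullback.snd _ _)
        (by rw [Category.assoc, Category.assoc, pullback.condition]) }
  left_inv m := by
    apply CommaMorphism.ext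
    · change (adjI.homEquiv F T.left).symm (pullback.lift _ _ _ ≫ pullback.fst _ _) = m.left
      rw [pullback.lift_fst, Equiv.symm_apply_apply]
    · change (adjJ.homEquiv F T.right).symm (pullback.lift _ _ _ ≫ pullback.snd _ _) = m.right
      rw [pullback.lift_snd, Equiv.symm_apply_apply]
  right_inv ψ := by
    apply pullback.hom_ext
    · rw [pullback.lift_fst]
      exact Equiv.apply_symm_apply _ _
    · rw [pullback.lift_snd]
      exact Equiv.apply_symm_apply _ _

lemma e_nat (F' F : A) (T : Comma (𝟭 B) (Rj ⋙ Li)) (f : F' ⟶ F)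
    (g : (glue Li adjJ).obj F ⟶ T) :
    e adjI adjJ F' T ((glue Li adjJ).map f ≫ g) = f ≫ e adjI adjJ F T g := by
  apply pullback.hom_ext
  · rw [Category.assoc]
    change pullback.lift _ _ _ ≫ pullback.fst _ _ = f ≫ pullback.lift _ _ _ ≫ pullback.fst _ _
    rw [pullback.lift_fst, pullback.lift_fst]
    exact Adjunction.homEquiv_naturality_left adjI f g.left
  · rw [Category.assoc]
    change pullback.lift _ _ _ ≫ pullback.snd _ _ = f ≫ pullback.lift _ _ _ ≫ pullback.snd _ _
    rw [pullback.lift_snd, pullback.lift_snd]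
    exact Adjunction.homEquiv_naturality_left adjJ f g.right

/-- the right adjoint -/
noncomputable def Q : Comma (𝟭 B) (Rj ⋙ Li) ⥤ A :=
  Adjunction.rightAdjointOfEquiv (e adjI adjJ) (e_nat adjI adjJ)

/-- the adjunction -/
noncomputable def adj : glue Li adjJ ⊣ Q adjI adjJ :=
  Adjunction.adjunctionOfEquivRight (e adjI adjJ) (e_nat adjI adjJ)

include adjI in
lemma isIso_map_unit (hI : ∀ G, IsIso (adjI.counit.app G)) (F : A) :
    IsIso (Li.map (adjI.unit.app F)) := by
  have h := adjI.left_triangle_components F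
  have : Li.map (adjI.unit.app F) = inv (adjI.counit.app (Li.obj F)) := by
    rw [← cancel_mono (adjI.counit.app (Li.obj F)), IsIso.inv_hom_id]
    exact h
  rw [this]
  infer_instance

lemma unit_fst (F : A) :
    (adj adjI adjJ).unit.app F ≫ pullback.fst _ _ = adjI.unit.app F := by
  change (e adjI adjJ F _ (𝟙 _)) ≫ pullback.fst _ _ = _
  change pullback.lift _ _ _ ≫ pullback.fst _ _ = _
  rw [pullback.lift_fst]
  exact Adjunction.homEquiv_id adjI F

lemma unit_snd (F : A) :
    (adj adjI adjJ).unit.app F ≫ pullback.snd _ _ = adjJ.unit.app F := by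
  change (e adjI adjJ F _ (𝟙 _)) ≫ pullback.snd _ _ = _
  change pullback.lift _ _ _ ≫ pullback.snd _ _ = _
  rw [pullback.lift_snd]
  exact Adjunction.homEquiv_id adjJ F

variable [PreservesLimitsOfShape WalkingCospan Li] [PreservesLimitsOfShape WalkingCospan Lj]

lemma isIso_map_fst (hI : ∀ G, IsIso (adjI.counit.app G)) (T : Comma (𝟭 B) (Rj ⋙ Li)) :
    IsIso (Li.map (pullback.fst (Ri.map T.hom) (adjI.unit.app (Rj.obj T.right)))) := by
  have hp := (IsPullback.of_hasPullback (Ri.map T.hom) (adjI.unit.app (Rj.obj T.right))).map Li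
  haveI := isIso_map_unit adjI hI (Rj.obj T.right)
  exact hp.isIso_fst_of_isIso

lemma isIso_map_snd (hz : ∀ G, IsZero (Lj.obj (Ri.obj G))) (T : Comma (𝟭 B) (Rj ⋙ Li)) :
    IsIso (Lj.map (pullback.snd (Ri.map T.hom) (adjI.unit.app (Rj.obj T.right)))) := by
  have hp := (IsPullback.of_hasPullback (Ri.map T.hom) (adjI.unit.app (Rj.obj T.right))).map Lj
  haveI : IsIso (Lj.map (Ri.map T.hom)) := isIso_of_isZero (hz _) (hz _) _
  exact hp.isIso_snd_of_isIso

lemma isIso_unit (hI : ∀ G, IsIso (adjI.counit.app G)) (hJ : ∀ H, IsIso (adjJ.counit.app H))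
    (hz : ∀ G, IsZero (Lj.obj (Ri.obj G)))
    (hc : ∀ {F F' : A} (φ : F ⟶ F'), IsIso (Li.map φ) → IsIso (Lj.map φ) → IsIso φ) (F : A) :
    IsIso ((adj adjI adjJ).unit.app F) := by
  apply hc
  · refine isIso_of_comp_eq _ (Li.map (pullback.fst _ _)) (Li.map (adjI.unit.app F)) ?_
      (isIso_map_fst adjI hI ((glue Li adjJ).obj F)) (isIso_map_unit adjI hI F)
    rw [← Functor.map_comp]
    exact congrArg (fun m => Li.map m) (unit_fst adjI adjJ F)
  · refine isIso_of_comp_eq _ (Lj.map (pullback.snd _ _)) (Lj.map (adjJ.unit.app F)) ?_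
      (isIso_map_snd adjI hz ((glue Li adjJ).obj F)) (isIso_map_unit adjJ hJ F)
    rw [← Functor.map_comp]
    exact congrArg (fun m => Lj.map m) (unit_snd adjI adjJ F)

lemma isIso_counit (hI : ∀ G, IsIso (adjI.counit.app G)) (hJ : ∀ H, IsIso (adjJ.counit.app H))
    (hz : ∀ G, IsZero (Lj.obj (Ri.obj G))) (T : Comma (𝟭 B) (Rj ⋙ Li)) :
    IsIso ((adj adjI adjJ).counit.app T) := by
  have hl : ((adj adjI adjJ).counit.app T).left =
      Li.map (pullback.fst (Ri.map T.hom) (adjI.unit.app (Rj.obj T.right))) ≫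
        adjI.counit.app T.left := by
    change (adjI.homEquiv _ T.left).symm (𝟙 _ ≫ pullback.fst _ _) = _
    rw [Category.id_comp, Adjunction.homEquiv_counit]
  have hr : ((adj adjI adjJ).counit.app T).right =
      Lj.map (pullback.snd (Ri.map T.hom) (adjI.unit.app (Rj.obj T.right))) ≫
        adjJ.counit.app T.right := by
    change (adjJ.homEquiv _ T.right).symm (𝟙 _ ≫ pullback.snd _ _) = _
    rw [Category.id_comp, Adjunction.homEquiv_counit]
  haveI : IsIso ((adj adjI adjJ).counit.app T).left := by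
    rw [hl]
    exact isIso_comp_of _ _ (isIso_map_fst adjI hI T) (hI T.left)
  haveI : IsIso ((adj adjI adjJ).counit.app T).right := by
    rw [hr]
    exact isIso_comp_of _ _ (isIso_map_snd adjI hz T) (hJ T.right)
  exact isIso_comma _

/-- abstract Artin gluing -/
theorem isEquivalence_glue (hI : ∀ G, IsIso (adjI.counit.app G))
    (hJ : ∀ H, IsIso (adjJ.counit.app H))
    (hz : ∀ G, IsZero (Lj.obj (Ri.obj G)))
    (hc : ∀ {F F' : A} (φ : F ⟶ F'), IsIso (Li.map φ) → IsIso (Lj.map φ) → IsIso φ) :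
    (glue Li adjJ).IsEquivalence := by
  haveI : ∀ F, IsIso ((adj adjI adjJ).unit.app F) := isIso_unit adjI adjJ hI hJ hz hc
  haveI : ∀ T, IsIso ((adj adjI adjJ).counit.app T) := isIso_counit adjI adjJ hI hJ hz
  exact ((adj adjI adjJ).toEquivalence).isEquivalence_functor

end Groth.Agent.Lib.Helper23Recoll
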