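import Mathlib
import Groth.Prelude
import Groth.Agent.Lib.Helper6QCohQcqs
set_option backward.isDefEq.respectTransparency.types false

/-!
# The norm for the reduction of a Noetherian scheme in characteristic p (helper23)

Namespace `Groth.Agent.Lib.Helper23.RedNorm`.
-/

set_option autoImplicit false
universe u
open CategoryTheory Limits AlgebraicGeometry TopologicalSpace Opposite

namespace Groth.Agent.Lib.Helper23.RedNorm
open Groth.Agent.Lib.Helper6

/-- in a localization away from `f`, nilpotent elements are killed by the nilpotency exponent of the nilradical -/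
theorem pow_eq_zero_of_isLocalization {A B : Type*} [CommRing A] [CommRing B] [Algebra A B] (f : A)
    [IsLocalization.Away f B] (m : ℕ) (hm : nilradical A ^ m = ⊥) (b : B) (hb : IsNilpotent b) : b ^ m = 0 := by
  have h1 : b ∈ (nilradical A).map (algebraMap A B) := by
    have h2 := IsLocalization.map_radical (Submonoid.powers f) B (⊥ : Ideal A)
    rw [Ideal.map_bot] at h2
    change (nilradical A).map (algebraMap A B) = nilradical B at h2
    rw [h2]
    exact mem_nilradical.2 hb
  have h3 := Ideal.pow_mem_pow h1 m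
  rw [← Ideal.map_pow, hm, Ideal.map_bot] at h3
  exact h3

/-- on a Noetherian scheme the nilpotent sections are killed by a uniform exponent -/
theorem exists_uniform_nilpotent_bound (X : Scheme.{u}) [IsNoetherian X] :
    ∃ m : ℕ, ∀ (U : X.Opens) (n : Γ(X, U)), IsNilpotent n → n ^ m = 0 := by
  classical
  have h1 : ∀ x : X, ∃ W : X.Opens, x ∈ W ∧ IsAffineOpen W := by
    intro x
    obtain ⟨_, ⟨W, hW, rfl⟩, hxW, -⟩ :=
      X.isBasis_affineOpens.exists_subset_of_mem_open (Set.mem_univ x) isOpen_univ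
    exact ⟨W, hxW, hW⟩
  choose W hxW hW using h1
  obtain ⟨t, ht⟩ := isCompact_univ.elim_nhds_subcover (fun x => (W x : Set X))
    (fun x _ => (W x).isOpen.mem_nhds (hxW x))
  have h2 : ∀ x : X, ∃ m : ℕ, nilradical Γ(X, W x) ^ m = ⊥ := by
    intro x
    haveI : IsNoetherianRing Γ(X, W x) := IsLocallyNoetherian.component_noetherian ⟨W x, hW x⟩
    obtain ⟨m, hm⟩ := IsNoetherianRing.isNilpotent_nilradical Γ(X, W x)
    exact ⟨m, hm⟩
  choose mm hmm using h2
  refine ⟨∑ x ∈ t, mm x, fun U n hn => ?_⟩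
  have h3 : ∀ x : U, ∃ (k : X) (_ : k ∈ t) (f : Γ(X, W k)), X.basicOpen f ≤ U ⊓ W k ∧ x.1 ∈ X.basicOpen f := by
    intro x
    obtain ⟨k, hk, hxk⟩ := Set.mem_iUnion₂.1 (ht.2 (Set.mem_univ x.1))
    obtain ⟨f, hf1, hf2⟩ := (hW k).exists_basicOpen_le (V := U ⊓ W k) ⟨x.1, x.2, hxk⟩ hxk
    exact ⟨k, hk, f, hf1, hf2⟩
  choose k hk f hf1 hf2 using h3
  refine X.sheaf.eq_of_locally_eq' (fun x : U => X.basicOpen (f x)) U
    (fun x => homOfLE ((hf1 x).trans inf_le_left)) (fun x hx => Opens.mem_iSup.2 ⟨⟨x, hx⟩, hf2 ⟨x, hx⟩⟩) _ _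
    (fun x => ?_)
  change resf _ (n ^ ∑ x ∈ t, mm x) = resf _ 0
  rw [resf_pow]
  have h0 : resf (((hf1 x).trans inf_le_left)) (0 : Γ(X, U)) = 0 := map_zero _
  rw [h0]
  have hle : mm (k x) ≤ ∑ x ∈ t, mm x := Finset.single_le_sum (fun _ _ => Nat.zero_le _) (hk x)
  refine pow_eq_zero_of_le hle ?_
  letI : Algebra Γ(X, W (k x)) Γ(X, X.basicOpen (f x)) :=
    (X.presheaf.map (homOfLE (X.basicOpen_le (f x))).op).hom.toAlgebra
  haveI : IsLocalization.Away (f x) Γ(X, X.basicOpen (f x)) := (hW (k x)).isLocalization_basicOpen (f x)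
  exact pow_eq_zero_of_isLocalization (f x) (mm (k x)) (hmm (k x)) _ (hn.map _)


section norm
variable (X : Scheme.{u})

/-- restriction of functions on the reduction -/
noncomputable abbrev resZ {A B : X.nilradical.subscheme.Opens} (h : B ≤ A) (s : Γ(X.nilradical.subscheme, A)) :
    Γ(X.nilradical.subscheme, B) := X.nilradical.subscheme.presheaf.map (homOfLE h).op s

theorem app_resf' {U V : X.Opens} (h : V ≤ U) (c : Γ(X, U)) :
    X.nilradical.subschemeι.app V (resf h c) =
      resZ X (X.nilradical.subschemeι.preimage_mono h) (X.nilradical.subschemeι.app U c) := by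
  have := X.nilradical.subschemeι.naturality (homOfLE h).op
  exact ConcreteCategory.congr_hom this c

theorem isNilpotent_of_app_eq_zero' (W : X.Opens) (hW : IsAffineOpen W) (l : Γ(X, W))
    (h : X.nilradical.subschemeι.app W l = 0) : IsNilpotent l := by
  have h1 : l ∈ RingHom.ker (X.nilradical.subschemeι.app W).hom := h
  rw [Scheme.IdealSheafData.ker_subschemeι_app X.nilradical ⟨W, hW⟩] at h1
  change l ∈ ((⊥ : X.IdealSheafData).ideal ⟨W, hW⟩).radical at h1
  rw [Scheme.IdealSheafData.ideal_bot] at h1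
  exact mem_nilradical.1 h1

variable (p : ℕ) (hp : p.Prime) (hpX : (p : Γ(X, ⊤)) = 0) (q : ℕ)
  (hq : ∀ (U : X.Opens) (n : Γ(X, U)), IsNilpotent n → n ^ p ^ q = 0)

include hp hpX hq in
theorem pow_eq_of_app_eq (W : X.Opens) (hW : IsAffineOpen W) (l l' : Γ(X, W))
    (h : X.nilradical.subschemeι.app W l = X.nilradical.subschemeι.app W l') : l ^ p ^ q = l' ^ p ^ q := by
  have h0 : (p : Γ(X, W)) = 0 := by
    have h1 : resf (le_top : W ≤ ⊤) (p : Γ(X, ⊤)) = (p : Γ(X, W)) := map_natCast _ _
    have h2 : resf (le_top : W ≤ ⊤) (0 : Γ(X, ⊤)) = 0 := map_zero _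
    rw [← h1, hpX, h2]
  have h1 : IsNilpotent (l - l') := isNilpotent_of_app_eq_zero' X W hW _ (by rw [map_sub, h, sub_self])
  have h2 := hq W _ h1
  obtain ⟨r, hr⟩ := exists_add_pow_prime_pow_eq hp (l - l') l' q
  rw [sub_add_cancel, h0, h2] at hr
  rw [hr]
  ring

omit hp hpX hq in
theorem eq_of_affine_le (A : X.Opens) (a b : Γ(X, A))
    (h : ∀ (W : X.Opens) (_ : IsAffineOpen W) (hWA : W ≤ A), resf hWA a = resf hWA b) : a = b := by
  refine X.sheaf.eq_of_locally_eq' (fun W : {W : X.Opens // IsAffineOpen W ∧ W ≤ A} => W.1) A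
    (fun W => homOfLE W.2.2) (fun x hx => ?_) _ _ (fun W => h W.1 W.2.1 W.2.2)
  obtain ⟨_, ⟨W, hW, rfl⟩, hxW, hWA⟩ := X.isBasis_affineOpens.exists_subset_of_mem_open hx A.isOpen
  exact Opens.mem_iSup.2 ⟨⟨W, hW, hWA⟩, hxW⟩

include hp hpX hq in
theorem existsUnique_norm (U : X.Opens)
    (s : Γ(X.nilradical.subscheme, X.nilradical.subschemeι ⁻¹ᵁ U)) :
    ∃! t : Γ(X, U), ∀ (W : X.Opens) (_ : IsAffineOpen W) (hWU : W ≤ U) (l : Γ(X, W)),
      X.nilradical.subschemeι.app W l = resZ X (X.nilradical.subschemeι.preimage_mono hWU) s →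
        resf hWU t = l ^ p ^ q := by
  have hl : ∀ W : {W : X.Opens // IsAffineOpen W ∧ W ≤ U}, ∃ l : Γ(X, W.1),
      X.nilradical.subschemeι.app W.1 l = resZ X (X.nilradical.subschemeι.preimage_mono W.2.2) s :=
    fun W => Scheme.IdealSheafData.subschemeι_app_surjective X.nilradical ⟨W.1, W.2.1⟩ _
  choose l hl using hl
  have hcompat : TopCat.Presheaf.IsCompatible X.presheaf
      (fun W : {W : X.Opens // IsAffineOpen W ∧ W ≤ U} => W.1) (fun W => l W ^ p ^ q) := by
    intro W W'
    change resf inf_le_left (l W ^ p ^ q) = resf inf_le_right (l W' ^ p ^ q)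
    refine eq_of_affine_le X _ _ _ (fun W'' hW'' hle => ?_)
    rw [resf_pow, resf_pow, resf_pow, resf_pow]
    refine pow_eq_of_app_eq X p hp hpX q hq W'' hW'' _ _ ?_
    have e1 : resf hle (resf (inf_le_left : W.1 ⊓ W'.1 ≤ W.1) (l W)) = resf (hle.trans inf_le_left) (l W) := by
      change (X.presheaf.map _ ≫ X.presheaf.map _) (l W) = _
      rw [← Functor.map_comp]
      rfl
    have e2 : resf hle (resf (inf_le_right : W.1 ⊓ W'.1 ≤ W'.1) (l W')) =
        resf (hle.trans inf_le_right) (l W') := by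
      change (X.presheaf.map _ ≫ X.presheaf.map _) (l W') = _
      rw [← Functor.map_comp]
      rfl
    rw [e1, e2, app_resf', app_resf', hl, hl]
    change (X.nilradical.subscheme.presheaf.map _ ≫ X.nilradical.subscheme.presheaf.map _) s =
      (X.nilradical.subscheme.presheaf.map _ ≫ X.nilradical.subscheme.presheaf.map _) s
    rw [← Functor.map_comp, ← Functor.map_comp]
    rfl
  obtain ⟨t, ht, -⟩ := X.sheaf.existsUnique_gluing' (fun W : {W : X.Opens // IsAffineOpen W ∧ W ≤ U} => W.1) U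
    (fun W => homOfLE W.2.2) (fun x hx => by
      obtain ⟨_, ⟨W, hW, rfl⟩, hxW, hWU⟩ := X.isBasis_affineOpens.exists_subset_of_mem_open hx U.isOpen
      exact Opens.mem_iSup.2 ⟨⟨W, hW, hWU⟩, hxW⟩) (fun W => l W ^ p ^ q) hcompat
  have ht' : ∀ W : {W : X.Opens // IsAffineOpen W ∧ W ≤ U}, resf W.2.2 t = l W ^ p ^ q := ht
  refine ⟨t, fun W hW hWU l' hl' => ?_, fun t' h' => ?_⟩
  · rw [ht' ⟨W, hW, hWU⟩]
    exact pow_eq_of_app_eq X p hp hpX q hq W hW _ _ ((hl ⟨W, hW, hWU⟩).trans hl'.symm)
  · refine eq_of_affine_le X U t' t (fun W hW hWU => ?_)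
    rw [h' W hW hWU (l ⟨W, hW, hWU⟩) (hl ⟨W, hW, hWU⟩)]
    exact (ht' ⟨W, hW, hWU⟩).symm

/-- the norm function `s ↦ (lift of s)^(p^q)` -/
noncomputable def normFun (U : X.Opens) (s : Γ(X.nilradical.subscheme, X.nilradical.subschemeι ⁻¹ᵁ U)) : Γ(X, U) :=
  Classical.choose (existsUnique_norm X p hp hpX q hq U s).exists

theorem normFun_spec (U : X.Opens) (s : Γ(X.nilradical.subscheme, X.nilradical.subschemeι ⁻¹ᵁ U))
    (W : X.Opens) (hW : IsAffineOpen W) (hWU : W ≤ U) (l : Γ(X, W))
    (hl : X.nilradical.subschemeι.app W l = resZ X (X.nilradical.subschemeι.preimage_mono hWU) s) :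
    resf hWU (normFun X p hp hpX q hq U s) = l ^ p ^ q :=
  Classical.choose_spec (existsUnique_norm X p hp hpX q hq U s).exists W hW hWU l hl

theorem eq_normFun (U : X.Opens) (s : Γ(X.nilradical.subscheme, X.nilradical.subschemeι ⁻¹ᵁ U)) (t' : Γ(X, U))
    (h : ∀ (W : X.Opens) (_ : IsAffineOpen W) (hWU : W ≤ U), ∃ l : Γ(X, W),
      X.nilradical.subschemeι.app W l = resZ X (X.nilradical.subschemeι.preimage_mono hWU) s ∧
        resf hWU t' = l ^ p ^ q) :
    t' = normFun X p hp hpX q hq U s := by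
  refine eq_of_affine_le X U _ _ (fun W hW hWU => ?_)
  obtain ⟨l, hl, hl'⟩ := h W hW hWU
  rw [hl', normFun_spec X p hp hpX q hq U s W hW hWU l hl]

/-- the norm of degree `p^q` for the reduction morphism -/
noncomputable def redNorm : Nrm.NormOfDegree X.nilradical.subschemeι (p ^ q) where
  one_le := Nat.pow_pos hp.pos
  norm U :=
    { toFun := normFun X p hp hpX q hq U
      map_one' := by
        refine (eq_normFun X p hp hpX q hq U 1 1 (fun W hW hWU => ⟨1, ?_, ?_⟩)).symm
        · rw [map_one]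
          exact (map_one _).symm
        · rw [one_pow]
          exact map_one _
      map_mul' := fun s s' => by
        refine (eq_normFun X p hp hpX q hq U (s * s') _ (fun W hW hWU => ?_)).symm
        obtain ⟨l, hl⟩ := Scheme.IdealSheafData.subschemeι_app_surjective X.nilradical ⟨W, hW⟩
          (resZ X (X.nilradical.subschemeι.preimage_mono hWU) s)
        obtain ⟨l', hl'⟩ := Scheme.IdealSheafData.subschemeι_app_surjective X.nilradical ⟨W, hW⟩
          (resZ X (X.nilradical.subschemeι.preimage_mono hWU) s')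
        refine ⟨l * l', ?_, ?_⟩
        · rw [map_mul, hl, hl']
          exact (map_mul _ _ _).symm
        · have h1 : resf hWU (normFun X p hp hpX q hq U s * normFun X p hp hpX q hq U s') =
              resf hWU (normFun X p hp hpX q hq U s) * resf hWU (normFun X p hp hpX q hq U s') := map_mul _ _ _
          rw [h1, normFun_spec X p hp hpX q hq U s W hW hWU l hl,
            normFun_spec X p hp hpX q hq U s' W hW hWU l' hl', mul_pow] }
  norm_res := fun {U V} i₁ s => by
    change resf i₁.le (normFun X p hp hpX q hq U s) =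
      normFun X p hp hpX q hq V (resZ X (X.nilradical.subschemeι.preimage_mono i₁.le) s)
    refine eq_normFun X p hp hpX q hq V _ _ (fun W hW hWV => ?_)
    obtain ⟨l, hl⟩ := Scheme.IdealSheafData.subschemeι_app_surjective X.nilradical ⟨W, hW⟩
      (resZ X (X.nilradical.subschemeι.preimage_mono (hWV.trans i₁.le)) s)
    refine ⟨l, ?_, ?_⟩
    · rw [hl]
      change _ = (X.nilradical.subscheme.presheaf.map _ ≫ X.nilradical.subscheme.presheaf.map _) s
      rw [← Functor.map_comp]
      rfl
    · have h1 : resf hWV (resf i₁.le (normFun X p hp hpX q hq U s)) =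
          resf (hWV.trans i₁.le) (normFun X p hp hpX q hq U s) := by
        change (X.presheaf.map _ ≫ X.presheaf.map _) _ = _
        rw [← Functor.map_comp]
        rfl
      rw [h1]
      exact normFun_spec X p hp hpX q hq U s W hW _ l hl
  norm_app := fun U g => by
    refine (eq_normFun X p hp hpX q hq U _ _ (fun W hW hWU => ⟨resf hWU g, app_resf' X hWU g, resf_pow _ _ _⟩)).symm
  norm_mem := fun U s z hz hs => by
    obtain ⟨_, ⟨W, hW, rfl⟩, hzW, hWU⟩ := X.isBasis_affineOpens.exists_subset_of_mem_open hz U.isOpen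
    obtain ⟨l, hl⟩ := Scheme.IdealSheafData.subschemeι_app_surjective X.nilradical ⟨W, hW⟩
      (resZ X (X.nilradical.subschemeι.preimage_mono hWU) s)
    have h1 := normFun_spec X p hp hpX q hq U s W hW hWU l hl
    have h2 : X.presheaf.germ U (X.nilradical.subschemeι.base z) hz (normFun X p hp hpX q hq U s) =
        X.presheaf.germ W (X.nilradical.subschemeι.base z) hzW (l ^ p ^ q) := by
      rw [← h1]
      exact (TopCat.Presheaf.germ_res_apply X.presheaf (homOfLE hWU) _ hzW _).symm
    change X.presheaf.germ U (X.nilradical.subschemeι.base z) hz (normFun X p hp hpX q hq U s) ∈ _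
    rw [h2, map_pow]
    refine Ideal.pow_mem_of_mem _ ?_ _ (Nat.pow_pos hp.pos)
    rw [IsLocalRing.mem_maximalIdeal, mem_nonunits_iff]
    intro hu
    have h3 := hu.map (X.nilradical.subschemeι.stalkMap z).hom
    have h4 : (X.nilradical.subschemeι.stalkMap z).hom
        (X.presheaf.germ W (X.nilradical.subschemeι.base z) hzW l) =
        X.nilradical.subscheme.presheaf.germ (X.nilradical.subschemeι ⁻¹ᵁ U) z hz s := by
      have := Scheme.Hom.germ_stalkMap_apply X.nilradical.subschemeι W z hzW l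
      refine this.trans ?_
      rw [hl]
      exact TopCat.Presheaf.germ_res_apply _ (homOfLE (X.nilradical.subschemeι.preimage_mono hWU)) z hzW s
    rw [h4] at h3
    exact (IsLocalRing.mem_maximalIdeal _).1 hs h3

end norm

/-- the reduction of a Noetherian scheme of characteristic `p` carries a norm of degree a power of `p` -/
theorem exists_hasNorm_nilradical (X : Scheme.{u}) [IsNoetherian X] (p : ℕ) (hp : p.Prime)
    (hpX : (p : Γ(X, ⊤)) = 0) : ∃ e : ℕ, 0 < e ∧ Nrm.HasNorm X.nilradical.subschemeι (p ^ e) := by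
  obtain ⟨m, hm⟩ := exists_uniform_nilpotent_bound X
  refine ⟨m + 1, Nat.succ_pos m, ⟨redNorm X p hp hpX (m + 1) (fun U n hn => pow_eq_zero_of_le ?_ (hm U n hn))⟩⟩
  exact (Nat.le_succ m).trans (Nat.lt_pow_self hp.one_lt).le

end Groth.Agent.Lib.Helper23.RedNorm
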