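import Mathlib
import Groth.Prelude.Def_SGA4b
import Groth.Agent.S0100

/-!
Lead library: stalks of Type-valued étale sheaves and inverse images
(the `Type (u+1)`-valued analogue of `Groth.Agent.S0100.skySheafIso` / `S0101.stalkPullIso`).
-/

set_option autoImplicit false
open CategoryTheory CategoryTheory.Limits AlgebraicGeometry Opposite
universe u

namespace Groth.Agent.Lib.LeadEtStalkT

open Groth.Agent.S0100

set_option backward.isDefEq.respectTransparency.types false in
/-- direct image of a skyscraper sheaf of sets is a skyscraper sheaf -/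
noncomputable def skySheafIsoT {X Y : Scheme.{u}} (f : X ⟶ Y) {Ω : Type u} [Field Ω] [IsSepClosed Ω]
    (ξ : Spec (CommRingCat.of Ω) ⟶ X) :
    (Scheme.pointSmallEtale ξ).skyscraperSheafFunctor (A := Type (u + 1)) ⋙ EtDesc.pushSh f ≅
      (Scheme.pointSmallEtale (ξ ≫ f)).skyscraperSheafFunctor :=
  NatIso.ofComponents
    (fun M => (fullyFaithfulSheafToPresheaf _ _).preimageIso ((skyIso (fiberIso f ξ)).app M))
    (by
      intro M N g
      apply Sheaf.hom_ext
      exact (skyIso (A := Type (u + 1)) (fiberIso f ξ)).hom.naturality g)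

set_option backward.isDefEq.respectTransparency.types false in
/-- the stalk of an inverse image is the stalk at the image geometric point -/
noncomputable def stalkPullIsoT {X Y : Scheme.{u}} (f : X ⟶ Y)
    {Ω : Type u} [Field Ω] [IsSepClosed Ω] (ξ : Spec (CommRingCat.of Ω) ⟶ X) :
    (Scheme.pointSmallEtale (ξ ≫ f)).sheafFiber (A := Type (u + 1)) ≅
      EtDesc.pullSh f ⋙ (Scheme.pointSmallEtale ξ).sheafFiber (A := Type (u + 1)) :=
  let adj₁ := (EtDesc.adjSh f).comp
    ((Scheme.pointSmallEtale ξ).skyscraperSheafAdjunction (A := Type (u + 1)))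
  let adj₂ := (Scheme.pointSmallEtale (ξ ≫ f)).skyscraperSheafAdjunction (A := Type (u + 1))
  (conjugateIsoEquiv adj₁ adj₂).symm (skySheafIsoT f ξ)

end Groth.Agent.Lib.LeadEtStalkT
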