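import Mathlib
import Groth.Agent.Lib.LeadEtStalkT
import Groth.Agent.Lib.Helper16EtStalk
import Groth.Agent.Lib.Helper23FinStalkD

/-!
# Stalks of inverse images of étale sheaves of sets on germs (helper23)

`Type`-valued port of helper16's `Helper16StalkPull`: `germ_compatT`, `stalkPullT_germ`.
-/

set_option autoImplicit false
open CategoryTheory CategoryTheory.Limits AlgebraicGeometry Opposite
universe u
open Groth.Agent.Lib.Helper16.EtStalk Groth.Agent.Lib.Helper16.SmallEtale

namespace Groth.Agent.Lib.Helper23.StalkPullT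

open Groth.Agent.S0100 Groth.Agent.Lib.LeadEtStalkT

variable {X Y : Scheme.{u}} (f : X ⟶ Y) {Ω : Type u} [Field Ω] [IsSepClosed Ω]
  (ξ : Spec (CommRingCat.of Ω) ⟶ X)

set_option backward.isDefEq.respectTransparency.types false in
/-- the basic identity of sheaf morphisms -/
lemma keyT (G : EtDesc.Sh Y) :
    ((EtDesc.adjSh f).comp
      ((Scheme.pointSmallEtale ξ).skyscraperSheafAdjunction (A := Type (u + 1)))).unit.app G ≫
      (skySheafIsoT f ξ).hom.app _ =
    ((Scheme.pointSmallEtale (ξ ≫ f)).skyscraperSheafAdjunction (A := Type (u + 1))).unit.app G ≫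
      ((Scheme.pointSmallEtale (ξ ≫ f)).skyscraperSheafFunctor).map ((stalkPullIsoT f ξ).hom.app G) := by
  have := unit_conjugateEquiv_symm ((EtDesc.adjSh f).comp
      ((Scheme.pointSmallEtale ξ).skyscraperSheafAdjunction (A := Type (u + 1))))
      ((Scheme.pointSmallEtale (ξ ≫ f)).skyscraperSheafAdjunction (A := Type (u + 1)))
      (skySheafIsoT f ξ).hom G
  exact this

/-- germ of a section at a geometric point -/
noncomputable def germT {Z : Scheme.{u}} (ζ : Spec (CommRingCat.of Ω) ⟶ Z) (G : EtDesc.Sh Z) (U : Z.Etale)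
    (u : (Scheme.pointSmallEtale ζ).fiber.obj U) : G.obj.obj (op U) ⟶ (Scheme.pointSmallEtale ζ).sheafFiber.obj G :=
  (Scheme.pointSmallEtale ζ).toPresheafFiber U u G.obj

set_option backward.isDefEq.respectTransparency.types false in
lemma unit_sky_πT {Z : Scheme.{u}} (ζ : Spec (CommRingCat.of Ω) ⟶ Z) (G : EtDesc.Sh Z) (U : Z.Etale)
    (u : (Scheme.pointSmallEtale ζ).fiber.obj U) :
    (((Scheme.pointSmallEtale ζ).skyscraperSheafAdjunction
      (A := Type (u + 1))).unit.app G).hom.app (op U) ≫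
      Pi.π (fun _ : (Scheme.pointSmallEtale ζ).fiber.obj U => (Scheme.pointSmallEtale ζ).sheafFiber.obj G) u =
    germT ζ G U u := by
  have h := (Scheme.pointSmallEtale ζ).skyscraperSheafAdjunction_homEquiv_apply_hom
    (A := Type (u + 1)) (F := G) (𝟙 _)
  have e : ((Scheme.pointSmallEtale ζ).skyscraperSheafAdjunction
      (A := Type (u + 1))).unit.app G =
      ((Scheme.pointSmallEtale ζ).skyscraperSheafAdjunction
      (A := Type (u + 1))).homEquiv G _ (𝟙 _) := (Adjunction.homEquiv_id _ _).symm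
  rw [e]
  refine (congrArg (fun m => m.app (op U) ≫
    Pi.π (fun _ : (Scheme.pointSmallEtale ζ).fiber.obj U => (Scheme.pointSmallEtale ζ).sheafFiber.obj G) u) h).trans ?_
  exact ((Scheme.pointSmallEtale ζ).skyscraperPresheafHomEquiv_app_π _ U u).trans (Category.comp_id _)

set_option backward.isDefEq.respectTransparency.types false in
lemma skySheafIsoT_π (M : Type (u + 1)) (U : Y.Etale)
    (u : (Scheme.pointSmallEtale (ξ ≫ f)).fiber.obj U) :
    ((skySheafIsoT f ξ).hom.app M).hom.app (op U) ≫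
      Pi.π (fun _ : (Scheme.pointSmallEtale (ξ ≫ f)).fiber.obj U => M) u =
    Pi.π (fun _ : (Scheme.pointSmallEtale ξ).fiber.obj ((EtCoh.bc f).obj U) => M)
      ((fiberIso f ξ).inv.app U u) := by
  simp [skySheafIsoT, skyIso]
  exact (Pi.map'_comp_π _ _ _).trans (Category.comp_id _)

set_option backward.isDefEq.respectTransparency.types false in
lemma skyFunctor_map_πT {Z : Scheme.{u}} (ζ : Spec (CommRingCat.of Ω) ⟶ Z) {M N : Type (u + 1)}
    (b : M ⟶ N) (U : Z.Etale) (u : (Scheme.pointSmallEtale ζ).fiber.obj U) :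
    (((Scheme.pointSmallEtale ζ).skyscraperSheafFunctor).map b).hom.app (op U) ≫
      Pi.π (fun _ : (Scheme.pointSmallEtale ζ).fiber.obj U => N) u =
    Pi.π (fun _ : (Scheme.pointSmallEtale ζ).fiber.obj U => M) u ≫ b := by
  simp only [GrothendieckTopology.Point.skyscraperSheafFunctor_map_hom,
    GrothendieckTopology.Point.skyscraperPresheafFunctor_map_app]
  exact Pi.map_π _ _

set_option backward.isDefEq.respectTransparency.types false in
/-- compatibility of the stalk isomorphism with germs of sections -/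
lemma germ_compatT (G : EtDesc.Sh Y) (U : Y.Etale)
    (u : (Scheme.pointSmallEtale (ξ ≫ f)).fiber.obj U) (σ : G.obj.obj (op U)) :
    (stalkPullIsoT f ξ).hom.app G (germT (ξ ≫ f) G U u σ) =
      germT ξ ((EtDesc.pullSh f).obj G) ((EtCoh.bc f).obj U) ((fiberIso f ξ).inv.app U u)
        (((EtDesc.adjSh f).unit.app G).hom.app (op U) σ) := by
  have k := congrArg (fun m => (Pi.π (fun _ : (Scheme.pointSmallEtale (ξ ≫ f)).fiber.obj U =>
      (Scheme.pointSmallEtale ξ).sheafFiber.obj ((EtDesc.pullSh f).obj G)) u) (m.hom.app (op U) σ)) (keyT f ξ G)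
  -- left side
  have hL : (Pi.π (fun _ : (Scheme.pointSmallEtale (ξ ≫ f)).fiber.obj U =>
      (Scheme.pointSmallEtale ξ).sheafFiber.obj ((EtDesc.pullSh f).obj G)) u)
      ((((EtDesc.adjSh f).comp
      ((Scheme.pointSmallEtale ξ).skyscraperSheafAdjunction (A := Type (u + 1)))).unit.app G ≫
      (skySheafIsoT f ξ).hom.app _).hom.app (op U) σ) =
      germT ξ ((EtDesc.pullSh f).obj G) ((EtCoh.bc f).obj U) ((fiberIso f ξ).inv.app U u)
        (((EtDesc.adjSh f).unit.app G).hom.app (op U) σ) := by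
    have e1 := ConcreteCategory.congr_hom (skySheafIsoT_π f ξ
      ((Scheme.pointSmallEtale ξ).sheafFiber.obj ((EtDesc.pullSh f).obj G)) U u)
      ((((EtDesc.adjSh f).comp
      ((Scheme.pointSmallEtale ξ).skyscraperSheafAdjunction (A := Type (u + 1)))).unit.app G).hom.app
        (op U) σ)
    refine e1.trans ?_
    rw [Adjunction.comp_unit_app]
    have e2 := ConcreteCategory.congr_hom (unit_sky_πT ξ ((EtDesc.pullSh f).obj G) ((EtCoh.bc f).obj U)
      ((fiberIso f ξ).inv.app U u)) (((EtDesc.adjSh f).unit.app G).hom.app (op U) σ)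
    exact e2
  have hR : (Pi.π (fun _ : (Scheme.pointSmallEtale (ξ ≫ f)).fiber.obj U =>
      (Scheme.pointSmallEtale ξ).sheafFiber.obj ((EtDesc.pullSh f).obj G)) u)
      ((((Scheme.pointSmallEtale (ξ ≫ f)).skyscraperSheafAdjunction
        (A := Type (u + 1))).unit.app G ≫
      ((Scheme.pointSmallEtale (ξ ≫ f)).skyscraperSheafFunctor).map
        ((stalkPullIsoT f ξ).hom.app G)).hom.app (op U) σ) =
      (stalkPullIsoT f ξ).hom.app G (germT (ξ ≫ f) G U u σ) := by
    have e1 := ConcreteCategory.congr_hom (skyFunctor_map_πT (ξ ≫ f)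
      ((stalkPullIsoT f ξ).hom.app G) U u)
      ((((Scheme.pointSmallEtale (ξ ≫ f)).skyscraperSheafAdjunction
        (A := Type (u + 1))).unit.app G).hom.app (op U) σ)
    refine e1.trans ?_
    have e2 := ConcreteCategory.congr_hom (unit_sky_πT (ξ ≫ f) G U u) σ
    exact congrArg ((stalkPullIsoT f ξ).hom.app G) e2
  exact hR.symm.trans (k.symm.trans hL)

open Groth.Agent.Lib.Helper23.FinStalkB Groth.Agent.Lib.Helper23.FinStalkD in
set_option backward.isDefEq.respectTransparency.types false in
/-- compatibility of the stalk isomorphism of an inverse image (sheaves of sets) with germs, in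
terms of `liftPt` -/
lemma stalkPullT_germ (G : EtDesc.Sh Y) (U : Y.Etale)
    (v : (Scheme.pointSmallEtale (ξ ≫ f)).fiber.obj U) (σ : G.obj.obj (op U)) :
    (stalkPullIsoT f ξ).hom.app G
        ((Scheme.pointSmallEtale (ξ ≫ f)).toPresheafFiber U v G.obj σ) =
      (Scheme.pointSmallEtale ξ).toPresheafFiber ((EtCoh.bc f).obj U) (liftPt f (ξ ≫ f) ξ rfl U v)
        ((EtDesc.pullSh f).obj G).obj (((EtDesc.adjSh f).unit.app G).hom.app (op U) σ) := by
  have h := germ_compatT f ξ G U v σ
  rw [fiberIso_inv_eq_liftPt] at h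
  exact h

end Groth.Agent.Lib.Helper23.StalkPullT
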