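import Mathlib
import Groth.Agent.Lib.LeadEtStalkT
import Groth.Agent.Lib.Helper9SpPoint2

/-!
Lead library: for a surjective `f : X' ⟶ X`, the geometric points of `X` of the form `ξ ≫ f`
detect covering sieves of the small étale site of `X`; consequences for `EtDesc.pullSh f`.
-/

set_option autoImplicit false
open CategoryTheory CategoryTheory.Limits AlgebraicGeometry Opposite
universe u

namespace Groth.Agent.Lib.LeadEtStalkT2

open Groth.Agent.Lib.LeadEtStalkT

variable {X' X : Scheme.{u}} (f : X' ⟶ X)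

/-- the points of the small étale site of `X` defined by geometric points factoring through `f` -/
def imagePoints : Set (GrothendieckTopology.Point.{u} X.smallEtaleTopology) :=
  {Φ | ∃ (Ω : Type u) (_ : Field Ω) (_ : IsSepClosed Ω) (ξ : Spec (CommRingCat.of Ω) ⟶ X'),
    Φ = Scheme.pointSmallEtale (ξ ≫ f)}

/-- every point of an étale `X`-scheme is hit by a geometric point factoring through `f` -/
lemma exists_geometric_lift [Surjective f] (W : X.Etale) (w : W.left) :
    ∃ (Ω : Type u) (_ : Field Ω) (_ : IsSepClosed Ω) (ξ : Spec (CommRingCat.of Ω) ⟶ X')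
      (x : (Scheme.pointSmallEtale (ξ ≫ f)).fiber.obj W),
      x.left (default : Spec (CommRingCat.of Ω)) = w := by
  obtain ⟨x', hx'⟩ := f.surjective (W.hom w)
  obtain ⟨z, hz1, hz2⟩ := Scheme.Pullback.exists_preimage_pullback (f := W.hom) (g := f) w x' hx'.symm
  let κ := (pullback W.hom f).residueField z
  let ζ : Spec (CommRingCat.of (AlgebraicClosure κ)) ⟶ pullback W.hom f :=
    Spec.map (CommRingCat.ofHom (algebraMap κ (AlgebraicClosure κ))) ≫
      (pullback W.hom f).fromSpecResidueField z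
  refine ⟨AlgebraicClosure κ, inferInstance, inferInstance, ζ ≫ pullback.snd W.hom f,
    Over.homMk (ζ ≫ pullback.fst W.hom f) ?_, ?_⟩
  · change (ζ ≫ pullback.fst W.hom f) ≫ W.hom = (ζ ≫ pullback.snd W.hom f) ≫ f
    rw [Category.assoc, Category.assoc, pullback.condition]
    simp only [ζ, Category.assoc]
  · change (ζ ≫ pullback.fst W.hom f) _ = w
    rw [Scheme.Hom.comp_apply]
    have : ζ default = z := Scheme.fromSpecResidueField_apply z _
    rw [this, hz1]

lemma imagePoints_detect [Surjective f] ⦃W : X.Etale⦄ (T : Sieve W)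
    (h : ∀ Φ ∈ imagePoints f, ∀ x : Φ.fiber.obj W,
      ∃ (Y : X.Etale) (g : Y ⟶ W) (_ : T g) (y : Φ.fiber.obj Y), Φ.fiber.map g y = x) :
    T ∈ X.smallEtaleTopology W := by
  obtain ⟨α, Z, p, rfl⟩ := T.exists_eq_ofArrows
  rw [Scheme.ofArrows_mem_smallEtaleTopology_iff]
  ext w
  simp only [Set.mem_iUnion, Set.mem_range, Set.mem_univ, iff_true]
  obtain ⟨Ω, _, _, ξ, x, hx⟩ := exists_geometric_lift f W w
  obtain ⟨Y, g, hg, y, hy⟩ := h (Scheme.pointSmallEtale (ξ ≫ f)) ⟨Ω, _, _, ξ, rfl⟩ x
  obtain ⟨Z', q, _, ⟨i⟩, rfl⟩ := hg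
  refine ⟨i, q.left (y.left (default : Spec (CommRingCat.of Ω))), ?_⟩
  rw [← hx, ← hy]
  rfl


section consequences

open GrothendieckTopology

variable {f}

instance : PreservesFilteredColimitsOfSize.{u, u} (forget (Type (u + 1))) := by
  have h : PreservesFilteredColimitsOfSize.{u, u} (𝟭 (Type (u + 1))) := inferInstance
  exact h

/-- morphisms of étale sheaves of sets are determined by their stalks at a detecting family -/
lemma hom_ext_of_points {F G : EtDesc.Sh X} (v w : F ⟶ G)
    (𝔓 : Set (Point.{u} X.smallEtaleTopology))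
    (h𝔓 : ∀ ⦃W : X.Etale⦄ (S : Sieve W), (∀ Φ ∈ 𝔓, ∀ x : Φ.fiber.obj W,
      ∃ (Y : X.Etale) (g : Y ⟶ W) (_ : S g) (y : Φ.fiber.obj Y), Φ.fiber.map g y = x) →
      S ∈ X.smallEtaleTopology W)
    (h : ∀ Φ ∈ 𝔓, Φ.presheafFiber.map v.hom = Φ.presheafFiber.map w.hom) : v = w := by
  apply Sheaf.hom_ext
  ext U s
  have hmem : Presheaf.equalizerSieve (F := G.obj) (v.hom.app U s) (w.hom.app U s) ∈
      X.smallEtaleTopology U.unop := by
    apply h𝔓
    intro Φ hΦ z
    have h1 : Φ.toPresheafFiber U.unop z G.obj (v.hom.app U s) =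
        Φ.toPresheafFiber U.unop z G.obj (w.hom.app U s) := by
      rw [← Point.toPresheafFiber_naturality_apply, ← Point.toPresheafFiber_naturality_apply,
        h Φ hΦ]
    rw [Point.toPresheafFiber_eq_iff'] at h1
    obtain ⟨Y, g, y', hy', hg⟩ := h1
    exact ⟨Y, g, hg, y', hy'⟩
  exact (((isSheaf_iff_isSheaf_of_type _ G.obj).1 G.property).isSeparated _ hmem).ext
    (fun Y g hg => hg)

/-- a morphism of étale sheaves of sets which is bijective on the stalks at a detecting family
is an isomorphism -/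
lemma isIso_of_points {F G : EtDesc.Sh X} (v : F ⟶ G)
    (𝔓 : Set (Point.{u} X.smallEtaleTopology))
    (h𝔓 : ∀ ⦃W : X.Etale⦄ (S : Sieve W), (∀ Φ ∈ 𝔓, ∀ x : Φ.fiber.obj W,
      ∃ (Y : X.Etale) (g : Y ⟶ W) (_ : S g) (y : Φ.fiber.obj Y), Φ.fiber.map g y = x) →
      S ∈ X.smallEtaleTopology W)
    (h : ∀ Φ ∈ 𝔓, Function.Bijective (Φ.presheafFiber.map v.hom)) : IsIso v := by
  haveI : Presheaf.IsLocallyInjective X.smallEtaleTopology v.hom :=
    Groth.Agent.Lib.Helper9.SpPoint.isLocallyInjective_of_points.{u} 𝔓 h𝔓 v.hom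
      (fun Φ hΦ => (h Φ hΦ).1)
  haveI : Presheaf.IsLocallySurjective X.smallEtaleTopology v.hom :=
    Groth.Agent.Lib.Helper9.SpPoint.isLocallySurjective_of_points.{u} 𝔓 h𝔓 v.hom
      (fun Φ hΦ => (h Φ hΦ).2)
  have := Sheaf.mono_of_isLocallyInjective v
  have := Sheaf.epi_of_isLocallySurjective' v
  exact isIso_of_mono_of_epi v

variable (f)

theorem pullSh_faithful [Surjective f] : (EtDesc.pullSh f).Faithful where
  map_injective := by
    intro F G v w hvw
    apply hom_ext_of_points v w (imagePoints f) (imagePoints_detect f)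
    rintro Φ ⟨Ω, _, _, ξ, rfl⟩
    have nv := (stalkPullIsoT f ξ).hom.naturality v
    have nw := (stalkPullIsoT f ξ).hom.naturality w
    have e : (Scheme.pointSmallEtale (ξ ≫ f)).sheafFiber.map v ≫ (stalkPullIsoT f ξ).hom.app G =
        (Scheme.pointSmallEtale (ξ ≫ f)).sheafFiber.map w ≫ (stalkPullIsoT f ξ).hom.app G := by
      rw [nv, nw, Functor.comp_map, Functor.comp_map, hvw]
    exact (Iso.cancel_iso_hom_right _ _ ((stalkPullIsoT f ξ).app G)).1 e

theorem pullSh_reflectsIsomorphisms [Surjective f] : (EtDesc.pullSh f).ReflectsIsomorphisms where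
  reflects := by
    intro F G v hv
    apply isIso_of_points v (imagePoints f) (imagePoints_detect f)
    rintro Φ ⟨Ω, _, _, ξ, rfl⟩
    have nv := (stalkPullIsoT f ξ).hom.naturality v
    have h1 : IsIso ((EtDesc.pullSh f ⋙
        (Scheme.pointSmallEtale ξ).sheafFiber (A := Type (u + 1))).map v) := by
      rw [Functor.comp_map]; infer_instance
    have h2 : IsIso ((Scheme.pointSmallEtale (ξ ≫ f)).sheafFiber.map v ≫
        (stalkPullIsoT f ξ).hom.app G) := by
      rw [nv]
      have : IsIso ((stalkPullIsoT f ξ).hom.app F) :=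
        inferInstanceAs (IsIso ((stalkPullIsoT f ξ).app F).hom)
      infer_instance
    have h4 : IsIso ((stalkPullIsoT f ξ).hom.app G) :=
      inferInstanceAs (IsIso ((stalkPullIsoT f ξ).app G).hom)
    have h3 : IsIso ((Scheme.pointSmallEtale (ξ ≫ f)).sheafFiber.map v) :=
      IsIso.of_isIso_comp_right _ ((stalkPullIsoT f ξ).hom.app G)
    exact (isIso_iff_bijective _).1 h3

end consequences

end Groth.Agent.Lib.LeadEtStalkT2
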