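import Mathlib
import Groth.Agent.Lib.Helper23StalkPullT
import Groth.Agent.Lib.Helper23FinStalkE
import Groth.Agent.Lib.LeadEtStalkT2
import Groth.Agent.S0651

/-!
# Étale sheaves of sets: stalk criteria at algebraically closed points, unit/counit on stalks (helper23)

`isIso_of_stalks_algClosedT`, `stalk_unit_thetaT`, `stalk_counitT`, `theta_bijective_of_mono`,
`isIso_counitT_of_finite_mono`, `restrT`, `restrPushAdjT`, `isIso_counitT_of_etale_mono`.
-/

set_option autoImplicit false
set_option backward.isDefEq.respectTransparency.types false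
universe u

namespace Groth.Agent.Lib.Helper23.ShStalk
open CategoryTheory CategoryTheory.Limits AlgebraicGeometry Opposite
open Groth.Agent.Lib.Helper23.FinStalkA Groth.Agent.Lib.Helper23.FinStalkB
  Groth.Agent.Lib.Helper23.FinStalkD Groth.Agent.Lib.Helper23.FinStalkE
  Groth.Agent.Lib.Helper23.StalkPullT Groth.Agent.Lib.LeadEtStalkT Groth.Agent.Lib.LeadEtStalkT2

/-- the points of the small étale site given by algebraically closed geometric points -/
def algPoints (X : Scheme.{u}) : Set (GrothendieckTopology.Point.{u} X.smallEtaleTopology) :=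
  {Φ | ∃ (Ω : Type u) (_ : Field Ω) (_ : IsAlgClosed Ω) (ξ : Spec (CommRingCat.of Ω) ⟶ X),
    Φ = Scheme.pointSmallEtale ξ}

lemma algPoints_detect (X : Scheme.{u}) ⦃W : X.Etale⦄ (T : Sieve W)
    (h : ∀ Φ ∈ algPoints X, ∀ x : Φ.fiber.obj W,
      ∃ (Y : X.Etale) (g : Y ⟶ W) (_ : T g) (y : Φ.fiber.obj Y), Φ.fiber.map g y = x) :
    T ∈ X.smallEtaleTopology W := by
  obtain ⟨α, Z, p, rfl⟩ := T.exists_eq_ofArrows
  rw [Scheme.ofArrows_mem_smallEtaleTopology_iff]
  ext w
  simp only [Set.mem_iUnion, Set.mem_range, Set.mem_univ, iff_true]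
  obtain ⟨Ω, _, _, ξ, x, hx⟩ := exists_geometric_point_algClosed W w
  obtain ⟨Y, g, hg, y, hy⟩ := h (Scheme.pointSmallEtale ξ) ⟨Ω, inferInstance, inferInstance, ξ, rfl⟩ x
  obtain ⟨Z', q, _, ⟨i⟩, rfl⟩ := hg
  refine ⟨i, q.left (y.left (default : Spec (CommRingCat.of Ω))), ?_⟩
  rw [← hx, ← hy]
  rfl

/-- a morphism of étale sheaves of sets bijective on stalks at all algebraically closed geometric
points is an isomorphism -/
lemma isIso_of_stalks_algClosedT {X : Scheme.{u}} {F G : EtDesc.Sh X} (a : F ⟶ G)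
    (h : ∀ (Ω : Type u) [Field Ω] [IsAlgClosed Ω] (ξ : Spec (CommRingCat.of Ω) ⟶ X),
      Function.Bijective ((Scheme.pointSmallEtale ξ).presheafFiber.map a.hom)) : IsIso a := by
  apply isIso_of_points a (algPoints X) (algPoints_detect X)
  rintro Φ ⟨Ω, _, _, ξ, rfl⟩
  exact h Ω ξ

/-- the unit `G ⟶ f_* f^* G` on stalks, followed by the projection of the stalk of the direct image
to the stalk at a lift, is the stalk isomorphism of the inverse image (sheaves of sets) -/
lemma stalk_unit_thetaT {X Y : Scheme.{u}} (f : X ⟶ Y) (G : EtDesc.Sh Y)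
    {Ω : Type u} [Field Ω] [IsAlgClosed Ω] (ξ : Spec (CommRingCat.of Ω) ⟶ X)
    (a : (Scheme.pointSmallEtale (ξ ≫ f)).presheafFiber.obj G.obj) :
    theta f (ξ ≫ f) ξ rfl ((EtDesc.pullSh f).obj G).obj
      ((Scheme.pointSmallEtale (ξ ≫ f)).presheafFiber.map ((EtDesc.adjSh f).unit.app G).hom a) =
    (stalkPullIsoT f ξ).hom.app G a := by
  obtain ⟨V, v, s, rfl⟩ := (Scheme.pointSmallEtale (ξ ≫ f)).toPresheafFiber_jointly_surjective
    (P := G.obj) a
  rw [stalkPullT_germ f ξ G V v s]
  have e2 := (Scheme.pointSmallEtale (ξ ≫ f)).toPresheafFiber_naturality_apply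
    ((EtDesc.adjSh f).unit.app G).hom V v s
  have e2' : (Scheme.pointSmallEtale (ξ ≫ f)).presheafFiber.map ((EtDesc.adjSh f).unit.app G).hom
      ((Scheme.pointSmallEtale (ξ ≫ f)).toPresheafFiber V v G.obj s) =
      (Scheme.pointSmallEtale (ξ ≫ f)).toPresheafFiber V v
        ((EtDesc.pushSh f).obj ((EtDesc.pullSh f).obj G)).obj
        (((EtDesc.adjSh f).unit.app G).hom.app (op V) s) := e2
  rw [e2']
  exact theta_germ f (ξ ≫ f) ξ rfl ((EtDesc.pullSh f).obj G).obj V v _


/-- the counit `f^* f_* F ⟶ F` on the stalk at `ξ` is `theta` up to the stalk isomorphism of the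
inverse image (sheaves of sets) -/
lemma stalk_counitT {X Y : Scheme.{u}} (f : X ⟶ Y) (F : EtDesc.Sh X)
    {Ω : Type u} [Field Ω] [IsAlgClosed Ω] (ξ : Spec (CommRingCat.of Ω) ⟶ X)
    (a : (Scheme.pointSmallEtale (ξ ≫ f)).presheafFiber.obj ((EtDesc.pushSh f).obj F).obj) :
    (Scheme.pointSmallEtale ξ).presheafFiber.map ((EtDesc.adjSh f).counit.app F).hom
      ((stalkPullIsoT f ξ).hom.app ((EtDesc.pushSh f).obj F) a) =
    theta f (ξ ≫ f) ξ rfl F.obj a := by
  rw [← stalk_unit_thetaT f ((EtDesc.pushSh f).obj F) ξ a]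
  have hn := theta_naturality f (ξ ≫ f) ξ rfl ((EtDesc.adjSh f).counit.app F).hom
  have hn' := congrArg (fun m => m ((Scheme.pointSmallEtale (ξ ≫ f)).presheafFiber.map
    ((EtDesc.adjSh f).unit.app ((EtDesc.pushSh f).obj F)).hom a))
    (congrArg (fun m => (ConcreteCategory.hom m : _ → _)) hn)
  refine Eq.trans ?_ (hn'.symm.trans ?_)
  · rfl
  · change theta f (ξ ≫ f) ξ rfl F.obj ((Scheme.pointSmallEtale (ξ ≫ f)).presheafFiber.map
      ((EtDesc.pushSh f).map ((EtDesc.adjSh f).counit.app F)).hom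
        ((Scheme.pointSmallEtale (ξ ≫ f)).presheafFiber.map
          ((EtDesc.adjSh f).unit.app ((EtDesc.pushSh f).obj F)).hom a)) = _
    have h3 : (Scheme.pointSmallEtale (ξ ≫ f)).presheafFiber.map
        ((EtDesc.pushSh f).map ((EtDesc.adjSh f).counit.app F)).hom
          ((Scheme.pointSmallEtale (ξ ≫ f)).presheafFiber.map
            ((EtDesc.adjSh f).unit.app ((EtDesc.pushSh f).obj F)).hom a) = a := by
      have t := (EtDesc.adjSh f).right_triangle_components F
      have t2 : (Scheme.pointSmallEtale (ξ ≫ f)).sheafFiber.map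
          ((EtDesc.adjSh f).unit.app ((EtDesc.pushSh f).obj F)) ≫
          (Scheme.pointSmallEtale (ξ ≫ f)).sheafFiber.map
            ((EtDesc.pushSh f).map ((EtDesc.adjSh f).counit.app F)) = 𝟙 _ := by
        rw [← Functor.map_comp, t]
        exact (Scheme.pointSmallEtale (ξ ≫ f)).sheafFiber.map_id _
      exact congrArg (fun m => (ConcreteCategory.hom m) a) t2
    rw [h3]

/-- for a finite monomorphism (e.g. a closed immersion) the stalk of the direct image at `ξ ≫ f` is
the stalk at `ξ` (any concrete coefficient category) -/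
lemma theta_bijective_of_mono {X Y : Scheme.{u}} (f : X ⟶ Y) [IsFinite f] [Mono f]
    (F : EtDesc.Sh X) {Ω : Type u} [Field Ω] [IsAlgClosed Ω] (η : Spec (CommRingCat.of Ω) ⟶ Y)
    (ξ : Spec (CommRingCat.of Ω) ⟶ X) (hξ : ξ ≫ f = η) :
    Function.Bijective (theta f η ξ hξ F.obj) := by
  haveI : Unique {ζ : Spec (CommRingCat.of Ω) ⟶ X // ζ ≫ f = η} :=
    { default := ⟨ξ, hξ⟩
      uniq := fun ζ => Subtype.ext ((cancel_mono f).1 (ζ.2.trans hξ.symm)) }
  exact bijective_eval_of_unique
    (β := fun ζ : {ζ : Spec (CommRingCat.of Ω) ⟶ X // ζ ≫ f = η} =>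
      (Scheme.pointSmallEtale ζ.1).presheafFiber.obj F.obj)
    _ (theta_bijective f η F.obj ((isSheaf_iff_isSheaf_of_type _ F.obj).1 F.property)) ⟨ξ, hξ⟩

/-- the counit `f^* f_* F ⟶ F` is an isomorphism for a finite monomorphism `f` (sheaves of sets) -/
theorem isIso_counitT_of_finite_mono {X Y : Scheme.{u}} (f : X ⟶ Y) [IsFinite f] [Mono f]
    (F : EtDesc.Sh X) : IsIso ((EtDesc.adjSh f).counit.app F) := by
  apply isIso_of_stalks_algClosedT
  intro Ω _ _ ξ
  have h1 : Function.Bijective (fun a =>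
      (Scheme.pointSmallEtale ξ).presheafFiber.map ((EtDesc.adjSh f).counit.app F).hom
        ((stalkPullIsoT f ξ).hom.app ((EtDesc.pushSh f).obj F) a)) := by
    have : (fun a => (Scheme.pointSmallEtale ξ).presheafFiber.map
        ((EtDesc.adjSh f).counit.app F).hom
        ((stalkPullIsoT f ξ).hom.app ((EtDesc.pushSh f).obj F) a)) =
        (fun a => theta f (ξ ≫ f) ξ rfl F.obj a) := funext (stalk_counitT f F ξ)
    rw [this]
    exact theta_bijective_of_mono f F (ξ ≫ f) ξ rfl
  have h2 : Function.Bijective ((stalkPullIsoT f ξ).hom.app ((EtDesc.pushSh f).obj F)) :=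
    ConcreteCategory.bijective_of_isIso _
  exact (Function.Bijective.of_comp_iff _ h2).1 h1

/-- restriction of sheaves of sets along an étale morphism -/
noncomputable abbrev restrT {U X : Scheme.{u}} (j : U ⟶ X) [AlgebraicGeometry.Etale j]
    [EtShriek.JCont j] : EtDesc.Sh X ⥤ EtDesc.Sh U :=
  (EtShriek.compEtale j).sheafPushforwardContinuous (Type (u + 1)) U.smallEtaleTopology
    X.smallEtaleTopology

/-- `j^{-1} ⊣ j_*` for étale `j`, with `j^{-1}` restriction (sheaves of sets) -/
noncomputable def restrPushAdjT {U X : Scheme.{u}} (j : U ⟶ X) [AlgebraicGeometry.Etale j]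
    [EtShriek.JCont j] : restrT j ⊣ EtDesc.pushSh j :=
  (Groth.Agent.S0651.compBcAdj j).sheafPushforwardContinuous (E := Type (u + 1))
    U.smallEtaleTopology X.smallEtaleTopology

lemma isIso_counit_restrT {U X : Scheme.{u}} (j : U ⟶ X) [AlgebraicGeometry.Etale j] [Mono j]
    [EtShriek.JCont j] (F : EtDesc.Sh U) : IsIso ((restrPushAdjT j).counit.app F) := by
  have h1 : IsIso ((sheafToPresheaf _ _).map ((restrPushAdjT j).counit.app F)) := by
    apply (config := { allowSynthFailures := true }) NatIso.isIso_of_isIso_app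
    intro V
    have h0 : IsIso ((Groth.Agent.S0651.compBcAdj j).unit.app (unop V)) := inferInstance
    have h2 : IsIso (F.obj.map ((Groth.Agent.S0651.compBcAdj j).unit.app (unop V)).op) :=
      inferInstance
    simp [restrPushAdjT]
    exact h2
  exact isIso_of_reflects_iso _ (sheafToPresheaf _ _)

/-- the counit `j^* j_* F ⟶ F` is an isomorphism for an étale monomorphism (e.g. an open
immersion), sheaves of sets -/
lemma isIso_counitT_of_etale_mono {U X : Scheme.{u}} (j : U ⟶ X) [AlgebraicGeometry.Etale j]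
    [Mono j] (F : EtDesc.Sh U) : IsIso ((EtDesc.adjSh j).counit.app F) := by
  have e := Adjunction.leftAdjointUniq_hom_app_counit (EtDesc.adjSh j) (restrPushAdjT j) F
  have := isIso_counit_restrT j F
  rw [← e]
  infer_instance

end Groth.Agent.Lib.Helper23.ShStalk
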