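import Mathlib
import Groth.Prelude.Def_PBC
import Groth.Agent.S0101
import Groth.Agent.Lib.Helper23EtSupp
import Groth.Agent.Lib.Helper23Constr
import Groth.Agent.Lib.Helper23ConstrTors
import Groth.Agent.Lib.Helper9Lcc

/-!
# The loci where the geometric stalks have a given cardinality (helper23)

* `cardLocus F n`, `cardLocus_pull` (immersions), `card_stalk_of_isFlc`, `isClopen_cardLocus_of_isFlc`,
  `isLocallyConstructible_cardLocus` (constructible `F`).
-/

set_option autoImplicit false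
set_option backward.isDefEq.respectTransparency.types false
universe u
open CategoryTheory CategoryTheory.Limits AlgebraicGeometry Opposite Topology

namespace Groth.Agent.Lib.Helper23StalkCard

open Groth.Agent.Lib.Helper23EtSupp Groth.Agent.Lib.Helper23Strata Groth.Agent.Lib.Helper23Constr
  Groth.Agent.Lib.Helper23ConstrTors

variable {X : Scheme.{u}}

/-- the set of points over which some geometric stalk has exactly `n` elements -/
def cardLocus (F : EtCoh.Ab X) (n : ℕ) : Set X :=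
  {x : X | ∃ (Ω : Type u) (_ : Field Ω) (_ : IsSepClosed Ω) (ξ : Spec (CommRingCat.of Ω) ⟶ X),
    Set.range ξ = {x} ∧ Nat.card ((EtCoh.stalk ξ).obj F) = n}

theorem card_stalk_pull {T : Scheme.{u}} (g : T ⟶ X) (F : EtCoh.Ab X) {Ω : Type u} [Field Ω]
    [IsSepClosed Ω] (τ : Spec (CommRingCat.of Ω) ⟶ T) :
    Nat.card ((EtCoh.stalk τ).obj ((EtCoh.pull g).obj F)) =
      Nat.card ((EtCoh.stalk (τ ≫ g)).obj F) := by
  have e := (Groth.Agent.S0101.stalkPullIso g τ).app F
  exact Nat.card_congr e.addCommGroupIsoToAddEquiv.symm.toEquiv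

/-- the cardinality loci commute with pullback along immersions -/
theorem cardLocus_pull {T : Scheme.{u}} (g : T ⟶ X) [IsImmersion g] (F : EtCoh.Ab X) (n : ℕ) :
    cardLocus ((EtCoh.pull g).obj F) n = g ⁻¹' cardLocus F n := by
  ext t
  constructor
  · rintro ⟨Ω, i1, i2, τ, hτ, hc⟩
    refine ⟨Ω, i1, i2, τ ≫ g, range_eq_singleton _ ?_, ?_⟩
    · rw [Scheme.Hom.comp_apply, apply_default_of_range τ hτ]
    · rw [← card_stalk_pull]
      exact hc
  · rintro ⟨Ω, i1, i2, ξ, hξ, hc⟩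
    have hd := apply_default_of_range ξ hξ
    obtain ⟨τ, rfl⟩ := exists_lift_of_immersion g ξ ⟨t, hd.symm⟩
    refine ⟨Ω, i1, i2, τ, range_eq_singleton _ ?_, ?_⟩
    · apply g.isEmbedding.injective
      rw [← Scheme.Hom.comp_apply]
      exact hd
    · rw [card_stalk_pull]
      exact hc

/-- on a chart of a finite locally constant sheaf all geometric stalks have the cardinality of the
value group -/
theorem card_stalk_of_chart {T : Scheme.{u}} (E : EtCoh.Ab T) (U : T.Etale) (M : Type)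
    [AddCommGroup M] (e : EtCoh.restr E U ≅ Groth.Agent.Lib.Helper9.Lcc.constOver U M)
    {Ω : Type u} [Field Ω] [IsSepClosed Ω] (τ : Spec (CommRingCat.of Ω) ⟶ T)
    (h : τ default ∈ Set.range U.hom) : Nat.card ((EtCoh.stalk τ).obj E) = Nat.card M := by
  obtain ⟨y, hy⟩ := h
  obtain ⟨l, hl1, -⟩ := Scheme.exists_fac_of_etale_of_isSepClosed U.hom τ y hy
  let Φ := Scheme.pointSmallEtale τ
  let x₀ : Φ.fiber.obj U := Over.homMk l hl1
  obtain ⟨j⟩ := Groth.Agent.Lib.Helper9.Lcc.nonempty_stalk_iso E U M e Φ x₀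
  exact (Nat.card_congr j.addCommGroupIsoToAddEquiv.toEquiv).trans
    (Nat.card_congr Equiv.ulift)

/-- for a finite locally constant sheaf membership in a cardinality locus is locally constant, and
is decided by any geometric point -/
theorem exists_nhd_cardLocus_of_isFlc {T : Scheme.{u}} (E : EtCoh.Ab T)
    (hE : EtCoh.IsFiniteLocallyConstant E) (t : T) :
    ∃ (O : Set T) (m : ℕ), IsOpen O ∧ t ∈ O ∧ ∀ t' ∈ O, ∀ (Ω : Type u) [Field Ω] [IsSepClosed Ω]
      (τ : Spec (CommRingCat.of Ω) ⟶ T), Set.range τ = {t'} →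
        Nat.card ((EtCoh.stalk τ).obj E) = m := by
  obtain ⟨ι, U, hU, h⟩ := hE
  obtain ⟨i, y, hy⟩ := hU t
  obtain ⟨M, i1, i2, ⟨e⟩⟩ := h i
  refine ⟨Set.range (U i).hom, Nat.card M, (U i).hom.isOpenMap.isOpen_range, ⟨y, hy⟩, ?_⟩
  intro t' ht' Ω _ _ τ hτ
  apply card_stalk_of_chart E (U i) M e τ
  rw [apply_default_of_range τ hτ]
  exact ht'

theorem mem_cardLocus_iff_of_isFlc {T : Scheme.{u}} (E : EtCoh.Ab T)
    (hE : EtCoh.IsFiniteLocallyConstant E) (n : ℕ) (t : T) :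
    t ∈ cardLocus E n ↔ ∀ (Ω : Type u) [Field Ω] [IsSepClosed Ω]
      (τ : Spec (CommRingCat.of Ω) ⟶ T), Set.range τ = {t} →
        Nat.card ((EtCoh.stalk τ).obj E) = n := by
  obtain ⟨O, m, -, htO, hO⟩ := exists_nhd_cardLocus_of_isFlc E hE t
  constructor
  · rintro ⟨Ω₀, i1, i2, τ₀, hτ₀, hc⟩ Ω _ _ τ hτ
    rw [hO t htO Ω τ hτ, ← hO t htO Ω₀ τ₀ hτ₀]
    exact hc
  · intro h
    obtain ⟨Ω, i1, i2, τ, hτ⟩ := exists_geometric_point t
    exact ⟨Ω, i1, i2, τ, hτ, h Ω τ hτ⟩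

/-- the cardinality loci of a finite locally constant sheaf are open and closed -/
theorem isClopen_cardLocus_of_isFlc {T : Scheme.{u}} (E : EtCoh.Ab T)
    (hE : EtCoh.IsFiniteLocallyConstant E) (n : ℕ) : IsClopen (cardLocus E n) := by
  have key : ∀ t : T, ∃ O : Set T, IsOpen O ∧ t ∈ O ∧
      ∀ t' ∈ O, (t' ∈ cardLocus E n ↔ t ∈ cardLocus E n) := by
    intro t
    obtain ⟨O, m, hOo, htO, hO⟩ := exists_nhd_cardLocus_of_isFlc E hE t
    refine ⟨O, hOo, htO, fun t' ht' => ?_⟩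
    rw [mem_cardLocus_iff_of_isFlc E hE, mem_cardLocus_iff_of_isFlc E hE]
    obtain ⟨Ω₁, i1, i2, τ₁, hτ₁⟩ := exists_geometric_point t
    obtain ⟨Ω₂, i3, i4, τ₂, hτ₂⟩ := exists_geometric_point t'
    constructor
    · intro h Ω _ _ τ hτ
      rw [hO t htO Ω τ hτ, ← hO t' ht' Ω₂ τ₂ hτ₂]
      exact h Ω₂ τ₂ hτ₂
    · intro h Ω _ _ τ hτ
      rw [hO t' ht' Ω τ hτ, ← hO t htO Ω₁ τ₁ hτ₁]
      exact h Ω₁ τ₁ hτ₁
  constructor
  · rw [← isOpen_compl_iff, isOpen_iff_forall_mem_open]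
    intro t ht
    obtain ⟨O, hOo, htO, hO⟩ := key t
    exact ⟨O, fun t' ht' h' => ht ((hO t' ht').1 h'), hOo, htO⟩
  · rw [isOpen_iff_forall_mem_open]
    intro t ht
    obtain ⟨O, hOo, htO, hO⟩ := key t
    exact ⟨O, fun t' ht' => (hO t' ht').2 ht, hOo, htO⟩

/-- the cardinality loci of a sheaf with an adapted stratification are constructible -/
theorem isConstructible_cardLocus_of_str {Y : Scheme.{u}} [CompactSpace Y] [QuasiSeparatedSpace Y]
    (G : EtCoh.Ab Y) (h : Str (QF G)) (n : ℕ) : IsConstructible (cardLocus G n) := by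
  obtain ⟨ι, hfin, T, g, himm, hcons, -, hcov, hQ⟩ := h
  have e : cardLocus G n = ⋃ i, (Set.range (g i) ∩ cardLocus G n) := by
    rw [← Set.iUnion_inter, hcov, Set.univ_inter]
  rw [e]
  refine IsConstructible.iUnion fun i => ?_
  haveI := himm i
  have hclopen := isClopen_cardLocus_of_isFlc _ (hQ i) n
  rw [cardLocus_pull] at hclopen
  have hemb : IsEmbedding (g i) := (g i).isEmbedding
  obtain ⟨O, hO, hOe⟩ := hemb.isInducing.isOpen_iff.1 hclopen.2
  obtain ⟨C, hC, hCe⟩ := hemb.isInducing.isClosed_iff.1 hclopen.1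
  refine isConstructible_of_relClopen (hcons i) O C hO hC ?_ ?_
  · ext y
    constructor
    · rintro ⟨⟨z, rfl⟩, hz⟩
      refine ⟨⟨z, rfl⟩, ?_⟩
      have : z ∈ (g i) ⁻¹' O := by rw [hOe]; exact hz
      exact this
    · rintro ⟨⟨z, rfl⟩, hz⟩
      refine ⟨⟨z, rfl⟩, ?_⟩
      have : z ∈ (g i) ⁻¹' O := hz
      rw [hOe] at this
      exact this
  · ext y
    constructor
    · rintro ⟨⟨z, rfl⟩, hz⟩
      refine ⟨⟨z, rfl⟩, ?_⟩
      have : z ∈ (g i) ⁻¹' C := by rw [hCe]; exact hz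
      exact this
    · rintro ⟨⟨z, rfl⟩, hz⟩
      refine ⟨⟨z, rfl⟩, ?_⟩
      have : z ∈ (g i) ⁻¹' C := hz
      rw [hCe] at this
      exact this

/-- the cardinality loci of a constructible sheaf are locally constructible -/
theorem isLocallyConstructible_cardLocus (F : EtCoh.Ab X) (hF : EtPBC.IsConstructible F) (n : ℕ) :
    IsLocallyConstructible (cardLocus F n) := by
  intro x
  obtain ⟨U, hU, hxU, -⟩ := X.isBasis_affineOpens.exists_subset_of_mem_open
    (Set.mem_univ x) isOpen_univ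
  obtain ⟨U, rfl⟩ : ∃ U' : X.Opens, (U' : Set X) = U := by
    obtain ⟨U', hU', rfl⟩ := hU
    exact ⟨U', rfl⟩
  have hUaff : IsAffineOpen U := by
    obtain ⟨U', hU', hUU'⟩ := hU
    have : U' = U := SetLike.coe_injective hUU'
    exact this ▸ hU'
  refine ⟨U, U.2.mem_nhds hxU, U.2, ?_⟩
  have h1 := (isConstructible_iff F).1 hF U hUaff
  rw [QF_pull] at h1
  haveI : IsAffine (U : Scheme.{u}) := hUaff
  have h2 := isConstructible_cardLocus_of_str _ h1 n
  rw [cardLocus_pull] at h2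
  exact h2

end Groth.Agent.Lib.Helper23StalkCard
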