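import Mathlib
import Groth.Agent.Lib.Helper23Strata

/-!
# Strata on locally Noetherian schemes by Noetherian induction (helper23)

* `Str.single`, `Str.aux_noetherian` (Noetherian induction on closed subsets, for arbitrary test schemes).
* `Constr.exists_of_point` (no Noetherian hypothesis): around every point `x`, `Q` holds on an immersion with range
  `V ∩ closure {x}`, `V` an open neighbourhood of `x`.
* `Constr.of_points`: the converse on locally Noetherian schemes.
-/

set_option autoImplicit false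
universe u
open CategoryTheory CategoryTheory.Limits AlgebraicGeometry Opposite Topology TopologicalSpace

namespace Groth.Agent.Lib.Helper23StrataNoeth

open Groth.Agent.Lib.Helper23Strata

variable {X : Scheme.{u}}

/-- a single surjective immersion in `Q` is a stratification -/
theorem Str.single {Q : Sieve X} {T : Scheme.{u}} (g : T ⟶ X) [IsImmersion g]
    (hg : Set.range g = Set.univ) (hQ : Q g) : Str Q := by
  refine ⟨PUnit, inferInstance, fun _ => T, fun _ => g, fun _ => inferInstance, fun _ => ?_, ?_, ?_,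
    fun _ => hQ⟩
  · rw [hg]; exact IsConstructible.univ
  · intro i j hij
    exact (hij (Subsingleton.elim _ _)).elim
  · rw [Set.iUnion_const]; exact hg

theorem isRetrocompact_of_noetherian {U : Type*} [TopologicalSpace U] [NoetherianSpace U] (s : Set U) :
    IsRetrocompact s := fun _ _ _ => NoetherianSpace.isCompact _

theorem Str.aux_noetherian {U : Scheme.{u}} [NoetherianSpace U] (Q : Sieve U)
    (H : ∀ x : U, ∃ (V : U.Opens) (T : Scheme.{u}) (g : T ⟶ U), IsImmersion g ∧ x ∈ V ∧
      Set.range g = (V : Set U) ∩ closure {x} ∧ Q g) (Z : Closeds U) :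
    ∀ {Y : Scheme.{u}} (m : Y ⟶ U), Set.range m ⊆ (Z : Set U) → Str (Q.pullback m) := by
  induction Z using WellFoundedLT.induction with
  | ind Z ih =>
  intro Y m hm
  by_cases hirr : IsIrreducible (Z : Set U)
  · -- irreducible case
    have hgen := hirr.isGenericPoint_genericPoint Z.isClosed
    set x := hirr.genericPoint with hx
    have hcl : closure {x} = (Z : Set U) := hgen
    obtain ⟨V, T, g, hg, hxV, hrange, hQ⟩ := H x
    rw [hcl] at hrange
    obtain ⟨Y₂, c₂, hc₂, hc₂r⟩ := exists_closedImmersion (((m ⁻¹ᵁ V : Y.Opens) : Set Y)ᶜ)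
      (m ⁻¹ᵁ V).isOpen.isClosed_compl
    refine Str.glue (m ⁻¹ᵁ V) (isRetrocompact_preimage m V.isOpen (isRetrocompact_of_noetherian _)) c₂
      hc₂r ?_ ?_
    · -- on the open part a single stratum
      refine Str.single (pullback.snd g ((m ⁻¹ᵁ V).ι ≫ m)) ?_ ?_
      · rw [Scheme.Pullback.range_snd]
        apply Set.eq_univ_of_forall
        intro y
        change ((m ⁻¹ᵁ V).ι ≫ m) y ∈ Set.range g
        rw [hrange, Scheme.Hom.comp_apply]
        exact ⟨y.2, hm ⟨_, rfl⟩⟩
      · change Q ((pullback.snd g ((m ⁻¹ᵁ V).ι ≫ m) ≫ (m ⁻¹ᵁ V).ι) ≫ m)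
        rw [Category.assoc, ← pullback.condition]
        exact Q.downward_closed hQ _
    · -- on the closed complement, induction
      rw [← Sieve.pullback_comp]
      let Z' : Closeds U := ⟨(Z : Set U) ∩ (V : Set U)ᶜ, Z.isClosed.inter V.isOpen.isClosed_compl⟩
      have hlt : Z' < Z := by
        refine lt_of_le_of_ne (fun z hz => hz.1) ?_
        intro heq
        have hxZ : x ∈ (Z : Set U) := by rw [← hcl]; exact subset_closure rfl
        have : x ∈ (Z' : Set U) := by rw [heq]; exact hxZ
        exact this.2 hxV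
      refine ih Z' hlt (c₂ ≫ m) ?_
      rintro _ ⟨y, rfl⟩
      rw [Scheme.Hom.comp_apply]
      refine ⟨hm ⟨_, rfl⟩, ?_⟩
      have : c₂ y ∈ Set.range c₂ := ⟨y, rfl⟩
      rw [hc₂r] at this
      exact this
  · -- reducible or empty
    rcases Set.eq_empty_or_nonempty (Z : Set U) with hemp | hne
    · haveI : IsEmpty Y := ⟨fun y => by
        have := hm ⟨y, rfl⟩
        rw [hemp] at this
        exact this⟩
      exact Str.of_isEmpty
    · have hnp : ¬ IsPreirreducible (Z : Set U) := fun h => hirr ⟨hne, h⟩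
      rw [isPreirreducible_iff_isClosed_union_isClosed] at hnp
      push Not at hnp
      obtain ⟨z₁, z₂, hz₁, hz₂, hsub, hn1, hn2⟩ := hnp
      let O : U.Opens := ⟨z₂ᶜ, hz₂.isOpen_compl⟩
      obtain ⟨Y₂, c₂, hc₂, hc₂r⟩ := exists_closedImmersion (((m ⁻¹ᵁ O : Y.Opens) : Set Y)ᶜ)
        (m ⁻¹ᵁ O).isOpen.isClosed_compl
      refine Str.glue (m ⁻¹ᵁ O) (isRetrocompact_preimage m O.isOpen (isRetrocompact_of_noetherian _)) c₂
        hc₂r ?_ ?_
      · rw [← Sieve.pullback_comp]
        let Za : Closeds U := ⟨(Z : Set U) ∩ z₁, Z.isClosed.inter hz₁⟩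
        have hlt : Za < Z := by
          refine lt_of_le_of_ne (fun z hz => hz.1) ?_
          intro heq
          apply hn1
          intro z hz
          have : z ∈ (Za : Set U) := by rw [heq]; exact hz
          exact this.2
        refine ih Za hlt _ ?_
        rintro _ ⟨y, rfl⟩
        rw [Scheme.Hom.comp_apply]
        have hy1 : m ((m ⁻¹ᵁ O).ι y) ∈ (Z : Set U) := hm ⟨_, rfl⟩
        have hy2 : m ((m ⁻¹ᵁ O).ι y) ∉ z₂ := y.2
        refine ⟨hy1, ?_⟩
        rcases hsub hy1 with h | h
        · exact h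
        · exact (hy2 h).elim
      · rw [← Sieve.pullback_comp]
        let Zb : Closeds U := ⟨(Z : Set U) ∩ z₂, Z.isClosed.inter hz₂⟩
        have hlt : Zb < Z := by
          refine lt_of_le_of_ne (fun z hz => hz.1) ?_
          intro heq
          apply hn2
          intro z hz
          have : z ∈ (Zb : Set U) := by rw [heq]; exact hz
          exact this.2
        refine ih Zb hlt _ ?_
        rintro _ ⟨y, rfl⟩
        rw [Scheme.Hom.comp_apply]
        refine ⟨hm ⟨_, rfl⟩, ?_⟩
        have : c₂ y ∈ Set.range c₂ := ⟨y, rfl⟩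
        rw [hc₂r] at this
        by_contra hcon
        exact this hcon

theorem Constr.exists_of_point {Q : Sieve X} (h : Constr Q) (x : X) :
    ∃ (V : X.Opens) (T : Scheme.{u}) (g : T ⟶ X), IsImmersion g ∧ x ∈ V ∧
      Set.range g = (V : Set X) ∩ closure {x} ∧ Q g := by
  obtain ⟨U, hU, hxU, -⟩ := exists_isAffineOpen_mem_and_subset (X := X) (x := x) (U := ⊤) trivial
  obtain ⟨ι, hι, T, g, h1, h2, h3, h4, h5⟩ := h U hU
  have hx' : (⟨x, hxU⟩ : U.toScheme) ∈ ⋃ i, Set.range (g i) := by rw [h4]; trivial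
  obtain ⟨i, t, ht⟩ := Set.mem_iUnion.1 hx'
  haveI := h1 i
  let g' : T i ⟶ X := g i ≫ U.ι
  have hxg : x ∈ Set.range g' := ⟨t, by
    change (g i ≫ U.ι) t = x
    rw [Scheme.Hom.comp_apply, ht]
    rfl⟩
  obtain ⟨C, c, hc, hcr⟩ := exists_closedImmersion (closure ({x} : Set X)) isClosed_closure
  have hr : Set.range (pullback.fst g' c ≫ g') = Set.range g' ∩ closure {x} := by
    rw [Scheme.Hom.comp_base, TopCat.coe_comp, Set.range_comp, Scheme.Pullback.range_fst,
      Set.image_preimage_eq_inter_range, Set.inter_comm, hcr]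
  refine ⟨g'.coborderRange, pullback g' c, pullback.fst g' c ≫ g', inferInstance,
    subset_coborder hxg, ?_, Q.downward_closed (h5 i) _⟩
  rw [hr]
  apply Set.Subset.antisymm
  · rintro y ⟨hy1, hy2⟩
    exact ⟨subset_coborder hy1, hy2⟩
  · rintro y ⟨hy1, hy2⟩
    refine ⟨?_, hy2⟩
    have hy3 : y ∈ closure (Set.range g') :=
      closure_mono (Set.singleton_subset_iff.2 hxg) hy2
    have := coborder_inter_closure (s := Set.range g')
    rw [← this]
    exact ⟨hy1, hy3⟩

theorem Constr.of_points [IsLocallyNoetherian X] {Q : Sieve X}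
    (H : ∀ x : X, ∃ (V : X.Opens) (T : Scheme.{u}) (g : T ⟶ X), IsImmersion g ∧ x ∈ V ∧
      Set.range g = (V : Set X) ∩ closure {x} ∧ Q g) : Constr Q := by
  intro U hU
  haveI : IsNoetherianRing Γ(X, U) := IsLocallyNoetherian.component_noetherian ⟨U, hU⟩
  haveI : NoetherianSpace U := noetherianSpace_of_isAffineOpen U hU
  have key := Str.aux_noetherian (U := U.toScheme) (Q.pullback U.ι) ?_ ⊤ (𝟙 _) (Set.subset_univ _)
  · rwa [Sieve.pullback_id] at key
  intro x'
  obtain ⟨V, T, g, hg, hxV, hr, hQ⟩ := H (U.ι x')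
  refine ⟨U.ι ⁻¹ᵁ V, pullback g U.ι, pullback.snd g U.ι, inferInstance, hxV, ?_, ?_⟩
  · rw [Scheme.Pullback.range_snd, hr, Set.preimage_inter]
    congr 1
    have := U.ι.isEmbedding.isInducing.closure_eq_preimage_closure_image ({x'} : Set U.toScheme)
    rw [this, Set.image_singleton]
  · change Q (pullback.snd g U.ι ≫ U.ι)
    rw [← pullback.condition]
    exact Q.downward_closed hQ _

end Groth.Agent.Lib.Helper23StrataNoeth
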