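import Mathlib
import Groth.Agent.Lib.Helper23StalkCard
import Groth.Agent.Lib.Helper23ConstrColim3
import Groth.Agent.Lib.Helper23ConstrSub
import Groth.Agent.Lib.Helper23StrataNoeth
import Groth.Agent.S0173

/-!
# Sheaves with finite stalks and constructible cardinality loci (helper23)

* `isTorsion_of_finite_stalks`, `exists_J_surjective`.
-/

set_option autoImplicit false
set_option backward.isDefEq.respectTransparency.types false
universe u
open CategoryTheory CategoryTheory.Limits AlgebraicGeometry Opposite Topology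

namespace Groth.Agent.Lib.Helper23StalkCard

open Groth.Agent.Lib.Helper23EtSupp Groth.Agent.Lib.Helper23Strata Groth.Agent.Lib.Helper23Constr
  Groth.Agent.Lib.Helper23ConstrTors Groth.Agent.Lib.Helper23ConstrColim
  Groth.Agent.Lib.Helper23ConstrSub

variable {Y : Scheme.{u}}

/-- a sheaf with finite geometric stalks is a torsion sheaf -/
theorem isTorsion_of_finite_stalks (G : EtCoh.Ab Y)
    (hfin : ∀ (Ω : Type u) [Field Ω] [IsSepClosed Ω] (ξ : Spec (CommRingCat.of Ω) ⟶ Y),
      Finite ((EtCoh.stalk ξ).obj G)) : EtCoh.IsTorsion G := by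
  intro U s x
  obtain ⟨Ω, i1, i2, ξ, x₀, hx₀⟩ := Groth.Agent.Lib.Helper16.EtStalk.exists_geometric_point U x
  let Φ := Scheme.pointSmallEtale ξ
  haveI := hfin Ω ξ
  let a : (EtCoh.stalk ξ).obj G := (Φ.toPresheafFiber U x₀ G.obj).hom s
  have hpos : 0 < addOrderOf a := addOrderOf_pos a
  have h0 : addOrderOf a • a = 0 := addOrderOf_nsmul_eq_zero a
  have h1 : (Φ.toPresheafFiber U x₀ G.obj).hom (addOrderOf a • s) =
      (Φ.toPresheafFiber U x₀ G.obj).hom 0 := by
    rw [map_nsmul, map_zero]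
    exact h0
  obtain ⟨W, k, w, hw, hk⟩ := (Φ.toPresheafFiber_eq_iff' U x₀ (addOrderOf a • s) 0).mp h1
  refine ⟨W, k, ⟨(w.left : Spec (CommRingCat.of Ω) ⟶ W.left)
    (default : Spec (CommRingCat.of Ω)), ?_⟩, ?_⟩
  · have e3 : w.left ≫ k.left = x₀.left := congrArg (fun m => m.left) hw
    rw [← hx₀]
    exact congrArg (fun m : Spec (CommRingCat.of Ω) ⟶ U.left =>
      m (default : Spec (CommRingCat.of Ω))) e3
  · rw [isOfFinAddOrder_iff_nsmul_eq_zero]
    refine ⟨addOrderOf a, hpos, ?_⟩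
    have h2 : (G.obj.map k.op).hom (addOrderOf a • s) = (G.obj.map k.op).hom 0 := hk
    rw [map_nsmul, map_zero] at h2
    exact h2

/-- a torsion sheaf on a qcqs scheme with a finite stalk at `ξ` receives a map from a constructible
sheaf which is surjective on the stalk at `ξ` -/
theorem exists_J_surjective [CompactSpace Y] [QuasiSeparatedSpace Y] (G : EtCoh.Ab Y)
    (hG : EtCoh.IsTorsion G) {Ω : Type u} [Field Ω] [IsSepClosed Ω]
    (ξ : Spec (CommRingCat.of Ω) ⟶ Y) [Finite ((EtCoh.stalk ξ).obj G)] :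
    ∃ j : J G, Function.Surjective ((EtCoh.stalk ξ).map (JObj.over G j).hom).hom := by
  classical
  haveI := epi_desc G hG
  haveI : (EtCoh.stalk ξ).IsLeftAdjoint :=
    ((Scheme.pointSmallEtale ξ).skyscraperSheafAdjunction
      (A := AddCommGrpCat.{u + 1})).isLeftAdjoint
  haveI : Epi ((EtCoh.stalk ξ).map (θ G)) := inferInstance
  have hsurj : Function.Surjective ((EtCoh.stalk ξ).map (θ G)).hom :=
    (AddCommGrpCat.epi_iff_surjective _).1 inferInstance
  have hrep : ∀ a : (EtCoh.stalk ξ).obj G, ∃ (j : J G) (b : (EtCoh.stalk ξ).obj (JObj.over G j).left),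
      ((EtCoh.stalk ξ).map (JObj.over G j).hom).hom b = a := by
    intro a
    obtain ⟨z, hz⟩ := hsurj a
    have hcol := isColimitOfPreserves (EtCoh.stalk ξ) (colimit.isColimit (DF G))
    obtain ⟨j, b, rfl⟩ := Concrete.isColimit_exists_rep (DF G ⋙ EtCoh.stalk ξ) hcol z
    refine ⟨j, b, ?_⟩
    change ((EtCoh.stalk ξ).map (θ G)).hom (((EtCoh.stalk ξ).map (ιJ G j)).hom b) = a at hz
    rw [← stalk_comp_apply, ιJ_θ] at hz
    exact hz
  choose ja ba hab using hrep
  haveI := Fintype.ofFinite ((EtCoh.stalk ξ).obj G)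
  obtain ⟨S, hS⟩ := IsFiltered.sup_objs_exists (Finset.univ.image ja)
  refine ⟨S, fun a => ?_⟩
  obtain ⟨m⟩ := hS (Finset.mem_image_of_mem ja (Finset.mem_univ a))
  refine ⟨((EtCoh.stalk ξ).map m.hom.left).hom (ba a), ?_⟩
  rw [← stalk_comp_apply]
  have hw : m.hom.left ≫ (JObj.over G S).hom = (JObj.over G (ja a)).hom := Over.w m.hom
  rw [hw]
  exact hab a

/-- a sheaf with empty support is zero -/
theorem isZero_of_supp_eq_empty (H : EtCoh.Ab Y) (h : EtPBC.supp H = ∅) : IsZero H := by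
  apply Groth.Agent.Lib.Helper16.EtStalk.isZero_of_stalks
  intro Ω _ _ ξ
  by_contra hnz
  have : ξ default ∈ EtPBC.supp H :=
    ⟨Ω, inferInstance, inferInstance, ξ, range_eq_singleton ξ rfl, hnz⟩
  rw [h] at this
  exact this

/-- if a map of sheaves has zero cokernel after pullback and is a monomorphism, its pullback is an
isomorphism -/
theorem isIso_pull_of_mono_of_supp {T : Scheme.{u}} (g : T ⟶ Y) {A B : EtCoh.Ab Y} (ι : A ⟶ B)
    [Mono ι] (h : ∀ t : T, g t ∉ EtPBC.supp (cokernel ι)) : IsIso ((EtCoh.pull g).map ι) := by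
  haveI : Mono ((EtCoh.pull g).map ι) := inferInstance
  haveI : (EtCoh.pull g).IsLeftAdjoint := (EtCoh.pullPushAdj g).isLeftAdjoint
  have hz : IsZero ((EtCoh.pull g).obj (cokernel ι)) := by
    apply isZero_of_supp_eq_empty
    rw [supp_pull]
    exact Set.eq_empty_of_forall_notMem fun t ht => h t ht
  have e : (EtCoh.pull g).obj (cokernel ι) ≅ cokernel ((EtCoh.pull g).map ι) :=
    PreservesCokernel.iso _ _
  haveI : Epi ((EtCoh.pull g).map ι) := Preadditive.epi_of_isZero_cokernel _ (hz.of_iso e.symm)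
  exact isIso_of_mono_of_epi _

open Groth.Agent.Lib.Helper23ConstrGen in
/-- on a Noetherian scheme with a generic point, a sheaf with finite stalks and constructible
cardinality loci is finite locally constant along an immersion onto an open neighbourhood of the
generic point -/
theorem exists_flc_nhd_generic [IsNoetherian Y] (G : EtCoh.Ab Y)
    (hfin : ∀ (Ω : Type u) [Field Ω] [IsSepClosed Ω] (ξ : Spec (CommRingCat.of Ω) ⟶ Y),
      Finite ((EtCoh.stalk ξ).obj G))
    {y₀ : Y} (hy₀ : IsGenericPoint y₀ ⊤) (hcons : ∀ n, IsConstructible (cardLocus G n)) :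
    ∃ (V : Y.Opens) (T : Scheme.{u}) (g : T ⟶ Y), IsImmersion g ∧ y₀ ∈ V ∧
      Set.range g = (V : Set Y) ∧ QF G g := by
  obtain ⟨Ω, i1, i2, ξ₀, hξ₀⟩ := exists_geometric_point y₀
  haveI := hfin Ω ξ₀
  obtain ⟨n, hn⟩ : ∃ n, Nat.card ((EtCoh.stalk ξ₀).obj G) = n := ⟨_, rfl⟩
  have hy₀n : y₀ ∈ cardLocus G n := ⟨Ω, i1, i2, ξ₀, hξ₀, hn⟩
  obtain ⟨U, hUo, hy₀U, hUn⟩ := (Groth.Agent.S0173.constructible_generic hy₀ (hcons n)).2 hy₀n
  have hGt := isTorsion_of_finite_stalks G hfin
  obtain ⟨j, hj⟩ := exists_J_surjective G hGt ξ₀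
  have hD : EtPBC.IsConstructible (JObj.over G j).left := isConstructible_J G j
  obtain ⟨N, hN, hDN⟩ := exists_killedBy_of_isConstructible _ hD
  obtain ⟨φ, hφ⟩ : ∃ φ : (JObj.over G j).left ⟶ G, φ = (JObj.over G j).hom := ⟨_, rfl⟩
  rw [← hφ] at hj
  have hG' : EtPBC.IsConstructible (Limits.image φ) :=
    isConstructible_of_epi (factorThruImage φ) N hN hDN hD
  -- the stalk of the image at `ξ₀` is everything
  have hinj : ∀ (Ω' : Type u) [Field Ω'] [IsSepClosed Ω'] (ξ : Spec (CommRingCat.of Ω') ⟶ Y),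
      Function.Injective ((EtCoh.stalk ξ).map (Limits.image.ι φ)).hom := by
    intro Ω' _ _ ξ
    haveI : Mono ((EtCoh.stalk ξ).map (Limits.image.ι φ)) := inferInstance
    exact (AddCommGrpCat.mono_iff_injective _).1 inferInstance
  have hsurj₀ : Function.Surjective ((EtCoh.stalk ξ₀).map (Limits.image.ι φ)).hom := by
    intro a
    obtain ⟨b, hb⟩ := hj a
    refine ⟨((EtCoh.stalk ξ₀).map (factorThruImage φ)).hom b, ?_⟩
    rw [← stalk_comp_apply, Limits.image.fac]
    exact hb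
  have hn' : Nat.card ((EtCoh.stalk ξ₀).obj (Limits.image φ)) = n := by
    rw [← hn]
    exact Nat.card_congr (Equiv.ofBijective _ ⟨hinj Ω ξ₀, hsurj₀⟩)
  have hy₀n' : y₀ ∈ cardLocus (Limits.image φ) n := ⟨Ω, i1, i2, ξ₀, hξ₀, hn'⟩
  -- a stratum of the image around the generic point
  obtain ⟨V', T', g', hg'imm, hy₀V', hg'r, hQ'⟩ :=
    Groth.Agent.Lib.Helper23StrataNoeth.Constr.exists_of_point ((isConstructible_iff _).1 hG') y₀
  have hcl : closure {y₀} = Set.univ := hy₀.def
  rw [hcl, Set.inter_univ] at hg'r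
  let Uo : Y.Opens := ⟨U, hUo⟩
  let T'' : T'.Opens := g' ⁻¹ᵁ Uo
  obtain ⟨g'', hg''⟩ : ∃ g'' : T''.toScheme ⟶ Y, g'' = T''.ι ≫ g' := ⟨_, rfl⟩
  haveI : IsImmersion g'' := by rw [hg'']; infer_instance
  have hr'' : Set.range g'' = ((V' ⊓ Uo : Y.Opens) : Set Y) := by
    rw [hg'', Scheme.Hom.comp_base, TopCat.coe_comp, Set.range_comp, Scheme.Opens.range_ι]
    ext y
    constructor
    · rintro ⟨t, ht, rfl⟩
      exact ⟨hg'r ▸ ⟨t, rfl⟩, ht⟩
    · rintro ⟨hyV, hyU⟩
      have : y ∈ Set.range g' := hg'r ▸ hyV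
      obtain ⟨t, rfl⟩ := this
      exact ⟨t, hyU, rfl⟩
  have hflc : EtCoh.IsFiniteLocallyConstant ((EtCoh.pull g'').obj (Limits.image φ)) := by
    have := (QF (Limits.image φ)).downward_closed hQ' T''.ι
    rw [← hg''] at this
    exact this
  -- the cardinality locus of the pulled back image is everything
  have hy₀r : y₀ ∈ Set.range g'' := by rw [hr'']; exact ⟨hy₀V', hy₀U⟩
  obtain ⟨t₀, ht₀⟩ := hy₀r
  have hcl₀ : closure {t₀} = Set.univ := by
    rw [g''.isEmbedding.isInducing.closure_eq_preimage_closure_image, Set.image_singleton, ht₀, hcl,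
      Set.preimage_univ]
  have hS : cardLocus ((EtCoh.pull g'').obj (Limits.image φ)) n = Set.univ := by
    have hclosed := (isClopen_cardLocus_of_isFlc _ hflc n).1
    have ht₀S : t₀ ∈ cardLocus ((EtCoh.pull g'').obj (Limits.image φ)) n := by
      rw [cardLocus_pull]
      change g'' t₀ ∈ cardLocus (Limits.image φ) n
      rw [ht₀]
      exact hy₀n'
    apply Set.eq_univ_of_univ_subset
    rw [← hcl₀]
    exact hclosed.closure_subset_iff.2 (Set.singleton_subset_iff.2 ht₀S)
  -- the cokernel of the inclusion vanishes along `g''`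
  have hsupp : ∀ t : T''.toScheme, g'' t ∉ EtPBC.supp (cokernel (Limits.image.ι φ)) := by
    intro t hsup
    have hyU : g'' t ∈ U := by
      have : g'' t ∈ ((V' ⊓ Uo : Y.Opens) : Set Y) := hr'' ▸ ⟨t, rfl⟩
      exact this.2
    obtain ⟨Ω', i3, i4, ξ, hξ, hc⟩ := hUn hyU
    have hd := apply_default_of_range ξ hξ
    obtain ⟨τ, rfl⟩ := exists_lift_of_immersion g'' ξ ⟨t, hd.symm⟩
    have hτt : τ default = t := by
      apply g''.isEmbedding.injective
      rw [← Scheme.Hom.comp_apply]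
      exact hd
    have htS : t ∈ cardLocus ((EtCoh.pull g'').obj (Limits.image φ)) n := hS ▸ Set.mem_univ t
    have h1 := (mem_cardLocus_iff_of_isFlc _ hflc n t).1 htS Ω' τ (range_eq_singleton τ hτt)
    rw [card_stalk_pull] at h1
    haveI := hfin Ω' (τ ≫ g'')
    have hbij : Function.Bijective ((EtCoh.stalk (τ ≫ g'')).map (Limits.image.ι φ)).hom :=
      (hinj Ω' (τ ≫ g'')).bijective_of_nat_card_le (by rw [h1, hc])
    have hz : IsZero ((EtCoh.stalk (τ ≫ g'')).obj (cokernel (Limits.image.ι φ))) := by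
      rw [isZero_stalk_cokernel_iff]
      exact AddMonoidHom.range_eq_top.2 hbij.2
    exact (mem_supp_iff _ _).1 hsup Ω' (τ ≫ g'') hξ hz
  haveI := isIso_pull_of_mono_of_supp g'' (Limits.image.ι φ) hsupp
  refine ⟨V' ⊓ Uo, T''.toScheme, g'', inferInstance, ⟨hy₀V', hy₀U⟩, hr'', ?_⟩
  exact isFiniteLocallyConstant_of_iso (asIso ((EtCoh.pull g'').map (Limits.image.ι φ))) hflc

/-- on a locally Noetherian scheme, a sheaf with finite stalks and locally constructible cardinality
loci is constructible -/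
theorem isConstructible_of_cardLocus {X : Scheme.{u}} [IsLocallyNoetherian X] (F : EtCoh.Ab X)
    (hfin : ∀ (Ω : Type u) [Field Ω] [IsSepClosed Ω] (ξ : Spec (CommRingCat.of Ω) ⟶ X),
      Finite ((EtCoh.stalk ξ).obj F))
    (h : ∀ n, IsLocallyConstructible (cardLocus F n)) : EtPBC.IsConstructible F := by
  rw [isConstructible_iff]
  apply Groth.Agent.Lib.Helper23StrataNoeth.Constr.of_points
  intro x
  obtain ⟨X₀, hX₀, hxX₀, -⟩ :=
    exists_isAffineOpen_mem_and_subset (X := X) (x := x) (U := ⊤) trivial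
  haveI : IsAffine X₀.toScheme := hX₀
  haveI : IsNoetherian X₀.toScheme := {}
  let x₀ : X₀.toScheme := ⟨x, hxX₀⟩
  obtain ⟨Y, c, hc, hcr⟩ := exists_closedImmersion (closure {x₀}) isClosed_closure
  haveI : IsLocallyNoetherian Y := LocallyOfFiniteType.isLocallyNoetherian c
  haveI : CompactSpace Y := QuasiCompact.compactSpace_of_compactSpace c
  haveI : IsNoetherian Y := {}
  obtain ⟨y₀, hy₀⟩ : x₀ ∈ Set.range c := hcr ▸ subset_closure rfl
  have hgen : IsGenericPoint y₀ ⊤ := by
    change closure {y₀} = Set.univ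
    rw [c.isEmbedding.isInducing.closure_eq_preimage_closure_image, Set.image_singleton, hy₀, ← hcr]
    exact Set.preimage_range _
  obtain ⟨f, hf⟩ : ∃ f : Y ⟶ X, f = c ≫ X₀.ι := ⟨_, rfl⟩
  haveI : IsImmersion f := by rw [hf]; infer_instance
  have hfinG : ∀ (Ω : Type u) [Field Ω] [IsSepClosed Ω] (ξ : Spec (CommRingCat.of Ω) ⟶ Y),
      Finite ((EtCoh.stalk ξ).obj ((EtCoh.pull f).obj F)) := by
    intro Ω _ _ ξ
    haveI := hfin Ω (ξ ≫ f)
    have e := (Groth.Agent.S0101.stalkPullIso f ξ).app F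
    exact Finite.of_equiv _ e.addCommGroupIsoToAddEquiv.toEquiv
  have hconsG : ∀ n, IsConstructible (cardLocus ((EtCoh.pull f).obj F) n) := by
    intro n
    rw [cardLocus_pull]
    have h1 : IsConstructible (X₀.ι ⁻¹' cardLocus F n) :=
      ((h n).preimage_of_isOpenEmbedding X₀.ι.isOpenEmbedding).isConstructible
    have h2 := h1.preimage c.continuous
      (fun s _ _ => Groth.Agent.Lib.Helper23StrataNoeth.isRetrocompact_of_noetherian _)
    rw [hf]
    exact h2
  obtain ⟨V, T, g, hgimm, hy₀V, hgr, hQ⟩ := exists_flc_nhd_generic _ hfinG hgen hconsG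
  obtain ⟨O, hO, hOV⟩ := c.isEmbedding.isInducing.isOpen_iff.1 V.2
  let W : X.Opens := X₀.ι ''ᵁ ⟨O, hO⟩
  refine ⟨W, T, g ≫ f, inferInstance, ?_, ?_, ?_⟩
  · refine ⟨x₀, ?_, rfl⟩
    change x₀ ∈ O
    rw [← hy₀]
    have : y₀ ∈ c ⁻¹' O := hOV ▸ hy₀V
    exact this
  · have hOV' : (V : Set Y) = c ⁻¹' O := hOV.symm
    rw [Scheme.Hom.comp_base, TopCat.coe_comp, Set.range_comp, hgr, hf, Scheme.Hom.comp_base,
      TopCat.coe_comp, Set.image_comp, hOV', Set.image_preimage_eq_inter_range, hcr,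
      X₀.ι.isEmbedding.isInducing.closure_eq_preimage_closure_image, Set.image_singleton,
      Set.image_inter_preimage]
    rfl
  · have : (QF F).pullback f g := by
      rw [QF_pull]
      exact hQ
    exact this

end Groth.Agent.Lib.Helper23StalkCard
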