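import Mathlib

/-!
# Radicial extensions: uniqueness of the maximal ideal of an integral closure (helper23)
`subsingleton_maximalSpectrum_of_radicial`: `A` a domain with fraction field `K` whose integral closure in `K`
is local; `L ⊇ K` a field such that every element of `L` integral over `A` has a positive power in `K`.
Then the integral closure of `A` in `L` has at most one maximal ideal.
-/

set_option autoImplicit false
set_option backward.isDefEq.respectTransparency.types false
universe u

namespace Groth.Agent.Lib.Helper23.SteinC

theorem subsingleton_maximalSpectrum_of_radicial {A K L : Type u} [CommRing A] [Field K] [Field L]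
    [Algebra A K] [Algebra A L] [Algebra K L] [IsScalarTower A K L]
    (hloc : IsLocalRing (integralClosure A K))
    (hrad : ∀ x : L, IsIntegral A x → ∃ (n : ℕ) (c : K), 0 < n ∧ x ^ n = algebraMap K L c) :
    Subsingleton (MaximalSpectrum (integralClosure A L)) := by
  haveI := hloc
  have hι : ∀ a : integralClosure A K, IsIntegral A (algebraMap K L (a : K)) := fun a =>
    a.2.map (IsScalarTower.toAlgHom A K L)
  let ι : integralClosure A K →+* integralClosure A L :=
    ((algebraMap K L).comp (integralClosure A K).val.toRingHom).codRestrict (integralClosure A L) hι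
  have hιcomp : ι.comp (algebraMap A (integralClosure A K)) = algebraMap A (integralClosure A L) := by
    ext a
    change algebraMap K L (algebraMap A K a) = algebraMap A L a
    rw [← IsScalarTower.algebraMap_apply]
  have hιint : ι.IsIntegral := by
    refine RingHom.IsIntegral.tower_top (algebraMap A (integralClosure A K)) ι ?_
    rw [hιcomp]
    exact algebraMap_isIntegral_iff.2 inferInstance
  have hcomap : ∀ Q : Ideal (integralClosure A L), Q.IsMaximal →
      Q.comap ι = IsLocalRing.maximalIdeal (integralClosure A K) := by
    intro Q hQ
    haveI := hQ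
    have : (Q.comap ι).IsMaximal := Ideal.isMaximal_comap_of_isIntegral_of_isMaximal' ι hιint Q
    exact IsLocalRing.eq_maximalIdeal this
  have hinjKL : Function.Injective (algebraMap K L) := (algebraMap K L).injective
  have key : ∀ (Q : Ideal (integralClosure A L)), Q.IsMaximal → ∀ b : integralClosure A L,
      b ∈ Q ↔ ∃ (n : ℕ) (c : integralClosure A K), 0 < n ∧ (b : L) ^ n = algebraMap K L (c : K) ∧
        c ∈ IsLocalRing.maximalIdeal (integralClosure A K) := by
    intro Q hQ b
    haveI := hQ
    have hQprime : Q.IsPrime := hQ.isPrime
    constructor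
    · intro hb
      obtain ⟨n, c, hn, hc⟩ := hrad (b : L) b.2
      have hcint : IsIntegral A c := by
        have h1 : IsIntegral A ((b : L) ^ n) := b.2.pow n
        rw [hc] at h1
        exact (isIntegral_algHom_iff (IsScalarTower.toAlgHom A K L) hinjKL).1 h1
      refine ⟨n, ⟨c, hcint⟩, hn, hc, ?_⟩
      rw [← hcomap Q hQ, Ideal.mem_comap]
      have : ι ⟨c, hcint⟩ = b ^ n := Subtype.ext hc.symm
      rw [this]
      exact Ideal.pow_mem_of_mem Q hb n hn
    · rintro ⟨n, c, hn, hc, hcm⟩
      rw [← hcomap Q hQ, Ideal.mem_comap] at hcm
      have : ι c = b ^ n := Subtype.ext hc.symm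
      rw [this] at hcm
      exact hQprime.mem_of_pow_mem n hcm
  refine ⟨fun Q₁ Q₂ => ?_⟩
  apply MaximalSpectrum.ext
  ext b
  rw [key Q₁.asIdeal Q₁.isMaximal b, key Q₂.asIdeal Q₂.isMaximal b]

end Groth.Agent.Lib.Helper23.SteinC
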