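import Mathlib

/-!
# Counting maximal ideals of an integral closure in a finite separable extension (helper23)
`card_maximalSpectrum_le_card_algHom`, `card_maximalSpectrum_le_finrank`: for an integrally closed local
domain `R` with fraction field `K` and a finite separable extension `E / K`, the integral closure of
`R` in `E` has at most `[E : K]` maximal ideals.
-/

set_option autoImplicit false
set_option backward.isDefEq.respectTransparency.types false
universe u

namespace Groth.Agent.Lib.Helper23.SteinD
open scoped Pointwise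

theorem card_maximalSpectrum_le_card_algHom {R K E N : Type u} [CommRing R] [IsDomain R]
    [IsIntegrallyClosed R] [IsLocalRing R] [Field K] [Field E] [Field N] [Algebra R K]
    [IsFractionRing R K] [Algebra K E] [Algebra R E] [IsScalarTower R K E] [FiniteDimensional K E]
    [Algebra K N] [Algebra R N] [IsScalarTower R K N] [FiniteDimensional K N] [IsGalois K N]
    (ι : E →ₐ[K] N) :
    Finite (MaximalSpectrum (integralClosure R E)) ∧
      Nat.card (MaximalSpectrum (integralClosure R E)) ≤ Nat.card (E →ₐ[K] N) := by
  classical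
  let B := integralClosure R E
  let C := integralClosure R N
  haveI : IsFractionRing C N := integralClosure.isFractionRing_of_finite_extension K N
  letI act : MulSemiringAction Gal(N/K) C := IsIntegralClosure.MulSemiringAction R K N C
  haveI hGG : IsGaloisGroup Gal(N/K) R C := IsGaloisGroup.of_isFractionRing _ _ _ K N
  haveI := hGG.commutes
  haveI := hGG.isInvariant
  have hsmul : ∀ (σ : Gal(N/K)) (c : C), ((σ • c : C) : N) = σ (c : N) := fun σ c =>
    algebraMap_galRestrict_apply R σ c
  -- restriction of embeddings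
  have hτint : ∀ (τ : E →ₐ[K] N) (x : B), IsIntegral R (τ (x : E)) := fun τ x =>
    x.2.map (τ.restrictScalars R)
  let τB : (E →ₐ[K] N) → (B →+* C) := fun τ =>
    ((τ : E →+* N).comp (integralClosure R E).val.toRingHom).codRestrict (integralClosure R N)
      (hτint τ)
  have hτBcomp : ∀ τ, (τB τ).comp (algebraMap R B) = algebraMap R C := by
    intro τ
    ext r
    change τ (algebraMap R E r) = algebraMap R N r
    rw [IsScalarTower.algebraMap_apply R K E, AlgHom.commutes, ← IsScalarTower.algebraMap_apply]
  have hτBint : ∀ τ, (τB τ).IsIntegral := by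
    intro τ
    refine RingHom.IsIntegral.tower_top (algebraMap R B) (τB τ) ?_
    rw [hτBcomp]
    exact algebraMap_isIntegral_iff.2 inferInstance
  have hτBinj : ∀ τ, Function.Injective (τB τ) := fun τ a b hab =>
    Subtype.ext (τ.toRingHom.injective (congrArg Subtype.val hab))
  obtain ⟨P₀, hP₀⟩ := Ideal.exists_maximal C
  haveI := hP₀
  let Φ : (E →ₐ[K] N) → MaximalSpectrum B := fun τ =>
    ⟨P₀.comap (τB τ), Ideal.isMaximal_comap_of_isIntegral_of_isMaximal' (τB τ) (hτBint τ) P₀⟩
  have hunder : ∀ P : Ideal C, P.IsMaximal → P.under R = IsLocalRing.maximalIdeal R := by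
    intro P hP
    haveI := hP
    have : (P.under R).IsMaximal := Ideal.isMaximal_comap_of_isIntegral_of_isMaximal (R := R) P
    exact IsLocalRing.eq_maximalIdeal this
  have hsurj : Function.Surjective Φ := by
    intro Q
    haveI := Q.isMaximal
    haveI hQprime : Q.asIdeal.IsPrime := Q.isMaximal.isPrime
    letI algBC : Algebra B C := (τB ι).toAlgebra
    haveI : Algebra.IsIntegral B C := ⟨hτBint ι⟩
    obtain ⟨P, -, hPprime, hPQ⟩ := Ideal.exists_ideal_over_prime_of_isIntegral Q.asIdeal
      (⊥ : Ideal C) (by
        have : (⊥ : Ideal C).comap (algebraMap B C) = ⊥ := by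
          rw [← RingHom.ker_eq_comap_bot]
          exact (RingHom.injective_iff_ker_eq_bot _).1 (hτBinj ι)
        rw [this]; exact bot_le)
    have hPQ' : P.comap (τB ι) = Q.asIdeal := hPQ
    haveI := hPprime
    have hPmax : P.IsMaximal :=
      Ideal.isMaximal_of_isIntegral_of_isMaximal_comap' (τB ι) (hτBint ι) P (by
        rw [hPQ']; exact Q.isMaximal)
    obtain ⟨g, hg⟩ := Algebra.IsInvariant.exists_smul_of_under_eq R C Gal(N/K) P₀ P
      ((hunder P₀ hP₀).trans (hunder P hPmax).symm)
    refine ⟨((g⁻¹ : Gal(N/K)) : N →ₐ[K] N).comp ι, ?_⟩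
    apply MaximalSpectrum.ext
    change P₀.comap (τB (((g⁻¹ : Gal(N/K)) : N →ₐ[K] N).comp ι)) = Q.asIdeal
    rw [← hPQ', hg]
    ext x
    rw [Ideal.mem_comap, Ideal.mem_comap, Ideal.mem_pointwise_smul_iff_inv_smul_mem]
    have : τB (((g⁻¹ : Gal(N/K)) : N →ₐ[K] N).comp ι) x = g⁻¹ • (τB ι x) := by
      apply Subtype.ext
      rw [hsmul]
      rfl
    rw [this]
  haveI : Finite (E →ₐ[K] N) := inferInstance
  exact ⟨Finite.of_surjective Φ hsurj, Nat.card_le_card_of_surjective Φ hsurj⟩

end Groth.Agent.Lib.Helper23.SteinD

namespace Groth.Agent.Lib.Helper23.SteinD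

theorem card_maximalSpectrum_le_finrank {R K E : Type u} [CommRing R] [IsDomain R]
    [IsIntegrallyClosed R] [IsLocalRing R] [Field K] [Field E] [Algebra R K]
    [IsFractionRing R K] [Algebra K E] [Algebra R E] [IsScalarTower R K E] [FiniteDimensional K E]
    [Algebra.IsSeparable K E] :
    Finite (MaximalSpectrum (integralClosure R E)) ∧
      Nat.card (MaximalSpectrum (integralClosure R E)) ≤ Module.finrank K E := by
  let Ω := AlgebraicClosure E
  haveI : IsAlgClosure K Ω := IsAlgClosure.ofAlgebraic K E Ω
  haveI : Normal K Ω := IsAlgClosure.normal K Ω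
  let N : IntermediateField K Ω := IntermediateField.normalClosure K E Ω
  haveI : Algebra.IsSeparable K N := by
    change Algebra.IsSeparable K ↥(⨆ f : E →ₐ[K] Ω, f.fieldRange)
    haveI : ∀ f : E →ₐ[K] Ω, Algebra.IsSeparable K f.fieldRange := fun f =>
      AlgEquiv.Algebra.isSeparable (AlgEquiv.ofInjectiveField f)
    exact IntermediateField.isSeparable_iSup K Ω
  haveI : Normal K N := normalClosure.normal K E Ω
  haveI : IsGalois K N := ⟨⟩
  haveI : FiniteDimensional K N := normalClosure.is_finiteDimensional K E Ω
  have h := card_maximalSpectrum_le_card_algHom (R := R) (K := K) (E := E) (N := N)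
    (IsScalarTower.toAlgHom K E N)
  refine ⟨h.1, h.2.trans (le_of_eq ?_)⟩
  refine AlgHom.natCard_of_splits K E N (fun x => ?_)
  have h1 := Normal.splits (inferInstance : Normal K N) (algebraMap E N x)
  rwa [minpoly.algebraMap_eq (algebraMap E N).injective] at h1

end Groth.Agent.Lib.Helper23.SteinD
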