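import Mathlib
import Groth.Agent.Lib.Helper23SteinD

/-!
# Maximal ideals of integral closures and the separable degree (helper23)
* `card_maximalSpectrum_le_of_radicial`: radicial transfer of maximal ideals.
* `card_maximalSpectrum_le_finrank_of_radicial`: `R` integrally closed local domain with fraction field `K`,
  `K ⊆ Ks ⊆ L` with `Ks / K` finite separable and every element of `L` algebraic over `K` having a positive power
  in `Ks`: the integral closure of `R` in `L` has at most `[Ks : K]` maximal ideals.
-/

set_option autoImplicit false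
set_option backward.isDefEq.respectTransparency.types false
universe u

namespace Groth.Agent.Lib.Helper23.SteinE

theorem card_maximalSpectrum_le_of_radicial {R F L : Type u} [CommRing R] [Field F] [Field L]
    [Algebra R F] [Algebra R L] [Algebra F L]
    (h1 : ∀ c : F, IsIntegral R c → IsIntegral R (algebraMap F L c))
    (h2 : ∀ x : L, IsIntegral R x → ∃ (m : ℕ) (c : F), 0 < m ∧ IsIntegral R c ∧
      x ^ m = algebraMap F L c)
    [Finite (MaximalSpectrum (integralClosure R F))] :
    Finite (MaximalSpectrum (integralClosure R L)) ∧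
      Nat.card (MaximalSpectrum (integralClosure R L)) ≤
        Nat.card (MaximalSpectrum (integralClosure R F)) := by
  let j : integralClosure R F →+* integralClosure R L :=
    ((algebraMap F L).comp (integralClosure R F).val.toRingHom).codRestrict (integralClosure R L)
      (fun c => h1 c.1 c.2)
  have hjint : j.IsIntegral := by
    intro b
    obtain ⟨m, c, hm, hc, hbc⟩ := h2 b.1 b.2
    have hb : b ^ m = j ⟨c, hc⟩ := Subtype.ext hbc
    refine ⟨Polynomial.X ^ m - Polynomial.C (⟨c, hc⟩ : integralClosure R F),
      Polynomial.monic_X_pow_sub_C _ hm.ne', ?_⟩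
    rw [Polynomial.eval₂_sub, Polynomial.eval₂_pow, Polynomial.eval₂_X, Polynomial.eval₂_C, hb,
      sub_self]
  let Ψ : MaximalSpectrum (integralClosure R L) → MaximalSpectrum (integralClosure R F) :=
    fun Q => ⟨Q.asIdeal.comap j,
      haveI := Q.isMaximal
      Ideal.isMaximal_comap_of_isIntegral_of_isMaximal' j hjint Q.asIdeal⟩
  have hΨ : Function.Injective Ψ := by
    intro Q₁ Q₂ h
    have h' : Q₁.asIdeal.comap j = Q₂.asIdeal.comap j := congrArg MaximalSpectrum.asIdeal h
    apply MaximalSpectrum.ext
    ext b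
    obtain ⟨m, c, hm, hc, hbc⟩ := h2 b.1 b.2
    have hb : b ^ m = j ⟨c, hc⟩ := Subtype.ext hbc
    have key : ∀ Q : MaximalSpectrum (integralClosure R L),
        b ∈ Q.asIdeal ↔ (⟨c, hc⟩ : integralClosure R F) ∈ Q.asIdeal.comap j := by
      intro Q
      rw [Ideal.mem_comap, ← hb]
      exact ⟨fun hbQ => Ideal.pow_mem_of_mem _ hbQ m hm,
        fun hbQ => Q.isMaximal.isPrime.mem_of_pow_mem m hbQ⟩
    rw [key Q₁, key Q₂, h']
  exact ⟨Finite.of_injective Ψ hΨ, Nat.card_le_card_of_injective Ψ hΨ⟩

theorem card_maximalSpectrum_le_finrank_of_radicial {R K Ks L : Type u} [CommRing R] [IsDomain R]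
    [IsIntegrallyClosed R] [IsLocalRing R] [Field K] [Field Ks] [Field L] [Algebra R K]
    [IsFractionRing R K] [Algebra K Ks] [Algebra K L] [Algebra Ks L] [IsScalarTower K Ks L]
    [Algebra R Ks] [IsScalarTower R K Ks] [Algebra R L] [IsScalarTower R K L]
    [FiniteDimensional K Ks] [Algebra.IsSeparable K Ks]
    (hrad : ∀ x : L, IsAlgebraic K x → ∃ (m : ℕ) (c : Ks), 0 < m ∧ x ^ m = algebraMap Ks L c) :
    Finite (MaximalSpectrum (integralClosure R L)) ∧
      Nat.card (MaximalSpectrum (integralClosure R L)) ≤ Module.finrank K Ks := by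
  haveI : IsScalarTower R Ks L := by
    refine IsScalarTower.of_algebraMap_eq (fun r => ?_)
    rw [IsScalarTower.algebraMap_apply R K L, IsScalarTower.algebraMap_apply K Ks L,
      ← IsScalarTower.algebraMap_apply R K Ks]
  obtain ⟨hfin, hcard⟩ := Groth.Agent.Lib.Helper23.SteinD.card_maximalSpectrum_le_finrank
    (R := R) (K := K) (E := Ks)
  haveI := hfin
  obtain ⟨hfin', hcard'⟩ := card_maximalSpectrum_le_of_radicial (R := R) (F := Ks) (L := L)
    (fun c hc => hc.map (IsScalarTower.toAlgHom R Ks L))
    (fun x hx => by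
      have hxK : IsIntegral K x := hx.tower_top
      obtain ⟨m, c, hm, hc⟩ := hrad x hxK.isAlgebraic
      refine ⟨m, c, hm, ?_, hc⟩
      have h3 : IsIntegral R (x ^ m) := hx.pow m
      rw [hc] at h3
      exact (isIntegral_algebraMap_iff (algebraMap Ks L).injective).1 h3)
  exact ⟨hfin', hcard'.trans hcard⟩

end Groth.Agent.Lib.Helper23.SteinE
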