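import Mathlib
import Groth.Prelude.Def_ega3

/-!
# Stein factorisation, part G (helper23): function fields
* `stalkToFunctionField_comp`: `CohIII.stalkToFunctionField` of a composite.
* `exists_polynomial_of_isIntegralHom`: for an integral morphism of integral schemes the function field
  extension is algebraic.
* `isPurelyInseparable_residueFieldMap`: if the algebraic closure of `R(Y)` in `R(X)` is purely inseparable
  over `R(Y)` and `X → Y' → Y` with `Y' → Y` integral, then `k(η_Y) → k(η_{Y'})` is purely inseparable.
-/

set_option autoImplicit false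
set_option backward.isDefEq.respectTransparency.types false
universe u

namespace Groth.Agent.Lib.Helper23.SteinG
open AlgebraicGeometry CategoryTheory Limits IsLocalRing

theorem stalkToFunctionField_comp {X Y' Y : Scheme.{u}} [IsIntegral X] [IsIntegral Y']
    (f' : X ⟶ Y') (g : Y' ⟶ Y) (y : Y)
    (hf' : f'.base (genericPoint X) ⤳ genericPoint Y') (hg : g.base (genericPoint Y') ⤳ y)
    (h : (f' ≫ g).base (genericPoint X) ⤳ y) :
    CohIII.stalkToFunctionField (f' ≫ g) y h =
      (CohIII.stalkToFunctionField f' (genericPoint Y') hf').comp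
        (CohIII.stalkToFunctionField g y hg) := by
  unfold CohIII.stalkToFunctionField
  have key : Y.presheaf.stalkSpecializes h ≫ (f' ≫ g).stalkMap (genericPoint X) =
      (Y.presheaf.stalkSpecializes hg ≫ g.stalkMap (genericPoint Y')) ≫
        (Y'.presheaf.stalkSpecializes hf' ≫ f'.stalkMap (genericPoint X)) := by
    rw [Scheme.Hom.stalkMap_comp, Category.assoc,
      ← Scheme.Hom.stalkSpecializes_stalkMap_assoc g _ _ hf', ← Category.assoc,
      TopCat.Presheaf.stalkSpecializes_comp]
    rfl
  ext a
  exact congr(($key).hom a)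

/-- for an integral morphism of integral schemes sending generic point to generic point, the
function field extension is algebraic -/
theorem exists_polynomial_of_isIntegralHom {Y' Y : Scheme.{u}} [IsIntegral Y'] [IsIntegral Y]
    (g : Y' ⟶ Y) [IsIntegralHom g] (hg : g.base (genericPoint Y') ⤳ genericPoint Y)
    (t : Y'.functionField) :
    ∃ q : Polynomial Y.functionField, q ≠ 0 ∧
      Polynomial.eval₂ (CohIII.stalkToFunctionField g (genericPoint Y) hg) t q = 0 := by
  obtain ⟨_, ⟨U, hU, rfl⟩, hηU, -⟩ := Y.isBasis_affineOpens.exists_subset_of_mem_open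
    (Set.mem_univ (genericPoint Y)) isOpen_univ
  have hgη : g (genericPoint Y') = genericPoint Y :=
    (hg.antisymm ((genericPoint_spec Y).specializes trivial)).eq
  let V : Y'.Opens := g ⁻¹ᵁ U
  have hV : IsAffineOpen V := hU.preimage g
  have hη'V : genericPoint Y' ∈ V := by
    change g (genericPoint Y') ∈ U
    rw [hgη]; exact hηU
  haveI : Nonempty U := ⟨⟨_, hηU⟩⟩
  haveI : Nonempty V := ⟨⟨_, hη'V⟩⟩
  let R : Type u := Γ(Y, U)
  let R' : Type u := Γ(Y', V)
  let K : Type u := Y.functionField
  let L : Type u := Y'.functionField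
  let α : K →+* L := CohIII.stalkToFunctionField g (genericPoint Y) hg
  letI algRR' : Algebra R R' := (g.app U).hom.toAlgebra
  haveI : Algebra.IsIntegral R R' := ⟨IsIntegralHom.isIntegral_app g U hU⟩
  letI algKL : Algebra K L := α.toAlgebra
  letI algRL : Algebra R L := ((algebraMap R' L).comp (algebraMap R R')).toAlgebra
  haveI : IsScalarTower R R' L := IsScalarTower.of_algebraMap_eq (fun _ => rfl)
  haveI : IsScalarTower R K L := by
    refine IsScalarTower.of_algebraMap_eq (fun r => ?_)
    have e1 : g.app U ≫ Y'.presheaf.germ V (genericPoint Y') hη'V =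
        Y.presheaf.germ U (genericPoint Y) hηU ≫ Y.presheaf.stalkSpecializes hg ≫
          g.stalkMap (genericPoint Y') := by
      rw [TopCat.Presheaf.germ_stalkSpecializes_assoc, Scheme.Hom.germ_stalkMap]
    exact congr(($e1).hom r)
  haveI : IsFractionRing R' L := functionField_isFractionRing_of_isAffineOpen Y' V hV
  have halg : Algebra.IsAlgebraic K L := isAlgebraic_of_isFractionRing R R' K L
  obtain ⟨q, hq0, hq⟩ := halg.isAlgebraic t
  exact ⟨q, hq0, hq⟩

theorem isPurelyInseparable_residueFieldMap {X Y' Y : Scheme.{u}} [IsIntegral X] [IsIntegral Y']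
    [IsIntegral Y] (f' : X ⟶ Y') (g : Y' ⟶ Y) (f : X ⟶ Y) (w : f' ≫ g = f) [IsIntegralHom g]
    (hf' : f'.base (genericPoint X) ⤳ genericPoint Y')
    (hg : g.base (genericPoint Y') ⤳ genericPoint Y)
    (hdom : f.base (genericPoint X) ⤳ genericPoint Y)
    (hrad : ∀ x : X.functionField,
      (∃ q : Polynomial Y.functionField, q ≠ 0 ∧
        Polynomial.eval₂ (CohIII.stalkToFunctionField f (genericPoint Y) hdom) x q = 0) →
      ∃ e : ℕ, x ^ (ringExpChar X.functionField ^ e) ∈
        Set.range (CohIII.stalkToFunctionField f (genericPoint Y) hdom)) :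
    (g.residueFieldMap (genericPoint Y')).hom.IsPurelyInseparable := by
  subst w
  let K : Type u := Y.functionField
  let L' : Type u := Y'.functionField
  let L : Type u := X.functionField
  let α : K →+* L' := CohIII.stalkToFunctionField g (genericPoint Y) hg
  let β : L' →+* L := CohIII.stalkToFunctionField f' (genericPoint Y') hf'
  have hσ := stalkToFunctionField_comp f' g (genericPoint Y) hf' hg hdom
  have hβinj : Function.Injective β := β.injective
  set p := ringExpChar L with hp
  -- every element of L' has a p-power in the range of α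
  have hpow : ∀ t : L', ∃ e : ℕ, ∃ a : K, α a = t ^ (p ^ e) := by
    intro t
    obtain ⟨q, hq0, hq⟩ := exists_polynomial_of_isIntegralHom g hg t
    have h1 : Polynomial.eval₂ (CohIII.stalkToFunctionField (f' ≫ g) (genericPoint Y) hdom)
        (β t) q = 0 := by
      rw [hσ, ← Polynomial.hom_eval₂, hq, map_zero]
    obtain ⟨e, a, ha⟩ := hrad (β t) ⟨q, hq0, h1⟩
    refine ⟨e, a, hβinj ?_⟩
    rw [map_pow, ← ha, hσ]
    rfl
  -- ExpChar instances
  haveI e1 : ExpChar L' p := RingHom.expChar β hβinj p
  haveI e2 : ExpChar (Y'.residueField (genericPoint Y')) p :=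
    expChar_of_injective_ringHom (f := (Y'.residue (genericPoint Y')).hom)
      (RingHom.injective _) p
  haveI e3 : ExpChar (Y.residueField (g (genericPoint Y'))) p :=
    RingHom.expChar (g.residueFieldMap (genericPoint Y')).hom (RingHom.injective _) p
  rw [RingHom.IsPurelyInseparable]
  letI := (g.residueFieldMap (genericPoint Y')).hom.toAlgebra
  rw [isPurelyInseparable_iff_pow_mem _ p]
  intro tbar
  obtain ⟨t, rfl⟩ := Y'.residue_surjective (genericPoint Y') tbar
  obtain ⟨e, a, ha⟩ := hpow t
  refine ⟨e, ?_⟩
  refine ⟨Y.residue (g (genericPoint Y')) ((Y.presheaf.stalkSpecializes hg).hom a), ?_⟩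
  have h2 := congr(($(Scheme.residue_residueFieldMap g (genericPoint Y'))).hom
    ((Y.presheaf.stalkSpecializes hg).hom a))
  rw [← map_pow, ← ha]
  exact h2

end Groth.Agent.Lib.Helper23.SteinG
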