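import Mathlib
import Groth.Agent.Lib.Helper23Strata

/-!
# Strata from a covering family of constructible immersions (helper23)

* `exists_compact_open`: a compact locally closed set is closed in a compact open neighbourhood.
* `Str.of_immersions`: on a qcqs scheme, finitely many immersions with constructible ranges covering `X`, each
  carrying strata, give strata on `X`.
* `Constr.of_immersions`: same for an arbitrary family (compactness of the constructible topology), with
  `Constr` on each member.
-/

set_option autoImplicit false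
universe u
open CategoryTheory CategoryTheory.Limits AlgebraicGeometry Opposite Topology

namespace Groth.Agent.Lib.Helper23StrataD

open Groth.Agent.Lib.Helper23Strata

variable {X : Scheme.{u}}

/-- a compact constructible locally closed set is closed in some compact open neighbourhood -/
theorem exists_compact_open (Z : Set X) (hZ : IsLocallyClosed Z) (hZc : IsCompact Z) :
    ∃ O : X.Opens, IsCompact (O : Set X) ∧ Z ⊆ O ∧ (O : Set X) ∩ closure Z ⊆ Z := by
  have hopen : IsOpen (coborder Z) := isLocallyClosed_iff_isOpen_coborder.1 hZ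
  have hb := PrespectralSpace.isTopologicalBasis (X := X)
  have h1 : ∀ z ∈ Z, ∃ V : Set X, (IsOpen V ∧ IsCompact V) ∧ z ∈ V ∧ V ⊆ coborder Z := fun z hz =>
    hb.exists_subset_of_mem_open (subset_coborder hz) hopen
  choose V hV hzV hVc using h1
  obtain ⟨t, ht⟩ := hZc.elim_finite_subcover (fun z : Z => V z.1 z.2) (fun z => (hV z.1 z.2).1)
    (fun z hz => Set.mem_iUnion.2 ⟨⟨z, hz⟩, hzV z hz⟩)
  refine ⟨⟨⋃ z ∈ t, V z.1 z.2, isOpen_biUnion fun z _ => (hV z.1 z.2).1⟩,
    t.isCompact_biUnion fun z _ => (hV z.1 z.2).2, ht, ?_⟩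
  rintro x ⟨hx1, hx2⟩
  have hx3 : x ∈ coborder Z := by
    simp only [TopologicalSpace.Opens.coe_mk, Set.mem_iUnion] at hx1
    obtain ⟨z, _, hz⟩ := hx1
    exact hVc z.1 z.2 hz
  rw [← coborder_inter_closure (s := Z)]
  exact ⟨hx3, hx2⟩

theorem pullback_snd_eq {Q : Sieve X} {T Y : Scheme.{u}} (g : T ⟶ X) (m : Y ⟶ X) :
    (Q.pullback m).pullback (pullback.snd g m) = (Q.pullback g).pullback (pullback.fst g m) := by
  rw [← Sieve.pullback_comp, ← Sieve.pullback_comp, pullback.condition]

theorem Str.of_immersions : ∀ (r : ℕ) {X : Scheme.{u}} [CompactSpace X] [QuasiSeparatedSpace X]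
    (Q : Sieve X) (T : Fin r → Scheme.{u}) (g : ∀ i, T i ⟶ X) (_ : ∀ i, IsImmersion (g i)),
    (∀ i, IsConstructible (Set.range (g i))) → (⋃ i, Set.range (g i)) = Set.univ →
    (∀ i, Str (Q.pullback (g i))) → Str Q := by
  intro r
  induction r with
  | zero =>
    intro X _ _ Q T g _ _ hcov _
    haveI : IsEmpty X := by
      constructor
      intro x
      have hx : x ∈ ⋃ i, Set.range (g i) := by rw [hcov]; trivial
      obtain ⟨l, -⟩ := Set.mem_iUnion.1 hx
      exact l.elim0
    exact Str.of_isEmpty
  | succ r ih =>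
    intro X _ _ Q T g hg hc hcov h
    haveI := hg
    have key : ∀ {Y : Scheme.{u}} [CompactSpace Y] [QuasiSeparatedSpace Y] (m : Y ⟶ X),
        (∀ y, m y ∉ Set.range (g 0)) → Str (Q.pullback m) := by
      intro Y _ _ m hm
      refine ih (Q.pullback m) (fun i => pullback (g i.succ) m) (fun i => pullback.snd (g i.succ) m)
        (fun i => inferInstance) (fun i => ?_) ?_ (fun i => ?_)
      · rw [Scheme.Pullback.range_snd]
        exact Scheme.Hom.isConstructible_preimage m (hc i.succ)
      · apply Set.eq_univ_of_forall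
        intro y
        have hy : m y ∈ ⋃ i, Set.range (g i) := by rw [hcov]; trivial
        obtain ⟨l, hl⟩ := Set.mem_iUnion.1 hy
        obtain ⟨l', rfl⟩ : ∃ l', Fin.succ l' = l := by
          refine Fin.exists_succ_eq.2 ?_
          rintro rfl
          exact hm y hl
        refine Set.mem_iUnion.2 ⟨l', ?_⟩
        rw [Scheme.Pullback.range_snd]
        exact hl
      · rw [pullback_snd_eq]
        exact (h i.succ).pull _
    obtain ⟨O, hOc, hZO, hOZ⟩ := exists_compact_open (Set.range (g 0)) (g 0).isLocallyClosed_range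
      (ConsTop.isCompact_of_isConstructible (hc 0))
    obtain ⟨C, c, hc1, hc2⟩ := exists_closedImmersion ((O : Set X)ᶜ) O.isOpen.isClosed_compl
    haveI : CompactSpace C := QuasiCompact.compactSpace_of_compactSpace c
    haveI : QuasiSeparatedSpace C := quasiSeparatedSpace_of_quasiSeparated c
    refine Str.glue O (hOc.isRetrocompact O.isOpen) c hc2 ?_ (key c ?_)
    swap
    · intro y hy
      have : c y ∈ Set.range c := ⟨y, rfl⟩
      rw [hc2] at this
      exact this (hZO hy)
    haveI : CompactSpace O.toScheme := isCompact_iff_compactSpace.1 hOc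
    haveI : QuasiSeparatedSpace O.toScheme := quasiSeparatedSpace_of_quasiSeparated O.ι
    have hsub : Set.range (g 0) ⊆ Set.range O.ι := by
      rw [Scheme.Opens.range_ι]; exact hZO
    let g0' : T 0 ⟶ O.toScheme := IsOpenImmersion.lift O.ι (g 0) hsub
    have hg0' : g0' ≫ O.ι = g 0 := IsOpenImmersion.lift_fac _ _ _
    have hr : Set.range g0' = O.ι ⁻¹' Set.range (g 0) := by
      rw [← hg0', Scheme.Hom.comp_base, TopCat.coe_comp, Set.range_comp,
        Set.preimage_image_eq _ O.ι.isEmbedding.injective]
    haveI : IsImmersion g0' := by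
      haveI : IsImmersion (g0' ≫ O.ι) := by rw [hg0']; infer_instance
      exact IsImmersion.of_comp g0' O.ι
    have hclosed : IsClosed (Set.range g0') := by
      have : Set.range g0' = O.ι ⁻¹' closure (Set.range (g 0)) := by
        rw [hr]
        ext y
        simp only [Set.mem_preimage]
        constructor
        · intro hy; exact subset_closure hy
        · intro hy; exact hOZ ⟨y.2, hy⟩
      rw [this]
      exact isClosed_closure.preimage O.ι.continuous
    haveI : IsClosedImmersion g0' := IsClosedImmersion.of_isPreimmersion g0' hclosed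
    have hcons : IsConstructible (Set.range g0') := by
      rw [hr]; exact Scheme.Hom.isConstructible_preimage O.ι (hc 0)
    let W : O.toScheme.Opens := ⟨(Set.range g0')ᶜ, hclosed.isOpen_compl⟩
    have hWc : IsCompact (W : Set O.toScheme) := ConsTop.isCompact_of_isConstructible hcons.compl
    haveI : CompactSpace W.toScheme := isCompact_iff_compactSpace.1 hWc
    haveI : QuasiSeparatedSpace W.toScheme := quasiSeparatedSpace_of_quasiSeparated W.ι
    refine Str.glue W (hWc.isRetrocompact W.isOpen) g0' (compl_compl _).symm ?_ ?_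
    · rw [← Sieve.pullback_comp]
      refine key (W.ι ≫ O.ι) ?_
      intro w hw
      have hw1 : W.ι w ∈ (W : Set O.toScheme) := w.2
      apply hw1
      rw [hr]
      exact hw
    · rw [← Sieve.pullback_comp, hg0']
      exact h 0

theorem Constr.of_immersions [CompactSpace X] [QuasiSeparatedSpace X] {Q : Sieve X} {ι : Type*}
    (T : ι → Scheme.{u}) (g : ∀ i, T i ⟶ X) [∀ i, IsImmersion (g i)]
    (hc : ∀ i, IsConstructible (Set.range (g i))) (hcov : (⋃ i, Set.range (g i)) = Set.univ)
    (h : ∀ i, Constr (Q.pullback (g i))) : Constr Q := by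
  rw [constr_iff_str]
  obtain ⟨t, ht⟩ := ConsTop.exists_finite_subcover (fun i => Set.range (g i)) hc hcov
  obtain ⟨r, ⟨e⟩⟩ := Finite.exists_equiv_fin t
  have hstr : ∀ i, Str (Q.pullback (g i)) := fun i => by
    haveI : CompactSpace (T i) := by
      rw [← isCompact_univ_iff, (g i).isEmbedding.isCompact_iff, Set.image_univ]
      exact ConsTop.isCompact_of_isConstructible (hc i)
    haveI : QuasiSeparatedSpace (T i) := quasiSeparatedSpace_of_quasiSeparated (g i)
    exact constr_iff_str.1 (h i)
  refine Str.of_immersions r Q (fun k => T (e.symm k).1) (fun k => g (e.symm k).1) (fun k => inferInstance)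
    (fun k => hc _) ?_ (fun k => hstr _)
  apply Set.eq_univ_of_forall
  intro x
  have hx : x ∈ ⋃ i ∈ t, Set.range (g i) := by rw [ht]; trivial
  simp only [Set.mem_iUnion] at hx ⊢
  obtain ⟨i, hi, hx⟩ := hx
  obtain ⟨k, hk⟩ := e.symm.surjective ⟨i, hi⟩
  refine ⟨k, ?_⟩
  rw [hk]
  exact hx

end Groth.Agent.Lib.Helper23StrataD
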