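import Mathlib
import Groth.Prelude.Def_EtBase
import Groth.Agent.Lib.Helper16EtStalk
import Groth.Agent.Lib.Helper21EtOpen

/-!
# A torsion abelian étale sheaf is the filtered colimit of its `n!`-torsion subsheaves (helper23)

* `tors F n = ker (n! : F → F)`, `D F : AsSmall.{u} ℕ ⥤ EtCoh.Ab X`, `φ F : colimit (D F) ⟶ F`;
* `mono_φ`, `isIso_φ` (for `F` torsion), `tors_smul_id`;
* `isAddTorsion_obj`: an additive functor to abelian groups commuting with colimits of shape
  `AsSmall.{u} ℕ` sends torsion sheaves to torsion groups.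
-/

set_option autoImplicit false
set_option backward.isDefEq.respectTransparency.types false
open CategoryTheory CategoryTheory.Limits AlgebraicGeometry Opposite
universe u

namespace Groth.Agent.Lib.Helper23TorsColim

open Groth.Agent.Lib.Helper21.EtOpen

variable {X : Scheme.{u}} (F : EtCoh.Ab X)

lemma nsmul_app (m : ℕ) (V : X.Etale) (t : F.obj.obj (op V)) :
    ((m • 𝟙 F : F ⟶ F).hom.app (op V)).hom t = m • t := by
  induction m with
  | zero =>
    rw [zero_nsmul, zero_nsmul]
    rfl
  | succ n ih =>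
    rw [succ_nsmul, succ_nsmul, Sheaf.Hom.add_app]
    change (ConcreteCategory.hom ((n • 𝟙 F : F ⟶ F).hom.app (op V))) t +
      (ConcreteCategory.hom ((𝟙 F : F ⟶ F).hom.app (op V))) t = _
    rw [ih]
    rfl

theorem exists_of_map_eq_zero {A B : EtCoh.Ab X} (f : A ⟶ B) (V : X.Etale)
    (e : A.obj.obj (op V)) (he : (f.hom.app (op V)).hom e = 0) :
    ∃ b : (kernel f).obj.obj (op V), ((kernel.ι f).hom.app (op V)).hom b = e := by
  let G : EtCoh.Ab X ⥤ AddCommGrpCat.{u + 1} :=
    sheafToPresheaf _ _ ⋙ (evaluation _ _).obj (op V)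
  let S : ShortComplex (EtCoh.Ab X) := ShortComplex.mk (kernel.ι f) f (kernel.condition f)
  have hS : S.Exact := ShortComplex.exact_kernel f
  haveI : Mono S.f := inferInstanceAs (Mono (kernel.ι f))
  haveI : G.PreservesZeroMorphisms := ⟨fun _ _ => rfl⟩
  have h : (S.map G).Exact := hS.map_of_mono_of_preservesKernel G inferInstance inferInstance
  rw [ShortComplex.ab_exact_iff] at h
  exact h e he

/-- the `n!`-torsion subsheaf -/
noncomputable def tors (n : ℕ) : EtCoh.Ab X := kernel ((n.factorial) • 𝟙 F)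

noncomputable def torsι (n : ℕ) : tors F n ⟶ F := kernel.ι _

instance mono_torsι (n : ℕ) : Mono (torsι F n) := inferInstanceAs (Mono (kernel.ι _))

lemma torsι_smul (n : ℕ) : torsι F n ≫ ((n.factorial) • 𝟙 F) = 0 := kernel.condition _

lemma tors_smul_id (n : ℕ) : (n.factorial) • 𝟙 (tors F n) = 0 := by
  rw [← cancel_mono (torsι F n), zero_comp, Preadditive.nsmul_comp, Category.id_comp]
  have := torsι_smul F n
  rwa [Preadditive.comp_nsmul, Category.comp_id] at this

noncomputable def torsSucc (n : ℕ) : tors F n ⟶ tors F (n + 1) :=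
  kernel.lift _ (torsι F n) (by
    rw [Nat.factorial_succ, mul_comm, mul_nsmul, Preadditive.comp_nsmul, torsι_smul, smul_zero])

lemma torsSucc_ι (n : ℕ) : torsSucc F n ≫ torsι F (n + 1) = torsι F n := kernel.lift_ι _ _ _

noncomputable def D' : ℕ ⥤ EtCoh.Ab X := Functor.ofSequence (torsSucc F)

noncomputable def cocone' : Cocone (D' F) where
  pt := F
  ι := NatTrans.ofSequence (fun n => torsι F n) (fun n => by
    dsimp only [D']
    rw [Functor.ofSequence_map_homOfLE_succ]
    simp only [Functor.const_obj_obj, Functor.const_obj_map, Category.comp_id]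
    exact torsSucc_ι F n)

abbrev J : Type u := AsSmall.{u} ℕ

instance : IsFiltered J.{u} := IsFiltered.of_equivalence AsSmall.equiv

noncomputable def eJ : AsSmall.{u + 1} ℕ ≌ J.{u} :=
  (AsSmall.equiv : ℕ ≌ AsSmall.{u + 1} ℕ).symm.trans (AsSmall.equiv : ℕ ≌ AsSmall.{u} ℕ)

instance hcJ : HasColimitsOfShape J.{u} (EtCoh.Ab X) :=
  hasColimitsOfShape_of_equivalence eJ.{u}

instance hasExact : HasExactColimitsOfShape J.{u} (EtCoh.Ab X) :=
  HasExactColimitsOfShape.of_domain_equivalence _ eJ.{u}

noncomputable def D : J ⥤ EtCoh.Ab X := AsSmall.down ⋙ D' F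

noncomputable def cocone : Cocone (D F) := (cocone' F).whisker AsSmall.down

lemma cocone_ι_app (j : J) : (cocone F).ι.app j = torsι F (AsSmall.down.obj j) := by
  dsimp only [cocone, Cocone.whisker, cocone']
  simp

/-- the comparison map from the colimit of the torsion subsheaves -/
noncomputable def φ : colimit (D F) ⟶ F := colimit.desc (D F) (cocone F)

lemma ι_φ (j : J) : colimit.ι (D F) j ≫ φ F = torsι F (AsSmall.down.obj j) :=
  (colimit.ι_desc (cocone F) j).trans (cocone_ι_app F j)

attribute [local instance] IsFiltered.isConnected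

instance mono_φ : Mono (φ F) := by
  let α : D F ⟶ (Functor.const J).obj F := (cocone F).ι
  haveI : ∀ j, Mono (α.app j) := fun j => by
    change Mono ((cocone F).ι.app j)
    rw [cocone_ι_app]
    exact mono_torsι F _
  haveI : Mono α := NatTrans.mono_of_mono_app α
  exact colim.map_mono' α (colimit.isColimit (D F)) (isColimitConstCocone J F) (φ F)
    (fun j => by
      refine (colimit.ι_desc (cocone F) j).trans ?_
      exact (Category.comp_id _).symm)

theorem isLocallySurjective_φ (hF : EtCoh.IsTorsion F) : Sheaf.IsLocallySurjective (φ F) := by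
  refine ⟨fun {U} s => ?_⟩
  rw [mem_smallEtale_iff]
  intro z
  obtain ⟨V, g, ⟨v, hv⟩, hfin⟩ := hF U s z
  refine ⟨V, g, v, ?_, hv⟩
  let k := addOrderOf (F.obj.map g.op s)
  have hk : 0 < k := hfin.addOrderOf_pos
  have h1 : (k.factorial) • (F.obj.map g.op s) = 0 := by
    exact addOrderOf_dvd_iff_nsmul_eq_zero.1 (Nat.dvd_factorial hk le_rfl)
  obtain ⟨b, hb⟩ := exists_of_map_eq_zero ((k.factorial) • 𝟙 F) V (F.obj.map g.op s) (by
    rw [nsmul_app]; exact h1)
  let j : J := AsSmall.up.obj k
  refine ⟨((colimit.ι (D F) j).hom.app (op V)).hom b, ?_⟩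
  have h2 := ι_φ F j
  have h3 : ((colimit.ι (D F) j ≫ φ F).hom.app (op V)).hom b = F.obj.map g.op s := by
    rw [h2]
    exact hb
  exact h3

theorem isIso_φ (hF : EtCoh.IsTorsion F) : IsIso (φ F) := by
  haveI := isLocallySurjective_φ F hF
  haveI : Epi (φ F) := inferInstance
  exact isIso_of_mono_of_epi _


open Groth.Agent.Lib.Helper16.EtStalk in
/-- an additive functor to abelian groups which commutes with colimits indexed by `AsSmall ℕ`
sends torsion sheaves to torsion groups. -/
theorem isAddTorsion_obj (G : EtCoh.Ab X ⥤ AddCommGrpCat.{u + 1}) [G.Additive]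
    [PreservesColimitsOfShape J.{u} G] (hF : EtCoh.IsTorsion F) :
    IsAddTorsion (G.obj F) := by
  intro x
  haveI := isIso_φ F hF
  have hcol : IsColimit (G.mapCocone (colimit.cocone (D F))) :=
    isColimitOfPreserves G (colimit.isColimit (D F))
  let x' : ToType (G.obj (colimit (D F))) := (G.map (inv (φ F))).hom x
  obtain ⟨j, y0, hy⟩ := Concrete.isColimit_exists_rep (D F ⋙ G) hcol x'
  let k : ℕ := AsSmall.down.obj j
  let y : ↑(G.obj (tors F k)) := y0
  have hy' : (G.map (colimit.ι (D F) j)).hom y = x' := hy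
  have hx : x = (G.map (torsι F k)).hom y := by
    have h1 : (G.map (φ F)).hom x' = x := by
      have h5 : (G.map (φ F)).hom ((G.map (inv (φ F))).hom x) =
          (G.map (inv (φ F) ≫ φ F)).hom x := by rw [G.map_comp]; rfl
      refine h5.trans ?_
      rw [IsIso.inv_hom_id, G.map_id]
      rfl
    have h4 : (G.map (φ F)).hom ((G.map (colimit.ι (D F) j)).hom y) =
        (G.map (colimit.ι (D F) j ≫ φ F)).hom y := by rw [G.map_comp]; rfl
    rw [← h1, ← hy', h4, ι_φ]
    rfl
  have hy0 : (k.factorial) • y = 0 := by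
    have h2 : G.map ((k.factorial) • 𝟙 (tors F k)) = (k.factorial) • G.map (𝟙 (tors F k)) :=
      G.map_nsmul
    rw [tors_smul_id, G.map_zero, G.map_id] at h2
    have h3 := ConcreteCategory.congr_hom h2 y
    exact h3.symm
  rw [isOfFinAddOrder_iff_nsmul_eq_zero]
  refine ⟨k.factorial, Nat.factorial_pos k, ?_⟩
  rw [hx]
  refine (map_nsmul (G.map (torsι F k)).hom (k.factorial) y).symm.trans ?_
  rw [hy0]
  exact map_zero _

end Groth.Agent.Lib.Helper23TorsColim
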