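import Mathlib
import Groth.Agent.Lib.Helper23FinEtPush
import Groth.Agent.S0102
import Groth.Agent.S0651
import Groth.Agent.S10265
import Groth.Agent.S0622
import Groth.Agent.Lib.Helper23CoprodH
import Groth.Agent.Lib.Helper23TorsColim

/-!
# Sections supported in a closed subset (helper23)

For an open immersion `j : V ⟶ X`, `GammaZ j F = ker (F ⟶ j_* j^* F)`:
* `supp_GammaZ_subset`, `comp_unit_eq_zero_of_supp` (universal property),
* `map_eq_zero_of_disjoint_sectSupp`, `exists_section_GammaZ` (sections whose support avoids `V`).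
-/

set_option autoImplicit false
set_option backward.isDefEq.respectTransparency.types false
universe u
open CategoryTheory CategoryTheory.Limits AlgebraicGeometry Opposite

namespace Groth.Agent.Lib.Helper23SuppSec

open Groth.Agent.Lib.Helper16.EtStalk Groth.Agent.Lib.Helper23EtSupp Groth.Agent.Lib.Helper23FlcSerre
  Groth.Agent.Lib.Helper23FinEtPush Groth.Agent.Lib.Helper23.ConstLC

variable {X : Scheme.{u}}

section A

variable {V : Scheme.{u}} (j : V ⟶ X) (F : EtCoh.Ab X)

/-- sections of `F` supported away from the image of `j` -/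
noncomputable abbrev GammaZ : EtCoh.Ab X := kernel ((EtCoh.pullPushAdj j).unit.app F)

noncomputable abbrev GammaZι : GammaZ j F ⟶ F := kernel.ι _

theorem supp_GammaZ_subset : EtPBC.supp (GammaZ j F) ⊆ (Set.range j)ᶜ := by
  rintro x hx ⟨v, rfl⟩
  have h1 : v ∈ EtPBC.supp ((EtCoh.pull j).obj (GammaZ j F)) := by
    rw [supp_pull]
    exact hx
  have e1 : (EtCoh.pull j).obj (GammaZ j F) ≅
      kernel ((EtCoh.pull j).map ((EtCoh.pullPushAdj j).unit.app F)) := PreservesKernel.iso _ _
  haveI : Mono ((EtCoh.pull j).map ((EtCoh.pullPushAdj j).unit.app F)) := by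
    have tri := (EtCoh.pullPushAdj j).left_triangle_components F
    haveI : IsSplitMono ((EtCoh.pull j).map ((EtCoh.pullPushAdj j).unit.app F)) :=
      IsSplitMono.mk' ⟨_, tri⟩
    infer_instance
  rw [supp_eq_of_iso e1, supp_eq_empty_of_isZero _ (isZero_kernel_of_mono _)] at h1
  exact h1

theorem comp_unit_eq_zero_of_supp {K : EtCoh.Ab X} (a : K ⟶ F)
    (hK : EtPBC.supp K ⊆ (Set.range j)ᶜ) : a ≫ (EtCoh.pullPushAdj j).unit.app F = 0 := by
  have nat := (EtCoh.pullPushAdj j).unit.naturality a
  have hz : IsZero ((EtCoh.pull j).obj K) := by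
    apply isZero_of_supp_eq_empty
    rw [supp_pull]
    apply Set.eq_empty_of_forall_notMem
    intro v hv
    exact hK hv ⟨v, rfl⟩
  have hz2 : IsZero ((EtCoh.push j).obj ((EtCoh.pull j).obj K)) := (EtCoh.push j).map_isZero hz
  have : a ≫ (EtCoh.pullPushAdj j).unit.app F =
      (EtCoh.pullPushAdj j).unit.app K ≫ (EtCoh.push j).map ((EtCoh.pull j).map a) := nat
  rw [this, hz2.eq_of_tgt ((EtCoh.pullPushAdj j).unit.app K) 0, zero_comp]

end A

section B

variable (F : EtCoh.Ab X) (U : X.Etale) (σ : F.obj.obj (op U))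

/-- a section restricts to zero along a map whose image misses its support -/
theorem map_eq_zero_of_disjoint_sectSupp {V' : X.Etale} (φ : V' ⟶ U)
    (h : ∀ v : V'.left, φ.left v ∉ EtShriek.sectSupp F U σ) : F.obj.map φ.op σ = 0 := by
  obtain ⟨W, hW⟩ := Groth.Agent.S0102.result F U σ
  rw [hW]
  rintro _ ⟨v, rfl⟩
  by_contra hv
  apply h v
  rintro V'' ψ ⟨w, hw⟩ h0
  have h1 := (hW V'' ψ).1 h0
  apply hv
  have h2 : ψ.left w ∈ (W : Set U.left) := h1 ⟨w, rfl⟩
  rw [hw] at h2
  exact h2

variable {V : Scheme.{u}} (j : V ⟶ X) [IsOpenImmersion j]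

theorem unit_app_eq_zero_iff :
    (((EtCoh.pullPushAdj j).unit.app F).hom.app (op U)).hom σ = 0 ↔
      F.obj.map ((Groth.Agent.S0651.compBcAdj j).counit.app U).op σ = 0 := by
  haveI := Groth.Agent.Lib.Helper9.JContAll.jCont j
  have e := Adjunction.unit_leftAdjointUniq_hom_app (EtCoh.pullPushAdj j)
    (Groth.Agent.S0651.restrPushAdj j) F
  let ρ := (Adjunction.leftAdjointUniq (EtCoh.pullPushAdj j) (Groth.Agent.S0651.restrPushAdj j)).app F
  have e' : (EtCoh.pullPushAdj j).unit.app F ≫ (EtCoh.push j).map ρ.hom =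
      (Groth.Agent.S0651.restrPushAdj j).unit.app F := e
  have hunit : (((Groth.Agent.S0651.restrPushAdj j).unit.app F).hom.app (op U)).hom σ =
      F.obj.map ((Groth.Agent.S0651.compBcAdj j).counit.app U).op σ := by
    simp [Groth.Agent.S0651.restrPushAdj]
    rfl
  rw [← hunit, ← e']
  have hinj : Function.Injective ((((EtCoh.push j).map ρ.hom).hom.app (op U)).hom) := by
    have : IsIso (((EtCoh.push j).map ρ.hom).hom.app (op U)) := by
      have h1 : IsIso ((EtCoh.push j).map ρ.hom) := inferInstance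
      have h2 : IsIso ((sheafToPresheaf _ _).map ((EtCoh.push j).map ρ.hom)) := inferInstance
      exact (NatIso.isIso_app_of_isIso ((sheafToPresheaf _ _).map ((EtCoh.push j).map ρ.hom)) (op U))
    exact ((ConcreteCategory.isIso_iff_bijective _).1 this).1
  constructor
  · intro h
    change (((EtCoh.push j).map ρ.hom).hom.app (op U)).hom
      ((((EtCoh.pullPushAdj j).unit.app F).hom.app (op U)).hom σ) = 0
    rw [h, map_zero]
  · intro h
    apply hinj
    rw [map_zero]
    exact h

theorem exists_section_GammaZ {W : X.Etale} (g : W ⟶ U)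
    (h : ∀ w : W.left, g.left w ∈ EtShriek.sectSupp F U σ → W.hom w ∉ Set.range j) :
    ∃ τ : (GammaZ j F).obj.obj (op W), ((GammaZι j F).hom.app (op W)).hom τ = F.obj.map g.op σ := by
  apply Groth.Agent.Lib.Helper23TorsColim.exists_of_map_eq_zero
  rw [unit_app_eq_zero_iff]
  let φ := (Groth.Agent.S0651.compBcAdj j).counit.app W
  have e1 : F.obj.map φ.op (F.obj.map g.op σ) = F.obj.map (φ ≫ g).op σ := by
    rw [op_comp, Functor.map_comp]
    rfl
  change F.obj.map φ.op (F.obj.map g.op σ) = 0
  rw [e1]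
  apply map_eq_zero_of_disjoint_sectSupp
  intro v hv
  have hv' : g.left (φ.left v) ∈ EtShriek.sectSupp F U σ := hv
  apply h _ hv'
  have hw : φ.left ≫ W.hom = ((EtCoh.bc j).obj W).hom ≫ j := MorphismProperty.Over.w φ
  refine ⟨((EtCoh.bc j).obj W).hom v, ?_⟩
  have := congrArg (fun m : ((EtShriek.compEtale j).obj ((EtCoh.bc j).obj W)).left ⟶ X => m v) hw
  simp only [Scheme.Hom.comp_apply] at this
  exact this.symm

end B

section C

open TopologicalSpace

/-- in a Noetherian sober space, a closed subset all of whose points are closed is finite -/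
theorem finite_of_isClosed_of_forall_isClosed {Y : Type*} [TopologicalSpace Y] [NoetherianSpace Y]
    [QuasiSober Y] {Z : Set Y} (hZ : IsClosed Z) (h : ∀ z ∈ Z, IsClosed ({z} : Set Y)) : Z.Finite := by
  obtain ⟨S, hSf, hSc, hSi, hSU⟩ := NoetherianSpace.exists_finite_set_isClosed_irreducible hZ
  rw [hSU]
  refine Set.Finite.sUnion hSf (fun t ht => ?_)
  obtain ⟨η, hη⟩ := QuasiSober.sober (hSi t ht) (hSc t ht)
  have hηt : η ∈ t := hη.mem
  have hηZ : η ∈ Z := by
    rw [hSU]
    exact ⟨t, ht, hηt⟩
  have : t = {η} := by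
    have h1 : closure ({η} : Set Y) = t := hη
    rw [(h η hηZ).closure_eq] at h1
    exact h1.symm
  rw [this]
  exact Set.finite_singleton η

end C

section D

open TopologicalSpace Groth.Agent.Lib.Helper16.SmallEtale

variable (X) [IsLocallyNoetherian X] (F : EtCoh.Ab X)

/-- closed points -/
abbrev CP : Type u := {x : X // IsClosed ({x} : Set X)}

/-- the open complement of a closed point -/
def cmpl (x : CP X) : X.Opens := ⟨{x.1}ᶜ, x.2.isOpen_compl⟩

lemma range_cmpl_ι (x : CP X) : Set.range (cmpl X x).ι = {x.1}ᶜ := by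
  rw [Scheme.Opens.range_ι]
  rfl

/-- sections supported at the closed point `x` -/
noncomputable abbrev Gx (x : CP X) : EtCoh.Ab X := GammaZ (cmpl X x).ι F

/-- the sum of the subsheaves of sections supported at closed points -/
noncomputable def Psi : ∐ (Gx X F) ⟶ F := Sigma.desc (fun x => GammaZι (cmpl X x).ι F)

variable {X F}

/-- points of the support of a section lying over closed points are closed -/
lemma isClosed_singleton_of_etale (U : X.Etale) (z : U.left) (hz : IsClosed ({U.hom z} : Set X)) :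
    IsClosed ({z} : Set U.left) := by
  haveI : LocallyQuasiFinite U.hom := Groth.Agent.S10265.locallyQuasiFinite_of_unramified _
  have h1 : IsClosed (U.hom ⁻¹' {U.hom z}) := hz.preimage U.hom.continuous
  have h2 := U.hom.isDiscrete_preimage_singleton (U.hom z)
  refine isClosed_of_subset_discrete_closed (s := {z}) (t := U.hom ⁻¹' {U.hom z}) ?_ h2 h1
  intro w hw
  rw [Set.mem_singleton_iff] at hw
  subst hw
  rfl

theorem isLocallySurjective_Psi (hF : ∀ x ∈ EtPBC.supp F, IsClosed ({x} : Set X)) :
    Sheaf.IsLocallySurjective (Psi X F) := by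
  constructor
  intro U σ
  rw [mem_smallEtale_iff]
  intro y
  haveI : IsLocallyNoetherian U.left :=
    @LocallyOfFiniteType.isLocallyNoetherian U.left X U.hom inferInstance inferInstance
  obtain ⟨U', hU', hyU', -⟩ := exists_isAffineOpen_mem_and_subset (x := y) (U := ⊤) trivial
  let Z : Set U.left := EtShriek.sectSupp F U σ
  have hZ : IsClosed Z := (Groth.Agent.S0671.result F).1 U σ
  have hZpt : ∀ z ∈ Z, IsClosed ({U.hom z} : Set X) := by
    intro z hz
    apply hF
    rw [(Groth.Agent.S0671.result F).2]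
    simp only [Set.mem_iUnion]
    exact ⟨U, σ, z, hz, rfl⟩
  have hZcl : ∀ z ∈ Z, IsClosed ({z} : Set U.left) := fun z hz =>
    isClosed_singleton_of_etale U z (hZpt z hz)
  -- finiteness of `Z ∩ U'`
  haveI : IsNoetherianRing Γ(U.left, U') := IsLocallyNoetherian.component_noetherian ⟨U', hU'⟩
  haveI : NoetherianSpace (U' : Set U.left) := noetherianSpace_of_isAffineOpen U' hU'
  haveI : QuasiSober (U' : Set U.left) := U'.2.isOpenEmbedding_subtypeVal.quasiSober
  have hfin : (Subtype.val ⁻¹' Z : Set (U' : Set U.left)).Finite := by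
    apply finite_of_isClosed_of_forall_isClosed (hZ.preimage continuous_subtype_val)
    intro z hz
    have : ({z} : Set (U' : Set U.left)) = Subtype.val ⁻¹' {z.1} :=
      Set.ext fun w => ⟨fun h => by rw [Set.mem_singleton_iff.1 h]; rfl, fun h => Subtype.ext h⟩
    rw [this]
    exact (hZcl z.1 hz).preimage continuous_subtype_val
  let x₀ : X := U.hom y
  let Z' : Set U.left := {z | z ∈ Z ∧ z ∈ U' ∧ U.hom z ≠ x₀}
  have hZ'fin : Z'.Finite := by
    refine (hfin.image Subtype.val).subset ?_
    rintro z ⟨hz1, hz2, -⟩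
    exact ⟨⟨z, hz2⟩, hz1, rfl⟩
  have hZ'cl : IsClosed Z' := by
    have : Z' = ⋃ z ∈ Z', ({z} : Set U.left) := by
      ext w
      simp
    rw [this]
    exact hZ'fin.isClosed_biUnion (fun z hz => hZcl z hz.1)
  let U'' : U.left.Opens := U' ⊓ ⟨Z'ᶜ, hZ'cl.isOpen_compl⟩
  have hyU'' : y ∈ U'' := ⟨hyU', fun h => h.2.2 rfl⟩
  let W : X.Etale := subObj U U''
  let g : W ⟶ U := subObjι U U''
  have hkey : ∀ w : W.left, g.left w ∈ Z → U.hom (g.left w) = x₀ := by
    intro w hw
    by_contra hne
    have hw2 : g.left w ∈ U'' := w.2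
    exact hw2.2 ⟨hw, hw2.1, hne⟩
  refine ⟨W, g, ⟨y, hyU''⟩, ?_, rfl⟩
  by_cases hx₀ : IsClosed ({x₀} : Set X)
  · let x : CP X := ⟨x₀, hx₀⟩
    obtain ⟨τ, hτ⟩ := exists_section_GammaZ F U σ (cmpl X x).ι g (by
      intro w hw
      rw [range_cmpl_ι]
      intro hc
      apply hc
      have e1 : W.hom w = U.hom (g.left w) := by
        have hw' : g.left ≫ U.hom = W.hom := MorphismProperty.Over.w g
        rw [← hw']
        rfl
      rw [e1]
      exact hkey w hw)
    refine ⟨((Sigma.ι (Gx X F) x).hom.app (op W)).hom τ, ?_⟩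
    have e2 : Sigma.ι (Gx X F) x ≫ Psi X F = GammaZι (cmpl X x).ι F := Sigma.ι_desc _ _
    have e3 := congrArg (fun m : Gx X F x ⟶ F => (m.hom.app (op W)).hom τ) e2
    rw [← hτ, ← e3]
    rfl
  · refine ⟨0, ?_⟩
    rw [map_zero]
    symm
    apply map_eq_zero_of_disjoint_sectSupp
    intro w hw
    apply hx₀
    rw [← hkey w hw]
    exact hZpt _ hw

theorem mono_Psi : Mono (Psi X F) := by
  apply mono_of_stalks
  intro Ω _ _ ξ
  let L := EtCoh.stalk ξ
  let x₀ : X := ξ default
  haveI : PreservesColimitsOfSize.{u, u} L :=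
    ((Scheme.pointSmallEtale ξ).skyscraperSheafAdjunction
      (A := AddCommGrpCat.{u + 1})).leftAdjoint_preservesColimits
  have hcol := isColimitOfPreserves L (coproductIsCoproduct (Gx X F))
  -- pieces at other points have zero stalk
  have hzero : ∀ x : CP X, x.1 ≠ x₀ → IsZero (L.obj (Gx X F x)) := by
    intro x hx
    by_contra hnz
    have h1 : x₀ ∈ EtPBC.supp (Gx X F x) :=
      ⟨Ω, inferInstance, inferInstance, ξ, range_eq_singleton ξ rfl, hnz⟩
    have h2 := supp_GammaZ_subset (cmpl X x).ι F h1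
    rw [range_cmpl_ι] at h2
    apply h2
    intro h3
    exact hx h3.symm
  have hinjι : ∀ x : CP X, Function.Injective (L.map (GammaZι (cmpl X x).ι F)) := fun x =>
    (Groth.Agent.S0622.result (ShortComplex.mk (0 : F ⟶ F) (0 : F ⟶ F) (by simp))
      (GammaZι (cmpl X x).ι F)).2.1.1 inferInstance Ω ξ
  by_cases hx₀ : IsClosed ({x₀} : Set X)
  · let x : CP X := ⟨x₀, hx₀⟩
    have hepi : Epi (L.map (Sigma.ι (Gx X F) x)) := by
      constructor
      intro T a b hab
      apply hcol.hom_ext
      rintro ⟨x'⟩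
      by_cases hxx : x' = x
      · subst hxx
        exact hab
      · have : x'.1 ≠ x₀ := fun h => hxx (Subtype.ext h)
        exact (hzero x' this).eq_of_src _ _
    have hsurj := (AddCommGrpCat.epi_iff_surjective _).1 hepi
    rw [injective_iff_map_eq_zero]
    intro t ht
    obtain ⟨s, rfl⟩ := hsurj t
    have e2 : Sigma.ι (Gx X F) x ≫ Psi X F = GammaZι (cmpl X x).ι F := Sigma.ι_desc _ _
    have e3 : L.map (GammaZι (cmpl X x).ι F) s = 0 := by
      rw [← e2, Functor.map_comp, ConcreteCategory.comp_apply]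
      exact ht
    have : s = 0 := hinjι x (by rw [e3, map_zero])
    rw [this, map_zero]
  · have hz : IsZero (L.obj (∐ (Gx X F))) := by
      refine Groth.Agent.Lib.Helper23.CoprodH.isZero_pt_of_isColimit
        (L.mapCocone (Cofan.mk (∐ Gx X F) (Sigma.ι (Gx X F)))) hcol ?_
      rintro ⟨x'⟩
      apply hzero x'
      intro h
      apply hx₀
      rw [← h]
      exact x'.2
    have hss := AddCommGrpCat.isZero_iff_subsingleton.mp hz
    intro a b _
    exact Subsingleton.elim a b

theorem isIso_Psi (hF : ∀ x ∈ EtPBC.supp F, IsClosed ({x} : Set X)) : IsIso (Psi X F) := by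
  haveI := mono_Psi (X := X) (F := F)
  haveI := isLocallySurjective_Psi hF
  haveI : Epi (Psi X F) := Sheaf.epi_of_isLocallySurjective _
  exact isIso_of_mono_of_epi _

end D

section E

open Polynomial

theorem isSepClosed_of_isAlgebraic (K L : Type*) [Field K] [Field L] [Algebra K L]
    [Algebra.IsAlgebraic K L] [IsSepClosed K] : IsSepClosed L := by
  apply IsSepClosed.of_exists_root
  intro p hp hirr hsep
  let M := AlgebraicClosure L
  haveI : IsScalarTower K L M := inferInstance
  haveI : Algebra.IsAlgebraic K M := Algebra.IsAlgebraic.trans K L M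
  haveI : IsPurelyInseparable K M := inferInstance
  haveI : IsPurelyInseparable L M := IsPurelyInseparable.tower_top K L M
  obtain ⟨α, hα⟩ := IsAlgClosed.exists_aeval_eq_zero M p (degree_pos_of_irreducible hirr).ne'
  have hsepα : IsSeparable L α := by
    have hdvd : minpoly L α ∣ p := minpoly.dvd L α hα
    exact hsep.of_dvd hdvd
  obtain ⟨β, hβ⟩ := IsPurelyInseparable.inseparable L α hsepα
  refine ⟨β, ?_⟩
  have : algebraMap L M (p.eval β) = 0 := by
    rw [← aeval_algebraMap_apply_eq_algebraMap_eval]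
    change aeval (algebraMap L M β) p = 0
    rw [hβ]
    exact hα
  exact (algebraMap L M).injective (by rw [this, map_zero])

/-- residue fields at closed points of a scheme locally of finite type over a separably closed field are
separably closed -/
theorem isSepClosed_residueField {K : Type u} [Field K] [IsSepClosed K] (X : Scheme.{u})
    (a : X ⟶ Spec (CommRingCat.of K)) [LocallyOfFiniteType a] (x : X) (hx : IsClosed ({x} : Set X)) :
    IsSepClosed (X.residueField x) := by
  have hfin : IsFinite (X.fromSpecResidueField x ≫ a) := by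
    rw [isClosed_singleton_iff_isClosedImmersion] at hx
    rw [isFinite_iff_locallyOfFiniteType_of_jacobsonSpace]
    infer_instance
  obtain ⟨φ, hφ⟩ : ∃ φ : CommRingCat.of K ⟶ X.residueField x,
      Spec.map φ = X.fromSpecResidueField x ≫ a := ⟨Spec.preimage _, Spec.map_preimage _⟩
  have hint : φ.hom.IsIntegral := by
    rw [← IsIntegralHom.SpecMap_iff, hφ]; infer_instance
  algebraize [φ.hom]
  haveI : Algebra.IsAlgebraic K (X.residueField x) := by
    have : Algebra.IsIntegral K (X.residueField x) := ⟨hint⟩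
    infer_instance
  exact isSepClosed_of_isAlgebraic K (X.residueField x)

/-- **Vanishing for sheaves supported on closed points.** -/
theorem subsingleton_H_of_supp_closedPoints {K : Type u} [Field K] [IsSepClosed K] (X : Scheme.{u})
    (a : X ⟶ Spec (CommRingCat.of K)) [LocallyOfFiniteType a] [QuasiCompact a] (F : EtCoh.Ab X)
    (hF : ∀ x ∈ EtPBC.supp F, IsClosed ({x} : Set X)) (q : ℕ) (hq : 0 < q) :
    Subsingleton (EtCoh.H X F q) := by
  haveI : IsLocallyNoetherian X := LocallyOfFiniteType.isLocallyNoetherian a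
  haveI : CompactSpace X := QuasiCompact.compactSpace_of_compactSpace a
  haveI : QuasiSeparatedSpace X := inferInstance
  have hpiece : ∀ x : CP X, Subsingleton (EtCoh.H X (Gx X F x) q) := by
    intro x
    haveI : IsClosedImmersion (X.fromSpecResidueField x.1) :=
      isClosed_singleton_iff_isClosedImmersion.mp x.2
    haveI : IsSepClosed (X.residueField x.1) := isSepClosed_residueField X a x.1 x.2
    have hsub : EtPBC.supp (Gx X F x) ⊆ Set.range (X.fromSpecResidueField x.1) := by
      rw [Scheme.range_fromSpecResidueField]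
      intro y hy
      have h2 := supp_GammaZ_subset (cmpl X x).ι F hy
      rw [range_cmpl_ι] at h2
      by_contra hne
      exact h2 hne
    obtain ⟨G', ⟨e⟩⟩ := ((Groth.Agent.S0631.result (X.fromSpecResidueField x.1)).2.2.1 (Gx X F x)).2 hsub
    have h3 := Groth.Agent.Lib.Helper23.CoprodH.subsingleton_H_push_sepClosed (X.residueField x.1)
      (X.fromSpecResidueField x.1) G' q hq
    have e' := (EtCoh.HF X q).mapIso e
    have hz : IsZero ((EtCoh.HF X q).obj (Gx X F x)) :=
      IsZero.of_iso ((AddCommGrpCat.isZero_iff_subsingleton).2 h3) e'.symm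
    exact (AddCommGrpCat.isZero_iff_subsingleton).1 hz
  have hsum := Groth.Agent.Lib.Helper23.CoprodH.subsingleton_H_of_isColimit_cofan (Gx X F) q hpiece
    (Cofan.mk _ (Sigma.ι (Gx X F))) (coproductIsCoproduct _)
  haveI := isIso_Psi (X := X) (F := F) hF
  have e' := (EtCoh.HF X q).mapIso (asIso (Psi X F))
  have hz : IsZero ((EtCoh.HF X q).obj F) :=
    IsZero.of_iso ((AddCommGrpCat.isZero_iff_subsingleton).2 hsum) e'.symm
  exact (AddCommGrpCat.isZero_iff_subsingleton).1 hz

end E

end Groth.Agent.Lib.Helper23SuppSec
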