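import Mathlib
import Groth.Agent.Lib.Helper23ConstrColim3
import Groth.Agent.Lib.Helper9ExtZero
import Groth.Agent.Lib.Helper23HLes

/-!
# The `N`-torsion of an injective abelian étale sheaf is acyclic (helper23)

* `preservesFiniteLimits_extZero`: `EtPBC.extZero U` is exact.
* `exists_nsmul_eq_of_injective`: sections of an injective abelian sheaf are divisible.
* `epi_nsmul_of_injective`: `N • 𝟙 I` is an epimorphism for `I` injective, `N > 0`.
* `subsingleton_H_torsion`: `H^q(X, ker (N : I → I)) = 0` for `q ≥ 1`.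
-/

set_option autoImplicit false
set_option backward.isDefEq.respectTransparency.types false
universe u
open CategoryTheory CategoryTheory.Limits AlgebraicGeometry Opposite

namespace Groth.Agent.Lib.Helper23TorsInj

open Groth.Agent.Lib.Helper23ConstrGen Groth.Agent.Lib.Helper23ConstrCpt

variable {X : Scheme.{u}}

section ExtZero

variable (U : X.Etale)

noncomputable instance preservesFiniteLimits_constantSheaf :
    PreservesFiniteLimits (constantSheaf (X.smallEtaleTopology.over U) AddCommGrpCat.{u + 1}) := by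
  unfold constantSheaf
  infer_instance

theorem preservesFiniteLimits_extZero : PreservesFiniteLimits (EtPBC.extZero U) :=
  Groth.Agent.Lib.Helper9.ExtZero.preservesFiniteLimits_of_adj.{u + 1} _ _ (EtPBC.extZeroAdj U)

theorem mono_nsmul_extZeroConst (N : ℕ) (hN : 0 < N) :
    Mono (N • 𝟙 (EtPBC.extZeroConst U (ZMod 0))) := by
  haveI := preservesFiniteLimits_extZero U
  have hadd : (constantSheaf (X.smallEtaleTopology.over U) AddCommGrpCat.{u + 1} ⋙
      EtPBC.extZero U).Additive := additive_of_adj (adjC U)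
  have h1 : Mono (N • 𝟙 (AddCommGrpCat.of (ULift.{u + 1} (ZMod 0)))) := by
    rw [AddCommGrpCat.mono_iff_injective, injective_iff_map_eq_zero]
    intro x hx
    have hx' : N • x = 0 := hx
    apply ULift.ext
    have h2 := congrArg ULift.down hx'
    rw [ULift.smul_down, nsmul_eq_mul] at h2
    have h3 : (x.down : ℤ) = 0 := by
      rcases mul_eq_zero.1 h2 with h | h
      · exact absurd (by exact_mod_cast h) hN.ne'
      · exact h
    exact h3
  have h2 : Mono ((constantSheaf (X.smallEtaleTopology.over U) AddCommGrpCat.{u + 1} ⋙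
      EtPBC.extZero U).map (N • 𝟙 (AddCommGrpCat.of (ULift.{u + 1} (ZMod 0))))) := inferInstance
  rw [Functor.map_nsmul, CategoryTheory.Functor.map_id] at h2
  exact h2

end ExtZero

section Abstract

open CategoryTheory.Abelian

theorem ext_eq_zero_of_ses {C : Type*} [Category C] [Abelian C] [HasExt C] {S : ShortComplex C}
    (hS : S.ShortExact) [Injective S.X₂] [Injective S.X₃] (Z : C)
    (hdiv : ∀ f : Z ⟶ S.X₃, ∃ g : Z ⟶ S.X₂, g ≫ S.g = f) (q : ℕ) (x : Ext Z S.X₁ (q + 1)) :
    x = 0 := by
  have hx : x.comp (Ext.mk₀ S.f) (add_zero (q + 1)) = 0 := Ext.eq_zero_of_injective _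
  obtain ⟨x₃, rfl⟩ := Ext.covariant_sequence_exact₁ _ hS x hx (n₀ := q) rfl
  cases q with
  | zero =>
    obtain ⟨f, rfl⟩ := (Ext.mk₀_bijective _ _).2 x₃
    obtain ⟨g, rfl⟩ := hdiv f
    rw [← Ext.mk₀_comp_mk₀, Ext.comp_assoc_of_second_deg_zero, hS.comp_extClass, Ext.comp_zero]
  | succ q =>
    rw [Ext.eq_zero_of_injective x₃, Ext.zero_comp]

end Abstract

section Inj

variable (I : EtCoh.Ab X) [Injective I] (N : ℕ) (hN : 0 < N)

include hN in
/-- sections of an injective abelian sheaf are divisible -/
theorem exists_nsmul_eq_of_injective (U : X.Etale) (s : I.obj.obj (op U)) :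
    ∃ t : I.obj.obj (op U), N • t = s := by
  haveI := mono_nsmul_extZeroConst U N hN
  let f := secMap U 0 s (zero_nsmul s)
  let g := Injective.factorThru f (N • 𝟙 (EtPBC.extZeroConst U (ZMod 0)))
  have hg : (N • 𝟙 (EtPBC.extZeroConst U (ZMod 0))) ≫ g = f := Injective.comp_factorThru _ _
  rw [Preadditive.nsmul_comp, Category.id_comp] at hg
  refine ⟨(g.hom.app (op U)).hom (tSec U 0), ?_⟩
  have h1 := nsmul_app g N (op U) (tSec U 0)
  rw [hg] at h1
  rw [← h1]
  exact secMap_tSec U 0 s (zero_nsmul s)

include hN in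
theorem epi_nsmul_of_injective : Epi (N • 𝟙 I) := by
  haveI : Presheaf.IsLocallySurjective X.smallEtaleTopology (N • 𝟙 I : I ⟶ I).hom := by
    constructor
    intro U s
    obtain ⟨t, ht⟩ := exists_nsmul_eq_of_injective I N hN U s
    have : Presheaf.imageSieve (N • 𝟙 I : I ⟶ I).hom s = ⊤ := by
      rw [← Sieve.id_mem_iff_eq_top]
      refine ⟨t, ?_⟩
      have h1 := nsmul_app (𝟙 I) N (op U) t
      rw [h1]
      simpa using ht
    rw [this]
    exact X.smallEtaleTopology.top_mem U
  exact Sheaf.epi_of_isLocallySurjective _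

/-- the `N`-torsion subsheaf of `I` -/
noncomputable abbrev tors : EtCoh.Ab X := kernel (N • 𝟙 I)

/-- the short exact sequence `0 ⟶ I[N] ⟶ I ⟶ I ⟶ 0` -/
noncomputable def torsSC : ShortComplex (EtCoh.Ab X) :=
  ShortComplex.mk (kernel.ι (N • 𝟙 I)) (N • 𝟙 I) (kernel.condition _)

include hN in
theorem torsSC_shortExact : (torsSC I N).ShortExact := by
  haveI : Epi (torsSC I N).g := epi_nsmul_of_injective I N hN
  haveI : Mono (torsSC I N).f := inferInstanceAs (Mono (kernel.ι _))
  exact ShortComplex.ShortExact.mk ((torsSC I N).exact_of_f_is_kernel (kernelIsKernel _))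

include hN in
theorem mono_nsmul_constZ : Mono (N • 𝟙 ((constantSheaf X.smallEtaleTopology AddCommGrpCat.{u + 1}).obj
    (AddCommGrpCat.of (ULift.{u + 1} ℤ)))) := by
  have h1 : Mono (N • 𝟙 (AddCommGrpCat.of (ULift.{u + 1} ℤ))) := by
    rw [AddCommGrpCat.mono_iff_injective, injective_iff_map_eq_zero]
    intro y hy
    have hy' : N • y = 0 := hy
    apply ULift.ext
    have h2 := congrArg ULift.down hy'
    rw [ULift.smul_down, nsmul_eq_mul] at h2
    rcases mul_eq_zero.1 h2 with h | h
    · exact absurd (by exact_mod_cast h) hN.ne'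
    · exact h
  have hpfl : PreservesFiniteLimits (constantSheaf X.smallEtaleTopology AddCommGrpCat.{u + 1}) := by
    unfold constantSheaf
    infer_instance
  have hadd : (constantSheaf X.smallEtaleTopology AddCommGrpCat.{u + 1}).Additive :=
    Functor.additive_of_preserves_binary_products _
  have h2 : Mono ((constantSheaf X.smallEtaleTopology AddCommGrpCat.{u + 1}).map
      (N • 𝟙 (AddCommGrpCat.of (ULift.{u + 1} ℤ)))) := inferInstance
  rw [Functor.map_nsmul, CategoryTheory.Functor.map_id] at h2
  exact h2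

include hN in
/-- the `N`-torsion of an injective abelian sheaf has no higher cohomology -/
theorem eq_zero_of_H_tors (q : ℕ) (x : EtCoh.H X (tors I N) (q + 1)) : x = 0 := by
  have hS := torsSC_shortExact I N hN
  haveI : Injective (torsSC I N).X₂ := inferInstanceAs (Injective I)
  haveI : Injective (torsSC I N).X₃ := inferInstanceAs (Injective I)
  refine ext_eq_zero_of_ses hS _ (fun f => ?_) q x
  haveI := mono_nsmul_constZ (X := X) N hN
  let f' : (constantSheaf X.smallEtaleTopology AddCommGrpCat.{u + 1}).obj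
    (AddCommGrpCat.of (ULift.{u + 1} ℤ)) ⟶ I := f
  let g := Injective.factorThru f' (N • 𝟙 ((constantSheaf X.smallEtaleTopology
    AddCommGrpCat.{u + 1}).obj (AddCommGrpCat.of (ULift.{u + 1} ℤ))))
  have hg : (N • 𝟙 _) ≫ g = f' := Injective.comp_factorThru _ _
  refine ⟨g, ?_⟩
  change g ≫ (N • 𝟙 I) = f'
  rw [← hg, Preadditive.nsmul_comp, Category.id_comp, Preadditive.comp_nsmul, Category.comp_id]

end Inj

end Groth.Agent.Lib.Helper23TorsInj
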