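import Mathlib
set_option backward.isDefEq.respectTransparency.types false

/-!
# Lifting `n`-th roots of units along surjections with nil kernel (helper23, pure Mathlib)

Namespace `Groth.Agent.Lib.Helper23.TorsLift`.

* `eq_zero_of_one_add_pow_eq_one` : `δ` nilpotent, `n` invertible, `(1+δ)^n = 1` ⇒ `δ = 0`
* `exists_root_one_add` : `ε` nilpotent, `n` invertible ⇒ `1+ε = (1+δ)^n` with `δ ∈ (ε)`
* `exists_root_lift` : `φ : A → B` surjective with nil kernel, `n` invertible, `a` a unit, `b^n = φ a` ⇒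
  `a = a'^n` with `φ a' = b`
* `root_lift_unique`
-/

set_option autoImplicit false
universe u

namespace Groth.Agent.Lib.Helper23.TorsLift

variable {A : Type u} [CommRing A]

theorem eq_zero_of_one_add_pow_eq_one {δ : A} (hδ : IsNilpotent δ) (n : ℕ) (hn : IsUnit (n : A))
    (h : (1 + δ) ^ n = 1) : δ = 0 := by
  obtain ⟨k, hk⟩ := Polynomial.powAddExpansion (1 : A) δ n
  rw [h, one_pow, one_pow, mul_one] at hk
  have h1 : δ * ((n : A) + k * δ) = 0 := by
    have : (1 : A) = 1 + ((n : A) * δ + k * δ ^ 2) := by rw [← add_assoc]; exact hk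
    have h2 : (n : A) * δ + k * δ ^ 2 = 0 := by
      have := congrArg (fun t => t - 1) this
      simp only [sub_self, add_sub_cancel_left] at this
      exact this.symm
    rw [← h2]; ring
  have h2 : IsUnit ((n : A) + k * δ) := by
    have hnil : IsNilpotent (k * δ) := (Commute.all k δ).isNilpotent_mul_left hδ
    exact hnil.isUnit_add_left_of_commute hn (Commute.all _ _)
  exact (h2.mul_left_eq_zero).1 h1

theorem exists_root_one_add (n : ℕ) (hn : IsUnit (n : A)) :
    ∀ (k : ℕ) (ε : A), ε ^ k = 0 → ∃ δ : A, δ ∈ Ideal.span {ε} ∧ (1 + δ) ^ n = 1 + ε := by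
  intro k
  induction k using Nat.strong_induction_on with
  | _ k ih =>
    intro ε hε
    by_cases hk : k ≤ 1
    · have hε0 : ε = 0 := by
        interval_cases k
        · have : (1 : A) = 0 := by simpa using hε
          calc ε = ε * 1 := (mul_one ε).symm
            _ = 0 := by rw [this, mul_zero]
        · simpa using hε
      exact ⟨0, Ideal.zero_mem _, by rw [hε0, add_zero, one_pow]⟩
    · rw [not_le] at hk
      obtain ⟨v, hv⟩ := hn.exists_right_inv
      set δ₁ := v * ε with hδ₁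
      obtain ⟨c, hc⟩ := Polynomial.powAddExpansion (1 : A) δ₁ n
      rw [one_pow, one_pow, mul_one] at hc
      have hεnil : IsNilpotent ε := ⟨k, hε⟩
      have hδ₁nil : IsNilpotent δ₁ := (Commute.all v ε).isNilpotent_mul_left hεnil
      have hw : IsUnit ((1 + δ₁) ^ n) := (hδ₁nil.isUnit_one_add).pow n
      obtain ⟨w', hw'⟩ := hw.exists_right_inv
      have hw'' : w' * (1 + δ₁) ^ n = 1 := by rw [mul_comm]; exact hw'
      -- (1+δ₁)^n = 1 + ε + c v² ε²
      have e1 : (1 + δ₁) ^ n = 1 + ε + c * v ^ 2 * ε ^ 2 := by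
        rw [hc, hδ₁]
        have : (n : A) * (v * ε) = ε := by rw [← mul_assoc, hv, one_mul]
        rw [this]; ring
      set ε₂ := -(w' * c * v ^ 2) * ε ^ 2 with hε₂
      have e2 : (1 + δ₁) ^ n * (1 + ε₂) = 1 + ε := by
        have : (1 + δ₁) ^ n * ε₂ = -(c * v ^ 2 * ε ^ 2) := by
          rw [hε₂]
          calc (1 + δ₁) ^ n * (-(w' * c * v ^ 2) * ε ^ 2)
              = -((1 + δ₁) ^ n * w') * (c * v ^ 2 * ε ^ 2) := by ring
            _ = -(c * v ^ 2 * ε ^ 2) := by rw [hw']; ring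
        rw [mul_add, mul_one, this, e1]; ring
      have hk' : (k + 1) / 2 < k := by omega
      have hε₂k : ε₂ ^ ((k + 1) / 2) = 0 := by
        rw [hε₂, mul_pow, ← pow_mul]
        have : k ≤ 2 * ((k + 1) / 2) := by omega
        rw [pow_eq_zero_of_le this hε, mul_zero]
      obtain ⟨δ₂, hδ₂mem, hδ₂⟩ := ih _ hk' ε₂ hε₂k
      have hε₂mem : ε₂ ∈ Ideal.span {ε} := by
        have h0 : ε₂ = (-(w' * c * v ^ 2) * ε) * ε := by rw [hε₂]; ring
        rw [h0]
        exact Ideal.mul_mem_left _ _ (Ideal.subset_span (Set.mem_singleton ε))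
      have hδ₂mem' : δ₂ ∈ Ideal.span {ε} := by
        have : Ideal.span {ε₂} ≤ Ideal.span {ε} := by
          rw [Ideal.span_le]
          intro x hx
          rw [Set.mem_singleton_iff] at hx
          rw [hx]; exact hε₂mem
        exact this hδ₂mem
      have hδ₁mem : δ₁ ∈ Ideal.span {ε} := Ideal.mul_mem_left _ _ (Ideal.subset_span (Set.mem_singleton ε))
      refine ⟨δ₁ + δ₂ + δ₁ * δ₂, ?_, ?_⟩
      · exact Ideal.add_mem _ (Ideal.add_mem _ hδ₁mem hδ₂mem') (Ideal.mul_mem_left _ _ hδ₂mem')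
      · have : 1 + (δ₁ + δ₂ + δ₁ * δ₂) = (1 + δ₁) * (1 + δ₂) := by ring
        rw [this, mul_pow, hδ₂, e2]

variable {B : Type u} [CommRing B]

theorem isUnit_of_map_of_ker_le_nilradical (φ : A →+* B) (hφ : Function.Surjective φ)
    (hker : ∀ x, φ x = 0 → IsNilpotent x) {c : A} (hc : IsUnit (φ c)) : IsUnit c := by
  obtain ⟨b', hb'⟩ := hc.exists_right_inv
  obtain ⟨c', rfl⟩ := hφ b'
  have h1 : φ (c * c' - 1) = 0 := by rw [map_sub, map_mul, hb', map_one, sub_self]
  have h2 : IsUnit (c * c') := by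
    have := (hker _ h1).isUnit_add_one
    rwa [sub_add_cancel] at this
  exact isUnit_of_mul_isUnit_left h2

theorem exists_root_lift (φ : A →+* B) (hφ : Function.Surjective φ)
    (hker : ∀ x, φ x = 0 → IsNilpotent x) (n : ℕ) (hn0 : 0 < n) (hn : IsUnit (n : A))
    (a : A) (ha : IsUnit a) (b : B) (hb : b ^ n = φ a) :
    ∃ a' : A, a' ^ n = a ∧ φ a' = b := by
  obtain ⟨c, rfl⟩ := hφ b
  have hbu : IsUnit (φ c) := by
    have : IsUnit (φ c ^ n) := by rw [hb]; exact ha.map φ
    exact (isUnit_pow_iff hn0.ne').1 this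
  have hcu : IsUnit c := isUnit_of_map_of_ker_le_nilradical φ hφ hker hbu
  obtain ⟨d, hd⟩ := (hcu.pow n).exists_right_inv
  set ε := a * d - 1 with hε
  have hεker : φ ε = 0 := by
    have h1 : φ (c ^ n) * φ d = 1 := by rw [← map_mul, hd, map_one]
    rw [hε, map_sub, map_mul, map_one, ← hb, ← map_pow, h1, sub_self]
  obtain ⟨k, hk⟩ := hker ε hεker
  obtain ⟨δ, hδmem, hδ⟩ := exists_root_one_add n hn k ε hk
  have hδker : φ δ = 0 := by
    have : Ideal.span {ε} ≤ RingHom.ker φ := by
      rw [Ideal.span_le]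
      intro x hx
      rw [Set.mem_singleton_iff] at hx
      rw [hx]; exact hεker
    exact this hδmem
  refine ⟨c * (1 + δ), ?_, ?_⟩
  · rw [mul_pow, hδ, hε, add_sub_cancel]
    calc c ^ n * (a * d) = a * (c ^ n * d) := by ring
      _ = a := by rw [hd, mul_one]
  · rw [map_mul, map_add, map_one, hδker, add_zero, mul_one]

end Groth.Agent.Lib.Helper23.TorsLift
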