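import Mathlib
import Groth.Prelude
import Groth.Agent.Lib.Helper23TorsLift
import Groth.Agent.Lib.Helper23FinPic
import Groth.Agent.Lib.Helper23Norm
set_option backward.isDefEq.respectTransparency.types false

/-!
# Unique lifting of `n`-th roots of units along a thickening (helper23)

Namespace `Groth.Agent.Lib.Helper23.TorsLift`. `i : X ⟶ X'` a surjective closed immersion.

* `isUnit_of_isUnit_app`, `isNilpotent_of_app_eq_zero`, `isUnit_natCast`
* `root_unique`, `exists_root` : for every open `V` of `X'`, a unit `a` on `V` and `b` on `i⁻¹ V` with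
  `b^n = i♯ a` (`n` invertible on `X`), there is a unique `a'` on `V` with `a'^n = a`, `i♯ a' = b`.
-/

set_option autoImplicit false
universe u
open CategoryTheory Limits AlgebraicGeometry TopologicalSpace Opposite

namespace Groth.Agent.Lib.Helper23.TorsLift
open Groth.Agent.Lib.Helper6 Groth.Agent.Lib.Helper23.FinPic Groth.Agent.Lib.Helper23.PB

variable {X X' : Scheme.{u}} (i : X ⟶ X') (hs : Function.Surjective i)

include hs in
theorem isUnit_of_isUnit_app (V : X'.Opens) (s : Γ(X', V)) (h : IsUnit (i.app V s)) : IsUnit s := by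
  apply Groth.Agent.Lib.Helper23.Norm.isUnit_of_forall_mem_basicOpen
  intro z hz
  obtain ⟨x, rfl⟩ := hs z
  have h1 : x ∈ X.basicOpen (i.app V s) := by
    rw [Scheme.basicOpen_of_isUnit _ h]; exact hz
  rw [← Scheme.preimage_basicOpen] at h1
  exact h1

include hs in
theorem isNilpotent_of_app_eq_zero {V : X'.Opens} (hV : IsCompact (V : Set X')) (s : Γ(X', V))
    (h : i.app V s = 0) : IsNilpotent s := by
  rw [Scheme.isNilpotent_iff_basicOpen_eq_bot_of_isCompact hV, eq_bot_iff]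
  intro z hz
  obtain ⟨x, rfl⟩ := hs z
  have h1 : x ∈ i ⁻¹ᵁ X'.basicOpen s := hz
  rw [Scheme.preimage_basicOpen, h, Scheme.basicOpen_zero] at h1
  exact h1

include hs in
theorem isUnit_natCast (n : ℕ) (hn : IsUnit (n : Γ(X, ⊤))) (V : X'.Opens) : IsUnit (n : Γ(X', V)) := by
  apply isUnit_of_isUnit_app i hs
  rw [map_natCast]
  have := hn.map (X.presheaf.map (homOfLE (le_top : i ⁻¹ᵁ V ≤ ⊤)).op).hom
  rwa [map_natCast] at this

include hs in
theorem root_unique (n : ℕ) (hn : IsUnit (n : Γ(X, ⊤))) (V : X'.Opens) (a₁ a₂ : Γ(X', V))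
    (hu : IsUnit a₂) (hpow : a₁ ^ n = a₂ ^ n) (happ : i.app V a₁ = i.app V a₂) : a₁ = a₂ := by
  refine resf_ext_affine a₁ a₂ (fun W hW hWaff => ?_)
  have hu' : IsUnit (resf hW a₂) := hu.map _
  obtain ⟨c, hc⟩ := hu'.exists_right_inv
  set δ := resf hW a₁ * c - 1 with hδ
  have h1 : i.app W δ = 0 := by
    have e1 : i.app W (resf hW a₁) = i.app W (resf hW a₂) := by
      rw [app_resf₀ i hW a₁, app_resf₀ i hW a₂, happ]
    rw [hδ, map_sub, map_mul, map_one, e1, ← map_mul, hc, map_one, sub_self]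
  have hnil : IsNilpotent δ := isNilpotent_of_app_eq_zero i hs hWaff.isCompact δ h1
  have h2 : (1 + δ) ^ n = 1 := by
    rw [hδ, add_sub_cancel, mul_pow, ← resf_pow, hpow, resf_pow, ← mul_pow, hc, one_pow]
  have h3 := eq_zero_of_one_add_pow_eq_one hnil n (isUnit_natCast i hs n hn W) h2
  have h4 : resf hW a₁ * c = 1 := by
    have := sub_eq_zero.1 (hδ ▸ h3)
    exact this
  calc resf hW a₁ = resf hW a₁ * (resf hW a₂ * c) := by rw [hc, mul_one]
    _ = (resf hW a₁ * c) * resf hW a₂ := by ring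
    _ = resf hW a₂ := by rw [h4, one_mul]

include hs in
theorem exists_root [IsClosedImmersion i] (n : ℕ) (hn0 : 0 < n) (hn : IsUnit (n : Γ(X, ⊤))) (V : X'.Opens)
    (a : Γ(X', V)) (ha : IsUnit a) (b : Γ(X, i ⁻¹ᵁ V)) (hb : b ^ n = i.app V a) :
    ∃ a' : Γ(X', V), a' ^ n = a ∧ i.app V a' = b := by
  -- local solutions on the affine opens inside `V`
  have hloc : ∀ W : {W : X'.Opens // IsAffineOpen W ∧ W ≤ V}, ∃ a' : Γ(X', W.1),
      a' ^ n = resf W.2.2 a ∧ i.app W.1 a' = resf (i.preimage_mono W.2.2) b := by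
    intro W
    refine exists_root_lift (i.app W.1).hom (i.app_surjective W.1 W.2.1)
      (fun x hx => isNilpotent_of_app_eq_zero i hs W.2.1.isCompact x hx) n hn0
      (isUnit_natCast i hs n hn W.1) (resf W.2.2 a) (ha.map _) (resf (i.preimage_mono W.2.2) b) ?_
    rw [← resf_pow, hb]
    exact (app_resf₀ i W.2.2 a).symm
  choose a' ha'1 ha'2 using hloc
  have hunit : ∀ W, IsUnit (a' W) := fun W => by
    have : IsUnit (a' W ^ n) := by rw [ha'1]; exact ha.map _
    exact (isUnit_pow_iff hn0.ne').1 this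
  have hcompat : TopCat.Presheaf.IsCompatible X'.presheaf
      (fun W : {W : X'.Opens // IsAffineOpen W ∧ W ≤ V} => W.1) a' := by
    intro W₁ W₂
    change resf inf_le_left (a' W₁) = resf inf_le_right (a' W₂)
    refine root_unique i hs n hn (W₁.1 ⊓ W₂.1) _ _ ((hunit W₂).map _) ?_ ?_
    · rw [← resf_pow, ← resf_pow, ha'1, ha'1, resf_resf, resf_resf]
    · rw [app_resf₀, app_resf₀, ha'2, ha'2, resf_resf, resf_resf]
  obtain ⟨t, ht, -⟩ := X'.sheaf.existsUnique_gluing'
    (fun W : {W : X'.Opens // IsAffineOpen W ∧ W ≤ V} => W.1) V (fun W => homOfLE W.2.2)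
    (le_iSup_affine V) a' hcompat
  have ht' : ∀ W : {W : X'.Opens // IsAffineOpen W ∧ W ≤ V}, resf W.2.2 t = a' W := ht
  refine ⟨t, ?_, ?_⟩
  · refine resf_ext_affine _ _ (fun W hW hWaff => ?_)
    rw [resf_pow, ht' ⟨W, hWaff, hW⟩, ha'1]
  · refine X.sheaf.eq_of_locally_eq'
      (fun W : {W : X'.Opens // IsAffineOpen W ∧ W ≤ V} => i ⁻¹ᵁ W.1) (i ⁻¹ᵁ V)
      (fun W => homOfLE (i.preimage_mono W.2.2)) ?_ _ _ (fun W => ?_)
    · intro x hx
      have := le_iSup_affine V (show i x ∈ V from hx)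
      obtain ⟨W, hW⟩ := Opens.mem_iSup.1 this
      exact Opens.mem_iSup.2 ⟨W, hW⟩
    · change resf (i.preimage_mono W.2.2) (i.app V t) = resf (i.preimage_mono W.2.2) b
      rw [← ha'2 W, ← ht' W]
      exact (app_resf₀ i W.2.2 t).symm

end Groth.Agent.Lib.Helper23.TorsLift
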