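import Mathlib
import Groth.Prelude
import Groth.Agent.Lib.Helper23TorsLift2
import Groth.Agent.Lib.Helper23ClPic
import Groth.Agent.S10963
set_option backward.isDefEq.respectTransparency.types false

/-!
# Lifting torsion invertible modules along a thickening (helper23)

Namespace `Groth.Agent.Lib.Helper23.TorsLift`.

* `exists_torsion_lift` : `i : X ⟶ X'` a surjective closed immersion, `n > 0` invertible on `X`, `L` invertible on `X`
  with `L^{⊗ n} ≅ O_X` ⇒ there is an invertible `L'` on `X'` with `L'^{⊗ n} ≅ O_{X'}` and `i^* L' ≅ L`.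
-/

set_option autoImplicit false
universe u
open CategoryTheory Limits AlgebraicGeometry TopologicalSpace Opposite

namespace Groth.Agent.Lib.Helper23.TorsLift
open Groth.Agent.Lib.Helper6 Groth.Agent.Lib.Helper23.FinPic Groth.Agent.Lib.Helper23.PB
  Groth.Agent.Lib.Helper23.SecTw Groth.Agent.Lib.Helper23.GenLocus Groth.Agent.Lib.Helper23.Extend
  Groth.Agent.Lib.Helper23.ClPic Groth.Agent.Helper13PullbackUnit Groth.Agent.Lib.Helper23.GenNear

variable {X X' : Scheme.{u}} (i : X ⟶ X') (hs : Function.Surjective i)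

include hs in
theorem exists_torsion_lift [IsClosedImmersion i] (n : ℕ) (hn0 : 0 < n) (hn : IsUnit (n : Γ(X, ⊤)))
    (L : X.Modules) (hL : PicF.IsInvertible L) (α : CohB1.tensorPow L n ≅ Coh.structureModule X) :
    ∃ L' : X'.Modules, PicF.IsInvertible L' ∧ Nonempty (CohB1.tensorPow L' n ≅ Coh.structureModule X') ∧
      Nonempty ((Scheme.Modules.pullback i).obj L' ≅ L) := by
  classical
  have h0 : ∀ x : X', ∃ (V : X'.Opens) (e : Γ(L, i ⁻¹ᵁ V)), x ∈ V ∧ IsAffineOpen V ∧ IsGen L (i ⁻¹ᵁ V) e := by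
    intro x
    obtain ⟨V, e, hxV, -, hV, he⟩ := exists_frames_over_of_isInvertible i L hL x ⊤ trivial
    exact ⟨V, e, hxV, hV, he⟩
  choose A m hxA hAaff hm using h0
  -- transition functions on `X`
  obtain ⟨g, hg⟩ : ∃ g : ∀ x y, Γ(X, i ⁻¹ᵁ (A x ⊓ A y)), ∀ x y,
      res L (i.preimage_mono (inf_le_left : A x ⊓ A y ≤ A x)) (m x) =
        g x y • res L (i.preimage_mono (inf_le_right : A x ⊓ A y ≤ A y)) (m y) :=
    ⟨fun x y => coef (hm y) (i.preimage_mono inf_le_right) (res L (i.preimage_mono inf_le_left) (m x)),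
      fun x y => (coef_spec (hm y) _ _).symm⟩
  have hgc : ∀ x y z,
      resf (i.preimage_mono (inf_le_inf_right (A z) inf_le_left : A x ⊓ A y ⊓ A z ≤ A x ⊓ A z)) (g x z) =
        resf (i.preimage_mono (inf_le_left : A x ⊓ A y ⊓ A z ≤ A x ⊓ A y)) (g x y) *
          resf (i.preimage_mono (inf_le_inf_right (A z) inf_le_right : A x ⊓ A y ⊓ A z ≤ A y ⊓ A z))
            (g y z) := by
    intro x y z
    have hk := (hm z) (i ⁻¹ᵁ (A x ⊓ A y ⊓ A z)) (i.preimage_mono inf_le_right)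
    apply hk.1
    change resf _ (g x z) • res L _ (m z) = (resf _ (g x y) * resf _ (g y z)) • res L _ (m z)
    have e1 := congrArg (res L (i.preimage_mono
      (inf_le_inf_right (A z) inf_le_left : A x ⊓ A y ⊓ A z ≤ A x ⊓ A z))) (hg x z)
    have e2 := congrArg (res L (i.preimage_mono (inf_le_left : A x ⊓ A y ⊓ A z ≤ A x ⊓ A y))) (hg x y)
    have e3 := congrArg (res L (i.preimage_mono
      (inf_le_inf_right (A z) inf_le_right : A x ⊓ A y ⊓ A z ≤ A y ⊓ A z))) (hg y z)
    rw [res_smul, res_res, res_res] at e1 e2 e3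
    rw [mul_smul, ← e3, ← e2, ← e1]
  -- the functions `u x` trivialising `L^n`
  let P : ∀ x, Γ(Coh.structureModule X, i ⁻¹ᵁ A x) := fun x => α.hom.app (i ⁻¹ᵁ A x) (pw L _ (m x) n)
  have hP : ∀ x, IsGen (Coh.structureModule X) (i ⁻¹ᵁ A x) (P x) :=
    fun x => isGen_of_iso α (isGen_pw L _ (m x) (hm x) n)
  let u : ∀ x, Γ(X, i ⁻¹ᵁ A x) := fun x => ofS _ (P x)
  have hu : ∀ x, IsUnit (u x) := by
    intro x
    obtain ⟨r, hr⟩ := ((hP x) _ le_rfl).2 (toS _ 1)
    have hr' : r • P x = toS _ 1 := by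
      have : res (Coh.structureModule X) le_rfl (P x) = P x := res_self _ _
      rw [← this]; exact hr
    refine IsUnit.of_mul_eq_one r ?_
    rw [mul_comm]
    exact congrArg (ofS _) hr'
  have huu : ∀ x y, resf (i.preimage_mono (inf_le_left : A x ⊓ A y ≤ A x)) (u x) =
      g x y ^ n * resf (i.preimage_mono (inf_le_right : A x ⊓ A y ≤ A y)) (u y) := by
    intro x y
    have h1 : res (Coh.structureModule X) (i.preimage_mono (inf_le_left : A x ⊓ A y ≤ A x)) (P x) =
        g x y ^ n • res (Coh.structureModule X) (i.preimage_mono (inf_le_right : A x ⊓ A y ≤ A y)) (P y) := by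
      change res _ _ (α.hom.app _ (pw L _ (m x) n)) = _ • res _ _ (α.hom.app _ (pw L _ (m y) n))
      have e1 := app_map α.hom (homOfLE (i.preimage_mono (inf_le_left : A x ⊓ A y ≤ A x))) (pw L _ (m x) n)
      have e2 := app_map α.hom (homOfLE (i.preimage_mono (inf_le_right : A x ⊓ A y ≤ A y))) (pw L _ (m y) n)
      change α.hom.app _ (res _ _ _) = res _ _ _ at e1
      change α.hom.app _ (res _ _ _) = res _ _ _ at e2
      rw [← e1, ← e2, res_pw, res_pw, hg x y, pw_smul, Scheme.Modules.Hom.app_smul]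
    exact congrArg (ofS _) h1
  -- lifts of the `u x`
  have hlift : ∀ x, ∃ u' : (Γ(X', A x))ˣ, i.app (A x) (u' : Γ(X', A x)) = u x := by
    intro x
    obtain ⟨c, hc⟩ := i.app_surjective (A x) (hAaff x) (u x)
    have hcu : IsUnit c := isUnit_of_isUnit_app i hs (A x) c (by rw [hc]; exact hu x)
    exact ⟨hcu.unit, by rw [IsUnit.unit_spec]; exact hc⟩
  choose u' hu' using hlift
  let a : ∀ x y, (Γ(X', A x ⊓ A y))ˣ := fun x y =>
    resu (inf_le_left : A x ⊓ A y ≤ A x) (u' x) * (resu (inf_le_right : A x ⊓ A y ≤ A y) (u' y))⁻¹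
  have hax : ∀ x y, ((a x y : (Γ(X', A x ⊓ A y))ˣ) : Γ(X', A x ⊓ A y)) *
      resf (inf_le_right : A x ⊓ A y ≤ A y) ((u' y : (Γ(X', A y))ˣ) : Γ(X', A y)) =
      resf (inf_le_left : A x ⊓ A y ≤ A x) ((u' x : (Γ(X', A x))ˣ) : Γ(X', A x)) := by
    intro x y
    change ((a x y * resu inf_le_right (u' y) : (Γ(X', A x ⊓ A y))ˣ) : Γ(X', A x ⊓ A y)) = _
    rw [inv_mul_cancel_right]
    rfl
  have hgu : ∀ x y, IsUnit (g x y) := by
    intro x y
    have h1 := (hm x).mono (i.preimage_mono (inf_le_left : A x ⊓ A y ≤ A x))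
    have h2 := (hm y).mono (i.preimage_mono (inf_le_right : A x ⊓ A y ≤ A y))
    rw [hg x y] at h1
    exact (isGen_smul_iff h2 (g x y)).1 h1
  have hroot : ∀ x y, ∃ g' : Γ(X', A x ⊓ A y), g' ^ n = ((a x y : (Γ(X', A x ⊓ A y))ˣ) : Γ(X', A x ⊓ A y)) ∧
      i.app (A x ⊓ A y) g' = g x y := by
    intro x y
    refine exists_root i hs n hn0 hn (A x ⊓ A y) _ (a x y).isUnit (g x y) ?_
    have h1 : i.app (A x ⊓ A y) ((resu (inf_le_right : A x ⊓ A y ≤ A y) (u' y) : (Γ(X', A x ⊓ A y))ˣ) :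
        Γ(X', A x ⊓ A y)) = resf (i.preimage_mono inf_le_right) (u y) := by
      rw [coe_resu, app_resf₀, hu']
    have h2 : i.app (A x ⊓ A y) ((resu (inf_le_left : A x ⊓ A y ≤ A x) (u' x) : (Γ(X', A x ⊓ A y))ˣ) :
        Γ(X', A x ⊓ A y)) = resf (i.preimage_mono inf_le_left) (u x) := by
      rw [coe_resu, app_resf₀, hu']
    have h3 : i.app (A x ⊓ A y) ((a x y : (Γ(X', A x ⊓ A y))ˣ) : Γ(X', A x ⊓ A y)) *
        resf (i.preimage_mono inf_le_right) (u y) = resf (i.preimage_mono inf_le_left) (u x) := by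
      rw [← h1, ← h2, ← map_mul]
      congr 1
      change ((a x y * resu inf_le_right (u' y) : (Γ(X', A x ⊓ A y))ˣ) : Γ(X', A x ⊓ A y)) = _
      rw [inv_mul_cancel_right]
    have hyu : IsUnit (resf (i.preimage_mono (inf_le_right : A x ⊓ A y ≤ A y)) (u y)) := (hu y).map _
    apply hyu.mul_left_injective
    change g x y ^ n * _ = _ * _
    rw [h3, huu x y]
  choose g' hg'pow hg'app using hroot
  have hg'u : ∀ x y, IsUnit (g' x y) := fun x y => by
    have : IsUnit (g' x y ^ n) := by rw [hg'pow]; exact (a x y).isUnit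
    exact (isUnit_pow_iff hn0.ne').1 this
  let η : ∀ x y, (Γ(X', A x ⊓ A y))ˣ := fun x y => (hg'u x y).unit
  have hηc : ∀ x y, ((η x y : (Γ(X', A x ⊓ A y))ˣ) : Γ(X', A x ⊓ A y)) = g' x y := fun x y => IsUnit.unit_spec _
  have hA : iSup A = ⊤ := by
    rw [eq_top_iff]
    intro y _
    exact Opens.mem_iSup.2 ⟨y, hxA y⟩
  -- the cocycle condition
  have hcoc : ∀ x y z,
      resf (inf_le_inf_right (A z) inf_le_left : A x ⊓ A y ⊓ A z ≤ A x ⊓ A z) (g' x z) =
        resf (inf_le_left : A x ⊓ A y ⊓ A z ≤ A x ⊓ A y) (g' x y) *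
          resf (inf_le_inf_right (A z) inf_le_right : A x ⊓ A y ⊓ A z ≤ A y ⊓ A z) (g' y z) := by
    intro x y z
    refine root_unique i hs n hn _ _ _ (((hg'u x y).map _).mul ((hg'u y z).map _)) ?_ ?_
    · rw [mul_pow, ← resf_pow, ← resf_pow, ← resf_pow, hg'pow, hg'pow, hg'pow, ← coe_resu, ← coe_resu, ← coe_resu,
        ← Units.val_mul]
      congr 1
      simp only [a, map_mul, map_inv, resu_resu]
      rw [mul_assoc, inv_mul_cancel_left]
    · rw [map_mul, app_resf₀, app_resf₀, app_resf₀, hg'app, hg'app, hg'app]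
      exact hgc x y z
  obtain ⟨L', t, hL'inv, ht, htt⟩ := Groth.Agent.S10963.result X' A hA η (by
    intro x y z
    rw [hηc, hηc, hηc]
    exact hcoc x y z)
  haveI : L'.IsQuasicoherent := isQuasicoherent_of_isInvertible L' hL'inv
  have htgen : ∀ x, IsGen L' (A x) (t x) := ht
  have htt' : ∀ x y, res L' (inf_le_left : A x ⊓ A y ≤ A x) (t x) =
      g' x y • res L' (inf_le_right : A x ⊓ A y ≤ A y) (t y) := by
    intro x y
    rw [← hηc]
    exact htt x y
  refine ⟨L', hL'inv, ?_, ?_⟩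
  · -- `L'^n` is trivial
    have hcov : ∀ z : X', ∃ x, z ∈ A x := fun z => ⟨z, hxA z⟩
    obtain ⟨Φ, -⟩ := exists_iso_of_frames (CohB1.tensorPow L' n) (Coh.structureModule X') A hcov
      (fun x => pw L' _ (t x) n) (fun x => toS _ ((u' x : (Γ(X', A x))ˣ) : Γ(X', A x)))
      (fun x => isGen_pw L' _ (t x) (htgen x) n)
      (fun x => by
        have h1 := isGen_one (X := X') (A x)
        have h2 : toS (A x) ((u' x : (Γ(X', A x))ˣ) : Γ(X', A x)) =
            ((u' x : (Γ(X', A x))ˣ) : Γ(X', A x)) • toS (A x) 1 := by rw [smul_toS, mul_one]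
        rw [h2]
        exact (isGen_smul_iff h1 _).2 (u' x).isUnit)
      (fun x y => by
        refine cocycle_of_transition (isGen_pw L' _ (t y) (htgen y) n) (g' x y ^ n) ?_ ?_
        · rw [res_pw, res_pw, htt' x y, pw_smul]
        · change toS _ (resf inf_le_left ((u' x : (Γ(X', A x))ˣ) : Γ(X', A x))) =
            toS _ (g' x y ^ n * resf inf_le_right ((u' y : (Γ(X', A y))ˣ) : Γ(X', A y)))
          congr 1
          rw [hg'pow]
          exact (hax x y).symm)
    exact ⟨Φ⟩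
  · -- `i^* L' ≅ L`
    have hcovP : ∀ z : X, ∃ x, z ∈ i ⁻¹ᵁ A x := fun z => ⟨i z, hxA (i z)⟩
    obtain ⟨Φ, -⟩ := exists_iso_of_frames L ((Scheme.Modules.pullback i).obj L')
      (fun x => i ⁻¹ᵁ A x) hcovP (fun x => m x) (fun x => unitSec i L' le_rfl (t x))
      (fun x => hm x) (fun x => isGen_unitSec i L' (hAaff x) (t x) (htgen x))
      (fun x y => by
        refine cocycle_of_transition (hm y)
          (i.app (A x ⊓ A y) (g' x y) : Γ(X, i ⁻¹ᵁ (A x ⊓ A y))) ?_ ?_
        · rw [hg'app]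
          exact hg x y
        · have h2 := res_unitSec_of_transition i L' (t x) (t y) (g' x y) (htt' x y)
          have h5 : i.appLE (A x ⊓ A y) (i ⁻¹ᵁ A x ⊓ i ⁻¹ᵁ A y) (preimage_inf_le i (A x) (A y)) =
              i.app (A x ⊓ A y) := Scheme.Hom.appLE_eq_app i
          rw [h5] at h2
          exact h2)
    exact ⟨Φ.symm⟩

end Groth.Agent.Lib.Helper23.TorsLift
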