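import Mathlib
import Groth.Prelude
import Groth.Agent.Lib.Helper23TorsLift2
import Groth.Agent.Lib.Helper23ClPic
import Groth.Agent.S10963
set_option backward.isDefEq.respectTransparency.types false

/-!
# Extracting `n`-th roots of invertible modules along a thickening (helper23)

Namespace `Groth.Agent.Lib.Helper23.TorsLift`.

* `exists_root_module` : `i : X ⟶ X'` a surjective closed immersion, `n > 0` invertible on `X`, `L` invertible on `X'`,
  `L₀` invertible on `X` with `L₀^{⊗ n} ≅ i^* L` ⇒ there is an invertible `M` on `X'` with `M^{⊗ n} ≅ L` and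
  `i^* M ≅ L₀`.
-/

set_option autoImplicit false
universe u
open CategoryTheory Limits AlgebraicGeometry TopologicalSpace Opposite

namespace Groth.Agent.Lib.Helper23.TorsLift
open Groth.Agent.Lib.Helper6 Groth.Agent.Lib.Helper23.FinPic Groth.Agent.Lib.Helper23.PB
  Groth.Agent.Lib.Helper23.SecTw Groth.Agent.Lib.Helper23.GenLocus Groth.Agent.Lib.Helper23.Extend
  Groth.Agent.Lib.Helper23.ClPic Groth.Agent.Helper13PullbackUnit Groth.Agent.Lib.Helper23.GenNear

variable {X X' : Scheme.{u}} (i : X ⟶ X') (hs : Function.Surjective i)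

include hs in
theorem exists_root_module [IsClosedImmersion i] (n : ℕ) (hn0 : 0 < n) (hn : IsUnit (n : Γ(X, ⊤)))
    (L : X'.Modules) (hL : PicF.IsInvertible L) (L₀ : X.Modules) (hL₀ : PicF.IsInvertible L₀)
    (β : CohB1.tensorPow L₀ n ≅ (Scheme.Modules.pullback i).obj L) :
    ∃ M : X'.Modules, PicF.IsInvertible M ∧ Nonempty (CohB1.tensorPow M n ≅ L) ∧
      Nonempty ((Scheme.Modules.pullback i).obj M ≅ L₀) := by
  classical
  haveI : L.IsQuasicoherent := isQuasicoherent_of_isInvertible L hL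
  have h0 : ∀ x : X', ∃ (V : X'.Opens) (m : Γ(L₀, i ⁻¹ᵁ V)) (e : Γ(L, V)), x ∈ V ∧ IsAffineOpen V ∧
      IsGen L₀ (i ⁻¹ᵁ V) m ∧ IsGen L V e := by
    intro x
    obtain ⟨W, E, hxW, -, hE⟩ := exists_affine_gen L hL x
    obtain ⟨V, m, hxV, hVW, hV, hm⟩ := exists_frames_over_of_isInvertible i L₀ hL₀ x W hxW
    exact ⟨V, m, res L hVW E, hxV, hV, hm, hE.mono hVW⟩
  choose A m e hxA hAaff hm he using h0
  -- transition functions on `X`
  obtain ⟨g, hg⟩ : ∃ g : ∀ x y, Γ(X, i ⁻¹ᵁ (A x ⊓ A y)), ∀ x y,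
      res L₀ (i.preimage_mono (inf_le_left : A x ⊓ A y ≤ A x)) (m x) =
        g x y • res L₀ (i.preimage_mono (inf_le_right : A x ⊓ A y ≤ A y)) (m y) :=
    ⟨fun x y => coef (hm y) (i.preimage_mono inf_le_right) (res L₀ (i.preimage_mono inf_le_left) (m x)),
      fun x y => (coef_spec (hm y) _ _).symm⟩
  have hgc : ∀ x y z,
      resf (i.preimage_mono (inf_le_inf_right (A z) inf_le_left : A x ⊓ A y ⊓ A z ≤ A x ⊓ A z)) (g x z) =
        resf (i.preimage_mono (inf_le_left : A x ⊓ A y ⊓ A z ≤ A x ⊓ A y)) (g x y) *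
          resf (i.preimage_mono (inf_le_inf_right (A z) inf_le_right : A x ⊓ A y ⊓ A z ≤ A y ⊓ A z))
            (g y z) := by
    intro x y z
    have hk := (hm z) (i ⁻¹ᵁ (A x ⊓ A y ⊓ A z)) (i.preimage_mono inf_le_right)
    apply hk.1
    change resf _ (g x z) • res L₀ _ (m z) = (resf _ (g x y) * resf _ (g y z)) • res L₀ _ (m z)
    have e1 := congrArg (res L₀ (i.preimage_mono
      (inf_le_inf_right (A z) inf_le_left : A x ⊓ A y ⊓ A z ≤ A x ⊓ A z))) (hg x z)
    have e2 := congrArg (res L₀ (i.preimage_mono (inf_le_left : A x ⊓ A y ⊓ A z ≤ A x ⊓ A y))) (hg x y)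
    have e3 := congrArg (res L₀ (i.preimage_mono
      (inf_le_inf_right (A z) inf_le_right : A x ⊓ A y ⊓ A z ≤ A y ⊓ A z))) (hg y z)
    rw [res_smul, res_res, res_res] at e1 e2 e3
    rw [mul_smul, ← e3, ← e2, ← e1]
  -- transition functions of `L` on `X'`
  obtain ⟨G, hG⟩ : ∃ G : ∀ x y, Γ(X', A x ⊓ A y), ∀ x y,
      res L (inf_le_left : A x ⊓ A y ≤ A x) (e x) =
        G x y • res L (inf_le_right : A x ⊓ A y ≤ A y) (e y) :=
    ⟨fun x y => coef (he y) inf_le_right (res L inf_le_left (e x)),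
      fun x y => (coef_spec (he y) _ _).symm⟩
  have hGc : ∀ x y z,
      resf (inf_le_inf_right (A z) inf_le_left : A x ⊓ A y ⊓ A z ≤ A x ⊓ A z) (G x z) =
        resf (inf_le_left : A x ⊓ A y ⊓ A z ≤ A x ⊓ A y) (G x y) *
          resf (inf_le_inf_right (A z) inf_le_right : A x ⊓ A y ⊓ A z ≤ A y ⊓ A z) (G y z) := by
    intro x y z
    have hk := (he z) (A x ⊓ A y ⊓ A z) inf_le_right
    apply hk.1
    change resf _ (G x z) • res L _ (e z) = (resf _ (G x y) * resf _ (G y z)) • res L _ (e z)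
    have e1 := congrArg (res L
      (inf_le_inf_right (A z) inf_le_left : A x ⊓ A y ⊓ A z ≤ A x ⊓ A z)) (hG x z)
    have e2 := congrArg (res L (inf_le_left : A x ⊓ A y ⊓ A z ≤ A x ⊓ A y)) (hG x y)
    have e3 := congrArg (res L
      (inf_le_inf_right (A z) inf_le_right : A x ⊓ A y ⊓ A z ≤ A y ⊓ A z)) (hG y z)
    rw [res_smul, res_res, res_res] at e1 e2 e3
    rw [mul_smul, ← e3, ← e2, ← e1]
  have hGu : ∀ x y, IsUnit (G x y) := by
    intro x y
    have h1 := (he x).mono (inf_le_left : A x ⊓ A y ≤ A x)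
    have h2 := (he y).mono (inf_le_right : A x ⊓ A y ≤ A y)
    rw [hG x y] at h1
    exact (isGen_smul_iff h2 (G x y)).1 h1
  -- the two frames of `i^* L`
  let P : ∀ x, Γ((Scheme.Modules.pullback i).obj L, i ⁻¹ᵁ A x) := fun x =>
    β.hom.app (i ⁻¹ᵁ A x) (pw L₀ _ (m x) n)
  have hP : ∀ x, IsGen ((Scheme.Modules.pullback i).obj L) (i ⁻¹ᵁ A x) (P x) :=
    fun x => isGen_of_iso β (isGen_pw L₀ _ (m x) (hm x) n)
  let Q : ∀ x, Γ((Scheme.Modules.pullback i).obj L, i ⁻¹ᵁ A x) := fun x => unitSec i L le_rfl (e x)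
  have hQ : ∀ x, IsGen ((Scheme.Modules.pullback i).obj L) (i ⁻¹ᵁ A x) (Q x) :=
    fun x => isGen_unitSec i L (hAaff x) (e x) (he x)
  obtain ⟨u, hu0⟩ : ∃ u : ∀ x, Γ(X, i ⁻¹ᵁ A x), ∀ x, P x = u x • Q x := by
    refine ⟨fun x => coef (hQ x) le_rfl (P x), fun x => ?_⟩
    have h1 := coef_spec (hQ x) le_rfl (P x)
    rw [res_self] at h1
    exact h1.symm
  have hu : ∀ x, IsUnit (u x) := by
    intro x
    have h1 := hP x
    rw [hu0 x] at h1
    exact (isGen_smul_iff (hQ x) (u x)).1 h1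
  have hPP : ∀ x y, res ((Scheme.Modules.pullback i).obj L) (i.preimage_mono (inf_le_left : A x ⊓ A y ≤ A x)) (P x) =
      g x y ^ n • res ((Scheme.Modules.pullback i).obj L)
        (i.preimage_mono (inf_le_right : A x ⊓ A y ≤ A y)) (P y) := by
    intro x y
    change res _ _ (β.hom.app _ (pw L₀ _ (m x) n)) = _ • res _ _ (β.hom.app _ (pw L₀ _ (m y) n))
    have e1 := app_map β.hom (homOfLE (i.preimage_mono (inf_le_left : A x ⊓ A y ≤ A x))) (pw L₀ _ (m x) n)
    have e2 := app_map β.hom (homOfLE (i.preimage_mono (inf_le_right : A x ⊓ A y ≤ A y))) (pw L₀ _ (m y) n)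
    change β.hom.app _ (res _ _ _) = res _ _ _ at e1
    change β.hom.app _ (res _ _ _) = res _ _ _ at e2
    rw [← e1, ← e2, res_pw, res_pw, hg x y, pw_smul, Scheme.Modules.Hom.app_smul]
  have hQQ : ∀ x y, res ((Scheme.Modules.pullback i).obj L) (i.preimage_mono (inf_le_left : A x ⊓ A y ≤ A x)) (Q x) =
      i.app (A x ⊓ A y) (G x y) • res ((Scheme.Modules.pullback i).obj L)
        (i.preimage_mono (inf_le_right : A x ⊓ A y ≤ A y)) (Q y) := by
    intro x y
    have h2 := res_unitSec_of_transition i L (e x) (e y) (G x y) (hG x y)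
    have h5 : i.appLE (A x ⊓ A y) (i ⁻¹ᵁ A x ⊓ i ⁻¹ᵁ A y) (preimage_inf_le i (A x) (A y)) =
        i.app (A x ⊓ A y) := Scheme.Hom.appLE_eq_app i
    rw [h5] at h2
    exact h2
  have huu : ∀ x y, resf (i.preimage_mono (inf_le_left : A x ⊓ A y ≤ A x)) (u x) * i.app (A x ⊓ A y) (G x y) =
      g x y ^ n * resf (i.preimage_mono (inf_le_right : A x ⊓ A y ≤ A y)) (u y) := by
    intro x y
    have hk := (hQ y) (i ⁻¹ᵁ (A x ⊓ A y)) (i.preimage_mono inf_le_right)
    apply hk.1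
    change (resf _ (u x) * i.app (A x ⊓ A y) (G x y)) • res _ _ (Q y) = (g x y ^ n * resf _ (u y)) • res _ _ (Q y)
    have e1 := hPP x y
    rw [hu0 x, hu0 y, res_smul, res_smul, hQQ x y] at e1
    rw [mul_smul, mul_smul]
    exact e1
  -- lifts of the `u x`
  have hlift : ∀ x, ∃ u' : (Γ(X', A x))ˣ, i.app (A x) (u' : Γ(X', A x)) = u x := by
    intro x
    obtain ⟨c, hc⟩ := i.app_surjective (A x) (hAaff x) (u x)
    have hcu : IsUnit c := isUnit_of_isUnit_app i hs (A x) c (by rw [hc]; exact hu x)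
    exact ⟨hcu.unit, by rw [IsUnit.unit_spec]; exact hc⟩
  choose u' hu' using hlift
  let Gu : ∀ x y, (Γ(X', A x ⊓ A y))ˣ := fun x y => (hGu x y).unit
  have hGuc : ∀ x y, ((Gu x y : (Γ(X', A x ⊓ A y))ˣ) : Γ(X', A x ⊓ A y)) = G x y := fun x y => IsUnit.unit_spec _
  let a : ∀ x y, (Γ(X', A x ⊓ A y))ˣ := fun x y =>
    resu (inf_le_left : A x ⊓ A y ≤ A x) (u' x) * Gu x y * (resu (inf_le_right : A x ⊓ A y ≤ A y) (u' y))⁻¹
  have hax : ∀ x y, ((a x y : (Γ(X', A x ⊓ A y))ˣ) : Γ(X', A x ⊓ A y)) *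
      resf (inf_le_right : A x ⊓ A y ≤ A y) ((u' y : (Γ(X', A y))ˣ) : Γ(X', A y)) =
      resf (inf_le_left : A x ⊓ A y ≤ A x) ((u' x : (Γ(X', A x))ˣ) : Γ(X', A x)) * G x y := by
    intro x y
    change ((a x y * resu inf_le_right (u' y) : (Γ(X', A x ⊓ A y))ˣ) : Γ(X', A x ⊓ A y)) = _
    rw [inv_mul_cancel_right, Units.val_mul, hGuc]
    rfl
  have hroot : ∀ x y, ∃ g' : Γ(X', A x ⊓ A y), g' ^ n = ((a x y : (Γ(X', A x ⊓ A y))ˣ) : Γ(X', A x ⊓ A y)) ∧
      i.app (A x ⊓ A y) g' = g x y := by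
    intro x y
    refine exists_root i hs n hn0 hn (A x ⊓ A y) _ (a x y).isUnit (g x y) ?_
    have h1 : i.app (A x ⊓ A y) (resf (inf_le_right : A x ⊓ A y ≤ A y) ((u' y : (Γ(X', A y))ˣ) : Γ(X', A y))) =
        resf (i.preimage_mono inf_le_right) (u y) := by
      rw [app_resf₀, hu']
    have h2 : i.app (A x ⊓ A y) (resf (inf_le_left : A x ⊓ A y ≤ A x) ((u' x : (Γ(X', A x))ˣ) : Γ(X', A x))) =
        resf (i.preimage_mono inf_le_left) (u x) := by
      rw [app_resf₀, hu']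
    have h3 : i.app (A x ⊓ A y) ((a x y : (Γ(X', A x ⊓ A y))ˣ) : Γ(X', A x ⊓ A y)) *
        resf (i.preimage_mono inf_le_right) (u y) =
        resf (i.preimage_mono inf_le_left) (u x) * i.app (A x ⊓ A y) (G x y) := by
      rw [← h1, ← h2, ← map_mul, ← map_mul, hax x y]
    have hyu : IsUnit (resf (i.preimage_mono (inf_le_right : A x ⊓ A y ≤ A y)) (u y)) := (hu y).map _
    apply hyu.mul_left_injective
    change g x y ^ n * _ = _ * _
    rw [h3, huu x y]
  choose g' hg'pow hg'app using hroot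
  have hg'u : ∀ x y, IsUnit (g' x y) := fun x y => by
    have : IsUnit (g' x y ^ n) := by rw [hg'pow]; exact (a x y).isUnit
    exact (isUnit_pow_iff hn0.ne').1 this
  let η : ∀ x y, (Γ(X', A x ⊓ A y))ˣ := fun x y => (hg'u x y).unit
  have hηc : ∀ x y, ((η x y : (Γ(X', A x ⊓ A y))ˣ) : Γ(X', A x ⊓ A y)) = g' x y := fun x y => IsUnit.unit_spec _
  have hA : iSup A = ⊤ := by
    rw [eq_top_iff]
    intro y _
    exact Opens.mem_iSup.2 ⟨y, hxA y⟩
  -- cocycle for the units `Gu`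
  have hGuc' : ∀ x y z,
      resu (inf_le_inf_right (A z) inf_le_left : A x ⊓ A y ⊓ A z ≤ A x ⊓ A z) (Gu x z) =
        resu (inf_le_left : A x ⊓ A y ⊓ A z ≤ A x ⊓ A y) (Gu x y) *
          resu (inf_le_inf_right (A z) inf_le_right : A x ⊓ A y ⊓ A z ≤ A y ⊓ A z) (Gu y z) := by
    intro x y z
    apply Units.ext
    rw [Units.val_mul, coe_resu, coe_resu, coe_resu, hGuc, hGuc, hGuc]
    exact hGc x y z
  -- the cocycle condition
  have hcoc : ∀ x y z,
      resf (inf_le_inf_right (A z) inf_le_left : A x ⊓ A y ⊓ A z ≤ A x ⊓ A z) (g' x z) =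
        resf (inf_le_left : A x ⊓ A y ⊓ A z ≤ A x ⊓ A y) (g' x y) *
          resf (inf_le_inf_right (A z) inf_le_right : A x ⊓ A y ⊓ A z ≤ A y ⊓ A z) (g' y z) := by
    intro x y z
    refine root_unique i hs n hn _ _ _ (((hg'u x y).map _).mul ((hg'u y z).map _)) ?_ ?_
    · rw [mul_pow, ← resf_pow, ← resf_pow, ← resf_pow, hg'pow, hg'pow, hg'pow, ← coe_resu, ← coe_resu, ← coe_resu,
        ← Units.val_mul]
      congr 1
      simp only [a, map_mul, map_inv, resu_resu]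
      rw [hGuc' x y z]
      have hcomm : ∀ (p q r s t w : (Γ(X', A x ⊓ A y ⊓ A z))ˣ),
          p * (q * r) * s⁻¹ = p * q * t⁻¹ * (t * r * s⁻¹) := by
        intro p q r s t w
        group
      exact hcomm _ _ _ _ _ 1
    · rw [map_mul, app_resf₀, app_resf₀, app_resf₀, hg'app, hg'app, hg'app]
      exact hgc x y z
  obtain ⟨M, t, hMinv, ht, htt⟩ := Groth.Agent.S10963.result X' A hA η (by
    intro x y z
    rw [hηc, hηc, hηc]
    exact hcoc x y z)
  haveI : M.IsQuasicoherent := isQuasicoherent_of_isInvertible M hMinv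
  have htgen : ∀ x, IsGen M (A x) (t x) := ht
  have htt' : ∀ x y, res M (inf_le_left : A x ⊓ A y ≤ A x) (t x) =
      g' x y • res M (inf_le_right : A x ⊓ A y ≤ A y) (t y) := by
    intro x y
    rw [← hηc]
    exact htt x y
  refine ⟨M, hMinv, ?_, ?_⟩
  · -- `M^n ≅ L`
    have hcov : ∀ z : X', ∃ x, z ∈ A x := fun z => ⟨z, hxA z⟩
    obtain ⟨Φ, -⟩ := exists_iso_of_frames (CohB1.tensorPow M n) L A hcov
      (fun x => pw M _ (t x) n) (fun x => ((u' x : (Γ(X', A x))ˣ) : Γ(X', A x)) • e x)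
      (fun x => isGen_pw M _ (t x) (htgen x) n)
      (fun x => (isGen_smul_iff (he x) _).2 (u' x).isUnit)
      (fun x y => by
        refine cocycle_of_transition (isGen_pw M _ (t y) (htgen y) n) (g' x y ^ n) ?_ ?_
        · rw [res_pw, res_pw, htt' x y, pw_smul]
        · rw [res_smul, res_smul, hG x y, ← mul_smul, ← mul_smul, hg'pow, hax x y])
    exact ⟨Φ⟩
  · -- `i^* M ≅ L₀`
    have hcovP : ∀ z : X, ∃ x, z ∈ i ⁻¹ᵁ A x := fun z => ⟨i z, hxA (i z)⟩
    obtain ⟨Φ, -⟩ := exists_iso_of_frames L₀ ((Scheme.Modules.pullback i).obj M)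
      (fun x => i ⁻¹ᵁ A x) hcovP (fun x => m x) (fun x => unitSec i M le_rfl (t x))
      (fun x => hm x) (fun x => isGen_unitSec i M (hAaff x) (t x) (htgen x))
      (fun x y => by
        refine cocycle_of_transition (hm y)
          (i.app (A x ⊓ A y) (g' x y) : Γ(X, i ⁻¹ᵁ (A x ⊓ A y))) ?_ ?_
        · rw [hg'app]
          exact hg x y
        · have h2 := res_unitSec_of_transition i M (t x) (t y) (g' x y) (htt' x y)
          have h5 : i.appLE (A x ⊓ A y) (i ⁻¹ᵁ A x ⊓ i ⁻¹ᵁ A y) (preimage_inf_le i (A x) (A y)) =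
              i.app (A x ⊓ A y) := Scheme.Hom.appLE_eq_app i
          rw [h5] at h2
          exact h2)
    exact ⟨Φ.symm⟩

end Groth.Agent.Lib.Helper23.TorsLift
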