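import Mathlib
import Groth.Agent.Lib.Helper23Adapted
import Groth.Agent.Lib.Helper10ML

/-!
# Towers of abelian groups with surjective transition maps are `lim`-acyclic (helper23)

* `isZero_R'_of_acyclic`, `isZero_rightDerived_succ_iff`: object-level bridge
  `IsZero ((F.rightDerived (k+1)).obj X) ↔ IsZero ((R' F (k+1)).obj X)`.
* `P A`, `ιP A : A ⟶ P A` (mono), `Surj`, `surj_P`, `surj_X₃`, `epi_lim_map`, `shortExact_map_lim`.
-/

open CategoryTheory Limits Category Opposite

namespace Groth.Agent.Lib.Helper23Towers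

open HomologicalComplex Groth.Agent.S12229 Groth.Agent.Lib.Helper23Bridge Groth.Agent.Lib.Helper23Acyclic
  Groth.Agent.Lib.Helper23Leray Groth.Agent.Lib.Helper23Adapted Groth.Agent.Lib.Helper10

section Bridge
universe w w' v v' u u'



section
variable {C : Type u} [Category.{v} C] [Abelian C] [HasDerivedCategory.{w} C]
    [EnoughInjectives C] {D : Type u'} [Category.{v'} D] [Abelian D] [HasDerivedCategory.{w'} D]
    (F : C ⥤ D) [F.Additive]

theorem isZero_R'_of_acyclic (k : ℤ) (hk : k ≠ 0) {X : C} (h : IsIso (τ F (sgl X))) :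
    IsZero ((R' F k).obj X) := by
  have : IsIso ((η' F k).app X) := by
    show IsIso ((DerivedCategory.homologyFunctor D k).map (τ F (sgl X)))
    infer_instance
  exact IsZero.of_iso (isZero_F' F k hk X) (asIso ((η' F k).app X)).symm

/-- object-level bridge in positive degrees. -/
theorem isZero_rightDerived_succ_iff (k : ℕ) (X : C) :
    IsZero ((F.rightDerived (k + 1)).obj X) ↔ IsZero ((R' F ((k : ℤ) + 1)).obj X) := by
  let I := injectiveResolution X
  have hinj : ∀ m, Injective (I.cochainComplex.X m) := fun m => inferInstance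
  let a : sgl X ⟶ ⟨I.cochainComplex, 0, inferInstance⟩ := ObjectProperty.homMk I.ι'
  have ha : QuasiIso a.hom := by
    show QuasiIso I.ι'
    infer_instance
  have e : ((k + 1 : ℕ) : ℤ) = (k : ℤ) + 1 := by push_cast; ring
  rw [← quasiIsoAt_succ_iff F I k, ← quasiIsoAt_int_iff_nat, e, quasiIsoAt_iff_isIso_homologyMap]
  have h2 := isIso_homology_τ_iff F I.cochainComplex 0 inferInstance hinj a ha ((k : ℤ) + 1)
  have h3 : IsIso (homologyMap ((F.mapHomologicalComplex (ComplexShape.up ℤ)).map I.ι') ((k : ℤ) + 1)) ↔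
      IsIso ((η' F ((k : ℤ) + 1)).app X) := h2.symm
  rw [h3]
  have z1 := isZero_F' F ((k : ℤ) + 1) (by omega) X
  constructor
  · intro h
    exact IsZero.of_iso z1 (asIso ((η' F ((k : ℤ) + 1)).app X)).symm
  · intro z2
    exact ⟨⟨0, z1.eq_of_src _ _, z2.eq_of_src _ _⟩⟩

end


end Bridge

section Towers
universe u


abbrev T := ℕᵒᵖ ⥤ AddCommGrpCat.{u}

example : PreservesFiniteLimits (lim : T.{u} ⥤ AddCommGrpCat.{u}) := inferInstance

/-- the tower `n ↦ ∏_{k ≤ n} A_k`. -/
noncomputable def P (A : T.{u}) : T.{u} where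
  obj n := AddCommGrpCat.of (∀ k : {k : ℕ // k ≤ n.unop}, A.obj (op k.1))
  map {n m} f := AddCommGrpCat.ofHom
    { toFun := fun x k => x ⟨k.1, k.2.trans (leOfHom f.unop)⟩
      map_zero' := rfl
      map_add' := fun _ _ => rfl }
  map_id n := by ext x; rfl
  map_comp f g := by ext x; rfl

/-- the embedding `A ⟶ P A`. -/
noncomputable def ιP (A : T.{u}) : A ⟶ P A where
  app n := AddCommGrpCat.ofHom
    { toFun := fun a k => A.map (homOfLE k.2).op a
      map_zero' := by funext k; simp
      map_add' := fun a b => by funext k; simp }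
  naturality n m f := by
    ext a
    funext k
    show A.map (homOfLE k.2).op (A.map f a) = A.map (homOfLE (k.2.trans (leOfHom f.unop))).op a
    have e : (homOfLE (k.2.trans (leOfHom f.unop))).op = f ≫ (homOfLE k.2).op := Subsingleton.elim _ _
    rw [e, A.map_comp]; rfl

instance (A : T.{u}) : Mono (ιP A) := by
  have : ∀ n, Mono ((ιP A).app n) := by
    intro n
    rw [AddCommGrpCat.mono_iff_injective]
    intro a b h
    have h1 := congrFun h ⟨n.unop, le_rfl⟩
    have e : (homOfLE (le_refl n.unop)).op = 𝟙 n := Subsingleton.elim _ _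
    change A.map (homOfLE (le_refl n.unop)).op a = A.map (homOfLE (le_refl n.unop)).op b at h1
    rw [e, A.map_id] at h1
    exact h1
  exact NatTrans.mono_of_mono_app _

/-- the class of towers with surjective transition maps. -/
def Surj : ObjectProperty T.{u} := fun A => ∀ ⦃i j : ℕᵒᵖ⦄ (f : i ⟶ j), Function.Surjective (A.map f)

theorem surj_P (A : T.{u}) : Surj (P A) := by
  intro i j f x
  classical
  refine ⟨fun k => if h : k.1 ≤ j.unop then x ⟨k.1, h⟩ else 0, ?_⟩
  funext k
  show (if h : k.1 ≤ j.unop then x ⟨k.1, h⟩ else 0) = x k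
  rw [dif_pos k.2]




/-- pointwise short exactness. -/
theorem shortExact_app (S : ShortComplex T.{u}) (hS : S.ShortExact) (n : ℕᵒᵖ) :
    (S.map ((evaluation ℕᵒᵖ AddCommGrpCat.{u}).obj n)).ShortExact :=
  hS.map_of_exact _

theorem surj_X₃ (S : ShortComplex T.{u}) (hS : S.ShortExact) (h₂ : Surj S.X₂) : Surj S.X₃ := by
  intro i j f z
  obtain ⟨y, hy⟩ := (shortExact_app S hS j).ab_surjective_g z
  obtain ⟨x, hx⟩ := h₂ f y
  refine ⟨S.g.app i x, ?_⟩
  have := NatTrans.naturality_apply S.g f x
  rw [← this, hx]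
  exact hy

theorem epi_lim_map (S : ShortComplex T.{u}) (hS : S.ShortExact) (h₁ : Surj S.X₁) :
    Epi ((lim : T.{u} ⥤ AddCommGrpCat.{u}).map S.g) := by
  rw [AddCommGrpCat.epi_iff_surjective]
  intro r
  have hML : (S.X₁ ⋙ forget AddCommGrpCat).IsMittagLeffler :=
    Functor.isMittagLeffler_of_surjective _ (fun i j f => h₁ f)
  let E : ∀ i : ℕᵒᵖ, Set (S.X₂.obj i) := fun i => {q | S.g.app i q = limit.π S.X₃ i r}
  obtain ⟨s, hs⟩ := exists_section_of_torsor nat_hcof S.f hML E
    (by
      intro i j f x hx
      show S.g.app j (S.X₂.map f x) = limit.π S.X₃ j r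
      have h1 := NatTrans.naturality_apply S.g f x
      have hx' : S.g.app i x = limit.π S.X₃ i r := hx
      rw [h1, hx']
      have h2 := limit.w S.X₃ f
      exact congrArg (fun φ => φ r) h2)
    (by
      intro i
      obtain ⟨y, hy⟩ := (shortExact_app S hS i).ab_surjective_g (limit.π S.X₃ i r)
      exact ⟨y, hy⟩)
    (by
      intro i x y hx hy
      have hx' : S.g.app i x = limit.π S.X₃ i r := hx
      have hy' : S.g.app i y = limit.π S.X₃ i r := hy
      have hex := (shortExact_app S hS i).exact
      rw [ShortComplex.ab_exact_iff] at hex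
      obtain ⟨z, hz⟩ := hex (x - y) (by
        show S.g.app i (x - y) = 0
        rw [map_sub, hx', hy', sub_self])
      exact ⟨z, hz⟩)
    (by
      intro i x z hx
      have hx' : S.g.app i x = limit.π S.X₃ i r := hx
      show S.g.app i (x + S.f.app i z) = limit.π S.X₃ i r
      rw [map_add, hx']
      have h0 : S.g.app i (S.f.app i z) = 0 := by
        have := congrArg (fun φ => φ.app i) S.zero
        exact congrArg (fun φ => φ z) this
      rw [h0, add_zero])
  refine ⟨(limitEquivSections S.X₂).symm s, ?_⟩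
  apply limit_ext'
  intro j
  show limit.π S.X₃ j (limMap S.g ((limitEquivSections S.X₂).symm s)) = _
  rw [Groth.Agent.Lib.Helper10.limMap_π_apply, limitEquivSections_symm_apply]
  exact hs j

theorem shortExact_map_lim [(lim : T.{u} ⥤ AddCommGrpCat.{u}).Additive]
    (S : ShortComplex T.{u}) (hS : S.ShortExact) (h₁ : Surj S.X₁) :
    (S.map (lim : T.{u} ⥤ AddCommGrpCat.{u})).ShortExact := by
  have := hS.mono_f
  have := epi_lim_map S hS h₁
  exact { exact := hS.exact.map_of_mono_of_preservesKernel _ inferInstance inferInstance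
          mono_f := by show Mono (lim.map S.f); infer_instance
          epi_g := by show Epi (lim.map S.g); infer_instance }


end Towers

end Groth.Agent.Lib.Helper23Towers
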