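import Mathlib

/-!
# Helper lemmas on localizations of (pre)triangulated categories (helper23)

`Q : D ⥤ E` is any localization functor for a class `S` compatible with the triangulation;
results are proved on `S.Localization` and transferred through `Localization.uniq`.
-/

universe v u v' u'

namespace Groth.Agent.Lib.Helper23

open CategoryTheory CategoryTheory.Limits CategoryTheory.Pretriangulated

section Equivalence

variable {E : Type*} [Category E] {E' : Type*} [Category E']

theorem isZero_functor_obj_of_equivalence (e : E ≌ E') {X : E} (hX : IsZero X) :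
    IsZero (e.functor.obj X) where
  unique_to Y' :=
    letI : Unique (X ⟶ e.inverse.obj Y') := (hX.unique_to _).some
    ⟨(e.toAdjunction.homEquiv X Y').unique⟩
  unique_from Y' :=
    letI : Unique (e.symm.functor.obj Y' ⟶ X) := (hX.unique_from _).some
    ⟨(e.symm.toAdjunction.homEquiv Y' X).symm.unique⟩

theorem isZero_functor_obj_iff_of_equivalence (e : E ≌ E') (X : E) :
    IsZero (e.functor.obj X) ↔ IsZero X :=
  ⟨fun h => IsZero.of_iso (isZero_functor_obj_of_equivalence e.symm h) (e.unitIso.app X),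
    isZero_functor_obj_of_equivalence e⟩

theorem isZero_src_of_isIso_of_eq_zero {X Y : E} [HasZeroMorphisms E] (f : X ⟶ Y) [IsIso f]
    (hf : f = 0) : IsZero X := by
  rw [IsZero.iff_id_eq_zero, ← IsIso.hom_inv_id f]
  subst hf
  rw [zero_comp]

theorem isZero_tgt_of_isIso_of_eq_zero {X Y : E} [HasZeroMorphisms E] (f : X ⟶ Y) [IsIso f]
    (hf : f = 0) : IsZero Y := by
  rw [IsZero.iff_id_eq_zero, ← IsIso.inv_hom_id f]
  subst hf
  rw [comp_zero]

end Equivalence

section Transfer

variable {C : Type u} [Category.{v} C] (W : MorphismProperty C)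
  {E : Type u'} [Category.{v'} E] (L : C ⥤ E) [L.IsLocalization W]

theorem isZero_obj_iff_Q (X : C) : IsZero (L.obj X) ↔ IsZero (W.Q.obj X) := by
  rw [← isZero_functor_obj_iff_of_equivalence (Localization.uniq L W.Q W) (L.obj X)]
  exact ((Localization.compUniqFunctor L W.Q W).app X).isZero_iff

theorem isIso_map_iff_Q {X Y : C} (f : X ⟶ Y) : IsIso (L.map f) ↔ IsIso (W.Q.map f) := by
  rw [← isIso_iff_of_reflects_iso (L.map f) (Localization.uniq L W.Q W).functor]
  exact NatIso.isIso_map_iff (Localization.compUniqFunctor L W.Q W) f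

end Transfer

section Triangulated

variable {D : Type u} [Category.{v} D] [Preadditive D] [HasZeroObject D] [HasShift D ℤ]
  [∀ n : ℤ, (shiftFunctor D n).Additive] [Pretriangulated D]
  (S : MorphismProperty D) [S.HasLeftCalculusOfFractions] [S.HasRightCalculusOfFractions]
  [S.IsCompatibleWithTriangulation]
  {E : Type u'} [Category.{v'} E] (Q : D ⥤ E) [Q.IsLocalization S]

include S in
/-- For a distinguished triangle, `Q` kills the third object iff it inverts the first map. -/
theorem isZero_obj₃_iff_isIso_map_mor₁ (T : Triangle D) (hT : T ∈ distTriang D) :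
    IsZero (Q.obj T.obj₃) ↔ IsIso (Q.map T.mor₁) := by
  rw [isZero_obj_iff_Q S Q, isIso_map_iff_Q S Q]
  exact Triangle.isZero₃_iff_isIso₁ _ (S.Q.map_distinguished T hT)

theorem isZero_obj_iff_exists_zero_mem_left (Z : D) :
    IsZero (Q.obj Z) ↔ ∃ Z' : D, S (0 : Z ⟶ Z') := by
  rw [isZero_obj_iff_Q S Q]
  constructor
  · intro h
    have h1 : S.Q.map (𝟙 Z) = S.Q.map (0 : Z ⟶ Z) := h.eq_of_src _ _
    rw [MorphismProperty.map_eq_iff_postcomp S.Q S] at h1
    obtain ⟨Z', s, hs, eq⟩ := h1
    rw [Category.id_comp, zero_comp] at eq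
    exact ⟨Z', eq ▸ hs⟩
  · rintro ⟨Z', hs⟩
    have : IsIso (S.Q.map (0 : Z ⟶ Z')) := Localization.inverts S.Q S _ hs
    exact isZero_src_of_isIso_of_eq_zero (S.Q.map (0 : Z ⟶ Z')) (Functor.map_zero _ _ _)

theorem isZero_obj_iff_exists_zero_mem_right (Z : D) :
    IsZero (Q.obj Z) ↔ ∃ Z' : D, S (0 : Z' ⟶ Z) := by
  rw [isZero_obj_iff_Q S Q]
  constructor
  · intro h
    have h1 : S.Q.map (𝟙 Z) = S.Q.map (0 : Z ⟶ Z) := h.eq_of_src _ _
    rw [MorphismProperty.map_eq_iff_precomp S.Q S] at h1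
    obtain ⟨Z', s, hs, eq⟩ := h1
    rw [Category.comp_id, comp_zero] at eq
    exact ⟨Z', eq ▸ hs⟩
  · rintro ⟨Z', hs⟩
    have : IsIso (S.Q.map (0 : Z' ⟶ Z)) := Localization.inverts S.Q S _ hs
    exact isZero_tgt_of_isIso_of_eq_zero (S.Q.map (0 : Z' ⟶ Z)) (Functor.map_zero _ _ _)

omit [HasZeroObject D] [HasShift D ℤ] [∀ n : ℤ, (shiftFunctor D n).Additive] [Pretriangulated D]
  [S.HasLeftCalculusOfFractions] [S.HasRightCalculusOfFractions]
  [S.IsCompatibleWithTriangulation] [Q.IsLocalization S] in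
/-- If `Q` kills `X ⊞ Y` then it kills `X`. -/
theorem isZero_obj_of_isZero_obj_biprod_left (X Y : D) [HasBinaryBiproduct X Y] (h : IsZero (Q.obj (X ⊞ Y))) :
    IsZero (Q.obj X) where
  unique_to A := ⟨⟨⟨Q.map biprod.inl ≫ h.to_ A⟩, fun f => by
    have : f = Q.map (biprod.inl : X ⟶ X ⊞ Y) ≫ Q.map biprod.fst ≫ f := by
      rw [← Category.assoc, ← Q.map_comp, biprod.inl_fst, Q.map_id, Category.id_comp]
    rw [this]
    congr 1
    exact h.eq_of_src _ _⟩⟩
  unique_from A := ⟨⟨⟨h.from_ A ≫ Q.map biprod.fst⟩, fun f => by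
    have : f = (f ≫ Q.map (biprod.inl : X ⟶ X ⊞ Y)) ≫ Q.map biprod.fst := by
      rw [Category.assoc, ← Q.map_comp, biprod.inl_fst, Q.map_id, Category.comp_id]
    rw [this]
    congr 1
    exact h.eq_of_tgt _ _⟩⟩

end Triangulated

end Groth.Agent.Lib.Helper23
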