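import Mathlib
import Groth.Prelude
import Groth.Agent.S2331
import Groth.Agent.S2333
import Groth.Agent.S4381
import Groth.Agent.Lib.Helper23VeryAmple2
import Groth.Agent.Lib.Helper23VeryAmple4

/-!
# Ample versus relatively ample over a base with an ample sheaf (helper23)

Namespace `Groth.Agent.Lib.Helper23.VeryAmple5`.

* `isRelAmple_of_isAmple` : `f : X ⟶ S` quasi-compact, `L` ample on `X` ⇒ `L` is `f`-ample (any `S`).
* `exists_isAmple_of_isRelAmple` : `N` ample on `S`, `f : X ⟶ S` quasi-compact, `L` `f`-ample ⇒
  `L ⊗ f^*(N^n)` is ample on `X` for all large `n`.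
* `isClosedImmersion_of_isImmersion_of_isProper`, `quasiCompact_of_comp_toBase`.
-/

set_option autoImplicit false
universe u

namespace Groth.Agent.Lib.Helper23.VeryAmple5

open CategoryTheory CategoryTheory.Limits AlgebraicGeometry

/-- an ample module is ample relative to any quasi-compact morphism -/
theorem isRelAmple_of_isAmple {X S : Scheme.{u}} (f : X ⟶ S) [QuasiCompact f] (L : X.Modules)
    (hL : CohB1.IsAmple L) : RelAmple.IsRelAmple f L := by
  haveI : CompactSpace X := hL.2.1
  haveI : QuasiCompact (f ≫ specULiftZIsTerminal.from S) :=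
    (HasAffineProperty.iff_of_isAffine (P := @QuasiCompact)).2 inferInstance
  exact Groth.Agent.S2333.result f (specULiftZIsTerminal.from S) L
    ((Groth.Agent.S4381.result (f ≫ specULiftZIsTerminal.from S) L).2 hL)

/-- over a base with an ample module `N`, a relatively ample module becomes ample after twisting by a large power
of the pullback of `N` -/
theorem exists_isAmple_of_isRelAmple {X S : Scheme.{u}} (N : S.Modules) (hN : CohB1.IsAmple N)
    (f : X ⟶ S) [QuasiCompact f] (L : X.Modules) (hL : RelAmple.IsRelAmple f L) :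
    ∃ n₀ : ℕ, 0 < n₀ ∧ ∀ n, n₀ ≤ n →
      CohB1.IsAmple (CohB1.tensorMod L ((Scheme.Modules.pullback f).obj (CohB1.tensorPow N n))) := by
  haveI : CompactSpace S := hN.2.1
  haveI : QuasiCompact (specULiftZIsTerminal.from S) :=
    (HasAffineProperty.iff_of_isAffine (P := @QuasiCompact)).2 inferInstance
  have hN' : RelAmple.IsRelAmple (specULiftZIsTerminal.from S) N :=
    (Groth.Agent.S4381.result (specULiftZIsTerminal.from S) N).2 hN
  obtain ⟨n₀, hn₀, h⟩ := Groth.Agent.S2331.result f (specULiftZIsTerminal.from S) L N hL hN'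
  refine ⟨n₀, hn₀, fun n hn => ?_⟩
  exact (Groth.Agent.S4381.result (f ≫ specULiftZIsTerminal.from S) _).1 (h n hn)

end Groth.Agent.Lib.Helper23.VeryAmple5
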