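import Mathlib
import Groth.Agent.Lib.Helper14WEField
import Groth.Agent.Lib.Helper10WEtaleSch

/-!
# Weakly étale schemes over a separably closed field have sections (helper23)

* `exists_retraction`: a nonzero weakly étale algebra `A` over a separably closed field `k` has a `k`-retraction `A → k`.
* `exists_section`: a weakly étale morphism `P ⟶ Spec k` (`k` separably closed, `P` nonempty) has a section.
-/

set_option autoImplicit false
set_option backward.isDefEq.respectTransparency.types false
universe u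
open CategoryTheory CategoryTheory.Limits AlgebraicGeometry Opposite

namespace Groth.Agent.Lib.Helper23WESect

open Polynomial

theorem exists_retraction (k : Type u) [Field k] [IsSepClosed k] (A : Type u) [CommRing A] [Nontrivial A]
    [Algebra k A] [Algebra.WeaklyEtale k A] :
    ∃ r : A →+* k, r.comp (algebraMap k A) = RingHom.id k := by
  obtain ⟨m, hm⟩ := Ideal.exists_maximal A
  letI : Field (A ⧸ m) := Ideal.Quotient.field m
  haveI : Algebra.IsSeparable k (A ⧸ m) := by
    constructor
    intro x
    obtain ⟨a, rfl⟩ := Ideal.Quotient.mk_surjective x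
    obtain ⟨f, hf, hfa⟩ := Groth.Agent.Lib.Helper14.WEField.exists_separable_aeval_eq_zero k A a
    have h2 : aeval (Ideal.Quotient.mk m a) f = 0 := by
      have := Polynomial.aeval_algHom_apply (Ideal.Quotient.mkₐ k m) a f
      rw [hfa, map_zero] at this
      exact this
    exact hf.of_dvd (minpoly.dvd _ _ h2)
  have hb := IsSepClosed.algebraMap_bijective k (A ⧸ m)
  let e : k ≃+* (A ⧸ m) := RingEquiv.ofBijective (algebraMap k (A ⧸ m)) hb
  refine ⟨e.symm.toRingHom.comp (Ideal.Quotient.mk m), ?_⟩
  ext x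
  change e.symm (Ideal.Quotient.mk m (algebraMap k A x)) = x
  rw [RingEquiv.symm_apply_eq]
  rfl

theorem exists_section {k : Type u} [Field k] [IsSepClosed k] {P : Scheme.{u}}
    (f : P ⟶ Spec (CommRingCat.of k)) [WeaklyEtale f] [Nonempty P] :
    ∃ s : Spec (CommRingCat.of k) ⟶ P, s ≫ f = 𝟙 _ := by
  obtain ⟨p⟩ := ‹Nonempty P›
  obtain ⟨W, hW, hpW, -⟩ := exists_isAffineOpen_mem_and_subset (X := P) (x := p) (U := ⊤) trivial
  let φ : CommRingCat.of k ⟶ Γ(P, W) := Spec.preimage (hW.fromSpec ≫ f)
  have hφ : Spec.map φ = hW.fromSpec ≫ f := Spec.map_preimage _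
  haveI : WeaklyEtale (Spec.map φ) := by rw [hφ]; infer_instance
  have hwe := (Groth.Agent.Lib.Helper10.WEtaleSch.specMap_iff φ).mp inferInstance
  letI := φ.hom.toAlgebra
  haveI : Nonempty W := ⟨⟨p, hpW⟩⟩
  haveI : Nontrivial Γ(P, W) := inferInstance
  obtain ⟨r, hr⟩ := exists_retraction k Γ(P, W)
  refine ⟨Spec.map (CommRingCat.ofHom r) ≫ hW.fromSpec, ?_⟩
  rw [Category.assoc, ← hφ, ← Spec.map_comp]
  have : φ ≫ CommRingCat.ofHom r = 𝟙 _ := by
    ext x
    exact congrArg (fun h => h x) hr
  rw [this, Spec.map_id]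

end Groth.Agent.Lib.Helper23WESect
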