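import Groth.Prelude.Def_WeilCoh
import Mathlib.Tactic

/-!
Helper lemmas on Weil cohomology theories (prelude `WeilCoh`): the characterising identity of the
push-forward and nondegeneracy of the Poincare pairing.
-/

set_option autoImplicit false
universe u v w

namespace Groth.Agent.Lib.Helper23

open AlgebraicGeometry CategoryTheory WeilCoh

variable {k : Type u} [Field k] {P : ObjectProperty (Over (Spec (CommRingCat.of k)))}
variable {K : Type v} [Field K] (T : WeilCoh.TheoryOn.{u, v, w} k P K)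

/-- The characterising identity of the push-forward. -/
theorem tr_push_mul {X Y : P.FullSubcategory} (f : X ⟶ Y) (i : ℤ) (a : T.gr X i) (b : T.H Y)
    {n : ℤ} (hn : i + n = 2 * (WeilCoh.dim X.obj.left : ℤ)) (hb : b ∈ T.gr Y n) :
    T.tr Y ((T.push f i a : T.H Y) * b) = T.tr X ((a : T.H X) * T.pull f b) := by
  obtain rfl : n = 2 * (WeilCoh.dim X.obj.left : ℤ) - i := by omega
  have := T.duality Y (i + 2 * (WeilCoh.dim Y.obj.left : ℤ) - 2 * (WeilCoh.dim X.obj.left : ℤ))
    (2 * (WeilCoh.dim X.obj.left : ℤ) - i) (by omega)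
  have h := LinearMap.apply_symm_toPerfPair_self
    (WeilCoh.pairing K (T.gr Y (i + 2 * (WeilCoh.dim Y.obj.left : ℤ) -
      2 * (WeilCoh.dim X.obj.left : ℤ)))
      (T.gr Y (2 * (WeilCoh.dim X.obj.left : ℤ) - i)) (T.tr Y)) (T.pushFunctional f i a)
  exact congrArg (fun φ => φ ⟨b, hb⟩) h

/-- Nondegeneracy of the Poincare pairing on the left factor. -/
theorem eq_of_forall_tr_mul_eq {X : P.FullSubcategory} {m n : ℤ}
    (h : m + n = 2 * (WeilCoh.dim X.obj.left : ℤ)) {x y : T.H X}
    (hx : x ∈ T.gr X m) (hy : y ∈ T.gr X m)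
    (hxy : ∀ b ∈ T.gr X n, T.tr X (x * b) = T.tr X (y * b)) : x = y := by
  have := T.duality X m n h
  have hinj := (WeilCoh.pairing K (T.gr X m) (T.gr X n) (T.tr X)).toPerfPair.injective
  have : (⟨x, hx⟩ : T.gr X m) = ⟨y, hy⟩ := by
    apply hinj
    apply LinearMap.ext
    intro b
    exact hxy b.1 b.2
  exact congrArg Subtype.val this

/-- Membership in a graded piece transported along an equality of degrees. -/
theorem mem_gr_of_eq {X : P.FullSubcategory} {m n : ℤ} (h : m = n) {x : T.H X}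
    (hx : x ∈ T.gr X m) : x ∈ T.gr X n := h ▸ hx

include T in
/-- The dimension of a product, from the trace axioms. -/
theorem dim_prod {X Y Q : P.FullSubcategory} (p : Q ⟶ X) (q : Q ⟶ Y) (hQ : WeilCoh.IsProd p q) :
    (WeilCoh.dim Q.obj.left : ℤ) = WeilCoh.dim X.obj.left + WeilCoh.dim Y.obj.left := by
  obtain ⟨x, hx⟩ := (T.tr_bijective X).2 1
  obtain ⟨y, hy⟩ := (T.tr_bijective Y).2 1
  have hx' : T.tr X (x : T.H X) = 1 := hx
  have hy' : T.tr Y (y : T.H Y) = 1 := hy
  have h1 : T.tr Q (T.pull p x * T.pull q y) = 1 := by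
    rw [T.tr_prod p q hQ x y x.2 y.2, hx', hy', one_mul]
  by_contra hne
  have hmem : T.pull p (x : T.H X) * T.pull q (y : T.H Y) ∈
      T.gr Q (2 * (WeilCoh.dim X.obj.left : ℤ) + 2 * (WeilCoh.dim Y.obj.left : ℤ)) :=
    SetLike.mul_mem_graded (T.pull_mem p _ _ x.2) (T.pull_mem q _ _ y.2)
  have h0 := T.tr_vanish Q _ _ hmem (by omega)
  rw [h1] at h0
  exact one_ne_zero h0

end Groth.Agent.Lib.Helper23
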