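import Groth.Agent.Lib.Helper4VarDim6

/-!
# Morphisms of `k`-schemes and transcendence degrees of residue fields
-/

set_option autoImplicit false
set_option linter.style.haveILetI false
universe u

open AlgebraicGeometry CategoryTheory TopologicalSpace Topology

namespace Groth.Agent.Lib.Helper4.VarDim

section Field

variable (k : Type u) [Field k] {X Y : Scheme.{u}} [X.Over (Spec (CommRingCat.of k))]
  [Y.Over (Spec (CommRingCat.of k))]

attribute [local instance] sectionsAlgebra Curv2.resAlgebra

theorem resMap_eq_Γevaluation (x : X) (c : k) :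
    Curv2.resMap k X x c = (X.Γevaluation x).hom
      ((X ↘ Spec (CommRingCat.of k)).appTop.hom
        ((Scheme.ΓSpecIso (CommRingCat.of k)).inv.hom c)) := rfl

theorem residueFieldMap_resMap (f : Y ⟶ X)
    (hf : f ≫ (X ↘ Spec (CommRingCat.of k)) = (Y ↘ Spec (CommRingCat.of k))) (y : Y) (c : k) :
    (f.residueFieldMap y).hom (Curv2.resMap k X (f y) c) = Curv2.resMap k Y y c := by
  rw [resMap_eq_Γevaluation, resMap_eq_Γevaluation, ← hf, Scheme.Hom.comp_appTop]
  exact Scheme.Γevaluation_naturality_apply f y _

/-- The map on residue fields induced by a morphism of `k`-schemes, as a `k`-algebra map. -/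
noncomputable def residueFieldAlgHom (f : Y ⟶ X)
    (hf : f ≫ (X ↘ Spec (CommRingCat.of k)) = (Y ↘ Spec (CommRingCat.of k))) (y : Y) :
    X.residueField (f y) →ₐ[k] Y.residueField y where
  toRingHom := (f.residueFieldMap y).hom
  commutes' c := residueFieldMap_resMap k f hf y c

theorem trdegNat_le_of_hom [LocallyOfFiniteType (X ↘ Spec (CommRingCat.of k))]
    [LocallyOfFiniteType (Y ↘ Spec (CommRingCat.of k))] (f : Y ⟶ X)
    (hf : f ≫ (X ↘ Spec (CommRingCat.of k)) = (Y ↘ Spec (CommRingCat.of k))) (y : Y) :
    trdegNat k X (f y) ≤ trdegNat k Y y := by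
  have h := trdeg_le_of_injective (residueFieldAlgHom k f hf y)
    (residueFieldAlgHom k f hf y).toRingHom.injective
  rw [trdeg_eq_trdegNat k X (f y), trdeg_eq_trdegNat k Y y] at h
  exact_mod_cast h

end Field

end Groth.Agent.Lib.Helper4.VarDim
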