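import Mathlib
import Groth.Agent.S2422
import Groth.Agent.Lib.Helper23ZarConn
import Groth.Agent.Lib.Helper4DimFormulaW
import Groth.Agent.Lib.Helper4VarDim7

/-!
# Fibrations and function fields (helper23)

* `exists_section_of_forall_affine`: gluing sections inside the function field of an integral scheme;
* `mem_range_of_isIso`: `O_Y = f_* O_X`, `X` normal ⇒ `K(Y)` algebraically closed in `K(X)`;
* `isIso_of_algClosed`: converse over a field (from S2422);
* `eq_genericPoint_of_map_eq`: equal dimensions ⇒ only the generic point lies over the generic point;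
* `surjective_kappa_of_isIso`: `O_Y = f_* O_X`, `f` closed, generic fibre a point ⇒ `K(Y) → K(X)` surjective.
-/

set_option autoImplicit false
set_option backward.isDefEq.respectTransparency.types false
universe u

namespace Groth.Agent.Lib.Helper23.ZarConn2

section
open AlgebraicGeometry CategoryTheory Groth.Agent.Lib.Helper23.FFNorm

/-- gluing sections in the function field of an integral scheme -/
theorem exists_section_of_forall_affine {Y : Scheme.{u}} [IsIntegral Y] (U : Y.Opens)
    (hη : genericPoint Y ∈ U) (β : Y.functionField)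
    (h : ∀ W : Y.Opens, IsAffineOpen W → W ≤ U → ∀ hW : genericPoint Y ∈ W,
      ∃ t : Γ(Y, W), Y.presheaf.germ W (genericPoint Y) hW t = β) :
    ∃ t : Γ(Y, U), Y.presheaf.germ U (genericPoint Y) hη t = β := by
  have hl : ∀ W : {W : Y.Opens // IsAffineOpen W ∧ W ≤ U ∧ genericPoint Y ∈ W}, ∃ t : Γ(Y, W.1),
      Y.presheaf.germ W.1 (genericPoint Y) W.2.2.2 t = β := fun W => h W.1 W.2.1 W.2.2.1 W.2.2.2
  choose l hl using hl
  have hcompat : TopCat.Presheaf.IsCompatible Y.presheaf
      (fun W : {W : Y.Opens // IsAffineOpen W ∧ W ≤ U ∧ genericPoint Y ∈ W} => W.1) l := by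
    intro W W'
    apply germ_injective_of_isIntegral Y (genericPoint Y)
      (show genericPoint Y ∈ W.1 ⊓ W'.1 from ⟨W.2.2.2, W'.2.2.2⟩)
    rw [TopCat.Presheaf.germ_res_apply, TopCat.Presheaf.germ_res_apply, hl, hl]
  obtain ⟨t, ht, -⟩ := Y.sheaf.existsUnique_gluing'
    (fun W : {W : Y.Opens // IsAffineOpen W ∧ W ≤ U ∧ genericPoint Y ∈ W} => W.1) U
    (fun W => homOfLE W.2.2.1) (fun y hy => by
      obtain ⟨W, hW, hWU, hyW, hηW⟩ := exists_affine_nhd U y hy
      exact TopologicalSpace.Opens.mem_iSup.2 ⟨⟨W, hW, hWU, hηW⟩, hyW⟩) l hcompat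
  obtain ⟨W, hW, hWU, -, hηW⟩ := exists_affine_nhd U (genericPoint Y) hη
  refine ⟨t, ?_⟩
  have h1 := ht ⟨W, hW, hWU, hηW⟩
  rw [← hl ⟨W, hW, hWU, hηW⟩, ← h1]
  exact (TopCat.Presheaf.germ_res_apply Y.presheaf (homOfLE hWU) _ hηW t).symm


end

section

open AlgebraicGeometry CategoryTheory Groth.Agent.Lib.Helper23.FFNorm Groth.Agent.Lib.Helper23.ZarConn

theorem mem_range_of_isIso {X Y : Scheme.{u}} [IsIntegral X] [IsIntegral Y]
    (hX : Pi1.IsNormalScheme X) (f : X ⟶ Y)
    (hdom : f.base (genericPoint X) ⤳ genericPoint Y)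
    (hiso : ∀ U : Y.Opens, IsIso (f.app U))
    (x : X.functionField)
    (hx : (CohIII.stalkToFunctionField f (genericPoint Y) hdom).IsIntegralElem x) :
    x ∈ (CohIII.stalkToFunctionField f (genericPoint Y) hdom).range := by
  set κ := CohIII.stalkToFunctionField f (genericPoint Y) hdom with hκ
  obtain ⟨V₀, hV₀, -, -, hη⟩ := exists_affine_nhd (⊤ : Y.Opens) (genericPoint Y) trivial
  haveI : Nonempty V₀ := ⟨⟨_, hη⟩⟩
  haveI : IsDomain Γ(Y, V₀) := IsIntegral.component_integral V₀
  haveI : IsFractionRing Γ(Y, V₀) Y.functionField :=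
    functionField_isFractionRing_of_isAffineOpen Y V₀ hV₀
  letI algKX : Algebra Y.functionField X.functionField := κ.toAlgebra
  letI algAKX : Algebra Γ(Y, V₀) X.functionField :=
    (κ.comp (algebraMap Γ(Y, V₀) Y.functionField)).toAlgebra
  haveI : IsScalarTower Γ(Y, V₀) Y.functionField X.functionField :=
    IsScalarTower.of_algebraMap_eq' rfl
  have hx' : IsIntegral Y.functionField x := hx
  obtain ⟨m, hm⟩ := IsIntegral.exists_multiple_integral_of_isLocalization
    (nonZeroDivisors Γ(Y, V₀)) x hx'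
  obtain ⟨p, hp, hpe⟩ := hm
  have hηX : genericPoint X ∈ f ⁻¹ᵁ V₀ := mem_preimage f hdom hη
  have halgA : ∀ a : Γ(Y, V₀), algebraMap Γ(Y, V₀) X.functionField a =
      (X.presheaf.germ (f ⁻¹ᵁ V₀) (genericPoint X) hηX).hom ((f.app V₀).hom a) := fun a =>
    germ_kappa f hdom hη a
  set β : X.functionField := (m : Γ(Y, V₀)) • x with hβ
  -- sections over affine opens
  have haff : ∀ W : X.Opens, IsAffineOpen W → W ≤ f ⁻¹ᵁ V₀ → ∀ hW : genericPoint X ∈ W,
      ∃ t : Γ(X, W), X.presheaf.germ W (genericPoint X) hW t = β := by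
    intro W hW hWle hηW
    haveI : Nonempty W := ⟨⟨_, hηW⟩⟩
    haveI : IsDomain Γ(X, W) := IsIntegral.component_integral W
    haveI : IsIntegrallyClosed Γ(X, W) :=
      Groth.Agent.Lib.Helper4.NormIso.isIntegrallyClosed_sections hX W hW
    haveI : IsFractionRing Γ(X, W) X.functionField :=
      functionField_isFractionRing_of_isAffineOpen X W hW
    have h2 : IsIntegral Γ(X, W) β := by
      refine ⟨p.map ((X.presheaf.map (homOfLE hWle).op).hom.comp (f.app V₀).hom), hp.map _, ?_⟩
      rw [Polynomial.eval₂_map]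
      have : (algebraMap Γ(X, W) X.functionField).comp
          ((X.presheaf.map (homOfLE hWle).op).hom.comp (f.app V₀).hom) =
          algebraMap Γ(Y, V₀) X.functionField := by
        ext a
        rw [halgA]
        exact TopCat.Presheaf.germ_res_apply X.presheaf (homOfLE hWle) _ hηW _
      rw [this]
      exact hpe
    obtain ⟨t, ht⟩ := IsIntegrallyClosed.isIntegral_iff.1 h2
    exact ⟨t, ht⟩
  obtain ⟨t, ht⟩ := exists_section_of_forall_affine (f ⁻¹ᵁ V₀) hηX β haff
  haveI := hiso V₀
  obtain ⟨a, ha⟩ := (ConcreteCategory.bijective_of_isIso (f.app V₀)).2 t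
  have h3 : κ ((Y.presheaf.germ V₀ (genericPoint Y) hη).hom a) = β := by
    rw [hκ, germ_kappa f hdom hη a]
    rw [← ht]
    exact congrArg _ ha
  have hm0 : (Y.presheaf.germ V₀ (genericPoint Y) hη).hom (m : Γ(Y, V₀)) ≠ 0 := by
    intro h0
    have := germ_injective_of_isIntegral Y _ hη (h0.trans (map_zero _).symm)
    exact nonZeroDivisors.ne_zero m.2 this
  refine ⟨(Y.presheaf.germ V₀ (genericPoint Y) hη).hom a /
    (Y.presheaf.germ V₀ (genericPoint Y) hη).hom (m : Γ(Y, V₀)), ?_⟩
  rw [map_div₀, h3, hβ, Algebra.smul_def]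
  have h4 : algebraMap Γ(Y, V₀) X.functionField (m : Γ(Y, V₀)) =
      κ ((Y.presheaf.germ V₀ (genericPoint Y) hη).hom (m : Γ(Y, V₀))) := rfl
  rw [h4]
  have h5 : κ ((Y.presheaf.germ V₀ (genericPoint Y) hη).hom (m : Γ(Y, V₀))) ≠ 0 := by
    intro h0
    exact hm0 (κ.injective (h0.trans (map_zero _).symm))
  field_simp


end

section

open CategoryTheory CategoryTheory.Limits AlgebraicGeometry
open CohIII

theorem isIso_of_algClosed (k : Type u) [Field k]
    (X Y : Scheme.{u}) [X.Over (Spec (CommRingCat.of k))] [Y.Over (Spec (CommRingCat.of k))]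
    [IsProper (X ↘ Spec (CommRingCat.of k))] [IsProper (Y ↘ Spec (CommRingCat.of k))] [IsIntegral X] [IsIntegral Y]
    (hY : Pi1.IsNormalScheme Y) (f : X ⟶ Y) (hf : f ≫ (Y ↘ Spec (CommRingCat.of k)) = X ↘ Spec (CommRingCat.of k))
    (h : f.base (genericPoint ↥X) ⤳ genericPoint ↥Y)
    (hac : ∀ x : ↑X.functionField, (CohIII.stalkToFunctionField f (genericPoint ↥Y) h).IsIntegralElem x → x ∈ (CohIII.stalkToFunctionField f (genericPoint ↥Y) h).range) :
    ∀ U : Y.Opens, IsIso (f.app U) := by
  haveI : IsLocallyNoetherian X := LocallyOfFiniteType.isLocallyNoetherian (X ↘ Spec (CommRingCat.of k))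
  haveI : IsLocallyNoetherian Y := LocallyOfFiniteType.isLocallyNoetherian (Y ↘ Spec (CommRingCat.of k))
  haveI : IsProper (f ≫ (Y ↘ Spec (CommRingCat.of k))) := by rw [hf]; infer_instance
  haveI : IsProper f := IsProper.of_comp f (Y ↘ Spec (CommRingCat.of k))
  refine Groth.Agent.S2422.result hY f h ?_
  rintro x ⟨p, hp0, hp⟩
  refine hac x ⟨p * Polynomial.C p.leadingCoeff⁻¹, Polynomial.monic_mul_leadingCoeff_inv hp0, ?_⟩
  rw [Polynomial.eval₂_mul, hp, zero_mul]


end

section

open AlgebraicGeometry CategoryTheory Groth.Agent.Lib.Helper23.FFNorm Groth.Agent.Lib.Helper23.ZarConn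
open Groth.Agent.Lib.Helper4.VarDim Groth.Agent.Lib.Helper4.DimFormula

/-- with equal dimensions, the generic point is the only point over the generic point -/
theorem eq_genericPoint_of_map_eq (k : Type u) [Field k]
    (X Y : Scheme.{u}) [X.Over (Spec (CommRingCat.of k))] [Y.Over (Spec (CommRingCat.of k))]
    [LocallyOfFiniteType (X ↘ Spec (CommRingCat.of k))]
    [LocallyOfFiniteType (Y ↘ Spec (CommRingCat.of k))] [IsIntegral X] [IsIntegral Y]
    (f : X ⟶ Y) (hf : f ≫ (Y ↘ Spec (CommRingCat.of k)) = X ↘ Spec (CommRingCat.of k))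
    (hdim : topologicalKrullDim ↥X = topologicalKrullDim ↥Y)
    (z : X) (hz : f.base z = genericPoint Y) : z = genericPoint X := by
  by_contra hne
  have h1 : trdegNat k X z < trdegNat k X (genericPoint X) :=
    trdegNat_lt_of_specializes k X (genericPoint X) z (genericPoint_specializes z) (Ne.symm hne)
  have h2 : trdegNat k Y (f.base z) ≤ trdegNat k X z := trdegNat_le_of_hom k f hf z
  rw [hz] at h2
  have h3 := topologicalKrullDim_eq_trdegNat_genericPoint k (Y := X)
  have h4 := topologicalKrullDim_eq_trdegNat_genericPoint k (Y := Y)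
  rw [hdim, h4] at h3
  have h5 : trdegNat k Y (genericPoint Y) = trdegNat k X (genericPoint X) := by exact_mod_cast h3
  omega


end

section

open AlgebraicGeometry CategoryTheory Groth.Agent.Lib.Helper23.FFNorm Groth.Agent.Lib.Helper23.ZarConn

theorem surjective_kappa_of_isIso {X Y : Scheme.{u}} [IsIntegral X] [IsIntegral Y] (f : X ⟶ Y)
    (hclosed : IsClosedMap f.base)
    (hdom : f.base (genericPoint X) ⤳ genericPoint Y)
    (hfib : ∀ z : X, f.base z = genericPoint Y → z = genericPoint X)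
    (hiso : ∀ U : Y.Opens, IsIso (f.app U)) :
    Function.Surjective (CohIII.stalkToFunctionField f (genericPoint Y) hdom) := by
  intro b
  obtain ⟨U, hU, s, rfl⟩ := TopCat.Presheaf.germ_exist X.presheaf (x := genericPoint X) b
  let V : Y.Opens := ⟨(f.base '' (U : Set X)ᶜ)ᶜ, (hclosed _ U.isOpen.isClosed_compl).isOpen_compl⟩
  have hηV : genericPoint Y ∈ V := by
    rintro ⟨z, hzU, hz⟩
    exact hzU (hfib z hz ▸ hU)
  have hle : f ⁻¹ᵁ V ≤ U := by
    intro x hx
    by_contra hxU
    exact hx ⟨x, hxU, rfl⟩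
  haveI := hiso V
  obtain ⟨t, ht⟩ := (ConcreteCategory.bijective_of_isIso (f.app V)).2
    (X.presheaf.map (homOfLE hle).op s)
  refine ⟨Y.presheaf.germ V _ hηV t, ?_⟩
  rw [germ_kappa f hdom hηV t, ht]
  exact TopCat.Presheaf.germ_res_apply X.presheaf (homOfLE hle) _ _ s


end

end Groth.Agent.Lib.Helper23.ZarConn2
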