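import Mathlib
import Groth.Agent.Lib.Helper23ZarConn
import Groth.Agent.Lib.Helper4VarDim8

/-!
# Zariski connectedness near a normal point (helper23), part 1
`exists_mul_mem_range`, `exists_forall_mul_mem_range` (a single denominator `s`, invertible at the normal point `y`, with
`s · Γ(X, f⁻¹V) ⊆ Γ(Y, V)`), `exists_eq_pow_mul`, `bijective_app_basicOpen`.
-/

set_option autoImplicit false
set_option backward.isDefEq.respectTransparency.types false
universe u

namespace Groth.Agent.Lib.Helper23.ZarConnC1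
open AlgebraicGeometry CategoryTheory Limits TopologicalSpace
open Groth.Agent.Lib.Helper23.FFNorm Groth.Agent.Lib.Helper23.ZarConn

variable {X Y : Scheme.{u}} [IsIntegral X] [IsIntegral Y]

/-- Step 1: every section over `f⁻¹V` becomes a pulled-back section after multiplying by a function
invertible at the normal point `y`. -/
theorem exists_mul_mem_range (f : X ⟶ Y)
    (hdom : f.base (genericPoint X) ⤳ genericPoint Y)
    (halg : ∀ x : X.functionField,
      (∃ p : Polynomial Y.functionField, p ≠ 0 ∧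
        Polynomial.eval₂ (CohIII.stalkToFunctionField f (genericPoint Y) hdom) x p = 0) →
      x ∈ Set.range (CohIII.stalkToFunctionField f (genericPoint Y) hdom))
    (y : Y) (hy : IsIntegrallyClosed (Y.presheaf.stalk y))
    {V : Y.Opens} (hV : IsAffineOpen V) (hyV : y ∈ V)
    (b : Γ(X, f ⁻¹ᵁ V)) (hint : (f.app V).hom.IsIntegralElem b) :
    ∃ s : Γ(Y, V), y ∈ Y.basicOpen s ∧ ∃ a : Γ(Y, V), (f.app V).hom s * b = (f.app V).hom a := by
  have hη : genericPoint Y ∈ V := genericPoint_mem_of_mem hyV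
  set κ := CohIII.stalkToFunctionField f (genericPoint Y) hdom with hκ
  have hκinj : Function.Injective κ := κ.injective
  have hgX : Function.Injective
      (X.presheaf.germ (f ⁻¹ᵁ V) (genericPoint X) (mem_preimage f hdom hη)).hom :=
    germ_injective_of_isIntegral X _ _
  haveI : Nonempty V := ⟨⟨_, hη⟩⟩
  obtain ⟨p, hp, hpb⟩ := hint
  set β := (X.presheaf.germ (f ⁻¹ᵁ V) (genericPoint X) (mem_preimage f hdom hη)).hom b with hβ
  have hcomp : κ.comp (Y.presheaf.germ V (genericPoint Y) hη).hom =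
      (X.presheaf.germ (f ⁻¹ᵁ V) (genericPoint X) (mem_preimage f hdom hη)).hom.comp
        (f.app V).hom := by
    ext a
    exact germ_kappa f hdom hη a
  have h1 : Polynomial.eval₂ κ β (p.map (Y.presheaf.germ V (genericPoint Y) hη).hom) = 0 := by
    rw [Polynomial.eval₂_map, hcomp, hβ, ← Polynomial.hom_eval₂, hpb, map_zero]
  obtain ⟨α, hα⟩ := halg β ⟨_, (hp.map _).ne_zero, h1⟩
  have h2 : IsIntegral Γ(Y, V) α := by
    refine ⟨p, hp, ?_⟩
    apply hκinj
    rw [map_zero, Polynomial.hom_eval₂]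
    change Polynomial.eval₂ (κ.comp (Y.presheaf.germ V (genericPoint Y) hη).hom) (κ α) p = 0
    rw [hα, hcomp, hβ, ← Polynomial.hom_eval₂, hpb, map_zero]
  -- pass to the local ring at `y`
  letI := TopCat.Presheaf.algebra_section_stalk Y.presheaf ⟨y, hyV⟩
  haveI : IsScalarTower Γ(Y, V) (Y.presheaf.stalk y) Y.functionField :=
    functionField_isScalarTower Y V ⟨y, hyV⟩
  have h3 : IsIntegral (Y.presheaf.stalk y) α := h2.tower_top
  obtain ⟨γ, hγ⟩ := IsIntegrallyClosed.isIntegral_iff.1 h3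
  haveI : IsLocalization.AtPrime (Y.presheaf.stalk y) (hV.primeIdealOf ⟨y, hyV⟩).asIdeal :=
    hV.isLocalization_stalk ⟨y, hyV⟩
  obtain ⟨⟨a, s⟩, has⟩ := IsLocalization.surj (hV.primeIdealOf ⟨y, hyV⟩).asIdeal.primeCompl γ
  refine ⟨s, ?_, a, ?_⟩
  · have := s.2
    by_contra hns
    exact this ((Groth.Agent.Lib.Helper4.VarDim.mem_primeIdealOf_iff_notMem_basicOpen hV y hyV s).2 hns)
  · apply hgX
    have h4 : α * algebraMap Γ(Y, V) Y.functionField s = algebraMap Γ(Y, V) Y.functionField a := by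
      rw [IsScalarTower.algebraMap_apply Γ(Y, V) (Y.presheaf.stalk y) Y.functionField,
        IsScalarTower.algebraMap_apply Γ(Y, V) (Y.presheaf.stalk y) Y.functionField, ← hγ,
        ← map_mul]
      exact congrArg _ has
    have h5 := congrArg κ h4
    rw [map_mul, hα] at h5
    have h6 : ∀ c : Γ(Y, V), κ (algebraMap Γ(Y, V) Y.functionField c) =
        (X.presheaf.germ (f ⁻¹ᵁ V) (genericPoint X) (mem_preimage f hdom hη)).hom
          ((f.app V).hom c) := fun c => germ_kappa f hdom hη c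
    rw [h6, h6] at h5
    rw [map_mul, mul_comm]
    exact h5

end Groth.Agent.Lib.Helper23.ZarConnC1

namespace Groth.Agent.Lib.Helper23.ZarConnC1
open AlgebraicGeometry CategoryTheory Limits TopologicalSpace
open Groth.Agent.Lib.Helper23.FFNorm Groth.Agent.Lib.Helper23.ZarConn

variable {X Y : Scheme.{u}} [IsIntegral X] [IsIntegral Y]

/-- Step 2: a single denominator works for all sections. -/
theorem exists_forall_mul_mem_range [IsLocallyNoetherian Y] (f : X ⟶ Y) [IsProper f]
    (hdom : f.base (genericPoint X) ⤳ genericPoint Y)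
    (halg : ∀ x : X.functionField,
      (∃ p : Polynomial Y.functionField, p ≠ 0 ∧
        Polynomial.eval₂ (CohIII.stalkToFunctionField f (genericPoint Y) hdom) x p = 0) →
      x ∈ Set.range (CohIII.stalkToFunctionField f (genericPoint Y) hdom))
    (y : Y) (hy : IsIntegrallyClosed (Y.presheaf.stalk y))
    {V : Y.Opens} (hV : IsAffineOpen V) (hyV : y ∈ V) :
    ∃ s : Γ(Y, V), y ∈ Y.basicOpen s ∧
      ∀ b : Γ(X, f ⁻¹ᵁ V), ∃ a : Γ(Y, V), (f.app V).hom s * b = (f.app V).hom a := by
  classical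
  letI := (f.app V).hom.toAlgebra
  haveI : Module.Finite Γ(Y, V) Γ(X, f ⁻¹ᵁ V) := finite_sections f hV
  have hint : ∀ b : Γ(X, f ⁻¹ᵁ V), (f.app V).hom.IsIntegralElem b := fun b =>
    IsIntegral.of_finite Γ(Y, V) b
  obtain ⟨G, hG⟩ := (Module.Finite.fg_top : (⊤ : Submodule Γ(Y, V) Γ(X, f ⁻¹ᵁ V)).FG)
  have hch := fun b : Γ(X, f ⁻¹ᵁ V) => exists_mul_mem_range f hdom halg y hy hV hyV b (hint b)
  choose sb hsb ab hab using hch
  refine ⟨∏ g ∈ G, sb g, ?_, ?_⟩
  · refine Finset.prod_induction sb (fun r => y ∈ Y.basicOpen r) ?_ ?_ (fun g _ => hsb g)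
    · intro r r' hr hr'
      rw [Scheme.basicOpen_mul]
      exact ⟨hr, hr'⟩
    · rw [Scheme.basicOpen_of_isUnit _ isUnit_one]
      exact hyV
  · let N : Submodule Γ(Y, V) Γ(X, f ⁻¹ᵁ V) :=
      { carrier := {b | ∃ a : Γ(Y, V), (f.app V).hom (∏ g ∈ G, sb g) * b = (f.app V).hom a}
        zero_mem' := ⟨0, by rw [mul_zero, map_zero]⟩
        add_mem' := by
          rintro b b' ⟨a, ha⟩ ⟨a', ha'⟩
          exact ⟨a + a', by rw [mul_add, ha, ha', map_add]⟩
        smul_mem' := by
          rintro c b ⟨a, ha⟩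
          refine ⟨c * a, ?_⟩
          change (f.app V).hom (∏ g ∈ G, sb g) * ((f.app V).hom c * b) = _
          rw [map_mul, ← ha]
          ring }
    have hGN : (G : Set Γ(X, f ⁻¹ᵁ V)) ⊆ N := by
      intro g hg
      obtain ⟨c, hc⟩ := Finset.dvd_prod_of_mem sb hg
      refine ⟨c * ab g, ?_⟩
      rw [hc, map_mul, map_mul, ← hab g]
      ring
    have hN : N = ⊤ := top_le_iff.1 (hG ▸ Submodule.span_le.2 hGN)
    intro b
    have : b ∈ N := hN ▸ Submodule.mem_top
    exact this

end Groth.Agent.Lib.Helper23.ZarConnC1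

namespace Groth.Agent.Lib.Helper23.ZarConnC1
open AlgebraicGeometry CategoryTheory Limits TopologicalSpace
open Groth.Agent.Lib.Helper23.FFNorm Groth.Agent.Lib.Helper23.ZarConn

theorem exists_eq_pow_mul {X : Scheme.{u}} (U : X.Opens) (hU : IsCompact U.1)
    (hU' : IsQuasiSeparated U.1) (r : Γ(X, U)) (O : X.Opens) (hO : O = X.basicOpen r)
    (t : Γ(X, O)) :
    ∃ (n : ℕ) (b : Γ(X, U)), (X.presheaf.map (homOfLE (hO.le.trans (X.basicOpen_le r))).op).hom b =
      ((X.presheaf.map (homOfLE (hO.le.trans (X.basicOpen_le r))).op).hom r) ^ n * t := by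
  subst hO
  exact exists_eq_pow_mul_of_isCompact_of_isQuasiSeparated X U hU hU' r t

variable {X Y : Scheme.{u}} [IsIntegral X] [IsIntegral Y]

/-- Step 3: bijectivity over the basic open. -/
theorem bijective_app_basicOpen (f : X ⟶ Y) [QuasiCompact f] [QuasiSeparated f]
    (hdom : f.base (genericPoint X) ⤳ genericPoint Y)
    {V : Y.Opens} (hV : IsAffineOpen V) (s : Γ(Y, V))
    (hs : ∀ b : Γ(X, f ⁻¹ᵁ V), ∃ a : Γ(Y, V), (f.app V).hom s * b = (f.app V).hom a)
    (hη : genericPoint Y ∈ Y.basicOpen s) :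
    Function.Bijective (f.app (Y.basicOpen s)).hom := by
  set κ := CohIII.stalkToFunctionField f (genericPoint Y) hdom with hκ
  have hκinj : Function.Injective κ := κ.injective
  have hgY : Function.Injective (Y.presheaf.germ (Y.basicOpen s) (genericPoint Y) hη).hom :=
    germ_injective_of_isIntegral Y _ hη
  constructor
  · intro a a' h
    apply hgY
    apply hκinj
    rw [hκ, germ_kappa f hdom hη, germ_kappa f hdom hη, h]
  · intro t
    have hle : Y.basicOpen s ≤ V := Y.basicOpen_le s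
    have hO : f ⁻¹ᵁ Y.basicOpen s = X.basicOpen ((f.app V).hom s) := Scheme.preimage_basicOpen f s
    obtain ⟨n, b, hb⟩ := exists_eq_pow_mul (f ⁻¹ᵁ V) (f.isCompact_preimage hV.isCompact)
      (f.isQuasiSeparated_preimage hV.isQuasiSeparated) ((f.app V).hom s) _ hO t
    obtain ⟨a, ha⟩ := hs b
    -- naturality
    have hnat : ∀ c : Γ(Y, V),
        (X.presheaf.map (homOfLE (hO.le.trans (X.basicOpen_le _))).op).hom ((f.app V).hom c) =
        (f.app (Y.basicOpen s)).hom ((Y.presheaf.map (homOfLE hle).op).hom c) := by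
      intro c
      have := Scheme.Hom.naturality f (homOfLE hle).op
      exact (congrArg (fun k => k.hom c) this).symm
    have hunit : IsUnit ((Y.presheaf.map (homOfLE hle).op).hom s) :=
      RingedSpace.isUnit_res_basicOpen Y.toRingedSpace s
    obtain ⟨u, hu⟩ := hunit
    have hu' : (Y.presheaf.map (homOfLE hle).op).hom s = (u : Γ(Y, Y.basicOpen s)) := hu.symm
    refine ⟨(↑(u⁻¹ ^ (n + 1)) : Γ(Y, Y.basicOpen s)) * (Y.presheaf.map (homOfLE hle).op).hom a, ?_⟩
    have h1 := congrArg (X.presheaf.map (homOfLE (hO.le.trans (X.basicOpen_le _))).op).hom ha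
    rw [map_mul, hb, hnat, hnat, hu'] at h1
    have h2 : (↑(u⁻¹ ^ (n + 1)) : Γ(Y, Y.basicOpen s)) * (u : Γ(Y, Y.basicOpen s)) ^ (n + 1) = 1 := by
      rw [← Units.val_pow_eq_pow_val, ← Units.val_mul, ← mul_pow, inv_mul_cancel, one_pow,
        Units.val_one]
    have h3 : (f.app (Y.basicOpen s)).hom (↑(u⁻¹ ^ (n + 1)) : Γ(Y, Y.basicOpen s)) *
        ((f.app (Y.basicOpen s)).hom (u : Γ(Y, Y.basicOpen s))) ^ (n + 1) = 1 := by
      rw [← map_pow, ← map_mul, h2, map_one]
    rw [map_mul, ← h1]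
    calc _ = ((f.app (Y.basicOpen s)).hom (↑(u⁻¹ ^ (n + 1)) : Γ(Y, Y.basicOpen s)) *
          ((f.app (Y.basicOpen s)).hom (u : Γ(Y, Y.basicOpen s))) ^ (n + 1)) * t := by ring
      _ = t := by rw [h3, one_mul]

end Groth.Agent.Lib.Helper23.ZarConnC1
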