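import Mathlib
import Groth.Agent.Lib.Helper24GB

/-!
# Standard monomial bases for quotients by monic Gröbner bases (helper24)

On top of `Helper24GB`: a finite family of polynomials with invertible leading coefficients and
pairwise coprime leading monomials has the `HasLM` property, and for an ideal `I` with the `HasLM`
property with respect to a generating set `G` of polynomials with invertible leading coefficients,
the standard monomials (those not divisible by a leading monomial of `G`) form a basis of the
quotient `MvPolynomial σ R ⧸ I` over `R`.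
-/

namespace Groth.Agent.Lib.Helper24StdMon

open MvPolynomial Groth.Agent.Lib.Helper24GB
open scoped MonomialOrder

variable {σ : Type*} {R : Type*} [CommRing R] {m : MonomialOrder σ}

/-- A finite family with invertible leading coefficients and pairwise coprime leading monomials
is a "Gröbner basis" of the ideal it spans. -/
lemma hasLM_image {ι : Type*} (f : ι → MvPolynomial σ R)
    (hmon : ∀ i, IsUnit (m.leadingCoeff (f i)))
    (hcop : ∀ i j, i ≠ j → Coprime (m.degree (f i)) (m.degree (f j))) (s : Finset ι) :
    HasLM m (f '' (s : Set ι)) (Ideal.span (f '' (s : Set ι))) := by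
  classical
  induction s using Finset.induction_on with
  | empty =>
    simp only [Finset.coe_empty, Set.image_empty, Ideal.span_empty]
    exact hasLM_bot
  | insert i s hi ih =>
    rw [Finset.coe_insert, Set.image_insert_eq, Ideal.span_insert, sup_comm]
    refine hasLM_sup_of_coprime (m := m) ?_ Ideal.subset_span ih (hmon i) ?_
    · rintro _ ⟨j, -, rfl⟩
      exact hmon j
    · rintro _ ⟨j, hj, rfl⟩
      refine hcop j i ?_
      rintro rfl
      exact hi (by simpa using hj)

lemma hasLM_range {ι : Type*} [Finite ι] (f : ι → MvPolynomial σ R)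
    (hmon : ∀ i, IsUnit (m.leadingCoeff (f i)))
    (hcop : ∀ i j, i ≠ j → Coprime (m.degree (f i)) (m.degree (f j))) :
    HasLM m (Set.range f) (Ideal.span (Set.range f)) := by
  classical
  haveI := Fintype.ofFinite ι
  have := hasLM_image f hmon hcop Finset.univ
  simpa using this

variable (m) in
/-- The standard monomials with respect to `G`. -/
def Std (G : Set (MvPolynomial σ R)) : Set (σ →₀ ℕ) := {c | ∀ g ∈ G, ¬ m.degree g ≤ c}

variable (m) in
/-- The `R`-linear map sending a finitely supported function on standard monomials to the
corresponding polynomial. -/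
noncomputable def toPoly (G : Set (MvPolynomial σ R)) : (Std m G →₀ R) →ₗ[R] MvPolynomial σ R :=
  Finsupp.linearCombination R (fun c : Std m G => (monomial c.1 (1 : R) : MvPolynomial σ R))

lemma toPoly_single (G : Set (MvPolynomial σ R)) (c : Std m G) (a : R) :
    toPoly m G (Finsupp.single c a) = monomial c.1 a := by
  rw [toPoly, Finsupp.linearCombination_single, smul_monomial, smul_eq_mul, mul_one]

lemma reduced_toPoly (G : Set (MvPolynomial σ R)) (v : Std m G →₀ R) :
    Reduced m G (toPoly m G v) := by
  classical
  induction v using Finsupp.induction_linear with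
  | zero =>
    rw [map_zero]
    intro c hc
    simp at hc
  | add v w hv hw =>
    rw [map_add]
    intro c hc g hg
    rcases Finset.mem_union.mp (MvPolynomial.support_add hc) with h | h
    · exact hv c h g hg
    · exact hw c h g hg
  | single c a =>
    rw [toPoly_single]
    intro d hd g hg
    have := MvPolynomial.support_monomial_subset hd
    rw [Finset.mem_singleton] at this
    subst this
    exact c.2 g hg

lemma coeff_toPoly (G : Set (MvPolynomial σ R)) (v : Std m G →₀ R) (c : Std m G) :
    coeff c.1 (toPoly m G v) = v c := by
  classical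
  induction v using Finsupp.induction_linear with
  | zero => simp
  | add v w hv hw => rw [map_add, coeff_add, hv, hw, Finsupp.add_apply]
  | single d a =>
    rw [toPoly_single, coeff_monomial, Finsupp.single_apply]
    by_cases h : d = c
    · subst h; simp
    · rw [if_neg h, if_neg]
      intro h'
      exact h (Subtype.ext h')

lemma toPoly_injective (G : Set (MvPolynomial σ R)) : Function.Injective (toPoly m G) := by
  intro v w hvw
  ext c
  rw [← coeff_toPoly G v c, ← coeff_toPoly G w c, hvw]

lemma exists_toPoly_eq (G : Set (MvPolynomial σ R)) {r : MvPolynomial σ R}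
    (hr : Reduced m G r) : ∃ v, toPoly m G v = r := by
  classical
  rw [← MvPolynomial.support_sum_monomial_coeff r]
  have : ∀ s : Finset (σ →₀ ℕ), (∀ c ∈ s, c ∈ Std m G) →
      ∃ v, toPoly m G v = ∑ c ∈ s, monomial c (coeff c r) := by
    intro s
    induction s using Finset.induction_on with
    | empty => intro _; exact ⟨0, by simp⟩
    | insert c s hc ih =>
      intro hs
      obtain ⟨v, hv⟩ := ih (fun d hd => hs d (Finset.mem_insert_of_mem hd))
      refine ⟨Finsupp.single ⟨c, hs c (Finset.mem_insert_self c s)⟩ (coeff c r) + v, ?_⟩
      rw [map_add, toPoly_single, hv, Finset.sum_insert hc]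
  exact this r.support (fun c hc g hg => hr c hc g hg)

section basis

variable {G : Set (MvPolynomial σ R)} {I : Ideal (MvPolynomial σ R)}

variable (m G I) in
/-- The linear map from finitely supported functions on standard monomials to the quotient. -/
noncomputable def toQuot : (Std m G →₀ R) →ₗ[R] (MvPolynomial σ R ⧸ I) :=
  (Ideal.Quotient.mkₐ R I).toLinearMap ∘ₗ toPoly m G

lemma toQuot_apply (v : Std m G →₀ R) :
    toQuot m G I v = Ideal.Quotient.mk I (toPoly m G v) := rfl

lemma toQuot_bijective (hmon : ∀ g ∈ G, IsUnit (m.leadingCoeff g)) (hGI : Ideal.span G = I)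
    (hG : HasLM m G I) : Function.Bijective (toQuot m G I) := by
  constructor
  · rw [← LinearMap.ker_eq_bot, LinearMap.ker_eq_bot']
    intro v hv
    rw [toQuot_apply, Ideal.Quotient.eq_zero_iff_mem] at hv
    have h0 := eq_zero_of_reduced hG hv (reduced_toPoly G v)
    exact toPoly_injective G (by rw [h0, map_zero])
  · intro y
    obtain ⟨x, rfl⟩ := Ideal.Quotient.mk_surjective y
    obtain ⟨r, hxr, hr⟩ := exists_reduced hmon x
    obtain ⟨v, hv⟩ := exists_toPoly_eq G hr
    refine ⟨v, ?_⟩
    rw [toQuot_apply, hv]
    symm
    rw [Ideal.Quotient.eq, ← hGI]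
    exact hxr

/-- The standard monomial basis of the quotient. -/
noncomputable def stdBasis (hmon : ∀ g ∈ G, IsUnit (m.leadingCoeff g)) (hGI : Ideal.span G = I)
    (hG : HasLM m G I) : Module.Basis (Std m G) R (MvPolynomial σ R ⧸ I) :=
  Module.Basis.ofRepr (LinearEquiv.ofBijective (toQuot m G I) (toQuot_bijective hmon hGI hG)).symm

lemma stdBasis_apply (hmon : ∀ g ∈ G, IsUnit (m.leadingCoeff g)) (hGI : Ideal.span G = I)
    (hG : HasLM m G I) (c : Std m G) :
    stdBasis hmon hGI hG c = Ideal.Quotient.mk I (monomial c.1 1) := by
  rw [← Module.Basis.repr_symm_single_one]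
  show (LinearEquiv.ofBijective (toQuot m G I) _).symm.symm (Finsupp.single c 1) = _
  rw [LinearEquiv.symm_symm, LinearEquiv.ofBijective_apply, toQuot_apply, toPoly_single]

lemma C_injective_quot [Nontrivial R] (hmon : ∀ g ∈ G, IsUnit (m.leadingCoeff g))
    (hG : HasLM m G I) (hne : ∀ g ∈ G, m.degree g ≠ 0) :
    Function.Injective (algebraMap R (MvPolynomial σ R ⧸ I)) := by
  rw [injective_iff_map_eq_zero]
  intro a ha
  have h1 : (C a : MvPolynomial σ R) ∈ I := by
    rw [← Ideal.Quotient.eq_zero_iff_mem]; exact ha
  have hred : Reduced m G (C a : MvPolynomial σ R) := by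
    classical
    intro c hc g hg hle
    have : c = 0 := by
      have := MvPolynomial.support_monomial_subset (s := (0 : σ →₀ ℕ)) (a := a) hc
      simpa using this
    subst this
    exact hne g hg (le_antisymm hle zero_le)
  have := eq_zero_of_reduced hG h1 hred
  exact (C_eq_zero (σ := σ)).mp this

end basis

end Groth.Agent.Lib.Helper24StdMon
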