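import Mathlib
import Groth.Agent.Lib.Helper24GB
import Groth.Agent.Lib.Helper24StdMon

/-!
# The algebra `R[u_1..u_n]/(u_i^p - b_i u_i - c_i)` (helper24), part A: the monomial basis

For a nontrivial commutative ring `R`, `p ≥ 2` and `b c : Fin n → R`, the quotient
`A = R[u_1, …, u_n]/(u_i ^ p - b_i u_i - c_i)` is a free `R`-module with basis the monomials
`u^e`, `e_i < p`; in particular it has rank `p ^ n` and `R → A` is injective.
-/

set_option linter.unusedSectionVars false

namespace Groth.Agent.Lib.Helper24ASFamA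

open MvPolynomial Groth.Agent.Lib.Helper24GB Groth.Agent.Lib.Helper24StdMon
open scoped MonomialOrder

variable {R : Type*} [CommRing R] {n : ℕ} (p : ℕ) (b c : Fin n → R)

/-- the defining polynomials -/
noncomputable def fam (i : Fin n) : MvPolynomial (Fin n) R :=
  X i ^ p - C (b i) * X i - C (c i)

/-- the ideal of relations -/
noncomputable def idl : Ideal (MvPolynomial (Fin n) R) := Ideal.span (Set.range (fam p b c))

/-- the monomial order used -/
noncomputable abbrev mo (n : ℕ) : MonomialOrder (Fin n) := MonomialOrder.lex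

section

variable [Nontrivial R]

lemma fam_monic_degree (hp : 2 ≤ p) (i : Fin n) :
    (mo n).Monic (fam p b c i) ∧ (mo n).degree (fam p b c i) = Finsupp.single i p := by
  apply monic_degree_of_eq (rest := - monomial (Finsupp.single i 1) (b i) - monomial 0 (c i))
  · rw [fam, X_pow_eq_monomial, C_mul_X_eq_monomial, C_apply]; ring
  · apply deg_sub_lt
    · rw [MonomialOrder.degree_neg]
      apply deg_monomial_lt
      apply (mo n).toSyn_strictMono
      refine lt_of_le_of_ne (Finsupp.single_le_single.2 (by omega)) ?_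
      intro h
      have := congrArg (fun f => f i) h
      simp at this
      omega
    · apply deg_monomial_lt
      apply (mo n).toSyn_strictMono
      refine lt_of_le_of_ne zero_le ?_
      intro h
      have := congrArg (fun f => f i) h
      simp at this
      omega

lemma fam_isUnit (hp : 2 ≤ p) (i : Fin n) : IsUnit ((mo n).leadingCoeff (fam p b c i)) :=
  isUnit_of_monic (fam_monic_degree p b c hp i).1

lemma fam_degree (hp : 2 ≤ p) (i : Fin n) :
    (mo n).degree (fam p b c i) = Finsupp.single i p := (fam_monic_degree p b c hp i).2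

lemma hasLM_fam (hp : 2 ≤ p) :
    HasLM (mo n) (Set.range (fam p b c)) (idl p b c) := by
  apply hasLM_range
  · exact fam_isUnit p b c hp
  · intro i j hij l
    rw [fam_degree p b c hp, fam_degree p b c hp]
    by_cases h : l = i
    · right
      subst h
      rw [Finsupp.single_apply, if_neg (Ne.symm hij)]
    · left
      rw [Finsupp.single_apply, if_neg (Ne.symm h)]

lemma hmon_fam (hp : 2 ≤ p) :
    ∀ g ∈ Set.range (fam p b c), IsUnit ((mo n).leadingCoeff g) := by
  rintro _ ⟨i, rfl⟩
  exact fam_isUnit p b c hp i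

lemma mem_std_iff (hp : 2 ≤ p) (e : Fin n →₀ ℕ) :
    e ∈ Std (mo n) (Set.range (fam p b c)) ↔ ∀ i, e i < p := by
  constructor
  · intro h i
    by_contra hlt
    push Not at hlt
    apply h _ ⟨i, rfl⟩
    rw [fam_degree p b c hp]
    intro j
    rw [Finsupp.single_apply]
    split_ifs with hj
    · subst hj; exact hlt
    · exact Nat.zero_le _
  · rintro h _ ⟨i, rfl⟩ hle
    rw [fam_degree p b c hp] at hle
    have := hle i
    rw [Finsupp.single_eq_same] at this
    exact absurd (h i) (by omega)

/-- the standard monomials are the exponents in the box `[0,p)^n` -/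
noncomputable def stdEquiv (hp : 2 ≤ p) :
    Std (mo n) (Set.range (fam p b c)) ≃ (Fin n → Fin p) where
  toFun e := fun i => ⟨e.1 i, (mem_std_iff p b c hp e.1).1 e.2 i⟩
  invFun g := ⟨Finsupp.equivFunOnFinite.symm (fun i => (g i : ℕ)),
    (mem_std_iff p b c hp _).2 (fun i => by simp)⟩
  left_inv e := by
    apply Subtype.ext
    ext i
    simp
  right_inv g := by
    funext i
    apply Fin.ext
    simp

lemma finite_std (hp : 2 ≤ p) : Finite (Std (mo n) (Set.range (fam p b c))) :=
  Finite.of_equiv _ (stdEquiv p b c hp).symm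

/-- the monomial basis -/
noncomputable def basis (hp : 2 ≤ p) :
    Module.Basis (Std (mo n) (Set.range (fam p b c))) R (MvPolynomial (Fin n) R ⧸ idl p b c) :=
  stdBasis (hmon_fam p b c hp) rfl (hasLM_fam p b c hp)

lemma basis_apply (hp : 2 ≤ p) (e : Std (mo n) (Set.range (fam p b c))) :
    basis p b c hp e = Ideal.Quotient.mk (idl p b c) (monomial e.1 1) :=
  stdBasis_apply _ _ _ e

lemma free (hp : 2 ≤ p) : Module.Free R (MvPolynomial (Fin n) R ⧸ idl p b c) :=
  Module.Free.of_basis (basis p b c hp)

lemma finite (hp : 2 ≤ p) : Module.Finite R (MvPolynomial (Fin n) R ⧸ idl p b c) := by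
  haveI : Finite (Std (mo n) (Set.range (fam p b c))) :=
    Finite.of_equiv _ (stdEquiv p b c hp).symm
  exact Module.Finite.of_basis (basis p b c hp)

lemma finrank_eq (hp : 2 ≤ p) :
    Module.finrank R (MvPolynomial (Fin n) R ⧸ idl p b c) = p ^ n := by
  rw [Module.finrank_eq_nat_card_basis (basis p b c hp), Nat.card_congr (stdEquiv p b c hp)]
  simp

lemma algebraMap_injective (hp : 2 ≤ p) :
    Function.Injective (algebraMap R (MvPolynomial (Fin n) R ⧸ idl p b c)) := by
  apply C_injective_quot (hmon_fam p b c hp) (hasLM_fam p b c hp)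
  rintro _ ⟨i, rfl⟩ h
  rw [fam_degree p b c hp] at h
  have := congrArg (fun f => f i) h
  simp at this
  omega

end

/-- the generators -/
noncomputable def u (i : Fin n) : MvPolynomial (Fin n) R ⧸ idl p b c :=
  Ideal.Quotient.mk (idl p b c) (X i)

lemma u_pow (i : Fin n) :
    u p b c i ^ p = algebraMap R _ (b i) * u p b c i + algebraMap R _ (c i) := by
  have h : Ideal.Quotient.mk (idl p b c) (fam p b c i) = 0 :=
    Ideal.Quotient.eq_zero_iff_mem.mpr (Ideal.subset_span ⟨i, rfl⟩)
  rw [fam, map_sub, map_sub, map_mul, map_pow] at h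
  have h2 := sub_eq_zero.mp h
  rw [sub_eq_iff_eq_add] at h2
  rw [add_comm]
  exact h2

/-- every element of `R[u]` is congruent to its constant coefficient modulo `(u)` -/
lemma sub_C_mem (P : MvPolynomial (Fin n) R) :
    P - C (constantCoeff P) ∈ Ideal.span (Set.range (X : Fin n → MvPolynomial (Fin n) R)) := by
  induction P using MvPolynomial.induction_on with
  | C a => simp
  | add q r hq hr =>
    have : q + r - C (constantCoeff (q + r)) =
        (q - C (constantCoeff q)) + (r - C (constantCoeff r)) := by
      rw [map_add, map_add]; ring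
    rw [this]; exact Ideal.add_mem _ hq hr
  | mul_X q i _ =>
    have : q * X i - C (constantCoeff (q * X i)) = q * X i := by
      rw [map_mul, constantCoeff_X, mul_zero, map_zero, sub_zero]
    rw [this]
    exact Ideal.mul_mem_left _ _ (Ideal.subset_span ⟨i, rfl⟩)

/-- the ideal `(u_1, …, u_n)` -/
noncomputable def uIdeal : Ideal (MvPolynomial (Fin n) R ⧸ idl p b c) :=
  Ideal.span (Set.range (u p b c))

lemma uIdeal_eq_map :
    uIdeal p b c = Ideal.map (Ideal.Quotient.mk (idl p b c))
      (Ideal.span (Set.range (X : Fin n → MvPolynomial (Fin n) R))) := by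
  rw [Ideal.map_span, ← Set.range_comp]
  rfl

lemma mk_sub_algebraMap_mem (P : MvPolynomial (Fin n) R) :
    Ideal.Quotient.mk (idl p b c) P - algebraMap R _ (constantCoeff P) ∈ uIdeal p b c := by
  rw [uIdeal_eq_map]
  have := Ideal.mem_map_of_mem (Ideal.Quotient.mk (idl p b c)) (sub_C_mem P)
  rwa [map_sub] at this

lemma algebraMap_c_mem (hp : 1 ≤ p) (i : Fin n) :
    algebraMap R _ (c i) ∈ uIdeal p b c := by
  have h := u_pow p b c i
  have hu : u p b c i ∈ uIdeal p b c := Ideal.subset_span ⟨i, rfl⟩
  have : algebraMap R (MvPolynomial (Fin n) R ⧸ idl p b c) (c i) =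
      u p b c i ^ p - algebraMap R _ (b i) * u p b c i := by
    rw [h]; ring
  rw [this]
  exact Ideal.sub_mem _ (Ideal.pow_mem_of_mem _ hu p (by omega)) (Ideal.mul_mem_left _ _ hu)

end Groth.Agent.Lib.Helper24ASFamA
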