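import Mathlib
import Groth.Agent.Lib.Helper24ASFamA
import Groth.Agent.Lib.Helper5IntDim

/-!
# The algebra `R[u_1..u_n]/(u_i^p - b_i u_i - c_i)` (helper24), part B: the local case

For a local ring `R` with maximal ideal generated by `c_1, …, c_n`, `b_i ∈ 𝔪` and `p ≥ 2`,
the algebra `A = R[u]/(u_i ^ p - b_i u_i - c_i)` is local with maximal ideal `(u_1, …, u_n)`,
of the same dimension as `R`; if `R` is Noetherian of dimension `n`, `A` is regular.
-/

set_option linter.unusedSectionVars false

namespace Groth.Agent.Lib.Helper24ASFamB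

open MvPolynomial IsLocalRing Groth.Agent.Lib.Helper24ASFamA

universe u

variable {R : Type u} [CommRing R] [IsLocalRing R] {n : ℕ} (p : ℕ) (b c : Fin n → R)

/-- the quotient algebra -/
abbrev Quo : Type u := MvPolynomial (Fin n) R ⧸ idl p b c

/-- the composite `R[u] → R → κ` evaluating at `u = 0` -/
noncomputable def phi0 : MvPolynomial (Fin n) R →+* ResidueField R :=
  (residue R).comp constantCoeff

variable {p b c}

lemma phi0_fam (hp : 2 ≤ p) (hc : Ideal.span (Set.range c) = maximalIdeal R) (i : Fin n) :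
    phi0 (fam p b c i) = 0 := by
  have hci : c i ∈ maximalIdeal R := hc ▸ Ideal.subset_span ⟨i, rfl⟩
  have hp0 : p ≠ 0 := by omega
  have h0 : residue R (c i) = 0 := (residue_eq_zero_iff _).2 hci
  simp only [phi0, fam, RingHom.comp_apply, map_sub, map_mul, map_pow, constantCoeff_X,
    constantCoeff_C, map_zero, zero_pow hp0, mul_zero, zero_sub, sub_zero, neg_eq_zero, h0]

/-- the residue map of `A` -/
noncomputable def psi (hp : 2 ≤ p) (hc : Ideal.span (Set.range c) = maximalIdeal R) :
    Quo p b c →+* ResidueField R :=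
  Ideal.Quotient.lift (idl p b c) phi0 (by
    intro a ha
    have : idl p b c ≤ RingHom.ker (phi0 : MvPolynomial (Fin n) R →+* ResidueField R) := by
      rw [idl, Ideal.span_le]
      rintro _ ⟨i, rfl⟩
      exact phi0_fam hp hc i
    exact this ha)

lemma psi_mk (hp : 2 ≤ p) (hc : Ideal.span (Set.range c) = maximalIdeal R)
    (P : MvPolynomial (Fin n) R) :
    psi hp hc (Ideal.Quotient.mk (idl p b c) P) = residue R (constantCoeff P) := rfl

lemma psi_surjective (hp : 2 ≤ p) (hc : Ideal.span (Set.range c) = maximalIdeal R) :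
    Function.Surjective (psi (b := b) hp hc) := by
  intro y
  obtain ⟨r, rfl⟩ := residue_surjective y
  exact ⟨Ideal.Quotient.mk _ (C r), by rw [psi_mk, constantCoeff_C]⟩

lemma algebraMap_mem_uIdeal (hp : 2 ≤ p) (hc : Ideal.span (Set.range c) = maximalIdeal R)
    {r : R} (hr : r ∈ maximalIdeal R) : algebraMap R (Quo p b c) r ∈ uIdeal p b c := by
  have h1 : algebraMap R (Quo p b c) r ∈ (Ideal.span (Set.range c)).map (algebraMap R (Quo p b c)) :=
    Ideal.mem_map_of_mem _ (hc ▸ hr)
  rw [Ideal.map_span] at h1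
  refine (Ideal.span_le.2 ?_) h1
  rintro _ ⟨_, ⟨i, rfl⟩, rfl⟩
  exact algebraMap_c_mem p b c (by omega) i

lemma ker_psi (hp : 2 ≤ p) (hc : Ideal.span (Set.range c) = maximalIdeal R) :
    RingHom.ker (psi (b := b) hp hc) = uIdeal p b c := by
  apply le_antisymm
  · intro a ha
    obtain ⟨P, rfl⟩ := Ideal.Quotient.mk_surjective a
    rw [RingHom.mem_ker, psi_mk, residue_eq_zero_iff] at ha
    have h1 := mk_sub_algebraMap_mem p b c P
    have h2 := algebraMap_mem_uIdeal (b := b) hp hc ha
    have := Ideal.add_mem _ h1 h2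
    rwa [sub_add_cancel] at this
  · rw [uIdeal, Ideal.span_le]
    rintro _ ⟨i, rfl⟩
    show psi hp hc (Ideal.Quotient.mk _ (X i)) = 0
    rw [psi_mk, constantCoeff_X, map_zero]

lemma uIdeal_isMaximal (hp : 2 ≤ p) (hc : Ideal.span (Set.range c) = maximalIdeal R) :
    (uIdeal p b c).IsMaximal := by
  rw [← ker_psi hp hc]
  exact RingHom.ker_isMaximal_of_surjective _ (psi_surjective hp hc)

lemma isIntegral (hp : 2 ≤ p) : Algebra.IsIntegral R (Quo p b c) := by
  haveI := Groth.Agent.Lib.Helper24ASFamA.finite p b c hp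
  exact Algebra.IsIntegral.of_finite R (Quo p b c)

lemma uIdeal_le_of_isMaximal (hp : 2 ≤ p) (hb : ∀ i, b i ∈ maximalIdeal R)
    (hc : Ideal.span (Set.range c) = maximalIdeal R) (M : Ideal (Quo p b c)) (hM : M.IsMaximal) :
    uIdeal p b c ≤ M := by
  haveI := isIntegral (b := b) (c := c) hp
  have hcomap : M.comap (algebraMap R (Quo p b c)) = maximalIdeal R :=
    IsLocalRing.eq_maximalIdeal (Ideal.isMaximal_comap_of_isIntegral_of_isMaximal (R := R) M)
  have hmem : ∀ r ∈ maximalIdeal R, algebraMap R (Quo p b c) r ∈ M := by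
    intro r hr
    rw [← hcomap] at hr
    exact hr
  rw [uIdeal, Ideal.span_le]
  rintro _ ⟨i, rfl⟩
  have hci : c i ∈ maximalIdeal R := hc ▸ Ideal.subset_span ⟨i, rfl⟩
  have h := u_pow p b c i
  have hpow : u p b c i ^ p ∈ M := by
    rw [h]
    exact Ideal.add_mem _ (Ideal.mul_mem_right _ _ (hmem _ (hb i))) (hmem _ hci)
  exact hM.isPrime.mem_of_pow_mem p hpow

theorem isLocalRing (hp : 2 ≤ p) (hb : ∀ i, b i ∈ maximalIdeal R)
    (hc : Ideal.span (Set.range c) = maximalIdeal R) : IsLocalRing (Quo p b c) := by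
  apply IsLocalRing.of_unique_max_ideal
  refine ⟨uIdeal p b c, uIdeal_isMaximal hp hc, ?_⟩
  intro M hM
  exact ((uIdeal_isMaximal hp hc).eq_of_le hM.ne_top (uIdeal_le_of_isMaximal hp hb hc M hM)).symm

theorem maximalIdeal_eq (hp : 2 ≤ p) (hc : Ideal.span (Set.range c) = maximalIdeal R)
    [IsLocalRing (Quo p b c)] : maximalIdeal (Quo p b c) = uIdeal p b c :=
  (IsLocalRing.eq_maximalIdeal (uIdeal_isMaximal hp hc)).symm

theorem spanFinrank_le (hp : 2 ≤ p) (hc : Ideal.span (Set.range c) = maximalIdeal R)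
    [IsLocalRing (Quo p b c)] : (maximalIdeal (Quo p b c)).spanFinrank ≤ n := by
  rw [maximalIdeal_eq hp hc, uIdeal]
  calc (Ideal.span (Set.range (u p b c))).spanFinrank
      ≤ (Set.range (u p b c)).ncard :=
        Submodule.spanFinrank_span_le_ncard_of_finite (Set.finite_range _)
    _ ≤ Nat.card (Fin n) := by
        rw [← Set.ncard_univ, ← Set.image_univ]
        exact Set.ncard_image_le Set.finite_univ
    _ = n := by simp

theorem ringKrullDim_eq (hp : 2 ≤ p) : ringKrullDim (Quo p b c) = ringKrullDim R := by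
  haveI := isIntegral (b := b) (c := c) hp
  exact Groth.Agent.Lib.Helper5.ringKrullDim_eq_of_isIntegral_of_injective R (Quo p b c)
    (algebraMap_injective p b c hp)

theorem isRegularLocalRing [IsNoetherianRing R] (hp : 2 ≤ p) (hb : ∀ i, b i ∈ maximalIdeal R)
    (hc : Ideal.span (Set.range c) = maximalIdeal R) (hdim : ringKrullDim R = n) :
    IsRegularLocalRing (Quo p b c) := by
  haveI := isLocalRing hp hb hc
  apply IsRegularLocalRing.of_spanFinrank_maximalIdeal_le
  rw [ringKrullDim_eq hp, hdim]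
  exact_mod_cast spanFinrank_le hp hc

end Groth.Agent.Lib.Helper24ASFamB
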