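import Mathlib
import Groth.Agent.Lib.Helper24ASFamB
import Groth.Agent.Lib.Helper19PsDim

/-!
# The Artin–Schreier family over `k[[x_1..x_n]]` (helper24), part C

`A = R[u_1, …, u_n]/(u_i ^ p - a_i ^ (p-1) u_i - x_i)` over `R = k[[x_1, …, x_n]]` is a regular
local ring with maximal ideal `(u_1, …, u_n)`, free of rank `p ^ n` over `R`.
-/

set_option linter.unusedSectionVars false

namespace Groth.Agent.Lib.Helper24ASFamC

open MvPolynomial IsLocalRing Groth.Agent.Lib.Helper24ASFamA Groth.Agent.Lib.Helper24ASFamB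

universe u

variable (p : ℕ) [hpp : Fact p.Prime] (k : Type u) [Field k] (n : ℕ)
  (a : Fin n → MvPowerSeries (Fin n) k)

/-- the coefficients `a_i ^ (p-1)` -/
noncomputable abbrev bb : Fin n → MvPowerSeries (Fin n) k := fun i => a i ^ (p - 1)

/-- the coefficients `x_i` -/
noncomputable abbrev cc : Fin n → MvPowerSeries (Fin n) k := fun i => MvPowerSeries.X i

lemma hp2 : 2 ≤ p := hpp.out.two_le

lemma mem_maximalIdeal_of_constantCoeff {f : MvPowerSeries (Fin n) k}
    (hf : MvPowerSeries.constantCoeff f = 0) : f ∈ maximalIdeal (MvPowerSeries (Fin n) k) := by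
  rw [mem_maximalIdeal, mem_nonunits_iff, MvPowerSeries.isUnit_iff_constantCoeff, hf]
  exact not_isUnit_zero

variable {p k n a}

lemma hb (ham : ∀ i, MvPowerSeries.constantCoeff (a i) = 0) (i : Fin n) :
    bb p k n a i ∈ maximalIdeal (MvPowerSeries (Fin n) k) := by
  have h2 := hp2 p
  exact Ideal.pow_mem_of_mem _ (mem_maximalIdeal_of_constantCoeff k n (ham i)) _ (by omega)

variable (k n) in
lemma hc : Ideal.span (Set.range (cc k n)) = maximalIdeal (MvPowerSeries (Fin n) k) :=
  (Groth.Agent.Lib.Helper19.maximalIdeal_mvPowerSeries_eq k n).symm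

theorem isRegularLocalRing (ham : ∀ i, MvPowerSeries.constantCoeff (a i) = 0) :
    IsRegularLocalRing (Quo p (bb p k n a) (cc k n)) :=
  Groth.Agent.Lib.Helper24ASFamB.isRegularLocalRing (hp2 p) (hb ham) (hc k n)
    (Groth.Agent.Lib.Helper19.ringKrullDim_mvPowerSeries k n)

theorem isMaximal_map :
    (Ideal.map (Ideal.Quotient.mk (idl p (bb p k n a) (cc k n)))
      (Ideal.span (Set.range (X : Fin n → MvPolynomial (Fin n) (MvPowerSeries (Fin n) k))))).IsMaximal := by
  rw [← uIdeal_eq_map]
  exact uIdeal_isMaximal (hp2 p) (hc k n)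

end Groth.Agent.Lib.Helper24ASFamC
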