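import Mathlib
import Groth.Agent.Lib.Helper24ASFamC
import Groth.Agent.Lib.Helper18ComplProd
import Groth.Agent.Lib.Helper5RLR

/-!
# The Artin–Schreier family over `k[[x_1..x_n]]` (helper24), part D: completeness and domain
-/

set_option linter.unusedSectionVars false

namespace Groth.Agent.Lib.Helper24ASFamD

open MvPolynomial IsLocalRing Groth.Agent.Lib.Helper24ASFamA Groth.Agent.Lib.Helper24ASFamB
  Groth.Agent.Lib.Helper24ASFamC

universe u

variable {p : ℕ} [hpp : Fact p.Prime] {k : Type u} [Field k] {n : ℕ}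
  {a : Fin n → MvPowerSeries (Fin n) k}

theorem isDomain (ham : ∀ i, MvPowerSeries.constantCoeff (a i) = 0) :
    IsDomain (Quo p (bb p k n a) (cc k n)) := by
  haveI := Groth.Agent.Lib.Helper24ASFamC.isRegularLocalRing (p := p) ham
  exact Groth.Agent.Lib.Helper5.isDomain_of_isRegularLocalRing _

instance isAdicComplete_base :
    IsAdicComplete (maximalIdeal (MvPowerSeries (Fin n) k)) (MvPowerSeries (Fin n) k) := by
  rw [← hc k n]
  infer_instance

theorem isAdicComplete (ham : ∀ i, MvPowerSeries.constantCoeff (a i) = 0) :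
    IsAdicComplete (Ideal.map (Ideal.Quotient.mk (idl p (bb p k n a) (cc k n)))
      (Ideal.span (Set.range (X : Fin n → MvPolynomial (Fin n) (MvPowerSeries (Fin n) k)))))
      (Quo p (bb p k n a) (cc k n)) := by
  haveI hloc := Groth.Agent.Lib.Helper24ASFamB.isLocalRing (hp2 p) (hb (p := p) ham) (hc k n)
  haveI := Groth.Agent.Lib.Helper24ASFamA.finite p (bb p k n a) (cc k n) (hp2 p)
  have h := (Groth.Agent.Lib.Helper18ComplProd.isAdicComplete_of_finite
    (MvPowerSeries (Fin n) k) (Quo p (bb p k n a) (cc k n))).2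
  rw [Groth.Agent.Lib.Helper24ASFamB.maximalIdeal_eq (hp2 p) (hc k n), uIdeal_eq_map] at h
  exact h

theorem main88 (ham : ∀ i, MvPowerSeries.constantCoeff (a i) = 0) :
    Module.Free (MvPowerSeries (Fin n) k) (Quo p (bb p k n a) (cc k n)) ∧
      Module.finrank (MvPowerSeries (Fin n) k) (Quo p (bb p k n a) (cc k n)) = p ^ n ∧
      IsAdicComplete (Ideal.map (Ideal.Quotient.mk (idl p (bb p k n a) (cc k n)))
        (Ideal.span (Set.range (X : Fin n → MvPolynomial (Fin n) (MvPowerSeries (Fin n) k)))))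
        (Quo p (bb p k n a) (cc k n)) ∧
      IsDomain (Quo p (bb p k n a) (cc k n)) :=
  ⟨Groth.Agent.Lib.Helper24ASFamA.free p _ _ (hp2 p),
    Groth.Agent.Lib.Helper24ASFamA.finrank_eq p _ _ (hp2 p), isAdicComplete ham, isDomain ham⟩

end Groth.Agent.Lib.Helper24ASFamD
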