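import Mathlib
import Groth.Agent.Lib.Helper24ASFamB

/-!
# The algebra `R[u_1..u_n]/(u_i^p - b_i u_i - c_i)` (helper24), part E: lengths and translations

* `length_quot_free`: `ℓ_R(M/IM) = rank(M) · ℓ_R(R/I)` for a finite free module `M`.
* `length_quot_map`: `ℓ_A(A/IA) = p ^ n · ℓ_R(R/I)` for the local algebra `A` of part B.
* `span_sub_eq_map`: for an `R`-algebra endomorphism `σ` of `A` with `σ u_i = u_i + d_i`, the ideal
  generated by the `σ t - t` is `(d_1, …, d_n) A`.
-/

set_option linter.unusedSectionVars false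

namespace Groth.Agent.Lib.Helper24ASFamE

open MvPolynomial IsLocalRing Groth.Agent.Lib.Helper24ASFamA Groth.Agent.Lib.Helper24ASFamB
open scoped TensorProduct

universe u

section free

variable {R : Type u} [CommRing R]

lemma length_quot_free [Nontrivial R] (I : Ideal R) (M : Type u) [AddCommGroup M] [Module R M]
    [Module.Free R M] [Module.Finite R M] :
    Module.length R (M ⧸ (I • ⊤ : Submodule R M)) =
      Module.finrank R M * Module.length R (R ⧸ I) := by
  by_cases hI : I = ⊤
  · subst hI
    haveI : Subsingleton (R ⧸ (⊤ : Ideal R)) := Ideal.Quotient.subsingleton_iff.mpr rfl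
    haveI : Subsingleton (M ⧸ ((⊤ : Ideal R) • ⊤ : Submodule R M)) := by
      rw [Submodule.Quotient.subsingleton_iff]
      exact Submodule.top_smul _
    rw [Module.length_eq_zero, Module.length_eq_zero, mul_zero]
  haveI : Nontrivial (R ⧸ I) := Ideal.Quotient.nontrivial_iff.mpr hI
  rw [← (TensorProduct.quotTensorEquivQuotSMul M I).length_eq,
    Module.length_eq_of_surjective (S := R) (R := R ⧸ I) (M := (R ⧸ I) ⊗[R] M)
      Ideal.Quotient.mk_surjective,
    Module.length_of_free_of_finite, Module.finrank_baseChange,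
    Module.length_eq_of_surjective (S := R) (R := R ⧸ I) (M := (R ⧸ I))
      Ideal.Quotient.mk_surjective]

end free

section loc

variable {R : Type u} [CommRing R] [IsLocalRing R] {n : ℕ} {p : ℕ} {b c : Fin n → R}

lemma isLocalHom_algebraMap (hp : 2 ≤ p) (hc : Ideal.span (Set.range c) = maximalIdeal R)
    [IsLocalRing (Quo p b c)] : IsLocalHom (algebraMap R (Quo p b c)) := by
  constructor
  intro r hr
  by_contra hnu
  have hmem : r ∈ maximalIdeal R := hnu
  have h1 := algebraMap_mem_uIdeal (b := b) hp hc hmem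
  rw [← maximalIdeal_eq hp hc] at h1
  exact h1 hr

lemma residue_algebraMap_surjective (hp : 2 ≤ p) (hc : Ideal.span (Set.range c) = maximalIdeal R)
    [IsLocalRing (Quo p b c)] :
    Function.Surjective ((residue (Quo p b c)).comp (algebraMap R (Quo p b c))) := by
  intro y
  obtain ⟨t, rfl⟩ := residue_surjective y
  obtain ⟨P, rfl⟩ := Ideal.Quotient.mk_surjective t
  refine ⟨constantCoeff P, ?_⟩
  rw [RingHom.comp_apply]
  symm
  rw [← sub_eq_zero, ← map_sub, residue_eq_zero_iff, maximalIdeal_eq hp hc]
  exact mk_sub_algebraMap_mem p b c P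

lemma length_residueField (hp : 2 ≤ p) (hc : Ideal.span (Set.range c) = maximalIdeal R)
    [IsLocalRing (Quo p b c)] [IsLocalHom (algebraMap R (Quo p b c))] :
    Module.length (ResidueField R) (ResidueField (Quo p b c)) = 1 := by
  have hsurj : Function.Surjective (algebraMap (ResidueField R) (ResidueField (Quo p b c))) := by
    intro y
    obtain ⟨r, hr⟩ := residue_algebraMap_surjective (b := b) hp hc y
    refine ⟨residue R r, ?_⟩
    rw [← hr]
    rfl
  have hinj : Function.Injective (algebraMap (ResidueField R) (ResidueField (Quo p b c))) :=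
    (algebraMap (ResidueField R) (ResidueField (Quo p b c))).injective
  let e : ResidueField R ≃ₗ[ResidueField R] ResidueField (Quo p b c) :=
    LinearEquiv.ofBijective (Algebra.linearMap _ _) ⟨hinj, hsurj⟩
  rw [← e.length_eq]
  exact Module.length_eq_one _ _

theorem length_quot_map (hp : 2 ≤ p) (hb : ∀ i, b i ∈ maximalIdeal R)
    (hc : Ideal.span (Set.range c) = maximalIdeal R) (I : Ideal R) :
    Module.length (Quo p b c) (Quo p b c ⧸ I.map (algebraMap R (Quo p b c))) =
      (p : ℕ∞) ^ n * Module.length R (R ⧸ I) := by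
  haveI := isLocalRing hp hb hc
  haveI := isLocalHom_algebraMap (b := b) hp hc
  haveI := Groth.Agent.Lib.Helper24ASFamA.free p b c hp
  haveI := Groth.Agent.Lib.Helper24ASFamA.finite p b c hp
  have h1 := IsLocalRing.length_restrictScalars R (Quo p b c)
    (Quo p b c ⧸ I.map (algebraMap R (Quo p b c)))
  rw [length_residueField hp hc, mul_one] at h1
  rw [← h1]
  have h2 := length_quot_free I (Quo p b c)
  rw [Groth.Agent.Lib.Helper24ASFamA.finrank_eq p b c hp] at h2
  rw [Ideal.smul_top_eq_map] at h2
  rw [Nat.cast_pow] at h2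
  exact h2

end loc

section translation

variable {R : Type u} [CommRing R] {n : ℕ} {p : ℕ} {b c : Fin n → R}

/-- for an `R`-algebra endomorphism with `σ u_i = u_i + d_i`, the ideal generated by all
`σ t - t` is `(d_1, …, d_n)`. -/
theorem span_sub_eq_map (σ : (MvPolynomial (Fin n) R ⧸ idl p b c) →ₐ[R]
      (MvPolynomial (Fin n) R ⧸ idl p b c)) (d : Fin n → R)
    (hσ : ∀ i, σ (u p b c i) = u p b c i + algebraMap R _ (d i)) :
    Ideal.span (Set.range fun t : MvPolynomial (Fin n) R ⧸ idl p b c => σ t - t) =
      (Ideal.span (Set.range d)).map (algebraMap R (MvPolynomial (Fin n) R ⧸ idl p b c)) := by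
  apply le_antisymm
  · rw [Ideal.span_le]
    rintro _ ⟨t, rfl⟩
    obtain ⟨P, rfl⟩ := Ideal.Quotient.mk_surjective t
    show σ (Ideal.Quotient.mk _ P) - Ideal.Quotient.mk _ P ∈ _
    induction P using MvPolynomial.induction_on with
    | C r =>
      have : σ (Ideal.Quotient.mk (idl p b c) (C r)) = Ideal.Quotient.mk (idl p b c) (C r) :=
        σ.commutes r
      rw [this, sub_self]
      exact Ideal.zero_mem _
    | add q r hq hr =>
      rw [map_add, map_add]
      have : σ (Ideal.Quotient.mk (idl p b c) q) + σ (Ideal.Quotient.mk (idl p b c) r) -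
          (Ideal.Quotient.mk (idl p b c) q + Ideal.Quotient.mk (idl p b c) r) =
          (σ (Ideal.Quotient.mk (idl p b c) q) - Ideal.Quotient.mk (idl p b c) q) +
          (σ (Ideal.Quotient.mk (idl p b c) r) - Ideal.Quotient.mk (idl p b c) r) := by ring
      rw [this]
      exact Ideal.add_mem _ hq hr
    | mul_X q i hq =>
      rw [map_mul, map_mul]
      have hX : σ (Ideal.Quotient.mk (idl p b c) (X i)) =
          Ideal.Quotient.mk (idl p b c) (X i) + algebraMap R _ (d i) := hσ i
      rw [hX]
      have : σ (Ideal.Quotient.mk (idl p b c) q) *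
          (Ideal.Quotient.mk (idl p b c) (X i) + algebraMap R _ (d i)) -
          Ideal.Quotient.mk (idl p b c) q * Ideal.Quotient.mk (idl p b c) (X i) =
          (σ (Ideal.Quotient.mk (idl p b c) q) - Ideal.Quotient.mk (idl p b c) q) *
            Ideal.Quotient.mk (idl p b c) (X i) +
          σ (Ideal.Quotient.mk (idl p b c) q) * algebraMap R _ (d i) := by ring
      rw [this]
      refine Ideal.add_mem _ (Ideal.mul_mem_right _ _ hq) (Ideal.mul_mem_left _ _ ?_)
      exact Ideal.mem_map_of_mem _ (Ideal.subset_span ⟨i, rfl⟩)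
  · rw [Ideal.map_span, Ideal.span_le]
    rintro _ ⟨_, ⟨i, rfl⟩, rfl⟩
    apply Ideal.subset_span
    refine ⟨u p b c i, ?_⟩
    show σ (u p b c i) - u p b c i = _
    rw [hσ i, add_sub_cancel_left]

end translation

end Groth.Agent.Lib.Helper24ASFamE
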