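import Mathlib
import Groth.Agent.Lib.Helper24ASFamC
import Groth.Agent.Lib.Helper24ASFamE

/-!
# The Artin–Schreier family over `k[[x_1..x_n]]` (helper24), part F: the fixed-point ideal
-/

set_option linter.unusedSectionVars false

namespace Groth.Agent.Lib.Helper24ASFamF

open MvPolynomial IsLocalRing Groth.Agent.Lib.Helper24ASFamA Groth.Agent.Lib.Helper24ASFamB
  Groth.Agent.Lib.Helper24ASFamC Groth.Agent.Lib.Helper24ASFamE

universe u

variable {p : ℕ} [hpp : Fact p.Prime] {k : Type u} [Field k] {n : ℕ}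
  {a : Fin n → MvPowerSeries (Fin n) k}

lemma pow_pred_mul {A : Type*} [CommRing A] (I : Ideal A) {m : ℕ} (hm : 1 ≤ m) :
    I ^ (m - 1) * I = I ^ m := by
  obtain ⟨q, rfl⟩ : ∃ q, m = q + 1 := ⟨m - 1, by omega⟩
  rw [Nat.add_sub_cancel, pow_succ]

lemma algebraMap_cc_mem (ham : ∀ i, MvPowerSeries.constantCoeff (a i) = 0) (j : Fin n) :
    algebraMap (MvPowerSeries (Fin n) k) (Quo p (bb p k n a) (cc k n)) (cc k n j) ∈
      uIdeal p (bb p k n a) (cc k n) ^ p := by
  have h2 := hp2 p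
  have hu : u p (bb p k n a) (cc k n) j ∈ uIdeal p (bb p k n a) (cc k n) :=
    Ideal.subset_span ⟨j, rfl⟩
  have h := u_pow p (bb p k n a) (cc k n) j
  have e : algebraMap (MvPowerSeries (Fin n) k) (Quo p (bb p k n a) (cc k n)) (cc k n j) =
      u p (bb p k n a) (cc k n) j ^ p -
        algebraMap (MvPowerSeries (Fin n) k) _ (bb p k n a j) * u p (bb p k n a) (cc k n) j := by
    rw [h]; ring
  rw [e]
  refine Ideal.sub_mem _ (Ideal.pow_mem_pow hu p) ?_
  have ha : algebraMap (MvPowerSeries (Fin n) k) (Quo p (bb p k n a) (cc k n)) (a j) ∈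
      uIdeal p (bb p k n a) (cc k n) :=
    algebraMap_mem_uIdeal (b := bb p k n a) (hp2 p) (hc k n)
      (mem_maximalIdeal_of_constantCoeff k n (ham j))
  have hb' : algebraMap (MvPowerSeries (Fin n) k) (Quo p (bb p k n a) (cc k n)) (bb p k n a j) ∈
      uIdeal p (bb p k n a) (cc k n) ^ (p - 1) := by
    rw [map_pow]
    exact Ideal.pow_mem_pow ha (p - 1)
  have hpow : uIdeal p (bb p k n a) (cc k n) ^ (p - 1) * uIdeal p (bb p k n a) (cc k n) =
      uIdeal p (bb p k n a) (cc k n) ^ p := by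
    exact pow_pred_mul _ (by omega)
  rw [← hpow]
  exact Ideal.mul_mem_mul hb' hu

lemma map_le_pow (ham : ∀ i, MvPowerSeries.constantCoeff (a i) = 0) :
    (maximalIdeal (MvPowerSeries (Fin n) k)).map
      (algebraMap (MvPowerSeries (Fin n) k) (Quo p (bb p k n a) (cc k n))) ≤
      uIdeal p (bb p k n a) (cc k n) ^ p := by
  rw [← hc k n, Ideal.map_span, Ideal.span_le]
  rintro _ ⟨_, ⟨j, rfl⟩, rfl⟩
  exact algebraMap_cc_mem ham j

theorem main98 (ham : ∀ i, MvPowerSeries.constantCoeff (a i) = 0)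
    (σ : Quo p (bb p k n a) (cc k n) ≃ₐ[MvPowerSeries (Fin n) k] Quo p (bb p k n a) (cc k n))
    (hσ : ∀ i, σ (u p (bb p k n a) (cc k n) i) =
      u p (bb p k n a) (cc k n) i + algebraMap (MvPowerSeries (Fin n) k) _ (a i)) :
    Ideal.span (Set.range fun t : Quo p (bb p k n a) (cc k n) => σ t - t) ≤
        Ideal.span (Set.range (u p (bb p k n a) (cc k n))) ^ p ∧
      Module.length (Quo p (bb p k n a) (cc k n))
        (Quo p (bb p k n a) (cc k n) ⧸
          Ideal.span (Set.range fun t : Quo p (bb p k n a) (cc k n) => σ t - t)) =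
        (p : ℕ∞) ^ n * Module.length (MvPowerSeries (Fin n) k)
          (MvPowerSeries (Fin n) k ⧸ Ideal.span (Set.range a)) := by
  have hJ : Ideal.span (Set.range fun t : Quo p (bb p k n a) (cc k n) => σ t - t) =
      (Ideal.span (Set.range a)).map (algebraMap (MvPowerSeries (Fin n) k) _) :=
    span_sub_eq_map (p := p) (b := bb p k n a) (c := cc k n) σ.toAlgHom a hσ
  constructor
  · rw [hJ]
    refine le_trans (Ideal.map_mono ?_) (map_le_pow ham)
    rw [Ideal.span_le]
    rintro _ ⟨i, rfl⟩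
    exact mem_maximalIdeal_of_constantCoeff k n (ham i)
  · rw [(Submodule.quotEquivOfEq _ _ hJ).length_eq]
    exact length_quot_map (hp2 p) (hb ham) (hc k n) _

end Groth.Agent.Lib.Helper24ASFamF
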