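import Mathlib
import Groth.Agent.Lib.Helper24ASFamA

/-!
# The algebra `R[u_1..u_n]/(u_i^p - a_i^(p-1) u_i - c_i)` in characteristic `p` (helper24), part G

The translations `u_i ↦ u_i + j_i a_i`, `j ∈ (ℤ/p)^n`, are `R`-algebra automorphisms, and when the
algebra is a domain and all `a_i ≠ 0` they are all the `R`-algebra automorphisms.
-/

set_option linter.unusedSectionVars false

namespace Groth.Agent.Lib.Helper24ASFamG

universe u

section roots

open Polynomial in
/-- in a domain of characteristic `p`, the solutions of `δ ^ p = α ^ (p-1) δ` are the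
`𝔽_p`-multiples of `α`. -/
lemma exists_zmod_mul {p : ℕ} [hpp : Fact p.Prime] {B : Type*} [CommRing B] [IsDomain B]
    (ι : ZMod p →+* B) (α δ : B) (h : δ ^ p = α ^ (p - 1) * δ) : ∃ j : ZMod p, δ = ι j * α := by
  classical
  have hp2 : 2 ≤ p := hpp.out.two_le
  by_contra hne
  push Not at hne
  have hα : α ≠ 0 := by
    rintro rfl
    have h1 : p - 1 ≠ 0 := by omega
    rw [zero_pow h1, zero_mul] at h
    have : δ = 0 := by
      have hp0 : p ≠ 0 := by omega
      exact (pow_eq_zero_iff hp0).mp h
    exact hne 0 (by rw [this, mul_zero])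
  let P : B[X] := X ^ p - C (α ^ (p - 1)) * X
  have hcoeff : P.coeff p = 1 := by
    have hp1 : p ≠ 1 := by omega
    simp only [P, coeff_sub, coeff_X_pow, if_true, coeff_C_mul, coeff_X]
    rw [if_neg (Ne.symm hp1)]
    simp
  have hP0 : P ≠ 0 := by
    intro h0
    rw [h0, coeff_zero] at hcoeff
    exact zero_ne_one hcoeff
  have hdeg : P.natDegree ≤ p := by
    refine (natDegree_sub_le _ _).trans (max_le ?_ ?_)
    · exact natDegree_X_pow_le p
    · refine (natDegree_C_mul_le _ _).trans ?_
      rw [natDegree_X]; omega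
  have hroot : ∀ x : B, x ^ p = α ^ (p - 1) * x → x ∈ P.roots := by
    intro x hx
    rw [mem_roots hP0, IsRoot.def]
    simp only [P, eval_sub, eval_pow, eval_X, eval_mul, eval_C]
    rw [hx, sub_self]
  have hιinj : Function.Injective ι := ι.injective
  have hmulinj : Function.Injective (fun j : ZMod p => ι j * α) := by
    intro j j' hjj
    exact hιinj (mul_right_cancel₀ hα hjj)
  let Z : Finset B := insert δ (Finset.univ.image fun j : ZMod p => ι j * α)
  have hδ : δ ∉ Finset.univ.image fun j : ZMod p => ι j * α := by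
    intro hmem
    obtain ⟨j, -, hj⟩ := Finset.mem_image.mp hmem
    exact hne j hj.symm
  have hZcard : Z.card = p + 1 := by
    rw [Finset.card_insert_of_notMem hδ, Finset.card_image_of_injective _ hmulinj,
      Finset.card_univ, ZMod.card]
  have hZ : Z.val ⊆ P.roots := by
    intro x hx
    rw [Finset.mem_val, Finset.mem_insert] at hx
    rcases hx with rfl | hx
    · exact hroot _ h
    · obtain ⟨j, -, rfl⟩ := Finset.mem_image.mp hx
      apply hroot
      have hαp : α ^ p = α ^ (p - 1) * α := by
        rw [← pow_succ, Nat.sub_add_cancel (by omega)]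
      rw [mul_pow, ← map_pow, ZMod.pow_card, hαp]
      ring
  have := card_le_degree_of_subset_roots hZ
  omega

end roots

open MvPolynomial Groth.Agent.Lib.Helper24ASFamA

variable {R : Type u} [CommRing R] [IsDomain R] (p : ℕ) [hpp : Fact p.Prime] [CharP R p] {n : ℕ}
  (a c : Fin n → R)

/-- the coefficients `a_i ^ (p-1)` -/
abbrev bA : Fin n → R := fun i => a i ^ (p - 1)

/-- the algebra -/
abbrev Q : Type u := MvPolynomial (Fin n) R ⧸ idl p (bA p a) c

lemma hp2 : 2 ≤ p := hpp.out.two_le

instance charP_Q : CharP (Q p a c) p :=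
  charP_of_injective_algebraMap (algebraMap_injective p (bA p a) c (hp2 p)) p

/-- the canonical map `𝔽_p → R` -/
noncomputable def zc : ZMod p →+* R := ZMod.castHom (dvd_refl p) R

/-- the image of `u_i` under the translation by `j` -/
noncomputable def tgt (j : Fin n → ZMod p) (i : Fin n) : Q p a c :=
  u p (bA p a) c i + algebraMap R (Q p a c) (zc p (j i) * a i)

lemma tgt_rel (j : Fin n → ZMod p) (i : Fin n) :
    tgt p a c j i ^ p =
      algebraMap R (Q p a c) (bA p a i) * tgt p a c j i + algebraMap R (Q p a c) (c i) := by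
  have h2 := hp2 p
  have hap : a i ^ p = a i ^ (p - 1) * a i := by
    rw [← pow_succ, Nat.sub_add_cancel (by omega)]
  rw [tgt, add_pow_char, u_pow, ← map_pow, mul_pow, ← map_pow, ZMod.pow_card, hap]
  simp only [map_mul, map_pow]
  ring

/-- the translation by `j`, as an algebra endomorphism -/
noncomputable def tauHom (j : Fin n → ZMod p) : Q p a c →ₐ[R] Q p a c :=
  Ideal.Quotient.liftₐ (idl p (bA p a) c) (aeval (tgt p a c j)) (by
    intro x hx
    have hle : idl p (bA p a) c ≤ RingHom.ker (aeval (tgt p a c j) :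
        MvPolynomial (Fin n) R →ₐ[R] Q p a c) := by
      refine (Ideal.span_le (I := RingHom.ker (aeval (tgt p a c j) :
        MvPolynomial (Fin n) R →ₐ[R] Q p a c))).2 ?_
      rintro _ ⟨i, rfl⟩
      rw [SetLike.mem_coe, RingHom.mem_ker, fam]
      simp only [map_sub, map_mul, map_pow, aeval_X, aeval_C]
      rw [tgt_rel]
      simp only [map_pow]
      ring
    exact hle hx)

lemma tauHom_u (j : Fin n → ZMod p) (i : Fin n) :
    tauHom p a c j (u p (bA p a) c i) = tgt p a c j i := by
  show Ideal.Quotient.liftₐ _ _ _ (Ideal.Quotient.mk _ (X i)) = _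
  rw [Ideal.Quotient.liftₐ_apply, Ideal.Quotient.lift_mk]
  exact aeval_X _ i

variable {p a c}

lemma algHom_ext_u {f g : Q p a c →ₐ[R] Q p a c}
    (h : ∀ i, f (u p (bA p a) c i) = g (u p (bA p a) c i)) : f = g := by
  apply Ideal.Quotient.algHom_ext
  apply MvPolynomial.algHom_ext
  intro i
  exact h i

variable (p a c)

lemma tauHom_comp (j j' : Fin n → ZMod p) :
    (tauHom p a c j).comp (tauHom p a c j') = tauHom p a c (j + j') := by
  apply algHom_ext_u
  intro i
  rw [AlgHom.comp_apply, tauHom_u, tauHom_u, tgt, map_add, tauHom_u, AlgHom.commutes, tgt, tgt,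
    Pi.add_apply, map_add, add_mul, map_add]
  ring

lemma tauHom_zero : tauHom p a c 0 = AlgHom.id R (Q p a c) := by
  apply algHom_ext_u
  intro i
  rw [tauHom_u, tgt, Pi.zero_apply, map_zero, zero_mul, map_zero, add_zero]
  rfl

/-- the translation by `j`, as an algebra automorphism -/
noncomputable def tau (j : Fin n → ZMod p) : Q p a c ≃ₐ[R] Q p a c :=
  AlgEquiv.ofAlgHom (tauHom p a c j) (tauHom p a c (-j))
    (by rw [tauHom_comp, add_neg_cancel, tauHom_zero])
    (by rw [tauHom_comp, neg_add_cancel, tauHom_zero])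

lemma tau_apply (j : Fin n → ZMod p) (x : Q p a c) : tau p a c j x = tauHom p a c j x := rfl

/-- translations form a group homomorphism -/
noncomputable def tauMonoidHom : Multiplicative (Fin n → ZMod p) →* (Q p a c ≃ₐ[R] Q p a c) where
  toFun j := tau p a c j.toAdd
  map_one' := by
    apply AlgEquiv.ext
    intro x
    rw [tau_apply]
    show tauHom p a c 0 x = x
    rw [tauHom_zero]; rfl
  map_mul' j j' := by
    apply AlgEquiv.ext
    intro x
    rw [AlgEquiv.mul_apply, tau_apply, tau_apply, tau_apply, toAdd_mul, ← tauHom_comp]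
    rfl

lemma tauMonoidHom_apply (j : Multiplicative (Fin n → ZMod p)) :
    tauMonoidHom p a c j = tau p a c j.toAdd := rfl

lemma tauMonoidHom_injective (ha : ∀ i, a i ≠ 0) : Function.Injective (tauMonoidHom p a c) := by
  intro j j' h
  apply Multiplicative.toAdd.injective
  funext i
  have h1 : tau p a c j.toAdd (u p (bA p a) c i) = tau p a c j'.toAdd (u p (bA p a) c i) := by
    rw [← tauMonoidHom_apply, ← tauMonoidHom_apply, h]
  rw [tau_apply, tau_apply, tauHom_u, tauHom_u, tgt, tgt] at h1
  have h2 := algebraMap_injective p (bA p a) c (hp2 p) (add_left_cancel h1)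
  exact (zc p).injective (mul_right_cancel₀ (ha i) h2)

lemma tauMonoidHom_surjective [IsDomain (Q p a c)] :
    Function.Surjective (tauMonoidHom p a c) := by
  intro σ
  have h2 := hp2 p
  have key : ∀ i, ∃ j : ZMod p, σ (u p (bA p a) c i) - u p (bA p a) c i =
      ((algebraMap R (Q p a c)).comp (zc p)) j * algebraMap R (Q p a c) (a i) := by
    intro i
    apply exists_zmod_mul
    have hσ : σ (u p (bA p a) c i) ^ p =
        algebraMap R (Q p a c) (bA p a i) * σ (u p (bA p a) c i) +
          algebraMap R (Q p a c) (c i) := by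
      rw [← map_pow, u_pow, map_add, map_mul, AlgEquiv.commutes, AlgEquiv.commutes]
    have hu := u_pow p (bA p a) c i
    rw [sub_pow_char, hσ, hu, map_pow]
    ring
  choose j hj using key
  refine ⟨Multiplicative.ofAdd j, ?_⟩
  apply AlgEquiv.ext
  intro x
  have : (tau p a c j : Q p a c →ₐ[R] Q p a c) = (σ : Q p a c →ₐ[R] Q p a c) := by
    apply algHom_ext_u
    intro i
    show tau p a c j (u p (bA p a) c i) = σ (u p (bA p a) c i)
    rw [tau_apply, tauHom_u, tgt, map_mul]
    have := hj i
    rw [RingHom.comp_apply] at this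
    rw [← this]
    ring
  exact DFunLike.congr_fun this x

end Groth.Agent.Lib.Helper24ASFamG
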