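import Mathlib

/-!
# Invariants of the full automorphism group when it has as many elements as the rank (helper24)

Let `R` be an integrally closed domain and `A` a domain, finite over `R`, with `R → A` injective.
If the group of `R`-algebra automorphisms of `A` has exactly `rank_R A` elements, then the elements
of `A` fixed by all automorphisms are those coming from `R` (the extension of fraction fields is
Galois with that group).
-/

namespace Groth.Agent.Lib.Helper24AutInv

open Module

theorem isInvariant_of_card_eq {R A : Type*} [CommRing R] [IsDomain R] [IsIntegrallyClosed R]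
    [CommRing A] [IsDomain A] [Algebra R A] [Module.Finite R A] [FaithfulSMul R A]
    (hcard : Nat.card (A ≃ₐ[R] A) = Module.finrank R A) :
    Algebra.IsInvariant R A (A ≃ₐ[R] A) := by
  classical
  letI : Algebra (FractionRing R) (FractionRing A) := FractionRing.liftAlgebra R (FractionRing A)
  haveI : IsScalarTower R (FractionRing R) (FractionRing A) :=
    FractionRing.isScalarTower_liftAlgebra R (FractionRing A)
  letI : MulSemiringAction (A ≃ₐ[R] A) (FractionRing A) :=
    IsFractionRing.mulSemiringAction (A ≃ₐ[R] A) A (FractionRing A)
  haveI : FaithfulSMul (A ≃ₐ[R] A) (FractionRing A) :=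
    IsFractionRing.faithfulSMul (A ≃ₐ[R] A) A (FractionRing A)
  haveI : SMulCommClass (A ≃ₐ[R] A) (FractionRing R) (FractionRing A) :=
    IsFractionRing.smulCommClass (A ≃ₐ[R] A) R A (FractionRing R) (FractionRing A)
  haveI : Algebra.IsIntegral R A := Algebra.IsIntegral.of_finite R A
  have hfr : finrank (FractionRing R) (FractionRing A) = finrank R A :=
    IsFractionRing.finrank_eq R (FractionRing R) A (FractionRing A)
  haveI : Module.IsTorsionFree R A := inferInstance
  have hpos : 0 < finrank R A := Module.finrank_pos
  haveI : FiniteDimensional (FractionRing R) (FractionRing A) :=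
    FiniteDimensional.of_finrank_pos (by rw [hfr]; exact hpos)
  haveI : Finite (A ≃ₐ[R] A) := Nat.finite_of_card_ne_zero (by rw [hcard]; exact hpos.ne')
  let φ : (A ≃ₐ[R] A) →* (FractionRing A ≃ₐ[FractionRing R] FractionRing A) :=
    MulSemiringAction.toAlgAut (A ≃ₐ[R] A) (FractionRing R) (FractionRing A)
  have hφ : Function.Injective φ := by
    intro g g' h
    apply eq_of_smul_eq_smul (α := FractionRing A)
    intro x
    exact DFunLike.congr_fun h x
  have hle : Nat.card (FractionRing A ≃ₐ[FractionRing R] FractionRing A) ≤
      finrank (FractionRing R) (FractionRing A) := by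
    rw [Nat.card_eq_fintype_card]
    exact AlgEquiv.card_le
  have hge : Nat.card (A ≃ₐ[R] A) ≤
      Nat.card (FractionRing A ≃ₐ[FractionRing R] FractionRing A) :=
    Nat.card_le_card_of_injective φ hφ
  have heq : Nat.card (FractionRing A ≃ₐ[FractionRing R] FractionRing A) =
      finrank (FractionRing R) (FractionRing A) :=
    le_antisymm hle (by rw [hfr, ← hcard]; exact hge)
  haveI : IsGalois (FractionRing R) (FractionRing A) := IsGalois.of_card_aut_eq_finrank _ _ heq
  have hbij : Function.Bijective φ :=
    (Nat.bijective_iff_injective_and_card φ).2 ⟨hφ, by omega⟩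
  haveI : IsGaloisGroup (A ≃ₐ[R] A) (FractionRing R) (FractionRing A) :=
    IsGaloisGroup.of_mulEquiv_algEquiv (MulEquiv.ofBijective φ hbij) (fun g x => rfl)
  haveI : IsGaloisGroup (A ≃ₐ[R] A) R A :=
    IsGaloisGroup.of_isFractionRing (A ≃ₐ[R] A) R A (FractionRing R) (FractionRing A)
  exact IsGaloisGroup.isInvariant

end Groth.Agent.Lib.Helper24AutInv
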