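import Mathlib
import Groth.Agent.Lib.Helper24ASFamD
import Groth.Agent.Lib.Helper24ASFamG
import Groth.Agent.Lib.Helper24AutInv
import Groth.Agent.Lib.Helper28Catenary

/-!
# The Artin–Schreier family over `k[[x_1..x_n]]` (helper24), part H: the automorphism group
-/

set_option linter.unusedSectionVars false

namespace Groth.Agent.Lib.Helper24ASFamH

open MvPolynomial IsLocalRing Groth.Agent.Lib.Helper24ASFamA Groth.Agent.Lib.Helper24ASFamB
  Groth.Agent.Lib.Helper24ASFamC Groth.Agent.Lib.Helper24ASFamG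

universe u

variable {p : ℕ} [hpp : Fact p.Prime] {k : Type u} [Field k] [CharP k p] {n : ℕ}
  {a : Fin n → MvPowerSeries (Fin n) k}

instance charP_R : CharP (MvPowerSeries (Fin n) k) p :=
  charP_of_injective_ringHom (f := (MvPowerSeries.C : k →+* MvPowerSeries (Fin n) k))
    MvPowerSeries.C_injective p

instance isDomain_R : IsDomain (MvPowerSeries (Fin n) k) :=
  Groth.Agent.Lib.Helper5.isDomain_of_isRegularLocalRing _

instance isIntegrallyClosed_R : IsIntegrallyClosed (MvPowerSeries (Fin n) k) :=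
  Groth.Agent.Lib.Helper28.isIntegrallyClosed_of_isRegularLocalRing _

theorem main89 (ha0 : ∀ i, a i ≠ 0) (ham : ∀ i, MvPowerSeries.constantCoeff (a i) = 0) :
    Nat.card (Q p a (cc k n) ≃ₐ[MvPowerSeries (Fin n) k] Q p a (cc k n)) = p ^ n ∧
      (∀ σ τ : Q p a (cc k n) ≃ₐ[MvPowerSeries (Fin n) k] Q p a (cc k n), σ * τ = τ * σ) ∧
      (∀ σ : Q p a (cc k n) ≃ₐ[MvPowerSeries (Fin n) k] Q p a (cc k n), σ ^ p = 1) ∧
      (∀ b : Q p a (cc k n),
        (∀ σ : Q p a (cc k n) ≃ₐ[MvPowerSeries (Fin n) k] Q p a (cc k n), σ b = b) ↔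
          b ∈ Set.range (algebraMap (MvPowerSeries (Fin n) k) (Q p a (cc k n)))) := by
  haveI hdom : IsDomain (Q p a (cc k n)) := Groth.Agent.Lib.Helper24ASFamD.isDomain (p := p) ham
  let e : Multiplicative (Fin n → ZMod p) ≃*
      (Q p a (cc k n) ≃ₐ[MvPowerSeries (Fin n) k] Q p a (cc k n)) :=
    MulEquiv.ofBijective (tauMonoidHom p a (cc k n))
      ⟨tauMonoidHom_injective p a (cc k n) ha0, tauMonoidHom_surjective p a (cc k n)⟩
  have hcard : Nat.card (Q p a (cc k n) ≃ₐ[MvPowerSeries (Fin n) k] Q p a (cc k n)) = p ^ n := by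
    rw [← Nat.card_congr e.toEquiv]
    simp [Nat.card_eq_fintype_card]
  refine ⟨hcard, ?_, ?_, ?_⟩
  · intro σ τ
    obtain ⟨x, rfl⟩ := e.surjective σ
    obtain ⟨y, rfl⟩ := e.surjective τ
    rw [← map_mul, ← map_mul, mul_comm]
  · intro σ
    obtain ⟨x, rfl⟩ := e.surjective σ
    rw [← map_pow]
    have : x ^ p = 1 := by
      apply Multiplicative.toAdd.injective
      rw [toAdd_pow, toAdd_one]
      funext i
      simp
    rw [this, map_one]
  · intro b
    constructor
    · intro hb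
      haveI := Groth.Agent.Lib.Helper24ASFamA.finite p (bA p a) (cc k n) (Groth.Agent.Lib.Helper24ASFamC.hp2 p)
      haveI : FaithfulSMul (MvPowerSeries (Fin n) k) (Q p a (cc k n)) :=
        (faithfulSMul_iff_algebraMap_injective _ _).mpr
          (algebraMap_injective p (bA p a) (cc k n) (Groth.Agent.Lib.Helper24ASFamC.hp2 p))
      have hinv := Groth.Agent.Lib.Helper24AutInv.isInvariant_of_card_eq
        (R := MvPowerSeries (Fin n) k) (A := Q p a (cc k n))
        (by rw [hcard, Groth.Agent.Lib.Helper24ASFamA.finrank_eq p _ _ (Groth.Agent.Lib.Helper24ASFamC.hp2 p)])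
      obtain ⟨r, hr⟩ := hinv.isInvariant b (fun g => hb g)
      exact ⟨r, hr⟩
    · rintro ⟨r, rfl⟩ σ
      exact σ.commutes r

end Groth.Agent.Lib.Helper24ASFamH
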