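import Mathlib

/-!
# Moore's theorem: simplicial groups are Kan complexes

`SGrp` is an element-level presentation of a simplicial group (groups `G n`, faces `d`,
degeneracies `s`, the simplicial identities stated through the values of the indices).
`fill_zero`/`fill_succ`: horn filling by Moore's algorithm, inside any family of subgroups stable
under faces and degeneracies.  `rel_fill_zero`/`rel_fill_succ`: the relative version for a
levelwise surjective morphism.  `kan_of_elem`/`rlp_of_elem'`: elementwise criteria for Kan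
complexes / Kan fibrations of simplicial sets.
-/

namespace Groth.Agent.Lib.Helper24Moore

open CategoryTheory Opposite Simplicial SSet

universe u

structure SGrp where
  G : ℕ → Type u
  [grp : ∀ n, Group (G n)]
  d : ∀ n, Fin (n + 2) → (G (n + 1) →* G n)
  s : ∀ n, Fin (n + 1) → (G n →* G (n + 1))
  dd : ∀ n (a : Fin (n + 2)) (b : Fin (n + 3)) (a' : Fin (n + 3)) (b' : Fin (n + 2))
    (z : G (n + 2)), a.val < b.val → a'.val = a.val → b'.val + 1 = b.val →
    d n a (d (n + 1) b z) = d n b' (d (n + 1) a' z)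
  ds_lt : ∀ n (j : Fin (n + 3)) (r : Fin (n + 2)) (j' : Fin (n + 2)) (r' : Fin (n + 1))
    (u : G (n + 1)), j.val < r.val → j'.val = j.val → r'.val + 1 = r.val →
    d (n + 1) j (s (n + 1) r u) = s n r' (d n j' u)
  ds_eq : ∀ n (j : Fin (n + 2)) (r : Fin (n + 1)) (u : G n),
    (j.val = r.val ∨ j.val = r.val + 1) → d n j (s n r u) = u
  ds_gt : ∀ n (j : Fin (n + 3)) (r : Fin (n + 2)) (j' : Fin (n + 2)) (r' : Fin (n + 1))
    (u : G (n + 1)), r.val + 1 < j.val → j'.val + 1 = j.val → r'.val = r.val →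
    d (n + 1) j (s (n + 1) r u) = s n r' (d n j' u)

attribute [instance] SGrp.grp

variable (S : SGrp.{u})

structure SGrp.Sub where
  N : ∀ n, Subgroup (S.G n)
  hd : ∀ n j z, z ∈ N (n + 1) → S.d n j z ∈ N n
  hs : ∀ n j z, z ∈ N n → S.s n j z ∈ N (n + 1)

/-- compatibility of a family of faces -/
def Compat (m : ℕ) (i : Fin (m + 3)) (x : Fin (m + 3) → S.G (m + 1)) : Prop :=
  ∀ j k : Fin (m + 3), j ≠ i → k ≠ i → j.val < k.val → ∀ (k' j' : Fin (m + 2)),
    k'.val + 1 = k.val → j'.val = j.val → S.d m k' (x j) = S.d m j' (x k)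

/-- Phase A: correcting the faces below `i`. -/
theorem phaseA (T : S.Sub) (m : ℕ) (i : Fin (m + 3)) (x : Fin (m + 3) → S.G (m + 1))
    (hx : ∀ j, j ≠ i → x j ∈ T.N (m + 1)) (hc : Compat S m i x) (r : ℕ) (hr : r ≤ i.val) :
    ∃ w : S.G (m + 2), w ∈ T.N (m + 2) ∧ ∀ j : Fin (m + 3), j.val < r → S.d (m + 1) j w = x j := by
  induction r with
  | zero => exact ⟨1, (T.N (m + 2)).one_mem, fun j hj => absurd hj (Nat.not_lt_zero _)⟩
  | succ r ih =>
    obtain ⟨w, hwN, hw⟩ := ih (by omega)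
    have hi := i.isLt
    let rj : Fin (m + 3) := ⟨r, by omega⟩
    let rs : Fin (m + 2) := ⟨r, by omega⟩
    have hrji : rj ≠ i := by
      intro h
      have := congrArg Fin.val h
      simp only [rj] at this
      omega
    set u : S.G (m + 1) := (S.d (m + 1) rj w)⁻¹ * x rj with hu
    have huN : u ∈ T.N (m + 1) :=
      (T.N (m + 1)).mul_mem ((T.N (m + 1)).inv_mem (T.hd _ _ _ hwN)) (hx rj hrji)
    refine ⟨w * S.s (m + 1) rs u, (T.N (m + 2)).mul_mem hwN (T.hs _ _ _ huN), ?_⟩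
    intro j hj
    rw [map_mul]
    rcases Nat.lt_succ_iff_lt_or_eq.1 hj with hlt | heq
    · -- j < r
      have hji : j ≠ i := by
        intro h
        have := congrArg Fin.val h
        omega
      let j' : Fin (m + 2) := ⟨j.val, by omega⟩
      let r' : Fin (m + 1) := ⟨r - 1, by omega⟩
      let b' : Fin (m + 2) := ⟨r - 1, by omega⟩
      have h1 : S.d (m + 1) j (S.s (m + 1) rs u) = S.s m r' (S.d m j' u) :=
        S.ds_lt m j rs j' r' u (by simp only [rs]; omega) rfl (by simp only [r', rs]; omega)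
      have h2 : S.d m j' (S.d (m + 1) rj w) = S.d m b' (S.d (m + 1) j w) :=
        S.dd m j' rj j b' w (by simp only [j', rj]; omega) rfl (by simp only [b', rj]; omega)
      have h3 : S.d m b' (x j) = S.d m j' (x rj) :=
        hc j rj hji hrji (by simp only [rj]; omega) b' j' (by simp only [b', rj]; omega) rfl
      have h4 : S.d m j' u = 1 := by
        rw [hu, map_mul, map_inv, h2, hw j hlt, h3, inv_mul_cancel]
      rw [h1, h4, map_one, mul_one, hw j hlt]
    · -- j = r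
      have hjr : j = rj := Fin.ext heq
      rw [hjr, S.ds_eq (m + 1) rj rs u (Or.inl rfl), hu, mul_inv_cancel_left]


/-- Phase B: correcting the faces above `i`, from the top down. -/
theorem phaseB (T : S.Sub) (m : ℕ) (i : Fin (m + 3)) (x : Fin (m + 3) → S.G (m + 1))
    (hx : ∀ j, j ≠ i → x j ∈ T.N (m + 1)) (hc : Compat S m i x) (t : ℕ)
    (ht : t ≤ m + 2 - i.val) :
    ∃ w : S.G (m + 2), w ∈ T.N (m + 2) ∧ ∀ j : Fin (m + 3), j ≠ i →
      (j.val < i.val ∨ m + 3 - t ≤ j.val) → S.d (m + 1) j w = x j := by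
  have hi := i.isLt
  induction t with
  | zero =>
    obtain ⟨w, hwN, hw⟩ := phaseA S T m i x hx hc i.val le_rfl
    refine ⟨w, hwN, ?_⟩
    intro j hji hj
    rcases hj with hj | hj
    · exact hw j hj
    · have := j.isLt
      omega
  | succ t ih =>
    obtain ⟨w, hwN, hw⟩ := ih (by omega)
    -- r = m + 2 - t > i
    have hr : i.val < m + 2 - t := by omega
    let rj : Fin (m + 3) := ⟨m + 2 - t, by omega⟩
    let rs : Fin (m + 2) := ⟨m + 2 - t - 1, by omega⟩
    have hrji : rj ≠ i := by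
      intro h
      have := congrArg Fin.val h
      simp only [rj] at this
      omega
    set u : S.G (m + 1) := (S.d (m + 1) rj w)⁻¹ * x rj with hu
    have huN : u ∈ T.N (m + 1) :=
      (T.N (m + 1)).mul_mem ((T.N (m + 1)).inv_mem (T.hd _ _ _ hwN)) (hx rj hrji)
    refine ⟨w * S.s (m + 1) rs u, (T.N (m + 2)).mul_mem hwN (T.hs _ _ _ huN), ?_⟩
    intro j hji hj
    have hjlt := j.isLt
    rw [map_mul]
    by_cases hjr : j.val = m + 2 - t
    · -- j = r
      have hjr' : j = rj := Fin.ext hjr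
      rw [hjr', S.ds_eq (m + 1) rj rs u (Or.inr (by simp only [rj, rs]; omega)), hu,
        mul_inv_cancel_left]
    · rcases hj with hj | hj
      · -- j < i
        let j' : Fin (m + 2) := ⟨j.val, by omega⟩
        let r' : Fin (m + 1) := ⟨m + 2 - t - 2, by omega⟩
        have hwj : S.d (m + 1) j w = x j := hw j hji (Or.inl hj)
        have h1 : S.d (m + 1) j (S.s (m + 1) rs u) = S.s m r' (S.d m j' u) :=
          S.ds_lt m j rs j' r' u (by simp only [rs]; omega) rfl (by simp only [r', rs]; omega)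
        have h2 : S.d m j' (S.d (m + 1) rj w) = S.d m rs (S.d (m + 1) j w) :=
          S.dd m j' rj j rs w (by simp only [j', rj]; omega) rfl (by simp only [rs, rj]; omega)
        have h3 : S.d m rs (x j) = S.d m j' (x rj) :=
          hc j rj hji hrji (by simp only [rj]; omega) rs j' (by simp only [rs, rj]; omega) rfl
        have h4 : S.d m j' u = 1 := by
          rw [hu, map_mul, map_inv, h2, hwj, h3, inv_mul_cancel]
        rw [h1, h4, map_one, mul_one, hwj]
      · -- j > r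
        have hjgt : m + 2 - t < j.val := by omega
        let j' : Fin (m + 2) := ⟨j.val - 1, by omega⟩
        let r' : Fin (m + 1) := ⟨m + 2 - t - 1, by omega⟩
        let a : Fin (m + 2) := ⟨m + 2 - t, by omega⟩
        have hwj : S.d (m + 1) j w = x j := hw j hji (Or.inr (by omega))
        have h1 : S.d (m + 1) j (S.s (m + 1) rs u) = S.s m r' (S.d m j' u) :=
          S.ds_gt m j rs j' r' u (by simp only [rs]; omega) (by simp only [j']; omega) rfl
        have h2 : S.d m a (S.d (m + 1) j w) = S.d m j' (S.d (m + 1) rj w) :=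
          S.dd m a j rj j' w (by simp only [a]; omega) rfl (by simp only [j']; omega)
        have h3 : S.d m j' (x rj) = S.d m a (x j) :=
          hc rj j hrji hji (by simp only [rj]; omega) j' a (by simp only [j']; omega) rfl
        have h4 : S.d m j' u = 1 := by
          rw [hu, map_mul, map_inv, ← h2, hwj, h3, inv_mul_cancel]
        rw [h1, h4, map_one, mul_one, hwj]

theorem fill_succ (T : S.Sub) (m : ℕ) (i : Fin (m + 3)) (x : Fin (m + 3) → S.G (m + 1))
    (hx : ∀ j, j ≠ i → x j ∈ T.N (m + 1)) (hc : Compat S m i x) :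
    ∃ y : S.G (m + 2), y ∈ T.N (m + 2) ∧ ∀ j, j ≠ i → S.d (m + 1) j y = x j := by
  obtain ⟨w, hwN, hw⟩ := phaseB S T m i x hx hc (m + 2 - i.val) le_rfl
  refine ⟨w, hwN, fun j hji => hw j hji ?_⟩
  have hi := i.isLt
  have hne : j.val ≠ i.val := fun h => hji (Fin.ext h)
  omega

theorem fill_zero (T : S.Sub) (i : Fin 2) (x : Fin 2 → S.G 0)
    (hx : ∀ j, j ≠ i → x j ∈ T.N 0) :
    ∃ y : S.G 1, y ∈ T.N 1 ∧ ∀ j, j ≠ i → S.d 0 j y = x j := by
  -- the other index
  obtain ⟨j₀, hj₀, huniq⟩ : ∃ j₀ : Fin 2, j₀ ≠ i ∧ ∀ j, j ≠ i → j = j₀ := by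
    fin_cases i
    · exact ⟨1, by decide, fun j hj => by fin_cases j <;> simp_all⟩
    · exact ⟨0, by decide, fun j hj => by fin_cases j <;> simp_all⟩
  refine ⟨S.s 0 0 (x j₀), T.hs 0 0 _ (hx j₀ hj₀), ?_⟩
  intro j hj
  rw [huniq j hj]
  apply S.ds_eq
  have := j₀.isLt
  simp only [Fin.val_zero]
  omega


variable {S} in
/-- morphisms of element-level simplicial groups. -/
structure SGrp.Hom (S S' : SGrp.{u}) where
  f : ∀ n, S.G n →* S'.G n
  hd : ∀ n j z, f n (S.d n j z) = S'.d n j (f (n + 1) z)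
  hs : ∀ n j z, f (n + 1) (S.s n j z) = S'.s n j (f n z)

variable {S} {S' : SGrp.{u}}

/-- the kernel of a morphism. -/
def SGrp.Hom.ker (φ : S.Hom S') : S.Sub where
  N n := (φ.f n).ker
  hd n j z hz := by
    rw [MonoidHom.mem_ker] at hz ⊢
    rw [φ.hd, hz, map_one]
  hs n j z hz := by
    rw [MonoidHom.mem_ker] at hz ⊢
    rw [φ.hs, hz, map_one]

variable (S) in
/-- the full family. -/
def SGrp.Sub.top : S.Sub where
  N _ := ⊤
  hd _ _ _ _ := Subgroup.mem_top _
  hs _ _ _ _ := Subgroup.mem_top _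

theorem rel_fill_zero (φ : S.Hom S') (hsurj : ∀ n, Function.Surjective (φ.f n)) (i : Fin 2)
    (x : Fin 2 → S.G 0) (b : S'.G 1) (hb : ∀ j, j ≠ i → φ.f 0 (x j) = S'.d 0 j b) :
    ∃ y : S.G 1, (∀ j, j ≠ i → S.d 0 j y = x j) ∧ φ.f 1 y = b := by
  obtain ⟨y₀, hy₀⟩ := hsurj 1 b
  obtain ⟨y', hy'N, hy'⟩ := fill_zero S φ.ker i (fun j => (S.d 0 j y₀)⁻¹ * x j) (by
    intro j hj
    show _ ∈ (φ.f 0).ker
    rw [MonoidHom.mem_ker, map_mul, map_inv, φ.hd, hy₀, hb j hj, inv_mul_cancel])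
  refine ⟨y₀ * y', ?_, ?_⟩
  · intro j hj
    rw [map_mul, hy' j hj, mul_inv_cancel_left]
  · have : φ.f 1 y' = 1 := MonoidHom.mem_ker.1 hy'N
    rw [map_mul, this, mul_one, hy₀]

theorem rel_fill_succ (φ : S.Hom S') (hsurj : ∀ n, Function.Surjective (φ.f n)) (m : ℕ)
    (i : Fin (m + 3)) (x : Fin (m + 3) → S.G (m + 1)) (hc : Compat S m i x) (b : S'.G (m + 2))
    (hb : ∀ j, j ≠ i → φ.f (m + 1) (x j) = S'.d (m + 1) j b) :
    ∃ y : S.G (m + 2), (∀ j, j ≠ i → S.d (m + 1) j y = x j) ∧ φ.f (m + 2) y = b := by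
  obtain ⟨y₀, hy₀⟩ := hsurj (m + 2) b
  obtain ⟨y', hy'N, hy'⟩ := fill_succ S φ.ker m i (fun j => (S.d (m + 1) j y₀)⁻¹ * x j) (by
    intro j hj
    show _ ∈ (φ.f (m + 1)).ker
    rw [MonoidHom.mem_ker, map_mul, map_inv, φ.hd, hy₀, hb j hj, inv_mul_cancel]) (by
    intro j k hj hk hjk k' j' hk' hj'
    simp only [map_mul, map_inv]
    rw [hc j k hj hk hjk k' j' hk' hj',
      S.dd m j' k j k' y₀ (by omega) (by omega) hk'])
  refine ⟨y₀ * y', ?_, ?_⟩
  · intro j hj
    rw [map_mul, hy' j hj, mul_inv_cancel_left]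
  · have : φ.f (m + 2) y' = 1 := MonoidHom.mem_ker.1 hy'N
    rw [map_mul, this, mul_one, hy₀]


section Generic

variable {C : Type*} [Category C] (X : SimplicialObject C)

theorem gen_dd (n : ℕ) (a : Fin (n + 2)) (b : Fin (n + 3)) (a' : Fin (n + 3)) (b' : Fin (n + 2))
    (h1 : a.val < b.val) (h2 : a'.val = a.val) (h3 : b'.val + 1 = b.val) :
    X.δ b ≫ X.δ a = X.δ a' ≫ X.δ b' := by
  have hb : b = b'.succ := Fin.ext (by simp; omega)
  have ha : a' = Fin.castSucc a := Fin.ext (by simp; omega)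
  rw [hb, ha]
  exact X.δ_comp_δ (Fin.le_def.2 (by omega))

theorem gen_ds_lt (n : ℕ) (j : Fin (n + 3)) (r : Fin (n + 2)) (j' : Fin (n + 2)) (r' : Fin (n + 1))
    (h1 : j.val < r.val) (h2 : j'.val = j.val) (h3 : r'.val + 1 = r.val) :
    X.σ r ≫ X.δ j = X.δ j' ≫ X.σ r' := by
  have hr : r = r'.succ := Fin.ext (by simp; omega)
  have hj : j = Fin.castSucc j' := Fin.ext (by simp; omega)
  rw [hr, hj]
  exact X.δ_comp_σ_of_le (Fin.le_def.2 (by simp; omega))

theorem gen_ds_eq (n : ℕ) (j : Fin (n + 2)) (r : Fin (n + 1))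
    (h : j.val = r.val ∨ j.val = r.val + 1) : X.σ r ≫ X.δ j = 𝟙 _ := by
  rcases h with h | h
  · have hj : j = Fin.castSucc r := Fin.ext (by simp; omega)
    rw [hj]
    exact X.δ_comp_σ_self
  · have hj : j = r.succ := Fin.ext (by simp; omega)
    rw [hj]
    exact X.δ_comp_σ_succ

theorem gen_ds_gt (n : ℕ) (j : Fin (n + 3)) (r : Fin (n + 2)) (j' : Fin (n + 2)) (r' : Fin (n + 1))
    (h1 : r.val + 1 < j.val) (h2 : j'.val + 1 = j.val) (h3 : r'.val = r.val) :
    X.σ r ≫ X.δ j = X.δ j' ≫ X.σ r' := by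
  have hr : r = Fin.castSucc r' := Fin.ext (by simp; omega)
  have hj : j = j'.succ := Fin.ext (by simp; omega)
  rw [hr, hj]
  exact X.δ_comp_σ_of_gt (Fin.lt_def.2 (by simp; omega))

end Generic

/-- the element-level data of a simplicial group. -/
noncomputable def ofGrp (X : SimplicialObject GrpCat.{u}) : SGrp.{u} where
  G n := X _⦋n⦌
  d n j := (X.δ j).hom
  s n j := (X.σ j).hom
  dd n a b a' b' z h1 h2 h3 := by
    have := gen_dd X n a b a' b' h1 h2 h3
    exact congrArg (fun f => f.hom z) this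
  ds_lt n j r j' r' u h1 h2 h3 := by
    have := gen_ds_lt X n j r j' r' h1 h2 h3
    exact congrArg (fun f => f.hom u) this
  ds_eq n j r u h := by
    have := gen_ds_eq X n j r h
    exact congrArg (fun f => f.hom u) this
  ds_gt n j r j' r' u h1 h2 h3 := by
    have := gen_ds_gt X n j r j' r' h1 h2 h3
    exact congrArg (fun f => f.hom u) this


theorem yoneda_δ {Z : SSet.{u}} {n : ℕ} (a : Fin (n + 2)) (g : Δ[n + 1] ⟶ Z) :
    yonedaEquiv (stdSimplex.δ a ≫ g) = Z.δ a (yonedaEquiv g) :=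
  (yonedaEquiv_naturality (SimplexCategory.δ a) g).symm

theorem δ_yoneda_symm {Z : SSet.{u}} {n : ℕ} (a : Fin (n + 2)) (y : Z _⦋n + 1⦌) :
    stdSimplex.δ a ≫ yonedaEquiv.symm y = yonedaEquiv.symm (Z.δ a y) :=
  yonedaEquiv_symm_naturality_left (SimplexCategory.δ a) y

open modelCategoryQuillen in
theorem rlp_of_elem {Z W : SSet.{u}} (p : Z ⟶ W)
    (h : ∀ (n : ℕ) (i : Fin (n + 2)) (f : ∀ (j : Fin (n + 2)) (_ : j ≠ i), Δ[n] ⟶ Z),
      horn.IsCompatible f → ∀ b : Δ[n + 1] ⟶ W,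
      (∀ j hj, f j hj ≫ p = stdSimplex.δ j ≫ b) →
      ∃ φ : Δ[n + 1] ⟶ Z, (∀ j hj, stdSimplex.δ j ≫ φ = f j hj) ∧ φ ≫ p = b) :
    J.rlp p := by
  intro _ _ _ hf
  simp only [J, MorphismProperty.iSup_iff] at hf
  obtain ⟨n, ⟨i⟩⟩ := hf
  refine ⟨fun {t b} sq ↦ ?_⟩
  obtain ⟨φ, hφ, hφb⟩ := h n i _ (horn.IsCompatible.of_hom t) b (by
    intro j hj
    rw [Category.assoc, sq.w, ← Category.assoc, horn.ι_ι])
  exact ⟨⟨{ l := φ, fac_left := horn.hom_ext' (by simpa using hφ), fac_right := hφb }⟩⟩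


/-- the elementwise criterion for a Kan fibration. -/
theorem rlp_of_elem' {Z W : SSet.{u}} (p : Z ⟶ W)
    (h0 : ∀ (i : Fin 2) (x : Fin 2 → Z _⦋0⦌) (b : W _⦋1⦌),
      (∀ j, j ≠ i → p.app _ (x j) = W.δ j b) →
      ∃ y : Z _⦋1⦌, (∀ j, j ≠ i → Z.δ j y = x j) ∧ p.app _ y = b)
    (hs : ∀ (m : ℕ) (i : Fin (m + 3)) (x : Fin (m + 3) → Z _⦋m + 1⦌) (b : W _⦋m + 2⦌),
      (∀ j k : Fin (m + 3), j ≠ i → k ≠ i → ∀ hjk : j < k,
        Z.δ (k.pred (Fin.ne_zero_of_lt hjk)) (x j) =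
          Z.δ (j.castPred (Fin.ne_last_of_lt hjk)) (x k)) →
      (∀ j, j ≠ i → p.app _ (x j) = W.δ j b) →
      ∃ y : Z _⦋m + 2⦌, (∀ j, j ≠ i → Z.δ j y = x j) ∧ p.app _ y = b) :
    modelCategoryQuillen.J.rlp p := by
  classical
  apply rlp_of_elem
  intro n i f hf b hb
  obtain ⟨j₀, hj₀⟩ := exists_ne i
  have hne : Nonempty (Z _⦋n⦌) := ⟨yonedaEquiv (f j₀ hj₀)⟩
  let x : Fin (n + 2) → Z _⦋n⦌ := fun j =>
    if h : j ≠ i then yonedaEquiv (f j h) else Classical.arbitrary _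
  have hx : ∀ j (hj : j ≠ i), x j = yonedaEquiv (f j hj) := fun j hj => dif_pos hj
  have hb' : ∀ j, j ≠ i → p.app _ (x j) = W.δ j (yonedaEquiv b) := by
    intro j hj
    rw [hx j hj, ← yoneda_δ, ← hb j hj]
    rfl
  have key : ∃ y : Z _⦋n + 1⦌, (∀ j, j ≠ i → Z.δ j y = x j) ∧ p.app _ y = yonedaEquiv b := by
    cases n with
    | zero => exact h0 i x (yonedaEquiv b) hb'
    | succ m =>
      apply hs m i x (yonedaEquiv b) _ hb'
      intro j k hj hk hjk
      rw [hx j hj, hx k hk, ← yoneda_δ, ← yoneda_δ]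
      exact congrArg _ (hf j k hj hk hjk)
  obtain ⟨y, hy, hyb⟩ := key
  refine ⟨yonedaEquiv.symm y, ?_, ?_⟩
  · intro j hj
    rw [δ_yoneda_symm, hy j hj, hx j hj, Equiv.symm_apply_apply]
  · apply yonedaEquiv.injective
    rw [← hyb]
    show p.app _ (yonedaEquiv (yonedaEquiv.symm y)) = _
    rw [Equiv.apply_symm_apply]

/-- the elementwise criterion for a Kan complex. -/
theorem kan_of_elem {Z : SSet.{u}}
    (h0 : ∀ (i : Fin 2) (x : Fin 2 → Z _⦋0⦌), ∃ y : Z _⦋1⦌, ∀ j, j ≠ i → Z.δ j y = x j)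
    (hs : ∀ (m : ℕ) (i : Fin (m + 3)) (x : Fin (m + 3) → Z _⦋m + 1⦌),
      (∀ j k : Fin (m + 3), j ≠ i → k ≠ i → ∀ hjk : j < k,
        Z.δ (k.pred (Fin.ne_zero_of_lt hjk)) (x j) =
          Z.δ (j.castPred (Fin.ne_last_of_lt hjk)) (x k)) →
      ∃ y : Z _⦋m + 2⦌, ∀ j, j ≠ i → Z.δ j y = x j) :
    KanComplex Z := by
  classical
  rw [KanComplex.iff]
  intro n i f hf
  obtain ⟨j₀, hj₀⟩ := exists_ne i
  have hne : Nonempty (Z _⦋n⦌) := ⟨yonedaEquiv (f j₀ hj₀)⟩
  let x : Fin (n + 2) → Z _⦋n⦌ := fun j =>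
    if h : j ≠ i then yonedaEquiv (f j h) else Classical.arbitrary _
  have hx : ∀ j (hj : j ≠ i), x j = yonedaEquiv (f j hj) := fun j hj => dif_pos hj
  have key : ∃ y : Z _⦋n + 1⦌, ∀ j, j ≠ i → Z.δ j y = x j := by
    cases n with
    | zero => exact h0 i x
    | succ m =>
      apply hs m i x
      intro j k hj hk hjk
      rw [hx j hj, hx k hk, ← yoneda_δ, ← yoneda_δ]
      exact congrArg _ (hf j k hj hk hjk)
  obtain ⟨y, hy⟩ := key
  refine ⟨yonedaEquiv.symm y, ?_⟩
  intro j hj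
  rw [δ_yoneda_symm, hy j hj, hx j hj, Equiv.symm_apply_apply]


/-- the element-level data of a simplicial abelian group (written multiplicatively). -/
noncomputable def ofAddCommGrp (X : SimplicialObject AddCommGrpCat.{u}) : SGrp.{u} where
  G n := Multiplicative (X _⦋n⦌)
  d n j := AddMonoidHom.toMultiplicative (X.δ j).hom
  s n j := AddMonoidHom.toMultiplicative (X.σ j).hom
  dd n a b a' b' z h1 h2 h3 := by
    have := gen_dd X n a b a' b' h1 h2 h3
    exact congrArg (fun f => Multiplicative.ofAdd (f.hom (Multiplicative.toAdd z))) this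
  ds_lt n j r j' r' u h1 h2 h3 := by
    have := gen_ds_lt X n j r j' r' h1 h2 h3
    exact congrArg (fun f => Multiplicative.ofAdd (f.hom (Multiplicative.toAdd u))) this
  ds_eq n j r u h := by
    have := gen_ds_eq X n j r h
    exact congrArg (fun f => Multiplicative.ofAdd (f.hom (Multiplicative.toAdd u))) this
  ds_gt n j r j' r' u h1 h2 h3 := by
    have := gen_ds_gt X n j r j' r' h1 h2 h3
    exact congrArg (fun f => Multiplicative.ofAdd (f.hom (Multiplicative.toAdd u))) this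

/-- the morphism of element-level data induced by a morphism of simplicial abelian groups. -/
noncomputable def homOfAddCommGrp {X Y : SimplicialObject AddCommGrpCat.{u}} (f : X ⟶ Y) :
    (ofAddCommGrp X).Hom (ofAddCommGrp Y) where
  f n := (AddMonoidHom.toMultiplicative (f.app (op ⦋n⦌)).hom :
    Multiplicative (X _⦋n⦌) →* Multiplicative (Y _⦋n⦌))
  hd n j z := by
    have := f.naturality (SimplexCategory.δ j).op
    exact congrArg (fun g => Multiplicative.ofAdd (g.hom (Multiplicative.toAdd z))) this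
  hs n j z := by
    have := f.naturality (SimplexCategory.σ j).op
    exact congrArg (fun g => Multiplicative.ofAdd (g.hom (Multiplicative.toAdd z))) this

theorem compat_of {S : SGrp.{u}} (m : ℕ) (i : Fin (m + 3)) (x : Fin (m + 3) → S.G (m + 1))
    (h : ∀ j k : Fin (m + 3), j ≠ i → k ≠ i → ∀ hjk : j < k,
      S.d m (k.pred (Fin.ne_zero_of_lt hjk)) (x j) =
        S.d m (j.castPred (Fin.ne_last_of_lt hjk)) (x k)) : Compat S m i x := by
  intro j k hj hk hjk k' j' hk' hj'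
  have hjk' : j < k := Fin.lt_def.2 hjk
  have e1 : k' = k.pred (Fin.ne_zero_of_lt hjk') := Fin.ext (by simp; omega)
  have e2 : j' = j.castPred (Fin.ne_last_of_lt hjk') := Fin.ext (by simp; omega)
  rw [e1, e2]
  exact h j k hj hk hjk'

theorem kan_grp (X : SimplicialObject GrpCat.{u}) : SSet.KanComplex (X ⋙ forget GrpCat.{u}) := by
  apply kan_of_elem
  · intro i x
    obtain ⟨y, -, hy⟩ := fill_zero (ofGrp X) (SGrp.Sub.top _) i x (fun _ _ => Subgroup.mem_top _)
    exact ⟨y, hy⟩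
  · intro m i x hc
    obtain ⟨y, -, hy⟩ := fill_succ (ofGrp X) (SGrp.Sub.top _) m i x (fun _ _ => Subgroup.mem_top _)
      (compat_of (S := ofGrp X) m i x hc)
    exact ⟨y, hy⟩

theorem fib_addCommGrp {X Y : SimplicialObject AddCommGrpCat.{u}} (f : X ⟶ Y)
    (hf : ∀ n : SimplexCategoryᵒᵖ, Function.Surjective (f.app n)) :
    SSet.modelCategoryQuillen.J.rlp (X := X ⋙ forget AddCommGrpCat.{u})
      (Y := Y ⋙ forget AddCommGrpCat.{u}) (Functor.whiskerRight f (forget AddCommGrpCat.{u})) := by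
  have hsurj : ∀ n, Function.Surjective ((homOfAddCommGrp f).f n) := by
    intro n b
    obtain ⟨a, ha⟩ := hf (op ⦋n⦌) b
    exact ⟨a, ha⟩
  apply rlp_of_elem'
  · intro i x b hb
    have hb' : ∀ j, j ≠ i → (homOfAddCommGrp f).f 0 (x j) = (ofAddCommGrp Y).d 0 j b := hb
    obtain ⟨y, hy, hyb⟩ := rel_fill_zero (homOfAddCommGrp f) hsurj i x b hb'
    exact ⟨y, hy, hyb⟩
  · intro m i x b hc hb
    have hb' : ∀ j, j ≠ i →
        (homOfAddCommGrp f).f (m + 1) (x j) = (ofAddCommGrp Y).d (m + 1) j b := hb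
    have hc' : ∀ j k : Fin (m + 3), j ≠ i → k ≠ i → ∀ hjk : j < k,
      (ofAddCommGrp X).d m (k.pred (Fin.ne_zero_of_lt hjk)) (x j) =
        (ofAddCommGrp X).d m (j.castPred (Fin.ne_last_of_lt hjk)) (x k) := hc
    obtain ⟨y, hy, hyb⟩ := rel_fill_succ (homOfAddCommGrp f) hsurj m i x
      (compat_of (S := ofAddCommGrp X) m i x hc') b hb'
    exact ⟨y, hy, hyb⟩


end Groth.Agent.Lib.Helper24Moore
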