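import Mathlib
import Groth.Agent.Lib.Helper24Moore

/-!
# Surjective quasi-isomorphisms of simplicial abelian groups are trivial Kan fibrations

`acyclic_kernel`: the kernel of an epi quasi-isomorphism of complexes is acyclic (long exact
sequence).  `exists_preimage_of_cycle`: its elementwise form for complexes of abelian groups.
`normalize`: replacing a bounding chain by its `PInfty`-projection (all higher faces vanish).
`rlpI_of_elem`: elementwise criterion for the right lifting property against boundary inclusions.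
-/

namespace Groth.Agent.Lib.Helper24Acyc

open CategoryTheory Limits Opposite HomologicalComplex Simplicial SSet
open Groth.Agent.Lib.Helper24Moore

universe u

section Abelian

variable {C : Type*} [Category C] [Abelian C] {ι : Type*} {c : ComplexShape ι}

theorem kernel_shortExact {K L : HomologicalComplex C c} (φ : K ⟶ L) [Epi φ] :
    (ShortComplex.kernelSequence φ).ShortExact where
  exact := ShortComplex.kernelSequence_exact φ
  epi_g := by
    show Epi φ
    infer_instance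

theorem acyclic_kernel {K L : HomologicalComplex C c} (φ : K ⟶ L) [Epi φ] [QuasiIso φ]
    (i j : ι) (hj : c.Rel j i) : (kernel φ).ExactAt i := by
  have hS := kernel_shortExact φ
  have h3 := hS.comp_δ j i hj
  have hδ : hS.δ j i hj = 0 := by
    have : Epi (HomologicalComplex.homologyMap (ShortComplex.kernelSequence φ).g j) := by
      show Epi (HomologicalComplex.homologyMap φ j)
      infer_instance
    rw [← cancel_epi (HomologicalComplex.homologyMap (ShortComplex.kernelSequence φ).g j), h3,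
      comp_zero]
  have h1 := hS.homology_exact₁ j i hj
  have hmono : Mono (HomologicalComplex.homologyMap (ShortComplex.kernelSequence φ).f i) :=
    (ShortComplex.exact_iff_mono _ hδ).1 h1
  have hzero : HomologicalComplex.homologyMap (ShortComplex.kernelSequence φ).f i = 0 := by
    have : Mono (HomologicalComplex.homologyMap (ShortComplex.kernelSequence φ).g i) := by
      show Mono (HomologicalComplex.homologyMap φ i)
      infer_instance
    rw [← cancel_mono (HomologicalComplex.homologyMap (ShortComplex.kernelSequence φ).g i)]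
    rw [zero_comp, ← HomologicalComplex.homologyMap_comp, (ShortComplex.kernelSequence φ).zero,
      HomologicalComplex.homologyMap_zero]
  rw [exactAt_iff_isZero_homology]
  exact @IsZero.of_mono_eq_zero _ _ _ _ _ (homologyMap (ShortComplex.kernelSequence φ).f i) hmono hzero

end Abelian

section AbGrp

variable {K L : ChainComplex AddCommGrpCat.{u} ℕ} (φ : K ⟶ L)

theorem hom_comm_apply {K L : ChainComplex AddCommGrpCat.{u} ℕ} (g : K ⟶ L) (i j : ℕ) (x : K.X i) :
    g.f j (K.d i j x) = L.d i j (g.f i x) := by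
  rw [← ConcreteCategory.comp_apply, ← ConcreteCategory.comp_apply, g.comm]

theorem exists_preimage_of_cycle (hsurj : ∀ n, Function.Surjective (φ.f n)) [QuasiIso φ] (n : ℕ)
    (z : K.X n) (hz : φ.f n z = 0) (hd : ∀ m, K.d n m z = 0) :
    ∃ a : K.X (n + 1), φ.f (n + 1) a = 0 ∧ K.d (n + 1) n a = z := by
  have : Epi φ := epi_of_epi_f φ (fun i => (AddCommGrpCat.epi_iff_surjective _).2 (hsurj i))
  have hS := kernel_shortExact φ
  have hA := acyclic_kernel φ n (n + 1) (by simp)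
  have hSi : ∀ i, ((ShortComplex.kernelSequence φ).map (eval _ _ i)).ShortExact :=
    fun i => hS.map_of_exact _
  have hex : ∀ i (x : K.X i), φ.f i x = 0 → ∃ y : (kernel φ).X i, (kernel.ι φ).f i y = x :=
    fun i => (ShortComplex.ab_exact_iff _).1 (hSi i).exact
  have hinj : ∀ i, Function.Injective ((kernel.ι φ).f i) := fun i => (hSi i).ab_injective_f
  obtain ⟨az, haz⟩ := hex n z hz
  rw [exactAt_iff' _ (n + 1) n ((ComplexShape.down ℕ).next n) (by simp) rfl] at hA
  have hA' : ∀ x : (kernel φ).X n, ((kernel φ).d n ((ComplexShape.down ℕ).next n)) x = 0 →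
      ∃ y : (kernel φ).X (n + 1), ((kernel φ).d (n + 1) n) y = x :=
    (ShortComplex.ab_exact_iff _).1 hA
  obtain ⟨a', ha'⟩ := hA' az (by
    apply hinj
    rw [hom_comm_apply, haz, hd, map_zero])
  refine ⟨(kernel.ι φ).f (n + 1) a', ?_, ?_⟩
  · rw [← ConcreteCategory.comp_apply, ← HomologicalComplex.comp_f, kernel.condition φ]
    rfl
  · rw [← hom_comm_apply, ha', haz]

end AbGrp

theorem boundary_compat {Z : SSet.{u}} {m : ℕ} (t : (∂Δ[m + 2] : SSet.{u}) ⟶ Z)
    (j k : Fin (m + 3)) (hjk : j < k) :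
    stdSimplex.δ (k.pred (Fin.ne_zero_of_lt hjk)) ≫ boundary.ι j ≫ t =
      stdSimplex.δ (j.castPred (Fin.ne_last_of_lt hjk)) ≫ boundary.ι k ≫ t := by
  simp only [← Category.assoc]
  congr 1
  obtain ⟨j, rfl⟩ := j.eq_castSucc_of_ne_last (Fin.ne_last_of_lt hjk)
  obtain ⟨k, rfl⟩ := k.eq_succ_of_ne_zero (Fin.ne_zero_of_lt hjk)
  rw [← cancel_mono (Subcomplex.ι _), Category.assoc, Category.assoc, boundary.ι_ι, boundary.ι_ι,
    Fin.pred_succ, Fin.castPred_castSucc, stdSimplex.δ_comp_δ (by grind)]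

open modelCategoryQuillen in
theorem rlpI_of_elem {Z W : SSet.{u}} (p : Z ⟶ W)
    (h0 : ∀ b : W _⦋0⦌, ∃ y : Z _⦋0⦌, p.app _ y = b)
    (h1 : ∀ (x : Fin 2 → Z _⦋0⦌) (b : W _⦋1⦌), (∀ j, p.app _ (x j) = W.δ j b) →
      ∃ y : Z _⦋1⦌, (∀ j, Z.δ j y = x j) ∧ p.app _ y = b)
    (hs : ∀ (m : ℕ) (x : Fin (m + 3) → Z _⦋m + 1⦌) (b : W _⦋m + 2⦌),
      (∀ j k : Fin (m + 3), ∀ hjk : j < k,
        Z.δ (k.pred (Fin.ne_zero_of_lt hjk)) (x j) =
          Z.δ (j.castPred (Fin.ne_last_of_lt hjk)) (x k)) →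
      (∀ j, p.app _ (x j) = W.δ j b) →
      ∃ y : Z _⦋m + 2⦌, (∀ j, Z.δ j y = x j) ∧ p.app _ y = b) :
    I.rlp p := by
  intro _ _ _ hf
  dsimp only [I] at hf
  obtain ⟨n⟩ := hf
  refine ⟨fun {t b} sq ↦ ?_⟩
  cases n with
  | zero =>
    obtain ⟨y, hy⟩ := h0 (SSet.yonedaEquiv b)
    refine ⟨⟨{ l := SSet.yonedaEquiv.symm y, fac_left := boundary.hom_ext₀, fac_right := ?_ }⟩⟩
    apply SSet.yonedaEquiv.injective
    rw [← hy]
    show p.app _ (SSet.yonedaEquiv (SSet.yonedaEquiv.symm y)) = _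
    rw [Equiv.apply_symm_apply]
  | succ n =>
    let x : Fin (n + 2) → Z _⦋n⦌ := fun j => SSet.yonedaEquiv (boundary.ι j ≫ t)
    have hb' : ∀ j, p.app _ (x j) = W.δ j (SSet.yonedaEquiv b) := by
      intro j
      rw [← yoneda_δ, ← boundary.ι_ι, Category.assoc, ← sq.w, ← Category.assoc]
      rfl
    have key : ∃ y : Z _⦋n + 1⦌, (∀ j, Z.δ j y = x j) ∧ p.app _ y = SSet.yonedaEquiv b := by
      cases n with
      | zero => exact h1 x (SSet.yonedaEquiv b) hb'
      | succ m =>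
        apply hs m x (SSet.yonedaEquiv b) _ hb'
        intro j k hjk
        show Z.δ _ (SSet.yonedaEquiv _) = Z.δ _ (SSet.yonedaEquiv _)
        rw [← yoneda_δ, ← yoneda_δ]
        exact congrArg _ (boundary_compat t j k hjk)
    obtain ⟨y, hy, hyb⟩ := key
    refine ⟨⟨{ l := SSet.yonedaEquiv.symm y, fac_left := ?_, fac_right := ?_ }⟩⟩
    · apply boundary.hom_ext
      intro j
      rw [← Category.assoc, boundary.ι_ι, δ_yoneda_symm, hy j]
      show SSet.yonedaEquiv.symm (SSet.yonedaEquiv _) = _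
      rw [Equiv.symm_apply_apply]
    · apply SSet.yonedaEquiv.injective
      rw [← hyb]
      show p.app _ (SSet.yonedaEquiv (SSet.yonedaEquiv.symm y)) = _
      rw [Equiv.apply_symm_apply]

section Simplicial

open AlgebraicTopology AlgebraicTopology.DoldKan Simplicial DoldKan

variable {X Y : SimplicialObject AddCommGrpCat.{u}} (f : X ⟶ Y)

theorem sum_apply {A B : AddCommGrpCat.{u}} {ι : Type*} (s : Finset ι) (g : ι → (A ⟶ B)) (w : A) :
    (∑ i ∈ s, g i) w = ∑ i ∈ s, (g i) w := by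
  classical
  induction s using Finset.induction_on with
  | empty => rfl
  | insert a s ha ih =>
    rw [Finset.sum_insert ha, Finset.sum_insert ha, ← ih]
    rfl

theorem d_apply (n : ℕ) (w : X _⦋n + 1⦌) :
    (K[X].d (n + 1) n) w = ∑ i : Fin (n + 2), ((-1 : ℤ) ^ (i : ℕ)) • (X.δ i) w := by
  have h := AlternatingFaceMapComplex.obj_d_eq X n
  have : K[X].d (n + 1) n = ∑ i : Fin (n + 2), ((-1 : ℤ) ^ (i : ℕ)) • X.δ i := h
  rw [this, sum_apply]
  rfl

theorem normalize (hf : ∀ n : SimplexCategoryᵒᵖ, Function.Surjective (f.app n))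
    [QuasiIso ((alternatingFaceMapComplex AddCommGrpCat.{u}).map f)] (n : ℕ) (z : X _⦋n⦌)
    (hz : f.app (op ⦋n⦌) z = 0) (hd : ∀ m, (K[X].d n m) z = 0)
    (hP : (PInfty.f n : X _⦋n⦌ ⟶ X _⦋n⦌) z = z) :
    ∃ w : X _⦋n + 1⦌, f.app (op ⦋n + 1⦌) w = 0 ∧ X.δ 0 w = z ∧
      ∀ j : Fin (n + 1), X.δ j.succ w = 0 := by
  obtain ⟨a, ha0, haz⟩ := exists_preimage_of_cycle ((alternatingFaceMapComplex _).map f)
    (fun n => hf (op ⦋n⦌)) n z hz hd
  have ha0' : f.app (op ⦋n + 1⦌) a = 0 := ha0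
  have haz' : (K[X].d (n + 1) n) a = z := haz
  let w : X _⦋n + 1⦌ := (PInfty.f (n + 1) : X _⦋n + 1⦌ ⟶ X _⦋n + 1⦌) a
  have hw0 : f.app (op ⦋n + 1⦌) w = 0 := by
    have := PInfty_f_naturality (n + 1) f
    have h2 := ConcreteCategory.congr_hom this a
    rw [ConcreteCategory.comp_apply, ConcreteCategory.comp_apply] at h2
    rw [← h2, ha0', map_zero]
  have hwj : ∀ j : Fin (n + 1), X.δ j.succ w = 0 := by
    intro j
    have := (HigherFacesVanish.of_P (X := X) (n + 1) n) j (by omega)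
    rw [← PInfty_f] at this
    have h2 := ConcreteCategory.congr_hom this a
    rw [ConcreteCategory.comp_apply] at h2
    exact h2
  have hdw : (K[X].d (n + 1) n) w = z := by
    have := hom_comm_apply (PInfty : K[X] ⟶ K[X]) (n + 1) n a
    rw [← this, haz', hP]
  refine ⟨w, hw0, ?_, hwj⟩
  rw [d_apply, Fin.sum_univ_succ] at hdw
  simp only [hwj, smul_zero, Finset.sum_const_zero, add_zero, Fin.val_zero, pow_zero, one_smul]
    at hdw
  exact hdw

theorem δ_app (n : ℕ) (j : Fin (n + 2)) (y : X _⦋n + 1⦌) :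
    f.app (op ⦋n⦌) (X.δ j y) = Y.δ j (f.app (op ⦋n + 1⦌) y) := by
  have := f.naturality (SimplexCategory.δ j).op
  exact ConcreteCategory.congr_hom this y

theorem fill1 (hf : ∀ n : SimplexCategoryᵒᵖ, Function.Surjective (f.app n))
    [QuasiIso ((alternatingFaceMapComplex AddCommGrpCat.{u}).map f)]
    (x : Fin 2 → X _⦋0⦌) (b : Y _⦋1⦌) (hb : ∀ j, f.app (op ⦋0⦌) (x j) = Y.δ j b) :
    ∃ y : X _⦋1⦌, (∀ j : Fin 2, X.δ j y = x j) ∧ f.app (op ⦋1⦌) y = b := by
  have hsurj : ∀ n, Function.Surjective ((homOfAddCommGrp f).f n) := by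
    intro n b
    obtain ⟨a, ha⟩ := hf (op ⦋n⦌) b
    exact ⟨a, ha⟩
  obtain ⟨y₁, hy₁, hy₁b⟩ : ∃ y₁ : X _⦋1⦌, (∀ j : Fin 2, j ≠ 0 → X.δ j y₁ = x j) ∧
      f.app (op ⦋1⦌) y₁ = b :=
    rel_fill_zero (homOfAddCommGrp f) hsurj (0 : Fin 2) x b (fun j _ => hb j)
  obtain ⟨w, hw0, hwz, hwj⟩ := normalize f hf 0 (x 0 - X.δ 0 y₁)
    (by rw [map_sub, δ_app, hy₁b, hb, sub_self])
    (by
      intro m
      rw [K[X].shape 0 m (by simp)]
      rfl)
    (by rw [PInfty_f_0]; rfl)
  refine ⟨y₁ + w, ?_, ?_⟩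
  · intro j
    rw [map_add]
    obtain rfl | ⟨k, rfl⟩ := j.eq_zero_or_eq_succ
    · rw [hwz]; abel
    · rw [hwj k, add_zero, hy₁ _ (Fin.succ_ne_zero k)]
  · rw [map_add, hw0, add_zero, hy₁b]

theorem PInfty_eq_self (m : ℕ) (z : X _⦋m + 1⦌) (hz : ∀ j : Fin (m + 1), X.δ j.succ z = 0) :
    (PInfty.f (m + 1) : X _⦋m + 1⦌ ⟶ X _⦋m + 1⦌) z = z := by
  let φ : AddCommGrpCat.of (AddSubgroup.zmultiples z) ⟶ X _⦋m + 1⦌ :=
    AddCommGrpCat.ofHom (AddSubgroup.zmultiples z).subtype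
  have v : HigherFacesVanish (m + 1) φ := by
    intro j _
    ext ⟨y, hy⟩
    obtain ⟨k, rfl⟩ := AddSubgroup.mem_zmultiples_iff.1 hy
    show X.δ j.succ (k • z) = 0
    rw [map_zsmul, hz, smul_zero]
  have h := HigherFacesVanish.comp_P_eq_self v
  rw [← PInfty_f] at h
  exact ConcreteCategory.congr_hom h ⟨z, AddSubgroup.mem_zmultiples z⟩

theorem fillS (hf : ∀ n : SimplexCategoryᵒᵖ, Function.Surjective (f.app n))
    [QuasiIso ((alternatingFaceMapComplex AddCommGrpCat.{u}).map f)] (m : ℕ)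
    (x : Fin (m + 3) → X _⦋m + 1⦌) (b : Y _⦋m + 2⦌)
    (hc : ∀ j k : Fin (m + 3), ∀ hjk : j < k,
      X.δ (k.pred (Fin.ne_zero_of_lt hjk)) (x j) = X.δ (j.castPred (Fin.ne_last_of_lt hjk)) (x k))
    (hb : ∀ j, f.app (op ⦋m + 1⦌) (x j) = Y.δ j b) :
    ∃ y : X _⦋m + 2⦌, (∀ j : Fin (m + 3), X.δ j y = x j) ∧ f.app (op ⦋m + 2⦌) y = b := by
  have hsurj : ∀ n, Function.Surjective ((homOfAddCommGrp f).f n) := by
    intro n b
    obtain ⟨a, ha⟩ := hf (op ⦋n⦌) b
    exact ⟨a, ha⟩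
  have hc' : ∀ j k : Fin (m + 3), j ≠ 0 → k ≠ 0 → ∀ hjk : j < k,
      (ofAddCommGrp X).d m (k.pred (Fin.ne_zero_of_lt hjk)) (x j) =
        (ofAddCommGrp X).d m (j.castPred (Fin.ne_last_of_lt hjk)) (x k) :=
    fun j k _ _ hjk => hc j k hjk
  obtain ⟨y₁, hy₁, hy₁b⟩ : ∃ y₁ : X _⦋m + 2⦌, (∀ j : Fin (m + 3), j ≠ 0 → X.δ j y₁ = x j) ∧
      f.app (op ⦋m + 2⦌) y₁ = b :=
    rel_fill_succ (homOfAddCommGrp f) hsurj m (0 : Fin (m + 3)) x
      (compat_of (S := ofAddCommGrp X) m 0 x hc') b (fun j _ => hb j)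
  have hfaces : ∀ i : Fin (m + 2), X.δ i (x 0 - X.δ 0 y₁) = 0 := by
    intro i
    have h1 := hc 0 i.succ (Fin.succ_pos i)
    simp only [Fin.pred_succ, Fin.castPred_zero] at h1
    have h2 : X.δ i (X.δ 0 y₁) = X.δ 0 (X.δ i.succ y₁) := by
      have := X.δ_comp_δ (i := 0) (j := i) (Fin.zero_le _)
      rw [Fin.castSucc_zero] at this
      exact (ConcreteCategory.congr_hom this y₁).symm
    rw [map_sub, h2, hy₁ _ (Fin.succ_ne_zero i), h1, sub_self]
  obtain ⟨w, hw0, hwz, hwj⟩ := normalize f hf (m + 1) (x 0 - X.δ 0 y₁)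
    (by rw [map_sub, δ_app, hy₁b, hb, sub_self])
    (by
      intro m'
      by_cases hm : m' = m
      · subst hm
        rw [d_apply]
        simp only [hfaces, smul_zero, Finset.sum_const_zero]
      · rw [K[X].shape (m + 1) m' (by simp; omega)]
        rfl)
    (PInfty_eq_self m _ (fun j => hfaces _))
  refine ⟨y₁ + w, ?_, ?_⟩
  · intro j
    rw [map_add]
    obtain rfl | ⟨k, rfl⟩ := j.eq_zero_or_eq_succ
    · rw [hwz]; abel
    · rw [hwj k, add_zero, hy₁ _ (Fin.succ_ne_zero k)]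
  · rw [map_add, hw0, add_zero, hy₁b]

theorem trivFib (hf : ∀ n : SimplexCategoryᵒᵖ, Function.Surjective (f.app n))
    (hq : QuasiIso ((alternatingFaceMapComplex AddCommGrpCat.{u}).map f)) :
    SSet.modelCategoryQuillen.I.rlp (X := X ⋙ forget AddCommGrpCat.{u})
      (Y := Y ⋙ forget AddCommGrpCat.{u}) (Functor.whiskerRight f (forget AddCommGrpCat.{u})) := by
  apply rlpI_of_elem
  · intro b
    obtain ⟨a, ha⟩ := hf (op ⦋0⦌) b
    exact ⟨a, ha⟩
  · intro x b hb
    exact fill1 f hf x b hb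
  · intro m x b hc hb
    exact fillS f hf m x b hc hb

end Simplicial

end Groth.Agent.Lib.Helper24Acyc
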