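import Mathlib

/-! Helper24AdjVarA: basic facts about `LieAlgebra.Basis` for a simple Lie algebra:
weights of Chevalley generators, uniqueness of the highest weight line. -/

set_option autoImplicit false
universe u v w
open LieAlgebra LieModule

noncomputable section

namespace Groth.Agent.Lib.Helper24.AdjVar

variable {ι : Type u} {K : Type v} {L : Type w} [Fintype ι] [Field K] [CharZero K]
    [IsAlgClosed K] [LieRing L] [LieAlgebra K L] [FiniteDimensional K L] [LieAlgebra.IsSimple K L]
    {H : LieSubalgebra K L} [H.IsCartanSubalgebra] (b : LieAlgebra.Basis ι H)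

/-- The simple root `α i` as a function. -/
def al (i : ι) : H → K := ⇑(b.baseSupp i)

theorem e_mem (i : ι) : b.e i ∈ rootSpace H (al b i) :=
  (mem_genWeightSpace _ _ _).mpr fun ⟨z, hz⟩ ↦ ⟨1, by simp [al]⟩

theorem f_mem (i : ι) : b.f i ∈ rootSpace H (-al b i) :=
  (mem_genWeightSpace _ _ _).mpr fun ⟨z, hz⟩ ↦ ⟨1, by simp [al, ← eq_neg_iff_add_eq_zero]⟩

theorem lie_e_mem {μ : H → K} {x : L} (hx : x ∈ rootSpace H μ) (i : ι) :
    ⁅b.e i, x⁆ ∈ rootSpace H (μ + al b i) := by
  have := lie_mem_genWeightSpace_of_mem_genWeightSpace (e_mem b i) hx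
  rwa [add_comm] at this

theorem lie_f_mem {μ : H → K} {x : L} (hx : x ∈ rootSpace H μ) (i : ι) :
    ⁅b.f i, x⁆ ∈ rootSpace H (μ - al b i) := by
  have := lie_mem_genWeightSpace_of_mem_genWeightSpace (f_mem b i) hx
  rwa [add_comm, ← sub_eq_add_neg] at this

theorem lie_h_eq {μ : H → K} {x : L} (hx : x ∈ rootSpace H μ) (h : H) :
    ⁅(h : L), x⁆ = μ h • x :=
  LieAlgebra.IsKilling.lie_eq_smul_of_mem_rootSpace hx h

/-- iterated application of the `f i` to `v`. -/
def fWord (v : L) : List ι → L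
  | [] => v
  | i :: l => ⁅b.f i, fWord v l⁆

/-- The sum of the simple roots in a word. -/
def wtSub (l : List ι) : H → K := (l.map (al b)).sum

theorem fWord_mem {μ : H → K} {v : L} (hv : v ∈ rootSpace H μ) (l : List ι) :
    fWord b v l ∈ rootSpace H (μ - wtSub b l) := by
  induction l with
  | nil => simpa [wtSub, fWord] using hv
  | cons i l ih =>
    have := lie_f_mem b ih i
    have h2 : μ - wtSub b l - al b i = μ - wtSub b (i :: l) := by
      simp only [wtSub, List.map_cons, List.sum_cons]; abel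
    rwa [h2] at this

/-- The span of all `f`-words applied to `v`. -/
def fSpan (v : L) : Submodule K L := Submodule.span K (Set.range (fWord b v))

theorem self_mem_fSpan (v : L) : v ∈ fSpan b v := Submodule.subset_span ⟨[], rfl⟩

theorem fSpan_lie_f (v : L) (i : ι) {x : L} (hx : x ∈ fSpan b v) : ⁅b.f i, x⁆ ∈ fSpan b v := by
  induction hx using Submodule.span_induction with
  | mem y hy =>
    obtain ⟨l, rfl⟩ := hy
    exact Submodule.subset_span ⟨i :: l, rfl⟩
  | zero => simp
  | add y z _ _ hy hz => rw [lie_add]; exact add_mem hy hz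
  | smul t y _ hy => rw [lie_smul]; exact Submodule.smul_mem _ t hy

theorem fSpan_lie_h {μ : H → K} {v : L} (hv : v ∈ rootSpace H μ) (h : H) {x : L}
    (hx : x ∈ fSpan b v) : ⁅(h : L), x⁆ ∈ fSpan b v := by
  induction hx using Submodule.span_induction with
  | mem y hy =>
    obtain ⟨l, rfl⟩ := hy
    rw [lie_h_eq (fWord_mem b hv l) h]
    exact Submodule.smul_mem _ _ (Submodule.subset_span ⟨l, rfl⟩)
  | zero => simp
  | add y z _ _ hy hz => rw [lie_add]; exact add_mem hy hz
  | smul t y _ hy => rw [lie_smul]; exact Submodule.smul_mem _ t hy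

theorem fSpan_lie_e {μ : H → K} {v : L} (hv : v ∈ rootSpace H μ)
    (hkill : ∀ i, ⁅b.e i, v⁆ = 0) (i : ι) {x : L}
    (hx : x ∈ fSpan b v) : ⁅b.e i, x⁆ ∈ fSpan b v := by
  induction hx using Submodule.span_induction with
  | mem y hy =>
    obtain ⟨l, rfl⟩ := hy
    induction l with
    | nil => simp [fWord, hkill i]
    | cons k l ih =>
      show ⁅b.e i, ⁅b.f k, fWord b v l⁆⁆ ∈ _
      rw [leibniz_lie]
      refine add_mem ?_ (fSpan_lie_f b v k ih)
      by_cases hik : i = k
      · subst hik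
        rw [(b.sl2 i).lie_e_f]
        exact fSpan_lie_h b hv (b.h' i) (Submodule.subset_span ⟨l, rfl⟩)
      · rw [b.lie_e_f_ne i k hik, zero_lie]; exact zero_mem _
  | zero => simp
  | add y z _ _ hy hz => rw [lie_add]; exact add_mem hy hz
  | smul t y _ hy => rw [lie_smul]; exact Submodule.smul_mem _ t hy

theorem fSpan_lie_all {μ : H → K} {v : L} (hv : v ∈ rootSpace H μ)
    (hkill : ∀ i, ⁅b.e i, v⁆ = 0) (x : L) : ∀ y ∈ fSpan b v, ⁅x, y⁆ ∈ fSpan b v := by
  have hx : x ∈ LieSubalgebra.lieSpan K L (Set.range b.e ∪ Set.range b.f) := by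
    rw [b.span_ef]; trivial
  induction hx using LieSubalgebra.lieSpan_induction with
  | mem u hu =>
    rcases hu with ⟨i, rfl⟩ | ⟨i, rfl⟩
    · exact fun y hy => fSpan_lie_e b hv hkill i hy
    · exact fun y hy => fSpan_lie_f b v i hy
  | zero => intro y _; simp
  | add u v _ _ hu hv => intro y hy; rw [add_lie]; exact add_mem (hu y hy) (hv y hy)
  | smul t u _ hu => intro y hy; rw [smul_lie]; exact Submodule.smul_mem _ t (hu y hy)
  | lie u v _ _ hu hv =>
    intro y hy
    rw [lie_lie]
    exact sub_mem (hu _ (hv y hy)) (hv _ (hu y hy))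

theorem fSpan_eq_top {μ : H → K} {v : L} (hv : v ∈ rootSpace H μ) (hv0 : v ≠ 0)
    (hkill : ∀ i, ⁅b.e i, v⁆ = 0) : fSpan b v = ⊤ := by
  let I : LieIdeal K L :=
    { fSpan b v with
      lie_mem := fun {x y} hy => fSpan_lie_all b hv hkill x y hy }
  have hI : (I : Submodule K L) = fSpan b v := rfl
  rcases LieAlgebra.IsSimple.eq_bot_or_eq_top I with h | h
  · exfalso
    have : v ∈ (I : Submodule K L) := self_mem_fSpan b v
    rw [h] at this
    exact hv0 (by simpa using this)
  · rw [← hI, h]; rfl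

/-- If `v` is a nonzero weight vector of weight `μ` killed by all `e i`, then every weight of `L`
is of the form `μ - (sum of simple roots)`. -/
theorem exists_eq_sub_of_killed {μ : H → K} {v : L} (hv : v ∈ rootSpace H μ)
    (hv0 : v ≠ 0) (hkill : ∀ i, ⁅b.e i, v⁆ = 0) {χ : H → K}
    (hχ : rootSpace H χ ≠ ⊥) : ∃ l : List ι, χ = μ - wtSub b l := by
  let s : Set (H → K) := Set.range fun l : List ι => μ - wtSub b l
  have hs : ⨆ α ∈ s, rootSpace H α = ⊤ := by
    rw [eq_top_iff]
    intro x _
    have hx : x ∈ fSpan b v := by rw [fSpan_eq_top b hv hv0 hkill]; trivial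
    induction hx using Submodule.span_induction with
    | mem y hy =>
      obtain ⟨l, rfl⟩ := hy
      exact LieSubmodule.mem_iSup_of_mem _ (LieSubmodule.mem_iSup_of_mem ⟨l, rfl⟩ (fWord_mem b hv l))
    | zero => exact zero_mem _
    | add y z _ _ hy hz => exact add_mem (hy trivial) (hz trivial)
    | smul t y _ hy => exact SMulMemClass.smul_mem t (hy trivial)
  have := (iSupIndep_genWeightSpace K H L).mem_of_biSup_eq_top hs (i := χ) hχ
  obtain ⟨l, hl⟩ := this
  exact ⟨l, hl.symm⟩

end Groth.Agent.Lib.Helper24.AdjVar
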