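import Mathlib
import Groth.Agent.Lib.Helper24AdjVarA

set_option autoImplicit false
universe u v w
open LieAlgebra LieModule

noncomputable section

namespace Groth.Agent.Lib.Helper24.AdjVar

variable {ι : Type u} {K : Type v} {L : Type w} [Fintype ι] [Field K] [CharZero K]
    [IsAlgClosed K] [LieRing L] [LieAlgebra K L] [FiniteDimensional K L] [LieAlgebra.IsSimple K L]
    {H : LieSubalgebra K L} [H.IsCartanSubalgebra] (b : LieAlgebra.Basis ι H)

theorem al_apply_h' (i j : ι) : al b i (b.h' j) = (b.A i j : K) := by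
  simp [al]

open Classical in
theorem wtSub_eq (l : List ι) :
    wtSub b l = ⇑(∑ i, (l.count i : K) • b.baseSupp i) := by
  induction l with
  | nil => ext x; simp [wtSub]
  | cons k l ih =>
    have : wtSub b (k :: l) = al b k + wtSub b l := by simp [wtSub]
    rw [this, ih]
    ext x
    simp only [Pi.add_apply, al, LinearMap.coe_sum, Finset.sum_apply, LinearMap.smul_apply,
      smul_eq_mul, List.count_cons, Nat.cast_add, add_mul]
    rw [Finset.sum_add_distrib, add_comm]
    congr 1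
    rw [Finset.sum_eq_single k]
    · simp
    · intro j _ hj; simp [Ne.symm hj]
    · simp

theorem wtSub_eq_zero_iff (l : List ι) : wtSub b l = 0 ↔ l = [] := by
  classical
  constructor
  · intro h
    rw [wtSub_eq] at h
    have h' : ∑ i, (l.count i : K) • b.baseSupp i = 0 := LinearMap.coe_injective (by rw [h]; rfl)
    have := Fintype.linearIndependent_iff.mp b.linearIndependent_baseSupp _ h'
    rcases l with _ | ⟨k, l⟩
    · rfl
    · exfalso
      have hk := this k
      simp at hk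
      norm_cast at hk
  · rintro rfl; simp [wtSub]

theorem wtSub_append (l₁ l₂ : List ι) : wtSub b (l₁ ++ l₂) = wtSub b l₁ + wtSub b l₂ := by
  simp [wtSub]

/-- Uniqueness of the highest weight: two nonzero weight vectors killed by all `e i` have the
same weight. -/
theorem weight_eq_of_killed {μ ν : H → K} {v v' : L} (hv : v ∈ rootSpace H μ) (hv0 : v ≠ 0)
    (hkill : ∀ i, ⁅b.e i, v⁆ = 0) (hv' : v' ∈ rootSpace H ν) (hv'0 : v' ≠ 0)
    (hkill' : ∀ i, ⁅b.e i, v'⁆ = 0) : μ = ν := by
  have hμ : rootSpace H μ ≠ ⊥ := by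
    rw [Ne, LieSubmodule.eq_bot_iff]; push Not; exact ⟨v, hv, hv0⟩
  have hν : rootSpace H ν ≠ ⊥ := by
    rw [Ne, LieSubmodule.eq_bot_iff]; push Not; exact ⟨v', hv', hv'0⟩
  obtain ⟨l₁, h₁⟩ := exists_eq_sub_of_killed b hv hv0 hkill hν
  obtain ⟨l₂, h₂⟩ := exists_eq_sub_of_killed b hv' hv'0 hkill' hμ
  have : wtSub b (l₁ ++ l₂) = 0 := by
    rw [wtSub_append]
    have : μ = μ - wtSub b l₁ - wtSub b l₂ := by rw [← h₁]; exact h₂
    have h3 : wtSub b l₁ + wtSub b l₂ = μ - (μ - wtSub b l₁ - wtSub b l₂) := by abel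
    rw [h3, ← this, sub_self]
  rw [wtSub_eq_zero_iff] at this
  have hl1 : l₁ = [] := (List.append_eq_nil_iff.mp this).1
  rw [h₁, hl1]; simp [wtSub]

theorem rootSpace_al_ne_bot (i : ι) : rootSpace H (al b i) ≠ ⊥ := by
  rw [Ne, LieSubmodule.eq_bot_iff]; push Not
  exact ⟨b.e i, e_mem b i, (b.sl2 i).e_ne_zero⟩

/-- The simple root `α i` as a weight. -/
def alW (i : ι) : Weight K H L := ⟨al b i, rootSpace_al_ne_bot b i⟩

@[simp] theorem coe_alW (i : ι) : (⇑(alW b i) : H → K) = al b i := rfl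

theorem alW_isNonZero (i : ι) : (alW b i).IsNonZero := by
  intro h
  have h2 : (⇑(alW b i) : H → K) (b.h' i) = 0 := by rw [h.eq]; rfl
  rw [coe_alW, al_apply_h'] at h2
  have : IsAddTorsionFree L := .of_isTorsionFree K L
  rw [b.A_diag_eq_two] at h2
  norm_num at h2

theorem coroot_alW (i : ι) : IsKilling.coroot (alW b i) = b.h' i :=
  b.coroot_eq_h' i

/-- If `β + α i` is not a weight, then `β (h i)` is the bottom chain coefficient. -/
theorem chainTop_eq_zero (β : Weight K H L) (i : ι) (htop : rootSpace H (⇑β + al b i) = ⊥) :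
    chainTopCoeff (alW b i) β = 0 := by
  by_contra h
  have h1 : (1 : ℤ) ≤ chainTopCoeff (alW b i) β := by
    have : 1 ≤ chainTopCoeff (alW b i) β := Nat.one_le_iff_ne_zero.mpr h
    exact_mod_cast this
  have := (IsKilling.rootSpace_zsmul_add_ne_bot_iff (alW b i) β (alW_isNonZero b i) 1).mpr
    ⟨h1, by have := Int.natCast_nonneg (chainBotCoeff (alW b i) β); omega⟩
  apply this
  rw [one_smul, add_comm]
  exact htop

theorem apply_h'_eq_chainBot (β : Weight K H L) (i : ι)
    (htop : rootSpace H (⇑β + al b i) = ⊥) :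
    β (b.h' i) = (chainBotCoeff (alW b i) β : K) := by
  have := IsKilling.apply_coroot_eq_cast (alW b i) β
  rw [coroot_alW, chainTop_eq_zero b β i htop] at this
  rw [this]; simp

theorem sub_nsmul_ne_bot_iff (β : Weight K H L) (i : ι)
    (htop : rootSpace H (⇑β + al b i) = ⊥) (n : ℕ) :
    rootSpace H (⇑β - n • al b i) ≠ ⊥ ↔ n ≤ chainBotCoeff (alW b i) β := by
  have := IsKilling.rootSpace_zsmul_add_ne_bot_iff (alW b i) β (alW_isNonZero b i) (-(n : ℤ))
  rw [chainTop_eq_zero b β i htop] at this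
  have h2 : (-(n : ℤ)) • (⇑(alW b i) : H → K) + ⇑β = ⇑β - n • al b i := by
    rw [neg_smul, natCast_zsmul, coe_alW]; abel
  rw [h2] at this
  rw [this]
  constructor
  · rintro ⟨_, h⟩; simpa using h
  · intro h; exact ⟨by simp, by simpa using h⟩

theorem A_le_zero_of_ne {i j : ι} (hij : i ≠ j) : b.A i j ≤ 0 := by
  have h := b.cartanMatrix_base_eq
  have h2 := b.base.cartanMatrix_le_zero_of_ne (b.baseSupportEquiv i) (b.baseSupportEquiv j)
    (fun h => hij (b.baseSupportEquiv.injective h))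
  rw [h] at h2
  simpa using h2

/-- The simple root `α i` as a root. -/
def alR (i : ι) : H.root := ⟨alW b i, by
  simpa [LieSubalgebra.root] using alW_isNonZero b i⟩

theorem A_eq_zero_iff (i j : ι) : b.A i j = 0 ↔ b.A j i = 0 := by
  have := (IsKilling.rootSystem H).pairing_eq_zero_iff (i := alR b i) (j := alR b j)
  simp only [IsKilling.rootSystem_pairing_apply] at this
  have e1 : (alR b i).1 (IsKilling.coroot (alR b j).1) = (b.A i j : K) := by
    show (alW b i) (IsKilling.coroot (alW b j)) = _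
    rw [coroot_alW]; exact al_apply_h' b i j
  have e2 : (alR b j).1 (IsKilling.coroot (alR b i).1) = (b.A j i : K) := by
    show (alW b j) (IsKilling.coroot (alW b i)) = _
    rw [coroot_alW]; exact al_apply_h' b j i
  rw [e1, e2] at this
  exact_mod_cast this

/-- If `x` lies in the weight space `γ` and in a sum of weight spaces not involving `γ`,
then `x = 0`. -/
theorem eq_zero_of_mem_of_mem_biSup {γ : H → K} {S : Set (H → K)} (hγ : γ ∉ S) {x : L}
    (hx : x ∈ rootSpace H γ) (hx' : x ∈ ⨆ χ ∈ S, rootSpace H χ) : x = 0 := by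
  have := (iSupIndep_genWeightSpace K H L).disjoint_biSup hγ
  have h2 : x ∈ (rootSpace H γ ⊓ ⨆ χ ∈ S, rootSpace H χ : LieSubmodule K H L) :=
    ⟨hx, hx'⟩
  rw [this.eq_bot] at h2
  simpa using h2

theorem mem_rootSpace_inf_eq_zero {γ χ : H → K} (h : γ ≠ χ) {x : L}
    (hx : x ∈ rootSpace H γ) (hx' : x ∈ rootSpace H χ) : x = 0 := by
  refine eq_zero_of_mem_of_mem_biSup (S := {χ}) (by simpa using h) hx ?_
  simpa using hx'

/-- The set of weights above `χ`. -/
def upSet (χ : H → K) : Set (Weight K H L) := {γ | ∃ l : List ι, (⇑γ : H → K) = χ + wtSub b l}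

theorem upSet_lt (χ : Weight K H L) (i : ι) :
    (upSet b (⇑χ + al b i)).ncard < (upSet b (⇑χ : H → K)).ncard := by
  apply Set.ncard_lt_ncard _ (Set.toFinite _)
  refine ⟨?_, ?_⟩
  · rintro γ ⟨l, hl⟩
    refine ⟨i :: l, ?_⟩
    rw [hl]
    simp only [wtSub, List.map_cons, List.sum_cons]; abel
  · intro h
    have : χ ∈ upSet b (⇑χ : H → K) := ⟨[], by simp [wtSub]⟩
    obtain ⟨l, hl⟩ := h this
    have h0 : wtSub b (i :: l) = 0 := by
      have : wtSub b (i :: l) = al b i + wtSub b l := by simp [wtSub]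
      rw [this]
      have h3 : (⇑χ : H → K) + (al b i + wtSub b l) = ⇑χ := by rw [← add_assoc]; exact hl.symm
      simpa using h3
    rw [wtSub_eq_zero_iff] at h0
    exact List.cons_ne_nil _ _ h0

/-- Peeling lemma: between two nested subspaces `W' < W` with `W` stable under `H` and the `e i`,
there is a weight vector of `W` outside `W'` mapped into `W'` by all `e i`. -/
theorem exists_next (W' W : Submodule K L) (hle : W' ≤ W) (hne : W' ≠ W)
    (hWH : ∀ h : H, ∀ w ∈ W, ⁅(h : L), w⁆ ∈ W) (hWe : ∀ i, ∀ w ∈ W, ⁅b.e i, w⁆ ∈ W) :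
    ∃ (χ : H → K) (w : L), w ∈ W ∧ w ∉ W' ∧ w ∈ rootSpace H χ ∧ ∀ i, ⁅b.e i, w⁆ ∈ W' := by
  -- Step 1: a weight vector outside W'
  have step1 : ∃ (χ : Weight K H L) (w : L), w ∈ W ∧ w ∉ W' ∧ w ∈ rootSpace H χ := by
    by_contra hcon
    push Not at hcon
    apply hne
    refine le_antisymm hle ?_
    let N : LieSubmodule K H L := { W with lie_mem := fun {h w} hw => hWH h w hw }
    have hN : (N : Submodule K L) = W := rfl
    have := LieModule.eq_iSup_inf_genWeightSpace (K := K) (L := H) (M := L) N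
    rw [← hN, this, LieSubmodule.iSup_toSubmodule]
    refine iSup_le fun χ => ?_
    intro w hw
    have hw' : w ∈ N ∧ w ∈ genWeightSpace L χ := by simpa using hw
    by_contra h
    exact hcon χ w hw'.1 h hw'.2
  -- Step 2: induction
  have step2 : ∀ n : ℕ, ∀ (χ : Weight K H L) (w : L), (upSet b (⇑χ : H → K)).ncard = n →
      w ∈ W → w ∉ W' → w ∈ rootSpace H χ →
      ∃ (χ : H → K) (w : L), w ∈ W ∧ w ∉ W' ∧ w ∈ rootSpace H χ ∧ ∀ i, ⁅b.e i, w⁆ ∈ W' := by
    intro n
    induction n using Nat.strong_induction_on with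
    | _ n ih =>
      intro χ w hn hwW hwW' hwχ
      by_cases hall : ∀ i, ⁅b.e i, w⁆ ∈ W'
      · exact ⟨χ, w, hwW, hwW', hwχ, hall⟩
      · push Not at hall
        obtain ⟨i, hi⟩ := hall
        have hmem := lie_e_mem b hwχ i
        have hne0 : ⁅b.e i, w⁆ ≠ 0 := fun h => hi (h ▸ zero_mem _)
        have hbot : rootSpace H (⇑χ + al b i) ≠ ⊥ := by
          rw [Ne, LieSubmodule.eq_bot_iff]; push Not
          exact ⟨_, hmem, hne0⟩
        exact ih _ (hn ▸ upSet_lt b χ i) ⟨_, hbot⟩ ⁅b.e i, w⁆ rfl (hWe i w hwW) hi hmem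
  obtain ⟨χ, w, h1, h2, h3⟩ := step1
  exact step2 _ χ w rfl h1 h2 h3

end Groth.Agent.Lib.Helper24.AdjVar
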