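import Mathlib
import Groth.Agent.Lib.Helper24AdjVarB

set_option autoImplicit false
universe u v w
open LieAlgebra LieModule Module

noncomputable section

namespace Groth.Agent.Lib.Helper24.AdjVar

variable {ι : Type u} {K : Type v} {L : Type w} [Fintype ι] [Field K] [CharZero K]
    [IsAlgClosed K] [LieRing L] [LieAlgebra K L] [FiniteDimensional K L] [LieAlgebra.IsSimple K L]
    {H : LieSubalgebra K L} [H.IsCartanSubalgebra] (b : LieAlgebra.Basis ι H)

theorem ne_bot_of_mem {χ : H → K} {w : L} (hw : w ∈ rootSpace H χ) (hw0 : w ≠ 0) :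
    rootSpace H χ ≠ ⊥ := by
  rw [Ne, LieSubmodule.eq_bot_iff]; push Not; exact ⟨w, hw, hw0⟩

theorem finrank_rootSpace {χ : H → K} (hχ : rootSpace H χ ≠ ⊥) (hχ0 : χ ≠ 0) :
    finrank K (rootSpace H χ) = 1 := by
  have := IsKilling.finrank_rootSpace_eq_one (K := K) (H := H) (L := L) ⟨χ, hχ⟩
    (fun h => hχ0 h.eq)
  exact this

theorem rootSpace_eq_span {χ : H → K} (hχ0 : χ ≠ 0) {w : L} (hw : w ∈ rootSpace H χ)
    (hw0 : w ≠ 0) : (rootSpace H χ : Submodule K L) = K ∙ w := by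
  have h1 := finrank_rootSpace (ne_bot_of_mem hw hw0) hχ0
  have h2 := (finrank_eq_one_iff_of_nonzero' (⟨w, hw⟩ : rootSpace H χ)
    (by simpa using hw0)).mp h1
  apply le_antisymm
  · intro y hy
    obtain ⟨c, hc⟩ := h2 ⟨y, hy⟩
    rw [Submodule.mem_span_singleton]
    exact ⟨c, congrArg Subtype.val hc⟩
  · rw [Submodule.span_singleton_le_iff_mem]; exact hw

theorem finrank_sup_two {a c : H → K} (hac : a ≠ c)
    (ha : finrank K (rootSpace H a) = 1) (hc : finrank K (rootSpace H c) = 1) :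
    finrank K ((rootSpace H a : Submodule K L) ⊔ (rootSpace H c : Submodule K L) :
      Submodule K L) = 2 := by
  have h := Submodule.finrank_sup_add_finrank_inf_eq (rootSpace H a : Submodule K L)
    (rootSpace H c : Submodule K L)
  have hinf : (rootSpace H a : Submodule K L) ⊓ (rootSpace H c : Submodule K L) = ⊥ := by
    rw [Submodule.eq_bot_iff]
    rintro x ⟨h1, h2⟩
    exact mem_rootSpace_inf_eq_zero hac h1 h2
  rw [hinf, finrank_bot, add_zero] at h
  rw [h]
  have ha' : finrank K (rootSpace H a : Submodule K L) = 1 := ha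
  have hc' : finrank K (rootSpace H c : Submodule K L) = 1 := hc
  rw [ha', hc']

theorem finrank_sup_three {a c d : H → K} (hac : a ≠ c) (had : a ≠ d) (hcd : c ≠ d)
    (ha : finrank K (rootSpace H a) = 1) (hc : finrank K (rootSpace H c) = 1)
    (hd : finrank K (rootSpace H d) = 1) :
    finrank K ((rootSpace H a : Submodule K L) ⊔ (rootSpace H c : Submodule K L) ⊔
      (rootSpace H d : Submodule K L) : Submodule K L) = 3 := by
  have h := Submodule.finrank_sup_add_finrank_inf_eq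
    ((rootSpace H a : Submodule K L) ⊔ (rootSpace H c : Submodule K L))
    (rootSpace H d : Submodule K L)
  have hinf : ((rootSpace H a : Submodule K L) ⊔ (rootSpace H c : Submodule K L)) ⊓
      (rootSpace H d : Submodule K L) = ⊥ := by
    rw [Submodule.eq_bot_iff]
    rintro x ⟨h1, h2⟩
    refine eq_zero_of_mem_of_mem_biSup (S := {a, c}) (γ := d) ?_ h2 ?_
    · simp [Ne.symm had, Ne.symm hcd]
    · rw [iSup_insert, iSup_singleton]
      rw [← LieSubmodule.mem_toSubmodule, LieSubmodule.sup_toSubmodule]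
      exact h1
  rw [hinf, finrank_bot, add_zero, finrank_sup_two hac ha hc] at h
  rw [h]
  have hd' : finrank K (rootSpace H d : Submodule K L) = 1 := hd
  rw [hd']

theorem stable_lieSpan_of (W : Submodule K L)
    (hWe : ∀ i, ∀ w ∈ W, ⁅b.e i, w⁆ ∈ W) {u : L}
    (hu' : u ∈ LieSubalgebra.lieSpan K L (Set.range b.e)) : ∀ w ∈ W, ⁅u, w⁆ ∈ W := by
  induction hu' using LieSubalgebra.lieSpan_induction with
  | mem u hu => obtain ⟨i, rfl⟩ := hu; exact hWe i
  | zero => intro w _; simp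
  | add u v _ _ hu hv => intro w hw; rw [add_lie]; exact add_mem (hu w hw) (hv w hw)
  | smul t u _ hu => intro w hw; rw [smul_lie]; exact Submodule.smul_mem _ t (hu w hw)
  | lie u v _ _ hu hv =>
    intro w hw
    rw [lie_lie]
    exact sub_mem (hu _ (hv w hw)) (hv _ (hu w hw))

/-- Stability under `H ⊔ borelUpper` from stability under `H` and the `e i`. -/
theorem stable_of (W : Submodule K L) (hWH : ∀ h : H, ∀ w ∈ W, ⁅(h : L), w⁆ ∈ W)
    (hWe : ∀ i, ∀ w ∈ W, ⁅b.e i, w⁆ ∈ W) :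
    ∀ x ∈ H.toSubmodule ⊔ (b.borelUpper : Submodule K L), ∀ w ∈ W, ⁅x, w⁆ ∈ W := by
  intro x hx
  obtain ⟨h, hh, u, hu, rfl⟩ := Submodule.mem_sup.mp hx
  have hu1 : u ∈ b.borelUpper := hu
  have hu' : u ∈ LieSubalgebra.lieSpan K L (Set.range b.e) := by
    simpa [LieAlgebra.Basis.borelUpper] using hu1
  intro w hw
  rw [add_lie]
  exact add_mem (hWH ⟨h, hh⟩ w hw) (stable_lieSpan_of b W hWe hu' w hw)

theorem stable_H_of (W : Submodule K L)
    (hst : ∀ x ∈ H.toSubmodule ⊔ (b.borelUpper : Submodule K L), ∀ w ∈ W, ⁅x, w⁆ ∈ W) :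
    ∀ h : H, ∀ w ∈ W, ⁅(h : L), w⁆ ∈ W :=
  fun h w hw => hst h (Submodule.mem_sup_left h.2) w hw

theorem stable_e_of (W : Submodule K L)
    (hst : ∀ x ∈ H.toSubmodule ⊔ (b.borelUpper : Submodule K L), ∀ w ∈ W, ⁅x, w⁆ ∈ W) :
    ∀ i, ∀ w ∈ W, ⁅b.e i, w⁆ ∈ W := by
  intro i w hw
  refine hst _ (Submodule.mem_sup_right ?_) w hw
  have : b.e i ∈ LieSubalgebra.lieSpan K L (Set.range b.e) :=
    LieSubalgebra.subset_lieSpan ⟨i, rfl⟩
  show b.e i ∈ b.borelUpper
  simpa [LieAlgebra.Basis.borelUpper] using this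

section Rho

variable {r : H → K} (hr : rootSpace H r ≠ ⊥) (htop : ∀ i, rootSpace H (r + al b i) = ⊥)
  {j : ι} (hN : ∀ i, r (b.h' i) ≠ 0 ↔ i = j) (hj : r (b.h' j) = 1)

include htop in
theorem killed_of_mem {v : L} (hv : v ∈ rootSpace H r) (i : ι) : ⁅b.e i, v⁆ = 0 := by
  have := lie_e_mem b hv i
  rw [htop i] at this
  simpa using this

include hr htop in
theorem apply_h'_r (i : ι) :
    r (b.h' i) = (chainBotCoeff (alW b i) (⟨r, hr⟩ : Weight K H L) : K) :=
  apply_h'_eq_chainBot b ⟨r, hr⟩ i (htop i)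

include hr htop hN in
theorem sub_al_ne_bot_iff (i : ι) : rootSpace H (r - al b i) ≠ ⊥ ↔ i = j := by
  have h1 := sub_nsmul_ne_bot_iff b ⟨r, hr⟩ i (htop i) 1
  simp only [one_smul] at h1
  have h2 : (⇑(⟨r, hr⟩ : Weight K H L) : H → K) = r := rfl
  rw [h2] at h1
  rw [h1, ← hN i, apply_h'_r b hr htop i]
  rw [Nat.one_le_iff_ne_zero, Ne, Ne, Nat.cast_eq_zero]

include hr htop hj in
theorem chainBot_j : chainBotCoeff (alW b j) (⟨r, hr⟩ : Weight K H L) = 1 := by
  have := apply_h'_r b hr htop j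
  rw [hj] at this
  exact_mod_cast this.symm

include hr htop hj in
theorem sub_two_al_eq_bot : rootSpace H (r - 2 • al b j) = ⊥ := by
  have h1 := sub_nsmul_ne_bot_iff b ⟨r, hr⟩ j (htop j) 2
  have h2 : (⇑(⟨r, hr⟩ : Weight K H L) : H → K) = r := rfl
  rw [h2, chainBot_j b hr htop hj] at h1
  by_contra h
  have := h1.mp h
  omega

include hj in
theorem r_ne_zero : r ≠ 0 := by
  intro h; rw [h] at hj; simp at hj

include hj in
theorem r_sub_al_ne_zero : r - al b j ≠ 0 := by
  intro h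
  have h2 := congrFun h (b.h' j)
  have : IsAddTorsionFree L := .of_isTorsionFree K L
  rw [Pi.sub_apply, hj, al_apply_h', b.A_diag_eq_two] at h2
  norm_num at h2

theorem al_ne_zero (i : ι) : al b i ≠ 0 := fun h => alW_isNonZero b i h

include hr htop hN hj in
theorem sub_add_eq_bot {i : ι} (hij : i ≠ j) : rootSpace H (r - al b j + al b i) = ⊥ := by
  by_contra h
  have htop' : rootSpace H ((⇑(⟨_, h⟩ : Weight K H L) : H → K) + al b j) = ⊥ := by
    have : r - al b j + al b i + al b j = r + al b i := by abel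
    show rootSpace H (r - al b j + al b i + al b j) = ⊥
    rw [this]; exact htop i
  have h1 := apply_h'_eq_chainBot b ⟨_, h⟩ j htop'
  have h2 : (⟨_, h⟩ : Weight K H L) (b.h' j) = (r - al b j + al b i) (b.h' j) := rfl
  have : IsAddTorsionFree L := .of_isTorsionFree K L
  rw [h2, Pi.add_apply, Pi.sub_apply, hj, al_apply_h', al_apply_h', b.A_diag_eq_two] at h1
  have h3 : ((b.A i j - 1 : ℤ) : K) = ((chainBotCoeff (alW b j) (⟨_, h⟩ : Weight K H L) : ℤ) : K) := by
    push_cast; rw [← h1]; ring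
  have h4 := Int.cast_injective h3
  have h5 := A_le_zero_of_ne b hij
  have := Int.natCast_nonneg (chainBotCoeff (alW b j) (⟨_, h⟩ : Weight K H L))
  omega

include hr htop hN hj in
theorem sub_sub_ne_bot_iff {i : ι} (hij : i ≠ j) :
    rootSpace H (r - al b j - al b i) ≠ ⊥ ↔ b.A i j ≠ 0 := by
  have hβ : rootSpace H (r - al b j) ≠ ⊥ := (sub_al_ne_bot_iff b hr htop hN j).2 rfl
  have htop' : rootSpace H ((⇑(⟨_, hβ⟩ : Weight K H L) : H → K) + al b i) = ⊥ :=
    sub_add_eq_bot b hr htop hN hj hij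
  have h1 := sub_nsmul_ne_bot_iff b ⟨_, hβ⟩ i htop' 1
  simp only [one_smul] at h1
  have h2 : (⇑(⟨_, hβ⟩ : Weight K H L) : H → K) = r - al b j := rfl
  rw [h2] at h1
  rw [h1]
  have h3 := apply_h'_eq_chainBot b ⟨_, hβ⟩ i htop'
  have h4 : (⟨_, hβ⟩ : Weight K H L) (b.h' i) = (r - al b j) (b.h' i) := rfl
  have h5 : r (b.h' i) = 0 := by
    by_contra h; exact hij ((hN i).1 h)
  rw [h4, Pi.sub_apply, h5, al_apply_h'] at h3
  have h6 : ((- b.A j i : ℤ) : K) = ((chainBotCoeff (alW b i) (⟨_, hβ⟩ : Weight K H L) : ℤ) : K) := by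
    push_cast; rw [← h3]; ring
  have h7 := Int.cast_injective h6
  have h8 := A_eq_zero_iff b i j
  omega

include hr htop hN in
theorem sub_sub_ne_zero {i : ι} (hij : i ≠ j) : r - al b j - al b i ≠ 0 := by
  intro h
  have h1 : r - al b i = al b j := by
    have : r - al b i = (r - al b j - al b i) + al b j := by abel
    rw [this, h, zero_add]
  have h2 : rootSpace H (r - al b i) ≠ ⊥ := by rw [h1]; exact rootSpace_al_ne_bot b j
  exact hij ((sub_al_ne_bot_iff b hr htop hN i).1 h2)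

end Rho

end Groth.Agent.Lib.Helper24.AdjVar
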