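import Mathlib
import Groth.Agent.Lib.Helper24AdjVarC

set_option autoImplicit false
universe u v w
open LieAlgebra LieModule Module

noncomputable section

namespace Groth.Agent.Lib.Helper24.AdjVar

variable {ι : Type u} {K : Type v} {L : Type w} [Fintype ι] [Field K] [CharZero K]
    [IsAlgClosed K] [LieRing L] [LieAlgebra K L] [FiniteDimensional K L] [LieAlgebra.IsSimple K L]
    {H : LieSubalgebra K L} [H.IsCartanSubalgebra] (b : LieAlgebra.Basis ι H)

theorem exists_ne_zero_of_ne_bot {χ : H → K} (h : rootSpace H χ ≠ ⊥) :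
    ∃ v, v ∈ rootSpace H χ ∧ v ≠ 0 := by
  rw [Ne, LieSubmodule.eq_bot_iff] at h; push Not at h; exact h

section Rho

variable {r : H → K} (hr : rootSpace H r ≠ ⊥) (htop : ∀ i, rootSpace H (r + al b i) = ⊥)
  {j : ι} (hN : ∀ i, r (b.h' i) ≠ 0 ↔ i = j) (hj : r (b.h' j) = 1)

include hr htop hj in
/-- A nonzero `b`-stable subspace contains the highest root space. -/
theorem top_le (W : Submodule K L) (hW0 : W ≠ ⊥)
    (hWH : ∀ h : H, ∀ w ∈ W, ⁅(h : L), w⁆ ∈ W) (hWe : ∀ i, ∀ w ∈ W, ⁅b.e i, w⁆ ∈ W) :
    (rootSpace H r : Submodule K L) ≤ W := by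
  obtain ⟨χ, w, hwW, hw0, hwχ, hkill⟩ := exists_next b ⊥ W bot_le (Ne.symm hW0) hWH hWe
  have hw0' : w ≠ 0 := by simpa using hw0
  have hkill' : ∀ i, ⁅b.e i, w⁆ = 0 := fun i => by simpa using hkill i
  obtain ⟨v, hv, hv0⟩ := exists_ne_zero_of_ne_bot hr
  have := weight_eq_of_killed b hwχ hw0' hkill' hv hv0 (killed_of_mem b htop hv)
  subst this
  rw [rootSpace_eq_span (r_ne_zero b hj) hwχ hw0', Submodule.span_singleton_le_iff_mem]
  exact hwW

include hr htop hN hj in
/-- A `b`-stable subspace strictly containing the highest root space contains the root space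
of `ρ - α_j`. -/
theorem second_le (W : Submodule K L) (hle : (rootSpace H r : Submodule K L) ≤ W)
    (hne : (rootSpace H r : Submodule K L) ≠ W)
    (hWH : ∀ h : H, ∀ w ∈ W, ⁅(h : L), w⁆ ∈ W) (hWe : ∀ i, ∀ w ∈ W, ⁅b.e i, w⁆ ∈ W) :
    (rootSpace H (r - al b j) : Submodule K L) ≤ W := by
  obtain ⟨χ, w, hwW, hwr, hwχ, hnext⟩ := exists_next b _ W hle hne hWH hWe
  have hw0 : w ≠ 0 := fun h => hwr (h ▸ zero_mem _)
  obtain ⟨v, hv, hv0⟩ := exists_ne_zero_of_ne_bot hr
  have hχr : χ ≠ r := fun h => hwr (h ▸ hwχ)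
  have hex : ∃ i, ⁅b.e i, w⁆ ≠ 0 := by
    by_contra hcon
    push Not at hcon
    exact hχr (weight_eq_of_killed b hwχ hw0 hcon hv hv0 (killed_of_mem b htop hv))
  obtain ⟨i, hi⟩ := hex
  have h1 : χ + al b i = r := by
    by_contra hne'
    exact hi (mem_rootSpace_inf_eq_zero hne' (lie_e_mem b hwχ i) (hnext i))
  have h2 : χ = r - al b i := by rw [← h1]; abel
  have hij : i = j := by
    refine (sub_al_ne_bot_iff b hr htop hN i).1 ?_
    rw [← h2]; exact ne_bot_of_mem hwχ hw0
  subst hij
  rw [h2] at hwχ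
  rw [rootSpace_eq_span (r_sub_al_ne_zero b hj) hwχ hw0, Submodule.span_singleton_le_iff_mem]
  exact hwW

include hr htop hN hj in
theorem finrank_two : finrank K ((rootSpace H r : Submodule K L) ⊔
    (rootSpace H (r - al b j) : Submodule K L) : Submodule K L) = 2 := by
  refine finrank_sup_two ?_ (finrank_rootSpace hr (r_ne_zero b hj))
    (finrank_rootSpace ((sub_al_ne_bot_iff b hr htop hN j).2 rfl) (r_sub_al_ne_zero b hj))
  intro h
  apply al_ne_zero b j
  have : al b j = r - (r - al b j) := by abel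
  rw [this, ← h, sub_self]

include hr htop hN hj in
/-- The sum of the root spaces of `ρ` and `ρ - α_j` is stable under `H` and the `e i`. -/
theorem two_stable :
    (∀ h : H, ∀ w ∈ ((rootSpace H r : Submodule K L) ⊔
      (rootSpace H (r - al b j) : Submodule K L) : Submodule K L), ⁅(h : L), w⁆ ∈
      ((rootSpace H r : Submodule K L) ⊔ (rootSpace H (r - al b j) : Submodule K L) :
        Submodule K L)) ∧
    (∀ i, ∀ w ∈ ((rootSpace H r : Submodule K L) ⊔
      (rootSpace H (r - al b j) : Submodule K L) : Submodule K L), ⁅b.e i, w⁆ ∈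
      ((rootSpace H r : Submodule K L) ⊔ (rootSpace H (r - al b j) : Submodule K L) :
        Submodule K L)) := by
  constructor
  · intro h w hw
    obtain ⟨w1, h1, w2, h2, rfl⟩ := Submodule.mem_sup.mp hw
    rw [lie_add]
    exact add_mem (Submodule.mem_sup_left ((rootSpace H r).lie_mem (x := h) h1))
      (Submodule.mem_sup_right ((rootSpace H (r - al b j)).lie_mem (x := h) h2))
  · intro i w hw
    obtain ⟨w1, h1, w2, h2, rfl⟩ := Submodule.mem_sup.mp hw
    rw [lie_add, killed_of_mem b htop h1 i, zero_add]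
    have h3 := lie_e_mem b h2 i
    by_cases hij : i = j
    · subst hij
      have : r - al b i + al b i = r := by abel
      rw [this] at h3
      exact Submodule.mem_sup_left h3
    · rw [sub_add_eq_bot b hr htop hN hj hij] at h3
      have : ⁅b.e i, w2⁆ = 0 := by simpa using h3
      rw [this]; exact zero_mem _

include hr htop hN hj in
/-- Statement S17430 in function form. -/
theorem twoDim_iff (W : Submodule K L) :
    (finrank K W = 2 ∧
        ∀ x ∈ H.toSubmodule ⊔ (b.borelUpper : Submodule K L), ∀ w ∈ W, ⁅x, w⁆ ∈ W) ↔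
      W = (rootSpace H r : Submodule K L) ⊔ (rootSpace H (r - al b j) : Submodule K L) := by
  constructor
  · rintro ⟨hd, hst⟩
    have hWH := stable_H_of b W hst
    have hWe := stable_e_of b W hst
    have hW0 : W ≠ ⊥ := by
      intro h; rw [h, finrank_bot] at hd; omega
    have h1 := top_le b hr htop hj W hW0 hWH hWe
    have h2 : (rootSpace H r : Submodule K L) ≠ W := by
      intro h
      have := finrank_rootSpace hr (r_ne_zero b hj)
      have h3 : finrank K (rootSpace H r : Submodule K L) = 1 := this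
      rw [h, hd] at h3; omega
    have h3 := second_le b hr htop hN hj W h1 h2 hWH hWe
    symm
    apply Submodule.eq_of_le_of_finrank_eq (sup_le h1 h3)
    rw [finrank_two b hr htop hN hj, hd]
  · rintro rfl
    refine ⟨finrank_two b hr htop hN hj, ?_⟩
    obtain ⟨h1, h2⟩ := two_stable b hr htop hN hj
    exact stable_of b _ h1 h2

include hr htop hN hj in
/-- Statement S17431 in function form. -/
theorem threeDim (W : Submodule K L) (hd : finrank K W = 3)
    (hst : ∀ x ∈ H.toSubmodule ⊔ (b.borelUpper : Submodule K L), ∀ w ∈ W, ⁅x, w⁆ ∈ W) :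
    (rootSpace H r : Submodule K L) ⊔ (rootSpace H (r - al b j) : Submodule K L) ≤ W ∧
      ∃ i : ι, i ≠ j ∧ b.A i j ≠ 0 ∧
        W = (rootSpace H r : Submodule K L) ⊔ (rootSpace H (r - al b j) : Submodule K L) ⊔
          (rootSpace H (r - al b j - al b i) : Submodule K L) := by
  have hWH := stable_H_of b W hst
  have hWe := stable_e_of b W hst
  have hW0 : W ≠ ⊥ := by
    intro h; rw [h, finrank_bot] at hd; omega
  have h1 := top_le b hr htop hj W hW0 hWH hWe
  have h2 : (rootSpace H r : Submodule K L) ≠ W := by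
    intro h
    have h3 : finrank K (rootSpace H r : Submodule K L) = 1 :=
      finrank_rootSpace hr (r_ne_zero b hj)
    rw [h, hd] at h3; omega
  have h3 := second_le b hr htop hN hj W h1 h2 hWH hWe
  have hle : (rootSpace H r : Submodule K L) ⊔ (rootSpace H (r - al b j) : Submodule K L) ≤ W :=
    sup_le h1 h3
  refine ⟨hle, ?_⟩
  have hne : (rootSpace H r : Submodule K L) ⊔ (rootSpace H (r - al b j) : Submodule K L) ≠ W := by
    intro h
    have := finrank_two b hr htop hN hj
    rw [h, hd] at this; omega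
  obtain ⟨χ, w, hwW, hw2, hwχ, hnext⟩ := exists_next b _ W hle hne hWH hWe
  have hw0 : w ≠ 0 := fun h => hw2 (h ▸ zero_mem _)
  obtain ⟨v, hv, hv0⟩ := exists_ne_zero_of_ne_bot hr
  have hχr : χ ≠ r := fun h => hw2 (Submodule.mem_sup_left (h ▸ hwχ))
  have hχr' : χ ≠ r - al b j := fun h => hw2 (Submodule.mem_sup_right (h ▸ hwχ))
  have hex : ∃ i, ⁅b.e i, w⁆ ≠ 0 := by
    by_contra hcon
    push Not at hcon
    exact hχr (weight_eq_of_killed b hwχ hw0 hcon hv hv0 (killed_of_mem b htop hv))
  obtain ⟨i, hi⟩ := hex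
  have hmem : χ + al b i ∈ ({r, r - al b j} : Set (H → K)) := by
    by_contra hnot
    refine hi (eq_zero_of_mem_of_mem_biSup hnot (lie_e_mem b hwχ i) ?_)
    rw [iSup_insert, iSup_singleton, ← LieSubmodule.mem_toSubmodule, LieSubmodule.sup_toSubmodule]
    exact hnext i
  rcases hmem with h | h
  · exfalso
    have h2' : χ = r - al b i := by rw [← h]; abel
    have hij : i = j := by
      refine (sub_al_ne_bot_iff b hr htop hN i).1 ?_
      rw [← h2']; exact ne_bot_of_mem hwχ hw0
    subst hij
    exact hχr' h2'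
  · have h' : χ + al b i = r - al b j := h
    have h2' : χ = r - al b j - al b i := by rw [← h']; abel
    have hij : i ≠ j := by
      intro hij
      subst hij
      have h4 : χ = r - 2 • al b i := by rw [h2', two_smul]; abel
      have := ne_bot_of_mem hwχ hw0
      rw [h4] at this
      exact this (sub_two_al_eq_bot b hr htop hj)
    have hbot : rootSpace H (r - al b j - al b i) ≠ ⊥ := by
      rw [← h2']; exact ne_bot_of_mem hwχ hw0
    refine ⟨i, hij, (sub_sub_ne_bot_iff b hr htop hN hj hij).1 hbot, ?_⟩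
    have hχ0 := sub_sub_ne_zero b hr htop hN hij
    rw [h2'] at hwχ
    have h5 : (rootSpace H (r - al b j - al b i) : Submodule K L) ≤ W := by
      rw [rootSpace_eq_span hχ0 hwχ hw0, Submodule.span_singleton_le_iff_mem]
      exact hwW
    symm
    apply Submodule.eq_of_le_of_finrank_eq (sup_le hle h5)
    rw [hd]
    refine finrank_sup_three ?_ ?_ ?_ (finrank_rootSpace hr (r_ne_zero b hj))
      (finrank_rootSpace ((sub_al_ne_bot_iff b hr htop hN j).2 rfl) (r_sub_al_ne_zero b hj))
      (finrank_rootSpace hbot hχ0)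
    · intro h
      apply al_ne_zero b j
      have : al b j = r - (r - al b j) := by abel
      rw [this, ← h, sub_self]
    · intro h
      apply hχr
      rw [h2', ← h]
    · intro h
      apply al_ne_zero b i
      have : al b i = (r - al b j) - (r - al b j - al b i) := by abel
      rw [this, ← h, sub_self]

end Rho

end Groth.Agent.Lib.Helper24.AdjVar
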