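import Mathlib

set_option autoImplicit false
open Module QuadraticMap

noncomputable section

namespace Groth.Agent.Lib.Helper24.AdjVarE

variable {K : Type*} [Field K] [CharZero K] {V : Type*} [AddCommGroup V] [Module K V]

theorem q_three (q : QuadraticForm K V) (x y z : V) :
    q (x + y + z) = q x + q y + q z + polar q x y + polar q x z + polar q y z := by
  rw [QuadraticMap.map_add q, QuadraticMap.map_add q, polar_add_left]; ring

theorem q_expand (bs : Basis (Fin 3) K V) (q : QuadraticForm K V) (w : V) :
    q w = bs.repr w 0 ^ 2 * q (bs 0) + bs.repr w 1 ^ 2 * q (bs 1) + bs.repr w 2 ^ 2 * q (bs 2)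
      + bs.repr w 0 * bs.repr w 1 * polar q (bs 0) (bs 1)
      + bs.repr w 0 * bs.repr w 2 * polar q (bs 0) (bs 2)
      + bs.repr w 1 * bs.repr w 2 * polar q (bs 1) (bs 2) := by
  conv_lhs => rw [← bs.sum_repr w, Fin.sum_univ_three, q_three]
  simp only [QuadraticMap.map_smul, polar_smul_left, polar_smul_right, smul_eq_mul]
  ring

/-- exponents of the weights of the basis vectors -/
def xs : Fin 3 → ℤ := ![0, 1, 1]
/-- exponents of the weights of the basis vectors -/
def ys : Fin 3 → ℤ := ![0, 0, 1]

theorem conic_aux (bs : Basis (Fin 3) K V) (q : QuadraticForm K V) {ι' : Type*}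
    (D : ι' → V →ₗ[K] V) (r a c : ι' → K)
    (hind : ∀ x y : ℤ, (∀ h, (x : K) * a h + (y : K) * c h = 0) → x = 0 ∧ y = 0)
    (hD : ∀ h k, D h (bs k) = (r h - xs k * a h - ys k * c h) • bs k)
    (Ej Ei : V →ₗ[K] V) (t s : K) (ht : t ≠ 0) (hs : s ≠ 0)
    (hEj1 : Ej (bs 1) = t • bs 0) (hEj2 : Ej (bs 2) = 0)
    (hEi2 : Ei (bs 2) = s • bs 1)
    (hqD : ∀ h, ∃ d, ∀ w, polar q (D h w) w = d * q w)
    (hqEj : ∃ d, ∀ w, polar q (Ej w) w = d * q w)
    (hqEi : ∃ d, ∀ w, polar q (Ei w) w = d * q w) :
    ∃ (ℓ : Dual K V) (d : K), ∀ w, q w = d * ℓ w ^ 2 := by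
  classical
  choose d hd using hqD
  -- coefficient function
  let cf : Fin 3 → Fin 3 → K := fun k l => if k = l then q (bs k) else polar q (bs k) (bs l)
  let lam : Fin 3 → ι' → K := fun k h => r h - xs k * a h - ys k * c h
  -- Step 1
  have diag : ∀ h k, (2 * lam k h - d h) * q (bs k) = 0 := by
    intro h k
    have := hd h (bs k)
    rw [hD, polar_smul_left, polar_self, smul_eq_mul] at this
    linear_combination this
  have step1 : ∀ k l, cf k l ≠ 0 → ∀ h, lam k h + lam l h = d h := by
    intro k l hkl h
    by_cases hkl' : k = l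
    · subst hkl'
      simp only [cf, if_true] at hkl
      have := diag h k
      rcases mul_eq_zero.mp this with h1 | h1
      · linear_combination h1
      · exact absurd h1 hkl
    · simp only [cf, if_neg hkl'] at hkl
      have := hd h (bs k + bs l)
      rw [_root_.map_add, hD, hD, polar_add_left, polar_add_right, polar_add_right, polar_smul_left,
        polar_smul_left, polar_smul_left, polar_smul_left, polar_self, polar_self,
        QuadraticMap.map_add q, polar_comm q (bs l) (bs k)] at this
      simp only [smul_eq_mul] at this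
      have h1 := diag h k
      have h2 := diag h l
      have h3 : (lam k h + lam l h - d h) * polar q (bs k) (bs l) = 0 := by
        linear_combination this - h1 - h2
      rcases mul_eq_zero.mp h3 with h4 | h4
      · linear_combination h4
      · exact absurd h4 hkl
  have key : ∀ k l k' l', cf k l ≠ 0 → cf k' l' ≠ 0 →
      xs k + xs l = xs k' + xs l' ∧ ys k + ys l = ys k' + ys l' := by
    intro k l k' l' h1 h2
    have e1 := step1 k l h1
    have e2 := step1 k' l' h2
    have := hind (xs k' + xs l' - (xs k + xs l)) (ys k' + ys l' - (ys k + ys l)) (by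
      intro h
      have := (e1 h).trans (e2 h).symm
      simp only [lam] at this
      push_cast
      linear_combination this)
    constructor <;> omega
  -- coefficients
  have hB01 : polar q (bs 0) (bs 1) = 0 := by
    by_contra hne
    have hc : cf 0 1 ≠ 0 := by simpa [cf] using hne
    have hq1 : q (bs 1) = 0 := by
      by_contra hne1
      have hc' : cf 1 1 ≠ 0 := by simpa [cf] using hne1
      have := key 0 1 1 1 hc hc'
      simp [xs, ys] at this
    obtain ⟨dj, hdj⟩ := hqEj
    have := hdj (bs 1)
    rw [hEj1, polar_smul_left, hq1, smul_eq_mul, mul_zero] at this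
    rcases mul_eq_zero.mp this with h | h
    · exact ht h
    · exact hne h
  have hq1' : polar q (bs 0) (bs 2) ≠ 0 → q (bs 1) = 0 ∧ q (bs 2) = 0 ∧ polar q (bs 1) (bs 2) = 0 := by
    intro hne
    have hc : cf 0 2 ≠ 0 := by simpa [cf] using hne
    refine ⟨?_, ?_, ?_⟩
    · by_contra hne1
      have hc' : cf 1 1 ≠ 0 := by simpa [cf] using hne1
      have := key 0 2 1 1 hc hc'
      simp [xs, ys] at this
    · by_contra hne1
      have hc' : cf 2 2 ≠ 0 := by simpa [cf] using hne1
      have := key 0 2 2 2 hc hc'
      simp [xs, ys] at this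
    · by_contra hne1
      have hc' : cf 1 2 ≠ 0 := by simpa [cf] using hne1
      have := key 0 2 1 2 hc hc'
      simp [xs, ys] at this
  have hB02 : polar q (bs 0) (bs 2) = 0 := by
    by_contra hne
    obtain ⟨h1, h2, h3⟩ := hq1' hne
    obtain ⟨dj, hdj⟩ := hqEj
    have := hdj (bs 1 + bs 2)
    rw [_root_.map_add, hEj1, hEj2, add_zero, polar_smul_left, polar_add_right, hB01, zero_add,
      QuadraticMap.map_add q, h1, h2, h3, smul_eq_mul] at this
    simp only [add_zero, mul_zero] at this
    rcases mul_eq_zero.mp this with h | h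
    · exact ht h
    · exact hne h
  have hB12 : polar q (bs 1) (bs 2) = 0 := by
    by_contra hne
    have hc : cf 1 2 ≠ 0 := by simpa [cf] using hne
    have hq2 : q (bs 2) = 0 := by
      by_contra hne1
      have hc' : cf 2 2 ≠ 0 := by simpa [cf] using hne1
      have := key 1 2 2 2 hc hc'
      simp [xs, ys] at this
    obtain ⟨di, hdi⟩ := hqEi
    have := hdi (bs 2)
    rw [hEi2, polar_smul_left, hq2, smul_eq_mul, mul_zero] at this
    rcases mul_eq_zero.mp this with h | h
    · exact hs h
    · exact hne h
  have hexp : ∀ w, q w = bs.repr w 0 ^ 2 * q (bs 0) + bs.repr w 1 ^ 2 * q (bs 1)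
      + bs.repr w 2 ^ 2 * q (bs 2) := by
    intro w
    rw [q_expand bs q w, hB01, hB02, hB12]; ring
  by_cases h0 : q (bs 0) = 0
  · by_cases h1 : q (bs 1) = 0
    · refine ⟨bs.coord 2, q (bs 2), fun w => ?_⟩
      rw [hexp w, h0, h1, Basis.coord_apply]; ring
    · have h2 : q (bs 2) = 0 := by
        by_contra hne
        have := key 1 1 2 2 (by simpa [cf] using h1) (by simpa [cf] using hne)
        simp [xs, ys] at this
      refine ⟨bs.coord 1, q (bs 1), fun w => ?_⟩
      rw [hexp w, h0, h2, Basis.coord_apply]; ring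
  · have h1 : q (bs 1) = 0 := by
      by_contra hne
      have := key 0 0 1 1 (by simpa [cf] using h0) (by simpa [cf] using hne)
      simp [xs, ys] at this
    have h2 : q (bs 2) = 0 := by
      by_contra hne
      have := key 0 0 2 2 (by simpa [cf] using h0) (by simpa [cf] using hne)
      simp [xs, ys] at this
    refine ⟨bs.coord 0, q (bs 0), fun w => ?_⟩
    rw [hexp w, h1, h2, Basis.coord_apply]; ring

end Groth.Agent.Lib.Helper24.AdjVarE
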