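import Mathlib
import Groth.Agent.Lib.Helper24AdjVarD
import Groth.Agent.Lib.Helper24AdjVarE

set_option autoImplicit false
universe u v w
open LieAlgebra LieModule Module

noncomputable section

namespace Groth.Agent.Lib.Helper24.AdjVar

variable {ι : Type u} {K : Type v} {L : Type w} [Fintype ι] [Field K] [CharZero K]
    [IsAlgClosed K] [LieRing L] [LieAlgebra K L] [FiniteDimensional K L] [LieAlgebra.IsSimple K L]
    {H : LieSubalgebra K L} [H.IsCartanSubalgebra] (b : LieAlgebra.Basis ι H)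

/-- `e i` is injective on the root space of `β - α i` when `β` has a primitive vector with
nonzero `h i`-eigenvalue. -/
theorem lie_e_ne_zero {β : H → K} {v : L} (hv : v ∈ rootSpace H β) (hv0 : v ≠ 0) (i : ι)
    (hkill : ⁅b.e i, v⁆ = 0) (hβi : β (b.h' i) ≠ 0) (hne : β - al b i ≠ 0)
    {w : L} (hw : w ∈ rootSpace H (β - al b i)) (hw0 : w ≠ 0) : ⁅b.e i, w⁆ ≠ 0 := by
  have hu : ⁅b.f i, v⁆ ∈ rootSpace H (β - al b i) := lie_f_mem b hv i
  have heu : ⁅b.e i, ⁅b.f i, v⁆⁆ = β (b.h' i) • v := by
    rw [leibniz_lie, hkill, lie_zero, add_zero, (b.sl2 i).lie_e_f]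
    exact lie_h_eq hv (b.h' i)
  have hu0 : ⁅b.f i, v⁆ ≠ 0 := by
    intro h
    rw [h, lie_zero] at heu
    exact (smul_ne_zero hβi hv0) heu.symm
  have hspan := rootSpace_eq_span hne hu hu0
  have hw' : w ∈ (rootSpace H (β - al b i) : Submodule K L) := hw
  rw [hspan, Submodule.mem_span_singleton] at hw'
  obtain ⟨c, rfl⟩ := hw'
  have hc : c ≠ 0 := by
    intro h; apply hw0; rw [h, zero_smul]
  rw [lie_smul, heu]
  exact smul_ne_zero hc (smul_ne_zero hβi hv0)

theorem exists_smul_eq {χ : H → K} (hχ0 : χ ≠ 0) {v : L} (hv : v ∈ rootSpace H χ) (hv0 : v ≠ 0)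
    {x : L} (hx : x ∈ rootSpace H χ) : ∃ t : K, x = t • v := by
  have hx' : x ∈ (rootSpace H χ : Submodule K L) := hx
  rw [rootSpace_eq_span hχ0 hv hv0, Submodule.mem_span_singleton] at hx'
  obtain ⟨t, rfl⟩ := hx'
  exact ⟨t, rfl⟩

theorem al_pair_indep {i j : ι} (hij : i ≠ j) (x y : ℤ)
    (h : ∀ h : H, (x : K) * al b j h + (y : K) * al b i h = 0) : x = 0 ∧ y = 0 := by
  have hinj : Function.Injective ![j, i] := by
    intro p p' hp
    fin_cases p <;> fin_cases p' <;> simp_all
  have hli := b.linearIndependent_baseSupp.comp ![j, i] hinj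
  have e : b.baseSupp ∘ ![j, i] = ![b.baseSupp j, b.baseSupp i] := by
    funext k; fin_cases k <;> rfl
  rw [e, LinearIndependent.pair_iff] at hli
  have := hli (x : K) (y : K) (by
    ext z
    simpa [al] using h z)
  exact ⟨by exact_mod_cast this.1, by exact_mod_cast this.2⟩

section Rho

variable {r : H → K} (hr : rootSpace H r ≠ ⊥) (htop : ∀ i, rootSpace H (r + al b i) = ⊥)
  {j : ι} (hN : ∀ i, r (b.h' i) ≠ 0 ↔ i = j) (hj : r (b.h' j) = 1)

include hr htop hN hj in
/-- Statement S17432 in function form. -/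
theorem conic (W : Submodule K L) (hd : finrank K W = 3)
    (hst : ∀ x ∈ H.toSubmodule ⊔ (b.borelUpper : Submodule K L), ∀ w ∈ W, ⁅x, w⁆ ∈ W)
    (q : QuadraticForm K W)
    (hq : ∀ (x : L) (hx : x ∈ H.toSubmodule ⊔ (b.borelUpper : Submodule K L)), ∃ c : K, ∀ w : W,
      QuadraticMap.polar q ⟨⁅x, (w : L)⁆, hst x hx w w.property⟩ w = c * q w) :
    ∃ (ℓ : Module.Dual K W) (c : K), ∀ w : W, q w = c * ℓ w ^ 2 := by
  obtain ⟨hle, i, hij, hA, hWeq⟩ := threeDim b hr htop hN hj W hd hst
  have hβ : rootSpace H (r - al b j) ≠ ⊥ := (sub_al_ne_bot_iff b hr htop hN j).2 rfl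
  have hμ : rootSpace H (r - al b j - al b i) ≠ ⊥ :=
    (sub_sub_ne_bot_iff b hr htop hN hj hij).2 hA
  have hr0 := r_ne_zero b hj
  have hβ0 := r_sub_al_ne_zero b hj
  have hμ0 := sub_sub_ne_zero b hr htop hN hij
  obtain ⟨v1, hv1, hv10⟩ := exists_ne_zero_of_ne_bot hr
  obtain ⟨v2, hv2, hv20⟩ := exists_ne_zero_of_ne_bot hβ
  obtain ⟨v3, hv3, hv30⟩ := exists_ne_zero_of_ne_bot hμ
  have hv1W : v1 ∈ W := hle (Submodule.mem_sup_left hv1)
  have hv2W : v2 ∈ W := hle (Submodule.mem_sup_right hv2)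
  have hv3W : v3 ∈ W := by rw [hWeq]; exact Submodule.mem_sup_right hv3
  -- the basis
  let wt : Fin 3 → (H → K) := ![r, r - al b j, r - al b j - al b i]
  have hwt : Function.Injective wt := by
    have h01 : r ≠ r - al b j := by
      intro h; apply al_ne_zero b j
      have : al b j = r - (r - al b j) := by abel
      rw [this, ← h, sub_self]
    have h12 : r - al b j ≠ r - al b j - al b i := by
      intro h; apply al_ne_zero b i
      have : al b i = (r - al b j) - (r - al b j - al b i) := by abel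
      rw [this, ← h, sub_self]
    have h02 : r ≠ r - al b j - al b i := by
      intro h
      have := al_pair_indep b hij 1 1 (fun z => by
        have := congrFun h z
        simp only [Pi.sub_apply] at this
        push_cast
        linear_combination this)
      omega
    intro p p' hp
    fin_cases p <;> fin_cases p'
    all_goals first | rfl | (exfalso; first | exact h01 hp | exact h02 hp | exact h12 hp | exact h01 hp.symm | exact h02 hp.symm | exact h12 hp.symm)
  let vL : Fin 3 → L := ![v1, v2, v3]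
  have hvL : LinearIndependent K vL := by
    have hind := (LieSubmodule.iSupIndep_toSubmodule.mpr
      (iSupIndep_genWeightSpace K H L)).comp hwt
    refine iSupIndep.linearIndependent _ hind ?_ ?_
    · intro k; fin_cases k
      · exact hv1
      · exact hv2
      · exact hv3
    · intro k; fin_cases k
      · exact hv10
      · exact hv20
      · exact hv30
  let vv : Fin 3 → W := ![⟨v1, hv1W⟩, ⟨v2, hv2W⟩, ⟨v3, hv3W⟩]
  have hvv : LinearIndependent K vv := by
    apply LinearIndependent.of_comp W.subtype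
    have : W.subtype ∘ vv = vL := by
      funext k; fin_cases k <;> rfl
    rw [this]; exact hvL
  let bs : Basis (Fin 3) K W := basisOfLinearIndependentOfCardEqFinrank hvv (by simp [hd])
  have hbs : ∀ k, bs k = vv k := fun k => by
    simp [bs, coe_basisOfLinearIndependentOfCardEqFinrank]
  -- operators
  let D : H → W →ₗ[K] W := fun h => (LieAlgebra.ad K L (h : L)).restrict (p := W) (q := W)
    (fun w hw => hst _ (Submodule.mem_sup_left h.2) w hw)
  have hemem : ∀ k, b.e k ∈ H.toSubmodule ⊔ (b.borelUpper : Submodule K L) := by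
    intro k
    refine Submodule.mem_sup_right ?_
    have : b.e k ∈ LieSubalgebra.lieSpan K L (Set.range b.e) :=
      LieSubalgebra.subset_lieSpan ⟨k, rfl⟩
    show b.e k ∈ b.borelUpper
    simpa [LieAlgebra.Basis.borelUpper] using this
  let E : ι → W →ₗ[K] W := fun k => (LieAlgebra.ad K L (b.e k)).restrict (p := W) (q := W)
    (fun w hw => hst _ (hemem k) w hw)
  -- e_j v2 = t v1
  have hej2 : ⁅b.e j, v2⁆ ∈ rootSpace H r := by
    have := lie_e_mem b hv2 j
    have e : r - al b j + al b j = r := by abel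
    rwa [e] at this
  obtain ⟨t, ht⟩ := exists_smul_eq hr0 hv1 hv10 hej2
  have ht0 : t ≠ 0 := by
    intro h
    have := lie_e_ne_zero b hv1 hv10 j (killed_of_mem b htop hv1 j) (by rw [hj]; exact one_ne_zero)
      hβ0 hv2 hv20
    apply this; rw [ht, h, zero_smul]
  -- e_j v3 = 0
  have hej3 : ⁅b.e j, v3⁆ = 0 := by
    have := lie_e_mem b hv3 j
    have e : r - al b j - al b i + al b j = r - al b i := by abel
    rw [e] at this
    have hbot : rootSpace H (r - al b i) = ⊥ := by
      by_contra h; exact hij ((sub_al_ne_bot_iff b hr htop hN i).1 h)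
    rw [hbot] at this
    simpa using this
  -- e_i v3 = s v2
  have hei3 : ⁅b.e i, v3⁆ ∈ rootSpace H (r - al b j) := by
    have := lie_e_mem b hv3 i
    have e : r - al b j - al b i + al b i = r - al b j := by abel
    rwa [e] at this
  obtain ⟨s, hs⟩ := exists_smul_eq hβ0 hv2 hv20 hei3
  have hei2 : ⁅b.e i, v2⁆ = 0 := by
    have := lie_e_mem b hv2 i
    rw [sub_add_eq_bot b hr htop hN hj hij] at this
    simpa using this
  have hs0 : s ≠ 0 := by
    intro h
    have hβi : (r - al b j) (b.h' i) ≠ 0 := by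
      have h5 : r (b.h' i) = 0 := by
        by_contra h; exact hij ((hN i).1 h)
      rw [Pi.sub_apply, h5, al_apply_h', zero_sub, neg_ne_zero]
      have := (A_eq_zero_iff b i j).not.1 hA
      exact_mod_cast this
    have := lie_e_ne_zero b hv2 hv20 i hei2 hβi hμ0 hv3 hv30
    apply this; rw [hs, h, zero_smul]
  -- apply the abstract lemma
  refine AdjVarE.conic_aux bs q D r (al b j) (al b i) (al_pair_indep b hij) ?_ (E j) (E i) t s
    ht0 hs0 ?_ ?_ ?_ ?_ ?_ ?_
  · intro h k
    rw [hbs]
    apply Subtype.ext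
    fin_cases k
    · show ⁅(h : L), v1⁆ = _
      rw [lie_h_eq hv1 h]
      simp [AdjVarE.xs, AdjVarE.ys, vv]
    · show ⁅(h : L), v2⁆ = _
      rw [lie_h_eq hv2 h]
      simp [AdjVarE.xs, AdjVarE.ys, vv]
    · show ⁅(h : L), v3⁆ = _
      rw [lie_h_eq hv3 h]
      simp [AdjVarE.xs, AdjVarE.ys, vv]
  · rw [hbs, hbs]
    apply Subtype.ext
    show ⁅b.e j, v2⁆ = _
    rw [ht]; simp [vv]
  · rw [hbs]
    apply Subtype.ext
    show ⁅b.e j, v3⁆ = _
    rw [hej3]; simp
  · rw [hbs, hbs]
    apply Subtype.ext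
    show ⁅b.e i, v3⁆ = _
    rw [hs]; simp [vv]
  · intro h
    exact hq (h : L) (Submodule.mem_sup_left h.2)
  · exact hq (b.e j) (hemem j)
  · exact hq (b.e i) (hemem i)

end Rho

end Groth.Agent.Lib.Helper24.AdjVar
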