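import Mathlib

set_option autoImplicit false
set_option linter.unusedSectionVars false
set_option linter.unusedSimpArgs false
open Module LieAlgebra

noncomputable section

namespace Groth.Agent.Lib.Helper24.AdjVarG

variable {K : Type*} {L : Type*} [Field K] [CharZero K] [LieRing L] [LieAlgebra K L]

/-- Bracket table of a five-dimensional Lie algebra `sl₂ ⋉ (2-dim abelian ideal)`. -/
structure Table (e f h x y : L) (lam mu kap kap' : K) : Prop where
  ef : ⁅e, f⁆ = h
  he : ⁅h, e⁆ = (2 : K) • e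
  hf : ⁅h, f⁆ = -((2 : K) • f)
  hx : ⁅h, x⁆ = lam • x
  hy : ⁅h, y⁆ = mu • y
  ex : ⁅e, x⁆ = 0
  ey : ⁅e, y⁆ = kap • x
  fx : ⁅f, x⁆ = kap' • y
  fy : ⁅f, y⁆ = 0
  xy : ⁅x, y⁆ = 0

variable {e f h x y : L} {lam mu kap kap' : K}

/-- linear combination -/
def comb (e f h x y : L) (c : Fin 5 → K) : L :=
  c 0 • e + c 1 • f + c 2 • h + c 3 • x + c 4 • y

namespace Table

variable (T : Table e f h x y lam mu kap kap')
include T

theorem fe : ⁅f, e⁆ = -h := by rw [← lie_skew, T.ef]
theorem eh : ⁅e, h⁆ = -((2 : K) • e) := by rw [← lie_skew, T.he]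
theorem fh : ⁅f, h⁆ = (2 : K) • f := by rw [← lie_skew, T.hf, neg_neg]
theorem xh : ⁅x, h⁆ = -(lam • x) := by rw [← lie_skew, T.hx]
theorem yh : ⁅y, h⁆ = -(mu • y) := by rw [← lie_skew, T.hy]
theorem xe : ⁅x, e⁆ = 0 := by rw [← lie_skew, T.ex, neg_zero]
theorem ye : ⁅y, e⁆ = -(kap • x) := by rw [← lie_skew, T.ey]
theorem xf : ⁅x, f⁆ = -(kap' • y) := by rw [← lie_skew, T.fx]
theorem yf : ⁅y, f⁆ = 0 := by rw [← lie_skew, T.fy, neg_zero]
theorem yx : ⁅y, x⁆ = 0 := by rw [← lie_skew, T.xy, neg_zero]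

theorem bracket_formula (c c' : Fin 5 → K) :
    ⁅comb e f h x y c, comb e f h x y c'⁆ =
      comb e f h x y ![2 * (c 2 * c' 0 - c 0 * c' 2), 2 * (c 1 * c' 2 - c 2 * c' 1),
        c 0 * c' 1 - c 1 * c' 0,
        lam * (c 2 * c' 3 - c 3 * c' 2) + kap * (c 0 * c' 4 - c 4 * c' 0),
        mu * (c 2 * c' 4 - c 4 * c' 2) + kap' * (c 1 * c' 3 - c 3 * c' 1)] := by
  simp only [comb, lie_add, add_lie, lie_smul, smul_lie, lie_self, T.ef, T.he, T.hf, T.hx, T.hy,
    T.ex, T.ey, T.fx, T.fy, T.xy, T.fe, T.eh, T.fh, T.xh, T.yh, T.xe, T.ye, T.xf, T.yf, T.yx,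
    Matrix.cons_val_zero, Matrix.cons_val_one, Matrix.cons_val]
  module

end Table

theorem comb_single0 : comb e f h x y (Pi.single 0 (1 : K)) = e := by
  simp [comb]
theorem comb_single1 : comb e f h x y (Pi.single 1 (1 : K)) = f := by
  simp [comb]
theorem comb_single2 : comb e f h x y (Pi.single 2 (1 : K)) = h := by
  simp [comb]

theorem mem_span_iff (z : L) :
    z ∈ Submodule.span K (Set.range ![e, f, h, x, y]) ↔ ∃ c : Fin 5 → K, comb e f h x y c = z := by
  rw [Submodule.mem_span_range_iff_exists_fun]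
  simp [comb, Fin.sum_univ_five]

theorem comb_injective (hli : LinearIndependent K ![e, f, h, x, y]) :
    Function.Injective (comb (K := K) e f h x y) := by
  intro c c' hcc
  have key : ∑ i, (c - c') i • ![e, f, h, x, y] i = comb e f h x y c - comb e f h x y c' := by
    simp only [comb, Fin.sum_univ_five, Pi.sub_apply, Matrix.cons_val_zero,
      Matrix.cons_val_one, Matrix.cons_val]
    module
  have := Fintype.linearIndependent_iff.mp hli (c - c') (by rw [key, hcc, sub_self])
  funext i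
  have := this i
  simpa [sub_eq_zero] using this

/-- The span is closed under the bracket. -/
theorem closed (T : Table e f h x y lam mu kap kap') {u v : L}
    (hu : u ∈ Submodule.span K (Set.range ![e, f, h, x, y]))
    (hv : v ∈ Submodule.span K (Set.range ![e, f, h, x, y])) :
    ⁅u, v⁆ ∈ Submodule.span K (Set.range ![e, f, h, x, y]) := by
  obtain ⟨c, rfl⟩ := (mem_span_iff u).1 hu
  obtain ⟨c', rfl⟩ := (mem_span_iff v).1 hv
  rw [T.bracket_formula]
  exact (mem_span_iff _).2 ⟨_, rfl⟩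


namespace Table

variable (T : Table e f h x y lam mu kap kap')
include T

theorem ee_comb (c : Fin 5 → K) :
    ⁅e, ⁅e, comb e f h x y c⁆⁆ = (-2 * c 1) • e := by
  simp only [comb, lie_add, lie_smul, lie_self, T.ef, T.eh, T.ex, T.ey, smul_zero, lie_neg, lie_zero, neg_zero, add_zero, zero_add]
  module

theorem ff_comb (c : Fin 5 → K) :
    ⁅f, ⁅f, comb e f h x y c⁆⁆ = (-2 * c 0) • f := by
  simp only [comb, lie_add, lie_smul, lie_self, T.fe, T.fh, T.fx, T.fy, smul_zero, lie_neg, lie_zero, neg_zero, add_zero, zero_add]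
  module

theorem e_comb (c : Fin 5 → K) (h1 : c 1 = 0) :
    lam • ⁅e, comb e f h x y c⁆ - ⁅h, ⁅e, comb e f h x y c⁆⁆ = (2 * c 2 * (2 - lam)) • e := by
  simp only [comb, lie_add, lie_smul, lie_self, T.ef, T.eh, T.ex, T.ey, T.he, T.hx, smul_zero,
    lie_neg, h1, zero_smul, lie_zero, neg_zero, add_zero, zero_add]
  module

theorem comb_xy (c : Fin 5 → K) (s t : K) :
    ⁅comb e f h x y c, s • x + t • y⁆ =
      (lam * (c 2 * s) + kap * (c 0 * t)) • x + (mu * (c 2 * t) + kap' * (c 1 * s)) • y := by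
  simp only [comb, lie_add, add_lie, lie_smul, smul_lie, lie_self, T.ex, T.ey, T.fx, T.fy, T.hx,
    T.hy, T.xy, T.yx, smul_zero, lie_zero, neg_zero, add_zero, zero_add]
  module

theorem xy_xy (s t s' t' : K) : ⁅s • x + t • y, s' • x + t' • y⁆ = 0 := by
  simp only [lie_add, add_lie, lie_smul, smul_lie, lie_self, T.xy, T.yx, smul_zero, add_zero]

end Table

/-- An ideal containing part of an `sl₂`-triple is not solvable. -/
theorem not_solvable_of_mem {M : Type*} [LieRing M] [LieAlgebra K M] {e f h : M}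
    (hef : ⁅e, f⁆ = h) (hhe : ⁅h, e⁆ = (2 : K) • e) (hhf : ⁅h, f⁆ = -((2 : K) • f)) (he0 : e ≠ 0)
    (J : LieIdeal K M) (hJ : e ∈ J ∨ f ∈ J ∨ h ∈ J) : ¬ IsSolvable J := by
  have h2 : (2 : K) ≠ 0 := two_ne_zero
  have hh : h ∈ J := by
    rcases hJ with hJ | hJ | hJ
    · have : ⁅f, e⁆ ∈ J := lie_mem_right K M J f e hJ
      rw [← lie_skew, hef] at this
      simpa using this
    · rw [← hef]; exact lie_mem_right K M J e f hJ
    · exact hJ
  have key : ∀ (D : LieIdeal K M), e ∈ D → f ∈ D → h ∈ D →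
      e ∈ ⁅D, D⁆ ∧ f ∈ ⁅D, D⁆ ∧ h ∈ ⁅D, D⁆ := by
    intro D he hf hh
    refine ⟨?_, ?_, ?_⟩
    · have : ⁅h, e⁆ ∈ ⁅D, D⁆ := LieSubmodule.lie_mem_lie hh he
      rw [hhe] at this
      have := (⁅D, D⁆).smul_mem (2⁻¹ : K) this
      rwa [smul_smul, inv_mul_cancel₀ h2, one_smul] at this
    · have : ⁅h, f⁆ ∈ ⁅D, D⁆ := LieSubmodule.lie_mem_lie hh hf
      rw [hhf] at this
      have := (⁅D, D⁆).smul_mem (2⁻¹ : K) ((⁅D, D⁆).neg_mem this)
      rwa [neg_neg, smul_smul, inv_mul_cancel₀ h2, one_smul] at this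
    · rw [← hef]; exact LieSubmodule.lie_mem_lie he hf
  have heJ : e ∈ J := by
    have : ⁅h, e⁆ ∈ J := lie_mem_left K M J h e hh
    rw [hhe] at this
    have := J.smul_mem (2⁻¹ : K) this
    rwa [smul_smul, inv_mul_cancel₀ h2, one_smul] at this
  have hfJ : f ∈ J := by
    have : ⁅h, f⁆ ∈ J := lie_mem_left K M J h f hh
    rw [hhf] at this
    have := J.smul_mem (2⁻¹ : K) (J.neg_mem this)
    rwa [neg_neg, smul_smul, inv_mul_cancel₀ h2, one_smul] at this
  have all : ∀ k : ℕ, e ∈ derivedSeriesOfIdeal K M k J ∧ f ∈ derivedSeriesOfIdeal K M k J ∧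
      h ∈ derivedSeriesOfIdeal K M k J := by
    intro k
    induction k with
    | zero => exact ⟨heJ, hfJ, hh⟩
    | succ k ih =>
      rw [derivedSeriesOfIdeal_succ]
      exact key _ ih.1 ih.2.1 ih.2.2
  intro hsol
  obtain ⟨k, hk⟩ := IsSolvable.solvable K J
  rw [LieIdeal.derivedSeries_eq_bot_iff] at hk
  have := (all k).1
  rw [hk] at this
  exact he0 (by simpa using this)


section Main

variable [FiniteDimensional K L]

/-- The main abstract statement: a Lie subalgebra with basis `e f h x y` satisfying the bracket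
table has dimension `5`, and its radical is the span of `x, y`. -/
theorem five_dim (T : Table e f h x y lam mu kap kap') (hlam : lam ≠ 2)
    (hli : LinearIndependent K ![e, f, h, x, y])
    (A : LieSubalgebra K L)
    (hA : A.toSubmodule = Submodule.span K (Set.range ![e, f, h, x, y])) :
    finrank K A = 5 ∧ finrank K (radical K A) = 2 ∧
      (radical K A).toSubmodule.map (A.incl : A →ₗ⁅K⁆ L).toLinearMap = Submodule.span K {x, y} := by
  have memA : ∀ z : L, z ∈ A ↔ ∃ c : Fin 5 → K, comb e f h x y c = z := by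
    intro z
    rw [← mem_span_iff, ← hA]
    rfl
  have heA : e ∈ A := (memA e).2 ⟨_, comb_single0⟩
  have hfA : f ∈ A := (memA f).2 ⟨_, comb_single1⟩
  have hhA : h ∈ A := (memA h).2 ⟨_, comb_single2⟩
  have he0 : e ≠ 0 := by
    have := hli.ne_zero 0
    simpa using this
  -- the sl₂-triple inside `A`
  set e' : A := ⟨e, heA⟩ with he'
  set f' : A := ⟨f, hfA⟩ with hf'
  set h' : A := ⟨h, hhA⟩ with hh'
  have hef' : ⁅e', f'⁆ = h' := Subtype.ext (by simpa using T.ef)
  have hhe' : ⁅h', e'⁆ = (2 : K) • e' := Subtype.ext (by simpa using T.he)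
  have hhf' : ⁅h', f'⁆ = -((2 : K) • f') := Subtype.ext (by simpa using T.hf)
  have he0' : e' ≠ 0 := fun h0 => he0 (by simpa [he'] using congrArg Subtype.val h0)
  have hns : ∀ J : LieIdeal K A, IsSolvable J → e' ∉ J ∧ f' ∉ J ∧ h' ∉ J := by
    intro J hJ
    refine ⟨fun hm => ?_, fun hm => ?_, fun hm => ?_⟩
    · exact not_solvable_of_mem hef' hhe' hhf' he0' J (Or.inl hm) hJ
    · exact not_solvable_of_mem hef' hhe' hhf' he0' J (Or.inr (Or.inl hm)) hJ
    · exact not_solvable_of_mem hef' hhe' hhf' he0' J (Or.inr (Or.inr hm)) hJ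
  -- membership in the radical
  have hxA : x ∈ A := (memA x).2 ⟨Pi.single 3 1, by simp [comb]⟩
  have hyA : y ∈ A := (memA y).2 ⟨Pi.single 4 1, by simp [comb]⟩
  -- the abelian ideal
  let R2 : LieIdeal K A :=
    { (Submodule.span K {x, y}).comap (A.incl : A →ₗ⁅K⁆ L).toLinearMap with
      lie_mem := by
        intro a m hm
        change (m : L) ∈ Submodule.span K {x, y} at hm
        change ((⁅a, m⁆ : A) : L) ∈ Submodule.span K {x, y}
        obtain ⟨s, t, hst⟩ := Submodule.mem_span_pair.1 hm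
        obtain ⟨c, hc⟩ := (memA a).1 a.2
        rw [LieSubalgebra.coe_bracket, ← hc, ← hst, T.comb_xy]
        exact Submodule.mem_span_pair.2 ⟨_, _, rfl⟩ }
  have hR2 : ∀ z : A, z ∈ R2 ↔ (z : L) ∈ Submodule.span K {x, y} := fun z => Iff.rfl
  have hR2ab : IsLieAbelian R2 := by
    rw [LieAlgebra.abelian_iff_derived_one_eq_bot, derivedSeriesOfIdeal_succ,
      derivedSeriesOfIdeal_zero, LieSubmodule.lie_eq_bot_iff]
    intro a ha b hb
    obtain ⟨s, t, hst⟩ := Submodule.mem_span_pair.1 ((hR2 a).1 ha)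
    obtain ⟨s', t', hst'⟩ := Submodule.mem_span_pair.1 ((hR2 b).1 hb)
    apply Subtype.ext
    rw [LieSubalgebra.coe_bracket, ← hst, ← hst', T.xy_xy]
    rfl
  have hR2le : R2 ≤ radical K A := (LieIdeal.solvable_iff_le_radical K A R2).1 inferInstance
  have hradsol : IsSolvable (radical K A) := inferInstance
  obtain ⟨hne, hnf, hnh⟩ := hns _ hradsol
  have h2 : (2 : K) ≠ 0 := two_ne_zero
  -- membership in the radical
  have hrad : ∀ z : A, z ∈ radical K A ↔ (z : L) ∈ Submodule.span K {x, y} := by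
    intro z
    refine ⟨fun hz => ?_, fun hz => hR2le ((hR2 z).2 hz)⟩
    obtain ⟨c, hc⟩ := (memA z).1 z.2
    have mem_of_smul : ∀ (a : K) (u : A), a ≠ 0 → a • u ∈ radical K A → u ∈ radical K A := by
      intro a u ha hu
      have := (radical K A).smul_mem a⁻¹ hu
      rwa [smul_smul, inv_mul_cancel₀ ha, one_smul] at this
    have c1 : c 1 = 0 := by
      by_contra hne1
      have hm : ⁅e', ⁅e', z⁆⁆ ∈ radical K A :=
        lie_mem_right K A _ _ _ (lie_mem_right K A _ _ _ hz)
      have heq : ⁅e', ⁅e', z⁆⁆ = (-2 * c 1) • e' := by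
        apply Subtype.ext
        simp only [LieSubalgebra.coe_bracket, he', ← hc, T.ee_comb]
        rfl
      rw [heq] at hm
      exact hne (mem_of_smul _ _ (by simpa using hne1) hm)
    have c0 : c 0 = 0 := by
      by_contra hne0
      have hm : ⁅f', ⁅f', z⁆⁆ ∈ radical K A :=
        lie_mem_right K A _ _ _ (lie_mem_right K A _ _ _ hz)
      have heq : ⁅f', ⁅f', z⁆⁆ = (-2 * c 0) • f' := by
        apply Subtype.ext
        simp only [LieSubalgebra.coe_bracket, hf', ← hc, T.ff_comb]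
        rfl
      rw [heq] at hm
      exact hnf (mem_of_smul _ _ (by simpa using hne0) hm)
    have c2 : c 2 = 0 := by
      by_contra hne2
      have hw : ⁅e', z⁆ ∈ radical K A := lie_mem_right K A _ _ _ hz
      have hm : lam • ⁅e', z⁆ - ⁅h', ⁅e', z⁆⁆ ∈ radical K A :=
        (radical K A).sub_mem ((radical K A).smul_mem _ hw) (lie_mem_right K A _ _ _ hw)
      have heq : lam • ⁅e', z⁆ - ⁅h', ⁅e', z⁆⁆ = (2 * c 2 * (2 - lam)) • e' := by
        apply Subtype.ext
        have := T.e_comb c c1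
        rw [hc] at this
        simpa [he', hh'] using this
      rw [heq] at hm
      refine hne (mem_of_smul _ _ ?_ hm)
      exact mul_ne_zero (mul_ne_zero h2 hne2) (sub_ne_zero.2 (Ne.symm hlam))
    rw [← hc]
    refine Submodule.mem_span_pair.2 ⟨c 3, c 4, ?_⟩
    simp [comb, c0, c1, c2]
  have hmap : (radical K A).toSubmodule.map (A.incl : A →ₗ⁅K⁆ L).toLinearMap =
      Submodule.span K {x, y} := by
    ext w
    constructor
    · rintro ⟨z, hz, rfl⟩
      exact (hrad z).1 hz
    · intro hw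
      have hwA : w ∈ A := by
        have : Submodule.span K {x, y} ≤ A.toSubmodule := by
          rw [Submodule.span_le]
          rintro u (rfl | rfl)
          · exact hxA
          · exact hyA
        exact this hw
      exact ⟨⟨w, hwA⟩, (hrad ⟨w, hwA⟩).2 hw, rfl⟩
  have hxy : LinearIndependent K ![x, y] := by
    have := hli.comp ![3, 4] (by decide)
    convert this using 1
    funext i
    fin_cases i <;> rfl
  refine ⟨?_, ?_, hmap⟩
  · change finrank K A.toSubmodule = 5
    rw [hA, finrank_span_eq_card hli]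
    simp
  · have hinj : Function.Injective (A.incl : A →ₗ⁅K⁆ L).toLinearMap := Subtype.val_injective
    have h1 := (Submodule.equivMapOfInjective _ hinj (radical K A).toSubmodule).finrank_eq
    change finrank K (radical K A).toSubmodule = 2
    rw [h1, hmap]
    have := finrank_span_eq_card hxy
    rw [Matrix.range_cons_cons_empty] at this
    simpa using this

end Main

end Groth.Agent.Lib.Helper24.AdjVarG
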