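import Mathlib
import Groth.Agent.Lib.Helper24AdjVarF
import Groth.Agent.Lib.Helper24AdjVarG

/-! Helper24AdjVarH: the five-dimensional subalgebra generated by the root spaces of
`ρ`, `-ρ`, `ρ - α_j` and its radical. -/

set_option autoImplicit false
set_option linter.unusedSectionVars false
set_option linter.unusedSimpArgs false
universe u v w
open LieAlgebra LieModule Module

noncomputable section

namespace Groth.Agent.Lib.Helper24.AdjVar

variable {ι : Type u} {K : Type v} {L : Type w} [Fintype ι] [Field K] [CharZero K]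
    [IsAlgClosed K] [LieRing L] [LieAlgebra K L] [FiniteDimensional K L] [LieAlgebra.IsSimple K L]
    {H : LieSubalgebra K L} [H.IsCartanSubalgebra] (b : LieAlgebra.Basis ι H)

theorem neg_ne_bot {χ : H → K} (h : rootSpace H χ ≠ ⊥) : rootSpace H (-χ) ≠ ⊥ :=
  (-(⟨χ, h⟩ : Weight K H L)).genWeightSpace_ne_bot

theorem neg_eq_bot {χ : H → K} (h : rootSpace H χ = ⊥) : rootSpace H (-χ) = ⊥ := by
  by_contra h'
  have := neg_ne_bot h'
  rw [neg_neg] at this
  exact this h

include b in
theorem rootSpace_zero_ne_bot (i : ι) : rootSpace H (0 : H → K) ≠ ⊥ := by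
  refine ne_bot_of_mem (w := (b.h' i : L)) ?_ ?_
  · rw [rootSpace_zero_eq]; exact (b.h' i).2
  · exact (b.sl2 i).h_ne_zero

section Rho

variable {r : H → K} (hr : rootSpace H r ≠ ⊥) (htop : ∀ i, rootSpace H (r + al b i) = ⊥)
  {j : ι} (hN : ∀ i, r (b.h' i) ≠ 0 ↔ i = j) (hj : r (b.h' j) = 1)

include hr htop hj in
/-- `2r - α_j` is not a weight. -/
theorem two_sub_eq_bot : rootSpace H (r + (r - al b j)) = ⊥ := by
  by_contra h
  obtain ⟨v, hv, hv0⟩ := exists_ne_zero_of_ne_bot hr
  have hkill := killed_of_mem b htop hv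
  obtain ⟨l, hl⟩ := exists_eq_sub_of_killed b hv hv0 hkill h
  obtain ⟨l₀, hl₀⟩ := exists_eq_sub_of_killed b hv hv0 hkill (rootSpace_al_ne_bot b j)
  have h0 : wtSub b (l ++ l₀) = 0 := by
    rw [wtSub_append]
    have h1 : wtSub b l = al b j - r := by
      have : wtSub b l = r - (r + (r - al b j)) := by rw [hl]; abel
      rw [this]; abel
    have h2 : wtSub b l₀ = r - al b j := by
      have : wtSub b l₀ = r - al b j := by rw [hl₀]; abel
      exact this
    rw [h1, h2]; abel
  rw [wtSub_eq_zero_iff] at h0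
  have hl0 : l₀ = [] := (List.append_eq_nil_iff.1 h0).2
  rw [hl0] at hl₀
  apply r_sub_al_ne_zero b hj
  rw [hl₀]
  simp [wtSub]

include hr htop hN hj in
theorem five_dim_main (A : LieSubalgebra K L)
    (hA : A = LieSubalgebra.lieSpan K L
      ((rootSpace H r : Set L) ∪ (rootSpace H (-r) : Set L) ∪ (rootSpace H (r - al b j) : Set L))) :
    finrank K A = 5 ∧ finrank K (radical K A) = 2 ∧
      (radical K A).toSubmodule.map (A.incl : A →ₗ⁅K⁆ L).toLinearMap =
        (rootSpace H (r - al b j) : Submodule K L) ⊔ (rootSpace H (-al b j) : Submodule K L) := by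
  -- weights
  set rW : Weight K H L := ⟨r, hr⟩ with hrW
  have hr0 : r ≠ 0 := r_ne_zero b hj
  have hnz : rW.IsNonZero := fun h => hr0 h.eq
  have hβ : rootSpace H (r - al b j) ≠ ⊥ := (sub_al_ne_bot_iff b hr htop hN j).2 rfl
  have hβ0 : r - al b j ≠ 0 := r_sub_al_ne_zero b hj
  have hα0 : -al b j ≠ 0 := neg_ne_zero.2 (al_ne_zero b j)
  -- elements
  obtain ⟨h, e, f, ht, he, hf⟩ := IsKilling.exists_isSl2Triple_of_weight_isNonZero hnz
  have he : e ∈ rootSpace H r := he
  have hf : f ∈ rootSpace H (-r) := hf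
  obtain ⟨x, hx, hx0⟩ := exists_ne_zero_of_ne_bot hβ
  have hy : b.f j ∈ rootSpace H (-al b j) := f_mem b j
  have hy0 : b.f j ≠ 0 := (b.sl2 j).f_ne_zero
  have he0 : e ≠ 0 := ht.e_ne_zero
  have hf0 : f ≠ 0 := ht.f_ne_zero
  have hcor : h = ((IsKilling.coroot rW : H) : L) := ht.h_eq_coroot hnz he hf
  -- the λ-value
  have hlam : (r - al b j) (IsKilling.coroot rW) = 1 := by
    set βW : Weight K H L := ⟨r - al b j, hβ⟩ with hβW
    have hc := IsKilling.apply_coroot_eq_cast rW βW
    have hchain := IsKilling.rootSpace_zsmul_add_ne_bot_iff rW βW hnz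
    have hcoeβ : (⇑βW : H → K) = r - al b j := rfl
    have hcoer : (⇑rW : H → K) = r := rfl
    -- n = 1
    have e1 : (1 : ℤ) • (⇑rW : H → K) + ⇑βW = r + (r - al b j) := by
      rw [one_smul, hcoeβ, hcoer]
    have h1' : ¬ ((1 : ℤ) ≤ chainTopCoeff rW βW ∧ -(1 : ℤ) ≤ chainBotCoeff rW βW) := by
      intro hh
      have := (hchain 1).2 hh
      rw [e1] at this
      exact this (two_sub_eq_bot b hr htop hj)
    -- n = -1
    have e2 : (-1 : ℤ) • (⇑rW : H → K) + ⇑βW = -al b j := by
      rw [hcoeβ, hcoer, neg_smul, one_smul]; abel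
    have h2' : (-1 : ℤ) ≤ chainTopCoeff rW βW ∧ -(-1 : ℤ) ≤ chainBotCoeff rW βW := by
      apply (hchain (-1)).1
      rw [e2]
      exact ne_bot_of_mem hy hy0
    -- n = -2
    have e3 : (-2 : ℤ) • (⇑rW : H → K) + ⇑βW = -(r + al b j) := by
      rw [hcoeβ, hcoer, neg_smul, two_smul]; abel
    have h3' : ¬ ((-2 : ℤ) ≤ chainTopCoeff rW βW ∧ -(-2 : ℤ) ≤ chainBotCoeff rW βW) := by
      intro hh
      have := (hchain (-2)).2 hh
      rw [e3] at this
      exact this (neg_eq_bot (htop j))
    have hbot : (chainBotCoeff rW βW : ℤ) = 1 := by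
      have := Int.natCast_nonneg (chainTopCoeff rW βW)
      have := Int.natCast_nonneg (chainBotCoeff rW βW)
      omega
    have htop0 : (chainTopCoeff rW βW : ℤ) = 0 := by
      have := Int.natCast_nonneg (chainTopCoeff rW βW)
      have := Int.natCast_nonneg (chainBotCoeff rW βW)
      omega
    have : (βW : H → K) (IsKilling.coroot rW) = 1 := by
      rw [hc, hbot, htop0]; simp
    exact this
  -- brackets
  have hhx : ⁅h, x⁆ = (1 : K) • x := by
    rw [hcor, lie_h_eq hx, hlam]
  have hhy : ⁅h, b.f j⁆ = ((-al b j) (IsKilling.coroot rW)) • b.f j := by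
    rw [hcor, lie_h_eq hy]
  have hex : ⁅e, x⁆ = 0 := by
    have : ⁅e, x⁆ ∈ rootSpace H (r + (r - al b j)) :=
      lie_mem_genWeightSpace_of_mem_genWeightSpace he hx
    rw [two_sub_eq_bot b hr htop hj] at this
    simpa using this
  have hfy : ⁅f, b.f j⁆ = 0 := by
    have : ⁅f, b.f j⁆ ∈ rootSpace H (-r + -al b j) :=
      lie_mem_genWeightSpace_of_mem_genWeightSpace hf hy
    have h2 : -r + -al b j = -(r + al b j) := by abel
    rw [h2, neg_eq_bot (htop j)] at this
    simpa using this
  have hxy : ⁅x, b.f j⁆ = 0 := by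
    have : ⁅x, b.f j⁆ ∈ rootSpace H (r - al b j + -al b j) :=
      lie_mem_genWeightSpace_of_mem_genWeightSpace hx hy
    have h2 : r - al b j + -al b j = r - 2 • al b j := by rw [two_smul]; abel
    rw [h2, sub_two_al_eq_bot b hr htop hj] at this
    simpa using this
  obtain ⟨kap, hey⟩ : ∃ kap : K, ⁅e, b.f j⁆ = kap • x := by
    have : ⁅e, b.f j⁆ ∈ rootSpace H (r + -al b j) :=
      lie_mem_genWeightSpace_of_mem_genWeightSpace he hy
    rw [← sub_eq_add_neg] at this
    exact exists_smul_eq hβ0 hx hx0 this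
  obtain ⟨kap', hfx⟩ : ∃ kap' : K, ⁅f, x⁆ = kap' • b.f j := by
    have : ⁅f, x⁆ ∈ rootSpace H (-r + (r - al b j)) :=
      lie_mem_genWeightSpace_of_mem_genWeightSpace hf hx
    have h2 : -r + (r - al b j) = -al b j := by abel
    rw [h2] at this
    exact exists_smul_eq hα0 hy hy0 this
  have T : AdjVarG.Table e f h x (b.f j) (1 : K) ((-al b j) (IsKilling.coroot rW)) kap kap' :=
    { ef := ht.lie_e_f
      he := ht.lie_h_e_smul K
      hf := ht.lie_lie_smul_f K
      hx := hhx
      hy := hhy
      ex := hex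
      ey := hey
      fx := hfx
      fy := hfy
      xy := hxy }
  have hkap' : kap' ≠ 0 := by
    intro h0
    have h1 : ⁅e, ⁅f, x⁆⁆ = x := by
      rw [leibniz_lie, hex, lie_zero, add_zero, ht.lie_e_f, hhx, one_smul]
    rw [hfx, h0, zero_smul, lie_zero] at h1
    exact hx0 h1.symm
  have : IsAddTorsionFree L := .of_isTorsionFree K L
  -- linear independence
  let wt : Fin 5 → (H → K) := ![r, -r, 0, r - al b j, -al b j]
  have hwt : Function.Injective wt := by
    have h01 : r ≠ -r := by
      intro hh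
      have := congrFun hh (b.h' j)
      rw [Pi.neg_apply, hj] at this
      norm_num at this
    have h02 : r ≠ 0 := hr0
    have h03 : r ≠ r - al b j := by
      intro hh; apply al_ne_zero b j
      have : al b j = r - (r - al b j) := by abel
      rw [this, ← hh, sub_self]
    have h04 : r ≠ -al b j := by
      intro hh
      have := congrFun hh (b.h' j)
      rw [Pi.neg_apply, hj, al_apply_h', b.A_diag_eq_two] at this
      norm_num at this
    have h12 : -r ≠ 0 := neg_ne_zero.2 hr0
    have h13 : -r ≠ r - al b j := by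
      intro hh
      have h0 : r + (r - al b j) = 0 := by rw [← hh]; abel
      have := two_sub_eq_bot b hr htop hj
      rw [h0] at this
      exact rootSpace_zero_ne_bot b j this
    have h14 : -r ≠ -al b j := by
      intro hh
      apply hβ0
      rw [neg_inj] at hh
      rw [hh, sub_self]
    have h23 : (0 : H → K) ≠ r - al b j := hβ0.symm
    have h24 : (0 : H → K) ≠ -al b j := hα0.symm
    have h34 : r - al b j ≠ -al b j := by
      intro hh
      apply hr0
      have : r = (r - al b j) - (-al b j) := by abel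
      rw [this, hh, sub_self]
    intro p p' hp
    fin_cases p <;> fin_cases p'
    all_goals first | rfl | (exfalso; first | exact h01 hp | exact h02 hp | exact h03 hp | exact h04 hp | exact h12 hp | exact h13 hp | exact h14 hp | exact h23 hp | exact h24 hp | exact h34 hp | exact h01 hp.symm | exact h02 hp.symm | exact h03 hp.symm | exact h04 hp.symm | exact h12 hp.symm | exact h13 hp.symm | exact h14 hp.symm | exact h23 hp.symm | exact h24 hp.symm | exact h34 hp.symm)
  have hh0 : h ∈ rootSpace H (0 : H → K) := by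
    rw [rootSpace_zero_eq, hcor]; exact (IsKilling.coroot rW).2
  have hli : LinearIndependent K ![e, f, h, x, b.f j] := by
    have hind := (LieSubmodule.iSupIndep_toSubmodule.mpr
      (iSupIndep_genWeightSpace K H L)).comp hwt
    refine iSupIndep.linearIndependent _ hind ?_ ?_
    · intro k; fin_cases k
      · exact he
      · exact hf
      · exact hh0
      · exact hx
      · exact hy
    · intro k; fin_cases k
      · exact he0
      · exact hf0
      · exact ht.h_ne_zero
      · exact hx0
      · exact hy0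
  -- the span
  have hAspan : A.toSubmodule = Submodule.span K (Set.range ![e, f, h, x, b.f j]) := by
    let B : LieSubalgebra K L :=
      { Submodule.span K (Set.range ![e, f, h, x, b.f j]) with
        lie_mem' := fun hu hv => AdjVarG.closed T hu hv }
    have hB : ∀ u, u ∈ B ↔ u ∈ Submodule.span K (Set.range ![e, f, h, x, b.f j]) :=
      fun u => Iff.rfl
    have memS : ∀ k : Fin 5, ![e, f, h, x, b.f j] k ∈
        Submodule.span K (Set.range ![e, f, h, x, b.f j]) :=
      fun k => Submodule.subset_span ⟨k, rfl⟩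
    apply le_antisymm
    · have : A ≤ B := by
        rw [hA, LieSubalgebra.lieSpan_le]
        rintro u ((hu | hu) | hu)
        · obtain ⟨c, rfl⟩ := exists_smul_eq hr0 he he0 hu
          exact (hB _).2 (Submodule.smul_mem _ _ (memS 0))
        · obtain ⟨c, rfl⟩ := exists_smul_eq (neg_ne_zero.2 hr0) hf hf0 hu
          exact (hB _).2 (Submodule.smul_mem _ _ (memS 1))
        · obtain ⟨c, rfl⟩ := exists_smul_eq hβ0 hx hx0 hu
          exact (hB _).2 (Submodule.smul_mem _ _ (memS 3))
      exact fun u hu => (hB u).1 (this hu)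
    · have heA : e ∈ A := by
        rw [hA]; exact LieSubalgebra.subset_lieSpan (Or.inl (Or.inl he))
      have hfA : f ∈ A := by
        rw [hA]; exact LieSubalgebra.subset_lieSpan (Or.inl (Or.inr hf))
      have hxA : x ∈ A := by
        rw [hA]; exact LieSubalgebra.subset_lieSpan (Or.inr hx)
      have hhA : h ∈ A := by
        rw [← ht.lie_e_f]; exact A.lie_mem heA hfA
      have hyA : b.f j ∈ A := by
        have h1 : ⁅f, x⁆ ∈ A := A.lie_mem hfA hxA
        rw [hfx] at h1
        have := A.smul_mem kap'⁻¹ h1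
        rwa [smul_smul, inv_mul_cancel₀ hkap', one_smul] at this
      rw [Submodule.span_le]
      rintro u ⟨k, rfl⟩
      fin_cases k
      · exact heA
      · exact hfA
      · exact hhA
      · exact hxA
      · exact hyA
  obtain ⟨h5, h2, hm⟩ := AdjVarG.five_dim T (by norm_num) hli A hAspan
  refine ⟨h5, h2, ?_⟩
  rw [hm, rootSpace_eq_span hβ0 hx hx0, rootSpace_eq_span hα0 hy hy0, Submodule.span_insert]

end Rho

end Groth.Agent.Lib.Helper24.AdjVar
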