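import Groth.Prelude.Def_AlphaP
import Groth.Prelude.Def_CartDual
import Mathlib.Data.Nat.Choose.Sum
import Mathlib.Algebra.CharP.Invertible
import Mathlib.LinearAlgebra.Basis.Defs
import Mathlib.Data.Nat.Prime.Factorial

/-!
Auxiliary facts on the Hopf algebra `AlphaP.A p R` of alpha_p and on its dual
(`CartDual.D R (AlphaP.A p R)`): binomial formula for the comultiplication, the dual basis,
the convolution product evaluated on powers of `x`.
-/

set_option autoImplicit false
universe u

namespace Groth.Agent.Lib.Helper24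

open TensorProduct Finset

section

variable (p : ℕ) [hp : Fact p.Prime] (R : Type u) [CommRing R]

include hp in
theorem nontrivial_of_charP [CharP R p] : Nontrivial R :=
  CharP.nontrivial_of_char_ne_one (v := p) hp.out.ne_one

variable [CharP R p]

/-- binomial formula for the comultiplication of alpha_p -/
theorem comul_x_pow (n : ℕ) :
    Coalgebra.comul (R := R) (AlphaP.x p R ^ n) =
      ∑ j ∈ range (n + 1), (n.choose j : R) •
        ((AlphaP.x p R ^ j) ⊗ₜ[R] (AlphaP.x p R ^ (n - j))) := by
  have h1 : Coalgebra.comul (R := R) (AlphaP.x p R ^ n) =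
      (AlphaP.x p R ⊗ₜ[R] 1 + 1 ⊗ₜ[R] AlphaP.x p R) ^ n := by
    rw [← AlphaP.comul_x, ← Bialgebra.comulAlgHom_apply, map_pow]
    rfl
  rw [h1, (Commute.all _ _).add_pow]
  refine sum_congr rfl fun j _ => ?_
  rw [Algebra.TensorProduct.tmul_pow, Algebra.TensorProduct.tmul_pow, one_pow, one_pow,
    Algebra.TensorProduct.tmul_mul_tmul, mul_one, one_mul, mul_comm, Nat.cast_smul_eq_nsmul,
    nsmul_eq_mul]

theorem counit_x_pow (n : ℕ) :
    Coalgebra.counit (R := R) (AlphaP.x p R ^ n) = if n = 0 then 1 else 0 := by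
  rw [← Bialgebra.counitAlgHom_apply, map_pow, Bialgebra.counitAlgHom_apply, AlphaP.counit_x]
  split_ifs with h
  · rw [h, pow_zero]
  · exact zero_pow h

/-- convolution product of two linear forms on alpha_p, on powers of `x` -/
theorem conv_apply_x_pow (y z : CartDual.D R (AlphaP.A p R)) (n : ℕ) :
    (y * z) (AlphaP.x p R ^ n) =
      ∑ j ∈ range (n + 1), (n.choose j : R) * (y (AlphaP.x p R ^ j) * z (AlphaP.x p R ^ (n - j))) := by
  rw [LinearMap.convMul_apply, comul_x_pow, map_sum, map_sum]
  refine sum_congr rfl fun j _ => ?_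
  rw [map_smul, map_smul, TensorProduct.map_tmul, LinearMap.mul'_apply, smul_eq_mul]

/-- two linear forms on alpha_p agreeing on the powers `x ^ i`, `i < p`, are equal -/
theorem dual_ext {M : Type*} [AddCommGroup M] [Module R M] {y z : AlphaP.A p R →ₗ[R] M}
    (h : ∀ i, i < p → y (AlphaP.x p R ^ i) = z (AlphaP.x p R ^ i)) : y = z := by
  have := nontrivial_of_charP p R
  refine (AlphaP.basis p R).ext fun i => ?_
  rw [AlphaP.basis_apply]
  exact h i i.2

theorem D_ext {y z : CartDual.D R (AlphaP.A p R)}
    (h : ∀ i, i < p → y (AlphaP.x p R ^ i) = z (AlphaP.x p R ^ i)) : y = z :=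
  WithConv.ext (dual_ext p R h)

/-- the dual basis element: `δ i (x ^ j) = [i = j]` (for `j < p`) -/
noncomputable def δ (i : ℕ) : CartDual.D R (AlphaP.A p R) :=
  haveI := nontrivial_of_charP p R
  WithConv.toConv (if h : i < p then (AlphaP.basis p R).coord ⟨i, h⟩ else 0)

theorem δ_apply (i j : ℕ) :
    δ p R i (AlphaP.x p R ^ j) = if i = j ∧ j < p then 1 else 0 := by
  have := nontrivial_of_charP p R
  by_cases hj : j < p
  · by_cases hi : i < p
    · have : δ p R i (AlphaP.x p R ^ j) = (AlphaP.basis p R).coord ⟨i, hi⟩ (AlphaP.basis p R ⟨j, hj⟩) := by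
        rw [AlphaP.basis_apply]
        simp only [δ, dif_pos hi]
      rw [this, Module.Basis.coord_apply, Module.Basis.repr_self, Finsupp.single_apply]
      simp only [Fin.mk.injEq, hj, and_true]
      by_cases hij : i = j
      · rw [if_pos hij.symm, if_pos hij]
      · rw [if_neg (Ne.symm hij), if_neg hij]
    · have : δ p R i (AlphaP.x p R ^ j) = 0 := by
        simp only [δ, dif_neg hi]
        rfl
      rw [this, if_neg]
      rintro ⟨rfl, h⟩
      exact hi h
  · rw [AlphaP.x_pow_of_le p R (not_lt.mp hj), if_neg (fun h => hj h.2)]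
    exact map_zero (δ p R i).ofConv

theorem δ_one_apply (j : ℕ) : δ p R 1 (AlphaP.x p R ^ j) = if j = 1 then 1 else 0 := by
  rw [δ_apply]
  by_cases hj : j = 1
  · rw [if_pos hj, if_pos ⟨hj.symm, hj ▸ hp.out.one_lt⟩]
  · rw [if_neg hj, if_neg (fun h => hj h.1.symm)]

theorem δ_apply_one (i : ℕ) : δ p R i 1 = if i = 0 then 1 else 0 := by
  have := δ_apply p R i 0
  rw [pow_zero] at this
  rw [this]
  simp [hp.out.pos]

/-- every element of alpha_p is the combination of the `x ^ i` with the `δ i` as coefficients -/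
theorem sum_δ_smul (a : AlphaP.A p R) :
    ∑ i : Fin p, (δ p R (i : ℕ) a) • AlphaP.x p R ^ (i : ℕ) = a := by
  have := nontrivial_of_charP p R
  conv_rhs => rw [← (AlphaP.basis p R).sum_repr a]
  refine sum_congr rfl fun i _ => ?_
  rw [AlphaP.basis_apply]
  congr 1
  simp only [δ, dif_pos i.2]
  rfl

/-- powers of `δ 1` : `(δ 1) ^ n (x ^ m) = n ! [n = m]` for `m < p`. -/
theorem δ_one_pow_apply (n m : ℕ) (hm : m < p) :
    ((δ p R 1) ^ n) (AlphaP.x p R ^ m) = if n = m then (n.factorial : R) else 0 := by
  induction n generalizing m with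
  | zero =>
    rw [pow_zero, LinearMap.convOne_apply, counit_x_pow]
    by_cases h : m = 0
    · rw [if_pos h, if_pos h.symm]; simp
    · rw [if_neg h, if_neg (Ne.symm h)]; simp
  | succ n ih =>
    rw [pow_succ, conv_apply_x_pow]
    rcases Nat.eq_zero_or_pos m with rfl | hm0
    · rw [sum_range_one, Nat.sub_zero, δ_one_apply, if_neg (by omega), if_neg (by omega)]
      simp
    · rw [sum_eq_single (m - 1)]
      · have h1 : m - (m - 1) = 1 := by omega
        rw [ih (m - 1) (by omega), h1, pow_one, ← pow_one (AlphaP.x p R), δ_one_apply, if_pos rfl]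
        by_cases h : n + 1 = m
        · have h2 : n = m - 1 := by omega
          rw [if_pos h, if_pos h2]
          subst h
          rw [Nat.add_sub_cancel, Nat.choose_succ_self_right, Nat.factorial_succ]
          push_cast
          ring
        · have h2 : ¬ n = m - 1 := by omega
          rw [if_neg h, if_neg h2]
          simp
      · intro j hj hne
        rw [δ_one_apply, if_neg (by have := mem_range.mp hj; omega)]
        simp
      · intro h
        exact absurd (mem_range.mpr (by omega)) h

/-- a form vanishing at `1` is nilpotent: its `k`-th power vanishes on `x ^ m` for `m < k` -/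
theorem pow_apply_eq_zero (y : CartDual.D R (AlphaP.A p R)) (hy : y 1 = 0) (k m : ℕ) (hmk : m < k) :
    (y ^ k) (AlphaP.x p R ^ m) = 0 := by
  induction k generalizing m with
  | zero => omega
  | succ k ih =>
    rw [pow_succ, conv_apply_x_pow]
    refine sum_eq_zero fun j hj => ?_
    by_cases hjk : j < k
    · rw [ih j hjk]; simp
    · have : m - j = 0 := by omega
      rw [this, pow_zero, hy]; simp

theorem factorial_isUnit (n : ℕ) (hn : n < p) : IsUnit ((n.factorial : ℕ) : R) := by
  rw [CharP.isUnit_natCast_iff hp.out]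
  intro h
  have := (Nat.Prime.dvd_factorial hp.out).mp h
  omega

/-- extensionality for linear maps out of the tensor square of alpha_p -/
theorem tensor_ext {M : Type*} [AddCommGroup M] [Module R M]
    {f g : AlphaP.A p R ⊗[R] AlphaP.A p R →ₗ[R] M}
    (h : ∀ i j : ℕ, i < p → j < p → f ((AlphaP.x p R ^ i) ⊗ₜ[R] (AlphaP.x p R ^ j)) =
      g ((AlphaP.x p R ^ i) ⊗ₜ[R] (AlphaP.x p R ^ j))) : f = g := by
  apply TensorProduct.ext
  apply dual_ext p R
  intro i hi
  apply dual_ext p R
  intro j hj
  exact h i j hi hj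

end

end Groth.Agent.Lib.Helper24
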