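import Mathlib
import Groth.Prelude.Def_AlphaPn
import Groth.Prelude.Def_SekSuwa
import Groth.Agent.Lib.Helper20GaChar

set_option autoImplicit false
set_option linter.unusedSectionVars false

namespace Groth.Agent.Lib.Helper24AlphaPnLift

universe u

open Polynomial TensorProduct

variable (p : ℕ) [Fact p.Prime] (A : Type u) [CommRing A] [CharP A p] (n : ℕ)

/-- the quotient `A[X0,X1]/(X0^q, X1^q)` -/
abbrev Q := MvPolynomial (Fin 2) A ⧸
  Ideal.span {(MvPolynomial.X 0 ^ p ^ n : MvPolynomial (Fin 2) A), MvPolynomial.X 1 ^ p ^ n}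

noncomputable def ψ : AlphaPn.A p n A ⊗[A] AlphaPn.A p n A →ₐ[A] Q p A n :=
  Algebra.TensorProduct.lift
    (AlphaPn.lift p n A (Ideal.Quotient.mk _ (MvPolynomial.X 0)) (by
      rw [← map_pow, Ideal.Quotient.eq_zero_iff_mem]
      exact Ideal.subset_span (by simp)))
    (AlphaPn.lift p n A (Ideal.Quotient.mk _ (MvPolynomial.X 1)) (by
      rw [← map_pow, Ideal.Quotient.eq_zero_iff_mem]
      exact Ideal.subset_span (by simp)))
    (fun _ _ => Commute.all _ _)

theorem main (φ : SekSuwa.A A 0 →ₐc[A] AlphaPn.A p n A) (hφ : φ SekSuwa.A.t = AlphaPn.x p n A)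
    (u : AlphaPn.A p n A) (hu : IsGroupLikeElem A u) :
    ∃ g : SekSuwa.A A 0, IsGroupLikeElem A g ∧ φ g = u := by
  have hnt : Nontrivial A := CharP.nontrivial_of_char_ne_one (Fact.out : p.Prime).ne_one
  -- choose a reduced representative
  obtain ⟨f0, hf0⟩ := AlphaPn.mk_surjective p n A u
  have hmonic : ((X : A[X]) ^ (p ^ n)).Monic := monic_X_pow _
  set f : A[X] := f0 %ₘ (X ^ (p ^ n)) with hf
  have hfu : AlphaPn.mk p n A f = u := by
    rw [← hf0]
    have h1 := Polynomial.modByMonic_add_div f0 ((X : A[X]) ^ (p ^ n))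
    have h2 : AlphaPn.mk p n A ((X : A[X]) ^ (p ^ n)) = 0 := AdjoinRoot.mk_self
    conv_rhs => rw [← h1]
    rw [map_add, map_mul, h2, zero_mul, add_zero]
  have hdeg : f.natDegree < p ^ n := by
    have hne : ((X : A[X]) ^ (p ^ n)) ≠ 1 := by
      intro h
      have := congrArg Polynomial.natDegree h
      rw [natDegree_X_pow, natDegree_one] at this
      exact (pow_pos (Fact.out : p.Prime).pos n).ne' this
    have := Polynomial.natDegree_modByMonic_lt f0 hmonic hne
    rwa [natDegree_X_pow] at this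
  have haeval : aeval (AlphaPn.x p n A) f = u := by rw [AlphaPn.aeval_x, hfu]
  -- counit
  have h0 : f.eval 0 = 1 := by
    have h1 := hu.counit_eq_one
    rw [← haeval] at h1
    have h2 : CoalgebraStruct.counit (R := A) (aeval (AlphaPn.x p n A) f) =
        aeval (CoalgebraStruct.counit (R := A) (AlphaPn.x p n A)) f :=
      (Polynomial.aeval_algHom_apply (Bialgebra.counitAlgHom A (AlphaPn.A p n A)) (AlphaPn.x p n A) f).symm
    rw [h2, AlphaPn.counit_x, Polynomial.aeval_def, Polynomial.eval₂_at_zero] at h1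
    rw [← Polynomial.coeff_zero_eq_eval_zero]
    simpa using h1
  -- comultiplication
  have hmul : Ideal.Quotient.mk
        (Ideal.span {(MvPolynomial.X 0 ^ p ^ n : MvPolynomial (Fin 2) A), MvPolynomial.X 1 ^ p ^ n})
        (aeval (MvPolynomial.X 0 + MvPolynomial.X 1 : MvPolynomial (Fin 2) A) f) =
      Ideal.Quotient.mk
        (Ideal.span {(MvPolynomial.X 0 ^ p ^ n : MvPolynomial (Fin 2) A), MvPolynomial.X 1 ^ p ^ n})
        (aeval (MvPolynomial.X 0 : MvPolynomial (Fin 2) A) f *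
          aeval (MvPolynomial.X 1 : MvPolynomial (Fin 2) A) f) := by
    have h1 := hu.comul_eq_tmul_self
    have h2 : CoalgebraStruct.comul (R := A) u =
        aeval (CoalgebraStruct.comul (R := A) (AlphaPn.x p n A)) f := by
      rw [← haeval]
      exact (Polynomial.aeval_algHom_apply (Bialgebra.comulAlgHom A (AlphaPn.A p n A)) (AlphaPn.x p n A) f).symm
    rw [h2, AlphaPn.comul_x] at h1
    have h3 := congrArg (ψ p A n) h1
    rw [← Polynomial.aeval_algHom_apply] at h3
    have hx0 : ψ p A n (AlphaPn.x p n A ⊗ₜ[A] 1) = Ideal.Quotient.mk _ (MvPolynomial.X 0) := by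
      simp [ψ]
    have hx1 : ψ p A n (1 ⊗ₜ[A] AlphaPn.x p n A) = Ideal.Quotient.mk _ (MvPolynomial.X 1) := by
      simp [ψ]
    rw [map_add, hx0, hx1] at h3
    have hu1 : u ⊗ₜ[A] u = (Algebra.TensorProduct.includeLeft (R := A) (S := A) (A := AlphaPn.A p n A)
        (B := AlphaPn.A p n A) u) * (Algebra.TensorProduct.includeRight (R := A) (A := AlphaPn.A p n A)
        (B := AlphaPn.A p n A) u) := by
      simp [Algebra.TensorProduct.tmul_mul_tmul]
    rw [hu1, map_mul] at h3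
    have hl : ψ p A n (Algebra.TensorProduct.includeLeft (R := A) (S := A) (A := AlphaPn.A p n A)
        (B := AlphaPn.A p n A) u) = aeval (Ideal.Quotient.mk _ (MvPolynomial.X 0) : Q p A n) f := by
      rw [← haeval, ← Polynomial.aeval_algHom_apply, ← Polynomial.aeval_algHom_apply]
      congr 2
    have hr : ψ p A n (Algebra.TensorProduct.includeRight (R := A) (A := AlphaPn.A p n A)
        (B := AlphaPn.A p n A) u) = aeval (Ideal.Quotient.mk _ (MvPolynomial.X 1) : Q p A n) f := by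
      rw [← haeval, ← Polynomial.aeval_algHom_apply, ← Polynomial.aeval_algHom_apply]
      congr 2
    rw [hl, hr] at h3
    have hq : ∀ z : MvPolynomial (Fin 2) A,
        aeval (Ideal.Quotient.mk (Ideal.span {(MvPolynomial.X 0 ^ p ^ n : MvPolynomial (Fin 2) A),
          MvPolynomial.X 1 ^ p ^ n}) z : Q p A n) f = Ideal.Quotient.mk _ (aeval z f) := by
      intro z
      exact Polynomial.aeval_algHom_apply (Ideal.Quotient.mkₐ A _) z f
    rw [← map_add, hq, hq, hq, ← map_mul] at h3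
    exact h3
  have hrel := Groth.Agent.Lib.Helper20.GaChar.rel_of_quot (p ^ n) f hdeg h0 hmul
  have hchar := (Groth.Agent.Lib.Helper20.GaChar.poly_char_iff f).mpr hrel
  -- the lift
  refine ⟨aeval (SekSuwa.A.t : SekSuwa.A A 0) f, ⟨?_, ?_⟩, ?_⟩
  · -- counit
    have h2 : CoalgebraStruct.counit (R := A) (aeval (SekSuwa.A.t : SekSuwa.A A 0) f) =
        aeval (CoalgebraStruct.counit (R := A) (SekSuwa.A.t : SekSuwa.A A 0)) f :=
      (Polynomial.aeval_algHom_apply (Bialgebra.counitAlgHom A (SekSuwa.A A 0)) SekSuwa.A.t f).symm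
    rw [h2, SekSuwa.A.counit_t, Polynomial.aeval_def, Polynomial.eval₂_at_zero,
      Polynomial.coeff_zero_eq_eval_zero, h0]
    simp
  · -- comul
    have h2 : CoalgebraStruct.comul (R := A) (aeval (SekSuwa.A.t : SekSuwa.A A 0) f) =
        aeval (CoalgebraStruct.comul (R := A) (SekSuwa.A.t : SekSuwa.A A 0)) f :=
      (Polynomial.aeval_algHom_apply (Bialgebra.comulAlgHom A (SekSuwa.A A 0)) SekSuwa.A.t f).symm
    rw [h2, SekSuwa.A.comul_t, zero_smul, add_zero]
    let θ : MvPolynomial (Fin 2) A →ₐ[A] SekSuwa.A A 0 ⊗[A] SekSuwa.A A 0 :=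
      MvPolynomial.aeval ![(SekSuwa.A.t : SekSuwa.A A 0) ⊗ₜ[A] 1, 1 ⊗ₜ[A] (SekSuwa.A.t : SekSuwa.A A 0)]
    have h3 := congrArg θ hchar.2
    rw [map_mul, ← Polynomial.aeval_algHom_apply, ← Polynomial.aeval_algHom_apply,
      ← Polynomial.aeval_algHom_apply] at h3
    have e0 : θ (MvPolynomial.X 0) = (SekSuwa.A.t : SekSuwa.A A 0) ⊗ₜ[A] 1 := by simp [θ]
    have e1 : θ (MvPolynomial.X 1) = 1 ⊗ₜ[A] (SekSuwa.A.t : SekSuwa.A A 0) := by simp [θ]
    rw [map_add, e0, e1] at h3
    rw [h3]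
    have hl : aeval ((SekSuwa.A.t : SekSuwa.A A 0) ⊗ₜ[A] (1 : SekSuwa.A A 0)) f =
        (aeval (SekSuwa.A.t : SekSuwa.A A 0) f) ⊗ₜ[A] (1 : SekSuwa.A A 0) :=
      Polynomial.aeval_algHom_apply (Algebra.TensorProduct.includeLeft (R := A) (S := A)
        (A := SekSuwa.A A 0) (B := SekSuwa.A A 0)) SekSuwa.A.t f
    have hr : aeval ((1 : SekSuwa.A A 0) ⊗ₜ[A] (SekSuwa.A.t : SekSuwa.A A 0)) f =
        (1 : SekSuwa.A A 0) ⊗ₜ[A] (aeval (SekSuwa.A.t : SekSuwa.A A 0) f) :=
      Polynomial.aeval_algHom_apply (Algebra.TensorProduct.includeRight (R := A)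
        (A := SekSuwa.A A 0) (B := SekSuwa.A A 0)) SekSuwa.A.t f
    rw [hl, hr, Algebra.TensorProduct.tmul_mul_tmul, mul_one, one_mul]
  · -- φ g = u
    have h2 : φ (aeval (SekSuwa.A.t : SekSuwa.A A 0) f) = aeval (φ SekSuwa.A.t) f :=
      (Polynomial.aeval_algHom_apply (φ : SekSuwa.A A 0 →ₐ[A] AlphaPn.A p n A) SekSuwa.A.t f).symm
    rw [h2, hφ, haeval]

end Groth.Agent.Lib.Helper24AlphaPnLift
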