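import Mathlib

set_option autoImplicit false
universe u
open MvPolynomial

namespace Groth.Agent.Lib.Helper24Alternant

variable {k : Type u} [Field k] {n : ℕ}

noncomputable def Mat (p : Fin n → ℕ × ℕ) :
    Matrix (Fin n) (Fin n) (MvPolynomial (Fin n × Fin 2) k) :=
  Matrix.of fun i j => (X (i, 0) : MvPolynomial (Fin n × Fin 2) k) ^ (p j).1 * X (i, 1) ^ (p j).2

noncomputable def mon (p : Fin n → ℕ × ℕ) : MvPolynomial (Fin n × Fin 2) k :=
  ∏ i, (X (i, 0) : MvPolynomial (Fin n × Fin 2) k) ^ (p i).1 * X (i, 1) ^ (p i).2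

noncomputable def expo (p : Fin n → ℕ × ℕ) : (Fin n × Fin 2) →₀ ℕ :=
  Finsupp.equivFunOnFinite.symm (fun v => if v.2 = 0 then (p v.1).1 else (p v.1).2)

theorem expo_zero (p : Fin n → ℕ × ℕ) (i : Fin n) : expo p (i, 0) = (p i).1 := by
  simp [expo]

theorem expo_one (p : Fin n → ℕ × ℕ) (i : Fin n) : expo p (i, 1) = (p i).2 := by
  simp [expo]

theorem expo_injective : Function.Injective (expo (n := n)) := by
  intro p q h
  funext i
  have h0 := DFunLike.congr_fun h (i, 0)
  have h1 := DFunLike.congr_fun h (i, 1)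
  rw [expo_zero, expo_zero] at h0
  rw [expo_one, expo_one] at h1
  exact Prod.ext h0 h1

theorem mon_eq (p : Fin n → ℕ × ℕ) :
    (mon p : MvPolynomial (Fin n × Fin 2) k) = monomial (expo p) 1 := by
  rw [monomial_eq, C_1, one_mul, Finsupp.prod_fintype _ _ (fun _ => pow_zero _),
    Fintype.prod_prod_type]
  unfold mon
  refine Finset.prod_congr rfl fun i _ => ?_
  rw [Fin.prod_univ_two, expo_zero, expo_one]

theorem rename_mon (σ : Equiv.Perm (Fin n)) (p : Fin n → ℕ × ℕ) :
    rename (fun v : Fin n × Fin 2 => (σ v.1, v.2)) (mon p : MvPolynomial (Fin n × Fin 2) k)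
      = mon (fun i => p (σ.symm i)) := by
  unfold mon
  rw [map_prod]
  simp only [map_mul, map_pow, rename_X]
  exact Fintype.prod_equiv σ _ _ (fun i => by simp)

theorem det_eq_sum (p : Fin n → ℕ × ℕ) :
    (Mat p : Matrix (Fin n) (Fin n) (MvPolynomial (Fin n × Fin 2) k)).det
      = ∑ σ : Equiv.Perm (Fin n), ((Equiv.Perm.sign σ : ℤˣ) : ℤ) •
          rename (fun v : Fin n × Fin 2 => (σ v.1, v.2)) (mon p) := by
  rw [Matrix.det_apply]
  refine Finset.sum_congr rfl fun σ _ => ?_
  rw [Units.smul_def]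
  congr 1
  unfold mon Mat
  rw [map_prod]
  simp only [map_mul, map_pow, rename_X, Matrix.of_apply]

theorem det_alt (p : Fin n → ℕ × ℕ) (σ : Equiv.Perm (Fin n)) :
    rename (fun v : Fin n × Fin 2 => (σ v.1, v.2))
        (Mat p : Matrix (Fin n) (Fin n) (MvPolynomial (Fin n × Fin 2) k)).det
      = ((Equiv.Perm.sign σ : ℤˣ) : ℤ) • (Mat p).det := by
  rw [AlgHom.map_det]
  have h : (rename (fun v : Fin n × Fin 2 => (σ v.1, v.2)) :
      MvPolynomial (Fin n × Fin 2) k →ₐ[k] _).mapMatrix (Mat p) = (Mat p).submatrix σ id := by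
    refine Matrix.ext fun i j => ?_
    simp [Mat]
  rw [h, Matrix.det_permute, zsmul_eq_mul]

theorem alt_of_mem_span (f : MvPolynomial (Fin n × Fin 2) k)
    (hf : f ∈ Submodule.span k (Set.range fun p : Fin n → ℕ × ℕ =>
      (Mat p : Matrix (Fin n) (Fin n) (MvPolynomial (Fin n × Fin 2) k)).det))
    (σ : Equiv.Perm (Fin n)) :
    rename (fun v : Fin n × Fin 2 => (σ v.1, v.2)) f = ((Equiv.Perm.sign σ : ℤˣ) : ℤ) • f := by
  induction hf using Submodule.span_induction with
  | mem x hx => obtain ⟨p, rfl⟩ := hx; exact det_alt p σ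
  | zero => simp
  | add x y _ _ hx hy => rw [map_add, hx, hy, smul_add]
  | smul c x _ hx => rw [map_smul, hx, smul_comm]

theorem mem_span_of_alt [CharZero k] (f : MvPolynomial (Fin n × Fin 2) k)
    (hf : ∀ σ : Equiv.Perm (Fin n),
      rename (fun v : Fin n × Fin 2 => (σ v.1, v.2)) f = ((Equiv.Perm.sign σ : ℤˣ) : ℤ) • f) :
    f ∈ Submodule.span k (Set.range fun p : Fin n → ℕ × ℕ =>
      (Mat p : Matrix (Fin n) (Fin n) (MvPolynomial (Fin n × Fin 2) k)).det) := by
  have hall : ∀ g : MvPolynomial (Fin n × Fin 2) k,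
      (∑ σ : Equiv.Perm (Fin n), ((Equiv.Perm.sign σ : ℤˣ) : ℤ) •
        rename (fun v : Fin n × Fin 2 => (σ v.1, v.2)) g) ∈
      Submodule.span k (Set.range fun p : Fin n → ℕ × ℕ =>
        (Mat p : Matrix (Fin n) (Fin n) (MvPolynomial (Fin n × Fin 2) k)).det) := by
    intro g
    induction g using MvPolynomial.induction_on' with
    | monomial u a =>
      have hu : u = expo (fun i => (u (i, 0), u (i, 1))) := by
        refine Finsupp.ext ?_
        rintro ⟨i, e⟩
        revert e
        rw [Fin.forall_fin_two]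
        exact ⟨(expo_zero (fun i => (u (i, 0), u (i, 1))) i).symm,
          (expo_one (fun i => (u (i, 0), u (i, 1))) i).symm⟩
      have h1 : (monomial u a : MvPolynomial (Fin n × Fin 2) k)
          = a • mon (fun i => (u (i, 0), u (i, 1))) := by
        rw [mon_eq, smul_monomial, smul_eq_mul, mul_one, ← hu]
      rw [h1]
      simp only [map_smul]
      have h2 : ∑ σ : Equiv.Perm (Fin n), ((Equiv.Perm.sign σ : ℤˣ) : ℤ) • a •
            rename (fun v : Fin n × Fin 2 => (σ v.1, v.2))
              (mon (fun i => (u (i, 0), u (i, 1))) : MvPolynomial (Fin n × Fin 2) k)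
          = a • (Mat (fun i => (u (i, 0), u (i, 1))) :
              Matrix (Fin n) (Fin n) (MvPolynomial (Fin n × Fin 2) k)).det := by
        rw [det_eq_sum, Finset.smul_sum]
        exact Finset.sum_congr rfl fun σ _ => smul_comm _ _ _
      rw [h2]
      exact Submodule.smul_mem _ _ (Submodule.subset_span ⟨_, rfl⟩)
    | add p q hp hq =>
      simp only [map_add, smul_add, Finset.sum_add_distrib]
      exact Submodule.add_mem _ hp hq
  have hsum : (∑ σ : Equiv.Perm (Fin n), ((Equiv.Perm.sign σ : ℤˣ) : ℤ) •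
      rename (fun v : Fin n × Fin 2 => (σ v.1, v.2)) f) = (n.factorial : k) • f := by
    have hone : ∀ σ : Equiv.Perm (Fin n), ((Equiv.Perm.sign σ : ℤˣ) : ℤ) •
        rename (fun v : Fin n × Fin 2 => (σ v.1, v.2)) f = f := by
      intro σ
      rw [hf σ, smul_smul, ← Units.val_mul, Int.units_mul_self, Units.val_one, one_smul]
    rw [Finset.sum_congr rfl (fun σ _ => hone σ), Finset.sum_const, Finset.card_univ,
      Fintype.card_perm, Fintype.card_fin, ← Nat.cast_smul_eq_nsmul k]
  have hne : (n.factorial : k) ≠ 0 := Nat.cast_ne_zero.mpr (Nat.factorial_ne_zero n)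
  have hf2 : f = (n.factorial : k)⁻¹ • ((n.factorial : k) • f) := by
    rw [smul_smul, inv_mul_cancel₀ hne, one_smul]
  rw [hf2, ← hsum]
  exact Submodule.smul_mem _ _ (hall f)

theorem perm_eq_one_of_strictMono (τ : Equiv.Perm (Fin n)) (h : StrictMono τ) : τ = 1 := by
  have h2 : StrictMono τ.symm := by
    intro a b hab
    by_contra hcon
    rw [not_lt] at hcon
    have h5 := h.monotone hcon
    rw [Equiv.apply_symm_apply, Equiv.apply_symm_apply] at h5
    exact absurd hab (not_lt.mpr h5)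
  refine Equiv.ext fun i => ?_
  have h3 : i ≤ τ i := h.le_apply
  have h4 : τ i ≤ τ.symm (τ i) := h2.le_apply
  rw [Equiv.symm_apply_apply] at h4
  exact le_antisymm h4 h3

theorem coeff_det (p q : Fin n → ℕ ×ₗ ℕ) (hp : StrictMono p) (hq : StrictMono q) :
    coeff (expo (fun j => ofLex (q j)))
      ((Mat (fun j => ofLex (p j)) : Matrix (Fin n) (Fin n) (MvPolynomial (Fin n × Fin 2) k)).det)
      = if p = q then 1 else 0 := by
  rw [det_eq_sum]
  simp only [rename_mon]
  simp only [mon_eq]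
  rw [coeff_sum]
  simp only [coeff_smul, coeff_monomial]
  have hcond : ∀ σ : Equiv.Perm (Fin n),
      (expo (fun i => ofLex (p (σ.symm i))) = expo (fun j => ofLex (q j))) ↔ (σ = 1 ∧ p = q) := by
    intro σ
    constructor
    · intro h
      have h1 := expo_injective h
      have h2 : ∀ i, p (σ.symm i) = q i := fun i => ofLex_inj.mp (congrFun h1 i)
      have h3 : StrictMono σ.symm := by
        intro a b hab
        have h6 := hq hab
        rw [← h2 a, ← h2 b] at h6
        exact hp.lt_iff_lt.mp h6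
      have h4 : σ.symm = 1 := perm_eq_one_of_strictMono _ h3
      have h5 : σ = 1 := by
        rw [← Equiv.symm_symm σ, h4]; rfl
      refine ⟨h5, funext fun i => ?_⟩
      rw [← h2 i, h4]; rfl
    · rintro ⟨rfl, rfl⟩
      rfl
  simp only [hcond]
  by_cases hpq : p = q
  · simp only [hpq, and_true]
    rw [Finset.sum_eq_single 1]
    · simp
    · intro σ _ hσ; simp [hσ]
    · intro h; exact absurd (Finset.mem_univ _) h
  · simp [hpq]

theorem linInd : LinearIndependent k (fun p : {p : Fin n → ℕ ×ₗ ℕ // StrictMono p} =>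
    (Mat (fun j => ofLex (p.1 j)) :
      Matrix (Fin n) (Fin n) (MvPolynomial (Fin n × Fin 2) k)).det) := by
  rw [linearIndependent_iff']
  intro s g hsum q hq
  have h1 := congrArg (coeff (expo (fun j => ofLex (q.1 j)))) hsum
  rw [coeff_sum, coeff_zero] at h1
  simp only [coeff_smul, smul_eq_mul] at h1
  rw [Finset.sum_eq_single q] at h1
  · rw [coeff_det _ _ q.2 q.2, if_pos rfl, mul_one] at h1
    exact h1
  · intro p _ hpq
    rw [coeff_det _ _ p.2 q.2, if_neg (fun h => hpq (Subtype.ext h)), mul_zero]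
  · intro h; exact absurd hq h

theorem s19449 (k : Type u) [Field k] [CharZero k] (n : ℕ) :
    (∀ f : MvPolynomial (Fin n × Fin 2) k,
      (∀ σ : Equiv.Perm (Fin n),
          MvPolynomial.rename (fun v : Fin n × Fin 2 => (σ v.1, v.2)) f = ((Equiv.Perm.sign σ : ℤˣ) : ℤ) • f) ↔
        f ∈ Submodule.span k (Set.range fun p : Fin n → ℕ × ℕ =>
          (Matrix.of fun i j : Fin n =>
            (MvPolynomial.X (i, 0) : MvPolynomial (Fin n × Fin 2) k) ^ (p j).1 * MvPolynomial.X (i, 1) ^ (p j).2).det)) ∧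
    LinearIndependent k (fun p : {p : Fin n → ℕ ×ₗ ℕ // StrictMono p} =>
      (Matrix.of fun i j : Fin n =>
        (MvPolynomial.X (i, 0) : MvPolynomial (Fin n × Fin 2) k) ^ (ofLex (p.1 j)).1 *
          MvPolynomial.X (i, 1) ^ (ofLex (p.1 j)).2).det) :=
  ⟨fun f => ⟨fun h => mem_span_of_alt f h, fun h σ => alt_of_mem_span f h σ⟩, linInd⟩

end Groth.Agent.Lib.Helper24Alternant
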