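import Mathlib
import Groth.Agent.Lib.Helper8TFDual1

/-!
# Presentations of `Ext¹` (helper8)

* `extOneEquiv`: for a surjection `p : F → M` from a projective module,
  `Ext¹(M, N) ≃ₗ Hom(ker p, N) / (restrictions of Hom(F, N))`.
* `extOneTwoGen`: for `M = R·1 + R·m` inside a domain `B ⊇ R` and `N ⊆ B`,
  `Ext¹(M, N) ≃ₗ D / P` for explicit submodules `P ≤ D ≤ B`.
-/

set_option autoImplicit false
set_option linter.style.haveILetI false
set_option linter.unusedSectionVars false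
open CategoryTheory

namespace Groth.Agent.Lib.Helper8.ExtPres
open Groth.Agent.Lib.Helper8.TFDual

universe u

section General

variable {O : Type u} [CommRing O]

/-- the connecting map `Hom(S.X₁, Y) → Ext¹(S.X₃, Y)` on categorical homs. -/
noncomputable def connS {S : ShortComplex (ModuleCat.{u} O)} (hS : S.ShortExact)
    (Y : ModuleCat.{u} O) : (S.X₁ ⟶ Y) →ₗ[O] Abelian.Ext S.X₃ Y 1 :=
  (Abelian.Ext.precompOfLinear hS.extClass O Y (show 1 + 0 = 1 by rfl)) ∘ₗ
    (Abelian.Ext.linearEquiv₀ (R := O)).symm.toLinearMap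

theorem connS_apply {S : ShortComplex (ModuleCat.{u} O)} (hS : S.ShortExact) (Y : ModuleCat.{u} O)
    (g : S.X₁ ⟶ Y) :
    connS hS Y g = hS.extClass.comp (Abelian.Ext.mk₀ g) (show 1 + 0 = 1 by rfl) := rfl

/-- the connecting map on linear maps. -/
noncomputable def connL {S : ShortComplex (ModuleCat.{u} O)} (hS : S.ShortExact)
    (Y : ModuleCat.{u} O) : (S.X₁ →ₗ[O] Y) →ₗ[O] Abelian.Ext S.X₃ Y 1 :=
  connS hS Y ∘ₗ (ModuleCat.homLinearEquiv (M := S.X₁) (N := Y) (S := O)).symm.toLinearMap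

theorem connL_apply {S : ShortComplex (ModuleCat.{u} O)} (hS : S.ShortExact) (Y : ModuleCat.{u} O)
    (φ : S.X₁ →ₗ[O] Y) :
    connL hS Y φ = hS.extClass.comp (Abelian.Ext.mk₀ (ModuleCat.ofHom φ))
      (show 1 + 0 = 1 by rfl) := rfl

theorem connL_surjective {S : ShortComplex (ModuleCat.{u} O)} (hS : S.ShortExact)
    [Projective S.X₂] (Y : ModuleCat.{u} O) : Function.Surjective (connL hS Y) := by
  intro x₃
  obtain ⟨x₁, hx₁⟩ := Abelian.Ext.contravariant_sequence_exact₃ hS Y x₃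
    (Abelian.Ext.eq_zero_of_projective _) (show 1 + 0 = 1 by rfl)
  obtain ⟨g, rfl⟩ := (Abelian.Ext.mk₀_bijective _ _).2 x₁
  exact ⟨g.hom, hx₁⟩

theorem ker_connL {S : ShortComplex (ModuleCat.{u} O)} (hS : S.ShortExact)
    (Y : ModuleCat.{u} O) :
    LinearMap.ker (connL hS Y) = LinearMap.range (LinearMap.lcomp O Y S.f.hom) := by
  ext φ
  rw [LinearMap.mem_ker, LinearMap.mem_range]
  constructor
  · intro h
    rw [connL_apply] at h
    obtain ⟨x₂, hx₂⟩ := Abelian.Ext.contravariant_sequence_exact₁ hS Y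
      (Abelian.Ext.mk₀ (ModuleCat.ofHom φ)) (show 1 + 0 = 1 by rfl) h
    obtain ⟨g, rfl⟩ := (Abelian.Ext.mk₀_bijective _ _).2 x₂
    rw [Abelian.Ext.mk₀_comp_mk₀] at hx₂
    have h1 := (Abelian.Ext.mk₀_bijective _ _).1 hx₂
    refine ⟨g.hom, ?_⟩
    have := congrArg ModuleCat.Hom.hom h1
    exact this
  · rintro ⟨ψ, rfl⟩
    rw [connL_apply]
    have h1 : (ModuleCat.ofHom (LinearMap.lcomp O Y S.f.hom ψ) : S.X₁ ⟶ Y) =
        S.f ≫ ModuleCat.ofHom ψ := rfl
    rw [h1, ← Abelian.Ext.mk₀_comp_mk₀, ← Abelian.Ext.comp_assoc_of_second_deg_zero,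
      hS.extClass_comp, Abelian.Ext.zero_comp]

/-- `Hom(S.X₁, Y) / Hom(S.X₂, Y) ≃ₗ Ext¹(S.X₃, Y)` when `S.X₂` is projective. -/
noncomputable def extOneEquivS {S : ShortComplex (ModuleCat.{u} O)} (hS : S.ShortExact)
    [Projective S.X₂] (Y : ModuleCat.{u} O) :
    ((S.X₁ →ₗ[O] Y) ⧸ LinearMap.range (LinearMap.lcomp O Y S.f.hom)) ≃ₗ[O]
      Abelian.Ext S.X₃ Y 1 :=
  (Submodule.quotEquivOfEq _ _ (ker_connL hS Y).symm).trans
    ((connL hS Y).quotKerEquivOfSurjective (connL_surjective hS Y))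

variable {F M : Type u} [AddCommGroup F] [Module O F] [Module.Projective O F] [AddCommGroup M]
  [Module O M] (p : F →ₗ[O] M) (hp : Function.Surjective p) (N : Type u) [AddCommGroup N]
  [Module O N]

/-- `Hom(ker p, N) / Hom(F, N) ≃ₗ Ext¹(M, N)`. -/
noncomputable def extOneEquiv :
    ((LinearMap.ker p →ₗ[O] N) ⧸
        LinearMap.range (LinearMap.lcomp O N (LinearMap.ker p).subtype)) ≃ₗ[O]
      Abelian.Ext (ModuleCat.of O M) (ModuleCat.of O N) 1 :=
  haveI : Projective (sesSurj p).X₂ := (IsProjective.iff_projective (R := O) F).mp inferInstance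
  extOneEquivS (sesSurj_shortExact p hp) (ModuleCat.of O N)

end General

section TwoGen

variable {R B : Type u} [CommRing R] [CommRing B] [IsDomain B] [Algebra R B]
  (hinj : Function.Injective (algebraMap R B)) (m : B) (N : Submodule R B) (x ax : R)
  (hx : x ≠ 0) (hax : ax • (1 : B) + x • m = 0)

/-- the surjection `R × R → R·1 + R·m`. -/
noncomputable def pTwo : (R × R) →ₗ[R] ↥(Submodule.span R ({1, m} : Set B)) :=
  LinearMap.codRestrict _
    ((LinearMap.toSpanSingleton R B 1).coprod (LinearMap.toSpanSingleton R B m)) (by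
      rintro ⟨a, y⟩
      rw [LinearMap.coprod_apply, LinearMap.toSpanSingleton_apply,
        LinearMap.toSpanSingleton_apply]
      exact Submodule.add_mem _ (Submodule.smul_mem _ _ (Submodule.subset_span (by simp)))
        (Submodule.smul_mem _ _ (Submodule.subset_span (by simp))))

theorem pTwo_apply (a y : R) : ((pTwo m (a, y) : ↥(Submodule.span R ({1, m} : Set B))) : B) =
    a • (1 : B) + y • m := by
  unfold pTwo
  rw [LinearMap.codRestrict_apply, LinearMap.coprod_apply, LinearMap.toSpanSingleton_apply,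
    LinearMap.toSpanSingleton_apply]

theorem pTwo_surjective : Function.Surjective (pTwo (R := R) m) := by
  rintro ⟨z, hz⟩
  obtain ⟨a, y, rfl⟩ := Submodule.mem_span_pair.mp hz
  exact ⟨(a, y), Subtype.ext (pTwo_apply m a y)⟩

theorem mem_ker_pTwo (a y : R) :
    (a, y) ∈ LinearMap.ker (pTwo (R := R) m) ↔ a • (1 : B) + y • m = 0 := by
  rw [LinearMap.mem_ker, ← pTwo_apply m a y]
  constructor
  · intro h
    rw [h]
    rfl
  · intro h
    exact Subtype.ext h

/-- the submodule `D = {z ∈ N | z · K₀ ⊆ x N}`. -/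
def D : Submodule R B where
  carrier := {z | z ∈ N ∧ ∀ a y : R, a • (1 : B) + y • m = 0 → ∃ n ∈ N, y • z = x • n}
  zero_mem' := ⟨N.zero_mem, fun a y _ => ⟨0, N.zero_mem, by rw [smul_zero, smul_zero]⟩⟩
  add_mem' := by
    rintro z z' ⟨hz, hz2⟩ ⟨hz', hz2'⟩
    refine ⟨N.add_mem hz hz', fun a y h => ?_⟩
    obtain ⟨n, hn, e⟩ := hz2 a y h
    obtain ⟨n', hn', e'⟩ := hz2' a y h
    exact ⟨n + n', N.add_mem hn hn', by rw [smul_add, smul_add, e, e']⟩
  smul_mem' := by
    rintro r z ⟨hz, hz2⟩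
    refine ⟨N.smul_mem r hz, fun a y h => ?_⟩
    obtain ⟨n, hn, e⟩ := hz2 a y h
    exact ⟨r • n, N.smul_mem r hn, by rw [smul_comm y r z, e, smul_comm r x n]⟩

theorem mem_D (z : B) : z ∈ D m N x ↔
    z ∈ N ∧ ∀ a y : R, a • (1 : B) + y • m = 0 → ∃ n ∈ N, y • z = x • n := Iff.rfl

/-- the submodule `P = x (N + m N)`. -/
def P : Submodule R B where
  carrier := {z | ∃ u ∈ N, ∃ v ∈ N, z = x • (v + m * u)}
  zero_mem' := ⟨0, N.zero_mem, 0, N.zero_mem, by simp⟩
  add_mem' := by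
    rintro z z' ⟨u, hu, v, hv, rfl⟩ ⟨u', hu', v', hv', rfl⟩
    exact ⟨u + u', N.add_mem hu hu', v + v', N.add_mem hv hv', by rw [← smul_add]; congr 1; ring⟩
  smul_mem' := by
    rintro r z ⟨u, hu, v, hv, rfl⟩
    refine ⟨r • u, N.smul_mem r hu, r • v, N.smul_mem r hv, ?_⟩
    rw [smul_comm r x, smul_add, mul_smul_comm]

theorem mem_P (z : B) : z ∈ P m N x ↔ ∃ u ∈ N, ∃ v ∈ N, z = x • (v + m * u) := Iff.rfl

include hinj hx in
theorem smul_x_cancel {b b' : B} (h : x • b = x • b') : b = b' := by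
  rw [Algebra.smul_def, Algebra.smul_def] at h
  have hx' : algebraMap R B x ≠ 0 := by
    intro h0
    exact hx (hinj (h0.trans (map_zero _).symm))
  exact mul_left_cancel₀ hx' h

/-- the distinguished syzygy `(ax, x)`. -/
def κx : LinearMap.ker (pTwo (R := R) m) := ⟨(ax, x), (mem_ker_pTwo m ax x).mpr hax⟩

include hinj in
theorem smul_κ (κ : LinearMap.ker (pTwo (R := R) m)) :
    x • κ = κ.1.2 • κx m x ax hax := by
  obtain ⟨⟨a, y⟩, hκ⟩ := κ
  have h := (mem_ker_pTwo m a y).mp hκ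
  apply Subtype.ext
  apply Prod.ext
  · change x * a = y * ax
    apply hinj
    have e1 : (x * a) • (1 : B) = (y * ax) • (1 : B) := by
      have h1 : a • (1 : B) = -(y • m) := eq_neg_of_add_eq_zero_left h
      have h2 : ax • (1 : B) = -(x • m) := eq_neg_of_add_eq_zero_left hax
      rw [mul_smul, mul_smul, h1, h2, smul_neg, smul_neg, smul_comm]
    rw [Algebra.smul_def, Algebra.smul_def, mul_one, mul_one] at e1
    exact e1
  · change x * y = y * x
    exact mul_comm x y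

variable {N₀ : Type u} [AddCommGroup N₀] [Module R N₀] (j : N₀ →ₗ[R] B)
  (hj : Function.Injective j) (hN : LinearMap.range j = N)

/-- evaluation at the distinguished syzygy. -/
noncomputable def ev : (LinearMap.ker (pTwo (R := R) m) →ₗ[R] N₀) →ₗ[R] B :=
  j ∘ₗ LinearMap.applyₗ (κx m x ax hax)

theorem ev_apply (φ : LinearMap.ker (pTwo (R := R) m) →ₗ[R] N₀) :
    ev m x ax hax j φ = j (φ (κx m x ax hax)) := rfl

include hinj in
theorem smul_apply_eq (φ : LinearMap.ker (pTwo (R := R) m) →ₗ[R] N₀)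
    (κ : LinearMap.ker (pTwo (R := R) m)) :
    x • j (φ κ) = κ.1.2 • ev m x ax hax j φ := by
  rw [ev_apply, ← map_smul, ← map_smul, ← map_smul, ← map_smul, smul_κ hinj m x ax hax κ]

include hinj hN in
theorem ev_mem_D (φ : LinearMap.ker (pTwo (R := R) m) →ₗ[R] N₀) :
    ev m x ax hax j φ ∈ D m N x := by
  have hmem : ∀ n₀ : N₀, j n₀ ∈ N := fun n₀ => hN ▸ LinearMap.mem_range_self j n₀
  refine ⟨hmem _, fun a y h => ?_⟩
  refine ⟨j (φ ⟨(a, y), (mem_ker_pTwo m a y).mpr h⟩), hmem _, ?_⟩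
  exact (smul_apply_eq hinj m x ax hax j φ ⟨(a, y), (mem_ker_pTwo m a y).mpr h⟩).symm

/-- evaluation, with values in `D`. -/
noncomputable def evD : (LinearMap.ker (pTwo (R := R) m) →ₗ[R] N₀) →ₗ[R] D m N x :=
  LinearMap.codRestrict _ (ev m x ax hax j) (ev_mem_D hinj m N x ax hax j hN)

include hx hj in
theorem evD_injective : Function.Injective (evD hinj m N x ax hax j hN) := by
  rw [injective_iff_map_eq_zero]
  intro φ hφ
  have h0 : ev m x ax hax j φ = 0 := congrArg Subtype.val hφ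
  apply LinearMap.ext
  intro κ
  apply hj
  apply smul_x_cancel hinj x hx
  rw [smul_apply_eq hinj m x ax hax j φ κ, h0, smul_zero]
  simp

include hx hj in
theorem evD_surjective : Function.Surjective (evD hinj m N x ax hax j hN) := by
  rintro ⟨z, hz⟩
  have hch : ∀ κ : LinearMap.ker (pTwo (R := R) m), ∃ n₀ : N₀, κ.1.2 • z = x • j n₀ := fun κ => by
    obtain ⟨n, hn, e⟩ := hz.2 κ.1.1 κ.1.2 ((mem_ker_pTwo m κ.1.1 κ.1.2).mp κ.2)
    rw [← hN] at hn
    obtain ⟨n₀, rfl⟩ := hn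
    exact ⟨n₀, e⟩
  let φ : LinearMap.ker (pTwo (R := R) m) →ₗ[R] N₀ :=
    { toFun := fun κ => (hch κ).choose
      map_add' := by
        intro κ κ'
        apply hj
        apply smul_x_cancel hinj x hx
        rw [map_add, smul_add, ← (hch κ).choose_spec, ← (hch κ').choose_spec,
          ← (hch (κ + κ')).choose_spec, ← add_smul]
        rfl
      map_smul' := by
        intro r κ
        apply hj
        apply smul_x_cancel hinj x hx
        rw [RingHom.id_apply, map_smul, smul_comm x r, ← (hch κ).choose_spec,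
          ← (hch (r • κ)).choose_spec, ← mul_smul]
        rfl }
  refine ⟨φ, Subtype.ext ?_⟩
  change j (φ (κx m x ax hax)) = z
  apply smul_x_cancel hinj x hx
  exact ((hch (κx m x ax hax)).choose_spec).symm

include hinj hax in
theorem P_le_D : P m N x ≤ D m N x := by
  rintro z ⟨u, hu, v, hv, rfl⟩
  have hmu : x • (m * u) = (-ax) • u := by
    have h2 : x • m = -(ax • (1 : B)) := eq_neg_of_add_eq_zero_right hax
    rw [← smul_mul_assoc, h2, neg_mul, smul_mul_assoc, one_mul, neg_smul]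
  refine ⟨?_, fun a y h => ?_⟩
  · rw [smul_add, hmu]
    exact N.add_mem (N.smul_mem _ hv) (N.smul_mem _ hu)
  · have hym : y • (m * u) = (-a) • u := by
      have h2 : y • m = -(a • (1 : B)) := eq_neg_of_add_eq_zero_right h
      rw [← smul_mul_assoc, h2, neg_mul, smul_mul_assoc, one_mul, neg_smul]
    refine ⟨y • v + (-a) • u, N.add_mem (N.smul_mem _ hv) (N.smul_mem _ hu), ?_⟩
    rw [smul_comm y x, smul_add y, hym]

include hinj hx hj in
theorem map_range_eq :
    (LinearMap.range (LinearMap.lcomp R N₀ (LinearMap.ker (pTwo (R := R) m)).subtype)).map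
      (LinearEquiv.ofBijective (evD hinj m N x ax hax j hN)
        ⟨evD_injective hinj m N x ax hx hax j hj hN, evD_surjective hinj m N x ax hx hax j hj hN⟩ :
        (LinearMap.ker (pTwo (R := R) m) →ₗ[R] N₀) →ₗ[R] D m N x) =
      (P m N x).submoduleOf (D m N x) := by
  have hmu : ∀ u : B, x • (m * u) = (-ax) • u := by
    intro u
    have h2 : x • m = -(ax • (1 : B)) := eq_neg_of_add_eq_zero_right hax
    rw [← smul_mul_assoc, h2, neg_mul, smul_mul_assoc, one_mul, neg_smul]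
  have hmem : ∀ n₀ : N₀, j n₀ ∈ N := fun n₀ => hN ▸ LinearMap.mem_range_self j n₀
  ext ⟨z, hzD⟩
  rw [Submodule.mem_map]
  change _ ↔ z ∈ P m N x
  constructor
  · rintro ⟨φ, ⟨ψ, rfl⟩, hφz⟩
    have hz : ev m x ax hax j
        (LinearMap.lcomp R N₀ (LinearMap.ker (pTwo (R := R) m)).subtype ψ) = z :=
      congrArg Subtype.val hφz
    rw [ev_apply] at hz
    have h1 : (LinearMap.lcomp R N₀ (LinearMap.ker (pTwo (R := R) m)).subtype ψ)
        (κx m x ax hax) = ax • ψ (1, 0) + x • ψ (0, 1) := by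
      change ψ (ax, x) = _
      rw [← map_smul, ← map_smul, ← map_add]
      congr 1
      simp
    rw [h1, map_add, map_smul, map_smul] at hz
    refine ⟨-(j (ψ (1, 0))), N.neg_mem (hmem _), j (ψ (0, 1)), hmem _, ?_⟩
    rw [← hz, smul_add, hmu, neg_smul, smul_neg, neg_neg, add_comm]
  · rintro ⟨u, hu, v, hv, rfl⟩
    rw [← hN] at hu hv
    obtain ⟨u₀, rfl⟩ := hu
    obtain ⟨v₀, rfl⟩ := hv
    let ψ : (R × R) →ₗ[R] N₀ :=
      (LinearMap.toSpanSingleton R N₀ (-u₀)).coprod (LinearMap.toSpanSingleton R N₀ v₀)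
    refine ⟨LinearMap.lcomp R N₀ (LinearMap.ker (pTwo (R := R) m)).subtype ψ, ⟨ψ, rfl⟩, ?_⟩
    apply Subtype.ext
    change j (ψ (ax, x)) = x • (j v₀ + m * j u₀)
    rw [LinearMap.coprod_apply, LinearMap.toSpanSingleton_apply, LinearMap.toSpanSingleton_apply,
      smul_add, hmu, map_add, map_smul, map_smul, map_neg, smul_neg, neg_smul, add_comm]

/-- transport of a quotient along a linear equivalence (generic form). -/
noncomputable def quotEquivGeneric {H D₀ : Type u}
    [AddCommGroup H] [Module R H] [AddCommGroup D₀] [Module R D₀]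
    (S : Submodule R H) (Q : Submodule R D₀) (e : H ≃ₗ[R] D₀)
    (h : S.map (e : H →ₗ[R] D₀) = Q) : (H ⧸ S) ≃ₗ[R] (D₀ ⧸ Q) :=
  Submodule.Quotient.equiv S Q e h

include hinj hx hax hj hN in
/-- `Ext¹(R·1 + R·m, N) ≃ₗ D / P`. -/
theorem extOneTwoGen :
    Nonempty (Abelian.Ext (ModuleCat.of R ↥(Submodule.span R ({1, m} : Set B)))
      (ModuleCat.of R N₀) 1 ≃ₗ[R] (↥(D m N x) ⧸ (P m N x).submoduleOf (D m N x))) := by
  have e1 := extOneEquiv (pTwo (R := R) m) (pTwo_surjective m) N₀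
  have e2 := quotEquivGeneric (H := LinearMap.ker (pTwo (R := R) m) →ₗ[R] N₀)
    (D₀ := ↥(D m N x))
    (LinearMap.range (LinearMap.lcomp R N₀ (LinearMap.ker (pTwo (R := R) m)).subtype))
    ((P m N x).submoduleOf (D m N x))
    (LinearEquiv.ofBijective (evD hinj m N x ax hax j hN)
        ⟨evD_injective hinj m N x ax hx hax j hj hN, evD_surjective hinj m N x ax hx hax j hj hN⟩)
    (map_range_eq hinj m N x ax hx hax j hj hN)
  exact ⟨e1.symm.trans e2⟩

end TwoGen

end Groth.Agent.Lib.Helper8.ExtPres
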