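import Mathlib
import Groth.Agent.Lib.Helper8ExtPres

/-!
# `Ext¹` of a two-generated submodule of an arbitrary module (helper24)

Generalisation of helper8's `ExtPres.extOneTwoGen` (which needs a domain `B` and generators `1, m`):
here `B` is any `R`-module, `M = R g₁ + R g₂ ⊆ B`, with a relation `ax • g₁ + x • g₂ = 0` such that
`x` acts injectively on `B` and `g₁` has no `R`-torsion.  Then for `N ⊆ B`,
`Ext¹(M, N) ≃ₗ D / P` for the explicit submodules
`D = {z ∈ N | ∀ (a, y) with a g₁ + y g₂ = 0, y z ∈ x N}` and `P = ax N + x N`.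
-/

set_option autoImplicit false
set_option backward.isDefEq.respectTransparency.types false
set_option maxHeartbeats 4000000
set_option synthInstance.maxHeartbeats 400000
set_option linter.style.haveILetI false
set_option linter.unusedSectionVars false
open CategoryTheory

namespace Groth.Agent.Lib.Helper24ExtTwoGen
open Groth.Agent.Lib.Helper8.ExtPres

universe u

variable {R B : Type u} [CommRing R] [AddCommGroup B] [Module R B]
  (g₁ g₂ : B) (N : Submodule R B) (x ax : R)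
  (hreg : ∀ b b' : B, x • b = x • b' → b = b')
  (hg₁ : ∀ r : R, r • g₁ = 0 → r = 0)
  (hax : ax • g₁ + x • g₂ = 0)

/-- the surjection `R × R → R g₁ + R g₂`. -/
noncomputable def pTwo : (R × R) →ₗ[R] ↥(Submodule.span R ({g₁, g₂} : Set B)) :=
  LinearMap.codRestrict _
    ((LinearMap.toSpanSingleton R B g₁).coprod (LinearMap.toSpanSingleton R B g₂)) (by
      rintro ⟨a, y⟩
      rw [LinearMap.coprod_apply, LinearMap.toSpanSingleton_apply,
        LinearMap.toSpanSingleton_apply]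
      exact Submodule.add_mem _ (Submodule.smul_mem _ _ (Submodule.subset_span (by simp)))
        (Submodule.smul_mem _ _ (Submodule.subset_span (by simp))))

theorem pTwo_apply (a y : R) :
    ((pTwo g₁ g₂ (a, y) : ↥(Submodule.span R ({g₁, g₂} : Set B))) : B) = a • g₁ + y • g₂ := by
  unfold pTwo
  rw [LinearMap.codRestrict_apply, LinearMap.coprod_apply, LinearMap.toSpanSingleton_apply,
    LinearMap.toSpanSingleton_apply]

theorem pTwo_surjective : Function.Surjective (pTwo (R := R) g₁ g₂) := by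
  rintro ⟨z, hz⟩
  obtain ⟨a, y, rfl⟩ := Submodule.mem_span_pair.mp hz
  exact ⟨(a, y), Subtype.ext (pTwo_apply g₁ g₂ a y)⟩

theorem mem_ker_pTwo (a y : R) :
    (a, y) ∈ LinearMap.ker (pTwo (R := R) g₁ g₂) ↔ a • g₁ + y • g₂ = 0 := by
  rw [LinearMap.mem_ker, ← pTwo_apply g₁ g₂ a y]
  constructor
  · intro h
    rw [h]
    rfl
  · intro h
    exact Subtype.ext h

/-- the submodule `D = {z ∈ N | z · K₀ ⊆ x N}`. -/
def D : Submodule R B where
  carrier := {z | z ∈ N ∧ ∀ a y : R, a • g₁ + y • g₂ = 0 → ∃ n ∈ N, y • z = x • n}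
  zero_mem' := ⟨N.zero_mem, fun a y _ => ⟨0, N.zero_mem, by rw [smul_zero, smul_zero]⟩⟩
  add_mem' := by
    rintro z z' ⟨hz, hz2⟩ ⟨hz', hz2'⟩
    refine ⟨N.add_mem hz hz', fun a y h => ?_⟩
    obtain ⟨n, hn, e⟩ := hz2 a y h
    obtain ⟨n', hn', e'⟩ := hz2' a y h
    exact ⟨n + n', N.add_mem hn hn', by rw [smul_add, smul_add, e, e']⟩
  smul_mem' := by
    rintro r z ⟨hz, hz2⟩
    refine ⟨N.smul_mem r hz, fun a y h => ?_⟩
    obtain ⟨n, hn, e⟩ := hz2 a y h
    exact ⟨r • n, N.smul_mem r hn, by rw [smul_comm y r z, e, smul_comm r x n]⟩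

theorem mem_D (z : B) : z ∈ D g₁ g₂ N x ↔
    z ∈ N ∧ ∀ a y : R, a • g₁ + y • g₂ = 0 → ∃ n ∈ N, y • z = x • n := Iff.rfl

/-- the submodule `P = ax N + x N`. -/
def P : Submodule R B where
  carrier := {z | ∃ u ∈ N, ∃ v ∈ N, z = ax • u + x • v}
  zero_mem' := ⟨0, N.zero_mem, 0, N.zero_mem, by simp⟩
  add_mem' := by
    rintro z z' ⟨u, hu, v, hv, rfl⟩ ⟨u', hu', v', hv', rfl⟩
    exact ⟨u + u', N.add_mem hu hu', v + v', N.add_mem hv hv', by
      rw [smul_add, smul_add]; abel⟩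
  smul_mem' := by
    rintro r z ⟨u, hu, v, hv, rfl⟩
    refine ⟨r • u, N.smul_mem r hu, r • v, N.smul_mem r hv, ?_⟩
    rw [smul_add, smul_comm r ax, smul_comm r x]

theorem mem_P (z : B) : z ∈ P N x ax ↔ ∃ u ∈ N, ∃ v ∈ N, z = ax • u + x • v := Iff.rfl

/-- the distinguished syzygy `(ax, x)`. -/
def κx : LinearMap.ker (pTwo (R := R) g₁ g₂) := ⟨(ax, x), (mem_ker_pTwo g₁ g₂ ax x).mpr hax⟩

include hg₁ in
theorem smul_κ (κ : LinearMap.ker (pTwo (R := R) g₁ g₂)) :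
    x • κ = κ.1.2 • κx g₁ g₂ x ax hax := by
  obtain ⟨⟨a, y⟩, hκ⟩ := κ
  have h := (mem_ker_pTwo g₁ g₂ a y).mp hκ
  apply Subtype.ext
  apply Prod.ext
  · change x * a = y * ax
    have e1 : (x * a - y * ax) • g₁ = 0 := by
      have h1 : a • g₁ = -(y • g₂) := eq_neg_of_add_eq_zero_left h
      have h2 : ax • g₁ = -(x • g₂) := eq_neg_of_add_eq_zero_left hax
      rw [sub_smul, mul_smul, mul_smul, h1, h2, smul_neg, smul_neg, smul_comm, sub_self]
    exact sub_eq_zero.mp (hg₁ _ e1)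
  · change x * y = y * x
    exact mul_comm x y

variable {N₀ : Type u} [AddCommGroup N₀] [Module R N₀] (j : N₀ →ₗ[R] B)
  (hj : Function.Injective j) (hN : LinearMap.range j = N)

/-- evaluation at the distinguished syzygy. -/
noncomputable def ev : (LinearMap.ker (pTwo (R := R) g₁ g₂) →ₗ[R] N₀) →ₗ[R] B :=
  j ∘ₗ LinearMap.applyₗ (κx g₁ g₂ x ax hax)

theorem ev_apply (φ : LinearMap.ker (pTwo (R := R) g₁ g₂) →ₗ[R] N₀) :
    ev g₁ g₂ x ax hax j φ = j (φ (κx g₁ g₂ x ax hax)) := rfl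

include hg₁ in
theorem smul_apply_eq (φ : LinearMap.ker (pTwo (R := R) g₁ g₂) →ₗ[R] N₀)
    (κ : LinearMap.ker (pTwo (R := R) g₁ g₂)) :
    x • j (φ κ) = κ.1.2 • ev g₁ g₂ x ax hax j φ := by
  rw [ev_apply, ← map_smul, ← map_smul, ← map_smul, ← map_smul, smul_κ g₁ g₂ x ax hg₁ hax κ]

include hg₁ hN in
theorem ev_mem_D (φ : LinearMap.ker (pTwo (R := R) g₁ g₂) →ₗ[R] N₀) :
    ev g₁ g₂ x ax hax j φ ∈ D g₁ g₂ N x := by
  have hmem : ∀ n₀ : N₀, j n₀ ∈ N := fun n₀ => hN ▸ LinearMap.mem_range_self j n₀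
  refine ⟨hmem _, fun a y h => ?_⟩
  refine ⟨j (φ ⟨(a, y), (mem_ker_pTwo g₁ g₂ a y).mpr h⟩), hmem _, ?_⟩
  exact (smul_apply_eq g₁ g₂ x ax hg₁ hax j φ ⟨(a, y), (mem_ker_pTwo g₁ g₂ a y).mpr h⟩).symm

/-- evaluation, with values in `D`. -/
noncomputable def evD : (LinearMap.ker (pTwo (R := R) g₁ g₂) →ₗ[R] N₀) →ₗ[R] D g₁ g₂ N x :=
  LinearMap.codRestrict _ (ev g₁ g₂ x ax hax j) (ev_mem_D g₁ g₂ N x ax hg₁ hax j hN)

include hreg hj in
theorem evD_injective : Function.Injective (evD g₁ g₂ N x ax hg₁ hax j hN) := by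
  rw [injective_iff_map_eq_zero]
  intro φ hφ
  have h0 : ev g₁ g₂ x ax hax j φ = 0 := congrArg Subtype.val hφ
  apply LinearMap.ext
  intro κ
  apply hj
  apply hreg
  rw [smul_apply_eq g₁ g₂ x ax hg₁ hax j φ κ, h0, smul_zero]
  simp

include hreg hj in
theorem evD_surjective : Function.Surjective (evD g₁ g₂ N x ax hg₁ hax j hN) := by
  rintro ⟨z, hz⟩
  have hch : ∀ κ : LinearMap.ker (pTwo (R := R) g₁ g₂), ∃ n₀ : N₀, κ.1.2 • z = x • j n₀ :=
    fun κ => by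
      obtain ⟨n, hn, e⟩ := hz.2 κ.1.1 κ.1.2 ((mem_ker_pTwo g₁ g₂ κ.1.1 κ.1.2).mp κ.2)
      rw [← hN] at hn
      obtain ⟨n₀, rfl⟩ := hn
      exact ⟨n₀, e⟩
  let φ : LinearMap.ker (pTwo (R := R) g₁ g₂) →ₗ[R] N₀ :=
    { toFun := fun κ => (hch κ).choose
      map_add' := by
        intro κ κ'
        apply hj
        apply hreg
        rw [map_add, smul_add, ← (hch κ).choose_spec, ← (hch κ').choose_spec,
          ← (hch (κ + κ')).choose_spec, ← add_smul]
        rfl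
      map_smul' := by
        intro r κ
        apply hj
        apply hreg
        rw [RingHom.id_apply, map_smul, smul_comm x r, ← (hch κ).choose_spec,
          ← (hch (r • κ)).choose_spec, ← mul_smul]
        rfl }
  refine ⟨φ, Subtype.ext ?_⟩
  change j (φ (κx g₁ g₂ x ax hax)) = z
  apply hreg
  exact ((hch (κx g₁ g₂ x ax hax)).choose_spec).symm

include hreg hj in
theorem map_range_eq :
    (LinearMap.range (LinearMap.lcomp R N₀ (LinearMap.ker (pTwo (R := R) g₁ g₂)).subtype)).map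
      (LinearEquiv.ofBijective (evD g₁ g₂ N x ax hg₁ hax j hN)
        ⟨evD_injective g₁ g₂ N x ax hreg hg₁ hax j hj hN,
          evD_surjective g₁ g₂ N x ax hreg hg₁ hax j hj hN⟩ :
        (LinearMap.ker (pTwo (R := R) g₁ g₂) →ₗ[R] N₀) →ₗ[R] D g₁ g₂ N x) =
      (P N x ax).submoduleOf (D g₁ g₂ N x) := by
  have hmem : ∀ n₀ : N₀, j n₀ ∈ N := fun n₀ => hN ▸ LinearMap.mem_range_self j n₀
  ext ⟨z, hzD⟩
  rw [Submodule.mem_map]
  change _ ↔ z ∈ P N x ax
  constructor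
  · rintro ⟨φ, ⟨ψ, rfl⟩, hφz⟩
    have hz : ev g₁ g₂ x ax hax j
        (LinearMap.lcomp R N₀ (LinearMap.ker (pTwo (R := R) g₁ g₂)).subtype ψ) = z :=
      congrArg Subtype.val hφz
    rw [ev_apply] at hz
    have h1 : (LinearMap.lcomp R N₀ (LinearMap.ker (pTwo (R := R) g₁ g₂)).subtype ψ)
        (κx g₁ g₂ x ax hax) = ax • ψ (1, 0) + x • ψ (0, 1) := by
      change ψ (ax, x) = _
      rw [← map_smul, ← map_smul, ← map_add]
      congr 1
      simp
    rw [h1, map_add, map_smul, map_smul] at hz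
    exact ⟨j (ψ (1, 0)), hmem _, j (ψ (0, 1)), hmem _, hz.symm⟩
  · rintro ⟨u, hu, v, hv, rfl⟩
    rw [← hN] at hu hv
    obtain ⟨u₀, rfl⟩ := hu
    obtain ⟨v₀, rfl⟩ := hv
    let ψ : (R × R) →ₗ[R] N₀ :=
      (LinearMap.toSpanSingleton R N₀ u₀).coprod (LinearMap.toSpanSingleton R N₀ v₀)
    refine ⟨LinearMap.lcomp R N₀ (LinearMap.ker (pTwo (R := R) g₁ g₂)).subtype ψ, ⟨ψ, rfl⟩, ?_⟩
    apply Subtype.ext
    change j (ψ (ax, x)) = ax • j u₀ + x • j v₀
    rw [LinearMap.coprod_apply, LinearMap.toSpanSingleton_apply, LinearMap.toSpanSingleton_apply,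
      map_add, map_smul, map_smul]

include hreg hg₁ hax hj hN in
/-- `Ext¹(R g₁ + R g₂, N) ≃ₗ D / P`. -/
theorem extOneTwoGen :
    Nonempty (Abelian.Ext (ModuleCat.of R ↥(Submodule.span R ({g₁, g₂} : Set B)))
      (ModuleCat.of R N₀) 1 ≃ₗ[R]
        (↥(D g₁ g₂ N x) ⧸ (P N x ax).submoduleOf (D g₁ g₂ N x))) := by
  have e1 := extOneEquiv (pTwo (R := R) g₁ g₂) (pTwo_surjective g₁ g₂) N₀
  have e2 := quotEquivGeneric (H := LinearMap.ker (pTwo (R := R) g₁ g₂) →ₗ[R] N₀)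
    (D₀ := ↥(D g₁ g₂ N x))
    (LinearMap.range (LinearMap.lcomp R N₀ (LinearMap.ker (pTwo (R := R) g₁ g₂)).subtype))
    ((P N x ax).submoduleOf (D g₁ g₂ N x))
    (LinearEquiv.ofBijective (evD g₁ g₂ N x ax hg₁ hax j hN)
        ⟨evD_injective g₁ g₂ N x ax hreg hg₁ hax j hj hN,
          evD_surjective g₁ g₂ N x ax hreg hg₁ hax j hj hN⟩)
    (map_range_eq g₁ g₂ N x ax hreg hg₁ hax j hj hN)
  exact ⟨e1.symm.trans e2⟩

end Groth.Agent.Lib.Helper24ExtTwoGen
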