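import Mathlib
import Groth.Agent.Lib.Helper24ExtTwoGen
import Groth.Agent.Lib.Helper8Mon2

/-!
# The two-branch singularity `A_{2δ-1}`: lattices in `k[[t]] × k[[t]]` (helper24)
-/

set_option autoImplicit false
set_option backward.isDefEq.respectTransparency.types false
set_option maxHeartbeats 4000000
set_option synthInstance.maxHeartbeats 400000
set_option linter.style.haveILetI false
set_option linter.unusedSectionVars false
open PowerSeries

namespace Groth.Agent.Lib.Helper24Aodd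

universe u

variable {k : Type u} [Field k]

theorem le_order_iff_dvd (n : ℕ) (g : PowerSeries k) :
    (n : ℕ∞) ≤ PowerSeries.order g ↔ (X : PowerSeries k) ^ n ∣ g := by
  rw [PowerSeries.X_pow_dvd_iff]
  constructor
  · intro h m hm
    exact PowerSeries.coeff_of_lt_order m (lt_of_lt_of_le (by exact_mod_cast hm) h)
  · intro h
    exact PowerSeries.nat_le_order g n h

theorem X_pow_dvd_cancel {a b : ℕ} {f : PowerSeries k}
    (h : (X : PowerSeries k) ^ (a + b) ∣ X ^ a * f) : (X : PowerSeries k) ^ b ∣ f := by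
  rw [pow_add] at h
  exact (mul_dvd_mul_iff_left (pow_ne_zero a PowerSeries.X_ne_zero)).mp h

/-- the lattice `{z | t^a ∣ z₁, z₂ and t^c ∣ z₁ - z₂}`. -/
def Lat (k : Type u) [Field k] (a c : ℕ) : Submodule k (PowerSeries k × PowerSeries k) where
  carrier := {z | (X : PowerSeries k) ^ a ∣ z.1 ∧ (X : PowerSeries k) ^ a ∣ z.2 ∧
    (X : PowerSeries k) ^ c ∣ z.1 - z.2}
  zero_mem' := ⟨dvd_zero _, dvd_zero _, by simp⟩
  add_mem' := by
    rintro z z' ⟨h1, h2, h3⟩ ⟨h1', h2', h3'⟩
    refine ⟨dvd_add h1 h1', dvd_add h2 h2', ?_⟩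
    have : (z + z').1 - (z + z').2 = (z.1 - z.2) + (z'.1 - z'.2) := by
      simp only [Prod.fst_add, Prod.snd_add]; ring
    rw [this]
    exact dvd_add h3 h3'
  smul_mem' := by
    rintro r z ⟨h1, h2, h3⟩
    refine ⟨?_, ?_, ?_⟩
    · rw [Prod.smul_fst, Algebra.smul_def]; exact Dvd.dvd.mul_left h1 _
    · rw [Prod.smul_snd, Algebra.smul_def]; exact Dvd.dvd.mul_left h2 _
    · rw [Prod.smul_fst, Prod.smul_snd, ← smul_sub, Algebra.smul_def]; exact Dvd.dvd.mul_left h3 _

theorem mem_Lat {a c : ℕ} {z : PowerSeries k × PowerSeries k} :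
    z ∈ Lat k a c ↔ (X : PowerSeries k) ^ a ∣ z.1 ∧ (X : PowerSeries k) ^ a ∣ z.2 ∧
      (X : PowerSeries k) ^ c ∣ z.1 - z.2 := Iff.rfl

variable (δ : ℕ) (O : Subalgebra k (PowerSeries k × PowerSeries k))
  (hO : ∀ f : PowerSeries k × PowerSeries k, f ∈ O ↔ (δ : ℕ∞) ≤ PowerSeries.order (f.1 - f.2))

include hO in
theorem mem_O (f : PowerSeries k × PowerSeries k) :
    f ∈ O ↔ (X : PowerSeries k) ^ δ ∣ f.1 - f.2 := by
  rw [hO, le_order_iff_dvd]

theorem smul_eq (o : ↥O) (z : PowerSeries k × PowerSeries k) :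
    o • z = ((o : PowerSeries k × PowerSeries k).1 * z.1,
      (o : PowerSeries k × PowerSeries k).2 * z.2) := by
  rw [Subalgebra.smul_def]
  rfl

include hO in
theorem diag_mem (f : PowerSeries k) : (f, f) ∈ O := by
  rw [mem_O δ O hO]
  simp

/-- diagonal elements of `O`. -/
def diag (f : PowerSeries k) : ↥O := ⟨(f, f), diag_mem δ O hO f⟩

include hO in
theorem left_mem {f : PowerSeries k} (hf : (X : PowerSeries k) ^ δ ∣ f) : (f, 0) ∈ O := by
  rw [mem_O δ O hO]
  simpa using hf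

/-- elements `(f, 0)` of `O`, `t^δ ∣ f`. -/
def left (f : PowerSeries k) (hf : (X : PowerSeries k) ^ δ ∣ f) : ↥O := ⟨(f, 0), left_mem δ O hO hf⟩

include hO in
/-- the module `I_i = O (t^i, t^i) + O (t^δ, 0)` as a lattice. -/
theorem mem_span_iff (i : ℕ) (hi : i ≤ δ) (z : PowerSeries k × PowerSeries k) :
    z ∈ Submodule.span ↥O ({((X : PowerSeries k) ^ i, (X : PowerSeries k) ^ i),
      ((X : PowerSeries k) ^ δ, 0)} : Set (PowerSeries k × PowerSeries k)) ↔ z ∈ Lat k i δ := by
  constructor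
  · intro hz
    obtain ⟨a, y, rfl⟩ := Submodule.mem_span_pair.mp hz
    have ha := (mem_O δ O hO _).mp a.2
    rw [smul_eq, smul_eq, mem_Lat]
    simp only [Prod.fst_add, Prod.snd_add, mul_zero, add_zero]
    have hiδ : (X : PowerSeries k) ^ i ∣ X ^ δ := pow_dvd_pow _ hi
    refine ⟨dvd_add (Dvd.dvd.mul_left dvd_rfl _) (Dvd.dvd.mul_left hiδ _),
      Dvd.dvd.mul_left dvd_rfl _, ?_⟩
    have : (a : PowerSeries k × PowerSeries k).1 * X ^ i + (y : PowerSeries k × PowerSeries k).1 * X ^ δ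
        - (a : PowerSeries k × PowerSeries k).2 * X ^ i =
        ((a : PowerSeries k × PowerSeries k).1 - (a : PowerSeries k × PowerSeries k).2) * X ^ i +
          (y : PowerSeries k × PowerSeries k).1 * X ^ δ := by ring
    rw [this]
    exact dvd_add (Dvd.dvd.mul_right ha _) (Dvd.dvd.mul_left dvd_rfl _)
  · rintro ⟨h1, h2, h3⟩
    obtain ⟨q, hq⟩ := h2
    obtain ⟨r, hr⟩ := h3
    rw [Submodule.mem_span_pair]
    refine ⟨diag δ O hO q, diag δ O hO r, ?_⟩
    rw [smul_eq, smul_eq]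
    apply Prod.ext
    · simp only [diag, Prod.fst_add, mul_zero]
      linear_combination -hq - hr
    · simp only [diag, Prod.snd_add, mul_zero, add_zero]
      linear_combination -hq

end Groth.Agent.Lib.Helper24Aodd
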