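import Mathlib
import Groth.Agent.Lib.Helper24AoddA

/-!
# The two-branch singularity `A_{2δ-1}`: `O` is local with residue field `k` (helper24)
-/

set_option autoImplicit false
set_option backward.isDefEq.respectTransparency.types false
set_option maxHeartbeats 4000000
set_option synthInstance.maxHeartbeats 400000
set_option linter.style.haveILetI false
set_option linter.unusedSectionVars false
open PowerSeries

namespace Groth.Agent.Lib.Helper24Aodd

universe u

variable {k : Type u} [Field k]
variable (δ : ℕ) (O : Subalgebra k (PowerSeries k × PowerSeries k))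
  (hO : ∀ f : PowerSeries k × PowerSeries k, f ∈ O ↔ (δ : ℕ∞) ≤ PowerSeries.order (f.1 - f.2))

/-- the residue map `O → k`. -/
noncomputable def res : ↥O →+* k :=
  (PowerSeries.constantCoeff (R := k)).comp
    ((RingHom.fst (PowerSeries k) (PowerSeries k)).comp O.val.toRingHom)

theorem res_apply (a : ↥O) :
    res O a = constantCoeff (a : PowerSeries k × PowerSeries k).1 := rfl

include hO in
theorem constCoeff_snd (hδ : 1 ≤ δ) (a : ↥O) :
    constantCoeff (a : PowerSeries k × PowerSeries k).2 =
      constantCoeff (a : PowerSeries k × PowerSeries k).1 := by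
  obtain ⟨q, hq⟩ := (mem_O δ O hO _).mp a.2
  have h0 : constantCoeff ((a : PowerSeries k × PowerSeries k).1 -
      (a : PowerSeries k × PowerSeries k).2) = 0 := by
    rw [hq, map_mul, map_pow, constantCoeff_X, zero_pow (by omega), zero_mul]
  rw [map_sub, sub_eq_zero] at h0
  exact h0.symm

include hO in
theorem isUnit_of (hδ : 1 ≤ δ) (a : ↥O) (h : res O a ≠ 0) : IsUnit a := by
  rw [res_apply] at h
  have h2 : constantCoeff (a : PowerSeries k × PowerSeries k).2 ≠ 0 := by
    rw [constCoeff_snd δ O hO hδ]; exact h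
  have e1 := PowerSeries.mul_inv_cancel _ h
  have e2 := PowerSeries.mul_inv_cancel _ h2
  have hb : (((a : PowerSeries k × PowerSeries k).1)⁻¹,
      ((a : PowerSeries k × PowerSeries k).2)⁻¹) ∈ O := by
    rw [mem_O δ O hO]
    obtain ⟨q, hq⟩ := (mem_O δ O hO _).mp a.2
    refine ⟨-(((a : PowerSeries k × PowerSeries k).1)⁻¹ *
      ((a : PowerSeries k × PowerSeries k).2)⁻¹ * q), ?_⟩
    simp only
    calc ((a : PowerSeries k × PowerSeries k).1)⁻¹ - ((a : PowerSeries k × PowerSeries k).2)⁻¹
        = ((a : PowerSeries k × PowerSeries k).1)⁻¹ *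
            ((a : PowerSeries k × PowerSeries k).2 * ((a : PowerSeries k × PowerSeries k).2)⁻¹) -
          ((a : PowerSeries k × PowerSeries k).2)⁻¹ *
            ((a : PowerSeries k × PowerSeries k).1 * ((a : PowerSeries k × PowerSeries k).1)⁻¹) := by
          rw [e1, e2, mul_one, mul_one]
      _ = -(((a : PowerSeries k × PowerSeries k).1)⁻¹ * ((a : PowerSeries k × PowerSeries k).2)⁻¹ *
            ((a : PowerSeries k × PowerSeries k).1 - (a : PowerSeries k × PowerSeries k).2)) := by
          ring
      _ = _ := by rw [hq]; ring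
  refine isUnit_iff_exists_inv.mpr ⟨⟨_, hb⟩, ?_⟩
  apply Subtype.ext
  rw [Subalgebra.coe_mul, Subalgebra.coe_one]
  exact Prod.ext e1 e2

theorem res_ne_zero_of_isUnit (a : ↥O) (h : IsUnit a) : res O a ≠ 0 :=
  (h.map (res O)).ne_zero

include hO in
theorem isLocalRing (hδ : 1 ≤ δ) : IsLocalRing ↥O := by
  apply IsLocalRing.of_isUnit_or_isUnit_one_sub_self
  intro a
  by_cases h : res O a = 0
  · right
    apply isUnit_of δ O hO hδ
    rw [map_sub, map_one, h, sub_zero]
    exact one_ne_zero
  · left
    exact isUnit_of δ O hO hδ a h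

theorem res_algebraMap (c : k) : res O (algebraMap k ↥O c) = c := by
  rw [res_apply, Subalgebra.coe_algebraMap, Prod.algebraMap_apply]
  simp

include hO in
theorem hres (hδ : 1 ≤ δ) : letI := isLocalRing δ O hO hδ
    ∀ a : ↥O, ∃ c : k, a - algebraMap k ↥O c ∈ IsLocalRing.maximalIdeal ↥O := by
  letI := isLocalRing δ O hO hδ
  intro a
  refine ⟨res O a, ?_⟩
  rw [IsLocalRing.mem_maximalIdeal, mem_nonunits_iff]
  intro hu
  apply res_ne_zero_of_isUnit O _ hu
  rw [map_sub, res_algebraMap, sub_self]

end Groth.Agent.Lib.Helper24Aodd
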