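import Mathlib
import Groth.Agent.Lib.Helper24AoddB

/-!
# The two-branch singularity `A_{2δ-1}`: the modules `D` and `P` computing `Ext¹(I_i, I_j)` (helper24)
-/

set_option autoImplicit false
set_option backward.isDefEq.respectTransparency.types false
set_option maxHeartbeats 4000000
set_option synthInstance.maxHeartbeats 400000
set_option linter.style.haveILetI false
set_option linter.unusedSectionVars false
open PowerSeries

namespace Groth.Agent.Lib.Helper24Aodd
open Groth.Agent.Lib.Helper24ExtTwoGen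

universe u

variable {k : Type u} [Field k]

theorem X_pow_dvd_mul {a b c : ℕ} {f g : PowerSeries k} (h1 : (X : PowerSeries k) ^ a ∣ f)
    (h2 : (X : PowerSeries k) ^ b ∣ g) (h : c ≤ a + b) : (X : PowerSeries k) ^ c ∣ f * g :=
  (pow_dvd_pow X h).trans (by rw [pow_add]; exact mul_dvd_mul h1 h2)

theorem X_pow_dvd_of_le {a c : ℕ} {f : PowerSeries k} (h1 : (X : PowerSeries k) ^ a ∣ f)
    (h : c ≤ a) : (X : PowerSeries k) ^ c ∣ f :=
  (pow_dvd_pow X h).trans h1

theorem X_pow_cancel {a : ℕ} {f g : PowerSeries k} (h : (X : PowerSeries k) ^ a * f = X ^ a * g) :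
    f = g :=
  mul_left_cancel₀ (pow_ne_zero a PowerSeries.X_ne_zero) h

variable (δ : ℕ) (O : Subalgebra k (PowerSeries k × PowerSeries k))
  (hO : ∀ f : PowerSeries k × PowerSeries k, f ∈ O ↔ (δ : ℕ∞) ≤ PowerSeries.order (f.1 - f.2))

/-- the regular element `w = (t^δ, t^δ)`. -/
noncomputable def xw : ↥O := diag δ O hO (X ^ δ)

/-- the element `(-t^{2δ-i}, 0)`. -/
noncomputable def axw (i : ℕ) (hi : i ≤ δ) : ↥O :=
  left δ O hO (-(X ^ (2 * δ - i))) ((dvd_neg).mpr (pow_dvd_pow X (by omega)))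

/-- the module `I_j`. -/
noncomputable abbrev Imod (j : ℕ) : Submodule ↥O (PowerSeries k × PowerSeries k) :=
  Submodule.span ↥O ({((X : PowerSeries k) ^ j, (X : PowerSeries k) ^ j),
      ((X : PowerSeries k) ^ δ, 0)} : Set (PowerSeries k × PowerSeries k))

theorem hax (i : ℕ) (hi : i ≤ δ) :
    axw δ O hO i hi • (((X : PowerSeries k) ^ i, (X : PowerSeries k) ^ i) :
      PowerSeries k × PowerSeries k) +
      xw δ O hO • (((X : PowerSeries k) ^ δ, 0) : PowerSeries k × PowerSeries k) = 0 := by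
  rw [smul_eq, smul_eq]
  apply Prod.ext
  · simp only [axw, xw, left, diag, Prod.fst_add, Prod.fst_zero]
    rw [neg_mul, ← pow_add, ← pow_add, show 2 * δ - i + i = δ + δ by omega, neg_add_cancel]
  · simp only [axw, xw, left, diag, Prod.snd_add, Prod.snd_zero, zero_mul, mul_zero, add_zero]

theorem hreg (b b' : PowerSeries k × PowerSeries k) (h : xw δ O hO • b = xw δ O hO • b') :
    b = b' := by
  rw [smul_eq, smul_eq] at h
  simp only [xw, diag, Prod.mk.injEq] at h
  exact Prod.ext (X_pow_cancel h.1) (X_pow_cancel h.2)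

theorem hg₁ (i : ℕ) (r : ↥O)
    (h : r • (((X : PowerSeries k) ^ i, (X : PowerSeries k) ^ i) :
      PowerSeries k × PowerSeries k) = 0) : r = 0 := by
  rw [smul_eq] at h
  have h1 := congrArg Prod.fst h
  have h2 := congrArg Prod.snd h
  simp only [Prod.fst_zero, Prod.snd_zero] at h1 h2
  have hX : (X : PowerSeries k) ^ i ≠ 0 := pow_ne_zero i PowerSeries.X_ne_zero
  apply Subtype.ext
  exact Prod.ext ((mul_eq_zero.mp h1).resolve_right hX) ((mul_eq_zero.mp h2).resolve_right hX)

include hO in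
theorem mem_D_iff (i j : ℕ) (hi : i ≤ δ) (hj : j ≤ δ) (z : PowerSeries k × PowerSeries k) :
    z ∈ D (((X : PowerSeries k) ^ i, (X : PowerSeries k) ^ i) : PowerSeries k × PowerSeries k)
      (((X : PowerSeries k) ^ δ, 0) : PowerSeries k × PowerSeries k) (Imod δ O j) (xw δ O hO) ↔
    z ∈ Lat k (δ + j - min i j) (2 * δ - i) := by
  rw [mem_D]
  constructor
  · rintro ⟨hz, hsyz⟩
    -- test 1
    have t1 : (X : PowerSeries k) ^ δ ∣ z.1 := by
      obtain ⟨n, hn, e⟩ := hsyz (axw δ O hO i hi) (left δ O hO (X ^ δ) dvd_rfl) (by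
        rw [smul_eq, smul_eq]
        apply Prod.ext
        · simp only [axw, left, Prod.fst_add, Prod.fst_zero]
          rw [neg_mul, ← pow_add, ← pow_add, show 2 * δ - i + i = δ + δ by omega, neg_add_cancel]
        · simp only [axw, left, Prod.snd_add, Prod.snd_zero, zero_mul, mul_zero, add_zero])
      rw [smul_eq, smul_eq] at e
      simp only [left, xw, diag, Prod.mk.injEq, zero_mul] at e
      have e1 : z.1 = n.1 := X_pow_cancel e.1
      have e2 : n.2 = 0 := by
        have := e.2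
        rw [← mul_zero ((X : PowerSeries k) ^ δ)] at this
        exact (X_pow_cancel this).symm
      have hn' := ((mem_span_iff δ O hO j hj n).mp hn).2.2
      rw [e2, sub_zero, ← e1] at hn'
      exact hn'
    -- test 2
    obtain ⟨n, hn, e⟩ := hsyz (left δ O hO (-(X ^ δ)) ((dvd_neg).mpr dvd_rfl))
      (diag δ O hO (X ^ i)) (by
        rw [smul_eq, smul_eq]
        apply Prod.ext
        · simp only [left, diag, Prod.fst_add, Prod.fst_zero]
          ring
        · simp only [left, diag, Prod.snd_add, Prod.snd_zero, zero_mul, mul_zero, add_zero])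
    rw [smul_eq, smul_eq] at e
    simp only [xw, diag, Prod.mk.injEq] at e
    obtain ⟨hn1, hn2, hn3⟩ := (mem_span_iff δ O hO j hj n).mp hn
    have t2 : (X : PowerSeries k) ^ (2 * δ - i) ∣ z.1 - z.2 := by
      apply X_pow_dvd_cancel (a := i)
      rw [show i + (2 * δ - i) = δ + δ by omega, mul_sub, e.1, e.2, ← mul_sub, pow_add]
      exact mul_dvd_mul dvd_rfl hn3
    have t3 : (X : PowerSeries k) ^ (δ + j - i) ∣ z.1 := by
      apply X_pow_dvd_cancel (a := i)
      rw [show i + (δ + j - i) = δ + j by omega, e.1, pow_add]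
      exact mul_dvd_mul dvd_rfl hn1
    have t4 : (X : PowerSeries k) ^ (δ + j - min i j) ∣ z.1 := by
      rcases le_total i j with hij | hij
      · rw [min_eq_left hij]; exact t3
      · rw [min_eq_right hij]; exact X_pow_dvd_of_le t1 (by omega)
    refine ⟨t4, ?_, t2⟩
    have : z.2 = z.1 - (z.1 - z.2) := by ring
    rw [this]
    refine dvd_sub t4 (X_pow_dvd_of_le t2 ?_)
    rcases le_total i j with hij | hij
    · rw [min_eq_left hij]; omega
    · rw [min_eq_right hij]; omega
  · rintro ⟨h1, h2, h3⟩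
    have hμi : min i j ≤ i := min_le_left _ _
    have hμj : min i j ≤ j := min_le_right _ _
    refine ⟨(mem_span_iff δ O hO j hj z).mpr ⟨X_pow_dvd_of_le h1 (by omega),
      X_pow_dvd_of_le h2 (by omega), X_pow_dvd_of_le h3 (by omega)⟩, ?_⟩
    intro a y hay
    rw [smul_eq, smul_eq] at hay
    have e1 := congrArg Prod.fst hay
    have e2 := congrArg Prod.snd hay
    simp only [Prod.fst_add, Prod.snd_add, Prod.fst_zero, Prod.snd_zero, mul_zero, add_zero] at e1 e2
    have hX : (X : PowerSeries k) ^ i ≠ 0 := pow_ne_zero i PowerSeries.X_ne_zero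
    have ha2 : (a : PowerSeries k × PowerSeries k).2 = 0 := (mul_eq_zero.mp e2).resolve_right hX
    obtain ⟨a', ha'⟩ := (mem_O δ O hO _).mp a.2
    rw [ha2, sub_zero] at ha'
    obtain ⟨q, hq⟩ := (mem_O δ O hO _).mp y.2
    -- y.1 = - a' X^i
    have hy1 : (y : PowerSeries k × PowerSeries k).1 = -(a' * X ^ i) := by
      apply X_pow_cancel (a := δ)
      rw [ha'] at e1
      linear_combination e1
    have hy1d : (X : PowerSeries k) ^ i ∣ (y : PowerSeries k × PowerSeries k).1 := by
      rw [hy1]; exact (dvd_neg).mpr (Dvd.dvd.mul_left dvd_rfl _)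
    have hy2 : (y : PowerSeries k × PowerSeries k).2 =
        (y : PowerSeries k × PowerSeries k).1 - X ^ δ * q := by rw [← hq]; ring
    -- the three divisibilities
    have A : (X : PowerSeries k) ^ (δ + j) ∣ (y : PowerSeries k × PowerSeries k).1 * z.1 :=
      X_pow_dvd_mul hy1d h1 (by omega)
    have B : (X : PowerSeries k) ^ (δ + j) ∣ (y : PowerSeries k × PowerSeries k).2 * z.2 := by
      rw [hy2, sub_mul]
      refine dvd_sub (X_pow_dvd_mul hy1d h2 (by omega)) ?_
      rw [mul_assoc]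
      exact X_pow_dvd_mul dvd_rfl (Dvd.dvd.mul_left h2 q) (by omega)
    have C : (X : PowerSeries k) ^ (δ + δ) ∣ (y : PowerSeries k × PowerSeries k).1 * z.1 -
        (y : PowerSeries k × PowerSeries k).2 * z.2 := by
      have : (y : PowerSeries k × PowerSeries k).1 * z.1 -
          (y : PowerSeries k × PowerSeries k).2 * z.2 =
          (y : PowerSeries k × PowerSeries k).1 * (z.1 - z.2) + X ^ δ * (q * z.2) := by
        rw [hy2]; ring
      rw [this]
      exact dvd_add (X_pow_dvd_mul hy1d h3 (by omega))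
        (X_pow_dvd_mul dvd_rfl (Dvd.dvd.mul_left h2 q) (by omega))
    obtain ⟨s₁, hs₁⟩ := A
    obtain ⟨s₂, hs₂⟩ := B
    obtain ⟨s₃, hs₃⟩ := C
    refine ⟨(X ^ j * s₁, X ^ j * s₂), (mem_span_iff δ O hO j hj _).mpr
      ⟨Dvd.intro _ rfl, Dvd.intro _ rfl, ⟨s₃, ?_⟩⟩, ?_⟩
    · simp only
      apply X_pow_cancel (a := δ)
      rw [mul_sub, ← mul_assoc, ← mul_assoc, ← pow_add, ← hs₁, ← hs₂, hs₃, pow_add, mul_assoc]
    · rw [smul_eq, smul_eq]
      simp only [xw, diag]
      rw [hs₁, hs₂, pow_add, mul_assoc, mul_assoc]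

include hO in
theorem mem_P_iff (i j : ℕ) (hi : i ≤ δ) (hj : j ≤ δ) (z : PowerSeries k × PowerSeries k) :
    z ∈ P (Imod δ O j) (xw δ O hO) (axw δ O hO i hi) ↔
    z ∈ Lat k (δ + j) (2 * δ - i + min i j) := by
  rw [mem_P]
  have hμi : min i j ≤ i := min_le_left _ _
  have hμj : min i j ≤ j := min_le_right _ _
  constructor
  · rintro ⟨u, hu, v, hv, rfl⟩
    obtain ⟨hu1, hu2, hu3⟩ := (mem_span_iff δ O hO j hj u).mp hu
    obtain ⟨hv1, hv2, hv3⟩ := (mem_span_iff δ O hO j hj v).mp hv
    rw [smul_eq, smul_eq, mem_Lat]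
    simp only [axw, xw, left, diag, Prod.fst_add, Prod.snd_add, zero_mul, zero_add]
    refine ⟨dvd_add ?_ (X_pow_dvd_mul dvd_rfl hv1 le_rfl), X_pow_dvd_mul dvd_rfl hv2 le_rfl, ?_⟩
    · rw [neg_mul]
      exact (dvd_neg).mpr (X_pow_dvd_mul dvd_rfl hu1 (by omega))
    · have : -(X : PowerSeries k) ^ (2 * δ - i) * u.1 + X ^ δ * v.1 - X ^ δ * v.2 =
          -(X ^ (2 * δ - i) * u.1) + X ^ δ * (v.1 - v.2) := by ring
      rw [this]
      exact dvd_add ((dvd_neg).mpr (X_pow_dvd_mul dvd_rfl hu1 (by omega)))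
        (X_pow_dvd_mul dvd_rfl hv3 (by omega))
  · rintro ⟨⟨r₁, hr₁⟩, ⟨r₂, hr₂⟩, ⟨q, hq⟩⟩
    rcases le_total i j with hij | hij
    · -- μ = i
      rw [min_eq_left hij, show 2 * δ - i + i = δ + δ by omega] at hq
      refine ⟨0, Submodule.zero_mem _, (X ^ j * r₁, X ^ j * r₂),
        (mem_span_iff δ O hO j hj _).mpr ⟨Dvd.intro _ rfl, Dvd.intro _ rfl, ⟨q, ?_⟩⟩, ?_⟩
      · simp only
        apply X_pow_cancel (a := δ)
        rw [mul_sub, ← mul_assoc, ← mul_assoc, ← pow_add, ← hr₁, ← hr₂, hq, pow_add, mul_assoc]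
      · rw [smul_zero, zero_add, smul_eq]
        simp only [xw, diag]
        apply Prod.ext
        · simp only; rw [hr₁, pow_add, mul_assoc]
        · simp only; rw [hr₂, pow_add, mul_assoc]
    · -- μ = j
      rw [min_eq_right hij] at hq
      refine ⟨(-(X ^ j * q), -(X ^ j * q)),
        (mem_span_iff δ O hO j hj _).mpr ⟨(dvd_neg).mpr (Dvd.intro _ rfl),
          (dvd_neg).mpr (Dvd.intro _ rfl), by simp⟩,
        (X ^ j * r₂, X ^ j * r₂),
        (mem_span_iff δ O hO j hj _).mpr ⟨Dvd.intro _ rfl, Dvd.intro _ rfl, by simp⟩, ?_⟩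
      rw [smul_eq, smul_eq]
      simp only [axw, xw, left, diag]
      apply Prod.ext
      · simp only [Prod.fst_add]
        have : z.1 = (z.1 - z.2) + z.2 := by ring
        rw [this, hq, hr₂, pow_add, pow_add]
        ring
      · simp only [Prod.snd_add, zero_mul, zero_add]
        rw [hr₂, pow_add, mul_assoc]

end Groth.Agent.Lib.Helper24Aodd
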