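import Mathlib
import Groth.Agent.Lib.Helper24AoddC

/-!
# The two-branch singularity `A_{2δ-1}`: `length Ext¹(I_i, I_j) = 2 min(i, j)` (helper24)
-/

set_option autoImplicit false
set_option backward.isDefEq.respectTransparency.types false
set_option maxHeartbeats 4000000
set_option synthInstance.maxHeartbeats 400000
set_option linter.style.haveILetI false
set_option linter.unusedSectionVars false
open PowerSeries CategoryTheory

namespace Groth.Agent.Lib.Helper24Aodd
open Groth.Agent.Lib.Helper24ExtTwoGen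

universe u

/-- generic form: the length of `D / P` over a local `k`-algebra `R` with residue field `k` is the
`k`-dimension of `W` whenever a `k`-linear `g : B → W` maps `D` onto `W` with kernel `P ∩ D`. -/
theorem length_quot_of_surj {k R B W : Type u} [Field k] [CommRing R] [AddCommGroup B] [Module R B]
    [Algebra k R] [Module k B] [IsScalarTower k R B] [IsLocalRing R]
    (hres : ∀ a : R, ∃ c : k, a - algebraMap k R c ∈ IsLocalRing.maximalIdeal R)
    (D P : Submodule R B) [AddCommGroup W] [Module k W] [Module.Finite k W]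
    (g : B →ₗ[k] W) (hsurj : ∀ w, ∃ d ∈ D, g d = w) (hker : ∀ d ∈ D, g d = 0 ↔ d ∈ P) :
    Module.length R (↥D ⧸ P.submoduleOf D) = (Module.finrank k W : ℕ∞) := by
  let g' : ↥D →ₗ[k] W := g ∘ₗ (D.subtype.restrictScalars k)
  have hker' : LinearMap.ker g' = (P.submoduleOf D).restrictScalars k := by
    ext d
    rw [LinearMap.mem_ker]
    change g (d : B) = 0 ↔ (d : B) ∈ P
    exact hker d d.2
  have hsurj' : Function.Surjective g' := by
    intro w
    obtain ⟨d, hd, e⟩ := hsurj w
    exact ⟨⟨d, hd⟩, e⟩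
  have e : (↥D ⧸ P.submoduleOf D) ≃ₗ[k] W :=
    ((Submodule.Quotient.restrictScalarsEquiv k (P.submoduleOf D)).symm.trans
      (Submodule.quotEquivOfEq _ _ hker'.symm)).trans (g'.quotKerEquivOfSurjective hsurj')
  haveI : Module.Finite k (↥D ⧸ P.submoduleOf D) := Module.Finite.equiv e.symm
  rw [Groth.Agent.Lib.Helper8.Mon.length_eq_finrank_of_local hres, e.finrank_eq]

variable {k : Type u} [Field k]

/-- the coefficient map `z ↦ ((z₁)_{a+s}, (z₁ - z₂)_{c+s})`. -/
noncomputable def G (a c m n : ℕ) :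
    (PowerSeries k × PowerSeries k) →ₗ[k] (Fin m → k) × (Fin n → k) :=
  LinearMap.prod
    (LinearMap.pi fun s : Fin m => (PowerSeries.coeff ((s : ℕ) + a)) ∘ₗ
      LinearMap.fst k (PowerSeries k) (PowerSeries k))
    (LinearMap.pi fun s : Fin n => (PowerSeries.coeff ((s : ℕ) + c)) ∘ₗ
      (LinearMap.fst k (PowerSeries k) (PowerSeries k) -
        LinearMap.snd k (PowerSeries k) (PowerSeries k)))

theorem G_apply_fst (a c m n : ℕ) (z : PowerSeries k × PowerSeries k) (s : Fin m) :
    (G a c m n z).1 s = coeff ((s : ℕ) + a) z.1 := rfl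

theorem G_apply_snd (a c m n : ℕ) (z : PowerSeries k × PowerSeries k) (s : Fin n) :
    (G a c m n z).2 s = coeff ((s : ℕ) + c) (z.1 - z.2) := rfl

theorem X_pow_add_dvd {a m : ℕ} {f : PowerSeries k} (h : (X : PowerSeries k) ^ a ∣ f) :
    (X : PowerSeries k) ^ (a + m) ∣ f ↔ ∀ s : Fin m, coeff ((s : ℕ) + a) f = 0 := by
  rw [PowerSeries.X_pow_dvd_iff]
  constructor
  · intro h' s
    exact h' _ (by have := s.2; omega)
  · intro h' t ht
    by_cases hta : t < a
    · exact (PowerSeries.X_pow_dvd_iff.mp h) t hta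
    · have := h' ⟨t - a, by omega⟩
      simp only at this
      rwa [show t - a + a = t by omega] at this

theorem G_eq_zero_iff (a c m n : ℕ) (h : a + m ≤ c + n) (z : PowerSeries k × PowerSeries k)
    (hz : z ∈ Lat k a c) : G a c m n z = 0 ↔ z ∈ Lat k (a + m) (c + n) := by
  obtain ⟨h1, h2, h3⟩ := hz
  rw [mem_Lat, X_pow_add_dvd h1, X_pow_add_dvd h3]
  constructor
  · intro hG
    have e1 : ∀ s : Fin m, coeff ((s : ℕ) + a) z.1 = 0 := fun s => by
      rw [← G_apply_fst a c m n z s, hG]; rfl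
    have e2 : ∀ s : Fin n, coeff ((s : ℕ) + c) (z.1 - z.2) = 0 := fun s => by
      rw [← G_apply_snd a c m n z s, hG]; rfl
    refine ⟨e1, ?_, e2⟩
    have : z.2 = z.1 - (z.1 - z.2) := by ring
    rw [this]
    exact dvd_sub ((X_pow_add_dvd h1).mpr e1)
      ((pow_dvd_pow X h).trans ((X_pow_add_dvd h3).mpr e2))
  · rintro ⟨e1, -, e2⟩
    apply Prod.ext
    · funext s; exact e1 s
    · funext s; exact e2 s

theorem G_surj (a c m n : ℕ) (h : a ≤ c) (w : (Fin m → k) × (Fin n → k)) :
    ∃ z ∈ Lat k a c, G a c m n z = w := by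
  set U : PowerSeries k := PowerSeries.mk fun t => if ht : t < m then w.1 ⟨t, ht⟩ else 0 with hU
  set V : PowerSeries k := PowerSeries.mk fun t => if ht : t < n then w.2 ⟨t, ht⟩ else 0 with hV
  refine ⟨(X ^ a * U, X ^ a * U - X ^ c * V), ⟨Dvd.intro _ rfl,
    dvd_sub (Dvd.intro _ rfl) ((pow_dvd_pow X h).trans (Dvd.intro _ rfl)), ?_⟩, ?_⟩
  · simp only [sub_sub_cancel]
    exact Dvd.intro _ rfl
  · apply Prod.ext
    · funext s
      rw [G_apply_fst]
      simp only
      rw [coeff_X_pow_mul, hU, coeff_mk, dif_pos s.2]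
    · funext s
      rw [G_apply_snd]
      simp only [sub_sub_cancel]
      rw [coeff_X_pow_mul, hV, coeff_mk, dif_pos s.2]

variable (δ : ℕ) (O : Subalgebra k (PowerSeries k × PowerSeries k))
  (hO : ∀ f : PowerSeries k × PowerSeries k, f ∈ O ↔ (δ : ℕ∞) ≤ PowerSeries.order (f.1 - f.2))

include hO in
theorem length_ext (hδ : 1 ≤ δ) (i j : ℕ) (hi : i ≤ δ) (hj : j ≤ δ) :
    Module.length ↥O (Abelian.Ext (ModuleCat.of ↥O ↥(Imod δ O i)) (ModuleCat.of ↥O ↥(Imod δ O j)) 1)
      = ((2 * min i j : ℕ) : ℕ∞) := by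
  obtain ⟨E⟩ := extOneTwoGen (N₀ := ↥(Imod δ O j))
    (((X : PowerSeries k) ^ i, (X : PowerSeries k) ^ i) : PowerSeries k × PowerSeries k)
    (((X : PowerSeries k) ^ δ, 0) : PowerSeries k × PowerSeries k) (Imod δ O j) (xw δ O hO)
    (axw δ O hO i hi) (hreg δ O hO) (hg₁ O i) (hax δ O hO i hi) (Imod δ O j).subtype
    (Submodule.subtype_injective (Imod δ O j)) (Submodule.range_subtype (Imod δ O j))
  rw [E.length_eq]
  haveI := isLocalRing δ O hO hδ
  have hμi : min i j ≤ i := min_le_left _ _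
  have hμj : min i j ≤ j := min_le_right _ _
  rw [length_quot_of_surj (k := k) (hres δ O hO hδ) _ _
    (G (δ + j - min i j) (2 * δ - i) (min i j) (min i j))]
  · rw [Module.finrank_prod, Module.finrank_fin_fun, two_mul]
  · intro w
    obtain ⟨z, hz, e⟩ := G_surj (δ + j - min i j) (2 * δ - i) (min i j) (min i j) (by omega) w
    exact ⟨z, (mem_D_iff δ O hO i j hi hj z).mpr hz, e⟩
  · intro d hd
    have hd' := (mem_D_iff δ O hO i j hi hj d).mp hd
    rw [G_eq_zero_iff _ _ _ _ (by omega) d hd', mem_P_iff δ O hO i j hi hj,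
      show δ + j - min i j + min i j = δ + j by omega]

end Groth.Agent.Lib.Helper24Aodd
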