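import Mathlib
import Groth.Agent.Lib.Helper16ArSing
import Groth.Agent.S14080

/-!
# Involutions of `A_r` singularities, `r` odd: branch embedding (helper24)
-/

set_option autoImplicit false
universe u

namespace Groth.Agent.Lib.Helper24ArInv

open PowerSeries Groth.Agent.Lib.Helper16ArSing

section PS
variable {k : Type u} [Field k]

/-- congruence propagation for algebra endomorphisms of `k[[X]]`. -/
lemma congr_of_X (m : ℕ) (φ₁ φ₂ : PowerSeries k →ₐ[k] PowerSeries k)
    (h1 : (X : PowerSeries k) ∣ φ₁ X) (h : (X : PowerSeries k) ^ m ∣ φ₁ X - φ₂ X)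
    (g : PowerSeries k) :
    (X : PowerSeries k) ^ m ∣ φ₁ g - φ₂ g := by
  have key : ∀ n : ℕ, ∀ g : PowerSeries k, ∃ a b, φ₁ g - φ₂ g = X ^ n * a + X ^ m * b := by
    intro n
    induction n with
    | zero => intro g; exact ⟨φ₁ g - φ₂ g, 0, by simp⟩
    | succ n ih =>
      intro g
      set g₁ := (mk fun p => coeff (p + 1) g) with hg₁
      obtain ⟨a, b, hab⟩ := ih g₁
      obtain ⟨e, he⟩ := h1
      obtain ⟨c, hc⟩ := h
      have h1' := eq_X_mul_shift_add_const g
      have h4 : ∀ τ : PowerSeries k →ₐ[k] PowerSeries k,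
          τ (C (constantCoeff g)) = C (constantCoeff g) := fun τ => τ.commutes _
      have h2 : φ₁ g - φ₂ g = φ₁ X * (φ₁ g₁ - φ₂ g₁) + (φ₁ X - φ₂ X) * φ₂ g₁ := by
        conv_lhs => rw [h1']
        rw [map_add, map_add, map_mul, map_mul, h4, h4]; ring
      refine ⟨e * a, X * e * b + c * φ₂ g₁, ?_⟩
      rw [h2, hab, hc, he]; ring
  obtain ⟨a, b, hab⟩ := key m g
  exact ⟨a + b, by rw [hab]; ring⟩

/-- an automorphism of `k[[X]]` with prescribed image of `X`. -/
lemma exists_algEquiv_X (z : PowerSeries k) (h0 : constantCoeff z = 0) (h1 : coeff 1 z = 1) :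
    ∃ φ : PowerSeries k ≃ₐ[k] PowerSeries k, φ X = z := by
  have hy1' : IsUnit (coeff 1 z) := by rw [h1]; exact isUnit_one
  set w := z.substInvOfIsUnit hy1' with hw
  have hyS : HasSubst z := HasSubst.of_constantCoeff_zero' h0
  have hzS : HasSubst w := HasSubst.substInvOfIsUnit z hy1'
  let φ₁ : PowerSeries k →ₐ[k] PowerSeries k := substAlgHom hyS
  let ψ₁ : PowerSeries k →ₐ[k] PowerSeries k := substAlgHom hzS
  have hφψ : φ₁.comp ψ₁ = AlgHom.id k _ := by
    ext1 f
    change substAlgHom hyS (substAlgHom hzS f) = f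
    rw [coe_substAlgHom, coe_substAlgHom, subst_comp_subst_apply hzS hyS,
      subst_substInvOfIsUnit_left z h0 hy1']
    exact X_subst f
  have hψφ : ψ₁.comp φ₁ = AlgHom.id k _ := by
    ext1 f
    change substAlgHom hzS (substAlgHom hyS f) = f
    rw [coe_substAlgHom, coe_substAlgHom, subst_comp_subst_apply hyS hzS,
      subst_substInvOfIsUnit_right z h0 hy1']
    exact X_subst f
  refine ⟨AlgEquiv.ofAlgHom φ₁ ψ₁ hφψ hψφ, ?_⟩
  change substAlgHom hyS X = z
  rw [coe_substAlgHom, subst_X hyS]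

lemma two_ne_zero' (h2 : (2 : k) ≠ 0) : (2 : PowerSeries k) ≠ 0 := by
  intro h0
  have := congrArg (PowerSeries.constantCoeff) h0
  rw [map_ofNat, map_zero] at this
  exact h2 this

end PS

section Branch

variable (k : Type u) [Field k] (r : ℕ)

/-- the linear map `a ↦ re a + ε * im a`. -/
noncomputable def brLin (ε : PowerSeries k) : ArSing.ring k r →ₗ[k] PowerSeries k :=
  re k r + (LinearMap.mulLeft k ε).comp (im k r)

lemma brLin_apply (ε : PowerSeries k) (a : ArSing.ring k r) :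
    brLin k r ε a = re k r a + ε * im k r a := rfl

lemma brLin_rep (ε α β : PowerSeries k) :
    brLin k r ε (ArSing.xMap k r α + ArSing.xMap k r β * ArSing.y k r) = α + ε * β := by
  rw [brLin_apply, re_rep, im_rep]

/-- `a ↦ re a + ε * im a` is an algebra hom when `ε² = X^(r+1)`. -/
noncomputable def brHom (ε : PowerSeries k) (hε : ε ^ 2 = X ^ (r + 1)) :
    ArSing.ring k r →ₐ[k] PowerSeries k :=
  AlgHom.ofLinearMap (brLin k r ε)
    (by
      have : (1 : ArSing.ring k r) = ArSing.xMap k r 1 + ArSing.xMap k r 0 * ArSing.y k r := by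
        simp
      rw [this, brLin_rep]; simp)
    (by
      intro a b
      obtain ⟨α, β, rfl⟩ := exists_rep k r a
      obtain ⟨γ, δ, rfl⟩ := exists_rep k r b
      rw [mul_rep, brLin_rep, brLin_rep, brLin_rep]
      linear_combination (-(β * δ)) * hε)

lemma brHom_apply (ε : PowerSeries k) (hε : ε ^ 2 = X ^ (r + 1)) (a : ArSing.ring k r) :
    brHom k r ε hε a = re k r a + ε * im k r a := rfl

lemma brHom_rep (ε : PowerSeries k) (hε : ε ^ 2 = X ^ (r + 1)) (α β : PowerSeries k) :
    brHom k r ε hε (ArSing.xMap k r α + ArSing.xMap k r β * ArSing.y k r) = α + ε * β :=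
  brLin_rep k r ε α β

variable (m : ℕ) (hrm : r + 1 = 2 * m)

lemma sq1 (hrm : r + 1 = 2 * m) : ((X : PowerSeries k) ^ m) ^ 2 = X ^ (r + 1) := by
  rw [← pow_mul, hrm, mul_comm]

lemma sq2 (hrm : r + 1 = 2 * m) : (-(X : PowerSeries k) ^ m) ^ 2 = X ^ (r + 1) := by
  rw [neg_sq, sq1 k r m hrm]

/-- first branch `y = x^m`. -/
noncomputable def pi1 (hrm : r + 1 = 2 * m) : ArSing.ring k r →ₐ[k] PowerSeries k :=
  brHom k r (X ^ m) (sq1 k r m hrm)

/-- second branch `y = -x^m`. -/
noncomputable def pi2 (hrm : r + 1 = 2 * m) : ArSing.ring k r →ₐ[k] PowerSeries k :=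
  brHom k r (-X ^ m) (sq2 k r m hrm)

lemma pi1_apply (a : ArSing.ring k r) : pi1 k r m hrm a = re k r a + X ^ m * im k r a := rfl
lemma pi2_apply (a : ArSing.ring k r) : pi2 k r m hrm a = re k r a - X ^ m * im k r a := by
  change re k r a + (-X ^ m) * im k r a = _
  ring

lemma pi1_rep (α β : PowerSeries k) :
    pi1 k r m hrm (ArSing.xMap k r α + ArSing.xMap k r β * ArSing.y k r) = α + X ^ m * β :=
  brHom_rep k r _ _ α β

lemma pi2_rep (α β : PowerSeries k) :
    pi2 k r m hrm (ArSing.xMap k r α + ArSing.xMap k r β * ArSing.y k r) = α - X ^ m * β := by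
  rw [pi2_apply, re_rep, im_rep]

lemma pi1_xMap (f : PowerSeries k) : pi1 k r m hrm (ArSing.xMap k r f) = f := by
  have := pi1_rep k r m hrm f 0
  simpa using this

lemma pi2_xMap (f : PowerSeries k) : pi2 k r m hrm (ArSing.xMap k r f) = f := by
  have := pi2_rep k r m hrm f 0
  simpa using this

lemma pi1_x : pi1 k r m hrm (ArSing.x k r) = X := by
  rw [← xMap_X, pi1_xMap]

lemma pi2_x : pi2 k r m hrm (ArSing.x k r) = X := by
  rw [← xMap_X, pi2_xMap]

lemma pi1_y : pi1 k r m hrm (ArSing.y k r) = X ^ m := by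
  have := pi1_rep k r m hrm 0 1
  simpa using this

lemma pi2_y : pi2 k r m hrm (ArSing.y k r) = -X ^ m := by
  have := pi2_rep k r m hrm 0 1
  simpa using this

lemma pi_sub (a : ArSing.ring k r) :
    pi1 k r m hrm a - pi2 k r m hrm a = X ^ m * (2 * im k r a) := by
  rw [pi1_apply, pi2_apply]; ring

lemma pi_add (a : ArSing.ring k r) :
    pi1 k r m hrm a + pi2 k r m hrm a = 2 * re k r a := by
  rw [pi1_apply, pi2_apply]; ring

/-- joint injectivity. -/
lemma pi_inj (h2 : (2 : k) ≠ 0) (a b : ArSing.ring k r)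
    (h1 : pi1 k r m hrm a = pi1 k r m hrm b) (h2' : pi2 k r m hrm a = pi2 k r m hrm b) : a = b := by
  have h2k := two_ne_zero' h2
  have hre : re k r a = re k r b := by
    have ha := pi_add k r m hrm a
    have hb := pi_add k r m hrm b
    exact mul_left_cancel₀ h2k (by rw [← ha, ← hb, h1, h2'])
  have him : im k r a = im k r b := by
    have ha := pi_sub k r m hrm a
    have hb := pi_sub k r m hrm b
    have h3 : (X : PowerSeries k) ^ m * (2 * im k r a) = X ^ m * (2 * im k r b) := by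
      rw [← ha, ← hb, h1, h2']
    have h4 := mul_left_cancel₀ (pow_ne_zero m (X_ne_zero (R := k))) h3
    exact mul_left_cancel₀ h2k h4
  rw [rep_re_im k r a, rep_re_im k r b, hre, him]

/-- joint surjectivity onto the congruence subring. -/
lemma pi_surj (h2 : (2 : k) ≠ 0) (f g : PowerSeries k) (h : (X : PowerSeries k) ^ m ∣ f - g) :
    ∃ a : ArSing.ring k r, pi1 k r m hrm a = f ∧ pi2 k r m hrm a = g := by
  obtain ⟨c, hc⟩ := h
  have hC : (C (2⁻¹ : k) : PowerSeries k) * 2 = 1 := by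
    rw [← map_ofNat (C : k →+* PowerSeries k) 2, ← map_mul, inv_mul_cancel₀ h2, map_one]
  refine ⟨ArSing.xMap k r (C (2⁻¹ : k) * (f + g)) + ArSing.xMap k r (C (2⁻¹ : k) * c) * ArSing.y k r,
    ?_, ?_⟩
  · rw [pi1_rep]
    linear_combination f * hC - C (2⁻¹ : k) * hc
  · rw [pi2_rep]
    linear_combination g * hC + C (2⁻¹ : k) * hc

/-- congruence of the two branches. -/
lemma pi_congr (a : ArSing.ring k r) :
    (X : PowerSeries k) ^ m ∣ pi1 k r m hrm a - pi2 k r m hrm a :=
  ⟨2 * im k r a, pi_sub k r m hrm a⟩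

end Branch

end Groth.Agent.Lib.Helper24ArInv
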