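import Mathlib
import Groth.Agent.Lib.Helper24ArInvA

/-!
# Involutions of `A_r` singularities, `r` odd: lifting automorphisms, permutation of branches
-/

set_option autoImplicit false
universe u

namespace Groth.Agent.Lib.Helper24ArInv

open PowerSeries Groth.Agent.Lib.Helper16ArSing

section PS2
variable {k : Type u} [Field k]

/-- an automorphism of `k[[X]]` with prescribed image of `X` (unit linear coefficient). -/
lemma exists_algEquiv_X' (z : PowerSeries k) (h0 : constantCoeff z = 0) (h1 : coeff 1 z ≠ 0) :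
    ∃ φ : PowerSeries k ≃ₐ[k] PowerSeries k, φ X = z := by
  have hy1' : IsUnit (coeff 1 z) := isUnit_iff_ne_zero.mpr h1
  set w := z.substInvOfIsUnit hy1' with hw
  have hyS : HasSubst z := HasSubst.of_constantCoeff_zero' h0
  have hzS : HasSubst w := HasSubst.substInvOfIsUnit z hy1'
  let φ₁ : PowerSeries k →ₐ[k] PowerSeries k := substAlgHom hyS
  let ψ₁ : PowerSeries k →ₐ[k] PowerSeries k := substAlgHom hzS
  have hφψ : φ₁.comp ψ₁ = AlgHom.id k _ := by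
    ext1 f
    change substAlgHom hyS (substAlgHom hzS f) = f
    rw [coe_substAlgHom, coe_substAlgHom, subst_comp_subst_apply hzS hyS,
      subst_substInvOfIsUnit_left z h0 hy1']
    exact X_subst f
  have hψφ : ψ₁.comp φ₁ = AlgHom.id k _ := by
    ext1 f
    change substAlgHom hzS (substAlgHom hyS f) = f
    rw [coe_substAlgHom, coe_substAlgHom, subst_comp_subst_apply hyS hzS,
      subst_substInvOfIsUnit_right z h0 hy1']
    exact X_subst f
  refine ⟨AlgEquiv.ofAlgHom φ₁ ψ₁ hφψ hψφ, ?_⟩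
  change substAlgHom hyS X = z
  rw [coe_substAlgHom, subst_X hyS]

open Groth.Agent.S19996 in
lemma X_pow_dvd_apply (φ : PowerSeries k ≃ₐ[k] PowerSeries k) (m : ℕ) (f : PowerSeries k)
    (h : (X : PowerSeries k) ^ m ∣ f) : (X : PowerSeries k) ^ m ∣ φ f := by
  obtain ⟨c, rfl⟩ := h
  obtain ⟨e, he⟩ := X_dvd_apply_X φ
  rw [map_mul, map_pow, he, mul_pow]
  exact ⟨e ^ m * φ c, by ring⟩

lemma X_pow_dvd_of_apply (φ : PowerSeries k ≃ₐ[k] PowerSeries k) (m : ℕ) (f : PowerSeries k)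
    (h : (X : PowerSeries k) ^ m ∣ φ f) : (X : PowerSeries k) ^ m ∣ f := by
  have := X_pow_dvd_apply φ.symm m (φ f) h
  simpa using this

open Groth.Agent.S19996 in
/-- congruence of two automorphisms from congruence on `X`. -/
lemma congr_of_X' (m : ℕ) (φ₁ φ₂ : PowerSeries k ≃ₐ[k] PowerSeries k)
    (h : (X : PowerSeries k) ^ m ∣ φ₁ X - φ₂ X) (g : PowerSeries k) :
    (X : PowerSeries k) ^ m ∣ φ₁ g - φ₂ g :=
  congr_of_X m (φ₁ : PowerSeries k →ₐ[k] PowerSeries k) (φ₂ : PowerSeries k →ₐ[k] PowerSeries k)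
    (X_dvd_apply_X φ₁) h g

open Groth.Agent.S19996 in
lemma congr_one (φ₁ φ₂ : PowerSeries k ≃ₐ[k] PowerSeries k) (g : PowerSeries k) :
    (X : PowerSeries k) ^ 1 ∣ φ₁ g - φ₂ g := by
  rw [pow_one, X_dvd_iff, map_sub, constantCoeff_apply, constantCoeff_apply, sub_self]

/-- congruence passes to inverses. -/
lemma congr_symm (m : ℕ) (φ₁ φ₂ : PowerSeries k ≃ₐ[k] PowerSeries k)
    (h : ∀ g, (X : PowerSeries k) ^ m ∣ φ₁ g - φ₂ g) (f : PowerSeries k) :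
    (X : PowerSeries k) ^ m ∣ φ₁.symm f - φ₂.symm f := by
  apply X_pow_dvd_of_apply φ₁
  have := h (φ₂.symm f)
  rw [map_sub, AlgEquiv.apply_symm_apply]
  have e : f - φ₁ (φ₂.symm f) = -(φ₁ (φ₂.symm f) - φ₂ (φ₂.symm f)) := by
    rw [AlgEquiv.apply_symm_apply]; ring
  rw [e]
  exact (dvd_neg).mpr this

end PS2

section Lift

variable (k : Type u) [Field k] (r m : ℕ) (hrm : r + 1 = 2 * m) (h2 : (2 : k) ≠ 0)
include h2

/-- lifting a compatible pair of maps into the two branches to an endomorphism. -/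
lemma exists_liftHom (F₁ F₂ : ArSing.ring k r →ₐ[k] PowerSeries k)
    (h : ∀ a, (X : PowerSeries k) ^ m ∣ F₁ a - F₂ a) :
    ∃ Φ : ArSing.ring k r →ₐ[k] ArSing.ring k r,
      ∀ a, pi1 k r m hrm (Φ a) = F₁ a ∧ pi2 k r m hrm (Φ a) = F₂ a := by
  choose g hg using fun a => pi_surj k r m hrm h2 (F₁ a) (F₂ a) (h a)
  have inj := pi_inj k r m hrm h2
  refine ⟨{ toFun := g, map_one' := ?_, map_mul' := ?_, map_zero' := ?_, map_add' := ?_,
            commutes' := ?_ }, hg⟩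
  · apply inj
    · rw [(hg _).1, map_one, map_one]
    · rw [(hg _).2, map_one, map_one]
  · intro a b
    apply inj
    · rw [(hg _).1, map_mul, map_mul, (hg _).1, (hg _).1]
    · rw [(hg _).2, map_mul, map_mul, (hg _).2, (hg _).2]
  · apply inj
    · rw [(hg _).1, map_zero, map_zero]
    · rw [(hg _).2, map_zero, map_zero]
  · intro a b
    apply inj
    · rw [(hg _).1, map_add, map_add, (hg _).1, (hg _).1]
    · rw [(hg _).2, map_add, map_add, (hg _).2, (hg _).2]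
  · intro c
    apply inj
    · rw [(hg _).1, AlgHom.commutes, AlgHom.commutes]
    · rw [(hg _).2, AlgHom.commutes, AlgHom.commutes]

/-- lifting a congruent pair of automorphisms of the branches to an automorphism of `A_r`. -/
lemma exists_liftEquiv (φ₁ φ₂ : PowerSeries k ≃ₐ[k] PowerSeries k)
    (h : ∀ f, (X : PowerSeries k) ^ m ∣ φ₁ f - φ₂ f) :
    ∃ Φ : ArSing.ring k r ≃ₐ[k] ArSing.ring k r,
      (∀ a, pi1 k r m hrm (Φ a) = φ₁ (pi1 k r m hrm a) ∧ pi2 k r m hrm (Φ a) = φ₂ (pi2 k r m hrm a)) ∧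
      (∀ a, pi1 k r m hrm (Φ.symm a) = φ₁.symm (pi1 k r m hrm a) ∧
        pi2 k r m hrm (Φ.symm a) = φ₂.symm (pi2 k r m hrm a)) := by
  have inj := pi_inj k r m hrm h2
  have compat : ∀ (ψ₁ ψ₂ : PowerSeries k ≃ₐ[k] PowerSeries k),
      (∀ f, (X : PowerSeries k) ^ m ∣ ψ₁ f - ψ₂ f) → ∀ a : ArSing.ring k r,
      (X : PowerSeries k) ^ m ∣ ψ₁ (pi1 k r m hrm a) - ψ₂ (pi2 k r m hrm a) := by
    intro ψ₁ ψ₂ hψ a
    have e : ψ₁ (pi1 k r m hrm a) - ψ₂ (pi2 k r m hrm a)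
        = ψ₁ (pi1 k r m hrm a - pi2 k r m hrm a)
          + (ψ₁ (pi2 k r m hrm a) - ψ₂ (pi2 k r m hrm a)) := by
      rw [map_sub]; ring
    rw [e]
    exact dvd_add (X_pow_dvd_apply ψ₁ m _ (pi_congr k r m hrm a)) (hψ _)
  obtain ⟨Φ, hΦ⟩ := exists_liftHom k r m hrm h2
    ((φ₁ : PowerSeries k →ₐ[k] PowerSeries k).comp (pi1 k r m hrm))
    ((φ₂ : PowerSeries k →ₐ[k] PowerSeries k).comp (pi2 k r m hrm)) (compat φ₁ φ₂ h)
  obtain ⟨Ψ, hΨ⟩ := exists_liftHom k r m hrm h2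
    ((φ₁.symm : PowerSeries k →ₐ[k] PowerSeries k).comp (pi1 k r m hrm))
    ((φ₂.symm : PowerSeries k →ₐ[k] PowerSeries k).comp (pi2 k r m hrm))
    (compat φ₁.symm φ₂.symm (congr_symm m φ₁ φ₂ h))
  have hΦ1 : ∀ a, pi1 k r m hrm (Φ a) = φ₁ (pi1 k r m hrm a) := fun a => (hΦ a).1
  have hΦ2 : ∀ a, pi2 k r m hrm (Φ a) = φ₂ (pi2 k r m hrm a) := fun a => (hΦ a).2
  have hΨ1 : ∀ a, pi1 k r m hrm (Ψ a) = φ₁.symm (pi1 k r m hrm a) := fun a => (hΨ a).1
  have hΨ2 : ∀ a, pi2 k r m hrm (Ψ a) = φ₂.symm (pi2 k r m hrm a) := fun a => (hΨ a).2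
  have h12 : Φ.comp Ψ = AlgHom.id k _ := by
    ext1 a
    apply inj
    · rw [AlgHom.comp_apply, hΦ1, hΨ1, AlgEquiv.apply_symm_apply]; rfl
    · rw [AlgHom.comp_apply, hΦ2, hΨ2, AlgEquiv.apply_symm_apply]; rfl
  have h21 : Ψ.comp Φ = AlgHom.id k _ := by
    ext1 a
    apply inj
    · rw [AlgHom.comp_apply, hΨ1, hΦ1, AlgEquiv.symm_apply_apply]; rfl
    · rw [AlgHom.comp_apply, hΨ2, hΦ2, AlgEquiv.symm_apply_apply]; rfl
  refine ⟨AlgEquiv.ofAlgHom Φ Ψ h12 h21, fun a => ⟨hΦ1 a, hΦ2 a⟩, fun a => ⟨hΨ1 a, hΨ2 a⟩⟩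

/-- the automorphism exchanging the two branches. -/
lemma exists_swap :
    ∃ S : ArSing.ring k r ≃ₐ[k] ArSing.ring k r,
      (∀ a, pi1 k r m hrm (S a) = pi2 k r m hrm a ∧ pi2 k r m hrm (S a) = pi1 k r m hrm a) ∧
      (∀ a, pi1 k r m hrm (S.symm a) = pi2 k r m hrm a ∧ pi2 k r m hrm (S.symm a) = pi1 k r m hrm a) := by
  have inj := pi_inj k r m hrm h2
  obtain ⟨Φ, hΦ⟩ := exists_liftHom k r m hrm h2 (pi2 k r m hrm) (pi1 k r m hrm) (by
    intro a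
    have := pi_congr k r m hrm a
    rw [← neg_sub]
    exact (dvd_neg).mpr this)
  have hΦ1 : ∀ a, pi1 k r m hrm (Φ a) = pi2 k r m hrm a := fun a => (hΦ a).1
  have hΦ2 : ∀ a, pi2 k r m hrm (Φ a) = pi1 k r m hrm a := fun a => (hΦ a).2
  have h12 : Φ.comp Φ = AlgHom.id k _ := by
    ext1 a
    apply inj
    · rw [AlgHom.comp_apply, hΦ1, hΦ2]; rfl
    · rw [AlgHom.comp_apply, hΦ2, hΦ1]; rfl
  refine ⟨AlgEquiv.ofAlgHom Φ Φ h12 h12, fun a => ⟨hΦ1 a, hΦ2 a⟩, fun a => ⟨hΦ1 a, hΦ2 a⟩⟩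

end Lift

end Groth.Agent.Lib.Helper24ArInv
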