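import Mathlib
import Groth.Agent.Lib.Helper24ArInvB

/-!
# Involutions of `A_r` singularities, `r` even: the parametrisation `x = t^2, y = t^(r+1)` (helper24)
-/

set_option autoImplicit false
universe u

namespace Groth.Agent.Lib.Helper24ArEv

open PowerSeries Groth.Agent.Lib.Helper16ArSing Groth.Agent.Lib.Helper24ArInv

section Param

variable (k : Type u) [Field k] (r : ℕ)

/-- the linear map `a ↦ re a (t²) + t^(r+1) * im a (t²)`. -/
noncomputable def iotaLin : ArSing.ring k r →ₗ[k] PowerSeries k :=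
  (Ev (k := k)).toLinearMap.comp (re k r)
    + (LinearMap.mulLeft k ((X : PowerSeries k) ^ (r + 1))).comp
        ((Ev (k := k)).toLinearMap.comp (im k r))

lemma iotaLin_apply (a : ArSing.ring k r) :
    iotaLin k r a = Ev (re k r a) + X ^ (r + 1) * Ev (im k r a) := rfl

lemma iotaLin_rep (α β : PowerSeries k) :
    iotaLin k r (ArSing.xMap k r α + ArSing.xMap k r β * ArSing.y k r)
      = Ev α + X ^ (r + 1) * Ev β := by
  rw [iotaLin_apply, re_rep, im_rep]

/-- the parametrisation `A_r → k[[t]]`, `x ↦ t²`, `y ↦ t^(r+1)`. -/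
noncomputable def iota : ArSing.ring k r →ₐ[k] PowerSeries k :=
  AlgHom.ofLinearMap (iotaLin k r)
    (by
      have : (1 : ArSing.ring k r) = ArSing.xMap k r 1 + ArSing.xMap k r 0 * ArSing.y k r := by
        simp
      rw [this, iotaLin_rep]; simp)
    (by
      intro a b
      obtain ⟨α, β, rfl⟩ := exists_rep k r a
      obtain ⟨γ, δ, rfl⟩ := exists_rep k r b
      rw [mul_rep, iotaLin_rep, iotaLin_rep, iotaLin_rep]
      simp only [map_add, map_mul, map_pow, Ev_X]
      ring)

lemma iota_apply (a : ArSing.ring k r) :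
    iota k r a = Ev (re k r a) + X ^ (r + 1) * Ev (im k r a) := rfl

lemma iota_rep (α β : PowerSeries k) :
    iota k r (ArSing.xMap k r α + ArSing.xMap k r β * ArSing.y k r)
      = Ev α + X ^ (r + 1) * Ev β :=
  iotaLin_rep k r α β

lemma iota_xMap (f : PowerSeries k) : iota k r (ArSing.xMap k r f) = Ev f := by
  have := iota_rep k r f 0
  simpa using this

lemma iota_x : iota k r (ArSing.x k r) = X ^ 2 := by
  rw [← xMap_X, iota_xMap, Ev_X]

lemma iota_y : iota k r (ArSing.y k r) = X ^ (r + 1) := by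
  have := iota_rep k r 0 1
  simpa using this

lemma constantCoeff_iota (a : ArSing.ring k r) :
    constantCoeff (iota k r a) = constR k r a := by
  have := constR_unique k r ((constantCoeff (R := k)).comp (iota k r).toRingHom) (by
    intro c
    rw [RingHom.comp_apply]
    have : (iota k r).toRingHom (algebraMap k (ArSing.ring k r) c)
        = algebraMap k (PowerSeries k) c := (iota k r).commutes c
    rw [this]
    simp) a
  exact this

lemma constantCoeff_iota_algHom (σ : ArSing.ring k r →ₐ[k] ArSing.ring k r)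
    (a : ArSing.ring k r) (ha : constR k r a = 0) :
    constantCoeff (iota k r (σ a)) = 0 := by
  rw [constantCoeff_iota, constR_algHom, ha]

/-- two algebra maps `A_r → k[[t]]` agreeing on `x` and `y` agree. -/
lemma algHom_ext_xy (F G : ArSing.ring k r →ₐ[k] PowerSeries k)
    (hx : F (ArSing.x k r) = G (ArSing.x k r)) (hy : F (ArSing.y k r) = G (ArSing.y k r))
    (h0 : (X : PowerSeries k) ∣ F (ArSing.x k r)) (a : ArSing.ring k r) : F a = G a := by
  obtain ⟨α, β, rfl⟩ := exists_rep k r a
  have key : ∀ f : PowerSeries k, F (ArSing.xMap k r f) = G (ArSing.xMap k r f) := by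
    intro f
    exact Groth.Agent.S14080.algHom_ext_X (F.comp (ArSing.xMap k r)) (G.comp (ArSing.xMap k r))
      (by rw [AlgHom.comp_apply, AlgHom.comp_apply, xMap_X, hx])
      (by rw [AlgHom.comp_apply, xMap_X]; exact h0) f
  rw [map_add, map_add, map_mul, map_mul, key, key, hy]

variable (q : ℕ) (hrq : r = 2 * q)

lemma X_pow_eq (hrq : r = 2 * q) :
    (X : PowerSeries k) ^ (r + 1) = X * Ev ((X : PowerSeries k) ^ q) := by
  rw [map_pow, Ev_X, ← pow_mul, hrq, pow_succ]
  ring

lemma iota_apply' (hrq : r = 2 * q) (a : ArSing.ring k r) :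
    iota k r a = Ev (re k r a) + X * Ev (X ^ q * im k r a) := by
  rw [iota_apply, X_pow_eq k r q hrq, map_mul]
  ring

include hrq in
lemma iota_injective : Function.Injective (iota k r) := by
  intro a b hab
  rw [iota_apply' k r q hrq, iota_apply' k r q hrq] at hab
  obtain ⟨h1, h2⟩ := EvX_unique _ _ _ _ hab
  have h3 := mul_left_cancel₀ (pow_ne_zero q (X_ne_zero (R := k))) h2
  rw [rep_re_im k r a, rep_re_im k r b, h1, h3]

include hrq in
/-- the image contains `Ev α + X^(r+1) g` for all `α`, `g`. -/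
lemma iota_surj (α g : PowerSeries k) :
    ∃ a : ArSing.ring k r, iota k r a = Ev α + X ^ (r + 1) * g := by
  refine ⟨ArSing.xMap k r (α + X ^ (q + 1) * od g) + ArSing.xMap k r (ev g) * ArSing.y k r, ?_⟩
  rw [iota_rep]
  conv_rhs => rw [ev_od g]
  have e : (X : PowerSeries k) ^ (r + 1) * X = Ev (X ^ (q + 1)) := by
    rw [map_pow, Ev_X, ← pow_mul, ← pow_succ, hrq]
    congr 1
  rw [map_add, map_mul, ← e]
  ring

include hrq in
/-- `ι a - ι a (-t)` is divisible by `t^(r+1)`. -/
lemma iota_congr (a : ArSing.ring k r) :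
    (X : PowerSeries k) ^ (r + 1) ∣ iota k r a - rs (-1 : k) (iota k r a) := by
  rw [iota_apply' k r q hrq, rs_neg_one_EvX]
  refine ⟨2 * Ev (im k r a), ?_⟩
  rw [X_pow_eq k r q hrq, map_mul]
  ring

end Param

end Groth.Agent.Lib.Helper24ArEv
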