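import Mathlib
import Groth.Agent.Lib.Helper24ArEvA

/-!
# Involutions of `A_r` singularities, `r` even: lifting an involution to `k[[t]]` (helper24)
-/

set_option autoImplicit false
universe u

namespace Groth.Agent.Lib.Helper24ArEv

open PowerSeries Groth.Agent.Lib.Helper16ArSing Groth.Agent.Lib.Helper24ArInv

section Lift

variable (k : Type u) [Field k] (r q : ℕ)

/-- a common root `s` with `s² = X'`, `s^(r+1) = Y'`. -/
lemma exists_root (hrq : r = 2 * q) (X' Y' : PowerSeries k) (hX0 : X' ≠ 0)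
    (h : Y' ^ 2 = X' ^ (r + 1)) :
    ∃ s : PowerSeries k, s ^ 2 = X' ∧ s ^ (r + 1) = Y' := by
  have h1 : (X' ^ q) ^ 2 ∣ Y' ^ 2 := ⟨X', by rw [h, hrq]; ring⟩
  have h2 : X' ^ q ∣ Y' := (IsIntegrallyClosed.pow_dvd_pow_iff two_ne_zero).mp h1
  obtain ⟨s, hs⟩ := h2
  have h3 : s ^ 2 = X' := by
    have : X' ^ (2 * q) * s ^ 2 = X' ^ (2 * q) * X' := by
      calc X' ^ (2 * q) * s ^ 2 = (X' ^ q * s) ^ 2 := by ring
        _ = Y' ^ 2 := by rw [hs]
        _ = X' ^ (r + 1) := h
        _ = X' ^ (2 * q) * X' := by rw [hrq, pow_succ]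
    exact mul_left_cancel₀ (pow_ne_zero _ hX0) this
  refine ⟨s, h3, ?_⟩
  rw [hs, hrq, pow_succ, pow_mul, h3]

lemma eq_X_of_pows (hrq : r = 2 * q) (z : PowerSeries k) (h1 : z ^ 2 = X ^ 2)
    (h2 : z ^ (r + 1) = X ^ (r + 1)) : z = X := by
  rw [hrq, pow_succ, pow_succ, pow_mul, pow_mul, h1] at h2
  exact mul_left_cancel₀ (pow_ne_zero q (pow_ne_zero 2 (X_ne_zero (R := k)))) h2

/-- an involution of `A_r` (`r` even) lifts to an involution of `k[[t]]`. -/
lemma exists_theta (hrq : r = 2 * q) (σ : ArSing.ring k r ≃ₐ[k] ArSing.ring k r)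
    (hσ : ∀ a, σ (σ a) = a) :
    ∃ θ : PowerSeries k ≃ₐ[k] PowerSeries k,
      (∀ f, θ (θ f) = f) ∧ ∀ a, θ (iota k r a) = iota k r (σ a) := by
  have inj := iota_injective k r q hrq
  have hx0 : ArSing.x k r ≠ 0 := by
    intro h
    have := congrArg (iota k r) h
    rw [iota_x, map_zero] at this
    exact pow_ne_zero 2 (X_ne_zero (R := k)) this
  have hX0 : iota k r (σ (ArSing.x k r)) ≠ 0 := by
    intro h
    rw [← map_zero (iota k r)] at h
    have h1 := inj h
    rw [← map_zero σ] at h1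
    exact hx0 (σ.injective h1)
  have hrel : iota k r (σ (ArSing.y k r)) ^ 2 = iota k r (σ (ArSing.x k r)) ^ (r + 1) := by
    have := congrArg (fun a => iota k r (σ a)) (y_sq k r)
    simpa only [map_pow] using this
  obtain ⟨s, hs2, hsr⟩ := exists_root k r q hrq _ _ hX0 hrel
  have hXc : constantCoeff (iota k r (σ (ArSing.x k r))) = 0 :=
    constantCoeff_iota_algHom k r (σ : ArSing.ring k r →ₐ[k] ArSing.ring k r) _ (constR_x k r)
  have hs0 : constantCoeff s = 0 := by
    have : constantCoeff s ^ 2 = 0 := by rw [← map_pow, hs2, hXc]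
    exact pow_eq_zero_iff (two_ne_zero) |>.mp this
  have hsS : HasSubst s := HasSubst.of_constantCoeff_zero' hs0
  let θ₁ : PowerSeries k →ₐ[k] PowerSeries k := substAlgHom hsS
  have hθX : θ₁ X = s := by
    change substAlgHom hsS X = s
    rw [coe_substAlgHom, subst_X hsS]
  have hθι : ∀ a, θ₁ (iota k r a) = iota k r (σ a) := by
    intro a
    exact algHom_ext_xy k r (θ₁.comp (iota k r))
      ((iota k r).comp (σ : ArSing.ring k r →ₐ[k] ArSing.ring k r))
      (by
        rw [AlgHom.comp_apply, AlgHom.comp_apply, iota_x, map_pow, hθX, hs2]; rfl)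
      (by
        rw [AlgHom.comp_apply, AlgHom.comp_apply, iota_y, map_pow, hθX, hsr]; rfl)
      (by
        rw [AlgHom.comp_apply, iota_x, map_pow, hθX, hs2, X_dvd_iff]
        exact hXc) a
  have hθθι : ∀ a, θ₁ (θ₁ (iota k r a)) = iota k r a := by
    intro a
    rw [hθι, hθι, hσ]
  have hz : θ₁ (θ₁ X) = X := by
    apply eq_X_of_pows k r q hrq
    · rw [← map_pow, ← map_pow, ← iota_x k r, hθθι]
    · rw [← map_pow, ← map_pow, ← iota_y k r, hθθι]
  have hcomp : θ₁.comp θ₁ = AlgHom.id k _ := by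
    ext1 f
    exact Groth.Agent.S14080.algHom_ext_X (θ₁.comp θ₁) (AlgHom.id k _)
      (by rw [AlgHom.comp_apply, hz]; rfl)
      (by rw [AlgHom.comp_apply, hz]) f
  refine ⟨AlgEquiv.ofAlgHom θ₁ θ₁ hcomp hcomp, ?_, hθι⟩
  intro f
  have := congrArg (fun F : PowerSeries k →ₐ[k] PowerSeries k => F f) hcomp
  exact this

end Lift

end Groth.Agent.Lib.Helper24ArEv
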