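import Mathlib
import Groth.Agent.Lib.Helper24ArInvB

/-!
# Involutions of `A_r` singularities, `r` odd: the two cases
-/

set_option autoImplicit false
universe u

namespace Groth.Agent.Lib.Helper24ArInv

open PowerSeries Groth.Agent.Lib.Helper16ArSing

section Dich

variable (k : Type u) [Field k] (r m : ℕ) (hrm : r + 1 = 2 * m) (h2 : (2 : k) ≠ 0)
include h2

lemma w1_pi1 : pi1 k r m hrm (ArSing.y k r - ArSing.x k r ^ m) = 0 := by
  rw [map_sub, map_pow, pi1_y, pi1_x, sub_self]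

lemma w1_pi2 : pi2 k r m hrm (ArSing.y k r - ArSing.x k r ^ m) ≠ 0 := by
  rw [map_sub, map_pow, pi2_y, pi2_x]
  intro h
  have : (2 : PowerSeries k) * X ^ m = 0 := by linear_combination -h
  rcases mul_eq_zero.1 this with h | h
  · exact two_ne_zero' h2 h
  · exact pow_ne_zero m (X_ne_zero (R := k)) h

lemma w2_pi2 : pi2 k r m hrm (ArSing.y k r + ArSing.x k r ^ m) = 0 := by
  rw [map_add, map_pow, pi2_y, pi2_x]; ring

lemma w2_pi1 : pi1 k r m hrm (ArSing.y k r + ArSing.x k r ^ m) ≠ 0 := by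
  rw [map_add, map_pow, pi1_y, pi1_x]
  intro h
  have : (2 : PowerSeries k) * X ^ m = 0 := by linear_combination h
  rcases mul_eq_zero.1 this with h | h
  · exact two_ne_zero' h2 h
  · exact pow_ne_zero m (X_ne_zero (R := k)) h

lemma mul_eq_zero_of_pi (a b : ArSing.ring k r) (ha : pi1 k r m hrm a = 0)
    (hb : pi2 k r m hrm b = 0) : a * b = 0 := by
  apply pi_inj k r m hrm h2
  · rw [map_mul, ha, zero_mul, map_zero]
  · rw [map_mul, hb, mul_zero, map_zero]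

lemma dich1 (σ : ArSing.ring k r ≃ₐ[k] ArSing.ring k r) :
    (∀ a, pi1 k r m hrm a = 0 → pi1 k r m hrm (σ a) = 0) ∨
    (∀ a, pi1 k r m hrm a = 0 → pi2 k r m hrm (σ a) = 0) := by
  set w := ArSing.y k r + ArSing.x k r ^ m with hw
  have hw0 : σ w ≠ 0 := by
    intro h
    have : w = 0 := by
      have := congrArg σ.symm h
      simpa using this
    exact w2_pi1 k r m hrm h2 (by rw [← hw, this, map_zero])
  by_cases h1 : pi1 k r m hrm (σ w) = 0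
  · right
    have h2' : pi2 k r m hrm (σ w) ≠ 0 := by
      intro h
      exact hw0 (pi_inj k r m hrm h2 _ _ (by rw [h1, map_zero]) (by rw [h, map_zero]))
    intro a ha
    have := mul_eq_zero_of_pi k r m hrm h2 a w ha (w2_pi2 k r m hrm h2)
    have h3 := congrArg (fun z => pi2 k r m hrm (σ z)) this
    simp only [map_mul, map_zero] at h3
    exact (mul_eq_zero.1 h3).resolve_right h2'
  · left
    intro a ha
    have := mul_eq_zero_of_pi k r m hrm h2 a w ha (w2_pi2 k r m hrm h2)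
    have h3 := congrArg (fun z => pi1 k r m hrm (σ z)) this
    simp only [map_mul, map_zero] at h3
    exact (mul_eq_zero.1 h3).resolve_right h1

lemma dich2 (σ : ArSing.ring k r ≃ₐ[k] ArSing.ring k r) :
    (∀ a, pi2 k r m hrm a = 0 → pi2 k r m hrm (σ a) = 0) ∨
    (∀ a, pi2 k r m hrm a = 0 → pi1 k r m hrm (σ a) = 0) := by
  set w := ArSing.y k r - ArSing.x k r ^ m with hw
  have hw0 : σ w ≠ 0 := by
    intro h
    have : w = 0 := by
      have := congrArg σ.symm h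
      simpa using this
    exact w1_pi2 k r m hrm h2 (by rw [← hw, this, map_zero])
  by_cases h1 : pi2 k r m hrm (σ w) = 0
  · right
    have h2' : pi1 k r m hrm (σ w) ≠ 0 := by
      intro h
      exact hw0 (pi_inj k r m hrm h2 _ _ (by rw [h, map_zero]) (by rw [h1, map_zero]))
    intro a ha
    have := mul_eq_zero_of_pi k r m hrm h2 w a (w1_pi1 k r m hrm h2) ha
    have h3 := congrArg (fun z => pi1 k r m hrm (σ z)) this
    simp only [map_mul, map_zero] at h3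
    exact (mul_eq_zero.1 h3).resolve_left h2'
  · left
    intro a ha
    have := mul_eq_zero_of_pi k r m hrm h2 w a (w1_pi1 k r m hrm h2) ha
    have h3 := congrArg (fun z => pi2 k r m hrm (σ z)) this
    simp only [map_mul, map_zero] at h3
    exact (mul_eq_zero.1 h3).resolve_left h1

/-- an involution either preserves both branches or exchanges them. -/
lemma dich (σ : ArSing.ring k r ≃ₐ[k] ArSing.ring k r) (hσ : ∀ a, σ (σ a) = a) :
    ((∀ a, pi1 k r m hrm a = 0 → pi1 k r m hrm (σ a) = 0) ∧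
      (∀ a, pi2 k r m hrm a = 0 → pi2 k r m hrm (σ a) = 0)) ∨
    ((∀ a, pi1 k r m hrm a = 0 → pi2 k r m hrm (σ a) = 0) ∧
      (∀ a, pi2 k r m hrm a = 0 → pi1 k r m hrm (σ a) = 0)) := by
  rcases dich1 k r m hrm h2 σ with h11 | h12 <;> rcases dich2 k r m hrm h2 σ with h22 | h21
  · exact Or.inl ⟨h11, h22⟩
  · exfalso
    -- P1 -> P1, P2 -> P1
    set w := ArSing.y k r + ArSing.x k r ^ m with hw
    have h := h11 (σ w) (h21 w (w2_pi2 k r m hrm h2))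
    rw [hσ] at h
    exact w2_pi1 k r m hrm h2 h
  · exfalso
    set w := ArSing.y k r - ArSing.x k r ^ m with hw
    have h := h22 (σ w) (h12 w (w1_pi1 k r m hrm h2))
    rw [hσ] at h
    exact w1_pi2 k r m hrm h2 h
  · exact Or.inr ⟨h12, h21⟩

end Dich


section CaseA

variable (k : Type u) [Field k] (r m : ℕ) (hrm : r + 1 = 2 * m) (h2 : (2 : k) ≠ 0)
include h2

open Groth.Agent.S19996 in
/-- the non-swapping case: conjugation to a pair of rescalings. -/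
lemma caseA (σ : ArSing.ring k r ≃ₐ[k] ArSing.ring k r) (hσ : ∀ a, σ (σ a) = a)
    (h11 : ∀ a, pi1 k r m hrm a = 0 → pi1 k r m hrm (σ a) = 0)
    (h22 : ∀ a, pi2 k r m hrm a = 0 → pi2 k r m hrm (σ a) = 0) :
    ∃ (Φ : ArSing.ring k r ≃ₐ[k] ArSing.ring k r) (ξ₁ ξ₂ : k), ξ₁ ^ 2 = 1 ∧ ξ₂ ^ 2 = 1 ∧
      (2 ≤ m → ξ₁ = ξ₂) ∧
      ∀ a, pi1 k r m hrm (Φ.symm (σ (Φ a))) = rescale ξ₁ (pi1 k r m hrm a) ∧
        pi2 k r m hrm (Φ.symm (σ (Φ a))) = rescale ξ₂ (pi2 k r m hrm a) := by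
  -- the induced maps on the branches
  let t₁ : PowerSeries k →ₐ[k] PowerSeries k :=
    ((pi1 k r m hrm).comp (σ : ArSing.ring k r →ₐ[k] ArSing.ring k r)).comp (ArSing.xMap k r)
  let t₂ : PowerSeries k →ₐ[k] PowerSeries k :=
    ((pi2 k r m hrm).comp (σ : ArSing.ring k r →ₐ[k] ArSing.ring k r)).comp (ArSing.xMap k r)
  have ht₁ : ∀ f, t₁ f = pi1 k r m hrm (σ (ArSing.xMap k r f)) := fun f => rfl
  have ht₂ : ∀ f, t₂ f = pi2 k r m hrm (σ (ArSing.xMap k r f)) := fun f => rfl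
  have key1 : ∀ a, pi1 k r m hrm (σ a) = t₁ (pi1 k r m hrm a) := by
    intro a
    have h := h11 (a - ArSing.xMap k r (pi1 k r m hrm a)) (by rw [map_sub, pi1_xMap, sub_self])
    rw [map_sub, map_sub, sub_eq_zero] at h
    rw [h, ht₁]
  have key2 : ∀ a, pi2 k r m hrm (σ a) = t₂ (pi2 k r m hrm a) := by
    intro a
    have h := h22 (a - ArSing.xMap k r (pi2 k r m hrm a)) (by rw [map_sub, pi2_xMap, sub_self])
    rw [map_sub, map_sub, sub_eq_zero] at h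
    rw [h, ht₂]
  have inv1 : t₁.comp t₁ = AlgHom.id k _ := by
    ext1 f
    rw [AlgHom.comp_apply, ht₁ f, ← key1, hσ, pi1_xMap]; rfl
  have inv2 : t₂.comp t₂ = AlgHom.id k _ := by
    ext1 f
    rw [AlgHom.comp_apply, ht₂ f, ← key2, hσ, pi2_xMap]; rfl
  let τ₁ : PowerSeries k ≃ₐ[k] PowerSeries k := AlgEquiv.ofAlgHom t₁ t₁ inv1 inv1
  let τ₂ : PowerSeries k ≃ₐ[k] PowerSeries k := AlgEquiv.ofAlgHom t₂ t₂ inv2 inv2
  have hτ₁ : ∀ f, τ₁ f = t₁ f := fun f => rfl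
  have hτ₂ : ∀ f, τ₂ f = t₂ f := fun f => rfl
  have hinv₁ : ∀ f, τ₁ (τ₁ f) = f := fun f => by
    have := congrArg (fun g => g f) inv1
    rw [hτ₁, hτ₁]
    simpa using this
  have hinv₂ : ∀ f, τ₂ (τ₂ f) = f := fun f => by
    have := congrArg (fun g => g f) inv2
    rw [hτ₂, hτ₂]
    simpa using this
  have compatτ : ∀ f, (X : PowerSeries k) ^ m ∣ τ₁ f - τ₂ f := by
    intro f
    rw [hτ₁, hτ₂, ht₁, ht₂]
    exact pi_congr k r m hrm _
  obtain ⟨hξ₁, φ₁, hφ₁X, hφ₁⟩ := Groth.Agent.S14080.result k h2 τ₁ hinv₁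
  obtain ⟨hξ₂, φ₂, hφ₂X, hφ₂⟩ := Groth.Agent.S14080.result k h2 τ₂ hinv₂
  set ξ₁ := coeff 1 (τ₁ X) with hξ₁def
  set ξ₂ := coeff 1 (τ₂ X) with hξ₂def
  have hξeq : 2 ≤ m → ξ₁ = ξ₂ := by
    intro hm
    have := (X_pow_dvd_iff.mp (compatτ X)) 1 (by omega)
    rw [map_sub, sub_eq_zero] at this
    exact this
  have compatφ : ∀ f, (X : PowerSeries k) ^ m ∣ φ₁ f - φ₂ f := by
    rcases Nat.lt_or_ge m 2 with hm | hm
    · intro f
      have h1 := congr_one φ₁ φ₂ f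
      exact dvd_trans (pow_dvd_pow X (by omega)) h1
    · apply congr_of_X'
      rw [hφ₁X, hφ₂X, ← hξeq hm]
      obtain ⟨c, hc⟩ := compatτ X
      exact ⟨C (2⁻¹ : k) * C ξ₁ * c, by linear_combination (C (2⁻¹ : k) * C ξ₁) * hc⟩
  obtain ⟨Φ, hΦ, hΦs⟩ := exists_liftEquiv k r m hrm h2 φ₁ φ₂ compatφ
  refine ⟨Φ, ξ₁, ξ₂, hξ₁, hξ₂, hξeq, fun a => ⟨?_, ?_⟩⟩
  · rw [(hΦs _).1, key1, (hΦ a).1, ← hτ₁, hφ₁]
  · rw [(hΦs _).2, key2, (hΦ a).2, ← hτ₂, hφ₂]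

end CaseA


section CaseB

variable (k : Type u) [Field k] (r m : ℕ) (hrm : r + 1 = 2 * m) (h2 : (2 : k) ≠ 0)
include h2

/-- the swapping case: the induced isomorphism between the branches. -/
lemma caseB_setup (σ : ArSing.ring k r ≃ₐ[k] ArSing.ring k r) (hσ : ∀ a, σ (σ a) = a)
    (h12 : ∀ a, pi1 k r m hrm a = 0 → pi2 k r m hrm (σ a) = 0)
    (h21 : ∀ a, pi2 k r m hrm a = 0 → pi1 k r m hrm (σ a) = 0) :
    ∃ θ : PowerSeries k ≃ₐ[k] PowerSeries k,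
      (∀ a, pi2 k r m hrm (σ a) = θ (pi1 k r m hrm a)) ∧
      (∀ a, pi1 k r m hrm (σ a) = θ.symm (pi2 k r m hrm a)) ∧
      ∀ f, (X : PowerSeries k) ^ m ∣ θ f - θ.symm f := by
  let t₂₁ : PowerSeries k →ₐ[k] PowerSeries k :=
    ((pi2 k r m hrm).comp (σ : ArSing.ring k r →ₐ[k] ArSing.ring k r)).comp (ArSing.xMap k r)
  let t₁₂ : PowerSeries k →ₐ[k] PowerSeries k :=
    ((pi1 k r m hrm).comp (σ : ArSing.ring k r →ₐ[k] ArSing.ring k r)).comp (ArSing.xMap k r)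
  have ht₂₁ : ∀ f, t₂₁ f = pi2 k r m hrm (σ (ArSing.xMap k r f)) := fun f => rfl
  have ht₁₂ : ∀ f, t₁₂ f = pi1 k r m hrm (σ (ArSing.xMap k r f)) := fun f => rfl
  have key21 : ∀ a, pi2 k r m hrm (σ a) = t₂₁ (pi1 k r m hrm a) := by
    intro a
    have h := h12 (a - ArSing.xMap k r (pi1 k r m hrm a)) (by rw [map_sub, pi1_xMap, sub_self])
    rw [map_sub, map_sub, sub_eq_zero] at h
    rw [h, ht₂₁]
  have key12 : ∀ a, pi1 k r m hrm (σ a) = t₁₂ (pi2 k r m hrm a) := by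
    intro a
    have h := h21 (a - ArSing.xMap k r (pi2 k r m hrm a)) (by rw [map_sub, pi2_xMap, sub_self])
    rw [map_sub, map_sub, sub_eq_zero] at h
    rw [h, ht₁₂]
  have inv1 : t₂₁.comp t₁₂ = AlgHom.id k _ := by
    ext1 f
    rw [AlgHom.comp_apply, ht₁₂ f, ← key21, hσ, pi2_xMap]; rfl
  have inv2 : t₁₂.comp t₂₁ = AlgHom.id k _ := by
    ext1 f
    rw [AlgHom.comp_apply, ht₂₁ f, ← key12, hσ, pi1_xMap]; rfl
  let θ : PowerSeries k ≃ₐ[k] PowerSeries k := AlgEquiv.ofAlgHom t₂₁ t₁₂ inv1 inv2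
  have hθ : ∀ f, θ f = t₂₁ f := fun f => rfl
  have hθs : ∀ f, θ.symm f = t₁₂ f := fun f => rfl
  refine ⟨θ, fun a => by rw [hθ, key21], fun a => by rw [hθs, key12], fun f => ?_⟩
  rw [hθ, hθs, ht₂₁, ht₁₂, ← neg_sub]
  exact (dvd_neg).mpr (pi_congr k r m hrm _)

/-- the swapping case for the node (`m ≤ 1`): conjugation to the plain exchange of branches. -/
lemma caseB_node (hm : m ≤ 1) (σ : ArSing.ring k r ≃ₐ[k] ArSing.ring k r) (hσ : ∀ a, σ (σ a) = a)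
    (h12 : ∀ a, pi1 k r m hrm a = 0 → pi2 k r m hrm (σ a) = 0)
    (h21 : ∀ a, pi2 k r m hrm a = 0 → pi1 k r m hrm (σ a) = 0) :
    ∃ Φ : ArSing.ring k r ≃ₐ[k] ArSing.ring k r,
      ∀ a, pi1 k r m hrm (Φ.symm (σ (Φ a))) = pi2 k r m hrm a ∧
        pi2 k r m hrm (Φ.symm (σ (Φ a))) = pi1 k r m hrm a := by
  obtain ⟨θ, hθ1, hθ2, -⟩ := caseB_setup k r m hrm h2 σ hσ h12 h21
  obtain ⟨Φ, hΦ, hΦs⟩ := exists_liftEquiv k r m hrm h2 AlgEquiv.refl θ (by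
    intro f
    exact dvd_trans (pow_dvd_pow X hm) (congr_one AlgEquiv.refl θ f))
  refine ⟨Φ, fun a => ⟨?_, ?_⟩⟩
  · rw [(hΦs _).1, hθ2, (hΦ a).2, AlgEquiv.symm_apply_apply]; rfl
  · rw [(hΦs _).2, hθ1, (hΦ a).1, AlgEquiv.symm_apply_apply]; rfl

open Groth.Agent.S19996 in
/-- the swapping case for `m ≥ 2`: conjugation to exchange of branches followed by a rescaling. -/
lemma caseB_gen (hm : 2 ≤ m) (σ : ArSing.ring k r ≃ₐ[k] ArSing.ring k r) (hσ : ∀ a, σ (σ a) = a)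
    (h12 : ∀ a, pi1 k r m hrm a = 0 → pi2 k r m hrm (σ a) = 0)
    (h21 : ∀ a, pi2 k r m hrm a = 0 → pi1 k r m hrm (σ a) = 0) :
    ∃ (Φ : ArSing.ring k r ≃ₐ[k] ArSing.ring k r) (ξ : k), ξ ^ 2 = 1 ∧
      ∀ a, pi1 k r m hrm (Φ.symm (σ (Φ a))) = rescale ξ (pi2 k r m hrm a) ∧
        pi2 k r m hrm (Φ.symm (σ (Φ a))) = rescale ξ (pi1 k r m hrm a) := by
  obtain ⟨θ, hθ1, hθ2, hθc⟩ := caseB_setup k r m hrm h2 σ hσ h12 h21
  set ξ := coeff 1 (θ X) with hξdef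
  have hθX0 : constantCoeff (θ X) = 0 := X_dvd_iff.mp (X_dvd_apply_X θ)
  have hξ : ξ * ξ = 1 := by
    have h1 := Groth.Agent.S14080.coeff_one_apply θ (θ X) hθX0
    have h3 := hθc (θ X)
    rw [AlgEquiv.symm_apply_apply] at h3
    have h4 := (X_pow_dvd_iff.mp h3) 1 (by omega)
    rw [map_sub, sub_eq_zero, coeff_one_X] at h4
    rw [← h1, h4]
  -- the rescaling as an automorphism
  have hrr : (rs ξ).comp (rs ξ) = AlgHom.id k (PowerSeries k) := by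
    ext1 f
    change rescale ξ (rescale ξ f) = f
    rw [rescale_rescale, hξ, rescale_one]; rfl
  let ρ : PowerSeries k ≃ₐ[k] PowerSeries k := AlgEquiv.ofAlgHom (rs ξ) (rs ξ) hrr hrr
  have hρ : ∀ f, ρ f = rescale ξ f := fun f => rfl
  have hρs : ∀ f, ρ.symm f = rescale ξ f := fun f => rfl
  set z : PowerSeries k := C (2⁻¹ : k) * (X + C ξ * θ X) with hz
  have hz0 : constantCoeff z = 0 := by rw [hz]; simp [hθX0]
  have hz1 : coeff 1 z = 1 := by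
    rw [hz, coeff_C_mul, map_add, coeff_one_X, coeff_C_mul, ← hξdef, hξ]
    rw [one_add_one_eq_two, inv_mul_cancel₀ h2]
  obtain ⟨φ₂, hφ₂X⟩ := exists_algEquiv_X z hz0 hz1
  let φ₁ : PowerSeries k ≃ₐ[k] PowerSeries k := ρ.trans (φ₂.trans θ.symm)
  have hφ₁ : ∀ f, φ₁ f = θ.symm (φ₂ (ρ f)) := fun f => rfl
  have hφ₁s : ∀ g, φ₁.symm g = ρ.symm (φ₂.symm (θ g)) := fun g => rfl
  have compatφ : ∀ f, (X : PowerSeries k) ^ m ∣ φ₁ f - φ₂ f := by
    apply congr_of_X'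
    obtain ⟨c, hc⟩ := hθc X
    have hCC : (C ξ : PowerSeries k) * C ξ = 1 := by rw [← map_mul, hξ, map_one]
    have e1 : φ₁ X = C ξ * (C (2⁻¹ : k) * (θ.symm X + C ξ * X)) := by
      rw [hφ₁, hρ, rescale_X, map_mul, map_mul, hφ₂X, hz]
      have hC : ∀ c : k, φ₂ (C c) = C c := fun c => φ₂.commutes c
      have hC' : ∀ c : k, θ.symm (C c) = C c := fun c => θ.symm.commutes c
      rw [hC, hC', map_mul, hC', map_add, map_mul, hC', AlgEquiv.symm_apply_apply]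
    refine ⟨-(C ξ * C (2⁻¹ : k) * c), ?_⟩
    rw [e1, hφ₂X, hz]
    linear_combination (-(C ξ * C (2⁻¹ : k))) * hc + (C (2⁻¹ : k) * X) * hCC
  obtain ⟨Φ, hΦ, hΦs⟩ := exists_liftEquiv k r m hrm h2 φ₁ φ₂ compatφ
  refine ⟨Φ, ξ, by rw [pow_two]; exact hξ, fun a => ⟨?_, ?_⟩⟩
  · rw [(hΦs _).1, hθ2, (hΦ a).2, hφ₁s, AlgEquiv.apply_symm_apply, AlgEquiv.symm_apply_apply, hρs]
  · rw [(hΦs _).2, hθ1, (hΦ a).1, hφ₁, AlgEquiv.apply_symm_apply, AlgEquiv.symm_apply_apply, hρ]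

end CaseB

end Groth.Agent.Lib.Helper24ArInv
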