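import Mathlib
import Groth.Agent.Lib.Helper24ArInvC

/-!
# Involutions of `A_r` singularities, `r` odd: classification
-/

set_option autoImplicit false
universe u

namespace Groth.Agent.Lib.Helper24ArInv

open PowerSeries Groth.Agent.Lib.Helper16ArSing

section Fin

variable (k : Type u) [Field k] (r m : ℕ) (hrm : r + 1 = 2 * m) (h2 : (2 : k) ≠ 0)

lemma resc_neg_X : rescale (-1 : k) (X : PowerSeries k) = -X := by
  rw [rescale_X]; simp

lemma resc_neg_X_pow (n : ℕ) : rescale (-1 : k) ((X : PowerSeries k) ^ n) = (-X) ^ n := by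
  rw [map_pow, resc_neg_X]

lemma resc_one (f : PowerSeries k) : rescale (1 : k) f = f := by
  rw [rescale_one]; rfl

lemma sq_one_cases (ξ : k) (h : ξ ^ 2 = 1) : ξ = 1 ∨ ξ = -1 := by
  have : (ξ - 1) * (ξ + 1) = 0 := by linear_combination h
  rcases mul_eq_zero.1 this with h | h
  · left; linear_combination h
  · right; linear_combination h

include h2 in
/-- if the conjugate acts trivially on both branches then `σ` is the identity. -/
lemma eq_refl_of_triv (σ Φ : ArSing.ring k r ≃ₐ[k] ArSing.ring k r)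
    (h : ∀ a, pi1 k r m hrm (Φ.symm (σ (Φ a))) = pi1 k r m hrm a ∧
      pi2 k r m hrm (Φ.symm (σ (Φ a))) = pi2 k r m hrm a) : σ = AlgEquiv.refl := by
  ext b
  have h1 : Φ.symm (σ (Φ (Φ.symm b))) = Φ.symm b :=
    pi_inj k r m hrm h2 _ _ (h _).1 (h _).2
  rw [AlgEquiv.apply_symm_apply] at h1
  have := congrArg Φ h1
  simpa using this

end Fin

section Node

variable (k : Type u) [Field k] (h2 : (2 : k) ≠ 0)
include h2

/-- third normal form from the pair `(1, -1)`. -/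
lemma node_third (σ Φ : ArSing.ring k 1 ≃ₐ[k] ArSing.ring k 1)
    (h : ∀ a, pi1 k 1 1 rfl (Φ.symm (σ (Φ a))) = rescale (1 : k) (pi1 k 1 1 rfl a) ∧
      pi2 k 1 1 rfl (Φ.symm (σ (Φ a))) = rescale (-1 : k) (pi2 k 1 1 rfl a)) :
    Φ.symm (σ (Φ (ArSing.x k 1))) = ArSing.y k 1 ∧ Φ.symm (σ (Φ (ArSing.y k 1))) = ArSing.x k 1 := by
  constructor
  · apply pi_inj k 1 1 rfl h2
    · rw [(h _).1, pi1_x, pi1_y, resc_one, pow_one]
    · rw [(h _).2, pi2_x, pi2_y, resc_neg_X, pow_one]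
  · apply pi_inj k 1 1 rfl h2
    · rw [(h _).1, pi1_x, pi1_y, resc_one, pow_one]
    · rw [(h _).2, pi2_x, pi2_y, map_neg, resc_neg_X_pow, pow_one, neg_neg]

theorem node_main (σ : ArSing.ring k 1 ≃ₐ[k] ArSing.ring k 1) (hσ : ∀ a, σ (σ a) = a)
    (hne : σ ≠ AlgEquiv.refl) :
    ∃ φ : ArSing.ring k 1 ≃ₐ[k] ArSing.ring k 1,
      (φ.symm (σ (φ (ArSing.x k 1))) = ArSing.x k 1 ∧ φ.symm (σ (φ (ArSing.y k 1))) = -ArSing.y k 1) ∨
      (φ.symm (σ (φ (ArSing.x k 1))) = -ArSing.x k 1 ∧ φ.symm (σ (φ (ArSing.y k 1))) = -ArSing.y k 1) ∨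
      (φ.symm (σ (φ (ArSing.x k 1))) = ArSing.y k 1 ∧ φ.symm (σ (φ (ArSing.y k 1))) = ArSing.x k 1) := by
  rcases dich k 1 1 rfl h2 σ hσ with ⟨h11, h22⟩ | ⟨h12, h21⟩
  · obtain ⟨Φ, ξ₁, ξ₂, hξ₁, hξ₂, -, hΦ⟩ := caseA k 1 1 rfl h2 σ hσ h11 h22
    rcases sq_one_cases k ξ₁ hξ₁ with rfl | rfl <;> rcases sq_one_cases k ξ₂ hξ₂ with rfl | rfl
    · exfalso
      apply hne
      apply eq_refl_of_triv k 1 1 rfl h2 σ Φ
      intro a
      exact ⟨by rw [(hΦ a).1, resc_one], by rw [(hΦ a).2, resc_one]⟩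
    · exact ⟨Φ, Or.inr (Or.inr (node_third k h2 σ Φ hΦ))⟩
    · -- conjugate further by the swap
      obtain ⟨S, hS, hSs⟩ := exists_swap k 1 1 rfl h2
      refine ⟨S.trans Φ, Or.inr (Or.inr ?_)⟩
      have := node_third k h2 σ (S.trans Φ) (by
        intro a
        change pi1 k 1 1 rfl (S.symm (Φ.symm (σ (Φ (S a))))) = _ ∧
          pi2 k 1 1 rfl (S.symm (Φ.symm (σ (Φ (S a))))) = _
        exact ⟨by rw [(hSs _).1, (hΦ _).2, (hS a).2], by rw [(hSs _).2, (hΦ _).1, (hS a).1]⟩)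
      exact this
    · refine ⟨Φ, Or.inr (Or.inl ⟨?_, ?_⟩)⟩
      · have e1 : pi1 k 1 1 rfl (-ArSing.x k 1) = -X := by rw [map_neg, pi1_x]
        have e2 : pi2 k 1 1 rfl (-ArSing.x k 1) = -X := by rw [map_neg, pi2_x]
        apply pi_inj k 1 1 rfl h2
        · rw [(hΦ _).1, pi1_x, e1, resc_neg_X]
        · rw [(hΦ _).2, pi2_x, e2, resc_neg_X]
      · have e1 : pi1 k 1 1 rfl (-ArSing.y k 1) = -X := by rw [map_neg, pi1_y, pow_one]
        have e2 : pi2 k 1 1 rfl (-ArSing.y k 1) = X := by rw [map_neg, pi2_y, pow_one, neg_neg]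
        apply pi_inj k 1 1 rfl h2
        · rw [(hΦ _).1, pi1_y, e1, resc_neg_X_pow, pow_one]
        · rw [(hΦ _).2, pi2_y, e2, map_neg, resc_neg_X_pow, pow_one, neg_neg]
  · obtain ⟨Φ, hΦ⟩ := caseB_node k 1 1 rfl h2 le_rfl σ hσ h12 h21
    refine ⟨Φ, Or.inl ⟨?_, ?_⟩⟩
    · apply pi_inj k 1 1 rfl h2
      · rw [(hΦ _).1, pi2_x, pi1_x]
      · rw [(hΦ _).2, pi1_x, pi2_x]
    · have e1 : pi1 k 1 1 rfl (-ArSing.y k 1) = -X ^ 1 := by rw [map_neg, pi1_y]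
      have e2 : pi2 k 1 1 rfl (-ArSing.y k 1) = X ^ 1 := by rw [map_neg, pi2_y, neg_neg]
      apply pi_inj k 1 1 rfl h2
      · rw [(hΦ _).1, pi2_y, e1]
      · rw [(hΦ _).2, pi1_y, e2]

end Node


section Odd

variable (k : Type u) [Field k] (r m : ℕ) (h2 : (2 : k) ≠ 0)
include h2

theorem odd_main (hrm : r + 1 = 2 * m) (hm : 2 ≤ m) (σ : ArSing.ring k r ≃ₐ[k] ArSing.ring k r) (hσ : ∀ a, σ (σ a) = a)
    (hne : σ ≠ AlgEquiv.refl) :
    ∃ φ : ArSing.ring k r ≃ₐ[k] ArSing.ring k r,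
      (φ.symm (σ (φ (ArSing.x k r))) = ArSing.x k r ∧ φ.symm (σ (φ (ArSing.y k r))) = -ArSing.y k r) ∨
      (φ.symm (σ (φ (ArSing.x k r))) = -ArSing.x k r ∧ φ.symm (σ (φ (ArSing.y k r))) = ArSing.y k r) ∨
      (φ.symm (σ (φ (ArSing.x k r))) = -ArSing.x k r ∧ φ.symm (σ (φ (ArSing.y k r))) = -ArSing.y k r) := by
  have e1x : pi1 k r m hrm (-ArSing.x k r) = -X := by rw [map_neg, pi1_x]
  have e2x : pi2 k r m hrm (-ArSing.x k r) = -X := by rw [map_neg, pi2_x]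
  have e1y : pi1 k r m hrm (-ArSing.y k r) = -X ^ m := by rw [map_neg, pi1_y]
  have e2y : pi2 k r m hrm (-ArSing.y k r) = X ^ m := by rw [map_neg, pi2_y, neg_neg]
  rcases dich k r m hrm h2 σ hσ with ⟨h11, h22⟩ | ⟨h12, h21⟩
  · obtain ⟨Φ, ξ₁, ξ₂, hξ₁, hξ₂, hξeq, hΦ⟩ := caseA k r m hrm h2 σ hσ h11 h22
    have := hξeq hm
    subst this
    rcases sq_one_cases k ξ₁ hξ₁ with rfl | rfl
    · exfalso
      apply hne
      apply eq_refl_of_triv k r m hrm h2 σ Φ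
      intro a
      exact ⟨by rw [(hΦ a).1, resc_one], by rw [(hΦ a).2, resc_one]⟩
    · have hx : Φ.symm (σ (Φ (ArSing.x k r))) = -ArSing.x k r := by
        apply pi_inj k r m hrm h2
        · rw [(hΦ _).1, pi1_x, e1x, resc_neg_X]
        · rw [(hΦ _).2, pi2_x, e2x, resc_neg_X]
      rcases Nat.even_or_odd m with hev | hod
      · refine ⟨Φ, Or.inr (Or.inl ⟨hx, ?_⟩)⟩
        apply pi_inj k r m hrm h2
        · rw [(hΦ _).1, pi1_y, resc_neg_X_pow, hev.neg_pow]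
        · rw [(hΦ _).2, pi2_y, map_neg, resc_neg_X_pow, hev.neg_pow]
      · refine ⟨Φ, Or.inr (Or.inr ⟨hx, ?_⟩)⟩
        apply pi_inj k r m hrm h2
        · rw [(hΦ _).1, pi1_y, e1y, resc_neg_X_pow, hod.neg_pow]
        · rw [(hΦ _).2, pi2_y, e2y, map_neg, resc_neg_X_pow, hod.neg_pow, neg_neg]
  · obtain ⟨Φ, ξ, hξ, hΦ⟩ := caseB_gen k r m hrm h2 hm σ hσ h12 h21
    rcases sq_one_cases k ξ hξ with rfl | rfl
    · refine ⟨Φ, Or.inl ⟨?_, ?_⟩⟩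
      · apply pi_inj k r m hrm h2
        · rw [(hΦ _).1, pi2_x, pi1_x, resc_one]
        · rw [(hΦ _).2, pi1_x, pi2_x, resc_one]
      · apply pi_inj k r m hrm h2
        · rw [(hΦ _).1, pi2_y, e1y, resc_one]
        · rw [(hΦ _).2, pi1_y, e2y, resc_one]
    · have hx : Φ.symm (σ (Φ (ArSing.x k r))) = -ArSing.x k r := by
        apply pi_inj k r m hrm h2
        · rw [(hΦ _).1, pi2_x, e1x, resc_neg_X]
        · rw [(hΦ _).2, pi1_x, e2x, resc_neg_X]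
      rcases Nat.even_or_odd m with hev | hod
      · refine ⟨Φ, Or.inr (Or.inr ⟨hx, ?_⟩)⟩
        apply pi_inj k r m hrm h2
        · rw [(hΦ _).1, pi2_y, e1y, map_neg, resc_neg_X_pow, hev.neg_pow]
        · rw [(hΦ _).2, pi1_y, e2y, resc_neg_X_pow, hev.neg_pow]
      · refine ⟨Φ, Or.inr (Or.inl ⟨hx, ?_⟩)⟩
        apply pi_inj k r m hrm h2
        · rw [(hΦ _).1, pi2_y, pi1_y, map_neg, resc_neg_X_pow, hod.neg_pow, neg_neg]
        · rw [(hΦ _).2, pi1_y, pi2_y, resc_neg_X_pow, hod.neg_pow]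

/-- `S14082`. -/
theorem odd_main' (hodd : Odd r) (h3 : 3 ≤ r) (σ : ArSing.ring k r ≃ₐ[k] ArSing.ring k r)
    (hσ : ∀ a, σ (σ a) = a) (hne : σ ≠ AlgEquiv.refl) :
    ∃ φ : ArSing.ring k r ≃ₐ[k] ArSing.ring k r,
      (φ.symm (σ (φ (ArSing.x k r))) = ArSing.x k r ∧ φ.symm (σ (φ (ArSing.y k r))) = -ArSing.y k r) ∨
      (φ.symm (σ (φ (ArSing.x k r))) = -ArSing.x k r ∧ φ.symm (σ (φ (ArSing.y k r))) = ArSing.y k r) ∨
      (φ.symm (σ (φ (ArSing.x k r))) = -ArSing.x k r ∧ φ.symm (σ (φ (ArSing.y k r))) = -ArSing.y k r) := by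
  obtain ⟨j, hj⟩ := hodd
  exact odd_main k r (j + 1) h2 (by omega) (by omega) σ hσ hne

end Odd

end Groth.Agent.Lib.Helper24ArInv
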