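import Mathlib
import Groth.Agent.Lib.Helper24ArEvB
import Groth.Agent.Lib.Helper24ArInvD

/-!
# Involutions of `A_r` singularities, `r` even: normal form (helper24)
-/

set_option autoImplicit false
universe u

namespace Groth.Agent.Lib.Helper24ArEv

open PowerSeries Groth.Agent.Lib.Helper16ArSing Groth.Agent.Lib.Helper24ArInv

section Key

variable {k : Type u} [Field k]

lemma rs_X_neg : rs (-1 : k) (X : PowerSeries k) = -X := by
  rw [rs_X]; simp

/-- from `s² ≡ s(-t)²` mod `t^(n+1)` one gets `t^n ∣ s + s(-t)`. -/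
lemma dvd_add_rs (h2 : (2 : k) ≠ 0) (n : ℕ) (s : PowerSeries k) (hs0 : constantCoeff s = 0)
    (hs1 : coeff 1 s ≠ 0)
    (h : (X : PowerSeries k) ^ (n + 1) ∣ s ^ 2 - rs (-1 : k) (s ^ 2)) :
    (X : PowerSeries k) ^ n ∣ s + rs (-1 : k) s := by
  have hd : (X : PowerSeries k) ∣ s - rs (-1 : k) s := by
    rw [X_dvd_iff, map_sub, ← coeff_zero_eq_constantCoeff_apply (rs (-1 : k) s), coeff_rs,
      coeff_zero_eq_constantCoeff_apply, hs0]
    simp
  obtain ⟨w, hw⟩ := hd
  have hw0 : constantCoeff w = 2 * coeff 1 s := by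
    have h1 : coeff 1 (s - rs (-1 : k) s) = 2 * coeff 1 s := by
      rw [map_sub, coeff_rs]; ring
    have h3 : coeff 1 (X * w) = coeff 0 w := coeff_succ_X_mul 0 w
    rw [hw, h3] at h1
    rw [← h1]; simp
  have hwu : IsUnit w := by
    rw [isUnit_iff_constantCoeff, hw0]
    exact isUnit_iff_ne_zero.mpr (mul_ne_zero h2 hs1)
  have e : s ^ 2 - rs (-1 : k) (s ^ 2) = X * (w * (s + rs (-1 : k) s)) := by
    rw [map_pow]
    linear_combination (s + rs (-1 : k) s) * hw
  rw [e, pow_succ', mul_dvd_mul_iff_left (X_ne_zero (R := k))] at h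
  exact (hwu.dvd_mul_left).mp h

open Groth.Agent.S19996 in
/-- the key congruence: an involution `θ` with linear coefficient `-1` whose even part
vanishes to order `n` satisfies `θ X ≡ -X` mod `X^n`. -/
lemma key_K (h2 : (2 : k) ≠ 0) (n : ℕ) (θ : PowerSeries k ≃ₐ[k] PowerSeries k)
    (hθ : ∀ f, θ (θ f) = f) (hξ : coeff 1 (θ X) = -1)
    (h : (X : PowerSeries k) ^ n ∣ θ X + rs (-1 : k) (θ X)) :
    (X : PowerSeries k) ^ n ∣ X + θ X := by
  by_contra hK
  set e : PowerSeries k := X + θ X with he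
  have hex : ∃ m, coeff m e ≠ 0 := by
    by_contra hne
    push Not at hne
    apply hK
    rw [X_pow_dvd_iff]
    intro m _
    exact hne m
  classical
  set j := Nat.find hex with hj
  have hj1 : coeff j e ≠ 0 := Nat.find_spec hex
  have hj2 : ∀ m < j, coeff m e = 0 := by
    intro m hm
    by_contra h0
    exact Nat.find_min hex hm h0
  have hjn : j < n := by
    by_contra hjn
    apply hK
    rw [X_pow_dvd_iff]
    intro m hm
    exact hj2 m (by omega)
  obtain ⟨e', he'⟩ : (X : PowerSeries k) ^ j ∣ e := X_pow_dvd_iff.mpr hj2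
  have hc : constantCoeff e' = coeff j e := by
    rw [he', ← coeff_zero_eq_constantCoeff_apply]
    have := coeff_X_pow_mul e' j 0
    rw [zero_add] at this
    exact this.symm
  -- θ e = e
  have hθe : θ e = e := by
    rw [he, map_add, hθ]; ring
  obtain ⟨s', hs'⟩ := X_dvd_apply_X θ
  have hs'0 : constantCoeff s' = -1 := by
    have h3 : coeff 1 (X * s') = coeff 0 s' := coeff_succ_X_mul 0 s'
    rw [← hξ, hs', h3]; simp
  have h3 : s' ^ j * θ e' = e' := by
    have h4 : (X : PowerSeries k) ^ j * (s' ^ j * θ e') = X ^ j * e' := by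
      rw [← he', ← hθe]
      conv_rhs => rw [he', map_mul, map_pow, hs']
      ring
    exact mul_left_cancel₀ (pow_ne_zero j (X_ne_zero (R := k))) h4
  have h5 : (-1 : k) ^ j * coeff j e = coeff j e := by
    have := congrArg constantCoeff h3
    rw [map_mul, map_pow, hs'0, constantCoeff_apply, hc] at this
    exact this
  have h6 : coeff j (θ X + rs (-1 : k) (θ X)) = 2 * coeff j e := by
    have e1 : θ X + rs (-1 : k) (θ X) = e + rs (-1 : k) e := by
      rw [he, map_add, rs_X_neg]; ring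
    rw [e1, map_add, coeff_rs, h5]; ring
  have h7 : coeff j (θ X + rs (-1 : k) (θ X)) = 0 := X_pow_dvd_iff.mp h j hjn
  rw [h6] at h7
  exact (mul_ne_zero h2 hj1) h7

end Key

section Lift2

variable (k : Type u) [Field k] (r q : ℕ) (hrq : r = 2 * q)

open Groth.Agent.S19996 in
include hrq in
/-- automorphisms of `k[[t]]` congruent to the identity on `t²` mod `t^(r+1)` preserve
the image of `ι`. -/
lemma iota_preserve (φ : PowerSeries k ≃ₐ[k] PowerSeries k)
    (h : (X : PowerSeries k) ^ (r + 1) ∣ φ (X ^ 2) - X ^ 2) (a : ArSing.ring k r) :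
    ∃ b : ArSing.ring k r, iota k r b = φ (iota k r a) := by
  obtain ⟨α, β, rfl⟩ := exists_rep k r a
  rw [iota_rep]
  obtain ⟨e', he'⟩ := X_dvd_apply_X φ
  have h1 : (X : PowerSeries k) ∣ ((φ : PowerSeries k →ₐ[k] PowerSeries k).comp Ev) X := by
    rw [AlgHom.comp_apply, Ev_X]
    change X ∣ φ (X ^ 2)
    rw [map_pow, he']
    exact ⟨X * e' ^ 2, by ring⟩
  obtain ⟨c, hc⟩ := congr_of_X (r + 1) ((φ : PowerSeries k →ₐ[k] PowerSeries k).comp Ev) Ev h1
    (by
      rw [AlgHom.comp_apply, Ev_X]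
      exact h) α
  rw [AlgHom.comp_apply] at hc
  change φ (Ev α) - Ev α = _ at hc
  obtain ⟨b, hb⟩ := iota_surj k r q hrq α (c + e' ^ (r + 1) * φ (Ev β))
  refine ⟨b, ?_⟩
  rw [hb, map_add, map_mul, map_pow, he']
  linear_combination (-1 : PowerSeries k) * hc

include hrq in
/-- lifting an algebra map into `k[[t]]` with values in the image of `ι`. -/
lemma exists_liftHom_ev (F : ArSing.ring k r →ₐ[k] PowerSeries k)
    (h : ∀ a, ∃ b : ArSing.ring k r, iota k r b = F a) :
    ∃ Φ : ArSing.ring k r →ₐ[k] ArSing.ring k r, ∀ a, iota k r (Φ a) = F a := by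
  choose g hg using h
  have inj := iota_injective k r q hrq
  refine ⟨{ toFun := g, map_one' := ?_, map_mul' := ?_, map_zero' := ?_, map_add' := ?_,
            commutes' := ?_ }, hg⟩
  · apply inj
    rw [hg, map_one, map_one]
  · intro a b
    apply inj
    rw [hg, map_mul, map_mul, hg, hg]
  · apply inj
    rw [hg, map_zero, map_zero]
  · intro a b
    apply inj
    rw [hg, map_add, map_add, hg, hg]
  · intro c
    apply inj
    rw [hg, AlgHom.commutes, AlgHom.commutes]

include hrq in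
/-- lifting an automorphism of `k[[t]]` congruent to the identity on `t²` mod `t^(r+1)`. -/
lemma exists_liftEquiv_ev (φ : PowerSeries k ≃ₐ[k] PowerSeries k)
    (h : (X : PowerSeries k) ^ (r + 1) ∣ φ (X ^ 2) - X ^ 2) :
    ∃ Φ : ArSing.ring k r ≃ₐ[k] ArSing.ring k r,
      (∀ a, iota k r (Φ a) = φ (iota k r a)) ∧
      (∀ a, iota k r (Φ.symm a) = φ.symm (iota k r a)) := by
  have inj := iota_injective k r q hrq
  have h' : (X : PowerSeries k) ^ (r + 1) ∣ φ.symm (X ^ 2) - X ^ 2 := by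
    have := X_pow_dvd_apply φ.symm (r + 1) _ h
    rw [map_sub, AlgEquiv.symm_apply_apply] at this
    rw [← neg_sub]
    exact (dvd_neg).mpr this
  obtain ⟨Φ, hΦ⟩ := exists_liftHom_ev k r q hrq
    ((φ : PowerSeries k →ₐ[k] PowerSeries k).comp (iota k r)) (iota_preserve k r q hrq φ h)
  obtain ⟨Ψ, hΨ⟩ := exists_liftHom_ev k r q hrq
    ((φ.symm : PowerSeries k →ₐ[k] PowerSeries k).comp (iota k r))
    (iota_preserve k r q hrq φ.symm h')
  have hΦ1 : ∀ a, iota k r (Φ a) = φ (iota k r a) := hΦ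
  have hΨ1 : ∀ a, iota k r (Ψ a) = φ.symm (iota k r a) := hΨ
  have h12 : Φ.comp Ψ = AlgHom.id k _ := by
    ext1 a
    apply inj
    rw [AlgHom.comp_apply, hΦ1, hΨ1, AlgEquiv.apply_symm_apply]; rfl
  have h21 : Ψ.comp Φ = AlgHom.id k _ := by
    ext1 a
    apply inj
    rw [AlgHom.comp_apply, hΨ1, hΦ1, AlgEquiv.symm_apply_apply]; rfl
  exact ⟨AlgEquiv.ofAlgHom Φ Ψ h12 h21, hΦ1, hΨ1⟩

end Lift2

section Main

variable (k : Type u) [Field k] (r : ℕ)

open Groth.Agent.S19996 in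
theorem even_main (h2 : (2 : k) ≠ 0) (hev : Even r)
    (σ : ArSing.ring k r ≃ₐ[k] ArSing.ring k r) (hσ : ∀ a, σ (σ a) = a)
    (hne : σ ≠ AlgEquiv.refl) :
    ∃ φ : ArSing.ring k r ≃ₐ[k] ArSing.ring k r,
      φ.symm (σ (φ (ArSing.x k r))) = ArSing.x k r ∧
      φ.symm (σ (φ (ArSing.y k r))) = -ArSing.y k r := by
  obtain ⟨q, hq⟩ := hev
  have hrq : r = 2 * q := by omega
  have inj := iota_injective k r q hrq
  obtain ⟨θ, hθθ, hθι⟩ := exists_theta k r q hrq σ hσ
  obtain ⟨hξ2, φ₀, hφ₀X, hconj⟩ := Groth.Agent.S14080.result k h2 θ hθθ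
  rcases sq_one_cases k _ hξ2 with hξ | hξ
  · -- trivial case: contradiction
    exfalso
    apply hne
    ext a
    apply inj
    rw [← hθι]
    have h1 := hconj (φ₀.symm (iota k r a))
    rw [hξ, resc_one, AlgEquiv.apply_symm_apply] at h1
    have := congrArg φ₀ h1
    rw [AlgEquiv.apply_symm_apply, AlgEquiv.apply_symm_apply] at this
    exact this
  · -- ξ = -1
    set s := θ X with hs
    have hs0 : constantCoeff s = 0 := X_dvd_iff.mp (X_dvd_apply_X θ)
    have hs1 : coeff 1 s ≠ 0 := by rw [hξ]; simp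
    have hsq : (X : PowerSeries k) ^ (r + 1) ∣ s ^ 2 - rs (-1 : k) (s ^ 2) := by
      have e : s ^ 2 = iota k r (σ (ArSing.x k r)) := by
        rw [← hθι, iota_x, map_pow]
      rw [e]
      exact iota_congr k r q hrq _
    have hK : (X : PowerSeries k) ^ r ∣ X + s :=
      key_K h2 r θ hθθ hξ (dvd_add_rs h2 r s hs0 hs1 hsq)
    have hC : (C (2⁻¹ : k) : PowerSeries k) * 2 = 1 := by
      rw [← map_ofNat (C : k →+* PowerSeries k) 2, ← map_mul, inv_mul_cancel₀ h2, map_one]
    have hu : φ₀ X - X = -(C (2⁻¹ : k)) * (X + s) := by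
      rw [hφ₀X, hξ, map_neg, map_one]
      linear_combination (X : PowerSeries k) * hC
    have hφsq : (X : PowerSeries k) ^ (r + 1) ∣ φ₀ (X ^ 2) - X ^ 2 := by
      obtain ⟨c, hc⟩ := hK
      obtain ⟨d, hd⟩ := X_dvd_apply_X φ₀
      refine ⟨-(C (2⁻¹ : k)) * c * (d + 1), ?_⟩
      have : φ₀ (X ^ 2) - X ^ 2 = (φ₀ X - X) * (φ₀ X + X) := by
        rw [map_pow]; ring
      rw [this, hu, hc, hd, pow_succ]
      ring
    obtain ⟨Φ, hΦ, hΦs⟩ := exists_liftEquiv_ev k r q hrq φ₀ hφsq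
    refine ⟨Φ, ?_, ?_⟩
    · apply inj
      rw [hΦs, ← hθι, hΦ, hconj, hξ, iota_x, resc_neg_X_pow]
      ring
    · apply inj
      rw [hΦs, ← hθι, hΦ, hconj, hξ, map_neg, iota_y, resc_neg_X_pow, hrq]
      rw [pow_succ, pow_mul]
      ring

end Main

end Groth.Agent.Lib.Helper24ArEv
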