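import Mathlib
import Groth.Prelude.Def_Disc

set_option autoImplicit false
universe u v

namespace Groth.Agent.Lib.Helper24AssOmega

/-- a finite injective extension of domains has a nonzero linear functional to the base -/
lemma exists_functional_ne_zero (D E : Type*) [CommRing D] [IsDomain D] [CommRing E] [IsDomain E]
    [Algebra D E] [Module.Finite D E] (hinj : Function.Injective (algebraMap D E)) :
    ∃ (f : E →ₗ[D] D) (e : E), f e ≠ 0 := by
  classical
  haveI : FaithfulSMul D (FractionRing E) := by
    rw [faithfulSMul_iff_algebraMap_injective, IsScalarTower.algebraMap_eq D E (FractionRing E)]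
    exact (IsFractionRing.injective E (FractionRing E)).comp hinj
  letI : Algebra (FractionRing D) (FractionRing E) := FractionRing.liftAlgebra D (FractionRing E)
  haveI : IsScalarTower D (FractionRing D) (FractionRing E) :=
    FractionRing.isScalarTower_liftAlgebra D (FractionRing E)
  obtain ⟨ℓ, hℓ⟩ : ∃ ℓ : Module.Dual (FractionRing D) (FractionRing E), ℓ 1 ≠ 0 := by
    by_contra h
    push Not at h
    exact one_ne_zero ((Module.forall_dual_apply_eq_zero_iff (FractionRing D)
      (1 : FractionRing E)).mp h)
  obtain ⟨g, hgdef⟩ : ∃ g : E →ₗ[D] FractionRing D, g =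
      (ℓ.restrictScalars D).comp (IsScalarTower.toAlgHom D E (FractionRing E)).toLinearMap :=
    ⟨_, rfl⟩
  have hg1 : g 1 ≠ 0 := by
    rw [hgdef]
    simpa using hℓ
  obtain ⟨T, hT⟩ := (Module.Finite.fg_top : (⊤ : Submodule D E).FG)
  obtain ⟨d, hd⟩ := IsLocalization.exist_integer_multiples_of_finset (nonZeroDivisors D)
    (T.image g)
  have hd' : ∀ e : E, ((d : D) • g) e ∈ LinearMap.range (Algebra.linearMap D (FractionRing D)) := by
    intro e
    have he : e ∈ Submodule.span D (T : Set E) := by rw [hT]; trivial
    induction he using Submodule.span_induction with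
    | mem x hx =>
      obtain ⟨r, hr⟩ := hd (g x) (Finset.mem_image_of_mem g hx)
      exact ⟨r, hr⟩
    | zero => simp
    | add x y _ _ hx hy =>
      rw [map_add]
      exact Submodule.add_mem _ hx hy
    | smul a x _ hx =>
      rw [map_smul]
      exact Submodule.smul_mem _ a hx
  have hinjK : Function.Injective (Algebra.linearMap D (FractionRing D)) :=
    IsFractionRing.injective D (FractionRing D)
  refine ⟨(LinearEquiv.ofInjective (Algebra.linearMap D (FractionRing D)) hinjK).symm.toLinearMap ∘ₗ
    (((d : D) • g).codRestrict (LinearMap.range (Algebra.linearMap D (FractionRing D))) hd'), 1, ?_⟩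
  intro h0
  rw [LinearMap.comp_apply, LinearEquiv.coe_coe, LinearEquiv.map_eq_zero_iff] at h0
  have h1 := congrArg Subtype.val h0
  rw [LinearMap.codRestrict_apply] at h1
  have h2 : (d : D) • g 1 = 0 := h1
  rcases smul_eq_zero.mp h2 with h3 | h3
  · exact nonZeroDivisors.coe_ne_zero d h3
  · exact hg1 h3

end Groth.Agent.Lib.Helper24AssOmega
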