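import Mathlib
import Groth.Prelude.Def_Disc
import Groth.Agent.Lib.Helper24AssOmega

set_option autoImplicit false
universe u v

namespace Groth.Agent.Lib.Helper24AssOmega2

open Disc Groth.Agent.Lib.Helper24AssOmega

section

variable {A : Type u} {B : Type v} [CommRing A] [CommRing B] [Algebra A B]

lemma smul_eq_zero_iff (b : B) (Φ : Omega A B) :
    b • Φ = 0 ↔ ∀ x, Φ.toLinearMap (b * x) = 0 := by
  constructor
  · intro h x
    have := congrArg (fun Ψ : Omega A B => Ψ.toLinearMap x) h
    simpa using this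
  · intro h
    ext x
    simpa using h x

end

theorem s2218 {A : Type u} {B : Type v} [CommRing A] [CommRing B]
    [Algebra A B] [IsNoetherianRing A] [IsNoetherianRing B] [Module.Finite A B] :
    associatedPrimes B (Disc.Omega A B) =
      {q : Ideal B | q.IsPrime ∧ q.comap (algebraMap A B) ∈ associatedPrimes A A} := by
  classical
  ext q
  rw [Set.mem_setOf_eq, AssociatedPrimes.mem_iff, isAssociatedPrime_iff]
  constructor
  · rintro ⟨hq, Φ, hΦ⟩
    refine ⟨hq, ?_⟩
    rw [AssociatedPrimes.mem_iff, isAssociatedPrime_iff]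
    haveI : (q.comap (algebraMap A B)).IsPrime := Ideal.comap_isPrime _ _
    refine ⟨inferInstance, ?_⟩
    obtain ⟨n, s, hs⟩ := Module.Finite.exists_fin (R := A) (M := B)
    have hmem : ∀ a : A, a ∈ q.comap (algebraMap A B) ↔ ∀ i, a * Φ.toLinearMap (s i) = 0 := by
      intro a
      rw [Ideal.mem_comap, hΦ, Submodule.mem_colon_singleton, Submodule.mem_bot, smul_eq_zero_iff]
      constructor
      · intro h i
        have := h (s i)
        rw [← Algebra.smul_def, map_smul, smul_eq_mul] at this
        exact this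
      · intro h x
        rw [← Algebra.smul_def, map_smul, smul_eq_mul]
        have hx : x ∈ Submodule.span A (Set.range s) := by rw [hs]; trivial
        induction hx using Submodule.span_induction with
        | mem y hy =>
          obtain ⟨i, rfl⟩ := hy
          exact h i
        | zero => simp
        | add y z _ _ hy hz => rw [map_add, mul_add, hy, hz, add_zero]
        | smul c y _ hy => rw [map_smul, smul_eq_mul, mul_left_comm, hy, mul_zero]
    have hinf : (Finset.univ.inf fun i => (⊥ : Submodule A A).colon {Φ.toLinearMap (s i)}) ≤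
        q.comap (algebraMap A B) := by
      intro a ha
      rw [hmem]
      intro i
      have h0 : (Finset.univ.inf fun i => (⊥ : Submodule A A).colon {Φ.toLinearMap (s i)}) ≤
          (⊥ : Submodule A A).colon {Φ.toLinearMap (s i)} :=
        Finset.inf_le (f := fun i => (⊥ : Submodule A A).colon {Φ.toLinearMap (s i)})
          (Finset.mem_univ i)
      have h1 : a ∈ (⊥ : Submodule A A).colon {Φ.toLinearMap (s i)} := h0 ha
      rw [Submodule.mem_colon_singleton, Submodule.mem_bot, smul_eq_mul] at h1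
      exact h1
    obtain ⟨i, _, hi⟩ := (Ideal.IsPrime.inf_le' inferInstance).mp hinf
    refine ⟨Φ.toLinearMap (s i), le_antisymm ?_ hi⟩
    intro a ha
    rw [Submodule.mem_colon_singleton, Submodule.mem_bot, smul_eq_mul]
    exact (hmem a).mp ha i
  · rintro ⟨hq, hp⟩
    haveI := hq
    refine ⟨hq, ?_⟩
    rw [AssociatedPrimes.mem_iff, isAssociatedPrime_iff] at hp
    obtain ⟨hpprime, a₀, ha₀⟩ := hp
    obtain ⟨p, hpdef⟩ : ∃ p : Ideal A, p = q.comap (algebraMap A B) := ⟨_, rfl⟩
    rw [← hpdef] at hpprime ha₀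
    haveI : p.IsPrime := hpprime
    haveI : q.LiesOver p := ⟨hpdef⟩
    obtain ⟨f, ē, hfe⟩ := exists_functional_ne_zero (A ⧸ p) (B ⧸ q)
      (FaithfulSMul.algebraMap_injective (A ⧸ p) (B ⧸ q))
    have hker : p ≤ LinearMap.ker (LinearMap.toSpanSingleton A A a₀) := by
      intro a ha
      rw [LinearMap.mem_ker, LinearMap.toSpanSingleton_apply, smul_eq_mul]
      rw [ha₀, Submodule.mem_colon_singleton, Submodule.mem_bot, smul_eq_mul] at ha
      exact ha
    obtain ⟨incl, hincl⟩ : ∃ incl : (A ⧸ p) →ₗ[A] A,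
        ∀ a : A, incl (Ideal.Quotient.mk p a) = a * a₀ :=
      ⟨Submodule.liftQ p (LinearMap.toSpanSingleton A A a₀) hker, fun a => rfl⟩
    have hincl_inj : ∀ z : A ⧸ p, incl z = 0 → z = 0 := by
      intro z hz
      obtain ⟨a, rfl⟩ := Ideal.Quotient.mk_surjective z
      rw [hincl] at hz
      rw [Ideal.Quotient.eq_zero_iff_mem, ha₀, Submodule.mem_colon_singleton, Submodule.mem_bot,
        smul_eq_mul]
      exact hz
    obtain ⟨ψ, hψ⟩ : ∃ ψ : B →ₗ[A] A, ∀ b : B, ψ b = incl (f (Ideal.Quotient.mk q b)) :=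
      ⟨incl ∘ₗ (f.restrictScalars A) ∘ₗ (Ideal.Quotient.mkₐ A q).toLinearMap, fun b => rfl⟩
    have hP3 : ∀ a : A, (∀ x : B, ψ (algebraMap A B a * x) = 0) → a ∈ p := by
      intro a h
      obtain ⟨e, rfl⟩ := Ideal.Quotient.mk_surjective ē
      have h1 := h e
      rw [hψ] at h1
      have h2 := hincl_inj _ h1
      have h3 : Ideal.Quotient.mk q (algebraMap A B a * e) =
          (Ideal.Quotient.mk p a) • Ideal.Quotient.mk q e := by
        rw [Algebra.smul_def, Ideal.Quotient.algebraMap_mk_of_liesOver, map_mul]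
      rw [h3, map_smul, smul_eq_mul] at h2
      rcases mul_eq_zero.mp h2 with h4 | h4
      · exact Ideal.Quotient.eq_zero_iff_mem.mp h4
      · exact absurd h4 hfe
    have hle : q ≤ (⊥ : Submodule B (Omega A B)).colon {(⟨ψ⟩ : Omega A B)} := by
      intro b hb
      rw [Submodule.mem_colon_singleton, Submodule.mem_bot, smul_eq_zero_iff]
      intro x
      show ψ (b * x) = 0
      rw [hψ, Ideal.Quotient.eq_zero_iff_mem.mpr (q.mul_mem_right x hb), map_zero, map_zero]
    refine ⟨⟨ψ⟩, le_antisymm hle ?_⟩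
    intro b hb
    by_contra hbq
    have hlt := Ideal.comap_lt_comap_of_integral_mem_sdiff (R := A) hle ⟨hb, hbq⟩
      (Algebra.IsIntegral.isIntegral b)
    obtain ⟨a, ha1, ha2⟩ := (SetLike.lt_iff_le_and_exists.mp hlt).2
    apply ha2
    show a ∈ q.comap (algebraMap A B)
    rw [← hpdef]
    apply hP3
    rw [Ideal.mem_comap, Submodule.mem_colon_singleton, Submodule.mem_bot, smul_eq_zero_iff] at ha1
    exact ha1

end Groth.Agent.Lib.Helper24AssOmega2
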