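import Mathlib
import Groth.Prelude.Def_GrMap

/-!
# helper24: criteria for injectivity / surjectivity of the map of associated graded rings

All statements are degreewise: for a filtered ring hom `φ : (A, 𝓕) → (B, 𝓖)`,
* `map h` is injective iff `a ∈ F n`, `φ a ∈ G (n+1)` imply `a ∈ F (n+1)`;
* `map h` is surjective iff every `b ∈ G n` is `φ a` modulo `G (n+1)` for some `a ∈ F n`.
-/

universe u v

namespace Groth.Agent.Lib.Helper24AssocGr

open Polynomial AssocGr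

variable {A : Type u} {B : Type v} [CommRing A] [CommRing B] {φ : A →+* B}
  {𝓕 : FiltBl.IdealFiltration A} {𝓖 : FiltBl.IdealFiltration B}

theorem map_injective (h : IsFiltHom φ 𝓕 𝓖)
    (hinj : ∀ n, ∀ a ∈ 𝓕.F n, φ a ∈ 𝓖.F (n + 1) → a ∈ 𝓕.F (n + 1)) :
    Function.Injective (AssocGr.map h) := by
  rw [injective_iff_map_eq_zero]
  intro x hx
  obtain ⟨f, rfl⟩ := mkG_surjective 𝓕 x
  rw [map_mkG, mkG_eq_zero_iff, mem_succIdeal_iff] at hx
  rw [mkG_eq_zero_iff, mem_succIdeal_iff]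
  intro n
  have h1 := hx n
  rw [coe_reesMap, coeff_map] at h1
  exact hinj n _ (f.2 n) h1

theorem piece_injective_of_map_injective (h : IsFiltHom φ 𝓕 𝓖)
    (hinj : Function.Injective (AssocGr.map h)) :
    ∀ n, ∀ a ∈ 𝓕.F n, φ a ∈ 𝓖.F (n + 1) → a ∈ 𝓕.F (n + 1) := by
  intro n a ha hφa
  have h1 : AssocGr.map h (inDeg 𝓕 n ⟨a, ha⟩ : GrRing 𝓕) = 0 := by
    rw [map_inDeg]
    have : inDeg 𝓖 n ⟨φ a, h.apply_mem ha⟩ = 0 := (inDeg_eq_zero_iff 𝓖 n _).mpr hφa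
    rw [this]; rfl
  have h2 : (inDeg 𝓕 n ⟨a, ha⟩ : GrRing 𝓕) = 0 := hinj (h1.trans (map_zero _).symm)
  have h3 : inDeg 𝓕 n ⟨a, ha⟩ = 0 := Subtype.ext h2
  exact (inDeg_eq_zero_iff 𝓕 n _).mp h3

theorem map_surjective (h : IsFiltHom φ 𝓕 𝓖)
    (hsurj : ∀ n, ∀ b ∈ 𝓖.F n, ∃ a ∈ 𝓕.F n, b - φ a ∈ 𝓖.F (n + 1)) :
    Function.Surjective (AssocGr.map h) := by
  classical
  intro y
  obtain ⟨g, rfl⟩ := mkG_surjective 𝓖 y
  choose! a ha hab using hsurj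
  let fpoly : A[X] := ∑ n ∈ (g : B[X]).support, monomial n (a n ((g : B[X]).coeff n))
  have hcoeff : ∀ m, fpoly.coeff m =
      if m ∈ (g : B[X]).support then a m ((g : B[X]).coeff m) else 0 := by
    intro m
    simp only [fpoly, finsetSum_coeff, coeff_monomial]
    rw [Finset.sum_ite_eq' (g : B[X]).support m]
  have hf : fpoly ∈ 𝓕.rees := by
    intro m
    rw [hcoeff]
    split_ifs
    · exact ha m _ (g.2 m)
    · exact Ideal.zero_mem _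
  refine ⟨mkG 𝓕 ⟨fpoly, hf⟩, ?_⟩
  rw [map_mkG, ← sub_eq_zero, ← map_sub, mkG_eq_zero_iff, mem_succIdeal_iff]
  intro m
  have h1 : ((reesMap h ⟨fpoly, hf⟩ - g : 𝓖.rees) : B[X]) = fpoly.map φ - (g : B[X]) := rfl
  rw [h1, coeff_sub, coeff_map, hcoeff]
  split_ifs with hm
  · have := hab m _ (g.2 m)
    have h2 : φ (a m ((g : B[X]).coeff m)) - (g : B[X]).coeff m =
        -((g : B[X]).coeff m - φ (a m ((g : B[X]).coeff m))) := by ring
    rw [h2]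
    exact Ideal.neg_mem_iff _ |>.mpr this
  · rw [Polynomial.notMem_support_iff.mp hm, map_zero, sub_zero]
    exact Ideal.zero_mem _

theorem piece_surjective_of_map_surjective (h : IsFiltHom φ 𝓕 𝓖)
    (hsurj : Function.Surjective (AssocGr.map h)) :
    ∀ n, ∀ b ∈ 𝓖.F n, ∃ a ∈ 𝓕.F n, b - φ a ∈ 𝓖.F (n + 1) := by
  intro n b hb
  obtain ⟨x, hx⟩ := hsurj (mkG 𝓖 (monom 𝓖 n ⟨b, hb⟩ : 𝓖.rees))
  obtain ⟨f, rfl⟩ := mkG_surjective 𝓕 x
  rw [map_mkG, ← sub_eq_zero, ← map_sub, mkG_eq_zero_iff, mem_succIdeal_iff] at hx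
  have h1 := hx n
  have h2 : ((reesMap h f - (monom 𝓖 n ⟨b, hb⟩ : 𝓖.rees) : 𝓖.rees) : B[X]) =
      (f : A[X]).map φ - monomial n b := rfl
  rw [h2, coeff_sub, coeff_map, coeff_monomial, if_pos rfl] at h1
  refine ⟨(f : A[X]).coeff n, f.2 n, ?_⟩
  have h3 : b - φ ((f : A[X]).coeff n) = -(φ ((f : A[X]).coeff n) - b) := by ring
  rw [h3]
  exact (Ideal.neg_mem_iff _).mpr h1

end Groth.Agent.Lib.Helper24AssocGr
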