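import Mathlib

/-!
# Ax's theorem: digit sums, Legendre's formula for multinomial coefficients (helper24)
-/

set_option autoImplicit false
universe u

namespace Groth.Agent.Lib.Helper24Ax

open Finset

/-- sum of the digits in base `p` -/
def dsum (p n : ℕ) : ℕ := (Nat.digits p n).sum

theorem dsum_zero (p : ℕ) : dsum p 0 = 0 := by simp [dsum]

theorem dsum_le (p n : ℕ) : dsum p n ≤ n := Nat.digit_sum_le p n

theorem dsum_rec {p : ℕ} (hp : 1 < p) {n : ℕ} (hn : 0 < n) :
    dsum p n = n % p + dsum p (n / p) := by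
  unfold dsum
  rw [Nat.digits_def' hp hn, List.sum_cons]

theorem dsum_base_mul {p : ℕ} (hp : 1 < p) (m : ℕ) : dsum p (p * m) = dsum p m := by
  rcases Nat.eq_zero_or_pos m with rfl | hm
  · simp
  · unfold dsum
    rw [Nat.digits_base_mul hp hm, List.sum_cons, zero_add]

theorem dsum_base_pow_mul {p : ℕ} (hp : 1 < p) (c m : ℕ) : dsum p (p ^ c * m) = dsum p m := by
  induction c with
  | zero => simp
  | succ c ih => rw [pow_succ', mul_assoc, dsum_base_mul hp, ih]

theorem dsum_pow_sub_one {p : ℕ} (hp : 1 < p) (a : ℕ) : dsum p (p ^ a - 1) = a * (p - 1) := by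
  induction a with
  | zero => simp [dsum]
  | succ a ih =>
    have hpos : 0 < p ^ (a + 1) - 1 := by
      have : 1 < p ^ (a + 1) := Nat.one_lt_pow (Nat.succ_ne_zero a) hp
      omega
    have h1 : 1 ≤ p ^ a := Nat.one_le_pow _ _ (by omega)
    have h2 : p ^ (a + 1) - 1 = p * (p ^ a - 1) + (p - 1) := by
      rw [pow_succ', Nat.mul_sub, mul_one]
      have : p ≤ p * p ^ a := Nat.le_mul_of_pos_right p (by omega)
      omega
    rw [dsum_rec hp hpos, h2]
    have h3 : (p * (p ^ a - 1) + (p - 1)) % p = p - 1 := by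
      rw [Nat.mul_add_mod]
      exact Nat.mod_eq_of_lt (by omega)
    have h4 : (p * (p ^ a - 1) + (p - 1)) / p = p ^ a - 1 := by
      rw [Nat.mul_add_div (by omega), Nat.div_eq_of_lt (by omega), add_zero]
    rw [h3, h4, ih]
    ring

section Legendre
variable {p : ℕ} [hp : Fact p.Prime]

theorem legendre (n : ℕ) : (p - 1) * padicValNat p (n.factorial) + dsum p n = n := by
  have h := sub_one_mul_padicValNat_factorial (p := p) n
  have h2 := dsum_le p n
  unfold dsum at h2 ⊢
  omega

theorem legendre_prod {ι : Type*} (s : Finset ι) (κ : ι → ℕ) :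
    (p - 1) * padicValNat p (∏ i ∈ s, (κ i).factorial) + ∑ i ∈ s, dsum p (κ i) = ∑ i ∈ s, κ i := by
  classical
  induction s using Finset.induction_on with
  | empty => simp
  | insert i s hi ih =>
    rw [Finset.prod_insert hi, Finset.sum_insert hi, Finset.sum_insert hi,
      padicValNat.mul (Nat.factorial_ne_zero _)
        (Finset.prod_ne_zero_iff.mpr fun j _ => Nat.factorial_ne_zero _)]
    have := legendre (p := p) (κ i)
    rw [mul_add]
    omega

/-- Legendre's formula for multinomial coefficients -/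
theorem legendre_multinomial {ι : Type*} (s : Finset ι) (κ : ι → ℕ) :
    (p - 1) * padicValNat p (Nat.multinomial s κ) + dsum p (∑ i ∈ s, κ i) =
      ∑ i ∈ s, dsum p (κ i) := by
  have h1 := Nat.multinomial_spec s κ
  have h2 : padicValNat p (∏ i ∈ s, (κ i).factorial) + padicValNat p (Nat.multinomial s κ) =
      padicValNat p ((∑ i ∈ s, κ i).factorial) := by
    rw [← h1, padicValNat.mul (Finset.prod_ne_zero_iff.mpr fun j _ => Nat.factorial_ne_zero _)
      (Nat.multinomial_pos s κ).ne']
  have h3 := legendre_prod (p := p) s κ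
  have h4 := legendre (p := p) (∑ i ∈ s, κ i)
  have h5 : (p - 1) * padicValNat p (∏ i ∈ s, (κ i).factorial) +
      (p - 1) * padicValNat p (Nat.multinomial s κ) =
      (p - 1) * padicValNat p ((∑ i ∈ s, κ i).factorial) := by
    rw [← mul_add, h2]
  omega

end Legendre

section Rho

/-- the representative in `[1, Q]` of a positive number modulo `Q` (and `0` for `0`) -/
def rho (Q k : ℕ) : ℕ := if k = 0 then 0 else (k - 1) % Q + 1

variable {Q : ℕ}

theorem rho_zero : rho Q 0 = 0 := by simp [rho]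

theorem rho_pos {k : ℕ} (hk : 0 < k) : 1 ≤ rho Q k := by
  unfold rho
  rw [if_neg (by omega)]
  omega

theorem rho_le (hQ : 0 < Q) (k : ℕ) : rho Q k ≤ Q := by
  unfold rho
  split_ifs
  · omega
  · have := Nat.mod_lt (k - 1) hQ
    omega

theorem rho_modEq (k : ℕ) : rho Q k ≡ k [MOD Q] := by
  unfold rho
  split_ifs with h
  · rw [h]
  · have h1 : (k - 1) % Q ≡ k - 1 [MOD Q] := Nat.mod_modEq _ _
    have h2 := Nat.ModEq.add_right 1 h1
    have h3 : k - 1 + 1 = k := by omega
    rwa [h3] at h2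

theorem rho_unique (hQ : 0 < Q) {k v : ℕ} (hk : 0 < k) (hv1 : 1 ≤ v) (hvQ : v ≤ Q)
    (h : v ≡ k [MOD Q]) : rho Q k = v := by
  have h1 := rho_pos (Q := Q) hk
  have h2 := rho_le hQ k
  have h3 : rho Q k ≡ v [MOD Q] := (rho_modEq k).trans h.symm
  -- both in [1, Q] and congruent
  have h4 : (rho Q k - 1) % Q = (v - 1) % Q := by
    have h5 : rho Q k - 1 + 1 ≡ v - 1 + 1 [MOD Q] := by
      have e1 : rho Q k - 1 + 1 = rho Q k := by omega
      have e2 : v - 1 + 1 = v := by omega
      rw [e1, e2]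
      exact h3
    exact Nat.ModEq.add_right_cancel' 1 h5
  rw [Nat.mod_eq_of_lt (by omega), Nat.mod_eq_of_lt (by omega)] at h4
  omega

theorem rho_eq_self (hQ : 0 < Q) {k : ℕ} (hk : 1 ≤ k) (hkQ : k ≤ Q) : rho Q k = k :=
  rho_unique hQ (by omega) hk hkQ (Nat.ModEq.refl k)

theorem rho_congr (hQ : 0 < Q) {k k' : ℕ} (h : k ≡ k' [MOD Q]) (hk : 0 < k) (hk' : 0 < k') :
    rho Q k = rho Q k' :=
  rho_unique hQ hk (rho_pos hk') (rho_le hQ k') ((rho_modEq k').trans h.symm)

theorem rho_add_le (hQ : 0 < Q) (x y : ℕ) : rho Q (x + y) ≤ rho Q x + rho Q y := by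
  rcases Nat.eq_zero_or_pos x with rfl | hx
  · simp [rho_zero]
  rcases Nat.eq_zero_or_pos y with rfl | hy
  · simp [rho_zero]
  by_cases h : rho Q x + rho Q y ≤ Q
  · have h1 : rho Q (x + y) = rho Q x + rho Q y := by
      apply rho_unique hQ (by omega) _ h
      · exact Nat.ModEq.add (rho_modEq x) (rho_modEq y)
      · have := rho_pos (Q := Q) hx
        omega
    omega
  · have := rho_le hQ (x + y)
    omega

theorem rho_mul_le (hQ : 0 < Q) (c x : ℕ) : rho Q (c * x) ≤ c * rho Q x := by
  induction c with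
  | zero => simp [rho_zero]
  | succ c ih =>
    rw [Nat.succ_mul, Nat.succ_mul]
    exact (rho_add_le hQ _ _).trans (by omega)

end Rho

end Groth.Agent.Lib.Helper24Ax
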