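import Mathlib
import Groth.Agent.Lib.Helper24AxA

/-!
# Ax's theorem: the key divisibility of multinomial coefficients (helper24)
-/

set_option autoImplicit false
universe u

namespace Groth.Agent.Lib.Helper24Ax

open Finset

/-- `1 + p + ... + p^(a-1)` -/
def geomG (p a : ℕ) : ℕ := ∑ u ∈ range a, p ^ u

theorem geomG_spec {p : ℕ} (hp : 1 ≤ p) (a : ℕ) : (p - 1) * geomG p a + 1 = p ^ a := by
  induction a with
  | zero => simp [geomG]
  | succ a ih =>
    unfold geomG at ih ⊢
    rw [sum_range_succ, mul_add, pow_succ]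
    have h : p - 1 + 1 = p := by omega
    have h2 : (p - 1) * p ^ a + p ^ a = p ^ a * p := by
      calc (p - 1) * p ^ a + p ^ a = (p - 1 + 1) * p ^ a := by ring
        _ = p ^ a * p := by rw [h]; ring
    omega

theorem geomG_pos {p a : ℕ} (ha : 0 < a) : 0 < geomG p a := by
  unfold geomG
  calc 0 < p ^ 0 := by simp
    _ ≤ _ := Finset.single_le_sum (f := fun u => p ^ u) (fun _ _ => Nat.zero_le _)
      (mem_range.mpr ha)

/-- the sum of the reduced representatives of `k, p k, ..., p^(a-1) k` -/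
def lam (Q p a k : ℕ) : ℕ := ∑ r ∈ range a, rho Q (p ^ r * k)

section
variable {p a Q : ℕ}

theorem Q_pos (hp : 1 < p) (ha : 0 < a) (hQ : p ^ a = Q + 1) : 0 < Q := by
  have : 1 < p ^ a := Nat.one_lt_pow ha.ne' hp
  omega

theorem pow_modEq_one (hQ : p ^ a = Q + 1) : p ^ a ≡ 1 [MOD Q] := by
  rw [hQ]
  unfold Nat.ModEq
  exact Nat.add_mod_left Q 1

theorem rho_pow_mul (hp : 1 < p) (ha : 0 < a) (hQ : p ^ a = Q + 1) (k : ℕ) :
    rho Q (p ^ a * k) = rho Q k := by
  rcases Nat.eq_zero_or_pos k with rfl | hk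
  · simp
  · have hpos : 0 < p ^ a * k := by positivity
    apply rho_congr (Q_pos hp ha hQ) _ hpos hk
    have := (pow_modEq_one hQ).mul_right k
    simpa using this

theorem rho_pow_self (hp : 1 < p) (hQ : p ^ a = Q + 1) {r : ℕ} (hr : r < a) :
    rho Q (p ^ r) = p ^ r := by
  have h1 : p ^ r < p ^ a := Nat.pow_lt_pow_right hp hr
  have h0 : 0 < p ^ r := by positivity
  have hQpos : 0 < Q := by omega
  exact rho_eq_self hQpos h0 (by omega)

theorem lam_step (hp : 1 < p) (ha : 0 < a) (hQ : p ^ a = Q + 1) (k' c : ℕ) :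
    lam Q p a (p * k' + c) ≤ lam Q p a k' + c * geomG p a := by
  have hQpos := Q_pos hp ha hQ
  unfold lam geomG
  rw [mul_sum]
  have hshift : ∑ r ∈ range a, rho Q (p ^ (r + 1) * k') = ∑ r ∈ range a, rho Q (p ^ r * k') := by
    have h1 := sum_range_succ (fun r => rho Q (p ^ r * k')) a
    have h2 := sum_range_succ' (fun r => rho Q (p ^ r * k')) a
    simp only [pow_zero, one_mul] at h2
    rw [rho_pow_mul hp ha hQ] at h1
    omega
  rw [← hshift, ← sum_add_distrib]
  apply sum_le_sum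
  intro r hr
  rw [mem_range] at hr
  have e : p ^ r * (p * k' + c) = p ^ (r + 1) * k' + c * p ^ r := by ring
  rw [e]
  calc rho Q (p ^ (r + 1) * k' + c * p ^ r)
      ≤ rho Q (p ^ (r + 1) * k') + rho Q (c * p ^ r) := rho_add_le hQpos _ _
    _ ≤ rho Q (p ^ (r + 1) * k') + c * rho Q (p ^ r) :=
        Nat.add_le_add_left (rho_mul_le hQpos _ _) _
    _ = _ := by rw [rho_pow_self hp hQ hr]

theorem lam_le (hp : 1 < p) (ha : 0 < a) (hQ : p ^ a = Q + 1) (k : ℕ) :
    lam Q p a k ≤ dsum p k * geomG p a := by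
  induction k using Nat.strong_induction_on with
  | _ k ih =>
    rcases Nat.eq_zero_or_pos k with rfl | hk
    · simp [lam, rho_zero]
    · have hlt : k / p < k := Nat.div_lt_self hk hp
      have ih' := ih (k / p) hlt
      rw [dsum_rec hp hk]
      have h1 := lam_step hp ha hQ (k / p) (k % p)
      rw [Nat.div_add_mod k p] at h1
      calc lam Q p a k ≤ lam Q p a (k / p) + k % p * geomG p a := h1
        _ ≤ dsum p (k / p) * geomG p a + k % p * geomG p a := Nat.add_le_add_right ih' _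
        _ = _ := by ring

end

theorem sum_rho_mul_modEq {ι : Type*} (Q : ℕ) (s : Finset ι) (f w : ι → ℕ) :
    ∑ i ∈ s, rho Q (f i) * w i ≡ ∑ i ∈ s, f i * w i [MOD Q] := by
  unfold Nat.ModEq
  rw [Finset.sum_nat_mod, Finset.sum_nat_mod s Q (fun i => f i * w i)]
  congr 1
  apply Finset.sum_congr rfl
  intro i _
  exact (rho_modEq (f i)).mul_right (w i)

/-- the key divisibility -/
theorem key_dvd {ι : Type*} {p a Q : ℕ} [hpp : Fact p.Prime] (ha : 0 < a) (hQ : p ^ a = Q + 1)
    {N d j : ℕ} (hd : 0 < d) (hjd : j * d < N) (s : Finset ι) (e : ι → Fin N → ℕ)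
    (he : ∀ i ∈ s, ∑ l, e i l ≤ d) (κ : ι → ℕ) (hκ : ∑ i ∈ s, κ i = Q * (p ^ a) ^ j)
    (hE : ∀ l, Q ∣ ∑ i ∈ s, κ i * e i l) :
    (p ^ a) ^ j ∣ Nat.multinomial s κ *
      (p ^ a) ^ (Finset.univ.filter (fun l : Fin N => ∑ i ∈ s, κ i * e i l = 0)).card := by
  classical
  have hp : 1 < p := hpp.out.one_lt
  have hQpos := Q_pos hp ha hQ
  set z := (Finset.univ.filter (fun l : Fin N => ∑ i ∈ s, κ i * e i l = 0)).card with hz
  by_cases hjz : j ≤ z
  · exact Dvd.dvd.mul_left (pow_dvd_pow _ hjz) _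
  push Not at hjz
  obtain ⟨t, ht⟩ : ∃ t, j = z + t + 1 := ⟨j - z - 1, by omega⟩
  set nz := (Finset.univ.filter (fun l : Fin N => ¬ ∑ i ∈ s, κ i * e i l = 0)).card with hnz
  have hcard : nz + z = N := by
    have := Finset.card_filter_add_card_filter_not (s := (univ : Finset (Fin N)))
      (fun l : Fin N => ∑ i ∈ s, κ i * e i l = 0)
    simp only [card_univ, Fintype.card_fin] at this
    omega
  have hnzlt : (t + 1) * d < nz := by
    have h1 : z ≤ z * d := Nat.le_mul_of_pos_right z hd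
    have h2 : j * d = z * d + (t + 1) * d := by rw [ht]; ring
    omega
  -- the sums `Y r`
  have hY : ∀ r, ∃ y, ∑ i ∈ s, rho Q (p ^ r * κ i) = Q * y ∧ t + 2 ≤ y := by
    intro r
    have h1 : Q ∣ ∑ i ∈ s, rho Q (p ^ r * κ i) := by
      have h := sum_rho_mul_modEq Q s (fun i => p ^ r * κ i) (fun _ => 1)
      simp only [mul_one] at h
      rw [← Nat.modEq_zero_iff_dvd]
      refine h.trans ?_
      rw [Nat.modEq_zero_iff_dvd, ← mul_sum, hκ]
      exact Dvd.dvd.mul_left (Dvd.intro _ rfl) _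
    obtain ⟨y, hy⟩ := h1
    refine ⟨y, hy, ?_⟩
    have hB : ∀ l ∈ univ.filter (fun l : Fin N => ¬ ∑ i ∈ s, κ i * e i l = 0),
        Q ≤ ∑ i ∈ s, rho Q (p ^ r * κ i) * e i l := by
      intro l hl
      rw [mem_filter] at hl
      have hdvd : Q ∣ ∑ i ∈ s, rho Q (p ^ r * κ i) * e i l := by
        rw [← Nat.modEq_zero_iff_dvd]
        refine (sum_rho_mul_modEq Q s (fun i => p ^ r * κ i) (fun i => e i l)).trans ?_
        rw [Nat.modEq_zero_iff_dvd]
        have : ∑ i ∈ s, p ^ r * κ i * e i l = p ^ r * ∑ i ∈ s, κ i * e i l := by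
          rw [mul_sum]
          apply sum_congr rfl
          intros
          ring
        rw [this]
        exact Dvd.dvd.mul_left (hE l) _
      apply Nat.le_of_dvd _ hdvd
      obtain ⟨i, hi, hne⟩ := Finset.exists_ne_zero_of_sum_ne_zero hl.2
      have hκi : 0 < κ i := Nat.pos_of_ne_zero (fun h => hne (by rw [h, zero_mul]))
      have hei : 0 < e i l := Nat.pos_of_ne_zero (fun h => hne (by rw [h, mul_zero]))
      have hpos : 0 < p ^ r * κ i := by positivity
      have hρ : 1 ≤ rho Q (p ^ r * κ i) := rho_pos hpos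
      calc 0 < rho Q (p ^ r * κ i) * e i l := Nat.mul_pos hρ hei
        _ ≤ _ := Finset.single_le_sum (f := fun i => rho Q (p ^ r * κ i) * e i l)
          (fun _ _ => Nat.zero_le _) hi
    have hD : nz * Q ≤ ∑ l, ∑ i ∈ s, rho Q (p ^ r * κ i) * e i l := by
      calc nz * Q = nz • Q := by rw [smul_eq_mul]
       _ ≤ ∑ l ∈ univ.filter (fun l : Fin N => ¬ ∑ i ∈ s, κ i * e i l = 0),
            ∑ i ∈ s, rho Q (p ^ r * κ i) * e i l := Finset.card_nsmul_le_sum _ _ _ hB
       _ ≤ _ := Finset.sum_le_sum_of_subset (Finset.filter_subset _ _)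
    have hC : ∑ l, ∑ i ∈ s, rho Q (p ^ r * κ i) * e i l ≤ d * (Q * y) := by
      rw [Finset.sum_comm, ← hy, mul_sum]
      apply sum_le_sum
      intro i hi
      rw [← mul_sum, mul_comm]
      exact Nat.mul_le_mul_right _ (he i hi)
    by_contra hcon
    push Not at hcon
    have hy2 : y ≤ t + 1 := by omega
    have h3 : d * (Q * y) ≤ (t + 1) * d * Q := by
      calc d * (Q * y) ≤ d * (Q * (t + 1)) :=
            Nat.mul_le_mul_left _ (Nat.mul_le_mul_left _ hy2)
        _ = _ := by ring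
    have h4 : (t + 1) * d * Q < nz * Q := Nat.mul_lt_mul_of_pos_right hnzlt hQpos
    omega
  choose y hy1 hy2 using hY
  -- sum over `r`
  set D := ∑ i ∈ s, dsum p (κ i) with hDdef
  have hGQ : (p - 1) * geomG p a = Q := by
    have := geomG_spec (p := p) (by omega) a
    omega
  set G := geomG p a with hG
  have hGpos : 0 < G := geomG_pos ha
  have hsum1 : ∑ r ∈ range a, ∑ i ∈ s, rho Q (p ^ r * κ i) ≤ D * G := by
    rw [Finset.sum_comm, hDdef, sum_mul]
    apply sum_le_sum
    intro i _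
    exact lam_le hp ha hQ (κ i)
  have hsum2 : Q * (a * (t + 2)) ≤ ∑ r ∈ range a, ∑ i ∈ s, rho Q (p ^ r * κ i) := by
    calc Q * (a * (t + 2)) = (range a).card • (Q * (t + 2)) := by
          rw [card_range, smul_eq_mul]; ring
      _ ≤ _ := Finset.card_nsmul_le_sum _ _ _ (fun r _ => by
          rw [hy1 r]; exact Nat.mul_le_mul_left _ (hy2 r))
  have hDge : (p - 1) * (a * (t + 2)) ≤ D := by
    have h5 : (p - 1) * (a * (t + 2)) * G ≤ D * G := by
      calc (p - 1) * (a * (t + 2)) * G = ((p - 1) * G) * (a * (t + 2)) := by ring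
        _ = Q * (a * (t + 2)) := by rw [hGQ]
        _ ≤ _ := hsum2.trans hsum1
    exact Nat.le_of_mul_le_mul_right h5 hGpos
  -- Legendre
  have hleg := legendre_multinomial (p := p) s κ
  have hdM : dsum p (∑ i ∈ s, κ i) = a * (p - 1) := by
    rw [hκ, ← pow_mul, mul_comm Q, dsum_base_pow_mul hp]
    have : Q = p ^ a - 1 := by omega
    rw [this, dsum_pow_sub_one hp]
  rw [hdM] at hleg
  have hv : a * (t + 1) ≤ padicValNat p (Nat.multinomial s κ) := by
    have h6 : (p - 1) * (a * (t + 1)) ≤ (p - 1) * padicValNat p (Nat.multinomial s κ) := by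
      have h7 : (p - 1) * (a * (t + 2)) = (p - 1) * (a * (t + 1)) + a * (p - 1) := by ring
      omega
    exact Nat.le_of_mul_le_mul_left h6 (by omega)
  have hdv : p ^ (a * (t + 1)) ∣ Nat.multinomial s κ :=
    (pow_dvd_pow p hv).trans pow_padicValNat_dvd
  have hsplit : (p ^ a) ^ j = p ^ (a * (t + 1)) * (p ^ a) ^ z := by
    rw [ht, ← pow_mul, ← pow_mul, ← pow_add]
    congr 1
    ring
  rw [hsplit]
  exact mul_dvd_mul hdv (dvd_refl _)

end Groth.Agent.Lib.Helper24Ax
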