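import Mathlib
import Groth.Agent.Lib.Helper24AxB

/-!
# Ax's theorem: the Witt vector / Teichmüller side (helper24)
-/

set_option autoImplicit false
universe u

namespace Groth.Agent.Lib.Helper24Ax

open Finset

section Witt
variable {k : Type u} [Field k] [Fintype k] {p : ℕ} [hp : Fact p.Prime] [CharP k p]

theorem natCast_dvd_of_witt (m n : ℕ)
    (h : (p : WittVector p k) ^ m ∣ (n : WittVector p k)) : p ^ m ∣ n := by
  induction m generalizing n with
  | zero => simp
  | succ m ih =>
    have hpd : (p : WittVector p k) ∣ (n : WittVector p k) :=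
      dvd_trans (dvd_pow_self _ (Nat.succ_ne_zero m)) h
    obtain ⟨w, hw⟩ := hpd
    have h0 : (n : k) = 0 := by
      have := congrArg (WittVector.constantCoeff) hw
      rw [map_natCast, map_mul, map_natCast, CharP.cast_eq_zero k p, zero_mul] at this
      exact this
    obtain ⟨n', rfl⟩ := (CharP.cast_eq_zero_iff k p n).mp h0
    rw [pow_succ', Nat.cast_mul, mul_dvd_mul_iff_left (WittVector.p_nonzero p k)] at h
    rw [pow_succ']
    exact mul_dvd_mul_left p (ih n' h)

theorem p_dvd_of_constantCoeff_eq_zero (w : WittVector p k)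
    (h : WittVector.constantCoeff w = 0) : (p : WittVector p k) ∣ w := by
  have := (WittVector.mem_span_p_iff_coeff_zero_eq_zero w).mpr h
  rwa [Ideal.mem_span_singleton] at this

theorem dvd_pow_sub_one {a Q : ℕ} (hq : Fintype.card k = p ^ a) (hQ : p ^ a = Q + 1) (j : ℕ)
    (w : WittVector p k) (hw : WittVector.constantCoeff w ≠ 0) :
    (p : WittVector p k) ^ (a * j) ∣ w ^ (Q * (p ^ a) ^ j) - 1 := by
  have h1 : WittVector.constantCoeff (w ^ Q) = 1 := by
    rw [map_pow]
    have := FiniteField.pow_card_sub_one_eq_one _ hw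
    rwa [hq, hQ, Nat.add_sub_cancel] at this
  have h2 : (p : WittVector p k) ∣ w ^ Q - 1 := by
    apply p_dvd_of_constantCoeff_eq_zero
    rw [map_sub, h1, map_one, sub_self]
  have h3 := dvd_sub_pow_of_dvd_sub h2 (a * j)
  rw [one_pow, ← pow_mul, pow_mul p a j] at h3
  exact dvd_trans (pow_dvd_pow _ (Nat.le_succ _)) h3

theorem dvd_pow_of_constantCoeff_eq_zero {a Q : ℕ} (hQpos : 0 < Q) (j : ℕ)
    (w : WittVector p k) (hw : WittVector.constantCoeff w = 0) :
    (p : WittVector p k) ^ (a * j) ∣ w ^ (Q * (p ^ a) ^ j) := by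
  obtain ⟨v, rfl⟩ := p_dvd_of_constantCoeff_eq_zero w hw
  rw [mul_pow]
  apply Dvd.dvd.mul_right
  apply pow_dvd_pow
  calc a * j ≤ p ^ (a * j) := (Nat.lt_pow_self hp.out.one_lt).le
    _ = (p ^ a) ^ j := pow_mul _ _ _
    _ ≤ Q * (p ^ a) ^ j := Nat.le_mul_of_pos_left _ hQpos

theorem teich_sum_eq_zero {a Q : ℕ} (hq : Fintype.card k = p ^ a) (hQ : p ^ a = Q + 1) {E : ℕ}
    (hE : ¬ Q ∣ E) : ∑ t : k, (WittVector.teichmuller p t) ^ E = 0 := by
  have hQ' : Fintype.card k - 1 = Q := by omega
  obtain ⟨g, hg⟩ : ∃ g : kˣ, g ^ E ≠ 1 := by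
    by_contra hcon
    push Not at hcon
    exact hE (hQ' ▸ (FiniteField.forall_pow_eq_one_iff k E).mp hcon)
  set S := ∑ t : k, (WittVector.teichmuller p t) ^ E with hS
  have h1 : (WittVector.teichmuller p (g : k)) ^ E * S = S := by
    rw [hS, mul_sum]
    rw [← Equiv.sum_comp (Equiv.mulLeft₀ (g : k) g.ne_zero)
      (fun t => (WittVector.teichmuller p t) ^ E)]
    apply sum_congr rfl
    intro t _
    simp [mul_pow]
  have h2 : (WittVector.teichmuller p (g : k)) ^ E ≠ 1 := by
    intro h
    have := congrArg WittVector.constantCoeff h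
    rw [map_pow, map_one] at this
    simp at this
    apply hg
    ext
    push_cast
    exact this
  have h3 : ((WittVector.teichmuller p (g : k)) ^ E - 1) * S = 0 := by
    rw [sub_mul, h1, one_mul, sub_self]
  rcases mul_eq_zero.mp h3 with h | h
  · exact absurd (sub_eq_zero.mp h) h2
  · exact h

variable {N : ℕ}

/-- the lifted value of `F` at the Teichmüller lift of `x` -/
noncomputable def uval (p : ℕ) [Fact p.Prime] (F : MvPolynomial (Fin N) k) (x : Fin N → k) :
    WittVector p k :=
  ∑ m ∈ F.support, WittVector.teichmuller p (F.coeff m) *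
    ∏ l, (WittVector.teichmuller p (x l)) ^ (m l)

theorem constantCoeff_uval (F : MvPolynomial (Fin N) k) (x : Fin N → k) :
    WittVector.constantCoeff (uval p F x) = MvPolynomial.eval x F := by
  rw [MvPolynomial.eval_eq']
  simp [uval, map_sum, map_mul, map_prod, map_pow]

/-- the exponents `E_l κ` -/
def Eexp (s : Finset (Fin N →₀ ℕ)) (κ : (Fin N →₀ ℕ) → ℕ) (l : Fin N) : ℕ :=
  ∑ m ∈ s, κ m * m l

theorem sum_uval_pow (F : MvPolynomial (Fin N) k) (M : ℕ) :
    ∑ x : Fin N → k, (uval p F x) ^ M =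
      ∑ κ ∈ piAntidiag F.support M, (Nat.multinomial F.support κ : WittVector p k) *
        ((∏ m ∈ F.support, (WittVector.teichmuller p (F.coeff m)) ^ (κ m)) *
          ∏ l, ∑ t : k, (WittVector.teichmuller p t) ^ (Eexp F.support κ l)) := by
  classical
  unfold uval
  simp_rw [Finset.sum_pow_eq_sum_piAntidiag]
  rw [Finset.sum_comm]
  apply sum_congr rfl
  intro κ _
  rw [← mul_sum]
  congr 1
  rw [Fintype.prod_sum, mul_sum]
  apply sum_congr rfl
  intro x _
  simp_rw [mul_pow]
  rw [prod_mul_distrib]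
  congr 1
  simp_rw [← prod_pow, ← pow_mul]
  rw [prod_comm]
  apply prod_congr rfl
  intro l _
  rw [prod_pow_eq_pow_sum]
  congr 1
  unfold Eexp
  apply sum_congr rfl
  intro m _
  ring

theorem term_dvd {a Q d j : ℕ} (ha : 0 < a) (hq : Fintype.card k = p ^ a) (hQ : p ^ a = Q + 1)
    (hd : 0 < d) (F : MvPolynomial (Fin N) k) (hF : F.IsHomogeneous d) (hj : j * d < N)
    (κ : (Fin N →₀ ℕ) → ℕ) (hκ : κ ∈ piAntidiag F.support (Q * (p ^ a) ^ j)) :
    (p : WittVector p k) ^ (a * j) ∣ (Nat.multinomial F.support κ : WittVector p k) *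
        ((∏ m ∈ F.support, (WittVector.teichmuller p (F.coeff m)) ^ (κ m)) *
          ∏ l, ∑ t : k, (WittVector.teichmuller p t) ^ (Eexp F.support κ l)) := by
  classical
  by_cases hall : ∀ l, Q ∣ Eexp F.support κ l
  · have hS0 : ∀ l, ∑ t : k, (WittVector.teichmuller p t) ^ (Eexp F.support κ l) =
        if Eexp F.support κ l = 0 then ((p ^ a : ℕ) : WittVector p k)
        else ∑ t : k, (WittVector.teichmuller p t) ^ (Eexp F.support κ l) := by
      intro l
      split_ifs with h
      · rw [h]
        simp [hq]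
      · rfl
    rw [prod_congr rfl (fun l _ => hS0 l), prod_ite, prod_const]
    have he : ∀ m ∈ F.support, ∑ l, m l ≤ d := by
      intro m hm
      have h1 := hF (MvPolynomial.mem_support_iff.mp hm)
      have h2 : m.degree = d := by
        rw [Finsupp.degree_eq_weight_one]
        exact h1
      rw [Finsupp.degree_eq_sum] at h2
      exact h2.le
    have hkey := key_dvd (p := p) ha hQ hd hj F.support (fun m l => m l) he κ
      (mem_piAntidiag.mp hκ).1 hall
    have hdv := Nat.cast_dvd_cast (α := WittVector p k) hkey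
    push_cast at hdv
    rw [← pow_mul] at hdv
    have hE0 : (univ.filter (fun l : Fin N => ∑ m ∈ F.support, κ m * m l = 0)) =
        (univ.filter (fun l : Fin N => Eexp F.support κ l = 0)) := rfl
    rw [hE0] at hdv
    refine Dvd.dvd.trans (Dvd.dvd.mul_right hdv
      ((∏ m ∈ F.support, (WittVector.teichmuller p (F.coeff m)) ^ (κ m)) *
        ∏ l ∈ univ.filter (fun l : Fin N => ¬ Eexp F.support κ l = 0),
          ∑ t : k, (WittVector.teichmuller p t) ^ (Eexp F.support κ l))) ?_
    apply dvd_of_eq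
    push_cast
    ring
  · push Not at hall
    obtain ⟨l, hl⟩ := hall
    have h0 := teich_sum_eq_zero (k := k) hq hQ hl
    rw [prod_eq_zero (mem_univ l) h0, mul_zero, mul_zero]
    exact dvd_zero _

theorem ax_witt {a Q d j : ℕ} (ha : 0 < a) (hq : Fintype.card k = p ^ a) (hQ : p ^ a = Q + 1)
    (hd : 0 < d) (F : MvPolynomial (Fin N) k) (hF : F.IsHomogeneous d) (hj : j * d < N)
    [DecidableEq k] :
    p ^ (a * j) ∣ Fintype.card {x : Fin N → k // MvPolynomial.eval x F = 0} := by
  apply natCast_dvd_of_witt (k := k)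
  set M := Q * (p ^ a) ^ j with hM
  have hQpos : 0 < Q := Q_pos hp.out.one_lt ha hQ
  have hcard : (Fintype.card {x : Fin N → k // MvPolynomial.eval x F = 0} : WittVector p k) =
      ∑ x : Fin N → k, (if MvPolynomial.eval x F = 0 then (1 : WittVector p k) else 0) := by
    rw [Fintype.card_subtype, Finset.card_filter]
    push_cast
    rfl
  rw [hcard]
  have hind : ∀ x : Fin N → k, (p : WittVector p k) ^ (a * j) ∣
      (if MvPolynomial.eval x F = 0 then (1 : WittVector p k) else 0) -
        (1 - (uval p F x) ^ M) := by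
    intro x
    split_ifs with h
    · have := dvd_pow_of_constantCoeff_eq_zero (a := a) hQpos j (uval p F x)
        (by rw [constantCoeff_uval]; exact h)
      have e : (1 : WittVector p k) - (1 - uval p F x ^ M) = uval p F x ^ M := by ring
      rw [e]
      exact this
    · have := dvd_pow_sub_one hq hQ j (uval p F x) (by rw [constantCoeff_uval]; exact h)
      have e : (0 : WittVector p k) - (1 - uval p F x ^ M) = uval p F x ^ M - 1 := by ring
      rw [e]
      exact this
  have h1 : (p : WittVector p k) ^ (a * j) ∣ ∑ x : Fin N → k,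
      ((if MvPolynomial.eval x F = 0 then (1 : WittVector p k) else 0) -
        (1 - (uval p F x) ^ M)) := Finset.dvd_sum (fun x _ => hind x)
  rw [sum_sub_distrib, sum_sub_distrib] at h1
  have h2 : (p : WittVector p k) ^ (a * j) ∣ ∑ x : Fin N → k, (uval p F x) ^ M := by
    rw [sum_uval_pow]
    exact Finset.dvd_sum (fun κ hκ => term_dvd ha hq hQ hd F hF hj κ hκ)
  have h3 : (p : WittVector p k) ^ (a * j) ∣ ∑ x : Fin N → k, (1 : WittVector p k) := by
    simp only [sum_const, card_univ, Fintype.card_pi, prod_const, Fintype.card_fin,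
      nsmul_eq_mul, mul_one]
    rw [hq]
    push_cast
    rw [← pow_mul]
    apply pow_dvd_pow
    apply Nat.mul_le_mul_left
    have : j ≤ j * d := Nat.le_mul_of_pos_right j hd
    omega
  have h4 := dvd_add h1 (dvd_sub h3 h2)
  rwa [sub_add_cancel] at h4

end Witt

/-- **Ax's theorem** for homogeneous forms. -/
theorem ax_theorem (k : Type u) [Field k] [Fintype k] [DecidableEq k] (N d j : ℕ)
    (hd : 0 < d) (F : MvPolynomial (Fin N) k) (hF : F.IsHomogeneous d) (hj : j * d < N) :
    Fintype.card k ^ j ∣ Fintype.card {x : Fin N → k // MvPolynomial.eval x F = 0} := by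
  obtain ⟨p, hchar, a, hprime, hq⟩ := FiniteField.card' k
  have : Fact p.Prime := ⟨hprime⟩
  have := hchar
  have ha : 0 < (a : ℕ) := a.pos
  obtain ⟨Q, hQ⟩ : ∃ Q, p ^ (a : ℕ) = Q + 1 :=
    ⟨p ^ (a : ℕ) - 1, by have : 0 < p ^ (a : ℕ) := pow_pos hprime.pos _
                         omega⟩
  rw [hq, ← pow_mul]
  exact ax_witt ha hq hQ hd F hF hj

end Groth.Agent.Lib.Helper24Ax
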