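import Mathlib
import Groth.Prelude.Def_W4c1nerontoraddGraph

set_option autoImplicit false
universe u

namespace Groth.Agent.Lib.Helper24Circuit

open LabGraph

variable {V E : Type u} [Fintype V] [Fintype E] [DecidableEq V] [DecidableEq E]

/-- an edge set meeting every vertex in an even number of edge-ends. -/
def IsEven (ends : E → V × V) (D : Finset E) : Prop := ∀ v, Even (endCount ends D v)

theorem exists_circuit_subset (ends : E → V × V) (D : Finset E) (hne : D.Nonempty)
    (hev : IsEven ends D) : ∃ C ⊆ D, IsCircuit ends C := by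
  induction D using Finset.strongInduction with
  | H D ih =>
    by_cases h : ∀ C' : Finset E, C' ⊂ D → C'.Nonempty → ∃ v : V, ¬ Even (endCount ends C' v)
    · exact ⟨D, subset_rfl, hne, hev, h⟩
    · push Not at h
      obtain ⟨C', hC'D, hC'ne, hC'ev⟩ := h
      obtain ⟨C, hCC', hC⟩ := ih C' hC'D hC'ne hC'ev
      exact ⟨C, hCC'.trans hC'D.subset, hC⟩

/-- handshake-type double counting. -/
theorem sum_endCount (ends : E → V × V) (D : Finset E) (S : Finset V) :
    ∑ v ∈ S, endCount ends D v =
      ∑ e ∈ D, ((if (ends e).1 ∈ S then 1 else 0) + (if (ends e).2 ∈ S then 1 else 0)) := by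
  unfold endCount
  rw [Finset.sum_comm]
  refine Finset.sum_congr rfl (fun e _ => ?_)
  rw [Finset.sum_add_distrib, Finset.sum_ite_eq, Finset.sum_ite_eq]

/-- adjacency through an edge of `F`. -/
def AdjIn (ends : E → V × V) (F : Finset E) (u w : V) : Prop :=
  ∃ e ∈ F, ends e = (u, w) ∨ ends e = (w, u)

theorem AdjIn.symm {ends : E → V × V} {F : Finset E} {u w : V} (h : AdjIn ends F u w) :
    AdjIn ends F w u := by
  obtain ⟨e, he, h1 | h1⟩ := h
  · exact ⟨e, he, Or.inr h1⟩
  · exact ⟨e, he, Or.inl h1⟩

theorem reach_symm {ends : E → V × V} {F : Finset E} {u w : V}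
    (h : Relation.ReflTransGen (AdjIn ends F) u w) : Relation.ReflTransGen (AdjIn ends F) w u := by
  induction h with
  | refl => exact Relation.ReflTransGen.refl
  | tail _ hbc ih => exact Relation.ReflTransGen.head hbc.symm ih

theorem reach_mono {ends : E → V × V} {F F' : Finset E} (hFF' : F ⊆ F') {u w : V}
    (h : Relation.ReflTransGen (AdjIn ends F) u w) : Relation.ReflTransGen (AdjIn ends F') u w := by
  induction h with
  | refl => exact Relation.ReflTransGen.refl
  | tail _ hbc ih =>
    obtain ⟨e, he, h1⟩ := hbc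
    exact Relation.ReflTransGen.tail ih ⟨e, hFF' he, h1⟩

/-- in an even edge set, the endpoints of an edge are joined through the other edges. -/
theorem reach_of_even (ends : E → V × V) {C : Finset E} (hC : IsEven ends C) {e : E} (he : e ∈ C) :
    Relation.ReflTransGen (AdjIn ends (C.erase e)) (ends e).1 (ends e).2 := by
  classical
  by_contra hnot
  set S : Finset V := Finset.univ.filter
    (fun v => Relation.ReflTransGen (AdjIn ends (C.erase e)) (ends e).1 v) with hS
  have hu : (ends e).1 ∈ S := by simp [hS, Relation.ReflTransGen.refl]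
  have hw : (ends e).2 ∉ S := by simpa [hS] using hnot
  have hclosed : ∀ e' ∈ C.erase e, ((ends e').1 ∈ S ↔ (ends e').2 ∈ S) := by
    intro e' he'
    simp only [hS, Finset.mem_filter, Finset.mem_univ, true_and]
    constructor
    · intro h
      exact Relation.ReflTransGen.tail h ⟨e', he', Or.inl rfl⟩
    · intro h
      exact Relation.ReflTransGen.tail h ⟨e', he', Or.inr rfl⟩
  have h1 : Even (∑ v ∈ S, endCount ends C v) := Finset.even_sum _ (fun v _ => hC v)
  rw [sum_endCount, ← Finset.insert_erase he, Finset.sum_insert (Finset.notMem_erase e C)] at h1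
  have h2 : Even (∑ e' ∈ C.erase e,
      ((if (ends e').1 ∈ S then 1 else 0) + (if (ends e').2 ∈ S then 1 else 0) : ℕ)) := by
    refine Finset.even_sum _ (fun e' he' => ?_)
    by_cases h : (ends e').1 ∈ S
    · simp [h, (hclosed e' he').mp h]
    · have h' : (ends e').2 ∉ S := fun h' => h ((hclosed e' he').mpr h')
      simp [h, h']
  simp only [hu, hw, if_true, if_false, add_zero] at h1
  rw [Nat.even_add] at h1
  exact absurd (h1.mpr h2) (by decide)

theorem boundary_add (ends : E → V × V) (a b : E → ℤ) (v : V) :
    boundary ends (a + b) v = boundary ends a v + boundary ends b v := by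
  unfold boundary
  rw [← Finset.sum_add_distrib]
  refine Finset.sum_congr rfl (fun e _ => ?_)
  simp only [Pi.add_apply]
  split_ifs <;> ring

theorem boundary_smul (ends : E → V × V) (c : ℤ) (a : E → ℤ) (v : V) :
    boundary ends (c • a) v = c * boundary ends a v := by
  unfold boundary
  rw [Finset.mul_sum]
  refine Finset.sum_congr rfl (fun e _ => ?_)
  simp only [Pi.smul_apply, smul_eq_mul]
  split_ifs <;> ring

theorem boundary_zero (ends : E → V × V) (v : V) : boundary ends (0 : E → ℤ) v = 0 := by
  unfold boundary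
  simp

theorem boundary_single (ends : E → V × V) (e : E) (c : ℤ) (v : V) :
    boundary ends (Pi.single e c) v =
      (if (ends e).2 = v then c else 0) - (if (ends e).1 = v then c else 0) := by
  unfold boundary
  rw [Finset.sum_eq_single e]
  · simp
  · intro e' _ hne
    simp [Pi.single_eq_of_ne hne]
  · intro h; exact absurd (Finset.mem_univ e) h

/-- summation by parts. -/
theorem sum_mul_boundary (ends : E → V × V) (g : V → ℤ) (χ : E → ℤ) :
    ∑ v, g v * boundary ends χ v = ∑ e, χ e * (g (ends e).2 - g (ends e).1) := by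
  unfold boundary
  simp_rw [Finset.mul_sum]
  rw [Finset.sum_comm]
  refine Finset.sum_congr rfl (fun e _ => ?_)
  simp_rw [mul_sub, Finset.sum_sub_distrib, mul_ite, mul_zero, Finset.sum_ite_eq,
    Finset.mem_univ, if_true]
  ring

/-- a chain joining two vertices through edges of `F`. -/
theorem exists_chain_of_reach (ends : E → V × V) (F : Finset E) {u w : V}
    (h : Relation.ReflTransGen (AdjIn ends F) u w) :
    ∃ χ : E → ℤ, (∀ e, e ∉ F → χ e = 0) ∧
      ∀ v, boundary ends χ v = (if w = v then 1 else 0) - (if u = v then 1 else 0) := by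
  induction h with
  | refl => exact ⟨0, fun _ _ => rfl, fun v => by simp [boundary_zero]⟩
  | tail _ hbc ih =>
    obtain ⟨χ, hχ, hb⟩ := ih
    obtain ⟨e, he, h1 | h1⟩ := hbc
    · refine ⟨χ + Pi.single e 1, ?_, ?_⟩
      · intro e' he'
        have : e' ≠ e := fun h => he' (h ▸ he)
        simp [hχ e' he', Pi.single_eq_of_ne this]
      · intro v
        rw [boundary_add, hb, boundary_single, h1]
        ring
    · refine ⟨χ + Pi.single e (-1), ?_, ?_⟩
      · intro e' he'
        have : e' ≠ e := fun h => he' (h ▸ he)
        simp [hχ e' he', Pi.single_eq_of_ne this]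
      · intro v
        rw [boundary_add, hb, boundary_single, h1]
        simp only
        split_ifs <;> ring

/-- an even edge set carries, through each of its edges, an integer cycle. -/
theorem exists_cycle_of_even (ends : E → V × V) {C : Finset E} (hC : IsEven ends C) {e : E}
    (he : e ∈ C) :
    ∃ χ : E → ℤ, (∀ e', e' ∉ C → χ e' = 0) ∧ χ e = 1 ∧ ∀ v, boundary ends χ v = 0 := by
  obtain ⟨χ₀, h0, hb⟩ := exists_chain_of_reach ends (C.erase e) (reach_of_even ends hC he)
  refine ⟨Pi.single e 1 + (-1 : ℤ) • χ₀, ?_, ?_, ?_⟩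
  · intro e' he'
    have h1 : e' ≠ e := fun h => he' (h ▸ he)
    have h2 : e' ∉ C.erase e := fun h => he' (Finset.mem_of_mem_erase h)
    simp [Pi.single_eq_of_ne h1, h0 e' h2]
  · simp [h0 e (Finset.notMem_erase e C)]
  · intro v
    rw [boundary_add, boundary_smul, hb, boundary_single]
    ring

/-- the odd part of the support of an integer cycle is an even edge set. -/
theorem isEven_odd_support (ends : E → V × V) (γ : E → ℤ) (hγ : ∀ v, boundary ends γ v = 0) :
    IsEven ends (Finset.univ.filter (fun e => Odd (γ e))) := by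
  intro v
  rw [← ZMod.natCast_eq_zero_iff_even]
  have h1 : ((boundary ends γ v : ℤ) : ZMod 2) = 0 := by rw [hγ v]; simp
  rw [← h1]
  unfold endCount boundary
  rw [Finset.sum_filter]
  push_cast
  refine Finset.sum_congr rfl (fun e _ => ?_)
  by_cases ho : Odd (γ e)
  · have h2 : ((γ e : ℤ) : ZMod 2) = 1 := ZMod.intCast_eq_one_iff_odd.mpr ho
    rw [if_pos ho, CharTwo.sub_eq_add]
    split_ifs <;> simp [h2, add_comm]
  · have h2 : ((γ e : ℤ) : ZMod 2) = 0 :=
      ZMod.intCast_eq_zero_iff_even.mpr (Int.not_odd_iff_even.mp ho)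
    rw [if_neg ho]
    split_ifs <;> simp [h2]

/-- the support of a nonzero integer cycle contains a circuit. -/
theorem exists_circuit_in_support (ends : E → V × V) (γ : E → ℤ)
    (hγ : ∀ v, boundary ends γ v = 0) (hne : γ ≠ 0) :
    ∃ C : Finset E, IsCircuit ends C ∧ ∀ e ∈ C, γ e ≠ 0 := by
  have hex : ∃ e₁, γ e₁ ≠ 0 := by
    by_contra hcon
    push Not at hcon
    exact hne (funext hcon)
  obtain ⟨e₁, he₁⟩ := hex
  obtain ⟨γ', hγ', hgcd⟩ := Finset.extract_gcd γ (⟨e₁, Finset.mem_univ _⟩ : (Finset.univ : Finset E).Nonempty)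
  set d := Finset.univ.gcd γ with hd
  have hd0 : d ≠ 0 := by
    intro h0
    apply he₁
    rw [hγ' e₁ (Finset.mem_univ _), h0, zero_mul]
  have hγeq : γ = d • γ' := by
    funext e
    simp [hγ' e (Finset.mem_univ _)]
  have hb' : ∀ v, boundary ends γ' v = 0 := by
    intro v
    have := hγ v
    rw [hγeq, boundary_smul] at this
    exact (mul_eq_zero.mp this).resolve_left hd0
  have hodd : ∃ e, Odd (γ' e) := by
    by_contra hcon
    push Not at hcon
    have h2 : (2 : ℤ) ∣ Finset.univ.gcd γ' :=
      Finset.dvd_gcd (fun e _ => (Int.not_odd_iff_even.mp (hcon e)).two_dvd)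
    rw [hgcd] at h2
    exact absurd h2 (by decide)
  obtain ⟨e₂, he₂⟩ := hodd
  obtain ⟨C, hCD, hC⟩ := exists_circuit_subset ends (Finset.univ.filter (fun e => Odd (γ' e)))
    ⟨e₂, by simp [he₂]⟩ (isEven_odd_support ends γ' hb')
  refine ⟨C, hC, ?_⟩
  intro e he
  have hoe : Odd (γ' e) := by simpa using hCD he
  rw [hγ' e (Finset.mem_univ _)]
  refine mul_ne_zero hd0 ?_
  intro h0
  rw [h0] at hoe
  exact absurd hoe (by decide)

/-- induction principle on integer cycles: a predicate closed under sums and multiples that holds for cycles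
supported on circuits holds for all cycles. -/
theorem cycle_induction (ends : E → V × V) (P : (E → ℤ) → Prop) (h0 : P 0)
    (hadd : ∀ a b, P a → P b → P (a + b)) (hsmul : ∀ (c : ℤ) a, P a → P (c • a))
    (hcirc : ∀ (C : Finset E) (χ : E → ℤ), IsCircuit ends C → (∀ e, e ∉ C → χ e = 0) →
      (∀ v, boundary ends χ v = 0) → P χ)
    (γ : E → ℤ) (hγ : ∀ v, boundary ends γ v = 0) : P γ := by
  suffices H : ∀ n : ℕ, ∀ γ : E → ℤ, (∀ v, boundary ends γ v = 0) →
      (Finset.univ.filter (fun e => γ e ≠ 0)).card = n → P γ from H _ γ hγ rfl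
  intro n
  induction n using Nat.strong_induction_on with
  | _ n ih =>
    intro γ hγ hn
    by_cases hz : γ = 0
    · rw [hz]; exact h0
    · obtain ⟨C, hC, hsupp⟩ := exists_circuit_in_support ends γ hγ hz
      obtain ⟨e₀, he₀⟩ := hC.1
      obtain ⟨χ, hχ0, hχe, hχb⟩ := exists_cycle_of_even ends hC.2.1 he₀
      set γ' : E → ℤ := γ + (-(γ e₀)) • χ with hγ'
      have hb' : ∀ v, boundary ends γ' v = 0 := by
        intro v
        rw [hγ', boundary_add, boundary_smul, hγ v, hχb v]
        ring
      have hsub : Finset.univ.filter (fun e => γ' e ≠ 0) ⊆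
          (Finset.univ.filter (fun e => γ e ≠ 0)).erase e₀ := by
        intro e he
        simp only [Finset.mem_filter, Finset.mem_univ, true_and] at he
        rw [Finset.mem_erase]
        constructor
        · rintro rfl
          apply he
          simp [hγ', hχe]
        · simp only [Finset.mem_filter, Finset.mem_univ, true_and]
          intro h0'
          apply he
          have : e ∉ C := fun hC' => hsupp e hC' h0'
          simp [hγ', h0', hχ0 e this]
      have hlt : (Finset.univ.filter (fun e => γ' e ≠ 0)).card < n := by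
        rw [← hn]
        refine lt_of_le_of_lt (Finset.card_le_card hsub) ?_
        exact Finset.card_erase_lt_of_mem (by simp [hsupp e₀ he₀])
      have hP' : P γ' := ih _ hlt γ' hb' rfl
      have hPχ : P ((γ e₀) • χ) := hsmul _ _ (hcirc C χ hC hχ0 hχb)
      have : γ = γ' + (γ e₀) • χ := by
        funext e
        simp [hγ']
      rw [this]
      exact hadd _ _ hP' hPχ

/-- a cochain on the edge set `F` orthogonal to all integer cycles supported in `F` is a coboundary on `F`. -/
theorem exists_potential (ends : E → V × V) (F : Finset E) (ω : E → ℤ)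
    (h : ∀ γ : E → ℤ, (∀ e, e ∉ F → γ e = 0) → (∀ v, boundary ends γ v = 0) →
      ∑ e, γ e * ω e = 0) :
    ∃ g : V → ℤ, ∀ e ∈ F, g (ends e).2 - g (ends e).1 = ω e := by
  classical
  induction F using Finset.induction_on with
  | empty => exact ⟨0, fun e he => absurd he (Finset.notMem_empty e)⟩
  | insert e₀ F' he₀ ih =>
    have h' : ∀ γ : E → ℤ, (∀ e, e ∉ F' → γ e = 0) → (∀ v, boundary ends γ v = 0) →
        ∑ e, γ e * ω e = 0 := by
      intro γ hγ0 hγb
      refine h γ (fun e he => hγ0 e (fun he' => he (Finset.mem_insert_of_mem he'))) hγb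
    obtain ⟨g', hg'⟩ := ih h'
    by_cases hr : Relation.ReflTransGen (AdjIn ends F') (ends e₀).1 (ends e₀).2
    · refine ⟨g', ?_⟩
      intro e he
      rcases Finset.mem_insert.mp he with rfl | he
      · obtain ⟨χ₀, hχ0, hχb⟩ := exists_chain_of_reach ends F' hr
        have hcyc := h (Pi.single e (1 : ℤ) + (-1 : ℤ) • χ₀) ?_ ?_
        · have h1 : ∑ x, ((Pi.single e (1 : ℤ) + (-1 : ℤ) • χ₀ : E → ℤ) x) * ω x
              = ω e - ∑ x, χ₀ x * ω x := by
            simp only [Pi.add_apply, Pi.smul_apply, smul_eq_mul, add_mul, Finset.sum_add_distrib,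
              Pi.single_apply, ite_mul, one_mul, zero_mul, Finset.sum_ite_eq', Finset.mem_univ,
              if_true, neg_mul, Finset.sum_neg_distrib]
            ring
          have h2 : ∑ x, χ₀ x * ω x = ∑ x, χ₀ x * (g' (ends x).2 - g' (ends x).1) := by
            refine Finset.sum_congr rfl (fun x _ => ?_)
            by_cases hx : x ∈ F'
            · rw [hg' x hx]
            · rw [hχ0 x hx, zero_mul, zero_mul]
          have h3 : ∑ v, g' v * boundary ends χ₀ v = g' (ends e).2 - g' (ends e).1 := by
            simp_rw [hχb, mul_sub, Finset.sum_sub_distrib, mul_ite, mul_one, mul_zero,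
              Finset.sum_ite_eq, Finset.mem_univ, if_true]
          rw [h1, h2, ← sum_mul_boundary, h3] at hcyc
          linarith
        · intro x hx
          have hxe : x ≠ e := fun hh => hx (hh ▸ Finset.mem_insert_self _ _)
          have hxF : x ∉ F' := fun hh => hx (Finset.mem_insert_of_mem hh)
          simp [Pi.single_eq_of_ne hxe, hχ0 x hxF]
        · intro v
          rw [boundary_add, boundary_smul, hχb, boundary_single]
          ring
      · exact hg' e he
    · set T : Finset V := Finset.univ.filter
        (fun v => Relation.ReflTransGen (AdjIn ends F') (ends e₀).2 v) with hT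
      have hwT : (ends e₀).2 ∈ T := by simp [hT, Relation.ReflTransGen.refl]
      have huT : (ends e₀).1 ∉ T := by
        simp only [hT, Finset.mem_filter, Finset.mem_univ, true_and]
        intro hh
        exact hr (reach_symm hh)
      have hclosed : ∀ e ∈ F', ((ends e).1 ∈ T ↔ (ends e).2 ∈ T) := by
        intro e he
        simp only [hT, Finset.mem_filter, Finset.mem_univ, true_and]
        constructor
        · intro hh
          exact Relation.ReflTransGen.tail hh ⟨e, he, Or.inl rfl⟩
        · intro hh
          exact Relation.ReflTransGen.tail hh ⟨e, he, Or.inr rfl⟩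
      refine ⟨fun v => g' v + if v ∈ T then ω e₀ - (g' (ends e₀).2 - g' (ends e₀).1) else 0, ?_⟩
      intro e he
      rcases Finset.mem_insert.mp he with rfl | he
      · simp only [hwT, huT, if_true, if_false]
        ring
      · by_cases h1 : (ends e).1 ∈ T
        · have h2 := (hclosed e he).mp h1
          simp only [h1, h2, if_true]
          rw [← hg' e he]; ring
        · have h2 : (ends e).2 ∉ T := fun hh => h1 ((hclosed e he).mpr hh)
          simp only [h1, h2, if_false]
          rw [← hg' e he]; ring

end Groth.Agent.Lib.Helper24Circuit
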