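import Mathlib
import Groth.Prelude.Def_W4c4cptpiccptjacBI
import Groth.Agent.Lib.Helper24Circuit1

set_option autoImplicit false
universe u

namespace Groth.Agent.Lib.Helper24BI

open LabGraph Groth.Agent.Lib.Helper24Circuit

variable {V E : Type u} [Fintype V] [Fintype E] [DecidableEq V] [DecidableEq E]

/-- the edge `e` has exactly one endpoint in `Y`. -/
def Crosses (ends : E → V × V) (Y : Finset V) (e : E) : Prop :=
  ((ends e).1 ∈ Y ∧ (ends e).2 ∉ Y) ∨ ((ends e).1 ∉ Y ∧ (ends e).2 ∈ Y)

instance (ends : E → V × V) (Y : Finset V) : DecidablePred (Crosses ends Y) := by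
  unfold Crosses; infer_instance

omit [Fintype V] in
theorem cut_eq (ends : E → V × V) (Y : Finset V) :
    cut ends Y = (Finset.univ.filter (Crosses ends Y)).card := by
  unfold cut Crosses
  congr

theorem cut_compl (ends : E → V × V) (Y : Finset V) : cut ends Yᶜ = cut ends Y := by
  rw [cut_eq, cut_eq]
  congr 1
  ext e
  simp only [Finset.mem_filter, Finset.mem_univ, true_and, Crosses, Finset.mem_compl]
  tauto

omit [Fintype V] in
theorem cut_eq_sum (ends : E → V × V) (Y : Finset V) :
    (cut ends Y : ℤ) = ∑ e, if Crosses ends Y e then (1 : ℤ) else 0 := by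
  rw [cut_eq, Finset.card_filter]
  push_cast
  rfl

omit [Fintype V] in
/-- an exceptional vertex has exactly two edge-ends. -/
theorem endCount_of_exceptional (ends : E → V × V) (w : V → ℕ) (x : V)
    (hx : IsExceptional ends w x) : endCount ends Finset.univ x = 2 := by
  obtain ⟨-, hloop, hcut⟩ := hx
  rw [cut_eq, Finset.card_filter] at hcut
  rw [← hcut]
  unfold endCount
  refine Finset.sum_congr rfl (fun e _ => ?_)
  have hl : ¬ ((ends e).1 = x ∧ (ends e).2 = x) := fun h => hloop e (Prod.ext h.1 h.2)
  unfold Crosses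
  simp only [Finset.mem_singleton]
  by_cases h1 : (ends e).1 = x
  · by_cases h2 : (ends e).2 = x
    · exact absurd ⟨h1, h2⟩ hl
    · simp [h1, h2]
  · by_cases h2 : (ends e).2 = x
    · simp [h1, h2]
    · simp [h1, h2]

omit [Fintype V] in
theorem canDeg_insert_exceptional (ends : E → V × V) (w : V → ℕ) (x : V)
    (hx : IsExceptional ends w x) (Y : Finset V) (hxY : x ∉ Y) :
    canDeg ends w (insert x Y) = canDeg ends w Y := by
  unfold canDeg
  rw [Finset.sum_insert hxY, endCount_of_exceptional ends w x hx, hx.1]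
  simp

omit [Fintype V] in
theorem canDeg_erase_exceptional (ends : E → V × V) (w : V → ℕ) (x : V)
    (hx : IsExceptional ends w x) (Y : Finset V) (hxY : x ∈ Y) :
    canDeg ends w (Y.erase x) = canDeg ends w Y := by
  have := canDeg_insert_exceptional ends w x hx (Y.erase x) (Finset.notMem_erase x Y)
  rw [Finset.insert_erase hxY] at this
  exact this.symm

theorem canDeg_univ (ends : E → V × V) (w : V → ℕ) :
    canDeg ends w Finset.univ = 2 * genus ends w - 2 := by
  unfold canDeg genus
  have h := sum_endCount ends Finset.univ Finset.univ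
  simp only [Finset.mem_univ, if_true] at h
  have h2 : (∑ v : V, (endCount ends Finset.univ v : ℤ)) = 2 * (Fintype.card E : ℤ) := by
    have : (∑ v : V, endCount ends Finset.univ v) = 2 * Fintype.card E := by
      rw [h]
      simp [Finset.card_univ, mul_comm]
    exact_mod_cast this
  rw [Finset.sum_add_distrib, Finset.sum_sub_distrib, h2, ← Finset.mul_sum]
  simp [Finset.card_univ]
  ring

omit [Fintype V] in
/-- adding an exceptional vertex adjacent to `Z` does not increase the cut. -/
theorem cut_insert_le (ends : E → V × V) (w : V → ℕ) (x : V) (hx : IsExceptional ends w x)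
    (Z : Finset V) (hxZ : x ∉ Z) (e₀ : E)
    (he₀ : ((ends e₀).1 = x ∧ (ends e₀).2 ∈ Z) ∨ ((ends e₀).2 = x ∧ (ends e₀).1 ∈ Z)) :
    cut ends (insert x Z) ≤ cut ends Z := by
  have hNx : (Finset.univ.filter (Crosses ends {x})).card = 2 := by
    rw [← cut_eq]; exact hx.2.2
  rw [cut_eq, cut_eq]
  have he₀B : e₀ ∈ Finset.univ.filter (Crosses ends Z) := by
    rw [Finset.mem_filter]
    refine ⟨Finset.mem_univ _, ?_⟩
    rcases he₀ with ⟨h1, h2⟩ | ⟨h1, h2⟩
    · exact Or.inr ⟨by rw [h1]; exact hxZ, h2⟩
    · exact Or.inl ⟨h2, by rw [h1]; exact hxZ⟩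
  have he₀N : e₀ ∈ Finset.univ.filter (Crosses ends {x}) := by
    rw [Finset.mem_filter]
    refine ⟨Finset.mem_univ _, ?_⟩
    unfold Crosses
    simp only [Finset.mem_singleton]
    rcases he₀ with ⟨h1, h2⟩ | ⟨h1, h2⟩
    · exact Or.inl ⟨h1, fun h => hxZ (h ▸ h2)⟩
    · exact Or.inr ⟨fun h => hxZ (h ▸ h2), h1⟩
  have hsub : Finset.univ.filter (Crosses ends (insert x Z)) ⊆
      (Finset.univ.filter (Crosses ends Z)).erase e₀ ∪
        (Finset.univ.filter (Crosses ends {x})).erase e₀ := by
    intro e he
    rw [Finset.mem_filter] at he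
    have hc := he.2
    have hboth : (ends e₀).1 ∈ insert x Z ∧ (ends e₀).2 ∈ insert x Z := by
      rcases he₀ with ⟨h1, h2⟩ | ⟨h1, h2⟩
      · exact ⟨Finset.mem_insert.mpr (Or.inl h1), Finset.mem_insert_of_mem h2⟩
      · exact ⟨Finset.mem_insert_of_mem h2, Finset.mem_insert.mpr (Or.inl h1)⟩
    have hne : e ≠ e₀ := by
      rintro rfl
      rcases hc with ⟨-, h⟩ | ⟨h, -⟩
      · exact h hboth.2
      · exact h hboth.1
    rw [Finset.mem_union, Finset.mem_erase, Finset.mem_erase, Finset.mem_filter, Finset.mem_filter]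
    unfold Crosses at hc ⊢
    simp only [Finset.mem_insert, Finset.mem_singleton, not_or] at hc ⊢
    by_cases h1 : (ends e).1 = x
    · right
      refine ⟨hne, Finset.mem_univ _, ?_⟩
      rcases hc with ⟨-, h, -⟩ | ⟨⟨h, -⟩, -⟩
      · exact Or.inl ⟨h1, h⟩
      · exact absurd h1 h
    · by_cases h2 : (ends e).2 = x
      · right
        refine ⟨hne, Finset.mem_univ _, ?_⟩
        exact Or.inr ⟨h1, h2⟩
      · left
        refine ⟨hne, Finset.mem_univ _, ?_⟩
        rcases hc with ⟨h, -, h'⟩ | ⟨⟨-, h⟩, h'⟩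
        · rcases h with h | h
          · exact absurd h h1
          · exact Or.inl ⟨h, h'⟩
        · rcases h' with h' | h'
          · exact absurd h' h2
          · exact Or.inr ⟨h, h'⟩
  calc (Finset.univ.filter (Crosses ends (insert x Z))).card
      ≤ ((Finset.univ.filter (Crosses ends Z)).erase e₀ ∪
        (Finset.univ.filter (Crosses ends {x})).erase e₀).card := Finset.card_le_card hsub
    _ ≤ ((Finset.univ.filter (Crosses ends Z)).erase e₀).card +
        ((Finset.univ.filter (Crosses ends {x})).erase e₀).card := Finset.card_union_le _ _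
    _ = ((Finset.univ.filter (Crosses ends Z)).card - 1) + (2 - 1) := by
        rw [Finset.card_erase_of_mem he₀B, Finset.card_erase_of_mem he₀N, hNx]
    _ = (Finset.univ.filter (Crosses ends Z)).card := by
        have : 0 < (Finset.univ.filter (Crosses ends Z)).card := Finset.card_pos.mpr ⟨e₀, he₀B⟩
        omega

end Groth.Agent.Lib.Helper24BI
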