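import Mathlib
import Groth.Prelude.Def_W4c4cptpiccptjacBI
import Groth.Agent.Lib.Helper24BI1

set_option autoImplicit false
universe u

namespace Groth.Agent.Lib.Helper24BI

open LabGraph Groth.Agent.Lib.Helper24Circuit

variable {V E : Type u} [Fintype V] [Fintype E] [DecidableEq V] [DecidableEq E]

theorem sum_twist (ends : E → V × V) (φ : V → ℤ) (Y : Finset V) :
    ∑ v ∈ Y, twist ends φ v =
      ∑ e, ((if (ends e).1 ∈ Y then φ (ends e).2 - φ (ends e).1 else 0) +
        (if (ends e).2 ∈ Y then φ (ends e).1 - φ (ends e).2 else 0)) := by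
  unfold twist
  rw [Finset.sum_comm]
  refine Finset.sum_congr rfl (fun e _ => ?_)
  rw [Finset.sum_add_distrib, Finset.sum_ite_eq, Finset.sum_ite_eq]

theorem sum_twist_self (ends : E → V × V) (Z : Finset V) :
    ∑ v ∈ Z, twist ends (fun u => if u ∈ Z then (1 : ℤ) else 0) v = - (cut ends Z : ℤ) := by
  rw [sum_twist, cut_eq_sum, ← Finset.sum_neg_distrib]
  refine Finset.sum_congr rfl (fun e _ => ?_)
  unfold Crosses
  by_cases h1 : (ends e).1 ∈ Z <;> by_cases h2 : (ends e).2 ∈ Z <;> simp [h1, h2]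

theorem sum_twist_inner (ends : E → V × V) (Zj Z : Finset V) (hsub : Zj ⊆ Z)
    (hno : ∀ e : E, ¬ (((ends e).1 ∈ Zj ∧ (ends e).2 ∉ Z) ∨ ((ends e).2 ∈ Zj ∧ (ends e).1 ∉ Z))) :
    ∑ v ∈ Z, twist ends (fun u => if u ∈ Zj then (1 : ℤ) else 0) v = 0 := by
  rw [sum_twist]
  refine Finset.sum_eq_zero (fun e _ => ?_)
  have hno' := hno e
  push Not at hno'
  by_cases h1 : (ends e).1 ∈ Z
  · by_cases h2 : (ends e).2 ∈ Z
    · rw [if_pos h1, if_pos h2]; ring
    · have h3 : (ends e).2 ∉ Zj := fun h => h2 (hsub h)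
      have h4 : (ends e).1 ∉ Zj := fun h => h2 (hno'.1 h)
      rw [if_pos h1, if_neg h2, if_neg h3, if_neg h4]; ring
  · by_cases h2 : (ends e).2 ∈ Z
    · have h3 : (ends e).1 ∉ Zj := fun h => h1 (hsub h)
      have h4 : (ends e).2 ∉ Zj := fun h => h1 (hno'.2 h)
      rw [if_neg h1, if_pos h2, if_neg h3, if_neg h4]; ring
    · rw [if_neg h1, if_neg h2]; ring

omit [Fintype V] in
theorem twist_eq_zero_of_no_cross (ends : E → V × V) (Z : Finset V)
    (h : ∀ e, ¬ Crosses ends Z e) (v : V) :
    twist ends (fun u => if u ∈ Z then (1 : ℤ) else 0) v = 0 := by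
  unfold twist
  refine Finset.sum_eq_zero (fun e _ => ?_)
  have he := h e
  unfold Crosses at he
  push Not at he
  have : (if (ends e).1 ∈ Z then (1 : ℤ) else 0) = if (ends e).2 ∈ Z then (1 : ℤ) else 0 := by
    by_cases h1 : (ends e).1 ∈ Z
    · rw [if_pos h1, if_pos (he.1 h1)]
    · by_cases h2 : (ends e).2 ∈ Z
      · exact absurd h2 (he.2 h1)
      · rw [if_neg h1, if_neg h2]
  simp only [this, sub_self, ite_self, add_zero]

theorem s19033_aux (ends : E → V × V) (w : V → ℕ) (hK : 0 < canDeg ends w Finset.univ)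
    (d : V → ℤ) (hBI : SatisfiesBI ends w d)
    (hone : ∀ v : V, IsExceptional ends w v → d v = 1)
    (hstrict : ∀ Y : Finset V, Y.Nonempty → Y ≠ Finset.univ →
      2 * (canDeg ends w Finset.univ * (∑ v ∈ Y, d v) - (∑ v, d v) * canDeg ends w Y)
          = (cut ends Y : ℤ) * canDeg ends w Finset.univ →
      ∀ e : E, (((ends e).1 ∈ Y ∧ (ends e).2 ∉ Y) ∨ ((ends e).1 ∉ Y ∧ (ends e).2 ∈ Y)) →
        (IsExceptional ends w (ends e).1 ∨ IsExceptional ends w (ends e).2)) :
    ∀ (m : ℕ) (Z : Fin m → Finset V) (d' : V → ℤ), (∑ v, d v = ∑ v, d' v) →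
    SatisfiesBI ends w d' → (∀ v : V, IsExceptional ends w v → d' v = 1) →
    (∀ i j : Fin m, i ≤ j → Z i ⊆ Z j) →
    (∀ i : Fin m, 2 * (canDeg ends w Finset.univ * (∑ v ∈ Z i, d v) -
        (∑ v, d v) * canDeg ends w (Z i)) = (cut ends (Z i) : ℤ) * canDeg ends w Finset.univ) →
    (∀ i j : Fin m, j < i → ∀ e : E,
      ¬ (((ends e).1 ∈ Z j ∧ (ends e).2 ∉ Z i) ∨ ((ends e).2 ∈ Z j ∧ (ends e).1 ∉ Z i))) →
    (∀ v : V, d' v = d v +
      ∑ i : Fin m, twist ends (fun u => if u ∈ Z i then (1 : ℤ) else 0) v) →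
    d = d' := by
  intro m
  induction m with
  | zero =>
    intro Z d' _ _ _ _ _ _ hsum
    funext v
    rw [hsum v]
    simp
  | succ m ih =>
    intro Z d' hD hBI' hone' hmono hext hsep hsum
    set Zl := Z (Fin.last m) with hZl
    set K := canDeg ends w Finset.univ with hKdef
    have hextl := hext (Fin.last m)
    -- sum of d' over Zl
    have hd'Z : ∑ v ∈ Zl, d' v = ∑ v ∈ Zl, d v - (cut ends Zl : ℤ) := by
      simp_rw [hsum]
      rw [Finset.sum_add_distrib, Finset.sum_comm, Fin.sum_univ_castSucc,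
        sum_twist_self ends Zl]
      have : ∑ i : Fin m, ∑ v ∈ Zl,
          twist ends (fun u => if u ∈ Z i.castSucc then (1 : ℤ) else 0) v = 0 := by
        refine Finset.sum_eq_zero (fun i _ => ?_)
        exact sum_twist_inner ends (Z i.castSucc) Zl
          (hmono i.castSucc (Fin.last m) (Fin.le_last _))
          (hsep (Fin.last m) i.castSucc (Fin.castSucc_lt_last i))
      rw [this]
      ring
    have hcross : ∀ e, ¬ Crosses ends Zl e := by
      intro e hc
      have hne : Zl.Nonempty := by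
        rcases hc with ⟨h, -⟩ | ⟨-, h⟩
        · exact ⟨_, h⟩
        · exact ⟨_, h⟩
      have hnu : Zl ≠ Finset.univ := by
        intro h
        rcases hc with ⟨-, h'⟩ | ⟨h', -⟩
        · exact h' (h ▸ Finset.mem_univ _)
        · exact h' (h ▸ Finset.mem_univ _)
      have hex := hstrict Zl hne hnu hextl e hc
      -- case A: exceptional vertex outside Zl adjacent to Zl
      have caseA : ∀ x : V, IsExceptional ends w x → x ∉ Zl →
          (((ends e).1 = x ∧ (ends e).2 ∈ Zl) ∨ ((ends e).2 = x ∧ (ends e).1 ∈ Zl)) → False := by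
        intro x hx hxZ he
        have hcut := cut_insert_le ends w x hx Zl hxZ e he
        have hb := hBI (insert x Zl)
        rw [Finset.sum_insert hxZ, hone x hx, canDeg_insert_exceptional ends w x hx Zl hxZ] at hb
        have h1 := le_abs_self (K * (1 + ∑ v ∈ Zl, d v) - (∑ v, d v) * canDeg ends w Zl)
        have h2 : (cut ends (insert x Zl) : ℤ) * K ≤ (cut ends Zl : ℤ) * K :=
          mul_le_mul_of_nonneg_right (by exact_mod_cast hcut) hK.le
        nlinarith
      -- case B: exceptional vertex inside Zl adjacent to the outside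
      have caseB : ∀ x : V, IsExceptional ends w x → x ∈ Zl →
          (((ends e).1 = x ∧ (ends e).2 ∉ Zl) ∨ ((ends e).2 = x ∧ (ends e).1 ∉ Zl)) → False := by
        intro x hx hxZ he
        have hxc : x ∉ Zlᶜ := by simpa using hxZ
        have hcut := cut_insert_le ends w x hx Zlᶜ hxc e (by
          rcases he with ⟨h1, h2⟩ | ⟨h1, h2⟩
          · exact Or.inl ⟨h1, Finset.mem_compl.mpr h2⟩
          · exact Or.inr ⟨h1, Finset.mem_compl.mpr h2⟩)
        have hcompl : insert x Zlᶜ = (Zl.erase x)ᶜ := by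
          ext v
          simp only [Finset.mem_insert, Finset.mem_compl, Finset.mem_erase, not_and]
          constructor
          · rintro (h | h)
            · intro h'; exact absurd h h'
            · intro _; exact h
          · intro h
            by_cases hv : v = x
            · exact Or.inl hv
            · exact Or.inr (h hv)
        rw [hcompl, cut_compl, cut_compl] at hcut
        have hb := hBI' (Zl.erase x)
        have hsumE : ∑ v ∈ Zl.erase x, d' v = ∑ v ∈ Zl, d' v - 1 := by
          rw [← Finset.add_sum_erase Zl d' hxZ, hone' x hx]; ring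
        rw [hsumE, hd'Z, canDeg_erase_exceptional ends w x hx Zl hxZ, ← hD] at hb
        have h1 := neg_le_abs (K * (∑ v ∈ Zl, d v - (cut ends Zl : ℤ) - 1) -
          (∑ v, d v) * canDeg ends w Zl)
        have h2 : (cut ends (Zl.erase x) : ℤ) * K ≤ (cut ends Zl : ℤ) * K :=
          mul_le_mul_of_nonneg_right (by exact_mod_cast hcut) hK.le
        nlinarith
      rcases hc with ⟨h1, h2⟩ | ⟨h1, h2⟩
      · rcases hex with hx | hx
        · exact caseB _ hx h1 (Or.inl ⟨rfl, h2⟩)
        · exact caseA _ hx h2 (Or.inr ⟨rfl, h1⟩)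
      · rcases hex with hx | hx
        · exact caseA _ hx h1 (Or.inl ⟨rfl, h2⟩)
        · exact caseB _ hx h2 (Or.inr ⟨rfl, h1⟩)
    have htw := twist_eq_zero_of_no_cross ends Zl hcross
    refine ih (fun i => Z i.castSucc) d' hD hBI' hone' ?_ ?_ ?_ ?_
    · intro i j hij
      exact hmono _ _ (Fin.castSucc_le_castSucc_iff.mpr hij)
    · intro i
      exact hext i.castSucc
    · intro i j hij
      exact hsep _ _ (Fin.castSucc_lt_castSucc_iff.mpr hij)
    · intro v
      rw [hsum v, Fin.sum_univ_castSucc, htw v, add_zero]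

end Groth.Agent.Lib.Helper24BI
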