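import Mathlib
import Groth.Prelude.Def_W4c4cptpiccptjacBI
import Groth.Agent.Lib.Helper24BI2

set_option autoImplicit false
universe u

namespace Groth.Agent.Lib.Helper24BI

open LabGraph Groth.Agent.Lib.Helper24Circuit

variable {V E : Type u} [Fintype V] [Fintype E] [DecidableEq V] [DecidableEq E]

/-- the saturation of `W` by the vertices of `S` all of whose edges end in `W`. -/
def hat (ends : E → V × V) (S W : Finset V) : Finset V :=
  Finset.univ.filter (fun v : V => v ∈ W ∨ (v ∈ S ∧ ∀ e : E,
    ((ends e).1 = v → (ends e).2 ∈ W) ∧ ((ends e).2 = v → (ends e).1 ∈ W)))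

omit [DecidableEq E] in
theorem mem_hat (ends : E → V × V) (S W : Finset V) (v : V) :
    v ∈ hat ends S W ↔ v ∈ W ∨ (v ∈ S ∧ ∀ e : E,
      ((ends e).1 = v → (ends e).2 ∈ W) ∧ ((ends e).2 = v → (ends e).1 ∈ W)) := by
  unfold hat
  simp only [Finset.mem_filter, Finset.mem_univ, true_and]

omit [Fintype V] [Fintype E] [DecidableEq E] in
theorem sum_filter_notMem (S A : Finset V) (g : V → ℤ) (hg : ∀ v ∈ S, g v = 0) :
    ∑ v ∈ A.filter (fun v => v ∉ S), g v = ∑ v ∈ A, g v := by
  rw [Finset.sum_filter]
  refine Finset.sum_congr rfl (fun v _ => ?_)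
  by_cases hv : v ∈ S
  · rw [if_neg (fun h => h hv), hg v hv]
  · rw [if_pos hv]

omit [Fintype V] in
/-- neighbours of vertices of `S` are outside `S`. -/
theorem nbr_notMem (ends : E → V × V) (w : V → ℕ) (hZ : IsQuasistableGraph ends w)
    (S : Finset V) (hS : ∀ v ∈ S, IsExceptional ends w v) (e : E) :
    ((ends e).1 ∈ S → (ends e).2 ∉ S) ∧ ((ends e).2 ∈ S → (ends e).1 ∉ S) := by
  have key : (ends e).1 ∈ S → (ends e).2 ∈ S → False := by
    intro h1 h2
    by_cases heq : (ends e).1 = (ends e).2
    · exact (hS _ h1).2.1 e (Prod.ext rfl heq.symm)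
    · exact hZ.2 e heq ⟨hS _ h1, hS _ h2⟩
  exact ⟨fun h1 h2 => key h1 h2, fun h2 h1 => key h1 h2⟩

theorem cut_hat_le (ends : E → V × V) (w : V → ℕ) (hZ : IsQuasistableGraph ends w)
    (S : Finset V) (hS : ∀ v ∈ S, IsExceptional ends w v) (W : Finset V) (hWS : Disjoint W S) :
    ∀ n : ℕ, ∀ Y : Finset V, Y.filter (fun v => v ∉ S) = W →
      (S.filter (fun s => ¬ (s ∈ Y ↔ s ∈ hat ends S W))).card = n →
      cut ends (hat ends S W) ≤ cut ends Y := by
  intro n
  induction n using Nat.strong_induction_on with
  | _ n ih =>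
    intro Y hYW hcard
    have hWmem : ∀ v, v ∈ W ↔ v ∈ Y ∧ v ∉ S := by
      intro v
      rw [← hYW, Finset.mem_filter]
    by_cases hB : S.filter (fun s => ¬ (s ∈ Y ↔ s ∈ hat ends S W)) = ∅
    · have : Y = hat ends S W := by
        ext v
        by_cases hv : v ∈ S
        · have := Finset.filter_eq_empty_iff.mp hB hv
          push Not at this
          exact this
        · rw [mem_hat]
          constructor
          · intro h
            exact Or.inl ((hWmem v).mpr ⟨h, hv⟩)
          · rintro (h | ⟨h, -⟩)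
            · exact ((hWmem v).mp h).1
            · exact absurd h hv
      rw [← this]
    · obtain ⟨s, hs⟩ := Finset.nonempty_of_ne_empty hB
      rw [Finset.mem_filter] at hs
      obtain ⟨hsS, hsne⟩ := hs
      have hsexc := hS s hsS
      have hsW : s ∉ W := fun h => ((hWmem s).mp h).2 hsS
      -- decreasing measure
      have hmeasure : ∀ Y₁ : Finset V, (∀ v, v ≠ s → (v ∈ Y₁ ↔ v ∈ Y)) →
          (s ∈ Y₁ ↔ s ∈ hat ends S W) →
          (S.filter (fun s' => ¬ (s' ∈ Y₁ ↔ s' ∈ hat ends S W))).card < n := by
        intro Y₁ h1 h2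
        rw [← hcard]
        apply Finset.card_lt_card
        rw [Finset.ssubset_iff_of_subset]
        · refine ⟨s, Finset.mem_filter.mpr ⟨hsS, hsne⟩, ?_⟩
          rw [Finset.mem_filter]
          exact fun h => h.2 h2
        · intro v hv
          rw [Finset.mem_filter] at hv ⊢
          have hvs : v ≠ s := by
            rintro rfl
            exact hv.2 h2
          refine ⟨hv.1, ?_⟩
          rw [← h1 v hvs]
          exact hv.2
      have hfilter : ∀ Y₁ : Finset V, (∀ v, v ≠ s → (v ∈ Y₁ ↔ v ∈ Y)) →
          Y₁.filter (fun v => v ∉ S) = W := by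
        intro Y₁ h1
        ext v
        rw [Finset.mem_filter, hWmem]
        by_cases hvs : v = s
        · rw [hvs]
          constructor
          · intro h; exact absurd hsS h.2
          · intro h; exact absurd hsS h.2
        · rw [h1 v hvs]
      by_cases hsY : s ∈ Y
      · have hsH : s ∉ hat ends S W := fun h => hsne ⟨fun _ => h, fun _ => hsY⟩
        -- an edge at s leaving W
        have hex : ∃ e : E, ((ends e).1 = s ∧ (ends e).2 ∉ W) ∨ ((ends e).2 = s ∧ (ends e).1 ∉ W) := by
          by_contra hcon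
          push Not at hcon
          apply hsH
          rw [mem_hat]
          exact Or.inr ⟨hsS, fun e => ⟨fun h => (hcon e).1 h, fun h => (hcon e).2 h⟩⟩
        obtain ⟨e, he⟩ := hex
        have hnbr := nbr_notMem ends w hZ S hS e
        have he' : ((ends e).1 = s ∧ (ends e).2 ∈ Yᶜ) ∨ ((ends e).2 = s ∧ (ends e).1 ∈ Yᶜ) := by
          rcases he with ⟨h1, h2⟩ | ⟨h1, h2⟩
          · refine Or.inl ⟨h1, Finset.mem_compl.mpr (fun h => h2 ((hWmem _).mpr ⟨h, ?_⟩))⟩
            exact hnbr.1 (h1 ▸ hsS)
          · refine Or.inr ⟨h1, Finset.mem_compl.mpr (fun h => h2 ((hWmem _).mpr ⟨h, ?_⟩))⟩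
            exact hnbr.2 (h1 ▸ hsS)
        have hxc : s ∉ Yᶜ := by simpa using hsY
        have hcut := cut_insert_le ends w s hsexc Yᶜ hxc e he'
        have hcompl : insert s Yᶜ = (Y.erase s)ᶜ := by
          ext v
          simp only [Finset.mem_insert, Finset.mem_compl, Finset.mem_erase, not_and]
          constructor
          · rintro (h | h)
            · intro h'; exact absurd h h'
            · intro _; exact h
          · intro h
            by_cases hv : v = s
            · exact Or.inl hv
            · exact Or.inr (h hv)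
        rw [hcompl, cut_compl, cut_compl] at hcut
        have h1 : ∀ v, v ≠ s → (v ∈ Y.erase s ↔ v ∈ Y) := by
          intro v hv
          rw [Finset.mem_erase]
          exact ⟨fun h => h.2, fun h => ⟨hv, h⟩⟩
        have h2 : s ∈ Y.erase s ↔ s ∈ hat ends S W :=
          ⟨fun h => absurd h (Finset.notMem_erase s Y), fun h => absurd h hsH⟩
        exact (ih _ (hmeasure _ h1 h2) (Y.erase s) (hfilter _ h1) rfl).trans hcut
      · have hsH : s ∈ hat ends S W := by
          by_contra h
          exact hsne ⟨fun h' => absurd h' hsY, fun h' => absurd h' h⟩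
        rw [mem_hat] at hsH
        have hall := (hsH.resolve_left hsW).2
        -- an edge at s
        have hNx : (Finset.univ.filter (Crosses ends {s})).card = 2 := by
          rw [← cut_eq]; exact hsexc.2.2
        have hne : (Finset.univ.filter (Crosses ends {s})).Nonempty := by
          rw [← Finset.card_pos, hNx]; norm_num
        obtain ⟨e, he⟩ := hne
        rw [Finset.mem_filter] at he
        have hc := he.2
        unfold Crosses at hc
        simp only [Finset.mem_singleton] at hc
        have he' : ((ends e).1 = s ∧ (ends e).2 ∈ Y) ∨ ((ends e).2 = s ∧ (ends e).1 ∈ Y) := by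
          rcases hc with ⟨h1, -⟩ | ⟨-, h2⟩
          · exact Or.inl ⟨h1, ((hWmem _).mp ((hall e).1 h1)).1⟩
          · exact Or.inr ⟨h2, ((hWmem _).mp ((hall e).2 h2)).1⟩
        have hcut := cut_insert_le ends w s hsexc Y hsY e he'
        have h1 : ∀ v, v ≠ s → (v ∈ insert s Y ↔ v ∈ Y) := by
          intro v hv
          rw [Finset.mem_insert]
          exact ⟨fun h => h.resolve_left hv, fun h => Or.inr h⟩
        have h2 : s ∈ insert s Y ↔ s ∈ hat ends S W :=
          ⟨fun _ => (mem_hat ends S W s).mpr hsH, fun _ => Finset.mem_insert_self s Y⟩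
        exact (ih _ (hmeasure _ h1 h2) (insert s Y) (hfilter _ h1) rfl).trans hcut

theorem s19034 (ends : E → V × V) (w : V → ℕ) (hZ : IsQuasistableGraph ends w)
    (hg : 2 ≤ genus ends w) (S : Finset V) (hS : ∀ v ∈ S, IsExceptional ends w v)
    (dt : V → ℤ) (hzero : ∀ v ∈ S, dt v = 0)
    (hBI : ∀ W : Finset V, Disjoint W S →
      2 * |canDeg ends w Finset.univ * (∑ v ∈ W, dt v) -
          (∑ v, dt v) * canDeg ends w (hat ends S W)|
        ≤ (cut ends (hat ends S W) : ℤ) * canDeg ends w Finset.univ) :
    SatisfiesBI ends w dt := by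
  have hK : 0 < canDeg ends w Finset.univ := by
    rw [canDeg_univ]; linarith
  intro Y
  set W := Y.filter (fun v => v ∉ S) with hW
  have hWS : Disjoint W S := by
    rw [Finset.disjoint_left]
    intro v hv
    exact (Finset.mem_filter.mp hv).2
  have hc0 : ∀ v ∈ S, (2 * (w v : ℤ) - 2 + (endCount ends Finset.univ v : ℤ)) = 0 := by
    intro v hv
    rw [endCount_of_exceptional ends w v (hS v hv), (hS v hv).1]
    simp
  have h1 : ∑ v ∈ W, dt v = ∑ v ∈ Y, dt v := sum_filter_notMem S Y dt hzero
  have h2 : canDeg ends w W = canDeg ends w Y := by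
    unfold canDeg
    exact sum_filter_notMem S Y _ hc0
  have h3 : canDeg ends w (hat ends S W) = canDeg ends w W := by
    have hfil : (hat ends S W).filter (fun v => v ∉ S) = W := by
      ext v
      rw [Finset.mem_filter, mem_hat]
      constructor
      · rintro ⟨h | ⟨h, -⟩, h'⟩
        · exact h
        · exact absurd h h'
      · intro h
        exact ⟨Or.inl h, Finset.disjoint_left.mp hWS h⟩
    unfold canDeg
    rw [← sum_filter_notMem S (hat ends S W) _ hc0, hfil]
  have hb := hBI W hWS
  rw [h1, h3, h2] at hb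
  have hcut := cut_hat_le ends w hZ S hS W hWS _ Y rfl rfl
  have h4 : (cut ends (hat ends S W) : ℤ) * canDeg ends w Finset.univ ≤
      (cut ends Y : ℤ) * canDeg ends w Finset.univ :=
    mul_le_mul_of_nonneg_right (by exact_mod_cast hcut) hK.le
  exact hb.trans h4

end Groth.Agent.Lib.Helper24BI
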