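import Mathlib
import Groth.Prelude.Def_GLin6

/-!
# Points of the matrix monoid and the symmetric-power matrix coefficients (helper24)
-/

set_option autoImplicit false
set_option linter.style.haveILetI false
universe u v w
open CoordGrp TensorProduct

namespace Groth.Agent.Lib.Helper24HM

section FC
variable {k : Type u} [CommRing k] {n : ℕ} {d : ℕ}

/-- the matrix of the `d`-th symmetric power representation evaluated at a matrix `M` -/
noncomputable def FC (k : Type u) [CommRing k] (d : ℕ) {B : Type v} [CommRing B] [Algebra k B]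
    (M : Matrix (Fin n) (Fin n) B) : Matrix (FormIdx n d) (FormIdx n d) B :=
  fun l m => Mat.aeval n k M (formCoeff k n d l m)

variable {B : Type v} [CommRing B] [Algebra k B]

theorem aeval_mul (M N : Matrix (Fin n) (Fin n) B) :
    Mat.aeval n k (M * N) = (Algebra.TensorProduct.lmul' k (S := B)).comp
      ((Algebra.TensorProduct.map (Mat.aeval n k M) (Mat.aeval n k N)).comp
        (Bialgebra.comulAlgHom k (Mat n k))) := by
  apply Mat.algHom_ext
  intro i j
  simp [Matrix.mul_apply]

theorem FC_mul (M N : Matrix (Fin n) (Fin n) B) : FC k d (M * N) = FC k d M * FC k d N := by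
  ext l m
  simp only [FC, Matrix.mul_apply, aeval_mul, AlgHom.comp_apply, Bialgebra.comulAlgHom_apply,
    comul_formCoeff, map_sum, Algebra.TensorProduct.map_tmul, Algebra.TensorProduct.lmul'_apply_tmul]

theorem aeval_one : Mat.aeval n k (1 : Matrix (Fin n) (Fin n) B) =
    (Algebra.ofId k B).comp (Bialgebra.counitAlgHom k (Mat n k)) := by
  apply Mat.algHom_ext
  intro i j
  simp [Matrix.one_apply]

theorem FC_one : FC k d (1 : Matrix (Fin n) (Fin n) B) = 1 := by
  classical
  ext l m
  simp only [FC, aeval_one, AlgHom.comp_apply, Bialgebra.counitAlgHom_apply, counit_formCoeff,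
    Matrix.one_apply]
  split_ifs <;> simp

theorem comp_aeval {B' : Type w} [CommRing B'] [Algebra k B'] (f : B →ₐ[k] B')
    (M : Matrix (Fin n) (Fin n) B) : f.comp (Mat.aeval n k M) = Mat.aeval n k (M.map f) := by
  apply Mat.algHom_ext
  intro i j
  simp

theorem FC_map {B' : Type w} [CommRing B'] [Algebra k B'] (f : B →ₐ[k] B')
    (M : Matrix (Fin n) (Fin n) B) : FC k d (M.map f) = (FC k d M).map f := by
  ext l m
  simp only [FC, Matrix.map_apply, ← comp_aeval, AlgHom.comp_apply]

/-- generating identity: `Σ_l y^l FC(M)_{lm} = (y M)^m`. -/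
theorem sum_FC (M : Matrix (Fin n) (Fin n) B) (y : Fin n → B) (m : FormIdx n d) :
    ∑ l : FormIdx n d, (l.1.prod fun i e => y i ^ e) * FC k d M l m =
      m.1.prod fun i e => (Matrix.vecMul y M i) ^ e := by
  let Φ : MvPolynomial (Fin n) k ⊗[k] Mat n k →ₐ[k] B :=
    (Algebra.TensorProduct.lmul' k (S := B)).comp
      (Algebra.TensorProduct.map (MvPolynomial.aeval y) (Mat.aeval n k M))
  have h1 : Φ.comp (stdCoactAlg n k) = MvPolynomial.aeval (Matrix.vecMul y M) := by
    apply MvPolynomial.algHom_ext
    intro i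
    simp [Φ, Matrix.vecMul, dotProduct]
  have h2 := congrArg Φ (stdCoactAlg_monomial_expand (k := k) d m)
  have h3 : Φ (stdCoactAlg n k (MvPolynomial.monomial m.1 1)) =
      MvPolynomial.aeval (Matrix.vecMul y M) (MvPolynomial.monomial m.1 (1 : k)) := by
    exact congrArg (fun φ => φ (MvPolynomial.monomial m.1 1)) h1
  rw [h3, MvPolynomial.aeval_monomial, map_one, one_mul] at h2
  rw [h2, map_sum]
  refine Finset.sum_congr rfl fun l _ => ?_
  simp [Φ, FC, MvPolynomial.aeval_monomial]

/-- coefficient characterisation of `FC`. -/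
theorem FC_eq_coeff (M : Matrix (Fin n) (Fin n) B) (l m : FormIdx n d) :
    FC k d M l m = MvPolynomial.coeff l.1
      (∏ i, (∑ j, MvPolynomial.X j * MvPolynomial.C (M j i)) ^ (m.1 i) : MvPolynomial (Fin n) B) := by
  classical
  let cB : B →ₐ[k] MvPolynomial (Fin n) B := IsScalarTower.toAlgHom k B (MvPolynomial (Fin n) B)
  have hcB : ∀ b, cB b = MvPolynomial.C b := fun b => rfl
  have h := sum_FC (k := k) (d := d) (M.map cB) (fun i => (MvPolynomial.X i : MvPolynomial (Fin n) B)) m
  rw [FC_map] at h
  have hR : (m.1.prod fun i e => (Matrix.vecMul (fun i => (MvPolynomial.X i : MvPolynomial (Fin n) B))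
      (M.map cB) i) ^ e) =
      ∏ i, (∑ j, MvPolynomial.X j * MvPolynomial.C (M j i)) ^ (m.1 i) := by
    rw [Finsupp.prod_fintype _ _ (fun i => pow_zero _)]
    refine Finset.prod_congr rfl fun i _ => ?_
    simp [Matrix.vecMul, dotProduct, hcB]
  rw [← hR, ← h, MvPolynomial.coeff_sum, Finset.sum_eq_single l]
  · simp only [Matrix.map_apply, hcB]
    have : (l.1.prod fun i e => (MvPolynomial.X i : MvPolynomial (Fin n) B) ^ e) =
        MvPolynomial.monomial l.1 1 := by
      rw [MvPolynomial.monomial_eq]; simp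
    rw [this, mul_comm, MvPolynomial.C_mul_monomial, MvPolynomial.coeff_monomial]
    simp
  · intro l' _ hl'
    simp only [Matrix.map_apply, hcB]
    have : (l'.1.prod fun i e => (MvPolynomial.X i : MvPolynomial (Fin n) B) ^ e) =
        MvPolynomial.monomial l'.1 1 := by
      rw [MvPolynomial.monomial_eq]; simp
    rw [this, mul_comm, MvPolynomial.C_mul_monomial, MvPolynomial.coeff_monomial]
    have : l'.1 ≠ l.1 := fun e => hl' (Subtype.ext e)
    simp [this]
  · intro h; exact absurd (Finset.mem_univ l) h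

/-- `FC` of a diagonal matrix is diagonal with entries `t^m`. -/
theorem FC_diagonal (t : Fin n → B) (l m : FormIdx n d) :
    FC k d (Matrix.diagonal t) l m = if l = m then ∏ i, t i ^ (m.1 i) else 0 := by
  classical
  rw [FC_eq_coeff]
  have h1 : ∀ i, (∑ j, MvPolynomial.X j * MvPolynomial.C (Matrix.diagonal t j i) :
      MvPolynomial (Fin n) B) = MvPolynomial.X i * MvPolynomial.C (t i) := by
    intro i
    rw [Finset.sum_eq_single i]
    · simp
    · intro j _ hj
      simp [Matrix.diagonal_apply_ne _ hj]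
    · intro h; exact absurd (Finset.mem_univ i) h
  simp only [h1, mul_pow, Finset.prod_mul_distrib]
  have h2 : (∏ i, (MvPolynomial.X i : MvPolynomial (Fin n) B) ^ (m.1 i)) = MvPolynomial.monomial m.1 1 := by
    rw [MvPolynomial.monomial_eq, Finsupp.prod_fintype _ _ (fun i => pow_zero _)]; simp
  rw [h2]
  simp only [← map_pow, ← map_prod]
  rw [mul_comm, MvPolynomial.C_mul_monomial, MvPolynomial.coeff_monomial]
  by_cases hlm : l = m
  · subst hlm; simp
  · have : m.1 ≠ l.1 := fun e => hlm (Subtype.ext e.symm)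
    simp [hlm, this]

end FC

section Pts
variable {k : Type u} [CommRing k] {n : ℕ} {d : ℕ}

/-- the restriction map `O(M_n) → O(SL_n)` -/
noncomputable abbrev rho (n : ℕ) (k : Type u) [CommRing k] : Mat n k →ₐc[k] SLn n k :=
  (SLn.mkHom n k).comp (Mat.toGLn n k)

theorem rho_X (i j : Fin n) : rho n k (Mat.X i j) = SLn.X i j := by
  show SLn.mkHom n k (Mat.toGLn n k (Mat.X i j)) = _
  rw [Mat.toGLn_X]
  rfl

theorem SLn_mk_Dinv : SLn.mk n k (GLn.Dinv : GLn n k) = 1 := by
  have h := congrArg (SLn.mk n k) (GLn.Dinv_mul_det (n := n) (k := k))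
  rwa [map_mul, SLn.det_eq_one, mul_one, map_one] at h

theorem SLn_algHom_ext {B : Type v} [Semiring B] [Algebra k B] {f g : SLn n k →ₐ[k] B}
    (h : ∀ i j, f (SLn.X i j) = g (SLn.X i j)) : f = g :=
  SLn.algHom_ext h (by rw [SLn_mk_Dinv, map_one, map_one])

variable {B : Type v} [CommRing B] [Algebra k B]

/-- the matrix of a point of `SL_n`. -/
noncomputable def ptMat (s : SLn n k →ₐ[k] B) : Matrix (Fin n) (Fin n) B := fun i j => s (SLn.X i j)

theorem comp_rho (s : SLn n k →ₐ[k] B) :
    s.comp (rho n k : Mat n k →ₐ[k] SLn n k) = Mat.aeval n k (ptMat s) := by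
  apply Mat.algHom_ext
  intro i j
  rw [Mat.aeval_X]
  show s (rho n k (Mat.X i j)) = _
  rw [rho_X]
  rfl

theorem apply_rho (s : SLn n k →ₐ[k] B) (f : Mat n k) : s (rho n k f) = Mat.aeval n k (ptMat s) f :=
  congrArg (fun φ => φ f) (comp_rho s)

theorem det_ptMat (s : SLn n k →ₐ[k] B) : (ptMat s).det = 1 := by
  have h1 : ptMat s = (s.comp (SLn.mk n k)).mapMatrix (GLn.genMat n k) := by
    ext i j
    rfl
  rw [h1, ← AlgHom.map_det, ← GLn.det_eq, AlgHom.comp_apply, SLn.det_eq_one, map_one]

@[simp] theorem ptMat_pt (M : Matrix (Fin n) (Fin n) B) (h : M.det = 1) : ptMat (SLn.pt n k M h) = M := by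
  ext i j
  simp [ptMat]

theorem pt_ptMat (s : SLn n k →ₐ[k] B) : SLn.pt n k (ptMat s) (det_ptMat s) = s :=
  SLn_algHom_ext fun i j => by rw [SLn.pt_X]; rfl

theorem ptMat_injective : Function.Injective (ptMat : (SLn n k →ₐ[k] B) → Matrix (Fin n) (Fin n) B) := by
  intro s s' h
  exact SLn_algHom_ext fun i j => congrFun (congrFun h i) j

theorem ptMat_comp {B' : Type w} [CommRing B'] [Algebra k B'] (f : B →ₐ[k] B') (s : SLn n k →ₐ[k] B) :
    ptMat (f.comp s) = (ptMat s).map f := rfl

theorem ptMat_id : ptMat (AlgHom.id k (SLn n k)) = fun i j => SLn.X i j := rfl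

/-- the coaction of `SL_n` on forms of degree `d` -/
@[reducible] noncomputable def formsComod (k : Type u) [CommRing k] (n d : ℕ) :
    HopfRep.Comod k (SLn n k) (FormRing k n d) :=
  GLin.comodAlong ((CoordGrp.SLn.mkHom n k).comp (CoordGrp.Mat.toGLn n k)) (CoordGrp.formsCoact k n d)

theorem formsComod_isCoactAlg (k : Type u) [CommRing k] (n d : ℕ) :
    @GLin.IsCoactAlg k _ (SLn n k) _ _ (FormRing k n d) _ _ (formsComod k n d) :=
  GLin.isCoactAlg_comodAlong ((CoordGrp.SLn.mkHom n k).comp (CoordGrp.Mat.toGLn n k))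
    (CoordGrp.formsCoact k n d) (CoordGrp.formsCoact_isCoactAlg k n d)

attribute [local instance] formsComod formsComod_isCoactAlg

theorem orbitHom_X (a : FormIdx n d → k) (m : FormIdx n d) :
    GLin.orbitHom k (SLn n k) (GLin.vecPt k (FormIdx n d) a) (MvPolynomial.X m) =
      ∑ l, a l • rho n k (formCoeff k n d l m) := by
  unfold GLin.orbitHom
  simp only [AlgHom.comp_apply, GLin.coactAlgHom_apply]
  have h1 : HopfRep.Comod.coact (k := k) (A := SLn n k) (MvPolynomial.X m : FormRing k n d) =
      ∑ l : FormIdx n d, MvPolynomial.X l ⊗ₜ[k] rho n k (formCoeff k n d l m) := by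
    show TensorProduct.map LinearMap.id ((rho n k : Mat n k →ₐc[k] SLn n k) : Mat n k →ₗ[k] SLn n k)
      (formsCoactAlg k n d (MvPolynomial.X m)) = _
    rw [formsCoactAlg_X, map_sum]
    rfl
  rw [h1, map_sum, map_sum]
  refine Finset.sum_congr rfl fun l _ => ?_
  simp

/-- the key formula: a point `s` of `SL_n` moves the form `a` to `a · FC(s)`. -/
theorem comp_orbitHom (s : SLn n k →ₐ[k] B) (a : FormIdx n d → k) :
    s.comp (GLin.orbitHom k (SLn n k) (GLin.vecPt k (FormIdx n d) a)) =
      MvPolynomial.aeval (fun m => ∑ l, algebraMap k B (a l) * FC k d (ptMat s) l m) := by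
  apply MvPolynomial.algHom_ext
  intro m
  rw [AlgHom.comp_apply, orbitHom_X, map_sum, MvPolynomial.aeval_X]
  refine Finset.sum_congr rfl fun l _ => ?_
  rw [map_smul, apply_rho, Algebra.smul_def]
  rfl

/-- the action of a matrix on a coefficient vector -/
noncomputable def actVec (k : Type u) [CommRing k] {n d : ℕ} {B : Type v} [CommRing B] [Algebra k B]
    (c : FormIdx n d → B) (M : Matrix (Fin n) (Fin n) B) : FormIdx n d → B :=
  Matrix.vecMul c (FC k d M)

theorem actVec_apply (c : FormIdx n d → B) (M : Matrix (Fin n) (Fin n) B) (m : FormIdx n d) :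
    actVec k c M m = ∑ l, c l * FC k d M l m := rfl

theorem actVec_mul (c : FormIdx n d → B) (M N : Matrix (Fin n) (Fin n) B) :
    actVec k c (M * N) = actVec k (actVec k c M) N := by
  unfold actVec
  rw [FC_mul, Matrix.vecMul_vecMul]

theorem actVec_one (c : FormIdx n d → B) : actVec k c (1 : Matrix (Fin n) (Fin n) B) = c := by
  unfold actVec
  rw [FC_one, Matrix.vecMul_one]

theorem actVec_map {B' : Type w} [CommRing B'] [Algebra k B'] (f : B →ₐ[k] B')
    (c : FormIdx n d → B) (M : Matrix (Fin n) (Fin n) B) :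
    actVec k (fun m => f (c m)) (M.map f) = fun m => f (actVec k c M m) := by
  funext m
  simp only [actVec_apply, FC_map, Matrix.map_apply, map_sum, map_mul]

theorem actVec_diagonal (c : FormIdx n d → B) (t : Fin n → B) (m : FormIdx n d) :
    actVec k c (Matrix.diagonal t) m = c m * ∏ i, t i ^ (m.1 i) := by
  classical
  rw [actVec_apply, Finset.sum_eq_single m]
  · rw [FC_diagonal, if_pos rfl]
  · intro l _ hl
    rw [FC_diagonal, if_neg hl, mul_zero]
  · intro h; exact absurd (Finset.mem_univ m) h

theorem comp_orbitHom' (s : SLn n k →ₐ[k] B) (a : FormIdx n d → k) :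
    s.comp (GLin.orbitHom k (SLn n k) (GLin.vecPt k (FormIdx n d) a)) =
      MvPolynomial.aeval (actVec k (fun m => algebraMap k B (a m)) (ptMat s)) :=
  comp_orbitHom s a

theorem actPt_eq (s : SLn n k →ₐ[k] k) (a : FormIdx n d → k) :
    GLin.actPt k s (GLin.vecPt k (FormIdx n d) a) = GLin.vecPt k (FormIdx n d) (actVec k a (ptMat s)) := by
  unfold GLin.actPt
  rw [comp_orbitHom']
  rfl

theorem actPt_pt (g : Matrix (Fin n) (Fin n) k) (hg : g.det = 1) (a : FormIdx n d → k) :
    GLin.actPt k (SLn.pt n k g hg) (GLin.vecPt k (FormIdx n d) a) =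
      GLin.vecPt k (FormIdx n d) (actVec k a g) := by
  rw [actPt_eq, ptMat_pt]

theorem vecPt_injective {ι : Type w} (v w : ι → k)
    (h : GLin.vecPt k ι v = GLin.vecPt k ι w) : v = w := by
  funext i
  have := congrArg (fun φ => φ (MvPolynomial.X i)) h
  simpa using this

/-- left translation by a rational point, as an automorphism of the coordinate ring -/
noncomputable def transl (g : Matrix (Fin n) (Fin n) k) (hg : g.det = 1) : SLn n k →ₐ[k] SLn n k :=
  SLn.pt n k (g.map (algebraMap k (SLn n k)) * ptMat (AlgHom.id k (SLn n k))) (by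
    rw [Matrix.det_mul, det_ptMat, mul_one]
    have : g.map (algebraMap k (SLn n k)) = (algebraMap k (SLn n k)).mapMatrix g := rfl
    rw [this, ← RingHom.map_det, hg, map_one])

theorem ptMat_transl (g : Matrix (Fin n) (Fin n) k) (hg : g.det = 1) :
    ptMat (transl g hg) = g.map (algebraMap k (SLn n k)) * ptMat (AlgHom.id k (SLn n k)) := by
  unfold transl
  rw [ptMat_pt]

theorem transl_comp_transl (g g' : Matrix (Fin n) (Fin n) k) (hg : g.det = 1) (hg' : g'.det = 1) :
    (transl g' hg').comp (transl g hg) = transl (g * g') (by rw [Matrix.det_mul, hg, hg', mul_one]) := by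
  apply ptMat_injective
  rw [ptMat_comp, ptMat_transl, ptMat_transl]
  have h1 : (g.map (algebraMap k (SLn n k)) * ptMat (AlgHom.id k (SLn n k))).map (transl g' hg') =
      (g.map (algebraMap k (SLn n k))).map (transl g' hg') *
        (ptMat (AlgHom.id k (SLn n k))).map (transl g' hg') := by
    rw [Matrix.map_mul]
  rw [h1]
  have h2 : (g.map (algebraMap k (SLn n k))).map (transl g' hg') = g.map (algebraMap k (SLn n k)) := by
    ext i j
    simp
  have h3 : (ptMat (AlgHom.id k (SLn n k))).map (transl g' hg') = ptMat (transl g' hg') := rfl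
  rw [h2, h3, ptMat_transl, ← Matrix.mul_assoc]
  congr 1
  ext i j
  simp [Matrix.mul_apply]

theorem transl_one : transl (1 : Matrix (Fin n) (Fin n) k) Matrix.det_one = AlgHom.id k (SLn n k) := by
  apply ptMat_injective
  rw [ptMat_transl]
  have : (1 : Matrix (Fin n) (Fin n) k).map (algebraMap k (SLn n k)) = 1 := by
    ext i j
    simp [Matrix.one_apply]
  rw [this, one_mul]

theorem transl_injective (g : Matrix (Fin n) (Fin n) k) (hg : g.det = 1) :
    Function.Injective (transl g hg) := by
  have hinv : (g * g⁻¹) = 1 := Matrix.mul_nonsing_inv g (by rw [hg]; exact isUnit_one)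
  have hdet : (g⁻¹).det = 1 := by
    have := congrArg Matrix.det hinv
    rwa [Matrix.det_mul, hg, one_mul, Matrix.det_one] at this
  have h := transl_comp_transl g g⁻¹ hg hdet
  intro x y hxy
  have := congrArg (transl g⁻¹ hdet) hxy
  have e : ∀ z, transl g⁻¹ hdet (transl g hg z) = z := by
    intro z
    have := congrArg (fun φ => φ z) h
    simp only [AlgHom.comp_apply] at this
    rw [this]
    have h1 : transl (g * g⁻¹) (by rw [Matrix.det_mul, hg, hdet, mul_one]) =
        transl (1 : Matrix (Fin n) (Fin n) k) Matrix.det_one := by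
      congr 1
    rw [h1, transl_one]
    rfl
  rwa [e, e] at this

/-- the orbit map of the moved point is the translate of the orbit map. -/
theorem orbitHom_actVec (g : Matrix (Fin n) (Fin n) k) (hg : g.det = 1) (a : FormIdx n d → k) :
    GLin.orbitHom k (SLn n k) (GLin.vecPt k (FormIdx n d) (actVec k a g)) =
      (transl g hg).comp (GLin.orbitHom k (SLn n k) (GLin.vecPt k (FormIdx n d) a)) := by
  have h1 := comp_orbitHom' (AlgHom.id k (SLn n k)) (actVec k a g)
  rw [AlgHom.id_comp] at h1
  rw [h1, comp_orbitHom', ptMat_transl, actVec_mul]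
  have h2 := actVec_map (k := k) (Algebra.ofId k (SLn n k)) a g
  have h3 : actVec k (fun m => (algebraMap k (SLn n k)) (a m)) (g.map (algebraMap k (SLn n k))) =
      fun m => algebraMap k (SLn n k) (actVec k a g m) := h2
  rw [h3]

theorem ker_orbitHom_actVec (g : Matrix (Fin n) (Fin n) k) (hg : g.det = 1) (a : FormIdx n d → k) :
    RingHom.ker (GLin.orbitHom k (SLn n k) (GLin.vecPt k (FormIdx n d) (actVec k a g))) =
      RingHom.ker (GLin.orbitHom k (SLn n k) (GLin.vecPt k (FormIdx n d) a)) := by
  ext f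
  rw [RingHom.mem_ker, RingHom.mem_ker, orbitHom_actVec g hg, AlgHom.comp_apply]
  constructor
  · intro h
    exact transl_injective g hg (h.trans (map_zero _).symm)
  · intro h
    rw [h, map_zero]

instance finiteType_SLn : Algebra.FiniteType k (SLn n k) :=
  haveI : Algebra.FiniteType k (GLb n k) :=
    inferInstanceAs (Algebra.FiniteType k (MvPolynomial (GLPoly.Idx n) k))
  haveI : Algebra.FiniteType k (GLn n k) :=
    Algebra.FiniteType.of_surjective (GLn.mk n k) (Ideal.Quotient.mkₐ_surjective k _)
  Algebra.FiniteType.of_surjective (SLn.mk n k) (Ideal.Quotient.mkₐ_surjective k _)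

end Pts

end Groth.Agent.Lib.Helper24HM
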