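import Mathlib

namespace Groth.Agent.Lib.Helper24Bezout

open MvPolynomial Finset

variable {k : Type*} [Field k] {σ : Type*}

theorem degree_le_of_coeff_ne_zero {p : MvPolynomial σ k} {N : ℕ} (hp : p.totalDegree ≤ N)
    {d : σ →₀ ℕ} (hd : coeff d p ≠ 0) : d.degree ≤ N := by
  have := le_totalDegree (mem_support_iff.mpr hd)
  rw [Finsupp.degree_apply]
  exact this.trans hp

theorem totalDegree_le_of_forall {p : MvPolynomial σ k} {N : ℕ}
    (h : ∀ d, coeff d p ≠ 0 → d.degree ≤ N) : p.totalDegree ≤ N := by
  rw [totalDegree, Finset.sup_le_iff]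
  intro d hd
  have := h d (mem_support_iff.mp hd)
  rwa [Finsupp.degree_apply] at this

/-- homogeneous components of a product -/
theorem homogeneousComponent_mul [DecidableEq σ] (p q : MvPolynomial σ k) (N : ℕ) :
    homogeneousComponent N (p * q) =
      ∑ ij ∈ antidiagonal N, homogeneousComponent ij.1 p * homogeneousComponent ij.2 q := by
  ext d
  rw [coeff_homogeneousComponent, coeff_sum]
  simp only [coeff_mul, coeff_homogeneousComponent]
  rw [Finset.sum_comm]
  by_cases hd : d.degree = N
  · rw [if_pos hd]
    refine Finset.sum_congr rfl fun x hx => ?_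
    have hx' : x.1 + x.2 = d := mem_antidiagonal.mp hx
    have hdeg : x.1.degree + x.2.degree = N := by rw [← hd, ← hx', map_add]
    rw [Finset.sum_eq_single (x.1.degree, x.2.degree)]
    · simp
    · intro ij _ hne
      by_cases h1 : x.1.degree = ij.1
      · by_cases h2 : x.2.degree = ij.2
        · exfalso; apply hne; ext <;> simp [h1, h2]
        · simp [h2]
      · simp [h1]
    · intro hnot
      exfalso; apply hnot
      exact mem_antidiagonal.mpr hdeg
  · rw [if_neg hd]
    symm
    apply Finset.sum_eq_zero
    intro x hx
    apply Finset.sum_eq_zero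
    intro ij hij
    have hx' : x.1 + x.2 = d := mem_antidiagonal.mp hx
    have hij' : ij.1 + ij.2 = N := mem_antidiagonal.mp hij
    by_cases h1 : x.1.degree = ij.1
    · by_cases h2 : x.2.degree = ij.2
      · exfalso; apply hd
        rw [← hx', map_add, h1, h2, hij']
      · simp [h2]
    · simp [h1]

/-- the top component of a product -/
theorem homogeneousComponent_mul_top [DecidableEq σ] {p q : MvPolynomial σ k} {e n : ℕ}
    (hp : p.totalDegree ≤ e) (hq : q.totalDegree ≤ n) :
    homogeneousComponent (e + n) (p * q) = homogeneousComponent e p * homogeneousComponent n q := by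
  rw [homogeneousComponent_mul, Finset.sum_eq_single (e, n)]
  · intro ij hij hne
    have hij' : ij.1 + ij.2 = e + n := mem_antidiagonal.mp hij
    by_cases h1 : e < ij.1
    · rw [homogeneousComponent_eq_zero _ _ (lt_of_le_of_lt hp h1), zero_mul]
    · by_cases h2 : n < ij.2
      · rw [homogeneousComponent_eq_zero _ _ (lt_of_le_of_lt hq h2), mul_zero]
      · exfalso; apply hne
        have : ij.1 = e := by omega
        have : ij.2 = n := by omega
        ext <;> simp [*]
  · intro hnot
    exfalso; apply hnot; exact mem_antidiagonal.mpr rfl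

/-- multiplying by a homogeneous polynomial shifts components -/
theorem homogeneousComponent_mul_homogeneous [DecidableEq σ] (p : MvPolynomial σ k)
    {H : MvPolynomial σ k} {h : ℕ} (hH : H.IsHomogeneous h) (N : ℕ) :
    homogeneousComponent (N + h) (p * H) = homogeneousComponent N p * H := by
  rw [homogeneousComponent_mul, Finset.sum_eq_single (N, h)]
  · rw [homogeneousComponent_eq_self hH]
  · intro ij hij hne
    have hij' : ij.1 + ij.2 = N + h := mem_antidiagonal.mp hij
    rw [homogeneousComponent_of_mem hH]
    by_cases h2 : ij.2 = h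
    · exfalso; apply hne
      have : ij.1 = N := by omega
      ext <;> simp [*]
    · rw [if_neg h2, mul_zero]
  · intro hnot
    exfalso; apply hnot; exact mem_antidiagonal.mpr rfl

/-- if the top component vanishes, the degree drops -/
theorem totalDegree_lt_of_top_eq_zero {p : MvPolynomial σ k} {N : ℕ} (hp : p.totalDegree ≤ N + 1)
    (htop : homogeneousComponent (N + 1) p = 0) : p.totalDegree ≤ N := by
  apply totalDegree_le_of_forall
  intro d hd
  have h1 := degree_le_of_coeff_ne_zero hp hd
  by_contra hcon
  have h2 : d.degree = N + 1 := by omega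
  have := congrArg (coeff d) htop
  rw [coeff_homogeneousComponent, if_pos h2, coeff_zero] at this
  exact hd this

theorem eq_zero_of_top_eq_zero {p : MvPolynomial σ k} (hp : p.totalDegree ≤ 0)
    (htop : homogeneousComponent 0 p = 0) : p = 0 := by
  rw [homogeneousComponent_zero] at htop
  rw [Nat.le_zero, totalDegree_eq_zero_iff_eq_C] at hp
  rw [hp, htop]

end Groth.Agent.Lib.Helper24Bezout
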