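import Mathlib
import Groth.Agent.Lib.Helper24Bezout1

namespace Groth.Agent.Lib.Helper24Bezout

open MvPolynomial Finset

variable {k : Type*} [Field k] {σ : Type*}

theorem homogeneous_ne_unit {H : MvPolynomial σ k} {h : ℕ} (hH : H.IsHomogeneous h) (hh : 0 < h) :
    ¬ IsUnit H := by
  intro hu
  have h1 := (isUnit_iff_totalDegree_of_isReduced.mp hu).2
  have h0 : H ≠ 0 := hu.ne_zero
  rw [hH.totalDegree h0] at h1
  omega

section

variable {F G : MvPolynomial σ k} {n m : ℕ}

theorem top_ne_zero_left (hm : 0 < m)
    (hrel : IsRelPrime (homogeneousComponent n F) (homogeneousComponent m G)) :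
    homogeneousComponent n F ≠ 0 := by
  intro h0
  rw [h0, isRelPrime_zero_left] at hrel
  exact homogeneous_ne_unit (homogeneousComponent_isHomogeneous m G) hm hrel

theorem top_ne_zero_right (hn : 0 < n)
    (hrel : IsRelPrime (homogeneousComponent n F) (homogeneousComponent m G)) :
    homogeneousComponent m G ≠ 0 :=
  top_ne_zero_left hn hrel.symm

/-- one descent step -/
theorem descent_step [DecidableEq σ] (hF : F.totalDegree ≤ n) (hG : G.totalDegree ≤ m)
    (hn : 0 < n) (hm : 0 < m)
    (hrel : IsRelPrime (homogeneousComponent n F) (homogeneousComponent m G))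
    (e : ℕ) (hen : n ≤ e) (hem : m ≤ e) (a b : MvPolynomial σ k)
    (ha : a.totalDegree + n ≤ e + 1) (hb : b.totalDegree + m ≤ e + 1)
    (hab : (a * F + b * G).totalDegree ≤ e) :
    ∃ a' b' : MvPolynomial σ k, a'.totalDegree + n ≤ e ∧ b'.totalDegree + m ≤ e ∧
      a' * F + b' * G = a * F + b * G := by
  have hFn0 := top_ne_zero_left hm hrel
  have hGm0 := top_ne_zero_right hn hrel
  obtain ⟨i, hi⟩ : ∃ i, i + 1 + n = e + 1 := ⟨e - n, by omega⟩
  obtain ⟨j, hj⟩ : ∃ j, j + 1 + m = e + 1 := ⟨e - m, by omega⟩
  have hai : a.totalDegree ≤ i + 1 := by omega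
  have hbj : b.totalDegree ≤ j + 1 := by omega
  set α := homogeneousComponent (i + 1) a with hα
  set β := homogeneousComponent (j + 1) b with hβ
  have htop : α * homogeneousComponent n F + β * homogeneousComponent m G = 0 := by
    rw [hα, hβ, ← homogeneousComponent_mul_top hai hF, ← homogeneousComponent_mul_top hbj hG,
      hi, hj, ← map_add]
    exact homogeneousComponent_eq_zero _ _ (by omega)
  -- divisibility
  have hdvd : homogeneousComponent n F ∣ β := by
    apply hrel.dvd_of_dvd_mul_right
    refine ⟨-α, ?_⟩
    linear_combination htop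
  obtain ⟨c₀, hc₀⟩ := hdvd
  -- the homogeneous part of the cofactor
  obtain ⟨c, hcβ, hchom, hcdeg⟩ : ∃ c : MvPolynomial σ k, β = c * homogeneousComponent n F ∧
      (c = 0 ∨ (n ≤ j + 1 ∧ c.IsHomogeneous (j + 1 - n))) ∧ True := by
    by_cases hnj : n ≤ j + 1
    · refine ⟨homogeneousComponent (j + 1 - n) c₀, ?_, Or.inr ⟨hnj, homogeneousComponent_isHomogeneous _ _⟩, trivial⟩
      have h1 : homogeneousComponent (j + 1) β = β :=
        homogeneousComponent_eq_self (homogeneousComponent_isHomogeneous _ _)
      rw [← h1]
      conv_lhs => rw [hc₀, mul_comm]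
      have h2 : j + 1 = (j + 1 - n) + n := by omega
      conv_lhs => rw [h2]
      exact homogeneousComponent_mul_homogeneous c₀ (homogeneousComponent_isHomogeneous n F) _
    · refine ⟨0, ?_, Or.inl rfl, trivial⟩
      rw [zero_mul]
      by_contra hβ0
      have hc₀0 : c₀ ≠ 0 := by rintro rfl; apply hβ0; rw [hc₀, mul_zero]
      have h1 : β.totalDegree = j + 1 :=
        (homogeneousComponent_isHomogeneous (j + 1) b).totalDegree hβ0
      have h2 : β.totalDegree = (homogeneousComponent n F).totalDegree + c₀.totalDegree := by
        rw [hc₀]; exact totalDegree_mul_of_isDomain hFn0 hc₀0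
      rw [(homogeneousComponent_isHomogeneous n F).totalDegree hFn0] at h2
      omega
  have hαc : α = -(c * homogeneousComponent m G) := by
    have h1 : (α + c * homogeneousComponent m G) * homogeneousComponent n F = 0 := by
      rw [hcβ] at htop
      linear_combination htop
    rcases mul_eq_zero.mp h1 with h | h
    · linear_combination h
    · exact absurd h hFn0
  refine ⟨a + c * G, b - c * F, ?_, ?_, by ring⟩
  · -- degree of a'
    suffices h : (a + c * G).totalDegree ≤ i by omega
    apply totalDegree_lt_of_top_eq_zero
    · refine (totalDegree_add _ _).trans (max_le hai ?_)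
      rcases hchom with rfl | ⟨hnj, hch⟩
      · simp
      · refine (totalDegree_mul _ _).trans ?_
        have := hch.totalDegree_le
        omega
    · rw [map_add, ← hα, hαc]
      rcases hchom with rfl | ⟨hnj, hch⟩
      · simp
      · have h1 : i + 1 = (j + 1 - n) + m := by omega
        rw [h1, homogeneousComponent_mul_top hch.totalDegree_le hG,
          homogeneousComponent_eq_self hch]
        ring
  · suffices h : (b - c * F).totalDegree ≤ j by omega
    apply totalDegree_lt_of_top_eq_zero
    · refine (totalDegree_sub _ _).trans (max_le hbj ?_)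
      rcases hchom with rfl | ⟨hnj, hch⟩
      · simp
      · refine (totalDegree_mul _ _).trans ?_
        have := hch.totalDegree_le
        omega
    · rw [map_sub, ← hβ, hcβ]
      rcases hchom with rfl | ⟨hnj, hch⟩
      · simp
      · have h1 : j + 1 = (j + 1 - n) + n := by omega
        conv_lhs => rw [h1]
        rw [homogeneousComponent_mul_top hch.totalDegree_le hF,
          homogeneousComponent_eq_self hch]
        ring

end

end Groth.Agent.Lib.Helper24Bezout
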