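import Mathlib
import Groth.Agent.Lib.Helper24Bezout1
import Groth.Agent.Lib.Helper24Bezout2

namespace Groth.Agent.Lib.Helper24Bezout

open MvPolynomial Finset

variable {k : Type*} [Field k] {σ : Type*} {F G : MvPolynomial σ k} {n m : ℕ}

/-- degree-bounded representation of elements of the ideal `(F, G)` -/
theorem exists_bounded_rep [DecidableEq σ] (hF : F.totalDegree ≤ n) (hG : G.totalDegree ≤ m)
    (hn : 0 < n) (hm : 0 < m)
    (hrel : IsRelPrime (homogeneousComponent n F) (homogeneousComponent m G))
    (d : ℕ) (hdn : n ≤ d) (hdm : m ≤ d) (a b : MvPolynomial σ k)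
    (hab : (a * F + b * G).totalDegree ≤ d) :
    ∃ a' b' : MvPolynomial σ k, a'.totalDegree + n ≤ d ∧ b'.totalDegree + m ≤ d ∧
      a' * F + b' * G = a * F + b * G := by
  -- generalize the bound
  have key : ∀ r : ℕ, ∀ a b : MvPolynomial σ k, a.totalDegree + n ≤ d + r →
      b.totalDegree + m ≤ d + r → (a * F + b * G).totalDegree ≤ d →
      ∃ a' b' : MvPolynomial σ k, a'.totalDegree + n ≤ d ∧ b'.totalDegree + m ≤ d ∧
        a' * F + b' * G = a * F + b * G := by
    intro r
    induction r with
    | zero => intro a b ha hb _; exact ⟨a, b, ha, hb, rfl⟩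
    | succ r ih =>
      intro a b ha hb hab
      obtain ⟨a₁, b₁, ha₁, hb₁, h₁⟩ := descent_step hF hG hn hm hrel (d + r) (by omega) (by omega)
        a b (by omega) (by omega) (by omega)
      obtain ⟨a', b', ha', hb', h'⟩ := ih a₁ b₁ ha₁ hb₁ (by rw [h₁]; exact hab)
      exact ⟨a', b', ha', hb', h'.trans h₁⟩
  exact key (a.totalDegree + n + b.totalDegree + m) a b (by omega) (by omega) hab

/-- `F` and `G` are relatively prime when their top forms are -/
theorem isRelPrime_of_top [DecidableEq σ] (hF : F.totalDegree ≤ n) (hG : G.totalDegree ≤ m)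
    (hn : 0 < n) (hm : 0 < m)
    (hrel : IsRelPrime (homogeneousComponent n F) (homogeneousComponent m G)) :
    IsRelPrime F G := by
  have hFn0 := top_ne_zero_left hm hrel
  have hGm0 := top_ne_zero_right hn hrel
  have hF0 : F ≠ 0 := by rintro rfl; simp at hFn0
  have hG0 : G ≠ 0 := by rintro rfl; simp at hGm0
  have hFdeg : F.totalDegree = n := by
    by_contra hne
    exact hFn0 (homogeneousComponent_eq_zero _ _ (by omega))
  have hGdeg : G.totalDegree = m := by
    by_contra hne
    exact hGm0 (homogeneousComponent_eq_zero _ _ (by omega))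
  intro P hPF hPG
  obtain ⟨Q, hQ⟩ := hPF
  obtain ⟨S, hS⟩ := hPG
  have hP0 : P ≠ 0 := by rintro rfl; apply hF0; rw [hQ, zero_mul]
  have hQ0 : Q ≠ 0 := by rintro rfl; apply hF0; rw [hQ, mul_zero]
  have hS0 : S ≠ 0 := by rintro rfl; apply hG0; rw [hS, mul_zero]
  have h1 : n = P.totalDegree + Q.totalDegree := by
    rw [← hFdeg, hQ]; exact totalDegree_mul_of_isDomain hP0 hQ0
  have h2 : m = P.totalDegree + S.totalDegree := by
    rw [← hGdeg, hS]; exact totalDegree_mul_of_isDomain hP0 hS0
  have e1 : homogeneousComponent n F =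
      homogeneousComponent P.totalDegree P * homogeneousComponent Q.totalDegree Q := by
    rw [h1, hQ]; exact homogeneousComponent_mul_top le_rfl le_rfl
  have e2 : homogeneousComponent m G =
      homogeneousComponent P.totalDegree P * homogeneousComponent S.totalDegree S := by
    rw [h2, hS]; exact homogeneousComponent_mul_top le_rfl le_rfl
  have hu : IsUnit (homogeneousComponent P.totalDegree P) :=
    hrel ⟨_, e1⟩ ⟨_, e2⟩
  have hPtop0 : homogeneousComponent P.totalDegree P ≠ 0 := hu.ne_zero
  have hdeg0 : P.totalDegree = 0 := by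
    by_contra hne
    exact homogeneous_ne_unit (homogeneousComponent_isHomogeneous _ P) (Nat.pos_of_ne_zero hne) hu
  rw [totalDegree_eq_zero_iff_eq_C] at hdeg0
  rw [hdeg0]
  have : coeff 0 P ≠ 0 := by intro h; apply hP0; rw [hdeg0, h, C_0]
  exact (IsUnit.mk0 _ this).map C

end Groth.Agent.Lib.Helper24Bezout
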