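import Mathlib
import Groth.Agent.Lib.Helper24Bezout1
import Groth.Agent.Lib.Helper24Bezout2
import Groth.Agent.Lib.Helper24Bezout3

namespace Groth.Agent.Lib.Helper24Bezout

open MvPolynomial Finset

variable {k : Type*} [Field k] {σ : Type*} {F G : MvPolynomial σ k} {n m : ℕ}

/-- polynomials of total degree at most `d` -/
noncomputable abbrev L (k : Type*) [Field k] (σ : Type*) (d : ℕ) : Submodule k (MvPolynomial σ k) :=
  restrictTotalDegree σ k d

theorem mem_L {p : MvPolynomial σ k} {d : ℕ} : p ∈ L k σ d ↔ p.totalDegree ≤ d :=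
  mem_restrictTotalDegree σ d p

theorem totalDegree_eq_of_top (hF : F.totalDegree ≤ n)
    (h0 : homogeneousComponent n F ≠ 0) : F.totalDegree = n := by
  by_contra hne
  exact h0 (homogeneousComponent_eq_zero _ _ (by omega))

/-- the ideal `(F, G)` in degrees `≤ d` -/
theorem ideal_inf_L [DecidableEq σ] (hF : F.totalDegree ≤ n) (hG : G.totalDegree ≤ m)
    (hn : 0 < n) (hm : 0 < m)
    (hrel : IsRelPrime (homogeneousComponent n F) (homogeneousComponent m G))
    (d : ℕ) (hd : n + m ≤ d) :
    (Ideal.span {F, G}).restrictScalars k ⊓ L k σ d =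
      (L k σ (d - n)).map (LinearMap.mulLeft k F) ⊔ (L k σ (d - m)).map (LinearMap.mulLeft k G) := by
  apply le_antisymm
  · rintro h ⟨hI, hL⟩
    rw [SetLike.mem_coe, Submodule.restrictScalars_mem, Ideal.mem_span_pair] at hI
    obtain ⟨a, b, rfl⟩ := hI
    rw [SetLike.mem_coe, mem_L] at hL
    obtain ⟨a', b', ha', hb', h'⟩ := exists_bounded_rep hF hG hn hm hrel d (by omega) (by omega)
      a b hL
    rw [← h']
    apply Submodule.add_mem_sup
    · refine ⟨a', mem_L.mpr (by omega), ?_⟩
      simp [mul_comm]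
    · refine ⟨b', mem_L.mpr (by omega), ?_⟩
      simp [mul_comm]
  · apply sup_le
    · rintro _ ⟨a, ha, rfl⟩
      rw [SetLike.mem_coe, mem_L] at ha
      refine ⟨?_, ?_⟩
      · rw [SetLike.mem_coe, Submodule.restrictScalars_mem]
        simp only [LinearMap.mulLeft_apply]
        exact Ideal.mul_mem_right _ _ (Ideal.subset_span (by simp))
      · rw [SetLike.mem_coe, mem_L]
        simp only [LinearMap.mulLeft_apply]
        refine (totalDegree_mul _ _).trans ?_
        omega
    · rintro _ ⟨b, hb, rfl⟩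
      rw [SetLike.mem_coe, mem_L] at hb
      refine ⟨?_, ?_⟩
      · rw [SetLike.mem_coe, Submodule.restrictScalars_mem]
        simp only [LinearMap.mulLeft_apply]
        exact Ideal.mul_mem_right _ _ (Ideal.subset_span (by simp))
      · rw [SetLike.mem_coe, mem_L]
        simp only [LinearMap.mulLeft_apply]
        refine (totalDegree_mul _ _).trans ?_
        omega

/-- the intersection of the two pieces -/
theorem inf_pieces [DecidableEq σ] (hF : F.totalDegree ≤ n) (hG : G.totalDegree ≤ m)
    (hn : 0 < n) (hm : 0 < m)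
    (hrel : IsRelPrime (homogeneousComponent n F) (homogeneousComponent m G))
    (d : ℕ) (hd : n + m ≤ d) :
    (L k σ (d - n)).map (LinearMap.mulLeft k F) ⊓ (L k σ (d - m)).map (LinearMap.mulLeft k G) =
      (L k σ (d - n - m)).map (LinearMap.mulLeft k (F * G)) := by
  have hFn0 := top_ne_zero_left hm hrel
  have hFdeg := totalDegree_eq_of_top hF hFn0
  have hF0 : F ≠ 0 := by rintro rfl; simp at hFn0
  have hFG := isRelPrime_of_top hF hG hn hm hrel
  apply le_antisymm
  · rintro h ⟨⟨a, ha, rfl⟩, ⟨b, hb, hab⟩⟩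
    rw [SetLike.mem_coe, mem_L] at ha hb
    simp only [LinearMap.mulLeft_apply] at hab ⊢
    have hdvd : F ∣ b := by
      apply hFG.dvd_of_dvd_mul_left
      exact ⟨a, hab⟩
    obtain ⟨c, rfl⟩ := hdvd
    refine ⟨c, ?_, ?_⟩
    · rw [SetLike.mem_coe, mem_L]
      by_cases hc : c = 0
      · rw [hc]; simp
      · have := totalDegree_mul_of_isDomain hF0 hc
        omega
    · simp only [LinearMap.mulLeft_apply]
      rw [← hab]; ring
  · rintro _ ⟨c, hc, rfl⟩
    rw [SetLike.mem_coe, mem_L] at hc
    refine ⟨⟨G * c, ?_, ?_⟩, ⟨F * c, ?_, ?_⟩⟩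
    · rw [SetLike.mem_coe, mem_L]
      refine (totalDegree_mul _ _).trans ?_
      omega
    · simp only [LinearMap.mulLeft_apply]; ring
    · rw [SetLike.mem_coe, mem_L]
      refine (totalDegree_mul _ _).trans ?_
      omega
    · simp only [LinearMap.mulLeft_apply]; ring

end Groth.Agent.Lib.Helper24Bezout
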