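import Mathlib
import Groth.Agent.Lib.Helper24Bezout4

namespace Groth.Agent.Lib.Helper24Bezout

open MvPolynomial Finset

variable {k : Type*} [Field k]

/-- number of monomials of degree `≤ d` in two variables -/
def tri : ℕ → ℕ
  | 0 => 1
  | (d + 1) => tri d + (d + 2)

theorem two_mul_tri (d : ℕ) : 2 * tri d = (d + 1) * (d + 2) := by
  induction d with
  | zero => simp [tri]
  | succ d ih => rw [tri, mul_add, ih]; ring

theorem card_pairs (d : ℕ) :
    ((Finset.range (d + 1) ×ˢ Finset.range (d + 1)).filter fun x : ℕ × ℕ => x.1 + x.2 ≤ d).card =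
      tri d := by
  induction d with
  | zero => decide
  | succ d ih =>
    have : ((Finset.range (d + 2) ×ˢ Finset.range (d + 2)).filter
        fun x : ℕ × ℕ => x.1 + x.2 ≤ d + 1) =
        ((Finset.range (d + 1) ×ˢ Finset.range (d + 1)).filter fun x : ℕ × ℕ => x.1 + x.2 ≤ d) ∪
          antidiagonal (d + 1) := by
      ext x
      simp only [Finset.mem_filter, Finset.mem_product, Finset.mem_range, Finset.mem_union,
        HasAntidiagonal.mem_antidiagonal]
      omega
    rw [this, Finset.card_union_of_disjoint, ih, Finset.Nat.card_antidiagonal, tri]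
    rw [Finset.disjoint_left]
    intro x hx hx'
    simp only [Finset.mem_filter, Finset.mem_product, Finset.mem_range,
      HasAntidiagonal.mem_antidiagonal] at hx hx'
    omega

theorem finrank_L (d : ℕ) : Module.finrank k (L k (Fin 2) d) = tri d := by
  classical
  have hb := basisRestrictSupport k {e : Fin 2 →₀ ℕ | (e.sum fun _ x => x) ≤ d}
  rw [show L k (Fin 2) d = restrictSupport k {e : Fin 2 →₀ ℕ | (e.sum fun _ x => x) ≤ d} from rfl,
    Module.finrank_eq_nat_card_basis hb]
  let ψ : (Fin 2 →₀ ℕ) ≃ ℕ × ℕ := Finsupp.equivFunOnFinite.trans (finTwoArrowEquiv ℕ)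
  have hψ : ∀ e : Fin 2 →₀ ℕ, (e.sum fun _ x => x) = (ψ e).1 + (ψ e).2 := by
    intro e
    rw [Finsupp.sum_fintype _ _ (fun _ => rfl), Fin.sum_univ_two]
    rfl
  have e1 : {e : Fin 2 →₀ ℕ | (e.sum fun _ x => x) ≤ d} ≃
      {x : ℕ × ℕ // x.1 + x.2 ≤ d} :=
    Equiv.subtypeEquiv ψ (fun e => by
      show (e.sum fun _ x => x) ≤ d ↔ _
      rw [hψ e])
  rw [Nat.card_congr e1, ← card_pairs d]
  apply Nat.subtype_card
  intro x
  simp only [Finset.mem_filter, Finset.mem_product, Finset.mem_range]
  omega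

theorem tri_identity (n m d : ℕ) (hd : n + m ≤ d) :
    tri d + tri (d - n - m) = tri (d - n) + tri (d - m) + n * m := by
  obtain ⟨r, rfl⟩ := Nat.exists_eq_add_of_le hd
  have h1 : n + m + r - n - m = r := by omega
  have h2 : n + m + r - n = m + r := by omega
  have h3 : n + m + r - m = n + r := by omega
  rw [h1, h2, h3]
  have e0 := two_mul_tri (n + m + r)
  have e1 := two_mul_tri r
  have e2 := two_mul_tri (m + r)
  have e3 := two_mul_tri (n + r)
  nlinarith

end Groth.Agent.Lib.Helper24Bezout
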