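import Mathlib
import Groth.Agent.Lib.Helper24Bezout5

namespace Groth.Agent.Lib.Helper24Bezout

open MvPolynomial Finset

variable {k : Type*} [Field k]

theorem finrank_map_add_finrank_inf_ker {V W : Type*} [AddCommGroup V] [Module k V]
    [AddCommGroup W] [Module k W] (f : V →ₗ[k] W) (p : Submodule k V) [FiniteDimensional k p] :
    Module.finrank k (p.map f) + Module.finrank k (LinearMap.ker f ⊓ p : Submodule k V) =
      Module.finrank k p := by
  have h1 := LinearMap.finrank_range_add_finrank_ker (f.domRestrict p)
  rw [LinearMap.range_domRestrict, LinearMap.ker_domRestrict] at h1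
  have e : (Submodule.comap p.subtype (LinearMap.ker f)) ≃ₗ[k]
      (LinearMap.ker f ⊓ p : Submodule k V) := by
    have : Submodule.comap p.subtype (LinearMap.ker f) =
        Submodule.comap p.subtype (LinearMap.ker f ⊓ p) := by
      ext x; simp
    rw [this]
    exact Submodule.comapSubtypeEquivOfLe inf_le_right
  rw [e.finrank_eq] at h1
  exact h1

theorem finrank_map_mulLeft {σ : Type*} (H : MvPolynomial σ k) (hH : H ≠ 0)
    (p : Submodule k (MvPolynomial σ k)) :
    Module.finrank k (p.map (LinearMap.mulLeft k H)) = Module.finrank k p := by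
  have hinj : Function.Injective (LinearMap.mulLeft k H) := by
    intro a b hab
    simp only [LinearMap.mulLeft_apply] at hab
    exact mul_left_cancel₀ hH hab
  exact (Submodule.equivMapOfInjective _ hinj p).finrank_eq.symm

theorem affine_bezout (F G : MvPolynomial (Fin 2) k) (n m : ℕ)
    (hF : F.totalDegree ≤ n) (hG : G.totalDegree ≤ m) (hn : 0 < n) (hm : 0 < m)
    (hrel : IsRelPrime (homogeneousComponent n F) (homogeneousComponent m G)) :
    Module.finrank k (MvPolynomial (Fin 2) k ⧸ Ideal.span {F, G}) = n * m := by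
  classical
  have hFn0 := top_ne_zero_left hm hrel
  have hGm0 := top_ne_zero_right hn hrel
  have hF0 : F ≠ 0 := by rintro rfl; simp at hFn0
  have hG0 : G ≠ 0 := by rintro rfl; simp at hGm0
  set I := Ideal.span {F, G} with hI
  set q : MvPolynomial (Fin 2) k →ₗ[k] (MvPolynomial (Fin 2) k ⧸ I) :=
    (Ideal.Quotient.mkₐ k I).toLinearMap with hq
  have hker : LinearMap.ker q = I.restrictScalars k := by
    ext x
    simp [hq, Ideal.Quotient.eq_zero_iff_mem]
  have hW : ∀ d, n + m ≤ d → Module.finrank k ((L k (Fin 2) d).map q) = n * m := by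
    intro d hd
    have h1 := finrank_map_add_finrank_inf_ker q (L k (Fin 2) d)
    rw [hker, ideal_inf_L hF hG hn hm hrel d hd, finrank_L] at h1
    have h2 := Submodule.finrank_sup_add_finrank_inf_eq
      ((L k (Fin 2) (d - n)).map (LinearMap.mulLeft k F))
      ((L k (Fin 2) (d - m)).map (LinearMap.mulLeft k G))
    rw [inf_pieces hF hG hn hm hrel d hd, finrank_map_mulLeft F hF0, finrank_map_mulLeft G hG0,
      finrank_map_mulLeft (F * G) (mul_ne_zero hF0 hG0), finrank_L, finrank_L, finrank_L] at h2
    have h3 := tri_identity n m d hd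
    omega
  have hmono : ∀ d, n + m ≤ d → (L k (Fin 2) d).map q = (L k (Fin 2) (n + m)).map q := by
    intro d hd
    symm
    apply Submodule.eq_of_le_of_finrank_eq
    · apply Submodule.map_mono
      intro p hp
      rw [mem_L] at hp ⊢
      omega
    · rw [hW d hd, hW (n + m) le_rfl]
  have htop : (L k (Fin 2) (n + m)).map q = ⊤ := by
    rw [eq_top_iff]
    intro x _
    obtain ⟨p, rfl⟩ := Ideal.Quotient.mk_surjective x
    have : q p ∈ (L k (Fin 2) (max p.totalDegree (n + m))).map q :=
      ⟨p, mem_L.mpr (le_max_left _ _), rfl⟩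
    rw [hmono _ (le_max_right _ _)] at this
    exact this
  rw [← hW (n + m) le_rfl, htop, finrank_top]

end Groth.Agent.Lib.Helper24Bezout
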