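import Mathlib
import Groth.Agent.Lib.Helper24Bezout6

namespace Groth.Agent.Lib.Helper24Bezout

open MvPolynomial Finset

variable {k : Type*} [Field k]

/-- dehomogenization with respect to the third variable, with value `t` -/
noncomputable def dehom (t : MvPolynomial (Fin 2) k) :
    MvPolynomial (Fin 3) k →ₐ[k] MvPolynomial (Fin 2) k :=
  aeval (Fin.cons (X 0) (Fin.cons (X 1) (Fin.cons t Fin.elim0)) : Fin 3 → MvPolynomial (Fin 2) k)

theorem dehom_monomial (t : MvPolynomial (Fin 2) k) (d : Fin 3 →₀ ℕ) (c : k) :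
    dehom t (monomial d c) = C c * X 0 ^ d 0 * X 1 ^ d 1 * t ^ d 2 := by
  rw [dehom, aeval_monomial, Finsupp.prod_fintype _ _ (fun i => by simp), Fin.prod_univ_three]
  simp only [algebraMap_eq]
  have h0 : (Fin.cons (X 0) (Fin.cons (X 1) (Fin.cons t Fin.elim0)) :
      Fin 3 → MvPolynomial (Fin 2) k) 0 = X 0 := rfl
  have h1 : (Fin.cons (X 0) (Fin.cons (X 1) (Fin.cons t Fin.elim0)) :
      Fin 3 → MvPolynomial (Fin 2) k) 1 = X 1 := rfl
  have h2 : (Fin.cons (X 0) (Fin.cons (X 1) (Fin.cons t Fin.elim0)) :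
      Fin 3 → MvPolynomial (Fin 2) k) 2 = t := rfl
  rw [h0, h1, h2]
  ring

theorem isHomogeneous_term (c : k) (i j : ℕ) :
    (C c * X 0 ^ i * X 1 ^ j : MvPolynomial (Fin 2) k).IsHomogeneous (i + j) := by
  have h1 := ((isHomogeneous_C (Fin 2) c).mul ((isHomogeneous_X k (0 : Fin 2)).pow i)).mul
    ((isHomogeneous_X k (1 : Fin 2)).pow j)
  simpa using h1

theorem totalDegree_dehom_one {f : MvPolynomial (Fin 3) k} {n : ℕ} (hf : f.IsHomogeneous n) :
    (dehom 1 f).totalDegree ≤ n := by
  rw [f.as_sum, map_sum]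
  apply totalDegree_finsetSum_le
  intro d hd
  rw [dehom_monomial, one_pow, mul_one]
  have h1 := (isHomogeneous_term (coeff d f) (d 0) (d 1)).totalDegree_le
  have h2 : d 0 + d 1 + d 2 = n := by
    have := hf (mem_support_iff.mp hd)
    simpa [Finsupp.weight_apply, Finsupp.sum_fintype, Fin.sum_univ_three] using this
  omega

theorem homogeneousComponent_dehom_one {f : MvPolynomial (Fin 3) k} {n : ℕ}
    (hf : f.IsHomogeneous n) :
    homogeneousComponent n (dehom 1 f) = dehom 0 f := by
  conv_lhs => rw [f.as_sum]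
  conv_rhs => rw [f.as_sum]
  rw [map_sum, map_sum, map_sum]
  refine Finset.sum_congr rfl fun d hd => ?_
  have h2 : d 0 + d 1 + d 2 = n := by
    have := hf (mem_support_iff.mp hd)
    simpa [Finsupp.weight_apply, Finsupp.sum_fintype, Fin.sum_univ_three] using this
  rw [dehom_monomial, dehom_monomial, one_pow, mul_one,
    homogeneousComponent_of_mem (isHomogeneous_term (coeff d f) (d 0) (d 1))]
  by_cases h : d 2 = 0
  · rw [if_pos (by omega), h, pow_zero, mul_one]
  · rw [if_neg (by omega), zero_pow h, mul_zero]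

theorem bezout_affine_count (n m : ℕ)
    (f g : MvPolynomial (Fin 3) k) (hf : f.IsHomogeneous n) (hg : g.IsHomogeneous m)
    (hn : 0 < n) (hm : 0 < m)
    (hT : IsRelPrime (dehom 0 f) (dehom 0 g)) :
    Module.finrank k (MvPolynomial (Fin 2) k ⧸ Ideal.span ({dehom 1 f, dehom 1 g} :
      Set (MvPolynomial (Fin 2) k))) = n * m := by
  apply affine_bezout _ _ n m (totalDegree_dehom_one hf) (totalDegree_dehom_one hg) hn hm
  rw [homogeneousComponent_dehom_one hf, homogeneousComponent_dehom_one hg]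
  exact hT

end Groth.Agent.Lib.Helper24Bezout
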