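import Mathlib

set_option autoImplicit false
universe u

open MvPolynomial

namespace Groth.Agent.Lib.Helper24Binary

/-- Exponent vectors of degree `m` in two variables correspond to `Fin (m + 1)`. -/
noncomputable def degEquiv (m : ℕ) : ↥{d : Fin 2 →₀ ℕ | d.degree = m} ≃ Fin (m + 1) where
  toFun d := ⟨d.1 0, by
    have := d.2
    rw [Set.mem_ofPred_eq, Finsupp.degree_eq_sum, Fin.sum_univ_two] at this
    omega⟩
  invFun j := ⟨Finsupp.single 0 j.1 + Finsupp.single 1 (m - j.1), by
    rw [Set.mem_ofPred_eq, Finsupp.degree_eq_sum, Fin.sum_univ_two]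
    have := j.2
    simp
    omega⟩
  left_inv d := by
    have := d.2
    rw [Set.mem_ofPred_eq, Finsupp.degree_eq_sum, Fin.sum_univ_two] at this
    apply Subtype.ext
    ext i
    fin_cases i
    · simp
    · simp
      omega
  right_inv j := by
    apply Fin.ext
    simp

variable (K : Type u) [Field K]

theorem homog_eq (m : ℕ) : homogeneousSubmodule (Fin 2) K m =
    restrictSupport K {d : Fin 2 →₀ ℕ | d.degree = m} := by
  rw [homogeneousSubmodule_eq_finsupp_supported]
  rfl

theorem finrank_homog (m : ℕ) : Module.finrank K (homogeneousSubmodule (Fin 2) K m) = m + 1 := by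
  rw [homog_eq, Module.finrank_eq_nat_card_basis (basisRestrictSupport K _),
    Nat.card_congr (degEquiv m), Nat.card_fin]

instance finite_homog (m : ℕ) : Module.Finite K (homogeneousSubmodule (Fin 2) K m) :=
  Module.Finite.iff_fg.2 (homogeneousSubmodule_fg (Fin 2) K m)

theorem mul_mem_homog {k n : ℕ} (hkn : k ≤ n) {g h : MvPolynomial (Fin 2) K}
    (hg : g ∈ homogeneousSubmodule (Fin 2) K k) (hh : h ∈ homogeneousSubmodule (Fin 2) K (n - k)) :
    g * h ∈ homogeneousSubmodule (Fin 2) K n := by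
  have := IsHomogeneous.mul hg hh
  rwa [Nat.add_sub_cancel' hkn] at this

/-- The multiplication map into the quotient of degree-`n` forms by `U`. -/
noncomputable def mulQuot {k n : ℕ} (hkn : k ≤ n)
    (U' : Submodule K (homogeneousSubmodule (Fin 2) K n)) :
    homogeneousSubmodule (Fin 2) K k →ₗ[K] homogeneousSubmodule (Fin 2) K (n - k) →ₗ[K]
      (homogeneousSubmodule (Fin 2) K n ⧸ U') :=
  LinearMap.mk₂ K (fun g h => U'.mkQ ⟨g.1 * h.1, mul_mem_homog K hkn g.2 h.2⟩)
    (fun g₁ g₂ h => by
      rw [← map_add]; congr 1; apply Subtype.ext; simp [add_mul])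
    (fun c g h => by
      rw [← map_smul]; congr 1; apply Subtype.ext; simp)
    (fun g h₁ h₂ => by
      rw [← map_add]; congr 1; apply Subtype.ext; simp [mul_add])
    (fun c g h => by
      rw [← map_smul]; congr 1; apply Subtype.ext; simp)

theorem exists_secant (n r k : ℕ) (hkn : k ≤ n) (hineq : (r + 1) * (n + 1) ≤ (r + 2) * k)
    (U : Submodule K (MvPolynomial (Fin 2) K))
    (hU : U ≤ homogeneousSubmodule (Fin 2) K n)
    (hcodim : Module.finrank K ↥U + (r + 1) = n + 1) :
    ∃ g ∈ homogeneousSubmodule (Fin 2) K k, g ≠ 0 ∧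
      ∀ h ∈ homogeneousSubmodule (Fin 2) K (n - k), g * h ∈ U := by
  set U' : Submodule K (homogeneousSubmodule (Fin 2) K n) :=
    U.comap (homogeneousSubmodule (Fin 2) K n).subtype with hU'
  have h1 : Module.finrank K U' = Module.finrank K U :=
    LinearEquiv.finrank_eq (Submodule.comapSubtypeEquivOfLe hU)
  have h2 := Submodule.finrank_quotient_add_finrank U'
  rw [finrank_homog, h1] at h2
  have h3 : Module.finrank K (homogeneousSubmodule (Fin 2) K n ⧸ U') = r + 1 := by omega
  have h4 : Module.finrank K (homogeneousSubmodule (Fin 2) K (n - k) →ₗ[K]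
      (homogeneousSubmodule (Fin 2) K n ⧸ U')) = (n - k + 1) * (r + 1) := by
    rw [Module.finrank_linearMap, finrank_homog, h3]
  have h5 : (n - k + 1) * (r + 1) < k + 1 := by
    obtain ⟨a, rfl⟩ : ∃ a, n = k + a := ⟨n - k, by omega⟩
    rw [Nat.add_sub_cancel_left]
    have : (a + 1) * (r + 1) + (r + 1) * k = (r + 1) * (k + a + 1) := by ring
    have h6 : (r + 2) * k = (r + 1) * k + k := by ring
    omega
  have h7 : LinearMap.ker (mulQuot K hkn U') ≠ ⊥ := by
    apply LinearMap.ker_ne_bot_of_finrank_lt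
    rw [h4, finrank_homog]
    exact h5
  obtain ⟨g, hg, hg0⟩ := (Submodule.ne_bot_iff _).1 h7
  refine ⟨g.1, g.2, fun h0 => hg0 (Subtype.ext h0), fun h hh => ?_⟩
  have h8 : mulQuot K hkn U' g ⟨h, hh⟩ = 0 := by
    rw [LinearMap.mem_ker.1 hg, LinearMap.zero_apply]
  have h9 : U'.mkQ ⟨g.1 * h, mul_mem_homog K hkn g.2 hh⟩ = 0 := h8
  rw [Submodule.mkQ_apply, Submodule.Quotient.mk_eq_zero] at h9
  exact h9

end Groth.Agent.Lib.Helper24Binary
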