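import Mathlib
import Groth.Prelude.Def_NonAbH1

set_option autoImplicit false
set_option linter.unusedSectionVars false

universe w' w v u

open CategoryTheory Opposite

namespace Groth.Agent.Lib.Helper24CechIso

variable {C : Type u} [Category.{v} C] {J : GrothendieckTopology C} {G : Sheaf J GrpCat.{w}}

lemma map_map (P : NonAbH1.GSheaf G) {T V W : C} (f : V ⟶ T) (g : W ⟶ V)
    (x : P.P.obj.obj (op T)) :
    P.P.obj.map g.op (P.P.obj.map f.op x) = P.P.obj.map (g ≫ f).op x := by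
  rw [op_comp, Functor.map_comp]
  rfl

lemma map_id' (P : NonAbH1.GSheaf G) {T : C} (x : P.P.obj.obj (op T)) :
    P.P.obj.map (𝟙 T).op x = x := by
  rw [op_id, CategoryTheory.Functor.map_id]
  rfl

lemma sheafFor (P : NonAbH1.GSheaf G) {T : C} (S : Sieve T) (hS : S ∈ J T) :
    Presieve.IsSheafFor P.P.obj S.arrows :=
  (isSheaf_iff_isSheaf_of_type J P.P.obj).1 P.P.property S hS

section Glue

variable (P Q : NonAbH1.GSheaf G) (hP : P.IsPseudoTorsor) {I : Type w'} (U : I → C)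
  (s : ∀ i, P.P.obj.obj (op (U i))) (t : ∀ i, Q.P.obj.obj (op (U i)))
  (hst : ∀ (i j : I) ⦃T : C⦄ (a : T ⟶ U i) (b : T ⟶ U j) (g : G.obj.obj (op T)),
      P.smul g (P.P.obj.map b.op (s j)) = P.P.obj.map a.op (s i) →
      Q.smul g (Q.P.obj.map b.op (t j)) = Q.P.obj.map a.op (t i))

/-- the unique `g` with `g • s_i|_a = p` -/
noncomputable def dd {T : C} (p : P.P.obj.obj (op T)) (i : I) (a : T ⟶ U i) :
    G.obj.obj (op T) :=
  (hP (op T) (P.P.obj.map a.op (s i)) p).exists.choose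

lemma dd_spec {T : C} (p : P.P.obj.obj (op T)) (i : I) (a : T ⟶ U i) :
    P.smul (dd P hP U s p i a) (P.P.obj.map a.op (s i)) = p :=
  (hP (op T) (P.P.obj.map a.op (s i)) p).exists.choose_spec

lemma dd_unique {T : C} (p : P.P.obj.obj (op T)) (i : I) (a : T ⟶ U i)
    (g : G.obj.obj (op T)) (hg : P.smul g (P.P.obj.map a.op (s i)) = p) :
    g = dd P hP U s p i a :=
  (hP (op T) (P.P.obj.map a.op (s i)) p).unique hg (dd_spec P hP U s p i a)

/-- the local value of the morphism -/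
noncomputable def loc {T : C} (p : P.P.obj.obj (op T)) (i : I) (a : T ⟶ U i) :
    Q.P.obj.obj (op T) :=
  Q.smul (dd P hP U s p i a) (Q.P.obj.map a.op (t i))

lemma loc_res {T T' : C} (h : T' ⟶ T) (p : P.P.obj.obj (op T)) (i : I) (a : T ⟶ U i) :
    Q.P.obj.map h.op (loc P Q hP U s t p i a) =
      loc P Q hP U s t (P.P.obj.map h.op p) i (h ≫ a) := by
  have h1 : G.obj.map h.op (dd P hP U s p i a) =
      dd P hP U s (P.P.obj.map h.op p) i (h ≫ a) := by
    apply dd_unique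
    rw [← map_map P a h, ← P.map_smul, dd_spec]
  show Q.P.obj.map h.op (Q.smul _ _) = Q.smul _ _
  rw [Q.map_smul, h1, map_map Q a h]

lemma loc_smul {T : C} (g₀ : G.obj.obj (op T)) (p : P.P.obj.obj (op T)) (i : I)
    (a : T ⟶ U i) :
    loc P Q hP U s t (P.smul g₀ p) i a = Q.smul g₀ (loc P Q hP U s t p i a) := by
  have h1 : g₀ * dd P hP U s p i a = dd P hP U s (P.smul g₀ p) i a := by
    apply dd_unique
    rw [P.mul_smul, dd_spec]
  show Q.smul _ _ = Q.smul g₀ (Q.smul _ _)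
  rw [← h1, Q.mul_smul]

include hst in
lemma loc_indep {T : C} (p : P.P.obj.obj (op T)) (i j : I) (a : T ⟶ U i) (b : T ⟶ U j) :
    loc P Q hP U s t p i a = loc P Q hP U s t p j b := by
  obtain ⟨g, hg⟩ : ∃ g, g = dd P hP U s p i a := ⟨_, rfl⟩
  obtain ⟨g', hg'⟩ : ∃ g', g' = dd P hP U s p j b := ⟨_, rfl⟩
  have h1 : P.smul g (P.P.obj.map a.op (s i)) = p := by rw [hg]; exact dd_spec P hP U s p i a
  have h2 : P.smul g' (P.P.obj.map b.op (s j)) = p := by rw [hg']; exact dd_spec P hP U s p j b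
  have h3 : P.smul (g⁻¹ * g') (P.P.obj.map b.op (s j)) = P.P.obj.map a.op (s i) := by
    rw [P.mul_smul, h2]
    conv_lhs => rw [← h1]
    rw [← P.mul_smul, inv_mul_cancel, P.one_smul]
  have h4 := hst i j a b (g⁻¹ * g') h3
  show Q.smul (dd P hP U s p i a) (Q.P.obj.map a.op (t i)) =
    Q.smul (dd P hP U s p j b) (Q.P.obj.map b.op (t j))
  rw [← hg, ← hg', ← h4, ← Q.mul_smul, mul_inv_cancel_left]

/-- the family of local values -/
noncomputable def fam (V : C) (p : P.P.obj.obj (op V)) :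
    Presieve.FamilyOfElements Q.P.obj (Sieve.ofObjects U V).arrows :=
  fun T f hf =>
    have hf' : ∃ i : I, Nonempty (T ⟶ U i) := hf
    loc P Q hP U s t (P.P.obj.map f.op p) hf'.choose hf'.choose_spec.some

include hst in
lemma fam_eq (V : C) (p : P.P.obj.obj (op V)) {T : C} (f : T ⟶ V)
    (hf : (Sieve.ofObjects U V).arrows f) (i : I) (a : T ⟶ U i) :
    fam P Q hP U s t V p f hf = loc P Q hP U s t (P.P.obj.map f.op p) i a :=
  loc_indep P Q hP U s t hst (P.P.obj.map f.op p) _ i _ a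

include hst in
lemma fam_compat (V : C) (p : P.P.obj.obj (op V)) : (fam P Q hP U s t V p).Compatible := by
  rw [Presieve.compatible_iff_sieveCompatible]
  intro Y Z f g hf
  have hf' : ∃ i : I, Nonempty (Y ⟶ U i) := hf
  obtain ⟨i, ⟨a⟩⟩ := hf'
  rw [fam_eq P Q hP U s t hst V p (g ≫ f) _ i (g ≫ a), fam_eq P Q hP U s t hst V p f hf i a,
    loc_res, map_map P f g p]

/-- the glued value -/
noncomputable def phi (hU : J.CoversTop U) (V : C) (p : P.P.obj.obj (op V)) :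
    Q.P.obj.obj (op V) :=
  (sheafFor Q (Sieve.ofObjects U V) (hU V)).amalgamate (fam P Q hP U s t V p)
    (fam_compat P Q hP U s t hst V p)

lemma phi_spec (hU : J.CoversTop U) (V : C) (p : P.P.obj.obj (op V)) {T : C} (f : T ⟶ V)
    (i : I) (a : T ⟶ U i) :
    Q.P.obj.map f.op (phi P Q hP U s t hst hU V p) =
      loc P Q hP U s t (P.P.obj.map f.op p) i a := by
  have hf : (Sieve.ofObjects U V).arrows f := ⟨i, ⟨a⟩⟩
  have h := (sheafFor Q (Sieve.ofObjects U V) (hU V)).valid_glue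
    (fam_compat P Q hP U s t hst V p) f hf
  rw [fam_eq P Q hP U s t hst V p f hf i a] at h
  exact h

lemma phi_nat (hU : J.CoversTop U) {V V' : C} (h : V' ⟶ V) (p : P.P.obj.obj (op V)) :
    phi P Q hP U s t hst hU V' (P.P.obj.map h.op p) =
      Q.P.obj.map h.op (phi P Q hP U s t hst hU V p) := by
  apply (sheafFor Q (Sieve.ofObjects U V') (hU V')).isSeparatedFor.ext
  intro T f hf
  have hf' : ∃ i : I, Nonempty (T ⟶ U i) := hf
  obtain ⟨i, ⟨a⟩⟩ := hf'
  rw [phi_spec P Q hP U s t hst hU V' _ f i a, map_map Q h f,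
    phi_spec P Q hP U s t hst hU V p (f ≫ h) i a, map_map P h f]

lemma phi_smul (hU : J.CoversTop U) (V : C) (g : G.obj.obj (op V)) (p : P.P.obj.obj (op V)) :
    phi P Q hP U s t hst hU V (P.smul g p) = Q.smul g (phi P Q hP U s t hst hU V p) := by
  apply (sheafFor Q (Sieve.ofObjects U V) (hU V)).isSeparatedFor.ext
  intro T f hf
  have hf' : ∃ i : I, Nonempty (T ⟶ U i) := hf
  obtain ⟨i, ⟨a⟩⟩ := hf'
  rw [phi_spec P Q hP U s t hst hU V _ f i a, P.map_smul, loc_smul, Q.map_smul,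
    phi_spec P Q hP U s t hst hU V p f i a]

lemma phi_sec (hU : J.CoversTop U) (i : I) : phi P Q hP U s t hst hU (U i) (s i) = t i := by
  have h := phi_spec P Q hP U s t hst hU (U i) (s i) (𝟙 (U i)) i (𝟙 (U i))
  rw [map_id' Q, map_id' P] at h
  rw [h]
  have h1 : (1 : G.obj.obj (op (U i))) = dd P hP U s (s i) i (𝟙 (U i)) := by
    apply dd_unique
    rw [P.one_smul, map_id' P]
  show Q.smul _ _ = _
  rw [← h1, Q.one_smul, map_id' Q]

include hP hst in
theorem glue (hU : J.CoversTop U) :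
    ∃ Φ : P ⟶ Q, ∀ i, Φ.hom.hom.app (op (U i)) (s i) = t i := by
  refine ⟨⟨ObjectProperty.homMk
    { app := fun V => ↾fun p => phi P Q hP U s t hst hU V.unop p
      naturality := ?_ }, ?_⟩, ?_⟩
  · intro X Y f
    apply ConcreteCategory.hom_ext
    intro p
    exact phi_nat P Q hP U s t hst hU f.unop p
  · intro V g p
    exact phi_smul P Q hP U s t hst hU V.unop g p
  · intro i
    exact phi_sec P Q hP U s t hst hU i

end Glue

theorem hom_unique (P Q : NonAbH1.GSheaf G) (hP : P.IsPseudoTorsor) {I : Type w'} (U : I → C)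
    (hU : J.CoversTop U) (s : ∀ i, P.P.obj.obj (op (U i))) (Θ Θ' : P ⟶ Q)
    (h : ∀ i, Θ.hom.hom.app (op (U i)) (s i) = Θ'.hom.hom.app (op (U i)) (s i)) : Θ = Θ' := by
  have key : ∀ (V : C) (p : P.P.obj.obj (op V)),
      Θ.hom.hom.app (op V) p = Θ'.hom.hom.app (op V) p := by
    intro V p
    apply (sheafFor Q (Sieve.ofObjects U V) (hU V)).isSeparatedFor.ext
    intro T f hf
    have hf' : ∃ i : I, Nonempty (T ⟶ U i) := hf
    obtain ⟨i, ⟨a⟩⟩ := hf'
    have hn : ∀ (Ξ : P ⟶ Q), Q.P.obj.map f.op (Ξ.hom.hom.app (op V) p) =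
        Q.smul (dd P hP U s (P.P.obj.map f.op p) i a)
          (Q.P.obj.map a.op (Ξ.hom.hom.app (op (U i)) (s i))) := by
      intro Ξ
      have n1 : Ξ.hom.hom.app (op T) (P.P.obj.map f.op p) =
          Q.P.obj.map f.op (Ξ.hom.hom.app (op V) p) :=
        NatTrans.naturality_apply Ξ.hom.hom f.op p
      have n2 : Ξ.hom.hom.app (op T) (P.P.obj.map a.op (s i)) =
          Q.P.obj.map a.op (Ξ.hom.hom.app (op (U i)) (s i)) :=
        NatTrans.naturality_apply Ξ.hom.hom a.op (s i)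
      rw [← n1, ← n2, ← NonAbH1.GSheaf.Hom.map_smul Ξ, dd_spec]
    rw [hn Θ, hn Θ', h i]
  apply NonAbH1.GSheaf.hom_ext
  apply ObjectProperty.hom_ext
  apply NatTrans.ext
  funext V
  apply ConcreteCategory.hom_ext
  intro p
  exact key V.unop p

theorem s16273 {C : Type u} [Category.{v} C]
    {J : GrothendieckTopology C} {G : Sheaf J GrpCat.{w}} {I : Type w'} (U : I → C)
    (hU : J.CoversTop U) (P Q : NonAbH1.Torsor G)
    (c : PresheafOfGroups.H1 G.obj U) (hPc : P.HasCechClass U c) (hQc : Q.HasCechClass U c) :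
    Nonempty (P.toGSheaf ≅ Q.toGSheaf) := by
  obtain ⟨s, γ, hγ, hc⟩ := hPc
  obtain ⟨s', γ', hγ', hc'⟩ := hQc
  have hcoh : γ.class = γ'.class := hc.trans hc'.symm
  rw [PresheafOfGroups.OneCocycle.class_eq_iff] at hcoh
  obtain ⟨α, hα⟩ := hcoh
  obtain ⟨t, htdef⟩ : ∃ t : ∀ i, Q.P.obj.obj (op (U i)),
      t = fun i => Q.smul (α i)⁻¹ (s' i) := ⟨_, rfl⟩
  have ht : ∀ (i j : I) ⦃T : C⦄ (a : T ⟶ U i) (b : T ⟶ U j),
      Q.smul (γ.ev i j a b) (Q.P.obj.map b.op (t j)) = Q.P.obj.map a.op (t i) := by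
    intro i j T a b
    have h1 := hα i j a b
    have h2 := hγ' i j a b
    rw [htdef]
    show Q.smul (γ.ev i j a b) (Q.P.obj.map b.op (Q.smul (α j)⁻¹ (s' j))) =
      Q.P.obj.map a.op (Q.smul (α i)⁻¹ (s' i))
    rw [Q.map_smul, Q.map_smul, ← Q.mul_smul, map_inv, map_inv, ← h2, ← Q.mul_smul]
    congr 1
    rw [eq_inv_mul_iff_mul_eq, ← mul_assoc, h1, mul_assoc, mul_inv_cancel, mul_one]
  have hst : ∀ (i j : I) ⦃T : C⦄ (a : T ⟶ U i) (b : T ⟶ U j) (g : G.obj.obj (op T)),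
      P.smul g (P.P.obj.map b.op (s j)) = P.P.obj.map a.op (s i) →
      Q.smul g (Q.P.obj.map b.op (t j)) = Q.P.obj.map a.op (t i) := by
    intro i j T a b g hg
    have hgg : g = γ.ev i j a b := (P.isTorsor.1 (op T) _ _).unique hg (hγ i j a b)
    rw [hgg]
    exact ht i j a b
  have hts : ∀ (i j : I) ⦃T : C⦄ (a : T ⟶ U i) (b : T ⟶ U j) (g : G.obj.obj (op T)),
      Q.smul g (Q.P.obj.map b.op (t j)) = Q.P.obj.map a.op (t i) →
      P.smul g (P.P.obj.map b.op (s j)) = P.P.obj.map a.op (s i) := by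
    intro i j T a b g hg
    have hgg : g = γ.ev i j a b := (Q.isTorsor.1 (op T) _ _).unique hg (ht i j a b)
    rw [hgg]
    exact hγ i j a b
  obtain ⟨Φ, hΦ⟩ := glue P.toGSheaf Q.toGSheaf P.isTorsor.1 U s t hst hU
  obtain ⟨Ψ, hΨ⟩ := glue Q.toGSheaf P.toGSheaf Q.isTorsor.1 U t s hts hU
  have h1 : Φ ≫ Ψ = 𝟙 P.toGSheaf :=
    hom_unique P.toGSheaf P.toGSheaf P.isTorsor.1 U hU s _ _ (fun i => by
      show Ψ.hom.hom.app _ (Φ.hom.hom.app _ (s i)) = s i
      rw [hΦ, hΨ])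
  have h2 : Ψ ≫ Φ = 𝟙 Q.toGSheaf :=
    hom_unique Q.toGSheaf Q.toGSheaf Q.isTorsor.1 U hU t _ _ (fun i => by
      show Φ.hom.hom.app _ (Ψ.hom.hom.app _ (t i)) = t i
      rw [hΨ, hΦ])
  exact ⟨⟨Φ, Ψ, h1, h2⟩⟩

end Groth.Agent.Lib.Helper24CechIso
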