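import Mathlib
import Groth.Prelude.Def_NonAbH1
import Groth.Agent.Lib.Helper24CechIso

set_option autoImplicit false
set_option linter.unusedSectionVars false

universe w v u

open CategoryTheory Opposite
open NonAbH1.GSheaf (uSh toGrp ofGrp)

namespace Groth.Agent.Lib.Helper24Boundary

variable {C : Type u} [Category.{v} C] {J : GrothendieckTopology C}

theorem cl_eq_iff {F : Sheaf J GrpCat.{w}} (P P' : NonAbH1.Torsor F) :
    P.cl = P'.cl ↔ Nonempty (P.toGSheaf ≅ P'.toGSheaf) := by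
  constructor
  · intro h
    have h' := Quot.eqvGen_exact
      (r := fun P Q : NonAbH1.Torsor F => Nonempty (P.toGSheaf ≅ Q.toGSheaf)) h
    clear h
    induction h' with
    | rel a b hab => exact hab
    | refl a => exact ⟨Iso.refl _⟩
    | symm a b _ ih => exact ⟨ih.some.symm⟩
    | trans a b c _ _ ih1 ih2 => exact ⟨ih1.some ≪≫ ih2.some⟩
  · intro h
    exact Quot.sound h

theorem iso_of_bijective {F : Sheaf J GrpCat.{w}} {T T' : NonAbH1.GSheaf F} (Φ : T ⟶ T')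
    (hb : ∀ U : Cᵒᵖ, Function.Bijective (Φ.hom.hom.app U)) : Nonempty (T ≅ T') := by
  have hex : ∀ (U : Cᵒᵖ) (t' : T'.P.obj.obj U), ∃ t : T.P.obj.obj U, Φ.hom.hom.app U t = t' :=
    fun U t' => (hb U).2 t'
  choose ψ hψ using hex
  have hψ' : ∀ (U : Cᵒᵖ) (t : T.P.obj.obj U), ψ U (Φ.hom.hom.app U t) = t :=
    fun U t => (hb U).1 (hψ U _)
  have hnat : ∀ {U V : Cᵒᵖ} (f : U ⟶ V) (t' : T'.P.obj.obj U),
      ψ V (T'.P.obj.map f t') = T.P.obj.map f (ψ U t') := by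
    intro U V f t'
    apply (hb V).1
    rw [hψ V, NatTrans.naturality_apply Φ.hom.hom f (ψ U t'), hψ U]
  have hsm : ∀ (U : Cᵒᵖ) (g : F.obj.obj U) (t' : T'.P.obj.obj U),
      ψ U (T'.smul g t') = T.smul g (ψ U t') := by
    intro U g t'
    apply (hb U).1
    rw [hψ U, NonAbH1.GSheaf.Hom.map_smul Φ, hψ U]
  let Ψ : T' ⟶ T := ⟨ObjectProperty.homMk
    { app := fun U => ↾(ψ U)
      naturality := by
        intro U V f
        apply ConcreteCategory.hom_ext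
        intro t'
        exact hnat f t' }, fun {U} g t' => hsm U g t'⟩
  refine ⟨⟨Φ, Ψ, ?_, ?_⟩⟩
  · apply NonAbH1.GSheaf.hom_ext
    apply ObjectProperty.hom_ext
    apply NatTrans.ext
    funext U
    apply ConcreteCategory.hom_ext
    intro t
    exact hψ' U t
  · apply NonAbH1.GSheaf.hom_ext
    apply ObjectProperty.hom_ext
    apply NatTrans.ext
    funext U
    apply ConcreteCategory.hom_ext
    intro t'
    exact hψ U t'

section Triv

variable [J.HasSheafCompose (forget GrpCat.{w})] {F G : Sheaf J GrpCat.{w}}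

lemma uSh_map {U V : Cᵒᵖ} (f : U ⟶ V) (x : (uSh G).obj.obj U) :
    (uSh G).obj.map f x = ofGrp (G.obj.map f (toGrp x)) := rfl

theorem iso_trivial_of_section (T : NonAbH1.GSheaf F) (hT : T.IsPseudoTorsor)
    (τ : ∀ U : Cᵒᵖ, T.P.obj.obj U)
    (hτ : ∀ {U V : Cᵒᵖ} (f : U ⟶ V), T.P.obj.map f (τ U) = τ V) :
    Nonempty (NonAbH1.GSheaf.trivial F ≅ T) := by
  let Ψ : NonAbH1.GSheaf.trivial F ⟶ T := ⟨ObjectProperty.homMk
    { app := fun U => ↾fun x => T.smul (toGrp x) (τ U)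
      naturality := by
        intro U V f
        apply ConcreteCategory.hom_ext
        intro x
        show T.smul (toGrp ((uSh F).obj.map f x)) (τ V) =
          T.P.obj.map f (T.smul (toGrp x) (τ U))
        rw [T.map_smul, hτ f]
        rfl }, fun {U} g x => T.mul_smul g (toGrp x) (τ U)⟩
  apply iso_of_bijective Ψ
  intro U
  constructor
  · intro x y hxy
    have hxy' : T.smul (toGrp x) (τ U) = T.smul (toGrp y) (τ U) := hxy
    exact (hT U (τ U) (T.smul (toGrp y) (τ U))).unique hxy' rfl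
  · intro t
    obtain ⟨f, hf⟩ := (hT U (τ U) t).exists
    exact ⟨ofGrp f, hf⟩

theorem section_of_hom (T : NonAbH1.GSheaf F) (e : NonAbH1.GSheaf.trivial F ⟶ T) :
    ∃ τ : ∀ U : Cᵒᵖ, T.P.obj.obj U,
      ∀ {U V : Cᵒᵖ} (f : U ⟶ V), T.P.obj.map f (τ U) = τ V := by
  refine ⟨fun U => e.hom.hom.app U (ofGrp (1 : F.obj.obj U)), ?_⟩
  intro U V f
  have h := NatTrans.naturality_apply e.hom.hom f (ofGrp (1 : F.obj.obj U))
  have h1 : (NonAbH1.GSheaf.trivial F).P.obj.map f (ofGrp (1 : F.obj.obj U)) =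
      ofGrp (1 : F.obj.obj V) :=
    map_one (F.obj.map f).hom
  rw [h1] at h
  exact h.symm

theorem fibre_isTorsor (u : F ⟶ G) (hu : ∀ U : Cᵒᵖ, Function.Injective (u.hom.app U))
    {Q : NonAbH1.GSheaf G} (π : NonAbH1.GSheaf.trivial G ⟶ Q)
    (hQ : NonAbH1.GSheaf.IsQuotientBy u π) (c : Q.P.obj.sections) (T : NonAbH1.GSheaf F)
    (hT : NonAbH1.GSheaf.IsFibreOver u π c T) : T.IsTorsor := by
  obtain ⟨ι, hι1, hι2, hι3⟩ := hT
  obtain ⟨hQ1, hQ2⟩ := hQ
  constructor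
  · intro U t t'
    have h1 : π.hom.hom.app U (ofGrp (toGrp (ι.hom.app U t))) = c.1 U :=
      (hι2 U _).mp ⟨t, rfl⟩
    have h2 : π.hom.hom.app U (ofGrp (toGrp (ι.hom.app U t'))) = c.1 U :=
      (hι2 U _).mp ⟨t', rfl⟩
    obtain ⟨f, hf⟩ := (hQ1 U (toGrp (ι.hom.app U t)) (toGrp (ι.hom.app U t'))).mp
      (h1.trans h2.symm)
    refine ⟨f⁻¹, ?_, ?_⟩
    · show T.smul f⁻¹ t = t'
      apply hι1 U
      have h3 := hι3 U f⁻¹ t
      rw [map_inv, inv_inv] at h3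
      exact h3.trans hf.symm
    · intro f' hf'
      have hf'' : T.smul f' t = t' := hf'
      have h3 := hι3 U f' t
      rw [hf'', hf] at h3
      have h4 : u.hom.app U f = (u.hom.app U f')⁻¹ := mul_left_cancel h3
      apply hu U
      rw [map_inv, h4, inv_inv]
  · intro U
    obtain ⟨S, hS, hS'⟩ := hQ2 U (c.1 (op U))
    refine ⟨S, hS, fun V a ha => ?_⟩
    obtain ⟨g, hg⟩ := hS' a ha
    have hc : Q.P.obj.map a.op (c.1 (op U)) = c.1 (op V) := c.2 a.op
    obtain ⟨t, -⟩ := (hι2 (op V) g).mpr (hg.trans hc)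
    exact ⟨t⟩

theorem s8558 (u : F ⟶ G) (hu : ∀ U : Cᵒᵖ, Function.Injective (u.hom.app U))
    {Q : NonAbH1.GSheaf G} (π : NonAbH1.GSheaf.trivial G ⟶ Q)
    (hQ : NonAbH1.GSheaf.IsQuotientBy u π)
    (c : Q.P.obj.sections) (T : NonAbH1.Torsor F)
    (hT : NonAbH1.GSheaf.IsFibreOver u π c T.toGSheaf) :
    T.cl = 1 ↔
      ∃ g : (uSh G).obj.sections, ∀ U : Cᵒᵖ, π.hom.hom.app U (g.1 U) = c.1 U := by
  obtain ⟨ι, hι1, hι2, hι3⟩ := hT
  constructor
  · intro h
    have h' : T.cl = (NonAbH1.trivialTorsor F).cl := h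
    obtain ⟨e⟩ := (cl_eq_iff T (NonAbH1.trivialTorsor F)).mp h'
    obtain ⟨τ, hτ⟩ := section_of_hom T.toGSheaf e.inv
    refine ⟨⟨fun U => ι.hom.app U (τ U), ?_⟩, ?_⟩
    · intro U V f
      show (uSh G).obj.map f (ι.hom.app U (τ U)) = ι.hom.app V (τ V)
      rw [← hτ f]
      exact (NatTrans.naturality_apply ι.hom f (τ U)).symm
    · intro U
      exact (hι2 U (toGrp (ι.hom.app U (τ U)))).mp ⟨τ U, rfl⟩
  · rintro ⟨g, hg⟩
    have hex : ∀ U : Cᵒᵖ, ∃ t : T.P.obj.obj U,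
        toGrp (ι.hom.app U t) = toGrp (g.1 U) :=
      fun U => (hι2 U (toGrp (g.1 U))).mpr (hg U)
    choose τ hτ using hex
    have hcompat : ∀ {U V : Cᵒᵖ} (f : U ⟶ V), T.P.obj.map f (τ U) = τ V := by
      intro U V f
      apply hι1 V
      rw [NatTrans.naturality_apply ι.hom f (τ U)]
      have h1 : ι.hom.app U (τ U) = g.1 U := hτ U
      have h2 : ι.hom.app V (τ V) = g.1 V := hτ V
      rw [h1, h2]
      exact g.2 f
    obtain ⟨e⟩ := iso_trivial_of_section T.toGSheaf T.isTorsor.1 τ hcompat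
    have h3 : T.cl = (NonAbH1.trivialTorsor F).cl :=
      (cl_eq_iff T (NonAbH1.trivialTorsor F)).mpr ⟨e.symm⟩
    exact h3

end Triv

end Groth.Agent.Lib.Helper24Boundary
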