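import Mathlib
import Groth.Prelude.Def_NonAbH1
import Groth.Agent.Lib.Helper24Boundary

set_option autoImplicit false
set_option linter.unusedSectionVars false

universe w v u

open CategoryTheory Opposite
open NonAbH1.GSheaf (uSh toGrp ofGrp)

namespace Groth.Agent.Lib.Helper24Boundary2

open Groth.Agent.Lib.Helper24Boundary
open Groth.Agent.Lib

variable {C : Type u} [Category.{v} C] {J : GrothendieckTopology C}

/-- Glue a global section of a sheaf of sets from a family indexed by the local sections of a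
locally nonempty `T`. -/
theorem glue_section {F : Sheaf J GrpCat.{w}} (T : NonAbH1.GSheaf F) (hT : T.LocallyNonempty)
    (R : Sheaf J (Type w))
    (x : ∀ (V : C), T.P.obj.obj (op V) → R.obj.obj (op V))
    (hx : ∀ (V W : C) (f : W ⟶ V) (t : T.P.obj.obj (op V)) (t' : T.P.obj.obj (op W)),
      R.obj.map f.op (x V t) = x W t') :
    ∃ s : R.obj.sections, ∀ (V : C) (t : T.P.obj.obj (op V)), s.1 (op V) = x V t := by
  let Y : (Σ V : C, T.P.obj.obj (op V)) → C := fun i => i.1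
  let xx : Presheaf.FamilyOfElementsOnObjects R.obj Y := fun i => x i.1 i.2
  have hxx : xx.IsCompatible := by
    intro Z i j f g
    have h1 : R.obj.map f.op (x i.1 i.2) = x Z (T.P.obj.map f.op i.2) := hx i.1 Z f i.2 _
    have h2 : R.obj.map g.op (x j.1 j.2) = x Z (T.P.obj.map f.op i.2) := hx j.1 Z g j.2 _
    exact h1.trans h2.symm
  have hY : J.CoversTop Y := by
    intro X
    obtain ⟨S, hS, hS'⟩ := hT X
    refine J.superset_covering ?_ hS
    intro V f hf
    obtain ⟨t⟩ := hS' f hf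
    exact ⟨⟨V, t⟩, ⟨𝟙 V⟩⟩
  obtain ⟨s, hs, -⟩ := hxx.existsUnique_section hY R.property
  exact ⟨s, fun V t => hs ⟨V, t⟩⟩

variable [J.HasSheafCompose (forget GrpCat.{w})] {F G : Sheaf J GrpCat.{w}}

theorem iso_of_embeddings (u : F ⟶ G) (T T' : NonAbH1.GSheaf F)
    (ι : T.P ⟶ uSh G) (ι' : T'.P ⟶ uSh G)
    (hι : ∀ U : Cᵒᵖ, Function.Injective (ι.hom.app U))
    (hι' : ∀ U : Cᵒᵖ, Function.Injective (ι'.hom.app U))
    (γ : (uSh G).obj.sections)
    (h12 : ∀ (U : Cᵒᵖ) (t : T.P.obj.obj U), ∃ t' : T'.P.obj.obj U,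
      toGrp (ι'.hom.app U t') = toGrp (γ.1 U) * toGrp (ι.hom.app U t))
    (h21 : ∀ (U : Cᵒᵖ) (t' : T'.P.obj.obj U), ∃ t : T.P.obj.obj U,
      toGrp (ι'.hom.app U t') = toGrp (γ.1 U) * toGrp (ι.hom.app U t))
    (h3 : ∀ (U : Cᵒᵖ) (f : F.obj.obj U) (t : T.P.obj.obj U),
      toGrp (ι.hom.app U (T.smul f t)) = toGrp (ι.hom.app U t) * (u.hom.app U f)⁻¹)
    (h3' : ∀ (U : Cᵒᵖ) (f : F.obj.obj U) (t : T'.P.obj.obj U),
      toGrp (ι'.hom.app U (T'.smul f t)) = toGrp (ι'.hom.app U t) * (u.hom.app U f)⁻¹) :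
    Nonempty (T ≅ T') := by
  choose a ha using h12
  have hnat : ∀ {U V : Cᵒᵖ} (f : U ⟶ V) (t : T.P.obj.obj U),
      a V (T.P.obj.map f t) = T'.P.obj.map f (a U t) := by
    intro U V f t
    apply hι' V
    have e1 : toGrp (ι'.hom.app V (a V (T.P.obj.map f t))) =
        toGrp (γ.1 V) * toGrp (ι.hom.app V (T.P.obj.map f t)) := ha V _
    have e2 : toGrp (ι.hom.app V (T.P.obj.map f t)) = G.obj.map f (toGrp (ι.hom.app U t)) :=
      NatTrans.naturality_apply ι.hom f t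
    have e3 : toGrp (ι'.hom.app V (T'.P.obj.map f (a U t))) =
        G.obj.map f (toGrp (ι'.hom.app U (a U t))) :=
      NatTrans.naturality_apply ι'.hom f (a U t)
    have e4 : G.obj.map f (toGrp (γ.1 U)) = toGrp (γ.1 V) := γ.2 f
    show toGrp (ι'.hom.app V (a V (T.P.obj.map f t))) =
      toGrp (ι'.hom.app V (T'.P.obj.map f (a U t)))
    rw [e1, e2, e3, ha U t, map_mul, e4]
  have hsm : ∀ (U : Cᵒᵖ) (f : F.obj.obj U) (t : T.P.obj.obj U),
      a U (T.smul f t) = T'.smul f (a U t) := by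
    intro U f t
    apply hι' U
    show toGrp (ι'.hom.app U (a U (T.smul f t))) = toGrp (ι'.hom.app U (T'.smul f (a U t)))
    rw [ha U (T.smul f t), h3 U f t, h3' U f (a U t), ha U t, mul_assoc]
  let Φ : T ⟶ T' := ⟨ObjectProperty.homMk
    { app := fun U => ↾(a U)
      naturality := by
        intro U V f
        apply ConcreteCategory.hom_ext
        intro t
        exact hnat f t }, fun {U} g t => hsm U g t⟩
  apply iso_of_bijective Φ
  intro U
  constructor
  · intro t₁ t₂ h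
    have h' : a U t₁ = a U t₂ := h
    apply hι U
    have e1 := ha U t₁
    have e2 := ha U t₂
    rw [h'] at e1
    have h5 : toGrp (ι.hom.app U t₁) = toGrp (ι.hom.app U t₂) :=
      mul_left_cancel (e1.symm.trans e2)
    exact h5
  · intro t'
    obtain ⟨t, ht⟩ := h21 U t'
    refine ⟨t, ?_⟩
    apply hι' U
    exact (ha U t).trans ht.symm

theorem s8557 (u : F ⟶ G) (hu : ∀ U : Cᵒᵖ, Function.Injective (u.hom.app U))
    {Q : NonAbH1.GSheaf G} (π : NonAbH1.GSheaf.trivial G ⟶ Q)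
    (hQ : NonAbH1.GSheaf.IsQuotientBy u π)
    (c c' : Q.P.obj.sections) (T T' : NonAbH1.GSheaf F)
    (hT : NonAbH1.GSheaf.IsFibreOver u π c T) (hT' : NonAbH1.GSheaf.IsFibreOver u π c' T') :
    Nonempty (T ≅ T') ↔
      ∃ g : (uSh G).obj.sections,
        ∀ U : Cᵒᵖ, Q.smul (toGrp (g.1 U)) (c.1 U) = c'.1 U := by
  have hTt : T.IsTorsor := fibre_isTorsor u hu π hQ c T hT
  obtain ⟨ι, hι1, hι2, hι3⟩ := hT
  obtain ⟨ι', hι1', hι2', hι3'⟩ := hT'
  constructor
  · rintro ⟨e⟩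
    have hind : ∀ (U : Cᵒᵖ) (t₁ t₂ : T.P.obj.obj U),
        toGrp (ι'.hom.app U (e.hom.hom.hom.app U t₂)) * (toGrp (ι.hom.app U t₂))⁻¹ =
        toGrp (ι'.hom.app U (e.hom.hom.hom.app U t₁)) * (toGrp (ι.hom.app U t₁))⁻¹ := by
      intro U t₁ t₂
      obtain ⟨φ, hφ, -⟩ := hTt.1 U t₁ t₂
      have hφ' : T.smul φ t₁ = t₂ := hφ
      subst hφ'
      have b2 : e.hom.hom.hom.app U (T.smul φ t₁) = T'.smul φ (e.hom.hom.hom.app U t₁) :=
        NonAbH1.GSheaf.Hom.map_smul e.hom φ t₁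
      rw [b2, hι3' U φ, hι3 U φ t₁, mul_inv_rev, inv_inv, mul_assoc, inv_mul_cancel_left]
    have hnat : ∀ {U V : Cᵒᵖ} (f : U ⟶ V) (t : T.P.obj.obj U),
        G.obj.map f (toGrp (ι'.hom.app U (e.hom.hom.hom.app U t)) *
          (toGrp (ι.hom.app U t))⁻¹) =
        toGrp (ι'.hom.app V (e.hom.hom.hom.app V (T.P.obj.map f t))) *
          (toGrp (ι.hom.app V (T.P.obj.map f t)))⁻¹ := by
      intro U V f t
      have a1 : toGrp (ι.hom.app V (T.P.obj.map f t)) = G.obj.map f (toGrp (ι.hom.app U t)) :=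
        NatTrans.naturality_apply ι.hom f t
      have a2 : e.hom.hom.hom.app V (T.P.obj.map f t) =
          T'.P.obj.map f (e.hom.hom.hom.app U t) :=
        NatTrans.naturality_apply e.hom.hom.hom f t
      have a3 : toGrp (ι'.hom.app V (T'.P.obj.map f (e.hom.hom.hom.app U t))) =
          G.obj.map f (toGrp (ι'.hom.app U (e.hom.hom.hom.app U t))) :=
        NatTrans.naturality_apply ι'.hom f _
      rw [a2, a3, a1, map_mul, map_inv]
    obtain ⟨s, hs⟩ := glue_section T hTt.2 (uSh G)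
      (fun V t => ofGrp (toGrp (ι'.hom.app (op V) (e.hom.hom.hom.app (op V) t)) *
        (toGrp (ι.hom.app (op V) t))⁻¹))
      (by
        intro V W f t t'
        show G.obj.map f.op (toGrp (ι'.hom.app (op V) (e.hom.hom.hom.app (op V) t)) *
          (toGrp (ι.hom.app (op V) t))⁻¹) = _
        rw [hnat f.op t]
        exact hind (op W) t' (T.P.obj.map f.op t))
    have key : ∀ (V : C) (t : T.P.obj.obj (op V)),
        Q.smul (toGrp (s.1 (op V))) (c.1 (op V)) = c'.1 (op V) := by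
      intro V t
      have h1 : π.hom.hom.app (op V) (ofGrp (toGrp (ι.hom.app (op V) t))) = c.1 (op V) :=
        (hι2 (op V) _).mp ⟨t, rfl⟩
      have h2 : π.hom.hom.app (op V)
          (ofGrp (toGrp (ι'.hom.app (op V) (e.hom.hom.hom.app (op V) t)))) = c'.1 (op V) :=
        (hι2' (op V) _).mp ⟨_, rfl⟩
      have h3 := NonAbH1.GSheaf.Hom.map_smul π (toGrp (s.1 (op V)))
        (ofGrp (toGrp (ι.hom.app (op V) t)))
      have h4 : (NonAbH1.GSheaf.trivial G).smul (toGrp (s.1 (op V)))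
          (ofGrp (toGrp (ι.hom.app (op V) t))) =
          ofGrp (toGrp (ι'.hom.app (op V) (e.hom.hom.hom.app (op V) t))) := by
        show toGrp (s.1 (op V)) * toGrp (ι.hom.app (op V) t) =
          toGrp (ι'.hom.app (op V) (e.hom.hom.hom.app (op V) t))
        rw [hs V t]
        exact inv_mul_cancel_right _ _
      have h5 : Q.smul (toGrp (s.1 (op V)))
          (π.hom.hom.app (op V) (ofGrp (toGrp (ι.hom.app (op V) t)))) = c'.1 (op V) :=
        h3.symm.trans ((congrArg (fun z => π.hom.hom.app (op V) z) h4).trans h2)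
      rw [h1] at h5
      exact h5
    refine ⟨s, fun U => ?_⟩
    obtain ⟨U⟩ := U
    obtain ⟨S, hS, hS'⟩ := hTt.2 U
    apply (Helper24CechIso.sheafFor Q S hS).isSeparatedFor.ext
    intro V a ha
    obtain ⟨t⟩ := hS' a ha
    have e1 : G.obj.map a.op (toGrp (s.1 (op U))) = toGrp (s.1 (op V)) := s.2 a.op
    have e2 : Q.P.obj.map a.op (c.1 (op U)) = c.1 (op V) := c.2 a.op
    have e3 : Q.P.obj.map a.op (c'.1 (op U)) = c'.1 (op V) := c'.2 a.op
    rw [Q.map_smul, e1, e2, e3]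
    exact key V t
  · rintro ⟨g, hg⟩
    have h12 : ∀ (U : Cᵒᵖ) (t : T.P.obj.obj U), ∃ t' : T'.P.obj.obj U,
        toGrp (ι'.hom.app U t') = toGrp (g.1 U) * toGrp (ι.hom.app U t) := by
      intro U t
      apply (hι2' U (toGrp (g.1 U) * toGrp (ι.hom.app U t))).mpr
      have h1 : π.hom.hom.app U (ofGrp (toGrp (ι.hom.app U t))) = c.1 U :=
        (hι2 U _).mp ⟨t, rfl⟩
      have h2 := NonAbH1.GSheaf.Hom.map_smul π (toGrp (g.1 U))
        (ofGrp (toGrp (ι.hom.app U t)))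
      exact (h2.trans (congrArg (Q.smul (toGrp (g.1 U))) h1)).trans (hg U)
    have h21 : ∀ (U : Cᵒᵖ) (t' : T'.P.obj.obj U), ∃ t : T.P.obj.obj U,
        toGrp (ι'.hom.app U t') = toGrp (g.1 U) * toGrp (ι.hom.app U t) := by
      intro U t'
      have h1 : π.hom.hom.app U (ofGrp (toGrp (ι'.hom.app U t'))) = c'.1 U :=
        (hι2' U _).mp ⟨t', rfl⟩
      have h2 := NonAbH1.GSheaf.Hom.map_smul π (toGrp (g.1 U))⁻¹
        (ofGrp (toGrp (ι'.hom.app U t')))
      have h3 : π.hom.hom.app U (ofGrp ((toGrp (g.1 U))⁻¹ * toGrp (ι'.hom.app U t'))) =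
          c.1 U := by
        refine (h2.trans (congrArg (Q.smul (toGrp (g.1 U))⁻¹) h1)).trans ?_
        rw [← hg U, ← Q.mul_smul, inv_mul_cancel, Q.one_smul]
      obtain ⟨t, ht⟩ := (hι2 U _).mpr h3
      refine ⟨t, ?_⟩
      rw [ht, mul_inv_cancel_left]
    exact iso_of_embeddings u T T' ι ι' hι1 hι1' g h12 h21 hι3 hι3'

/-! ### The fibre as a construction -/

section Fibre

abbrev FibObj {Q : NonAbH1.GSheaf G} (π : NonAbH1.GSheaf.trivial G ⟶ Q)
    (c : Q.P.obj.sections) (U : Cᵒᵖ) : Type w :=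
  {g : G.obj.obj U // π.hom.hom.app U (ofGrp g) = c.1 U}

lemma fib_map_mem {Q : NonAbH1.GSheaf G} (π : NonAbH1.GSheaf.trivial G ⟶ Q)
    (c : Q.P.obj.sections) {U V : Cᵒᵖ} (f : U ⟶ V) (g : G.obj.obj U)
    (hg : π.hom.hom.app U (ofGrp g) = c.1 U) :
    π.hom.hom.app V (ofGrp (G.obj.map f g)) = c.1 V := by
  have h := NatTrans.naturality_apply π.hom.hom f (ofGrp g)
  exact (h.trans (congrArg (fun z => Q.P.obj.map f z) hg)).trans (c.2 f)

def fibMap {Q : NonAbH1.GSheaf G} (π : NonAbH1.GSheaf.trivial G ⟶ Q)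
    (c : Q.P.obj.sections) {U V : Cᵒᵖ} (f : U ⟶ V) (x : FibObj π c U) : FibObj π c V :=
  ⟨G.obj.map f x.1, fib_map_mem π c f x.1 x.2⟩

def fibPresheaf {Q : NonAbH1.GSheaf G} (π : NonAbH1.GSheaf.trivial G ⟶ Q)
    (c : Q.P.obj.sections) : Cᵒᵖ ⥤ Type w where
  obj U := FibObj π c U
  map f := ↾(fibMap π c f)
  map_id U := by
    apply ConcreteCategory.hom_ext
    intro x
    apply Subtype.ext
    show G.obj.map (𝟙 U) x.1 = x.1
    rw [G.obj.map_id]
    rfl
  map_comp f g := by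
    apply ConcreteCategory.hom_ext
    intro x
    apply Subtype.ext
    show G.obj.map (f ≫ g) x.1 = G.obj.map g (G.obj.map f x.1)
    rw [G.obj.map_comp]
    rfl

lemma fibPresheaf_isSheaf {Q : NonAbH1.GSheaf G} (π : NonAbH1.GSheaf.trivial G ⟶ Q)
    (c : Q.P.obj.sections) : Presheaf.IsSheaf J (fibPresheaf π c) := by
  rw [isSheaf_iff_isSheaf_of_type]
  intro X S hS x hx
  have hG : Presieve.IsSheafFor (uSh G).obj S.arrows :=
    (isSheaf_iff_isSheaf_of_type J _).1 (uSh G).property S hS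
  obtain ⟨y, hydef⟩ : ∃ y : Presieve.FamilyOfElements (uSh G).obj S.arrows,
      ∀ ⦃V : C⦄ (f : V ⟶ X) (hf : S.arrows f), y f hf = ofGrp (x f hf).1 :=
    ⟨fun V f hf => ofGrp (x f hf).1, fun _ _ _ => rfl⟩
  have hy : y.Compatible := by
    intro Y₁ Y₂ Z g₁ g₂ f₁ f₂ h₁ h₂ comm
    have h := hx g₁ g₂ h₁ h₂ comm
    rw [hydef f₁ h₁, hydef f₂ h₂]
    exact congrArg Subtype.val h
  have hval : ∀ ⦃V : C⦄ (f : V ⟶ X) (hf : S.arrows f),
      (uSh G).obj.map f.op (hG.amalgamate y hy) = y f hf := fun V f hf => hG.valid_glue hy f hf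
  have hmem : π.hom.hom.app (op X) (hG.amalgamate y hy) = c.1 (op X) := by
    apply (Helper24CechIso.sheafFor Q S hS).isSeparatedFor.ext
    intro V f hf
    have h1 := NatTrans.naturality_apply π.hom.hom f.op (hG.amalgamate y hy)
    have h2 : (NonAbH1.GSheaf.trivial G).P.obj.map f.op (hG.amalgamate y hy) =
        ofGrp (x f hf).1 := (hval f hf).trans (hydef f hf)
    have h3 : π.hom.hom.app (op V) (ofGrp (x f hf).1) =
        Q.P.obj.map f.op (π.hom.hom.app (op X) (hG.amalgamate y hy)) :=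
      (congrArg (fun z => π.hom.hom.app (op V) z) h2).symm.trans h1
    exact h3.symm.trans (((x f hf).2).trans (c.2 f.op).symm)
  refine ⟨(⟨toGrp (hG.amalgamate y hy), hmem⟩ : FibObj π c (op X)), ?_, ?_⟩
  · intro V f hf
    apply Subtype.ext
    show G.obj.map f.op (toGrp (hG.amalgamate y hy)) = (x f hf).1
    exact (hval f hf).trans (hydef f hf)
  · intro t ht
    apply Subtype.ext
    show t.1 = toGrp (hG.amalgamate y hy)
    apply hG.isSeparatedFor.ext
    intro V f hf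
    exact (congrArg Subtype.val (ht f hf)).trans ((hval f hf).trans (hydef f hf)).symm

lemma fib_smul_mem (u : F ⟶ G) {Q : NonAbH1.GSheaf G} (π : NonAbH1.GSheaf.trivial G ⟶ Q)
    (c : Q.P.obj.sections)
    (hQ1 : ∀ (U : Cᵒᵖ) (g g' : G.obj.obj U),
      π.hom.hom.app U (ofGrp g) = π.hom.hom.app U (ofGrp g') ↔
        ∃ f : F.obj.obj U, g' = g * u.hom.app U f)
    {U : Cᵒᵖ} (f : F.obj.obj U) (g : G.obj.obj U)
    (hg : π.hom.hom.app U (ofGrp g) = c.1 U) :
    π.hom.hom.app U (ofGrp (g * (u.hom.app U f)⁻¹)) = c.1 U := by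
  have h := (hQ1 U g (g * (u.hom.app U f)⁻¹)).mpr ⟨f⁻¹, by rw [map_inv]⟩
  exact h.symm.trans hg

def fibSmul (u : F ⟶ G) {Q : NonAbH1.GSheaf G} (π : NonAbH1.GSheaf.trivial G ⟶ Q)
    (c : Q.P.obj.sections)
    (hQ1 : ∀ (U : Cᵒᵖ) (g g' : G.obj.obj U),
      π.hom.hom.app U (ofGrp g) = π.hom.hom.app U (ofGrp g') ↔
        ∃ f : F.obj.obj U, g' = g * u.hom.app U f)
    {U : Cᵒᵖ} (f : F.obj.obj U) (x : FibObj π c U) : FibObj π c U :=
  ⟨x.1 * (u.hom.app U f)⁻¹, fib_smul_mem u π c hQ1 f x.1 x.2⟩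

def fibGSheaf (u : F ⟶ G) {Q : NonAbH1.GSheaf G} (π : NonAbH1.GSheaf.trivial G ⟶ Q)
    (c : Q.P.obj.sections)
    (hQ1 : ∀ (U : Cᵒᵖ) (g g' : G.obj.obj U),
      π.hom.hom.app U (ofGrp g) = π.hom.hom.app U (ofGrp g') ↔
        ∃ f : F.obj.obj U, g' = g * u.hom.app U f) : NonAbH1.GSheaf F where
  P := ⟨fibPresheaf π c, fibPresheaf_isSheaf π c⟩
  smul {U} f x := fibSmul u π c hQ1 f x
  one_smul {U} x := by
    apply Subtype.ext
    show x.1 * (u.hom.app U 1)⁻¹ = x.1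
    rw [map_one, inv_one, mul_one]
  mul_smul {U} f h x := by
    apply Subtype.ext
    show x.1 * (u.hom.app U (f * h))⁻¹ = x.1 * (u.hom.app U h)⁻¹ * (u.hom.app U f)⁻¹
    rw [map_mul, mul_inv_rev, mul_assoc]
  map_smul {U V} φ f x := by
    apply Subtype.ext
    show G.obj.map φ (x.1 * (u.hom.app U f)⁻¹) =
      G.obj.map φ x.1 * (u.hom.app V (F.obj.map φ f))⁻¹
    have hn : u.hom.app V (F.obj.map φ f) = G.obj.map φ (u.hom.app U f) :=
      NatTrans.naturality_apply u.hom φ f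
    rw [hn, map_mul, map_inv]

def fibι (u : F ⟶ G) {Q : NonAbH1.GSheaf G} (π : NonAbH1.GSheaf.trivial G ⟶ Q)
    (c : Q.P.obj.sections)
    (hQ1 : ∀ (U : Cᵒᵖ) (g g' : G.obj.obj U),
      π.hom.hom.app U (ofGrp g) = π.hom.hom.app U (ofGrp g') ↔
        ∃ f : F.obj.obj U, g' = g * u.hom.app U f) :
    (fibGSheaf u π c hQ1).P ⟶ uSh G :=
  ObjectProperty.homMk
    { app := fun U => ↾fun (x : FibObj π c U) => (ofGrp x.1 : (uSh G).obj.obj U)
      naturality := by
        intro U V f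
        apply ConcreteCategory.hom_ext
        intro x
        rfl }

theorem fib_isFibreOver (u : F ⟶ G) {Q : NonAbH1.GSheaf G}
    (π : NonAbH1.GSheaf.trivial G ⟶ Q) (c : Q.P.obj.sections)
    (hQ1 : ∀ (U : Cᵒᵖ) (g g' : G.obj.obj U),
      π.hom.hom.app U (ofGrp g) = π.hom.hom.app U (ofGrp g') ↔
        ∃ f : F.obj.obj U, g' = g * u.hom.app U f) :
    NonAbH1.GSheaf.IsFibreOver u π c (fibGSheaf u π c hQ1) := by
  refine ⟨fibι u π c hQ1, ?_, ?_, ?_⟩
  · intro U x y h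
    exact Subtype.ext h
  · intro U g
    constructor
    · rintro ⟨t, rfl⟩
      exact t.2
    · intro h
      exact ⟨(⟨g, h⟩ : FibObj π c U), rfl⟩
  · intro U f t
    rfl

end Fibre

theorem s8555 (u : F ⟶ G) (hu : ∀ U : Cᵒᵖ, Function.Injective (u.hom.app U))
    {Q : NonAbH1.GSheaf G} (π : NonAbH1.GSheaf.trivial G ⟶ Q)
    (hQ : NonAbH1.GSheaf.IsQuotientBy u π) (c : Q.P.obj.sections) :
    (∃ T : NonAbH1.Torsor F, NonAbH1.GSheaf.IsFibreOver u π c T.toGSheaf) ∧
      (∀ T : NonAbH1.GSheaf F, NonAbH1.GSheaf.IsFibreOver u π c T → T.IsTorsor) ∧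
      ∀ T T' : NonAbH1.GSheaf F, NonAbH1.GSheaf.IsFibreOver u π c T →
        NonAbH1.GSheaf.IsFibreOver u π c T' → Nonempty (T ≅ T') := by
  refine ⟨?_, fun T hT => fibre_isTorsor u hu π hQ c T hT, fun T T' hT hT' => ?_⟩
  · have hfib : NonAbH1.GSheaf.IsFibreOver u π c (fibGSheaf u π c hQ.1) :=
      fib_isFibreOver u π c hQ.1
    exact ⟨⟨fibGSheaf u π c hQ.1, fibre_isTorsor u hu π hQ c _ hfib⟩, hfib⟩
  · refine (s8557 u hu π hQ c c T T' hT hT').mpr
      ⟨⟨fun U => ofGrp (1 : G.obj.obj U), ?_⟩, fun U => Q.one_smul _⟩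
    intro U V f
    exact map_one (G.obj.map f).hom

theorem s8556' (u : F ⟶ G) (hu : ∀ U : Cᵒᵖ, Function.Injective (u.hom.app U))
    {Q : NonAbH1.GSheaf G} (π : NonAbH1.GSheaf.trivial G ⟶ Q)
    (hQ : NonAbH1.GSheaf.IsQuotientBy u π) (T : NonAbH1.GSheaf F) (hT : T.IsTorsor) :
    NonAbH1.GSheaf.IsPushforwardAlong u T (NonAbH1.GSheaf.trivial G) ↔
      ∃ c : Q.P.obj.sections, NonAbH1.GSheaf.IsFibreOver u π c T := by
  constructor
  · rintro ⟨f, hf⟩
    obtain ⟨hQ1, hQ2⟩ := hQ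
    have hf' : ∀ (U : Cᵒᵖ) (g : F.obj.obj U) (p : T.P.obj.obj U),
        toGrp (G := G) (f.hom.app U (T.smul g p)) =
          u.hom.app U g * toGrp (G := G) (f.hom.app U p) := hf
    have hfnat : ∀ {U V : Cᵒᵖ} (φ : U ⟶ V) (t : T.P.obj.obj U),
        toGrp (G := G) (f.hom.app V (T.P.obj.map φ t)) =
          G.obj.map φ (toGrp (G := G) (f.hom.app U t)) :=
      fun φ t => NatTrans.naturality_apply f.hom φ t
    obtain ⟨ι, hιdef⟩ : ∃ ι : T.P ⟶ uSh G, ∀ (U : Cᵒᵖ) (t : T.P.obj.obj U),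
        toGrp (ι.hom.app U t) = (toGrp (G := G) (f.hom.app U t))⁻¹ :=
      ⟨ObjectProperty.homMk
        { app := fun U => ↾fun t => ofGrp (toGrp (G := G) (f.hom.app U t))⁻¹
          naturality := by
            intro U V φ
            apply ConcreteCategory.hom_ext
            intro t
            have h2 : (toGrp (G := G) (f.hom.app V (T.P.obj.map φ t)))⁻¹ =
                G.obj.map φ (toGrp (G := G) (f.hom.app U t))⁻¹ := by
              rw [hfnat φ t, map_inv]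
            exact h2 }, fun U t => rfl⟩
    have hι1 : ∀ U : Cᵒᵖ, Function.Injective (ι.hom.app U) := by
      intro U t₁ t₂ h
      have h' : toGrp (ι.hom.app U t₁) = toGrp (ι.hom.app U t₂) := h
      rw [hιdef, hιdef] at h'
      have h'' := inv_injective h'
      obtain ⟨g, hg, -⟩ := hT.1 U t₁ t₂
      have hg' : T.smul g t₁ = t₂ := hg
      have h3 := hf' U g t₁
      rw [hg', ← h''] at h3
      have h4 : u.hom.app U g = 1 := by
        have h5 : 1 * toGrp (G := G) (f.hom.app U t₁) =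
            u.hom.app U g * toGrp (G := G) (f.hom.app U t₁) := by
          rw [one_mul]
          exact h3
        exact (mul_right_cancel h5).symm
      have h6 : g = 1 := hu U (h4.trans (map_one (u.hom.app U).hom).symm)
      rw [← hg', h6, T.one_smul]
    have hι3 : ∀ (U : Cᵒᵖ) (g : F.obj.obj U) (t : T.P.obj.obj U),
        toGrp (ι.hom.app U (T.smul g t)) = toGrp (ι.hom.app U t) * (u.hom.app U g)⁻¹ := by
      intro U g t
      rw [hιdef, hιdef, hf' U g t, mul_inv_rev]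
    have hιnat : ∀ {U V : Cᵒᵖ} (φ : U ⟶ V) (t : T.P.obj.obj U),
        toGrp (ι.hom.app V (T.P.obj.map φ t)) = G.obj.map φ (toGrp (ι.hom.app U t)) :=
      fun φ t => NatTrans.naturality_apply ι.hom φ t
    have hπnat : ∀ {U V : Cᵒᵖ} (φ : U ⟶ V) (g : G.obj.obj U),
        π.hom.hom.app V (ofGrp (G.obj.map φ g)) =
          Q.P.obj.map φ (π.hom.hom.app U (ofGrp g)) :=
      fun φ g => NatTrans.naturality_apply π.hom.hom φ (ofGrp g)
    have hπι : ∀ (U : Cᵒᵖ) (t₀ t' : T.P.obj.obj U),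
        π.hom.hom.app U (ofGrp (toGrp (ι.hom.app U t₀))) =
          π.hom.hom.app U (ofGrp (toGrp (ι.hom.app U t'))) := by
      intro U t₀ t'
      obtain ⟨g, hg, -⟩ := hT.1 U t₀ t'
      have hg' : T.smul g t₀ = t' := hg
      apply (hQ1 U _ _).mpr
      refine ⟨g⁻¹, ?_⟩
      rw [← hg', hι3 U g t₀, map_inv]
    obtain ⟨c, hc⟩ := glue_section T hT.2 Q.P
      (fun V t => π.hom.hom.app (op V) (ofGrp (toGrp (ι.hom.app (op V) t))))
      (by
        intro V W a t t'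
        have h1 := hπnat a.op (toGrp (ι.hom.app (op V) t))
        have h2 := hιnat a.op t
        rw [← h2] at h1
        exact h1.symm.trans (hπι (op W) _ t'))
    refine ⟨c, ι, hι1, ?_, hι3⟩
    intro U
    obtain ⟨V⟩ := U
    intro g
    constructor
    · rintro ⟨t, rfl⟩
      exact (hc V t).symm
    · intro hg
      obtain ⟨S, hS, hS'⟩ := hT.2 V
      have hloc : ∀ ⦃W : C⦄ (a : W ⟶ V), S.arrows a → ∃ t : T.P.obj.obj (op W),
          toGrp (ι.hom.app (op W) t) = G.obj.map a.op g := by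
        intro W a ha
        obtain ⟨t₀⟩ := hS' a ha
        have h1 : π.hom.hom.app (op W) (ofGrp (toGrp (ι.hom.app (op W) t₀))) =
            π.hom.hom.app (op W) (ofGrp (G.obj.map a.op g)) := by
          rw [hπnat a.op g, hg, c.2 a.op]
          exact (hc W t₀).symm
        obtain ⟨φ, hφ⟩ := (hQ1 (op W) _ _).mp h1
        refine ⟨T.smul φ⁻¹ t₀, ?_⟩
        rw [hι3, map_inv, inv_inv]
        exact hφ.symm
      choose τ hτ using hloc
      have hcompat : Presieve.FamilyOfElements.Compatible (P := T.P.obj) (R := S.arrows) τ := by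
        intro Y₁ Y₂ Z g₁ g₂ f₁ f₂ h₁ h₂ comm
        apply hι1 (op Z)
        show toGrp (ι.hom.app (op Z) (T.P.obj.map g₁.op (τ f₁ h₁))) =
          toGrp (ι.hom.app (op Z) (T.P.obj.map g₂.op (τ f₂ h₂)))
        rw [hιnat g₁.op, hιnat g₂.op, hτ f₁ h₁, hτ f₂ h₂]
        have e1 := Helper24CechIso.map_map (NonAbH1.GSheaf.trivial G) f₁ g₁ (ofGrp g)
        have e2 := Helper24CechIso.map_map (NonAbH1.GSheaf.trivial G) f₂ g₂ (ofGrp g)
        rw [comm] at e1
        exact e1.trans e2.symm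
      have hTS := Helper24CechIso.sheafFor T S hS
      refine ⟨hTS.amalgamate τ hcompat, ?_⟩
      have hGS : Presieve.IsSheafFor (uSh G).obj S.arrows :=
        (isSheaf_iff_isSheaf_of_type J _).1 (uSh G).property S hS
      apply hGS.isSeparatedFor.ext
      intro W a ha
      have e1 : T.P.obj.map a.op (hTS.amalgamate τ hcompat) = τ a ha :=
        hTS.valid_glue hcompat a ha
      have e2 := hιnat a.op (hTS.amalgamate τ hcompat)
      rw [e1, hτ a ha] at e2
      exact e2.symm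
  · rintro ⟨c, ι, hι1, hι2, hι3⟩
    refine ⟨ObjectProperty.homMk
      { app := fun U => ↾fun t => ofGrp (toGrp (ι.hom.app U t))⁻¹
        naturality := by
          intro U V φ
          apply ConcreteCategory.hom_ext
          intro t
          have h1 : toGrp (ι.hom.app V (T.P.obj.map φ t)) =
              G.obj.map φ (toGrp (ι.hom.app U t)) :=
            NatTrans.naturality_apply ι.hom φ t
          have h2 : (toGrp (ι.hom.app V (T.P.obj.map φ t)))⁻¹ =
              G.obj.map φ (toGrp (ι.hom.app U t))⁻¹ := by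
            rw [h1, map_inv]
          exact h2 }, ?_⟩
    intro U g p
    show ofGrp (toGrp (ι.hom.app U (T.smul g p)))⁻¹ =
      ofGrp (u.hom.app U g * (toGrp (ι.hom.app U p))⁻¹)
    rw [hι3 U g p, mul_inv_rev, inv_inv]

theorem s8556 (u : F ⟶ G) (hu : ∀ U : Cᵒᵖ, Function.Injective (u.hom.app U))
    {Q : NonAbH1.GSheaf G} (π : NonAbH1.GSheaf.trivial G ⟶ Q)
    (hQ : NonAbH1.GSheaf.IsQuotientBy u π) (T : NonAbH1.Torsor F) :
    NonAbH1.GSheaf.IsPushforwardAlong u T.toGSheaf (NonAbH1.GSheaf.trivial G) ↔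
      ∃ c : Q.P.obj.sections, NonAbH1.GSheaf.IsFibreOver u π c T.toGSheaf :=
  s8556' u hu π hQ T.toGSheaf T.isTorsor

end Groth.Agent.Lib.Helper24Boundary2
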