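import Mathlib

namespace Groth.Agent.Lib.Helper24CubicSec

open MvPolynomial

variable {k : Type*} [Field k]

/-- linear substitution attached to a matrix -/
noncomputable def subst {m n : ℕ} (A : Matrix (Fin m) (Fin n) k) : Fin m → MvPolynomial (Fin n) k :=
  fun i => ∑ j, C (A i j) * X j

theorem eval_subst {m n : ℕ} (A : Matrix (Fin m) (Fin n) k) (w : Fin n → k) (i : Fin m) :
    eval w (subst A i) = A.mulVec w i := by
  simp [subst, Matrix.mulVec, dotProduct]

theorem eval_aeval_subst {m n : ℕ} (A : Matrix (Fin m) (Fin n) k) (w : Fin n → k)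
    (f : MvPolynomial (Fin m) k) :
    eval w (aeval (subst A) f) = eval (A.mulVec w) f := by
  induction f using MvPolynomial.induction_on with
  | C a => simp
  | add p q hp hq => simp only [map_add, hp, hq]
  | mul_X p i hp => simp only [map_mul, hp, aeval_X, eval_X, eval_subst]

theorem pderiv_subst {m n : ℕ} (A : Matrix (Fin m) (Fin n) k) (i : Fin m) (j : Fin n) :
    pderiv j (subst A i) = C (A i j) := by
  classical
  simp [subst, Derivation.leibniz, pderiv_X, Pi.single_apply, Finset.sum_ite_eq']

theorem pderiv_aeval_subst {m n : ℕ} (A : Matrix (Fin m) (Fin n) k) (j : Fin n)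
    (f : MvPolynomial (Fin m) k) :
    pderiv j (aeval (subst A) f) = ∑ i, C (A i j) * aeval (subst A) (pderiv i f) := by
  classical
  induction f using MvPolynomial.induction_on with
  | C a => simp
  | add p q hp hq => simp only [map_add, hp, hq, mul_add, Finset.sum_add_distrib]
  | mul_X p i' hp =>
    simp only [map_mul, aeval_X, Derivation.leibniz, hp, pderiv_subst, smul_eq_mul, pderiv_X,
      map_add]
    simp only [mul_add, Finset.sum_add_distrib, Finset.mul_sum]
    congr 1
    · rw [← Finset.sum_subset (Finset.subset_univ {i'})]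
      · simp only [Finset.sum_singleton, Pi.single_eq_same, map_one, mul_one]; ring
      · intro x _ hx
        have : i' ≠ x := by
          intro h; apply hx; simp [h]
        simp [this]
    · refine Finset.sum_congr rfl fun x _ => by ring

theorem eval_smul_of_isHomogeneous {σ : Type*} [Fintype σ] {P : MvPolynomial σ k} {n : ℕ}
    (hP : P.IsHomogeneous n) (t : k) (w : σ → k) :
    eval (t • w) P = t ^ n * eval w P := by
  rw [eval_eq', eval_eq', Finset.mul_sum]
  refine Finset.sum_congr rfl fun d hd => ?_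
  have hd' : ∑ i, d i = n := by
    have := hP (mem_support_iff.mp hd)
    simpa [Finsupp.weight_apply, Finsupp.sum_fintype] using this
  simp only [Pi.smul_apply, smul_eq_mul, mul_pow, Finset.prod_mul_distrib,
    Finset.prod_pow_eq_pow_sum, hd']
  ring



/-- A binary form of positive degree over an algebraically closed field has a nontrivial zero. -/
theorem exists_zero_binary [IsAlgClosed k] {B : MvPolynomial (Fin 2) k} {d : ℕ}
    (hB : B.IsHomogeneous d) (hd : 1 ≤ d) :
    ∃ s t : k, (s ≠ 0 ∨ t ≠ 0) ∧ eval ![s, t] B = 0 := by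
  set p : Polynomial k := aeval ![Polynomial.X, 1] B with hp
  have hhom : p.homogenize d = B := Polynomial.homogenize_eq_of_isHomogeneous hB rfl
  have hev : ∀ s : k, eval ![s, 1] B = Polynomial.eval s p := by
    intro s
    have : (eval ![s, 1] : MvPolynomial (Fin 2) k →+* k) =
        (Polynomial.evalRingHom s).comp
          (aeval ![Polynomial.X, 1] : MvPolynomial (Fin 2) k →ₐ[k] Polynomial k).toRingHom := by
      apply MvPolynomial.ringHom_ext
      · intro a; simp
      · intro i; fin_cases i <;> simp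
    rw [this]; rfl
  by_cases hdeg : p.degree = 0
  · obtain ⟨c, hc⟩ : ∃ c, p = Polynomial.C c := ⟨_, Polynomial.eq_C_of_degree_eq_zero hdeg⟩
    refine ⟨1, 0, Or.inl one_ne_zero, ?_⟩
    rw [← hhom, hc, Polynomial.homogenize_C]
    have : d ≠ 0 := by omega
    simp [this]
  · obtain ⟨s, hs⟩ := IsAlgClosed.exists_root p hdeg
    exact ⟨s, 1, Or.inr one_ne_zero, by rw [hev]; exact hs⟩

/-- The left kernel of a `4 × 3` matrix of rank 3 is a line. -/
theorem exists_index_leftKernel (A : Matrix (Fin 4) (Fin 3) k) (hA : A.rank = 3) :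
    ∃ i₀ : Fin 4, ∀ y : Fin 4 → k, (∀ j, ∑ i, y i * A i j = 0) → y i₀ = 0 → y = 0 := by
  have hrk : (Matrix.transpose A).rank = 3 := by rw [Matrix.rank_transpose, hA]
  have hker : Module.finrank k (LinearMap.ker (Matrix.transpose A).mulVecLin) = 1 := by
    have h1 := LinearMap.finrank_range_add_finrank_ker (Matrix.transpose A).mulVecLin
    rw [Matrix.rank] at hrk
    rw [hrk] at h1
    simp at h1
    omega
  obtain ⟨⟨n, hnK⟩, hn0, hn⟩ := finrank_eq_one_iff'.mp hker
  have hn0' : n ≠ 0 := fun h => hn0 (Subtype.ext h)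
  obtain ⟨i₀, hi₀⟩ : ∃ i₀, n i₀ ≠ 0 := by
    by_contra hcon
    push Not at hcon
    exact hn0' (funext hcon)
  refine ⟨i₀, fun y hy hy0 => ?_⟩
  have hyK : y ∈ LinearMap.ker (Matrix.transpose A).mulVecLin := by
    rw [LinearMap.mem_ker]
    ext j
    simp only [Matrix.mulVecLin_apply, Matrix.mulVec, dotProduct, Matrix.transpose_apply,
      Pi.zero_apply]
    rw [← hy j]
    exact Finset.sum_congr rfl fun i _ => mul_comm _ _
  obtain ⟨c, hc⟩ := hn ⟨y, hyK⟩
  have hc' : c • n = y := congrArg Subtype.val hc
  have : c * n i₀ = 0 := by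
    have := congrFun hc' i₀
    simp only [Pi.smul_apply, smul_eq_mul] at this
    rw [this, hy0]
  have hc0 : c = 0 := by
    rcases mul_eq_zero.mp this with h | h
    · exact h
    · exact absurd h hi₀
  rw [← hc', hc0, zero_smul]

theorem mulVec_injective_of_rank (A : Matrix (Fin 4) (Fin 3) k) (hA : A.rank = 3) :
    Function.Injective A.mulVec := by
  have h1 := LinearMap.finrank_range_add_finrank_ker A.mulVecLin
  rw [Matrix.rank] at hA
  rw [hA] at h1
  simp at h1
  exact LinearMap.ker_eq_bot.mp h1



/-- a nonzero linear form on `k³` vanishes on two independent vectors -/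
theorem exists_plane_of_linear (a : Fin 3 → k) (ha : a ≠ 0) :
    ∃ u₁ u₂ : Fin 3 → k, (∀ s t : k, s • u₁ + t • u₂ = 0 → s = 0 ∧ t = 0) ∧
      ∀ s t : k, ∑ i, a i * (s • u₁ + t • u₂) i = 0 := by
  classical
  set φ : (Fin 3 → k) →ₗ[k] k := ∑ i, a i • LinearMap.proj i with hφ
  have hφa : ∀ w, φ w = ∑ i, a i * w i := by
    intro w; simp [hφ, LinearMap.sum_apply]
  obtain ⟨i, hi⟩ : ∃ i, a i ≠ 0 := by
    by_contra hcon
    push Not at hcon
    exact ha (funext hcon)
  have hsurj : Function.Surjective φ := by
    intro c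
    refine ⟨(c / a i) • Pi.single i 1, ?_⟩
    rw [hφa]
    rw [Finset.sum_eq_single i]
    · simp; field_simp
    · intro j _ hj; simp [hj]
    · simp
  have h1 := LinearMap.finrank_range_add_finrank_ker φ
  rw [LinearMap.range_eq_top.mpr hsurj] at h1
  simp at h1
  have h2 : Module.finrank k (LinearMap.ker φ) = 2 := by omega
  let b := Module.finBasisOfFinrankEq k (LinearMap.ker φ) h2
  refine ⟨(b 0 : Fin 3 → k), (b 1 : Fin 3 → k), ?_, ?_⟩
  · intro s t hst
    have hli := b.linearIndependent
    rw [Fintype.linearIndependent_iff] at hli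
    have := hli ![s, t] (by
      apply Subtype.ext
      simpa [Fin.sum_univ_two] using hst)
    exact ⟨by simpa using this 0, by simpa using this 1⟩
  · intro s t
    rw [← hφa, map_add, map_smul, map_smul]
    have e0 : φ (b 0) = 0 := (b 0).2
    have e1 : φ (b 1) = 0 := (b 1).2
    rw [e0, e1]; simp

/-- a degree one factor `h` with `h² ∣ g`, `g` a nonzero cubic form, is a linear form -/
theorem linear_factor {g h q : MvPolynomial (Fin 3) k} [Infinite k] (hg : g.IsHomogeneous 3) (hg0 : g ≠ 0)
    (hq : g = h * h * q) (hd1 : h.totalDegree = 1) :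
    ∃ a : Fin 3 → k, a ≠ 0 ∧ ∀ w, eval w h = ∑ i, a i * w i := by
  classical
  set c := coeff 0 h with hc
  set ℓ := homogeneousComponent 1 h with hℓdef
  have hℓ : ℓ.IsHomogeneous 1 := homogeneousComponent_isHomogeneous 1 h
  have hdec : h = C c + ℓ := by
    have := sum_homogeneousComponent h
    rw [hd1] at this
    conv_lhs => rw [← this]
    simp [Finset.sum_range_succ, homogeneousComponent_zero, hc, hℓdef]
  have hℓ0 : ℓ ≠ 0 := by
    intro h0
    rw [h0, add_zero] at hdec
    rw [hdec, totalDegree_C] at hd1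
    exact zero_ne_one hd1
  have hc0 : c = 0 := by
    by_contra hc0
    have key : ∀ w, eval w (ℓ * g) = 0 := by
      intro w
      rw [map_mul]
      by_cases ha : eval w ℓ = 0
      · rw [ha, zero_mul]
      · have h1 : eval ((-c / eval w ℓ) • w) h = 0 := by
          rw [hdec, map_add, eval_C, eval_smul_of_isHomogeneous hℓ]
          field_simp
          ring
        have h2 : eval ((-c / eval w ℓ) • w) g = 0 := by
          rw [hq, map_mul, map_mul, h1]; ring
        rw [eval_smul_of_isHomogeneous hg] at h2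
        have h3 : (-c / eval w ℓ) ^ 3 ≠ 0 := by
          apply pow_ne_zero
          apply div_ne_zero (neg_ne_zero.mpr hc0) ha
        rcases mul_eq_zero.mp h2 with h | h
        · exact absurd h h3
        · rw [h, mul_zero]
    have : ℓ * g = 0 := MvPolynomial.funext (fun w => by rw [key w]; simp)
    rcases mul_eq_zero.mp this with h | h
    · exact hℓ0 h
    · exact hg0 h
  have hhℓ : h = ℓ := by rw [hdec, hc0, C_0, zero_add]
  have hmem : ℓ ∈ homogeneousSubmodule (Fin 3) k 1 := hℓ
  rw [homogeneousSubmodule_one_eq_span_X, Submodule.mem_span_range_iff_exists_fun] at hmem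
  obtain ⟨a, ha⟩ := hmem
  refine ⟨a, ?_, ?_⟩
  · rintro rfl
    apply hℓ0
    rw [← ha]; simp
  · intro w
    rw [hhℓ, ← ha, map_sum]
    refine Finset.sum_congr rfl fun i _ => ?_
    simp [smul_eval]


theorem squarefree_section [IsAlgClosed k] [CharZero k]
    (f : MvPolynomial (Fin 4) k) (hf : f.IsHomogeneous 3)
    (hsm : ∀ v : Fin 4 → k, v ≠ 0 → eval v f = 0 → ∃ i : Fin 4, eval v (pderiv i f) ≠ 0)
    (A : Matrix (Fin 4) (Fin 3) k) (hA : A.rank = 3) :
    Squarefree (aeval (subst A) f) := by
  classical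
  obtain ⟨g, hg⟩ : ∃ g, g = aeval (subst A) f := ⟨_, rfl⟩
  rw [← hg]
  have hsub : ∀ i, (subst A i).IsHomogeneous 1 := by
    intro i
    apply IsHomogeneous.sum
    intro j _
    have := (isHomogeneous_C (Fin 3) (A i j)).mul (isHomogeneous_X k j)
    simpa using this
  have hgh : g.IsHomogeneous 3 := by
    have := hf.aeval (subst A) hsub
    rw [hg]; simpa using this
  by_contra hns
  -- Step 1: a plane on which `g` and its partial derivatives vanish
  obtain ⟨u₁, u₂, hind, hvan⟩ : ∃ u₁ u₂ : Fin 3 → k,
      (∀ s t : k, s • u₁ + t • u₂ = 0 → s = 0 ∧ t = 0) ∧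
      ∀ s t : k, eval (s • u₁ + t • u₂) g = 0 ∧
        ∀ j, eval (s • u₁ + t • u₂) (pderiv j g) = 0 := by
    simp only [Squarefree, not_forall] at hns
    obtain ⟨h, hdvd, hnu⟩ := hns
    by_cases hg0 : g = 0
    · refine ⟨Pi.single 0 1, Pi.single 1 1, ?_, ?_⟩
      · intro s t hst
        have h0 := congrFun hst 0
        have h1 := congrFun hst 1
        simp at h0 h1
        exact ⟨h0, h1⟩
      · intro s t; simp [hg0]
    · obtain ⟨q, hq⟩ := hdvd
      have hh0 : h ≠ 0 := by
        rintro rfl
        apply hg0; rw [hq]; ring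
      have hq0 : q ≠ 0 := by
        rintro rfl
        apply hg0; rw [hq]; ring
      have htd : g.totalDegree = 3 := hgh.totalDegree hg0
      have hsum : h.totalDegree + h.totalDegree + q.totalDegree = 3 := by
        have e1 : g.totalDegree = (h * h).totalDegree + q.totalDegree := by
          rw [hq]; exact totalDegree_mul_of_isDomain (mul_ne_zero hh0 hh0) hq0
        have e2 : (h * h).totalDegree = h.totalDegree + h.totalDegree :=
          totalDegree_mul_of_isDomain hh0 hh0
        omega
      have hd1 : h.totalDegree = 1 := by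
        have : h.totalDegree ≠ 0 := by
          intro h0
          rw [totalDegree_eq_zero_iff_eq_C] at h0
          apply hnu
          rw [h0]
          have : coeff 0 h ≠ 0 := by
            intro hc; rw [hc, C_0] at h0; exact hh0 h0
          exact (IsUnit.mk0 _ this).map C
        omega
      obtain ⟨a, ha0, ha⟩ := linear_factor hgh hg0 hq hd1
      obtain ⟨u₁, u₂, hind, hU⟩ := exists_plane_of_linear a ha0
      refine ⟨u₁, u₂, hind, fun s t => ?_⟩
      have hz : eval (s • u₁ + t • u₂) h = 0 := by rw [ha]; exact hU s t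
      refine ⟨by rw [hq, map_mul, map_mul, hz]; ring, fun j => ?_⟩
      rw [hq]
      simp only [Derivation.leibniz, smul_eq_mul, map_add, map_mul, hz]
      ring
  -- Step 2: a singular point of the surface
  obtain ⟨i₀, hi₀⟩ := exists_index_leftKernel A hA
  have hinj := mulVec_injective_of_rank A hA
  obtain ⟨ψ, hψdef⟩ : ∃ ψ : Fin 4 → MvPolynomial (Fin 2) k,
      ψ = fun i => C (A.mulVec u₁ i) * X 0 + C (A.mulVec u₂ i) * X 1 := ⟨_, rfl⟩
  have hψ : ∀ i, (ψ i).IsHomogeneous 1 := by
    intro i
    rw [hψdef]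
    apply IsHomogeneous.add
    · simpa using (isHomogeneous_C (Fin 2) (A.mulVec u₁ i)).mul (isHomogeneous_X k (0 : Fin 2))
    · simpa using (isHomogeneous_C (Fin 2) (A.mulVec u₂ i)).mul (isHomogeneous_X k (1 : Fin 2))
  have hB : (aeval ψ (pderiv i₀ f)).IsHomogeneous 2 := by
    have := (hf.pderiv (i := i₀)).aeval ψ hψ
    simpa using this
  obtain ⟨s, t, hst, hz⟩ := exists_zero_binary hB (by norm_num)
  have hw₀ : s • u₁ + t • u₂ ≠ 0 := by
    intro h0
    obtain ⟨h1, h2⟩ := hind s t h0
    rcases hst with h | h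
    · exact h h1
    · exact h h2
  have hv : A.mulVec (s • u₁ + t • u₂) ≠ 0 := by
    intro h0
    apply hw₀
    apply hinj
    rw [h0, Matrix.mulVec_zero]
  have hevψ : ∀ P : MvPolynomial (Fin 4) k,
      eval ![s, t] (aeval ψ P) = eval (A.mulVec (s • u₁ + t • u₂)) P := by
    intro P
    induction P using MvPolynomial.induction_on with
    | C a => simp
    | add p q hp hq => simp only [map_add, hp, hq]
    | mul_X p i hp =>
      simp only [map_mul, hp, aeval_X, eval_X]
      congr 1
      rw [hψdef]
      simp [Matrix.mulVec_add, Matrix.mulVec_smul]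
      ring
  have h1 : eval (A.mulVec (s • u₁ + t • u₂)) f = 0 := by
    rw [← eval_aeval_subst, ← hg]; exact (hvan s t).1
  have h2 : ∀ j, ∑ i, eval (A.mulVec (s • u₁ + t • u₂)) (pderiv i f) * A i j = 0 := by
    intro j
    have := (hvan s t).2 j
    rw [hg, pderiv_aeval_subst, map_sum] at this
    simp only [map_mul, eval_C, eval_aeval_subst] at this
    rw [← this]
    exact Finset.sum_congr rfl fun i _ => mul_comm _ _
  have h3 : eval (A.mulVec (s • u₁ + t • u₂)) (pderiv i₀ f) = 0 := by
    rw [← hevψ]; exact hz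
  have h4 := hi₀ (fun i => eval (A.mulVec (s • u₁ + t • u₂)) (pderiv i f)) h2 h3
  obtain ⟨i, hi⟩ := hsm _ hv h1
  exact hi (congrFun h4 i)

end Groth.Agent.Lib.Helper24CubicSec
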