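import Mathlib
import Groth.Agent.Lib.Helper24CubicSec

namespace Groth.Agent.Lib.Helper24CubicLines

open MvPolynomial
open Groth.Agent.Lib.Helper24CubicSec

variable {k : Type*} [Field k]

/-- the linear form attached to a functional -/
noncomputable def linForm {n : ℕ} (φ : (Fin n → k) →ₗ[k] k) : MvPolynomial (Fin n) k :=
  ∑ i, C (φ (fun j => if i = j then 1 else 0)) * X i

theorem eval_linForm {n : ℕ} (φ : (Fin n → k) →ₗ[k] k) (w : Fin n → k) :
    eval w (linForm φ) = φ w := by
  rw [LinearMap.pi_apply_eq_sum_univ φ w]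
  simp [linForm, mul_comm]

theorem linForm_isHomogeneous {n : ℕ} (φ : (Fin n → k) →ₗ[k] k) :
    (linForm φ).IsHomogeneous 1 := by
  apply IsHomogeneous.sum
  intro i _
  simpa using (isHomogeneous_C (Fin n) (φ (fun j => if i = j then 1 else 0))).mul
    (isHomogeneous_X k i)

theorem linForm_ne_zero {n : ℕ} (φ : (Fin n → k) →ₗ[k] k) (hφ : φ ≠ 0) : linForm φ ≠ 0 := by
  intro h
  apply hφ
  apply LinearMap.ext
  intro w
  rw [← eval_linForm, h]
  simp

theorem linForm_irreducible {n : ℕ} (φ : (Fin n → k) →ₗ[k] k) (hφ : φ ≠ 0) :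
    Irreducible (linForm φ) := by
  have h0 := linForm_ne_zero φ hφ
  apply irreducible_of_totalDegree_eq_one ((linForm_isHomogeneous φ).totalDegree h0)
  intro x hx
  obtain ⟨d, hd⟩ : ∃ d, coeff d (linForm φ) ≠ 0 := by
    by_contra hcon
    push Not at hcon
    exact h0 (MvPolynomial.ext _ _ (fun d => by rw [hcon d, coeff_zero]))
  have := hx d
  exact isUnit_of_dvd_unit this (IsUnit.mk0 _ hd)

/-- Nullstellensatz for a hyperplane -/
theorem linForm_dvd_of_vanish [IsAlgClosed k] {n : ℕ} (φ : (Fin n → k) →ₗ[k] k) (hφ : φ ≠ 0)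
    (g : MvPolynomial (Fin n) k) (hg : ∀ w, φ w = 0 → eval w g = 0) : linForm φ ∣ g := by
  have hirr := linForm_irreducible φ hφ
  have hprime : (Ideal.span {linForm φ}).IsPrime :=
    (Ideal.span_singleton_prime (linForm_ne_zero φ hφ)).mpr hirr.prime
  have hmem : g ∈ vanishingIdeal k (zeroLocus k (Ideal.span {linForm φ})) := by
    rw [mem_vanishingIdeal_iff]
    intro x hx
    rw [mem_zeroLocus_iff] at hx
    have h1 := hx (linForm φ) (Ideal.subset_span rfl)
    rw [aeval_eq_eval] at h1
    have h2 : φ x = 0 := by rw [← eval_linForm]; exact h1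
    rw [aeval_eq_eval]
    exact hg x h2
  rw [vanishingIdeal_zeroLocus_eq_radical, hprime.radical, Ideal.mem_span_singleton] at hmem
  exact hmem

theorem totalDegree_prod_eq {σ ι : Type*} (s : Finset ι) (p : ι → MvPolynomial σ k)
    (hp : ∀ i ∈ s, p i ≠ 0) : (∏ i ∈ s, p i).totalDegree = ∑ i ∈ s, (p i).totalDegree := by
  classical
  induction s using Finset.induction_on with
  | empty => simp
  | insert a s ha ih =>
    rw [Finset.prod_insert ha, Finset.sum_insert ha,
      totalDegree_mul_of_isDomain (hp a (Finset.mem_insert_self a s))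
        (Finset.prod_ne_zero_iff.mpr fun i hi => hp i (Finset.mem_insert_of_mem hi)),
      ih fun i hi => hp i (Finset.mem_insert_of_mem hi)]

/-- a nonzero plane curve of degree `≤ d` contains at most `d` lines -/
theorem card_planes_le [IsAlgClosed k] {n : ℕ} (g : MvPolynomial (Fin n) k) (hg : g ≠ 0)
    (T : Finset (Submodule k (Fin n → k)))
    (hT : ∀ U ∈ T, Module.finrank k U + 1 = n ∧ ∀ w ∈ U, eval w g = 0) :
    T.card ≤ g.totalDegree := by
  classical
  have hex : ∀ U : Submodule k (Fin n → k), ∃ φ : (Fin n → k) →ₗ[k] k,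
      U ∈ T → (φ ≠ 0 ∧ LinearMap.ker φ = U) := by
    intro U
    by_cases hU : U ∈ T
    · obtain ⟨hfr, -⟩ := hT U hU
      have hlt : U < ⊤ := by
        rw [lt_top_iff_ne_top]
        rintro rfl
        rw [finrank_top, Module.finrank_fin_fun] at hfr
        omega
      obtain ⟨φ, hφ0, hφ⟩ := Submodule.exists_le_ker_of_lt_top U hlt
      refine ⟨φ, fun _ => ⟨hφ0, ?_⟩⟩
      symm
      apply Submodule.eq_of_le_of_finrank_eq hφ
      have h1 := LinearMap.finrank_range_add_finrank_ker φ
      have hsurj : LinearMap.range φ = ⊤ := by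
        apply LinearMap.range_eq_top.mpr
        obtain ⟨w, hw⟩ : ∃ w, φ w ≠ 0 := by
          by_contra hcon
          push Not at hcon
          exact hφ0 (LinearMap.ext hcon)
        intro c
        exact ⟨(c / φ w) • w, by rw [map_smul, smul_eq_mul, div_mul_cancel₀ _ hw]⟩
      rw [hsurj] at h1
      simp at h1
      omega
    · exact ⟨0, fun h => absurd h hU⟩
  choose φ hφ using hex
  have hdvd : ∀ U ∈ T, linForm (φ U) ∣ g := by
    intro U hU
    obtain ⟨h0, hker⟩ := hφ U hU
    apply linForm_dvd_of_vanish (φ U) h0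
    intro w hw
    apply (hT U hU).2
    rw [← hker]; exact hw
  have hrel : (T : Set (Submodule k (Fin n → k))).Pairwise
      (Function.onFun IsRelPrime fun U => linForm (φ U)) := by
    intro U hU U' hU' hne
    obtain ⟨h0, hker⟩ := hφ U hU
    obtain ⟨h0', hker'⟩ := hφ U' hU'
    show IsRelPrime (linForm (φ U)) (linForm (φ U'))
    rw [(linForm_irreducible _ h0).isRelPrime_iff_not_dvd]
    rintro ⟨q, hq⟩
    apply hne
    have hle : U ≤ U' := by
      intro w hw
      rw [← hker'] 
      rw [← hker] at hw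
      rw [LinearMap.mem_ker] at hw ⊢
      rw [← eval_linForm, hq, map_mul, eval_linForm, hw, zero_mul]
    apply Submodule.eq_of_le_of_finrank_eq hle
    have := (hT U hU).1
    have := (hT U' hU').1
    omega
  have hprod := Finset.prod_dvd_of_isRelPrime hrel hdvd
  have hle := totalDegree_le_of_dvd_of_isDomain hprod hg
  rw [totalDegree_prod_eq T _ (fun U hU => linForm_ne_zero _ (hφ U hU).1)] at hle
  have : ∑ U ∈ T, (linForm (φ U)).totalDegree = T.card := by
    rw [Finset.card_eq_sum_ones]
    refine Finset.sum_congr rfl fun U hU => ?_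
    exact (linForm_isHomogeneous _).totalDegree (linForm_ne_zero _ (hφ U hU).1)
  omega

end Groth.Agent.Lib.Helper24CubicLines
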