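import Mathlib
import Groth.Agent.Lib.Helper24Bezout6
import Groth.Agent.Lib.Helper24CubicLines

/-!
# A conic and a cubic without common component share at most six points (helper24)

Hilbert function count: for coprime forms `Q`, `C` of degrees `2`, `3` in three variables the forms of
degree `6` in the ideal `(Q, C)` make up a space of dimension `15 + 10 - 3 = 22`, while seven
distinct points of the plane impose independent conditions on the `28`-dimensional space of sextics.
-/

namespace Groth.Agent.Lib.Helper24CubicSing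

open MvPolynomial
open Groth.Agent.Lib.Helper24CubicLines

variable {k : Type*} [Field k]

theorem finrank_homog3 (d : ℕ) :
    Module.finrank k (homogeneousSubmodule (Fin 3) k d) = (d + 2).choose d := by
  classical
  rw [homogeneousSubmodule_eq_finsupp_supported]
  have hb := basisRestrictSupport k {e : Fin 3 →₀ ℕ | e.degree = d}
  rw [show AddMonoidAlgebra.supported k k {e : Fin 3 →₀ ℕ | e.degree = d} =
    restrictSupport k {e : Fin 3 →₀ ℕ | e.degree = d} from rfl,
    Module.finrank_eq_nat_card_basis hb]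
  have h1 : Nat.card {e : Fin 3 →₀ ℕ | e.degree = d} =
      (Finset.univ.finsuppAntidiag d : Finset (Fin 3 →₀ ℕ)).card := by
    apply Nat.subtype_card
    intro e
    rw [Finset.mem_finsuppAntidiag]
    simp [Finsupp.degree_eq_sum]
  rw [h1, Finset.card_finsuppAntidiag_nat_eq_choose]
  simp
  congr 1
  omega

instance finite_homog3 (d : ℕ) : Module.Finite k (homogeneousSubmodule (Fin 3) k d) :=
  Module.Finite.iff_fg.mpr (homogeneousSubmodule_fg (Fin 3) k d)

theorem isHomogeneous_of_mul {σ : Type*} {Q w : MvPolynomial σ k} {m n : ℕ}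
    (hQ : Q.IsHomogeneous m) (hQ0 : Q ≠ 0) (h : (w * Q).IsHomogeneous (n + m)) :
    w.IsHomogeneous n := by
  classical
  have h1 := Groth.Agent.Lib.Helper24Bezout.homogeneousComponent_mul_homogeneous w hQ n
  rw [homogeneousComponent_of_mem h, if_pos rfl] at h1
  have h2 := mul_right_cancel₀ hQ0 h1
  rw [h2]
  exact homogeneousComponent_isHomogeneous n w

section Count

variable {Q C : MvPolynomial (Fin 3) k}

theorem inf_le_map (hQ : Q.IsHomogeneous 2) (hQ0 : Q ≠ 0) (hrel : IsRelPrime Q C) :
    (homogeneousSubmodule (Fin 3) k 4).map (LinearMap.mulLeft k Q) ⊓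
      (homogeneousSubmodule (Fin 3) k 3).map (LinearMap.mulLeft k C) ≤
      (homogeneousSubmodule (Fin 3) k 1).map (LinearMap.mulLeft k (Q * C)) := by
  rintro x ⟨⟨u, hu, rfl⟩, ⟨v, hv, hxv⟩⟩
  simp only [LinearMap.mulLeft_apply] at hxv ⊢
  have hdvd : Q ∣ v := hrel.dvd_of_dvd_mul_left ⟨u, hxv⟩
  obtain ⟨w, rfl⟩ := hdvd
  have hw : w.IsHomogeneous 1 := by
    apply isHomogeneous_of_mul hQ hQ0 (n := 1)
    rw [mul_comm]
    exact hv
  refine ⟨w, hw, ?_⟩
  simp only [LinearMap.mulLeft_apply]
  rw [← hxv]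
  ring

theorem finrank_sup_ge (hQ : Q.IsHomogeneous 2) (hQ0 : Q ≠ 0) (hC0 : C ≠ 0)
    (hrel : IsRelPrime Q C) :
    22 ≤ Module.finrank k
      ((homogeneousSubmodule (Fin 3) k 4).map (LinearMap.mulLeft k Q) ⊔
        (homogeneousSubmodule (Fin 3) k 3).map (LinearMap.mulLeft k C) :
        Submodule k (MvPolynomial (Fin 3) k)) := by
  have h1 := Submodule.finrank_sup_add_finrank_inf_eq
    ((homogeneousSubmodule (Fin 3) k 4).map (LinearMap.mulLeft k Q))
    ((homogeneousSubmodule (Fin 3) k 3).map (LinearMap.mulLeft k C))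
  rw [Groth.Agent.Lib.Helper24Bezout.finrank_map_mulLeft Q hQ0,
    Groth.Agent.Lib.Helper24Bezout.finrank_map_mulLeft C hC0, finrank_homog3, finrank_homog3] at h1
  have h2 := Submodule.finrank_mono (inf_le_map hQ hQ0 hrel)
  rw [Groth.Agent.Lib.Helper24Bezout.finrank_map_mulLeft (Q * C) (mul_ne_zero hQ0 hC0),
    finrank_homog3] at h2
  have e1 : (4 + 2).choose 4 = 15 := by decide
  have e2 : (3 + 2).choose 3 = 10 := by decide
  have e3 : (1 + 2).choose 1 = 3 := by decide
  omega

end Count

section Points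

variable (y : Fin 7 → (Fin 3 → k))

/-- Evaluation of a form at the seven points. -/
noncomputable def ev : MvPolynomial (Fin 3) k →ₗ[k] (Fin 7 → k) :=
  LinearMap.pi fun i => (aeval (y i) : MvPolynomial (Fin 3) k →ₐ[k] k).toLinearMap

theorem ev_apply (G : MvPolynomial (Fin 3) k) (i : Fin 7) : ev y G i = eval (y i) G := by
  simp [ev, aeval_eq_eval]

theorem exists_sep (hy : ∀ i j, i ≠ j → y i ∉ Submodule.span k {y j}) (i : Fin 7) :
    ∃ G : MvPolynomial (Fin 3) k, G.IsHomogeneous 6 ∧ eval (y i) G ≠ 0 ∧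
      ∀ l, l ≠ i → eval (y l) G = 0 := by
  classical
  have hφ : ∀ j, ∃ φ : (Fin 3 → k) →ₗ[k] k, j ≠ i → (φ (y j) = 0 ∧ φ (y i) ≠ 0) := by
    intro j
    by_cases hj : j = i
    · exact ⟨0, fun h => absurd hj h⟩
    · obtain ⟨φ, h1, h2⟩ := Submodule.exists_dual_map_eq_bot_of_notMem
        (hy i j (fun h => hj h.symm)) inferInstance
      refine ⟨φ, fun _ => ⟨?_, h1⟩⟩
      have : φ (y j) ∈ (Submodule.span k {y j}).map φ :=
        Submodule.mem_map_of_mem (Submodule.mem_span_singleton_self _)
      rw [h2] at this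
      exact (Submodule.mem_bot k).1 this
  choose φ hφ using hφ
  refine ⟨∏ j ∈ Finset.univ.erase i, linForm (φ j), ?_, ?_, ?_⟩
  · have := IsHomogeneous.prod (Finset.univ.erase i) (fun j => linForm (φ j)) (fun _ => 1)
      (fun j _ => linForm_isHomogeneous (φ j))
    simpa using this
  · rw [map_prod]
    apply Finset.prod_ne_zero_iff.mpr
    intro j hj
    rw [eval_linForm]
    exact (hφ j (Finset.ne_of_mem_erase hj)).2
  · intro l hl
    rw [map_prod]
    apply Finset.prod_eq_zero (Finset.mem_erase.mpr ⟨hl, Finset.mem_univ l⟩)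
    rw [eval_linForm]
    exact (hφ l hl).1

theorem ev_surjective (hy : ∀ i j, i ≠ j → y i ∉ Submodule.span k {y j}) :
    Function.Surjective ((ev y).domRestrict (homogeneousSubmodule (Fin 3) k 6)) := by
  classical
  choose G hG1 hG2 hG3 using exists_sep y hy
  intro v
  refine ⟨⟨∑ i, (v i / eval (y i) (G i)) • G i, ?_⟩, ?_⟩
  · exact Submodule.sum_mem _ (fun i _ => Submodule.smul_mem _ _ (hG1 i))
  · funext l
    rw [LinearMap.domRestrict_apply, ev_apply]
    simp only [map_sum, smul_eval]
    rw [Finset.sum_eq_single l]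
    · exact div_mul_cancel₀ _ (hG2 l)
    · intro i _ hi
      rw [hG3 i l (fun h => hi h.symm), mul_zero]
    · intro h; exact absurd (Finset.mem_univ l) h

/-- A conic and a cubic without common component have at most six common points. -/
theorem no_seven_points {Q C : MvPolynomial (Fin 3) k} (hQ : Q.IsHomogeneous 2)
    (hC : C.IsHomogeneous 3) (hQ0 : Q ≠ 0) (hC0 : C ≠ 0) (hrel : IsRelPrime Q C)
    (hy : ∀ i j, i ≠ j → y i ∉ Submodule.span k {y j})
    (hyQ : ∀ i, eval (y i) Q = 0) (hyC : ∀ i, eval (y i) C = 0) : False := by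
  classical
  set S6 := homogeneousSubmodule (Fin 3) k 6 with hS6
  set N : Submodule k (MvPolynomial (Fin 3) k) :=
    (homogeneousSubmodule (Fin 3) k 4).map (LinearMap.mulLeft k Q) ⊔
      (homogeneousSubmodule (Fin 3) k 3).map (LinearMap.mulLeft k C) with hN
  have hNS : N ≤ S6 := by
    apply sup_le
    · rintro _ ⟨u, hu, rfl⟩
      exact hQ.mul hu
    · rintro _ ⟨u, hu, rfl⟩
      exact hC.mul hu
  have hNker : N ≤ LinearMap.ker (ev y) := by
    apply sup_le
    · rintro _ ⟨u, _, rfl⟩
      rw [LinearMap.mem_ker]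
      funext i
      rw [ev_apply, LinearMap.mulLeft_apply, map_mul, hyQ, zero_mul]; rfl
    · rintro _ ⟨u, _, rfl⟩
      rw [LinearMap.mem_ker]
      funext i
      rw [ev_apply, LinearMap.mulLeft_apply, map_mul, hyC, zero_mul]; rfl
  have h22 : 22 ≤ Module.finrank k N := finrank_sup_ge hQ hQ0 hC0 hrel
  have hrn := LinearMap.finrank_range_add_finrank_ker ((ev y).domRestrict S6)
  rw [LinearMap.range_eq_top.mpr (ev_surjective y hy), finrank_top, Module.finrank_fin_fun,
    hS6, finrank_homog3] at hrn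
  have e4 : (6 + 2).choose 6 = 28 := by decide
  have hle : N.comap S6.subtype ≤ LinearMap.ker ((ev y).domRestrict S6) := by
    intro x hx
    rw [LinearMap.mem_ker, LinearMap.domRestrict_apply]
    exact hNker hx
  have h3 := Submodule.finrank_mono hle
  have h4 : Module.finrank k (N.comap S6.subtype) = Module.finrank k N :=
    (Submodule.comapSubtypeEquivOfLe hNS).finrank_eq
  rw [hS6] at h3 h4
  omega

end Points

end Groth.Agent.Lib.Helper24CubicSing
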