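import Mathlib
import Groth.Agent.Lib.Helper24CubicSing2

/-!
# Binary forms over an algebraically closed field split into linear forms (helper24)
-/

namespace Groth.Agent.Lib.Helper24CubicSing

open MvPolynomial
open Groth.Agent.Lib.Helper24CubicSec Groth.Agent.Lib.Helper24CubicLines

variable {k : Type*} [Field k]

/-- The functional `x ↦ t x₀ - s x₁` on `k²`. -/
noncomputable def detForm (s t : k) : (Fin 2 → k) →ₗ[k] k :=
  t • LinearMap.proj 0 - s • LinearMap.proj 1

theorem detForm_apply (s t : k) (x : Fin 2 → k) : detForm s t x = t * x 0 - s * x 1 := by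
  simp [detForm]

theorem detForm_ne_zero {s t : k} (h : s ≠ 0 ∨ t ≠ 0) : detForm s t ≠ 0 := by
  intro h0
  rcases h with h | h
  · have := LinearMap.congr_fun h0 ![0, 1]
    rw [detForm_apply] at this
    simp at this
    exact h this
  · have := LinearMap.congr_fun h0 ![1, 0]
    rw [detForm_apply] at this
    simp at this
    exact h this

theorem eq_smul_of_detForm_eq_zero {s t : k} (h : s ≠ 0 ∨ t ≠ 0) {x : Fin 2 → k}
    (hx : detForm s t x = 0) : ∃ r : k, x = r • ![s, t] := by
  rw [detForm_apply] at hx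
  rcases h with h | h
  · refine ⟨x 0 / s, ?_⟩
    funext i
    fin_cases i
    · simp; field_simp
    · simp; field_simp; linear_combination -hx
  · refine ⟨x 1 / t, ?_⟩
    funext i
    fin_cases i
    · simp; field_simp; linear_combination hx
    · simp; field_simp

/-- The kernel of a nonzero functional on `k²` is a line. -/
theorem ker_functional2 (lam : (Fin 2 → k) →ₗ[k] k) (h : lam ≠ 0) :
    ∃ w : Fin 2 → k, w ≠ 0 ∧ lam w = 0 ∧ ∀ z, lam z = 0 → ∃ r : k, z = r • w := by
  have hl : ∀ z : Fin 2 → k, lam z = lam ![1, 0] * z 0 + lam ![0, 1] * z 1 := by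
    intro z
    have : z = z 0 • ![1, 0] + z 1 • ![0, 1] := by
      funext i; fin_cases i <;> simp
    conv_lhs => rw [this]
    rw [map_add, map_smul, map_smul, smul_eq_mul, smul_eq_mul]
    ring
  have hne : -lam ![0, 1] ≠ 0 ∨ lam ![1, 0] ≠ 0 := by
    by_contra hcon
    push Not at hcon
    apply h
    apply LinearMap.ext
    intro z
    rw [hl z, hcon.2, neg_eq_zero.1 hcon.1]
    simp
  refine ⟨![-lam ![0, 1], lam ![1, 0]], ?_, ?_, ?_⟩
  · intro h0
    rcases hne with h1 | h1
    · exact h1 (by have := congrFun h0 0; simpa using this)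
    · exact h1 (by have := congrFun h0 1; simpa using this)
  · rw [hl]; simp; ring
  · intro z hz
    apply eq_smul_of_detForm_eq_zero hne
    rw [detForm_apply]
    rw [hl z] at hz
    linear_combination hz

theorem binary_factor [IsAlgClosed k] : ∀ (d : ℕ) (g : MvPolynomial (Fin 2) k), g.IsHomogeneous d →
    ∃ (c : k) (l : Fin d → ((Fin 2 → k) →ₗ[k] k)), ∀ x, eval x g = c * ∏ i, l i x := by
  intro d
  induction d with
  | zero =>
    intro g hg
    have h0 : g.totalDegree = 0 := Nat.le_zero.1 hg.totalDegree_le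
    rw [totalDegree_eq_zero_iff_eq_C] at h0
    refine ⟨coeff 0 g, fun i => 0, fun x => ?_⟩
    rw [h0]
    simp
  | succ d ih =>
    intro g hg
    by_cases hg0 : g = 0
    · exact ⟨0, fun _ => 0, fun x => by rw [hg0]; simp⟩
    obtain ⟨s, t, hst, hz⟩ := exists_zero_binary hg (by omega)
    have hvan : ∀ w, detForm s t w = 0 → eval w g = 0 := by
      intro w hw
      obtain ⟨r, rfl⟩ := eq_smul_of_detForm_eq_zero hst hw
      rw [eval_smul_of_isHomogeneous hg, hz, mul_zero]
    obtain ⟨g', hg'⟩ := linForm_dvd_of_vanish (detForm s t) (detForm_ne_zero hst) g hvan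
    have hg'h : g'.IsHomogeneous d := by
      apply isHomogeneous_of_mul (linForm_isHomogeneous (detForm s t))
        (linForm_ne_zero _ (detForm_ne_zero hst)) (n := d)
      rw [mul_comm, ← hg']
      exact hg
    obtain ⟨c, l, hl⟩ := ih g' hg'h
    refine ⟨c, Fin.cons (detForm s t) l, fun x => ?_⟩
    rw [hg', map_mul, eval_linForm, hl x, Fin.prod_univ_succ]
    simp only [Fin.cons_zero, Fin.cons_succ]
    ring

end Groth.Agent.Lib.Helper24CubicSing
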