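import Mathlib
import Groth.Agent.Lib.Helper24QrtF
import Groth.Agent.Lib.Helper19FormsCommonZero

/-!
# Linear subspaces of smooth hypersurfaces

A smooth hypersurface of degree `≥ 2` in `ℙ^{N-1}` contains no linear subspace of (affine)
dimension `r` with `N < 2 r`.  Consequently a plane section of a smooth cubic threefold contains
finitely many lines.
-/

namespace Groth.Agent.Lib.Helper24C3f

open MvPolynomial
open Groth.Agent.Lib.Helper24CubicSec Groth.Agent.Lib.Helper24CubicLines
  Groth.Agent.Lib.Helper24Qrt

universe u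

variable {k : Type u} [Field k] [IsAlgClosed k]

theorem no_linear_subspace {N r d : ℕ} (hd : 1 ≤ d) (hr : N < 2 * r)
    (f : MvPolynomial (Fin N) k) (hf : f.IsHomogeneous (d + 1))
    (hsm : ∀ v : Fin N → k, v ≠ 0 → eval v f = 0 → ∃ i, eval v (pderiv i f) ≠ 0)
    (A : Matrix (Fin N) (Fin r) k) (hA : Function.Injective A.mulVec)
    (hg : aeval (subst A) f = 0) : False := by
  classical
  set Q : Fin N → MvPolynomial (Fin r) k := fun i => aeval (subst A) (pderiv i f) with hQ
  have hQhom : ∀ i, (Q i).IsHomogeneous d := fun i =>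
    aeval_subst_isHomogeneous A (by simpa using hf.pderiv (i := i))
  set T : (Fin N → k) →ₗ[k] MvPolynomial (Fin r) k := Fintype.linearCombination k Q with hT
  have hTapp : ∀ c, T c = ∑ i, c i • Q i := fun c => Fintype.linearCombination_apply k Q c
  have hcol : ∀ w : Fin r → k, T (A.mulVec w) = 0 := by
    intro w
    rw [hTapp]
    have h1 : ∀ j, ∑ i, C (A i j) * Q i = 0 := by
      intro j
      rw [← pderiv_aeval_subst, hg, map_zero]
    calc ∑ i, A.mulVec w i • Q i = ∑ i, ∑ j, (A i j * w j) • Q i := by
          refine Finset.sum_congr rfl fun i _ => ?_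
          rw [Matrix.mulVec, dotProduct, Finset.sum_smul]
      _ = ∑ j, ∑ i, (A i j * w j) • Q i := Finset.sum_comm
      _ = ∑ j, w j • ∑ i, C (A i j) * Q i := by
          refine Finset.sum_congr rfl fun j _ => ?_
          rw [Finset.smul_sum]
          refine Finset.sum_congr rfl fun i _ => ?_
          rw [C_mul', smul_smul, mul_comm]
      _ = 0 := by simp [h1]
  have hle : LinearMap.range A.mulVecLin ≤ LinearMap.ker T := by
    rintro _ ⟨w, rfl⟩
    exact hcol w
  have hrk : Module.finrank k (LinearMap.range A.mulVecLin) = r := by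
    rw [LinearMap.finrank_range_of_inj (by exact hA)]
    simp
  have hker : r ≤ Module.finrank k (LinearMap.ker T) := by
    have := Submodule.finrank_mono hle
    rwa [hrk] at this
  have hrn := LinearMap.finrank_range_add_finrank_ker T
  rw [Module.finrank_fin_fun] at hrn
  obtain ⟨m, hm⟩ : ∃ m, Module.finrank k (LinearMap.range T) = m := ⟨_, rfl⟩
  have hmr : m < r := by omega
  let bas : Module.Basis (Fin m) k (LinearMap.range T) :=
    Module.finBasisOfFinrankEq k _ hm
  have hrange_hom : ∀ q ∈ LinearMap.range T, q.IsHomogeneous d := by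
    rintro _ ⟨c, rfl⟩
    rw [hTapp]
    exact (homogeneousSubmodule (Fin r) k d).sum_mem fun i _ =>
      Submodule.smul_mem _ _ (hQhom i)
  obtain ⟨y, hy0, hy⟩ := Helper19FormsCommonZero.exists_common_zero r m hmr
    (fun j => (bas j : MvPolynomial (Fin r) k)) d (by omega) (fun j => hrange_hom _ (bas j).2)
  have hall : ∀ q ∈ LinearMap.range T, eval y q = 0 := by
    intro q hq
    let ev : MvPolynomial (Fin r) k →ₗ[k] k :=
      (aeval y : MvPolynomial (Fin r) k →ₐ[k] k).toLinearMap
    have h0 : ev ∘ₗ (LinearMap.range T).subtype = 0 := by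
      apply bas.ext
      intro j
      have := hy j
      simpa [ev, aeval_eq_eval] using this
    have := LinearMap.congr_fun h0 ⟨q, hq⟩
    simpa [ev, aeval_eq_eval] using this
  have hQy : ∀ i, eval y (Q i) = 0 := by
    intro i
    apply hall
    refine ⟨Pi.single i 1, ?_⟩
    rw [hTapp, Finset.sum_eq_single i]
    · simp
    · intro j _ hj
      simp [Pi.single_apply, hj]
    · simp
  have hv : A.mulVec y ≠ 0 := by
    intro h
    apply hy0
    apply hA
    rw [h, Matrix.mulVec_zero]
  obtain ⟨i, hi⟩ := hsm _ hv (by rw [← eval_aeval_subst, hg, map_zero])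
  apply hi
  rw [← eval_aeval_subst]
  exact hQy i

/-- a plane section of a smooth cubic threefold contains finitely many lines -/
theorem finite_lines_in_plane (f : MvPolynomial (Fin 5) k) (hf : f.IsHomogeneous 3)
    (hsm : ∀ v : Fin 5 → k, v ≠ 0 → eval v f = 0 → ∃ i, eval v (pderiv i f) ≠ 0)
    (P : Submodule k (Fin 5 → k)) (hP : Module.finrank k P = 3) :
    {L : Submodule k (Fin 5 → k) |
      Module.finrank k L = 2 ∧ L ≤ P ∧ ∀ u ∈ L, eval u f = 0}.Finite := by
  classical
  let b : Module.Basis (Fin 3) k P := Module.finBasisOfFinrankEq k P hP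
  set A : Matrix (Fin 5) (Fin 3) k := Matrix.of fun i j => (b j : Fin 5 → k) i with hAdef
  have hAmul : ∀ w : Fin 3 → k, A.mulVec w = ((b.equivFun.symm w : P) : Fin 5 → k) := by
    intro w
    rw [Module.Basis.equivFun_symm_apply]
    funext i
    simp [A, Matrix.mulVec, dotProduct, mul_comm]
  have hAinj : Function.Injective A.mulVec := by
    intro w w' h
    rw [hAmul, hAmul] at h
    exact b.equivFun.symm.injective (Subtype.ext h)
  have hArange : LinearMap.range A.mulVecLin = P := by
    ext v
    constructor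
    · rintro ⟨w, rfl⟩
      rw [Matrix.mulVecLin_apply, hAmul]
      exact (b.equivFun.symm w).2
    · intro hv
      refine ⟨b.equivFun ⟨v, hv⟩, ?_⟩
      rw [Matrix.mulVecLin_apply, hAmul, LinearEquiv.symm_apply_apply]
  set g : MvPolynomial (Fin 3) k := aeval (subst A) f with hg
  have hg0 : g ≠ 0 := fun h =>
    no_linear_subspace (d := 2) (by norm_num) (by norm_num) f hf hsm A hAinj h
  have hMfin : {M : Submodule k (Fin 3 → k) |
      Module.finrank k M + 1 = 3 ∧ ∀ w ∈ M, eval w g = 0}.Finite := by
    by_contra hinf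
    obtain ⟨t, ht, hcard⟩ := Set.Infinite.exists_subset_card_eq hinf (g.totalDegree + 1)
    have := card_planes_le g hg0 t (fun U hU => ht hU)
    omega
  apply Set.Finite.subset (hMfin.image fun M => M.map A.mulVecLin)
  rintro L ⟨hL2, hLP, hLf⟩
  refine ⟨L.comap A.mulVecLin, ⟨?_, ?_⟩, ?_⟩
  · have hmap : (L.comap A.mulVecLin).map A.mulVecLin = L :=
      Submodule.map_comap_eq_of_le (hArange ▸ hLP)
    have := (Submodule.equivMapOfInjective A.mulVecLin (by exact hAinj)
      (L.comap A.mulVecLin)).finrank_eq
    rw [hmap, hL2] at this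
    omega
  · intro w hw
    rw [hg, eval_aeval_subst]
    exact hLf _ hw
  · exact Submodule.map_comap_eq_of_le (hArange ▸ hLP)

end Groth.Agent.Lib.Helper24C3f
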