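import Mathlib
import Groth.Agent.Lib.Helper24C3fA

/-!
# Lines on a smooth cubic threefold meeting two incident lines
-/

namespace Groth.Agent.Lib.Helper24C3f

open MvPolynomial

universe u

variable {k : Type u} [Field k] [IsAlgClosed k]

theorem main (f : MvPolynomial (Fin 5) k) (hf : f.IsHomogeneous 3)
    (hsm : ∀ u : Fin 5 → k, u ≠ 0 → eval u f = 0 → ∃ i : Fin 5, eval u (pderiv i f) ≠ 0)
    (L₁ L₂ : Submodule k (Fin 5 → k)) (h₁ : Module.finrank k L₁ = 2)
    (h₂ : Module.finrank k L₂ = 2)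
    (hne : L₁ ≠ L₂) (hmeet : L₁ ⊓ L₂ ≠ ⊥) :
    ∃ G : Set (Submodule k (Fin 5 → k)), G.Finite ∧
      (∀ g ∈ G, Module.finrank k g = 1 ∧ g ≤ L₁) ∧
      ∀ L : Submodule k (Fin 5 → k), Module.finrank k L = 2 → (∀ u ∈ L, eval u f = 0) →
        L ⊓ L₁ ≠ ⊥ → L ⊓ L₂ ≠ ⊥ → ∃ g ∈ G, g ≤ L := by
  classical
  have hsum := Submodule.finrank_sup_add_finrank_inf_eq L₁ L₂
  have hinf1 : 1 ≤ Module.finrank k ↥(L₁ ⊓ L₂) := Submodule.one_le_finrank_iff.mpr hmeet
  have hinf2 : Module.finrank k ↥(L₁ ⊓ L₂) ≤ 1 := by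
    by_contra hcon
    push Not at hcon
    have e1 : L₁ ⊓ L₂ = L₁ :=
      Submodule.eq_of_le_of_finrank_le inf_le_left (by omega)
    have e2 : L₁ ⊓ L₂ = L₂ :=
      Submodule.eq_of_le_of_finrank_le inf_le_right (by omega)
    exact hne (e1.symm.trans e2)
  have hinf : Module.finrank k ↥(L₁ ⊓ L₂) = 1 := le_antisymm hinf2 hinf1
  have hP : Module.finrank k ↥(L₁ ⊔ L₂) = 3 := by omega
  obtain ⟨p0, hp0mem, hp0⟩ := Submodule.exists_mem_ne_zero_of_ne_bot hmeet
  have hp01 : p0 ∈ L₁ := (Submodule.mem_inf.mp hp0mem).1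
  -- any nonzero vector of `L₁ ⊓ L₂` spans `p0`
  have hspan : ∀ q, q ≠ 0 → q ∈ L₁ → q ∈ L₂ → ∃ c : k, p0 = c • q := by
    intro q hq hq1 hq2
    have h1 := (finrank_eq_one_iff_of_nonzero' (⟨q, Submodule.mem_inf.mpr ⟨hq1, hq2⟩⟩ : ↥(L₁ ⊓ L₂))
      (by intro h; exact hq (congrArg Subtype.val h))).mp hinf ⟨p0, hp0mem⟩
    obtain ⟨c, hc⟩ := h1
    exact ⟨c, (congrArg Subtype.val hc).symm⟩
  have hS := finite_lines_in_plane f hf hsm (L₁ ⊔ L₂) hP
  set S : Set (Submodule k (Fin 5 → k)) := {L : Submodule k (Fin 5 → k) |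
      Module.finrank k L = 2 ∧ L ≤ L₁ ⊔ L₂ ∧ ∀ u ∈ L, eval u f = 0} with hSdef
  refine ⟨{Submodule.span k {p0}} ∪ (((fun L => L ⊓ L₁) '' S) ∩ {γ | Module.finrank k γ = 1}),
    (Set.finite_singleton _).union ((hS.image _).subset Set.inter_subset_left), ?_, ?_⟩
  · rintro g (hg | ⟨⟨L, -, rfl⟩, hg1⟩)
    · rw [Set.mem_singleton_iff] at hg
      subst hg
      exact ⟨finrank_span_singleton hp0, (Submodule.span_singleton_le_iff_mem _ _).mpr hp01⟩
    · exact ⟨hg1, inf_le_right⟩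
  · intro L hL2 hLf hL1 hL2'
    by_cases hp : p0 ∈ L
    · exact ⟨_, Or.inl rfl, (Submodule.span_singleton_le_iff_mem _ _).mpr hp⟩
    · have hA : ∀ q, q ≠ 0 → q ∈ L → q ∈ L₁ → q ∈ L₂ → False := by
        intro q hq hqL hq1 hq2
        obtain ⟨c, hc⟩ := hspan q hq hq1 hq2
        exact hp (hc ▸ L.smul_mem c hqL)
      obtain ⟨q1, hq1mem, hq1⟩ := Submodule.exists_mem_ne_zero_of_ne_bot hL1
      obtain ⟨q2, hq2mem, hq2⟩ := Submodule.exists_mem_ne_zero_of_ne_bot hL2'
      obtain ⟨hq1L, hq1L1⟩ := Submodule.mem_inf.mp hq1mem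
      obtain ⟨hq2L, hq2L2⟩ := Submodule.mem_inf.mp hq2mem
      have hli : LinearIndependent k ![q1, q2] := by
        rw [LinearIndependent.pair_iff]
        intro s t hst
        by_cases ht : t = 0
        · subst ht
          rw [zero_smul, add_zero] at hst
          rcases smul_eq_zero.mp hst with h | h
          · exact ⟨h, rfl⟩
          · exact absurd h hq1
        · exfalso
          have hq2eq : q2 = (-(s / t)) • q1 := by
            have h3 : t • q2 = -(s • q1) := eq_neg_of_add_eq_zero_right hst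
            have h4 : q2 = t⁻¹ • (t • q2) := by rw [smul_smul, inv_mul_cancel₀ ht, one_smul]
            rw [h4, h3, smul_neg, smul_smul, neg_smul]
            congr 2
            field_simp
          exact hA q2 hq2 hq2L (hq2eq ▸ L₁.smul_mem _ hq1L1) hq2L2
      have hW : Module.finrank k (Submodule.span k (Set.range ![q1, q2])) = 2 := by
        rw [finrank_span_eq_card hli]
        simp
      have hWL : Submodule.span k (Set.range ![q1, q2]) ≤ L := by
        rw [Submodule.span_le]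
        rintro _ ⟨r, rfl⟩
        fin_cases r
        · exact hq1L
        · exact hq2L
      have hWeq : Submodule.span k (Set.range ![q1, q2]) = L :=
        Submodule.eq_of_le_of_finrank_eq hWL (by rw [hW, hL2])
      have hLP : L ≤ L₁ ⊔ L₂ := by
        rw [← hWeq, Submodule.span_le]
        rintro _ ⟨r, rfl⟩
        fin_cases r
        · exact Submodule.mem_sup_left hq1L1
        · exact Submodule.mem_sup_right hq2L2
      have hLS : L ∈ S := ⟨hL2, hLP, hLf⟩
      have hγ1 : 1 ≤ Module.finrank k ↥(L ⊓ L₁) := Submodule.one_le_finrank_iff.mpr hL1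
      have hγ2 : Module.finrank k ↥(L ⊓ L₁) ≤ 1 := by
        by_contra hcon
        push Not at hcon
        have e1 : L ⊓ L₁ = L₁ :=
          Submodule.eq_of_le_of_finrank_le inf_le_right (by omega)
        have : L₁ ≤ L := e1 ▸ inf_le_left
        exact hp (this hp01)
      refine ⟨L ⊓ L₁, Or.inr ⟨⟨L, hLS, rfl⟩, le_antisymm hγ2 hγ1⟩, inf_le_left⟩

end Groth.Agent.Lib.Helper24C3f
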