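import Mathlib

set_option autoImplicit false

namespace Groth.Agent.Lib.Helper24CI

universe u

section Koszul

variable {R : Type u} [CommRing R]

/-- ideal generated by the first `n` terms of a sequence -/
def Iof (a : ℕ → R) (n : ℕ) : Ideal R := Ideal.span (Set.range fun i : Fin n => a i)

theorem Iof_mono (a : ℕ → R) {n m : ℕ} (h : n ≤ m) : Iof a n ≤ Iof a m := by
  unfold Iof
  apply Ideal.span_mono
  rintro _ ⟨i, rfl⟩
  exact ⟨⟨i, lt_of_lt_of_le i.2 h⟩, rfl⟩

theorem mem_Iof (a : ℕ → R) {n i : ℕ} (h : i < n) : a i ∈ Iof a n :=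
  Ideal.subset_span ⟨⟨i, h⟩, rfl⟩

theorem mem_Iof_iff (a : ℕ → R) (n : ℕ) (x : R) :
    x ∈ Iof a n ↔ ∃ e : ℕ → R, ∑ i ∈ Finset.range n, a i * e i = x := by
  unfold Iof
  rw [Ideal.mem_span_range_iff_exists_fun]
  constructor
  · rintro ⟨c, hc⟩
    refine ⟨fun i => if h : i < n then c ⟨i, h⟩ else 0, ?_⟩
    rw [Finset.sum_range, ← hc]
    apply Finset.sum_congr rfl
    intro i _
    simp only [i.2, dif_pos, Fin.eta]
    ring
  · rintro ⟨e, he⟩
    refine ⟨fun i => e i, ?_⟩
    rw [← he, Finset.sum_range]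
    apply Finset.sum_congr rfl
    intro i _
    ring

/-- vanishing of the first Koszul homology of a weakly regular sequence (elementary form) -/
theorem koszul_one (a : ℕ → R) (c : ℕ)
    (hreg : ∀ n, n < c → ∀ y, a n * y ∈ Iof a n → y ∈ Iof a n) :
    ∀ n, n ≤ c → ∀ m : ℕ → R, ∑ i ∈ Finset.range n, a i * m i = 0 →
      ∀ i, i < n → m i ∈ Iof a n := by
  intro n
  induction n with
  | zero => intro _ m _ i hi; omega
  | succ n ih =>
    intro hn m hm i hi
    rw [Finset.sum_range_succ] at hm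
    have h1 : a n * m n ∈ Iof a n := by
      have : a n * m n = - ∑ i ∈ Finset.range n, a i * m i := by
        rw [eq_neg_iff_add_eq_zero, add_comm]; exact hm
      rw [this]
      apply Ideal.neg_mem_iff _ |>.mpr
      exact (mem_Iof_iff a n _).mpr ⟨m, rfl⟩
    have h2 : m n ∈ Iof a n := hreg n (by omega) _ h1
    obtain ⟨e, he⟩ := (mem_Iof_iff a n _).mp h2
    have h3 : ∑ i ∈ Finset.range n, a i * (m i + a n * e i) = 0 := by
      rw [← hm, ← he, Finset.mul_sum, ← Finset.sum_add_distrib]
      apply Finset.sum_congr rfl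
      intro j _
      ring
    have h4 := ih (by omega) _ h3
    rcases Nat.lt_succ_iff_lt_or_eq.mp hi with hlt | heq
    · have h5 := h4 i hlt
      have : m i = (m i + a n * e i) - a n * e i := by ring
      rw [this]
      apply Ideal.sub_mem
      · exact Iof_mono a (Nat.le_succ n) h5
      · exact Ideal.mul_mem_right _ _ (mem_Iof a (Nat.lt_succ_self n))
    · rw [heq]
      exact Iof_mono a (Nat.le_succ n) h2

/-- quasi-regularity in degree one -/
theorem quasi_regular_one (a : ℕ → R) (c : ℕ)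
    (hreg : ∀ n, n < c → ∀ y, a n * y ∈ Iof a n → y ∈ Iof a n)
    (b : ℕ → R) (hb : ∑ i ∈ Finset.range c, a i * b i ∈ Iof a c * Iof a c) :
    ∀ i, i < c → b i ∈ Iof a c := by
  have h1 : ∃ y : ℕ → R, (∀ i, y i ∈ Iof a c) ∧
      ∑ i ∈ Finset.range c, a i * y i = ∑ i ∈ Finset.range c, a i * b i := by
    have h2 : ∀ x ∈ Iof a c * Iof a c, ∃ y : ℕ → R, (∀ i, y i ∈ Iof a c) ∧
        ∑ i ∈ Finset.range c, a i * y i = x := by
      intro x hx
      refine Submodule.mul_induction_on hx ?_ ?_
      · intro p hp q hq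
        obtain ⟨e, he⟩ := (mem_Iof_iff a c _).mp hp
        refine ⟨fun i => e i * q, fun i => Ideal.mul_mem_left _ _ hq, ?_⟩
        rw [← he, Finset.sum_mul]
        apply Finset.sum_congr rfl
        intro j _
        ring
      · rintro p q ⟨y1, hy1, rfl⟩ ⟨y2, hy2, rfl⟩
        refine ⟨fun i => y1 i + y2 i, fun i => Ideal.add_mem _ (hy1 i) (hy2 i), ?_⟩
        rw [← Finset.sum_add_distrib]
        apply Finset.sum_congr rfl
        intro j _
        ring
    exact h2 _ hb
  obtain ⟨y, hy, hsum⟩ := h1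
  have h3 : ∑ i ∈ Finset.range c, a i * (b i - y i) = 0 := by
    have : ∑ i ∈ Finset.range c, a i * (b i - y i) =
        ∑ i ∈ Finset.range c, a i * b i - ∑ i ∈ Finset.range c, a i * y i := by
      rw [← Finset.sum_sub_distrib]
      apply Finset.sum_congr rfl
      intro j _
      ring
    rw [this, hsum, sub_self]
  intro i hi
  have h4 := koszul_one a c hreg c le_rfl _ h3 i hi
  have : b i = (b i - y i) + y i := by ring
  rw [this]
  exact Ideal.add_mem _ h4 (hy i)

end Koszul

section Fin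

variable {R : Type u} [CommRing R] {c : ℕ} (a : Fin c → R)

/-- extension by zero of a finite family to a sequence -/
def ext0 : ℕ → R := fun i => if h : i < c then a ⟨i, h⟩ else 0

theorem ext0_apply (i : Fin c) : ext0 a i = a i := by
  simp [ext0, i.2]

theorem Iof_ext0 : Iof (ext0 a) c = Ideal.span (Set.range a) := by
  unfold Iof
  congr 1
  ext x
  constructor
  · rintro ⟨i, rfl⟩
    exact ⟨i, (ext0_apply a i).symm⟩
  · rintro ⟨i, rfl⟩
    exact ⟨i, ext0_apply a i⟩

theorem Iof_ext0_eq_ofList (n : ℕ) (hn : n ≤ c) :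
    Iof (ext0 a) n = Ideal.ofList ((List.ofFn a).take n) := by
  unfold Iof Ideal.ofList
  congr 1
  ext x
  simp only [Set.mem_range, Set.mem_setOf_eq]
  constructor
  · rintro ⟨i, rfl⟩
    rw [List.mem_iff_getElem]
    refine ⟨i, by simp [List.length_take, List.length_ofFn]; omega, ?_⟩
    rw [List.getElem_take, List.getElem_ofFn]
    simp [ext0, lt_of_lt_of_le i.2 hn]
  · intro hx
    rw [List.mem_iff_getElem] at hx
    obtain ⟨i, hi, rfl⟩ := hx
    have hi' : i < n := by
      simp [List.length_take, List.length_ofFn] at hi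
      omega
    refine ⟨⟨i, hi'⟩, ?_⟩
    rw [List.getElem_take, List.getElem_ofFn]
    simp [ext0, lt_of_lt_of_le hi' hn]

theorem hreg_of_isWeaklyRegular
    (h : RingTheory.Sequence.IsWeaklyRegular R (List.ofFn a)) :
    ∀ n, n < c → ∀ y, ext0 a n * y ∈ Iof (ext0 a) n → y ∈ Iof (ext0 a) n := by
  intro n hn y hy
  have hlen : n < (List.ofFn a).length := by rw [List.length_ofFn]; exact hn
  have h1 := h.regular_mod_prev n hlen
  rw [Iof_ext0_eq_ofList a n hn.le] at hy ⊢
  have h2 : (List.ofFn a)[n] = ext0 a n := by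
    rw [List.getElem_ofFn]
    simp [ext0, hn]
  rw [h2] at h1
  have h3 : (Submodule.Quotient.mk y :
      R ⧸ (Ideal.ofList ((List.ofFn a).take n) • ⊤ : Submodule R R)) = 0 := by
    apply h1
    change ext0 a n • Submodule.Quotient.mk y = ext0 a n • 0
    rw [smul_zero, ← Submodule.Quotient.mk_smul, Submodule.Quotient.mk_eq_zero]
    rw [smul_eq_mul, Ideal.mul_top, smul_eq_mul]
    exact hy
  rw [Submodule.Quotient.mk_eq_zero, smul_eq_mul, Ideal.mul_top] at h3
  exact h3

/-- quasi-regularity in degree one for a weakly regular sequence indexed by `Fin c` -/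
theorem quasi_regular_fin
    (h : RingTheory.Sequence.IsWeaklyRegular R (List.ofFn a))
    (b : Fin c → R)
    (hb : ∑ i, b i * a i ∈ Ideal.span (Set.range a) * Ideal.span (Set.range a)) :
    ∀ i, b i ∈ Ideal.span (Set.range a) := by
  intro i
  have h1 := quasi_regular_one (ext0 a) c (hreg_of_isWeaklyRegular a h) (ext0 b) (by
    rw [Iof_ext0, Finset.sum_range]
    convert hb using 1
    apply Finset.sum_congr rfl
    intro j _
    rw [ext0_apply, ext0_apply, mul_comm]) i i.2
  rw [Iof_ext0, ext0_apply] at h1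
  exact h1

end Fin

end Groth.Agent.Lib.Helper24CI
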