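import Mathlib

set_option autoImplicit false

namespace Groth.Agent.Lib.Helper24CI

universe u

open CategoryTheory

section ExtPres

variable {S : Type u} [CommRing S] {c r : ℕ} (M : Type u) [AddCommGroup M] [Module S M]
  (σ : (Fin c → S) →ₗ[S] (Fin r → S)) (q : (Fin r → S) →ₗ[S] M)

variable (hq : Function.Surjective q) (hker : LinearMap.ker q = LinearMap.range σ)
  (hinj : Function.Injective σ)

/-- the short complex of the presentation -/
noncomputable abbrev presSC (hker : LinearMap.ker q = LinearMap.range σ) :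
    ShortComplex (ModuleCat.{u} S) :=
  ShortComplex.mk (ModuleCat.ofHom σ) (ModuleCat.ofHom q) (by
    rw [← ModuleCat.ofHom_comp]
    have : q ∘ₗ σ = 0 := by
      apply LinearMap.ext
      intro x
      have : σ x ∈ LinearMap.ker q := by rw [hker]; exact ⟨x, rfl⟩
      exact this
    rw [this]
    rfl)

include hq hinj in
theorem presSC_shortExact : (presSC M σ q hker).ShortExact := by
  refine ShortComplex.ShortExact.mk' ?_ ?_ ?_
  · rw [ShortComplex.moduleCat_exact_iff_range_eq_ker]
    exact hker.symm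
  · exact (ModuleCat.mono_iff_injective _).mpr hinj
  · exact (ModuleCat.epi_iff_surjective _).mpr hq

instance instProjFin (n : ℕ) : Projective (ModuleCat.of S (Fin n → S)) :=
  (IsProjective.iff_projective (R := S) (P := (Fin n → S))).mp inferInstance

/-- the map from the dual of the relation module to `Ext¹` -/
noncomputable def theta :
    Module.Dual S (Fin c → S) →ₗ[S] Abelian.Ext (ModuleCat.of S M) (ModuleCat.of S S) 1 where
  toFun ψ := (presSC_shortExact M σ q hq hker hinj).extClass.comp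
    (Abelian.Ext.mk₀ (ModuleCat.ofHom ψ)) (add_zero 1)
  map_add' ψ₁ ψ₂ := by
    have : ModuleCat.ofHom (ψ₁ + ψ₂) = ModuleCat.ofHom ψ₁ + ModuleCat.ofHom ψ₂ := rfl
    rw [this, Abelian.Ext.mk₀_add, Abelian.Ext.comp_add]
  map_smul' t ψ := by
    have : ModuleCat.ofHom (t • ψ) = t • ModuleCat.ofHom ψ := rfl
    rw [this, Abelian.Ext.mk₀_smul, Abelian.Ext.comp_smul]
    rfl

theorem theta_apply (ψ : Module.Dual S (Fin c → S)) :
    theta M σ q hq hker hinj ψ = (presSC_shortExact M σ q hq hker hinj).extClass.comp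
      (Abelian.Ext.mk₀ (ModuleCat.ofHom ψ)) (add_zero 1) := rfl

theorem theta_surj : Function.Surjective (theta M σ q hq hker hinj) := by
  have hS := presSC_shortExact M σ q hq hker hinj
  intro x
  have h2 : (Abelian.Ext.mk₀ (presSC M σ q hker).g).comp x (zero_add 1) = 0 := by
    haveI : Projective (presSC M σ q hker).X₂ :=
      inferInstanceAs (Projective (ModuleCat.of S (Fin r → S)))
    exact Abelian.Ext.eq_zero_of_projective (n := 0) _
  obtain ⟨x₁, hx₁⟩ := Abelian.Ext.contravariant_sequence_exact₃ hS _ x h2 (show 1 + 0 = 1 from rfl)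
  obtain ⟨φ, rfl⟩ := (Abelian.Ext.mk₀_bijective _ _).2 x₁
  refine ⟨(ModuleCat.Hom.hom φ), ?_⟩
  rw [theta_apply, ← hx₁]
  rfl

theorem theta_ker :
    LinearMap.ker (theta M σ q hq hker hinj) = LinearMap.range σ.dualMap := by
  have hS := presSC_shortExact M σ q hq hker hinj
  ext ψ
  rw [LinearMap.mem_ker, theta_apply]
  constructor
  · intro h
    obtain ⟨x₂, hx₂⟩ := Abelian.Ext.contravariant_sequence_exact₁ hS _ _ (show 1 + 0 = 1 from rfl) h
    obtain ⟨ψ', rfl⟩ := (Abelian.Ext.mk₀_bijective _ _).2 x₂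
    rw [Abelian.Ext.mk₀_comp_mk₀] at hx₂
    have h3 := (Abelian.Ext.mk₀_bijective _ _).1 hx₂
    refine ⟨ψ'.hom, ?_⟩
    have h4 := congrArg ModuleCat.Hom.hom h3
    rw [ModuleCat.hom_comp] at h4
    exact h4
  · rintro ⟨ψ', rfl⟩
    have h5 : (presSC M σ q hker).f ≫ ModuleCat.ofHom ψ' = ModuleCat.ofHom (σ.dualMap ψ') := rfl
    rw [← h5, ← Abelian.Ext.mk₀_comp_mk₀]
    exact hS.extClass_comp_assoc _

include hq hker hinj in
/-- the computation of `Ext¹` from a presentation -/
theorem ext_one_equiv :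
    Nonempty (Abelian.Ext (ModuleCat.of S M) (ModuleCat.of S S) 1 ≃ₗ[S]
      Module.Dual S (Fin c → S) ⧸ LinearMap.range σ.dualMap) := by
  have e1 := LinearMap.quotKerEquivOfSurjective _ (theta_surj M σ q hq hker hinj)
  have e2 := Submodule.quotEquivOfEq _ _ (theta_ker M σ q hq hker hinj)
  exact ⟨e1.symm.trans e2⟩

end ExtPres

end Groth.Agent.Lib.Helper24CI
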