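import Mathlib
import Groth.Agent.Lib.Helper24CIa
import Groth.Agent.Lib.Helper18Fitt31

set_option autoImplicit false

namespace Groth.Agent.Lib.Helper24CI

universe u

open MvPolynomial KaehlerDifferential Algebra Groth.Agent.Helper18Fitt

section H1

variable {k : Type u} [Field k] [PerfectField k] {B : Type u} [CommRing B] [Algebra k B]
  [Algebra.FiniteType k B] [IsReduced B]

theorem h1_loc_subsingleton (𝔭 : Ideal B) (h𝔭 : 𝔭 ∈ minimalPrimes B) :
    haveI := h𝔭.1.1
    Subsingleton (Algebra.H1Cotangent k (Localization.AtPrime 𝔭)) := by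
  have := h𝔭.1.1
  have : Ring.KrullDimLE 0 (Localization.AtPrime 𝔭) := .of_isLocalization _ h𝔭 _
  let _ : Field (Localization.AtPrime 𝔭) := Ring.KrullDimLE.isField_of_isReduced.toField
  have h1 : Algebra.EssFiniteType B (Localization.AtPrime 𝔭) :=
    .of_isLocalization _ 𝔭.primeCompl
  have h2 : Algebra.EssFiniteType k (Localization.AtPrime 𝔭) := .comp k B _
  have : Algebra.FormallySmooth k (Localization.AtPrime 𝔭) :=
    Algebra.FormallySmooth.of_perfectField
  exact this.subsingleton_h1Cotangent

theorem exists_smul_eq_zero (h' : Algebra.H1Cotangent k B) (𝔭 : Ideal B)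
    (h𝔭 : 𝔭 ∈ minimalPrimes B) : ∃ s : B, s ∉ 𝔭 ∧ s • h' = 0 := by
  have := h𝔭.1.1
  have hsub := h1_loc_subsingleton (k := k) 𝔭 h𝔭
  have h0 : Algebra.H1Cotangent.map k k B (Localization.AtPrime 𝔭) h' = 0 :=
    Subsingleton.elim _ _
  obtain ⟨s, hs⟩ := (IsLocalizedModule.eq_zero_iff 𝔭.primeCompl _).mp h0
  exact ⟨s.1, s.2, hs⟩

theorem eq_zero_of_forall_minimal (y : B)
    (h : ∀ 𝔭 ∈ minimalPrimes B, y ∈ 𝔭) : y = 0 := by
  have h1 : y ∈ sInf (minimalPrimes B) := by
    rw [Ideal.mem_sInf]
    intro 𝔭 h𝔭
    exact h 𝔭 h𝔭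
  have h2 : sInf (minimalPrimes B) = (⊥ : Ideal B).radical := Ideal.sInf_minimalPrimes
  rw [h2] at h1
  have h3 : (⊥ : Ideal B).radical = ⊥ := by
    have := nilradical_eq_zero B
    exact this
  rw [h3] at h1
  exact h1

end H1

section Jac

variable {k : Type u} [Field k] [PerfectField k] {B : Type u} [CommRing B] [Algebra k B]
  [IsReduced B] {r c : ℕ} (pres : Algebra.Presentation k B (Fin r) (Fin c))

theorem jac_injective
    (hreg : RingTheory.Sequence.IsWeaklyRegular pres.Ring (List.ofFn pres.relation))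
    (v : Fin c → B) (hv : ∀ j, ∑ i, v i * jacRow pres i j = 0) : v = 0 := by
  classical
  haveI : Algebra.FinitePresentation k B := pres.finitePresentation_of_isFinite
  haveI : Algebra.FiniteType k B := inferInstance
  let E := pres.toExtension
  let b : Fin c → pres.Ring := fun i => pres.σ (v i)
  have hb : ∀ i, algebraMap pres.Ring B (b i) = v i := by
    intro i
    simp [b]
  have hrel0 : ∀ i, algebraMap pres.Ring B (pres.relation i) = 0 := by
    intro i
    rw [pres.algebraMap_apply]
    exact pres.aeval_val_relation i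
  let x : pres.Ring := ∑ i, b i * pres.relation i
  have hx : x ∈ E.ker := by
    apply Ideal.sum_mem
    intro i _
    exact Ideal.mul_mem_left _ _ (pres.relation_mem_ker i)
  let X : E.ker := ⟨x, hx⟩
  have h1 : E.cotangentComplex (Extension.Cotangent.mk X) = 0 := by
    rw [Extension.cotangentComplex_mk]
    apply pres.cotangentSpaceBasis.repr.injective
    ext j
    rw [Generators.cotangentSpaceBasis_repr_one_tmul, map_zero, Finsupp.zero_apply]
    change aeval pres.val (pderiv j x) = 0
    rw [← pres.algebraMap_apply]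
    simp only [x, map_sum, Derivation.leibniz, smul_eq_mul, map_add, map_mul, hb, hrel0, zero_mul,
      add_zero]
    exact hv j
  let h : E.H1Cotangent := ⟨Extension.Cotangent.mk X, h1⟩
  let e := pres.toGenerators.equivH1Cotangent
  -- the key claim
  have key : ∀ 𝔭 ∈ minimalPrimes B, ∀ i, v i ∈ 𝔭 := by
    intro 𝔭 h𝔭 i
    have := h𝔭.1.1
    obtain ⟨s, hs, hs0⟩ := exists_smul_eq_zero (k := k) (e h) 𝔭 h𝔭
    rw [← map_smul, LinearEquiv.map_eq_zero_iff] at hs0
    have h2 : s • Extension.Cotangent.mk X = 0 := by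
      have := congrArg Subtype.val hs0
      exact this
    let p' : pres.Ring := pres.σ s
    let p : E.Ring := pres.σ s
    have hp : algebraMap E.Ring B p = s := by
      change algebraMap pres.Ring B (pres.σ s) = s
      simp
    have h3 : Extension.Cotangent.mk (p • X) = 0 := by
      rw [map_smul, ← h2, ← hp, algebraMap_smul]
    rw [Extension.Cotangent.mk_eq_zero_iff] at h3
    have h4 : ∑ i, (p' * b i) * pres.relation i ∈
        Ideal.span (Set.range pres.relation) * Ideal.span (Set.range pres.relation) := by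
      rw [pres.span_range_relation_eq_ker, ← pow_two]
      have h3' : p' * x ∈ pres.ker ^ 2 := h3
      have h3'' : ∑ i, (p' * b i) * pres.relation i = p' * x := by
        rw [Finset.mul_sum]
        apply Finset.sum_congr rfl
        intro j _
        ring
      rw [h3'']
      exact h3'
    have h5 := quasi_regular_fin pres.relation hreg _ h4 i
    rw [pres.span_range_relation_eq_ker] at h5
    have h6 : algebraMap pres.Ring B (p' * b i) = 0 := h5
    have hp' : algebraMap pres.Ring B p' = s := hp
    rw [map_mul, hp', hb] at h6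
    exact (Ideal.IsPrime.mem_or_mem_of_mul_eq_zero ‹_› h6).resolve_left hs
  funext i
  exact eq_zero_of_forall_minimal (v i) (fun 𝔭 h𝔭 => key 𝔭 h𝔭 i)

end Jac

end Groth.Agent.Lib.Helper24CI
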