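import Mathlib
import Groth.Agent.Lib.Helper24CIb
import Groth.Agent.Lib.Helper24CIc
import Groth.Agent.Lib.Helper18Fitt30
import Groth.Prelude.Def_Fitting

set_option autoImplicit false

namespace Groth.Agent.Lib.Helper24CI

universe u

open MvPolynomial KaehlerDifferential Algebra Groth.Agent.Helper18Fitt CategoryTheory

section Main

variable {k : Type u} [Field k] [PerfectField k] {B : Type u} [CommRing B] [Algebra k B]
  [IsReduced B] {r c : ℕ} (pres : Algebra.Presentation k B (Fin r) (Fin c))

/-- the Jacobian map `B^c → B^r` -/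
noncomputable def jacMap : (Fin c → B) →ₗ[B] (Fin r → B) :=
  (Matrix.of (jacRow pres)).vecMulLinear

theorem jacMap_apply (v : Fin c → B) (j : Fin r) :
    jacMap pres v j = ∑ i, v i * jacRow pres i j := by
  simp [jacMap, Matrix.vecMul, dotProduct]

theorem range_jacMap : LinearMap.range (jacMap pres) = Submodule.span B (Set.range (jacRow pres)) := by
  unfold jacMap
  rw [_root_.range_vecMulLinear]
  rfl

/-- the surjection `B^r → Ω` -/
noncomputable def omegaMap : (Fin r → B) →ₗ[B] Ω[B⁄k] :=
  Fintype.linearCombination B (omegaGen pres)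

theorem omegaMap_apply (z : Fin r → B) : omegaMap pres z = ∑ j, z j • omegaGen pres j := by
  simp [omegaMap, Fintype.linearCombination_apply]

theorem omegaMap_surjective : Function.Surjective (omegaMap pres) := by
  rw [← LinearMap.range_eq_top]
  unfold omegaMap
  rw [Fintype.range_linearCombination]
  exact omegaGen_span pres

theorem ker_omegaMap : LinearMap.ker (omegaMap pres) = LinearMap.range (jacMap pres) := by
  ext z
  rw [LinearMap.mem_ker, omegaMap_apply, omegaGen_rel, range_jacMap]

theorem jacMap_injective
    (hreg : RingTheory.Sequence.IsWeaklyRegular pres.Ring (List.ofFn pres.relation)) :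
    Function.Injective (jacMap pres) := by
  rw [injective_iff_map_eq_zero]
  intro v hv
  apply jac_injective pres hreg v
  intro j
  rw [← jacMap_apply, hv]
  rfl

theorem fitt_main
    (hreg : RingTheory.Sequence.IsWeaklyRegular pres.Ring (List.ofFn pres.relation)) :
    Fitt.ideal B Ω[B⁄k] (r - c) =
      Fitt.ideal B (Abelian.Ext.{u} (ModuleCat.of B Ω[B⁄k]) (ModuleCat.of B B) 1) 0 := by
  have hinj := jacMap_injective pres hreg
  have e1 : ((Fin r → B) ⧸ LinearMap.range (jacMap pres)) ≃ₗ[B] Ω[B⁄k] :=
    (Submodule.quotEquivOfEq _ _ (ker_omegaMap pres).symm).trans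
      (LinearMap.quotKerEquivOfSurjective _ (omegaMap_surjective pres))
  obtain ⟨e2⟩ := ext_one_equiv Ω[B⁄k] (jacMap pres) (omegaMap pres) (omegaMap_surjective pres)
    (ker_omegaMap pres) hinj
  rw [← fitt_congr' e1 (r - c), fitt_congr' e2 0]
  have := (main_S14347 B c r (jacMap pres) hinj).1 0
  rw [add_zero] at this
  exact this

end Main

section Final

theorem main
    (k : Type u) [Field k] [IsAlgClosed k] (r c : ℕ)
    (B : Type u) [CommRing B] [Algebra k B] [IsReduced B]
    (φ : MvPolynomial (Fin r) k →ₐ[k] B) (hφ : Function.Surjective φ)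
    (a : Fin c → MvPolynomial (Fin r) k)
    (ha : RingTheory.Sequence.IsRegular (MvPolynomial (Fin r) k) (List.ofFn a))
    (hker : RingHom.ker φ.toRingHom = Ideal.span (Set.range a)) :
    Fitt.ideal B (KaehlerDifferential k B) (r - c) =
      Fitt.ideal B (Abelian.Ext.{u} (ModuleCat.of B (KaehlerDifferential k B)) (ModuleCat.of B B) 1) 0 := by
  have hφ' : (aeval (fun i => φ (X i)) : MvPolynomial (Fin r) k →ₐ[k] B) = φ := by
    apply MvPolynomial.algHom_ext
    intro i
    simp
  have hsurj : Function.Surjective (aeval (R := k) (fun i => φ (X i))) := by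
    rw [hφ']
    exact hφ
  let G : Algebra.Generators k B (Fin r) := Algebra.Generators.ofSurjective (fun i => φ (X i)) hsurj
  let pres : Algebra.Presentation k B (Fin r) (Fin c) :=
    { toGenerators := G
      relation := a
      span_range_relation_eq_ker := by
        rw [← hker, G.ker_eq_ker_aeval_val]
        change _ = RingHom.ker (aeval (fun i => φ (X i)))
        rw [hφ']
        rfl }
  exact fitt_main pres ha.toIsWeaklyRegular

end Final

end Groth.Agent.Lib.Helper24CI
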