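import Mathlib

namespace Groth.Agent.Lib.Helper24Cartan

open Matrix Polynomial

variable {p : ℕ} [Fact p.Prime]

/-- 2×2 Cayley–Hamilton. -/
theorem sq_eq (A : Matrix (Fin 2) (Fin 2) (ZMod p)) :
    A * A = A.trace • A - A.det • (1 : Matrix (Fin 2) (Fin 2) (ZMod p)) := by
  ext i j
  fin_cases i <;> fin_cases j <;>
    simp [Matrix.mul_apply, Fin.sum_univ_two, Matrix.trace_fin_two, Matrix.det_fin_two] <;> ring

/-- upper unipotent -/
def U (t : ZMod p) : GL (Fin 2) (ZMod p) :=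
  ⟨!![1, t; 0, 1], !![1, -t; 0, 1], by
    ext i j; fin_cases i <;> fin_cases j <;> simp [Matrix.mul_apply, Fin.sum_univ_two],
   by ext i j; fin_cases i <;> fin_cases j <;> simp [Matrix.mul_apply, Fin.sum_univ_two]⟩

/-- lower unipotent -/
def L (t : ZMod p) : GL (Fin 2) (ZMod p) :=
  ⟨!![1, 0; t, 1], !![1, 0; -t, 1], by
    ext i j; fin_cases i <;> fin_cases j <;> simp [Matrix.mul_apply, Fin.sum_univ_two],
   by ext i j; fin_cases i <;> fin_cases j <;> simp [Matrix.mul_apply, Fin.sum_univ_two]⟩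

@[simp] theorem U_coe (t : ZMod p) : ((U t : GL (Fin 2) (ZMod p)) : Matrix (Fin 2) (Fin 2) (ZMod p)) =
    !![1, t; 0, 1] := rfl

@[simp] theorem L_coe (t : ZMod p) : ((L t : GL (Fin 2) (ZMod p)) : Matrix (Fin 2) (Fin 2) (ZMod p)) =
    !![1, 0; t, 1] := rfl

theorem U_add (s t : ZMod p) : U (s + t) = U s * U t := by
  apply Units.ext
  rw [Units.val_mul, U_coe, U_coe, U_coe]
  ext i j; fin_cases i <;> fin_cases j <;> simp [Matrix.mul_apply, Fin.sum_univ_two, add_comm]

theorem L_add (s t : ZMod p) : L (s + t) = L s * L t := by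
  apply Units.ext
  rw [Units.val_mul, L_coe, L_coe, L_coe]
  ext i j; fin_cases i <;> fin_cases j <;> simp [Matrix.mul_apply, Fin.sum_univ_two, add_comm]

theorem U_zero : U (0 : ZMod p) = 1 := by
  apply Units.ext
  rw [U_coe]
  ext i j; fin_cases i <;> fin_cases j <;> simp

theorem L_zero : L (0 : ZMod p) = 1 := by
  apply Units.ext
  rw [L_coe]
  ext i j; fin_cases i <;> fin_cases j <;> simp

theorem U_nsmul (k : ℕ) (b : ZMod p) : U ((k : ZMod p) * b) = (U b) ^ k := by
  induction k with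
  | zero => simp [U_zero]
  | succ k ih => rw [Nat.cast_succ, add_mul, one_mul, U_add, ih, pow_succ]

theorem L_nsmul (k : ℕ) (b : ZMod p) : L ((k : ZMod p) * b) = (L b) ^ k := by
  induction k with
  | zero => simp [L_zero]
  | succ k ih => rw [Nat.cast_succ, add_mul, one_mul, L_add, ih, pow_succ]

theorem U_mem_of (H : Subgroup (GL (Fin 2) (ZMod p))) (b : ZMod p) (hb : b ≠ 0) (h : U b ∈ H)
    (t : ZMod p) : U t ∈ H := by
  have : t = ((t / b).val : ZMod p) * b := by
    rw [ZMod.natCast_zmod_val, div_mul_cancel₀ _ hb]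
  rw [this, U_nsmul]
  exact pow_mem h _

theorem L_mem_of (H : Subgroup (GL (Fin 2) (ZMod p))) (b : ZMod p) (hb : b ≠ 0) (h : L b ∈ H)
    (t : ZMod p) : L t ∈ H := by
  have : t = ((t / b).val : ZMod p) * b := by
    rw [ZMod.natCast_zmod_val, div_mul_cancel₀ _ hb]
  rw [this, L_nsmul]
  exact pow_mem h _

theorem mem_of_det_one_aux (H : Subgroup (GL (Fin 2) (ZMod p))) (hU : ∀ t, U t ∈ H)
    (hL : ∀ t, L t ∈ H) (g : GL (Fin 2) (ZMod p))
    (hg : (g : Matrix (Fin 2) (Fin 2) (ZMod p)).det = 1)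
    (hc : (g : Matrix (Fin 2) (Fin 2) (ZMod p)) 1 0 ≠ 0) : g ∈ H := by
  set A : Matrix (Fin 2) (Fin 2) (ZMod p) := (g : Matrix (Fin 2) (Fin 2) (ZMod p)) with hA
  have hdet : A 0 0 * A 1 1 - A 0 1 * A 1 0 = 1 := by rw [← Matrix.det_fin_two]; exact hg
  have key : g = U ((A 0 0 - 1) / A 1 0) * L (A 1 0) * U ((A 1 1 - 1) / A 1 0) := by
    apply Units.ext
    rw [Units.val_mul, Units.val_mul, U_coe, U_coe, L_coe, ← hA]
    ext i j
    fin_cases i <;> fin_cases j
    · simp [Matrix.mul_apply, Fin.sum_univ_two]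
      field_simp
      ring
    · simp [Matrix.mul_apply, Fin.sum_univ_two]
      field_simp
      linear_combination (-1 : ZMod p) * hdet
    · simp [Matrix.mul_apply, Fin.sum_univ_two]
    · simp [Matrix.mul_apply, Fin.sum_univ_two]
      field_simp
      ring
  rw [key]
  exact mul_mem (mul_mem (hU _) (hL _)) (hU _)

theorem mem_of_det_one (H : Subgroup (GL (Fin 2) (ZMod p))) (hU : ∀ t, U t ∈ H)
    (hL : ∀ t, L t ∈ H) (g : GL (Fin 2) (ZMod p))
    (hg : (g : Matrix (Fin 2) (Fin 2) (ZMod p)).det = 1) : g ∈ H := by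
  by_cases hc : (g : Matrix (Fin 2) (Fin 2) (ZMod p)) 1 0 = 0
  · have hdet : (g : Matrix (Fin 2) (Fin 2) (ZMod p)) 0 0 * (g : Matrix (Fin 2) (Fin 2) (ZMod p)) 1 1
        - (g : Matrix (Fin 2) (Fin 2) (ZMod p)) 0 1 * (g : Matrix (Fin 2) (Fin 2) (ZMod p)) 1 0 = 1 := by
      rw [← Matrix.det_fin_two]; exact hg
    have ha : (g : Matrix (Fin 2) (Fin 2) (ZMod p)) 0 0 ≠ 0 := by
      intro h0
      rw [h0, hc] at hdet
      simp at hdet
    have h1 : L 1 * g ∈ H := by
      apply mem_of_det_one_aux H hU hL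
      · rw [Units.val_mul, Matrix.det_mul, hg, L_coe, Matrix.det_fin_two_of]
        simp
      · rw [Units.val_mul, L_coe]
        simp [Matrix.mul_apply, Fin.sum_univ_two, hc, ha]
    have : g = (L 1)⁻¹ * (L 1 * g) := by group
    rw [this]
    exact mul_mem (inv_mem (hL 1)) h1
  · exact mem_of_det_one_aux H hU hL g hg hc

theorem U_mem_of_unip (H : Subgroup (GL (Fin 2) (ZMod p))) (g : GL (Fin 2) (ZMod p)) (hg : g ∈ H)
    (hne : g ≠ 1)
    (hsq : ((g : Matrix (Fin 2) (Fin 2) (ZMod p)) - 1) * ((g : Matrix (Fin 2) (Fin 2) (ZMod p)) - 1) = 0)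
    (hfix : ((g : Matrix (Fin 2) (Fin 2) (ZMod p)) - 1) *ᵥ (Pi.single 0 1) = 0) (t : ZMod p) :
    U t ∈ H := by
  set N : Matrix (Fin 2) (Fin 2) (ZMod p) := (g : Matrix (Fin 2) (Fin 2) (ZMod p)) - 1 with hN
  have h00 : N 0 0 = 0 := by
    have := congrFun hfix 0
    simpa [Matrix.mulVec, dotProduct, Fin.sum_univ_two] using this
  have h10 : N 1 0 = 0 := by
    have := congrFun hfix 1
    simpa [Matrix.mulVec, dotProduct, Fin.sum_univ_two] using this
  have h11 : N 1 1 = 0 := by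
    have := congrFun (congrFun hsq 1) 1
    simp only [Matrix.mul_apply, Fin.sum_univ_two, h10, zero_mul, zero_add, Matrix.zero_apply] at this
    exact mul_self_eq_zero.mp this
  have hgN : (g : Matrix (Fin 2) (Fin 2) (ZMod p)) = 1 + N := by rw [hN]; abel
  have hgU : g = U (N 0 1) := by
    apply Units.ext
    rw [U_coe, hgN]
    ext i j
    fin_cases i <;> fin_cases j <;> simp [h00, h10, h11]
  have hb : N 0 1 ≠ 0 := by
    intro h0
    rw [h0, U_zero] at hgU
    exact hne hgU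
  exact U_mem_of H (N 0 1) hb (hgU ▸ hg) t

theorem L_mem_of_unip (H : Subgroup (GL (Fin 2) (ZMod p))) (g : GL (Fin 2) (ZMod p)) (hg : g ∈ H)
    (hne : g ≠ 1)
    (hsq : ((g : Matrix (Fin 2) (Fin 2) (ZMod p)) - 1) * ((g : Matrix (Fin 2) (Fin 2) (ZMod p)) - 1) = 0)
    (hfix : ((g : Matrix (Fin 2) (Fin 2) (ZMod p)) - 1) *ᵥ (Pi.single 1 1) = 0) (t : ZMod p) :
    L t ∈ H := by
  set N : Matrix (Fin 2) (Fin 2) (ZMod p) := (g : Matrix (Fin 2) (Fin 2) (ZMod p)) - 1 with hN
  have h01 : N 0 1 = 0 := by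
    have := congrFun hfix 0
    simpa [Matrix.mulVec, dotProduct, Fin.sum_univ_two] using this
  have h11 : N 1 1 = 0 := by
    have := congrFun hfix 1
    simpa [Matrix.mulVec, dotProduct, Fin.sum_univ_two] using this
  have h00 : N 0 0 = 0 := by
    have := congrFun (congrFun hsq 0) 0
    simp only [Matrix.mul_apply, Fin.sum_univ_two, h01, zero_mul, add_zero, Matrix.zero_apply] at this
    exact mul_self_eq_zero.mp this
  have hgN : (g : Matrix (Fin 2) (Fin 2) (ZMod p)) = 1 + N := by rw [hN]; abel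
  have hgL : g = L (N 1 0) := by
    apply Units.ext
    rw [L_coe, hgN]
    ext i j
    fin_cases i <;> fin_cases j <;> simp [h00, h01, h11]
  have hb : N 1 0 ≠ 0 := by
    intro h0
    rw [h0, L_zero] at hgL
    exact hne hgL
  exact L_mem_of H (N 1 0) hb (hgL ▸ hg) t

theorem unipotents_mem (H C : Subgroup (GL (Fin 2) (ZMod p))) (hCH : C ≤ H)
    (htrans : ∀ v w : Fin 2 → ZMod p, v ≠ 0 → w ≠ 0 →
      ∃ c ∈ C, (c : Matrix (Fin 2) (Fin 2) (ZMod p)) *ᵥ v = w)
    (h : GL (Fin 2) (ZMod p)) (hh : h ∈ H) (hord : orderOf h = p) :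
    (∀ t, U t ∈ H) ∧ (∀ t, L t ∈ H) := by
  have hp : p.Prime := Fact.out
  set N : Matrix (Fin 2) (Fin 2) (ZMod p) := (h : Matrix (Fin 2) (Fin 2) (ZMod p)) - 1 with hN
  have hhp : (h : Matrix (Fin 2) (Fin 2) (ZMod p)) ^ p = 1 := by
    have h1 : h ^ p = 1 := by
      have := pow_orderOf_eq_one h
      rwa [hord] at this
    rw [← Units.val_pow_eq_pow_val, h1, Units.val_one]
  have hNp : N ^ p = 0 := by
    rw [hN, sub_pow_char_of_commute _ (Commute.one_right _), hhp, one_pow, sub_self]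
  have hh1 : h ≠ 1 := by
    intro h1
    rw [h1, orderOf_one] at hord
    exact hp.one_lt.ne hord
  have hN0 : N ≠ 0 := by
    intro h0
    apply hh1
    apply Units.ext
    rw [Units.val_one]
    exact sub_eq_zero.mp h0
  have hdetN : N.det = 0 := by
    have : N.det ^ p = 0 := by rw [← Matrix.det_pow, hNp, Matrix.det_zero]
    exact pow_eq_zero_iff hp.ne_zero |>.mp this
  have hsq0 : N * N = N.trace • N := by rw [sq_eq, hdetN, zero_smul, sub_zero]
  have hpow : ∀ k : ℕ, N ^ (k + 1) = N.trace ^ k • N := by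
    intro k
    induction k with
    | zero => simp
    | succ k ih => rw [pow_succ, ih, smul_mul_assoc, hsq0, smul_smul, ← pow_succ]
  have htr : N.trace = 0 := by
    have h1 := hpow (p - 1)
    rw [Nat.sub_add_cancel hp.one_le, hNp] at h1
    rcases smul_eq_zero.mp h1.symm with h2 | h2
    · exact pow_eq_zero_iff (Nat.sub_ne_zero_of_lt hp.one_lt) |>.mp h2
    · exact absurd h2 hN0
  have hNN : N * N = 0 := by rw [hsq0, htr, zero_smul]
  obtain ⟨u, hu⟩ : ∃ u : Fin 2 → ZMod p, N *ᵥ u ≠ 0 := by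
    by_contra hcon
    push Not at hcon
    apply hN0
    ext i j
    have := congrFun (hcon (Pi.single j 1)) i
    simpa [Matrix.mulVec, dotProduct, Pi.single_apply] using this
  set v₀ := N *ᵥ u with hv₀
  have hNv₀ : N *ᵥ v₀ = 0 := by rw [hv₀, Matrix.mulVec_mulVec, hNN, Matrix.zero_mulVec]
  have conj : ∀ w : Fin 2 → ZMod p, w ≠ 0 → ∃ g ∈ H, g ≠ 1 ∧
      ((g : Matrix (Fin 2) (Fin 2) (ZMod p)) - 1) * ((g : Matrix (Fin 2) (Fin 2) (ZMod p)) - 1) = 0 ∧
      ((g : Matrix (Fin 2) (Fin 2) (ZMod p)) - 1) *ᵥ w = 0 := by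
    intro w hw
    obtain ⟨c, hc, hcv⟩ := htrans v₀ w hu hw
    refine ⟨c * h * c⁻¹, mul_mem (mul_mem (hCH hc) hh) (inv_mem (hCH hc)), ?_, ?_, ?_⟩
    · intro h1
      apply hh1
      have : h = c⁻¹ * (c * h * c⁻¹) * c := by group
      rw [this, h1]; group
    all_goals
      have hcc : (c : Matrix (Fin 2) (Fin 2) (ZMod p)) * ((c⁻¹ : GL (Fin 2) (ZMod p)) : Matrix (Fin 2) (Fin 2) (ZMod p)) = 1 := by
        rw [← Units.val_mul, mul_inv_cancel, Units.val_one]
      have hcc' : ((c⁻¹ : GL (Fin 2) (ZMod p)) : Matrix (Fin 2) (Fin 2) (ZMod p)) * (c : Matrix (Fin 2) (Fin 2) (ZMod p)) = 1 := by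
        rw [← Units.val_mul, inv_mul_cancel, Units.val_one]
      have hgN : ((c * h * c⁻¹ : GL (Fin 2) (ZMod p)) : Matrix (Fin 2) (Fin 2) (ZMod p)) - 1 =
          (c : Matrix (Fin 2) (Fin 2) (ZMod p)) * N * ((c⁻¹ : GL (Fin 2) (ZMod p)) : Matrix (Fin 2) (Fin 2) (ZMod p)) := by
        rw [hN, Units.val_mul, Units.val_mul, mul_sub, sub_mul, mul_one, hcc]
      rw [hgN]
    · calc (c : Matrix (Fin 2) (Fin 2) (ZMod p)) * N * ((c⁻¹ : GL (Fin 2) (ZMod p)) : Matrix (Fin 2) (Fin 2) (ZMod p)) *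
          ((c : Matrix (Fin 2) (Fin 2) (ZMod p)) * N * ((c⁻¹ : GL (Fin 2) (ZMod p)) : Matrix (Fin 2) (Fin 2) (ZMod p)))
          = (c : Matrix (Fin 2) (Fin 2) (ZMod p)) * N * (((c⁻¹ : GL (Fin 2) (ZMod p)) : Matrix (Fin 2) (Fin 2) (ZMod p)) *
          (c : Matrix (Fin 2) (Fin 2) (ZMod p))) * N * ((c⁻¹ : GL (Fin 2) (ZMod p)) : Matrix (Fin 2) (Fin 2) (ZMod p)) := by
            simp only [mul_assoc]
        _ = 0 := by rw [hcc', mul_one, mul_assoc (c : Matrix (Fin 2) (Fin 2) (ZMod p)), hNN, mul_zero, zero_mul]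
    · have hcw : ((c⁻¹ : GL (Fin 2) (ZMod p)) : Matrix (Fin 2) (Fin 2) (ZMod p)) *ᵥ w = v₀ := by
        rw [← hcv, Matrix.mulVec_mulVec, hcc', Matrix.one_mulVec]
      rw [← Matrix.mulVec_mulVec, hcw, ← Matrix.mulVec_mulVec, hNv₀, Matrix.mulVec_zero]
  constructor
  · obtain ⟨g, hg, hne, hsq, hfix⟩ := conj (Pi.single 0 1) (by
      intro h0; have := congrFun h0 0; simp at this)
    exact U_mem_of_unip H g hg hne hsq hfix
  · obtain ⟨g, hg, hne, hsq, hfix⟩ := conj (Pi.single 1 1) (by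
      intro h0; have := congrFun h0 1; simp at this)
    exact L_mem_of_unip H g hg hne hsq hfix

section field

variable (C : Subgroup (GL (Fin 2) (ZMod p))) (E : Subring (Matrix (Fin 2) (Fin 2) (ZMod p)))
  (hset : (E : Set (Matrix (Fin 2) (Fin 2) (ZMod p))) =
    insert 0 ((fun g : GL (Fin 2) (ZMod p) => (g : Matrix (Fin 2) (Fin 2) (ZMod p))) ''
      (C : Set (GL (Fin 2) (ZMod p)))))

include hset

theorem unit_of_mem (m : Matrix (Fin 2) (Fin 2) (ZMod p)) (hm : m ∈ E) (h0 : m ≠ 0) :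
    ∃ c ∈ C, (c : Matrix (Fin 2) (Fin 2) (ZMod p)) = m := by
  have : m ∈ (E : Set (Matrix (Fin 2) (Fin 2) (ZMod p))) := hm
  rw [hset] at this
  rcases this with h | ⟨c, hc, rfl⟩
  · exact absurd h h0
  · exact ⟨c, hc, rfl⟩

theorem mem_of_mem_C (c : GL (Fin 2) (ZMod p)) (hc : c ∈ C) :
    (c : Matrix (Fin 2) (Fin 2) (ZMod p)) ∈ E := by
  have : (c : Matrix (Fin 2) (Fin 2) (ZMod p)) ∈ (E : Set (Matrix (Fin 2) (Fin 2) (ZMod p))) := by
    rw [hset]
    exact Or.inr ⟨c, hc, rfl⟩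
  exact this

theorem trans_of_field (hcard : Nat.card E = p ^ 2) (v w : Fin 2 → ZMod p) (hv : v ≠ 0) (hw : w ≠ 0) :
    ∃ c ∈ C, (c : Matrix (Fin 2) (Fin 2) (ZMod p)) *ᵥ v = w := by
  let ψ : E → (Fin 2 → ZMod p) := fun e => (e : Matrix (Fin 2) (Fin 2) (ZMod p)) *ᵥ v
  have hinj : Function.Injective ψ := by
    intro e₁ e₂ h
    by_contra hne
    have hd : ((e₁ - e₂ : E) : Matrix (Fin 2) (Fin 2) (ZMod p)) ≠ 0 := by
      intro h0
      apply hne
      exact sub_eq_zero.mp (Subtype.ext h0)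
    obtain ⟨c, hc, hce⟩ := unit_of_mem C E hset _ (e₁ - e₂).2 hd
    have h1 : (c : Matrix (Fin 2) (Fin 2) (ZMod p)) *ᵥ v = 0 := by
      rw [hce, AddSubgroupClass.coe_sub, Matrix.sub_mulVec]
      exact sub_eq_zero.mpr h
    apply hv
    have hcc' : ((c⁻¹ : GL (Fin 2) (ZMod p)) : Matrix (Fin 2) (Fin 2) (ZMod p)) *
        (c : Matrix (Fin 2) (Fin 2) (ZMod p)) = 1 := by
      rw [← Units.val_mul, inv_mul_cancel, Units.val_one]
    calc v = (((c⁻¹ : GL (Fin 2) (ZMod p)) : Matrix (Fin 2) (Fin 2) (ZMod p)) *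
        (c : Matrix (Fin 2) (Fin 2) (ZMod p))) *ᵥ v := by rw [hcc', Matrix.one_mulVec]
      _ = 0 := by rw [← Matrix.mulVec_mulVec, h1, Matrix.mulVec_zero]
  have hbij : Function.Bijective ψ := by
    apply hinj.bijective_of_nat_card_le
    rw [hcard, Nat.card_fun, Nat.card_zmod, Nat.card_fin]
  obtain ⟨e, he⟩ := hbij.2 w
  have he0 : (e : Matrix (Fin 2) (Fin 2) (ZMod p)) ≠ 0 := by
    intro h0
    apply hw
    rw [← he]
    simp only [ψ, h0, Matrix.zero_mulVec]
  obtain ⟨c, hc, hce⟩ := unit_of_mem C E hset _ e.2 he0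
  exact ⟨c, hc, by rw [hce]; exact he⟩

omit hset in
/-- scalars into `E`. -/
noncomputable def ι : ZMod p →+* E :=
  (algebraMap (ZMod p) (Matrix (Fin 2) (Fin 2) (ZMod p))).codRestrict E (fun a => by
    have : algebraMap (ZMod p) (Matrix (Fin 2) (Fin 2) (ZMod p)) a =
        ((a.val : ℕ) : Matrix (Fin 2) (Fin 2) (ZMod p)) := by
      rw [← map_natCast (algebraMap (ZMod p) (Matrix (Fin 2) (Fin 2) (ZMod p))), ZMod.natCast_zmod_val]
    rw [this]; exact natCast_mem E _)

omit hset in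
theorem ι_coe (a : ZMod p) : ((ι E a : E) : Matrix (Fin 2) (Fin 2) (ZMod p)) =
    a • (1 : Matrix (Fin 2) (Fin 2) (ZMod p)) := by
  change algebraMap (ZMod p) (Matrix (Fin 2) (Fin 2) (ZMod p)) a = _
  rw [Algebra.algebraMap_eq_smul_one]

omit hset in
theorem pow_succ_eq (hE : IsField E) (x : E) :
    letI := hE.toField
    x ^ (p + 1) = ι E ((x : Matrix (Fin 2) (Fin 2) (ZMod p)).det) := by
  letI := hE.toField
  have hp : p.Prime := Fact.out
  haveI : CharP E p := charP_of_injective_ringHom (ι E).injective p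
  set t := (x : Matrix (Fin 2) (Fin 2) (ZMod p)).trace with ht
  set n := (x : Matrix (Fin 2) (Fin 2) (ZMod p)).det with hn
  have hCH : x * x = ι E t * x - ι E n := by
    apply Subtype.ext
    rw [Subring.coe_mul, AddSubgroupClass.coe_sub, Subring.coe_mul, ι_coe, ι_coe, sq_eq, smul_mul_assoc, one_mul]
  have hy : x ^ p * x ^ p = ι E t * x ^ p - ι E n := by
    rw [← mul_pow, hCH, sub_pow_char, mul_pow, ← map_pow, ← map_pow, ZMod.pow_card, ZMod.pow_card]
  have hprod : (x ^ p - x) * (x ^ p - (ι E t - x)) = 0 := by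
    linear_combination hy - hCH
  rcases mul_eq_zero.mp hprod with h1 | h1
  · -- x ^ p = x, so x is a scalar
    have hxp : x ^ p = x := sub_eq_zero.mp h1
    have hroot : ∃ a : ZMod p, ι E a = x := by
      classical
      have hne : (X ^ p - X : E[X]) ≠ 0 := FiniteField.X_pow_card_sub_X_ne_zero E hp.one_lt
      have hsub : Finset.image (ι E) Finset.univ ⊆ (X ^ p - X : E[X]).roots.toFinset := by
        intro z hz
        obtain ⟨a, -, rfl⟩ := Finset.mem_image.mp hz
        rw [Multiset.mem_toFinset, mem_roots hne]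
        simp only [IsRoot.def, eval_sub, eval_pow, eval_X]
        rw [← map_pow, ZMod.pow_card, sub_self]
      have hcard1 : (Finset.image (ι E) Finset.univ).card = p := by
        rw [Finset.card_image_of_injective _ (ι E).injective, Finset.card_univ, ZMod.card]
      have hcard2 : (X ^ p - X : E[X]).roots.toFinset.card ≤ p := by
        calc _ ≤ Multiset.card (X ^ p - X : E[X]).roots := Multiset.toFinset_card_le _
          _ ≤ (X ^ p - X : E[X]).natDegree := card_roots' _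
          _ = p := FiniteField.X_pow_card_sub_X_natDegree_eq E hp.one_lt
      have heq := Finset.eq_of_subset_of_card_le hsub (hcard2.trans hcard1.ge)
      have hx : x ∈ (X ^ p - X : E[X]).roots.toFinset := by
        rw [Multiset.mem_toFinset, mem_roots hne]
        simp only [IsRoot.def, eval_sub, eval_pow, eval_X]
        rw [hxp, sub_self]
      rw [← heq] at hx
      obtain ⟨a, -, ha⟩ := Finset.mem_image.mp hx
      exact ⟨a, ha⟩
    obtain ⟨a, ha⟩ := hroot
    have hdet : n = a * a := by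
      rw [hn, ← ha, ι_coe, Matrix.det_smul, Matrix.det_one, Fintype.card_fin, mul_one, pow_two]
    rw [hdet, ← ha, ← map_pow, pow_succ, ZMod.pow_card]
  · have hxp : x ^ p = ι E t - x := sub_eq_zero.mp h1
    rw [pow_succ, hxp]
    linear_combination (-1 : E) * hCH

theorem card_C (hcard : Nat.card E = p ^ 2) : Nat.card C + 1 = p ^ 2 := by
  have h1 : Nat.card E = (E : Set (Matrix (Fin 2) (Fin 2) (ZMod p))).ncard := rfl
  rw [← hcard, h1, hset, Set.ncard_insert_of_notMem, Set.ncard_image_of_injective _ Units.val_injective]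
  · rfl
  · rintro ⟨c, -, hc⟩
    exact c.ne_zero hc

theorem det_surj (hE : IsField E) (hcard : Nat.card E = p ^ 2) (d : ZMod p) (hd : d ≠ 0) :
    ∃ c ∈ C, (c : Matrix (Fin 2) (Fin 2) (ZMod p)).det = d := by
  classical
  letI := hE.toField
  have hp : p.Prime := Fact.out
  let f : C →* (ZMod p)ˣ := Matrix.GeneralLinearGroup.det.comp C.subtype
  have hC := card_C C E hset hcard
  have hker : Nat.card f.ker ≤ p + 1 := by
    let g : f.ker → ↥((nthRoots (p + 1) (1 : E)).toFinset) := fun c =>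
      ⟨⟨((c : C) : GL (Fin 2) (ZMod p)), mem_of_mem_C C E hset _ (c : C).2⟩, by
        rw [Multiset.mem_toFinset, mem_nthRoots (Nat.succ_pos p), pow_succ_eq E hE]
        have h1 : f (c : C) = 1 := c.2
        have h2 : (((c : C) : GL (Fin 2) (ZMod p)) : Matrix (Fin 2) (Fin 2) (ZMod p)).det = 1 := by
          have := congrArg Units.val h1
          simpa [f] using this
        change ι E (((c : C) : GL (Fin 2) (ZMod p)) : Matrix (Fin 2) (Fin 2) (ZMod p)).det = 1
        rw [h2, map_one]⟩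
    have hg : Function.Injective g := by
      intro c₁ c₂ h
      have h1 := congrArg (fun z => ((z : E) : Matrix (Fin 2) (Fin 2) (ZMod p))) (congrArg Subtype.val h)
      exact Subtype.ext (Subtype.ext (Units.ext h1))
    calc Nat.card f.ker ≤ Nat.card ↥((nthRoots (p + 1) (1 : E)).toFinset) :=
          Nat.card_le_card_of_injective g hg
      _ = ((nthRoots (p + 1) (1 : E)).toFinset).card := by
          rw [Nat.card_eq_fintype_card, Fintype.card_coe]
      _ ≤ Multiset.card (nthRoots (p + 1) (1 : E)) := Multiset.toFinset_card_le _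
      _ ≤ p + 1 := card_nthRoots _ _
  have hmul : Nat.card f.ker * Nat.card f.range = Nat.card C := by
    rw [← Subgroup.index_ker, Subgroup.card_mul_index]
  have hunits : Nat.card (ZMod p)ˣ = p - 1 := by
    rw [Nat.card_units, Nat.card_zmod]
  have hrange_le : Nat.card f.range ≤ p - 1 := by
    rw [← hunits]
    exact Subgroup.card_le_card_group _
  have hrange : Nat.card f.range = p - 1 := by
    by_contra hne
    have hlt : Nat.card f.range < p - 1 := lt_of_le_of_ne hrange_le hne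
    have h2 : Nat.card f.ker * Nat.card f.range < (p + 1) * (p - 1) := by
      calc Nat.card f.ker * Nat.card f.range ≤ (p + 1) * Nat.card f.range :=
            Nat.mul_le_mul_right _ hker
        _ < (p + 1) * (p - 1) := Nat.mul_lt_mul_of_pos_left hlt (Nat.succ_pos p)
    rw [hmul] at h2
    have h3 : (p + 1) * (p - 1) + 1 = p ^ 2 := by
      obtain ⟨q, rfl⟩ : ∃ q, p = q + 1 := ⟨p - 1, (Nat.sub_add_cancel hp.one_le).symm⟩
      simp only [Nat.add_sub_cancel]
      ring
    omega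
  have htop : f.range = ⊤ := Subgroup.eq_top_of_card_eq _ (hrange.trans hunits.symm)
  have hmem : Units.mk0 d hd ∈ f.range := by rw [htop]; trivial
  obtain ⟨c, hc⟩ := hmem
  refine ⟨c, c.2, ?_⟩
  have := congrArg Units.val hc
  simpa [f] using this

end field

theorem main_mpr (H C : Subgroup (GL (Fin 2) (ZMod p)))
    (E : Subring (Matrix (Fin 2) (Fin 2) (ZMod p))) (hCH : C ≤ H) (hE : IsField E)
    (hcard : Nat.card E = p ^ 2)
    (hset : (E : Set (Matrix (Fin 2) (Fin 2) (ZMod p))) =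
      insert 0 ((fun g : GL (Fin 2) (ZMod p) => (g : Matrix (Fin 2) (Fin 2) (ZMod p))) ''
        (C : Set (GL (Fin 2) (ZMod p)))))
    (hp : p ∣ Nat.card H) : H = ⊤ := by
  obtain ⟨h, hord⟩ := exists_prime_orderOf_dvd_card' (G := H) p hp
  have hord' : orderOf (h : GL (Fin 2) (ZMod p)) = p := by rw [Subgroup.orderOf_coe]; exact hord
  obtain ⟨hU, hL⟩ := unipotents_mem H C hCH (trans_of_field C E hset hcard) h h.2 hord'
  rw [eq_top_iff]
  intro g _
  have hg0 : (g : Matrix (Fin 2) (Fin 2) (ZMod p)).det ≠ 0 := (Matrix.isUnits_det_units g).ne_zero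
  obtain ⟨c, hc, hdet⟩ := det_surj C E hset hE hcard _ hg0
  have h1 : ((c⁻¹ : GL (Fin 2) (ZMod p)) : Matrix (Fin 2) (Fin 2) (ZMod p)).det *
      (c : Matrix (Fin 2) (Fin 2) (ZMod p)).det = 1 := by
    rw [← Matrix.det_mul, ← Units.val_mul, inv_mul_cancel, Units.val_one, Matrix.det_one]
  have h2 : c⁻¹ * g ∈ H := by
    apply mem_of_det_one H hU hL
    rw [Units.val_mul, Matrix.det_mul, ← hdet, h1]
  have : g = c * (c⁻¹ * g) := by group
  rw [this]
  exact mul_mem (hCH hc) h2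

theorem main_mp : ∃ (C : Subgroup (GL (Fin 2) (ZMod p)))
    (E : Subring (Matrix (Fin 2) (Fin 2) (ZMod p))), IsField E ∧ Nat.card E = p ^ 2 ∧
      (E : Set (Matrix (Fin 2) (Fin 2) (ZMod p))) =
        insert 0 ((fun g : GL (Fin 2) (ZMod p) => (g : Matrix (Fin 2) (Fin 2) (ZMod p))) ''
          (C : Set (GL (Fin 2) (ZMod p)))) := by
  have h2 : (2 : ℕ) ≠ 0 := two_ne_zero
  let b : Module.Basis (Fin 2) (ZMod p) (GaloisField p 2) :=
    Module.finBasisOfFinrankEq (ZMod p) (GaloisField p 2) (GaloisField.finrank p h2)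
  let φ : GaloisField p 2 →ₐ[ZMod p] Matrix (Fin 2) (Fin 2) (ZMod p) := Algebra.leftMulMatrix b
  have hφ : Function.Injective φ := Algebra.leftMulMatrix_injective b
  let E : Subring (Matrix (Fin 2) (Fin 2) (ZMod p)) := φ.toRingHom.range
  let e : GaloisField p 2 ≃+* E := RingEquiv.ofBijective φ.toRingHom.rangeRestrict
    ⟨fun x y h => hφ (congrArg Subtype.val h), φ.toRingHom.rangeRestrict_surjective⟩
  have hmemE : ∀ m, m ∈ E ↔ ∃ x, φ x = m := fun m => Iff.rfl
  let C : Subgroup (GL (Fin 2) (ZMod p)) :=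
    { carrier := {g | (g : Matrix (Fin 2) (Fin 2) (ZMod p)) ∈ E}
      mul_mem' := by
        intro a b ha hb
        change ((a * b : GL (Fin 2) (ZMod p)) : Matrix (Fin 2) (Fin 2) (ZMod p)) ∈ E
        rw [Units.val_mul]
        exact mul_mem ha hb
      one_mem' := by
        change ((1 : GL (Fin 2) (ZMod p)) : Matrix (Fin 2) (Fin 2) (ZMod p)) ∈ E
        rw [Units.val_one]
        exact one_mem E
      inv_mem' := by
        intro g hg
        change ((g⁻¹ : GL (Fin 2) (ZMod p)) : Matrix (Fin 2) (Fin 2) (ZMod p)) ∈ E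
        obtain ⟨x, hx⟩ := (hmemE _).1 hg
        have hx0 : x ≠ 0 := by
          rintro rfl
          rw [map_zero] at hx
          exact g.ne_zero hx.symm
        have : (g : Matrix (Fin 2) (Fin 2) (ZMod p)) * φ x⁻¹ = 1 := by
          rw [← hx, ← map_mul, mul_inv_cancel₀ hx0, map_one]
        rw [← Units.eq_inv_of_mul_eq_one_left this]
        exact (hmemE _).2 ⟨_, rfl⟩ }
  refine ⟨C, E, MulEquiv.isField (Field.toIsField _) e.symm.toMulEquiv, ?_, ?_⟩
  · rw [← Nat.card_congr e.toEquiv, GaloisField.card p 2 h2]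
  · ext m
    constructor
    · intro hm
      obtain ⟨x, rfl⟩ := (hmemE _).1 hm
      by_cases hx0 : x = 0
      · left; rw [hx0, map_zero]
      · right
        refine ⟨⟨φ x, φ x⁻¹, by rw [← map_mul, mul_inv_cancel₀ hx0, map_one],
          by rw [← map_mul, inv_mul_cancel₀ hx0, map_one]⟩, ?_, rfl⟩
        exact (hmemE _).2 ⟨x, rfl⟩
    · rintro (rfl | ⟨g, hg, rfl⟩)
      · exact zero_mem E
      · exact hg

theorem dvd_card_top : p ∣ Nat.card (⊤ : Subgroup (GL (Fin 2) (ZMod p))) := by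
  have hp : p.Prime := Fact.out
  have h1 : (U (1 : ZMod p)) ^ p = 1 := by
    rw [← U_nsmul, ZMod.natCast_self, zero_mul, U_zero]
  have h2 : U (1 : ZMod p) ≠ 1 := by
    intro h
    have := congrArg (fun g : GL (Fin 2) (ZMod p) => (g : Matrix (Fin 2) (Fin 2) (ZMod p)) 0 1) h
    simp at this
  have h3 := orderOf_eq_prime h1 h2
  have h4 := orderOf_dvd_natCard (U (1 : ZMod p))
  rw [h3] at h4
  rw [Subgroup.card_top]
  exact h4

theorem main (H : Subgroup (GL (Fin 2) (ZMod p))) :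
    H = ⊤ ↔
      (∃ (C : Subgroup (GL (Fin 2) (ZMod p))) (E : Subring (Matrix (Fin 2) (Fin 2) (ZMod p))),
          C ≤ H ∧ IsField E ∧ Nat.card E = p ^ 2 ∧
            (E : Set (Matrix (Fin 2) (Fin 2) (ZMod p))) =
              insert 0 ((fun g : GL (Fin 2) (ZMod p) => (g : Matrix (Fin 2) (Fin 2) (ZMod p))) ''
                (C : Set (GL (Fin 2) (ZMod p))))) ∧
        p ∣ Nat.card H := by
  constructor
  · rintro rfl
    obtain ⟨C, E, h1, h2, h3⟩ := main_mp (p := p)
    exact ⟨⟨C, E, le_top, h1, h2, h3⟩, dvd_card_top⟩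
  · rintro ⟨⟨C, E, hCH, hE, hcard, hset⟩, hp⟩
    exact main_mpr H C E hCH hE hcard hset hp

end Groth.Agent.Lib.Helper24Cartan
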