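import Mathlib

set_option autoImplicit false
universe u v

namespace Groth.Agent.Lib.Helper24Cartier

variable (p : ℕ) [Fact p.Prime] (k : Type u) [Field k] [CharP k p] [PerfectRing k p]
    (M : Type v) [AddCommGroup M] [Module (WittVector p k) M]
    (F V : M →+ M)

include k in
theorem cartier_parts
    (hF : ∀ (a : WittVector p k) (m : M), F (a • m) = WittVector.frobenius a • F m)
    (hV : ∀ (a : WittVector p k) (m : M), V (WittVector.frobenius a • m) = a • V m)
    (hFV : ∀ m : M, F (V m) = (p : WittVector p k) • m)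
    (hVF : ∀ m : M, V (F m) = (p : WittVector p k) • m)
    (hVinj : Function.Injective V)
    (hsep : ∀ x : M, (∀ n : ℕ, ∃ y : M, x = (⇑V)^[n] y) → x = 0)
    (hfin : Module.Finite (WittVector p k) (M ⧸ Submodule.span (WittVector p k) (Set.range V))) :
    (∃ c : ℕ, ∀ x : M, (∃ n : ℕ, (⇑F)^[n] x = 0) → (⇑F)^[c] x = 0) ∧
    (∀ x : M, (∀ n : ℕ, ∃ (m : ℕ) (y : M), (⇑V)^[m] x = (⇑F)^[n] y) → F x = 0 → x = 0) := by
  set W := WittVector p k
  -- F and V commute
  have hcomm : ∀ m, F (V m) = V (F m) := fun m => (hFV m).trans (hVF m).symm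
  have hcommF : ∀ n m, (⇑F)^[n] (V m) = V ((⇑F)^[n] m) := by
    intro n
    induction n with
    | zero => intro m; rfl
    | succ n ih =>
      intro m
      rw [Function.iterate_succ_apply', Function.iterate_succ_apply', ih, hcomm]
  have hcommV : ∀ n m, F ((⇑V)^[n] m) = (⇑V)^[n] (F m) := by
    intro n
    induction n with
    | zero => intro m; rfl
    | succ n ih =>
      intro m
      rw [Function.iterate_succ_apply', Function.iterate_succ_apply', hcomm, ih]
  -- iterates of F are semilinear
  have hFit : ∀ n (a : W) (m : M), (⇑F)^[n] (a • m) = ((⇑(WittVector.frobenius (p := p) (R := k)))^[n] a) • (⇑F)^[n] m := by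
    intro n
    induction n with
    | zero => intro a m; rfl
    | succ n ih =>
      intro a m
      rw [Function.iterate_succ_apply', Function.iterate_succ_apply', Function.iterate_succ_apply',
        ih, hF]
  have hFzero : ∀ n, (⇑F)^[n] (0 : M) = 0 := by
    intro n
    induction n with
    | zero => rfl
    | succ n ih => rw [Function.iterate_succ_apply', ih, map_zero]
  have hVzero : ∀ n, (⇑V)^[n] (0 : M) = 0 := by
    intro n
    induction n with
    | zero => rfl
    | succ n ih => rw [Function.iterate_succ_apply', ih, map_zero]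
  have hFadd : ∀ n (x y : M), (⇑F)^[n] (x + y) = (⇑F)^[n] x + (⇑F)^[n] y := by
    intro n
    induction n with
    | zero => intro x y; rfl
    | succ n ih =>
      intro x y
      rw [Function.iterate_succ_apply', Function.iterate_succ_apply', Function.iterate_succ_apply',
        ih, map_add]
  -- the kernels
  let K : ℕ → Submodule W M := fun n =>
    { carrier := {x | (⇑F)^[n] x = 0}
      add_mem' := by
        intro x y hx hy
        simp only [Set.mem_ofPred_eq] at hx hy ⊢
        rw [hFadd, hx, hy, add_zero]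
      zero_mem' := hFzero n
      smul_mem' := by
        intro a x hx
        simp only [Set.mem_ofPred_eq] at hx ⊢
        rw [hFit, hx, smul_zero] }
  have hKmem : ∀ n x, x ∈ K n ↔ (⇑F)^[n] x = 0 := fun n x => Iff.rfl
  have hKmono : Monotone K := by
    refine monotone_nat_of_le_succ fun n x hx => ?_
    rw [hKmem] at hx ⊢
    rw [Function.iterate_succ_apply', hx, map_zero]
  -- range of V is the span
  set N := Submodule.span W (Set.range V) with hN
  have hNmem : ∀ x, x ∈ N → ∃ y, x = V y := by
    intro x hx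
    induction hx using Submodule.span_induction with
    | mem x hx => obtain ⟨y, rfl⟩ := hx; exact ⟨y, rfl⟩
    | zero => exact ⟨0, (map_zero V).symm⟩
    | add x y _ _ hx hy =>
      obtain ⟨a, rfl⟩ := hx; obtain ⟨b, rfl⟩ := hy
      exact ⟨a + b, (map_add V a b).symm⟩
    | smul a x _ hx =>
      obtain ⟨y, rfl⟩ := hx
      exact ⟨WittVector.frobenius a • y, (hV a y).symm⟩
  -- stabilisation
  have : IsNoetherian W (M ⧸ N) := isNoetherian_of_isNoetherianRing_of_finite W (M ⧸ N)
  let U : ℕ →o Submodule W (M ⧸ N) :=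
    ⟨fun n => (K n).map N.mkQ, fun a b hab => Submodule.map_mono (hKmono hab)⟩
  obtain ⟨c, hc⟩ := monotone_stabilizes_iff_noetherian.mpr ‹_› U
  have key : ∀ j n, c ≤ n → ∀ x ∈ K n, ∃ z, (⇑F)^[c] x = (⇑V)^[j] z := by
    intro j
    induction j with
    | zero => intro n _ x _; exact ⟨_, rfl⟩
    | succ j ih =>
      intro n hn x hx
      have h1 : N.mkQ x ∈ U n := Submodule.mem_map_of_mem hx
      rw [← hc n hn] at h1
      obtain ⟨x0, hx0, hx0x⟩ := h1
      have h2 : x - x0 ∈ N := by
        rw [← Submodule.Quotient.mk_eq_zero, Submodule.Quotient.mk_sub]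
        exact sub_eq_zero.mpr hx0x.symm
      obtain ⟨y, hy⟩ := hNmem _ h2
      have hx' : x = x0 + V y := by rw [← hy]; abel
      have hx0n : x0 ∈ K n := hKmono hn hx0
      have hy_mem : y ∈ K n := by
        rw [hKmem] at hx hx0n ⊢
        have : (⇑F)^[n] (V y) = 0 := by
          have := hFadd n x0 (V y)
          rw [← hx', hx, hx0n, zero_add] at this
          exact this.symm
        rw [hcommF] at this
        exact hVinj (this.trans (map_zero V).symm)
      obtain ⟨z, hz⟩ := ih n hn y hy_mem
      refine ⟨z, ?_⟩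
      rw [hx', hFadd, (hKmem c x0).mp hx0, zero_add, hcommF, hz, Function.iterate_succ_apply']
  have claim1 : ∀ x : M, (∃ n : ℕ, (⇑F)^[n] x = 0) → (⇑F)^[c] x = 0 := by
    rintro x ⟨n, hn⟩
    apply hsep
    intro j
    have hx : x ∈ K (max n c) := hKmono (le_max_left n c) ((hKmem n x).mpr hn)
    exact key j (max n c) (le_max_right n c) x hx
  refine ⟨⟨c, claim1⟩, ?_⟩
  intro x hx hFx
  obtain ⟨m, y, hmy⟩ := hx c
  have h1 : (⇑F)^[c + 1] y = 0 := by
    rw [Function.iterate_succ_apply', ← hmy, hcommV, hFx, hVzero]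
  have h2 := claim1 y ⟨c + 1, h1⟩
  rw [h2] at hmy
  have hVit : Function.Injective (⇑V)^[m] := hVinj.iterate m
  apply hVit
  rw [hmy, hVzero]

end Groth.Agent.Lib.Helper24Cartier
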