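import Mathlib

/-!
# helper24: translation formula for Cartier–Manin type coefficient matrices

For a polynomial `h` over a field of characteristic `p` with `natDegree h ≤ (g+1)(p-1)`, `g ≤ p`,
the coefficients of `h(x+α)` in degrees `(i+1)p-(j+1)` (`i, j < g`) are obtained from those of `h`
by multiplying with two unitriangular matrices (Lucas' theorem).
-/

universe u

namespace Groth.Agent.Lib.Helper24CM

open Finset Polynomial

theorem sum_range_mul_block {M : Type*} [AddCommMonoid M] (F : ℕ → M) (n p : ℕ) :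
    ∑ m ∈ range (n * p), F m = ∑ I ∈ range n, ∑ r ∈ range p, F (I * p + r) := by
  induction n with
  | zero => simp
  | succ n ih => rw [Nat.succ_mul, Finset.sum_range_add, ih, Finset.sum_range_succ]

theorem taylor_coeff_sum {k : Type u} [Field k] (h : k[X]) (α : k) (l B : ℕ)
    (hB : h.natDegree < B) :
    (h.comp (X + C α)).coeff l =
      ∑ m ∈ range B, h.coeff m * ((m.choose l : ℕ) : k) * α ^ (m - l) := by
  rw [← taylor_apply, taylor_coeff, hasseDeriv_apply, sum_over_range' _ _ B hB, eval_finsetSum]
  · refine sum_congr rfl fun m _ => ?_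
    rw [eval_monomial]; ring
  · intro n; simp

variable {k : Type u} [Field k] (p : ℕ) [hp : Fact p.Prime] [CharP k p]

theorem choose_cast_lucas (a b r s : ℕ) (hr : r < p) (hs : s < p) :
    ((Nat.choose (a * p + r) (b * p + s) : ℕ) : k) =
      ((Nat.choose a b : ℕ) : k) * ((Nat.choose r s : ℕ) : k) := by
  have h := Choose.choose_modEq_choose_mod_mul_choose_div_nat (n := a * p + r) (k := b * p + s)
    (p := p)
  rw [← CharP.natCast_eq_natCast k p] at h
  have h1 : (a * p + r) % p = r := by
    rw [Nat.add_comm, Nat.add_mul_mod_self_right]; exact Nat.mod_eq_of_lt hr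
  have h2 : (b * p + s) % p = s := by
    rw [Nat.add_comm, Nat.add_mul_mod_self_right]; exact Nat.mod_eq_of_lt hs
  have hpos : 0 < p := hp.out.pos
  have h3 : (a * p + r) / p = a := by
    rw [Nat.add_comm, Nat.add_mul_div_right _ _ hpos, Nat.div_eq_of_lt hr, Nat.zero_add]
  have h4 : (b * p + s) / p = b := by
    rw [Nat.add_comm, Nat.add_mul_div_right _ _ hpos, Nat.div_eq_of_lt hs, Nat.zero_add]
  rw [h, h1, h2, h3, h4, Nat.cast_mul, mul_comm]

theorem term_eq (a b r s : ℕ) (hr : r < p) (hs : s < p) (α : k) :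
    ((Nat.choose (a * p + r) (b * p + s) : ℕ) : k) * α ^ (a * p + r - (b * p + s)) =
      (((Nat.choose a b : ℕ) : k) * α ^ ((a - b) * p)) *
        (((Nat.choose r s : ℕ) : k) * α ^ (r - s)) := by
  rw [choose_cast_lucas p a b r s hr hs]
  by_cases hab : b ≤ a
  · by_cases hrs : s ≤ r
    · obtain ⟨d, rfl⟩ := Nat.exists_eq_add_of_le hab
      obtain ⟨e, rfl⟩ := Nat.exists_eq_add_of_le hrs
      have h1 : (b + d) * p + (s + e) - (b * p + s) = d * p + e := by
        rw [add_mul]; omega
      rw [h1, Nat.add_sub_cancel_left, Nat.add_sub_cancel_left, pow_add]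
      ring
    · rw [Nat.choose_eq_zero_of_lt (not_le.mp hrs)]
      simp
  · rw [Nat.choose_eq_zero_of_lt (not_le.mp hab)]
    simp

/-- The translation formula. -/
theorem coeff_comp_translate (g : ℕ) (hg : g ≤ p) (h : k[X])
    (hdeg : h.natDegree ≤ (g + 1) * (p - 1)) (α : k) (i j : ℕ) (hi : i < g) (hj : j < g) :
    (h.comp (X + C α)).coeff ((i + 1) * p - (j + 1)) =
      ∑ J ∈ range g, (∑ I ∈ range g,
        (((Nat.choose I i : ℕ) : k) * α ^ ((I - i) * p)) * h.coeff ((I + 1) * p - (J + 1))) *
        (((Nat.choose (p - (J + 1)) (p - (j + 1)) : ℕ) : k) * α ^ (j - J)) := by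
  have hpos : 0 < p := hp.out.pos
  have hl : (i + 1) * p - (j + 1) = i * p + (p - (j + 1)) := by
    rw [add_mul, one_mul]; omega
  have hs : p - (j + 1) < p := by omega
  have hdeg' : h.natDegree < (g + 1) * p := by
    have : (g + 1) * (p - 1) < (g + 1) * p := by
      apply Nat.mul_lt_mul_of_pos_left <;> omega
    omega
  rw [taylor_coeff_sum h α _ _ hdeg', sum_range_mul_block, hl]
  -- rewrite each term by `term_eq`
  have hterm : ∀ I ∈ range (g + 1), ∀ r ∈ range p,
      h.coeff (I * p + r) * ((Nat.choose (I * p + r) (i * p + (p - (j + 1))) : ℕ) : k) *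
          α ^ (I * p + r - (i * p + (p - (j + 1)))) =
        h.coeff (I * p + r) * ((((Nat.choose I i : ℕ) : k) * α ^ ((I - i) * p)) *
          (((Nat.choose r (p - (j + 1)) : ℕ) : k) * α ^ (r - (p - (j + 1))))) := by
    intro I _ r hr
    rw [mul_assoc, term_eq p I i r _ (mem_range.mp hr) hs α]
  rw [sum_congr rfl fun I hI => sum_congr rfl fun r hr => hterm I hI r hr]
  -- drop the block `I = g`
  rw [sum_range_succ]
  have hlast : ∑ r ∈ range p, h.coeff (g * p + r) * ((((Nat.choose g i : ℕ) : k) *
      α ^ ((g - i) * p)) * (((Nat.choose r (p - (j + 1)) : ℕ) : k) * α ^ (r - (p - (j + 1))))) = 0 := by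
    refine sum_eq_zero fun r hr => ?_
    by_cases hrg : r < p - g
    · rw [Nat.choose_eq_zero_of_lt (show r < p - (j + 1) by omega)]; simp
    · have : h.coeff (g * p + r) = 0 := by
        apply coeff_eq_zero_of_natDegree_lt
        have h1 : (g + 1) * (p - 1) + (g + 1) = (g + 1) * p := by
          rw [← Nat.mul_succ]; congr 1; omega
        have h2 : (g + 1) * p = g * p + p := by ring
        omega
      rw [this, zero_mul]
  rw [hlast, add_zero]
  -- reflect the inner sums and cut them down to `range g`
  have hinner : ∀ I ∈ range g, ∑ r ∈ range p, h.coeff (I * p + r) * ((((Nat.choose I i : ℕ) : k) *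
      α ^ ((I - i) * p)) * (((Nat.choose r (p - (j + 1)) : ℕ) : k) * α ^ (r - (p - (j + 1))))) =
      ∑ J ∈ range g, ((((Nat.choose I i : ℕ) : k) * α ^ ((I - i) * p)) *
        h.coeff ((I + 1) * p - (J + 1))) *
        (((Nat.choose (p - (J + 1)) (p - (j + 1)) : ℕ) : k) * α ^ (j - J)) := by
    intro I _
    rw [← sum_range_reflect]
    have hsub : range g ⊆ range p := range_subset_range.mpr hg
    rw [← sum_subset hsub]
    · refine sum_congr rfl fun J hJ => ?_
      have hJ' : J < g := mem_range.mp hJ
      have e1 : p - 1 - J = p - (J + 1) := by omega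
      have e2 : I * p + (p - (J + 1)) = (I + 1) * p - (J + 1) := by
        rw [add_mul, one_mul]; omega
      have e3 : p - (J + 1) - (p - (j + 1)) = j - J := by omega
      rw [e1, e2, e3]
      ring
    · intro J hJp hJg
      have hJp' : J < p := mem_range.mp hJp
      have hJg' : g ≤ J := by simpa using hJg
      rw [Nat.choose_eq_zero_of_lt (show p - 1 - J < p - (j + 1) by omega)]
      simp
  rw [sum_congr rfl hinner, sum_comm]
  refine sum_congr rfl fun J _ => ?_
  rw [sum_mul]

end Groth.Agent.Lib.Helper24CM
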