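import Mathlib
import Groth.Agent.Lib.Helper24Acyc

/-!
# The Čech nerve of a surjection of sets is a trivial Kan fibration over the constant simplicial set
-/

namespace Groth.Agent.Lib.Helper24Cech

open CategoryTheory Limits Opposite Simplicial SSet SimplexCategory
open Groth.Agent.Lib.Helper24Acyc

universe u

variable {A B : Type u} (f : A ⟶ B)

section WP

variable {ι : Type} [HasWidePullback.{0} B (fun _ : ι => A) (fun _ => f)]

theorem wp_ext (x y : widePullback.{0} B (fun _ : ι => A) (fun _ => f))
    (h : ∀ i, WidePullback.π (fun _ : ι => f) i x = WidePullback.π (fun _ : ι => f) i y)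
    (hb : WidePullback.base (fun _ : ι => f) x = WidePullback.base (fun _ : ι => f) y) : x = y := by
  let gx : (PUnit.{u + 1} : Type u) ⟶ widePullback.{0} B (fun _ : ι => A) (fun _ => f) :=
    ↾(fun _ => x)
  let gy : (PUnit.{u + 1} : Type u) ⟶ widePullback.{0} B (fun _ : ι => A) (fun _ => f) :=
    ↾(fun _ => y)
  have : gx = gy := by
    apply WidePullback.hom_ext
    · intro i
      ext
      exact h i
    · ext
      exact hb
  exact ConcreteCategory.congr_hom this PUnit.unit

theorem wp_mk (a : ι → A) (b : B) (h : ∀ i, f (a i) = b) :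
    ∃ x : widePullback.{0} B (fun _ : ι => A) (fun _ => f),
      (∀ i, WidePullback.π (fun _ : ι => f) i x = a i) ∧
        WidePullback.base (fun _ : ι => f) x = b := by
  let g : (PUnit.{u + 1} : Type u) ⟶ widePullback.{0} B (fun _ : ι => A) (fun _ => f) :=
    WidePullback.lift (↾(fun _ => b)) (fun i => ↾(fun _ => a i)) (by
      intro i
      ext
      exact h i)
  refine ⟨g PUnit.unit, ?_, ?_⟩
  · intro i
    have := WidePullback.lift_π (fun _ : ι => f) (↾(fun _ : PUnit.{u + 1} => b))
      (fun i => ↾(fun _ => a i)) (by intro i; ext; exact h i) i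
    exact ConcreteCategory.congr_hom this PUnit.unit
  · have := WidePullback.lift_base (fun _ : ι => f) (↾(fun _ : PUnit.{u + 1} => b))
      (fun i => ↾(fun _ => a i)) (by intro i; ext; exact h i)
    exact ConcreteCategory.congr_hom this PUnit.unit

end WP

/-- the Čech nerve. -/
noncomputable abbrev Z : SSet.{u} := (Arrow.mk f).cechNerve

/-- the vertices of a simplex of the Čech nerve. -/
noncomputable def v {n : ℕ} (y : (Z f) _⦋n⦌) (i : Fin (n + 1)) : A :=
  WidePullback.π (fun _ : Fin (n + 1) => f) i y

/-- the base point of a simplex of the Čech nerve. -/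
noncomputable def bs {n : ℕ} (y : (Z f) _⦋n⦌) : B :=
  WidePullback.base (fun _ : Fin (n + 1) => f) y

theorem f_v {n : ℕ} (y : (Z f) _⦋n⦌) (i : Fin (n + 1)) : f (v f y i) = bs f y := by
  have := WidePullback.π_arrow (fun _ : Fin (n + 1) => f) i
  exact ConcreteCategory.congr_hom this y

theorem v_δ {n : ℕ} (j : Fin (n + 2)) (y : (Z f) _⦋n + 1⦌) (i : Fin (n + 1)) :
    v f ((Z f).δ j y) i = v f y (j.succAbove i) := by
  have := WidePullback.lift_π (fun _ : Fin (n + 1) => f)
    (WidePullback.base (fun _ : Fin (n + 2) => f))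
    (fun i => WidePullback.π (fun _ : Fin (n + 2) => f) ((SimplexCategory.δ j).toOrderHom i))
    (by simp) i
  exact ConcreteCategory.congr_hom this y

theorem bs_δ {n : ℕ} (j : Fin (n + 2)) (y : (Z f) _⦋n + 1⦌) :
    bs f ((Z f).δ j y) = bs f y := by
  have := WidePullback.lift_base (fun _ : Fin (n + 1) => f)
    (WidePullback.base (fun _ : Fin (n + 2) => f))
    (fun i => WidePullback.π (fun _ : Fin (n + 2) => f) ((SimplexCategory.δ j).toOrderHom i))
    (by simp)
  exact ConcreteCategory.congr_hom this y

theorem ext_Z {n : ℕ} (x y : (Z f) _⦋n⦌) (h : ∀ i, v f x i = v f y i) (hb : bs f x = bs f y) :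
    x = y :=
  wp_ext f x y h hb

theorem mk_Z {n : ℕ} (a : Fin (n + 1) → A) (b : B) (h : ∀ i, f (a i) = b) :
    ∃ y : (Z f) _⦋n⦌, (∀ i, v f y i = a i) ∧ bs f y = b :=
  wp_mk f a b h


theorem fill {n : ℕ} (x : Fin (n + 2) → (Z f) _⦋n⦌) (b : B) (hb : ∀ j, bs f (x j) = b)
    (hc : ∀ (j : Fin (n + 2)) (i : Fin (n + 1)), 0 < j.val →
      (i.val = 0 → v f (x j) i = v f (x 1) 0) ∧
      (∀ hi : 0 < i.val, v f (x j) i =
        v f (x 0) ⟨(j.succAbove i).val - 1, by have := (j.succAbove i).isLt; omega⟩)) :
    ∃ y : (Z f) _⦋n + 1⦌, (∀ j, (Z f).δ j y = x j) ∧ bs f y = b := by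
  let a : Fin (n + 2) → A := fun k =>
    if h : k.val = 0 then v f (x 1) 0 else v f (x 0) ⟨k.val - 1, by have := k.isLt; omega⟩
  obtain ⟨y, hy, hyb⟩ := mk_Z f a b (by
    intro k
    by_cases h : k.val = 0
    · simp only [a, dif_pos h]
      rw [f_v, hb]
    · simp only [a, dif_neg h]
      rw [f_v, hb])
  refine ⟨y, ?_, hyb⟩
  intro j
  apply ext_Z
  · intro i
    rw [v_δ, hy]
    by_cases hj : j.val = 0
    · have hj0 : j = 0 := Fin.ext hj
      subst hj0
      have h1 : ((0 : Fin (n + 2)).succAbove i).val ≠ 0 := by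
        rw [Fin.succAbove_zero]; simp
      simp only [a, dif_neg h1]
      congr 1
    · have hjpos : 0 < j.val := Nat.pos_of_ne_zero hj
      obtain ⟨hc0, hc1⟩ := hc j i hjpos
      by_cases hi : i.val = 0
      · have h0 : (j.succAbove i).val = 0 := by
          rw [Fin.succAbove_of_castSucc_lt _ _ (by rw [Fin.lt_def]; simp; omega)]
          simpa using hi
        simp only [a, dif_pos h0]
        exact (hc0 hi).symm
      · have hipos : 0 < i.val := Nat.pos_of_ne_zero hi
        have h0 : (j.succAbove i).val ≠ 0 := by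
          by_cases hlt : i.castSucc < j
          · rw [Fin.succAbove_of_castSucc_lt _ _ hlt]; simpa using hi
          · rw [Fin.succAbove_of_le_castSucc _ _ (not_lt.1 hlt)]; simp
        simp only [a, dif_neg h0]
        exact (hc1 hipos).symm
  · rw [bs_δ, hyb, hb]


theorem main (hf : Function.Surjective f) :
    SSet.modelCategoryQuillen.I.rlp (Arrow.mk f).augmentedCechNerve.hom := by
  apply rlpI_of_elem
  · intro b
    obtain ⟨a, ha⟩ := hf b
    obtain ⟨y, -, hyb⟩ := mk_Z f (n := 0) (fun _ => a) b (fun _ => ha)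
    exact ⟨y, hyb⟩
  · intro x b hb
    apply fill f x b (fun j => hb j)
    intro j i hj
    have hj1 : j = 1 := by
      apply Fin.ext
      have := j.isLt
      simp
      omega
    have hi0 : i = 0 := by
      apply Fin.ext
      have := i.isLt
      simp
    subst hj1 hi0
    exact ⟨fun _ => rfl, fun hi => absurd hi (by simp)⟩
  · intro m x b hc hb
    apply fill f x b (fun j => hb j)
    intro j i hj
    let x' : Fin (m + 3) → (Z f) _⦋m + 1⦌ := x
    have hc' : ∀ (j k : Fin (m + 3)) (hjk : j < k),
        (Z f).δ (k.pred (Fin.ne_zero_of_lt hjk)) (x' j) =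
          (Z f).δ (j.castPred (Fin.ne_last_of_lt hjk)) (x' k) := hc
    show (i.val = 0 → v f (x' j) i = v f (x' 1) 0) ∧
      (∀ hi : 0 < i.val, v f (x' j) i =
        v f (x' 0) ⟨(j.succAbove i).val - 1, by have := (j.succAbove i).isLt; omega⟩)
    clear_value x'
    clear hc hb
    constructor
    · intro hi
      have hi0 : i = 0 := Fin.ext hi
      subst hi0
      by_cases hj1 : j = 1
      · subst hj1; rfl
      · have h1j : (1 : Fin (m + 3)) < j := by
          rw [Fin.lt_def]
          have : j.val ≠ 1 := fun h => hj1 (Fin.ext (by simpa using h))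
          simp
          omega
        have h : v f ((Z f).δ (j.pred (Fin.ne_zero_of_lt h1j)) (x' 1)) 0 =
            v f ((Z f).δ ((1 : Fin (m + 3)).castPred (Fin.ne_last_of_lt h1j)) (x' j)) 0 :=
          congrArg (fun z => v f z 0) (hc' 1 j h1j)
        rw [v_δ, v_δ] at h
        have e1 : (j.pred (Fin.ne_zero_of_lt h1j)).succAbove (0 : Fin (m + 1)) = 0 := by
          apply Fin.succAbove_of_castSucc_lt
          rw [Fin.lt_def]
          simp
          rw [Fin.lt_def] at h1j
          simp at h1j
          omega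
        have e2 : ((1 : Fin (m + 3)).castPred (Fin.ne_last_of_lt h1j)).succAbove
            (0 : Fin (m + 1)) = 0 := by
          apply Fin.succAbove_of_castSucc_lt
          rw [Fin.lt_def]
          simp
        rw [e1, e2] at h
        exact h.symm
    · intro hi
      have h0j : (0 : Fin (m + 3)) < j := by
        rw [Fin.lt_def]; simpa using hj
      let i' : Fin (m + 1) := ⟨i.val - 1, by have := i.isLt; omega⟩
      have h : v f ((Z f).δ (j.pred (Fin.ne_zero_of_lt h0j)) (x' 0)) i' =
          v f ((Z f).δ ((0 : Fin (m + 3)).castPred (Fin.ne_last_of_lt h0j)) (x' j)) i' :=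
        congrArg (fun z => v f z i') (hc' 0 j h0j)
      rw [v_δ, v_δ] at h
      have e2 : ((0 : Fin (m + 3)).castPred (Fin.ne_last_of_lt h0j)).succAbove i' = i := by
        have : (0 : Fin (m + 3)).castPred (Fin.ne_last_of_lt h0j) = 0 := rfl
        rw [this, Fin.succAbove_zero]
        apply Fin.ext
        simp [i']
        omega
      rw [e2] at h
      rw [← h]
      congr 1
      apply Fin.ext
      simp only [Fin.succAbove, i']
      split_ifs with h1 h2 h2
      all_goals
        simp only [Fin.lt_def, Fin.val_castSucc, Fin.val_pred, Fin.val_succ] at *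
        try omega

end Groth.Agent.Lib.Helper24Cech
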