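import Mathlib

open CategoryTheory Simplicial SimplexCategory
open Opposite Category Functor Limits StructuredArrow

universe v u
set_option autoImplicit false

namespace Groth.Agent.Lib.Helper24CechCosk

variable {C : Type u} [Category.{v} C] [HasFiniteProducts C] (X : C) (n : ℕ)

abbrev strArrowMk {i : ℕ} {m : ℕ} (φ : ⦋i⦌ ⟶ ⦋m⦌) (hi : i ≤ n) :
    StructuredArrow (op ⦋m⦌) (SimplexCategory.Truncated.inclusion n).op :=
  StructuredArrow.mk (Y := op (⟨⦋i⦌, hi⟩ : SimplexCategory.Truncated n)) φ.op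

/-- projection to the `k`-th factor -/
noncomputable def pr (d : ℕ) (k : Fin (d + 1)) : (cechNerveTerminalFrom X).obj (op ⦋d⦌) ⟶ X :=
  Pi.π (fun _ : Fin (d + 1) => X) k

theorem pr_ext {Z : C} (d : ℕ) (a b : Z ⟶ (cechNerveTerminalFrom X).obj (op ⦋d⦌))
    (h : ∀ k, a ≫ pr X d k = b ≫ pr X d k) : a = b :=
  Pi.hom_ext (f := fun _ : Fin (d + 1) => X) a b h

theorem map_pr {d e : ℕ} (f : ⦋e⦌ ⟶ ⦋d⦌) (k : Fin (e + 1)) :
    (cechNerveTerminalFrom X).map f.op ≫ pr X e k = pr X d (f.toOrderHom k) := by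
  unfold pr
  simp [cechNerveTerminalFrom]


theorem vertex_eq {m : ℕ}
    (s : Cone (proj (op ⦋m⦌) (SimplexCategory.Truncated.inclusion n).op ⋙
      (SimplexCategory.Truncated.inclusion n).op ⋙ cechNerveTerminalFrom X))
    {i : ℕ} (hi : i ≤ n) (f : ⦋i⦌ ⟶ ⦋m⦌) (k : Fin (i + 1)) :
    s.π.app (strArrowMk n (⦋0⦌.const ⦋m⦌ (f.toOrderHom k)) (Nat.zero_le n)) ≫ pr X 0 0
      = s.π.app (strArrowMk n f hi) ≫ pr X i k := by
  let α : strArrowMk n f hi ⟶ strArrowMk n (⦋0⦌.const ⦋m⦌ (f.toOrderHom k)) (Nat.zero_le n) :=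
    StructuredArrow.homMk ((SimplexCategory.Truncated.Hom.tr (⦋0⦌.const _ (by exact k))).op) (by simp; rfl)
  have h2 : s.π.app (strArrowMk n (⦋0⦌.const ⦋m⦌ (f.toOrderHom k)) (Nat.zero_le n))
      = s.π.app (strArrowMk n f hi) ≫ (cechNerveTerminalFrom X).map (⦋0⦌.const ⦋i⦌ k).op :=
    (s.w α).symm
  have h3 : (s.π.app (strArrowMk n f hi) ≫ (cechNerveTerminalFrom X).map (⦋0⦌.const ⦋i⦌ k).op) ≫ pr X 0 0
      = s.π.app (strArrowMk n f hi) ≫ pr X i k :=
    (Category.assoc _ _ _).trans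
      (congrArg (fun t : (cechNerveTerminalFrom X).obj (op ⦋i⦌) ⟶ X => s.π.app (strArrowMk n f hi) ≫ t)
        (map_pr X (⦋0⦌.const ⦋i⦌ k) 0))
  exact (congrArg (· ≫ pr X 0 0) h2).trans h3

noncomputable def lift {m : ℕ}
    (s : Cone (proj (op ⦋m⦌) (SimplexCategory.Truncated.inclusion n).op ⋙
      (SimplexCategory.Truncated.inclusion n).op ⋙ cechNerveTerminalFrom X)) :
    s.pt ⟶ (cechNerveTerminalFrom X).obj (op ⦋m⦌) :=
  Pi.lift (f := fun _ : Fin (m + 1) => X)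
    fun i => s.π.app (strArrowMk n (⦋0⦌.const ⦋m⦌ i) (Nat.zero_le n)) ≫ pr X 0 0

theorem lift_pr {m : ℕ}
    (s : Cone (proj (op ⦋m⦌) (SimplexCategory.Truncated.inclusion n).op ⋙
      (SimplexCategory.Truncated.inclusion n).op ⋙ cechNerveTerminalFrom X)) (k : Fin (m + 1)) :
    lift X n s ≫ pr X m k
      = s.π.app (strArrowMk n (⦋0⦌.const ⦋m⦌ k) (Nat.zero_le n)) ≫ pr X 0 0 := by
  exact Pi.lift_π (f := fun _ : Fin (m + 1) => X) _ k


omit [HasFiniteProducts C] in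
theorem coneAt_π (Y : SimplicialObject C) (m : ℕ)
    (j : StructuredArrow (op ⦋m⦌) (SimplexCategory.Truncated.inclusion n).op) :
    ((SimplicialObject.Truncated.rightExtensionInclusion Y n).coneAt (op ⦋m⦌)).π.app j = Y.map j.hom :=
  Category.comp_id _

noncomputable def isPointwiseRightKanExtensionAt (m : ℕ) :
    (SimplicialObject.Truncated.rightExtensionInclusion (cechNerveTerminalFrom X) n).IsPointwiseRightKanExtensionAt
      ⟨⦋m⦌⟩ where
  lift s := lift X n s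
  fac s j := by
    obtain ⟨⟨i, hi⟩, ⟨f : _ ⟶ _⟩, rfl⟩ := j.mk_surjective
    obtain ⟨i, rfl⟩ : ∃ j, ⦋j⦌ = i := ⟨_, i.mk_len⟩
    refine pr_ext X i _ _ fun k => ?_
    have e0 := coneAt_π n (cechNerveTerminalFrom X) m (strArrowMk n f hi)
    have e1 : (lift X n s ≫ (cechNerveTerminalFrom X).map f.op) ≫ pr X i k
        = s.π.app (strArrowMk n f hi) ≫ pr X i k :=
      (Category.assoc _ _ _).trans
        ((congrArg (fun t : (cechNerveTerminalFrom X).obj (op ⦋m⦌) ⟶ X => lift X n s ≫ t)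
          (map_pr X f k)).trans ((lift_pr X n s _).trans (vertex_eq X n s hi f k)))
    exact (congrArg (fun t : (cechNerveTerminalFrom X).obj (op ⦋m⦌) ⟶
      (cechNerveTerminalFrom X).obj (op ⦋i⦌) => (lift X n s ≫ t) ≫ pr X i k) e0).trans e1
  uniq s m' hm := by
    refine pr_ext X m _ _ fun k => ?_
    have h := hm (strArrowMk n (⦋0⦌.const ⦋m⦌ k) (Nat.zero_le n))
    have e0 := coneAt_π n (cechNerveTerminalFrom X) m (strArrowMk n (⦋0⦌.const ⦋m⦌ k) (Nat.zero_le n))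
    have e1 : (m' ≫ (cechNerveTerminalFrom X).map (⦋0⦌.const ⦋m⦌ k).op) ≫ pr X 0 0 = m' ≫ pr X m k :=
      (Category.assoc _ _ _).trans
        (congrArg (fun t : (cechNerveTerminalFrom X).obj (op ⦋m⦌) ⟶ X => m' ≫ t)
          (map_pr X (⦋0⦌.const ⦋m⦌ k) 0))
    have e2 : s.π.app (strArrowMk n (⦋0⦌.const ⦋m⦌ k) (Nat.zero_le n))
        = m' ≫ (cechNerveTerminalFrom X).map (⦋0⦌.const ⦋m⦌ k).op :=
      h.symm.trans (congrArg (fun t : (cechNerveTerminalFrom X).obj (op ⦋m⦌) ⟶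
        (cechNerveTerminalFrom X).obj (op ⦋0⦌) => m' ≫ t) e0)
    exact (e1.symm.trans (congrArg (fun t : s.pt ⟶ (cechNerveTerminalFrom X).obj (op ⦋0⦌) =>
      t ≫ pr X 0 0) e2.symm)).trans (lift_pr X n s k).symm

noncomputable def isPointwiseRightKanExtension :
    (SimplicialObject.Truncated.rightExtensionInclusion (cechNerveTerminalFrom X) n).IsPointwiseRightKanExtension :=
  fun Δ => isPointwiseRightKanExtensionAt X n Δ.unop.len

theorem isCoskeletal : SimplicialObject.IsCoskeletal (cechNerveTerminalFrom X) n where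
  isRightKanExtension :=
    RightExtension.IsPointwiseRightKanExtension.isRightKanExtension (isPointwiseRightKanExtension X n)


open AlgebraicGeometry in
theorem s19631 (X Y : Scheme.{u}) (f : X ⟶ Y) (n : ℕ) :
    SimplicialObject.IsCoskeletal (cechNerveTerminalFrom (Over.mk f)) n :=
  isCoskeletal (Over.mk f) n

end Groth.Agent.Lib.Helper24CechCosk
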