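import Mathlib
import Groth.Prelude.Def_W4c6blochformula0cycCech

set_option autoImplicit false

universe u

open CategoryTheory Opposite TopologicalSpace
open W4c6blochformula0cyc

namespace Groth.Agent.Lib.Helper24CechHtpy

variable {X : Type u} [TopologicalSpace X]

lemma res_res (F : (Opens X)ᵒᵖ ⥤ AddCommGrpCat.{u}) {V W W' : Opens X} (h : W ≤ V) (h' : W' ≤ W)
    (x : F.obj (op V)) : res F h' (res F h x) = res F (h'.trans h) x := by
  have hc : F.map (homOfLE (h'.trans h)).op = F.map (homOfLE h).op ≫ F.map (homOfLE h').op := by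
    rw [← F.map_comp]
    exact congrArg (fun φ => F.map φ) (Subsingleton.elim _ _)
  show (F.map (homOfLE h').op).hom ((F.map (homOfLE h).op).hom x) =
    (F.map (homOfLE (h'.trans h)).op).hom x
  rw [hc]
  rfl

lemma res_self (F : (Opens X)ᵒᵖ ⥤ AddCommGrpCat.{u}) {V : Opens X} (h : V ≤ V)
    (x : F.obj (op V)) : res F h x = x := by
  have hc : F.map (homOfLE h).op = 𝟙 _ := by
    rw [← F.map_id]
    exact congrArg (fun φ => F.map φ) (Subsingleton.elim _ _)
  show (F.map (homOfLE h).op).hom x = x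
  rw [hc]
  rfl

lemma cochain_congr (F : (Opens X)ᵒᵖ ⥤ AddCommGrpCat.{u}) {ι : Type u} (U : ι → Opens X) {m : ℕ}
    (f : Cochain F U m) {s s' : Fin m → ι} (h : s = s') {W : Opens X}
    (h1 : W ≤ cechOpen U s) (h2 : W ≤ cechOpen U s') :
    res F h1 (f s) = res F h2 (f s') := by
  subst h
  rfl

lemma E_transport (F : (Opens X)ᵒᵖ ⥤ AddCommGrpCat.{u}) {ι : Type u} (U : ι → Opens X)
    (E : ∀ (V : Opens X) (α : ι), F.obj (op (V ⊓ U α)) →+ F.obj (op V))
    {W W' : Opens X} (h : W = W') (α : ι) (x : F.obj (op (W' ⊓ U α))) :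
    E W α (res F (le_of_eq (by rw [h])) x) = res F (le_of_eq h) (E W' α x) := by
  subst h
  rw [res_self, res_self]

lemma cech_eq {ι : Type u} (U : ι → Opens X) {n : ℕ} (t : Fin (n + 1) → ι) (i : Fin (n + 1)) :
    cechOpen U t = cechOpen U (t ∘ i.succAbove) ⊓ U (t i) := by
  apply le_antisymm
  · exact le_inf (cechOpen_le_comp U t i) (iInf_le (fun j => U (t j)) i)
  · refine le_iInf fun j => ?_
    by_cases hj : j = i
    · subst hj
      exact inf_le_right
    · obtain ⟨k, rfl⟩ := Fin.exists_succAbove_eq hj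
      exact inf_le_left.trans (iInf_le (fun k => U ((t ∘ i.succAbove) k)) k)

lemma E_restrict (F : (Opens X)ᵒᵖ ⥤ AddCommGrpCat.{u}) {ι : Type u} (U : ι → Opens X)
    (E : ∀ (V : Opens X) (α : ι), F.obj (op (V ⊓ U α)) →+ F.obj (op V))
    (h3 : ∀ (m : ℕ) (t : Fin (m + 1) → ι) (α β : ι) (g : F.obj (op (cechOpen U t ⊓ U α))),
      res F inf_le_left (E (cechOpen U t) α g) =
        E (cechOpen U t ⊓ U β) α (res F (inf_le_inf_right (U α) inf_le_left) g))
    {n : ℕ} (t : Fin (n + 2) → ι) (i : Fin (n + 2)) (α : ι)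
    (g : F.obj (op (cechOpen U (t ∘ i.succAbove) ⊓ U α))) :
    res F (cechOpen_le_comp U t i) (E (cechOpen U (t ∘ i.succAbove)) α g) =
      E (cechOpen U t) α (res F (inf_le_inf_right (U α) (cechOpen_le_comp U t i)) g) := by
  have hW : cechOpen U t = cechOpen U (t ∘ i.succAbove) ⊓ U (t i) := cech_eq U t i
  have e1 : res F (cechOpen_le_comp U t i) (E (cechOpen U (t ∘ i.succAbove)) α g) =
      res F (le_of_eq hW) (res F inf_le_left (E (cechOpen U (t ∘ i.succAbove)) α g)) :=
    (res_res F inf_le_left (le_of_eq hW) _).symm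
  rw [e1, h3 n (t ∘ i.succAbove) α (t i) g, ← E_transport F U E hW α, res_res]

theorem s19193 {X : Type u} [TopologicalSpace X]
    {ι : Type u} [Fintype ι] (F : (Opens X)ᵒᵖ ⥤ AddCommGrpCat.{u}) (U : ι → Opens X)
    (E : ∀ (V : Opens X) (α : ι), F.obj (op (V ⊓ U α)) →+ F.obj (op V))
    (h2 : ∀ (m : ℕ) (t : Fin (m + 1) → ι) (f : F.obj (op (cechOpen U t))),
      ∑ α, E (cechOpen U t) α (res F inf_le_left f) = f)
    (h3 : ∀ (m : ℕ) (t : Fin (m + 1) → ι) (α β : ι) (g : F.obj (op (cechOpen U t ⊓ U α))),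
      res F inf_le_left (E (cechOpen U t) α g) =
        E (cechOpen U t ⊓ U β) α (res F (inf_le_inf_right (U α) inf_le_left) g))
    (n : ℕ) (f : Cochain F U (n + 2)) :
    homotopy F U E (n + 2) (delta F U (n + 2) f) + delta F U (n + 1) (homotopy F U E (n + 1) f) = f := by
  funext t
  obtain ⟨A, hA⟩ : ∃ A : Fin (n + 2) → ι → F.obj (op (cechOpen U t)), ∀ i α, A i α =
      E (cechOpen U t) α (res F ((inf_le_inf_right (U α) (cechOpen_le_comp U t i)).trans
        (inf_le_cechOpen_cons U (t ∘ i.succAbove) α)) (f (Fin.cons α (t ∘ i.succAbove)))) :=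
    ⟨_, fun _ _ => rfl⟩
  have c1 : ∀ α : ι, E (cechOpen U t) α (res F (inf_le_cechOpen_cons U t α)
      ((delta F U (n + 2) f) (Fin.cons α t))) =
      E (cechOpen U t) α (res F inf_le_left (f t)) +
        ∑ i : Fin (n + 2), ((-1 : ℤ) ^ ((i : ℕ) + 1)) • A i α := by
    intro α
    have hd : (delta F U (n + 2) f) (Fin.cons α t) = ∑ j : Fin (n + 2 + 1), ((-1 : ℤ) ^ (j : ℕ)) •
        res F (cechOpen_le_comp U (Fin.cons α t) j)
          (f ((Fin.cons α t : Fin (n + 2 + 1) → ι) ∘ j.succAbove)) := rfl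
    rw [hd, map_sum, map_sum]
    refine (Fin.sum_univ_succ _).trans ?_
    congr 1
    · simp only [Fin.val_zero, pow_zero, one_smul]
      refine congrArg (fun z => E (cechOpen U t) α z) ((res_res F _ _ _).trans ?_)
      exact cochain_congr F U f (Fin.cons_comp_succ α t) _ _
    · apply Finset.sum_congr rfl
      intro i _
      have key : res F (inf_le_cechOpen_cons U t α)
          (res F (cechOpen_le_comp U (Fin.cons α t) i.succ)
            (f ((Fin.cons α t : Fin (n + 2 + 1) → ι) ∘ i.succ.succAbove))) =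
          res F ((inf_le_inf_right (U α) (cechOpen_le_comp U t i)).trans
            (inf_le_cechOpen_cons U (t ∘ i.succAbove) α)) (f (Fin.cons α (t ∘ i.succAbove))) := by
        refine (res_res F _ _ _).trans ?_
        exact cochain_congr F U f (Fin.cons_comp_succ_succAbove α t i) _ _
      rw [map_zsmul, map_zsmul, Fin.val_succ, key, hA]
  have c2 : ∀ i : Fin (n + 2), res F (cechOpen_le_comp U t i)
      ((homotopy F U E (n + 1) f) (t ∘ i.succAbove)) = ∑ α : ι, A i α := by
    intro i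
    have hh : (homotopy F U E (n + 1) f) (t ∘ i.succAbove) = ∑ α : ι,
        E (cechOpen U (t ∘ i.succAbove)) α (res F (inf_le_cechOpen_cons U (t ∘ i.succAbove) α)
          (f (Fin.cons α (t ∘ i.succAbove)))) := rfl
    rw [hh, map_sum]
    apply Finset.sum_congr rfl
    intro α _
    rw [E_restrict F U E h3 t i α, res_res, hA]
  have hz : ∑ α : ι, ∑ i : Fin (n + 2), ((-1 : ℤ) ^ ((i : ℕ) + 1)) • A i α +
      ∑ i : Fin (n + 2), ((-1 : ℤ) ^ (i : ℕ)) • ∑ α : ι, A i α = 0 := by
    rw [Finset.sum_comm]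
    simp only [Finset.smul_sum]
    rw [← Finset.sum_add_distrib]
    apply Finset.sum_eq_zero
    intro i _
    rw [← Finset.sum_add_distrib]
    apply Finset.sum_eq_zero
    intro α _
    rw [pow_succ, mul_neg_one, neg_smul, neg_add_cancel]
  show (homotopy F U E (n + 2) (delta F U (n + 2) f)) t +
      (delta F U (n + 1) (homotopy F U E (n + 1) f)) t = f t
  have e1 : (homotopy F U E (n + 2) (delta F U (n + 2) f)) t = ∑ α : ι,
      E (cechOpen U t) α (res F (inf_le_cechOpen_cons U t α)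
        ((delta F U (n + 2) f) (Fin.cons α t))) := rfl
  have e2 : (delta F U (n + 1) (homotopy F U E (n + 1) f)) t = ∑ i : Fin (n + 2),
      ((-1 : ℤ) ^ (i : ℕ)) • res F (cechOpen_le_comp U t i)
        ((homotopy F U E (n + 1) f) (t ∘ i.succAbove)) := rfl
  rw [e1, e2]
  simp only [c1, c2]
  rw [Finset.sum_add_distrib, h2 (n + 1) t (f t), add_assoc, hz, add_zero]

end Groth.Agent.Lib.Helper24CechHtpy
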