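import Mathlib
import Groth.Prelude.Def_NonAbH1

set_option autoImplicit false
set_option linter.unusedSectionVars false

universe w' w v u

open CategoryTheory Opposite

namespace Groth.Agent.Lib.Helper24CechTorsor

variable {C : Type u} [Category.{v} C] {J : GrothendieckTopology C} (G : Sheaf J GrpCat.{w})

/-- the free group on one generator in universe `w` -/
abbrev E : GrpCat.{w} := GrpCat.of (FreeGroup PUnit.{w + 1})

/-- the morphism `E ⟶ H` picking the element `x` -/
noncomputable def pick {H : GrpCat.{w}} (x : H) : E ⟶ H :=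
  GrpCat.ofHom (FreeGroup.lift (fun _ => x))

lemma pick_apply {H : GrpCat.{w}} (x : H) : (pick x).hom (FreeGroup.of PUnit.unit) = x := by
  simp [pick]

lemma pick_comp {H K : GrpCat.{w}} (x : H) (φ : H ⟶ K) : pick x ≫ φ = pick (φ.hom x) := by
  apply GrpCat.hom_ext
  apply FreeGroup.ext_hom
  intro a
  simp [pick]

lemma map_map {T V W : C} (f : V ⟶ T) (g : W ⟶ V) (x : G.obj.obj (op T)) :
    G.obj.map g.op (G.obj.map f.op x) = G.obj.map (g ≫ f).op x := by
  rw [op_comp, Functor.map_comp]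
  rfl

lemma map_id' {T : C} (x : G.obj.obj (op T)) : G.obj.map (𝟙 T).op x = x := by
  rw [op_id, CategoryTheory.Functor.map_id]
  rfl

theorem G_sep {T : C} (S : Sieve T) (hS : S ∈ J T) (g g' : G.obj.obj (op T))
    (h : ∀ ⦃V : C⦄ (f : V ⟶ T), S f → G.obj.map f.op g = G.obj.map f.op g') : g = g' := by
  have hsh := G.property E S hS
  have hsep := hsh.isSeparatedFor
  have : pick g = pick g' := by
    apply hsep.ext
    intro V f hf
    show pick g ≫ G.obj.map f.op = pick g' ≫ G.obj.map f.op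
    rw [pick_comp, pick_comp]
    congr 1
    exact h f hf
  have h2 := congrArg (fun φ : E ⟶ G.obj.obj (op T) => φ.hom (FreeGroup.of PUnit.unit)) this
  exact (pick_apply g).symm.trans (h2.trans (pick_apply g'))

theorem G_glue {T : C} (S : Sieve T) (hS : S ∈ J T)
    (x : ∀ ⦃V : C⦄ (f : V ⟶ T), S f → G.obj.obj (op V))
    (hx : ∀ ⦃V W : C⦄ (f : V ⟶ T) (hf : S f) (g : W ⟶ V),
      G.obj.map g.op (x f hf) = x (g ≫ f) (S.downward_closed hf g)) :
    ∃ g : G.obj.obj (op T), ∀ ⦃V : C⦄ (f : V ⟶ T) (hf : S f), G.obj.map f.op g = x f hf := by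
  have hsh := G.property E S hS
  let y : Presieve.FamilyOfElements (G.obj ⋙ coyoneda.obj (op E)) S.arrows :=
    fun V f hf => pick (x f hf)
  have hy : y.Compatible := by
    rw [Presieve.compatible_iff_sieveCompatible]
    intro V W f g hf
    show pick (x (g ≫ f) _) = pick (x f hf) ≫ G.obj.map g.op
    rw [pick_comp]
    congr 1
    exact (hx f hf g).symm
  obtain ⟨t, ht, -⟩ := hsh y hy
  refine ⟨t.hom (FreeGroup.of PUnit.unit), fun V f hf => ?_⟩
  have := ht f hf
  have h2 : t ≫ G.obj.map f.op = pick (x f hf) := this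
  have h3 := congrArg (fun φ : E ⟶ G.obj.obj (op V) => φ.hom (FreeGroup.of PUnit.unit)) h2
  exact h3.trans (pick_apply _)


variable {I : Type w'} (U : I → C) (γ : PresheafOfGroups.OneCocycle G.obj U)

/-- sections of the twisted torsor over `T` (in a large universe) -/
@[ext]
structure Pre (T : C) where
  x : ∀ ⦃V : C⦄ (_ : V ⟶ T) (i : I) (_ : V ⟶ U i), G.obj.obj (op V)
  res : ∀ ⦃V W : C⦄ (f : V ⟶ T) (i : I) (a : V ⟶ U i) (g : W ⟶ V),
    G.obj.map g.op (x f i a) = x (g ≫ f) i (g ≫ a)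
  trans : ∀ ⦃V : C⦄ (f : V ⟶ T) (i j : I) (a : V ⟶ U i) (b : V ⟶ U j),
    x f j b = x f i a * γ.ev i j a b

variable {G U γ}

lemma Pre.x_congr {T : C} (p : Pre G U γ T) {V : C} {f f' : V ⟶ T} (hf : f = f') (i : I)
    {a a' : V ⟶ U i} (ha : a = a') : p.x f i a = p.x f' i a' := by
  subst hf; subst ha; rfl

/-- restriction -/
def Pre.map {T T' : C} (h : T' ⟶ T) (p : Pre G U γ T) : Pre G U γ T' where
  x V f i a := p.x (f ≫ h) i a
  res V W f i a g := by
    rw [p.res (f ≫ h) i a g]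
    exact p.x_congr (Category.assoc _ _ _).symm i rfl
  trans V f i j a b := p.trans (f ≫ h) i j a b

lemma Pre.map_id {T : C} (p : Pre G U γ T) : Pre.map (𝟙 T) p = p := by
  ext V f i a
  exact p.x_congr (Category.comp_id f) i rfl

lemma Pre.map_comp {T T' T'' : C} (h : T' ⟶ T) (h' : T'' ⟶ T') (p : Pre G U γ T) :
    Pre.map (h' ≫ h) p = Pre.map h' (Pre.map h p) := by
  ext V f i a
  exact p.x_congr (Category.assoc _ _ _).symm i rfl

/-- action -/
def Pre.smul {T : C} (g : G.obj.obj (op T)) (p : Pre G U γ T) : Pre G U γ T where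
  x V f i a := G.obj.map f.op g * p.x f i a
  res V W f i a g' := by
    rw [map_mul, map_map, p.res]
  trans V f i j a b := by
    rw [p.trans f i j a b, mul_assoc]

lemma Pre.one_smul {T : C} (p : Pre G U γ T) : Pre.smul 1 p = p := by
  ext V f i a
  show G.obj.map f.op 1 * p.x f i a = p.x f i a
  rw [map_one, one_mul]

lemma Pre.mul_smul {T : C} (g h : G.obj.obj (op T)) (p : Pre G U γ T) :
    Pre.smul (g * h) p = Pre.smul g (Pre.smul h p) := by
  ext V f i a
  show G.obj.map f.op (g * h) * p.x f i a = G.obj.map f.op g * (G.obj.map f.op h * p.x f i a)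
  rw [map_mul, mul_assoc]

lemma Pre.map_smul {T T' : C} (h : T' ⟶ T) (g : G.obj.obj (op T)) (p : Pre G U γ T) :
    Pre.map h (Pre.smul g p) = Pre.smul (G.obj.map h.op g) (Pre.map h p) := by
  ext V f i a
  show G.obj.map (f ≫ h).op g * p.x (f ≫ h) i a = G.obj.map f.op (G.obj.map h.op g) * p.x (f ≫ h) i a
  rw [map_map]

variable (G U γ)

/-- the canonical section over `U i` -/
def sec (i : I) : Pre G U γ (U i) where
  x V f j b := γ.ev i j f b
  res V W f j b g := γ.ev_precomp i j g f b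
  trans V f j k b c := (γ.ev_trans i j k f b c).symm

variable {G U γ}

lemma cocycle_rel (i j : I) {T : C} (a : T ⟶ U i) (b : T ⟶ U j) :
    Pre.smul (γ.ev i j a b) (Pre.map b (sec G U γ j)) = Pre.map a (sec G U γ i) := by
  ext V f k c
  show G.obj.map f.op (γ.ev i j a b) * γ.ev j k (f ≫ b) c = γ.ev i k (f ≫ a) c
  rw [γ.ev_precomp, γ.ev_trans]

/-- the difference of two sections in a chart -/
lemma diff_indep {T : C} (p q : Pre G U γ T) {V : C} (f : V ⟶ T) (i j : I) (a : V ⟶ U i)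
    (b : V ⟶ U j) : q.x f j b * (p.x f j b)⁻¹ = q.x f i a * (p.x f i a)⁻¹ := by
  rw [q.trans f i j a b, p.trans f i j a b, mul_inv_rev, mul_assoc, mul_inv_cancel_left]

theorem pseudo (hU : J.CoversTop U) {T : C} (p q : Pre G U γ T) :
    ∃! g : G.obj.obj (op T), Pre.smul g p = q := by
  have hS := hU T
  obtain ⟨g, hg⟩ := G_glue G (Sieve.ofObjects U T) hS
    (fun V f hf => q.x f hf.choose hf.choose_spec.some * (p.x f hf.choose hf.choose_spec.some)⁻¹)
    (by
      intro V W f hf g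
      rw [map_mul, map_inv, q.res, p.res]
      exact diff_indep p q (g ≫ f) _ _ _ _)
  refine ⟨g, ?_, ?_⟩
  · ext V f i a
    show G.obj.map f.op g * p.x f i a = q.x f i a
    have hf : Sieve.ofObjects U T f := ⟨i, ⟨a⟩⟩
    rw [hg f hf, diff_indep p q f i _ a _, inv_mul_cancel_right]
  · intro g' hg'
    apply G_sep G (Sieve.ofObjects U T) hS
    intro V f hf
    obtain ⟨i, ⟨a⟩⟩ := hf
    have h1 : G.obj.map f.op g' * p.x f i a = q.x f i a := by
      have := congrArg (fun r : Pre G U γ T => r.x f i a) hg'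
      exact this
    have h2 : G.obj.map f.op g * p.x f i a = q.x f i a := by
      rw [hg f ⟨i, ⟨a⟩⟩, diff_indep p q f i _ a _, inv_mul_cancel_right]
    exact mul_right_cancel (h1.trans h2.symm)


theorem small_pre (hU : J.CoversTop U) (T : C) : Small.{w} (Pre G U γ T) := by
  by_cases hne : Nonempty (Pre G U γ T)
  · obtain ⟨p₀⟩ := hne
    have hsurj : Function.Surjective (fun g : G.obj.obj (op T) => Pre.smul g p₀) := by
      intro q
      obtain ⟨g, hg, -⟩ := pseudo hU p₀ q
      exact ⟨g, hg⟩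
    exact small_of_surjective hsurj
  · have : IsEmpty (Pre G U γ T) := not_nonempty_iff.mp hne
    infer_instance

/-- amalgamation of a compatible family of sections over a covering sieve -/
theorem pre_glue {T : C} (S : Sieve T) (hS : S ∈ J T)
    (x : ∀ ⦃V : C⦄ (f : V ⟶ T), S f → Pre G U γ V)
    (hx : ∀ ⦃V W : C⦄ (f : V ⟶ T) (hf : S f) (g : W ⟶ V),
      Pre.map g (x f hf) = x (g ≫ f) (S.downward_closed hf g)) :
    ∃ p : Pre G U γ T, ∀ ⦃V : C⦄ (f : V ⟶ T) (hf : S f), Pre.map f p = x f hf := by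
  -- the value of the amalgamation in a chart
  have key : ∀ ⦃V : C⦄ (g : V ⟶ T) (i : I) (a : V ⟶ U i),
      ∃ k : G.obj.obj (op V), ∀ ⦃W : C⦄ (h : W ⟶ V) (hh : S (h ≫ g)),
        G.obj.map h.op k = (x (h ≫ g) hh).x (𝟙 W) i (h ≫ a) := by
    intro V g i a
    have hpb : S.pullback g ∈ J V := J.pullback_stable g hS
    refine G_glue G (S.pullback g) hpb (fun W h hh => (x (h ≫ g) hh).x (𝟙 W) i (h ≫ a)) ?_
    intro W W' h hh h'
    have hh' : S ((h' ≫ h) ≫ g) := by
      rw [Category.assoc]; exact S.downward_closed hh h'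
    rw [(x (h ≫ g) hh).res]
    have e1 := hx (h ≫ g) hh h'
    have e2 : (x (h' ≫ h ≫ g) (S.downward_closed hh h')).x (𝟙 W') i ((h' ≫ h) ≫ a) =
        (Pre.map h' (x (h ≫ g) hh)).x (𝟙 W') i ((h' ≫ h) ≫ a) := by rw [e1]
    have e3 : (x ((h' ≫ h) ≫ g) hh').x (𝟙 W') i ((h' ≫ h) ≫ a) =
        (x (h' ≫ h ≫ g) (S.downward_closed hh h')).x (𝟙 W') i ((h' ≫ h) ≫ a) := by
      have : ∀ (f₁ f₂ : W' ⟶ T) (e : f₁ = f₂) (h₁ : S f₁) (h₂ : S f₂),
          (x f₁ h₁).x (𝟙 W') i ((h' ≫ h) ≫ a) = (x f₂ h₂).x (𝟙 W') i ((h' ≫ h) ≫ a) := by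
        intro f₁ f₂ e h₁ h₂; subst e; rfl
      exact this _ _ (Category.assoc _ _ _) _ _
    show (x (h ≫ g) hh).x (h' ≫ 𝟙 W) i (h' ≫ h ≫ a) = (x ((h' ≫ h) ≫ g) hh').x (𝟙 W') i ((h' ≫ h) ≫ a)
    rw [e3, e2]
    show _ = (x (h ≫ g) hh).x (𝟙 W' ≫ h') i ((h' ≫ h) ≫ a)
    exact (x (h ≫ g) hh).x_congr (by simp) i (by simp)
  choose k hk using key
  have hpbJ : ∀ ⦃V : C⦄ (g : V ⟶ T), S.pullback g ∈ J V := fun V g => J.pullback_stable g hS
  have xcongr : ∀ ⦃W : C⦄ (f₁ f₂ : W ⟶ T) (e : f₁ = f₂) (h₁ : S f₁) (h₂ : S f₂),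
      x f₁ h₁ = x f₂ h₂ := by
    intro W f₁ f₂ e h₁ h₂; subst e; rfl
  let p : Pre G U γ T :=
    { x := fun V g i a => k g i a
      res := by
        intro V W g i a g'
        apply G_sep G (S.pullback (g' ≫ g)) (hpbJ _)
        intro W' h hh
        have hh1 : S ((h ≫ g') ≫ g) := by rw [Category.assoc]; exact hh
        rw [map_map, hk g i a (h ≫ g') hh1, hk (g' ≫ g) i (g' ≫ a) h hh]
        rw [xcongr _ _ (Category.assoc h g' g) hh1 hh]
        exact (x _ hh).x_congr rfl i (Category.assoc _ _ _)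
      trans := by
        intro V g i j a b
        apply G_sep G (S.pullback g) (hpbJ _)
        intro W h hh
        rw [map_mul, hk g j b h hh, hk g i a h hh, γ.ev_precomp]
        exact (x (h ≫ g) hh).trans (𝟙 W) i j (h ≫ a) (h ≫ b) }
  refine ⟨p, fun V f hf => ?_⟩
  ext W g i a
  show k (g ≫ f) i a = (x f hf).x g i a
  have hh : S (𝟙 W ≫ g ≫ f) := by
    rw [Category.id_comp]; exact S.downward_closed hf g
  have h1 := hk (g ≫ f) i a (𝟙 W) hh
  rw [map_id'] at h1
  rw [h1]
  have h2 : x (𝟙 W ≫ g ≫ f) hh = x (g ≫ f) (S.downward_closed hf g) :=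
    xcongr _ _ (Category.id_comp _) _ _
  rw [h2, ← hx f hf g]
  show (x f hf).x (𝟙 W ≫ g) i (𝟙 W ≫ a) = (x f hf).x g i a
  exact (x f hf).x_congr (Category.id_comp _) i (Category.id_comp _)

theorem pre_sep {T : C} (S : Sieve T) (hS : S ∈ J T) (p p' : Pre G U γ T)
    (h : ∀ ⦃V : C⦄ (f : V ⟶ T), S f → Pre.map f p = Pre.map f p') : p = p' := by
  ext V g i a
  apply G_sep G (S.pullback g) (J.pullback_stable g hS)
  intro W h' hh
  rw [p.res, p'.res]
  have := congrArg (fun r : Pre G U γ W => r.x (𝟙 W) i (h' ≫ a)) (h (h' ≫ g) hh)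
  have e1 : (Pre.map (h' ≫ g) p).x (𝟙 W) i (h' ≫ a) = p.x (h' ≫ g) i (h' ≫ a) :=
    p.x_congr (Category.id_comp _) i rfl
  have e2 : (Pre.map (h' ≫ g) p').x (𝟙 W) i (h' ≫ a) = p'.x (h' ≫ g) i (h' ≫ a) :=
    p'.x_congr (Category.id_comp _) i rfl
  exact e1.symm.trans (this.trans e2)


section Sheaf

variable (hU : J.CoversTop U)

variable (G U γ) in
/-- the small version of the sections -/
def PS (T : C) : Type w := @Shrink.{w} (Pre G U γ T) (small_pre hU T)

variable (G U γ) in
/-- the small version of the sections -/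
noncomputable def shr (T : C) : PS G U γ hU T ≃ Pre G U γ T :=
  (@equivShrink.{w} (Pre G U γ T) (small_pre hU T)).symm

variable (G U γ) in
/-- the underlying presheaf of the twisted torsor -/
noncomputable def presheaf : Cᵒᵖ ⥤ Type w where
  obj T := PS G U γ hU T.unop
  map {T T'} h := ↾fun z => (shr G U γ hU T'.unop).symm (Pre.map h.unop (shr G U γ hU T.unop z))
  map_id T := by
    apply ConcreteCategory.hom_ext
    intro z
    show (shr G U γ hU T.unop).symm (Pre.map (𝟙 T.unop) (shr G U γ hU T.unop z)) = z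
    rw [Pre.map_id, Equiv.symm_apply_apply]
  map_comp {T T' T''} h h' := by
    apply ConcreteCategory.hom_ext
    intro z
    show (shr G U γ hU T''.unop).symm (Pre.map (h'.unop ≫ h.unop) (shr G U γ hU T.unop z)) =
      (shr G U γ hU T''.unop).symm (Pre.map h'.unop (shr G U γ hU T'.unop
        ((shr G U γ hU T'.unop).symm (Pre.map h.unop (shr G U γ hU T.unop z)))))
    rw [Equiv.apply_symm_apply, Pre.map_comp]

lemma presheaf_map_apply {T T' : C} (h : T' ⟶ T) (z : (presheaf G U γ hU).obj (op T)) :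
    (presheaf G U γ hU).map h.op z =
      (shr G U γ hU T').symm (Pre.map h (shr G U γ hU T z)) := rfl

theorem presheaf_isSheaf : Presheaf.IsSheaf J (presheaf G U γ hU) := by
  rw [isSheaf_iff_isSheaf_of_type]
  intro T S hS z hz
  rw [Presieve.compatible_iff_sieveCompatible] at hz
  obtain ⟨p, hp⟩ := pre_glue S hS (fun V f hf => shr G U γ hU V (z f hf)) (by
    intro V W f hf g
    have := hz f g hf
    rw [this, presheaf_map_apply, Equiv.apply_symm_apply])
  refine ⟨(shr G U γ hU T).symm p, ?_, ?_⟩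
  · intro V f hf
    rw [presheaf_map_apply, Equiv.apply_symm_apply, hp f hf, Equiv.symm_apply_apply]
  · intro t ht
    have : shr G U γ hU T t = p := by
      apply pre_sep S hS
      intro V f hf
      rw [hp f hf]
      have := ht f hf
      rw [presheaf_map_apply] at this
      rw [← this, Equiv.apply_symm_apply]
    rw [← this, Equiv.symm_apply_apply]

variable (G U γ) in
/-- the twisted torsor as a `G`-sheaf -/
noncomputable def gsheaf : NonAbH1.GSheaf G where
  P := ⟨presheaf G U γ hU, presheaf_isSheaf hU⟩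
  smul {T} g z := (shr G U γ hU T.unop).symm (Pre.smul g (shr G U γ hU T.unop z))
  one_smul {T} z := by
    show (shr G U γ hU T.unop).symm (Pre.smul 1 (shr G U γ hU T.unop z)) = z
    rw [Pre.one_smul, Equiv.symm_apply_apply]
  mul_smul {T} g h z := by
    show (shr G U γ hU T.unop).symm (Pre.smul (g * h) (shr G U γ hU T.unop z)) =
      (shr G U γ hU T.unop).symm (Pre.smul g (shr G U γ hU T.unop
        ((shr G U γ hU T.unop).symm (Pre.smul h (shr G U γ hU T.unop z)))))
    rw [Equiv.apply_symm_apply, Pre.mul_smul]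
  map_smul {T T'} f g z := by
    show (shr G U γ hU T'.unop).symm (Pre.map f.unop (shr G U γ hU T.unop
        ((shr G U γ hU T.unop).symm (Pre.smul g (shr G U γ hU T.unop z))))) =
      (shr G U γ hU T'.unop).symm (Pre.smul (G.obj.map f g) (shr G U γ hU T'.unop
        ((shr G U γ hU T'.unop).symm (Pre.map f.unop (shr G U γ hU T.unop z)))))
    rw [Equiv.apply_symm_apply, Equiv.apply_symm_apply, Pre.map_smul]
    rfl

theorem gsheaf_isTorsor : (gsheaf G U γ hU).IsTorsor := by
  refine ⟨?_, ?_⟩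
  · intro T z z'
    obtain ⟨g, hg, huniq⟩ := pseudo hU (shr G U γ hU T.unop z) (shr G U γ hU T.unop z')
    refine ⟨g, ?_, ?_⟩
    · show (shr G U γ hU T.unop).symm (Pre.smul g (shr G U γ hU T.unop z)) = z'
      rw [hg, Equiv.symm_apply_apply]
    · intro g' hg'
      apply huniq
      have : (shr G U γ hU T.unop).symm (Pre.smul g' (shr G U γ hU T.unop z)) = z' := hg'
      rw [← this, Equiv.apply_symm_apply]
  · intro T
    refine ⟨Sieve.ofObjects U T, hU T, ?_⟩
    rintro V f ⟨i, ⟨a⟩⟩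
    exact ⟨(shr G U γ hU V).symm (Pre.map a (sec G U γ i))⟩

include hU in
theorem main (c : PresheafOfGroups.H1 G.obj U) :
    ∃ P : NonAbH1.Torsor G, P.TrivialisedBy U ∧ P.HasCechClass U c := by
  obtain ⟨γ, rfl⟩ := Quot.exists_rep c
  refine ⟨⟨gsheaf G U γ hU, gsheaf_isTorsor hU⟩, ?_, ?_⟩
  · intro i
    exact ⟨(shr G U γ hU (U i)).symm (sec G U γ i)⟩
  · refine ⟨fun i => (shr G U γ hU (U i)).symm (sec G U γ i), γ, ?_, rfl⟩
    intro i j T a b
    show (shr G U γ hU T).symm (Pre.smul (γ.ev i j a b) (shr G U γ hU T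
        ((shr G U γ hU T).symm (Pre.map b (shr G U γ hU (U j) ((shr G U γ hU (U j)).symm (sec G U γ j))))))) =
      (shr G U γ hU T).symm (Pre.map a (shr G U γ hU (U i) ((shr G U γ hU (U i)).symm (sec G U γ i))))
    rw [Equiv.apply_symm_apply, Equiv.apply_symm_apply, Equiv.apply_symm_apply, cocycle_rel]

end Sheaf

end Groth.Agent.Lib.Helper24CechTorsor
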