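import Mathlib

set_option autoImplicit false

open CategoryTheory Limits ZeroObject

namespace Groth.Agent.Lib.Helper24Chain

universe v u
variable {R : Type u} [Ring R]

/-- An acyclic `ℕ`-indexed chain complex of projective modules is contractible. -/
theorem nonempty_contraction (K : ChainComplex (ModuleCat.{v} R) ℕ) [∀ n, Projective (K.X n)]
    (hK : K.Acyclic) : Nonempty (Homotopy (𝟙 K) 0) := by
  have hz : IsZero ((ChainComplex.single₀ (ModuleCat.{v} R)).obj 0) :=
    Functor.map_isZero _ (isZero_zero _)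
  have hq : QuasiIso (0 : K ⟶ (ChainComplex.single₀ (ModuleCat.{v} R)).obj 0) := by
    rw [quasiIso_iff]
    intro i
    rw [quasiIsoAt_iff_exactAt _ i (hK i), HomologicalComplex.exactAt_iff_isZero_homology]
    exact Functor.map_isZero (HomologicalComplex.homologyFunctor _ _ i) hz
  let P : ProjectiveResolution (0 : ModuleCat.{v} R) := { complex := K, π := 0, quasiIso := hq }
  exact ⟨ProjectiveResolution.liftHomotopyZero (P := P) (Q := P) (𝟙 K) (hz.eq_of_tgt _ _)⟩

/-- A degreewise epimorphism onto a contractible complex of projectives has a chain-map section. -/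
theorem exists_section_of_contraction {A A'' : ChainComplex (ModuleCat.{v} R) ℕ} (p : A ⟶ A'')
    [∀ n, Projective (A''.X n)] [∀ n, Epi (p.f n)] (H0 : Homotopy (𝟙 A'') 0) :
    ∃ h : A'' ⟶ A, h ≫ p = 𝟙 A'' := by
  let σ : ∀ j, A''.X j ⟶ A.X j := fun j => Projective.factorThru (𝟙 _) (p.f j)
  have hσ : ∀ j, σ j ≫ p.f j = 𝟙 _ := fun j => Projective.factorThru_comp _ _
  refine ⟨Homotopy.nullHomotopicMap (fun i j => H0.hom i j ≫ σ j), ?_⟩
  rw [Homotopy.nullHomotopicMap_comp]
  have h1 : (fun i j => (H0.hom i j ≫ σ j) ≫ p.f j) = H0.hom := by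
    funext i j; rw [Category.assoc, hσ, Category.comp_id]
  rw [h1]
  ext i : 1
  have h := H0.comm i
  rw [HomologicalComplex.zero_f, add_zero] at h
  exact h.symm

/-- Short exact sequence of complexes from degreewise data. -/
theorem shortExact_of_degreewise {A' A A'' : ChainComplex (ModuleCat.{v} R) ℕ} (f : A' ⟶ A)
    (p : A ⟶ A'') (w : f ≫ p = 0)
    (hf : ∀ q, Function.Injective (f.f q).hom) (hp : ∀ q, Function.Surjective (p.f q).hom)
    (hfp : ∀ q, Function.Exact (f.f q).hom (p.f q).hom) : (ShortComplex.mk f p w).ShortExact := by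
  apply HomologicalComplex.shortExact_of_degreewise_shortExact
  intro i
  exact ModuleCat.shortComplex_shortExact _ (hfp i) (hf i) (hp i)

theorem comp_eq_zero_of_exact {A' A A'' : ChainComplex (ModuleCat.{v} R) ℕ} (f : A' ⟶ A)
    (p : A ⟶ A'') (hfp : ∀ q, Function.Exact (f.f q).hom (p.f q).hom) : f ≫ p = 0 := by
  ext q x
  exact (hfp q).apply_apply_eq_zero x

/-- The main splitting statement. -/
theorem exists_section {A' A A'' : ChainComplex (ModuleCat.{v} R) ℕ} (f : A' ⟶ A)
    (p : A ⟶ A'') [∀ n, Projective (A''.X n)]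
    (hf : ∀ q, Function.Injective (f.f q).hom) (hp : ∀ q, Function.Surjective (p.f q).hom)
    (hfp : ∀ q, Function.Exact (f.f q).hom (p.f q).hom) [QuasiIso f] :
    Nonempty (Homotopy (𝟙 A'') 0) ∧ ∃ h : A'' ⟶ A, h ≫ p = 𝟙 A'' := by
  have w := comp_eq_zero_of_exact f p hfp
  have hS := shortExact_of_degreewise f p w hf hp hfp
  have hac : A''.Acyclic := hS.acyclic_X₃ (by assumption)
  obtain ⟨H0⟩ := nonempty_contraction A'' hac
  have : ∀ n, Epi (p.f n) := fun n => (ModuleCat.epi_iff_surjective _).2 (hp n)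
  exact ⟨⟨H0⟩, exists_section_of_contraction p H0⟩


section Cokernel

variable {A' A : ChainComplex (ModuleCat.{v} R) ℕ} (f : A' ⟶ A)

theorem mono_of_injective (hf : ∀ q, Function.Injective (f.f q).hom) : Mono f :=
  HomologicalComplex.mono_of_mono_f f (fun i => (ModuleCat.mono_iff_injective _).2 (hf i))

theorem shortExact_cokernel (hf : ∀ q, Function.Injective (f.f q).hom) :
    (ShortComplex.mk f (cokernel.π f) (cokernel.condition f)).ShortExact := by
  have : Mono f := mono_of_injective f hf
  exact { exact := ShortComplex.exact_cokernel f }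

theorem cokernel_degreewise (hf : ∀ q, Function.Injective (f.f q).hom) (q : ℕ) :
    Function.Surjective ((cokernel.π f).f q).hom ∧
      Function.Exact (f.f q).hom ((cokernel.π f).f q).hom := by
  have hS := shortExact_cokernel f hf
  have hSq := (HomologicalComplex.shortExact_iff_degreewise_shortExact _).1 hS q
  exact ⟨hSq.moduleCat_surjective_g,
    (ShortComplex.ShortExact.moduleCat_exact_iff_function_exact _).1 hSq.exact⟩

/-- The degree `q` part of the cokernel complex is the quotient module. -/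
noncomputable def cokernelXEquiv (hf : ∀ q, Function.Injective (f.f q).hom) (q : ℕ) :
    (A.X q ⧸ LinearMap.range (f.f q).hom) ≃ₗ[R] (cokernel f).X q :=
  (Submodule.quotEquivOfEq _ _ (LinearMap.exact_iff.1 (cokernel_degreewise f hf q).2).symm).trans
    (LinearMap.quotKerEquivOfSurjective _ (cokernel_degreewise f hf q).1)

/-- Additive version of `cokernelXEquiv`. -/
noncomputable def cokernelXAddEquiv (hf : ∀ q, Function.Injective (f.f q).hom) (q : ℕ) :
    (A.X q ⧸ LinearMap.range (f.f q).hom) ≃+ (cokernel f).X q :=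
  (cokernelXEquiv f hf q).toAddEquiv

/-- Retraction of an injective quasi-isomorphism with projective cokernel, together with
the contraction of the cokernel. -/
theorem exists_retraction (hf : ∀ q, Function.Injective (f.f q).hom)
    [∀ q, Projective ((cokernel f).X q)] [QuasiIso f] :
    Nonempty (Homotopy (𝟙 (cokernel f)) 0) ∧ ∃ g : A ⟶ A', f ≫ g = 𝟙 A' := by
  have hS := shortExact_cokernel f hf
  obtain ⟨H0, h, hh⟩ := exists_section f (cokernel.π f) hf
    (fun q => (cokernel_degreewise f hf q).1) (fun q => (cokernel_degreewise f hf q).2)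
  refine ⟨H0, ?_⟩
  have : Mono f := mono_of_injective f hf
  have he : (𝟙 A - cokernel.π f ≫ h) ≫ cokernel.π f = 0 := by
    rw [Preadditive.sub_comp, Category.assoc, hh, Category.id_comp, Category.comp_id, sub_self]
  let g : A ⟶ A' := hS.exact.lift (𝟙 A - cokernel.π f ≫ h) he
  have hg : g ≫ f = 𝟙 A - cokernel.π f ≫ h := hS.exact.lift_f _ he
  refine ⟨g, ?_⟩
  rw [← cancel_mono f, Category.assoc, hg, Preadditive.comp_sub, Category.comp_id,
    ← Category.assoc, cokernel.condition, zero_comp, sub_zero, Category.id_comp]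

/-- Two retractions are homotopic by a homotopy vanishing on the image of `f`. -/
theorem exists_homotopy_retractions (hf : ∀ q, Function.Injective (f.f q).hom)
    [∀ q, Projective ((cokernel f).X q)] [QuasiIso f]
    (g₁ g₂ : A ⟶ A') (h₁ : f ≫ g₁ = 𝟙 A') (h₂ : f ≫ g₂ = 𝟙 A') :
    ∃ H : Homotopy g₁ g₂, ∀ i j : ℕ, f.f i ≫ H.hom i j = 0 := by
  obtain ⟨⟨H0⟩, _⟩ := exists_retraction f hf
  have hz : f ≫ (g₁ - g₂) = 0 := by rw [Preadditive.comp_sub, h₁, h₂, sub_self]
  let u : cokernel f ⟶ A' := cokernel.desc f (g₁ - g₂) hz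
  have hu : cokernel.π f ≫ u = g₁ - g₂ := cokernel.π_desc _ _ _
  have e1 : g₁ - g₂ = (cokernel.π f ≫ 𝟙 _) ≫ u := by rw [Category.comp_id, hu]
  have e2 : (cokernel.π f ≫ (0 : cokernel f ⟶ cokernel f)) ≫ u = 0 := by
    rw [comp_zero, zero_comp]
  let H' : Homotopy (g₁ - g₂) 0 :=
    ((Homotopy.ofEq e1).trans ((H0.compLeft (cokernel.π f)).compRight u)).trans (Homotopy.ofEq e2)
  refine ⟨Homotopy.equivSubZero.symm H', fun i j => ?_⟩
  have hH : (Homotopy.equivSubZero.symm H').hom i j =
      ((cokernel.π f).f i ≫ H0.hom i j) ≫ u.f j := by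
    show H'.hom i j = _
    simp [H']
  rw [hH, ← Category.assoc, ← Category.assoc, ← HomologicalComplex.comp_f, cokernel.condition,
    HomologicalComplex.zero_f, zero_comp, zero_comp]

end Cokernel

end Groth.Agent.Lib.Helper24Chain
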