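import Mathlib

set_option autoImplicit false
universe u

namespace Groth.Agent.Lib.Helper24Chain1

variable {Λ : Type u} [CommRing Λ]

/-- in a ring with total divisibility, a nonempty finite set has an element dividing all. -/
theorem exists_dvd_all (hdiv : ∀ a b : Λ, a ∣ b ∨ b ∣ a) (T : Finset Λ) (hT : T.Nonempty) :
    ∃ c ∈ T, ∀ t ∈ T, c ∣ t := by
  induction hT using Finset.Nonempty.cons_induction with
  | singleton a => exact ⟨a, by simp, by simp⟩
  | cons a s ha hs ih =>
    obtain ⟨c, hc, hcall⟩ := ih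
    rcases hdiv c a with h | h
    · refine ⟨c, by simp [hc], ?_⟩
      intro t ht
      rcases Finset.mem_cons.1 ht with rfl | ht
      · exact h
      · exact hcall t ht
    · refine ⟨a, by simp, ?_⟩
      intro t ht
      rcases Finset.mem_cons.1 ht with rfl | ht
      · exact dvd_rfl
      · exact h.trans (hcall t ht)

theorem exists_pivot (hdiv : ∀ a b : Λ, a ∣ b ∨ b ∣ a) {n : ℕ}
    (K : Submodule Λ (Fin (n + 1) → Λ)) (hK : K.FG) :
    ∃ (c : Λ) (i₀ : Fin (n + 1)) (u : Fin (n + 1) → Λ), u i₀ = 1 ∧ c • u ∈ K ∧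
      ∀ v ∈ K, ∀ i, c ∣ v i := by
  classical
  obtain ⟨S, hS⟩ := hK
  by_cases hS0 : S = ∅
  · subst hS0
    have hK0 : K = ⊥ := by rw [← hS]; simp
    refine ⟨0, 0, Pi.single 0 1, by simp, by simp, ?_⟩
    intro v hv i
    rw [hK0, Submodule.mem_bot] at hv
    rw [hv]; simp
  have hSne : S.Nonempty := Finset.nonempty_iff_ne_empty.2 hS0
  set T : Finset Λ := (S ×ˢ (Finset.univ : Finset (Fin (n + 1)))).image (fun p => p.1 p.2) with hT
  have hTne : T.Nonempty := by
    obtain ⟨v, hv⟩ := hSne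
    exact ⟨v 0, Finset.mem_image.2 ⟨(v, 0), by simp [hv], rfl⟩⟩
  obtain ⟨c, hcT, hcall⟩ := exists_dvd_all hdiv T hTne
  obtain ⟨⟨v₀, i₀⟩, hp, hpc⟩ := Finset.mem_image.1 hcT
  have hv₀ : v₀ ∈ S := (Finset.mem_product.1 hp).1
  simp only at hpc
  have hdvdK : ∀ v ∈ K, ∀ i, c ∣ v i := by
    intro v hv
    rw [← hS] at hv
    refine Submodule.span_induction ?_ ?_ ?_ ?_ hv
    · intro w hw i
      exact hcall _ (Finset.mem_image.2 ⟨(w, i), by simpa using hw, rfl⟩)
    · intro i; simp
    · intro x y _ _ hx hy i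
      exact dvd_add (hx i) (hy i)
    · intro a x _ hx i
      exact Dvd.dvd.mul_left (hx i) a
  have hv₀K : v₀ ∈ K := by rw [← hS]; exact Submodule.subset_span hv₀
  have hq : ∀ i, ∃ q, v₀ i = c * q := fun i => hdvdK v₀ hv₀K i
  choose q hq using hq
  refine ⟨c, i₀, fun i => if i = i₀ then 1 else q i, by simp, ?_, hdvdK⟩
  have : c • (fun i => if i = i₀ then 1 else q i) = v₀ := by
    funext i
    by_cases hi : i = i₀
    · subst hi; simp [hpc]
    · simp [hi, hq i]
  rw [this]; exact hv₀K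

/-- a retraction splits -/
noncomputable def retractEquiv {P N : Type*} [AddCommGroup P] [Module Λ P] [AddCommGroup N]
    [Module Λ N] (σ : N →ₗ[Λ] P) (ρ : P →ₗ[Λ] N) (h : ρ ∘ₗ σ = LinearMap.id) :
    P ≃ₗ[Λ] N × LinearMap.ker ρ where
  toFun x := (ρ x, ⟨x - σ (ρ x), by
    have := LinearMap.congr_fun h (ρ x)
    simp only [LinearMap.comp_apply, LinearMap.id_apply] at this
    rw [LinearMap.mem_ker, map_sub, this, sub_self]⟩)
  invFun p := σ p.1 + p.2.1
  map_add' x y := by
    apply Prod.ext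
    · simp
    · apply Subtype.ext
      simp only [map_add, Submodule.coe_add, Prod.snd_add]
      abel
  map_smul' a x := by
    apply Prod.ext
    · simp
    · apply Subtype.ext
      simp [smul_sub]
  left_inv x := by simp
  right_inv p := by
    obtain ⟨a, k⟩ := p
    have h1 := LinearMap.congr_fun h a
    simp only [LinearMap.comp_apply, LinearMap.id_apply] at h1
    have h2 : ρ k.1 = 0 := k.2
    apply Prod.ext
    · simp [h1, h2]
    · apply Subtype.ext
      simp [h1, h2]

end Groth.Agent.Lib.Helper24Chain1
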