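import Mathlib
import Groth.Agent.Lib.Helper24Chain1

set_option autoImplicit false
universe u

namespace Groth.Agent.Lib.Helper24Chain2
open Groth.Agent.Lib.Helper24Chain1

variable {Λ : Type u} [CommRing Λ]

theorem chain_structure_aux (hdiv : ∀ a b : Λ, a ∣ b ∨ b ∣ a) :
    ∀ (n : ℕ) (P : Type u) [AddCommGroup P] [Module Λ P] [Module.FinitePresentation Λ P]
      (g : Fin n → P), Submodule.span Λ (Set.range g) = ⊤ →
      ∃ (ι : Type) (_ : Fintype ι) (c : ι → Λ),
        Nonempty (P ≃ₗ[Λ] ((i : ι) → Λ ⧸ Ideal.span {c i})) := by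
  intro n
  induction n with
  | zero =>
    intro P _ _ _ g hg
    have hsub : Subsingleton P := by
      have : (⊤ : Submodule Λ P) = ⊥ := by
        rw [← hg]
        have : Set.range g = ∅ := Set.range_eq_empty g
        rw [this, Submodule.span_empty]
      refine ⟨fun x y => ?_⟩
      have hx : x ∈ (⊤ : Submodule Λ P) := trivial
      have hy : y ∈ (⊤ : Submodule Λ P) := trivial
      rw [this, Submodule.mem_bot] at hx hy
      rw [hx, hy]
    refine ⟨PEmpty, inferInstance, PEmpty.elim, ⟨?_⟩⟩
    exact LinearEquiv.ofSubsingleton _ _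
  | succ n ih =>
    intro P _ _ _ g hg
    classical
    set π : (Fin (n + 1) → Λ) →ₗ[Λ] P := Fintype.linearCombination Λ g with hπ
    have hsurj : Function.Surjective π := by
      rw [← LinearMap.range_eq_top, hπ, Fintype.range_linearCombination, hg]
    have hKfg : (LinearMap.ker π).FG := Module.FinitePresentation.fg_ker π hsurj
    obtain ⟨c, i₀, u, hu1, hcu, hdvd⟩ := exists_pivot hdiv (LinearMap.ker π) hKfg
    set y : P := π u with hy
    have hcy : c • y = 0 := by
      rw [hy, ← map_smul]; exact hcu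
    -- the retraction onto Λ / (c)
    let ρ' : (Fin (n + 1) → Λ) →ₗ[Λ] Λ ⧸ Ideal.span {c} :=
      (Submodule.mkQ (Ideal.span {c})) ∘ₗ (LinearMap.proj i₀)
    have hKρ : LinearMap.ker π ≤ LinearMap.ker ρ' := by
      intro v hv
      rw [LinearMap.mem_ker]
      show Submodule.Quotient.mk (v i₀) = 0
      rw [Submodule.Quotient.mk_eq_zero]
      exact Ideal.mem_span_singleton.2 (hdvd v hv i₀)
    let ρ : P →ₗ[Λ] Λ ⧸ Ideal.span {c} :=
      ((LinearMap.ker π).liftQ ρ' hKρ) ∘ₗ (π.quotKerEquivOfSurjective hsurj).symm.toLinearMap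
    have hρ : ∀ v, ρ (π v) = ρ' v := by
      intro v
      show ((LinearMap.ker π).liftQ ρ' hKρ) ((π.quotKerEquivOfSurjective hsurj).symm (π v)) = ρ' v
      rw [LinearMap.quotKerEquivOfSurjective_symm_apply, Submodule.liftQ_apply]
    have hσk : (Ideal.span {c} : Submodule Λ Λ) ≤ LinearMap.ker (LinearMap.toSpanSingleton Λ P y) := by
      intro a ha
      obtain ⟨b, rfl⟩ := Ideal.mem_span_singleton'.1 ha
      rw [LinearMap.mem_ker, LinearMap.toSpanSingleton_apply, mul_smul, hcy, smul_zero]
    let σ : (Λ ⧸ Ideal.span {c}) →ₗ[Λ] P :=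
      (Ideal.span {c} : Submodule Λ Λ).liftQ (LinearMap.toSpanSingleton Λ P y) hσk
    have hσ : ∀ a : Λ, σ (Submodule.Quotient.mk a) = a • y := by
      intro a
      show (Ideal.span {c} : Submodule Λ Λ).liftQ (LinearMap.toSpanSingleton Λ P y) hσk
        (Submodule.Quotient.mk a) = a • y
      rw [Submodule.liftQ_apply, LinearMap.toSpanSingleton_apply]
    have hρy : ρ y = Submodule.Quotient.mk 1 := by
      rw [hy, hρ]
      show Submodule.Quotient.mk (u i₀) = _
      rw [hu1]
    have hρσ : ρ ∘ₗ σ = LinearMap.id := by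
      apply Submodule.linearMap_qext
      ext
      simp only [LinearMap.comp_apply, Submodule.mkQ_apply, LinearMap.id_apply]
      rw [hσ, one_smul, hρy]
    -- the complement
    have hfp : Module.FinitePresentation Λ (LinearMap.ker ρ) :=
      Module.finitePresentation_of_split_exact (LinearMap.ker ρ).subtype ρ σ hρσ
        (Submodule.injective_subtype _) (LinearMap.exact_subtype_ker_map ρ)
    let Q : P →ₗ[Λ] LinearMap.ker ρ :=
      LinearMap.codRestrict (LinearMap.ker ρ) (LinearMap.id - σ ∘ₗ ρ) (by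
        intro x
        have := LinearMap.congr_fun hρσ (ρ x)
        simp only [LinearMap.comp_apply, LinearMap.id_apply] at this
        rw [LinearMap.mem_ker]
        simp [this])
    have hQ : ∀ x, (Q x : P) = x - σ (ρ x) := fun x => rfl
    have hQy : Q y = 0 := by
      apply Subtype.ext
      rw [hQ, hρy, hσ, one_smul, sub_self]; rfl
    have hQk : ∀ k : LinearMap.ker ρ, Q k.1 = k := by
      intro k
      apply Subtype.ext
      rw [hQ, LinearMap.mem_ker.1 k.2, map_zero, sub_zero]
    let g' : Fin n → LinearMap.ker ρ := fun j => Q (g (i₀.succAbove j))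
    set G : Submodule Λ (LinearMap.ker ρ) := Submodule.span Λ (Set.range g') with hG
    have ha : ∀ j, Q (g (i₀.succAbove j)) ∈ G := fun j => Submodule.subset_span ⟨j, rfl⟩
    have hπv : ∀ v : Fin (n + 1) → Λ, Q (π v) =
        v i₀ • Q (g i₀) + ∑ j, v (i₀.succAbove j) • Q (g (i₀.succAbove j)) := by
      intro v
      rw [hπ, Fintype.linearCombination_apply, map_sum, Fin.sum_univ_succAbove _ i₀]
      simp only [map_smul]
    have hb : Q (g i₀) ∈ G := by
      have h1 := hπv u
      rw [← hy, hQy, hu1, one_smul] at h1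
      have h2 : Q (g i₀) = -∑ j, u (i₀.succAbove j) • Q (g (i₀.succAbove j)) :=
        eq_neg_of_add_eq_zero_left h1.symm
      rw [h2]
      exact G.neg_mem (G.sum_mem fun j _ => G.smul_mem _ (ha j))
    have hgen : G = ⊤ := by
      rw [eq_top_iff]
      intro k _
      obtain ⟨v, hv⟩ := hsurj k.1
      rw [← hQk k, ← hv, hπv]
      exact G.add_mem (G.smul_mem _ hb) (G.sum_mem fun j _ => G.smul_mem _ (ha j))
    obtain ⟨ι', hι', c', ⟨e₂⟩⟩ := ih (LinearMap.ker ρ) g' hgen
    refine ⟨Option ι', inferInstance, fun o => Option.elim o c c', ⟨?_⟩⟩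
    exact (retractEquiv σ ρ hρσ) ≪≫ₗ (LinearEquiv.prodCongr (LinearEquiv.refl _ _) e₂) ≪≫ₗ
      (LinearEquiv.piOptionEquivProd Λ
        (M := fun o : Option ι' => Λ ⧸ Ideal.span {Option.elim o c c'})).symm

/-- Structure theorem: a finitely presented module over a ring with total divisibility is a finite
product of cyclic modules. -/
theorem chain_structure (hdiv : ∀ a b : Λ, a ∣ b ∨ b ∣ a) (P : Type u) [AddCommGroup P]
    [Module Λ P] [Module.FinitePresentation Λ P] :
    ∃ (ι : Type) (_ : Fintype ι) (c : ι → Λ),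
      Nonempty (P ≃ₗ[Λ] ((i : ι) → Λ ⧸ Ideal.span {c i})) := by
  obtain ⟨n, g, hg⟩ := Module.Finite.exists_fin (R := Λ) (M := P)
  exact chain_structure_aux hdiv n P g hg

end Groth.Agent.Lib.Helper24Chain2
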