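import Mathlib
import Groth.Agent.Lib.Helper24Chain2

set_option autoImplicit false
universe u

namespace Groth.Agent.Lib.Helper24Chain3
open Groth.Agent.Lib.Helper24Chain1 Groth.Agent.Lib.Helper24Chain2

variable {R : Type u} [CommRing R]

instance fp_cyclic (f : R) : Module.FinitePresentation R (R ⧸ Ideal.span {f}) := by
  refine Module.finitePresentation_of_surjective (Submodule.mkQ (Ideal.span {f}))
    (Submodule.mkQ_surjective _) ?_
  rw [Submodule.ker_mkQ]
  exact ⟨{f}, by simp [Ideal.span]⟩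

/-- the local retraction -/
theorem local_retract (m : Ideal R) [m.IsMaximal]
    (hdiv : ∀ a b : Localization.AtPrime m, a ∣ b ∨ b ∣ a)
    (M : Type u) [AddCommGroup M] [Module R M] [Module.FinitePresentation R M] :
    ∃ (ι : Type) (_ : Fintype ι) (f : ι → R)
      (a : M →ₗ[R] ((i : ι) → R ⧸ Ideal.span {f i}))
      (b : ((i : ι) → R ⧸ Ideal.span {f i}) →ₗ[R] M) (g : R), g ∉ m ∧
        b ∘ₗ a = g • LinearMap.id := by
  classical
  set S := m.primeCompl with hS
  set Λ := Localization.AtPrime m with hΛ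
  obtain ⟨ι, hι, φ, ⟨e⟩⟩ := chain_structure hdiv (LocalizedModule S M)
  have hsurj : ∀ i, ∃ x : R × S, φ i * algebraMap R Λ x.2 = algebraMap R Λ x.1 :=
    fun i => IsLocalization.surj S (φ i)
  choose x hx using hsurj
  let f : ι → R := fun i => (x i).1
  have hspan : ∀ i, (Ideal.span {φ i} : Submodule Λ Λ) =
      (Ideal.span {f i} : Submodule R R).localized' Λ S (Algebra.linearMap R Λ) := by
    intro i
    have h1 : (Ideal.span {f i} : Submodule R R) = Submodule.span R {f i} := rfl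
    rw [h1, Submodule.localized'_span, Set.image_singleton]
    show Ideal.span {φ i} = Ideal.span {algebraMap R Λ (f i)}
    have hu : IsUnit (algebraMap R Λ (x i).2) := IsLocalization.map_units Λ (x i).2
    obtain ⟨w, hw⟩ := hu
    apply le_antisymm
    · rw [Ideal.span_singleton_le_span_singleton]
      refine ⟨(↑w⁻¹ : Λ), ?_⟩
      rw [← hx i, ← hw, mul_assoc, Units.mul_inv, mul_one]
    · rw [Ideal.span_singleton_le_span_singleton]
      exact ⟨algebraMap R Λ (x i).2, (hx i).symm⟩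
  -- the localisation map of the product of cyclic modules
  let ℓ₀ : (i : ι) → (R ⧸ Ideal.span {f i}) →ₗ[R]
      (Λ ⧸ (Ideal.span {f i} : Submodule R R).localized' Λ S (Algebra.linearMap R Λ)) :=
    fun i => Submodule.toLocalizedQuotient' Λ S (Algebra.linearMap R Λ) (Ideal.span {f i})
  let ℓ : ((i : ι) → R ⧸ Ideal.span {f i}) →ₗ[R]
      ((i : ι) → Λ ⧸ (Ideal.span {f i} : Submodule R R).localized' Λ S (Algebra.linearMap R Λ)) :=
    LinearMap.pi fun i => ℓ₀ i ∘ₗ LinearMap.proj i
  have hℓ : IsLocalizedModule S ℓ := IsLocalizedModule.pi S ℓ₀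
  let E : LocalizedModule S M ≃ₗ[Λ]
      ((i : ι) → Λ ⧸ (Ideal.span {f i} : Submodule R R).localized' Λ S (Algebra.linearMap R Λ)) :=
    e ≪≫ₗ LinearEquiv.piCongrRight fun i => Submodule.quotEquivOfEq _ _ (hspan i)
  let α : LocalizedModule S M →ₗ[R] _ := E.toLinearMap.restrictScalars R
  let β : _ →ₗ[R] LocalizedModule S M := E.symm.toLinearMap.restrictScalars R
  have hβα : β ∘ₗ α = LinearMap.id := by
    ext z; simp [α, β]
  let mkM : M →ₗ[R] LocalizedModule S M := LocalizedModule.mkLinearMap S M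
  obtain ⟨a, s, ha⟩ := Module.FinitePresentation.exists_lift_of_isLocalizedModule S ℓ (α ∘ₗ mkM)
  obtain ⟨b, s', hb⟩ := Module.FinitePresentation.exists_lift_of_isLocalizedModule S mkM (β ∘ₗ ℓ)
  have hcomp : mkM ∘ₗ (b ∘ₗ a) = mkM ∘ₗ (((s' * s : S) : R) • LinearMap.id) := by
    rw [← LinearMap.comp_assoc, hb, LinearMap.smul_comp, LinearMap.comp_assoc, ha,
      LinearMap.comp_smul, ← LinearMap.comp_assoc, hβα, LinearMap.id_comp, smul_smul,
      LinearMap.comp_smul, LinearMap.comp_id]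
    rfl
  obtain ⟨t, ht⟩ := Module.Finite.exists_smul_of_comp_eq_of_isLocalizedModule S mkM _ _ hcomp
  refine ⟨ι, hι, f, a, (t : R) • b, ((t * (s' * s) : S) : R), (t * (s' * s)).2, ?_⟩
  rw [LinearMap.smul_comp]
  have : (t : R) • (b ∘ₗ a) = t • (b ∘ₗ a) := rfl
  rw [this, ht]
  ext z
  simp [Submonoid.smul_def, mul_smul]

end Groth.Agent.Lib.Helper24Chain3
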