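import Mathlib
import Groth.Agent.Lib.Helper24Chain3

set_option autoImplicit false
universe u

namespace Groth.Agent.Lib.Helper24Chain4
open Groth.Agent.Lib.Helper24Chain1 Groth.Agent.Lib.Helper24Chain2 Groth.Agent.Lib.Helper24Chain3

variable {R : Type u} [CommRing R]

/-- `M` is a "retract up to `r`" of a finite product of cyclic modules -/
def Ret (M : Type u) [AddCommGroup M] [Module R M] (r : R) : Prop :=
  ∃ (ι : Type) (_ : Fintype ι) (f : ι → R)
    (a : M →ₗ[R] ((i : ι) → R ⧸ Ideal.span {f i}))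
    (b : ((i : ι) → R ⧸ Ideal.span {f i}) →ₗ[R] M), b ∘ₗ a = r • LinearMap.id

variable (M : Type u) [AddCommGroup M] [Module R M]

theorem ret_zero : Ret M (0 : R) :=
  ⟨PEmpty, inferInstance, PEmpty.elim, 0, 0, by simp⟩

theorem ret_smul {r : R} (c : R) (h : Ret M r) : Ret M (c * r) := by
  obtain ⟨ι, hι, f, a, b, hab⟩ := h
  refine ⟨ι, hι, f, a, c • b, ?_⟩
  rw [LinearMap.smul_comp, hab, smul_smul]

theorem ret_add {r r' : R} (h : Ret M r) (h' : Ret M r') : Ret M (r + r') := by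
  obtain ⟨ι, hι, f, a, b, hab⟩ := h
  obtain ⟨ι', hι', f', a', b', hab'⟩ := h'
  let e : ((t : ι ⊕ ι') → R ⧸ Ideal.span {Sum.elim f f' t}) ≃ₗ[R]
      ((i : ι) → R ⧸ Ideal.span {f i}) × ((i : ι') → R ⧸ Ideal.span {f' i}) :=
    LinearEquiv.sumPiEquivProdPi R ι ι' (fun t => R ⧸ Ideal.span {Sum.elim f f' t})
  refine ⟨ι ⊕ ι', inferInstance, Sum.elim f f', e.symm.toLinearMap ∘ₗ (a.prod a'),
    (b.coprod b') ∘ₗ e.toLinearMap, ?_⟩
  ext z
  have h1 := LinearMap.congr_fun hab z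
  have h2 := LinearMap.congr_fun hab' z
  simp only [LinearMap.comp_apply, LinearMap.smul_apply, LinearMap.id_apply] at h1 h2
  show (b.coprod b') (e (e.symm ((a.prod a') z))) = (r + r') • z
  rw [LinearEquiv.apply_symm_apply]
  show b (a z) + b' (a' z) = (r + r') • z
  rw [h1, h2, add_smul]

theorem ret_one [Module.FinitePresentation R M]
    (h : ∀ (m : Ideal R) [m.IsMaximal], ∀ a b : Localization.AtPrime m, a ∣ b ∨ b ∣ a) :
    Ret M (1 : R) := by
  classical
  -- for each maximal ideal an element outside it with a retraction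
  have key : ∀ m : MaximalSpectrum R, ∃ g : R, g ∉ m.asIdeal ∧ Ret M g := by
    intro m
    haveI := m.isMaximal
    obtain ⟨ι, hι, f, a, b, g, hg, hab⟩ := local_retract m.asIdeal (h m.asIdeal) M
    exact ⟨g, hg, ι, hι, f, a, b, hab⟩
  choose g hg hret using key
  have htop : Ideal.span (Set.range g) = ⊤ := by
    by_contra hne
    obtain ⟨m, hm, hle⟩ := Ideal.exists_le_maximal _ hne
    exact hg ⟨m, hm⟩ (hle (Ideal.subset_span ⟨⟨m, hm⟩, rfl⟩))
  have h1 : (1 : R) ∈ Ideal.span (Set.range g) := by rw [htop]; trivial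
  obtain ⟨c, hc⟩ := (Finsupp.mem_span_range_iff_exists_finsupp).1 h1
  rw [← hc, Finsupp.sum]
  refine Finset.sum_induction _ (Ret M) (fun x y hx hy => ret_add M hx hy) (ret_zero M) ?_
  intro m _
  exact ret_smul M (c m) (hret m)

theorem summand_of_ret_one (h : Ret M (1 : R)) :
    ∃ (n : ℕ) (f : Fin n → R) (N : Type u) (_ : AddCommGroup N) (_ : Module R N),
      Nonempty ((M × N) ≃ₗ[R] ((i : Fin n) → R ⧸ Ideal.span {f i})) := by
  obtain ⟨ι, hι, f, a, b, hab⟩ := h
  rw [one_smul] at hab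
  let e := Fintype.equivFin ι
  let E₁ := retractEquiv a b hab
  let E₂ := LinearEquiv.piCongrLeft' R (fun i => R ⧸ Ideal.span {f i}) e
  exact ⟨Fintype.card ι, f ∘ e.symm, LinearMap.ker b, inferInstance, inferInstance,
    ⟨E₁.symm ≪≫ₗ E₂⟩⟩

theorem s2016 [Module.FinitePresentation R M]
    (h : ∀ (m : Ideal R) [m.IsMaximal], ∀ a b : Localization.AtPrime m, a ∣ b ∨ b ∣ a) :
    ∃ (n : ℕ) (f : Fin n → R) (N : Type u) (_ : AddCommGroup N) (_ : Module R N),
      Nonempty ((M × N) ≃ₗ[R] ((i : Fin n) → R ⧸ Ideal.span {f i})) :=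
  summand_of_ret_one M (ret_one M h)

end Groth.Agent.Lib.Helper24Chain4
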