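import Mathlib
import Groth.Agent.Lib.Helper24Chain1

set_option autoImplicit false
universe u

namespace Groth.Agent.Lib.Helper24Chain5
open Groth.Agent.Lib.Helper24Chain1

variable {R : Type u} [CommRing R] [IsDomain R] [IsBezout R]

/-- localisations of a Bézout domain at maximal ideals have total divisibility -/
theorem bezout_local_dvd (m : Ideal R) [m.IsMaximal] (x y : Localization.AtPrime m) :
    x ∣ y ∨ y ∣ x := by
  obtain ⟨a, s, rfl⟩ := IsLocalization.exists_mk'_eq m.primeCompl x
  obtain ⟨b, t, rfl⟩ := IsLocalization.exists_mk'_eq m.primeCompl y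
  set Λ := Localization.AtPrime m
  have hs : IsUnit (algebraMap R Λ s) := IsLocalization.map_units Λ s
  have ht : IsUnit (algebraMap R Λ t) := IsLocalization.map_units Λ t
  have ha : IsLocalization.mk' Λ a s * algebraMap R Λ s = algebraMap R Λ a :=
    IsLocalization.mk'_spec Λ a s
  have hb : IsLocalization.mk' Λ b t * algebraMap R Λ t = algebraMap R Λ b :=
    IsLocalization.mk'_spec Λ b t
  -- reduce to numerators
  suffices h : algebraMap R Λ a ∣ algebraMap R Λ b ∨ algebraMap R Λ b ∣ algebraMap R Λ a by
    have e1 : IsLocalization.mk' Λ a s ∣ algebraMap R Λ a := ⟨_, ha.symm⟩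
    have e2 : algebraMap R Λ a ∣ IsLocalization.mk' Λ a s := by
      rw [← ha]; exact (hs.mul_right_dvd).2 dvd_rfl
    have e3 : IsLocalization.mk' Λ b t ∣ algebraMap R Λ b := ⟨_, hb.symm⟩
    have e4 : algebraMap R Λ b ∣ IsLocalization.mk' Λ b t := by
      rw [← hb]; exact (ht.mul_right_dvd).2 dvd_rfl
    rcases h with h | h
    · left; exact e1.trans (h.trans e4)
    · right; exact e3.trans (h.trans e2)
  obtain ⟨a', ha'⟩ := IsBezout.gcd_dvd_left (x := a) (y := b)
  obtain ⟨b', hb'⟩ := IsBezout.gcd_dvd_right (x := a) (y := b)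
  obtain ⟨p, q, hpq⟩ := IsBezout.gcd_eq_sum a b
  set d := IsBezout.gcd a b with hd
  by_cases hd0 : d = 0
  · left
    rw [ha', hb', hd0, zero_mul, zero_mul]
  have h1 : p * a' + q * b' = 1 := by
    apply mul_left_cancel₀ hd0
    rw [mul_one]
    calc d * (p * a' + q * b') = p * (d * a') + q * (d * b') := by ring
      _ = p * a + q * b := by rw [← ha', ← hb']
      _ = d := hpq
  have hnot : ¬ (a' ∈ m ∧ b' ∈ m) := by
    rintro ⟨h2, h3⟩
    have : (1 : R) ∈ m := by
      rw [← h1]; exact m.add_mem (m.mul_mem_left _ h2) (m.mul_mem_left _ h3)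
    exact (Ideal.ne_top_iff_one m).1 (Ideal.IsMaximal.ne_top inferInstance) this
  by_cases h2 : a' ∈ m
  · have h3 : b' ∉ m := fun h => hnot ⟨h2, h⟩
    have hu : IsUnit (algebraMap R Λ b') := IsLocalization.map_units Λ (⟨b', h3⟩ : m.primeCompl)
    right
    rw [ha', hb', map_mul, map_mul]
    exact mul_dvd_mul_left _ (hu.dvd)
  · have hu : IsUnit (algebraMap R Λ a') := IsLocalization.map_units Λ (⟨a', h2⟩ : m.primeCompl)
    left
    rw [ha', hb', map_mul, map_mul]
    exact mul_dvd_mul_left _ (hu.dvd)

/-- the "init" map dropping the last coordinate -/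
noncomputable def initMap (R : Type u) [CommRing R] (k : ℕ) : (Fin (k + 1) → R) →ₗ[R] (Fin k → R) :=
  LinearMap.funLeft R R Fin.castSucc

theorem initMap_apply (k : ℕ) (v : Fin (k + 1) → R) (i : Fin k) :
    initMap R k v i = v i.castSucc := rfl

theorem eq_zero_of_init_of_last {k : ℕ} (v : Fin (k + 1) → R) (h1 : initMap R k v = 0)
    (h2 : v (Fin.last k) = 0) : v = 0 := by
  funext i
  refine Fin.lastCases ?_ (fun j => ?_) i
  · exact h2
  · exact congrFun h1 j

/-- finitely generated submodules of `R^k` are free over a Bézout domain -/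
theorem free_of_fg : ∀ (k : ℕ) (N : Submodule R (Fin k → R)), N.FG → Module.Free R N := by
  intro k
  induction k with
  | zero =>
    intro N _
    haveI : Subsingleton N := ⟨fun x y => Subtype.ext (Subsingleton.elim _ _)⟩
    infer_instance
  | succ k ih =>
    intro N hN
    classical
    let π : (Fin (k + 1) → R) →ₗ[R] R := LinearMap.proj (Fin.last k)
    have hI : (N.map π).FG := hN.map π
    obtain ⟨d, hd⟩ := (IsBezout.isPrincipal_of_FG (N.map π) hI).principal
    -- a general tool: a submodule of N on which π vanishes is free when finitely generated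
    have tool : ∀ (L : Submodule R N), L.FG → (∀ n ∈ L, π n.1 = 0) → Module.Free R L := by
      intro L hL hLπ
      let φ : L →ₗ[R] (Fin k → R) := (initMap R k) ∘ₗ N.subtype ∘ₗ L.subtype
      have hφ : Function.Injective φ := by
        rw [injective_iff_map_eq_zero]
        intro n hn
        have : (n.1.1 : Fin (k + 1) → R) = 0 := eq_zero_of_init_of_last _ hn (hLπ n.1 n.2)
        exact Subtype.ext (Subtype.ext this)
      have hfg : (LinearMap.range φ).FG := by
        rw [LinearMap.range_eq_map]
        exact ((Submodule.fg_top L).2 hL).map φ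
      haveI := ih (LinearMap.range φ) hfg
      exact Module.Free.of_equiv (LinearEquiv.ofInjective φ hφ).symm
    by_cases hd0 : d = 0
    · have hNπ : ∀ n ∈ (⊤ : Submodule R N), π n.1 = 0 := by
        intro n _
        have : π n.1 ∈ N.map π := Submodule.mem_map_of_mem n.2
        rw [hd, hd0] at this
        simpa using this
      haveI : Module.Finite R N := Module.Finite.iff_fg.2 hN
      haveI := tool ⊤ Module.Finite.fg_top hNπ
      exact Module.Free.of_equiv (Submodule.topEquiv (R := R) (M := N))
    · have hdI : d ∈ N.map π := by rw [hd]; exact Submodule.mem_span_singleton_self d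
      obtain ⟨n₀, hn₀, hπn₀⟩ := hdI
      let ν : N := ⟨n₀, hn₀⟩
      have hmem : ∀ n : N, π n.1 ∈ Submodule.span R {d} := by
        intro n
        have : π n.1 ∈ N.map π := Submodule.mem_map_of_mem n.2
        rwa [hd] at this
      let ρ₀ : N →ₗ[R] Submodule.span R {d} :=
        LinearMap.codRestrict _ (π ∘ₗ N.subtype) hmem
      let ρ : N →ₗ[R] R := (LinearEquiv.toSpanNonzeroSingleton R R d hd0).symm.toLinearMap ∘ₗ ρ₀
      let σ : R →ₗ[R] N := LinearMap.toSpanSingleton R N ν
      have hρσ : ρ ∘ₗ σ = LinearMap.id := by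
        ext
        show (LinearEquiv.toSpanNonzeroSingleton R R d hd0).symm (ρ₀ ((1 : R) • ν)) = 1
        rw [LinearEquiv.symm_apply_eq, one_smul]
        apply Subtype.ext
        show π n₀ = (1 : R) • d
        rw [one_smul]
        exact hπn₀
      have hker : ∀ n ∈ LinearMap.ker ρ, π n.1 = 0 := by
        intro n hn
        rw [LinearMap.mem_ker] at hn
        have h1 : ρ₀ n = 0 := by
          have := (LinearEquiv.toSpanNonzeroSingleton R R d hd0).symm.injective
            (a₁ := ρ₀ n) (a₂ := 0) (by rw [map_zero]; exact hn)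
          exact this
        exact congrArg Subtype.val h1
      haveI hNfin : Module.Finite R N := Module.Finite.iff_fg.2 hN
      have hkfg : (LinearMap.ker ρ).FG := by
        -- ker ρ is the image of id - σ ρ
        have hQ : LinearMap.range (LinearMap.id - σ ∘ₗ ρ) = LinearMap.ker ρ := by
          apply le_antisymm
          · rintro _ ⟨n, rfl⟩
            have := LinearMap.congr_fun hρσ (ρ n)
            simp only [LinearMap.comp_apply, LinearMap.id_apply] at this
            rw [LinearMap.mem_ker]
            simp [this]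
          · intro n hn
            refine ⟨n, ?_⟩
            rw [LinearMap.mem_ker] at hn
            simp [hn]
        rw [← hQ, LinearMap.range_eq_map]
        exact Module.Finite.fg_top.map _
      haveI := tool (LinearMap.ker ρ) hkfg hker
      exact Module.Free.of_equiv (retractEquiv σ ρ hρσ).symm

end Groth.Agent.Lib.Helper24Chain5
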