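import Mathlib
import Groth.Agent.Lib.Helper24Chain4
import Groth.Agent.Lib.Helper24Chain5

set_option autoImplicit false
universe u

namespace Groth.Agent.Lib.Helper24Chain6
open Groth.Agent.Lib.Helper24Chain1 Groth.Agent.Lib.Helper24Chain4 Groth.Agent.Lib.Helper24Chain5

variable {R : Type u} [CommRing R] [IsDomain R]

theorem cyclic_zero_torsionfree (f : R) (hf : f = 0) (c : R) (hc : c ≠ 0)
    (v : R ⧸ Ideal.span {f}) (h : c • v = 0) : v = 0 := by
  obtain ⟨r, rfl⟩ := Submodule.Quotient.mk_surjective _ v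
  rw [← Submodule.Quotient.mk_smul, Submodule.Quotient.mk_eq_zero, hf] at h
  have h1 : c * r = 0 := by simpa using h
  have h2 : r = 0 := (mul_eq_zero.1 h1).resolve_left hc
  rw [h2]; rfl

theorem cyclic_killed (f : R) (v : R ⧸ Ideal.span {f}) : f • v = 0 := by
  obtain ⟨r, rfl⟩ := Submodule.Quotient.mk_surjective _ v
  rw [← Submodule.Quotient.mk_smul, Submodule.Quotient.mk_eq_zero]
  exact Ideal.mem_span_singleton.2 ⟨r, by simp⟩

variable (M : Type u) [AddCommGroup M] [Module R M]

/-- the key structural consequence of a retraction onto a product of cyclic modules -/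
theorem torsion_of_ret {ι : Type} [Fintype ι] (f : ι → R)
    (a : M →ₗ[R] ((i : ι) → R ⧸ Ideal.span {f i}))
    (b : ((i : ι) → R ⧸ Ideal.span {f i}) →ₗ[R] M) (hab : b ∘ₗ a = LinearMap.id) (x : M) :
    x ∈ Submodule.torsion R M ↔ ∀ i, f i = 0 → a x i = 0 := by
  classical
  constructor
  · intro hx i hi
    obtain ⟨c, hc⟩ := (Submodule.mem_torsion_iff x).1 hx
    have hc0 : (c : R) ≠ 0 := nonZeroDivisors.ne_zero c.2
    apply cyclic_zero_torsionfree (f i) hi c hc0
    have : (c : R) • a x = 0 := by
      rw [← map_smul]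
      have : (c : R) • x = 0 := hc
      rw [this, map_zero]
    exact congrFun this i
  · intro hx
    set D : R := ∏ i ∈ Finset.univ.filter (fun i => f i ≠ 0), f i with hD
    have hD0 : D ≠ 0 := by
      rw [hD, Finset.prod_ne_zero_iff]
      intro i hi
      exact (Finset.mem_filter.1 hi).2
    have hDa : D • a x = 0 := by
      funext i
      show D • a x i = 0
      by_cases hi : f i = 0
      · rw [hx i hi, smul_zero]
      · have hdvd : f i ∣ D := Finset.dvd_prod_of_mem _ (Finset.mem_filter.2 ⟨Finset.mem_univ _, hi⟩)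
        obtain ⟨q, hq⟩ := hdvd
        rw [hq, mul_comm (f i) q, mul_smul, cyclic_killed (f i) (a x i), smul_zero]
    have hDx : D • x = 0 := by
      have h1 := LinearMap.congr_fun hab (D • x)
      simp only [LinearMap.comp_apply, LinearMap.id_apply] at h1
      rw [← h1, map_smul, hDa, map_zero]
    exact (Submodule.mem_torsion_iff x).2 ⟨⟨D, mem_nonZeroDivisors_of_ne_zero hD0⟩, hDx⟩

end Groth.Agent.Lib.Helper24Chain6
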