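import Mathlib
import Groth.Agent.Lib.Helper24Chain6

set_option autoImplicit false
universe u

namespace Groth.Agent.Lib.Helper24Chain7
open Groth.Agent.Lib.Helper24Chain1 Groth.Agent.Lib.Helper24Chain4 Groth.Agent.Lib.Helper24Chain5
  Groth.Agent.Lib.Helper24Chain6

variable {R : Type u} [CommRing R] [IsDomain R] [IsBezout R]

theorem part1 (M : Type u) [AddCommGroup M] [Module R M] [Module.FinitePresentation R M] :
    (∃ r : ℕ, Nonempty (M ≃ₗ[R] ((Fin r → R) × Submodule.torsion R M))) ∧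
      Module.FinitePresentation R (Submodule.torsion R M) := by
  classical
  obtain ⟨ι, hι, f, a, b, hab⟩ := ret_one (R := R) M (fun m _ => bezout_local_dvd (R := R) m)
  rw [one_smul] at hab
  let ι₀ := {i : ι // f i = 0}
  have hbot : ∀ j : ι₀, (Ideal.span {f j.1} : Submodule R R) = ⊥ := by
    intro j
    rw [j.2]
    exact Ideal.span_singleton_eq_bot.2 rfl
  let e : (j : ι₀) → (R ⧸ Ideal.span {f j.1}) ≃ₗ[R] R :=
    fun j => Submodule.quotEquivOfEqBot _ (hbot j)
  let θ : M →ₗ[R] (ι₀ → R) :=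
    LinearMap.pi fun j => (e j).toLinearMap ∘ₗ LinearMap.proj j.1 ∘ₗ a
  let k := Fintype.card ι₀
  let ε : ι₀ ≃ Fin k := Fintype.equivFin ι₀
  let Φ : (ι₀ → R) ≃ₗ[R] (Fin k → R) := LinearEquiv.funCongrLeft R R ε.symm
  let θ' : M →ₗ[R] (Fin k → R) := Φ.toLinearMap ∘ₗ θ
  have hker : LinearMap.ker θ' = Submodule.torsion R M := by
    ext x
    rw [LinearMap.mem_ker, torsion_of_ret M f a b hab x]
    show Φ (θ x) = 0 ↔ _
    rw [LinearEquiv.map_eq_zero_iff]
    constructor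
    · intro h i hi
      have := congrFun h ⟨i, hi⟩
      have h2 : e ⟨i, hi⟩ (a x i) = 0 := this
      exact (LinearEquiv.map_eq_zero_iff _).1 h2
    · intro h
      funext j
      show e j (a x j.1) = 0
      rw [h j.1 j.2, map_zero]
  let N := LinearMap.range θ'
  have hNfg : N.FG := by
    show (LinearMap.range θ').FG
    rw [LinearMap.range_eq_map]
    exact Module.Finite.fg_top.map _
  haveI hfree : Module.Free R N := free_of_fg k N hNfg
  haveI : Module.Finite R N := Module.Finite.iff_fg.2 hNfg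
  let θ'' : M →ₗ[R] N := θ'.rangeRestrict
  have hsurj : Function.Surjective θ'' := LinearMap.surjective_rangeRestrict θ'
  obtain ⟨s, hs⟩ := Module.projective_lifting_property θ'' LinearMap.id hsurj
  have hker'' : LinearMap.ker θ'' = Submodule.torsion R M := by
    rw [LinearMap.ker_rangeRestrict, hker]
  let E₁ := retractEquiv s θ'' hs
  let E₂ : N ≃ₗ[R] (Fin (Module.finrank R N) → R) := (Module.finBasis R N).equivFun
  let E₃ : LinearMap.ker θ'' ≃ₗ[R] Submodule.torsion R M := LinearEquiv.ofEq _ _ hker''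
  have hfp : Module.FinitePresentation R (LinearMap.ker θ'') :=
    Module.finitePresentation_of_split_exact (LinearMap.ker θ'').subtype θ'' s hs
      (Submodule.injective_subtype _) (LinearMap.exact_subtype_ker_map θ'')
  exact ⟨⟨Module.finrank R N, ⟨E₁ ≪≫ₗ LinearEquiv.prodCongr E₂ E₃⟩⟩,
    Module.FinitePresentation.of_equiv E₃⟩

theorem part2 (T : Type u) [AddCommGroup T] [Module R T] [Module.FinitePresentation R T]
    (htors : ∀ x : T, ∃ c : R, c ≠ 0 ∧ c • x = 0) :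
    ∃ (n : ℕ) (f : Fin n → R), (∀ j, f j ≠ 0) ∧
      ∃ (i : T →ₗ[R] ((j : Fin n) → R ⧸ Ideal.span {f j}))
        (p : ((j : Fin n) → R ⧸ Ideal.span {f j}) →ₗ[R] T), p ∘ₗ i = LinearMap.id := by
  classical
  obtain ⟨ι, hι, f, a, b, hab⟩ := ret_one (R := R) T (fun m _ => bezout_local_dvd (R := R) m)
  rw [one_smul] at hab
  have ha0 : ∀ x i, f i = 0 → a x i = 0 := by
    intro x i hi
    obtain ⟨c, hc0, hc⟩ := htors x
    apply cyclic_zero_torsionfree (f i) hi c hc0
    have : c • a x = 0 := by rw [← map_smul, hc, map_zero]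
    exact congrFun this i
  let ι₁ := {i : ι // f i ≠ 0}
  let i₁ : T →ₗ[R] ((j : ι₁) → R ⧸ Ideal.span {f j.1}) :=
    LinearMap.pi fun j => LinearMap.proj j.1 ∘ₗ a
  let comp : (i : ι) → ((j : ι₁) → R ⧸ Ideal.span {f j.1}) →ₗ[R] (R ⧸ Ideal.span {f i}) :=
    fun i => if h : f i ≠ 0 then LinearMap.proj (⟨i, h⟩ : ι₁) else 0
  let ext₁ : ((j : ι₁) → R ⧸ Ideal.span {f j.1}) →ₗ[R] ((i : ι) → R ⧸ Ideal.span {f i}) :=
    LinearMap.pi comp
  have hext : ∀ x, ext₁ (i₁ x) = a x := by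
    intro x
    funext i
    show comp i (i₁ x) = a x i
    by_cases h : f i ≠ 0
    · have hc : comp i = LinearMap.proj (⟨i, h⟩ : ι₁) := dif_pos h
      rw [hc]; rfl
    · have hc : comp i = 0 := dif_neg h
      rw [hc, ha0 x i (not_not.1 h)]; rfl
  let n := Fintype.card ι₁
  let ε₁ : ι₁ ≃ Fin n := Fintype.equivFin ι₁
  let E := LinearEquiv.piCongrLeft' R (fun j : ι₁ => R ⧸ Ideal.span {f j.1}) ε₁
  refine ⟨n, fun t => f (ε₁.symm t).1, fun t => (ε₁.symm t).2, E.toLinearMap ∘ₗ i₁,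
    b ∘ₗ ext₁ ∘ₗ E.symm.toLinearMap, ?_⟩
  ext x
  have h1 := LinearMap.congr_fun hab x
  simp only [LinearMap.comp_apply, LinearMap.id_apply] at h1
  show b (ext₁ (E.symm (E (i₁ x)))) = x
  rw [LinearEquiv.symm_apply_apply, hext, h1]

theorem s7121 (M : Type u) [AddCommGroup M] [Module R M] [Module.FinitePresentation R M] :
    (∃ r : ℕ, Nonempty (M ≃ₗ[R] ((Fin r → R) × Submodule.torsion R M))) ∧
      ∃ (n : ℕ) (f : Fin n → R), (∀ j, f j ≠ 0) ∧
        ∃ (i : Submodule.torsion R M →ₗ[R] ((j : Fin n) → R ⧸ Ideal.span {f j}))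
          (p : ((j : Fin n) → R ⧸ Ideal.span {f j}) →ₗ[R] Submodule.torsion R M),
          p ∘ₗ i = LinearMap.id := by
  obtain ⟨h1, hfp⟩ := part1 (R := R) M
  refine ⟨h1, ?_⟩
  haveI := hfp
  apply part2
  intro x
  obtain ⟨c, hc⟩ := (Submodule.mem_torsion_iff x.1).1 x.2
  exact ⟨c, nonZeroDivisors.ne_zero c.2, Subtype.ext hc⟩

end Groth.Agent.Lib.Helper24Chain7
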