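import Mathlib
import Groth.Prelude.Def_W4c1nerontoraddGraph
import Groth.Agent.Lib.Helper24Circuit1

set_option autoImplicit false
universe u v

namespace Groth.Agent.Lib.Helper24Circuit

open LabGraph

variable {V E : Type u} [Fintype V] [Fintype E] [DecidableEq V] [DecidableEq E]

theorem const_of_adj (ends : E → V × V) (h : V → ℤ) (hh : ∀ e, h (ends e).2 = h (ends e).1)
    {a b : V} (hab : Relation.ReflTransGen (Adj ends) a b) : h a = h b := by
  induction hab with
  | refl => rfl
  | tail _ hbc ih =>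
    obtain ⟨e, he | he⟩ := hbc
    · have := hh e
      rw [he] at this
      rw [ih]; exact this.symm
    · have := hh e
      rw [he] at this
      rw [ih]; exact this

theorem s17724_core {L : Type v} (ends : E → V × V) (lab : E → L) (n : E → ℕ)
    (hconn : LabGraph.Connected ends)
    (hcirc : ∀ C : Finset E, LabGraph.IsCircuit ends C → ∀ e ∈ C, ∀ e' ∈ C, lab e = lab e')
    (f : V → ℤ) (hf : LabGraph.IsCartier ends n f) (v₀ : V) :
    (fun v => f v - f v₀) ∈ AddSubmonoid.closure {g : V → ℤ | LabGraph.IsCartier ends n g ∧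
      (∃ B : Finset E, (∀ e ∈ B, ∀ e' ∈ B, lab e = lab e') ∧
        ∀ e, e ∉ B → g (ends e).1 = g (ends e).2) ∧ g v₀ = 0} := by
  classical
  set ω : L → E → ℤ := fun l e => if lab e = l then f (ends e).2 - f (ends e).1 else 0 with hω
  have horth : ∀ l : L, ∀ γ : E → ℤ, (∀ v, boundary ends γ v = 0) → ∑ e, γ e * ω l e = 0 := by
    intro l γ hγ
    refine cycle_induction ends (fun γ => ∑ e, γ e * ω l e = 0) (by simp) ?_ ?_ ?_ γ hγ
    · intro a b ha hb
      simp only [Pi.add_apply, add_mul, Finset.sum_add_distrib, ha, hb, add_zero]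
    · intro c a ha
      simp only [Pi.smul_apply, smul_eq_mul, mul_assoc, ← Finset.mul_sum, ha, mul_zero]
    · intro C χ hC hχ0 hχb
      obtain ⟨e₁, he₁⟩ := hC.1
      by_cases hl : lab e₁ = l
      · have h1 : ∑ e, χ e * ω l e = ∑ e, χ e * (f (ends e).2 - f (ends e).1) := by
          refine Finset.sum_congr rfl (fun e _ => ?_)
          by_cases he : e ∈ C
          · have : lab e = l := (hcirc C hC e he e₁ he₁).trans hl
            simp [hω, this]
          · rw [hχ0 e he, zero_mul, zero_mul]
        rw [h1, ← sum_mul_boundary]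
        simp [hχb]
      · refine Finset.sum_eq_zero (fun e _ => ?_)
        by_cases he : e ∈ C
        · have : lab e ≠ l := fun h => hl ((hcirc C hC e₁ he₁ e he).trans h)
          simp [hω, this]
        · rw [hχ0 e he, zero_mul]
  have hex : ∀ l : L, ∃ g : V → ℤ, ∀ e, g (ends e).2 - g (ends e).1 = ω l e := by
    intro l
    obtain ⟨g, hg⟩ := exists_potential ends Finset.univ (ω l)
      (fun γ _ hγ => horth l γ hγ)
    exact ⟨g, fun e => hg e (Finset.mem_univ e)⟩
  choose G hG using hex
  set labels : Finset L := Finset.univ.image lab with hlabels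
  have hsumω : ∀ e, ∑ l ∈ labels, ω l e = f (ends e).2 - f (ends e).1 := by
    intro e
    simp only [hω]
    rw [Finset.sum_ite_eq]
    simp [hlabels]
  have key : (fun v => f v - f v₀) = ∑ l ∈ labels, (fun v => G l v - G l v₀) := by
    funext v
    rw [Finset.sum_apply]
    set h : V → ℤ := fun v => f v - f v₀ - ∑ l ∈ labels, (G l v - G l v₀) with hh
    have hconst : ∀ e, h (ends e).2 = h (ends e).1 := by
      intro e
      have h1 : ∑ l ∈ labels, (G l (ends e).2 - G l v₀)
          = ∑ l ∈ labels, (G l (ends e).1 - G l v₀) + (f (ends e).2 - f (ends e).1) := by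
        rw [← hsumω e, ← Finset.sum_add_distrib]
        refine Finset.sum_congr rfl (fun l _ => ?_)
        rw [← hG l e]; ring
      simp only [hh, h1]
      ring
    have h0 : h v₀ = 0 := by simp [hh]
    have := const_of_adj ends h hconst (hconn.2 v₀ v)
    rw [h0] at this
    have h2 : h v = 0 := this.symm
    simp only [hh] at h2
    linarith
  rw [key]
  refine AddSubmonoid.sum_mem _ (fun l _ => AddSubmonoid.subset_closure ?_)
  refine ⟨?_, ⟨Finset.univ.filter (fun e => lab e = l), ?_, ?_⟩, by simp⟩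
  · intro e
    have h1 : (G l (ends e).1 - G l v₀) - (G l (ends e).2 - G l v₀) = -(ω l e) := by
      rw [← hG l e]; ring
    show (n e : ℤ) ∣ (G l (ends e).1 - G l v₀) - (G l (ends e).2 - G l v₀)
    rw [h1]
    by_cases hl : lab e = l
    · simp only [hω, hl, if_true]
      have := hf e
      rw [show -(f (ends e).2 - f (ends e).1) = f (ends e).1 - f (ends e).2 by ring]
      exact this
    · simp [hω, hl]
  · intro e he e' he'
    simp only [Finset.mem_filter, Finset.mem_univ, true_and] at he he'
    rw [he, he']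
  · intro e he
    simp only [Finset.mem_filter, Finset.mem_univ, true_and] at he
    have h1 := hG l e
    simp only [hω, he, if_false] at h1
    show G l (ends e).1 - G l v₀ = G l (ends e).2 - G l v₀
    linarith

theorem s17724 {L : Type v} (ends : E → V × V) (lab : E → L) (n : E → ℕ)
    (hconn : LabGraph.Connected ends)
    (hcirc : ∀ C : Finset E, LabGraph.IsCircuit ends C → ∀ e ∈ C, ∀ e' ∈ C, lab e = lab e')
    (f : V → ℤ) (hf : LabGraph.IsCartier ends n f) :
    f ∈ AddSubmonoid.closure {g : V → ℤ | LabGraph.IsCartier ends n g ∧ (∃ B : Finset E, (∀ e ∈ B, ∀ e' ∈ B, lab e = lab e') ∧ ∀ e, e ∉ B → g (ends e).1 = g (ends e).2)} ∧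
    ∀ v₀ : V, f v₀ = 0 →
      f ∈ AddSubmonoid.closure {g : V → ℤ | LabGraph.IsCartier ends n g ∧ (∃ B : Finset E, (∀ e ∈ B, ∀ e' ∈ B, lab e = lab e') ∧ ∀ e, e ∉ B → g (ends e).1 = g (ends e).2) ∧ g v₀ = 0} := by
  constructor
  · obtain ⟨v₀⟩ := hconn.1
    have h1 := s17724_core ends lab n hconn hcirc f hf v₀
    have h2 : (fun v => f v - f v₀) ∈ AddSubmonoid.closure {g : V → ℤ |
        LabGraph.IsCartier ends n g ∧ (∃ B : Finset E, (∀ e ∈ B, ∀ e' ∈ B, lab e = lab e') ∧
          ∀ e, e ∉ B → g (ends e).1 = g (ends e).2)} := by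
      refine AddSubmonoid.closure_mono ?_ h1
      rintro g ⟨hg1, hg2, -⟩
      exact ⟨hg1, hg2⟩
    have h3 : (fun _ : V => f v₀) ∈ AddSubmonoid.closure {g : V → ℤ |
        LabGraph.IsCartier ends n g ∧ (∃ B : Finset E, (∀ e ∈ B, ∀ e' ∈ B, lab e = lab e') ∧
          ∀ e, e ∉ B → g (ends e).1 = g (ends e).2)} := by
      refine AddSubmonoid.subset_closure ⟨?_, ∅, ?_, ?_⟩
      · intro e; simp
      · intro e he; exact absurd he (Finset.notMem_empty e)
      · intro e _; rfl
    have h4 : f = (fun v => f v - f v₀) + (fun _ : V => f v₀) := by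
      funext v; simp
    rw [h4]
    exact AddSubmonoid.add_mem _ h2 h3
  · intro v₀ hv₀
    have h1 := s17724_core ends lab n hconn hcirc f hf v₀
    have h4 : f = (fun v => f v - f v₀) := by
      funext v; simp [hv₀]
    rw [h4]
    exact h1

end Groth.Agent.Lib.Helper24Circuit
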