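import Mathlib
import Groth.Prelude.Def_W4c1nerontoraddGraph
import Groth.Agent.Lib.Helper24Circuit1

set_option autoImplicit false
universe u

namespace Groth.Agent.Lib.Helper24Circuit

open LabGraph

variable {V E : Type u} [Fintype V] [Fintype E] [DecidableEq V] [DecidableEq E]

/-- an ideal of `ℤ` containing all `ordCompl[p] L` is the unit ideal. -/
theorem one_mem_of_ordCompl (J : Ideal ℤ) (L : ℕ) (hL : L ≠ 0)
    (hq : ∀ q : ℕ, q.Prime → ((L / q ^ L.factorization q : ℕ) : ℤ) ∈ J) : (1 : ℤ) ∈ J := by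
  rw [Submodule.IsPrincipal.mem_iff_generator_dvd J]
  set g := Submodule.IsPrincipal.generator J with hg
  by_cases h1 : g.natAbs = 1
  · exact (Int.isUnit_iff_natAbs_eq.mpr h1).dvd
  · exfalso
    obtain ⟨q, hqp, hqd⟩ := Nat.exists_prime_and_dvd h1
    have h2 : g ∣ ((L / q ^ L.factorization q : ℕ) : ℤ) :=
      (Submodule.IsPrincipal.mem_iff_generator_dvd J).mp (hq q hqp)
    have h3 : (q : ℤ) ∣ g := Int.natCast_dvd.mpr hqd
    have h4 : q ∣ L / q ^ L.factorization q := Int.natCast_dvd_natCast.mp (dvd_trans h3 h2)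
    exact Nat.not_dvd_ordCompl hqp hL h4

/-- the edge vectors `x` for which the congruences `g(e₂) - g(e₁) ≡ x(e) mod l(e)` are solvable. -/
def solvable (ends : E → V × V) (l : E → ℕ) : Submodule ℤ (E → ℤ) where
  carrier := {x | ∃ g : V → ℤ, ∀ e, (l e : ℤ) ∣ x e - (g (ends e).2 - g (ends e).1)}
  zero_mem' := ⟨0, fun e => by simp⟩
  add_mem' := by
    rintro x x' ⟨g, hg⟩ ⟨g', hg'⟩
    refine ⟨g + g', fun e => ?_⟩
    have := dvd_add (hg e) (hg' e)
    simp only [Pi.add_apply]
    have e1 : x e + x' e - (g (ends e).2 + g' (ends e).2 - (g (ends e).1 + g' (ends e).1))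
        = x e - (g (ends e).2 - g (ends e).1) + (x' e - (g' (ends e).2 - g' (ends e).1)) := by ring
    rw [e1]
    exact this
  smul_mem' := by
    rintro c x ⟨g, hg⟩
    refine ⟨c • g, fun e => ?_⟩
    have := Dvd.dvd.mul_left (hg e) c
    simp only [Pi.smul_apply, smul_eq_mul]
    have e1 : c * x e - (c * g (ends e).2 - c * g (ends e).1)
        = c * (x e - (g (ends e).2 - g (ends e).1)) := by ring
    rw [e1]
    exact this

theorem mem_solvable (ends : E → V × V) (l : E → ℕ) (x : E → ℤ) :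
    x ∈ solvable ends l ↔ ∃ g : V → ℤ, ∀ e, (l e : ℤ) ∣ x e - (g (ends e).2 - g (ends e).1) :=
  Iff.rfl

theorem solvable_of_coprime (ends : E → V × V) (l : E → ℕ) (hl : ∀ e, 0 < l e)
    (hcop : IsCircuitCoprime ends l) (x : E → ℤ) : x ∈ solvable ends l := by
  classical
  set L : ℕ := ∏ e, l e with hLdef
  have hL : L ≠ 0 := Finset.prod_ne_zero_iff.mpr (fun e _ => (hl e).ne')
  have hlL : ∀ e, l e ∣ L := fun e => Finset.dvd_prod_of_mem l (Finset.mem_univ e)
  set J : Ideal ℤ := Submodule.comap (LinearMap.toSpanSingleton ℤ (E → ℤ) x) (solvable ends l)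
    with hJ
  have hmem : ∀ c : ℤ, c ∈ J ↔ c • x ∈ solvable ends l := by
    intro c
    rw [hJ, Submodule.mem_comap, LinearMap.toSpanSingleton_apply]
  have hq : ∀ q : ℕ, q.Prime → ((L / q ^ L.factorization q : ℕ) : ℤ) ∈ J := by
    intro p hp
    rw [hmem]
    set Ep : Finset E := Finset.univ.filter (fun e => p ∣ l e) with hEp
    -- no nonzero integer cycle is supported in `Ep`
    have hzero : ∀ γ : E → ℤ, (∀ e, e ∉ Ep → γ e = 0) → (∀ v, boundary ends γ v = 0) → γ = 0 := by
      intro γ hγ0 hγb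
      by_contra hne
      obtain ⟨C, hC, hsupp⟩ := exists_circuit_in_support ends γ hγb hne
      have hCE : ∀ e ∈ C, p ∣ l e := by
        intro e he
        by_contra hnd
        have : e ∉ Ep := by simp [hEp, hnd]
        exact hsupp e he (hγ0 e this)
      have h1 : p ∣ C.gcd l := Finset.dvd_gcd hCE
      rw [hcop C hC] at h1
      exact hp.one_lt.ne' (Nat.dvd_one.mp h1)
    obtain ⟨gp, hgp⟩ := exists_potential ends Ep x (fun γ hγ0 hγb => by
      rw [hzero γ hγ0 hγb]; simp)
    set L' : ℕ := L / p ^ L.factorization p with hL'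
    refine ⟨(L' : ℤ) • gp, fun e => ?_⟩
    simp only [Pi.smul_apply, smul_eq_mul]
    by_cases he : e ∈ Ep
    · rw [← hgp e he]
      have : (L' : ℤ) * (gp (ends e).2 - gp (ends e).1)
          - ((L' : ℤ) * gp (ends e).2 - (L' : ℤ) * gp (ends e).1) = 0 := by ring
      rw [this]
      exact dvd_zero _
    · have hnd : ¬ p ∣ l e := by simpa [hEp] using he
      have hcop' : Nat.Coprime (l e) (p ^ L.factorization p) :=
        Nat.Coprime.pow_right _ ((Nat.Prime.coprime_iff_not_dvd hp).mpr hnd).symm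
      have h1 : l e ∣ L' * p ^ L.factorization p := by
        rw [hL', mul_comm, Nat.ordProj_mul_ordCompl_eq_self]
        exact hlL e
      have h2 : l e ∣ L' := Nat.Coprime.dvd_of_dvd_mul_right hcop' h1
      have h3 : ((l e : ℕ) : ℤ) ∣ (L' : ℤ) := Int.natCast_dvd_natCast.mpr h2
      have : (L' : ℤ) * x e - ((L' : ℤ) * gp (ends e).2 - (L' : ℤ) * gp (ends e).1)
          = (L' : ℤ) * (x e - (gp (ends e).2 - gp (ends e).1)) := by ring
      rw [this]
      exact Dvd.dvd.mul_right h3 _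
  have hone := one_mem_of_ordCompl J L hL hq
  rw [hmem, one_smul] at hone
  exact hone

theorem s13758 (ends : E → V × V) (l : E → ℕ) (hl : ∀ e, 0 < l e) :
    LabGraph.IsCircuitCoprime ends l ↔
      ∀ x : E → ℤ, ∃ y : E → ℤ, ∀ γ : E → ℤ, (∀ v : V, LabGraph.boundary ends γ v = 0) →
        ∑ e : E, γ e * (x e - (l e : ℤ) * y e) = 0 := by
  constructor
  · intro hcop x
    obtain ⟨g, hg⟩ := (mem_solvable ends l x).mp (solvable_of_coprime ends l hl hcop x)
    choose y hy using hg
    refine ⟨y, fun γ hγ => ?_⟩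
    have h1 : ∑ e, γ e * (x e - (l e : ℤ) * y e)
        = ∑ e, γ e * (g (ends e).2 - g (ends e).1) := by
      refine Finset.sum_congr rfl (fun e _ => ?_)
      have := hy e
      congr 1
      linarith
    rw [h1, ← sum_mul_boundary]
    simp [hγ]
  · intro h C hC
    by_contra hne
    have hd0 : C.gcd l ≠ 0 := by
      intro h0
      obtain ⟨e, he⟩ := hC.1
      exact (hl e).ne' ((Finset.gcd_eq_zero_iff.mp h0) e he)
    obtain ⟨p, hp, hpd⟩ := Nat.exists_prime_and_dvd hne
    have hpl : ∀ e ∈ C, p ∣ l e := fun e he => dvd_trans hpd (Finset.gcd_dvd he)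
    obtain ⟨e₀, he₀⟩ := hC.1
    obtain ⟨χ, hχ0, hχe, hχb⟩ := exists_cycle_of_even ends hC.2.1 he₀
    obtain ⟨y, hy⟩ := h (Pi.single e₀ 1)
    have h1 := hy χ hχb
    have h2 : ∑ e, χ e * ((Pi.single e₀ (1 : ℤ) : E → ℤ) e - (l e : ℤ) * y e)
        = 1 - ∑ e, χ e * ((l e : ℤ) * y e) := by
      simp only [mul_sub, Finset.sum_sub_distrib, Pi.single_apply, mul_ite, mul_one, mul_zero,
        Finset.sum_ite_eq', Finset.mem_univ, if_true, hχe]
    rw [h2] at h1
    have h3 : (p : ℤ) ∣ ∑ e, χ e * ((l e : ℤ) * y e) := by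
      refine Finset.dvd_sum (fun e _ => ?_)
      by_cases he : e ∈ C
      · have : (p : ℤ) ∣ (l e : ℤ) := Int.natCast_dvd_natCast.mpr (hpl e he)
        exact Dvd.dvd.mul_left (Dvd.dvd.mul_right this _) _
      · rw [hχ0 e he, zero_mul]
        exact dvd_zero _
    have h4 : (p : ℤ) ∣ 1 := by
      have : (1 : ℤ) = ∑ e, χ e * ((l e : ℤ) * y e) := by linarith
      rw [this]; exact h3
    have h5 : p ∣ 1 := Int.natCast_dvd_natCast.mp (by simpa using h4)
    exact hp.one_lt.ne' (Nat.dvd_one.mp h5)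

end Groth.Agent.Lib.Helper24Circuit
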