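import Mathlib
import Groth.Prelude.Def_W4c1nerontoraddGraph
import Groth.Agent.Lib.Helper24Circuit3

set_option autoImplicit false
universe u

namespace Groth.Agent.Lib.Helper24Circuit

open LabGraph

variable {V E : Type u} [Fintype V] [Fintype E] [DecidableEq V] [DecidableEq E]

theorem pathVert_eq_inr (ends : E → V × V) (l : E → ℕ) (e : E) (k : ℕ) (e₀ : E)
    (j₀ : Fin (l e₀ - 1)) :
    pathVert ends l e k = Sum.inr ⟨e₀, j₀⟩ ↔ e = e₀ ∧ k = j₀.val + 1 := by
  unfold pathVert
  have hj := j₀.isLt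
  split_ifs with h0 h1
  · constructor
    · intro h; exact absurd h (by simp)
    · rintro ⟨-, h⟩; omega
  · rw [Sum.inr.injEq, Sigma.mk.inj_iff]
    constructor
    · rintro ⟨rfl, h⟩
      have := eq_of_heq h
      rw [Fin.ext_iff] at this
      simp only at this
      exact ⟨rfl, by omega⟩
    · rintro ⟨rfl, h⟩
      refine ⟨rfl, heq_of_eq ?_⟩
      rw [Fin.ext_iff]
      simp only
      omega
  · constructor
    · intro h; exact absurd h (by simp)
    · rintro ⟨rfl, h⟩; omega

theorem pathVert_zero (ends : E → V × V) (l : E → ℕ) (e : E) :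
    pathVert ends l e 0 = Sum.inl (ends e).1 := by
  simp [pathVert]

theorem pathVert_mid (ends : E → V × V) (l : E → ℕ) (e : E) (j : ℕ) (hj : j + 1 < l e) :
    pathVert ends l e (j + 1) = Sum.inr ⟨e, ⟨j, by omega⟩⟩ := by
  simp [pathVert, hj]

theorem pathVert_end (ends : E → V × V) (l : E → ℕ) (e : E) (j : ℕ) (hj : l e ≤ j) (h0 : j ≠ 0) :
    pathVert ends l e j = Sum.inl (ends e).2 := by
  simp [pathVert, h0, not_lt.mpr hj]

/-- the multidegree at a new vertex of the blow-up graph is a second difference along the path. -/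
theorem mdeg_new (ends : E → V × V) (l : E → ℕ) (ψ : BlVert V E l → ℤ) (e₀ : E)
    (j₀ : Fin (l e₀ - 1)) :
    mdeg (blEnds ends l) (fun _ => 1) ψ (Sum.inr ⟨e₀, j₀⟩) =
      ψ (pathVert ends l e₀ (j₀.val + 2)) + ψ (pathVert ends l e₀ j₀.val)
        - 2 * ψ (pathVert ends l e₀ (j₀.val + 1)) := by
  have hj := j₀.isLt
  unfold mdeg
  simp only [blEnds, Nat.cast_one, Int.ediv_one, pathVert_eq_inr]
  rw [Finset.sum_add_distrib, Fintype.sum_sigma, Fintype.sum_sigma]
  have h1 : ∀ e, e ≠ e₀ → (∑ k : Fin (l e), if e = e₀ ∧ k.val = j₀.val + 1 then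
      ψ (pathVert ends l e (k.val + 1)) - ψ (pathVert ends l e k.val) else 0) = 0 := by
    intro e he
    simp [he]
  have h2 : ∀ e, e ≠ e₀ → (∑ k : Fin (l e), if e = e₀ ∧ k.val + 1 = j₀.val + 1 then
      ψ (pathVert ends l e k.val) - ψ (pathVert ends l e (k.val + 1)) else 0) = 0 := by
    intro e he
    simp [he]
  rw [Finset.sum_eq_single e₀ (fun e _ he => h1 e he)
    (fun h => absurd (Finset.mem_univ _) h)]
  rw [Finset.sum_eq_single e₀ (fun e _ he => h2 e he)
    (fun h => absurd (Finset.mem_univ _) h)]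
  have h3 : (∑ k : Fin (l e₀), if e₀ = e₀ ∧ k.val = j₀.val + 1 then
      ψ (pathVert ends l e₀ (k.val + 1)) - ψ (pathVert ends l e₀ k.val) else 0)
      = ψ (pathVert ends l e₀ (j₀.val + 2)) - ψ (pathVert ends l e₀ (j₀.val + 1)) := by
    rw [Finset.sum_eq_single (⟨j₀.val + 1, by omega⟩ : Fin (l e₀))]
    · simp
    · intro k _ hk
      have : ¬ (k.val = j₀.val + 1) := by
        intro h; apply hk; rw [Fin.ext_iff]; simp only; omega
      simp [this]
    · intro h; exact absurd (Finset.mem_univ _) h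
  have h4 : (∑ k : Fin (l e₀), if e₀ = e₀ ∧ k.val + 1 = j₀.val + 1 then
      ψ (pathVert ends l e₀ k.val) - ψ (pathVert ends l e₀ (k.val + 1)) else 0)
      = ψ (pathVert ends l e₀ j₀.val) - ψ (pathVert ends l e₀ (j₀.val + 1)) := by
    rw [Finset.sum_eq_single (⟨j₀.val, by omega⟩ : Fin (l e₀))]
    · simp
    · intro k _ hk
      have : ¬ (k.val + 1 = j₀.val + 1) := by
        intro h; apply hk; rw [Fin.ext_iff]; simp only; omega
      rw [if_neg (fun h => this h.2)]
    · intro h; exact absurd (Finset.mem_univ _) h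
  rw [h3, h4]
  ring

/-- a sequence whose second differences vanish except the last one. -/
theorem seq_lemma (a : ℕ → ℤ) (L : ℕ) (hL : 1 ≤ L) (t : ℤ)
    (h : ∀ j, j + 2 ≤ L → a (j + 2) + a j - 2 * a (j + 1) = if j + 2 = L then t else 0) :
    (L : ℤ) ∣ t - (a L - a 0) := by
  rcases Nat.lt_or_ge L 2 with h2 | h2
  · have : L = 1 := by omega
    subst this
    simp
  · have harith : ∀ j, j + 1 ≤ L → a j = a 0 + (j : ℤ) * (a 1 - a 0) := by
      intro j
      induction j using Nat.twoStepInduction with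
      | zero => intro _; simp
      | one => intro _; simp
      | more j ih1 ih2 =>
        intro hj
        have h1 := h j (by omega)
        rw [if_neg (by omega)] at h1
        rw [ih1 (by omega), ih2 (by omega)] at h1
        push_cast at h1 ⊢
        linarith
    obtain ⟨m, rfl⟩ : ∃ m, L = m + 2 := ⟨L - 2, by omega⟩
    have h1 := h m le_rfl
    rw [if_pos rfl, harith m (by omega), harith (m + 1) (by omega)] at h1
    refine ⟨-(a 1 - a 0), ?_⟩
    push_cast at h1 ⊢
    linarith

/-- partial sums solving a prescribed second-difference equation. -/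
def secSum (b : ℕ → ℤ) : ℕ → ℤ
  | 0 => 0
  | 1 => 0
  | (j + 2) => b j - secSum b j + 2 * secSum b (j + 1)

theorem secSum_diff (b : ℕ → ℤ) (j : ℕ) :
    secSum b (j + 2) + secSum b j - 2 * secSum b (j + 1) = b j := by
  rw [secSum]; ring

theorem solvable_of_blowup (ends : E → V × V) (l : E → ℕ) (hl : ∀ e, 0 < l e)
    (h : ∀ β : BlVert V E l → ℤ, ∃ (ψ : BlVert V E l → ℤ) (α : V → ℤ),
      ∀ w : BlVert V E l,
        mdeg (blEnds ends l) (fun _ => 1) ψ w + β w = Sum.elim α (fun _ => (0 : ℤ)) w)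
    (x : E → ℤ) : x ∈ solvable ends l := by
  obtain ⟨ψ, α, hψ⟩ := h (Sum.elim (fun _ => 0)
    (fun p => if p.2.val + 2 = l p.1 then -(x p.1) else 0))
  refine ⟨fun v => ψ (Sum.inl v), fun e => ?_⟩
  have h1 := seq_lemma (fun j => ψ (pathVert ends l e j)) (l e) (hl e) (x e) ?_
  · rw [pathVert_zero, pathVert_end ends l e (l e) le_rfl (hl e).ne'] at h1
    exact h1
  · intro j hj
    have h2 := hψ (Sum.inr ⟨e, ⟨j, by omega⟩⟩)
    rw [mdeg_new] at h2
    simp only [Sum.elim_inr] at h2
    split_ifs with h3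
    · rw [if_pos h3] at h2
      linarith
    · rw [if_neg h3] at h2
      linarith

theorem blowup_of_solvable (ends : E → V × V) (l : E → ℕ) (hl : ∀ e, 0 < l e)
    (h : ∀ x : E → ℤ, x ∈ solvable ends l) (β : BlVert V E l → ℤ) :
    ∃ (ψ : BlVert V E l → ℤ) (α : V → ℤ), ∀ w : BlVert V E l,
      mdeg (blEnds ends l) (fun _ => 1) ψ w + β w = Sum.elim α (fun _ => (0 : ℤ)) w := by
  set b : E → ℕ → ℤ := fun e j => if hj : j < l e - 1 then -β (Sum.inr ⟨e, ⟨j, hj⟩⟩) else 0 with hb
  set x : E → ℤ := fun e => secSum (b e) (l e) with hx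
  obtain ⟨g, hg⟩ := h x
  choose δ hδ using hg
  set a : E → ℕ → ℤ := fun e j => g (ends e).1 - (j : ℤ) * δ e + secSum (b e) j with ha
  have ha0 : ∀ e, a e 0 = g (ends e).1 := by
    intro e; simp [ha, secSum]
  have haL : ∀ e, a e (l e) = g (ends e).2 := by
    intro e
    have := hδ e
    simp only [ha, hx] at this ⊢
    linarith
  set ψ : BlVert V E l → ℤ := Sum.elim g (fun p => a p.1 (p.2.val + 1)) with hψ
  have hpath : ∀ e j, j ≤ l e → ψ (pathVert ends l e j) = a e j := by
    intro e j hj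
    rcases Nat.eq_zero_or_pos j with rfl | hpos
    · rw [pathVert_zero, ha0]; rfl
    · rcases Nat.lt_or_ge j (l e) with hlt | hge
      · obtain ⟨i, rfl⟩ : ∃ i, j = i + 1 := ⟨j - 1, by omega⟩
        rw [pathVert_mid ends l e i hlt]
        rfl
      · have : j = l e := by omega
        subst this
        rw [pathVert_end ends l e (l e) le_rfl (hl e).ne', haL]
        rfl
  refine ⟨ψ, fun v => mdeg (blEnds ends l) (fun _ => 1) ψ (Sum.inl v) + β (Sum.inl v), ?_⟩
  rintro (v | ⟨e, j⟩)
  · rfl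
  · have hj := j.isLt
    rw [mdeg_new, hpath e _ (by omega), hpath e _ (by omega), hpath e _ (by omega)]
    simp only [Sum.elim_inr]
    have h1 := secSum_diff (b e) j.val
    have h2 : b e j.val = -β (Sum.inr ⟨e, j⟩) := by
      simp only [hb]
      rw [dif_pos hj]
    simp only [ha]
    push_cast
    linarith

theorem s13760 (ends : E → V × V) (l : E → ℕ) (hl : ∀ e, 0 < l e) :
    (∀ β : LabGraph.BlVert V E l → ℤ, ∃ (ψ : LabGraph.BlVert V E l → ℤ) (α : V → ℤ),
        ∀ w : LabGraph.BlVert V E l,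
          LabGraph.mdeg (LabGraph.blEnds ends l) (fun _ => 1) ψ w + β w =
            Sum.elim α (fun _ => (0 : ℤ)) w) ↔
      LabGraph.IsCircuitCoprime ends l := by
  constructor
  · intro h
    rw [s13758 ends l hl]
    intro x
    obtain ⟨g, hg⟩ := (mem_solvable ends l x).mp (solvable_of_blowup ends l hl h x)
    choose y hy using hg
    refine ⟨y, fun γ hγ => ?_⟩
    have h1 : ∑ e, γ e * (x e - (l e : ℤ) * y e)
        = ∑ e, γ e * (g (ends e).2 - g (ends e).1) := by
      refine Finset.sum_congr rfl (fun e _ => ?_)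
      have := hy e
      congr 1
      linarith
    rw [h1, ← sum_mul_boundary]
    simp [hγ]
  · intro hcop β
    exact blowup_of_solvable ends l hl (fun x => solvable_of_coprime ends l hl hcop x) β

end Groth.Agent.Lib.Helper24Circuit
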