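import Mathlib
import Groth.Prelude.Def_EGA41
import Groth.Agent.Lib.Helper14GeomRed

/-!
# Cohen algebras over `ℤ_(p)` are Cohen rings (helper24)
-/

namespace Groth.Agent.Lib.Helper24CohenZp

open IsLocalRing TensorProduct

universe u

/-- Over a perfect field every reduced algebra is geometrically reduced. -/
theorem geomRed_of_perfect {K₀ C : Type u} [Field K₀] [PerfectField K₀] [CommRing C]
    [Algebra K₀ C] [IsReduced C] : Algebra.IsGeometricallyReduced K₀ C := by
  haveI : Algebra.IsSeparable K₀ (AlgebraicClosure K₀) :=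
    Algebra.IsAlgebraic.isSeparable_of_perfectField
  haveI : IsReduced (AlgebraicClosure K₀ ⊗[K₀] C) :=
    Groth.Agent.Lib.Helper14.GeomRed.isReduced_tensor_of_isSeparable
  exact (Algebra.isGeometricallyReduced_field_iff K₀ C).mpr inferInstance

section dvr

variable {A : Type u} [CommRing A] [IsLocalRing A] [IsNoetherianRing A]

/-- In a Noetherian local ring with principal maximal ideal `(π)`, every nonzero element is a unit
times a power of `π`. -/
lemma exists_unit_mul_pow (π : A) (hm : maximalIdeal A = Ideal.span {π}) (a : A) (ha : a ≠ 0) :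
    ∃ (n : ℕ) (u : A), IsUnit u ∧ a = u * π ^ n := by
  have hK := Ideal.iInf_pow_eq_bot_of_isLocalRing (maximalIdeal A) (Ideal.IsPrime.ne_top inferInstance)
  have hex : ∃ n : ℕ, a ∉ maximalIdeal A ^ n := by
    by_contra hcon
    push Not at hcon
    have : a ∈ ⨅ i, maximalIdeal A ^ i := by
      rw [Ideal.mem_iInf]; exact hcon
    rw [hK] at this
    exact ha ((Ideal.mem_bot).mp this)
  classical
  let n := Nat.find hex
  have hn : a ∉ maximalIdeal A ^ n := Nat.find_spec hex
  have hn0 : n ≠ 0 := by
    intro h0
    rw [h0, pow_zero, Ideal.one_eq_top] at hn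
    exact hn trivial
  obtain ⟨k, hk⟩ : ∃ k, n = k + 1 := ⟨n - 1, by omega⟩
  have hk' : a ∈ maximalIdeal A ^ k := by
    by_contra hcon
    have := Nat.find_min' hex hcon
    omega
  rw [hm, Ideal.span_singleton_pow, Ideal.mem_span_singleton] at hk'
  obtain ⟨b, rfl⟩ := hk'
  refine ⟨k, b, ?_, by ring⟩
  by_contra hb
  have hbm : b ∈ maximalIdeal A := (mem_maximalIdeal b).mpr hb
  apply hn
  rw [hk, pow_succ]
  exact Ideal.mul_mem_mul
    (by rw [hm, Ideal.span_singleton_pow]; exact Ideal.mem_span_singleton_self _) hbm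

lemma isDomain_of_principal (π : A) (hm : maximalIdeal A = Ideal.span {π})
    (hπ : π ∈ nonZeroDivisors A) : IsDomain A := by
  have hpow : ∀ n : ℕ, π ^ n ≠ 0 := fun n =>
    nonZeroDivisors.ne_zero (pow_mem hπ n)
  haveI : NoZeroDivisors A := by
    refine ⟨fun {a b} hab => ?_⟩
    by_contra hcon
    push Not at hcon
    obtain ⟨n, u, hu, rfl⟩ := exists_unit_mul_pow π hm a hcon.1
    obtain ⟨m, v, hv, rfl⟩ := exists_unit_mul_pow π hm b hcon.2
    have : (u * v) * π ^ (n + m) = 0 := by rw [← hab, pow_add]; ring
    have h2 := (hu.mul hv).mul_right_eq_zero.mp this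
    exact hpow _ h2
  exact NoZeroDivisors.to_isDomain A

lemma isDVR_of_principal (π : A) (hm : maximalIdeal A = Ideal.span {π})
    (hπ : π ∈ nonZeroDivisors A) :
    ∃ (_ : IsDomain A), IsDiscreteValuationRing A := by
  haveI := isDomain_of_principal π hm hπ
  refine ⟨inferInstance, ?_⟩
  have hnf : ¬ IsField A := by
    rw [isField_iff_maximalIdeal_eq, hm, Ideal.span_singleton_eq_bot]
    exact nonZeroDivisors.ne_zero hπ
  have h04 := (IsDiscreteValuationRing.TFAE A hnf).out 0 4
  exact h04.mpr ⟨⟨π, hm⟩⟩

end dvr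


section LocZ

variable (p : ℕ) [hp : (Ideal.span {(p : ℤ)}).IsPrime]

/-- `ℤ_(p)` -/
abbrev Rp : Type := Localization.AtPrime (Ideal.span {(p : ℤ)})

lemma maximalIdeal_Rp : maximalIdeal (Rp p) = Ideal.span {(p : (Rp p))} := by
  have := @Localization.AtPrime.map_eq_maximalIdeal ℤ _ (Ideal.span {(p : ℤ)}) _
  rw [← this, Ideal.map_span, Set.image_singleton]
  simp

lemma natCast_Rp_ne_zero (h0 : p ≠ 0) : (p : (Rp p)) ≠ 0 := by
  have hinj : Function.Injective (algebraMap ℤ (Rp p)) :=
    IsLocalization.injective (Rp p) (Ideal.primeCompl_le_nonZeroDivisors (Ideal.span {(p : ℤ)}))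
  intro h
  have : algebraMap ℤ (Rp p) (p : ℤ) = algebraMap ℤ (Rp p) 0 := by simpa using h
  have := hinj this
  exact h0 (by exact_mod_cast this)

lemma intCast_residue_eq_zero_iff (n : ℤ) :
    ((n : ResidueField (Rp p)) = 0) ↔ (p : ℤ) ∣ n := by
  have hker := Ideal.ker_algebraMap_residueField (Ideal.span {(p : ℤ)})
  have : (n : ResidueField (Rp p)) = algebraMap ℤ (Ideal.span {(p : ℤ)}).ResidueField n :=
    (eq_intCast (algebraMap ℤ (Ideal.span {(p : ℤ)}).ResidueField) n).symm
  rw [this, ← RingHom.mem_ker, hker, Ideal.mem_span_singleton]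

instance perfect_residue_Rp : PerfectField (ResidueField (Rp p)) := by
  by_cases h0 : p = 0
  · haveI : CharZero (ResidueField (Rp p)) := by
      refine ⟨fun a b hab => ?_⟩
      have h1 : (((a : ℤ) - (b : ℤ) : ℤ) : ResidueField (Rp p)) = 0 := by
        push_cast; rw [hab, sub_self]
      rw [intCast_residue_eq_zero_iff, h0] at h1
      simp only [Nat.cast_zero, zero_dvd_iff] at h1
      omega
    infer_instance
  · haveI hmax : (Ideal.span {(p : ℤ)}).IsMaximal :=
      Ideal.IsPrime.isMaximal hp (by simpa using h0)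
    have hsurj := Ideal.algebraMap_residueField_surjective (Ideal.span {(p : ℤ)})
    haveI : NeZero p := ⟨h0⟩
    haveI : Finite (ResidueField (Rp p)) := by
      let f : Fin p → ResidueField (Rp p) := fun i => ((i : ℕ) : ResidueField (Rp p))
      apply Finite.of_surjective f
      intro x
      obtain ⟨n, rfl⟩ := hsurj x
      have hpos : (0 : ℤ) < p := by exact_mod_cast Nat.pos_of_ne_zero h0
      have hlt : (n % p).toNat < p := by
        have := Int.emod_lt_of_pos n hpos
        have h2 := Int.emod_nonneg n (ne_of_gt hpos)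
        omega
      refine ⟨⟨(n % p).toNat, hlt⟩, ?_⟩
      change (((n % p).toNat : ℕ) : ResidueField (Rp p)) = _
      have h2 := Int.emod_nonneg n (ne_of_gt hpos)
      have e1 : (((n % p).toNat : ℕ) : ResidueField (Rp p)) = ((n % p : ℤ) : ResidueField (Rp p)) := by
        have h3 : ((n % p).toNat : ℤ) = n % p := Int.toNat_of_nonneg h2
        exact (Int.cast_natCast (R := ResidueField (Rp p)) _).symm.trans (congrArg Int.cast h3)
      rw [e1, eq_intCast (algebraMap ℤ (Ideal.span {(p : ℤ)}).ResidueField) n, ← sub_eq_zero,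
        ← Int.cast_sub, intCast_residue_eq_zero_iff]
      exact ⟨-(n / p), by have := Int.emod_add_mul_ediv n p; linarith⟩
    infer_instance

end LocZ

section Main

variable (p : ℕ) [hp : (Ideal.span {(p : ℤ)}).IsPrime]
  {A : Type} [CommRing A] [IsLocalRing A] [CharP (ResidueField A) p]
  [Algebra (Rp p) A] [IsLocalHom (algebraMap (Rp p) A)]

lemma map_maximalIdeal_Rp :
    (maximalIdeal (Rp p)).map (algebraMap (Rp p) A) = Ideal.span {(p : A)} := by
  rw [maximalIdeal_Rp, Ideal.map_span, Set.image_singleton, map_natCast]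

omit [CharP (ResidueField A) p] [IsLocalHom (algebraMap (Rp p) A)] in
lemma algebraMap_Rp_injective [IsDomain A] [CharZero A] :
    Function.Injective (algebraMap (Rp p) A) := by
  rw [injective_iff_map_eq_zero]
  intro x hx
  obtain ⟨⟨a, s⟩, h⟩ := IsLocalization.surj (Ideal.span {(p : ℤ)}).primeCompl x
  dsimp only at h
  have h1 := congrArg (algebraMap (Rp p) A) h
  rw [map_mul, hx, zero_mul] at h1
  have h2 : ((a : ℤ) : A) = 0 := by
    have e : algebraMap (Rp p) A (algebraMap ℤ (Rp p) a) = (a : A) := by
      rw [eq_intCast (algebraMap ℤ (Rp p)) a, map_intCast]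
    rw [← e, ← h1]
  have ha : a = 0 := by exact_mod_cast h2
  rw [ha, map_zero] at h
  have hinj : Function.Injective (algebraMap ℤ (Rp p)) :=
    IsLocalization.injective (Rp p) (Ideal.primeCompl_le_nonZeroDivisors (Ideal.span {(p : ℤ)}))
  have hs : algebraMap ℤ (Rp p) (s : ℤ) ≠ 0 := by
    intro h0
    have : (s : ℤ) = 0 := hinj (by rw [h0, map_zero])
    have hs' := s.2
    rw [this] at hs'
    exact hs' (Ideal.zero_mem _)
  exact (mul_eq_zero.mp h).resolve_right hs

omit [CharP (ResidueField A) p] [IsLocalHom (algebraMap (Rp p) A)] in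
lemma flat_Rp [IsDomain A] [CharZero A] : Module.Flat (Rp p) A := by
  haveI : IsDedekindDomain (Rp p) :=
    IsLocalization.AtPrime.isDedekindDomain ℤ (Ideal.span {(p : ℤ)}) (Rp p)
  haveI : Module.IsTorsionFree (Rp p) A := by
    refine ⟨fun r hr a b hab => ?_⟩
    have hr0 : r ≠ 0 := hr.ne_zero
    have h1 : algebraMap (Rp p) A r ≠ 0 := by
      intro h; exact hr0 (algebraMap_Rp_injective p (by rw [h, map_zero]))
    simp only [Algebra.smul_def] at hab
    exact mul_left_cancel₀ h1 hab
  infer_instance

omit hp [Algebra (Rp p) A] [IsLocalHom (algebraMap (Rp p) A)] in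
lemma natCast_mem_maximalIdeal : (p : A) ∈ maximalIdeal A := by
  rw [← residue_eq_zero_iff, map_natCast]
  exact CharP.cast_eq_zero _ p

theorem main : EGA41.IsCohenAlgebra (Rp p) A ↔ EGA41.IsCohenRingEGA A := by
  have hgr : Algebra.IsGeometricallyReduced (ResidueField (Rp p)) (ResidueField A) :=
    geomRed_of_perfect
  constructor
  · rintro ⟨_, hNA, hcomp, hflat, hm, _⟩
    rw [map_maximalIdeal_Rp] at hm
    by_cases h0 : p = 0
    · left
      have hm0 : maximalIdeal A = ⊥ := by
        rw [← hm, h0]; simp
      refine ⟨isField_iff_maximalIdeal_eq.mpr hm0, ?_⟩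
      haveI : CharP (ResidueField A) 0 := h0 ▸ (inferInstance : CharP (ResidueField A) p)
      haveI : CharZero (ResidueField A) := CharP.charP_to_charZero _
      refine ⟨fun a b hab => ?_⟩
      apply Nat.cast_injective (R := ResidueField A)
      have := congrArg (residue A) hab
      simpa using this
    · right
      have hπ : (p : A) ∈ nonZeroDivisors A := by
        have hr : (p : Rp p) ∈ nonZeroDivisors (Rp p) :=
          mem_nonZeroDivisors_of_ne_zero (natCast_Rp_ne_zero p h0)
        have hreg : IsSMulRegular A (p : Rp p) := Module.Flat.isSMulRegular_of_nonZeroDivisors hr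
        rw [mem_nonZeroDivisors_iff_right]
        intro x hx
        apply hreg
        simp only [Algebra.smul_def, map_natCast, mul_zero]
        rw [mul_comm]; exact hx
      obtain ⟨hdom, hdvr⟩ := isDVR_of_principal (p : A) hm.symm hπ
      have hprime : p.Prime := by
        have := (Ideal.span_singleton_prime (by exact_mod_cast h0 : (p : ℤ) ≠ 0)).mp hp
        exact Nat.prime_iff_prime_int.mpr this
      exact ⟨hdom, hdvr, hcomp, p, hprime, hm.symm⟩
  · rintro (⟨hF, hC0⟩ | ⟨hdom, hdvr, hcomp, q, hq, hmq⟩)
    · have hm0 : maximalIdeal A = ⊥ := isField_iff_maximalIdeal_eq.mp hF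
      haveI : IsDomain A := hF.isDomain
      have hinj : Function.Injective (residue A) := by
        rw [RingHom.injective_iff_ker_eq_bot, ker_residue, hm0]
      haveI : CharZero (ResidueField A) := charZero_of_injective_ringHom hinj
      have h0 : p = 0 := CharP.eq (ResidueField A) inferInstance (CharP.ofCharZero _)
      refine ⟨inferInstance, ?_, ?_, flat_Rp p, ?_, hgr⟩
      · rw [isNoetherianRing_iff_ideal_fg]
        intro I
        by_cases hI : I = ⊤
        · rw [hI]; exact ⟨{1}, by simp⟩
        · have : I ≤ maximalIdeal A := le_maximalIdeal hI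
          rw [hm0, le_bot_iff] at this
          rw [this]; exact Submodule.fg_bot
      · rw [hm0]; infer_instance
      · rw [map_maximalIdeal_Rp, hm0, h0]; simp
    · have hqm : (q : ResidueField A) = 0 := by
        rw [← map_natCast (residue A), residue_eq_zero_iff, hmq]
        exact Ideal.mem_span_singleton_self _
      have hdvd : p ∣ q := (CharP.cast_eq_zero_iff (ResidueField A) p q).mp hqm
      have hp1 : p ≠ 1 := CharP.char_ne_one (ResidueField A) p
      have hpq : p = q := (hq.eq_one_or_self_of_dvd p hdvd).resolve_left hp1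
      subst hpq
      have hne : (p : A) ≠ 0 := by
        intro h
        rw [h, Ideal.span_singleton_eq_bot.mpr rfl] at hmq
        exact IsDiscreteValuationRing.not_isField A (isField_iff_maximalIdeal_eq.mpr hmq)
      haveI : CharZero A := by
        obtain ⟨c, hc⟩ := CharP.exists A
        rcases CharP.char_is_prime_or_zero A c with hcp | hc0
        · exfalso
          have h1 : (c : ResidueField A) = 0 := by
            rw [← map_natCast (residue A), CharP.cast_eq_zero A c, map_zero]
          have hdvd' : p ∣ c := (CharP.cast_eq_zero_iff (ResidueField A) p c).mp h1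
          have : p = c := (hcp.eq_one_or_self_of_dvd p hdvd').resolve_left hp1
          apply hne
          rw [this]; exact CharP.cast_eq_zero A c
        · rw [hc0] at hc
          exact CharP.charP_to_charZero A
      refine ⟨inferInstance, inferInstance, hcomp, flat_Rp p, ?_, hgr⟩
      rw [map_maximalIdeal_Rp, hmq]

end Main

end Groth.Agent.Lib.Helper24CohenZp
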