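import Mathlib
import Groth.Prelude.Def_W4stkchowintpicEnv

/-!
# Completely decomposed morphisms are stable under base change
-/

open CategoryTheory CategoryTheory.Limits AlgebraicGeometry

namespace Groth.Agent.Lib.Helper24ComplDecomp

universe u

/-- If `h : Spec κ(x') ⟶ P` and `s : P ⟶ X'` compose to the canonical `Spec κ(x') ⟶ X'`, then the
residue field map of `s` at the image point is surjective. -/
lemma residueFieldMap_surjective_of_comp {P X' : Scheme.{u}} (s : P ⟶ X') (x' : X')
    (h : Spec (X'.residueField x') ⟶ P) (hs : h ≫ s = X'.fromSpecResidueField x') :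
    ∃ z : P, s z = x' ∧ Function.Surjective (s.residueFieldMap z).hom := by
  let K : Type u := X'.residueField x'
  let h' : Spec (.of K) ⟶ P := h
  let z : P := h' (IsLocalRing.closedPoint K)
  have hz : s z = x' := by
    change (h ≫ s) (IsLocalRing.closedPoint K) = x'
    rw [hs]
    exact Scheme.fromSpecResidueField_apply x' _
  refine ⟨z, hz, ?_⟩
  let ι : P.residueField z ⟶ .of K := Scheme.descResidueField (Scheme.stalkClosedPointTo h')
  have h1 : Spec.map ι ≫ P.fromSpecResidueField z = h' :=
    Scheme.descResidueField_stalkClosedPointTo_fromSpecResidueField K P h'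
  have h2 : Spec.map (s.residueFieldMap z ≫ ι) ≫ X'.fromSpecResidueField (s z) =
      X'.fromSpecResidueField x' := by
    rw [Spec.map_comp, Category.assoc, Scheme.Hom.SpecMap_residueFieldMap_fromSpecResidueField,
      ← Category.assoc, h1]
    exact hs
  let φ : X'.residueField x' ⟶ .of K :=
    (X'.residueFieldCongr hz.symm).hom ≫ s.residueFieldMap z ≫ ι
  have h3 : Spec.map φ ≫ X'.fromSpecResidueField x' = X'.fromSpecResidueField x' := by
    change Spec.map ((X'.residueFieldCongr hz.symm).hom ≫ (s.residueFieldMap z ≫ ι)) ≫ _ = _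
    rw [Spec.map_comp, Category.assoc, Scheme.residueFieldCongr_fromSpecResidueField, h2]
  have h4 : φ = 𝟙 _ := by
    have hmono : Mono (X'.fromSpecResidueField x') := inferInstance
    have : Spec.map φ = 𝟙 _ := by
      rw [← cancel_mono (X'.fromSpecResidueField x'), h3, Category.id_comp]
    rw [← Spec.map_id] at this
    exact Spec.map_injective this
  have hιinj : Function.Injective ι.hom := ι.hom.injective
  intro b
  refine ⟨(X'.residueFieldCongr hz.symm).hom.hom (ι.hom b), ?_⟩
  apply hιinj
  have := congrArg (fun ψ => ψ.hom (ι.hom b)) h4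
  exact this

/-- Completely decomposed morphisms are stable under base change. -/
theorem main (X X' Y : Scheme.{u}) (f : Y ⟶ X) (g : X' ⟶ X)
    (hcd : Cyc.IsCompletelyDecomposed f) : Cyc.IsCompletelyDecomposed (pullback.snd f g) := by
  intro x'
  obtain ⟨y, hy, hsurj⟩ := hcd (g x')
  -- the residue field map at y is an isomorphism
  have hbij : Function.Bijective (f.residueFieldMap y).hom :=
    ⟨(f.residueFieldMap y).hom.injective, hsurj⟩
  let e : X.residueField (f y) ≅ Y.residueField y :=
    (RingEquiv.ofBijective _ hbij).toCommRingCatIso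
  have he : e.hom = f.residueFieldMap y := rfl
  let ψ : Y.residueField y ⟶ X'.residueField x' :=
    e.inv ≫ (X.residueFieldCongr hy).hom ≫ g.residueFieldMap x'
  let b : Spec (X'.residueField x') ⟶ Y := Spec.map ψ ≫ Y.fromSpecResidueField y
  have hb : b ≫ f = X'.fromSpecResidueField x' ≫ g := by
    change (Spec.map ψ ≫ Y.fromSpecResidueField y) ≫ f = _
    rw [Category.assoc, ← Scheme.Hom.SpecMap_residueFieldMap_fromSpecResidueField,
      ← Category.assoc, ← Spec.map_comp, ← he]
    change Spec.map (e.hom ≫ e.inv ≫ _) ≫ _ = _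
    rw [Iso.hom_inv_id_assoc, Spec.map_comp, Category.assoc,
      Scheme.residueFieldCongr_fromSpecResidueField,
      Scheme.Hom.SpecMap_residueFieldMap_fromSpecResidueField]
  exact residueFieldMap_surjective_of_comp (pullback.snd f g) x'
    (pullback.lift b (X'.fromSpecResidueField x') hb) (pullback.lift_snd _ _ _)

end Groth.Agent.Lib.Helper24ComplDecomp
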