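import Mathlib

namespace Helper24Conic1

open LaurentPolynomial

variable {L : Type*} [Field L]

/-- the semilinear involution `T ↦ T⁻¹`, `c ↦ σ c` -/
noncomputable def tau (σ : L →+* L) : L[T;T⁻¹] →+* L[T;T⁻¹] :=
  (invert (R := L)).toRingEquiv.toRingHom.comp (AddMonoidAlgebra.mapRingHom ℤ σ)

theorem tau_C (σ : L →+* L) (l : L) : tau σ (C l) = C (σ l) := by
  unfold tau
  rw [RingHom.comp_apply, ← single_eq_C, AddMonoidAlgebra.mapRingHom_single, single_eq_C]
  exact invert_C _

theorem tau_T (σ : L →+* L) (n : ℤ) : tau σ (T n) = T (-n) := by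
  unfold tau
  rw [RingHom.comp_apply]
  have : AddMonoidAlgebra.mapRingHom ℤ σ (T n : L[T;T⁻¹]) = T n := by
    unfold T
    rw [AddMonoidAlgebra.mapRingHom_single, map_one]
  rw [this]
  exact invert_T n

/-- units of the Laurent polynomial ring are monomials -/
theorem eq_C_mul_T_of_mul_eq_one {u v : L[T;T⁻¹]} (h : u * v = 1) :
    ∃ (c : L) (n : ℤ), c ≠ 0 ∧ u = C c * T n := by
  obtain ⟨a, f, hf⟩ := exists_T_pow u
  obtain ⟨b, g, hg⟩ := exists_T_pow v
  have hfg : f * g = Polynomial.X ^ (a + b) := by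
    apply Polynomial.toLaurent_injective
    rw [map_mul, hf, hg, Polynomial.toLaurent_X_pow]
    calc u * T a * (v * T b) = (u * v) * (T a * T b) := by ring
      _ = T (a + b) := by rw [h, one_mul, ← T_add]
      _ = T ((a + b : ℕ) : ℤ) := by push_cast; rfl
  have hdvd : f ∣ Polynomial.X ^ (a + b) := ⟨g, hfg.symm⟩
  obtain ⟨i, _, hi⟩ := (dvd_prime_pow Polynomial.prime_X _).1 hdvd
  obtain ⟨w, hw⟩ := hi.symm
  obtain ⟨c, hc, hcw⟩ := Polynomial.isUnit_iff.1 w.isUnit
  refine ⟨c, (i : ℤ) - a, hc.ne_zero, ?_⟩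
  have h1 : u * T a = C c * T i := by
    rw [← hf, ← hw, ← hcw, map_mul, Polynomial.toLaurent_X_pow, Polynomial.toLaurent_C, mul_comm]
  calc u = u * T a * T (-a) := by rw [mul_assoc, ← T_add]; simp
    _ = C c * T i * T (-a) := by rw [h1]
    _ = C c * T ((i : ℤ) - a) := by rw [mul_assoc, ← T_add, sub_eq_add_neg]

theorem C_mul_T_inj {c d : L} {n k : ℤ} (hc : c ≠ 0) (h : C c * T n = C d * T k) :
    c = d ∧ n = k := by
  rw [← single_eq_C_mul_T, ← single_eq_C_mul_T] at h
  have := (Finsupp.single_eq_single_iff _ _ _ _).1 (congrArg AddMonoidAlgebra.coeff h)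
  rcases this with ⟨h1, h2⟩ | ⟨h1, _⟩
  · exact ⟨h2, h1⟩
  · exact absurd h1 hc

/-- ring endomorphisms fixing constants are determined by the image of `T` -/
theorem ringHom_ext_T {B : Type*} [CommRing B] (θ θ' : L[T;T⁻¹] →+* B)
    (hC : ∀ l, θ (C l) = θ' (C l)) (hT : θ (T 1) = θ' (T 1)) : θ = θ' := by
  apply IsLocalization.ringHom_ext (Submonoid.powers (Polynomial.X : Polynomial L))
  apply Polynomial.ringHom_ext
  · intro a
    simp only [RingHom.comp_apply, algebraMap_eq_toLaurent, Polynomial.toLaurent_C]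
    exact hC a
  · simp only [RingHom.comp_apply, algebraMap_eq_toLaurent, Polynomial.toLaurent_X]
    exact hT

end Helper24Conic1
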