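import Mathlib
import Groth.Agent.Lib.Helper24Conic1

namespace Helper24Conic2

open LaurentPolynomial Helper24Conic1

/-- a separable quadratic extension with a chosen generator -/
structure QData (K L : Type*) [Field K] [Field L] [Algebra K L] where
  α : L
  m : K
  n : K
  hα : α * α = algebraMap K L m * α + algebraMap K L n
  hbasis : ∀ l : L, ∃ l₀ l₁ : K, l = algebraMap K L l₀ + algebraMap K L l₁ * α
  σ : L →+* L
  hσK : ∀ k : K, σ (algebraMap K L k) = algebraMap K L k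
  hσα : σ α = algebraMap K L m - α
  hne : σ α ≠ α

/-- an embedding of a `K`-ring into the Laurent polynomials over `L` as the fixed ring of `tau` -/
structure Emb {K L : Type*} [Field K] [Field L] [Algebra K L] (Q : QData K L)
    (O : Type*) [CommRing O] [SMul K O] where
  ψ : O →+* L[T;T⁻¹]
  inj : Function.Injective ψ
  smul : ∀ (k : K) (z : O), ψ (k • z) = C (algebraMap K L k) * ψ z
  tau : ∀ z, tau Q.σ (ψ z) = ψ z
  span : Submodule.span L (Set.range ψ) = ⊤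

variable {K L : Type*} [Field K] [Field L] [Algebra K L] {Q : QData K L}
  {O : Type*} [CommRing O] [SMul K O] (E : Emb Q O)

local notation "ι" => algebraMap K L

theorem hαC (Q : QData K L) :
    (C Q.α : L[T;T⁻¹]) * C Q.α = C (algebraMap K L Q.m) * C Q.α + C (algebraMap K L Q.n) := by
  rw [← map_mul, Q.hα, map_add, map_mul]

include E in
theorem exists_dec (b : L[T;T⁻¹]) : ∃ z₀ z₁ : O, b = E.ψ z₀ + C Q.α * E.ψ z₁ := by
  have hb : b ∈ Submodule.span L (Set.range E.ψ) := by rw [E.span]; trivial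
  induction hb using Submodule.span_induction with
  | mem x hx =>
    obtain ⟨z, rfl⟩ := hx
    exact ⟨z, 0, by simp⟩
  | zero => exact ⟨0, 0, by simp⟩
  | add x y _ _ hx hy =>
    obtain ⟨z₀, z₁, rfl⟩ := hx
    obtain ⟨w₀, w₁, rfl⟩ := hy
    exact ⟨z₀ + w₀, z₁ + w₁, by simp only [map_add]; ring⟩
  | smul l x _ hx =>
    obtain ⟨z₀, z₁, rfl⟩ := hx
    obtain ⟨l₀, l₁, rfl⟩ := Q.hbasis l
    refine ⟨l₀ • z₀ + (l₁ * Q.n) • z₁, l₀ • z₁ + l₁ • z₀ + (l₁ * Q.m) • z₁, ?_⟩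
    rw [smul_eq_C_mul]
    simp only [map_add, map_mul, E.smul]
    linear_combination (C (ι l₁) * E.ψ z₁) * hαC Q

include E in
theorem dec_unique {z₀ z₁ w₀ w₁ : O}
    (h : E.ψ z₀ + C Q.α * E.ψ z₁ = E.ψ w₀ + C Q.α * E.ψ w₁) : z₀ = w₀ ∧ z₁ = w₁ := by
  have h2 := congrArg (tau Q.σ) h
  simp only [map_add, map_mul, E.tau, tau_C] at h2
  have hd : Q.α - Q.σ Q.α ≠ 0 := sub_ne_zero.2 (Ne.symm Q.hne)
  have h3 : (C (Q.α - Q.σ Q.α) : L[T;T⁻¹]) * (E.ψ z₁ - E.ψ w₁) = 0 := by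
    rw [map_sub]
    linear_combination h - h2
  have h4 : E.ψ z₁ - E.ψ w₁ = 0 := by
    have := congrArg (fun x => (C (Q.α - Q.σ Q.α)⁻¹ : L[T;T⁻¹]) * x) h3
    simp only [mul_zero, ← mul_assoc, ← map_mul, inv_mul_cancel₀ hd, map_one, one_mul] at this
    exact this
  have h5 : E.ψ z₁ = E.ψ w₁ := sub_eq_zero.1 h4
  have h6 : E.ψ z₀ = E.ψ w₀ := by
    rw [h5] at h
    exact add_right_cancel h
  exact ⟨E.inj h6, E.inj h5⟩

/-- first coordinate -/
noncomputable def dec₀ (b : L[T;T⁻¹]) : O := (exists_dec E b).choose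
/-- second coordinate -/
noncomputable def dec₁ (b : L[T;T⁻¹]) : O := (exists_dec E b).choose_spec.choose

theorem dec_spec (b : L[T;T⁻¹]) : b = E.ψ (dec₀ E b) + C Q.α * E.ψ (dec₁ E b) :=
  (exists_dec E b).choose_spec.choose_spec

theorem dec_eq {b : L[T;T⁻¹]} {z₀ z₁ : O} (h : b = E.ψ z₀ + C Q.α * E.ψ z₁) :
    dec₀ E b = z₀ ∧ dec₁ E b = z₁ :=
  dec_unique E ((dec_spec E b).symm.trans h)

section Theta

variable (φ : O →+* O) (hφ : ∀ (k : K) (z : O), φ (k • z) = k • φ z)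

/-- the extension of a `K`-linear endomorphism of `O` to the Laurent polynomial ring -/
noncomputable def thetaFun (b : L[T;T⁻¹]) : L[T;T⁻¹] :=
  E.ψ (φ (dec₀ E b)) + C Q.α * E.ψ (φ (dec₁ E b))

theorem thetaFun_eq {b : L[T;T⁻¹]} {z₀ z₁ : O} (h : b = E.ψ z₀ + C Q.α * E.ψ z₁) :
    thetaFun E φ b = E.ψ (φ z₀) + C Q.α * E.ψ (φ z₁) := by
  obtain ⟨h0, h1⟩ := dec_eq E h
  unfold thetaFun
  rw [h0, h1]

theorem mul_dec (z₀ z₁ w₀ w₁ : O) :
    (E.ψ z₀ + C Q.α * E.ψ z₁) * (E.ψ w₀ + C Q.α * E.ψ w₁) =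
      E.ψ (z₀ * w₀ + Q.n • (z₁ * w₁)) + C Q.α * E.ψ (z₀ * w₁ + z₁ * w₀ + Q.m • (z₁ * w₁)) := by
  simp only [map_add, map_mul, E.smul]
  linear_combination (E.ψ z₁ * E.ψ w₁) * hαC Q

include hφ in
theorem thetaFun_mul (b b' : L[T;T⁻¹]) :
    thetaFun E φ (b * b') = thetaFun E φ b * thetaFun E φ b' := by
  have hb := dec_spec E b
  have hb' := dec_spec E b'
  have h1 : b * b' = E.ψ (dec₀ E b * dec₀ E b' + Q.n • (dec₁ E b * dec₁ E b')) +
      C Q.α * E.ψ (dec₀ E b * dec₁ E b' + dec₁ E b * dec₀ E b' + Q.m • (dec₁ E b * dec₁ E b')) := by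
    conv_lhs => rw [hb, hb']
    exact mul_dec E _ _ _ _
  rw [thetaFun_eq E φ h1, thetaFun_eq E φ hb, thetaFun_eq E φ hb', mul_dec]
  simp only [map_add, map_mul, hφ]

/-- the extension as a ring homomorphism -/
noncomputable def theta : L[T;T⁻¹] →+* L[T;T⁻¹] where
  toFun := thetaFun E φ
  map_one' := by
    have h : (1 : L[T;T⁻¹]) = E.ψ 1 + C Q.α * E.ψ 0 := by simp
    rw [thetaFun_eq E φ h]
    simp
  map_mul' := thetaFun_mul E φ hφ
  map_zero' := by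
    have h : (0 : L[T;T⁻¹]) = E.ψ 0 + C Q.α * E.ψ 0 := by simp
    rw [thetaFun_eq E φ h]
    simp
  map_add' b b' := by
    have hb := dec_spec E b
    have hb' := dec_spec E b'
    have h1 : b + b' = E.ψ (dec₀ E b + dec₀ E b') + C Q.α * E.ψ (dec₁ E b + dec₁ E b') := by
      conv_lhs => rw [hb, hb']
      simp only [map_add]
      ring
    rw [thetaFun_eq E φ h1, thetaFun_eq E φ hb, thetaFun_eq E φ hb']
    simp only [map_add]
    ring

theorem theta_eq {b : L[T;T⁻¹]} {z₀ z₁ : O} (h : b = E.ψ z₀ + C Q.α * E.ψ z₁) :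
    theta E φ hφ b = E.ψ (φ z₀) + C Q.α * E.ψ (φ z₁) :=
  thetaFun_eq E φ h

theorem theta_psi (z : O) : theta E φ hφ (E.ψ z) = E.ψ (φ z) := by
  have h : E.ψ z = E.ψ z + C Q.α * E.ψ 0 := by simp
  rw [theta_eq E φ hφ h]
  simp

theorem psi_smul_one (k : K) : E.ψ (k • (1 : O)) = C (ι k) := by
  rw [E.smul, map_one, mul_one]

theorem theta_C (l : L) : theta E φ hφ (C l) = C l := by
  obtain ⟨l₀, l₁, rfl⟩ := Q.hbasis l
  have h : (C (ι l₀ + ι l₁ * Q.α) : L[T;T⁻¹]) = E.ψ (l₀ • (1 : O)) + C Q.α * E.ψ (l₁ • (1 : O)) := by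
    rw [psi_smul_one, psi_smul_one, map_add, map_mul]
    ring
  rw [theta_eq E φ hφ h, hφ, hφ, map_one, psi_smul_one, psi_smul_one, map_add, map_mul]
  ring

theorem theta_tau (b : L[T;T⁻¹]) :
    theta E φ hφ (tau Q.σ b) = tau Q.σ (theta E φ hφ b) := by
  have hb := dec_spec E b
  have h1 : tau Q.σ b = E.ψ (dec₀ E b + Q.m • dec₁ E b) + C Q.α * E.ψ (- dec₁ E b) := by
    conv_lhs => rw [hb]
    simp only [map_add, map_mul, E.tau, tau_C, Q.hσα, map_sub, map_neg, E.smul]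
    ring
  rw [theta_eq E φ hφ h1, theta_eq E φ hφ hb]
  simp only [map_add, map_mul, E.tau, tau_C, Q.hσα, map_sub, map_neg, E.smul, hφ]
  ring

end Theta

theorem theta_comp (φ φ' : O →+* O) (hφ : ∀ (k : K) (z : O), φ (k • z) = k • φ z)
    (hφ' : ∀ (k : K) (z : O), φ' (k • z) = k • φ' z) (b : L[T;T⁻¹]) :
    theta E φ hφ (theta E φ' hφ' b) = theta E (φ.comp φ') (fun k z => by
      rw [RingHom.comp_apply, hφ', hφ, RingHom.comp_apply]) b := by
  have hb := dec_spec E b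
  rw [theta_eq E φ' hφ' hb, theta_eq E φ hφ rfl, theta_eq E _ _ hb]
  rfl

theorem theta_id (b : L[T;T⁻¹]) : theta E (RingHom.id O) (fun _ _ => rfl) b = b := by
  have hb := dec_spec E b
  rw [theta_eq E _ _ hb]
  exact hb.symm

end Helper24Conic2
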