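import Mathlib
import Groth.Agent.Lib.Helper24Conic2

namespace Helper24Conic3

open LaurentPolynomial Helper24Conic1 Helper24Conic2

variable {K L : Type*} [Field K] [Field L] [Algebra K L] {Q : QData K L}
  {O : Type*} [CommRing O] [SMul K O] (E : Emb Q O)

/-- `K`-linearity of a ring automorphism -/
def Lin (K : Type*) {O : Type*} [CommRing O] [SMul K O] (g : O ≃+* O) : Prop :=
  ∀ (k : K) (z : O), g (k • z) = k • g z

theorem Lin.symm {g : O ≃+* O} (hg : Lin K g) : Lin K g.symm := by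
  intro k z
  apply g.injective
  rw [hg, g.apply_symm_apply, g.apply_symm_apply]

theorem Lin.mul {g h : O ≃+* O} (hg : Lin K g) (hh : Lin K h) : Lin K (g * h) := by
  intro k z
  rw [RingAut.mul_apply, hh, hg, RingAut.mul_apply]

theorem Lin.one : Lin K (1 : O ≃+* O) := fun _ _ => rfl

theorem Lin.toRingHom {g : O ≃+* O} (hg : Lin K g) :
    ∀ (k : K) (z : O), g.toRingHom (k • z) = k • g.toRingHom z := hg

/-- the extension of a linear automorphism -/
noncomputable def th (g : O ≃+* O) (hg : Lin K g) : L[T;T⁻¹] →+* L[T;T⁻¹] :=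
  theta E g.toRingHom hg.toRingHom

theorem th_psi (g : O ≃+* O) (hg : Lin K g) (z : O) : th E g hg (E.ψ z) = E.ψ (g z) :=
  theta_psi E _ _ z

theorem th_C (g : O ≃+* O) (hg : Lin K g) (l : L) : th E g hg (C l) = C l :=
  theta_C E _ _ l

theorem th_tau (g : O ≃+* O) (hg : Lin K g) (b : L[T;T⁻¹]) :
    th E g hg (tau Q.σ b) = tau Q.σ (th E g hg b) :=
  theta_tau E _ _ b

theorem th_mul (g h : O ≃+* O) (hg : Lin K g) (hh : Lin K h) (b : L[T;T⁻¹]) :
    th E (g * h) (hg.mul hh) b = th E g hg (th E h hh b) := by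
  unfold th
  rw [theta_comp]
  rfl

theorem th_one (b : L[T;T⁻¹]) : th E (1 : O ≃+* O) Lin.one b = b :=
  theta_id E b

theorem th_congr {g h : O ≃+* O} (hgh : g = h) (hg : Lin K g) (hh : Lin K h) (b : L[T;T⁻¹]) :
    th E g hg b = th E h hh b := by
  subst hgh; rfl

/-- an automorphism is determined by its extension -/
theorem eq_of_th_T {g h : O ≃+* O} (hg : Lin K g) (hh : Lin K h)
    (hT : th E g hg (T 1) = th E h hh (T 1)) : g = h := by
  have : th E g hg = th E h hh :=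
    ringHom_ext_T _ _ (fun l => by rw [th_C, th_C]) hT
  ext z
  apply E.inj
  rw [← th_psi E g hg, ← th_psi E h hh, this]

theorem map_T_zpow (θ : L[T;T⁻¹] →+* L[T;T⁻¹]) {c : L} (hc : c ≠ 0) {n : ℤ}
    (h1 : θ (T 1) = C c * T n) (h2 : θ (T (-1)) = C c⁻¹ * T (-n)) (k : ℤ) :
    θ (T k) = C (c ^ k) * T (n * k) := by
  induction k using Int.induction_on with
  | zero => simp
  | succ i ih =>
    rw [T_add, map_mul, ih, h1, zpow_add_one₀ hc, map_mul, mul_add, mul_one, T_add]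
    ring
  | pred i ih =>
    rw [sub_eq_add_neg, T_add, map_mul, ih, h2, ← sub_eq_add_neg, zpow_sub_one₀ hc, map_mul,
      mul_sub, mul_one, sub_eq_add_neg, T_add]
    ring

theorem exists_cn (g : O ≃+* O) (hg : Lin K g) :
    ∃ (c : L) (n : ℤ), c ≠ 0 ∧ (n = 1 ∨ n = -1) ∧ th E g hg (T 1) = C c * T n ∧
      th E g hg (T (-1)) = C c⁻¹ * T (-n) ∧ Q.σ c * c = 1 := by
  have hu : th E g hg (T 1) * th E g hg (T (-1)) = 1 := by
    rw [← map_mul, ← T_add]; simp
  obtain ⟨c, n, hc, h1⟩ := eq_C_mul_T_of_mul_eq_one hu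
  have h2 : th E g hg (T (-1)) = C c⁻¹ * T (-n) := by
    have hinv : (C c * T n : L[T;T⁻¹]) * (C c⁻¹ * T (-n)) = 1 := by
      calc (C c * T n : L[T;T⁻¹]) * (C c⁻¹ * T (-n)) = C (c * c⁻¹) * (T n * T (-n)) := by
            rw [map_mul]; ring
        _ = 1 := by rw [mul_inv_cancel₀ hc, ← T_add]; simp
    calc th E g hg (T (-1)) = th E g hg (T (-1)) * ((C c * T n) * (C c⁻¹ * T (-n))) := by
          rw [hinv, mul_one]
      _ = (th E g hg (T 1) * th E g hg (T (-1))) * (C c⁻¹ * T (-n)) := by rw [h1]; ring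
      _ = C c⁻¹ * T (-n) := by rw [hu, one_mul]
  -- the inverse
  have hu' : th E g.symm hg.symm (T 1) * th E g.symm hg.symm (T (-1)) = 1 := by
    rw [← map_mul, ← T_add]; simp
  obtain ⟨d, n', hd, h1'⟩ := eq_C_mul_T_of_mul_eq_one hu'
  have hcomp : th E g hg (th E g.symm hg.symm (T 1)) = T 1 := by
    rw [← th_mul E g g.symm hg hg.symm]
    have : g * g.symm = 1 := by
      ext z; simp [RingAut.mul_apply]
    rw [th_congr E this _ Lin.one, th_one]
  rw [h1', map_mul, th_C, map_T_zpow _ hc h1 h2 n', ← mul_assoc, ← map_mul] at hcomp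
  have hT1 : (T 1 : L[T;T⁻¹]) = C 1 * T 1 := by simp
  rw [hT1] at hcomp
  have hdc : d * c ^ n' ≠ 0 := mul_ne_zero hd (zpow_ne_zero _ hc)
  obtain ⟨_, hnn⟩ := C_mul_T_inj hdc hcomp
  have hn : n = 1 ∨ n = -1 := Int.eq_one_or_neg_one_of_mul_eq_one hnn
  refine ⟨c, n, hc, hn, h1, h2, ?_⟩
  -- the norm condition
  have hτ := th_tau E g hg (T 1)
  rw [tau_T, h2, h1, map_mul, tau_C, tau_T] at hτ
  obtain ⟨hcc, _⟩ := C_mul_T_inj (inv_ne_zero hc) hτ
  rw [← hcc, inv_mul_cancel₀ hc]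

theorem Lin.pow {g : O ≃+* O} (hg : Lin K g) : ∀ k : ℕ, Lin K (g ^ k)
  | 0 => by rw [pow_zero]; exact Lin.one
  | k + 1 => by rw [pow_succ]; exact (Lin.pow hg k).mul hg

theorem rot_pow {g : O ≃+* O} (hg : Lin K g) {c : L}
    (h1 : th E g hg (T 1) = C c * T 1) :
    ∀ k : ℕ, th E (g ^ k) (hg.pow k) (T 1) = C (c ^ k) * T 1
  | 0 => by
    rw [th_congr E (pow_zero g) _ Lin.one, th_one]; simp
  | k + 1 => by
    rw [th_congr E (pow_succ g k) _ ((hg.pow k).mul hg), th_mul E (g ^ k) g (hg.pow k) hg, h1,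
      map_mul, th_C, rot_pow hg h1 k, pow_succ, map_mul]
    ring

theorem mem_range_of_pow_eq_one {N : ℕ} (hN : 0 < N)
    (hs : (Polynomial.X ^ N - 1 : Polynomial K).Splits) (c : L) (hc : c ^ N = 1) :
    ∃ k : K, algebraMap K L k = c := by
  obtain ⟨m, hm⟩ := Polynomial.splits_iff_exists_multiset.1 hs
  have hmonic : (Polynomial.X ^ N - 1 : Polynomial K).Monic :=
    Polynomial.monic_X_pow_sub_C 1 hN.ne'
  rw [hmonic.leadingCoeff, Polynomial.C_1, one_mul] at hm
  have h1 : Polynomial.eval₂ (algebraMap K L) c (Polynomial.X ^ N - 1 : Polynomial K) = 0 := by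
    simp [Polynomial.eval₂_sub, Polynomial.eval₂_pow, hc]
  rw [hm, ← Polynomial.eval_map, Polynomial.map_multiset_prod, Polynomial.eval_multiset_prod,
    Multiset.map_map, Multiset.map_map] at h1
  rw [Multiset.prod_eq_zero_iff] at h1
  obtain ⟨k, _, hk⟩ := Multiset.mem_map.1 h1
  refine ⟨k, ?_⟩
  simp only [Function.comp_apply, Polynomial.map_sub, Polynomial.map_X, Polynomial.map_C,
    Polynomial.eval_sub, Polynomial.eval_X, Polynomial.eval_C] at hk
  exact (sub_eq_zero.1 hk).symm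

section Group

variable (G : Subgroup (O ≃+* O)) [Finite G] (hG : ∀ g ∈ G, Lin K g)
  (hK : ∀ n : ℕ, 0 < n → (Polynomial.X ^ n - 1 : Polynomial K).Splits)

include hK in
theorem rot_c_eq {g : O ≃+* O} (hgG : g ∈ G) (hg : Lin K g) {c : L}
    (h1 : th E g hg (T 1) = C c * T 1) (hσ : Q.σ c * c = 1) : c = 1 ∨ c = -1 := by
  have hN : 0 < Nat.card G := Nat.card_pos
  have hpow : g ^ Nat.card G = 1 := by
    have h := pow_card_eq_one' (x := (⟨g, hgG⟩ : G))
    rw [Subtype.ext_iff, Subgroup.coe_pow, Subgroup.coe_one] at h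
    exact h
  have h2 := rot_pow E hg h1 (Nat.card G)
  rw [th_congr E hpow _ Lin.one, th_one] at h2
  have h2' : (C 1 * T 1 : L[T;T⁻¹]) = C (c ^ Nat.card G) * T 1 := by
    rw [← h2]; simp
  have hcN : c ^ Nat.card G = 1 := by
    obtain ⟨h3, _⟩ := C_mul_T_inj one_ne_zero h2'
    exact h3.symm
  obtain ⟨k, rfl⟩ := mem_range_of_pow_eq_one hN (hK _ hN) c hcN
  rw [Q.hσK] at hσ
  exact mul_self_eq_one_iff.1 hσ

include E hK in
theorem sq_eq_one {g : O ≃+* O} (hgG : g ∈ G) (hg : Lin K g) : g ^ 2 = 1 := by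
  obtain ⟨c, n, hc, hn, h1, h2, hσ⟩ := exists_cn E g hg
  have hT1 : th E (g ^ 2) (hg.pow 2) (T 1) = T 1 := by
    rw [th_congr E (pow_two g) _ (hg.mul hg), th_mul E g g hg hg]
    rcases hn with rfl | rfl
    · have hc2 : c * c = 1 := by
        rcases rot_c_eq E G hK hgG hg h1 hσ with rfl | rfl <;> simp
      rw [h1, map_mul, th_C, h1, ← mul_assoc, ← map_mul, hc2]; simp
    · rw [h1, map_mul, th_C, h2, ← mul_assoc, ← map_mul, mul_inv_cancel₀ hc]; simp
  apply eq_of_th_T E (hg.pow 2) Lin.one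
  rw [hT1, th_one]

theorem refl_mul_refl {r g : O ≃+* O} (hr : Lin K r) (hg : Lin K g) {c d : L}
    (hr2 : th E r hr (T (-1)) = C c⁻¹ * T 1)
    (hg1 : th E g hg (T 1) = C d * T (-1)) :
    th E (r * g) (hr.mul hg) (T 1) = C (d * c⁻¹) * T 1 := by
  rw [th_mul E r g hr hg, hg1, map_mul, th_C, hr2, ← mul_assoc, ← map_mul]

include E hG hK in
theorem card_le_four : Nat.card G ≤ 4 := by
  classical
  -- choose the data
  have hex : ∀ g : G, ∃ (c : L) (n : ℤ), c ≠ 0 ∧ (n = 1 ∨ n = -1) ∧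
      th E g.1 (hG g.1 g.2) (T 1) = C c * T n ∧
      th E g.1 (hG g.1 g.2) (T (-1)) = C c⁻¹ * T (-n) ∧ Q.σ c * c = 1 :=
    fun g => exists_cn E g.1 (hG g.1 g.2)
  choose cO nO hc0 hn h1 h2 hσ using hex
  -- a reflection if there is one
  let r : G := if h : ∃ r : G, nO r = -1 then h.choose else 1
  have hr : (∃ r : G, nO r = -1) → nO r = -1 := by
    intro h
    simp only [r, dif_pos h]
    exact h.choose_spec
  -- rotations
  have hrot : ∀ g : G, nO g = 1 → cO g = 1 ∨ cO g = -1 := by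
    intro g hg
    have := h1 g
    rw [hg] at this
    exact rot_c_eq E G hK g.2 (hG g.1 g.2) this (hσ g)
  have hrr : ∀ g : G, nO g = -1 → nO (r * g) = 1 ∧ cO (r * g) = cO g * (cO r)⁻¹ := by
    intro g hg
    have hrn := hr ⟨g, hg⟩
    have e1 := h2 r
    rw [hrn] at e1
    have e2 := h1 g
    rw [hg] at e2
    have e3 := refl_mul_refl E (hG r.1 r.2) (hG g.1 g.2) e1 e2
    have e4 := h1 (r * g)
    have e5 : th E (r * g).1 (hG _ (r * g).2) (T 1) =
        th E (r.1 * g.1) ((hG r.1 r.2).mul (hG g.1 g.2)) (T 1) := rfl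
    rw [e5, e3] at e4
    obtain ⟨h3, h4⟩ := C_mul_T_inj (mul_ne_zero (hc0 g) (inv_ne_zero (hc0 r))) e4
    exact ⟨h4.symm, h3.symm⟩
  let f : G → Bool × Bool := fun g =>
    if nO g = 1 then (true, decide (cO g = 1)) else (false, decide (cO (r * g) = 1))
  have hrot_eq : ∀ g h : G, nO g = 1 → nO h = 1 → (cO g = 1 ↔ cO h = 1) → g = h := by
    intro g h hg hh hiff
    have hc : cO g = cO h := by
      rcases hrot g hg with h3 | h3
      · rw [h3, hiff.1 h3]
      · rcases hrot h hh with h4 | h4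
        · rw [hiff.2 h4, h4]
        · rw [h3, h4]
    apply Subtype.ext
    apply eq_of_th_T E (hG g.1 g.2) (hG h.1 h.2)
    rw [h1 g, h1 h, hg, hh, hc]
  have hf : Function.Injective f := by
    intro g h hgh
    by_cases hg : nO g = 1
    · by_cases hh : nO h = 1
      · simp only [f, if_pos hg, if_pos hh, Prod.mk.injEq, true_and, decide_eq_decide] at hgh
        exact hrot_eq g h hg hh hgh
      · simp [f, if_pos hg, if_neg hh] at hgh
    · by_cases hh : nO h = 1
      · simp [f, if_neg hg, if_pos hh] at hgh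
      · simp only [f, if_neg hg, if_neg hh, Prod.mk.injEq, true_and, decide_eq_decide] at hgh
        have hg' : nO g = -1 := (hn g).resolve_left hg
        have hh' : nO h = -1 := (hn h).resolve_left hh
        have := hrot_eq (r * g) (r * h) (hrr g hg').1 (hrr h hh').1 hgh
        exact mul_left_cancel this
  calc Nat.card G ≤ Nat.card (Bool × Bool) := Nat.card_le_card_of_injective f hf
    _ = 4 := by simp [Nat.card_eq_fintype_card]

include E hG hK in
/-- the abstract main theorem -/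
theorem main : (∀ g ∈ G, g ^ 2 = 1) ∧ Nat.card G ≤ 4 :=
  ⟨fun g hg => sq_eq_one E G hK hg (hG g hg), card_le_four E G hG hK⟩

end Group

end Helper24Conic3
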