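import Mathlib
import Groth.Prelude.Def_W4c3degenlocivbPfaff

namespace Helper24Pfaff1

open W4c3degenlocivb

variable {R : Type*} [CommRing R]

theorem pf_zero (T : Matrix (Fin 0) (Fin 0) R) : pf 0 T = 1 := rfl

theorem pf_one (T : Matrix (Fin 1) (Fin 1) R) : pf 1 T = 0 := rfl

theorem pf_succ_succ (n : ℕ) (T : Matrix (Fin (n + 2)) (Fin (n + 2)) R) :
    pf (n + 2) T = ∑ j : Fin (n + 1),
      (-1) ^ ((j : ℕ) + 1) * T (Fin.last (n + 1)) (Fin.castSucc j) *
        pf n (T.submatrix (Fin.castSucc ∘ j.succAbove) (Fin.castSucc ∘ j.succAbove)) := rfl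

/-- the Pfaffian commutes with ring homomorphisms -/
theorem pf_map {S : Type*} [CommRing S] (f : R →+* S) :
    ∀ (n : ℕ) (T : Matrix (Fin n) (Fin n) R), f (pf n T) = pf n (T.map f)
  | 0, _ => by simp [pf_zero]
  | 1, _ => by simp [pf_one]
  | n + 2, T => by
    rw [pf_succ_succ, pf_succ_succ, map_sum]
    refine Finset.sum_congr rfl fun j _ => ?_
    rw [map_mul, map_mul, map_pow, map_neg, map_one, pf_map f n]
    rfl

/-- the matrix with entries given by a function of the (natural number) indices -/
def ofFun (n : ℕ) (g : ℕ → ℕ → R) : Matrix (Fin n) (Fin n) R := Matrix.of fun a b => g a.val b.val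

theorem ofFun_apply (n : ℕ) (g : ℕ → ℕ → R) (a b : Fin n) : ofFun n g a b = g a.val b.val := rfl

/-- Pfaffian of a tridiagonal skew matrix -/
theorem pf_ofFun_tridiag (g : ℕ → ℕ → R) (h0 : ∀ a b, a + 1 < b → g b a = 0)
    (hskew : ∀ a, g (a + 1) a = - g a (a + 1)) :
    ∀ n : ℕ, pf n (ofFun n g) =
      if Even n then ∏ s ∈ Finset.range (n / 2), g (2 * s) (2 * s + 1) else 0
  | 0 => by simp [pf_zero]
  | 1 => by simp [pf_one]
  | n + 2 => by
    rw [pf_succ_succ]
    rw [Finset.sum_eq_single (Fin.last n)]
    · have hsub : (ofFun (n + 2) g).submatrix (Fin.castSucc ∘ (Fin.last n).succAbove)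
          (Fin.castSucc ∘ (Fin.last n).succAbove) = ofFun n g := by
        ext a b
        simp [ofFun, Fin.succAbove_last]
      rw [hsub, pf_ofFun_tridiag g h0 hskew n]
      have hentry : ofFun (n + 2) g (Fin.last (n + 1)) (Fin.castSucc (Fin.last n)) =
          - g n (n + 1) := by
        simp [ofFun, hskew]
      rw [hentry]
      by_cases hn : Even n
      · have hn2 : Even (n + 2) := by
          rw [Nat.even_add]; simp [hn]
        rw [if_pos hn, if_pos hn2]
        have hdiv : (n + 2) / 2 = n / 2 + 1 := by omega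
        rw [hdiv, Finset.prod_range_succ]
        have h2 : 2 * (n / 2) = n := Nat.two_mul_div_two_of_even hn
        rw [h2]
        have hs : ((-1 : R)) ^ (((Fin.last n : Fin (n + 1)) : ℕ) + 1) = -1 := by
          rw [Fin.val_last]
          exact Odd.neg_one_pow (hn.add_one)
        rw [hs]
        ring
      · have hn2 : ¬ Even (n + 2) := by
          rw [Nat.even_add]; simp [hn]
        rw [if_neg hn, if_neg hn2, mul_zero]
    · intro j _ hj
      have hjlt : (j : ℕ) < n := by
        have := j.is_lt
        have hne : (j : ℕ) ≠ n := fun h => hj (Fin.ext (by simp [h]))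
        omega
      have : ofFun (n + 2) g (Fin.last (n + 1)) (Fin.castSucc j) = 0 := by
        simp only [ofFun, Matrix.of_apply, Fin.val_last, Fin.val_castSucc]
        exact h0 _ _ (by omega)
      rw [this, mul_zero, zero_mul]
    · intro h; exact absurd (Finset.mem_univ _) h

open MvPolynomial in
/-- the Pfaffian of a matrix of linear forms is homogeneous of degree half the size -/
theorem pf_isHomogeneous {σ : Type*} :
    ∀ (n : ℕ) (T : Matrix (Fin n) (Fin n) (MvPolynomial σ R)),
      (∀ a b, (T a b).IsHomogeneous 1) → (pf n T).IsHomogeneous (n / 2)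
  | 0, _, _ => by
    rw [pf_zero]; exact isHomogeneous_one σ R
  | 1, _, _ => by
    rw [pf_one]; exact isHomogeneous_zero σ R _
  | n + 2, T, hT => by
    rw [pf_succ_succ]
    apply IsHomogeneous.sum
    intro j _
    have h1 : (((-1 : MvPolynomial σ R)) ^ ((j : ℕ) + 1)).IsHomogeneous 0 := by
      have := ((isHomogeneous_one σ R).neg).pow ((j : ℕ) + 1)
      simpa using this
    have h2 := hT (Fin.last (n + 1)) (Fin.castSucc j)
    have h3 := pf_isHomogeneous n
      (T.submatrix (Fin.castSucc ∘ j.succAbove) (Fin.castSucc ∘ j.succAbove))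
      (fun a b => hT _ _)
    have h4 := (h1.mul h2).mul h3
    have he : 0 + 1 + n / 2 = (n + 2) / 2 := by omega
    rw [he] at h4
    exact h4

end Helper24Pfaff1
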