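import Mathlib
import Groth.Agent.Lib.Helper24Pfaff1

namespace Helper24Pfaff2

open W4c3degenlocivb Helper24Pfaff1 MvPolynomial

/-- exponent vector of `y₀^j y₁^(r-j)` -/
noncomputable def mon (r : ℕ) (j : Fin (r + 1)) : Fin 2 →₀ ℕ :=
  Finsupp.single 0 (j : ℕ) + Finsupp.single 1 (r - (j : ℕ))

theorem mon_zero (r : ℕ) (j : Fin (r + 1)) : mon r j 0 = j := by simp [mon]

theorem mon_one (r : ℕ) (j : Fin (r + 1)) : mon r j 1 = r - (j : ℕ) := by simp [mon]

theorem mon_degree (r : ℕ) (j : Fin (r + 1)) : (mon r j).degree = r := by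
  rw [Finsupp.degree_eq_sum, Fin.sum_univ_two, mon_zero, mon_one]
  have := j.is_lt
  omega

theorem mon_injective (r : ℕ) : Function.Injective (mon r) := by
  intro j j' h
  have := DFunLike.congr_fun h 0
  rw [mon_zero, mon_zero] at this
  exact Fin.ext this

theorem eq_mon_of_degree {r : ℕ} (d : Fin 2 →₀ ℕ) (hd : d.degree = r) :
    ∃ j : Fin (r + 1), d = mon r j := by
  rw [Finsupp.degree_eq_sum, Fin.sum_univ_two] at hd
  refine ⟨⟨d 0, by omega⟩, ?_⟩
  ext i
  fin_cases i
  · simp [mon_zero]
  · simp only [Fin.mk_one, Fin.isValue, mon_one]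
    omega

variable {k : Type*} [Field k]

theorem homog_eq_sum {r : ℕ} {p : MvPolynomial (Fin 2) k} (hp : p.IsHomogeneous r) :
    p = ∑ j : Fin (r + 1), coeff (mon r j) p • monomial (mon r j) (1 : k) := by
  ext d
  rw [coeff_sum]
  simp only [coeff_smul, coeff_monomial, smul_eq_mul, mul_ite, mul_one, mul_zero]
  by_cases hd : d.degree = r
  · obtain ⟨j0, rfl⟩ := eq_mon_of_degree d hd
    rw [Finset.sum_eq_single j0]
    · rw [if_pos rfl]
    · intro j _ hj
      rw [if_neg]
      intro h
      exact hj (mon_injective r h)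
    · intro h; exact absurd (Finset.mem_univ _) h
  · rw [hp.coeff_eq_zero hd]
    symm
    apply Finset.sum_eq_zero
    intro j _
    rw [if_neg]
    intro h
    apply hd
    rw [← h]
    exact mon_degree r j

theorem span_eq_of_det_ne_zero {r : ℕ} {ι : Type*} (P : ι → MvPolynomial (Fin 2) k)
    (hP : ∀ i, (P i).IsHomogeneous r) (e : Fin (r + 1) → ι)
    (hdet : (Matrix.of fun j j' : Fin (r + 1) => coeff (mon r j') (P (e j))).det ≠ 0) :
    Submodule.span k (Set.range P) = homogeneousSubmodule (Fin 2) k r := by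
  apply le_antisymm
  · rw [Submodule.span_le]
    rintro _ ⟨i, rfl⟩
    exact (mem_homogeneousSubmodule _ _).2 (hP i)
  · intro p hp
    rw [mem_homogeneousSubmodule] at hp
    rw [homog_eq_sum hp]
    refine Submodule.sum_mem _ fun j' _ => Submodule.smul_mem _ _ ?_
    have hunit : IsUnit (Matrix.of fun j j' : Fin (r + 1) => coeff (mon r j') (P (e j))).det :=
      isUnit_iff_ne_zero.2 hdet
    generalize hM : (Matrix.of fun j j' : Fin (r + 1) => coeff (mon r j') (P (e j))) = M at hunit
    have hinv : M⁻¹ * M = 1 := Matrix.nonsing_inv_mul M hunit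
    have hPj : ∀ j, P (e j) = ∑ j'', M j j'' • monomial (mon r j'') (1 : k) := by
      intro j
      rw [← hM]
      exact homog_eq_sum (hP (e j))
    have key : ∑ j, M⁻¹ j' j • P (e j) = monomial (mon r j') (1 : k) := by
      calc ∑ j, M⁻¹ j' j • P (e j)
          = ∑ j, M⁻¹ j' j • ∑ j'', M j j'' • monomial (mon r j'') (1 : k) :=
            Finset.sum_congr rfl fun j _ => by rw [← hPj j]
        _ = ∑ j'', (∑ j, M⁻¹ j' j * M j j'') • monomial (mon r j'') (1 : k) := by
            simp_rw [Finset.smul_sum, smul_smul, Finset.sum_smul]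
            exact Finset.sum_comm
        _ = ∑ j'', (1 : Matrix (Fin (r + 1)) (Fin (r + 1)) k) j' j'' •
              monomial (mon r j'') (1 : k) := by
            refine Finset.sum_congr rfl fun j'' _ => ?_
            rw [← Matrix.mul_apply, hinv]
        _ = monomial (mon r j') (1 : k) := by
            simp [Matrix.one_apply]
    rw [← key]
    exact Submodule.sum_mem _ fun j _ =>
      Submodule.smul_mem _ _ (Submodule.subset_span ⟨e j, rfl⟩)

section Univ

variable {A : Type*} [CommRing A] {B : Type*} [CommRing B]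

/-- the matrix of linear forms attached to a coefficient array -/
noncomputable def Nmat (n : ℕ) (c : Fin n → Fin n → Fin 2 → A) :
    Matrix (Fin n) (Fin n) (MvPolynomial (Fin 2) A) :=
  Matrix.of fun a b => ∑ l : Fin 2, C (c a b l) * X l

theorem Nmat_apply (n : ℕ) (c : Fin n → Fin n → Fin 2 → A) (a b : Fin n) :
    Nmat n c a b = ∑ l : Fin 2, C (c a b l) * X l := rfl

theorem Nmat_map (f : A →+* B) (n : ℕ) (c : Fin n → Fin n → Fin 2 → A) :
    (Nmat n c).map (MvPolynomial.map f) = Nmat n (fun a b l => f (c a b l)) := by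
  refine Matrix.ext fun a b => ?_
  simp [Nmat_apply, Matrix.map_apply]

/-- the principal sub-Pfaffians -/
noncomputable def subPf (r : ℕ) (c : Fin (2 * r + 1) → Fin (2 * r + 1) → Fin 2 → A)
    (i : Fin (2 * r + 1)) : MvPolynomial (Fin 2) A :=
  pf (2 * r) ((Nmat (2 * r + 1) c).submatrix i.succAbove i.succAbove)

theorem subPf_map (f : A →+* B) (r : ℕ) (c : Fin (2 * r + 1) → Fin (2 * r + 1) → Fin 2 → A)
    (i : Fin (2 * r + 1)) :
    MvPolynomial.map f (subPf r c i) = subPf r (fun a b l => f (c a b l)) i := by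
  unfold subPf
  rw [pf_map, ← Nmat_map]
  rfl

theorem subPf_isHomogeneous (r : ℕ) (c : Fin (2 * r + 1) → Fin (2 * r + 1) → Fin 2 → A)
    (i : Fin (2 * r + 1)) : (subPf r c i).IsHomogeneous r := by
  have h := pf_isHomogeneous (2 * r) ((Nmat (2 * r + 1) c).submatrix i.succAbove i.succAbove)
    (fun a b => by
      rw [Matrix.submatrix_apply, Nmat_apply]
      exact IsHomogeneous.sum _ _ _ fun l _ => isHomogeneous_C_mul_X _ _)
  rwa [Nat.mul_div_cancel_left _ (by norm_num : 0 < 2)] at h

/-- the even indices -/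
def idx (r : ℕ) (j : Fin (r + 1)) : Fin (2 * r + 1) := ⟨2 * (j : ℕ), by have := j.is_lt; omega⟩

end Univ

/-- the polynomial `Φ` cutting out the bad locus -/
noncomputable def Phi (k : Type*) [Field k] (r : ℕ) :
    MvPolynomial (Fin (2 * r + 1) × Fin (2 * r + 1) × Fin 2) k :=
  (Matrix.of fun j j' : Fin (r + 1) =>
    coeff (mon r j') (subPf r (fun a b l => (X (a, b, l) :
      MvPolynomial (Fin (2 * r + 1) × Fin (2 * r + 1) × Fin 2) k)) (idx r j))).det

theorem eval_Phi (r : ℕ) (c : Fin (2 * r + 1) → Fin (2 * r + 1) → Fin 2 → k) :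
    MvPolynomial.eval (fun p => c p.1 p.2.1 p.2.2) (Phi k r) =
      (Matrix.of fun j j' : Fin (r + 1) => coeff (mon r j') (subPf r c (idx r j))).det := by
  unfold Phi
  rw [RingHom.map_det]
  congr 1
  refine Matrix.ext fun j j' => ?_
  simp only [RingHom.mapMatrix_apply, Matrix.map_apply, Matrix.of_apply]
  rw [← coeff_map, subPf_map]
  simp only [eval_X]

section Example

/-- the variable `y_{t mod 2}` -/
noncomputable def xv (k : Type*) [Field k] (t : ℕ) : MvPolynomial (Fin 2) k :=
  X ⟨t % 2, Nat.mod_lt _ (by norm_num)⟩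

/-- the entries of the path matrix -/
noncomputable def gN (k : Type*) [Field k] (a b : ℕ) : MvPolynomial (Fin 2) k :=
  if a + 1 = b then xv k a else if b + 1 = a then - xv k b else 0

theorem gN_skew (a b : ℕ) : gN k b a = - gN k a b := by
  unfold gN
  by_cases h1 : a + 1 = b
  · have h2 : ¬ b + 1 = a := by omega
    rw [if_neg h2, if_pos h1, if_pos h1]
  · by_cases h2 : b + 1 = a
    · rw [if_pos h2, if_neg h1, if_pos h2, neg_neg]
    · rw [if_neg h2, if_neg h1, if_neg h1, if_neg h2, neg_zero]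

theorem gN_far (a b : ℕ) (h : a + 1 < b) : gN k b a = 0 := by
  unfold gN
  rw [if_neg (by omega), if_neg (by omega)]

theorem lin_X (i : Fin 2) :
    ∑ l : Fin 2, C (coeff (Finsupp.single l 1) (X i : MvPolynomial (Fin 2) k)) * X l = X i := by
  fin_cases i <;> simp [coeff_X, Finsupp.single_left_inj]

theorem lin_gN (a b : ℕ) :
    ∑ l : Fin 2, C (coeff (Finsupp.single l 1) (gN k a b)) * X l = gN k a b := by
  unfold gN
  split_ifs with h1 h2
  · exact lin_X _
  · unfold xv
    simp only [coeff_neg, map_neg, neg_mul, Finset.sum_neg_distrib]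
    rw [lin_X]
  · simp

/-- the example coefficient array -/
noncomputable def c0 (k : Type*) [Field k] (r : ℕ) :
    Fin (2 * r + 1) → Fin (2 * r + 1) → Fin 2 → k :=
  fun a b l => coeff (Finsupp.single l 1) (gN k a.val b.val)

theorem c0_skew (r : ℕ) (i j : Fin (2 * r + 1)) (l : Fin 2) : c0 k r j i l = - c0 k r i j l := by
  unfold c0
  rw [gN_skew, coeff_neg]

theorem Nmat_c0 (r : ℕ) (a b : Fin (2 * r + 1)) : Nmat (2 * r + 1) (c0 k r) a b = gN k a.val b.val := by
  rw [Nmat_apply]
  exact lin_gN _ _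

/-- the shift skipping the index `2j` -/
def sh (j t : ℕ) : ℕ := if t < 2 * j then t else t + 1

theorem val_succAbove_idx (r : ℕ) (j : Fin (r + 1)) (a : Fin (2 * r)) :
    (((idx r j).succAbove a : Fin (2 * r + 1)) : ℕ) = sh j a := by
  unfold sh
  by_cases h : (a : ℕ) < 2 * j
  · rw [if_pos h, Fin.succAbove_of_castSucc_lt _ _ (by
      rw [Fin.lt_def]; simpa [idx] using h)]
    rfl
  · rw [if_neg h, Fin.succAbove_of_le_castSucc _ _ (by
      rw [Fin.le_def]; simpa [idx] using h)]
    rfl

theorem submatrix_c0 (r : ℕ) (j : Fin (r + 1)) :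
    (Nmat (2 * r + 1) (c0 k r)).submatrix (idx r j).succAbove (idx r j).succAbove =
      ofFun (2 * r) (fun a b => gN k (sh j a) (sh j b)) := by
  refine Matrix.ext fun a b => ?_
  rw [Matrix.submatrix_apply, Nmat_c0, ofFun_apply, val_succAbove_idx, val_succAbove_idx]

theorem sh_lt {j a b : ℕ} (h : a + 1 < b) : sh j a + 1 < sh j b := by
  unfold sh; split_ifs <;> omega

theorem prod_ite_lt (x y : MvPolynomial (Fin 2) k) (j : ℕ) :
    ∀ r : ℕ, ∏ s ∈ Finset.range r, (if s < j then x else y) = x ^ (min j r) * y ^ (r - j)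
  | 0 => by simp
  | r + 1 => by
    rw [Finset.prod_range_succ, prod_ite_lt x y j r]
    by_cases h : r < j
    · rw [if_pos h]
      have h1 : min j r = r := by omega
      have h2 : min j (r + 1) = r + 1 := by omega
      have h3 : r - j = 0 := by omega
      have h4 : r + 1 - j = 0 := by omega
      rw [h1, h2, h3, h4, pow_succ]
      ring
    · rw [if_neg h]
      have h1 : min j r = j := by omega
      have h2 : min j (r + 1) = j := by omega
      have h4 : r + 1 - j = (r - j) + 1 := by omega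
      rw [h1, h2, h4, pow_succ]
      ring

theorem subPf_c0 (r : ℕ) (j : Fin (r + 1)) :
    subPf r (c0 k r) (idx r j) = monomial (mon r j) (1 : k) := by
  unfold subPf
  rw [submatrix_c0, pf_ofFun_tridiag _ (fun a b h => gN_far _ _ (sh_lt h))
    (fun a => gN_skew _ _) (2 * r)]
  rw [if_pos (even_two_mul r), Nat.mul_div_cancel_left _ (by norm_num : 0 < 2)]
  have hterm : ∀ s ∈ Finset.range r, gN k (sh j (2 * s)) (sh j (2 * s + 1)) =
      if s < (j : ℕ) then (X 0 : MvPolynomial (Fin 2) k) else X 1 := by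
    intro s _
    by_cases h : s < (j : ℕ)
    · rw [if_pos h]
      have h1 : sh j (2 * s) = 2 * s := by unfold sh; rw [if_pos (by omega)]
      have h2 : sh j (2 * s + 1) = 2 * s + 1 := by unfold sh; rw [if_pos (by omega)]
      rw [h1, h2]
      unfold gN
      rw [if_pos rfl]
      unfold xv
      congr 1
      apply Fin.ext
      simp
    · rw [if_neg h]
      have h1 : sh j (2 * s) = 2 * s + 1 := by unfold sh; rw [if_neg (by omega)]
      have h2 : sh j (2 * s + 1) = 2 * s + 1 + 1 := by unfold sh; rw [if_neg (by omega)]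
      rw [h1, h2]
      unfold gN
      rw [if_pos rfl]
      unfold xv
      congr 1
      apply Fin.ext
      simp [Nat.add_mod]
  rw [Finset.prod_congr rfl hterm, prod_ite_lt]
  have hj : min (j : ℕ) r = j := by have := j.is_lt; omega
  rw [hj, X_pow_eq_monomial, X_pow_eq_monomial, monomial_mul, one_mul]
  rfl

theorem det_c0 (r : ℕ) :
    (Matrix.of fun j j' : Fin (r + 1) => coeff (mon r j') (subPf r (c0 k r) (idx r j))).det = 1 := by
  have : (Matrix.of fun j j' : Fin (r + 1) => coeff (mon r j') (subPf r (c0 k r) (idx r j))) =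
      (1 : Matrix (Fin (r + 1)) (Fin (r + 1)) k) := by
    refine Matrix.ext fun j j' => ?_
    rw [Matrix.of_apply, subPf_c0, coeff_monomial, Matrix.one_apply]
    by_cases h : j = j'
    · rw [if_pos h, if_pos (by rw [h])]
    · rw [if_neg h, if_neg (fun h' => h (mon_injective r h'))]
  rw [this, Matrix.det_one]

end Example

theorem main (k : Type*) [Field k] (r : ℕ) :
    ∃ Φ : MvPolynomial (Fin (2 * r + 1) × Fin (2 * r + 1) × Fin 2) k,
      (∃ c : Fin (2 * r + 1) → Fin (2 * r + 1) → Fin 2 → k, (∀ i j l, c j i l = -c i j l) ∧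
        MvPolynomial.eval (fun p => c p.1 p.2.1 p.2.2) Φ ≠ 0) ∧
      ∀ c : Fin (2 * r + 1) → Fin (2 * r + 1) → Fin 2 → k, (∀ i j l, c j i l = -c i j l) →
        MvPolynomial.eval (fun p => c p.1 p.2.1 p.2.2) Φ ≠ 0 →
        Submodule.span k (Set.range fun i : Fin (2 * r + 1) =>
            W4c3degenlocivb.pf (2 * r) ((Matrix.of fun a b => ∑ l : Fin 2,
              MvPolynomial.C (c a b l) * MvPolynomial.X l).submatrix i.succAbove i.succAbove)) =
          MvPolynomial.homogeneousSubmodule (Fin 2) k r := by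
  refine ⟨Phi k r, ⟨c0 k r, c0_skew r, ?_⟩, ?_⟩
  · rw [eval_Phi, det_c0]
    exact one_ne_zero
  · intro c _ hc
    rw [eval_Phi] at hc
    exact span_eq_of_det_ne_zero (fun i => subPf r c i) (fun i => subPf_isHomogeneous r c i)
      (idx r) hc

end Helper24Pfaff2
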