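import Mathlib
import Groth.Agent.Lib.Helper24Conic3
import Groth.Agent.Lib.Helper24Pfaff2

namespace Helper24Conic4

open Helper24Conic2

section Quad

open Polynomial

variable {K : Type*} [Field K]

/-- the dehomogenised quadratic -/
noncomputable def quadPoly (a b c : K) : K[X] := C a * X ^ 2 + C b * X + C c

theorem eval₂_quadPoly {S : Type*} [CommRing S] (a b c : K) (f : K →+* S) (x : S) :
    eval₂ f x (quadPoly a b c) = f a * x ^ 2 + f b * x + f c := by
  simp [quadPoly, eval₂_add, eval₂_mul, eval₂_pow]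

theorem natDegree_quadPoly {a : K} (ha : a ≠ 0) (b c : K) : (quadPoly a b c).natDegree = 2 :=
  natDegree_quadratic ha

variable (a b c : K) [hp : Fact (Irreducible (quadPoly a b c))]

theorem root_eq :
    algebraMap K (AdjoinRoot (quadPoly a b c)) a * AdjoinRoot.root (quadPoly a b c) ^ 2 +
      algebraMap K (AdjoinRoot (quadPoly a b c)) b * AdjoinRoot.root (quadPoly a b c) +
      algebraMap K (AdjoinRoot (quadPoly a b c)) c = 0 := by
  have h := AdjoinRoot.eval₂_root (quadPoly a b c)
  rw [eval₂_quadPoly] at h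
  exact h

theorem exists_basis (ha : a ≠ 0) (l : AdjoinRoot (quadPoly a b c)) :
    ∃ l₀ l₁ : K, l = algebraMap K _ l₀ + algebraMap K _ l₁ * AdjoinRoot.root (quadPoly a b c) := by
  have hp0 : quadPoly a b c ≠ 0 := hp.out.ne_zero
  obtain ⟨f, hf, rfl⟩ := (AdjoinRoot.powerBasis hp0).exists_eq_aeval l
  rw [AdjoinRoot.powerBasis_dim, natDegree_quadPoly ha] at hf
  have hf1 : f.natDegree ≤ 1 := by omega
  refine ⟨f.coeff 0, f.coeff 1, ?_⟩
  conv_lhs => rw [eq_X_add_C_of_natDegree_le_one hf1]
  simp [AdjoinRoot.powerBasis_gen, add_comm, AdjoinRoot.algebraMap_eq]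

/-- the quadratic data attached to `a X² + b X + c` -/
noncomputable def qdata (ha : a ≠ 0) (hdisc : b ^ 2 - 4 * a * c ≠ 0) :
    QData K (AdjoinRoot (quadPoly a b c)) where
  α := AdjoinRoot.root _
  m := -b / a
  n := -c / a
  hα := by
    have h := root_eq a b c
    have ha' : algebraMap K (AdjoinRoot (quadPoly a b c)) a ≠ 0 := by
      rw [Ne, map_eq_zero]; exact ha
    rw [map_div₀, map_div₀, map_neg, map_neg]
    field_simp
    linear_combination h
  hbasis := exists_basis a b c ha
  σ := AdjoinRoot.lift (algebraMap K _) (algebraMap K _ (-b / a) - AdjoinRoot.root _) (by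
    have h := root_eq a b c
    have ha' : algebraMap K (AdjoinRoot (quadPoly a b c)) a ≠ 0 := by
      rw [Ne, map_eq_zero]; exact ha
    rw [eval₂_quadPoly, map_div₀, map_neg]
    field_simp
    linear_combination (algebraMap K (AdjoinRoot (quadPoly a b c)) a) * h)
  hσK k := AdjoinRoot.lift_of _
  hσα := AdjoinRoot.lift_root _
  hne := by
    rw [AdjoinRoot.lift_root]
    intro h
    have h0 := root_eq a b c
    have ha' : algebraMap K (AdjoinRoot (quadPoly a b c)) a ≠ 0 := by
      rw [Ne, map_eq_zero]; exact ha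
    apply hdisc
    apply (algebraMap K (AdjoinRoot (quadPoly a b c))).injective
    rw [map_zero, map_sub, map_pow, map_mul, map_mul]
    rw [map_div₀, map_neg] at h
    have h2 : algebraMap K (AdjoinRoot (quadPoly a b c)) b =
        - 2 * algebraMap K (AdjoinRoot (quadPoly a b c)) a * AdjoinRoot.root (quadPoly a b c) := by
      field_simp at h
      linear_combination -h
    have h4 : (algebraMap K (AdjoinRoot (quadPoly a b c)) (4 : K)) = 4 := map_ofNat _ 4
    rw [h4, h2]
    rw [h2] at h0
    linear_combination (-4 * algebraMap K (AdjoinRoot (quadPoly a b c)) a) * h0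

end Quad

section Form

open MvPolynomial

variable {K : Type*} [Field K] (q : MvPolynomial (Fin 2) K)

/-- coefficient of `x²` -/
noncomputable def qa : K := q.coeff (Finsupp.single 0 2)
/-- coefficient of `xy` -/
noncomputable def qb : K := q.coeff (Finsupp.single 0 1 + Finsupp.single 1 1)
/-- coefficient of `y²` -/
noncomputable def qc : K := q.coeff (Finsupp.single 1 2)

theorem q_eq (hq : q.IsHomogeneous 2) :
    q = MvPolynomial.C (qa q) * X 0 ^ 2 + MvPolynomial.C (qb q) * (X 0 * X 1) +
      MvPolynomial.C (qc q) * X 1 ^ 2 := by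
  have h := Helper24Pfaff2.homog_eq_sum hq
  rw [Fin.sum_univ_three] at h
  have e0 : Helper24Pfaff2.mon 2 (0 : Fin 3) = Finsupp.single 1 2 := by
    simp [Helper24Pfaff2.mon]
  have e1 : Helper24Pfaff2.mon 2 (1 : Fin 3) = Finsupp.single 0 1 + Finsupp.single 1 1 := by
    simp [Helper24Pfaff2.mon]
  have e2 : Helper24Pfaff2.mon 2 (2 : Fin 3) = Finsupp.single 0 2 := by
    simp [Helper24Pfaff2.mon]
  rw [e0, e1, e2] at h
  conv_lhs => rw [h]
  unfold qa qb qc
  have m0 : (monomial (Finsupp.single (1 : Fin 2) 2)) (1 : K) = X 1 ^ 2 :=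
    (X_pow_eq_monomial).symm
  have m2 : (monomial (Finsupp.single (0 : Fin 2) 2)) (1 : K) = X 0 ^ 2 :=
    (X_pow_eq_monomial).symm
  have m1 : (monomial (Finsupp.single (0 : Fin 2) 1 + Finsupp.single (1 : Fin 2) 1)) (1 : K) =
      X 0 * X 1 := by
    rw [X, X, monomial_mul, one_mul]
  rw [MvPolynomial.smul_eq_C_mul, MvPolynomial.smul_eq_C_mul, MvPolynomial.smul_eq_C_mul,
    m0, m1, m2]
  ring

theorem not_irreducible_of_mul {u v : MvPolynomial (Fin 2) K}
    (hu : MvPolynomial.eval (0 : Fin 2 → K) u = 0)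
    (hv : MvPolynomial.eval (0 : Fin 2 → K) v = 0) : ¬ Irreducible (u * v) := by
  intro h
  rcases h.isUnit_or_isUnit rfl with h1 | h1
  · have := h1.map (MvPolynomial.eval (0 : Fin 2 → K))
    rw [hu] at this
    exact not_isUnit_zero this
  · have := h1.map (MvPolynomial.eval (0 : Fin 2 → K))
    rw [hv] at this
    exact not_isUnit_zero this

theorem qa_ne_zero (hq : q.IsHomogeneous 2) (hirr : Irreducible q) : qa q ≠ 0 := by
  intro h0
  have h := q_eq q hq
  rw [h0] at h
  have h2 : q = X 1 * (MvPolynomial.C (qb q) * X 0 + MvPolynomial.C (qc q) * X 1) := by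
    conv_lhs => rw [h]
    rw [map_zero, zero_mul, zero_add]; ring
  rw [h2] at hirr
  exact not_irreducible_of_mul (by simp) (by simp) hirr

theorem quadPoly_irreducible (hq : q.IsHomogeneous 2) (hirr : Irreducible q) :
    Irreducible (quadPoly (qa q) (qb q) (qc q)) := by
  have ha := qa_ne_zero q hq hirr
  apply Polynomial.irreducible_of_degree_le_three_of_not_isRoot
  · rw [natDegree_quadPoly ha]; simp
  · intro r hr
    rw [Polynomial.IsRoot, ← Polynomial.eval₂_id, eval₂_quadPoly] at hr
    simp only [RingHom.id_apply] at hr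
    have h := q_eq q hq
    have h2 : q = (X 0 - MvPolynomial.C r * X 1) *
        (MvPolynomial.C (qa q) * X 0 + MvPolynomial.C (qa q * r + qb q) * X 1) := by
      have hc : qc q = -(qa q * r ^ 2 + qb q * r) := by linear_combination hr
      conv_lhs => rw [h, hc]
      simp only [map_add, map_mul, map_neg, map_pow]
      ring
    rw [h2] at hirr
    exact not_irreducible_of_mul (by simp) (by simp) hirr

end Form

end Helper24Conic4
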