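import Mathlib
import Groth.Agent.Lib.Helper24Conic4

namespace Helper24Conic5

open LaurentPolynomial Helper24Conic1 Helper24Conic2 Helper24Conic4

variable {K L : Type*} [Field K] [Field L] [Algebra K L] (Q : QData K L)

local notation "ι" => algebraMap K L

example : IsDomain L[T;T⁻¹] := inferInstance

/-- image of `x` -/
noncomputable def xB : L[T;T⁻¹] := C (Q.σ Q.α) * T 1 - C Q.α
/-- image of `y` -/
noncomputable def yB : L[T;T⁻¹] := T 1 - 1

/-- evaluation at `T = 1` -/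
noncomputable def ev₁ : L[T;T⁻¹] →+* L := LaurentPolynomial.eval₂ (RingHom.id L) (1 : Lˣ)

theorem ev₁_C (l : L) : ev₁ (C l) = l := by simp [ev₁]
theorem ev₁_T (n : ℤ) : ev₁ (T n : L[T;T⁻¹]) = 1 := by simp [ev₁]

theorem ev₁_xB : ev₁ (xB Q) = Q.σ Q.α - Q.α := by
  simp [xB, ev₁_C, ev₁_T]

theorem ev₁_yB : ev₁ (yB (L := L)) = 0 := by
  simp [yB, ev₁_T]

theorem yB_ne_zero : (yB (L := L)) ≠ 0 := by
  intro h
  have h1 : (T 1 : L[T;T⁻¹]) = 1 := sub_eq_zero.1 h
  have h2 : (C 1 * T 1 : L[T;T⁻¹]) = C 1 * T 0 := by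
    rw [h1, T_zero]
  obtain ⟨_, h3⟩ := C_mul_T_inj one_ne_zero h2
  exact one_ne_zero h3

theorem lin_indep : ∀ (d : ℕ) (c : ℕ → L),
    ∑ j ∈ Finset.range (d + 1), C (c j) * xB Q ^ j * yB ^ (d - j) = 0 → ∀ j ≤ d, c j = 0
  | 0, c, h => by
    intro j hj
    obtain rfl : j = 0 := by omega
    simpa using h
  | d + 1, c, h => by
    have hlast : c (d + 1) = 0 := by
      have h1 := congrArg ev₁ h
      rw [map_sum, Finset.sum_range_succ, map_zero] at h1
      have h2 : ∑ j ∈ Finset.range (d + 1), ev₁ (C (c j) * xB Q ^ j * yB ^ (d + 1 - j)) = 0 := by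
        apply Finset.sum_eq_zero
        intro j hj
        have : d + 1 - j = (d - j) + 1 := by
          have := Finset.mem_range.1 hj; omega
        rw [this, pow_succ, map_mul, map_mul, map_mul, ev₁_yB, mul_zero, mul_zero]
      rw [h2, zero_add] at h1
      simp only [map_mul, map_pow, ev₁_C, ev₁_xB, Nat.sub_self, pow_zero, mul_one] at h1
      have hne : Q.σ Q.α - Q.α ≠ 0 := sub_ne_zero.2 Q.hne
      exact (mul_eq_zero.1 h1).resolve_right (pow_ne_zero _ hne)
    have hrest : ∑ j ∈ Finset.range (d + 1), C (c j) * xB Q ^ j * yB ^ (d - j) = 0 := by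
      rw [Finset.sum_range_succ, hlast, map_zero, zero_mul, zero_mul, add_zero] at h
      have h3 : ∑ j ∈ Finset.range (d + 1), C (c j) * xB Q ^ j * yB ^ (d + 1 - j) =
          yB * ∑ j ∈ Finset.range (d + 1), C (c j) * xB Q ^ j * yB ^ (d - j) := by
        rw [Finset.mul_sum]
        apply Finset.sum_congr rfl
        intro j hj
        have : d + 1 - j = (d - j) + 1 := by
          have := Finset.mem_range.1 hj; omega
        rw [this, pow_succ]
        ring
      rw [h3] at h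
      exact (mul_eq_zero.1 h).resolve_left yB_ne_zero
    intro j hj
    rcases Nat.lt_or_ge j (d + 1) with h4 | h4
    · exact lin_indep d c hrest j (by omega)
    · obtain rfl : j = d + 1 := by omega
      exact hlast

section Psi

open MvPolynomial Helper24Pfaff2

/-- the substitution map -/
noncomputable def Psi : MvPolynomial (Fin 2) K →+* L[T;T⁻¹] :=
  MvPolynomial.eval₂Hom ((LaurentPolynomial.C : L →+* L[T;T⁻¹]).comp (algebraMap K L))
    ![xB Q, yB]

theorem Psi_C (k : K) : Psi Q (MvPolynomial.C k) = LaurentPolynomial.C (ι k) := by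
  simp [Psi]

theorem Psi_X0 : Psi Q (X 0) = xB Q := by simp [Psi]

theorem Psi_X1 : Psi Q (X 1) = yB := by simp [Psi]

theorem Psi_monomial (d : ℕ) (j : Fin (d + 1)) :
    Psi Q (monomial (mon d j) 1) = xB Q ^ (j : ℕ) * yB ^ (d - (j : ℕ)) := by
  have : (monomial (mon d j)) (1 : K) = X 0 ^ (j : ℕ) * X 1 ^ (d - (j : ℕ)) := by
    rw [X_pow_eq_monomial, X_pow_eq_monomial, monomial_mul, one_mul]
    rfl
  rw [this, map_mul, map_pow, map_pow, Psi_X0, Psi_X1]

theorem Psi_eq_sum {d : ℕ} {f : MvPolynomial (Fin 2) K} (hf : f.IsHomogeneous d) :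
    Psi Q f = ∑ j : Fin (d + 1),
      LaurentPolynomial.C (ι (coeff (mon d j) f)) * (xB Q ^ (j : ℕ) * yB ^ (d - (j : ℕ))) := by
  conv_lhs => rw [homog_eq_sum hf]
  rw [map_sum]
  refine Finset.sum_congr rfl fun j _ => ?_
  rw [MvPolynomial.smul_eq_C_mul, map_mul, Psi_C, Psi_monomial]

theorem eq_zero_of_Psi_eq_zero {d : ℕ} {f : MvPolynomial (Fin 2) K} (hf : f.IsHomogeneous d)
    (h : Psi Q f = 0) : f = 0 := by
  rw [Psi_eq_sum Q hf] at h
  let c : ℕ → L := fun j => if hj : j < d + 1 then ι (coeff (mon d ⟨j, hj⟩) f) else 0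
  have h2 : ∑ j ∈ Finset.range (d + 1), LaurentPolynomial.C (c j) * xB Q ^ j * yB ^ (d - j) = 0 := by
    rw [Finset.sum_range]
    rw [← h]
    refine Finset.sum_congr rfl fun j _ => ?_
    simp only [c, dif_pos j.is_lt, Fin.eta]
    ring
  have h3 := lin_indep Q d c h2
  rw [homog_eq_sum hf]
  apply Finset.sum_eq_zero
  intro j _
  have h4 := h3 j (by have := j.is_lt; omega)
  simp only [c, dif_pos j.is_lt, Fin.eta] at h4
  have h5 : coeff (mon d j) f = 0 := (map_eq_zero (algebraMap K L)).1 h4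
  rw [h5, zero_smul]

end Psi

section Tau

open MvPolynomial Helper24Pfaff2

/-- the twisting unit `-T⁻¹` -/
noncomputable def wB : L[T;T⁻¹] := - T (-1)

theorem sigma_sigma_alpha : Q.σ (Q.σ Q.α) = Q.α := by
  rw [Q.hσα, map_sub, Q.hσK, Q.hσα]; ring

theorem tau_xB : tau Q.σ (xB Q) = wB * xB Q := by
  unfold xB wB
  rw [map_sub, map_mul, tau_C, tau_C, tau_T, sigma_sigma_alpha]
  have h : (T (-1) : L[T;T⁻¹]) * T 1 = 1 := by rw [← T_add]; simp
  linear_combination (LaurentPolynomial.C (Q.σ Q.α)) * h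

theorem tau_yB : tau Q.σ (yB (L := L)) = wB * yB := by
  unfold yB wB
  rw [map_sub, map_one, tau_T]
  have h : (T (-1) : L[T;T⁻¹]) * T 1 = 1 := by rw [← T_add]; simp
  linear_combination h

theorem tau_Psi {d : ℕ} {f : MvPolynomial (Fin 2) K} (hf : f.IsHomogeneous d) :
    tau Q.σ (Psi Q f) = wB ^ d * Psi Q f := by
  rw [Psi_eq_sum Q hf, map_sum, Finset.mul_sum]
  refine Finset.sum_congr rfl fun j _ => ?_
  rw [map_mul, map_mul, map_pow, map_pow, tau_C, Q.hσK, tau_xB, tau_yB, mul_pow, mul_pow]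
  have hd : (wB : L[T;T⁻¹]) ^ d = wB ^ (j : ℕ) * wB ^ (d - (j : ℕ)) := by
    rw [← pow_add]
    congr 1
    have := j.is_lt; omega
  rw [hd]
  ring

end Tau

section PsiQ

open MvPolynomial Helper24Pfaff2

variable (q : MvPolynomial (Fin 2) K) (hq : q.IsHomogeneous 2)
  (hb : qb q = -(qa q * Q.m)) (hc : qc q = -(qa q * Q.n))

theorem disc_ne_zero : Q.m ^ 2 + 4 * Q.n ≠ 0 := by
  intro h
  have h1 : (Q.σ Q.α - Q.α) ^ 2 = ι (Q.m ^ 2 + 4 * Q.n) := by
    rw [Q.hσα, map_add, map_pow, map_mul, map_ofNat]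
    linear_combination 4 * Q.hα
  rw [h, map_zero] at h1
  exact sub_ne_zero.2 Q.hne (pow_eq_zero_iff (two_ne_zero) |>.1 h1)

/-- the coefficient of `T` in the image of `q` -/
noncomputable def eK : K := qa q * (Q.m ^ 2 + 4 * Q.n)

include hq hb hc in
theorem Psi_q : Psi Q q = LaurentPolynomial.C (ι (eK Q q)) * T 1 := by
  conv_lhs => rw [q_eq q hq]
  simp only [map_add, map_mul, map_pow, Psi_C, Psi_X0, Psi_X1]
  rw [hb, hc]
  unfold xB yB eK
  rw [Q.hσα]
  simp only [map_neg, map_mul, map_sub, map_add, map_pow, map_ofNat]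
  linear_combination
    (LaurentPolynomial.C (ι (qa q)) * (T 1 ^ 2 + 2 * T 1 + 1)) * hαC Q

/-- the inverse of the image of `q` -/
noncomputable def uB : L[T;T⁻¹] := LaurentPolynomial.C (ι (eK Q q))⁻¹ * T (-1)

include hq hb hc in
theorem Psi_q_mul_uB (ha : qa q ≠ 0) : Psi Q q * uB Q q = 1 := by
  rw [Psi_q Q q hq hb hc]
  unfold uB
  have he : ι (eK Q q) ≠ 0 := by
    rw [Ne, map_eq_zero]
    exact mul_ne_zero ha (disc_ne_zero Q)
  calc LaurentPolynomial.C (ι (eK Q q)) * T 1 * (LaurentPolynomial.C (ι (eK Q q))⁻¹ * T (-1))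
      = LaurentPolynomial.C (ι (eK Q q) * (ι (eK Q q))⁻¹) * (T 1 * T (-1)) := by
        rw [map_mul]; ring
    _ = 1 := by rw [mul_inv_cancel₀ he, ← T_add]; simp

include hq hb hc in
theorem isUnit_Psi_q (ha : qa q ≠ 0) : IsUnit (Psi Q q) :=
  IsUnit.of_mul_eq_one _ (Psi_q_mul_uB Q q hq hb hc ha)

end PsiQ

end Helper24Conic5
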