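import Mathlib
import Groth.Agent.Lib.Helper24Conic5

attribute [local instance] MvPolynomial.gradedAlgebra

namespace Helper24Conic6

open LaurentPolynomial Helper24Conic1 Helper24Conic2 Helper24Conic4 Helper24Conic5

variable {K L : Type*} [Field K] [Field L] [Algebra K L] (Q : QData K L)

local notation "ι" => algebraMap K L

variable (q : MvPolynomial (Fin 2) K)

/-- the coordinate ring of the complement of `q = 0` in the projective line -/
abbrev OO : Type _ :=
  HomogeneousLocalization.Away (MvPolynomial.homogeneousSubmodule (Fin 2) K) q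

section Defs

variable (hu : IsUnit (Psi Q q))

/-- the embedding into Laurent polynomials -/
noncomputable def psi : OO q →+* L[T;T⁻¹] :=
  (IsLocalization.Away.lift q hu).comp (algebraMap (OO q) (Localization.Away q))

variable (hq : q.IsHomogeneous 2)

include hq in
theorem hq2 : q ∈ MvPolynomial.homogeneousSubmodule (Fin 2) K 2 :=
  (MvPolynomial.mem_homogeneousSubmodule _ _).2 hq

theorem psi_mk (n : ℕ) (f : MvPolynomial (Fin 2) K)
    (hf : f ∈ MvPolynomial.homogeneousSubmodule (Fin 2) K (n • 2)) :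
    psi Q q hu (HomogeneousLocalization.Away.mk _ (hq2 q hq) n f hf) * Psi Q q ^ n = Psi Q f := by
  unfold psi
  rw [RingHom.comp_apply, HomogeneousLocalization.algebraMap_apply,
    HomogeneousLocalization.Away.val_mk, Localization.mk_eq_mk']
  have h := IsLocalization.mk'_spec (Localization.Away q) f
    (⟨q ^ n, n, rfl⟩ : Submonoid.powers q)
  have h2 := congrArg (IsLocalization.Away.lift q hu) h
  rw [map_mul, IsLocalization.Away.lift_eq, IsLocalization.Away.lift_eq, map_pow] at h2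
  exact h2

end Defs

section Props

variable (hu : IsUnit (Psi Q q)) (hq : q.IsHomogeneous 2)

include hq in
theorem psi_injective : Function.Injective (psi Q q hu) := by
  rw [injective_iff_map_eq_zero]
  intro z hz
  obtain ⟨n, f, hf, rfl⟩ := HomogeneousLocalization.Away.mk_surjective _ (hq2 q hq) z
  have h := psi_mk Q q hu hq n f hf
  rw [hz, zero_mul] at h
  have hf0 : f = 0 :=
    eq_zero_of_Psi_eq_zero Q ((MvPolynomial.mem_homogeneousSubmodule _ _).1 hf) h.symm
  subst hf0
  apply HomogeneousLocalization.val_injective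
  rw [HomogeneousLocalization.Away.val_mk, HomogeneousLocalization.val_zero, Localization.mk_zero]

include hq in
theorem psi_smul (k : K) (z : OO q) :
    psi Q q hu (k • z) = LaurentPolynomial.C (ι k) * psi Q q hu z := by
  obtain ⟨n, f, hf, rfl⟩ := HomogeneousLocalization.Away.mk_surjective _ (hq2 q hq) z
  have hkf : k • f ∈ MvPolynomial.homogeneousSubmodule (Fin 2) K (n • 2) :=
    Submodule.smul_mem _ _ hf
  have e : k • HomogeneousLocalization.Away.mk _ (hq2 q hq) n f hf =
      HomogeneousLocalization.Away.mk _ (hq2 q hq) n (k • f) hkf := by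
    apply HomogeneousLocalization.val_injective
    rw [HomogeneousLocalization.val_smul, HomogeneousLocalization.Away.val_mk,
      HomogeneousLocalization.Away.val_mk, Localization.smul_mk]
  rw [e]
  have h1 := psi_mk Q q hu hq n (k • f) hkf
  have h2 := psi_mk Q q hu hq n f hf
  have h3 : Psi Q (k • f) = LaurentPolynomial.C (ι k) * Psi Q f := by
    rw [MvPolynomial.smul_eq_C_mul, map_mul, Psi_C]
  have h4 := h1.trans h3
  rw [← h2, ← mul_assoc] at h4
  exact (hu.pow n).mul_left_inj.1 h4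

theorem wB_mul : (wB : L[T;T⁻¹]) * (- T 1) = 1 := by
  unfold wB
  rw [neg_mul_neg, ← T_add]; simp

theorem isUnit_wB : IsUnit (wB : L[T;T⁻¹]) := IsUnit.of_mul_eq_one _ wB_mul

include hq in
theorem psi_tau (z : OO q) : tau Q.σ (psi Q q hu z) = psi Q q hu z := by
  obtain ⟨n, f, hf, rfl⟩ := HomogeneousLocalization.Away.mk_surjective _ (hq2 q hq) z
  have h := psi_mk Q q hu hq n f hf
  have h2 := congrArg (tau Q.σ) h
  rw [map_mul, map_pow, tau_Psi Q hq,
    tau_Psi Q ((MvPolynomial.mem_homogeneousSubmodule _ _).1 hf), ← h] at h2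
  have h3 : (n • 2 : ℕ) = 2 * n := by rw [smul_eq_mul, mul_comm]
  rw [h3, mul_pow, ← pow_mul] at h2
  have h4 : tau Q.σ (psi Q q hu (HomogeneousLocalization.Away.mk _ (hq2 q hq) n f hf)) *
      (wB ^ (2 * n) * Psi Q q ^ n) =
      psi Q q hu (HomogeneousLocalization.Away.mk _ (hq2 q hq) n f hf) *
      (wB ^ (2 * n) * Psi Q q ^ n) := by
    rw [h2]; ring
  exact ((isUnit_wB.pow _).mul (hu.pow n)).mul_left_inj.1 h4

end Props

section Span

open MvPolynomial

variable (hq : q.IsHomogeneous 2) (ha : qa q ≠ 0)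
  (hb : qb q = -(qa q * Q.m)) (hc : qc q = -(qa q * Q.n))

theorem X1sq_mem : (X 1 ^ 2 : MvPolynomial (Fin 2) K) ∈
    MvPolynomial.homogeneousSubmodule (Fin 2) K (1 • 2) := by
  rw [MvPolynomial.mem_homogeneousSubmodule]
  exact isHomogeneous_X_pow _ _

theorem X0X1_mem : (X 0 * X 1 : MvPolynomial (Fin 2) K) ∈
    MvPolynomial.homogeneousSubmodule (Fin 2) K (1 • 2) := by
  rw [MvPolynomial.mem_homogeneousSubmodule]
  exact (isHomogeneous_X _ _).mul (isHomogeneous_X _ _)

include hq ha hb hc in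
theorem T_mem_span (hu : IsUnit (Psi Q q)) :
    (T 1 : L[T;T⁻¹]) ∈ Submodule.span L (Set.range (psi Q q hu)) ∧
    (T (-1) : L[T;T⁻¹]) ∈ Submodule.span L (Set.range (psi Q q hu)) := by
  have hinv := Psi_q_mul_uB Q q hq hb hc ha
  have h0 := psi_mk Q q hu hq 1 _ X1sq_mem
  have h1 := psi_mk Q q hu hq 1 _ X0X1_mem
  rw [pow_one, map_pow, Psi_X1] at h0
  rw [pow_one, map_mul, Psi_X0, Psi_X1] at h1
  set z₀ := HomogeneousLocalization.Away.mk _ (hq2 q hq) 1 (X 1 ^ 2) X1sq_mem with hz₀
  set z₁ := HomogeneousLocalization.Away.mk _ (hq2 q hq) 1 (X 0 * X 1) X0X1_mem with hz₁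
  have e0 : psi Q q hu z₀ = yB ^ 2 * uB Q q := by
    calc psi Q q hu z₀ = psi Q q hu z₀ * (Psi Q q * uB Q q) := by rw [hinv, mul_one]
      _ = (psi Q q hu z₀ * Psi Q q) * uB Q q := by ring
      _ = yB ^ 2 * uB Q q := by rw [h0]
  have e1 : psi Q q hu z₁ = xB Q * yB * uB Q q := by
    calc psi Q q hu z₁ = psi Q q hu z₁ * (Psi Q q * uB Q q) := by rw [hinv, mul_one]
      _ = (psi Q q hu z₁ * Psi Q q) * uB Q q := by ring
      _ = xB Q * yB * uB Q q := by rw [h1]
  have he : ι (eK Q q) ≠ 0 := by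
    rw [Ne, map_eq_zero]
    exact mul_ne_zero ha (disc_ne_zero Q)
  have hE : LaurentPolynomial.C (ι (eK Q q)) * uB Q q = T (-1) := by
    unfold uB
    rw [← mul_assoc, ← map_mul, mul_inv_cancel₀ he, map_one, one_mul]
  have hT : (T (-1) : L[T;T⁻¹]) * T 1 = 1 := by rw [← T_add]; simp
  have hδ0 : Q.σ Q.α - Q.α ≠ 0 := sub_ne_zero.2 Q.hne
  have hδ : LaurentPolynomial.C (Q.σ Q.α - Q.α)⁻¹ *
      (LaurentPolynomial.C (Q.σ Q.α) - LaurentPolynomial.C Q.α) = (1 : L[T;T⁻¹]) := by
    rw [← map_sub, ← map_mul, inv_mul_cancel₀ hδ0, map_one]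
  have h1mem : (1 : L[T;T⁻¹]) ∈ Submodule.span L (Set.range (psi Q q hu)) :=
    Submodule.subset_span ⟨1, map_one _⟩
  have hz0mem : psi Q q hu z₀ ∈ Submodule.span L (Set.range (psi Q q hu)) :=
    Submodule.subset_span ⟨z₀, rfl⟩
  have hz1mem : psi Q q hu z₁ ∈ Submodule.span L (Set.range (psi Q q hu)) :=
    Submodule.subset_span ⟨z₁, rfl⟩
  constructor
  · have : (T 1 : L[T;T⁻¹]) = 1 + ((Q.σ Q.α - Q.α)⁻¹ * ι (eK Q q)) • psi Q q hu z₁ -
        ((Q.σ Q.α - Q.α)⁻¹ * Q.α * ι (eK Q q)) • psi Q q hu z₀ := by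
      rw [LaurentPolynomial.smul_eq_C_mul, LaurentPolynomial.smul_eq_C_mul, e0, e1]
      simp only [map_mul]
      unfold xB yB
      linear_combination
        (-(T 1 - 1 : L[T;T⁻¹])) * hT +
        (-(T (-1) * (T 1 - 1) * T 1 : L[T;T⁻¹])) * hδ +
        (-(LaurentPolynomial.C (Q.σ Q.α - Q.α)⁻¹ * (T 1 - 1) *
          (LaurentPolynomial.C (Q.σ Q.α) - LaurentPolynomial.C Q.α) * T 1 : L[T;T⁻¹])) * hE
    rw [this]
    exact Submodule.sub_mem _ (Submodule.add_mem _ h1mem (Submodule.smul_mem _ _ hz1mem))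
      (Submodule.smul_mem _ _ hz0mem)
  · have : (T (-1) : L[T;T⁻¹]) = 1 - ((Q.σ Q.α - Q.α)⁻¹ * ι (eK Q q)) • psi Q q hu z₁ +
        ((Q.σ Q.α - Q.α)⁻¹ * Q.σ Q.α * ι (eK Q q)) • psi Q q hu z₀ := by
      rw [LaurentPolynomial.smul_eq_C_mul, LaurentPolynomial.smul_eq_C_mul, e0, e1]
      simp only [map_mul]
      unfold xB yB
      linear_combination
        ((T 1 - 1 : L[T;T⁻¹]) * T (-1)) * hδ +
        ((LaurentPolynomial.C (Q.σ Q.α - Q.α)⁻¹ * (T 1 - 1) *
          (LaurentPolynomial.C (Q.σ Q.α) - LaurentPolynomial.C Q.α) : L[T;T⁻¹])) * hE + hT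
    rw [this]
    exact Submodule.add_mem _ (Submodule.sub_mem _ h1mem (Submodule.smul_mem _ _ hz1mem))
      (Submodule.smul_mem _ _ hz0mem)

end Span

section Final

variable (hq : q.IsHomogeneous 2) (ha : qa q ≠ 0)
  (hb : qb q = -(qa q * Q.m)) (hc : qc q = -(qa q * Q.n))

include hq ha hb hc in
theorem span_eq_top (hu : IsUnit (Psi Q q)) :
    Submodule.span L (Set.range (psi Q q hu)) = ⊤ := by
  have hS : Subalgebra.toSubmodule (Algebra.adjoin L (Set.range (psi Q q hu))) =
      Submodule.span L (Set.range (psi Q q hu)) := by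
    rw [Algebra.adjoin_eq_span]
    congr 1
    have : Set.range (psi Q q hu) =
        ↑(MonoidHom.mrange ((psi Q q hu : OO q →+* L[T;T⁻¹]) : OO q →* L[T;T⁻¹])) := by
      ext b; simp
    rw [this, Submonoid.closure_eq]
  obtain ⟨h1, h2⟩ := T_mem_span Q q hq ha hb hc hu
  rw [← hS] at h1 h2 ⊢
  rw [eq_top_iff]
  intro b hbtop
  clear hbtop
  rw [Subalgebra.mem_toSubmodule] at h1 h2 ⊢
  induction b using LaurentPolynomial.induction_on' with
  | add p r hp hr => exact Subalgebra.add_mem _ hp hr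
  | C_mul_T n a =>
    apply Subalgebra.mul_mem
    · rw [LaurentPolynomial.C_eq_algebraMap]
      exact Subalgebra.algebraMap_mem _ _
    · rcases Int.le_total 0 n with hn | hn
      · obtain ⟨k, rfl⟩ := Int.eq_ofNat_of_zero_le hn
        have : (T (k : ℤ) : L[T;T⁻¹]) = T 1 ^ k := by rw [T_pow, mul_one]
        rw [this]
        exact Subalgebra.pow_mem _ h1 _
      · obtain ⟨k, hk⟩ := Int.eq_ofNat_of_zero_le (neg_nonneg.2 hn)
        have hn' : n = -(k : ℤ) := by omega
        have : (T n : L[T;T⁻¹]) = T (-1) ^ k := by rw [T_pow, hn']; congr 1; ring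
        rw [this]
        exact Subalgebra.pow_mem _ h2 _

/-- the embedding data for the coordinate ring of the complement of `q = 0` -/
noncomputable def emb : Emb Q (OO q) where
  ψ := psi Q q (isUnit_Psi_q Q q hq hb hc ha)
  inj := psi_injective Q q _ hq
  smul := psi_smul Q q _ hq
  tau := psi_tau Q q _ hq
  span := span_eq_top Q q hq ha hb hc _

end Final

end Helper24Conic6
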