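import Mathlib
import Groth.Agent.Lib.Helper24Conic6

attribute [local instance] MvPolynomial.gradedAlgebra

namespace Helper24Conic7

open Helper24Conic2 Helper24Conic3 Helper24Conic4 Helper24Conic6

universe u

theorem main (K : Type u) [Field K]
    (hK : ∀ n : ℕ, 0 < n → (Polynomial.X ^ n - 1 : Polynomial K).Splits)
    (q : MvPolynomial (Fin 2) K) (hq : q.IsHomogeneous 2) (hirr : Irreducible q)
    (hdisc : (q.coeff (Finsupp.single 0 1 + Finsupp.single 1 1)) ^ 2 -
      4 * q.coeff (Finsupp.single 0 2) * q.coeff (Finsupp.single 1 2) ≠ 0)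
    (G : Subgroup (HomogeneousLocalization.Away (MvPolynomial.homogeneousSubmodule (Fin 2) K) q ≃+*
      HomogeneousLocalization.Away (MvPolynomial.homogeneousSubmodule (Fin 2) K) q)) [Finite G]
    (hG : ∀ g ∈ G, ∀ (k : K)
      (z : HomogeneousLocalization.Away (MvPolynomial.homogeneousSubmodule (Fin 2) K) q),
      g (k • z) = k • g z) :
    (∀ g ∈ G, g ^ 2 = 1) ∧ Nat.card G ≤ 4 := by
  have ha : qa q ≠ 0 := qa_ne_zero q hq hirr
  have : Fact (Irreducible (quadPoly (qa q) (qb q) (qc q))) :=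
    ⟨quadPoly_irreducible q hq hirr⟩
  have hdisc' : qb q ^ 2 - 4 * qa q * qc q ≠ 0 := hdisc
  have hb : qb q = -(qa q * (qdata (qa q) (qb q) (qc q) ha hdisc').m) := by
    change qb q = -(qa q * (-qb q / qa q))
    field_simp
  have hc : qc q = -(qa q * (qdata (qa q) (qb q) (qc q) ha hdisc').n) := by
    change qc q = -(qa q * (-qc q / qa q))
    field_simp
  exact Helper24Conic3.main (emb (qdata (qa q) (qb q) (qc q) ha hdisc') q hq ha hb hc) G
    (fun g hg => hG g hg) hK

end Helper24Conic7
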