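import Mathlib

set_option autoImplicit false
set_option linter.unusedSectionVars false

namespace Groth.Agent.Lib.Helper24Conn

universe u

theorem idem_local {L : Type*} [CommRing L] [IsLocalRing L] {x : L} (hx : IsIdempotentElem x) :
    x = 0 ∨ x = 1 := by
  rcases IsLocalRing.isUnit_or_isUnit_one_sub_self x with h | h
  · right
    have : x * x = x * 1 := by rw [mul_one]; exact hx
    exact h.mul_left_cancel this
  · left
    have : (1 - x) * x = (1 - x) * 0 := by rw [mul_zero, sub_mul, one_mul, hx.eq, sub_self]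
    exact h.mul_left_cancel this

theorem idem_eq {R A : Type*} [CommRing R] [Nontrivial R] [CommRing A] (ε : A →+* R) (J : Ideal A)
    (hJ : J ≤ RingHom.ker ε)
    (e e' : A) (he : IsIdempotentElem e) (heε : ε e = 1)
    (he' : IsIdempotentElem (Ideal.Quotient.mk J e')) (he'ε : ε e' = 1)
    [IsLocalRing (A ⧸ Ideal.span ({1 - e} : Set A))]
    [IsLocalRing (A ⧸ (J ⊔ Ideal.span ({1 - e'} : Set A)))] :
    Ideal.Quotient.mk J e = Ideal.Quotient.mk J e' := by
  have h1 : e' * e' - e' ∈ J := by
    rw [← Ideal.Quotient.eq, map_mul]; exact he'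
  have hk1 : J ⊔ Ideal.span ({1 - e'} : Set A) ≤ RingHom.ker ε := by
    refine sup_le hJ ?_
    rw [Ideal.span_le, Set.singleton_subset_iff]
    simp [RingHom.mem_ker, he'ε]
  have hk2 : J ⊔ Ideal.span ({1 - e} : Set A) ≤ RingHom.ker ε := by
    refine sup_le hJ ?_
    rw [Ideal.span_le, Set.singleton_subset_iff]
    simp [RingHom.mem_ker, heε]
  -- Step 1
  have s1 : e * e' - e' ∈ J := by
    have hid : IsIdempotentElem (Ideal.Quotient.mk (J ⊔ Ideal.span ({1 - e'} : Set A)) e) := by
      unfold IsIdempotentElem; rw [← map_mul, he.eq]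
    rcases idem_local hid with h0 | h0
    · exfalso
      rw [Ideal.Quotient.eq_zero_iff_mem] at h0
      have := hk1 h0
      rw [RingHom.mem_ker, heε] at this
      exact one_ne_zero this
    · rw [← map_one (Ideal.Quotient.mk _), Ideal.Quotient.eq] at h0
      obtain ⟨j, hj, z, hz, hjz⟩ := Submodule.mem_sup.mp h0
      obtain ⟨c, rfl⟩ := Ideal.mem_span_singleton'.mp hz
      have : e * e' - e' = j * e' + (-c) * (e' * e' - e') := by
        have : e * e' - e' = (e - 1) * e' := by ring
        rw [this, ← hjz]; ring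
      rw [this]
      exact J.add_mem (J.mul_mem_right _ hj) (J.mul_mem_left _ h1)
  -- Step 2
  have s2 : e' * e - e ∈ J := by
    have hne : J ⊔ Ideal.span ({1 - e} : Set A) ≠ ⊤ := by
      intro htop
      have : (1 : A) ∈ RingHom.ker ε := hk2 (htop ▸ Submodule.mem_top)
      rw [RingHom.mem_ker, map_one] at this
      exact one_ne_zero this
    have : Nontrivial (A ⧸ (J ⊔ Ideal.span ({1 - e} : Set A))) :=
      Ideal.Quotient.nontrivial_iff.mpr hne
    have : IsLocalRing (A ⧸ (J ⊔ Ideal.span ({1 - e} : Set A))) :=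
      IsLocalRing.of_surjective' (Ideal.Quotient.factor (le_sup_right : Ideal.span ({1 - e} : Set A) ≤ J ⊔ Ideal.span ({1 - e} : Set A)))
        (Ideal.Quotient.factor_surjective _)
    have hid : IsIdempotentElem (Ideal.Quotient.mk (J ⊔ Ideal.span ({1 - e} : Set A)) e') := by
      unfold IsIdempotentElem; rw [← map_mul, Ideal.Quotient.eq]
      exact le_sup_left (a := J) h1
    rcases idem_local hid with h0 | h0
    · exfalso
      rw [Ideal.Quotient.eq_zero_iff_mem] at h0
      have := hk2 h0
      rw [RingHom.mem_ker, he'ε] at this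
      exact one_ne_zero this
    · rw [← map_one (Ideal.Quotient.mk _), Ideal.Quotient.eq] at h0
      obtain ⟨j, hj, z, hz, hjz⟩ := Submodule.mem_sup.mp h0
      obtain ⟨c, rfl⟩ := Ideal.mem_span_singleton'.mp hz
      have : e' * e - e = j * e := by
        have h2 : e' * e - e = (e' - 1) * e := by ring
        have h3 : (1 - e) * e = 0 := by rw [sub_mul, one_mul, he.eq, sub_self]
        rw [h2, ← hjz, add_mul, mul_assoc, h3, mul_zero, add_zero]
      rw [this]
      exact J.mul_mem_right _ hj
  have e1 : Ideal.Quotient.mk J (e * e') = Ideal.Quotient.mk J e' := Ideal.Quotient.eq.mpr s1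
  have e2 : Ideal.Quotient.mk J (e' * e) = Ideal.Quotient.mk J e := Ideal.Quotient.eq.mpr s2
  rw [← e2, mul_comm, e1]

theorem ff_of_local {R A'' A : Type u} [CommRing R] [CommRing A''] [CommRing A]
    [Algebra R A''] [Algebra R A] [Algebra A'' A] [IsScalarTower R A'' A] [Module.Finite R A]
    [Module.Flat A'' A] (e'' : A'') (e : A) (he'' : IsIdempotentElem e'') (he : IsIdempotentElem e)
    [IsLocalRing (A'' ⧸ Ideal.span ({1 - e''} : Set A''))]
    [IsLocalRing (A ⧸ Ideal.span ({1 - e} : Set A))]
    (g : (A'' ⧸ Ideal.span ({1 - e''} : Set A'')) →+* (A ⧸ Ideal.span ({1 - e} : Set A)))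
    (hg : g.comp (Ideal.Quotient.mk (Ideal.span ({1 - e''} : Set A''))) =
      (Ideal.Quotient.mk (Ideal.span ({1 - e} : Set A))).comp (algebraMap A'' A)) :
    g.FaithfullyFlat := by
  let algg : Algebra (A'' ⧸ Ideal.span ({1 - e''} : Set A'')) (A ⧸ Ideal.span ({1 - e} : Set A)) :=
    g.toAlgebra
  have tower1 : IsScalarTower A'' (A'' ⧸ Ideal.span ({1 - e''} : Set A''))
      (A ⧸ Ideal.span ({1 - e} : Set A)) :=
    IsScalarTower.of_algebraMap_eq (fun x => by
      rw [RingHom.algebraMap_toAlgebra]
      exact (RingHom.congr_fun hg x).symm)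
  have loc'' : IsLocalization.Away e'' (A'' ⧸ Ideal.span ({1 - e''} : Set A'')) :=
    IsLocalization.Away.quotient_of_isIdempotentElem he''
  have loc : IsLocalization.Away e (A ⧸ Ideal.span ({1 - e} : Set A)) :=
    IsLocalization.Away.quotient_of_isIdempotentElem he
  have f1 : Module.Flat A (A ⧸ Ideal.span ({1 - e} : Set A)) :=
    IsLocalization.flat (A ⧸ Ideal.span ({1 - e} : Set A)) (Submonoid.powers e)
  have f2 : Module.Flat A'' (A ⧸ Ideal.span ({1 - e} : Set A)) :=
    Module.Flat.trans A'' A (A ⧸ Ideal.span ({1 - e} : Set A))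
  have f3 : Module.Flat (A'' ⧸ Ideal.span ({1 - e''} : Set A'')) (A ⧸ Ideal.span ({1 - e} : Set A)) :=
    (Module.flat_iff_of_isLocalization (A'' ⧸ Ideal.span ({1 - e''} : Set A''))
      (Submonoid.powers e'') (A ⧸ Ideal.span ({1 - e} : Set A))).mpr f2
  have hint : g.IsIntegral := by
    have hfin : Module.Finite R (A ⧸ Ideal.span ({1 - e} : Set A)) :=
      Module.Finite.of_surjective (Ideal.Quotient.mkₐ R (Ideal.span ({1 - e} : Set A))).toLinearMap
        (Ideal.Quotient.mkₐ_surjective R _)
    have h0 : (algebraMap R (A ⧸ Ideal.span ({1 - e} : Set A))).IsIntegral :=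
      algebraMap_isIntegral_iff.mpr inferInstance
    have hcomp : algebraMap R (A ⧸ Ideal.span ({1 - e} : Set A)) =
        g.comp (algebraMap R (A'' ⧸ Ideal.span ({1 - e''} : Set A''))) := by
      ext r
      have := RingHom.congr_fun hg (algebraMap R A'' r)
      simp only [RingHom.comp_apply] at this ⊢
      rw [← IsScalarTower.algebraMap_apply R A'' A] at this
      exact this.symm
    rw [hcomp] at h0
    exact RingHom.IsIntegral.tower_top _ _ h0
  have hloc : IsLocalHom (algebraMap (A'' ⧸ Ideal.span ({1 - e''} : Set A''))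
      (A ⧸ Ideal.span ({1 - e} : Set A))) := by
    rw [RingHom.algebraMap_toAlgebra]
    constructor
    intro a ha
    by_contra hna
    have hmem : a ∈ IsLocalRing.maximalIdeal (A'' ⧸ Ideal.span ({1 - e''} : Set A'')) := hna
    have hmax := Ideal.isMaximal_comap_of_isIntegral_of_isMaximal' g hint
      (IsLocalRing.maximalIdeal (A ⧸ Ideal.span ({1 - e} : Set A)))
    have := IsLocalRing.eq_maximalIdeal hmax
    rw [← this] at hmem
    exact hmem ha
  exact Module.FaithfullyFlat.of_flat_of_isLocalHom

end Groth.Agent.Lib.Helper24Conn
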