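import Mathlib
import Groth.Prelude.Def_W4c1etcurveeff2TopGrp

/-!
# Continuous `ℤ/n`-characters of a topologically finitely generated group

Helper library for S14176.
-/

namespace Groth.Agent.Lib.Helper24ContChar

universe u

open scoped commutatorElement

abbrev Z (n : ℕ) := Multiplicative (ZMod n)

theorem Z_pow (n : ℕ) [NeZero n] (z : Z n) : z ^ n = 1 := by
  have h := pow_card_eq_one' (G := Z n) (x := z)
  have hc : Nat.card (Z n) = n := by
    rw [Nat.card_eq_fintype_card, Fintype.card_multiplicative, ZMod.card]
  rwa [hc] at h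

instance hasEnough (n : ℕ) [NeZero n] : HasEnoughRootsOfUnity (Z n) n where
  prim := ⟨Multiplicative.ofAdd 1, by
    have : orderOf (Multiplicative.ofAdd (1 : ZMod n)) = n := by
      rw [orderOf_ofAdd_eq_addOrderOf, ZMod.addOrderOf_one]
    have h := IsPrimitiveRoot.orderOf (Multiplicative.ofAdd (1 : ZMod n))
    rwa [this] at h⟩
  cyc := by
    haveI : IsCyclic (Z n)ˣ :=
      isCyclic_of_surjective (toUnits : Z n ≃* (Z n)ˣ) toUnits.surjective
    infer_instance

section Core

variable {G : Type u} [Group G] (n : ℕ) [NeZero n] (S : Subgroup G) [S.Normal]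

/-- The quotient by a normal subgroup containing all commutators is commutative. -/
@[reducible] def commQ (hcomm : ∀ a b : G, ⁅a, b⁆ ∈ S) : CommGroup (G ⧸ S) :=
  { (inferInstance : Group (G ⧸ S)) with
    mul_comm := by
      intro x y
      induction x using QuotientGroup.induction_on with
      | H a =>
        induction y using QuotientGroup.induction_on with
        | H b =>
          rw [← QuotientGroup.mk_mul, ← QuotientGroup.mk_mul, QuotientGroup.eq]
          have := hcomm b⁻¹ a⁻¹
          rw [commutatorElement_def] at this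
          simpa [mul_assoc] using this }

theorem exponent_dvd (hpow : ∀ g : G, g ^ n ∈ S) : Monoid.exponent (G ⧸ S) ∣ n := by
  apply Monoid.exponent_dvd_of_forall_pow_eq_one
  intro x
  induction x using QuotientGroup.induction_on with
  | H a =>
    rw [← QuotientGroup.mk_pow, QuotientGroup.eq_one_iff]
    exact hpow a

variable [S.FiniteIndex]

theorem core_sep (hcomm : ∀ a b : G, ⁅a, b⁆ ∈ S) (hpow : ∀ g : G, g ^ n ∈ S) (g : G) (hg : g ∉ S) :
    ∃ χ : G →* Z n, S ≤ χ.ker ∧ χ g ≠ 1 := by
  letI := commQ S hcomm
  haveI : HasEnoughRootsOfUnity (Z n) (Monoid.exponent (G ⧸ S)) :=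
    HasEnoughRootsOfUnity.of_dvd (Z n) (exponent_dvd n S hpow)
  have hne : (QuotientGroup.mk g : G ⧸ S) ≠ 1 := by
    rwa [ne_eq, QuotientGroup.eq_one_iff]
  obtain ⟨φ, hφ⟩ := CommGroup.exists_apply_ne_one_of_hasEnoughRootsOfUnity (G ⧸ S) (Z n) hne
  refine ⟨((toUnits (G := Z n)).symm.toMonoidHom.comp φ).comp (QuotientGroup.mk' S), ?_, ?_⟩
  · intro x hx
    rw [MonoidHom.mem_ker]
    have : (x : G ⧸ S) = 1 := (QuotientGroup.eq_one_iff x).mpr hx
    simp [this]
  · intro h
    apply hφ
    have : (toUnits (G := Z n)).symm (φ (QuotientGroup.mk g)) = 1 := h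
    simpa using this

theorem core_dual (hcomm : ∀ a b : G, ⁅a, b⁆ ∈ S) (hpow : ∀ g : G, g ^ n ∈ S)
    (D : Subgroup (G →* Z n)) (hD : ∀ χ : G →* Z n, χ ∈ D ↔ S ≤ χ.ker) (F : D →* Z n) :
    ∃ g : G, ∀ χ : D, F χ = (χ.1 : G →* Z n) g := by
  letI := commQ S hcomm
  haveI : HasEnoughRootsOfUnity (Z n) (Monoid.exponent (G ⧸ S)) :=
    HasEnoughRootsOfUnity.of_dvd (Z n) (exponent_dvd n S hpow)
  let Φ : ((G ⧸ S) →* (Z n)ˣ) →* D :=
    { toFun := fun φ =>
        ⟨((toUnits (G := Z n)).symm.toMonoidHom.comp φ).comp (QuotientGroup.mk' S), by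
          rw [hD]
          intro x hx
          rw [MonoidHom.mem_ker]
          have : (x : G ⧸ S) = 1 := (QuotientGroup.eq_one_iff x).mpr hx
          simp [this]⟩
      map_one' := by
        apply Subtype.ext
        ext x
        simp
      map_mul' := by
        intro φ ψ
        apply Subtype.ext
        ext x
        simp }
  let η : ((G ⧸ S) →* (Z n)ˣ) →* (Z n)ˣ := (toUnits (G := Z n)).toMonoidHom.comp (F.comp Φ)
  obtain ⟨g, hg⟩ := QuotientGroup.mk_surjective (CommGroup.monoidHomMonoidHomEquiv (G ⧸ S) (Z n) η)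
  refine ⟨g, fun χ => ?_⟩
  have hχ : S ≤ (χ.1 : G →* Z n).ker := (hD _).mp χ.2
  let φ : (G ⧸ S) →* (Z n)ˣ :=
    (toUnits (G := Z n)).toMonoidHom.comp (QuotientGroup.lift S χ.1 hχ)
  have hΦ : Φ φ = χ := by
    apply Subtype.ext
    ext x
    simp [Φ, φ]
  have h1 := CommGroup.apply_monoidHomMonoidHomEquiv (G := G ⧸ S) (M := Z n) φ η
  rw [← hg] at h1
  have h2 : φ (QuotientGroup.mk g) = toUnits ((χ.1 : G →* Z n) g) := by
    simp [φ]
  have h3 : η φ = toUnits (F χ) := by
    simp only [η, MonoidHom.comp_apply, hΦ]
    rfl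
  rw [h2, h3] at h1
  exact (toUnits.injective h1).symm

end Core

section Top

open W4c1etcurveeff2

variable {G : Type u} [Group G] [TopologicalSpace G] [IsTopologicalGroup G] (n : ℕ)

instance closure_pow_normal : (Subgroup.closure (Set.range fun g : G => g ^ n)).Normal := by
  have h : Subgroup.closure (Set.range fun g : G => g ^ n) =
      Subgroup.normalClosure (Set.range fun g : G => g ^ n) := by
    apply le_antisymm Subgroup.closure_le_normalClosure
    rw [Subgroup.normalClosure]
    apply Subgroup.closure_mono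
    intro x hx
    rw [Group.mem_conjugatesOfSet_iff] at hx
    obtain ⟨a, ⟨g, rfl⟩, hc⟩ := hx
    rw [isConj_iff] at hc
    obtain ⟨c, rfl⟩ := hc
    exact ⟨c * g * c⁻¹, by simp [conj_pow]⟩
  rw [h]
  infer_instance

instance S_normal : (powCommClosure G n).Normal := by
  unfold powCommClosure
  exact Subgroup.is_normal_topologicalClosure _

theorem S_closed : IsClosed ((powCommClosure G n : Subgroup G) : Set G) :=
  Subgroup.isClosed_topologicalClosure _

theorem pow_mem_S (g : G) : g ^ n ∈ powCommClosure G n := by
  apply Subgroup.le_topologicalClosure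
  exact Subgroup.mem_sup_left (Subgroup.subset_closure ⟨g, rfl⟩)

theorem comm_mem_S (a b : G) : ⁅a, b⁆ ∈ powCommClosure G n := by
  apply Subgroup.le_topologicalClosure
  exact Subgroup.mem_sup_right (Subgroup.commutator_mem_commutator (Subgroup.mem_top a)
    (Subgroup.mem_top b))

theorem S_le (H : Subgroup G) (hH : IsClosed (H : Set G)) (hpow : ∀ g : G, g ^ n ∈ H)
    (hcomm : ∀ a b : G, ⁅a, b⁆ ∈ H) : powCommClosure G n ≤ H := by
  apply Subgroup.topologicalClosure_minimal _ _ hH
  apply sup_le
  · rw [Subgroup.closure_le]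
    rintro _ ⟨g, rfl⟩
    exact hpow g
  · rw [commutator_def, Subgroup.commutator_le]
    intro a _ b _
    exact hcomm a b

theorem S_finiteIndex [NeZero n] (s : Finset G)
    (hs : Dense ((Subgroup.closure (s : Set G) : Subgroup G) : Set G)) :
    (powCommClosure G n).FiniteIndex := by
  set S := powCommClosure G n with hS
  letI := commQ S (comm_mem_S n)
  let f : Subgroup.closure (s : Set G) →* G ⧸ S :=
    (QuotientGroup.mk' S).comp (Subgroup.closure (s : Set G)).subtype
  have htors : IsMulTorsion f.range := by
    intro x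
    rw [isOfFinOrder_iff_pow_eq_one]
    refine ⟨n, Nat.pos_of_ne_zero (NeZero.ne n), ?_⟩
    apply Subtype.ext
    obtain ⟨x, hx⟩ := x
    induction x using QuotientGroup.induction_on with
    | H a =>
      show (a : G ⧸ S) ^ n = 1
      rw [← QuotientGroup.mk_pow, QuotientGroup.eq_one_iff]
      exact pow_mem_S n a
  haveI : Finite f.range := CommGroup.finite_of_fg_isMulTorsion (G := f.range) htors
  -- the preimage of the range is closed and dense
  have hclosed : IsClosed ((f.range.comap (QuotientGroup.mk' S) : Subgroup G) : Set G) := by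
    have : ((f.range.comap (QuotientGroup.mk' S) : Subgroup G) : Set G) =
        ⋃ x ∈ (f.range : Set (G ⧸ S)), (QuotientGroup.mk' S) ⁻¹' {x} := by
      ext g
      simp
    rw [this]
    apply Set.Finite.isClosed_biUnion (Set.toFinite _)
    intro x _
    induction x using QuotientGroup.induction_on with
    | H a =>
      have : (QuotientGroup.mk' S) ⁻¹' {(a : G ⧸ S)} = (fun h => a⁻¹ * h) ⁻¹' (S : Set G) := by
        ext h
        simp only [Set.mem_preimage, Set.mem_singleton_iff, QuotientGroup.mk'_apply, SetLike.mem_coe]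
        rw [eq_comm, QuotientGroup.eq]
      rw [this]
      exact (S_closed n).preimage (continuous_mul_left a⁻¹)
  have hle : Subgroup.closure (s : Set G) ≤ f.range.comap (QuotientGroup.mk' S) := by
    intro g hg
    exact ⟨⟨g, hg⟩, rfl⟩
  have htop : ((f.range.comap (QuotientGroup.mk' S) : Subgroup G) : Set G) = Set.univ := by
    rw [← hclosed.closure_eq]
    exact (hs.mono hle).closure_eq
  have hfin : Finite (G ⧸ S) := by
    apply Finite.of_surjective (fun x : f.range => (x : G ⧸ S))
    intro x
    induction x using QuotientGroup.induction_on with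
    | H a =>
      have : a ∈ ((f.range.comap (QuotientGroup.mk' S) : Subgroup G) : Set G) := by
        rw [htop]; trivial
      exact ⟨⟨_, this⟩, rfl⟩
  exact Subgroup.finiteIndex_of_finite_quotient

end Top

section Main

open W4c1etcurveeff2

variable {G : Type u} [Group G] [TopologicalSpace G] [IsTopologicalGroup G] (n : ℕ) [NeZero n]

theorem S_le_ker (χ : G →* Z n) (hχ : IsOpen ((χ.ker : Subgroup G) : Set G)) :
    powCommClosure G n ≤ χ.ker := by
  apply S_le n _ (Subgroup.isClosed_of_isOpen _ hχ)
  · intro g
    rw [MonoidHom.mem_ker, map_pow, Z_pow]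
  · intro a b
    rw [MonoidHom.mem_ker, map_commutatorElement, commutatorElement_eq_one_iff_commute]
    exact Commute.all _ _

theorem S_map_le (φ : G ≃* G) (hφ : Continuous φ) :
    powCommClosure G n ≤ (powCommClosure G n).comap φ.toMonoidHom := by
  apply S_le n
  · exact (S_closed n).preimage hφ
  · intro g
    rw [Subgroup.mem_comap, map_pow]
    exact pow_mem_S n _
  · intro a b
    rw [Subgroup.mem_comap, map_commutatorElement]
    exact comm_mem_S n _ _

theorem main (s : Finset G) (hs : Dense ((Subgroup.closure (s : Set G) : Subgroup G) : Set G))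
    (S : Subgroup G) (hS : S = powCommClosure G n) :
    (∀ φ : G ≃* G, Continuous φ → Continuous φ.symm → S.map φ.toMonoidHom = S) ∧
    (∀ g : G, g ∈ S ↔
        ∀ χ : G →* Multiplicative (ZMod n), IsOpen ((χ.ker : Subgroup G) : Set G) → χ g = 1) ∧
    (∀ F : ContChar G n →* Multiplicative (ZMod n), ∃ g : G,
        ∀ χ : ContChar G n, F χ = (χ.1 : G →* Multiplicative (ZMod n)) g) ∧
    (∀ (H : Subgroup G) [H.Normal], IsClosed (H : Set G) →
        Nonempty (G ⧸ H ≃* (ContChar G n →* Multiplicative (ZMod n))) → H = S) := by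
  subst hS
  haveI hfi : (powCommClosure G n).FiniteIndex := S_finiteIndex n s hs
  have hopen : IsOpen ((powCommClosure G n : Subgroup G) : Set G) :=
    Subgroup.isOpen_of_isClosed_of_finiteIndex _ (S_closed n)
  have hD : ∀ χ : G →* Z n, χ ∈ ContChar G n ↔ powCommClosure G n ≤ χ.ker := by
    intro χ
    constructor
    · intro h
      exact S_le_ker n χ h
    · intro h
      exact Subgroup.isOpen_mono h hopen
  have h2 : ∀ g : G, g ∈ powCommClosure G n ↔
      ∀ χ : G →* Multiplicative (ZMod n), IsOpen ((χ.ker : Subgroup G) : Set G) → χ g = 1 := by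
    intro g
    constructor
    · intro hg χ hχ
      exact S_le_ker n χ hχ hg
    · intro h
      by_contra hg
      obtain ⟨χ, hχ, hne⟩ := core_sep n (powCommClosure G n) (comm_mem_S n) (pow_mem_S n) g hg
      exact hne (h χ (Subgroup.isOpen_mono hχ hopen))
  have h3 : ∀ F : ContChar G n →* Multiplicative (ZMod n), ∃ g : G,
      ∀ χ : ContChar G n, F χ = (χ.1 : G →* Multiplicative (ZMod n)) g :=
    fun F => core_dual n (powCommClosure G n) (comm_mem_S n) (pow_mem_S n) (ContChar G n) hD F
  refine ⟨?_, h2, h3, ?_⟩
  · intro φ hφ hφ'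
    apply le_antisymm
    · rw [Subgroup.map_le_iff_le_comap]
      exact S_map_le n φ hφ
    · intro x hx
      refine ⟨φ.symm x, ?_, by simp⟩
      exact S_map_le n φ.symm hφ' hx
  · intro H _ hH ⟨e⟩
    have hpowH : ∀ g : G, g ^ n ∈ H := by
      intro g
      rw [← QuotientGroup.eq_one_iff, QuotientGroup.mk_pow]
      apply e.injective
      rw [map_pow, map_one]
      ext χ
      rw [MonoidHom.pow_apply, Z_pow, MonoidHom.one_apply]
    have hcommH : ∀ a b : G, ⁅a, b⁆ ∈ H := by
      intro a b
      rw [← QuotientGroup.eq_one_iff]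
      apply e.injective
      have : ((⁅a, b⁆ : G) : G ⧸ H) = ⁅(a : G ⧸ H), (b : G ⧸ H)⁆ :=
        map_commutatorElement (QuotientGroup.mk' H) a b
      rw [this, map_commutatorElement, map_one, commutatorElement_eq_one_iff_commute]
      exact Commute.all _ _
    have hle : powCommClosure G n ≤ H := S_le n H hH hpowH hcommH
    -- the evaluation map
    let ev : G →* (ContChar G n →* Z n) :=
      { toFun := fun g =>
          { toFun := fun χ => (χ.1 : G →* Z n) g
            map_one' := rfl
            map_mul' := fun χ ψ => rfl }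
        map_one' := by
          ext χ
          simp
        map_mul' := by
          intro a b
          ext χ
          simp }
    have hevsurj : Function.Surjective ev := by
      intro F
      obtain ⟨g, hg⟩ := h3 F
      refine ⟨g, ?_⟩
      ext χ
      exact (hg χ).symm
    have hevker : ev.ker = powCommClosure G n := by
      ext g
      rw [MonoidHom.mem_ker, h2]
      constructor
      · intro h χ hχ
        have := DFunLike.congr_fun h ⟨χ, hχ⟩
        exact this
      · intro h
        ext χ
        exact h χ.1 χ.2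
    have e1 : G ⧸ ev.ker ≃* (ContChar G n →* Z n) :=
      QuotientGroup.quotientKerEquivOfSurjective ev hevsurj
    have hidx : (powCommClosure G n).index = H.index := by
      rw [← hevker, Subgroup.index, Subgroup.index]
      exact Nat.card_congr (e1.trans e.symm).toEquiv
    have h0 : (powCommClosure G n).index ≠ 0 := hfi.index_ne_zero
    have hrel := Subgroup.relIndex_mul_index hle
    rw [← hidx] at hrel
    have hrel1 : (powCommClosure G n).relIndex H = 1 := by
      have : (powCommClosure G n).relIndex H * (powCommClosure G n).index =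
          1 * (powCommClosure G n).index := by rw [hrel, one_mul]
      exact Nat.eq_of_mul_eq_mul_right (Nat.pos_of_ne_zero h0) this
    rw [Subgroup.relIndex_eq_one] at hrel1
    exact le_antisymm hrel1 hle

end Main

end Groth.Agent.Lib.Helper24ContChar
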