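import Mathlib
import Groth.Prelude.Def_W4c2conddiscmodels

set_option autoImplicit false
universe u

namespace Groth.Agent.Lib.Helper24Contr

open LabGraph

variable {V E : Type u} [Fintype V] [Fintype E] [DecidableEq V] [DecidableEq E]

theorem edgeMult_eq_sum (ends : E → V × V) (v w : V) :
    (edgeMult ends v w : ℤ) = ∑ e, if ends e = (v, w) ∨ ends e = (w, v) then (1 : ℤ) else 0 := by
  unfold edgeMult
  rw [Finset.card_filter]
  push_cast
  rfl

/-- edge-sum form of `Σ_{w ≠ v} F w * edgeMult v w`. -/
theorem sum_erase_mul_edgeMult (ends : E → V × V) (F : V → ℤ) (v : V) :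
    ∑ w ∈ Finset.univ.erase v, F w * (edgeMult ends v w : ℤ) =
      ∑ e, ((if (ends e).1 = v ∧ (ends e).2 ≠ v then F (ends e).2 else 0) +
        (if (ends e).2 = v ∧ (ends e).1 ≠ v then F (ends e).1 else 0)) := by
  simp_rw [edgeMult_eq_sum, Finset.mul_sum]
  rw [Finset.sum_comm]
  refine Finset.sum_congr rfl (fun e _ => ?_)
  rcases hab : ends e with ⟨a, b⟩
  simp only [Prod.mk.injEq]
  by_cases ha : a = v
  · by_cases hb : b = v
    · trans (0 : ℤ)
      · refine Finset.sum_eq_zero (fun w hw => ?_)
        have hw' : w ≠ v := Finset.ne_of_mem_erase hw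
        split_ifs with h
        · exfalso
          rcases h with ⟨-, h⟩ | ⟨h, -⟩
          · exact hw' (h.symm.trans hb)
          · exact hw' (h.symm.trans ha)
        · exact mul_zero _
      · simp [ha, hb]
    · trans F b
      · rw [Finset.sum_eq_single b]
        · rw [if_pos (Or.inl ⟨ha, rfl⟩)]
          ring
        · intro w hw hwb
          have hw' : w ≠ v := Finset.ne_of_mem_erase hw
          split_ifs with h
          · exfalso
            rcases h with ⟨-, h⟩ | ⟨h, -⟩
            · exact hwb h.symm
            · exact hw' (h.symm.trans ha)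
          · exact mul_zero _
        · intro h
          exact absurd (Finset.mem_erase.mpr ⟨hb, Finset.mem_univ _⟩) h
      · simp [ha, hb]
  · by_cases hb : b = v
    · trans F a
      · rw [Finset.sum_eq_single a]
        · rw [if_pos (Or.inr ⟨rfl, hb⟩)]
          ring
        · intro w hw hwa
          split_ifs with h
          · exfalso
            rcases h with ⟨h, -⟩ | ⟨h, -⟩
            · exact ha h
            · exact hwa h.symm
          · exact mul_zero _
        · intro h
          exact absurd (Finset.mem_erase.mpr ⟨ha, Finset.mem_univ _⟩) h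
      · simp [ha, hb]
    · trans (0 : ℤ)
      · refine Finset.sum_eq_zero (fun w _ => ?_)
        split_ifs with h
        · exfalso
          rcases h with ⟨h, -⟩ | ⟨-, h⟩
          · exact ha h
          · exact hb h
        · exact mul_zero _
      · simp [ha, hb]

/-- the edge-sum operator. -/
def Lam (ends : E → V × V) (β : V → ℤ) (y : V → ℤ) (v : V) : ℤ :=
  ∑ e, ((if (ends e).1 = v then β v * y (ends e).2 - β (ends e).2 * y v else 0) +
    (if (ends e).2 = v then β v * y (ends e).1 - β (ends e).1 * y v else 0))

/-- `β v * (α y)(v)` as an edge sum. -/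
theorem beta_mul_mulVec (ends : E → V × V) (β : V → ℤ) (hβ : IsMultFn ends β) (y : V → ℤ) (v : V) :
    β v * (Matrix.mulVec (mfMatrix ends β) y) v = Lam ends β y v := by
  have hdiag : β v * mfMatrix ends β v v =
      -(∑ u ∈ Finset.univ.erase v, β u * (edgeMult ends v u : ℤ)) := by
    unfold mfMatrix
    rw [if_pos rfl]
    exact Int.mul_ediv_cancel' ((dvd_neg).mpr (hβ v).2)
  have h1 : (Matrix.mulVec (mfMatrix ends β) y) v =
      mfMatrix ends β v v * y v + ∑ w ∈ Finset.univ.erase v, (edgeMult ends v w : ℤ) * y w := by
    rw [Matrix.mulVec, dotProduct, ← Finset.add_sum_erase _ _ (Finset.mem_univ v)]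
    congr 1
    refine Finset.sum_congr rfl (fun w hw => ?_)
    have : v ≠ w := (Finset.ne_of_mem_erase hw).symm
    unfold mfMatrix
    rw [if_neg this]
  rw [h1, mul_add, ← mul_assoc, hdiag]
  have h2 : -(∑ u ∈ Finset.univ.erase v, β u * (edgeMult ends v u : ℤ)) * y v
      + β v * ∑ w ∈ Finset.univ.erase v, (edgeMult ends v w : ℤ) * y w
      = ∑ w ∈ Finset.univ.erase v, (β v * y w - β w * y v) * (edgeMult ends v w : ℤ) := by
    rw [neg_mul, Finset.sum_mul, Finset.mul_sum, ← Finset.sum_neg_distrib, ← Finset.sum_add_distrib]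
    refine Finset.sum_congr rfl (fun w _ => ?_)
    ring
  rw [h2, sum_erase_mul_edgeMult ends (fun w => β v * y w - β w * y v) v]
  unfold Lam
  refine Finset.sum_congr rfl (fun e _ => ?_)
  congr 1
  · by_cases h1 : (ends e).1 = v
    · by_cases h2 : (ends e).2 = v
      · simp only [h1, h2, ne_eq, not_true_eq_false, and_false, if_false, if_true]
        ring
      · simp [h1, h2]
    · simp [h1]
  · by_cases h2 : (ends e).2 = v
    · by_cases h1 : (ends e).1 = v
      · simp only [h1, h2, ne_eq, not_true_eq_false, and_false, if_false, if_true]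
        ring
      · simp [h1, h2]
    · simp [h2]

end Groth.Agent.Lib.Helper24Contr
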