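import Mathlib
import Groth.Prelude.Def_W4c2conddiscmodels
import Groth.Agent.Lib.Helper24Contr1

set_option autoImplicit false
universe u

namespace Groth.Agent.Lib.Helper24Contr

open LabGraph DualGr

variable {V E : Type u} [Fintype V] [Fintype E] [DecidableEq V] [DecidableEq E]

section chain

variable (ends : E → V × V) {k : ℕ} (f : Fin (k + 1) → V) (e : Fin k → E)

theorem chain_edge_mem (i : Fin k) : e i ∈ Finset.univ.image e :=
  Finset.mem_image.mpr ⟨i, Finset.mem_univ _, rfl⟩

theorem ctrMk_chain_step (hC : IsChain ends f e) (i : Fin k) :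
    ctrMk ends (Finset.univ.image e) (f i.succ) = ctrMk ends (Finset.univ.image e) (f i.castSucc) := by
  have h := ctrMk_fst_eq_ctrMk_snd ends (Finset.univ.image e) (chain_edge_mem e i)
  rcases hC.2.2 i with h1 | h1
  · rw [h1] at h; exact h.symm
  · rw [h1] at h; exact h

theorem ctrMk_chain (hC : IsChain ends f e) (i : Fin (k + 1)) :
    ctrMk ends (Finset.univ.image e) (f i) = ctrMk ends (Finset.univ.image e) (f 0) := by
  induction i using Fin.induction with
  | zero => rfl
  | succ i ih => rw [ctrMk_chain_step ends f e hC i, ih]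

theorem eqvGen_chain (hC : IsChain ends f e) {v w : V}
    (h : Relation.EqvGen (CtrRel ends (Finset.univ.image e)) v w) :
    v = w ∨ ((∃ i, f i = v) ∧ (∃ j, f j = w)) := by
  induction h with
  | rel x y hxy =>
    right
    obtain ⟨e', he', hxy⟩ := hxy
    obtain ⟨i, -, rfl⟩ := Finset.mem_image.mp he'
    rcases hC.2.2 i with h1 | h1
    · rw [h1] at hxy
      simp only [Prod.mk.injEq] at hxy
      exact ⟨⟨_, hxy.1⟩, ⟨_, hxy.2⟩⟩
    · rw [h1] at hxy
      simp only [Prod.mk.injEq] at hxy
      exact ⟨⟨_, hxy.1⟩, ⟨_, hxy.2⟩⟩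
  | refl x => exact Or.inl rfl
  | symm x y _ ih =>
    rcases ih with h1 | ⟨h1, h2⟩
    · exact Or.inl h1.symm
    · exact Or.inr ⟨h2, h1⟩
  | trans x y z _ _ ih1 ih2 =>
    rcases ih1 with h1 | ⟨h1, h2⟩
    · rw [h1]; exact ih2
    · rcases ih2 with h3 | ⟨h3, h4⟩
      · rw [← h3]; exact Or.inr ⟨h1, h2⟩
      · exact Or.inr ⟨h1, h4⟩

theorem ctrMk_eq_iff (hC : IsChain ends f e) (v w : V) :
    ctrMk ends (Finset.univ.image e) v = ctrMk ends (Finset.univ.image e) w ↔
      v = w ∨ ((∃ i, f i = v) ∧ (∃ j, f j = w)) := by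
  constructor
  · intro h
    exact eqvGen_chain ends f e hC (Quotient.exact h)
  · rintro (rfl | ⟨⟨i, rfl⟩, ⟨j, rfl⟩⟩)
    · rfl
    · rw [ctrMk_chain ends f e hC i, ctrMk_chain ends f e hC j]

theorem ctrFn_ctrMk (hC : IsChain ends f e) (β : V → ℤ) (hconst : ∀ i j, β (f i) = β (f j))
    (v : V) : ctrFn ends (Finset.univ.image e) β (ctrMk ends (Finset.univ.image e) v) = β v := by
  unfold ctrFn
  have h1 : ctrMk ends (Finset.univ.image e)
      (Quotient.out (s := ctrSetoid ends (Finset.univ.image e))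
        (ctrMk ends (Finset.univ.image e) v)) = ctrMk ends (Finset.univ.image e) v :=
    Quotient.out_eq _
  rcases (ctrMk_eq_iff ends f e hC _ _).mp h1 with h2 | ⟨⟨i, hi⟩, ⟨j, hj⟩⟩
  · rw [h2]
  · rw [← hi, ← hj]; exact hconst i j

theorem beta_eq_of_ctrMk_eq (hC : IsChain ends f e) (β : V → ℤ) (hconst : ∀ i j, β (f i) = β (f j))
    {u v : V} (h : ctrMk ends (Finset.univ.image e) u = ctrMk ends (Finset.univ.image e) v) :
    β u = β v := by
  rcases (ctrMk_eq_iff ends f e hC _ _).mp h with h2 | ⟨⟨i, hi⟩, ⟨j, hj⟩⟩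
  · rw [h2]
  · rw [← hi, ← hj]; exact hconst i j

theorem sum_ctrEdge (D : Finset E) (g : E → ℤ) :
    ∑ e' : CtrEdge D, g e'.1 = ∑ e, if e ∉ D then g e else 0 := by
  rw [← Finset.sum_filter]
  exact (Finset.sum_subtype (Finset.univ.filter (fun e => e ∉ D)) (by simp) g).symm

omit [Fintype E] [DecidableEq E] in
theorem sum_ite_fiber (P : V → Prop) [DecidablePred P] (a₀ : V) (Q : V → Prop) [DecidablePred Q]
    (x : ℤ) :
    (∑ a, if P a then (if a₀ = a ∧ Q a then x else 0) else 0) = if P a₀ ∧ Q a₀ then x else 0 := by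
  rw [Finset.sum_eq_single a₀]
  · by_cases h1 : P a₀ <;> by_cases h2 : Q a₀ <;> simp [h1, h2]
  · intro b _ hb
    have : ¬ (a₀ = b ∧ Q b) := fun h => hb h.1.symm
    rw [if_neg this]
    simp
  · intro h; exact absurd (Finset.mem_univ _) h

theorem isMultFn_contract (hC : IsChain ends f e) (β : V → ℤ) (hβ : IsMultFn ends β)
    (hconst : ∀ i j, β (f i) = β (f j)) :
    IsMultFn (ctrEnds ends (Finset.univ.image e)) (ctrFn ends (Finset.univ.image e) β) := by
  classical
  set D := Finset.univ.image e with hD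
  intro c
  obtain ⟨v, rfl⟩ := ctrMk_surjective ends D c
  have hβ' : ∀ u, ctrFn ends D β (ctrMk ends D u) = β u := ctrFn_ctrMk ends f e hC β hconst
  have hβeq : ∀ {u w : V}, ctrMk ends D u = ctrMk ends D w → β u = β w :=
    fun h => beta_eq_of_ctrMk_eq ends f e hC β hconst h
  refine ⟨by rw [hβ']; exact (hβ v).1, ?_⟩
  rw [sum_erase_mul_edgeMult (ctrEnds ends D) (ctrFn ends D β) (ctrMk ends D v), hβ']
  have hT : (∑ e' : CtrEdge D,
      ((if (ctrEnds ends D e').1 = ctrMk ends D v ∧ (ctrEnds ends D e').2 ≠ ctrMk ends D v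
          then ctrFn ends D β (ctrEnds ends D e').2 else 0) +
        (if (ctrEnds ends D e').2 = ctrMk ends D v ∧ (ctrEnds ends D e').1 ≠ ctrMk ends D v
          then ctrFn ends D β (ctrEnds ends D e').1 else 0)))
      = ∑ e, if e ∉ D then
        ((if ctrMk ends D (ends e).1 = ctrMk ends D v ∧ ctrMk ends D (ends e).2 ≠ ctrMk ends D v
          then β (ends e).2 else 0) +
        (if ctrMk ends D (ends e).2 = ctrMk ends D v ∧ ctrMk ends D (ends e).1 ≠ ctrMk ends D v
          then β (ends e).1 else 0)) else 0 := by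
    rw [← sum_ctrEdge D (fun e =>
      ((if ctrMk ends D (ends e).1 = ctrMk ends D v ∧ ctrMk ends D (ends e).2 ≠ ctrMk ends D v
          then β (ends e).2 else 0) +
        (if ctrMk ends D (ends e).2 = ctrMk ends D v ∧ ctrMk ends D (ends e).1 ≠ ctrMk ends D v
          then β (ends e).1 else 0)))]
    refine Finset.sum_congr rfl (fun e' _ => ?_)
    simp only [ctrEnds, hβ']
  rw [hT]
  -- the comparison sum
  set W' : ℤ := ∑ u, if ctrMk ends D u = ctrMk ends D v then
    ∑ w ∈ Finset.univ.erase u, β w * (edgeMult ends u w : ℤ) else 0 with hW'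
  have hW'dvd : β v ∣ W' := by
    refine Finset.dvd_sum (fun u _ => ?_)
    split_ifs with h
    · rw [← hβeq h]; exact (hβ u).2
    · exact dvd_zero _
  have hW'eq : W' = ∑ e,
      ((if ctrMk ends D (ends e).1 = ctrMk ends D v ∧ (ends e).2 ≠ (ends e).1 then β (ends e).2 else 0) +
       (if ctrMk ends D (ends e).2 = ctrMk ends D v ∧ (ends e).1 ≠ (ends e).2 then β (ends e).1 else 0)) := by
    rw [hW']
    simp_rw [sum_erase_mul_edgeMult ends β]
    have h1 : ∀ a, (if ctrMk ends D a = ctrMk ends D v then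
        ∑ e, ((if (ends e).1 = a ∧ (ends e).2 ≠ a then β (ends e).2 else 0) +
            if (ends e).2 = a ∧ (ends e).1 ≠ a then β (ends e).1 else 0)
        else 0) = ∑ e, ((if ctrMk ends D a = ctrMk ends D v then
          (if (ends e).1 = a ∧ (ends e).2 ≠ a then β (ends e).2 else 0) else 0) +
          (if ctrMk ends D a = ctrMk ends D v then
          (if (ends e).2 = a ∧ (ends e).1 ≠ a then β (ends e).1 else 0) else 0)) := by
      intro a
      split_ifs with h
      · rfl
      · simp
    simp_rw [h1]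
    rw [Finset.sum_comm]
    refine Finset.sum_congr rfl (fun e _ => ?_)
    rw [Finset.sum_add_distrib]
    rw [sum_ite_fiber (fun a => ctrMk ends D a = ctrMk ends D v) (ends e).1
      (fun a => (ends e).2 ≠ a) (β (ends e).2)]
    rw [sum_ite_fiber (fun a => ctrMk ends D a = ctrMk ends D v) (ends e).2
      (fun a => (ends e).1 ≠ a) (β (ends e).1)]
  have hdiff : β v ∣ W' - ∑ e, if e ∉ D then
        ((if ctrMk ends D (ends e).1 = ctrMk ends D v ∧ ctrMk ends D (ends e).2 ≠ ctrMk ends D v
          then β (ends e).2 else 0) +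
        (if ctrMk ends D (ends e).2 = ctrMk ends D v ∧ ctrMk ends D (ends e).1 ≠ ctrMk ends D v
          then β (ends e).1 else 0)) else 0 := by
    rw [hW'eq, ← Finset.sum_sub_distrib]
    refine Finset.dvd_sum (fun e' _ => ?_)
    have hDeq : e' ∈ D → ctrMk ends D (ends e').1 = ctrMk ends D (ends e').2 :=
      fun h => ctrMk_fst_eq_ctrMk_snd ends D h
    -- generic half
    have half : ∀ a b : V, (e' ∈ D → ctrMk ends D a = ctrMk ends D b) →
        β v ∣ (if ctrMk ends D a = ctrMk ends D v ∧ b ≠ a then β b else 0) -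
          (if e' ∉ D then (if ctrMk ends D a = ctrMk ends D v ∧ ctrMk ends D b ≠ ctrMk ends D v
            then β b else 0) else 0) := by
      intro a b hab
      by_cases h1 : ctrMk ends D a = ctrMk ends D v
      · by_cases h2 : ctrMk ends D b = ctrMk ends D v
        · have hB : (if e' ∉ D then (if ctrMk ends D a = ctrMk ends D v ∧
              ctrMk ends D b ≠ ctrMk ends D v then β b else 0) else 0) = 0 := by
            simp [h2]
          rw [hB, sub_zero]
          split_ifs with h3
          · rw [hβeq h2]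
          · exact dvd_zero _
        · have hne : b ≠ a := by
            rintro rfl
            exact h2 h1
          have hnD : e' ∉ D := fun h => h2 ((hab h).symm.trans h1)
          rw [if_pos ⟨h1, hne⟩, if_pos hnD, if_pos ⟨h1, h2⟩, sub_self]
          exact dvd_zero _
      · rw [if_neg (fun h => h1 h.1)]
        have hB : (if e' ∉ D then (if ctrMk ends D a = ctrMk ends D v ∧
            ctrMk ends D b ≠ ctrMk ends D v then β b else 0) else 0) = 0 := by
          simp [h1]
        rw [hB, sub_zero]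
        exact dvd_zero _
    have e1 := half (ends e').1 (ends e').2 hDeq
    have e2 := half (ends e').2 (ends e').1 (fun h => (hDeq h).symm)
    have := dvd_add e1 e2
    convert this using 1
    by_cases hD' : e' ∈ D
    · simp [hD']
    · simp only [hD', not_false_eq_true, if_true]
      ring
  have := dvd_sub hW'dvd hdiff
  rwa [sub_sub_cancel] at this

end chain

end Groth.Agent.Lib.Helper24Contr
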