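import Mathlib
import Groth.Prelude.Def_W4c2conddiscmodels
import Groth.Agent.Lib.Helper24Contr2

set_option autoImplicit false
universe u

namespace Groth.Agent.Lib.Helper24Contr

open LabGraph DualGr

variable {V E : Type u} [Fintype V] [Fintype E] [DecidableEq V] [DecidableEq E]

/-- the edge term of `Lam`. -/
def Tm (ends : E → V × V) (β : V → ℤ) (y : V → ℤ) (v : V) (e' : E) : ℤ :=
  (if (ends e').1 = v then β v * y (ends e').2 - β (ends e').2 * y v else 0) +
    (if (ends e').2 = v then β v * y (ends e').1 - β (ends e').1 * y v else 0)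

omit [Fintype V] [DecidableEq E] in
theorem Lam_eq_sum_Tm (ends : E → V × V) (β : V → ℤ) (y : V → ℤ) (v : V) :
    Lam ends β y v = ∑ e', Tm ends β y v e' := rfl

omit [Fintype V] [Fintype E] [DecidableEq E] in
theorem Tm_eq_zero_of_q (ends : E → V × V) (β : V → ℤ) (y : V → ℤ) (v : V) (e' : E)
    (h : β (ends e').1 * y (ends e').2 = β (ends e').2 * y (ends e').1) :
    Tm ends β y v e' = 0 := by
  unfold Tm
  by_cases h1 : (ends e').1 = v
  · by_cases h2 : (ends e').2 = v
    · rw [if_pos h1, if_pos h2, h1, h2]; ring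
    · rw [if_pos h1, if_neg h2, ← h1]; linarith
  · by_cases h2 : (ends e').2 = v
    · rw [if_neg h1, if_pos h2, ← h2]; linarith
    · rw [if_neg h1, if_neg h2]; ring

omit [Fintype V] [Fintype E] [DecidableEq E] in
theorem Tm_eq_zero_of_loop (ends : E → V × V) (β : V → ℤ) (y : V → ℤ) (v : V) (e' : E)
    (h1 : (ends e').1 = v → (ends e').2 = v) (h2 : (ends e').2 = v → (ends e').1 = v) :
    Tm ends β y v e' = 0 := by
  unfold Tm
  by_cases h : (ends e').1 = v
  · rw [if_pos h, if_pos (h1 h), h, h1 h]; ring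
  · have h' : ¬ (ends e').2 = v := fun h' => h (h2 h')
    rw [if_neg h, if_neg h']; ring

omit [DecidableEq E] in
/-- summing `Lam` over all vertices gives zero (`β ∘ α = 0`). -/
theorem sum_Lam_eq_zero (ends : E → V × V) (β : V → ℤ) (y : V → ℤ) :
    ∑ v, Lam ends β y v = 0 := by
  unfold Lam
  rw [Finset.sum_comm]
  refine Finset.sum_eq_zero (fun e' _ => ?_)
  rw [Finset.sum_add_distrib, Finset.sum_ite_eq Finset.univ (ends e').1, Finset.sum_ite_eq Finset.univ (ends e').2]
  simp only [Finset.mem_univ, if_true]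
  ring

section chain

variable (ends : E → V × V) (β : V → ℤ) {k : ℕ} (f : Fin (k + 1) → V) (e : Fin k → E)

omit [Fintype V] in
theorem Lam_eq_chain (hC : IsChain ends f e) (y : V → ℤ) (v : V)
    (h0 : ∀ e', e' ∉ Finset.univ.image e → Tm ends β y v e' = 0) :
    Lam ends β y v = ∑ i : Fin k,
      ((if f i.castSucc = v then β v * y (f i.succ) - β (f i.succ) * y v else 0) +
        (if f i.succ = v then β v * y (f i.castSucc) - β (f i.castSucc) * y v else 0)) := by
  rw [Lam_eq_sum_Tm, ← Finset.sum_subset (Finset.subset_univ (Finset.univ.image e))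
    (fun e' _ he' => h0 e' he')]
  rw [Finset.sum_image (fun a _ b _ h => hC.2.1 h)]
  refine Finset.sum_congr rfl (fun i _ => ?_)
  unfold Tm
  rcases hC.2.2 i with h | h
  · rw [h]
  · rw [h]; exact add_comm _ _

omit [Fintype V] in
theorem Lam_eq_chain' (hC : IsChain ends f e) (c : ℤ) (hβc : ∀ i, β (f i) = c) (y : V → ℤ) (v : V)
    (h0 : ∀ e', e' ∉ Finset.univ.image e → Tm ends β y v e' = 0) :
    Lam ends β y v = ∑ i : Fin k, c * (y (f i.succ) - y (f i.castSucc)) *
      ((if f i.castSucc = v then 1 else 0) - (if f i.succ = v then 1 else 0)) := by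
  rw [Lam_eq_chain ends β f e hC y v h0]
  refine Finset.sum_congr rfl (fun i _ => ?_)
  have hne : f i.castSucc ≠ f i.succ := fun h =>
    absurd (hC.1 h) (Fin.castSucc_lt_succ (i := i)).ne
  by_cases h1 : f i.castSucc = v
  · have h2 : ¬ f i.succ = v := fun h2 => hne (h1.trans h2.symm)
    rw [if_pos h1, if_neg h2, if_pos h1, if_neg h2, ← h1, hβc, hβc]; ring
  · by_cases h2 : f i.succ = v
    · rw [if_neg h1, if_pos h2, if_neg h1, if_pos h2, ← h2, hβc, hβc]; ring
    · rw [if_neg h1, if_neg h2, if_neg h1, if_neg h2]; ring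

omit [Fintype V] [Fintype E] [DecidableEq V] [DecidableEq E] in
theorem telescope (g : Fin (k + 1) → ℤ) :
    ∑ i : Fin k, (g i.castSucc - g i.succ) = g 0 - g (Fin.last k) := by
  rw [Finset.sum_sub_distrib]
  have h1 := Fin.sum_univ_castSucc g
  have h2 := Fin.sum_univ_succ g
  linarith

/-- weighted degree from the diagonal entry. -/
theorem wdeg_of_diag (hβ : IsMultFn ends β) (v : V) (hα : mfMatrix ends β v v = -2) :
    ∑ u ∈ Finset.univ.erase v, β u * (edgeMult ends v u : ℤ) = 2 * β v := by
  unfold mfMatrix at hα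
  rw [if_pos rfl] at hα
  have hdvd : β v ∣ -(∑ u ∈ Finset.univ.erase v, β u * (edgeMult ends v u : ℤ)) :=
    (dvd_neg).mpr (hβ v).2
  have := Int.mul_ediv_cancel' hdvd
  rw [hα] at this
  linarith

/-- the degree lemma: an interior chain vertex with diagonal entry `-2` has no other non-loop edge. -/
theorem interior_edges (hβ : IsMultFn ends β) (hC : IsChain ends f e) (c : ℤ)
    (hβc : ∀ i, β (f i) = c) (j : Fin (k + 1)) (hj0 : j ≠ 0) (hjl : j ≠ Fin.last k)
    (hα : mfMatrix ends β (f j) (f j) = -2) (e' : E) (he' : e' ∉ Finset.univ.image e) :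
    ((ends e').1 = f j → (ends e').2 = f j) ∧ ((ends e').2 = f j → (ends e').1 = f j) := by
  set a : Fin k := j.pred hj0 with ha
  set b : Fin k := j.castPred hjl with hb
  have has : a.succ = j := Fin.succ_pred j hj0
  have hbc : b.castSucc = j := Fin.castSucc_castPred j hjl
  have hab : a ≠ b := by
    intro h
    have h1 : a.succ = a.castSucc := by rw [has, h, hbc]
    exact absurd h1 (Fin.castSucc_lt_succ (i := a)).ne'
  set t : E → ℤ := fun e'' =>
    (if (ends e'').1 = f j ∧ (ends e'').2 ≠ f j then β (ends e'').2 else 0) +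
      (if (ends e'').2 = f j ∧ (ends e'').1 ≠ f j then β (ends e'').1 else 0) with ht
  have htnn : ∀ e'', 0 ≤ t e'' := by
    intro e''
    rw [ht]
    simp only
    have h1 := (hβ (ends e'').1).1.le
    have h2 := (hβ (ends e'').2).1.le
    split_ifs <;> linarith
  have hW : ∑ e'', t e'' = 2 * c := by
    rw [ht, ← sum_erase_mul_edgeMult ends β (f j), wdeg_of_diag ends β hβ (f j) hα, hβc]
  have hne1 : f a.castSucc ≠ f j := by
    intro h
    have := hC.1 h
    rw [← has] at this
    exact absurd this (Fin.castSucc_lt_succ (i := a)).ne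
  have hne2 : f b.succ ≠ f j := by
    intro h
    have := hC.1 h
    rw [← hbc] at this
    exact absurd this (Fin.castSucc_lt_succ (i := b)).ne'
  have hta : t (e a) = c := by
    rw [ht]
    simp only
    rcases hC.2.2 a with h | h
    · rw [h, has]
      simp only [hne1, false_and, if_false, true_and, ne_eq, not_false_eq_true, if_true, hβc]
      ring
    · rw [h, has]
      simp only [hne1, false_and, if_false, true_and, ne_eq, not_false_eq_true, if_true, hβc,
        not_true_eq_false, and_false]
      ring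
  have htb : t (e b) = c := by
    rw [ht]
    simp only
    rcases hC.2.2 b with h | h
    · rw [h, hbc]
      simp only [hne2, false_and, if_false, true_and, ne_eq, not_false_eq_true, if_true, hβc,
        not_true_eq_false, and_false]
      ring
    · rw [h, hbc]
      simp only [hne2, false_and, if_false, true_and, ne_eq, not_false_eq_true, if_true, hβc,
        not_true_eq_false, and_false]
      ring
  have heab : e a ≠ e b := fun h => hab (hC.2.1 h)
  have hrest : ∑ e'' ∈ (Finset.univ.erase (e a)).erase (e b), t e'' = 0 := by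
    have h1 := Finset.add_sum_erase Finset.univ t (Finset.mem_univ (e a))
    have h2 := Finset.add_sum_erase (Finset.univ.erase (e a)) t
      (Finset.mem_erase.mpr ⟨heab.symm, Finset.mem_univ _⟩)
    linarith
  have hzero := (Finset.sum_eq_zero_iff_of_nonneg (fun e'' _ => htnn e'')).mp hrest
  have hmem : e' ∈ (Finset.univ.erase (e a)).erase (e b) := by
    refine Finset.mem_erase.mpr ⟨?_, Finset.mem_erase.mpr ⟨?_, Finset.mem_univ _⟩⟩
    · rintro rfl; exact he' (chain_edge_mem e b)
    · rintro rfl; exact he' (chain_edge_mem e a)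
  have hte' := hzero e' hmem
  rw [ht] at hte'
  simp only at hte'
  have hp1 := (hβ (ends e').1).1
  have hp2 := (hβ (ends e').2).1
  constructor
  · intro h1
    by_contra h2
    have h3 : (ends e').1 = f j ∧ (ends e').2 ≠ f j := ⟨h1, h2⟩
    rw [if_pos h3] at hte'
    split_ifs at hte' <;> linarith
  · intro h2
    by_contra h1
    have h3 : (ends e').2 = f j ∧ (ends e').1 ≠ f j := ⟨h2, h1⟩
    rw [if_pos h3] at hte'
    split_ifs at hte' <;> linarith

omit [Fintype V] [Fintype E] [DecidableEq E] in
theorem interior_Tm_zero (y : V → ℤ) (v : V) (e' : E)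
    (h : ((ends e').1 = v → (ends e').2 = v) ∧ ((ends e').2 = v → (ends e').1 = v)) :
    Tm ends β y v e' = 0 := Tm_eq_zero_of_loop ends β y v e' h.1 h.2

end chain

section chain1

variable (ends : E → V × V) (β : V → ℤ) {n : ℕ} (f : Fin (n + 1 + 1) → V) (e : Fin (n + 1) → E)

omit [Fintype E] [DecidableEq E] in
/-- the cut through the first chain edge, normalized to contain `f 0`. -/
theorem exists_cut (hC : IsChain ends f e) (hconn : IsConnecting ends (e 0)) :
    ∃ A : Finset V, f 0 ∈ A ∧ (∀ j : Fin (n + 1 + 1), j ≠ 0 → f j ∉ A) ∧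
      ∀ e', e' ≠ e 0 → ((ends e').1 ∈ A ↔ (ends e').2 ∈ A) := by
  classical
  obtain ⟨S, hS⟩ := hconn
  -- generic step
  have gen : ∀ A : Finset V, f 0 ∈ A → f 1 ∉ A →
      (∀ e', e' ≠ e 0 → ((ends e').1 ∈ A ↔ (ends e').2 ∈ A)) →
      ∀ j : Fin (n + 1 + 1), j ≠ 0 → f j ∉ A := by
    intro A h0 h1 hA j
    induction j using Fin.induction with
    | zero => intro h; exact absurd rfl h
    | succ i ih =>
      intro _
      by_cases hi : i = 0
      · rw [hi]; exact h1
      · have hne : e i ≠ e 0 := fun h => hi (hC.2.1 h)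
        have hcs : i.castSucc ≠ 0 := by
          intro h
          apply hi
          exact Fin.castSucc_injective _ (by rw [h]; rfl)
        have hprev := ih hcs
        have hiff := hA (e i) hne
        rcases hC.2.2 i with h | h
        · rw [h] at hiff
          exact fun hh => hprev (hiff.mpr hh)
        · rw [h] at hiff
          exact fun hh => hprev (hiff.mp hh)
  have h01 : f 0 ∈ S ↔ f 1 ∉ S := by
    have h := (hS (e 0)).mpr rfl
    rcases hC.2.2 0 with h' | h'
    · rw [h'] at h
      exact h
    · rw [h'] at h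
      change (f 1 ∈ S ↔ f 0 ∉ S) at h
      tauto
  have hother : ∀ e', e' ≠ e 0 → ((ends e').1 ∈ S ↔ (ends e').2 ∈ S) := by
    intro e' he'
    have h := (hS e').not.mpr he'
    tauto
  by_cases h0 : f 0 ∈ S
  · refine ⟨S, h0, gen S h0 (h01.mp h0) hother, hother⟩
  · have h1 : f 1 ∈ S := by
      by_contra h1
      exact h0 (h01.mpr h1)
    have hother' : ∀ e', e' ≠ e 0 → ((ends e').1 ∈ Sᶜ ↔ (ends e').2 ∈ Sᶜ) := by
      intro e' he'
      rw [Finset.mem_compl, Finset.mem_compl, hother e' he']
    refine ⟨Sᶜ, Finset.mem_compl.mpr h0, gen Sᶜ (Finset.mem_compl.mpr h0) ?_ hother', hother'⟩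
    rw [Finset.mem_compl]
    exact fun h => h h1

/-- non-chain edges between chain vertices are loops. -/
theorem chain_loop (hβ : IsMultFn ends β) (hC : IsChain ends f e) (c : ℤ)
    (hβc : ∀ i, β (f i) = c) (hα : ∀ i, mfMatrix ends β (f i) (f i) = -2)
    (A : Finset V) (hA0 : f 0 ∈ A) (hA1 : ∀ j : Fin (n + 1 + 1), j ≠ 0 → f j ∉ A)
    (hA : ∀ e', e' ≠ e 0 → ((ends e').1 ∈ A ↔ (ends e').2 ∈ A))
    (e' : E) (he' : e' ∉ Finset.univ.image e) (i j : Fin (n + 1 + 1))
    (h1 : (ends e').1 = f i) (h2 : (ends e').2 = f j) : i = j := by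
  by_contra hij
  have hne0 : e' ≠ e 0 := by rintro rfl; exact he' (chain_edge_mem e 0)
  have hiff := hA e' hne0
  rw [h1, h2] at hiff
  by_cases hi0 : i = 0
  · by_cases hj0 : j = 0
    · exact hij (hi0.trans hj0.symm)
    · rw [hi0] at hiff
      exact hA1 j hj0 (hiff.mp hA0)
  · by_cases hil : i = Fin.last (n + 1)
    · by_cases hj0 : j = 0
      · rw [hj0] at hiff
        exact hA1 i hi0 (hiff.mpr hA0)
      · have hjl : j ≠ Fin.last (n + 1) := fun h => hij (hil.trans h.symm)
        have := (interior_edges ends β f e hβ hC c hβc j hj0 hjl (hα j) e' he').2 h2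
        rw [h1] at this
        exact hij (hC.1 this)
    · have := (interior_edges ends β f e hβ hC c hβc i hi0 hil (hα i) e' he').1 h1
      rw [h2] at this
      exact hij (hC.1 this).symm

end chain1

end Groth.Agent.Lib.Helper24Contr
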