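import Mathlib
import Groth.Prelude.Def_W4c2conddiscmodels
import Groth.Agent.Lib.Helper24Contr3

set_option autoImplicit false
universe u

namespace Groth.Agent.Lib.Helper24Contr

open LabGraph DualGr

variable {V E : Type u} [Fintype V] [Fintype E] [DecidableEq V] [DecidableEq E]

section chain1

variable (ends : E → V × V) (β : V → ℤ) {n : ℕ} (f : Fin (n + 1 + 1) → V) (e : Fin (n + 1) → E)

/-- the potential `ζ` with `α ζ = 1_{f 0} - 1_{f last}` and `ζ (f j) = j`. -/
theorem exists_zeta (hβ : IsMultFn ends β) (hC : IsChain ends f e)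
    (hconn : IsConnecting ends (e 0))
    (hβc : ∀ i, β (f i) = ((n + 1 : ℕ) : ℤ)) (hα : ∀ i, mfMatrix ends β (f i) (f i) = -2) :
    ∃ ζ : V → ℤ, (∀ j : Fin (n + 1 + 1), ζ (f j) = (j.val : ℤ)) ∧
      ∀ v, (Matrix.mulVec (mfMatrix ends β) ζ) v =
        (if f 0 = v then 1 else 0) - (if f (Fin.last (n + 1)) = v then 1 else 0) := by
  classical
  obtain ⟨A, hA0, hA1, hA⟩ := exists_cut ends f e hC hconn
  set ζ : V → ℤ := fun v =>
    if v ∈ A then 0 else if h : ∃ j, f j = v then (h.choose.val : ℤ) else β v with hζ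
  have hζA : ∀ v, v ∈ A → ζ v = 0 := by
    intro v hv
    rw [hζ]
    simp only
    rw [if_pos hv]
  have hζoff : ∀ v, v ∉ A → (¬ ∃ j, f j = v) → ζ v = β v := by
    intro v hv hc
    rw [hζ]
    simp only
    rw [if_neg hv, dif_neg hc]
  have hζf : ∀ j : Fin (n + 1 + 1), ζ (f j) = (j.val : ℤ) := by
    intro j
    by_cases hj : j = 0
    · rw [hj, hζA _ hA0]; simp
    · rw [hζ]
      simp only
      have hex : ∃ j', f j' = f j := ⟨j, rfl⟩
      rw [if_neg (hA1 j hj), dif_pos hex]
      have := hC.1 hex.choose_spec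
      rw [this]
  have hZ : ∀ e', e' ∉ Finset.univ.image e →
      β (ends e').1 * ζ (ends e').2 = β (ends e').2 * ζ (ends e').1 := by
    intro e' he'
    have hne0 : e' ≠ e 0 := by rintro rfl; exact he' (chain_edge_mem e 0)
    have hiff := hA e' hne0
    by_cases ha : (ends e').1 ∈ A
    · rw [hζA _ ha, hζA _ (hiff.mp ha)]; ring
    · have hb : (ends e').2 ∉ A := fun h => ha (hiff.mpr h)
      by_cases hca : ∃ i, f i = (ends e').1
      · obtain ⟨i, hi⟩ := hca
        by_cases hcb : ∃ j, f j = (ends e').2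
        · obtain ⟨j, hj⟩ := hcb
          have := chain_loop ends β f e hβ hC _ hβc hα A hA0 hA1 hA e' he' i j hi.symm hj.symm
          rw [← hi, ← hj, this]
        · have hi0 : i ≠ 0 := by
            rintro rfl
            exact ha (hi ▸ hA0)
          have hil : i = Fin.last (n + 1) := by
            by_contra hil
            have := (interior_edges ends β f e hβ hC _ hβc i hi0 hil (hα i) e' he').1 hi.symm
            exact hcb ⟨i, this.symm⟩
          rw [hζoff _ hb hcb, ← hi, hζf, hβc, hil, Fin.val_last]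
          ring
      · by_cases hcb : ∃ j, f j = (ends e').2
        · obtain ⟨j, hj⟩ := hcb
          have hj0 : j ≠ 0 := by
            rintro rfl
            exact hb (hj ▸ hA0)
          have hjl : j = Fin.last (n + 1) := by
            by_contra hjl
            have := (interior_edges ends β f e hβ hC _ hβc j hj0 hjl (hα j) e' he').2 hj.symm
            exact hca ⟨j, this.symm⟩
          rw [hζoff _ ha hca, ← hj, hζf, hβc, hjl, Fin.val_last]
          ring
        · rw [hζoff _ ha hca, hζoff _ hb hcb]; ring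
  refine ⟨ζ, hζf, fun v => ?_⟩
  have hLam : Lam ends β ζ v = ((n + 1 : ℕ) : ℤ) *
      ((if f 0 = v then 1 else 0) - (if f (Fin.last (n + 1)) = v then 1 else 0)) := by
    rw [Lam_eq_chain' ends β f e hC _ hβc ζ v
      (fun e' he' => Tm_eq_zero_of_q ends β ζ v e' (hZ e' he'))]
    have h1 : ∀ i : Fin (n + 1), ((n + 1 : ℕ) : ℤ) * (ζ (f i.succ) - ζ (f i.castSucc)) *
        ((if f i.castSucc = v then 1 else 0) - (if f i.succ = v then 1 else 0)) =
        ((n + 1 : ℕ) : ℤ) * ((fun j : Fin (n + 1 + 1) => if f j = v then (1 : ℤ) else 0) i.castSucc -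
          (fun j : Fin (n + 1 + 1) => if f j = v then (1 : ℤ) else 0) i.succ) := by
      intro i
      rw [hζf, hζf, Fin.val_succ, Fin.val_castSucc]
      push_cast
      ring
    simp_rw [h1]
    have htel := telescope (k := n + 1) (fun j : Fin (n + 1 + 1) => if f j = v then (1 : ℤ) else 0)
    rw [← Finset.mul_sum, htel]
  have key : β v * (Matrix.mulVec (mfMatrix ends β) ζ) v = β v *
      ((if f 0 = v then 1 else 0) - (if f (Fin.last (n + 1)) = v then 1 else 0)) := by
    rw [beta_mul_mulVec ends β hβ ζ v, hLam]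
    by_cases h0 : f 0 = v
    · rw [← h0, hβc]
    · by_cases hl : f (Fin.last (n + 1)) = v
      · rw [← hl, hβc]
      · rw [if_neg h0, if_neg hl]; ring
  exact mul_left_cancel₀ (hβ v).1.ne' key

end chain1

section chain

variable (ends : E → V × V) (β : V → ℤ) {k : ℕ} (f : Fin (k + 1) → V) (e : Fin k → E)

/-- row of `α y` at an interior chain vertex. -/
theorem interior_row (hβ : IsMultFn ends β) (hC : IsChain ends f e) (c : ℤ)
    (hβc : ∀ i, β (f i) = c) (a b : Fin k) (hab : a.succ = b.castSucc)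
    (hα : mfMatrix ends β (f b.castSucc) (f b.castSucc) = -2) (y : V → ℤ) :
    c * (Matrix.mulVec (mfMatrix ends β) y) (f b.castSucc) =
      c * (y (f b.succ) + y (f a.castSucc) - 2 * y (f b.castSucc)) := by
  have hj0 : b.castSucc ≠ 0 := by
    rw [← hab]; exact Fin.succ_ne_zero a
  have hjl : b.castSucc ≠ Fin.last k := (Fin.castSucc_lt_last b).ne
  have h0 : ∀ e', e' ∉ Finset.univ.image e → Tm ends β y (f b.castSucc) e' = 0 := fun e' he' =>
    interior_Tm_zero ends β y _ e'
      (interior_edges ends β f e hβ hC c hβc b.castSucc hj0 hjl hα e' he')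
  have e1 : ∀ i : Fin k, (if f i.castSucc = f b.castSucc then (1 : ℤ) else 0) =
      if i = b then 1 else 0 := by
    intro i
    by_cases h : i = b
    · rw [h, if_pos rfl, if_pos rfl]
    · rw [if_neg h, if_neg]
      intro h'
      exact h (Fin.castSucc_injective _ (hC.1 h'))
  have e2 : ∀ i : Fin k, (if f i.succ = f b.castSucc then (1 : ℤ) else 0) =
      if i = a then 1 else 0 := by
    intro i
    by_cases h : i = a
    · rw [h, hab, if_pos rfl, if_pos rfl]
    · rw [if_neg h, if_neg]
      intro h'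
      have := hC.1 h'
      rw [← hab] at this
      exact h (Fin.succ_injective _ this)
  have h1 := beta_mul_mulVec ends β hβ y (f b.castSucc)
  rw [hβc, Lam_eq_chain' ends β f e hC c hβc y _ h0] at h1
  rw [h1]
  simp_rw [e1, e2, mul_sub, Finset.sum_sub_distrib]
  simp only [mul_ite, mul_one, mul_zero, Finset.sum_ite_eq', Finset.mem_univ, if_true]
  rw [hab]
  ring

end chain

section chain1

variable (ends : E → V × V) (β : V → ℤ) {n : ℕ} (f : Fin (n + 1 + 1) → V) (e : Fin (n + 1) → E)

omit [Fintype V] [DecidableEq V] in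
theorem chain_AP (y : V → ℤ)
    (hrel : ∀ a b : Fin (n + 1), a.succ = b.castSucc →
      y (f b.succ) + y (f a.castSucc) = 2 * y (f b.castSucc)) :
    ∀ j : Fin (n + 1 + 1), y (f j) = y (f 0) + (j.val : ℤ) * (y (f 1) - y (f 0)) := by
  have key : ∀ i : ℕ, ∀ h : i < n + 1 + 1,
      y (f ⟨i, h⟩) = y (f 0) + (i : ℤ) * (y (f 1) - y (f 0)) := by
    intro i
    induction i using Nat.twoStepInduction with
    | zero =>
      intro h
      have : (⟨0, h⟩ : Fin (n + 1 + 1)) = 0 := Fin.ext (by simp)
      rw [this]; simp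
    | one =>
      intro h
      have : (⟨1, h⟩ : Fin (n + 1 + 1)) = 1 := Fin.ext (by simp)
      rw [this]; simp
    | more i ih1 ih2 =>
      intro h
      have hr := hrel ⟨i, by omega⟩ ⟨i + 1, by omega⟩ (Fin.ext (by simp))
      have e1 : (⟨i + 1, by omega⟩ : Fin (n + 1)).succ = (⟨i + 2, h⟩ : Fin (n + 1 + 1)) :=
        Fin.ext (by simp)
      have e2 : (⟨i, by omega⟩ : Fin (n + 1)).castSucc = (⟨i, by omega⟩ : Fin (n + 1 + 1)) :=
        Fin.ext (by simp)
      have e3 : (⟨i + 1, by omega⟩ : Fin (n + 1)).castSucc = (⟨i + 1, by omega⟩ : Fin (n + 1 + 1)) :=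
        Fin.ext (by simp)
      rw [e1, e2, e3, ih1 (by omega), ih2 (by omega)] at hr
      push_cast at hr ⊢
      linarith
  intro j
  exact key j.val j.isLt

end chain1

end Groth.Agent.Lib.Helper24Contr
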