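import Mathlib
import Groth.Prelude.Def_W4c2conddiscmodels
import Groth.Agent.Lib.Helper24Contr4

set_option autoImplicit false
universe u

namespace Groth.Agent.Lib.Helper24Contr

open LabGraph DualGr

variable {V E : Type u} [Fintype V] [Fintype E] [DecidableEq V] [DecidableEq E]

omit [DecidableEq V] in
theorem sum_ite_fiber' [DecidableEq V] (P : V → Prop) [DecidablePred P] (a₀ : V) (X : V → ℤ) :
    (∑ a, if P a then (if a₀ = a then X a else 0) else 0) = if P a₀ then X a₀ else 0 := by
  rw [Finset.sum_eq_single a₀]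
  · rw [if_pos rfl]
  · intro b _ hb
    have : ¬ a₀ = b := fun h => hb h.symm
    simp [this]
  · intro h; exact absurd (Finset.mem_univ _) h

section chain

variable (ends : E → V × V) (β : V → ℤ) {k : ℕ} (f : Fin (k + 1) → V) (e : Fin k → E)

/-- the pushforward identity: `β' c (α' y')(c) = Σ_{v ↦ c} β v (α (y' ∘ π)) v`. -/
theorem pushforward_aux (hβ : IsMultFn ends β) (hC : IsChain ends f e)
    (hconst : ∀ i j, β (f i) = β (f j)) (D : Finset E) (hD : D = Finset.univ.image e)
    (y' : CtrVert ends D → ℤ) (v₀ : V) :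
    β v₀ * (Matrix.mulVec (mfMatrix (ctrEnds ends D)
        (ctrFn ends D β)) y') (ctrMk ends D v₀) =
      ∑ v, if ctrMk ends D v = ctrMk ends D v₀ then
        β v * (Matrix.mulVec (mfMatrix ends β)
          (fun u => y' (ctrMk ends D u))) v else 0 := by
  classical
  have hβ' : ∀ u, ctrFn ends D β (ctrMk ends D u) = β u := by
    subst hD; exact ctrFn_ctrMk ends f e hC β hconst
  have hβeq : ∀ {u w : V}, ctrMk ends D u = ctrMk ends D w → β u = β w := by
    subst hD; exact fun h => beta_eq_of_ctrMk_eq ends f e hC β hconst h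
  have hM' : IsMultFn (ctrEnds ends D) (ctrFn ends D β) := by
    subst hD; exact isMultFn_contract ends f e hC β hβ hconst
  rw [← hβ' v₀, beta_mul_mulVec (ctrEnds ends D) (ctrFn ends D β) hM' y' (ctrMk ends D v₀)]
  simp_rw [beta_mul_mulVec ends β hβ]
  unfold Lam
  -- LHS to a sum over E
  have hL : (∑ e' : CtrEdge D,
      ((if (ctrEnds ends D e').1 = ctrMk ends D v₀ then
          ctrFn ends D β (ctrMk ends D v₀) * y' (ctrEnds ends D e').2 -
            ctrFn ends D β (ctrEnds ends D e').2 * y' (ctrMk ends D v₀) else 0) +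
        (if (ctrEnds ends D e').2 = ctrMk ends D v₀ then
          ctrFn ends D β (ctrMk ends D v₀) * y' (ctrEnds ends D e').1 -
            ctrFn ends D β (ctrEnds ends D e').1 * y' (ctrMk ends D v₀) else 0)))
      = ∑ e'', if e'' ∉ D then
        ((if ctrMk ends D (ends e'').1 = ctrMk ends D v₀ then
          β v₀ * y' (ctrMk ends D (ends e'').2) - β (ends e'').2 * y' (ctrMk ends D v₀) else 0) +
        (if ctrMk ends D (ends e'').2 = ctrMk ends D v₀ then
          β v₀ * y' (ctrMk ends D (ends e'').1) - β (ends e'').1 * y' (ctrMk ends D v₀) else 0))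
        else 0 := by
    rw [← sum_ctrEdge D (fun e'' =>
      ((if ctrMk ends D (ends e'').1 = ctrMk ends D v₀ then
          β v₀ * y' (ctrMk ends D (ends e'').2) - β (ends e'').2 * y' (ctrMk ends D v₀) else 0) +
        (if ctrMk ends D (ends e'').2 = ctrMk ends D v₀ then
          β v₀ * y' (ctrMk ends D (ends e'').1) - β (ends e'').1 * y' (ctrMk ends D v₀) else 0)))]
    refine Finset.sum_congr rfl (fun e' _ => ?_)
    simp only [ctrEnds, hβ']
  rw [hL]
  -- RHS: swap sums
  have hR : ∀ a, (if ctrMk ends D a = ctrMk ends D v₀ then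
      ∑ e'', ((if (ends e'').1 = a then
          β a * y' (ctrMk ends D (ends e'').2) - β (ends e'').2 * y' (ctrMk ends D a) else 0) +
        (if (ends e'').2 = a then
          β a * y' (ctrMk ends D (ends e'').1) - β (ends e'').1 * y' (ctrMk ends D a) else 0))
      else 0) = ∑ e'', ((if ctrMk ends D a = ctrMk ends D v₀ then
        (if (ends e'').1 = a then
          β a * y' (ctrMk ends D (ends e'').2) - β (ends e'').2 * y' (ctrMk ends D a) else 0) else 0) +
        (if ctrMk ends D a = ctrMk ends D v₀ then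
        (if (ends e'').2 = a then
          β a * y' (ctrMk ends D (ends e'').1) - β (ends e'').1 * y' (ctrMk ends D a) else 0) else 0)) := by
    intro a
    split_ifs with h
    · rfl
    · simp
  simp_rw [hR]
  rw [Finset.sum_comm]
  refine Finset.sum_congr rfl (fun e'' _ => ?_)
  rw [Finset.sum_add_distrib]
  rw [sum_ite_fiber' (fun a => ctrMk ends D a = ctrMk ends D v₀) (ends e'').1
    (fun a => β a * y' (ctrMk ends D (ends e'').2) - β (ends e'').2 * y' (ctrMk ends D a))]
  rw [sum_ite_fiber' (fun a => ctrMk ends D a = ctrMk ends D v₀) (ends e'').2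
    (fun a => β a * y' (ctrMk ends D (ends e'').1) - β (ends e'').1 * y' (ctrMk ends D a))]
  by_cases hDe : e'' ∈ D
  · have hπ : ctrMk ends D (ends e'').1 = ctrMk ends D (ends e'').2 :=
      ctrMk_fst_eq_ctrMk_snd ends D hDe
    have hb : β (ends e'').1 = β (ends e'').2 := hβeq hπ
    rw [if_neg (fun h => h hDe), hπ, hb]
    split_ifs <;> ring
  · rw [if_pos hDe]
    congr 1
    · by_cases h : ctrMk ends D (ends e'').1 = ctrMk ends D v₀
      · rw [if_pos h, if_pos h, h, hβeq h]
      · rw [if_neg h, if_neg h]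
    · by_cases h : ctrMk ends D (ends e'').2 = ctrMk ends D v₀
      · rw [if_pos h, if_pos h, h, hβeq h]
      · rw [if_neg h, if_neg h]

theorem pushforward (hβ : IsMultFn ends β) (hC : IsChain ends f e)
    (hconst : ∀ i j, β (f i) = β (f j)) (y' : CtrVert ends (Finset.univ.image e) → ℤ) (v₀ : V) :
    β v₀ * (Matrix.mulVec (mfMatrix (ctrEnds ends (Finset.univ.image e))
        (ctrFn ends (Finset.univ.image e) β)) y') (ctrMk ends (Finset.univ.image e) v₀) =
      ∑ v, if ctrMk ends (Finset.univ.image e) v = ctrMk ends (Finset.univ.image e) v₀ then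
        β v * (Matrix.mulVec (mfMatrix ends β)
          (fun u => y' (ctrMk ends (Finset.univ.image e) u))) v else 0 :=
  pushforward_aux ends β f e hβ hC hconst _ rfl y' v₀

theorem fiber_off (hC : IsChain ends f e) (g : V → ℤ) (v₀ : V) (hv₀ : ¬ ∃ j, f j = v₀) :
    (∑ v, if ctrMk ends (Finset.univ.image e) v = ctrMk ends (Finset.univ.image e) v₀
      then g v else 0) = g v₀ := by
  rw [Finset.sum_eq_single v₀]
  · rw [if_pos rfl]
  · intro b _ hb
    rw [if_neg]
    intro h
    rcases (ctrMk_eq_iff ends f e hC b v₀).mp h with h1 | ⟨-, h2⟩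
    · exact hb h1
    · exact hv₀ h2
  · intro h; exact absurd (Finset.mem_univ _) h

theorem fiber_on (hC : IsChain ends f e) (g : V → ℤ) :
    (∑ v, if ctrMk ends (Finset.univ.image e) v = ctrMk ends (Finset.univ.image e) (f 0)
      then g v else 0) = ∑ j, g (f j) := by
  classical
  rw [← Finset.sum_filter]
  have : Finset.univ.filter (fun v => ctrMk ends (Finset.univ.image e) v =
      ctrMk ends (Finset.univ.image e) (f 0)) = Finset.univ.image f := by
    ext v
    simp only [Finset.mem_filter, Finset.mem_univ, true_and, Finset.mem_image]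
    rw [ctrMk_eq_iff ends f e hC]
    constructor
    · rintro (h | ⟨h, -⟩)
      · exact ⟨0, h.symm⟩
      · exact h
    · intro h; exact Or.inr ⟨h, ⟨0, rfl⟩⟩
  rw [this, Finset.sum_image (fun a _ b _ h => hC.1 h)]

omit [Fintype V] [Fintype E] in
theorem liftAt_zero (x : CtrVert ends (Finset.univ.image e) → ℤ) :
    liftAt ends (Finset.univ.image e) (f 0) x (f 0) = x (ctrMk ends (Finset.univ.image e) (f 0)) := by
  unfold liftAt
  rw [if_neg (fun h => h.2 rfl)]

theorem liftAt_succ (hC : IsChain ends f e) (x : CtrVert ends (Finset.univ.image e) → ℤ)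
    (j : Fin (k + 1)) (hj : j ≠ 0) :
    liftAt ends (Finset.univ.image e) (f 0) x (f j) = 0 := by
  unfold liftAt
  rw [if_pos ⟨ctrMk_chain ends f e hC j, fun h => hj (hC.1 h)⟩]

theorem liftAt_off (hC : IsChain ends f e) (x : CtrVert ends (Finset.univ.image e) → ℤ)
    (v : V) (hv : ¬ ∃ j, f j = v) :
    liftAt ends (Finset.univ.image e) (f 0) x v = x (ctrMk ends (Finset.univ.image e) v) := by
  unfold liftAt
  rw [if_neg]
  rintro ⟨h, -⟩
  rcases (ctrMk_eq_iff ends f e hC _ _).mp h with h1 | ⟨h1, -⟩
  · exact hv ⟨0, h1.symm⟩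
  · exact hv h1

theorem sum_liftAt_chain (hC : IsChain ends f e) (x : CtrVert ends (Finset.univ.image e) → ℤ) :
    ∑ j, liftAt ends (Finset.univ.image e) (f 0) x (f j) =
      x (ctrMk ends (Finset.univ.image e) (f 0)) := by
  rw [Finset.sum_eq_single 0]
  · exact liftAt_zero ends f e x
  · intro b _ hb
    exact liftAt_succ ends f e hC x b hb
  · intro h; exact absurd (Finset.mem_univ _) h

omit [Fintype V] [Fintype E] [DecidableEq E] in
theorem sum_ind_chain (hC : IsChain ends f e) (i : Fin (k + 1)) :
    ∑ j, (if f i = f j then (1 : ℤ) else 0) = 1 := by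
  rw [Finset.sum_eq_single i]
  · rw [if_pos rfl]
  · intro b _ hb
    rw [if_neg (fun h => hb (hC.1 h).symm)]
  · intro h; exact absurd (Finset.mem_univ _) h

end chain

end Groth.Agent.Lib.Helper24Contr
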