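import Mathlib
import Groth.Prelude.Def_W4c2conddiscmodels
import Groth.Agent.Lib.Helper24Contr5

set_option autoImplicit false
universe u

namespace Groth.Agent.Lib.Helper24Contr

open LabGraph DualGr

variable {V E : Type u} [Fintype V] [Fintype E] [DecidableEq V] [DecidableEq E]

theorem s14802_aux (ends : E → V × V) (β : V → ℤ) (hβ : IsMultFn ends β)
    (n : ℕ) (f : Fin (n + 1 + 1) → V) (e : Fin (n + 1) → E) (hC : IsChain ends f e)
    (hconn : ∀ i, IsConnecting ends (e i)) (hβm : ∀ i, β (f i) = ((n + 1 : ℕ) : ℤ))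
    (hα : ∀ i, mfMatrix ends β (f i) (f i) = -2)
    (x : CtrVert ends (Finset.univ.image e) → ℤ)
    (hfx : liftAt ends (Finset.univ.image e) (f 0) x ∈
      LinearMap.range (Matrix.mulVecLin (mfMatrix ends β))) :
    x ∈ LinearMap.range (Matrix.mulVecLin
      (mfMatrix (ctrEnds ends (Finset.univ.image e)) (ctrFn ends (Finset.univ.image e) β))) := by
  classical
  obtain ⟨y, hy⟩ := hfx
  have hrow : ∀ v, (Matrix.mulVec (mfMatrix ends β) y) v =
      liftAt ends (Finset.univ.image e) (f 0) x v := fun v => congrFun hy v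
  have hcpos : (0 : ℤ) < ((n + 1 : ℕ) : ℤ) := by positivity
  have hrel : ∀ a b : Fin (n + 1), a.succ = b.castSucc →
      y (f b.succ) + y (f a.castSucc) = 2 * y (f b.castSucc) := by
    intro a b hab
    have h1 := interior_row ends β f e hβ hC _ hβm a b hab (hα _) y
    rw [hrow, liftAt_succ ends f e hC x _ (by rw [← hab]; exact Fin.succ_ne_zero a),
      mul_zero] at h1
    have h2 := mul_left_cancel₀ hcpos.ne' (h1.symm.trans (mul_zero _).symm)
    linarith
  have hAP := chain_AP f y hrel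
  obtain ⟨ζ, hζ1, hζ2⟩ := exists_zeta ends β f e hβ hC (hconn 0) hβm hα
  set δ : ℤ := y (f 1) - y (f 0) with hδ
  set y₁ : V → ℤ := fun v => y v - δ * ζ v with hy₁
  have hy₁c : ∀ j, y₁ (f j) = y (f 0) := by
    intro j
    simp only [hy₁]
    rw [hAP j, hζ1]
    ring
  have hαy₁ : ∀ v, (Matrix.mulVec (mfMatrix ends β) y₁) v =
      liftAt ends (Finset.univ.image e) (f 0) x v -
        δ * ((if f 0 = v then 1 else 0) - (if f (Fin.last (n + 1)) = v then 1 else 0)) := by
    intro v
    have : y₁ = y - δ • ζ := by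
      funext u
      simp [hy₁]
    rw [this, Matrix.mulVec_sub, Matrix.mulVec_smul, Pi.sub_apply, Pi.smul_apply, hrow, hζ2,
      smul_eq_mul]
  set y' : CtrVert ends (Finset.univ.image e) → ℤ :=
    fun c => y₁ (Quotient.out (s := ctrSetoid ends (Finset.univ.image e)) c) with hy'
  have hy'π : ∀ v, y' (ctrMk ends (Finset.univ.image e) v) = y₁ v := by
    intro v
    have h1 : ctrMk ends (Finset.univ.image e)
        (Quotient.out (s := ctrSetoid ends (Finset.univ.image e))
          (ctrMk ends (Finset.univ.image e) v)) = ctrMk ends (Finset.univ.image e) v :=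
      Quotient.out_eq _
    rcases (ctrMk_eq_iff ends f e hC _ _).mp h1 with h2 | ⟨⟨i, hi⟩, ⟨j, hj⟩⟩
    · change y₁ _ = _
      rw [h2]
    · change y₁ _ = _
      rw [← hi, ← hj, hy₁c, hy₁c]
  have hfun : (fun u => y' (ctrMk ends (Finset.univ.image e) u)) = y₁ := funext hy'π
  refine ⟨y', ?_⟩
  funext c
  obtain ⟨v₀, rfl⟩ := ctrMk_surjective ends (Finset.univ.image e) c
  rw [Matrix.mulVecLin_apply]
  by_cases hv₀ : ∃ j, f j = v₀
  · obtain ⟨j, rfl⟩ := hv₀
    rw [ctrMk_chain ends f e hC j]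
    have hP := pushforward ends β f e hβ hC (fun i j => by rw [hβm, hβm]) y' (f 0)
    rw [hfun, fiber_on ends f e hC] at hP
    have hsum : ∑ j, β (f j) * (Matrix.mulVec (mfMatrix ends β) y₁) (f j) =
        ((n + 1 : ℕ) : ℤ) * x (ctrMk ends (Finset.univ.image e) (f 0)) := by
      simp_rw [hβm, hαy₁]
      rw [← Finset.mul_sum, Finset.sum_sub_distrib, ← Finset.mul_sum, Finset.sum_sub_distrib,
        sum_liftAt_chain ends f e hC x, sum_ind_chain ends f e hC 0,
        sum_ind_chain ends f e hC (Fin.last (n + 1))]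
      ring
    rw [hsum, hβm] at hP
    exact mul_left_cancel₀ hcpos.ne' hP
  · have hP := pushforward ends β f e hβ hC (fun i j => by rw [hβm, hβm]) y' v₀
    rw [hfun, fiber_off ends f e hC _ v₀ hv₀, hαy₁] at hP
    have h0 : ¬ f 0 = v₀ := fun h => hv₀ ⟨0, h⟩
    have hl : ¬ f (Fin.last (n + 1)) = v₀ := fun h => hv₀ ⟨_, h⟩
    rw [if_neg h0, if_neg hl, liftAt_off ends f e hC x v₀ hv₀] at hP
    have := mul_left_cancel₀ (hβ v₀).1.ne' hP
    rw [this]
    ring

theorem s14802 (ends : E → V × V) (β : V → ℤ) (hβ : IsMultFn ends β)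
    (m : ℕ) (f : Fin (m + 1) → V) (e : Fin m → E) (hC : IsChain ends f e)
    (hconn : ∀ i, IsConnecting ends (e i)) (hβm : ∀ i, β (f i) = m)
    (hα : ∀ i, mfMatrix ends β (f i) (f i) = -2)
    (x : CtrVert ends (Finset.univ.image e) → ℤ)
    (hfx : liftAt ends (Finset.univ.image e) (f 0) x ∈
      LinearMap.range (Matrix.mulVecLin (mfMatrix ends β))) :
    x ∈ LinearMap.range (Matrix.mulVecLin
      (mfMatrix (ctrEnds ends (Finset.univ.image e)) (ctrFn ends (Finset.univ.image e) β))) := by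
  have hm : 0 < m := by
    have := (hβ (f 0)).1
    rw [hβm] at this
    exact_mod_cast this
  obtain ⟨n, rfl⟩ : ∃ n, m = n + 1 := ⟨m - 1, by omega⟩
  exact s14802_aux ends β hβ n f e hC hconn hβm hα x hfx

end Groth.Agent.Lib.Helper24Contr
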