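import Mathlib
import Groth.Prelude.Def_W4c2conddiscmodels
import Groth.Agent.Lib.Helper24Contr6

set_option autoImplicit false
universe u

namespace Groth.Agent.Lib.Helper24Contr

open LabGraph DualGr

variable {V E : Type u} [Fintype V] [Fintype E] [DecidableEq V] [DecidableEq E]

/-- `liftAt` as a linear map. -/
noncomputable def liftLin (ends : E → V × V) (D : Finset E) (v₀ : V) :
    (CtrVert ends D → ℤ) →ₗ[ℤ] (V → ℤ) where
  toFun x := liftAt ends D v₀ x
  map_add' x x' := by
    funext v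
    unfold liftAt
    simp only [Pi.add_apply]
    split_ifs <;> simp
  map_smul' c x := by
    funext v
    unfold liftAt
    simp only [Pi.smul_apply, RingHom.id_apply]
    split_ifs <;> simp

omit [Fintype V] [Fintype E] [DecidableEq E] in
theorem liftLin_apply (ends : E → V × V) (D : Finset E) (v₀ : V) (x : CtrVert ends D → ℤ) :
    liftLin ends D v₀ x = liftAt ends D v₀ x := rfl

omit [DecidableEq V] [Fintype E] [DecidableEq E] in
theorem betaHom_apply (β : V → ℤ) (z : V → ℤ) : betaHom β z = ∑ v, z v * β v := by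
  unfold betaHom
  rw [Fintype.linearCombination_apply]
  rfl

omit [Fintype V] [DecidableEq V] in
theorem sum_two_ends {n : ℕ} (g : Fin (n + 1 + 1) → ℤ)
    (h : ∀ j, j ≠ 0 → j ≠ Fin.last (n + 1) → g j = 0) :
    ∑ j, g j = g 0 + g (Fin.last (n + 1)) := by
  refine Finset.sum_eq_add_of_mem 0 (Fin.last (n + 1)) (Finset.mem_univ _) (Finset.mem_univ _) ?_ ?_
  · exact (Fin.last_pos).ne
  · intro c _ hc
    exact h c hc.1 hc.2

section chain

variable (ends : E → V × V) (β : V → ℤ) {k : ℕ} (f : Fin (k + 1) → V) (e : Fin k → E)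

/-- `β(liftAt x) = β'(x)`. -/
theorem betaHom_liftAt (hC : IsChain ends f e) (hconst : ∀ i j, β (f i) = β (f j))
    (x : CtrVert ends (Finset.univ.image e) → ℤ) :
    betaHom β (liftAt ends (Finset.univ.image e) (f 0) x) =
      betaHom (ctrFn ends (Finset.univ.image e) β) x := by
  classical
  rw [betaHom_apply, betaHom_apply]
  rw [← Finset.sum_fiberwise Finset.univ (ctrMk ends (Finset.univ.image e))]
  refine Finset.sum_congr rfl (fun c _ => ?_)
  obtain ⟨v₀, rfl⟩ := ctrMk_surjective ends (Finset.univ.image e) c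
  rw [Finset.sum_filter, ctrFn_ctrMk ends f e hC β hconst]
  by_cases hv₀ : ∃ j, f j = v₀
  · obtain ⟨j, rfl⟩ := hv₀
    rw [ctrMk_chain ends f e hC j, fiber_on ends f e hC]
    have : ∀ i, liftAt ends (Finset.univ.image e) (f 0) x (f i) * β (f i) =
        liftAt ends (Finset.univ.image e) (f 0) x (f i) * β (f j) := by
      intro i; rw [hconst i j]
    simp_rw [this]
    rw [← Finset.sum_mul, sum_liftAt_chain ends f e hC x]
  · rw [fiber_off ends f e hC _ v₀ hv₀, liftAt_off ends f e hC x v₀ hv₀]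

/-- rows of `α'` at a vertex off the chain. -/
theorem ctr_row_off (hβ : IsMultFn ends β) (hC : IsChain ends f e)
    (hconst : ∀ i j, β (f i) = β (f j)) (y' : CtrVert ends (Finset.univ.image e) → ℤ)
    (v₀ : V) (hv₀ : ¬ ∃ j, f j = v₀) :
    (Matrix.mulVec (mfMatrix (ctrEnds ends (Finset.univ.image e))
        (ctrFn ends (Finset.univ.image e) β)) y') (ctrMk ends (Finset.univ.image e) v₀) =
      (Matrix.mulVec (mfMatrix ends β)
          (fun u => y' (ctrMk ends (Finset.univ.image e) u))) v₀ := by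
  have hP := pushforward ends β f e hβ hC hconst y' v₀
  rw [fiber_off ends f e hC _ v₀ hv₀] at hP
  exact mul_left_cancel₀ (hβ v₀).1.ne' hP

/-- row of `α'` at the contracted vertex. -/
theorem ctr_row_on (hβ : IsMultFn ends β) (hC : IsChain ends f e)
    (hconst : ∀ i j, β (f i) = β (f j)) (y' : CtrVert ends (Finset.univ.image e) → ℤ) :
    (Matrix.mulVec (mfMatrix (ctrEnds ends (Finset.univ.image e))
        (ctrFn ends (Finset.univ.image e) β)) y') (ctrMk ends (Finset.univ.image e) (f 0)) =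
      ∑ j, (Matrix.mulVec (mfMatrix ends β)
          (fun u => y' (ctrMk ends (Finset.univ.image e) u))) (f j) := by
  have hP := pushforward ends β f e hβ hC hconst y' (f 0)
  rw [fiber_on ends f e hC] at hP
  have : ∀ j, β (f j) * (Matrix.mulVec (mfMatrix ends β)
      (fun u => y' (ctrMk ends (Finset.univ.image e) u))) (f j) =
      β (f 0) * (Matrix.mulVec (mfMatrix ends β)
      (fun u => y' (ctrMk ends (Finset.univ.image e) u))) (f j) := by
    intro j; rw [hconst j 0]
  simp_rw [this] at hP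
  rw [← Finset.mul_sum] at hP
  exact mul_left_cancel₀ (hβ (f 0)).1.ne' hP

end chain

section chain1

variable (ends : E → V × V) (β : V → ℤ) {n : ℕ} (f : Fin (n + 1 + 1) → V) (e : Fin (n + 1) → E)

/-- interior rows vanish for vectors constant on the chain. -/
theorem interior_row_const (hβ : IsMultFn ends β) (hC : IsChain ends f e)
    (hβc : ∀ i, β (f i) = ((n + 1 : ℕ) : ℤ)) (hα : ∀ i, mfMatrix ends β (f i) (f i) = -2)
    (y₁ : V → ℤ) (hy₁ : ∀ i j, y₁ (f i) = y₁ (f j))
    (j : Fin (n + 1 + 1)) (hj0 : j ≠ 0) (hjl : j ≠ Fin.last (n + 1)) :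
    (Matrix.mulVec (mfMatrix ends β) y₁) (f j) = 0 := by
  have hcpos : (0 : ℤ) < ((n + 1 : ℕ) : ℤ) := by positivity
  have has : (j.pred hj0).succ = j := Fin.succ_pred j hj0
  have hbc : (j.castPred hjl).castSucc = j := Fin.castSucc_castPred j hjl
  have h1 := interior_row ends β f e hβ hC _ hβc (j.pred hj0) (j.castPred hjl)
    (by rw [has, hbc]) (hα _) y₁
  rw [hbc] at h1
  rw [hy₁ (j.castPred hjl).succ j, hy₁ (j.pred hj0).castSucc j] at h1
  have h2 : ((n + 1 : ℕ) : ℤ) * (Matrix.mulVec (mfMatrix ends β) y₁) (f j) =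
      ((n + 1 : ℕ) : ℤ) * 0 := by rw [h1]; ring
  exact mul_left_cancel₀ hcpos.ne' h2

/-- `liftAt (α' y')` lies in the image of `α`. -/
theorem liftAt_range (hβ : IsMultFn ends β) (hC : IsChain ends f e)
    (hconn : IsConnecting ends (e 0))
    (hβc : ∀ i, β (f i) = ((n + 1 : ℕ) : ℤ)) (hα : ∀ i, mfMatrix ends β (f i) (f i) = -2)
    (y' : CtrVert ends (Finset.univ.image e) → ℤ) :
    liftAt ends (Finset.univ.image e) (f 0)
      (Matrix.mulVec (mfMatrix (ctrEnds ends (Finset.univ.image e))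
        (ctrFn ends (Finset.univ.image e) β)) y') ∈
      LinearMap.range (Matrix.mulVecLin (mfMatrix ends β)) := by
  classical
  obtain ⟨ζ, -, hζ2⟩ := exists_zeta ends β f e hβ hC hconn hβc hα
  have hconst : ∀ i j, β (f i) = β (f j) := fun i j => by rw [hβc, hβc]
  set y₁ : V → ℤ := fun u => y' (ctrMk ends (Finset.univ.image e) u) with hy₁
  have hy₁c : ∀ i j, y₁ (f i) = y₁ (f j) := by
    intro i j
    simp only [hy₁]
    rw [ctrMk_chain ends f e hC i, ctrMk_chain ends f e hC j]
  set t : ℤ := (Matrix.mulVec (mfMatrix ends β) y₁) (f (Fin.last (n + 1))) with ht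
  have hint := interior_row_const ends β f e hβ hC hβc hα y₁ hy₁c
  have hl0 : f (Fin.last (n + 1)) ≠ f 0 := fun h =>
    absurd (hC.1 h) (Fin.last_pos).ne'
  refine ⟨y₁ + t • ζ, ?_⟩
  funext v
  rw [Matrix.mulVecLin_apply, Matrix.mulVec_add, Matrix.mulVec_smul, Pi.add_apply, Pi.smul_apply,
    hζ2, smul_eq_mul]
  by_cases hv : ∃ j, f j = v
  · obtain ⟨j, rfl⟩ := hv
    by_cases hj0 : j = 0
    · rw [hj0, liftAt_zero, ctr_row_on ends β f e hβ hC hconst y',
        sum_two_ends _ (fun j h1 h2 => hint j h1 h2), if_pos rfl, if_neg hl0]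
      ring
    · rw [liftAt_succ ends f e hC _ j hj0]
      by_cases hjl : j = Fin.last (n + 1)
      · rw [hjl, if_neg hl0.symm, if_pos rfl]
        ring
      · rw [hint j hj0 hjl, if_neg (fun h => hj0 (hC.1 h).symm),
          if_neg (fun h => hjl (hC.1 h).symm)]
        ring
  · rw [liftAt_off ends f e hC _ v hv, ctr_row_off ends β f e hβ hC hconst y' v hv,
      if_neg (fun h => hv ⟨_, h⟩), if_neg (fun h => hv ⟨_, h⟩)]
    ring

end chain1

end Groth.Agent.Lib.Helper24Contr
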