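import Mathlib
import Groth.Prelude.Def_W4c2conddiscmodels
import Groth.Agent.Lib.Helper24Contr7

set_option autoImplicit false
universe u

namespace Groth.Agent.Lib.Helper24Contr

open LabGraph DualGr

variable {V E : Type u} [Fintype V] [Fintype E] [DecidableEq V] [DecidableEq E]

omit [Fintype V] [Fintype E] [DecidableEq E] in
theorem Tm_eq_zero' (ends : E → V × V) (β : V → ℤ) (y : V → ℤ) (v : V) (e' : E)
    (h1 : (ends e').1 = v → β v * y (ends e').2 = β (ends e').2 * y v)
    (h2 : (ends e').2 = v → β v * y (ends e').1 = β (ends e').1 * y v) :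
    Tm ends β y v e' = 0 := by
  unfold Tm
  by_cases ha : (ends e').1 = v
  · by_cases hb : (ends e').2 = v
    · rw [if_pos ha, if_pos hb, h1 ha, h2 hb]; ring
    · rw [if_pos ha, if_neg hb, h1 ha]; ring
  · by_cases hb : (ends e').2 = v
    · rw [if_neg ha, if_pos hb, h2 hb]; ring
    · rw [if_neg ha, if_neg hb]; ring

section chain1

variable {n : ℕ} (f : Fin (n + 1 + 1) → V)

/-- solution of the chain recursion. -/
def Ucoef (y : V → ℤ) (i : ℕ) : ℤ :=
  - ∑ j : Fin (n + 1 + 1), ((j.val - i : ℕ) : ℤ) * y (f j)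

omit [Fintype V] [DecidableEq V] in
theorem Ucoef_rec (y : V → ℤ) (i : ℕ) (hi : i + 1 < n + 1 + 1) :
    Ucoef f y i - 2 * Ucoef f y (i + 1) + Ucoef f y (i + 2) = - y (f ⟨i + 1, hi⟩) := by
  unfold Ucoef
  have hc : ∀ j : Fin (n + 1 + 1), ((j.val - i : ℕ) : ℤ) - 2 * ((j.val - (i + 1) : ℕ) : ℤ) +
      ((j.val - (i + 2) : ℕ) : ℤ) = if j = ⟨i + 1, hi⟩ then 1 else 0 := by
    intro j
    by_cases h : j = ⟨i + 1, hi⟩
    · rw [if_pos h]
      have : j.val = i + 1 := by rw [h]
      omega
    · rw [if_neg h]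
      have : j.val ≠ i + 1 := fun h' => h (Fin.ext h')
      omega
  have hsum : ∑ j : Fin (n + 1 + 1), ((j.val - i : ℕ) : ℤ) * y (f j) -
      2 * ∑ j : Fin (n + 1 + 1), ((j.val - (i + 1) : ℕ) : ℤ) * y (f j) +
      ∑ j : Fin (n + 1 + 1), ((j.val - (i + 2) : ℕ) : ℤ) * y (f j) = y (f ⟨i + 1, hi⟩) := by
    rw [Finset.mul_sum, ← Finset.sum_sub_distrib, ← Finset.sum_add_distrib]
    have : ∀ j : Fin (n + 1 + 1), ((j.val - i : ℕ) : ℤ) * y (f j) -
        2 * (((j.val - (i + 1) : ℕ) : ℤ) * y (f j)) + ((j.val - (i + 2) : ℕ) : ℤ) * y (f j) =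
        if j = ⟨i + 1, hi⟩ then y (f j) else 0 := by
      intro j
      have := hc j
      split_ifs at this ⊢ with h
      · linear_combination (y (f j)) * this
      · linear_combination (y (f j)) * this
    simp_rw [this]
    rw [Finset.sum_ite_eq' Finset.univ (⟨i + 1, hi⟩ : Fin (n + 1 + 1)) (fun j => y (f j))]
    simp
  linarith

omit [Fintype V] [DecidableEq V] in
theorem Ucoef_top (y : V → ℤ) (i : ℕ) (hi : n + 1 ≤ i) : Ucoef f y i = 0 := by
  unfold Ucoef
  rw [neg_eq_zero]
  refine Finset.sum_eq_zero (fun j _ => ?_)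
  have : j.val - i = 0 := by
    have := j.isLt
    omega
  rw [this]
  simp

/-- the correcting vector, supported on the chain. -/
noncomputable def uvec (y : V → ℤ) : V → ℤ := fun v =>
  if h : ∃ j, f j = v then Ucoef f y h.choose.val else 0

omit [Fintype V] in
theorem uvec_chain (hinj : Function.Injective f) (y : V → ℤ) (j : Fin (n + 1 + 1)) :
    uvec f y (f j) = Ucoef f y j.val := by
  unfold uvec
  have hex : ∃ j', f j' = f j := ⟨j, rfl⟩
  rw [dif_pos hex, hinj hex.choose_spec]

omit [Fintype V] in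
theorem uvec_off (y : V → ℤ) (v : V) (hv : ¬ ∃ j, f j = v) : uvec f y v = 0 := by
  unfold uvec
  rw [dif_neg hv]

variable (ends : E → V × V) (β : V → ℤ) (e : Fin (n + 1) → E)

theorem row_u_interior (hβ : IsMultFn ends β) (hC : IsChain ends f e)
    (hβc : ∀ i, β (f i) = ((n + 1 : ℕ) : ℤ)) (hα : ∀ i, mfMatrix ends β (f i) (f i) = -2)
    (y : V → ℤ) (j : Fin (n + 1 + 1)) (hj0 : j ≠ 0) (hjl : j ≠ Fin.last (n + 1)) :
    (Matrix.mulVec (mfMatrix ends β) (uvec f y)) (f j) = - y (f j) := by
  have hcpos : (0 : ℤ) < ((n + 1 : ℕ) : ℤ) := by positivity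
  have has : (j.pred hj0).succ = j := Fin.succ_pred j hj0
  have hbc : (j.castPred hjl).castSucc = j := Fin.castSucc_castPred j hjl
  have h1 := interior_row ends β f e hβ hC _ hβc (j.pred hj0) (j.castPred hjl)
    (by rw [has, hbc]) (hα _) (uvec f y)
  rw [hbc] at h1
  rw [uvec_chain f hC.1, uvec_chain f hC.1, uvec_chain f hC.1] at h1
  have hjpos : 0 < j.val := Nat.pos_of_ne_zero (fun h => hj0 (Fin.ext h))
  have hjlt : j.val < n + 1 := by
    have h1 := j.isLt
    have h2 : j.val ≠ n + 1 := fun h => hjl (Fin.ext h)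
    omega
  have e1 : ((j.castPred hjl).succ : Fin (n + 1 + 1)).val = (j.val - 1) + 2 := by
    simp only [Fin.val_succ, Fin.coe_castPred]
    omega
  have e2 : ((j.pred hj0).castSucc : Fin (n + 1 + 1)).val = j.val - 1 := by
    simp
  have e3 : j.val = (j.val - 1) + 1 := by omega
  have hrec := Ucoef_rec f y (j.val - 1) (by omega)
  have e4 : (⟨j.val - 1 + 1, by omega⟩ : Fin (n + 1 + 1)) = j := Fin.ext (by simp; omega)
  rw [e4] at hrec
  rw [e1, e2] at h1
  have h3 : Ucoef f y j.val = Ucoef f y (j.val - 1 + 1) := by rw [← e3]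
  rw [h3] at h1
  have h2 : ((n + 1 : ℕ) : ℤ) * (Matrix.mulVec (mfMatrix ends β) (uvec f y)) (f j) =
      ((n + 1 : ℕ) : ℤ) * (- y (f j)) := by
    rw [h1, ← hrec]; ring
  exact mul_left_cancel₀ hcpos.ne' h2

theorem row_u_last (hβ : IsMultFn ends β) (hC : IsChain ends f e)
    (hconn : IsConnecting ends (e 0))
    (hβc : ∀ i, β (f i) = ((n + 1 : ℕ) : ℤ)) (hα : ∀ i, mfMatrix ends β (f i) (f i) = -2)
    (y : V → ℤ) :
    (Matrix.mulVec (mfMatrix ends β) (uvec f y)) (f (Fin.last (n + 1))) =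
      - y (f (Fin.last (n + 1))) := by
  classical
  have hcpos : (0 : ℤ) < ((n + 1 : ℕ) : ℤ) := by positivity
  obtain ⟨A, hA0, hA1, hA⟩ := exists_cut ends f e hC hconn
  have hul : uvec f y (f (Fin.last (n + 1))) = 0 := by
    rw [uvec_chain f hC.1, Fin.val_last]
    exact Ucoef_top f y _ le_rfl
  have h0 : ∀ e', e' ∉ Finset.univ.image e →
      Tm ends β (uvec f y) (f (Fin.last (n + 1))) e' = 0 := by
    intro e' he'
    apply Tm_eq_zero'
    · intro h1
      have : uvec f y (ends e').2 = 0 := by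
        by_cases hc : ∃ j, f j = (ends e').2
        · obtain ⟨j, hj⟩ := hc
          have := chain_loop ends β f e hβ hC _ hβc hα A hA0 hA1 hA e' he' _ j h1 hj.symm
          rw [← hj, ← this]
          exact hul
        · exact uvec_off f y _ hc
      rw [this, hul]; ring
    · intro h2
      have : uvec f y (ends e').1 = 0 := by
        by_cases hc : ∃ j, f j = (ends e').1
        · obtain ⟨j, hj⟩ := hc
          have := chain_loop ends β f e hβ hC _ hβc hα A hA0 hA1 hA e' he' j _ hj.symm h2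
          rw [← hj, this]
          exact hul
        · exact uvec_off f y _ hc
      rw [this, hul]; ring
  have h1 := beta_mul_mulVec ends β hβ (uvec f y) (f (Fin.last (n + 1)))
  rw [hβc, Lam_eq_chain' ends β f e hC _ hβc (uvec f y) _ h0] at h1
  have e1 : ∀ i : Fin (n + 1), (if f i.castSucc = f (Fin.last (n + 1)) then (1 : ℤ) else 0) = 0 := by
    intro i
    rw [if_neg]
    intro h
    exact absurd (hC.1 h) (Fin.castSucc_lt_last i).ne
  have e2 : ∀ i : Fin (n + 1), (if f i.succ = f (Fin.last (n + 1)) then (1 : ℤ) else 0) =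
      if i = Fin.last n then 1 else 0 := by
    intro i
    by_cases h : i = Fin.last n
    · rw [h, Fin.succ_last, if_pos rfl, if_pos rfl]
    · rw [if_neg h, if_neg]
      intro h'
      have := hC.1 h'
      rw [← Fin.succ_last] at this
      exact h (Fin.succ_injective _ this)
  simp_rw [e1, e2, zero_sub, mul_neg, mul_ite, mul_one, mul_zero] at h1
  rw [Finset.sum_neg_distrib, Finset.sum_ite_eq' Finset.univ (Fin.last n)] at h1
  simp only [Finset.mem_univ, if_true] at h1
  rw [uvec_chain f hC.1, uvec_chain f hC.1, Fin.succ_last, Fin.val_last, Fin.val_castSucc,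
    Fin.val_last, Ucoef_top f y (n + 1) le_rfl] at h1
  have hrec := Ucoef_rec f y n (by omega)
  rw [Ucoef_top f y (n + 1) le_rfl, Ucoef_top f y (n + 2) (by omega)] at hrec
  have e4 : (⟨n + 1, by omega⟩ : Fin (n + 1 + 1)) = Fin.last (n + 1) := Fin.ext (by simp)
  rw [e4] at hrec
  have h2 : ((n + 1 : ℕ) : ℤ) * (Matrix.mulVec (mfMatrix ends β) (uvec f y)) (f (Fin.last (n + 1))) =
      ((n + 1 : ℕ) : ℤ) * (- y (f (Fin.last (n + 1)))) := by
    rw [h1, ← hrec]; ring
  exact mul_left_cancel₀ hcpos.ne' h2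

theorem betaHom_mulVec (hβ : IsMultFn ends β) (u : V → ℤ) :
    betaHom β (Matrix.mulVec (mfMatrix ends β) u) = 0 := by
  rw [betaHom_apply, ← sum_Lam_eq_zero ends β u]
  refine Finset.sum_congr rfl (fun v _ => ?_)
  rw [mul_comm, beta_mul_mulVec ends β hβ u v]

/-- every element of `ker β` is, modulo `im α`, a lift. -/
theorem exists_preimage (hβ : IsMultFn ends β) (hC : IsChain ends f e)
    (hconn : IsConnecting ends (e 0))
    (hβc : ∀ i, β (f i) = ((n + 1 : ℕ) : ℤ)) (hα : ∀ i, mfMatrix ends β (f i) (f i) = -2)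
    (y : V → ℤ) (hy : betaHom β y = 0) :
    ∃ x : CtrVert ends (Finset.univ.image e) → ℤ,
      betaHom (ctrFn ends (Finset.univ.image e) β) x = 0 ∧
      ∃ u : V → ℤ, liftAt ends (Finset.univ.image e) (f 0) x =
        y + Matrix.mulVec (mfMatrix ends β) u := by
  classical
  set u := uvec f y with hu
  set w : V → ℤ := y + Matrix.mulVec (mfMatrix ends β) u with hw
  have hwz : ∀ j : Fin (n + 1 + 1), j ≠ 0 → w (f j) = 0 := by
    intro j hj0
    rw [hw, Pi.add_apply]
    by_cases hjl : j = Fin.last (n + 1)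
    · rw [hjl, row_u_last f ends β e hβ hC hconn hβc hα y]; ring
    · rw [row_u_interior f ends β e hβ hC hβc hα y j hj0 hjl]; ring
  set x : CtrVert ends (Finset.univ.image e) → ℤ := fun c =>
    if c = ctrMk ends (Finset.univ.image e) (f 0) then w (f 0)
    else w (Quotient.out (s := ctrSetoid ends (Finset.univ.image e)) c) with hx
  have hxv : ∀ c, x c = if c = ctrMk ends (Finset.univ.image e) (f 0) then w (f 0)
    else w (Quotient.out (s := ctrSetoid ends (Finset.univ.image e)) c) := fun c => rfl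
  have hlift : liftAt ends (Finset.univ.image e) (f 0) x = w := by
    funext v
    by_cases hv : ∃ j, f j = v
    · obtain ⟨j, rfl⟩ := hv
      by_cases hj0 : j = 0
      · rw [hj0, liftAt_zero, hxv, if_pos rfl]
      · rw [liftAt_succ ends f e hC x j hj0, hwz j hj0]
    · rw [liftAt_off ends f e hC x v hv, hxv]
      rw [if_neg]
      · have h1 : ctrMk ends (Finset.univ.image e)
            (Quotient.out (s := ctrSetoid ends (Finset.univ.image e))
              (ctrMk ends (Finset.univ.image e) v)) = ctrMk ends (Finset.univ.image e) v :=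
          Quotient.out_eq _
        rcases (ctrMk_eq_iff ends f e hC _ _).mp h1 with h2 | ⟨-, h2⟩
        · rw [h2]
        · exact absurd h2 hv
      · intro h
        rcases (ctrMk_eq_iff ends f e hC _ _).mp h with h2 | ⟨h2, -⟩
        · exact hv ⟨0, h2.symm⟩
        · exact hv h2
  refine ⟨x, ?_, u, hlift⟩
  rw [← betaHom_liftAt ends β f e hC (fun i j => by rw [hβc, hβc]) x, hlift, hw, map_add, hy,
    betaHom_mulVec ends β hβ u, add_zero]

end chain1

end Groth.Agent.Lib.Helper24Contr
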