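import Mathlib
import Groth.Prelude.Def_W4c2conddiscmodels
import Groth.Agent.Lib.Helper24Contr8

set_option autoImplicit false
universe u

namespace Groth.Agent.Lib.Helper24Contr

open LabGraph DualGr

variable {V E : Type u} [Fintype V] [Fintype E] [DecidableEq V] [DecidableEq E]

theorem s14801_aux (ends : E → V × V) (β : V → ℤ) (hβ : IsMultFn ends β)
    (n : ℕ) (f : Fin (n + 1 + 1) → V) (e : Fin (n + 1) → E) (hC : IsChain ends f e)
    (hconn : ∀ i, IsConnecting ends (e i)) (hβm : ∀ i, β (f i) = ((n + 1 : ℕ) : ℤ))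
    (hα : ∀ i, mfMatrix ends β (f i) (f i) = -2) :
    ∃ φ : CompGrp (ctrEnds ends (Finset.univ.image e)) (ctrFn ends (Finset.univ.image e) β) →+
        CompGrp ends β,
      Function.Surjective φ ∧
      ∀ (x : LinearMap.ker (betaHom (ctrFn ends (Finset.univ.image e) β)))
        (y : LinearMap.ker (betaHom β)),
        (y : V → ℤ) = liftAt ends (Finset.univ.image e) (f 0)
          (x : CtrVert ends (Finset.univ.image e) → ℤ) →
        φ (Submodule.Quotient.mk x) = Submodule.Quotient.mk y := by
  classical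
  have hconst : ∀ i j, β (f i) = β (f j) := fun i j => by rw [hβm, hβm]
  have hmaps : ∀ x ∈ LinearMap.ker (betaHom (ctrFn ends (Finset.univ.image e) β)),
      liftLin ends (Finset.univ.image e) (f 0) x ∈ LinearMap.ker (betaHom β) := by
    intro x hx
    rw [LinearMap.mem_ker] at hx ⊢
    rw [liftLin_apply, betaHom_liftAt ends β f e hC hconst x, hx]
  set L := (liftLin ends (Finset.univ.image e) (f 0)).restrict hmaps with hL
  have hLcoe : ∀ x, ((L x : LinearMap.ker (betaHom β)) : V → ℤ) =
      liftAt ends (Finset.univ.image e) (f 0) (x : CtrVert ends (Finset.univ.image e) → ℤ) := by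
    intro x
    rfl
  have hNN : (LinearMap.range (Matrix.mulVecLin (mfMatrix (ctrEnds ends (Finset.univ.image e))
        (ctrFn ends (Finset.univ.image e) β)))).comap
        (LinearMap.ker (betaHom (ctrFn ends (Finset.univ.image e) β))).subtype ≤
      ((LinearMap.range (Matrix.mulVecLin (mfMatrix ends β))).comap
        (LinearMap.ker (betaHom β)).subtype).comap L := by
    intro x hx
    rw [Submodule.mem_comap] at hx
    rw [Submodule.mem_comap, Submodule.mem_comap]
    obtain ⟨y', hy'⟩ := hx
    rw [Submodule.subtype_apply, hLcoe]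
    rw [Submodule.subtype_apply] at hy'
    rw [← hy', Matrix.mulVecLin_apply]
    exact liftAt_range ends β f e hβ hC (hconn 0) hβm hα y'
  refine ⟨(Submodule.mapQ _ _ L hNN).toAddMonoidHom, ?_, ?_⟩
  · intro q
    obtain ⟨y, rfl⟩ := Submodule.Quotient.mk_surjective _ q
    obtain ⟨x, hx0, u, hxu⟩ := exists_preimage f ends β e hβ hC (hconn 0) hβm hα y.1
      (LinearMap.mem_ker.mp y.2)
    refine ⟨Submodule.Quotient.mk ⟨x, LinearMap.mem_ker.mpr hx0⟩, ?_⟩
    change Submodule.Quotient.mk (L ⟨x, _⟩) = Submodule.Quotient.mk y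
    rw [Submodule.Quotient.eq, Submodule.mem_comap]
    refine ⟨u, ?_⟩
    rw [Submodule.subtype_apply, Submodule.coe_sub, hLcoe, Matrix.mulVecLin_apply]
    change _ = liftAt ends (Finset.univ.image e) (f 0) x - y.1
    rw [hxu]
    abel
  · intro x y hxy
    change Submodule.Quotient.mk (L x) = Submodule.Quotient.mk y
    congr 1
    exact Subtype.ext (by rw [hLcoe, hxy])

theorem s14801 (ends : E → V × V) (β : V → ℤ) (hβ : IsMultFn ends β)
    (m : ℕ) (f : Fin (m + 1) → V) (e : Fin m → E) (hC : IsChain ends f e)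
    (hconn : ∀ i, IsConnecting ends (e i)) (hβm : ∀ i, β (f i) = m)
    (hα : ∀ i, mfMatrix ends β (f i) (f i) = -2) :
    ∃ φ : CompGrp (ctrEnds ends (Finset.univ.image e)) (ctrFn ends (Finset.univ.image e) β) →+
        CompGrp ends β,
      Function.Surjective φ ∧
      ∀ (x : LinearMap.ker (betaHom (ctrFn ends (Finset.univ.image e) β)))
        (y : LinearMap.ker (betaHom β)),
        (y : V → ℤ) = liftAt ends (Finset.univ.image e) (f 0)
          (x : CtrVert ends (Finset.univ.image e) → ℤ) →
        φ (Submodule.Quotient.mk x) = Submodule.Quotient.mk y := by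
  have hm : 0 < m := by
    have := (hβ (f 0)).1
    rw [hβm] at this
    exact_mod_cast this
  obtain ⟨n, rfl⟩ : ∃ n, m = n + 1 := ⟨m - 1, by omega⟩
  exact s14801_aux ends β hβ n f e hC hconn hβm hα

end Groth.Agent.Lib.Helper24Contr
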