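import Mathlib
import Groth.Agent.Lib.Helper24Acyc

/-!
# Coskeletal simplicial sets: unique sphere filling above the coskeletal dimension
-/

namespace Groth.Agent.Lib.Helper24Cosk

open CategoryTheory Limits Opposite Simplicial SSet SimplexCategory
open Groth.Agent.Lib.Helper24Moore Groth.Agent.Lib.Helper24Acyc

universe u

theorem cosk_hom_ext {V : SSet.{u}} (n : ℕ) [SimplicialObject.IsCoskeletal V n] {G : SSet.{u}}
    (γ₁ γ₂ : G ⟶ V) (h : ∀ m, m ≤ n → γ₁.app (op ⦋m⦌) = γ₂.app (op ⦋m⦌)) : γ₁ = γ₂ := by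
  apply Functor.hom_ext_of_isRightKanExtension V (𝟙 ((Truncated.inclusion n).op ⋙ V))
  ext ⟨⟨a, ha⟩⟩ : 2
  induction a using SimplexCategory.rec with
  | _ m =>
    simp only [Functor.whiskerLeft_app, NatTrans.comp_app, NatTrans.id_app]
    have := h m ha
    rw [Category.comp_id, Category.comp_id]
    exact congrArg _ this

theorem cosk_sphere {V : SSet.{u}} (n : ℕ) [SimplicialObject.IsCoskeletal V n] (k : ℕ) (hk : n < k)
    (t : (∂Δ[k] : SSet.{u}) ⟶ V) : ∃ φ : Δ[k] ⟶ V, ∂Δ[k].ι ≫ φ = t := by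
  have hmem : ∀ (a : SimplexCategory) (ha : a.len ≤ n) (x : (Δ[k] : SSet.{u}).obj (op a)),
      x ∈ (boundary k).obj (op a) := by
    intro a ha x
    induction a using SimplexCategory.rec with
    | _ m =>
      rw [boundary_obj_eq_univ m k (by simp at ha; omega)]
      trivial
  let τ : (Truncated.inclusion n).op ⋙ Δ[k] ⟶ (Truncated.inclusion n).op ⋙ V :=
    { app := fun a => ↾(fun x => t.app (op a.unop.obj) ⟨x, hmem a.unop.obj a.unop.property x⟩)
      naturality := by
        intro a b g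
        ext x
        have := NatTrans.naturality_apply t ((Truncated.inclusion n).op.map g)
          ⟨x, hmem a.unop.obj a.unop.property x⟩
        exact this }
  refine ⟨Functor.liftOfIsRightKanExtension V (𝟙 _) Δ[k] τ, ?_⟩
  apply cosk_hom_ext n
  intro m hm
  have := Functor.liftOfIsRightKanExtension_fac_app V (𝟙 ((Truncated.inclusion n).op ⋙ V)) Δ[k] τ
    (op ⟨⦋m⦌, hm⟩)
  rw [NatTrans.id_app, Category.comp_id] at this
  ext ⟨x, hx⟩
  exact ConcreteCategory.congr_hom this x

theorem main {U V : SSet.{u}} (f : V ⟶ U) (n : ℕ)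
    (h1 : ∀ i : ℕ, i < n → Function.Bijective (f.app (op (SimplexCategory.mk i))))
    (h2 : Function.Surjective (f.app (op (SimplexCategory.mk n))))
    [SimplicialObject.IsCoskeletal U n] [SimplicialObject.IsCoskeletal V n] :
    SSet.modelCategoryQuillen.I.rlp f := by
  intro _ _ _ hf
  dsimp only [modelCategoryQuillen.I] at hf
  obtain ⟨k⟩ := hf
  refine ⟨fun {t b} sq => ?_⟩
  by_cases hk : n < k
  · obtain ⟨φ, hφ⟩ := cosk_sphere n k hk t
    refine ⟨⟨{ l := φ, fac_left := hφ, fac_right := ?_ }⟩⟩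
    apply cosk_hom_ext n
    intro m hm
    ext x
    have hx : x ∈ (boundary k).obj (op ⦋m⦌) := by
      rw [boundary_obj_eq_univ m k (by omega)]; trivial
    have e : (∂Δ[k].ι ≫ φ ≫ f) = ∂Δ[k].ι ≫ b := by rw [← Category.assoc, hφ, sq.w]
    exact congrArg (fun g => g.app (op ⦋m⦌) ⟨x, hx⟩) e
  · have hsurj : Function.Surjective (f.app (op ⦋k⦌)) := by
      rcases Nat.lt_or_ge k n with h | h
      · exact (h1 k h).2
      · have : k = n := by omega
        subst this; exact h2
    obtain ⟨y, hy⟩ := hsurj (SSet.yonedaEquiv b)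
    have hr : SSet.yonedaEquiv.symm y ≫ f = b := by
      apply SSet.yonedaEquiv.injective
      rw [← hy]
      show f.app _ (SSet.yonedaEquiv (SSet.yonedaEquiv.symm y)) = _
      rw [Equiv.apply_symm_apply]
    refine ⟨⟨{ l := SSet.yonedaEquiv.symm y, fac_left := ?_, fac_right := hr }⟩⟩
    cases k with
    | zero => exact boundary.hom_ext₀
    | succ k' =>
      apply boundary.hom_ext
      intro j
      apply SSet.yonedaEquiv.injective
      apply (h1 k' (by omega)).1
      show SSet.yonedaEquiv ((boundary.ι j ≫ ∂Δ[k' + 1].ι ≫ SSet.yonedaEquiv.symm y) ≫ f) =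
        SSet.yonedaEquiv ((boundary.ι j ≫ t) ≫ f)
      rw [Category.assoc, Category.assoc, hr, Category.assoc, sq.w]

end Groth.Agent.Lib.Helper24Cosk
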