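import Mathlib
import Groth.Agent.Lib.Helper24Cosk

/-!
# Maps into an `n`-coskeletal simplicial set agreeing below dimension `n` are homotopic
-/

namespace Groth.Agent.Lib.Helper24CoskHtpy

open CategoryTheory Limits Opposite Simplicial SSet SimplexCategory MonoidalCategory
open Groth.Agent.Lib.Helper24Cosk

universe u

/-- the simplex of `Δ[1]` is constant equal to `1`. -/
def isOne {a : SimplexCategoryᵒᵖ} (s : (Δ[1] : SSet.{u}).obj a) : Prop :=
  ∀ k, (stdSimplex.asOrderHom s) k = 1

theorem isOne_map {a b : SimplexCategoryᵒᵖ} (g : a ⟶ b) (s : (Δ[1] : SSet.{u}).obj a)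
    (h : isOne s) : isOne ((Δ[1] : SSet.{u}).map g s) := by
  intro k
  exact h (g.unop.toOrderHom k)

theorem not_surj_of_isOne_map {a b : SimplexCategoryᵒᵖ} (g : a ⟶ b) (s : (Δ[1] : SSet.{u}).obj a)
    (h : ¬ isOne s) (h' : isOne ((Δ[1] : SSet.{u}).map g s)) :
    ¬ Function.Surjective g.unop.toOrderHom := by
  intro hsurj
  apply h
  intro k
  obtain ⟨k', rfl⟩ := hsurj k
  exact h' k'

variable {U V : SSet.{u}} (f₀ f₁ : V ⟶ U) (n : ℕ)

theorem eq_of_not_surj
    (h : ∀ i : ℕ, i < n → f₀.app (op (SimplexCategory.mk i)) = f₁.app (op (SimplexCategory.mk i)))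
    (A B : SimplexCategory) (hA : A.len ≤ n) (θ : B ⟶ A)
    (hθ : ¬ Function.Surjective θ.toOrderHom) (v : V.obj (op A)) :
    f₀.app (op B) (V.map θ.op v) = f₁.app (op B) (V.map θ.op v) := by
  induction A using SimplexCategory.rec with
  | _ m =>
    cases m with
    | zero =>
      exfalso
      apply hθ
      intro k
      refine ⟨0, ?_⟩
      exact @Subsingleton.elim (Fin 1) _ _ _
    | succ m =>
      obtain ⟨i, θ', rfl⟩ := SimplexCategory.eq_comp_δ_of_not_surjective θ hθ
      have hm : m < n := by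
        have : (⦋m + 1⦌ : SimplexCategory).len = m + 1 := rfl
        omega
      rw [op_comp, V.map_comp]
      show f₀.app (op B) (V.map θ'.op (V.map (SimplexCategory.δ i).op v)) =
        f₁.app (op B) (V.map θ'.op (V.map (SimplexCategory.δ i).op v))
      rw [NatTrans.naturality_apply f₀, NatTrans.naturality_apply f₁, h m hm]

open Classical in
/-- the truncated homotopy. -/
noncomputable def τ
    (h : ∀ i : ℕ, i < n → f₀.app (op (SimplexCategory.mk i)) = f₁.app (op (SimplexCategory.mk i))) :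
    (Truncated.inclusion n).op ⋙ (V ⊗ Δ[1]) ⟶ (Truncated.inclusion n).op ⋙ U where
  app a := ↾(fun z : (V ⊗ Δ[1] : SSet.{u}).obj (op a.unop.obj) =>
    if isOne z.2 then f₁.app (op a.unop.obj) z.1 else f₀.app (op a.unop.obj) z.1)
  naturality := by
    intro a b g
    ext z
    obtain ⟨v, s⟩ := z
    show (if isOne ((Δ[1] : SSet.{u}).map ((Truncated.inclusion n).op.map g) s) then
        f₁.app (op b.unop.obj) (V.map ((Truncated.inclusion n).op.map g) v)
      else f₀.app (op b.unop.obj) (V.map ((Truncated.inclusion n).op.map g) v)) =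
      U.map ((Truncated.inclusion n).op.map g)
        (if isOne s then f₁.app (op a.unop.obj) v else f₀.app (op a.unop.obj) v)
    by_cases hs : isOne s
    · rw [if_pos hs, if_pos (isOne_map _ s hs)]
      exact NatTrans.naturality_apply f₁ _ v
    · rw [if_neg hs]
      by_cases hs' : isOne ((Δ[1] : SSet.{u}).map ((Truncated.inclusion n).op.map g) s)
      · rw [if_pos hs']
        have hns := not_surj_of_isOne_map _ s hs hs'
        have := eq_of_not_surj f₀ f₁ n h a.unop.obj b.unop.obj a.unop.property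
          ((Truncated.inclusion n).op.map g).unop hns v
        exact this.symm.trans (NatTrans.naturality_apply f₀ _ v)
      · rw [if_neg hs']
        exact NatTrans.naturality_apply f₀ _ v


open Classical in
theorem main [SimplicialObject.IsCoskeletal U n]
    (h : ∀ i : ℕ, i < n → f₀.app (op (SimplexCategory.mk i)) = f₁.app (op (SimplexCategory.mk i))) :
    Nonempty (SSet.Homotopy f₀ f₁) := by
  let H : V ⊗ Δ[1] ⟶ U :=
    Functor.liftOfIsRightKanExtension U (𝟙 ((Truncated.inclusion n).op ⋙ U)) (V ⊗ Δ[1]) (τ f₀ f₁ n h)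
  have hH : ∀ m (hm : m ≤ n) (z : (V ⊗ Δ[1] : SSet.{u}).obj (op ⦋m⦌)),
      H.app _ z = if isOne z.2 then f₁.app _ z.1 else f₀.app _ z.1 := by
    intro m hm z
    have := Functor.liftOfIsRightKanExtension_fac_app U (𝟙 ((Truncated.inclusion n).op ⋙ U))
      (V ⊗ Δ[1]) (τ f₀ f₁ n h) (op ⟨⦋m⦌, hm⟩)
    rw [NatTrans.id_app, Category.comp_id] at this
    exact ConcreteCategory.congr_hom this z
  refine ⟨RelativeMorphism.Homotopy.mk H ?_ ?_ ?_⟩
  · show ι₀ ≫ H = f₀
    apply cosk_hom_ext n
    intro m hm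
    ext v
    show H.app _ (ι₀.app _ v) = _
    rw [hH m hm, if_neg]
    · rfl
    · intro hone
      have h1 : (0 : Fin 2) = 1 := hone 0
      exact absurd h1 (by decide)
  · show ι₁ ≫ H = f₁
    apply cosk_hom_ext n
    intro m hm
    ext v
    show H.app _ (ι₁.app _ v) = _
    rw [hH m hm, if_pos]
    · rfl
    · intro k
      rfl
  · ext m ⟨⟨v, hv⟩, s⟩
    exact hv.elim

end Groth.Agent.Lib.Helper24CoskHtpy
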