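import Mathlib

/-!
# Submodules of `k⟦t⟧³` containing `1` with quotient `R/t^m ⊕ R/t^n`
-/

namespace Groth.Agent.Lib.Helper24Crimp2

open PowerSeries Matrix

variable {k : Type*} [Field k]

/-- the lattice `R·1 + t V`. -/
noncomputable def L (k : Type*) [Field k] : Submodule (PowerSeries k) (Fin 3 → PowerSeries k) :=
  Submodule.span (PowerSeries k) {(1 : Fin 3 → PowerSeries k)} ⊔
    Ideal.span {(X : PowerSeries k)} • (⊤ : Submodule (PowerSeries k) (Fin 3 → PowerSeries k))

theorem mem_L_iff (x : Fin 3 → PowerSeries k) :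
    x ∈ L k ↔ ∃ c : PowerSeries k, ∃ y : Fin 3 → PowerSeries k,
      x = c • (1 : Fin 3 → PowerSeries k) + (X : PowerSeries k) • y := by
  unfold L
  rw [Submodule.mem_sup]
  constructor
  · rintro ⟨a, ha, b, hb, rfl⟩
    rw [Submodule.mem_span_singleton] at ha
    obtain ⟨c, rfl⟩ := ha
    rw [Submodule.ideal_span_singleton_smul, Submodule.mem_smul_pointwise_iff_exists] at hb
    obtain ⟨y, -, rfl⟩ := hb
    exact ⟨c, y, rfl⟩
  · rintro ⟨c, y, rfl⟩
    refine ⟨c • 1, Submodule.mem_span_singleton.mpr ⟨c, rfl⟩, X • y, ?_, rfl⟩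
    rw [Submodule.ideal_span_singleton_smul, Submodule.mem_smul_pointwise_iff_exists]
    exact ⟨y, trivial, rfl⟩

theorem mem_L_iff_cc (x : Fin 3 → PowerSeries k) :
    x ∈ L k ↔ ∃ a : k, ∀ i, constantCoeff (x i) = a := by
  rw [mem_L_iff]
  constructor
  · rintro ⟨c, y, rfl⟩
    refine ⟨constantCoeff c, fun i => ?_⟩
    simp
  · rintro ⟨a, ha⟩
    have : ∀ i, (X : PowerSeries k) ∣ x i - C a := by
      intro i
      rw [X_dvd_iff, map_sub, ha i, constantCoeff_C, sub_self]
    choose y hy using this
    refine ⟨C a, y, ?_⟩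
    funext i
    simp only [Pi.add_apply, Pi.smul_apply, Pi.one_apply, smul_eq_mul, mul_one]
    rw [← hy i]; ring

/-- three vectors `1, f, g` independent modulo `t` span `V`. -/
theorem span_of_indep (f g : Fin 3 → PowerSeries k)
    (h : ∀ v : Fin 3 → k,
      (∀ i, v 0 + constantCoeff (f i) * v 1 + constantCoeff (g i) * v 2 = 0) → v = 0) :
    ∀ x : Fin 3 → PowerSeries k, ∃ α β γ : PowerSeries k,
      x = α • (1 : Fin 3 → PowerSeries k) + β • f + γ • g := by
  classical
  let A : Matrix (Fin 3) (Fin 3) (PowerSeries k) := Matrix.of (fun i j => ![1, f i, g i] j)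
  have hdet0 : ((constantCoeff (R := k)).mapMatrix A).det ≠ 0 := by
    intro h0
    obtain ⟨v, hv, hAv⟩ := Matrix.exists_mulVec_eq_zero_iff.mpr h0
    apply hv
    apply h
    intro i
    have := congrFun hAv i
    simp only [Matrix.mulVec, dotProduct, Fin.sum_univ_three, RingHom.mapMatrix_apply,
      Matrix.map_apply, Pi.zero_apply, A, Matrix.of_apply] at this
    simpa using this
  have hdet : IsUnit A.det := by
    rw [isUnit_iff_constantCoeff, RingHom.map_det, isUnit_iff_ne_zero]
    exact hdet0
  intro x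
  let c := A⁻¹ *ᵥ x
  have hx : x = A *ᵥ c := by
    show x = A *ᵥ (A⁻¹ *ᵥ x)
    rw [Matrix.mulVec_mulVec, Matrix.mul_nonsing_inv _ hdet, Matrix.one_mulVec]
  refine ⟨c 0, c 1, c 2, ?_⟩
  funext i
  have := congrFun hx i
  simp only [Matrix.mulVec, dotProduct, Fin.sum_univ_three, A, Matrix.of_apply] at this
  rw [this]
  simp
  ring

/-- coordinates with respect to `1, f, g` when these are independent modulo `t`. -/
theorem coord_of_indep (f g : Fin 3 → PowerSeries k)
    (h : ∀ v : Fin 3 → k,
      (∀ i, v 0 + constantCoeff (f i) * v 1 + constantCoeff (g i) * v 2 = 0) → v = 0) :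
    ∃ c : (Fin 3 → PowerSeries k) →ₗ[PowerSeries k] (Fin 3 → PowerSeries k),
      (∀ x, x = c x 0 • (1 : Fin 3 → PowerSeries k) + c x 1 • f + c x 2 • g) ∧
      c 1 = Pi.single 0 1 ∧ c f = Pi.single 1 1 ∧ c g = Pi.single 2 1 := by
  classical
  let A : Matrix (Fin 3) (Fin 3) (PowerSeries k) := Matrix.of (fun i j => ![1, f i, g i] j)
  have hdet0 : ((constantCoeff (R := k)).mapMatrix A).det ≠ 0 := by
    intro h0
    obtain ⟨v, hv, hAv⟩ := Matrix.exists_mulVec_eq_zero_iff.mpr h0
    apply hv
    apply h
    intro i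
    have := congrFun hAv i
    simp only [Matrix.mulVec, dotProduct, Fin.sum_univ_three, RingHom.mapMatrix_apply,
      Matrix.map_apply, Pi.zero_apply, A, Matrix.of_apply] at this
    simpa using this
  have hdet : IsUnit A.det := by
    rw [isUnit_iff_constantCoeff, RingHom.map_det, isUnit_iff_ne_zero]
    exact hdet0
  have hcol : ∀ j : Fin 3, A⁻¹ *ᵥ (A *ᵥ Pi.single j 1) = Pi.single j 1 := by
    intro j
    rw [Matrix.mulVec_mulVec, Matrix.nonsing_inv_mul _ hdet, Matrix.one_mulVec]
  refine ⟨(A⁻¹).mulVecLin, ?_, ?_, ?_, ?_⟩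
  · intro x
    have hx : x = A *ᵥ (A⁻¹ *ᵥ x) := by
      rw [Matrix.mulVec_mulVec, Matrix.mul_nonsing_inv _ hdet, Matrix.one_mulVec]
    funext i
    have := congrFun hx i
    simp only [Matrix.mulVec, dotProduct, Fin.sum_univ_three, A, Matrix.of_apply] at this
    rw [Matrix.mulVecLin_apply]
    conv_lhs => rw [this]
    simp [Matrix.mulVec, dotProduct, Fin.sum_univ_three]
    ring
  · have : (1 : Fin 3 → PowerSeries k) = A *ᵥ Pi.single 0 1 := by
      funext i
      simp [A, Matrix.mulVec_single]
    rw [Matrix.mulVecLin_apply]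
    conv_lhs => rw [this]
    exact hcol 0
  · have : f = A *ᵥ Pi.single 1 1 := by
      funext i
      simp [A, Matrix.mulVec_single]
    rw [Matrix.mulVecLin_apply]
    conv_lhs => rw [this]
    exact hcol 1
  · have : g = A *ᵥ Pi.single 2 1 := by
      funext i
      simp [A, Matrix.mulVec_single]
    rw [Matrix.mulVecLin_apply]
    conv_lhs => rw [this]
    exact hcol 2

theorem smul_mk (I : Ideal (PowerSeries k)) (r a : PowerSeries k) :
    r • (Ideal.Quotient.mk I a) = Ideal.Quotient.mk I (r * a) := rfl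

theorem not_span_two (gbar : Fin 3 → k)
    (h : ∀ w : Fin 3 → k, ∃ a b : k, ∀ i, w i = a + b * gbar i) : False := by
  classical
  have htop : Submodule.span k ((({(1 : Fin 3 → k), gbar} : Finset (Fin 3 → k))) : Set (Fin 3 → k))
      = ⊤ := by
    rw [Submodule.eq_top_iff']
    intro w
    obtain ⟨a, b, hab⟩ := h w
    have : w = a • (1 : Fin 3 → k) + b • gbar := by
      funext i
      simp [hab i]
    rw [this]
    apply Submodule.add_mem
    · exact Submodule.smul_mem _ _ (Submodule.subset_span (by simp))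
    · exact Submodule.smul_mem _ _ (Submodule.subset_span (by simp))
  have h1 := finrank_span_finset_le_card (R := k) ({(1 : Fin 3 → k), gbar} : Finset (Fin 3 → k))
  rw [Set.finrank, htop, finrank_top, Module.finrank_fin_fun] at h1
  have h2 : ({(1 : Fin 3 → k), gbar} : Finset (Fin 3 → k)).card ≤ 2 := Finset.card_le_two
  omega

theorem main (m n : ℕ) (hmn : m ≤ n)
    (S : Submodule (PowerSeries k) (Fin 3 → PowerSeries k))
    (h1 : (1 : (Fin 3 → PowerSeries k)) ∈ S)
    (e : ((Fin 3 → PowerSeries k) ⧸ S) ≃ₗ[PowerSeries k]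
      ((PowerSeries k ⧸ Ideal.span {(X : PowerSeries k) ^ m}) ×
        (PowerSeries k ⧸ Ideal.span {(X : PowerSeries k) ^ n}))) :
    Ideal.span {(X : PowerSeries k) ^ n} •
        (⊤ : Submodule (PowerSeries k) (Fin 3 → PowerSeries k)) ≤ S ∧
    ∃ f : (Fin 3 → PowerSeries k),
      f ∉ L k ∧
      S = Submodule.span (PowerSeries k)
          {(1 : (Fin 3 → PowerSeries k)), ((X : PowerSeries k) ^ m) • f} ⊔
        Ideal.span {(X : PowerSeries k) ^ n} •
          (⊤ : Submodule (PowerSeries k) (Fin 3 → PowerSeries k)) := by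
  classical
  set φ : (Fin 3 → PowerSeries k) →ₗ[PowerSeries k]
      ((PowerSeries k ⧸ Ideal.span {(X : PowerSeries k) ^ m}) ×
        (PowerSeries k ⧸ Ideal.span {(X : PowerSeries k) ^ n})) := e.toLinearMap ∘ₗ S.mkQ with hφ
  have hφker : ∀ x, φ x = 0 ↔ x ∈ S := by
    intro x
    rw [hφ, LinearMap.comp_apply, LinearEquiv.coe_coe, LinearEquiv.map_eq_zero_iff,
      Submodule.mkQ_apply, Submodule.Quotient.mk_eq_zero]
  have hφsurj : Function.Surjective φ := by
    rw [hφ]
    exact e.surjective.comp (Submodule.mkQ_surjective S)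
  have hφ1 : φ 1 = 0 := (hφker 1).mpr h1
  have hkill : ∀ z : (PowerSeries k ⧸ Ideal.span {(X : PowerSeries k) ^ m}) ×
        (PowerSeries k ⧸ Ideal.span {(X : PowerSeries k) ^ n}), (X : PowerSeries k) ^ n • z = 0 := by
    rintro ⟨z1, z2⟩
    obtain ⟨a, rfl⟩ := Ideal.Quotient.mk_surjective z1
    obtain ⟨b, rfl⟩ := Ideal.Quotient.mk_surjective z2
    rw [Prod.smul_mk, smul_mk, smul_mk]
    refine Prod.ext ?_ ?_
    · show Ideal.Quotient.mk _ _ = 0
      rw [Ideal.Quotient.eq_zero_iff_mem, Ideal.mem_span_singleton]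
      exact Dvd.dvd.mul_right (pow_dvd_pow _ hmn) _
    · show Ideal.Quotient.mk _ _ = 0
      rw [Ideal.Quotient.eq_zero_iff_mem, Ideal.mem_span_singleton]
      exact Dvd.intro _ rfl
  have hA : Ideal.span {(X : PowerSeries k) ^ n} •
        (⊤ : Submodule (PowerSeries k) (Fin 3 → PowerSeries k)) ≤ S := by
    intro y hy
    rw [Submodule.ideal_span_singleton_smul, Submodule.mem_smul_pointwise_iff_exists] at hy
    obtain ⟨z, -, rfl⟩ := hy
    rw [← hφker, map_smul, hkill]
  refine ⟨hA, ?_⟩
  rcases Nat.eq_zero_or_pos n with hn | hn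
  · -- n = 0 : S = ⊤
    subst hn
    have hm : m = 0 := by omega
    subst hm
    have htop : Ideal.span {(X : PowerSeries k) ^ 0} •
        (⊤ : Submodule (PowerSeries k) (Fin 3 → PowerSeries k)) = ⊤ := by
      rw [pow_zero, Ideal.span_singleton_one, Submodule.top_smul]
    have hS : S = ⊤ := by
      rw [htop] at hA
      exact top_le_iff.mp hA
    refine ⟨Pi.single 0 1, ?_, ?_⟩
    · rw [mem_L_iff_cc]
      rintro ⟨a, ha⟩
      have h0 := ha 0
      have h1' := ha 1
      simp at h0 h1'
      rw [← h0] at h1'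
      exact one_ne_zero h1'.symm
    · rw [htop, hS]
      simp
  · -- n ≥ 1
    obtain ⟨g, hg⟩ := hφsurj (0, 1)
    -- a basic fact: if `mk (C c) = X • z` in `R/(X^j)`, `j ≥ 1`, then `c = 0`.
    have hCzero : ∀ (j : ℕ), 0 < j → ∀ (c : k) (z : PowerSeries k ⧸ Ideal.span {(X : PowerSeries k) ^ j}),
        Ideal.Quotient.mk _ (C c) = (X : PowerSeries k) • z → c = 0 := by
      intro j hj c z hz
      obtain ⟨b, rfl⟩ := Ideal.Quotient.mk_surjective z
      rw [smul_mk, Ideal.Quotient.eq, Ideal.mem_span_singleton] at hz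
      have hX : (X : PowerSeries k) ∣ C c - X * b :=
        (dvd_pow_self X (Nat.pos_iff_ne_zero.mp hj)).trans hz
      have hX' : (X : PowerSeries k) ∣ C c := by
        have := dvd_add hX (Dvd.intro b rfl : (X : PowerSeries k) ∣ X * b)
        simpa using this
      rw [X_dvd_iff, constantCoeff_C] at hX'
      exact hX'
    -- choose f
    obtain ⟨f, hf, hfL⟩ : ∃ f, φ f = (1, 0) ∧ f ∉ L k := by
      rcases Nat.eq_zero_or_pos m with hm | hm
      · subst hm
        have hsub : Subsingleton (PowerSeries k ⧸ Ideal.span {(X : PowerSeries k) ^ 0}) := by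
          rw [pow_zero, Ideal.span_singleton_one]
          exact Ideal.Quotient.subsingleton_iff.mpr rfl
        by_contra hall
        push Not at hall
        apply not_span_two (fun i => constantCoeff (g i))
        intro w
        let x : Fin 3 → PowerSeries k := fun i => C (w i)
        obtain ⟨b, hb⟩ := Ideal.Quotient.mk_surjective (φ x).2
        have hxg : φ (x - b • g) = (1, 0) := by
          rw [map_sub, map_smul, hg]
          refine Prod.ext (Subsingleton.elim _ _) ?_
          show (φ x).2 - b • (1 : PowerSeries k ⧸ Ideal.span {(X : PowerSeries k) ^ n}) = 0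
          rw [← hb, ← map_one (Ideal.Quotient.mk _), smul_mk, mul_one, sub_self]
        have hL := hall _ hxg
        rw [mem_L_iff_cc] at hL
        obtain ⟨a, ha⟩ := hL
        refine ⟨a, constantCoeff b, fun i => ?_⟩
        have := ha i
        simp only [Pi.sub_apply, Pi.smul_apply, smul_eq_mul, map_sub, map_mul, x,
          constantCoeff_C] at this
        rw [← this]; ring
      · obtain ⟨f, hf⟩ := hφsurj (1, 0)
        refine ⟨f, hf, ?_⟩
        intro hfL
        rw [mem_L_iff] at hfL
        obtain ⟨c, y, rfl⟩ := hfL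
        rw [map_add, map_smul, map_smul, hφ1, smul_zero, zero_add] at hf
        have h1' : (X : PowerSeries k) • (φ y).1 = 1 := congrArg Prod.fst hf
        have : (1 : k) = 0 := by
          apply hCzero m hm 1 (φ y).1
          rw [h1', map_one, map_one]
        exact one_ne_zero this
    -- independence mod t
    have hindep : ∀ v : Fin 3 → k,
        (∀ i, v 0 + constantCoeff (f i) * v 1 + constantCoeff (g i) * v 2 = 0) → v = 0 := by
      intro v hv
      let x : Fin 3 → PowerSeries k := C (v 0) • (1 : Fin 3 → PowerSeries k) + C (v 1) • f + C (v 2) • g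
      have hx : ∀ i, (X : PowerSeries k) ∣ x i := by
        intro i
        rw [X_dvd_iff]
        simp only [x, Pi.add_apply, Pi.smul_apply, Pi.one_apply, smul_eq_mul, mul_one, map_add,
          map_mul, constantCoeff_C]
        rw [← hv i]; ring
      choose y hy using hx
      have hxy : x = (X : PowerSeries k) • y := by
        funext i
        rw [Pi.smul_apply, smul_eq_mul, ← hy i]
      have hφx : φ x = (Ideal.Quotient.mk _ (C (v 1)), Ideal.Quotient.mk _ (C (v 2))) := by
        simp only [x, map_add, map_smul, hφ1, hf, hg, smul_zero, zero_add, Prod.smul_mk,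
          Prod.mk_add_mk, add_zero]
        refine Prod.ext ?_ ?_
        · show C (v 1) • (1 : PowerSeries k ⧸ _) = _
          rw [← map_one (Ideal.Quotient.mk _), smul_mk, mul_one]
        · show C (v 2) • (1 : PowerSeries k ⧸ _) = _
          rw [← map_one (Ideal.Quotient.mk _), smul_mk, mul_one]
      rw [hxy, map_smul] at hφx
      have h2 : v 2 = 0 := by
        apply hCzero n hn (v 2) (φ y).2
        have := congrArg Prod.snd hφx
        rw [Prod.smul_snd] at this
        exact this.symm
      have h1' : v 1 = 0 := by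
        by_contra hne
        apply hfL
        rw [mem_L_iff_cc]
        refine ⟨-(v 0) / v 1, fun i => ?_⟩
        have := hv i
        rw [h2, mul_zero, add_zero] at this
        field_simp
        linear_combination this
      have h0 : v 0 = 0 := by
        have := hv 0
        rw [h1', h2, mul_zero, mul_zero, add_zero, add_zero] at this
        exact this
      funext i
      fin_cases i
      · exact h0
      · exact h1'
      · exact h2
    have hspan := span_of_indep f g hindep
    refine ⟨f, hfL, le_antisymm ?_ ?_⟩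
    · intro x hxS
      obtain ⟨α, β, γ, rfl⟩ := hspan x
      have hφx := (hφker _).mpr hxS
      simp only [map_add, map_smul, hφ1, hf, hg, smul_zero, zero_add, Prod.smul_mk,
        Prod.mk_add_mk, add_zero] at hφx
      have hβ : β • (1 : PowerSeries k ⧸ Ideal.span {(X : PowerSeries k) ^ m}) = 0 :=
        congrArg Prod.fst hφx
      have hγ : γ • (1 : PowerSeries k ⧸ Ideal.span {(X : PowerSeries k) ^ n}) = 0 :=
        congrArg Prod.snd hφx
      rw [← map_one (Ideal.Quotient.mk _), smul_mk, mul_one, Ideal.Quotient.eq_zero_iff_mem,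
        Ideal.mem_span_singleton] at hβ hγ
      obtain ⟨β', rfl⟩ := hβ
      obtain ⟨γ', rfl⟩ := hγ
      apply Submodule.add_mem
      · apply Submodule.mem_sup_left
        apply Submodule.add_mem
        · exact Submodule.smul_mem _ _ (Submodule.subset_span (by simp))
        · have : ((X : PowerSeries k) ^ m * β') • f = β' • ((X : PowerSeries k) ^ m • f) := by
            rw [smul_smul, mul_comm]
          rw [this]
          exact Submodule.smul_mem _ _ (Submodule.subset_span (by simp))
      · apply Submodule.mem_sup_right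
        rw [Submodule.ideal_span_singleton_smul, Submodule.mem_smul_pointwise_iff_exists]
        exact ⟨γ' • g, trivial, by rw [smul_smul]⟩
    · apply sup_le _ hA
      rw [Submodule.span_le]
      intro x hx
      rcases hx with rfl | hx
      · exact h1
      · rw [Set.mem_singleton_iff] at hx
        subst hx
        rw [SetLike.mem_coe, ← hφker, map_smul, hf, Prod.smul_mk, smul_zero]
        refine Prod.ext ?_ rfl
        show (X : PowerSeries k) ^ m • (1 : PowerSeries k ⧸ _) = 0
        rw [← map_one (Ideal.Quotient.mk _), smul_mk, mul_one, Ideal.Quotient.eq_zero_iff_mem]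
        exact Ideal.mem_span_singleton_self _

theorem kill (m n : ℕ) (hmn : m ≤ n)
    (z : (PowerSeries k ⧸ Ideal.span {(X : PowerSeries k) ^ m}) ×
        (PowerSeries k ⧸ Ideal.span {(X : PowerSeries k) ^ n})) :
    (X : PowerSeries k) ^ n • z = 0 := by
  obtain ⟨z1, z2⟩ := z
  obtain ⟨a, rfl⟩ := Ideal.Quotient.mk_surjective z1
  obtain ⟨b, rfl⟩ := Ideal.Quotient.mk_surjective z2
  rw [Prod.smul_mk, smul_mk, smul_mk]
  refine Prod.ext ?_ ?_
  · show Ideal.Quotient.mk _ _ = 0
    rw [Ideal.Quotient.eq_zero_iff_mem, Ideal.mem_span_singleton]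
    exact Dvd.dvd.mul_right (pow_dvd_pow _ hmn) _
  · show Ideal.Quotient.mk _ _ = 0
    rw [Ideal.Quotient.eq_zero_iff_mem, Ideal.mem_span_singleton]
    exact Dvd.intro _ rfl

theorem mem_smul_top_iff (n : ℕ) (z : Fin 3 → PowerSeries k) :
    z ∈ Ideal.span {(X : PowerSeries k) ^ n} •
        (⊤ : Submodule (PowerSeries k) (Fin 3 → PowerSeries k)) ↔
      ∀ i, (X : PowerSeries k) ^ n ∣ z i := by
  rw [Submodule.ideal_span_singleton_smul, Submodule.mem_smul_pointwise_iff_exists]
  constructor
  · rintro ⟨y, -, rfl⟩ i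
    exact ⟨y i, rfl⟩
  · intro h
    choose y hy using h
    exact ⟨y, trivial, by funext i; rw [Pi.smul_apply, smul_eq_mul, ← hy i]⟩

theorem exists_g (f : Fin 3 → PowerSeries k) (hf : f ∉ L k) :
    ∃ g : Fin 3 → PowerSeries k, ∀ v : Fin 3 → k,
      (∀ i, v 0 + constantCoeff (f i) * v 1 + constantCoeff (g i) * v 2 = 0) → v = 0 := by
  rw [mem_L_iff_cc] at hf
  by_cases h01 : constantCoeff (f 0) = constantCoeff (f 1)
  · have h12 : constantCoeff (f 1) ≠ constantCoeff (f 2) := by
      intro h12
      apply hf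
      refine ⟨constantCoeff (f 0), fun i => ?_⟩
      fin_cases i
      · rfl
      · exact h01.symm
      · exact (h01.trans h12).symm
    refine ⟨Pi.single 0 1, fun v hv => ?_⟩
    have e0 := hv 0
    have e1 := hv 1
    have e2 := hv 2
    simp at e0 e1 e2
    have hv1 : v 1 = 0 := by
      have : (constantCoeff (f 1) - constantCoeff (f 2)) * v 1 = 0 := by
        linear_combination e1 - e2
      rcases mul_eq_zero.mp this with h | h
      · exact absurd (sub_eq_zero.mp h) h12
      · exact h
    have hv0 : v 0 = 0 := by rw [hv1, mul_zero, add_zero] at e1; exact e1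
    have hv2 : v 2 = 0 := by rw [hv0, hv1, mul_zero, zero_add, zero_add] at e0; exact e0
    funext i
    fin_cases i
    · exact hv0
    · exact hv1
    · exact hv2
  · refine ⟨Pi.single 2 1, fun v hv => ?_⟩
    have e0 := hv 0
    have e1 := hv 1
    have e2 := hv 2
    simp at e0 e1 e2
    have hv1 : v 1 = 0 := by
      have : (constantCoeff (f 0) - constantCoeff (f 1)) * v 1 = 0 := by
        linear_combination e0 - e1
      rcases mul_eq_zero.mp this with h | h
      · exact absurd (sub_eq_zero.mp h) h01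
      · exact h
    have hv0 : v 0 = 0 := by rw [hv1, mul_zero, add_zero] at e1; exact e1
    have hv2 : v 2 = 0 := by rw [hv0, hv1, mul_zero, zero_add, zero_add] at e2; exact e2
    funext i
    fin_cases i
    · exact hv0
    · exact hv1
    · exact hv2

theorem main_conv (m n : ℕ) (hmn : m ≤ n) (hn : n ≤ 2 * m)
    (f : (Fin 3 → PowerSeries k)) (hf : f ∉ L k)
    (S : Submodule (PowerSeries k) (Fin 3 → PowerSeries k))
    (hS : S = Submodule.span (PowerSeries k)
          {(1 : (Fin 3 → PowerSeries k)), ((X : PowerSeries k) ^ m) • f} ⊔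
        Ideal.span {(X : PowerSeries k) ^ n} •
          (⊤ : Submodule (PowerSeries k) (Fin 3 → PowerSeries k))) :
    (∀ x ∈ S, ∀ y ∈ S, x * y ∈ S) ∧
    Nonempty (((Fin 3 → PowerSeries k) ⧸ S) ≃ₗ[PowerSeries k]
      ((PowerSeries k ⧸ Ideal.span {(X : PowerSeries k) ^ m}) ×
        (PowerSeries k ⧸ Ideal.span {(X : PowerSeries k) ^ n}))) := by
  classical
  have hmemS : ∀ x : Fin 3 → PowerSeries k, x ∈ S ↔
      ∃ a b : PowerSeries k, ∀ i, (X : PowerSeries k) ^ n ∣
        x i - a - b * ((X : PowerSeries k) ^ m * f i) := by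
    intro x
    rw [hS, Submodule.mem_sup]
    constructor
    · rintro ⟨u, hu, w, hw, rfl⟩
      rw [Submodule.mem_span_pair] at hu
      obtain ⟨a, b, rfl⟩ := hu
      rw [mem_smul_top_iff] at hw
      refine ⟨a, b, fun i => ?_⟩
      have : (a • (1 : Fin 3 → PowerSeries k) + b • ((X : PowerSeries k) ^ m • f) + w) i - a -
          b * ((X : PowerSeries k) ^ m * f i) = w i := by
        simp
        ring
      rw [this]
      exact hw i
    · rintro ⟨a, b, hab⟩
      refine ⟨a • (1 : Fin 3 → PowerSeries k) + b • ((X : PowerSeries k) ^ m • f),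
        Submodule.mem_span_pair.mpr ⟨a, b, rfl⟩,
        x - (a • (1 : Fin 3 → PowerSeries k) + b • ((X : PowerSeries k) ^ m • f)), ?_, by abel⟩
      rw [mem_smul_top_iff]
      intro i
      have : (x - (a • (1 : Fin 3 → PowerSeries k) + b • ((X : PowerSeries k) ^ m • f))) i =
          x i - a - b * ((X : PowerSeries k) ^ m * f i) := by
        simp; ring
      rw [this]
      exact hab i
  constructor
  · intro x hx y hy
    rw [hmemS] at hx hy ⊢
    obtain ⟨a, b, hab⟩ := hx
    obtain ⟨a', b', hab'⟩ := hy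
    obtain ⟨r, hr⟩ := Nat.exists_eq_add_of_le hn
    have hpow : (X : PowerSeries k) ^ m * (X : PowerSeries k) ^ m =
        (X : PowerSeries k) ^ n * (X : PowerSeries k) ^ r := by
      rw [← pow_add, ← pow_add]; congr 1; omega
    refine ⟨a * a', a * b' + a' * b, fun i => ?_⟩
    obtain ⟨p, hp⟩ := hab i
    obtain ⟨q, hq⟩ := hab' i
    refine ⟨b * b' * (X : PowerSeries k) ^ r * f i ^ 2 + p * (a' + b' * (X ^ m * f i)) +
      q * (a + b * (X ^ m * f i)) + X ^ n * p * q, ?_⟩
    have hx' : x i = a + b * (X ^ m * f i) + X ^ n * p := by linear_combination hp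
    have hy' : y i = a' + b' * (X ^ m * f i) + X ^ n * q := by linear_combination hq
    rw [Pi.mul_apply, hx', hy']
    linear_combination (b * b' * f i ^ 2) * hpow
  · obtain ⟨g, hg⟩ := exists_g f hf
    obtain ⟨c, hc, hc1, hcf, hcg⟩ := coord_of_indep f g hg
    let ψ : (Fin 3 → PowerSeries k) →ₗ[PowerSeries k]
        ((PowerSeries k ⧸ Ideal.span {(X : PowerSeries k) ^ m}) ×
          (PowerSeries k ⧸ Ideal.span {(X : PowerSeries k) ^ n})) :=
      LinearMap.prod
        ((Submodule.mkQ (Ideal.span {(X : PowerSeries k) ^ m})) ∘ₗ (LinearMap.proj 1) ∘ₗ c)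
        ((Submodule.mkQ (Ideal.span {(X : PowerSeries k) ^ n})) ∘ₗ (LinearMap.proj 2) ∘ₗ c)
    have hψ : ∀ x, ψ x = (Ideal.Quotient.mk _ (c x 1), Ideal.Quotient.mk _ (c x 2)) := fun x => rfl
    have hsurj : Function.Surjective ψ := by
      rintro ⟨z1, z2⟩
      obtain ⟨a, rfl⟩ := Ideal.Quotient.mk_surjective z1
      obtain ⟨b, rfl⟩ := Ideal.Quotient.mk_surjective z2
      refine ⟨a • f + b • g, ?_⟩
      rw [hψ, map_add, map_smul, map_smul, hcf, hcg]
      simp
    have hker : S = LinearMap.ker ψ := by
      apply le_antisymm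
      · rw [hS]
        apply sup_le
        · rw [Submodule.span_le]
          intro x hx
          rcases hx with rfl | hx
          · rw [SetLike.mem_coe, LinearMap.mem_ker, hψ, hc1]
            simp
          · rw [Set.mem_singleton_iff] at hx
            subst hx
            rw [SetLike.mem_coe, LinearMap.mem_ker, map_smul, hψ, hcf]
            simp only [Pi.single_eq_same, ne_eq, Fin.reduceEq, not_false_eq_true,
              Pi.single_eq_of_ne, map_one, map_zero, Prod.smul_mk, smul_zero]
            refine Prod.ext ?_ rfl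
            show (X : PowerSeries k) ^ m • (1 : PowerSeries k ⧸ _) = 0
            rw [← map_one (Ideal.Quotient.mk _), smul_mk, mul_one, Ideal.Quotient.eq_zero_iff_mem]
            exact Ideal.mem_span_singleton_self _
        · intro y hy
          rw [Submodule.ideal_span_singleton_smul, Submodule.mem_smul_pointwise_iff_exists] at hy
          obtain ⟨z, -, rfl⟩ := hy
          rw [LinearMap.mem_ker, map_smul, kill m n hmn]
      · intro x hx
        rw [LinearMap.mem_ker, hψ, Prod.mk_eq_zero, Ideal.Quotient.eq_zero_iff_mem,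
          Ideal.Quotient.eq_zero_iff_mem, Ideal.mem_span_singleton, Ideal.mem_span_singleton] at hx
        obtain ⟨⟨β', hβ⟩, ⟨γ', hγ⟩⟩ := hx
        rw [hmemS]
        refine ⟨c x 0, β', fun i => ?_⟩
        refine ⟨γ' * g i, ?_⟩
        have := congrFun (hc x) i
        simp only [Pi.add_apply, Pi.smul_apply, Pi.one_apply, smul_eq_mul, mul_one] at this
        rw [hβ, hγ] at this
        linear_combination this
    exact ⟨(Submodule.quotEquivOfEq S (LinearMap.ker ψ) hker).trans
      (ψ.quotKerEquivOfSurjective hsurj)⟩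

end Groth.Agent.Lib.Helper24Crimp2
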