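import Mathlib
import Groth.Agent.Lib.Helper24CubicSec
import Groth.Agent.Lib.Helper24CubicLines

namespace Groth.Agent.Lib.Helper24CubicLines

open MvPolynomial
open Groth.Agent.Lib.Helper24CubicSec

variable {k : Type*} [Field k]

/-- the differential of `f` at `v` vanishes on any plane through `v` on which `f` vanishes -/
theorem tangent_of_vanish [Infinite k] (f : MvPolynomial (Fin 4) k) (v u : Fin 4 → k)
    (h : ∀ s t : k, eval (s • v + t • u) f = 0) :
    ∑ i, eval v (pderiv i f) * u i = 0 := by
  set A : Matrix (Fin 4) (Fin 2) k := Matrix.of fun i j => if j = 0 then v i else u i with hA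
  have hmul : ∀ x : Fin 2 → k, A.mulVec x = x 0 • v + x 1 • u := by
    intro x
    ext i
    simp [hA, Matrix.mulVec, dotProduct, Fin.sum_univ_two, mul_comm]
  have hg : aeval (subst A) f = 0 := by
    apply MvPolynomial.funext
    intro x
    rw [eval_aeval_subst, hmul, h]
    simp
  have h1 := pderiv_aeval_subst A 1 f
  rw [hg, map_zero] at h1
  have h2 := congrArg (eval ![1, 0]) h1
  rw [map_zero, map_sum] at h2
  simp only [map_mul, eval_C, eval_aeval_subst] at h2
  have h3 : A.mulVec ![1, 0] = v := by rw [hmul]; simp
  rw [h3] at h2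
  rw [h2]
  refine Finset.sum_congr rfl fun i _ => ?_
  simp [hA, mul_comm]

end Groth.Agent.Lib.Helper24CubicLines
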