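import Mathlib
import Groth.Agent.Lib.Helper24CubicSec
import Groth.Agent.Lib.Helper24CubicLines
import Groth.Agent.Lib.Helper24CubicLines2

namespace Groth.Agent.Lib.Helper24CubicLines

open MvPolynomial
open Groth.Agent.Lib.Helper24CubicSec

variable {k : Type*} [Field k]

theorem lines_through_point [IsAlgClosed k] [CharZero k]
    (f : MvPolynomial (Fin 4) k) (hf : f.IsHomogeneous 3)
    (hsm : ∀ v : Fin 4 → k, v ≠ 0 → eval v f = 0 → ∃ i : Fin 4, eval v (pderiv i f) ≠ 0)
    (v : Fin 4 → k) (hv : v ≠ 0) (hfv : eval v f = 0) :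
    {U : Submodule k (Fin 4 → k) | v ∈ U ∧ (Module.finrank k ↥U = 2 ∧
        ∀ u ∈ U, eval u f = 0)}.Finite ∧
      {U : Submodule k (Fin 4 → k) | v ∈ U ∧ (Module.finrank k ↥U = 2 ∧
        ∀ u ∈ U, eval u f = 0)}.ncard ≤ 3 ∧
      ∃ H : Submodule k (Fin 4 → k), Module.finrank k ↥H = 3 ∧
        ∀ U : Submodule k (Fin 4 → k), v ∈ U →
          (Module.finrank k ↥U = 2 ∧ ∀ u ∈ U, eval u f = 0) → U ≤ H := by
  classical
  -- the tangent plane
  set φH : (Fin 4 → k) →ₗ[k] k := ∑ i, (eval v (pderiv i f)) • LinearMap.proj i with hφH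
  have hφHa : ∀ w, φH w = ∑ i, eval v (pderiv i f) * w i := by
    intro w; simp [hφH, LinearMap.sum_apply]
  obtain ⟨i₀, hi₀⟩ := hsm v hv hfv
  have hsurj : Function.Surjective φH := by
    intro c
    refine ⟨(c / eval v (pderiv i₀ f)) • Pi.single i₀ 1, ?_⟩
    rw [hφHa, Finset.sum_eq_single i₀]
    · simp; field_simp
    · intro j _ hj; simp [hj]
    · simp
  set H := LinearMap.ker φH with hH
  have hH3 : Module.finrank k H = 3 := by
    have h1 := LinearMap.finrank_range_add_finrank_ker φH
    rw [LinearMap.range_eq_top.mpr hsurj] at h1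
    simp at h1
    rw [← hH] at h1
    omega
  have hUH : ∀ U : Submodule k (Fin 4 → k), v ∈ U →
      (Module.finrank k ↥U = 2 ∧ ∀ u ∈ U, eval u f = 0) → U ≤ H := by
    intro U hvU hU u hu
    rw [hH, LinearMap.mem_ker, hφHa]
    apply tangent_of_vanish f v u
    intro s t
    exact hU.2 _ (U.add_mem (U.smul_mem s hvU) (U.smul_mem t hu))
  -- a parametrisation of the tangent plane
  let b := Module.finBasisOfFinrankEq k H hH3
  set A : Matrix (Fin 4) (Fin 3) k := Matrix.of fun i j => (b j : Fin 4 → k) i with hA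
  have hmul : ∀ w : Fin 3 → k, A.mulVec w = ((∑ j, w j • b j : H) : Fin 4 → k) := by
    intro w
    ext i
    simp [hA, Matrix.mulVec, dotProduct, mul_comm]
  have hinj : Function.Injective A.mulVecLin := by
    intro w w' hww
    have h1 : (∑ j, w j • b j : H) = ∑ j, w' j • b j := by
      apply Subtype.ext
      rw [← hmul, ← hmul]; exact hww
    have h2 := b.linearIndependent
    rw [Fintype.linearIndependent_iff] at h2
    have h3 := h2 (fun j => w j - w' j) (by
      simp only [sub_smul, Finset.sum_sub_distrib, h1, sub_self])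
    funext j
    exact sub_eq_zero.mp (h3 j)
  have hrange : LinearMap.range A.mulVecLin = H := by
    apply le_antisymm
    · rintro _ ⟨w, rfl⟩
      rw [Matrix.mulVecLin_apply, hmul]
      exact (∑ j, w j • b j : H).2
    · intro h hh
      refine ⟨fun j => b.repr ⟨h, hh⟩ j, ?_⟩
      rw [Matrix.mulVecLin_apply, hmul, b.sum_repr]
  have hrank : A.rank = 3 := by
    rw [Matrix.rank, LinearMap.finrank_range_of_inj hinj]
    simp
  have hsq := squarefree_section f hf hsm A hrank
  obtain ⟨g, hgdef⟩ : ∃ g, g = aeval (subst A) f := ⟨_, rfl⟩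
  rw [← hgdef] at hsq
  have hg0 : g ≠ 0 := hsq.ne_zero
  have hsub : ∀ i, (subst A i).IsHomogeneous 1 := by
    intro i
    apply IsHomogeneous.sum
    intro j _
    simpa using (isHomogeneous_C (Fin 3) (A i j)).mul (isHomogeneous_X k j)
  have hgdeg : g.totalDegree ≤ 3 := by
    have := (hf.aeval (subst A) hsub).totalDegree_le
    rw [hgdef]; simpa using this
  -- counting
  have hcount : ∀ T₀ : Finset (Submodule k (Fin 4 → k)),
      (∀ U ∈ T₀, v ∈ U ∧ (Module.finrank k ↥U = 2 ∧ ∀ u ∈ U, eval u f = 0)) → T₀.card ≤ 3 := by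
    intro T₀ hT₀
    have hmapcomap : ∀ U ∈ T₀, (U.comap A.mulVecLin).map A.mulVecLin = U := by
      intro U hU
      rw [Submodule.map_comap_eq, hrange]
      exact inf_eq_right.mpr (hUH U (hT₀ U hU).1 (hT₀ U hU).2)
    have hinjOn : Set.InjOn (fun U : Submodule k (Fin 4 → k) => U.comap A.mulVecLin) T₀ := by
      intro U hU U' hU' h
      simp only at h
      rw [← hmapcomap U hU, ← hmapcomap U' hU', h]
    have h1 := card_planes_le g hg0 (T₀.image fun U => U.comap A.mulVecLin) (by
      intro U' hU'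
      obtain ⟨U, hU, rfl⟩ := Finset.mem_image.mp hU'
      constructor
      · have e := Submodule.equivMapOfInjective A.mulVecLin hinj (U.comap A.mulVecLin)
        have := e.finrank_eq
        rw [hmapcomap U hU, (hT₀ U hU).2.1] at this
        omega
      · intro w hw
        rw [hgdef, eval_aeval_subst]
        exact (hT₀ U hU).2.2 _ hw)
    rw [Finset.card_image_of_injOn hinjOn] at h1
    omega
  have hfin : {U : Submodule k (Fin 4 → k) | v ∈ U ∧ (Module.finrank k ↥U = 2 ∧
        ∀ u ∈ U, eval u f = 0)}.Finite := by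
    by_contra hinf
    obtain ⟨T₀, hT₀, hcard⟩ := Set.Infinite.exists_subset_card_eq hinf 4
    have := hcount T₀ (fun U hU => hT₀ hU)
    omega
  refine ⟨hfin, ?_, H, hH3, hUH⟩
  rw [Set.ncard_eq_toFinset_card _ hfin]
  apply hcount
  intro U hU
  exact (Set.Finite.mem_toFinset hfin).mp hU

end Groth.Agent.Lib.Helper24CubicLines
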