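import Mathlib

/-!
# A flat subalgebra of `k[t]/(t^n)` is curvilinear
-/

open Polynomial

namespace Groth.Agent.Lib.Helper24Curvi

universe u

section General

variable {k : Type u} [Field k] {A : Type*} [CommRing A] [Algebra k A] (ε : A →ₐ[k] k)
  (hε : ∀ a, ε a = 0 → IsNilpotent a)

include hε in
lemma unit_or_nilpotent (a : A) : IsUnit a ∨ IsNilpotent a := by
  have hν : IsNilpotent (a - algebraMap k A (ε a)) := by
    apply hε
    rw [map_sub, AlgHom.commutes, Algebra.algebraMap_self_apply, sub_self]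
  by_cases hc : ε a = 0
  · right
    exact hε a hc
  · left
    have hu : IsUnit (algebraMap k A (ε a)) := (IsUnit.mk0 _ hc).map _
    have := hν.isUnit_add_left_of_commute hu (Commute.all _ _)
    rwa [add_sub_cancel] at this

include hε in
lemma isLocalRing [Nontrivial A] : IsLocalRing A := by
  apply IsLocalRing.of_isUnit_or_isUnit_one_sub_self
  intro a
  rcases unit_or_nilpotent ε hε a with h | h
  · exact Or.inl h
  · exact Or.inr h.isUnit_one_sub

end General

section Trunc

variable (k : Type u) [Field k] (n : ℕ)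

/-- The truncated polynomial ring. -/
abbrev B := Polynomial k ⧸ Ideal.span {(X : Polynomial k) ^ n}

/-- Ideals of `k[X]` containing `X^n` are generated by a power of `X`. -/
lemma ideal_eq_span_X_pow (I : Ideal (Polynomial k)) (h : (X : Polynomial k) ^ n ∈ I) :
    ∃ j ≤ n, I = Ideal.span {(X : Polynomial k) ^ j} := by
  obtain ⟨p, rfl⟩ : ∃ p, I = Ideal.span {p} := ⟨_, (Ideal.span_singleton_generator I).symm⟩
  rw [Ideal.mem_span_singleton] at h
  obtain ⟨j, hj, hass⟩ := (dvd_prime_pow (Polynomial.prime_X (R := k)) n).mp h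
  exact ⟨j, hj, Ideal.span_singleton_eq_span_singleton.mpr hass⟩

/-- The ideals of `B` form a chain. -/
lemma ideals_total (I J : Ideal (B k n)) : I ≤ J ∨ J ≤ I := by
  have hmem : ∀ K : Ideal (B k n), (X : Polynomial k) ^ n ∈ K.comap (Ideal.Quotient.mk _) := by
    intro K
    rw [Ideal.mem_comap]
    have : (Ideal.Quotient.mk (Ideal.span {(X : Polynomial k) ^ n})) (X ^ n) = 0 :=
      Ideal.Quotient.eq_zero_iff_mem.mpr (Ideal.mem_span_singleton_self _)
    rw [this]
    exact K.zero_mem
  obtain ⟨i, -, hi⟩ := ideal_eq_span_X_pow k n _ (hmem I)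
  obtain ⟨j, -, hj⟩ := ideal_eq_span_X_pow k n _ (hmem J)
  have hsurj : Function.Surjective (Ideal.Quotient.mk (Ideal.span {(X : Polynomial k) ^ n})) :=
    Ideal.Quotient.mk_surjective
  have key : ∀ (I J : Ideal (B k n)) (i j : ℕ), i ≤ j →
      I.comap (Ideal.Quotient.mk _) = Ideal.span {(X : Polynomial k) ^ i} →
      J.comap (Ideal.Quotient.mk _) = Ideal.span {(X : Polynomial k) ^ j} → J ≤ I := by
    intro I J i j hij hi hj
    have h1 : J.comap (Ideal.Quotient.mk _) ≤ I.comap (Ideal.Quotient.mk _) := by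
      rw [hi, hj, Ideal.span_singleton_le_span_singleton]
      exact pow_dvd_pow _ hij
    have h2 := Ideal.map_mono (f := Ideal.Quotient.mk (Ideal.span {(X : Polynomial k) ^ n})) h1
    rwa [Ideal.map_comap_of_surjective _ hsurj, Ideal.map_comap_of_surjective _ hsurj] at h2
  rcases le_total i j with hij | hij
  · exact Or.inr (key I J i j hij hi hj)
  · exact Or.inl (key J I j i hij hj hi)

/-- The augmentation `B → k`. -/
noncomputable def epsB (hn : 0 < n) : B k n →ₐ[k] k :=
  Ideal.Quotient.liftₐ _ (Polynomial.aeval (0 : k)) (by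
    intro p hp
    rw [Ideal.mem_span_singleton] at hp
    obtain ⟨q, rfl⟩ := hp
    simp [hn.ne'])

lemma epsB_mk (hn : 0 < n) (p : Polynomial k) :
    epsB k n hn (Ideal.Quotient.mk _ p) = Polynomial.aeval (0 : k) p := rfl

lemma epsB_nilpotent (hn : 0 < n) (b : B k n) (hb : epsB k n hn b = 0) : IsNilpotent b := by
  obtain ⟨p, rfl⟩ := Ideal.Quotient.mk_surjective b
  rw [epsB_mk] at hb
  have hX : (X : Polynomial k) ∣ p := by
    rw [Polynomial.X_dvd_iff]
    simpa [Polynomial.coeff_zero_eq_aeval_zero] using hb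
  obtain ⟨q, rfl⟩ := hX
  refine ⟨n, ?_⟩
  rw [← map_pow, Ideal.Quotient.eq_zero_iff_mem, mul_pow, Ideal.mem_span_singleton]
  exact Dvd.intro _ rfl

lemma nontrivialB (hn : 0 < n) : Nontrivial (B k n) := by
  apply Ideal.Quotient.nontrivial_iff.mpr
  intro h
  rw [Ideal.eq_top_iff_one, Ideal.mem_span_singleton] at h
  have := Polynomial.natDegree_le_of_dvd h one_ne_zero
  rw [Polynomial.natDegree_X_pow, Polynomial.natDegree_one] at this
  omega

end Trunc

theorem main (k : Type u) [Field k] (n : ℕ) (hn : 0 < n)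
    (A : Subalgebra k (Polynomial k ⧸ Ideal.span {(X : Polynomial k) ^ n}))
    [hflat0 : Module.Flat A (Polynomial k ⧸ Ideal.span {(X : Polynomial k) ^ n})] :
    ∃ m : ℕ, Nonempty (A ≃ₐ[k] (Polynomial k ⧸ Ideal.span {(X : Polynomial k) ^ m})) := by
  classical
  haveI hflat : @Module.Flat A (B k n) _ _ Algebra.toModule := hflat0
  haveI := nontrivialB k n hn
  set εA : A →ₐ[k] k := (epsB k n hn).comp A.val with hεAdef
  have hεA : ∀ a : A, εA a = 0 → IsNilpotent a := by
    intro a ha
    obtain ⟨N, hN⟩ := epsB_nilpotent k n hn a.1 ha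
    exact ⟨N, Subtype.ext (by simpa using hN)⟩
  haveI : IsLocalRing (B k n) := isLocalRing (epsB k n hn) (epsB_nilpotent k n hn)
  haveI : IsLocalRing A := isLocalRing εA hεA
  haveI : IsLocalHom (algebraMap A (B k n)) := by
    refine ⟨fun a ha => ?_⟩
    rcases unit_or_nilpotent εA hεA a with h | h
    · exact h
    · exact absurd (h.map (algebraMap A (B k n))) ha.not_isNilpotent
  haveI hff : @Module.FaithfullyFlat A (B k n) _ _ Algebra.toModule :=
    Module.FaithfullyFlat.of_flat_of_isLocalHom
  -- a generator of the maximal ideal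
  obtain ⟨x, hx𝔪, hxgen⟩ : ∃ x ∈ IsLocalRing.maximalIdeal A,
      IsLocalRing.maximalIdeal A = Ideal.span {x} := by
    let P : Set (Ideal (B k n)) :=
      {J | ∃ s ∈ IsLocalRing.maximalIdeal A, J = Ideal.span {algebraMap A (B k n) s}}
    have hne : P.Nonempty := ⟨_, 0, Ideal.zero_mem _, rfl⟩
    obtain ⟨J₀, ⟨s₀, hs₀, rfl⟩, hmin⟩ := WellFounded.has_min
      (wellFounded_gt (α := Ideal (B k n))) P hne
    refine ⟨s₀, hs₀, ?_⟩
    have hle : ∀ s ∈ IsLocalRing.maximalIdeal A,
        Ideal.span {algebraMap A (B k n) s} ≤ Ideal.span {algebraMap A (B k n) s₀} := by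
      intro s hs
      rcases ideals_total k n (Ideal.span {algebraMap A (B k n) s})
        (Ideal.span {algebraMap A (B k n) s₀}) with h | h
      · exact h
      · by_contra hnot
        exact hmin _ ⟨s, hs, rfl⟩ (lt_of_le_not_ge h hnot)
    have hmap : (IsLocalRing.maximalIdeal A).map (algebraMap A (B k n))
        = (Ideal.span {s₀}).map (algebraMap A (B k n)) := by
      rw [Ideal.map_span, Set.image_singleton]
      apply le_antisymm
      · rw [Ideal.map_le_iff_le_comap]
        intro s hs
        rw [Ideal.mem_comap]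
        exact hle s hs (Ideal.mem_span_singleton_self _)
      · rw [Ideal.span_singleton_le_iff_mem]
        exact Ideal.mem_map_of_mem _ hs₀
    have := congrArg (Ideal.comap (algebraMap A (B k n))) hmap
    rwa [Ideal.comap_map_eq_self_of_faithfullyFlat, Ideal.comap_map_eq_self_of_faithfullyFlat]
      at this
  -- `x` is nilpotent
  have hxnil : IsNilpotent x := by
    rcases unit_or_nilpotent εA hεA x with h | h
    · exact absurd h ((IsLocalRing.mem_maximalIdeal x).mp hx𝔪)
    · exact h
  obtain ⟨N, hN⟩ := hxnil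
  -- surjectivity of `aeval x`
  have hstep : ∀ (j : ℕ) (a : A), ∃ p : Polynomial k,
      a - Polynomial.aeval x p ∈ Ideal.span {x ^ j} := by
    intro j
    induction j with
    | zero =>
      intro a
      exact ⟨0, by simp⟩
    | succ j ih =>
      intro a
      obtain ⟨p, hp⟩ := ih a
      obtain ⟨b, hb⟩ := Ideal.mem_span_singleton'.mp hp
      have hb𝔪 : b - algebraMap k A (εA b) ∈ IsLocalRing.maximalIdeal A := by
        rw [IsLocalRing.mem_maximalIdeal, mem_nonunits_iff]
        intro hu
        refine hu.not_isNilpotent (hεA _ ?_)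
        rw [map_sub, AlgHom.commutes, Algebra.algebraMap_self_apply, sub_self]
      rw [hxgen] at hb𝔪
      obtain ⟨b', hb'⟩ := Ideal.mem_span_singleton'.mp hb𝔪
      refine ⟨p + Polynomial.C (εA b) * X ^ j, ?_⟩
      rw [Ideal.mem_span_singleton']
      refine ⟨b', ?_⟩
      have h1 : Polynomial.aeval x (p + Polynomial.C (εA b) * X ^ j)
          = Polynomial.aeval x p + algebraMap k A (εA b) * x ^ j := by
        simp
      rw [h1, pow_succ]
      have h2 : a - Polynomial.aeval x p = b * x ^ j := hb.symm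
      have h3 : b = algebraMap k A (εA b) + b' * x := by
        rw [hb']; ring
      calc b' * (x ^ j * x) = (b' * x) * x ^ j := by ring
        _ = (b - algebraMap k A (εA b)) * x ^ j := by rw [hb']
        _ = b * x ^ j - algebraMap k A (εA b) * x ^ j := by ring
        _ = a - (Polynomial.aeval x p + algebraMap k A (εA b) * x ^ j) := by
            rw [← h2]; ring
  have hsurj : Function.Surjective (Polynomial.aeval x : Polynomial k →ₐ[k] A) := by
    intro a
    obtain ⟨p, hp⟩ := hstep N a
    rw [hN, Ideal.span_singleton_eq_bot.mpr rfl, Ideal.mem_bot, sub_eq_zero] at hp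
    exact ⟨p, hp.symm⟩
  have hker : (X : Polynomial k) ^ N ∈ RingHom.ker (Polynomial.aeval x : Polynomial k →ₐ[k] A) := by
    rw [RingHom.mem_ker]
    simp [hN]
  obtain ⟨m, -, hm⟩ := ideal_eq_span_X_pow k N _ hker
  exact ⟨m, ⟨(Ideal.quotientKerAlgEquivOfSurjective hsurj).symm.trans
    (Ideal.quotientEquivAlgOfEq k hm)⟩⟩

end Groth.Agent.Lib.Helper24Curvi
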