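import Mathlib

set_option autoImplicit false
universe u
open Polynomial IsLocalRing

namespace Groth.Agent.Lib.Helper24Curvilinear

/-- In a regular local ring of dimension 2, an element of `M \ M^2` is part of a
2-element generating system of `M`. -/
theorem exists_gen {A : Type u} [CommRing A] [IsRegularLocalRing A] (hdim : ringKrullDim A = 2)
    (g : A) (hgM : g ∈ maximalIdeal A) (hg : g ∉ maximalIdeal A ^ 2) :
    ∃ h ∈ maximalIdeal A, ∀ m ∈ maximalIdeal A, ∃ x y : A, m = x * g + y * h := by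
  have hfr : Module.finrank (ResidueField A) (CotangentSpace A) = 2 := by
    have h1 := (IsRegularLocalRing.iff_finrank_cotangentSpace A).mp inferInstance
    rw [hdim] at h1
    exact_mod_cast h1
  obtain ⟨v1, hv1def⟩ : ∃ v1, v1 = (maximalIdeal A).toCotangent ⟨g, hgM⟩ := ⟨_, rfl⟩
  have hv1 : v1 ≠ 0 := by
    rw [hv1def]
    intro h0
    rw [Ideal.toCotangent_eq_zero] at h0
    exact hg h0
  have hex : ∃ v2 : CotangentSpace A, ∀ a : ResidueField A, a • v1 ≠ v2 := by
    by_contra hcon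
    push Not at hcon
    have htop : Submodule.span (ResidueField A) {v1} = ⊤ := by
      rw [eq_top_iff]
      intro v _
      obtain ⟨a, ha⟩ := hcon v
      rw [Submodule.mem_span_singleton]
      exact ⟨a, ha⟩
    have h1 := finrank_span_singleton (K := ResidueField A) hv1
    rw [htop, finrank_top, hfr] at h1
    omega
  obtain ⟨v2, hv2⟩ := hex
  have hli : LinearIndependent (ResidueField A) ![v1, v2] := (LinearIndependent.pair_iff' hv1).mpr hv2
  have hspan := hli.span_eq_top_of_card_eq_finrank' (by rw [hfr]; simp)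
  obtain ⟨h', rfl⟩ := Ideal.toCotangent_surjective _ v2
  have hs : Submodule.span A ({⟨g, hgM⟩, h'} : Set (maximalIdeal A)) = ⊤ := by
    rw [← CotangentSpace.span_image_eq_top_iff, Set.image_pair, ← hv1def]
    rw [← hspan]
    congr 1
    ext x
    simp [Set.mem_insert_iff, eq_comm]
    exact or_comm
  refine ⟨h', h'.2, ?_⟩
  intro m hm
  have hmem : (⟨m, hm⟩ : maximalIdeal A) ∈ Submodule.span A ({⟨g, hgM⟩, h'} : Set (maximalIdeal A)) := by
    rw [hs]; trivial
  rw [Submodule.mem_span_pair] at hmem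
  obtain ⟨a, b, hab⟩ := hmem
  refine ⟨a, b, ?_⟩
  have := congrArg Subtype.val hab
  simpa using this.symm

theorem s19453 (k : Type u) [Field k]
    (A : Type u) [CommRing A] [Algebra k A] [IsRegularLocalRing A] (hdim : ringKrullDim A = 2)
    (hres : Function.Surjective (algebraMap k (IsLocalRing.ResidueField A)))
    (I : Ideal A) [Module.Finite k (A ⧸ I)] (n : ℕ) (hn : Module.finrank k (A ⧸ I) = n) (h1 : 1 ≤ n)
    (g : A) (hgI : g ∈ I) (hg : g ∉ IsLocalRing.maximalIdeal A ^ 2) :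
    Nonempty ((A ⧸ I) ≃ₐ[k] (Polynomial k ⧸ Ideal.span {(Polynomial.X : Polynomial k) ^ n})) := by
  haveI : Nontrivial (A ⧸ I) := Module.nontrivial_of_finrank_pos (R := k) (by omega)
  have hI : I ≠ ⊤ := by
    intro h
    have : Subsingleton (A ⧸ I) := Ideal.Quotient.subsingleton_iff.mpr h
    exact not_subsingleton (A ⧸ I) this
  have hIM : I ≤ maximalIdeal A := IsLocalRing.le_maximalIdeal hI
  obtain ⟨h, hhM, hgen⟩ := exists_gen hdim g (hIM hgI) hg
  haveI : IsLocalRing (A ⧸ I) :=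
    IsLocalRing.of_surjective' (Ideal.Quotient.mk I) Ideal.Quotient.mk_surjective
  haveI : IsArtinianRing (A ⧸ I) := IsArtinianRing.of_finite k (A ⧸ I)
  obtain ⟨t, ht⟩ : ∃ t : A ⧸ I, t = Ideal.Quotient.mk I h := ⟨_, rfl⟩
  have hg0 : Ideal.Quotient.mk I g = 0 := Ideal.Quotient.eq_zero_iff_mem.mpr hgI
  -- decomposition
  have hdec : ∀ b : A ⧸ I, ∃ (c : k) (b' : A ⧸ I), b = algebraMap k (A ⧸ I) c + t * b' := by
    intro b
    obtain ⟨a, rfl⟩ := Ideal.Quotient.mk_surjective b
    obtain ⟨c, hc⟩ := hres (IsLocalRing.residue A a)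
    have hmem : a - algebraMap k A c ∈ maximalIdeal A := by
      rw [← IsLocalRing.residue_eq_zero_iff, map_sub, ← hc, sub_eq_zero]
      rw [IsScalarTower.algebraMap_apply k A (ResidueField A)]
      rfl
    obtain ⟨x, y, hxy⟩ := hgen _ hmem
    refine ⟨c, Ideal.Quotient.mk I y, ?_⟩
    have h2 : a = algebraMap k A c + (x * g + y * h) := by rw [← hxy]; ring
    rw [ht, IsScalarTower.algebraMap_apply k A (A ⧸ I), Ideal.Quotient.algebraMap_eq]
    conv_lhs => rw [h2]
    rw [map_add, map_add, map_mul, map_mul, hg0, mul_zero, zero_add, mul_comm]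
  -- nilpotency
  have htM : t ∈ maximalIdeal (A ⧸ I) := by
    rw [IsLocalRing.mem_maximalIdeal, mem_nonunits_iff, ht]
    intro hu
    obtain ⟨b, hb⟩ := isUnit_iff_exists_inv.mp hu
    obtain ⟨y, rfl⟩ := Ideal.Quotient.mk_surjective b
    rw [← map_mul, ← map_one (Ideal.Quotient.mk I), Ideal.Quotient.eq] at hb
    have h3 : (1 : A) ∈ maximalIdeal A := by
      have h4 : (1 : A) = h * y - (h * y - 1) := by ring
      rw [h4]
      exact Ideal.sub_mem _ (Ideal.mul_mem_right _ _ hhM) (hIM hb)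
    exact (Ideal.ne_top_iff_one _).mp (IsLocalRing.maximalIdeal.isMaximal A).ne_top h3
  obtain ⟨N0, hN0⟩ : ∃ N0 : ℕ, t ^ N0 = 0 := by
    obtain ⟨N0, hN0⟩ := IsArtinianRing.isNilpotent_jacobson_bot (R := A ⧸ I)
    rw [IsLocalRing.jacobson_eq_maximalIdeal ⊥ bot_ne_top] at hN0
    refine ⟨N0, ?_⟩
    have : t ^ N0 ∈ maximalIdeal (A ⧸ I) ^ N0 := Ideal.pow_mem_pow htM N0
    rw [hN0] at this
    exact this
  -- surjectivity
  have hstep : ∀ N : ℕ, ∀ b : A ⧸ I, ∃ (p : k[X]) (b' : A ⧸ I), b = aeval t p + t ^ N * b' := by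
    intro N
    induction N with
    | zero => intro b; exact ⟨0, b, by simp⟩
    | succ N ih =>
      intro b
      obtain ⟨p, b', hb⟩ := ih b
      obtain ⟨c, b'', hb'⟩ := hdec b'
      refine ⟨p + C c * X ^ N, b'', ?_⟩
      rw [hb, hb', map_add, map_mul, aeval_C, map_pow, aeval_X]
      ring
  have hsurj : Function.Surjective (aeval (R := k) t) := by
    intro b
    obtain ⟨p, b', hb⟩ := hstep N0 b
    refine ⟨p, ?_⟩
    rw [hb, hN0, zero_mul, add_zero]
  -- kernel
  have hXmem : (X : k[X]) ^ N0 ∈ RingHom.ker (aeval (R := k) t) := by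
    rw [RingHom.mem_ker, map_pow, aeval_X, hN0]
  obtain ⟨j, hker⟩ : ∃ j : ℕ, RingHom.ker (aeval (R := k) t) = Ideal.span {(X : k[X]) ^ j} := by
    obtain ⟨q, hq⟩ := (IsPrincipalIdealRing.principal (RingHom.ker (aeval (R := k) t))).principal
    have hq' : RingHom.ker (aeval (R := k) t) = Ideal.span {q} := hq
    rw [hq', Ideal.mem_span_singleton] at hXmem
    obtain ⟨i, _, hi⟩ := (dvd_prime_pow Polynomial.prime_X N0).mp hXmem
    exact ⟨i, hq'.trans (Ideal.span_singleton_eq_span_singleton.mpr hi)⟩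
  obtain ⟨e⟩ : Nonempty ((A ⧸ I) ≃ₐ[k] (k[X] ⧸ Ideal.span {(X : k[X]) ^ j})) :=
    ⟨(Ideal.quotientKerAlgEquivOfSurjective hsurj).symm.trans (Ideal.quotientEquivAlgOfEq k hker)⟩
  have hj : j = n := by
    have h5 := e.toLinearEquiv.finrank_eq
    rw [hn, finrank_quotient_span_eq_natDegree, natDegree_X_pow] at h5
    exact h5.symm
  subst hj
  exact ⟨e⟩

end Groth.Agent.Lib.Helper24Curvilinear
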