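import Mathlib
import Groth.Agent.Lib.Helper24FormalIFT

/-!
# Explicit automorphisms of `R[[a,b,c]]` in characteristic 2 (S13127, S13128)
-/

set_option autoImplicit false
universe u

namespace Groth.Agent.Lib.Helper24CuspAut

open MvPowerSeries Groth.Agent.Lib.Helper24FormalIFT

variable {R : Type u} [CommRing R]

theorem equiv_C {σ : Type*} (e : MvPowerSeries σ R ≃ₐ[R] MvPowerSeries σ R) (r : R) :
    e (C r) = C r := by
  have : (C r : MvPowerSeries σ R) = algebraMap R (MvPowerSeries σ R) r := by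
    rw [MvPowerSeries.algebraMap_apply]
    rfl
  rw [this, AlgEquiv.commutes]

theorem order_X_mul_ge {σ : Type*} (i : σ) (y : MvPowerSeries σ R) (hy : constantCoeff y = 0) :
    (2 : ℕ∞) ≤ ((X i : MvPowerSeries σ R) * y).order := by
  refine le_trans ?_ le_order_mul
  have h1 : (1 : ℕ∞) ≤ (X i : MvPowerSeries σ R).order :=
    one_le_order_of_constantCoeff (by simp)
  have h2 : (1 : ℕ∞) ≤ y.order := one_le_order_of_constantCoeff hy
  calc (2 : ℕ∞) = 1 + 1 := by norm_num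
    _ ≤ _ := add_le_add h1 h2

section S13127

variable [CharP R 2]

theorem main1 (l0 l2 l4 s0 s2 s4 τ lam sig κ₁ κ₂ : R) (hl4 : IsUnit l4) (hs4 : IsUnit s4)
    (hlam : IsUnit lam) (hsig : IsUnit sig) (h₁ : s4 ^ 2 * κ₁ ^ 3 = sig ^ 2)
    (h₂ : l4 ^ 2 * κ₂ ^ 3 = lam ^ 2) :
    ∃ φ : MvPowerSeries (Fin 3) R ≃ₐ[R] MvPowerSeries (Fin 3) R,
      φ ((X 2 ^ 2 + C (s0 ^ 2) * X 0 ^ 3 * X 1 ^ 4 + C (s2 ^ 2) * X 0 ^ 3 * X 1 ^ 2 +
          C (s4 ^ 2) * X 0 ^ 3 + C (l0 ^ 2) * X 0 ^ 4 * X 1 ^ 3 + C (l2 ^ 2) * X 0 ^ 2 * X 1 ^ 3 +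
          C (l4 ^ 2) * X 1 ^ 3 + C (τ ^ 2) * X 0 ^ 3 * X 1 ^ 3 : MvPowerSeries (Fin 3) R)) =
        (X 2 ^ 2 + C (sig ^ 2) * X 0 ^ 3 + C (lam ^ 2) * X 1 ^ 3 : MvPowerSeries (Fin 3) R) := by
  -- units
  have hκ₁ : IsUnit κ₁ := by
    have : IsUnit (s4 ^ 2 * κ₁ ^ 3) := by rw [h₁]; exact hsig.pow 2
    exact (isUnit_pow_iff (by norm_num)).1 (isUnit_of_mul_isUnit_right this)
  have hκ₂ : IsUnit κ₂ := by
    have : IsUnit (l4 ^ 2 * κ₂ ^ 3) := by rw [h₂]; exact hlam.pow 2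
    exact (isUnit_pow_iff (by norm_num)).1 (isUnit_of_mul_isUnit_right this)
  obtain ⟨uκ₁, rfl⟩ := hκ₁
  obtain ⟨uκ₂, rfl⟩ := hκ₂
  obtain ⟨ul4, rfl⟩ := hl4
  obtain ⟨us4, rfl⟩ := hs4
  set s4i : R := ((us4⁻¹ : Rˣ) : R) with hs4i
  set l4i : R := ((ul4⁻¹ : Rˣ) : R) with hl4i
  set k1i : R := ((uκ₁⁻¹ : Rˣ) : R) with hk1i
  set k2i : R := ((uκ₂⁻¹ : Rˣ) : R) with hk2i
  have hs4s4i : (us4 : R) * s4i = 1 := by simp [hs4i]
  have hl4l4i : (ul4 : R) * l4i = 1 := by simp [hl4i]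
  have hk1 : (uκ₁ : R) * k1i = 1 := by simp [hk1i]
  have hk2 : (uκ₂ : R) * k2i = 1 := by simp [hk2i]
  -- the series
  set Q1 : MvPowerSeries (Fin 3) R :=
    C s2 ^ 2 * X 1 ^ 2 + C s0 ^ 2 * X 1 ^ 4 + C τ ^ 2 * X 1 ^ 3 + C l0 ^ 2 * X 0 * X 1 ^ 3
    with hQ1
  set v₁ : MvPowerSeries (Fin 3) R := C s4i ^ 2 * Q1 with hv₁
  set v₂ : MvPowerSeries (Fin 3) R := C l4i ^ 2 * C l2 ^ 2 * X 0 ^ 2 with hv₂
  have hv₁0 : constantCoeff v₁ = 0 := by simp [hv₁, hQ1]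
  have hv₂0 : constantCoeff v₂ = 0 := by simp [hv₂]
  obtain ⟨y₁, hy₁0, hy₁⟩ := exists_cube_root v₁ hv₁0
  obtain ⟨y₂, hy₂0, hy₂⟩ := exists_cube_root v₂ hv₂0
  -- the substitution
  set f : Fin 3 → MvPowerSeries (Fin 3) R := ![X 0 * (1 + y₁), X 1 * (1 + y₂), X 2] with hf
  have hf0 : ∀ i, constantCoeff (f i) = 0 := by
    intro i
    fin_cases i <;> simp [hf]
  have hf1 : ∀ i, 2 ≤ (f i - X i).order := by
    intro i
    fin_cases i
    · have : f 0 - X 0 = X 0 * y₁ := by simp [hf]; ring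
      show 2 ≤ (f 0 - X 0).order
      rw [this]
      exact order_X_mul_ge 0 y₁ hy₁0
    · have : f 1 - X 1 = X 1 * y₂ := by simp [hf]; ring
      show 2 ≤ (f 1 - X 1).order
      rw [this]
      exact order_X_mul_ge 1 y₂ hy₂0
    · have : f 2 - X 2 = 0 := by simp [hf]
      show 2 ≤ (f 2 - X 2).order
      rw [this, order_zero]
      exact le_top
  set Φ := substEquiv f hf0 hf1 with hΦ
  have hΦX : ∀ i, Φ (X i) = f i := by
    intro i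
    rw [hΦ, substEquiv_apply, subst_X (hasSubst_of_constantCoeff_zero hf0)]
  have hΦ0 : Φ (X 0) = X 0 * (1 + y₁) := by rw [hΦX 0]; rfl
  have hΦ1 : Φ (X 1) = X 1 * (1 + y₂) := by rw [hΦX 1]; rfl
  have hΦ2 : Φ (X 2) = X 2 := by rw [hΦX 2]; rfl
  set ρ := rescaleEquiv (σ := Fin 3) (R := R) ![uκ₁⁻¹, uκ₂⁻¹, 1] with hρ
  have hρ0 : ρ (X 0) = C k1i * X 0 := by rw [hρ, rescaleEquiv_X]; rfl
  have hρ1 : ρ (X 1) = C k2i * X 1 := by rw [hρ, rescaleEquiv_X]; rfl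
  have hρ2 : ρ (X 2) = X 2 := by rw [hρ, rescaleEquiv_X]; simp
  refine ⟨(ρ.trans Φ).symm, ?_⟩
  rw [AlgEquiv.symm_apply_eq, AlgEquiv.trans_apply]
  simp only [map_add, map_mul, map_pow, equiv_C, hρ0, hρ1, hρ2, hΦ0, hΦ1, hΦ2]
  -- relations among constants
  have e1 : (C sig ^ 2 * C k1i ^ 3 : MvPowerSeries (Fin 3) R) = C (us4 : R) ^ 2 := by
    simp only [← map_pow, ← map_mul]
    congr 1
    calc sig ^ 2 * k1i ^ 3 = (us4 : R) ^ 2 * ((uκ₁ : R) * k1i) ^ 3 := by rw [← h₁]; ring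
      _ = (us4 : R) ^ 2 := by rw [hk1]; ring
  have e2 : (C lam ^ 2 * C k2i ^ 3 : MvPowerSeries (Fin 3) R) = C (ul4 : R) ^ 2 := by
    simp only [← map_pow, ← map_mul]
    congr 1
    calc lam ^ 2 * k2i ^ 3 = (ul4 : R) ^ 2 * ((uκ₂ : R) * k2i) ^ 3 := by rw [← h₂]; ring
      _ = (ul4 : R) ^ 2 := by rw [hk2]; ring
  have e3 : (C (us4 : R) ^ 2 * C s4i ^ 2 : MvPowerSeries (Fin 3) R) = 1 := by
    rw [← mul_pow, ← map_mul, hs4s4i, map_one, one_pow]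
  have e4 : (C (ul4 : R) ^ 2 * C l4i ^ 2 : MvPowerSeries (Fin 3) R) = 1 := by
    rw [← mul_pow, ← map_mul, hl4l4i, map_one, one_pow]
  linear_combination (-(X 0 ^ 3 * (1 + y₁) ^ 3)) * e1 - (X 1 ^ 3 * (1 + y₂) ^ 3) * e2 -
    (C (us4 : R) ^ 2 * X 0 ^ 3) * hy₁ - (C (ul4 : R) ^ 2 * X 1 ^ 3) * hy₂ -
    (X 0 ^ 3 * Q1) * e3 - (C l2 ^ 2 * X 0 ^ 2 * X 1 ^ 3) * e4

end S13127

section Shift

theorem substAlgHom_C {σ τ' : Type*} {a : σ → MvPowerSeries τ' R} (ha : HasSubst a) (r : R) :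
    substAlgHom ha (C r : MvPowerSeries σ R) = C r := by
  have h1 : (C r : MvPowerSeries σ R) = algebraMap R (MvPowerSeries σ R) r := by
    rw [MvPowerSeries.algebraMap_apply]
    rfl
  have h2 : (C r : MvPowerSeries τ' R) = algebraMap R (MvPowerSeries τ' R) r := by
    rw [MvPowerSeries.algebraMap_apply]
    rfl
  rw [h1, AlgHom.commutes, h2]

/-- The shift `X 2 ↦ X 2 + g` where `g` does not involve `X 2`. -/
noncomputable def shiftEquiv (g : MvPowerSeries (Fin 3) R) (hg0 : constantCoeff g = 0)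
    (hfix : ∀ b : Fin 3 → MvPowerSeries (Fin 3) R, (∀ i, constantCoeff (b i) = 0) →
      b 0 = X 0 → b 1 = X 1 → subst b g = g) :
    MvPowerSeries (Fin 3) R ≃ₐ[R] MvPowerSeries (Fin 3) R :=
  have h0p : ∀ i, constantCoeff ((![X 0, X 1, X 2 + g] : Fin 3 → MvPowerSeries (Fin 3) R) i) = 0 := by
    intro i; fin_cases i <;> simp [hg0]
  have h0m : ∀ i, constantCoeff ((![X 0, X 1, X 2 - g] : Fin 3 → MvPowerSeries (Fin 3) R) i) = 0 := by
    intro i; fin_cases i <;> simp [hg0]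
  have hap := hasSubst_of_constantCoeff_zero h0p
  have ham := hasSubst_of_constantCoeff_zero h0m
  AlgEquiv.ofAlgHom (substAlgHom hap) (substAlgHom ham)
    (by
      apply AlgHom.ext
      intro p
      rw [AlgHom.comp_apply, coe_substAlgHom, coe_substAlgHom, subst_comp_subst_apply ham hap]
      have : (fun s => subst (![X 0, X 1, X 2 + g] : Fin 3 → MvPowerSeries (Fin 3) R)
          ((![X 0, X 1, X 2 - g] : Fin 3 → MvPowerSeries (Fin 3) R) s)) = X := by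
        funext s
        fin_cases s
        · simp [subst_X hap]
        · simp [subst_X hap]
        · show subst _ (X 2 - g) = X 2
          rw [subst_sub hap, subst_X hap, hfix _ h0p rfl rfl]
          simp
      rw [this, subst_self]
      rfl)
    (by
      apply AlgHom.ext
      intro p
      rw [AlgHom.comp_apply, coe_substAlgHom, coe_substAlgHom, subst_comp_subst_apply hap ham]
      have : (fun s => subst (![X 0, X 1, X 2 - g] : Fin 3 → MvPowerSeries (Fin 3) R)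
          ((![X 0, X 1, X 2 + g] : Fin 3 → MvPowerSeries (Fin 3) R) s)) = X := by
        funext s
        fin_cases s
        · simp [subst_X ham]
        · simp [subst_X ham]
        · show subst _ (X 2 + g) = X 2
          rw [subst_add ham, subst_X ham, hfix _ h0m rfl rfl]
          simp
      rw [this, subst_self]
      rfl)

theorem shiftEquiv_X (g : MvPowerSeries (Fin 3) R) (hg0 : constantCoeff g = 0)
    (hfix : ∀ b : Fin 3 → MvPowerSeries (Fin 3) R, (∀ i, constantCoeff (b i) = 0) →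
      b 0 = X 0 → b 1 = X 1 → subst b g = g) (i : Fin 3) :
    shiftEquiv g hg0 hfix (X i) = (![X 0, X 1, X 2 + g] : Fin 3 → MvPowerSeries (Fin 3) R) i := by
  simp only [shiftEquiv, AlgEquiv.ofAlgHom_apply]
  rw [substAlgHom_X]

end Shift

section S13128

variable [CharP R 2]

theorem sqrt_of_rel (l0 l2 l4 τ ti α : R) (hτ : τ * ti = 1)
    (hα : l4 ^ 2 * α ^ 4 + l2 ^ 2 * α ^ 2 + τ ^ 2 * α + l0 ^ 2 = 0) :
    α = ((l4 * α ^ 2 + l2 * α + l0) * ti) ^ 2 := by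
  have h2 : (2 : R) = 0 := CharTwo.two_eq_zero
  linear_combination (-(ti ^ 2)) * hα -
    (ti ^ 2 * (l4 * α ^ 2 * (l2 * α) + l4 * α ^ 2 * l0 + l2 * α * l0) - α) * h2 +
    α * (τ * ti + 1) * hτ

theorem main2 (l0 l2 l4 s0 s2 s4 τ α β : R) (hτ : IsUnit τ)
    (hα : l4 ^ 2 * α ^ 4 + l2 ^ 2 * α ^ 2 + τ ^ 2 * α + l0 ^ 2 = 0)
    (hβ : s4 ^ 2 * β ^ 4 + s2 ^ 2 * β ^ 2 + τ ^ 2 * β + s0 ^ 2 = 0) :
    ∃ φ : MvPowerSeries (Fin 3) R ≃ₐ[R] MvPowerSeries (Fin 3) R,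
      φ ((X 2 ^ 2 + C (τ ^ 2) * X 0 * X 1 + (C (s4 ^ 2) * X 1 ^ 4 + C (s2 ^ 2) * X 1 ^ 2) * X 0 +
          (C (l4 ^ 2) * X 0 ^ 4 + C (l2 ^ 2) * X 0 ^ 2) * X 1 + C (l4 ^ 2 * β) * X 0 ^ 4 +
          C (l2 ^ 2 * β) * X 0 ^ 2 + C (s4 ^ 2 * α) * X 1 ^ 4 + C (s2 ^ 2 * α) * X 1 ^ 2 :
          MvPowerSeries (Fin 3) R)) =
        (X 2 ^ 2 + X 0 * X 1 : MvPowerSeries (Fin 3) R) := by
  obtain ⟨uτ, rfl⟩ := hτ
  set ti : R := ((uτ⁻¹ : Rˣ) : R) with hti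
  have hτti : (uτ : R) * ti = 1 := by simp [hti]
  set α' : R := (l4 * α ^ 2 + l2 * α + l0) * ti with hα'
  set β' : R := (s4 * β ^ 2 + s2 * β + s0) * ti with hβ'
  have eα : α = α' ^ 2 := sqrt_of_rel l0 l2 l4 uτ ti α hτti hα
  have eβ : β = β' ^ 2 := sqrt_of_rel s0 s2 s4 uτ ti β hτti hβ
  -- the shift
  set g : MvPowerSeries (Fin 3) R :=
    C l4 * C β' * X 0 ^ 2 + C l2 * C β' * X 0 + C s4 * C α' * X 1 ^ 2 + C s2 * C α' * X 1 with hg
  have hg0 : constantCoeff g = 0 := by simp [hg]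
  have hfix : ∀ b : Fin 3 → MvPowerSeries (Fin 3) R, (∀ i, constantCoeff (b i) = 0) →
      b 0 = X 0 → b 1 = X 1 → subst b g = g := by
    intro b hb0 h0 h1
    have hb := hasSubst_of_constantCoeff_zero hb0
    rw [← coe_substAlgHom hb, hg]
    simp only [map_add, map_mul, map_pow, substAlgHom_C, substAlgHom_X, h0, h1]
  set Sg := shiftEquiv g hg0 hfix with hSg
  have hS0 : Sg (X 0) = X 0 := by rw [hSg, shiftEquiv_X]; rfl
  have hS1 : Sg (X 1) = X 1 := by rw [hSg, shiftEquiv_X]; rfl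
  have hS2 : Sg (X 2) = X 2 + g := by rw [hSg, shiftEquiv_X]; rfl
  -- the substitution with identity linear part
  set w : MvPowerSeries (Fin 3) R :=
    C ti ^ 2 * (C s4 ^ 2 * X 1 ^ 3 + C s2 ^ 2 * X 1 + C l4 ^ 2 * X 0 ^ 3 + C l2 ^ 2 * X 0) with hw
  have hw0 : constantCoeff w = 0 := by simp [hw]
  set f : Fin 3 → MvPowerSeries (Fin 3) R := ![X 0 * (1 + w), X 1, X 2] with hf
  have hf0 : ∀ i, constantCoeff (f i) = 0 := by
    intro i
    fin_cases i <;> simp [hf]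
  have hf1 : ∀ i, 2 ≤ (f i - X i).order := by
    intro i
    fin_cases i
    · have : f 0 - X 0 = X 0 * w := by simp [hf]; ring
      show 2 ≤ (f 0 - X 0).order
      rw [this]
      exact order_X_mul_ge 0 w hw0
    · have : f 1 - X 1 = 0 := by simp [hf]
      show 2 ≤ (f 1 - X 1).order
      rw [this, order_zero]
      exact le_top
    · have : f 2 - X 2 = 0 := by simp [hf]
      show 2 ≤ (f 2 - X 2).order
      rw [this, order_zero]
      exact le_top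
  set Φ := substEquiv f hf0 hf1 with hΦ
  have hΦX : ∀ i, Φ (X i) = f i := by
    intro i
    rw [hΦ, substEquiv_apply, subst_X (hasSubst_of_constantCoeff_zero hf0)]
  have hΦ0 : Φ (X 0) = X 0 * (1 + w) := by rw [hΦX 0]; rfl
  have hΦ1 : Φ (X 1) = X 1 := by rw [hΦX 1]; rfl
  have hΦ2 : Φ (X 2) = X 2 := by rw [hΦX 2]; rfl
  set ρ := rescaleEquiv (σ := Fin 3) (R := R) ![uτ ^ 2, 1, 1] with hρ
  have hρ0 : ρ (X 0) = C (uτ : R) ^ 2 * X 0 := by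
    rw [hρ, rescaleEquiv_X]
    simp
  have hρ1 : ρ (X 1) = X 1 := by rw [hρ, rescaleEquiv_X]; simp
  have hρ2 : ρ (X 2) = X 2 := by rw [hρ, rescaleEquiv_X]; simp
  have hSw : Sg w = w := by
    rw [hw]
    simp only [map_add, map_mul, map_pow, equiv_C, hS0, hS1]
  refine ⟨(ρ.trans (Φ.trans Sg)).symm, ?_⟩
  rw [AlgEquiv.symm_apply_eq, AlgEquiv.trans_apply, AlgEquiv.trans_apply]
  simp only [map_add, map_mul, map_pow, map_one, equiv_C, hρ0, hρ1, hρ2, hΦ0, hΦ1, hΦ2,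
    hS0, hS1, hS2, hSw]
  have h2 : (2 : MvPowerSeries (Fin 3) R) = 0 := two_eq_zero
  have eτ : (C (uτ : R) ^ 2 * C ti ^ 2 : MvPowerSeries (Fin 3) R) = 1 := by
    rw [← mul_pow, ← map_mul, hτti, map_one, one_pow]
  have eα' : (C α : MvPowerSeries (Fin 3) R) = C α' ^ 2 := by rw [← map_pow, ← eα]
  have eβ' : (C β : MvPowerSeries (Fin 3) R) = C β' ^ 2 := by rw [← map_pow, ← eβ]
  rw [hg, hw]
  linear_combination (C l4 ^ 2 * X 0 ^ 4 + C l2 ^ 2 * X 0 ^ 2) * eβ' +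
    (C s4 ^ 2 * X 1 ^ 4 + C s2 ^ 2 * X 1 ^ 2) * eα' -
    (X 0 * X 1 * (C s4 ^ 2 * X 1 ^ 3 + C s2 ^ 2 * X 1 + C l4 ^ 2 * X 0 ^ 3 + C l2 ^ 2 * X 0)) * eτ -
    (X 2 * (C l4 * C β' * X 0 ^ 2 + C l2 * C β' * X 0 + C s4 * C α' * X 1 ^ 2 + C s2 * C α' * X 1) +
      (C l4 * C β' * X 0 ^ 2) * (C l2 * C β' * X 0) +
      (C l4 * C β' * X 0 ^ 2) * (C s4 * C α' * X 1 ^ 2) +
      (C l4 * C β' * X 0 ^ 2) * (C s2 * C α' * X 1) +
      (C l2 * C β' * X 0) * (C s4 * C α' * X 1 ^ 2) +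
      (C l2 * C β' * X 0) * (C s2 * C α' * X 1) +
      (C s4 * C α' * X 1 ^ 2) * (C s2 * C α' * X 1)) * h2

end S13128

end Groth.Agent.Lib.Helper24CuspAut
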