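import Mathlib
import Groth.Prelude.Def_W4c3biextchowCx

set_option autoImplicit false

open CategoryTheory

namespace Groth.Agent.Lib.Helper24CxGroupoid

open W4c3biextchow

universe v u
variable {R : Type u} [Ring R] {C D : ChainComplex (ModuleCat.{v} R) ℕ}

theorem homotopy_zero {φ ψ : C ⟶ D} (K : Homotopy φ ψ) (a : C.X 0) :
    (φ.f 0).hom a = (D.d 1 0).hom ((K.hom 0 1).hom a) + (ψ.f 0).hom a := by
  have h := K.comm 0
  rw [Homotopy.dNext_zero_chainComplex, Homotopy.prevD_chainComplex, zero_add] at h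
  have h2 := congrArg (fun m : C.X 0 ⟶ D.X 0 => m.hom a) h
  simpa using h2

theorem homotopy_one {φ ψ : C ⟶ D} (K : Homotopy φ ψ) (x : C.X 1) :
    (φ.f 1).hom x = (K.hom 0 1).hom ((C.d 1 0).hom x) + (D.d 2 1).hom ((K.hom 1 2).hom x) +
      (ψ.f 1).hom x := by
  have h := K.comm 1
  rw [Homotopy.dNext_succ_chainComplex, Homotopy.prevD_chainComplex] at h
  have h2 := congrArg (fun m : C.X 1 ⟶ D.X 1 => m.hom x) h
  simpa using h2

/-- The component of the natural isomorphism attached to a homotopy. -/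
def homotopyApp {φ ψ : C ⟶ D} (K : Homotopy φ ψ) (a : Obj C) :
    (cxFunctor φ).obj a ⟶ (cxFunctor ψ).obj a :=
  (⟨Submodule.Quotient.mk (-(K.hom 0 1).hom a.pt), by
    rw [delta_mk, map_neg, cxFunctor_obj_pt, cxFunctor_obj_pt, homotopy_zero K a.pt]; abel⟩ :
      Hom D _ _)

def homotopyAppInv {φ ψ : C ⟶ D} (K : Homotopy φ ψ) (a : Obj C) :
    (cxFunctor ψ).obj a ⟶ (cxFunctor φ).obj a :=
  (⟨Submodule.Quotient.mk ((K.hom 0 1).hom a.pt), by
    rw [delta_mk, cxFunctor_obj_pt, cxFunctor_obj_pt, homotopy_zero K a.pt]; abel⟩ :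
      Hom D _ _)

theorem exists_natIso_of_homotopy {φ ψ : C ⟶ D} (K : Homotopy φ ψ) :
    ∃ N : cxFunctor φ ≅ cxFunctor ψ, ∀ a : Obj C,
      (N.hom.app a : Hom D _ _).cl = Submodule.Quotient.mk (-(K.hom 0 1).hom a.pt) := by
  refine ⟨NatIso.ofComponents (fun a => ⟨homotopyApp K a, homotopyAppInv K a, ?_, ?_⟩) ?_, ?_⟩
  · apply Hom.ext
    show Submodule.Quotient.mk (-(K.hom 0 1).hom a.pt) + Submodule.Quotient.mk ((K.hom 0 1).hom a.pt)
      = (0 : Q1 D)
    rw [← Submodule.Quotient.mk_add, neg_add_cancel, Submodule.Quotient.mk_zero]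
  · apply Hom.ext
    show Submodule.Quotient.mk ((K.hom 0 1).hom a.pt) + Submodule.Quotient.mk (-(K.hom 0 1).hom a.pt)
      = (0 : Q1 D)
    rw [← Submodule.Quotient.mk_add, add_neg_cancel, Submodule.Quotient.mk_zero]
  · intro a b x
    apply Hom.ext
    show q1Map φ (x : Hom C a b).cl + Submodule.Quotient.mk (-(K.hom 0 1).hom b.pt) =
      Submodule.Quotient.mk (-(K.hom 0 1).hom a.pt) + q1Map ψ (x : Hom C a b).cl
    have hx := (x : Hom C a b).delta_cl
    revert hx
    generalize (x : Hom C a b).cl = c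
    induction c using Submodule.Quotient.induction_on with
    | H y =>
      intro hy
      rw [delta_mk] at hy
      rw [q1Map_mk, q1Map_mk, ← Submodule.Quotient.mk_add, ← Submodule.Quotient.mk_add,
        Submodule.Quotient.eq]
      refine ⟨(K.hom 1 2).hom y, ?_⟩
      rw [homotopy_one K y, hy, map_sub]
      abel
  · intro a
    rfl

end Groth.Agent.Lib.Helper24CxGroupoid
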