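import Mathlib
import Groth.Prelude.Def_W4c3biextchowCx

set_option autoImplicit false

open CategoryTheory

namespace Groth.Agent.Lib.Helper24CxHomology

universe v u
variable {R : Type u} [Ring R]

section ShortComplex

variable {S₁ S₂ : ShortComplex (ModuleCat.{v} R)} (φ : S₁ ⟶ S₂)

theorem mono_conj_iff {A B C D : ModuleCat.{v} R} (a : A ≅ B) (b : B ⟶ C) (c : C ≅ D) :
    Mono (a.hom ≫ b ≫ c.hom) ↔ Mono b := by
  constructor
  · intro h
    have : b = a.inv ≫ (a.hom ≫ b ≫ c.hom) ≫ c.inv := by simp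
    rw [this]
    infer_instance
  · intro h
    infer_instance

theorem epi_conj_iff {A B C D : ModuleCat.{v} R} (a : A ≅ B) (b : B ⟶ C) (c : C ≅ D) :
    Epi (a.hom ≫ b ≫ c.hom) ↔ Epi b := by
  constructor
  · intro h
    have : b = a.inv ≫ (a.hom ≫ b ≫ c.hom) ≫ c.inv := by simp
    rw [this]
    infer_instance
  · intro h
    infer_instance

/-- The induced map on cycles, as a linear map of kernels. -/
noncomputable def cycMap : LinearMap.ker S₁.g.hom →ₗ[R] LinearMap.ker S₂.g.hom :=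
  (ShortComplex.leftHomologyMapData φ S₁.moduleCatLeftHomologyData
    S₂.moduleCatLeftHomologyData).φK.hom

/-- The induced map on homology, as a linear map of explicit quotients. -/
noncomputable def homMap : (LinearMap.ker S₁.g.hom ⧸ LinearMap.range S₁.moduleCatToCycles) →ₗ[R]
    (LinearMap.ker S₂.g.hom ⧸ LinearMap.range S₂.moduleCatToCycles) :=
  (ShortComplex.leftHomologyMapData φ S₁.moduleCatLeftHomologyData
    S₂.moduleCatLeftHomologyData).φH.hom

theorem cycMap_val (x : LinearMap.ker S₁.g.hom) : ((cycMap φ x : LinearMap.ker S₂.g.hom) : S₂.X₂) =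
    φ.τ₂.hom x.1 := by
  have := congrArg (fun m => m.hom x) (ShortComplex.leftHomologyMapData φ
    S₁.moduleCatLeftHomologyData S₂.moduleCatLeftHomologyData).commi
  simp only [ModuleCat.hom_comp, LinearMap.comp_apply] at this
  exact this

theorem homMap_mk (x : LinearMap.ker S₁.g.hom) :
    homMap φ ((LinearMap.range S₁.moduleCatToCycles).mkQ x) =
      (LinearMap.range S₂.moduleCatToCycles).mkQ (cycMap φ x) := by
  have := congrArg (fun m => m.hom x) (ShortComplex.leftHomologyMapData φ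
    S₁.moduleCatLeftHomologyData S₂.moduleCatLeftHomologyData).commπ
  simp only [ModuleCat.hom_comp, LinearMap.comp_apply] at this
  exact this

theorem mono_homologyMap_iff_injective :
    Mono (ShortComplex.homologyMap φ) ↔ Function.Injective (homMap φ) := by
  rw [(ShortComplex.leftHomologyMapData φ S₁.moduleCatLeftHomologyData
    S₂.moduleCatLeftHomologyData).homologyMap_eq]
  rw [show S₂.moduleCatLeftHomologyData.homologyIso.inv =
    S₂.moduleCatLeftHomologyData.homologyIso.symm.hom from rfl, mono_conj_iff,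
    ModuleCat.mono_iff_injective]
  rfl

theorem epi_homologyMap_iff_surjective :
    Epi (ShortComplex.homologyMap φ) ↔ Function.Surjective (homMap φ) := by
  rw [(ShortComplex.leftHomologyMapData φ S₁.moduleCatLeftHomologyData
    S₂.moduleCatLeftHomologyData).homologyMap_eq]
  rw [show S₂.moduleCatLeftHomologyData.homologyIso.inv =
    S₂.moduleCatLeftHomologyData.homologyIso.symm.hom from rfl, epi_conj_iff,
    ModuleCat.epi_iff_surjective]
  rfl

theorem mono_homologyMap_iff :
    Mono (ShortComplex.homologyMap φ) ↔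
      ∀ x : S₁.X₂, S₁.g.hom x = 0 → (∃ y : S₂.X₁, S₂.f.hom y = φ.τ₂.hom x) →
        ∃ z : S₁.X₁, S₁.f.hom z = x := by
  rw [mono_homologyMap_iff_injective, injective_iff_map_eq_zero]
  constructor
  · intro h x hx ⟨y, hy⟩
    have h1 := h ((LinearMap.range S₁.moduleCatToCycles).mkQ ⟨x, hx⟩) (by
      rw [homMap_mk]
      apply (Submodule.Quotient.mk_eq_zero (LinearMap.range S₂.moduleCatToCycles)).2
      refine ⟨y, Subtype.ext ?_⟩
      rw [cycMap_val]
      exact hy)
    obtain ⟨z, hz⟩ := (Submodule.Quotient.mk_eq_zero (LinearMap.range S₁.moduleCatToCycles)).1 h1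
    exact ⟨z, congrArg Subtype.val hz⟩
  · intro h w hw
    obtain ⟨x, rfl⟩ := Submodule.mkQ_surjective _ w
    rw [homMap_mk] at hw
    obtain ⟨y, hy⟩ := (Submodule.Quotient.mk_eq_zero (LinearMap.range S₂.moduleCatToCycles)).1 hw
    have hy' := congrArg Subtype.val hy
    rw [cycMap_val] at hy'
    obtain ⟨z, hz⟩ := h x.1 x.2 ⟨y, hy'⟩
    apply (Submodule.Quotient.mk_eq_zero (LinearMap.range S₁.moduleCatToCycles)).2
    exact ⟨z, Subtype.ext hz⟩

theorem epi_homologyMap_iff :
    Epi (ShortComplex.homologyMap φ) ↔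
      ∀ y : S₂.X₂, S₂.g.hom y = 0 →
        ∃ x : S₁.X₂, S₁.g.hom x = 0 ∧ ∃ z : S₂.X₁, S₂.f.hom z = φ.τ₂.hom x - y := by
  rw [epi_homologyMap_iff_surjective]
  constructor
  · intro h y hy
    obtain ⟨w, hw⟩ := h ((LinearMap.range S₂.moduleCatToCycles).mkQ ⟨y, hy⟩)
    obtain ⟨x, rfl⟩ := Submodule.mkQ_surjective _ w
    rw [homMap_mk] at hw
    obtain ⟨z, hz⟩ := (Submodule.Quotient.eq (LinearMap.range S₂.moduleCatToCycles)).1 hw
    refine ⟨x.1, x.2, z, ?_⟩
    have hz' := congrArg Subtype.val hz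
    rw [Submodule.coe_sub, cycMap_val] at hz'
    exact hz'
  · intro h w
    obtain ⟨y, rfl⟩ := Submodule.mkQ_surjective _ w
    obtain ⟨x, hx, z, hz⟩ := h y.1 y.2
    refine ⟨(LinearMap.range S₁.moduleCatToCycles).mkQ ⟨x, hx⟩, ?_⟩
    rw [homMap_mk]
    apply (Submodule.Quotient.eq (LinearMap.range S₂.moduleCatToCycles)).2
    refine ⟨z, Subtype.ext ?_⟩
    rw [Submodule.coe_sub, cycMap_val]
    exact hz

end ShortComplex

section Chain

variable {C D : ChainComplex (ModuleCat.{v} R) ℕ} (f : C ⟶ D)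

theorem mono_homologyMap_one_iff :
    Mono (HomologicalComplex.homologyMap f 1) ↔
      ∀ x : C.X 1, (C.d 1 0).hom x = 0 → (∃ y : D.X 2, (D.d 2 1).hom y = (f.f 1).hom x) →
        ∃ z : C.X 2, (C.d 2 1).hom z = x := by
  refine Iff.trans (mono_homologyMap_iff
    ((HomologicalComplex.shortComplexFunctor (ModuleCat.{v} R) (ComplexShape.down ℕ) 1).map f)) ?_
  show (∀ x : C.X 1, (C.d 1 ((ComplexShape.down ℕ).next 1)).hom x = 0 →
    (∃ y : D.X ((ComplexShape.down ℕ).prev 1),
      (D.d ((ComplexShape.down ℕ).prev 1) 1).hom y = (f.f 1).hom x) →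
      ∃ z : C.X ((ComplexShape.down ℕ).prev 1),
        (C.d ((ComplexShape.down ℕ).prev 1) 1).hom z = x) ↔ _
  have hn : (ComplexShape.down ℕ).next 1 = 0 := by simp
  have hp : (ComplexShape.down ℕ).prev 1 = 2 := by simp
  generalize (ComplexShape.down ℕ).next 1 = j at hn
  generalize (ComplexShape.down ℕ).prev 1 = i at hp
  subst hn hp
  rfl

theorem epi_homologyMap_one_iff :
    Epi (HomologicalComplex.homologyMap f 1) ↔
      ∀ y : D.X 1, (D.d 1 0).hom y = 0 →
        ∃ x : C.X 1, (C.d 1 0).hom x = 0 ∧ ∃ z : D.X 2, (D.d 2 1).hom z = (f.f 1).hom x - y := by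
  refine Iff.trans (epi_homologyMap_iff
    ((HomologicalComplex.shortComplexFunctor (ModuleCat.{v} R) (ComplexShape.down ℕ) 1).map f)) ?_
  show (∀ y : D.X 1, (D.d 1 ((ComplexShape.down ℕ).next 1)).hom y = 0 →
    ∃ x : C.X 1, (C.d 1 ((ComplexShape.down ℕ).next 1)).hom x = 0 ∧
      ∃ z : D.X ((ComplexShape.down ℕ).prev 1),
        (D.d ((ComplexShape.down ℕ).prev 1) 1).hom z = (f.f 1).hom x - y) ↔ _
  have hn : (ComplexShape.down ℕ).next 1 = 0 := by simp
  have hp : (ComplexShape.down ℕ).prev 1 = 2 := by simp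
  generalize (ComplexShape.down ℕ).next 1 = j at hn
  generalize (ComplexShape.down ℕ).prev 1 = i at hp
  subst hn hp
  rfl

theorem mono_homologyMap_zero_iff :
    Mono (HomologicalComplex.homologyMap f 0) ↔
      ∀ a : C.X 0, (∃ y : D.X 1, (D.d 1 0).hom y = (f.f 0).hom a) →
        ∃ z : C.X 1, (C.d 1 0).hom z = a := by
  refine Iff.trans (mono_homologyMap_iff
    ((HomologicalComplex.shortComplexFunctor (ModuleCat.{v} R) (ComplexShape.down ℕ) 0).map f)) ?_
  show (∀ x : C.X 0, (C.d 0 ((ComplexShape.down ℕ).next 0)).hom x = 0 →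
    (∃ y : D.X ((ComplexShape.down ℕ).prev 0),
      (D.d ((ComplexShape.down ℕ).prev 0) 0).hom y = (f.f 0).hom x) →
      ∃ z : C.X ((ComplexShape.down ℕ).prev 0),
        (C.d ((ComplexShape.down ℕ).prev 0) 0).hom z = x) ↔ _
  have hn : (ComplexShape.down ℕ).next 0 = 0 := by simp
  have hp : (ComplexShape.down ℕ).prev 0 = 1 := by simp
  generalize (ComplexShape.down ℕ).next 0 = j at hn
  generalize (ComplexShape.down ℕ).prev 0 = i at hp
  subst hn hp
  have h0 : C.d 0 0 = 0 := C.shape 0 0 (by simp)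
  constructor
  · intro h a ha
    exact h a (by rw [h0]; rfl) ha
  · intro h a _ ha
    exact h a ha

theorem epi_homologyMap_zero_iff :
    Epi (HomologicalComplex.homologyMap f 0) ↔
      ∀ b : D.X 0, ∃ a : C.X 0, ∃ z : D.X 1, (D.d 1 0).hom z = (f.f 0).hom a - b := by
  refine Iff.trans (epi_homologyMap_iff
    ((HomologicalComplex.shortComplexFunctor (ModuleCat.{v} R) (ComplexShape.down ℕ) 0).map f)) ?_
  show (∀ y : D.X 0, (D.d 0 ((ComplexShape.down ℕ).next 0)).hom y = 0 →
    ∃ x : C.X 0, (C.d 0 ((ComplexShape.down ℕ).next 0)).hom x = 0 ∧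
      ∃ z : D.X ((ComplexShape.down ℕ).prev 0),
        (D.d ((ComplexShape.down ℕ).prev 0) 0).hom z = (f.f 0).hom x - y) ↔ _
  have hn : (ComplexShape.down ℕ).next 0 = 0 := by simp
  have hp : (ComplexShape.down ℕ).prev 0 = 1 := by simp
  generalize (ComplexShape.down ℕ).next 0 = j at hn
  generalize (ComplexShape.down ℕ).prev 0 = i at hp
  subst hn hp
  have h0 : C.d 0 0 = 0 := C.shape 0 0 (by simp)
  have h0' : D.d 0 0 = 0 := D.shape 0 0 (by simp)
  constructor
  · intro h b
    obtain ⟨a, -, z, hz⟩ := h b (by rw [h0']; rfl)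
    exact ⟨a, z, hz⟩
  · intro h b _
    obtain ⟨a, z, hz⟩ := h b
    exact ⟨a, by rw [h0]; rfl, z, hz⟩

end Chain

end Groth.Agent.Lib.Helper24CxHomology
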