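import Mathlib
import Groth.Prelude.Def_W4c3biextchowCx
import Groth.Agent.Lib.Helper24CxHomology

set_option autoImplicit false

open CategoryTheory

namespace Groth.Agent.Lib.Helper24CxHomology

open W4c3biextchow

universe v u
variable {R : Type u} [Ring R] {C D : ChainComplex (ModuleCat.{v} R) ℕ} (f : C ⟶ D)

/-- Constructor for morphisms of the groupoid from a degree-1 element. -/
def mkHom (a b : Obj C) (x : C.X 1) (hx : (C.d 1 0).hom x = b.pt - a.pt) : a ⟶ b :=
  (⟨Submodule.Quotient.mk x, by rw [delta_mk, hx]⟩ : Hom C a b)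

@[simp] theorem mkHom_cl (a b : Obj C) (x : C.X 1) (hx : (C.d 1 0).hom x = b.pt - a.pt) :
    (mkHom a b x hx : Hom C a b).cl = Submodule.Quotient.mk x := rfl

theorem exists_rep {a b : Obj C} (φ : a ⟶ b) :
    ∃ x : C.X 1, (C.d 1 0).hom x = b.pt - a.pt ∧ (φ : Hom C a b).cl = Submodule.Quotient.mk x := by
  obtain ⟨x, hx⟩ := Submodule.mkQ_surjective _ (φ : Hom C a b).cl
  refine ⟨x, ?_, hx.symm⟩
  have := (φ : Hom C a b).delta_cl
  rw [← hx] at this
  simpa using this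

theorem faithful_iff : (cxFunctor f).Faithful ↔ Mono (HomologicalComplex.homologyMap f 1) := by
  rw [mono_homologyMap_one_iff]
  constructor
  · intro hF x hx ⟨y, hy⟩
    let a : Obj C := ⟨0⟩
    let φ : a ⟶ a := mkHom a a x (by rw [hx]; simp)
    have h : (cxFunctor f).map φ = (cxFunctor f).map (𝟙 a) := by
      apply Hom.ext
      rw [cxFunctor_map_cl, cxFunctor_map_cl, id_cl, map_zero, mkHom_cl, q1Map_mk,
        Submodule.Quotient.mk_eq_zero]
      exact ⟨y, hy⟩
    have h2 := hF.map_injective h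
    have h3 : Submodule.Quotient.mk x = (0 : Q1 C) := congrArg Hom.cl h2
    exact (Submodule.Quotient.mk_eq_zero _).1 h3
  · intro h
    refine ⟨fun {a b} φ ψ hφψ => ?_⟩
    apply Hom.ext
    have h1 : q1Map f (φ : Hom C a b).cl = q1Map f (ψ : Hom C a b).cl := congrArg Hom.cl hφψ
    obtain ⟨x, hx, hxc⟩ := exists_rep φ
    obtain ⟨x', hx', hxc'⟩ := exists_rep ψ
    rw [hxc, hxc'] at h1 ⊢
    rw [q1Map_mk, q1Map_mk, Submodule.Quotient.eq] at h1
    obtain ⟨y, hy⟩ := h1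
    rw [← map_sub] at hy
    obtain ⟨z, hz⟩ := h (x - x') (by rw [map_sub, hx, hx', sub_self]) ⟨y, hy⟩
    rw [Submodule.Quotient.eq]
    exact ⟨z, hz⟩

theorem full_iff : (cxFunctor f).Full ↔
    Epi (HomologicalComplex.homologyMap f 1) ∧ Mono (HomologicalComplex.homologyMap f 0) := by
  rw [epi_homologyMap_one_iff, mono_homologyMap_zero_iff]
  constructor
  · intro hF
    constructor
    · intro y hy
      let a : Obj C := ⟨0⟩
      let g : (cxFunctor f).obj a ⟶ (cxFunctor f).obj a := mkHom _ _ y (by rw [hy]; simp)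
      obtain ⟨φ, hφ⟩ := hF.map_surjective g
      obtain ⟨x, hx, hxc⟩ := exists_rep φ
      have h1 : q1Map f (φ : Hom C a a).cl = Submodule.Quotient.mk y := congrArg Hom.cl hφ
      rw [hxc, q1Map_mk, Submodule.Quotient.eq] at h1
      obtain ⟨z, hz⟩ := h1
      exact ⟨x, by rw [hx]; simp, z, hz⟩
    · intro c ⟨y, hy⟩
      let a : Obj C := ⟨0⟩
      let b : Obj C := ⟨c⟩
      let g : (cxFunctor f).obj a ⟶ (cxFunctor f).obj b := mkHom _ _ y (by
        rw [hy, cxFunctor_obj_pt, cxFunctor_obj_pt]; simp [a, b])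
      obtain ⟨φ, -⟩ := hF.map_surjective g
      obtain ⟨x, hx, -⟩ := exists_rep φ
      exact ⟨x, by rw [hx]; simp [a, b]⟩
  · rintro ⟨h1, h0⟩
    refine ⟨fun {a b} g => ?_⟩
    obtain ⟨y, hy, hyc⟩ := exists_rep g
    rw [cxFunctor_obj_pt, cxFunctor_obj_pt, ← map_sub] at hy
    obtain ⟨x, hx⟩ := h0 (b.pt - a.pt) ⟨y, hy⟩
    obtain ⟨x', hx', z, hz⟩ := h1 (y - (f.f 1).hom x) (by
      rw [map_sub, hy]
      have := congrArg (fun m => m.hom x) (f.comm 1 0)
      simp only [ModuleCat.hom_comp, LinearMap.comp_apply] at this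
      rw [this, hx, sub_self])
    refine ⟨mkHom a b (x + x') (by rw [map_add, hx, hx', add_zero]), ?_⟩
    apply Hom.ext
    rw [cxFunctor_map_cl, mkHom_cl, q1Map_mk, hyc, Submodule.Quotient.eq]
    refine ⟨z, ?_⟩
    rw [hz, map_add]
    abel

theorem essSurj_iff : (cxFunctor f).EssSurj ↔ Epi (HomologicalComplex.homologyMap f 0) := by
  rw [epi_homologyMap_zero_iff]
  constructor
  · intro hF b
    obtain ⟨a, ⟨e⟩⟩ := hF.mem_essImage (⟨b⟩ : Obj D)
    obtain ⟨y, hy, -⟩ := exists_rep e.inv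
    exact ⟨a.pt, y, by rw [hy, cxFunctor_obj_pt]⟩
  · intro h
    refine ⟨fun b => ?_⟩
    obtain ⟨a, y, hy⟩ := h b.pt
    refine ⟨⟨a⟩, ⟨⟨mkHom _ _ (-y) (by rw [map_neg, hy, cxFunctor_obj_pt]; abel),
      mkHom _ _ y (by rw [hy, cxFunctor_obj_pt]), ?_, ?_⟩⟩⟩
    · apply Hom.ext
      rw [comp_cl, mkHom_cl, mkHom_cl, id_cl, ← Submodule.Quotient.mk_add, neg_add_cancel,
        Submodule.Quotient.mk_zero]
    · apply Hom.ext
      rw [comp_cl, mkHom_cl, mkHom_cl, id_cl, ← Submodule.Quotient.mk_add, add_neg_cancel,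
        Submodule.Quotient.mk_zero]

end Groth.Agent.Lib.Helper24CxHomology
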