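import Mathlib
import Groth.Prelude.Def_W4c3severiratdpLat

/-!
# Counting conic classes in the Picard lattice of a del Pezzo surface

Kernel-decidable counting of integer solutions of `∑ b_i = s`, `∑ b_i^2 = t` with
Cauchy–Schwarz pruning.
-/

set_option autoImplicit false

namespace Groth.Agent.Lib.Helper24DPConic

open W4c3severiratdp

/-- Candidate coordinates `-11, …, 11`. -/
def rng : List ℤ := (List.range 23).map fun i : ℕ => (i : ℤ) - 11

theorem mem_rng {b : ℤ} : b ∈ rng ↔ -11 ≤ b ∧ b ≤ 11 := by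
  rw [rng, List.mem_map]
  constructor
  · rintro ⟨i, hi, rfl⟩
    rw [List.mem_range] at hi
    omega
  · rintro ⟨h1, h2⟩
    exact ⟨(b + 11).toNat, by rw [List.mem_range]; omega, by omega⟩

theorem rng_nodup : rng.Nodup := by decide

/-- The number of `b : Fin d → ℤ` with `∑ b = s` and `∑ b^2 = t` (for `t ≤ 121`). -/
def cnt : ℕ → ℤ → ℤ → ℕ
  | 0, s, t => if s = 0 ∧ t = 0 then 1 else 0
  | d + 1, s, t =>
    (rng.map fun b =>
      if b * b ≤ t ∧ (s - b) * (s - b) ≤ (d : ℤ) * (t - b * b) then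
        cnt d (s - b) (t - b * b) else 0).sum

theorem cs_bound {d : ℕ} (y : Fin d → ℤ) :
    (∑ i, y i) * (∑ i, y i) ≤ (d : ℤ) * ∑ i, y i * y i := by
  have := sq_sum_le_card_mul_sum_sq (s := (Finset.univ : Finset (Fin d))) (f := y)
  simpa [pow_two] using this

theorem exists_finset (d : ℕ) : ∀ s t : ℤ, ∃ F : Finset (Fin d → ℤ), t ≤ 121 →
    (∀ x, x ∈ F ↔ (∑ i, x i = s ∧ ∑ i, x i * x i = t)) ∧ F.card = cnt d s t := by
  induction d with
  | zero =>
    intro s t
    by_cases h : s = 0 ∧ t = 0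
    · refine ⟨Finset.univ, fun _ => ⟨fun x => ?_, ?_⟩⟩
      · constructor
        · intro _
          exact ⟨by simp [h.1], by simp [h.2]⟩
        · intro _
          exact Finset.mem_univ _
      · simp [cnt, h]
    · refine ⟨∅, fun _ => ⟨fun x => ?_, ?_⟩⟩
      · simp only [Finset.univ_eq_empty, Finset.sum_empty, Finset.notMem_empty, false_iff]
        rintro ⟨h1, h2⟩
        exact h ⟨h1.symm, h2.symm⟩
      · simp [cnt, h]
  | succ d ih =>
    intro s t
    by_cases ht : t ≤ 121
    swap
    · exact ⟨∅, fun h => absurd h ht⟩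
    choose F hF using ih
    set G : ℤ → Finset (Fin (d + 1) → ℤ) := fun b =>
      if b * b ≤ t ∧ (s - b) * (s - b) ≤ (d : ℤ) * (t - b * b) then
        (F (s - b) (t - b * b)).map ⟨Fin.cons b, Fin.cons_right_injective (α := fun _ => ℤ) b⟩ else ∅ with hG
    have hGmem : ∀ b x, x ∈ G b → x 0 = b := by
      intro b x hx
      simp only [hG] at hx
      split_ifs at hx with hc
      · rw [Finset.mem_map] at hx
        obtain ⟨y, -, rfl⟩ := hx
        simp
      · simp at hx
    refine ⟨rng.toFinset.biUnion G, fun _ => ⟨fun x => ?_, ?_⟩⟩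
    · rw [Finset.mem_biUnion]
      constructor
      · rintro ⟨b, -, hx⟩
        simp only [hG] at hx
        split_ifs at hx with hc
        · rw [Finset.mem_map] at hx
          obtain ⟨y, hy, rfl⟩ := hx
          have hle : t - b * b ≤ 121 := by nlinarith [mul_self_nonneg b]
          have := ((hF (s - b) (t - b * b) hle).1 y).1 hy
          simp only [Fin.sum_univ_succ, Function.Embedding.coeFn_mk, Fin.cons_zero, Fin.cons_succ]
          constructor
          · linarith [this.1]
          · linarith [this.2]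
        · simp at hx
      · rintro ⟨h1, h2⟩
        rw [Fin.sum_univ_succ] at h1 h2
        set b := x 0 with hb
        set y : Fin d → ℤ := Fin.tail x with hy
        have hy1 : ∑ i, y i = s - b := by
          have : ∑ i : Fin d, x i.succ = ∑ i, y i := rfl
          linarith
        have hy2 : ∑ i, y i * y i = t - b * b := by
          have : ∑ i : Fin d, x i.succ * x i.succ = ∑ i, y i * y i := rfl
          linarith
        have hnn : 0 ≤ ∑ i, y i * y i := Finset.sum_nonneg fun i _ => mul_self_nonneg _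
        have hbt : b * b ≤ t := by linarith
        have hcs := cs_bound y
        rw [hy1, hy2] at hcs
        have hb1 : -11 ≤ b := by nlinarith
        have hb2 : b ≤ 11 := by nlinarith
        refine ⟨b, by rw [List.mem_toFinset, mem_rng]; exact ⟨hb1, hb2⟩, ?_⟩
        simp only [hG]
        rw [if_pos ⟨hbt, hcs⟩, Finset.mem_map]
        have hle : t - b * b ≤ 121 := by nlinarith [mul_self_nonneg b]
        refine ⟨y, ((hF (s - b) (t - b * b) hle).1 y).2 ⟨hy1, hy2⟩, ?_⟩
        simp only [Function.Embedding.coeFn_mk, hb, hy]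
        exact Fin.cons_self_tail x
    · rw [Finset.card_biUnion]
      · rw [List.sum_toFinset _ rng_nodup]
        simp only [cnt]
        congr 1
        apply List.map_congr_left
        intro b _
        simp only [hG]
        split_ifs with hc
        · rw [Finset.card_map]
          have hle : t - b * b ≤ 121 := by nlinarith [mul_self_nonneg b]
          exact (hF (s - b) (t - b * b) hle).2
        · simp
      · intro b _ b' _ hbb'
        change Disjoint (G b) (G b')
        rw [Finset.disjoint_left]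
        intro x hx hx'
        exact hbb' ((hGmem b x hx).symm.trans (hGmem b' x hx'))

theorem conic_iff {δ : ℕ} (v : DP δ) :
    IsConic v ↔ (∑ i : Fin δ, v i.succ = 3 * v 0 - 2 ∧
      ∑ i : Fin δ, v i.succ * v i.succ = v 0 * v 0) := by
  unfold IsConic form canon
  simp only [Fin.cases_zero, Fin.cases_succ, neg_mul, one_mul, Finset.sum_neg_distrib]
  constructor
  · rintro ⟨h1, h2⟩
    constructor <;> linarith
  · rintro ⟨h1, h2⟩
    constructor <;> linarith

theorem conic_bounds {δ : ℕ} (hδ : δ ≤ 8) (v : DP δ) (h : IsConic v) : 1 ≤ v 0 ∧ v 0 ≤ 11 := by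
  rw [conic_iff] at h
  have hcs := cs_bound (fun i : Fin δ => v i.succ)
  rw [h.1, h.2] at hcs
  have hδ' : (δ : ℤ) ≤ 8 := by exact_mod_cast hδ
  have h8 : (δ : ℤ) * (v 0 * v 0) ≤ 8 * (v 0 * v 0) :=
    mul_le_mul_of_nonneg_right hδ' (mul_self_nonneg _)
  constructor <;> nlinarith

/-- The candidate values `1, …, 11` of the first coordinate. -/
def arng : List ℤ := (List.range 11).map fun k : ℕ => (k : ℤ) + 1

theorem mem_arng {a : ℤ} : a ∈ arng ↔ 1 ≤ a ∧ a ≤ 11 := by
  rw [arng, List.mem_map]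
  constructor
  · rintro ⟨i, hi, rfl⟩
    rw [List.mem_range] at hi
    omega
  · rintro ⟨h1, h2⟩
    exact ⟨(a - 1).toNat, by rw [List.mem_range]; omega, by omega⟩

theorem arng_nodup : arng.Nodup := by decide

/-- The number of conic classes. -/
def conicCount (δ : ℕ) : ℕ := (arng.map fun a => cnt δ (3 * a - 2) (a * a)).sum

theorem conic_ncard {δ : ℕ} (hδ : δ ≤ 8) : {v : DP δ | IsConic v}.ncard = conicCount δ := by
  choose F hF using exists_finset δ
  set G : ℤ → Finset (DP δ) := fun a =>
    (F (3 * a - 2) (a * a)).map ⟨Fin.cons a, Fin.cons_right_injective (α := fun _ => ℤ) a⟩ with hG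
  have hGmem : ∀ a x, x ∈ G a → x 0 = a := by
    intro a x hx
    simp only [hG, Finset.mem_map] at hx
    obtain ⟨y, -, rfl⟩ := hx
    simp
  have hset : {v : DP δ | IsConic v} = ↑(arng.toFinset.biUnion G) := by
    ext v
    simp only [Set.mem_ofPred_eq, Finset.coe_biUnion, Set.mem_iUnion, Finset.mem_coe,
      List.mem_toFinset, exists_prop]
    constructor
    · intro hv
      obtain ⟨h1, h2⟩ := conic_bounds hδ v hv
      refine ⟨v 0, mem_arng.2 ⟨h1, h2⟩, ?_⟩
      simp only [hG, Finset.mem_map]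
      have hle : v 0 * v 0 ≤ 121 := by nlinarith
      refine ⟨Fin.tail v, ((hF _ _ hle).1 _).2 ((conic_iff v).1 hv), ?_⟩
      exact Fin.cons_self_tail v
    · rintro ⟨a, ha, hv⟩
      rw [mem_arng] at ha
      simp only [hG, Finset.mem_map] at hv
      obtain ⟨y, hy, rfl⟩ := hv
      have hle : a * a ≤ 121 := by nlinarith
      have := ((hF _ _ hle).1 y).1 hy
      rw [conic_iff]
      simpa using this
  rw [hset, Set.ncard_coe_finset, Finset.card_biUnion]
  · rw [List.sum_toFinset _ arng_nodup, conicCount]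
    congr 1
    apply List.map_congr_left
    intro a ha
    rw [mem_arng] at ha
    simp only [hG, Finset.card_map]
    have hle : a * a ≤ 121 := by nlinarith
    exact (hF _ _ hle).2
  · intro a _ a' _ haa'
    change Disjoint (G a) (G a')
    rw [Finset.disjoint_left]
    intro x hx hx'
    exact haa' ((hGmem a x hx).symm.trans (hGmem a' x hx'))

theorem count8 : conicCount 8 = 2160 := by decide +kernel
theorem count7 : conicCount 7 = 126 := by decide +kernel
theorem count6 : conicCount 6 = 27 := by decide +kernel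
theorem count5 : conicCount 5 = 10 := by decide +kernel
theorem count4 : conicCount 4 = 5 := by decide +kernel
theorem count3 : conicCount 3 = 3 := by decide +kernel
theorem count2 : conicCount 2 = 2 := by decide +kernel

theorem main_count :
    {v : DP 8 | IsConic v}.ncard = 2160 ∧ {v : DP 7 | IsConic v}.ncard = 126 ∧
      {v : DP 6 | IsConic v}.ncard = 27 ∧ {v : DP 5 | IsConic v}.ncard = 10 ∧
      {v : DP 4 | IsConic v}.ncard = 5 ∧ {v : DP 3 | IsConic v}.ncard = 3 ∧
      {v : DP 2 | IsConic v}.ncard = 2 := by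
  refine ⟨?_, ?_, ?_, ?_, ?_, ?_, ?_⟩
  · rw [conic_ncard (by norm_num), count8]
  · rw [conic_ncard (by norm_num), count7]
  · rw [conic_ncard (by norm_num), count6]
  · rw [conic_ncard (by norm_num), count5]
  · rw [conic_ncard (by norm_num), count4]
  · rw [conic_ncard (by norm_num), count3]
  · rw [conic_ncard (by norm_num), count2]

/-! ### Classification up to permutation for `δ = 8` -/

/-- Antitone solutions with entries bounded by `bd`. -/
def solA : ℕ → ℤ → ℤ → ℤ → List (List ℤ)
  | 0, _, s, t => if s = 0 ∧ t = 0 then [[]] else []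
  | d + 1, bd, s, t =>
    (rng.filter fun b => b ≤ bd ∧ b * b ≤ t ∧ (s - b) * (s - b) ≤ (d : ℤ) * (t - b * b)).flatMap
      fun b => (solA d b (s - b) (t - b * b)).map (b :: ·)

theorem mem_solA (d : ℕ) : ∀ (y : Fin d → ℤ) (bd s t : ℤ), t ≤ 121 → Antitone y →
    (∀ i, y i ≤ bd) → ∑ i, y i = s → ∑ i, y i * y i = t → List.ofFn y ∈ solA d bd s t := by
  induction d with
  | zero =>
    intro y bd s t _ _ _ h1 h2
    simp only [Finset.univ_eq_empty, Finset.sum_empty] at h1 h2
    simp [solA, ← h1, ← h2]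
  | succ d ih =>
    intro x bd s t ht hx hbd h1 h2
    rw [Fin.sum_univ_succ] at h1 h2
    set b := x 0 with hb
    set y : Fin d → ℤ := Fin.tail x with hy
    have hy1 : ∑ i, y i = s - b := by
      have : ∑ i : Fin d, x i.succ = ∑ i, y i := rfl
      linarith
    have hy2 : ∑ i, y i * y i = t - b * b := by
      have : ∑ i : Fin d, x i.succ * x i.succ = ∑ i, y i * y i := rfl
      linarith
    have hnn : 0 ≤ ∑ i, y i * y i := Finset.sum_nonneg fun i _ => mul_self_nonneg _
    have hbt : b * b ≤ t := by linarith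
    have hcs := cs_bound y
    rw [hy1, hy2] at hcs
    have hb1 : -11 ≤ b := by nlinarith
    have hb2 : b ≤ 11 := by nlinarith
    have hle : t - b * b ≤ 121 := by nlinarith [mul_self_nonneg b]
    have hyanti : Antitone y := fun i j hij => hx (Fin.succ_le_succ_iff.2 hij)
    have hyb : ∀ i, y i ≤ b := fun i => hx (Fin.zero_le _)
    have := ih y b (s - b) (t - b * b) hle hyanti hyb hy1 hy2
    rw [List.ofFn_succ]
    simp only [solA, List.mem_flatMap, List.mem_filter, List.mem_map, decide_eq_true_eq]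
    exact ⟨b, ⟨mem_rng.2 ⟨hb1, hb2⟩, hbd 0, hbt, hcs⟩, List.ofFn y, this, rfl⟩

/-- The fifteen conic types for `δ = 8`. -/
def T15 : List (DP 8) :=
  [![1, 1, 0, 0, 0, 0, 0, 0, 0],
   ![2, 1, 1, 1, 1, 0, 0, 0, 0],
   ![3, 2, 1, 1, 1, 1, 1, 0, 0],
   ![4, 2, 2, 2, 1, 1, 1, 1, 0],
   ![4, 3, 1, 1, 1, 1, 1, 1, 1],
   ![5, 2, 2, 2, 2, 2, 2, 1, 0],
   ![5, 3, 2, 2, 2, 1, 1, 1, 1],
   ![6, 3, 3, 2, 2, 2, 2, 1, 1],
   ![7, 3, 3, 3, 3, 2, 2, 2, 1],
   ![7, 4, 3, 2, 2, 2, 2, 2, 2],
   ![8, 4, 3, 3, 3, 3, 2, 2, 2],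
   ![8, 3, 3, 3, 3, 3, 3, 3, 1],
   ![9, 4, 4, 3, 3, 3, 3, 3, 2],
   ![10, 4, 4, 4, 4, 3, 3, 3, 3],
   ![11, 4, 4, 4, 4, 4, 4, 4, 3]]

theorem enum8 : ∀ a ∈ arng, ∀ l ∈ solA 8 11 (3 * a - 2) (a * a),
    (a :: l) ∈ T15.map List.ofFn := by decide +kernel

theorem T15_conic : ∀ t ∈ T15, IsConic t := by
  intro t ht
  rw [conic_iff]
  revert t
  decide +kernel

theorem antitone_conic_mem (t : DP 8) (ht : IsConic t) (hanti : Antitone (Fin.tail t)) :
    t ∈ T15 := by
  obtain ⟨ha1, ha2⟩ := conic_bounds (le_refl 8) t ht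
  have hc := (conic_iff t).1 ht
  have hle : t 0 * t 0 ≤ 121 := by nlinarith
  have hb : ∀ i, Fin.tail t i ≤ 11 := by
    intro i
    have h1 : Fin.tail t i * Fin.tail t i ≤ ∑ j, Fin.tail t j * Fin.tail t j :=
      Finset.single_le_sum (f := fun j => Fin.tail t j * Fin.tail t j)
        (fun j _ => mul_self_nonneg _) (Finset.mem_univ i)
    have h2 : ∑ j, Fin.tail t j * Fin.tail t j = t 0 * t 0 := hc.2
    nlinarith
  have hmem := mem_solA 8 (Fin.tail t) 11 (3 * t 0 - 2) (t 0 * t 0) hle hanti hb hc.1 hc.2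
  have := enum8 (t 0) (mem_arng.2 ⟨ha1, ha2⟩) _ hmem
  rw [List.mem_map] at this
  obtain ⟨t', ht', heq⟩ := this
  have : List.ofFn t' = List.ofFn t := by
    rw [heq, List.ofFn_succ]
    rfl
  rw [← List.ofFn_injective this]
  exact ht'

theorem conic_perm_iff (v t : DP 8) (σ : Equiv.Perm (Fin 8)) (h0 : v 0 = t 0)
    (h : ∀ i : Fin 8, v (σ i).succ = t i.succ) : IsConic v ↔ IsConic t := by
  rw [conic_iff, conic_iff, h0]
  have e1 : ∑ i : Fin 8, v i.succ = ∑ i : Fin 8, t i.succ := by
    rw [← Equiv.sum_comp σ (fun i => v i.succ)]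
    exact Finset.sum_congr rfl fun i _ => h i
  have e2 : ∑ i : Fin 8, v i.succ * v i.succ = ∑ i : Fin 8, t i.succ * t i.succ := by
    rw [← Equiv.sum_comp σ (fun i => v i.succ * v i.succ)]
    exact Finset.sum_congr rfl fun i _ => by rw [h i]
  rw [e1, e2]

theorem main_classify (v : DP 8) :
    IsConic v ↔ ∃ t ∈ T15, ∃ σ : Equiv.Perm (Fin 8),
      v 0 = t 0 ∧ ∀ i : Fin 8, v (σ i).succ = t i.succ := by
  constructor
  · intro hv
    set b : Fin 8 → ℤ := Fin.tail v with hb
    set σ₀ := Tuple.sort b with hσ₀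
    have hmono : Monotone (b ∘ σ₀) := Tuple.monotone_sort b
    set σ : Equiv.Perm (Fin 8) := Fin.revPerm.trans σ₀ with hσ
    set t : DP 8 := Fin.cons (v 0) (fun i => b (σ i)) with ht
    have h0 : v 0 = t 0 := by simp [ht]
    have hi : ∀ i : Fin 8, v (σ i).succ = t i.succ := by
      intro i
      simp only [ht, Fin.cons_succ]
      rfl
    have htc : IsConic t := (conic_perm_iff v t σ h0 hi).1 hv
    have hanti : Antitone (Fin.tail t) := by
      intro i j hij
      simp only [ht, Fin.tail_cons, hσ, Equiv.trans_apply, Fin.revPerm_apply]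
      exact hmono (Fin.rev_le_rev.2 hij)
    exact ⟨t, antitone_conic_mem t htc hanti, σ, h0, hi⟩
  · rintro ⟨t, ht, σ, h0, hi⟩
    exact (conic_perm_iff v t σ h0 hi).2 (T15_conic t ht)

end Groth.Agent.Lib.Helper24DPConic
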