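import Mathlib

/-!
# Exterior algebra and base change of the ring (helper24)

The canonical algebra map `⋀_{A'}(A' ⊗_A M) → A' ⊗_A ⋀_A M`.
-/

set_option autoImplicit false
universe u v w
open TensorProduct

namespace Groth.Agent.Lib.Helper24ExtBC

variable {A : Type u} {A' : Type v} [CommRing A] [CommRing A'] [Algebra A A']
  {M : Type w} [AddCommGroup M] [Module A M]

/-- base change of `ι` -/
noncomputable def iotaBC : A' ⊗[A] M →ₗ[A'] A' ⊗[A] ExteriorAlgebra A M :=
  LinearMap.baseChange A' (ExteriorAlgebra.ι A)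

@[simp] lemma iotaBC_tmul (a : A') (m : M) :
    iotaBC (A := A) (a ⊗ₜ[A] m) = a ⊗ₜ[A] ExteriorAlgebra.ι A m := by
  simp [iotaBC]

lemma iotaBC_mul_swap (x y : A' ⊗[A] M) :
    iotaBC (A := A) x * iotaBC y + iotaBC y * iotaBC x = 0 := by
  induction x using TensorProduct.induction_on with
  | zero => simp
  | add x₁ x₂ h₁ h₂ =>
    rw [map_add, add_mul, mul_add, add_add_add_comm, h₁, h₂, add_zero]
  | tmul a m =>
    induction y using TensorProduct.induction_on with
    | zero => simp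
    | add y₁ y₂ h₁ h₂ =>
      rw [map_add, add_mul, mul_add, add_add_add_comm, h₁, h₂, add_zero]
    | tmul b n =>
      rw [iotaBC_tmul, iotaBC_tmul, Algebra.TensorProduct.tmul_mul_tmul,
        Algebra.TensorProduct.tmul_mul_tmul, mul_comm b a, ← TensorProduct.tmul_add,
        ExteriorAlgebra.ι_add_mul_swap, TensorProduct.tmul_zero]

lemma iotaBC_sq (x : A' ⊗[A] M) : iotaBC (A := A) x * iotaBC x = 0 := by
  induction x using TensorProduct.induction_on with
  | zero => simp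
  | add x₁ x₂ h₁ h₂ =>
    rw [map_add, add_mul, mul_add, mul_add, h₁, h₂, zero_add, add_zero]
    exact iotaBC_mul_swap x₁ x₂
  | tmul a m =>
    rw [iotaBC_tmul, Algebra.TensorProduct.tmul_mul_tmul, ExteriorAlgebra.ι_sq_zero,
      TensorProduct.tmul_zero]

/-- the canonical algebra map `⋀_{A'}(A' ⊗_A M) → A' ⊗_A ⋀_A M` -/
noncomputable def toBC : ExteriorAlgebra A' (A' ⊗[A] M) →ₐ[A'] A' ⊗[A] ExteriorAlgebra A M :=
  ExteriorAlgebra.lift A' ⟨iotaBC, iotaBC_sq⟩

@[simp] lemma toBC_ι (x : A' ⊗[A] M) :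
    toBC (A := A) (ExteriorAlgebra.ι A' x) = iotaBC x := by
  simp [toBC]

lemma toBC_ι_tmul (a : A') (m : M) :
    toBC (A := A) (ExteriorAlgebra.ι A' (a ⊗ₜ[A] m)) = a ⊗ₜ[A] ExteriorAlgebra.ι A m := by
  rw [toBC_ι, iotaBC_tmul]

lemma toBC_ιMulti (p : ℕ) (m : Fin p → M) :
    toBC (A := A) (A' := A') (ExteriorAlgebra.ιMulti A' p (fun i => (1 : A') ⊗ₜ[A] m i)) =
      (1 : A') ⊗ₜ[A] ExteriorAlgebra.ιMulti A p m := by
  rw [ExteriorAlgebra.ιMulti_apply, ExteriorAlgebra.ιMulti_apply, map_list_prod, List.map_ofFn]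
  have h : (⇑(toBC (A := A) (A' := A') (M := M)) ∘ fun i => ExteriorAlgebra.ι A' ((1 : A') ⊗ₜ[A] m i)) =
      fun i => (Algebra.TensorProduct.includeRight : ExteriorAlgebra A M →ₐ[A] A' ⊗[A] ExteriorAlgebra A M)
        (ExteriorAlgebra.ι A (m i)) := by
    funext i
    simp [toBC_ι_tmul]
  rw [h]
  have h2 : (List.ofFn fun i => (Algebra.TensorProduct.includeRight :
      ExteriorAlgebra A M →ₐ[A] A' ⊗[A] ExteriorAlgebra A M) (ExteriorAlgebra.ι A (m i))) =
      List.map (Algebra.TensorProduct.includeRight :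
      ExteriorAlgebra A M →ₐ[A] A' ⊗[A] ExteriorAlgebra A M) (List.ofFn fun i => ExteriorAlgebra.ι A (m i)) := by
    rw [List.map_ofFn]
    rfl
  rw [h2, ← map_list_prod]
  rfl

end Groth.Agent.Lib.Helper24ExtBC
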