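import Mathlib
import Groth.Prelude.Def_DeRham
import Groth.Agent.Lib.Helper24ExtBC

/-!
# de Rham closed and exact forms under extension of the base field (helper24)
-/

set_option autoImplicit false
universe u
open TensorProduct exteriorPower

namespace Groth.Agent.Lib.Helper24DRBC

open Groth.Agent.Lib.Helper24ExtBC

/-- Induction principle: the elements `c · db₁ ∧ … ∧ db_p` additively generate `⋀^p Ω[A⁄R]`. -/
theorem gen_induction {R A : Type u} [CommRing R] [CommRing A] [Algebra R A] (p : ℕ)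
    (P : ↥(⋀[A]^p (Ω[A⁄R])) → Prop) (h0 : P 0) (hadd : ∀ x y, P x → P y → P (x + y))
    (hgen : ∀ (c : A) (b : Fin p → A), P (DeRham.gen (KaehlerDifferential.D R A) p c b)) :
    ∀ ω, P ω := by
  intro ω
  have hspan := exteriorPower.ιMulti_span_of_span (R := A) (n := p) (M := Ω[A⁄R])
    (KaehlerDifferential.span_range_derivation R A)
  have hω : ω ∈ Submodule.span A (exteriorPower.ιMulti A p ''
      {v : Fin p → Ω[A⁄R] | Set.range v ⊆ Set.range (KaehlerDifferential.D R A)}) := by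
    rw [hspan]; exact Submodule.mem_top
  have key : ∀ c : A, P (c • ω) := by
    induction hω using Submodule.span_induction with
    | mem ω h =>
      obtain ⟨v, hv, rfl⟩ := h
      have hv' : ∀ i, ∃ b : A, KaehlerDifferential.D R A b = v i := fun i => hv ⟨i, rfl⟩
      choose b hb using hv'
      intro c
      have h2 : c • exteriorPower.ιMulti A p v = DeRham.gen (KaehlerDifferential.D R A) p c b := by
        simp only [DeRham.gen, hb]
      rw [h2]; exact hgen c b
    | zero => intro c; rw [smul_zero]; exact h0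
    | add x y _ _ hx hy => intro c; rw [smul_add]; exact hadd _ _ (hx c) (hy c)
    | smul e x _ hx => intro c; rw [smul_smul]; exact hx (c * e)
  have := key 1
  rwa [one_smul] at this

section Main

variable (k K : Type u) [Field k] [Field K] [Algebra k K]
  (A A' : Type u) [CommRing A] [CommRing A'] [Algebra k A]
  [Algebra A A'] [Algebra k A'] [IsScalarTower k A A'] [Algebra K A'] [IsScalarTower k K A']
  [Algebra.IsPushout k K A A']

/-- `Ω[A'⁄K] ≃ A' ⊗_A Ω[A⁄k]` -/
noncomputable def theta : Ω[A'⁄K] ≃ₗ[A'] A' ⊗[A] Ω[A⁄k] :=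
  (KaehlerDifferential.tensorKaehlerEquiv k K A A').symm

lemma theta_D (a : A) : theta k K A A' (KaehlerDifferential.D K A' (algebraMap A A' a)) =
    (1 : A') ⊗ₜ[A] KaehlerDifferential.D k A a := by
  unfold theta
  rw [LinearEquiv.symm_apply_eq, KaehlerDifferential.tensorKaehlerEquiv_tmul_D, one_smul]

/-- the comparison map to `A' ⊗_A ⋀_A Ω[A⁄k]` -/
noncomputable def T (p : ℕ) : ↥(⋀[A']^p (Ω[A'⁄K])) →ₗ[A'] A' ⊗[A] ExteriorAlgebra A (Ω[A⁄k]) :=
  ((toBC (A := A) (A' := A') (M := Ω[A⁄k])).toLinearMap ∘ₗ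
    (ExteriorAlgebra.map (theta k K A A').toLinearMap).toLinearMap) ∘ₗ (⋀[A']^p (Ω[A'⁄K])).subtype

lemma T_gen (p : ℕ) (c : A) (b : Fin p → A) :
    T k K A A' p (DeRham.gen (KaehlerDifferential.D K A') p (algebraMap A A' c)
      (fun i => algebraMap A A' (b i))) =
    (1 : A') ⊗ₜ[A] ((DeRham.gen (KaehlerDifferential.D k A) p c b : ↥(⋀[A]^p (Ω[A⁄k]))) :
      ExteriorAlgebra A (Ω[A⁄k])) := by
  unfold DeRham.gen
  rw [map_smul]
  unfold T
  simp only [LinearMap.coe_comp, Function.comp_apply, Submodule.subtype_apply, AlgHom.toLinearMap_apply]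
  rw [exteriorPower.ιMulti_apply_coe, ExteriorAlgebra.map_apply_ιMulti]
  have h1 : (⇑(theta k K A A').toLinearMap ∘ fun i => KaehlerDifferential.D K A' (algebraMap A A' (b i))) =
      fun i => (1 : A') ⊗ₜ[A] KaehlerDifferential.D k A (b i) := by
    funext i
    simp [theta_D]
  rw [h1, toBC_ιMulti, Submodule.coe_smul, exteriorPower.ιMulti_apply_coe, TensorProduct.tmul_smul,
    TensorProduct.smul_tmul', Algebra.smul_def, mul_one]
  rw [Algebra.algebraMap_self, RingHom.id_apply, TensorProduct.smul_tmul', Algebra.smul_def, mul_one]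

variable {k K A A'}
variable (ψ : ∀ p : ℕ, ↥(⋀[A]^p (Ω[A⁄k])) →+ ↥(⋀[A']^p (Ω[A'⁄K])))
  (hψ : DeRham.IsCxMap (KaehlerDifferential.D k A) (KaehlerDifferential.D K A') (algebraMap A A') ψ)

include hψ in
lemma psi_smul (p : ℕ) (a : A) (ω : ↥(⋀[A]^p (Ω[A⁄k]))) :
    ψ p (a • ω) = algebraMap A A' a • ψ p ω := by
  induction ω using gen_induction with
  | h0 => simp
  | hadd x y hx hy => rw [smul_add, map_add, map_add, hx, hy, smul_add]
  | hgen c b =>
    have : a • DeRham.gen (KaehlerDifferential.D k A) p c b =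
        DeRham.gen (KaehlerDifferential.D k A) p (a * c) b := by
      unfold DeRham.gen; rw [mul_smul]
    rw [this, hψ, hψ, map_mul]
    unfold DeRham.gen
    rw [mul_smul]

include hψ in
lemma psi_smul_k (p : ℕ) (c : k) (ω : ↥(⋀[A]^p (Ω[A⁄k]))) :
    ψ p (c • ω) = c • ψ p ω := by
  rw [← algebraMap_smul A c ω, psi_smul ψ hψ, ← IsScalarTower.algebraMap_apply, algebraMap_smul]

include hψ in
lemma T_psi (p : ℕ) (ω : ↥(⋀[A]^p (Ω[A⁄k]))) :
    T k K A A' p (ψ p ω) = (1 : A') ⊗ₜ[A] (ω : ExteriorAlgebra A (Ω[A⁄k])) := by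
  induction ω using gen_induction with
  | h0 => simp
  | hadd x y hx hy => rw [map_add, map_add, hx, hy, Submodule.coe_add, TensorProduct.tmul_add]
  | hgen c b => rw [hψ p c b]; exact T_gen k K A A' p c b

variable {I : Type u} (b : Module.Basis I k K)

/-- the `A`-basis of `A'` coming from a `k`-basis of `K` -/
noncomputable def beta : Module.Basis I A A' :=
  (Algebra.IsPushout.symm (inferInstance : Algebra.IsPushout k K A A')).out.basis b

lemma beta_apply (i : I) : beta (A := A) (A' := A') b i = algebraMap K A' (b i) := by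
  unfold beta
  rw [IsBaseChange.basis_apply]
  rfl

include hψ in
lemma inj (p : ℕ) (η : I →₀ ↥(⋀[A]^p (Ω[A⁄k])))
    (h : η.sum (fun i v => b i • ψ p v) = 0) : η = 0 := by
  classical
  have h1 := congrArg (T k K A A' p) h
  rw [map_zero, map_finsuppSum] at h1
  have h2 : ∀ i v, T k K A A' p (b i • ψ p v) =
      beta (A := A) (A' := A') b i ⊗ₜ[A] (v : ExteriorAlgebra A (Ω[A⁄k])) := by
    intro i v
    rw [← algebraMap_smul A' (b i) (ψ p v), map_smul, T_psi ψ hψ, TensorProduct.smul_tmul',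
      smul_eq_mul, mul_one, beta_apply]
  simp only [h2] at h1
  let η' : I →₀ ExteriorAlgebra A (Ω[A⁄k]) := η.mapRange Subtype.val rfl
  have h3 : η'.sum (fun i n => beta (A := A) (A' := A') b i ⊗ₜ[A] n) = 0 := by
    rw [Finsupp.sum_mapRange_index]
    · exact h1
    · intro i; simp
  have h4 := TensorProduct.sum_tmul_basis_left_eq_zero (beta (A := A) (A' := A') b) η' h3
  ext i
  have := DFunLike.congr_fun h4 i
  simpa [η'] using this

/-- `ψ` as a `k`-linear map -/
noncomputable def psiLin (p : ℕ) : ↥(⋀[A]^p (Ω[A⁄k])) →ₗ[k] ↥(⋀[A']^p (Ω[A'⁄K])) where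
  toFun := ψ p
  map_add' := map_add _
  map_smul' c ω := psi_smul_k ψ hψ p c ω

/-- the `K`-linear extension of `ψ` -/
noncomputable def Xi (p : ℕ) : K ⊗[k] ↥(⋀[A]^p (Ω[A⁄k])) →ₗ[K] ↥(⋀[A']^p (Ω[A'⁄K])) :=
  (psiLin ψ hψ p).liftBaseChange K

lemma Xi_tmul (p : ℕ) (c : K) (ω : ↥(⋀[A]^p (Ω[A⁄k]))) :
    Xi ψ hψ p (c ⊗ₜ[k] ω) = c • ψ p ω := by
  unfold Xi
  rw [LinearMap.liftBaseChange_tmul]
  rfl

variable (k K A A') in
include k in
lemma span_D_comp : Submodule.span A' (Set.range fun a : A =>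
    KaehlerDifferential.D K A' (algebraMap A A' a)) = ⊤ := by
  rw [eq_top_iff, ← KaehlerDifferential.span_range_derivation K A', Submodule.span_le]
  rintro _ ⟨a', rfl⟩
  have hbc : IsBaseChange K (IsScalarTower.toAlgHom k A A').toLinearMap :=
    (inferInstance : Algebra.IsPushout k K A A').out
  induction a' using hbc.inductionOn with
  | zero => simp
  | tmul a => exact Submodule.subset_span ⟨a, rfl⟩
  | smul s y hy =>
    rw [Derivation.map_smul, ← algebraMap_smul A' s]
    exact Submodule.smul_mem _ _ hy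
  | add y₁ y₂ h₁ h₂ =>
    rw [map_add]
    exact Submodule.add_mem _ h₁ h₂

lemma smul_mem_range_Xi (p : ℕ) (a' : A') (t : K ⊗[k] ↥(⋀[A]^p (Ω[A⁄k]))) :
    a' • Xi ψ hψ p t ∈ LinearMap.range (Xi ψ hψ p) := by
  have hbc : IsBaseChange K (IsScalarTower.toAlgHom k A A').toLinearMap :=
    (inferInstance : Algebra.IsPushout k K A A').out
  induction a' using hbc.inductionOn generalizing t with
  | zero => rw [zero_smul]; exact Submodule.zero_mem _
  | tmul a =>
    induction t using TensorProduct.induction_on with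
    | zero => rw [map_zero, smul_zero]; exact Submodule.zero_mem _
    | add t₁ t₂ h₁ h₂ => rw [map_add, smul_add]; exact Submodule.add_mem _ h₁ h₂
    | tmul c ω =>
      refine ⟨c ⊗ₜ[k] (a • ω), ?_⟩
      rw [Xi_tmul, Xi_tmul, psi_smul ψ hψ, smul_comm]
      rfl
  | smul s y hy =>
    rw [smul_assoc]
    exact Submodule.smul_mem _ _ (hy t)
  | add y₁ y₂ h₁ h₂ =>
    rw [add_smul]
    exact Submodule.add_mem _ (h₁ t) (h₂ t)

lemma Xi_surjective (p : ℕ) : Function.Surjective (Xi ψ hψ p) := by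
  intro x
  let N' : Submodule A' ↥(⋀[A']^p (Ω[A'⁄K])) :=
    { carrier := LinearMap.range (Xi ψ hψ p)
      add_mem' := fun ha hb => Submodule.add_mem _ ha hb
      zero_mem' := Submodule.zero_mem _
      smul_mem' := by
        rintro a' _ ⟨t, rfl⟩
        exact smul_mem_range_Xi ψ hψ p a' t }
  have htop : N' = ⊤ := by
    rw [eq_top_iff, ← exteriorPower.ιMulti_span_of_span (R := A') (n := p) (M := Ω[A'⁄K])
      (hs := span_D_comp k K A A'), Submodule.span_le]
    rintro _ ⟨v, hv, rfl⟩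
    have hv' : ∀ i, ∃ a : A, KaehlerDifferential.D K A' (algebraMap A A' a) = v i :=
      fun i => hv ⟨i, rfl⟩
    choose a ha using hv'
    refine ⟨(1 : K) ⊗ₜ[k] DeRham.gen (KaehlerDifferential.D k A) p 1 a, ?_⟩
    rw [Xi_tmul, one_smul, hψ p 1 a]
    unfold DeRham.gen
    rw [map_one, one_smul]
    congr 1
    funext i
    exact ha i
  have : x ∈ N' := by rw [htop]; exact Submodule.mem_top
  exact this

include hψ in
lemma surj (p : ℕ) (x : ↥(⋀[A']^p (Ω[A'⁄K]))) :
    ∃ η : I →₀ ↥(⋀[A]^p (Ω[A⁄k])), η.sum (fun i v => b i • ψ p v) = x := by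
  obtain ⟨t, rfl⟩ := Xi_surjective ψ hψ p x
  obtain ⟨η, rfl⟩ := TensorProduct.eq_repr_basis_left b t
  refine ⟨η, ?_⟩
  rw [map_finsuppSum]
  simp only [Xi_tmul]

end Main

theorem s19628
    (k K : Type u) [Field k] [Field K] [Algebra k K]
    (A A' : Type u) [CommRing A] [CommRing A'] [Algebra k A]
    [Algebra A A'] [Algebra k A'] [IsScalarTower k A A'] [Algebra K A'] [IsScalarTower k K A']
    [Algebra.IsPushout k K A A']
    (d : ∀ p : ℕ, ↥(⋀[A]^p (Ω[A⁄k])) →ₗ[k] ↥(⋀[A]^(p + 1) (Ω[A⁄k])))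
    (d' : ∀ p : ℕ, ↥(⋀[A']^p (Ω[A'⁄K])) →ₗ[K] ↥(⋀[A']^(p + 1) (Ω[A'⁄K])))
    (ψ : ∀ p : ℕ, ↥(⋀[A]^p (Ω[A⁄k])) →+ ↥(⋀[A']^p (Ω[A'⁄K])))
    (hψ : DeRham.IsCxMap (KaehlerDifferential.D k A) (KaehlerDifferential.D K A') (algebraMap A A') ψ)
    (hcomm : ∀ (p : ℕ) (x : ↥(⋀[A]^p (Ω[A⁄k]))), ψ (p + 1) (d p x) = d' p (ψ p x))
    (p : ℕ) :
    Submodule.span K (ψ p '' (DeRham.cocycles d p : Set ↥(⋀[A]^p (Ω[A⁄k])))) = DeRham.cocycles d' p ∧
      Submodule.span K (ψ p '' (DeRham.coboundaries d p : Set ↥(⋀[A]^p (Ω[A⁄k])))) =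
        DeRham.coboundaries d' p := by
  classical
  let b := Module.Free.chooseBasis k K
  have hd'sum : ∀ (q : ℕ) (η : Module.Free.ChooseBasisIndex k K →₀ ↥(⋀[A]^q (Ω[A⁄k]))),
      d' q (η.sum (fun i v => b i • ψ q v)) =
        (η.mapRange (d q) (map_zero _)).sum (fun i v => b i • ψ (q + 1) v) := by
    intro q η
    rw [map_finsuppSum, Finsupp.sum_mapRange_index]
    · apply Finsupp.sum_congr
      intro i _
      rw [map_smul, hcomm]
    · intro i
      rw [map_zero, smul_zero]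
  constructor
  · apply le_antisymm
    · rw [Submodule.span_le]
      rintro _ ⟨ω, hω, rfl⟩
      change d' p (ψ p ω) = 0
      have hω' : d p ω = 0 := hω
      rw [← hcomm, hω', map_zero]
    · intro x hx
      have hx' : d' p x = 0 := hx
      obtain ⟨η, rfl⟩ := surj ψ hψ b p x
      rw [hd'sum] at hx'
      have h0 := inj ψ hψ b (p + 1) _ hx'
      have hη : ∀ i, d p (η i) = 0 := by
        intro i
        have := DFunLike.congr_fun h0 i
        simpa using this
      apply Submodule.sum_mem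
      intro i _
      apply Submodule.smul_mem
      exact Submodule.subset_span ⟨η i, hη i, rfl⟩
  · cases p with
    | zero =>
      change Submodule.span K (ψ 0 '' (((⊥ : Submodule k ↥(⋀[A]^0 (Ω[A⁄k]))) : Set ↥(⋀[A]^0 (Ω[A⁄k]))))) = ⊥
      rw [Submodule.span_eq_bot]
      rintro _ ⟨ω, hω, rfl⟩
      have : ω = 0 := hω
      rw [this, map_zero]
    | succ p =>
      change Submodule.span K (ψ (p + 1) '' (LinearMap.range (d p) : Set _)) = LinearMap.range (d' p)
      apply le_antisymm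
      · rw [Submodule.span_le]
        rintro _ ⟨_, ⟨y, rfl⟩, rfl⟩
        exact ⟨ψ p y, (hcomm p y).symm⟩
      · rintro _ ⟨y, rfl⟩
        obtain ⟨η, rfl⟩ := surj ψ hψ b p y
        rw [hd'sum, Finsupp.sum_mapRange_index]
        · apply Submodule.sum_mem
          intro i _
          apply Submodule.smul_mem
          exact Submodule.subset_span ⟨d p (η i), ⟨η i, rfl⟩, rfl⟩
        · intro i
          rw [map_zero, smul_zero]

end Groth.Agent.Lib.Helper24DRBC
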