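import Mathlib
import Groth.Prelude.Def_FlatCA

/-!
# Base change of the data of a one-step dévissage: the formal parts (helper24)
-/

set_option autoImplicit false
set_option backward.isDefEq.respectTransparency.types false
set_option maxHeartbeats 4000000
set_option synthInstance.maxHeartbeats 400000
set_option linter.style.haveILetI false
set_option linter.unusedSectionVars false
open TensorProduct CategoryTheory AlgebraicGeometry

namespace Groth.Agent.Lib.Helper24Dev

universe u

section ringlevel

variable (S S' C C' : Type u) [CommRing S] [CommRing S'] [CommRing C] [CommRing C']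
  [Algebra S S'] [Algebra S C] [Algebra S' C'] [Algebra C C'] [Algebra S C']
  [IsScalarTower S S' C'] [IsScalarTower S C C'] [Algebra.IsPushout S S' C C']

/-- base change of a surjection. -/
theorem surjective_of_isPushout (h : Function.Surjective (algebraMap S C)) :
    Function.Surjective (algebraMap S' C') := by
  have hbc : IsBaseChange S' (IsScalarTower.toAlgHom S C C').toLinearMap :=
    Algebra.IsPushout.out
  intro c'
  induction c' using hbc.inductionOn with
  | zero => exact ⟨0, map_zero _⟩
  | tmul c =>
    obtain ⟨s, rfl⟩ := h c
    refine ⟨algebraMap S S' s, ?_⟩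
    change _ = algebraMap C C' (algebraMap S C s)
    rw [← IsScalarTower.algebraMap_apply, ← IsScalarTower.algebraMap_apply]
  | smul s' n hn =>
    obtain ⟨x, rfl⟩ := hn
    exact ⟨s' * x, by rw [map_mul, Algebra.smul_def]⟩
  | add n₁ n₂ h₁ h₂ =>
    obtain ⟨x₁, rfl⟩ := h₁
    obtain ⟨x₂, rfl⟩ := h₂
    exact ⟨x₁ + x₂, map_add _ _ _⟩

/-- base change of finite presentation. -/
theorem finitePresentation_of_isPushout [Algebra.FinitePresentation S C] :
    Algebra.FinitePresentation S' C' :=
  Algebra.FinitePresentation.equiv (Algebra.IsPushout.equiv S S' C C')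

/-- base change of module-finiteness. -/
theorem finite_of_isPushout [Module.Finite S C] : Module.Finite S' C' :=
  Module.Finite.equiv (Algebra.IsPushout.equiv S S' C C').toLinearEquiv

end ringlevel

section modules

variable (C C' G G' : Type u) [CommRing C] [CommRing C'] [Algebra C C'] [AddCommGroup G]
  [Module C G] [AddCommGroup G'] [Module C' G'] [Module C G'] [IsScalarTower C C' G']

theorem finite_of_isBaseChange (g : G →ₗ[C] G') (hg : IsBaseChange C' g) [Module.Finite C G] :
    Module.Finite C' G' :=
  Module.Finite.equiv hg.equiv

end modules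

section scheme

variable (R R' D D' : Type u) [CommRing R] [CommRing R'] [CommRing D] [CommRing D']
  [Algebra R R'] [Algebra R D] [Algebra R' D'] [Algebra D D'] [Algebra R D']
  [IsScalarTower R R' D'] [IsScalarTower R D D'] [Algebra.IsPushout R R' D D']

theorem isPullback_Spec :
    IsPullback (Spec.map (CommRingCat.ofHom (algebraMap D D')))
      (Spec.map (CommRingCat.ofHom (algebraMap R' D')))
      (Spec.map (CommRingCat.ofHom (algebraMap R D)))
      (Spec.map (CommRingCat.ofHom (algebraMap R R'))) :=
  (isPullback_SpecMap_of_isPushout _ _ _ _ (CommRingCat.isPushout_of_isPushout R R' D D')).flip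

theorem smoothRelDim_baseChange (n : ℕ) (h : FlatCA.SmoothRelDim n R D) :
    FlatCA.SmoothRelDim n R' D' := by
  haveI := smoothOfRelativeDimension_isStableUnderBaseChange (n := n)
  exact MorphismProperty.of_isPullback (P := @SmoothOfRelativeDimension n)
    (isPullback_Spec R R' D D') h

theorem geomIrred_baseChange (h : FlatCA.GeomIrredFibres R D) : FlatCA.GeomIrredFibres R' D' :=
  MorphismProperty.of_isPullback (P := @GeometricallyIrreducible) (isPullback_Spec R R' D D') h

end scheme

end Groth.Agent.Lib.Helper24Dev
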