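import Mathlib
import Groth.Agent.Lib.Helper14BCDim
import Groth.Agent.Lib.Helper20SuppBC

/-!
# Dimension of the support of a finite module over a finite type algebra is invariant under
extension of the base field (helper24)
-/

set_option autoImplicit false
set_option backward.isDefEq.respectTransparency.types false
set_option maxHeartbeats 4000000
set_option synthInstance.maxHeartbeats 400000
set_option linter.style.haveILetI false
set_option linter.unusedSectionVars false
open TensorProduct

namespace Groth.Agent.Lib.Helper24Dev

universe u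

section FE

variable (k K Q : Type u) [Field k] [Field K] [Algebra k K] [CommRing Q] [Algebra k Q]
  [Algebra.FiniteType k Q]

/-- Krull dimension of a finite type algebra is invariant under extension of the base field. -/
theorem ringKrullDim_tensor_field : ringKrullDim (Q ⊗[k] K) = ringKrullDim Q := by
  rcases subsingleton_or_nontrivial Q with hQ | hQ
  · haveI : Subsingleton (Q ⊗[k] K) := by
      refine ⟨fun x y => ?_⟩
      have h0 : ∀ z : Q ⊗[k] K, z = 0 := fun z => by
        induction z using TensorProduct.induction_on with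
        | zero => rfl
        | tmul q c => rw [Subsingleton.elim q 0, TensorProduct.zero_tmul]
        | add x y hx hy => rw [hx, hy, add_zero]
      rw [h0 x, h0 y]
    rw [ringKrullDim_eq_bot_of_subsingleton, ringKrullDim_eq_bot_of_subsingleton]
  · obtain ⟨d, g, hinj, hfin⟩ := exists_finite_inj_algHom_of_fg k Q
    rw [Groth.Agent.Lib.Helper14.FTDim.ringKrullDim_of_finite_injective g hinj hfin,
      Fintype.card_fin]
    set P := MvPolynomial (Fin d) k with hP
    letI algPQ : Algebra P Q := g.toRingHom.toAlgebra
    haveI : IsScalarTower k P Q := IsScalarTower.of_algebraMap_eq fun x => (g.commutes x).symm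
    haveI : Module.Finite P Q := hfin
    haveI : Algebra.IsIntegral P Q := Algebra.IsIntegral.of_finite P Q
    set G := Algebra.TensorProduct.map (IsScalarTower.toAlgHom k P Q) (AlgHom.id k K) with hG
    have hGint : G.toRingHom.IsIntegral :=
      Groth.Agent.Lib.Helper14.BCDim.isIntegral_map (k := k) (P := P) (D := Q) (K := K)
    have hGinj : Function.Injective G := by
      have h1 : Function.Injective ((IsScalarTower.toAlgHom k P Q).toLinearMap.rTensor K) :=
        Module.Flat.rTensor_preserves_injective_linearMap _ hinj
      intro x y hxy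
      apply h1
      have e : ∀ z, G z = (IsScalarTower.toAlgHom k P Q).toLinearMap.rTensor K z := by
        intro z
        induction z using TensorProduct.induction_on with
        | zero => simp
        | tmul a c => rfl
        | add a b ha hb => rw [map_add, map_add, ha, hb]
      rw [← e, ← e, hxy]
    letI : Algebra (P ⊗[k] K) (Q ⊗[k] K) := G.toRingHom.toAlgebra
    haveI : Algebra.IsIntegral (P ⊗[k] K) (Q ⊗[k] K) := ⟨hGint⟩
    rw [Groth.Agent.Lib.Helper5.ringKrullDim_eq_of_isIntegral_of_injective (P ⊗[k] K)
      (Q ⊗[k] K) hGinj, Groth.Agent.Lib.Helper14.BCDim.ringKrullDim_poly_tensor]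

end FE


section Core

theorem isNoetherianRing_of_isPushout (k K A A' : Type u) [Field k] [Field K] [Algebra k K]
    [CommRing A] [CommRing A'] [Algebra k A] [Algebra K A'] [Algebra A A'] [Algebra k A']
    [IsScalarTower k K A'] [IsScalarTower k A A'] [Algebra.IsPushout k K A A']
    [Algebra.FiniteType k A] : IsNoetherianRing A' := by
  haveI : Algebra.FiniteType K A' :=
    Algebra.FiniteType.equiv inferInstance (Algebra.IsPushout.equiv k K A A')
  exact Algebra.FiniteType.isNoetherianRing K A'

/-- the ring `A' ⊗_A (A/I)` has the dimension of `A/I`. -/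
theorem ringKrullDim_tensor_quotient (k K A A' : Type u) [Field k] [Field K] [Algebra k K]
    [CommRing A] [CommRing A'] [Algebra k A] [Algebra K A'] [Algebra A A'] [Algebra k A']
    [IsScalarTower k K A'] [IsScalarTower k A A'] [Algebra.IsPushout k K A A']
    [Algebra.FiniteType k A] (I : Ideal A) :
    ringKrullDim (A' ⊗[A] (A ⧸ I)) = ringKrullDim (A ⧸ I) := by
  haveI : Algebra.IsPushout k A K A' := Algebra.IsPushout.symm inferInstance
  let e1 : A' ⊗[A] (A ⧸ I) ≃ₐ[A] (A ⧸ I) ⊗[A] A' := Algebra.TensorProduct.comm A A' (A ⧸ I)
  let e2 : (A ⧸ I) ⊗[A] A' ≃ₐ[A] (A ⧸ I) ⊗[A] (A ⊗[k] K) :=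
    Algebra.TensorProduct.congr AlgEquiv.refl (Algebra.IsPushout.equiv k A K A').symm
  let e3 : (A ⧸ I) ⊗[A] (A ⊗[k] K) ≃ₐ[A] (A ⧸ I) ⊗[k] K :=
    Algebra.TensorProduct.cancelBaseChange k A A (A ⧸ I) K
  rw [ringKrullDim_eq_of_ringEquiv ((e1.trans e2).trans e3).toRingEquiv]
  exact ringKrullDim_tensor_field k K (A ⧸ I)

/-- **Invariance of the dimension of the support under extension of the base field.** -/
theorem supportDim_of_isPushout (k K A A' : Type u) [Field k] [Field K] [Algebra k K]
    [CommRing A] [CommRing A'] [Algebra k A] [Algebra K A'] [Algebra A A'] [Algebra k A']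
    [IsScalarTower k K A'] [IsScalarTower k A A'] [Algebra.IsPushout k K A A']
    [Algebra.FiniteType k A]
    (M M' : Type u) [AddCommGroup M] [Module A M] [Module.Finite A M] [AddCommGroup M']
    [Module A' M'] [Module A M'] [IsScalarTower A A' M'] (f : M →ₗ[A] M')
    (hf : IsBaseChange A' f) :
    Module.supportDim A' M' = Module.supportDim A M := by
  haveI := isNoetherianRing_of_isPushout k K A A'
  rw [← Module.supportDim_eq_of_equiv hf.equiv]
  set I := Module.annihilator A M with hI
  have hsupp : Module.support A' (A' ⊗[A] M) = Module.support A' (A' ⊗[A] (A ⧸ I)) := by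
    ext q
    rw [Groth.Agent.Lib.Helper20.SuppBC.mem_support_baseChange_iff,
      Groth.Agent.Lib.Helper20.SuppBC.mem_support_baseChange_iff, Module.support_eq_zeroLocus,
      Module.support_of_algebra, Ideal.Quotient.algebraMap_eq, Ideal.mk_ker]
  have h1 : Module.supportDim A' (A' ⊗[A] M) = Module.supportDim A' (A' ⊗[A] (A ⧸ I)) := by
    unfold Module.supportDim
    rw [hsupp]
  rw [h1, Groth.Agent.Lib.Helper5.supportDim_eq_supportDim_of_finite A' (A' ⊗[A] (A ⧸ I))
    (A' ⊗[A] (A ⧸ I)), Module.supportDim_self_eq_ringKrullDim,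
    ringKrullDim_tensor_quotient k K A A' I, Module.supportDim_eq_ringKrullDim_quotient_annihilator]

end Core

end Groth.Agent.Lib.Helper24Dev
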