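import Mathlib
import Groth.Agent.Lib.Helper24DevA
import Groth.Agent.Lib.Helper24DevB
import Groth.Prelude.Def_FlatCA

/-!
# Base change of the fibre module and of a one step dévissage (helper24)
-/

set_option autoImplicit false
set_option backward.isDefEq.respectTransparency.types false
set_option maxHeartbeats 4000000
set_option synthInstance.maxHeartbeats 400000
set_option linter.style.haveILetI false
set_option linter.unusedSectionVars false
open TensorProduct

namespace Groth.Agent.Lib.Helper24Dev

universe u

section Abstract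

/-- pasting of pushout squares: the fibre ring of the base change is the base change of the fibre
ring. -/
theorem isPushout_fibre
    (R R' S S' κ κ' A A' : Type u) [CommRing R] [CommRing R'] [CommRing S] [CommRing S']
    [CommRing κ] [CommRing κ'] [CommRing A] [CommRing A']
    [Algebra R R'] [Algebra R S] [Algebra R' S'] [Algebra S S'] [Algebra R S']
    [IsScalarTower R R' S'] [IsScalarTower R S S'] [Algebra.IsPushout R R' S S']
    [Algebra R κ] [Algebra R' κ'] [Algebra κ κ'] [Algebra R κ'] [IsScalarTower R κ κ']
    [IsScalarTower R R' κ']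
    [Algebra κ A] [Algebra S A] [Algebra R A] [IsScalarTower R κ A] [IsScalarTower R S A]
    [Algebra.IsPushout R κ S A]
    [Algebra κ' A'] [Algebra S' A'] [Algebra R' A'] [IsScalarTower R' κ' A']
    [IsScalarTower R' S' A'] [Algebra.IsPushout R' κ' S' A']
    [Algebra A A'] [Algebra κ A'] [IsScalarTower κ κ' A'] [IsScalarTower κ A A'] [Algebra S A']
    [IsScalarTower S S' A'] [IsScalarTower S A A'] :
    Algebra.IsPushout κ κ' A A' := by
  letI : Algebra R A' := ((algebraMap R' A').comp (algebraMap R R')).toAlgebra
  haveI t1 : IsScalarTower R R' A' := IsScalarTower.of_algebraMap_eq fun x => rfl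
  haveI t2 : IsScalarTower R κ' A' := IsScalarTower.of_algebraMap_eq fun x => by
    rw [IsScalarTower.algebraMap_apply R R' A', IsScalarTower.algebraMap_apply R R' κ',
      ← IsScalarTower.algebraMap_apply R' κ' A']
  haveI t3 : IsScalarTower R S' A' := IsScalarTower.of_algebraMap_eq fun x => by
    rw [IsScalarTower.algebraMap_apply R R' A', IsScalarTower.algebraMap_apply R R' S',
      ← IsScalarTower.algebraMap_apply R' S' A']
  haveI t4 : IsScalarTower R S A' := IsScalarTower.of_algebraMap_eq fun x => by
    rw [IsScalarTower.algebraMap_apply R S' A', IsScalarTower.algebraMap_apply R S S',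
      ← IsScalarTower.algebraMap_apply S S' A']
  haveI t5 : IsScalarTower R A A' := IsScalarTower.of_algebraMap_eq fun x => by
    rw [IsScalarTower.algebraMap_apply R S A', IsScalarTower.algebraMap_apply R S A,
      ← IsScalarTower.algebraMap_apply S A A']
  have h1 : Algebra.IsPushout R κ' S A' :=
    (Algebra.IsPushout.comp_iff R R' S (S' := S') (T := κ') (T' := A')).mpr inferInstance
  exact (Algebra.IsPushout.comp_iff R κ S (S' := A) (T := κ') (T' := A')).mp h1

theorem finiteType_of_isPushout' (R κ S A : Type u) [CommRing R] [CommRing κ] [CommRing S]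
    [CommRing A] [Algebra R κ] [Algebra R S] [Algebra κ A] [Algebra S A] [Algebra R A]
    [IsScalarTower R κ A] [IsScalarTower R S A] [Algebra.IsPushout R κ S A]
    [Algebra.FiniteType R S] : Algebra.FiniteType κ A :=
  Algebra.FiniteType.equiv inferInstance (Algebra.IsPushout.equiv R κ S A)

/-- the dimension of the support of the fibre module is invariant under base change. -/
theorem supportDim_fibre_baseChange
    (R R' S S' κ κ' A A' : Type u) [CommRing R] [CommRing R'] [CommRing S] [CommRing S']
    [Field κ] [Field κ'] [CommRing A] [CommRing A']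
    [Algebra R R'] [Algebra R S] [Algebra R' S'] [Algebra S S'] [Algebra R S']
    [IsScalarTower R R' S'] [IsScalarTower R S S'] [Algebra.IsPushout R R' S S']
    [Algebra R κ] [Algebra R' κ'] [Algebra κ κ'] [Algebra R κ'] [IsScalarTower R κ κ']
    [IsScalarTower R R' κ']
    [Algebra κ A] [Algebra S A] [Algebra R A] [IsScalarTower R κ A] [IsScalarTower R S A]
    [Algebra.IsPushout R κ S A]
    [Algebra κ' A'] [Algebra S' A'] [Algebra R' A'] [IsScalarTower R' κ' A']
    [IsScalarTower R' S' A'] [Algebra.IsPushout R' κ' S' A']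
    [Algebra A A'] [Algebra κ A'] [IsScalarTower κ κ' A'] [IsScalarTower κ A A'] [Algebra S A']
    [IsScalarTower S S' A'] [IsScalarTower S A A']
    [Algebra.FiniteType R S]
    (N N' : Type u) [AddCommGroup N] [Module S N] [Module.Finite S N] [AddCommGroup N']
    [Module S' N'] [Module S N'] [IsScalarTower S S' N'] (f : N →ₗ[S] N')
    (hf : IsBaseChange S' f) :
    Module.supportDim A' (A' ⊗[S'] N') = Module.supportDim A (A ⊗[S] N) := by
  haveI := isPushout_fibre R R' S S' κ κ' A A'
  haveI := finiteType_of_isPushout' R κ S A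
  have h1 := supportDim_of_isPushout κ κ' A A' (A ⊗[S] N) (A' ⊗[A] (A ⊗[S] N))
    (TensorProduct.mk A A' (A ⊗[S] N) 1) (TensorProduct.isBaseChange A (A ⊗[S] N) A')
  rw [← h1]
  let e1 : A' ⊗[A] (A ⊗[S] N) ≃ₗ[A'] A' ⊗[S] N :=
    TensorProduct.AlgebraTensorModule.cancelBaseChange S A A' A' N
  let e2 : A' ⊗[S'] N' ≃ₗ[A'] A' ⊗[S'] (S' ⊗[S] N) :=
    TensorProduct.AlgebraTensorModule.congr (LinearEquiv.refl A' A') hf.equiv.symm
  let e3 : A' ⊗[S'] (S' ⊗[S] N) ≃ₗ[A'] A' ⊗[S] N :=
    TensorProduct.AlgebraTensorModule.cancelBaseChange S S' A' A' N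
  exact Module.supportDim_eq_of_equiv ((e2.trans e3).trans e1.symm)

end Abstract

section Concrete

attribute [local instance] Algebra.TensorProduct.rightAlgebra

/-- **Invariance of the dimension of the support of the fibre module under base change.** -/
theorem supportDim_fiberMod_baseChange
    (R S : Type u) [CommRing R] [CommRing S] [Algebra R S] [Algebra.FiniteType R S]
    (N : Type u) [AddCommGroup N] [Module S N] [Module R N] [IsScalarTower R S N]
    [Module.Finite S N] (p : Ideal R) [p.IsPrime]
    (R' : Type u) [CommRing R'] [Algebra R R'] (p' : Ideal R') [p'.IsPrime] [p'.LiesOver p]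
    (S' : Type u) [CommRing S'] [Algebra R' S'] [Algebra R S'] [Algebra S S']
    [IsScalarTower R R' S'] [IsScalarTower R S S'] [Algebra.IsPushout R R' S S']
    (N' : Type u) [AddCommGroup N'] [Module S' N'] [Module R' N'] [IsScalarTower R' S' N']
    [Module S N'] [IsScalarTower S S' N'] (f : N →ₗ[S] N') (hf : IsBaseChange S' f) :
    Module.supportDim (p'.Fiber S') (FlatCA.fiberMod p' S' N') =
      Module.supportDim (p.Fiber S) (FlatCA.fiberMod p S N) := by
  set κ := p.ResidueField with hκ
  set κ' := p'.ResidueField with hκ'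
  let φ : κ →ₐ[R] κ' := Ideal.ResidueField.mapₐ p p' (Algebra.ofId R R') (p'.over_def p)
  letI aκ : Algebra κ κ' := φ.toRingHom.toAlgebra
  haveI t0 : IsScalarTower R κ κ' := IsScalarTower.of_algebraMap_eq fun x => (φ.commutes x).symm
  set A := κ ⊗[R] S with hA
  set A' := κ' ⊗[R'] S' with hA'
  haveI t1 : IsScalarTower κ κ' A' := inferInstance
  letI a2 : Algebra S A' := ((algebraMap S' A').comp (algebraMap S S')).toAlgebra
  haveI t2 : IsScalarTower S S' A' := IsScalarTower.of_algebraMap_eq fun x => rfl
  haveI t3 : IsScalarTower R κ A' := IsScalarTower.of_algebraMap_eq fun x => by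
    rw [IsScalarTower.algebraMap_apply κ κ' A', ← IsScalarTower.algebraMap_apply R κ κ',
      ← IsScalarTower.algebraMap_apply R κ' A']
  haveI t4 : IsScalarTower R S A' := IsScalarTower.of_algebraMap_eq fun x => by
    rw [IsScalarTower.algebraMap_apply S S' A', ← IsScalarTower.algebraMap_apply R S S',
      IsScalarTower.algebraMap_apply R R' S', ← IsScalarTower.algebraMap_apply R' S' A',
      ← IsScalarTower.algebraMap_apply R R' A']
  let ψ : A →ₐ[R] A' := Algebra.TensorProduct.lift (IsScalarTower.toAlgHom R κ A')
    (IsScalarTower.toAlgHom R S A') (fun _ _ => Commute.all _ _)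
  letI a3 : Algebra A A' := ψ.toRingHom.toAlgebra
  haveI t5 : IsScalarTower κ A A' := IsScalarTower.of_algebraMap_eq fun x => by
    change _ = ψ (x ⊗ₜ 1)
    rw [Algebra.TensorProduct.lift_tmul, map_one, mul_one]
    rfl
  haveI t6 : IsScalarTower S A A' := IsScalarTower.of_algebraMap_eq fun x => by
    change _ = ψ (1 ⊗ₜ x)
    rw [Algebra.TensorProduct.lift_tmul, map_one, one_mul]
    rfl
  exact supportDim_fibre_baseChange R R' S S' κ κ' A A' N N' f hf

end Concrete

section Final

/-- the right hand square of two pushout squares over the same base is a pushout. -/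
theorem isPushout_right (R R' S S' C C' : Type u) [CommRing R] [CommRing R'] [CommRing S]
    [CommRing S'] [CommRing C] [CommRing C'] [Algebra R R'] [Algebra R S] [Algebra R' S']
    [Algebra R S'] [Algebra S S'] [IsScalarTower R R' S'] [IsScalarTower R S S']
    [Algebra.IsPushout R R' S S']
    [Algebra R C] [Algebra S C] [IsScalarTower R S C]
    [Algebra R' C'] [Algebra R C'] [Algebra C C'] [IsScalarTower R R' C'] [IsScalarTower R C C']
    [Algebra.IsPushout R R' C C']
    [Algebra S' C'] [IsScalarTower R' S' C'] [Algebra S C'] [IsScalarTower S S' C']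
    [IsScalarTower S C C'] : Algebra.IsPushout S S' C C' := by
  haveI t : IsScalarTower R S' C' := IsScalarTower.of_algebraMap_eq fun x => by
    rw [IsScalarTower.algebraMap_apply R R' S', ← IsScalarTower.algebraMap_apply R' S' C',
      ← IsScalarTower.algebraMap_apply R R' C']
  haveI h1 : Algebra.IsPushout R S R' S' := Algebra.IsPushout.symm inferInstance
  have h2 : Algebra.IsPushout R C R' C' := Algebra.IsPushout.symm inferInstance
  exact Algebra.IsPushout.symm
    ((Algebra.IsPushout.comp_iff R S R' (S' := S') (T := C) (T' := C')).mp h2)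

/-- **Base change of a one step dévissage.** -/
theorem isOneStepDevissage_baseChange
    (R S : Type u) [CommRing R] [CommRing S] [Algebra R S] [Algebra.FiniteType R S]
    (N : Type u) [AddCommGroup N] [Module S N] [Module R N] [IsScalarTower R S N] [Module.Finite S N]
    (p : Ideal R) [p.IsPrime]
    (C D G : Type u) [CommRing C] [CommRing D] [Algebra S C] [Algebra R C] [IsScalarTower R S C]
    [Algebra R D] [Algebra D C] [IsScalarTower R D C] [AddCommGroup G] [Module C G] [Module S G]
    [IsScalarTower S C G] (n : ℕ)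
    (h : FlatCA.IsOneStepDevissage R S N p C D G n)
    (R' : Type u) [CommRing R'] [Algebra R R'] (p' : Ideal R') [p'.IsPrime] [p'.LiesOver p]
    (S' C' D' : Type u) [CommRing S'] [CommRing C'] [CommRing D']
    [Algebra R' S'] [Algebra R S'] [Algebra S S'] [IsScalarTower R R' S'] [IsScalarTower R S S']
    [Algebra.IsPushout R R' S S']
    [Algebra R' C'] [Algebra R C'] [Algebra C C'] [IsScalarTower R R' C'] [IsScalarTower R C C']
    [Algebra.IsPushout R R' C C']
    [Algebra R' D'] [Algebra R D'] [Algebra D D'] [IsScalarTower R R' D'] [IsScalarTower R D D']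
    [Algebra.IsPushout R R' D D']
    [Algebra S' C'] [IsScalarTower R' S' C'] [Algebra S C'] [IsScalarTower S S' C'] [IsScalarTower S C C']
    [Algebra D' C'] [IsScalarTower R' D' C'] [Algebra D C'] [IsScalarTower D D' C'] [IsScalarTower D C C']
    (N' : Type u) [AddCommGroup N'] [Module S' N'] [Module R' N'] [IsScalarTower R' S' N']
    [Module S N'] [IsScalarTower S S' N'] (f : N →ₗ[S] N') (hf : IsBaseChange S' f)
    (G' : Type u) [AddCommGroup G'] [Module C' G'] [Module S' G'] [IsScalarTower S' C' G']
    [Module C G'] [IsScalarTower C C' G'] (g : G →ₗ[C] G') (hg : IsBaseChange C' g) :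
    FlatCA.IsOneStepDevissage R' S' N' p' C' D' G' n := by
  obtain ⟨⟨e⟩, hsurj, hfp, hfinDC, hfinCG, hsm, hgi, hdim⟩ := h
  haveI pS : Algebra.IsPushout S S' C C' := isPushout_right R R' S S' C C'
  haveI pD : Algebra.IsPushout D D' C C' := isPushout_right R R' D D' C C'
  refine ⟨⟨?_⟩, surjective_of_isPushout S S' C C' hsurj, finitePresentation_of_isPushout S S' C C',
    finite_of_isPushout D D' C C', finite_of_isBaseChange C C' G G' g hg,
    smoothRelDim_baseChange R R' D D' n hsm, geomIrred_baseChange R R' D D' hgi, ?_⟩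
  · let e1 : N' ≃ₗ[S'] S' ⊗[S] N := hf.equiv.symm
    let e2 : S' ⊗[S] N ≃ₗ[S'] S' ⊗[S] G :=
      TensorProduct.AlgebraTensorModule.congr (LinearEquiv.refl S' S') e
    let e3 : C' ⊗[C] G ≃ₗ[S'] S' ⊗[S] G := Algebra.IsPushout.cancelBaseChange S S' C C' G
    let e4 : C' ⊗[C] G ≃ₗ[S'] G' := hg.equiv.restrictScalars S'
    exact ((e1.trans e2).trans e3.symm).trans e4
  · rw [supportDim_fiberMod_baseChange R S N p R' p' S' N' f hf, hdim]

end Final

end Groth.Agent.Lib.Helper24Dev
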