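import Mathlib
import Groth.Agent.Lib.Helper24DevC
import Groth.Prelude.Def_Flat

/-!
# Base change of a one step dévissage along a map inducing an isomorphism of residue fields:
abstract parts (helper24)
-/

set_option autoImplicit false
set_option backward.isDefEq.respectTransparency.types false
set_option maxHeartbeats 4000000
set_option synthInstance.maxHeartbeats 400000
set_option linter.style.haveILetI false
set_option linter.unusedSectionVars false
open TensorProduct

namespace Groth.Agent.Lib.Helper24Dev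

universe u

section Top

/-- local dimension is invariant under homeomorphisms. -/
theorem localDim_homeomorph {X Y : Type*} [TopologicalSpace X] [TopologicalSpace Y] (e : X ≃ₜ Y)
    (x : X) : FlatMor.localDim Y (e x) = FlatMor.localDim X x := by
  unfold FlatMor.localDim
  apply le_antisymm
  · refine le_iInf fun U => ?_
    let V : TopologicalSpace.Opens Y := ⟨e.symm ⁻¹' (U.1 : Set X), U.1.isOpen.preimage e.symm.continuous⟩
    have hV : e x ∈ V := by
      change e.symm (e x) ∈ (U.1 : Set X)
      rw [e.symm_apply_apply]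
      exact U.2
    refine (iInf_le _ (⟨V, hV⟩ : {V : TopologicalSpace.Opens Y // e x ∈ V})).trans ?_
    let φ : (V : Set Y) ≃ₜ (U.1 : Set X) := e.symm.subtype (fun y => Iff.rfl)
    exact (IsHomeomorph.topologicalKrullDim_eq _ φ.isHomeomorph).le
  · refine le_iInf fun V => ?_
    let U : TopologicalSpace.Opens X := ⟨e ⁻¹' (V.1 : Set Y), V.1.isOpen.preimage e.continuous⟩
    have hU : x ∈ U := V.2
    refine (iInf_le _ (⟨U, hU⟩ : {U : TopologicalSpace.Opens X // x ∈ U})).trans ?_
    let φ : (U : Set X) ≃ₜ (V.1 : Set Y) := e.subtype (fun y => Iff.rfl)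
    exact (IsHomeomorph.topologicalKrullDim_eq _ φ.isHomeomorph).le

end Top

section BC

/-- base change along a bijective ring map is bijective. -/
theorem bijective_of_isBaseChange (R T M M' : Type u) [CommRing R] [CommRing T] [Algebra R T]
    [AddCommGroup M] [Module R M] [AddCommGroup M'] [Module T M'] [Module R M']
    [IsScalarTower R T M'] (f : M →ₗ[R] M') (hf : IsBaseChange T f)
    (hb : Function.Bijective (algebraMap R T)) : Function.Bijective f := by
  let e0 : R ≃ₗ[R] T := LinearEquiv.ofBijective (Algebra.linearMap R T) hb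
  let e1 : M ≃ₗ[R] T ⊗[R] M := (TensorProduct.lid R M).symm ≪≫ₗ (LinearEquiv.rTensor M e0)
  have h : ∀ m, f m = hf.equiv (e1 m) := by
    intro m
    have : e1 m = (1 : T) ⊗ₜ[R] m := by
      simp [e1, e0]
    rw [this, hf.equiv_tmul, one_smul]
  have h2 : (f : M → M') = hf.equiv ∘ e1 := funext h
  rw [h2]
  exact hf.equiv.bijective.comp e1.bijective

end BC

section Supp

/-- transport of support and local dimension along a bijective ring map. -/
theorem exists_localDim_support_eq (A A' : Type u) [CommRing A] [CommRing A'] [Algebra A A']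
    (hb : Function.Bijective (algebraMap A A'))
    (M M' : Type u) [AddCommGroup M] [Module A M] [Module.Finite A M] [AddCommGroup M']
    [Module A' M'] (e : M' ≃ₗ[A'] A' ⊗[A] M)
    (ξ : PrimeSpectrum A) (hξ : ξ ∈ Module.support A M) :
    ∃ (ξ' : PrimeSpectrum A') (hξ' : ξ' ∈ Module.support A' M'),
      ξ'.comap (algebraMap A A') = ξ ∧
      FlatMor.localDim (Module.support A' M') ⟨ξ', hξ'⟩ =
        FlatMor.localDim (Module.support A M) ⟨ξ, hξ⟩ := by
  have hiff : ∀ x' : PrimeSpectrum A', x' ∈ Module.support A' M' ↔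
      x'.comap (algebraMap A A') ∈ Module.support A M := by
    intro x'
    rw [e.support_eq, Groth.Agent.Lib.Helper20.SuppBC.mem_support_baseChange_iff]
  have hh : IsHomeomorph (PrimeSpectrum.comap (algebraMap A A')) :=
    PrimeSpectrum.isHomeomorph_comap_of_bijective hb
  let h : PrimeSpectrum A' ≃ₜ PrimeSpectrum A := hh.homeomorph
  have hcoe : ∀ x', h x' = PrimeSpectrum.comap (algebraMap A A') x' := fun _ => rfl
  let hs : Module.support A' M' ≃ₜ Module.support A M := h.subtype hiff
  obtain ⟨ξ', hξ'⟩ := h.surjective ξ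
  have hmem : ξ' ∈ Module.support A' M' := by
    rw [hiff, ← hcoe, hξ']
    exact hξ
  refine ⟨ξ', hmem, by rw [← hcoe, hξ'], ?_⟩
  rw [← localDim_homeomorph hs ⟨ξ', hmem⟩]
  congr 1
  exact Subtype.ext hξ'

end Supp

section AbstractFibre

variable (R R' S S' κ κ' A A' : Type u) [CommRing R] [CommRing R'] [CommRing S] [CommRing S']
    [Field κ] [Field κ'] [CommRing A] [CommRing A']
    [Algebra R R'] [Algebra R S] [Algebra R' S'] [Algebra S S'] [Algebra R S']
    [IsScalarTower R R' S'] [IsScalarTower R S S'] [Algebra.IsPushout R R' S S']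
    [Algebra R κ] [Algebra R' κ'] [Algebra κ κ'] [Algebra R κ'] [IsScalarTower R κ κ']
    [IsScalarTower R R' κ']
    [Algebra κ A] [Algebra S A] [Algebra R A] [IsScalarTower R κ A] [IsScalarTower R S A]
    [Algebra.IsPushout R κ S A]
    [Algebra κ' A'] [Algebra S' A'] [Algebra R' A'] [IsScalarTower R' κ' A']
    [IsScalarTower R' S' A'] [Algebra.IsPushout R' κ' S' A']
    [Algebra A A'] [Algebra κ A'] [IsScalarTower κ κ' A'] [IsScalarTower κ A A'] [Algebra S A']
    [IsScalarTower S S' A'] [IsScalarTower S A A']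

include R R' S S' κ κ' in
/-- if the residue field extension is trivial the map of fibre rings is bijective. -/
theorem bijective_algebraMap_fibre (hb : Function.Bijective (algebraMap κ κ')) :
    Function.Bijective (algebraMap A A') := by
  haveI := isPushout_fibre R R' S S' κ κ' A A'
  have h : IsBaseChange κ' (IsScalarTower.toAlgHom κ A A').toLinearMap :=
    Algebra.IsPushout.out
  exact bijective_of_isBaseChange κ κ' A A' _ h hb

include R R' κ κ' in
theorem exists_localDim_fibre (hb : Function.Bijective (algebraMap κ κ'))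
    (N N' : Type u) [AddCommGroup N] [Module S N] [Module.Finite S N] [AddCommGroup N']
    [Module S' N'] [Module S N'] [IsScalarTower S S' N'] (f : N →ₗ[S] N')
    (hf : IsBaseChange S' f) (ξ : PrimeSpectrum A) (hξ : ξ ∈ Module.support A (A ⊗[S] N)) :
    ∃ (ξ' : PrimeSpectrum A') (hξ' : ξ' ∈ Module.support A' (A' ⊗[S'] N')),
      ξ'.comap (algebraMap A A') = ξ ∧
      FlatMor.localDim (Module.support A' (A' ⊗[S'] N')) ⟨ξ', hξ'⟩ =
        FlatMor.localDim (Module.support A (A ⊗[S] N)) ⟨ξ, hξ⟩ := by
  have hbA := bijective_algebraMap_fibre R R' S S' κ κ' A A' hb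
  let e1 : A' ⊗[A] (A ⊗[S] N) ≃ₗ[A'] A' ⊗[S] N :=
    TensorProduct.AlgebraTensorModule.cancelBaseChange S A A' A' N
  let e2 : A' ⊗[S'] N' ≃ₗ[A'] A' ⊗[S'] (S' ⊗[S] N) :=
    TensorProduct.AlgebraTensorModule.congr (LinearEquiv.refl A' A') hf.equiv.symm
  let e3 : A' ⊗[S'] (S' ⊗[S] N) ≃ₗ[A'] A' ⊗[S] N :=
    TensorProduct.AlgebraTensorModule.cancelBaseChange S S' A' A' N
  exact exists_localDim_support_eq A A' hbA (A ⊗[S] N) (A' ⊗[S'] N')
    ((e2.trans e3).trans e1.symm) ξ hξ

end AbstractFibre

end Groth.Agent.Lib.Helper24Dev
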