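import Mathlib
import Groth.Agent.Lib.Helper24DevD

/-!
# The map of fibre rings induced by a base change, and its properties when the residue field
extension is trivial (helper24)
-/

set_option autoImplicit false
set_option backward.isDefEq.respectTransparency.types false
set_option maxHeartbeats 4000000
set_option synthInstance.maxHeartbeats 400000
set_option linter.style.haveILetI false
set_option linter.unusedSectionVars false
open TensorProduct

namespace Groth.Agent.Lib.Helper24Dev

universe u

section Concrete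

attribute [local instance] Algebra.TensorProduct.rightAlgebra

variable (R S : Type u) [CommRing R] [CommRing S] [Algebra R S] (p : Ideal R) [p.IsPrime]
  (R' : Type u) [CommRing R'] [Algebra R R'] (p' : Ideal R') [p'.IsPrime] [hp' : p'.LiesOver p]
  (S' : Type u) [CommRing S'] [Algebra R' S'] [Algebra R S'] [Algebra S S']
  [IsScalarTower R R' S'] [IsScalarTower R S S']

/-- the map of residue fields. -/
noncomputable abbrev resMap : p.ResidueField →ₐ[R] p'.ResidueField :=
  Ideal.ResidueField.mapₐ p p' (Algebra.ofId R R') hp'.over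

/-- the map of fibre rings `κ(p) ⊗ S → κ(p') ⊗ S'`. -/
noncomputable def fiberMap : p.Fiber S →ₐ[R] p'.Fiber S' :=
  Algebra.TensorProduct.lift
    ((IsScalarTower.toAlgHom R p'.ResidueField (p'.Fiber S')).comp (resMap R p R' p'))
    (((Algebra.TensorProduct.includeRight : S' →ₐ[R'] p'.ResidueField ⊗[R'] S').restrictScalars
      R).comp (IsScalarTower.toAlgHom R S S')) (fun _ _ => Commute.all _ _)

theorem fiberMap_tmul (k : p.ResidueField) (s : S) :
    fiberMap R S p R' p' S' (k ⊗ₜ s) = (resMap R p R' p' k) ⊗ₜ[R'] (algebraMap S S' s) := by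
  unfold fiberMap
  rw [Algebra.TensorProduct.lift_tmul]
  change ((resMap R p R' p' k) ⊗ₜ[R'] (1 : S')) * ((1 : p'.ResidueField) ⊗ₜ[R'] algebraMap S S' s) = _
  rw [Algebra.TensorProduct.tmul_mul_tmul, mul_one, one_mul]

omit hp' in
/-- the contraction to `S'` of a prime of the fibre ring lies over `p'`. -/
theorem liesOver_comap_includeRight (P : PrimeSpectrum (p'.Fiber S')) :
    (P.asIdeal.comap (Algebra.TensorProduct.includeRight (R := R') (A := p'.ResidueField)
      (B := S')).toRingHom).LiesOver p' :=
  ((PrimeSpectrum.primesOverOrderIsoFiber R' S' p').symm P).2.2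

theorem fiberMap_comp_includeRight :
    (fiberMap R S p R' p' S').toRingHom.comp
        (Algebra.TensorProduct.includeRight (R := R) (A := p.ResidueField) (B := S)).toRingHom =
      (Algebra.TensorProduct.includeRight (R := R') (A := p'.ResidueField)
        (B := S')).toRingHom.comp (algebraMap S S') := by
  ext s
  change fiberMap R S p R' p' S' (1 ⊗ₜ s) = 1 ⊗ₜ algebraMap S S' s
  rw [fiberMap_tmul, map_one]

variable [Algebra.IsPushout R R' S S']

/-- the map of fibre rings is bijective when the residue field extension is trivial, and then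
supports and local dimensions of fibre modules correspond. -/
theorem fiberMap_facts (hκ : Function.Bijective (resMap R p R' p')) :
    Function.Bijective (fiberMap R S p R' p' S') ∧
    ∀ (N N' : Type u) [AddCommGroup N] [Module S N] [Module.Finite S N] [AddCommGroup N']
      [Module S' N'] [Module S N'] [IsScalarTower S S' N'] (f : N →ₗ[S] N')
      (_ : IsBaseChange S' f) (ξ : PrimeSpectrum (p.Fiber S))
      (hξ : ξ ∈ Module.support (p.Fiber S) ((p.Fiber S) ⊗[S] N)),
      ∃ (ξ' : PrimeSpectrum (p'.Fiber S'))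
        (hξ' : ξ' ∈ Module.support (p'.Fiber S') ((p'.Fiber S') ⊗[S'] N')),
        ξ'.comap (fiberMap R S p R' p' S').toRingHom = ξ ∧
        FlatMor.localDim (Module.support (p'.Fiber S') ((p'.Fiber S') ⊗[S'] N')) ⟨ξ', hξ'⟩ =
          FlatMor.localDim (Module.support (p.Fiber S) ((p.Fiber S) ⊗[S] N)) ⟨ξ, hξ⟩ := by
  set κ := p.ResidueField with hκdef
  set κ' := p'.ResidueField with hκ'def
  let φ : κ →ₐ[R] κ' := resMap R p R' p'
  letI aκ : Algebra κ κ' := φ.toRingHom.toAlgebra
  haveI t0 : IsScalarTower R κ κ' := IsScalarTower.of_algebraMap_eq fun x => (φ.commutes x).symm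
  set A := κ ⊗[R] S with hA
  set A' := κ' ⊗[R'] S' with hA'
  haveI t1 : IsScalarTower κ κ' A' := inferInstance
  letI a2 : Algebra S A' := ((algebraMap S' A').comp (algebraMap S S')).toAlgebra
  haveI t2 : IsScalarTower S S' A' := IsScalarTower.of_algebraMap_eq fun x => rfl
  let ψ : A →ₐ[R] A' := fiberMap R S p R' p' S'
  letI a3 : Algebra A A' := ψ.toRingHom.toAlgebra
  haveI t5 : IsScalarTower κ A A' := IsScalarTower.of_algebraMap_eq fun x => by
    change _ = ψ (x ⊗ₜ 1)
    rw [fiberMap_tmul, map_one]
    rfl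
  haveI t6 : IsScalarTower S A A' := IsScalarTower.of_algebraMap_eq fun x => by
    change _ = ψ (1 ⊗ₜ x)
    rw [fiberMap_tmul, map_one]
    rfl
  have hb : Function.Bijective (algebraMap κ κ') := hκ
  refine ⟨bijective_algebraMap_fibre R R' S S' κ κ' A A' hb, ?_⟩
  intro N N' _ _ _ _ _ _ _ f hf ξ hξ
  exact exists_localDim_fibre R R' S S' κ κ' A A' hb N N' f hf ξ hξ

/-- **Uniqueness**: when the residue field extension is trivial, a prime of `S'` over `p'` is
determined by its contraction to `S`. -/
theorem eq_of_comap_eq (hκ : Function.Bijective (resMap R p R' p'))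
    (q₁ q₂ : Ideal S') [h1 : q₁.IsPrime] [h2 : q₂.IsPrime] [o1 : q₁.LiesOver p']
    [o2 : q₂.LiesOver p']
    (h : q₁.comap (algebraMap S S') = q₂.comap (algebraMap S S')) : q₁ = q₂ := by
  obtain ⟨hψ, -⟩ := fiberMap_facts R S p R' p' S' hκ
  let E' := PrimeSpectrum.primesOverOrderIsoFiber R' S' p'
  let x₁ : p'.primesOver S' := ⟨q₁, h1, o1⟩
  let x₂ : p'.primesOver S' := ⟨q₂, h2, o2⟩
  have k1 : (E' x₁).asIdeal.comap (Algebra.TensorProduct.includeRight (R := R')
      (A := p'.ResidueField) (B := S')).toRingHom = q₁ := by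
    have := congrArg Subtype.val (E'.symm_apply_apply x₁)
    exact this
  have k2 : (E' x₂).asIdeal.comap (Algebra.TensorProduct.includeRight (R := R')
      (A := p'.ResidueField) (B := S')).toRingHom = q₂ := by
    have := congrArg Subtype.val (E'.symm_apply_apply x₂)
    exact this
  have hc : ∀ P : PrimeSpectrum (p'.Fiber S'),
      (P.comap (fiberMap R S p R' p' S').toRingHom).asIdeal.comap
        (Algebra.TensorProduct.includeRight (R := R) (A := p.ResidueField) (B := S)).toRingHom =
      (P.asIdeal.comap (Algebra.TensorProduct.includeRight (R := R') (A := p'.ResidueField)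
        (B := S')).toRingHom).comap (algebraMap S S') := by
    intro P
    rw [PrimeSpectrum.comap_asIdeal, Ideal.comap_comap, Ideal.comap_comap,
      fiberMap_comp_includeRight]
  let E := PrimeSpectrum.primesOverOrderIsoFiber R S p
  have h3 : E.symm ((E' x₁).comap (fiberMap R S p R' p' S').toRingHom) =
      E.symm ((E' x₂).comap (fiberMap R S p R' p' S').toRingHom) := by
    apply Subtype.ext
    change ((E' x₁).comap (fiberMap R S p R' p' S').toRingHom).asIdeal.comap _ =
      ((E' x₂).comap (fiberMap R S p R' p' S').toRingHom).asIdeal.comap _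
    rw [hc, hc, k1, k2, h]
  have h4 := E.symm.injective h3
  have h5 : E' x₁ = E' x₂ :=
    PrimeSpectrum.comap_injective_of_surjective _ hψ.2 h4
  have h6 := E'.injective h5
  exact congrArg Subtype.val h6

/-- if the extension of `q` to the fibre ring is prime, it contracts to `q`. -/
theorem comap_fiberIdeal_eq (q : Ideal S) [hq : q.IsPrime] [oq : q.LiesOver p]
    (ξ : PrimeSpectrum (p.Fiber S)) (hξ : ξ.asIdeal = FlatCA.fiberIdeal p q) :
    ξ.asIdeal.comap (Algebra.TensorProduct.includeRight (R := R) (A := p.ResidueField)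
      (B := S)).toRingHom = q := by
  let E := PrimeSpectrum.primesOverOrderIsoFiber R S p
  let x : p.primesOver S := ⟨q, hq, oq⟩
  have k1 : (E x).asIdeal.comap (Algebra.TensorProduct.includeRight (R := R)
      (A := p.ResidueField) (B := S)).toRingHom = q := by
    have := congrArg Subtype.val (E.symm_apply_apply x)
    exact this
  apply le_antisymm
  · have h1 : ξ.asIdeal ≤ (E x).asIdeal := by
      rw [hξ]
      unfold FlatCA.fiberIdeal
      rw [Ideal.map_le_iff_le_comap, k1]
    calc ξ.asIdeal.comap _ ≤ (E x).asIdeal.comap _ := Ideal.comap_mono h1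
      _ = q := k1
  · rw [hξ]
    unfold FlatCA.fiberIdeal
    exact Ideal.le_comap_map

/-- transport of the local dimension condition at the point. -/
theorem exists_localDim_fiberMod (hκ : Function.Bijective (resMap R p R' p'))
    (N N' : Type u) [AddCommGroup N] [Module S N] [Module R N] [IsScalarTower R S N]
    [Module.Finite S N] [AddCommGroup N']
    [Module S' N'] [Module R' N'] [IsScalarTower R' S' N'] [Module S N'] [IsScalarTower S S' N']
    (f : N →ₗ[S] N') (hf : IsBaseChange S' f)
    (q : Ideal S) [q.IsPrime] [q.LiesOver p] (q' : Ideal S') [q'.IsPrime] [oq : q'.LiesOver q]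
    [q'.LiesOver p'] (n : ℕ)
    (h1 : ∃ (ξ : PrimeSpectrum (p.Fiber S))
      (hξ : ξ ∈ Module.support (p.Fiber S) (FlatCA.fiberMod p S N)),
      ξ.asIdeal = FlatCA.fiberIdeal p q ∧
      FlatMor.localDim (Module.support (p.Fiber S) (FlatCA.fiberMod p S N)) ⟨ξ, hξ⟩ = n) :
    ∃ (ξ' : PrimeSpectrum (p'.Fiber S'))
      (hξ' : ξ' ∈ Module.support (p'.Fiber S') (FlatCA.fiberMod p' S' N')),
      ξ'.asIdeal = FlatCA.fiberIdeal p' q' ∧
      FlatMor.localDim (Module.support (p'.Fiber S') (FlatCA.fiberMod p' S' N')) ⟨ξ', hξ'⟩ = n := by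
  obtain ⟨ξ, hξ, hξq, hdim⟩ := h1
  obtain ⟨hψ, hfacts⟩ := fiberMap_facts R S p R' p' S' hκ
  obtain ⟨ξ', hξ', hcomap, hdim'⟩ := hfacts N N' f hf ξ hξ
  refine ⟨ξ', hξ', ?_, hdim'.trans hdim⟩
  have hcomapI : ξ'.asIdeal.comap (fiberMap R S p R' p' S').toRingHom = ξ.asIdeal := by
    rw [← hcomap]
    rfl
  -- the contraction of `ξ'` to `S'` is `q'`
  haveI : (ξ'.asIdeal.comap (Algebra.TensorProduct.includeRight (R := R') (A := p'.ResidueField)
      (B := S')).toRingHom).LiesOver p' := liesOver_comap_includeRight R' p' S' ξ'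
  have hq1 : ξ'.asIdeal.comap (Algebra.TensorProduct.includeRight (R := R')
      (A := p'.ResidueField) (B := S')).toRingHom = q' := by
    apply eq_of_comap_eq R S p R' p' S' hκ
    rw [Ideal.comap_comap, ← fiberMap_comp_includeRight R S p R' p' S', ← Ideal.comap_comap,
      hcomapI,
      comap_fiberIdeal_eq R S p q ξ hξq]
    exact oq.over
  apply le_antisymm
  · rw [← Ideal.map_comap_of_surjective (fiberMap R S p R' p' S').toRingHom hψ.2 ξ'.asIdeal,
      hcomapI, hξq]
    unfold FlatCA.fiberIdeal
    rw [Ideal.map_map, fiberMap_comp_includeRight, ← Ideal.map_map]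
    apply Ideal.map_mono
    rw [Ideal.map_le_iff_le_comap]
    exact oq.over.le
  · unfold FlatCA.fiberIdeal
    rw [Ideal.map_le_iff_le_comap, hq1]

end Concrete

end Groth.Agent.Lib.Helper24Dev
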