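import Mathlib
import Groth.Agent.Lib.Helper24DevE

/-!
# Base change of purely transcendental residue field extensions along a map inducing an
isomorphism of residue fields (helper24)
-/

set_option autoImplicit false
set_option backward.isDefEq.respectTransparency.types false
set_option maxHeartbeats 4000000
set_option synthInstance.maxHeartbeats 400000
set_option linter.style.haveILetI false
set_option linter.unusedSectionVars false
open TensorProduct

namespace Groth.Agent.Lib.Helper24Dev

universe u

section Transport

/-- transport of "generated by a transcendence basis" along compatible field isomorphisms. -/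
theorem purelyTrans_transport (K K' L L' : Type u) [Field K] [Field K'] [Field L] [Field L']
    [Algebra K L] [Algebra K' L'] (τ : K ≃+* K') (σ : L ≃+* L')
    (hc : ∀ k, algebraMap K' L' (τ k) = σ (algebraMap K L k)) (ι : Type u) (x : ι → L)
    (hx : IsTranscendenceBasis K x) (hgen : IntermediateField.adjoin K (Set.range x) = ⊤) :
    IsTranscendenceBasis K' (σ ∘ x) ∧
      IntermediateField.adjoin K' (Set.range (σ ∘ x)) = ⊤ := by
  have hcomp : RingHom.comp (algebraMap K' L') (τ : K →+* K') =
      RingHom.comp (σ : L →+* L') (algebraMap K L) := by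
    ext k
    exact hc k
  have hiff : ∀ {κ : Type u} (w : κ → L),
      AlgebraicIndependent K' (σ ∘ w) ↔ AlgebraicIndependent K w := fun w =>
    algebraicIndependent_ringHom_iff_of_comp_eq τ σ σ.injective hcomp
  refine ⟨⟨(hiff x).mpr hx.1, ?_⟩, ?_⟩
  · intro s' hs' hsub
    let s : Set L := σ ⁻¹' s'
    have hs : AlgebraicIndepOn K id s := by
      change AlgebraicIndependent K (fun i : s => (i : L))
      rw [← hiff]
      have hinj : Function.Injective (fun i : s => (⟨σ i.1, i.2⟩ : s')) := by
        intro a b hab
        apply Subtype.ext
        apply σ.injective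
        exact congrArg Subtype.val hab
      exact AlgebraicIndependent.comp hs' _ hinj
    have hsub2 : Set.range x ⊆ s := by
      rintro _ ⟨i, rfl⟩
      exact hsub ⟨i, rfl⟩
    have := hx.2 s hs hsub2
    rw [Set.range_comp, this]
    exact Set.image_preimage_eq s' σ.surjective
  · rw [eq_top_iff]
    intro z' _
    obtain ⟨z, rfl⟩ := σ.surjective z'
    have hz : z ∈ IntermediateField.adjoin K (Set.range x) := by
      rw [hgen]
      trivial
    induction hz using IntermediateField.adjoin_induction with
    | mem a ha =>
      apply IntermediateField.subset_adjoin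
      obtain ⟨i, rfl⟩ := ha
      exact ⟨i, rfl⟩
    | algebraMap k =>
      rw [← hc]
      exact IntermediateField.algebraMap_mem _ _
    | add a b _ _ ha hb =>
      rw [map_add]
      exact add_mem (ha trivial) (hb trivial)
    | inv a _ ha =>
      rw [map_inv₀]
      exact inv_mem (ha trivial)
    | mul a b _ _ ha hb =>
      rw [map_mul]
      exact mul_mem (ha trivial) (hb trivial)

end Transport

section PT

variable (R D : Type u) [CommRing R] [CommRing D] [Algebra R D] (p : Ideal R) [p.IsPrime]
  (y : Ideal D) [y.IsPrime] [hy : y.LiesOver p]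
  (R' : Type u) [CommRing R'] [Algebra R R'] (p' : Ideal R') [p'.IsPrime] [hp' : p'.LiesOver p]
  (D' : Type u) [CommRing D'] [Algebra R' D'] [Algebra R D'] [Algebra D D']
  [IsScalarTower R R' D'] [IsScalarTower R D D']
  (y' : Ideal D') [y'.IsPrime] [hy' : y'.LiesOver y] [hy'p : y'.LiesOver p']

/-- functoriality of the residue field maps for the square `R → R' → D'`, `R → D → D'`. -/
theorem resMap_comm (k : p.ResidueField) :
    Ideal.ResidueField.mapₐ p' y' (Algebra.ofId R' D') hy'p.over (resMap R p R' p' k) =
      Ideal.ResidueField.map y y' (algebraMap D D') hy'.over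
        (Ideal.ResidueField.mapₐ p y (Algebra.ofId R D) hy.over k) := by
  have h : ((Ideal.ResidueField.mapₐ p' y' (Algebra.ofId R' D') hy'p.over).toRingHom.comp
      (resMap R p R' p').toRingHom) =
      (Ideal.ResidueField.map y y' (algebraMap D D') hy'.over).comp
        (Ideal.ResidueField.mapₐ p y (Algebra.ofId R D) hy.over).toRingHom := by
    apply Ideal.ResidueField.ringHom_ext
    ext r
    change Ideal.ResidueField.map p' y' _ _ (Ideal.ResidueField.map p p' _ _ (algebraMap _ _ r)) =
      Ideal.ResidueField.map y y' _ _ (Ideal.ResidueField.map p y _ _ (algebraMap _ _ r))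
    rw [Ideal.ResidueField.map_algebraMap, Ideal.ResidueField.map_algebraMap,
      Ideal.ResidueField.map_algebraMap, Ideal.ResidueField.map_algebraMap]
    congr 1
    change algebraMap R' D' (algebraMap R R' r) = algebraMap D D' (algebraMap R D r)
    rw [← IsScalarTower.algebraMap_apply, ← IsScalarTower.algebraMap_apply]
  exact congr($h k)

variable [Algebra.IsPushout R R' D D']

/-- the residue field of a prime of the base change is generated by the residue field below when
the residue field extension of the base is trivial. -/
theorem residueFieldMap_surjective (hκ : Function.Surjective (resMap R p R' p')) :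
    Function.Surjective (Ideal.ResidueField.map y y' (algebraMap D D') hy'.over) := by
  set σ := Ideal.ResidueField.map y y' (algebraMap D D') hy'.over with hσ
  have key : ∀ a : D', algebraMap D' y'.ResidueField a ∈ σ.fieldRange := by
    intro a
    have hbc : IsBaseChange R' (IsScalarTower.toAlgHom R D D').toLinearMap :=
      Algebra.IsPushout.out
    induction a using hbc.inductionOn with
    | zero => rw [map_zero]; exact zero_mem _
    | tmul d =>
      change algebraMap D' y'.ResidueField (algebraMap D D' d) ∈ σ.fieldRange
      rw [← Ideal.ResidueField.map_algebraMap y y' (algebraMap D D') hy'.over d]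
      exact ⟨_, rfl⟩
    | smul r' a ha =>
      rw [Algebra.smul_def, map_mul]
      refine mul_mem ?_ ha
      rw [← IsScalarTower.algebraMap_apply R' D' y'.ResidueField]
      obtain ⟨k, hk⟩ := hκ (algebraMap R' p'.ResidueField r')
      have h1 := (Ideal.ResidueField.mapₐ p' y' (Algebra.ofId R' D') hy'p.over).commutes r'
      rw [← h1, ← hk, resMap_comm R D p y R' p' D' y' k]
      exact ⟨_, rfl⟩
    | add a b ha hb => rw [map_add]; exact add_mem ha hb
  intro z
  obtain ⟨a, b, -, rfl⟩ := IsFractionRing.div_surjective (D' ⧸ y') z
  obtain ⟨a, rfl⟩ := Ideal.Quotient.mk_surjective a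
  obtain ⟨b, rfl⟩ := Ideal.Quotient.mk_surjective b
  have : algebraMap (D' ⧸ y') y'.ResidueField (Ideal.Quotient.mk y' a) /
      algebraMap (D' ⧸ y') y'.ResidueField (Ideal.Quotient.mk y' b) ∈ σ.fieldRange := by
    rw [Ideal.algebraMap_quotient_residueField_mk, Ideal.algebraMap_quotient_residueField_mk]
    exact div_mem (key a) (key b)
  exact this

/-- **Base change of a purely transcendental residue field extension.** -/
theorem purelyTranscendental_baseChange (hκ : Function.Bijective (resMap R p R' p'))
    (h4 : FlatCA.PurelyTranscendental p y) : FlatCA.PurelyTranscendental p' y' := by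
  unfold FlatCA.PurelyTranscendental at h4 ⊢
  letI a1 : Algebra p.ResidueField y.ResidueField :=
    (Ideal.ResidueField.mapₐ p y (Algebra.ofId R D) hy.over).toRingHom.toAlgebra
  letI a2 : Algebra p'.ResidueField y'.ResidueField :=
    (Ideal.ResidueField.mapₐ p' y' (Algebra.ofId R' D') hy'p.over).toRingHom.toAlgebra
  obtain ⟨ι, x, hx, hgen⟩ := h4
  let τ : p.ResidueField ≃+* p'.ResidueField := RingEquiv.ofBijective (resMap R p R' p') hκ
  let σ : y.ResidueField ≃+* y'.ResidueField :=
    RingEquiv.ofBijective (Ideal.ResidueField.map y y' (algebraMap D D') hy'.over)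
      ⟨RingHom.injective _, residueFieldMap_surjective R D p y R' p' D' y' hκ.2⟩
  have hc : ∀ k, algebraMap p'.ResidueField y'.ResidueField (τ k) =
      σ (algebraMap p.ResidueField y.ResidueField k) := fun k =>
    resMap_comm R D p y R' p' D' y' k
  obtain ⟨h1, h2⟩ := purelyTrans_transport _ _ _ _ τ σ hc ι x hx hgen
  exact ⟨ι, σ ∘ x, h1, h2⟩

end PT

end Groth.Agent.Lib.Helper24Dev
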