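import Mathlib
import Groth.Agent.Lib.Helper24DevF

/-!
# Base change of a one step dévissage at a point along a map inducing an isomorphism of residue
fields (helper24)
-/

set_option autoImplicit false
set_option backward.isDefEq.respectTransparency.types false
set_option maxHeartbeats 4000000
set_option synthInstance.maxHeartbeats 400000
set_option linter.style.haveILetI false
set_option linter.unusedSectionVars false
open TensorProduct

namespace Groth.Agent.Lib.Helper24Dev

universe u

theorem devissageAt_baseChange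
    (R S : Type u) [CommRing R] [CommRing S] [Algebra R S] [Algebra.FiniteType R S]
    (N : Type u) [AddCommGroup N] [Module S N] [Module R N] [IsScalarTower R S N] [Module.Finite S N]
    (p : Ideal R) [p.IsPrime] (q : Ideal S) [q.IsPrime] [q.LiesOver p]
    (C D G : Type u) [CommRing C] [CommRing D] [Algebra S C] [Algebra R C] [IsScalarTower R S C]
    [Algebra R D] [Algebra D C] [IsScalarTower R D C] [AddCommGroup G] [Module C G] [Module S G]
    [IsScalarTower S C G] (n : ℕ)
    (h : FlatCA.IsOneStepDevissage R S N p C D G n)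
    (z : Ideal C) [z.IsPrime] (y : Ideal D) [y.IsPrime] [hzq : z.LiesOver q] [hzy : z.LiesOver y]
    [hyp : y.LiesOver p]
    (h1 : ∃ (ξ : PrimeSpectrum (p.Fiber S)) (hξ : ξ ∈ Module.support (p.Fiber S) (FlatCA.fiberMod p S N)),
      ξ.asIdeal = FlatCA.fiberIdeal p q ∧
      FlatMor.localDim (Module.support (p.Fiber S) (FlatCA.fiberMod p S N)) ⟨ξ, hξ⟩ = n)
    (h3 : ∀ (z₁ : Ideal C) [z₁.IsPrime], z₁.LiesOver y → z₁ = z)
    (h4 : FlatCA.PurelyTranscendental p y)
    (R' : Type u) [CommRing R'] [Algebra R R'] (p' : Ideal R') [p'.IsPrime] [hp' : p'.LiesOver p]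
    (hκ : Function.Bijective (Ideal.ResidueField.mapₐ p p' (Algebra.ofId R R') hp'.over))
    (S' C' D' : Type u) [CommRing S'] [CommRing C'] [CommRing D']
    [Algebra R' S'] [Algebra R S'] [Algebra S S'] [IsScalarTower R R' S'] [IsScalarTower R S S']
    [Algebra.IsPushout R R' S S']
    [Algebra R' C'] [Algebra R C'] [Algebra C C'] [IsScalarTower R R' C'] [IsScalarTower R C C']
    [Algebra.IsPushout R R' C C']
    [Algebra R' D'] [Algebra R D'] [Algebra D D'] [IsScalarTower R R' D'] [IsScalarTower R D D']
    [Algebra.IsPushout R R' D D']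
    [Algebra S' C'] [IsScalarTower R' S' C'] [Algebra S C'] [IsScalarTower S S' C'] [IsScalarTower S C C']
    [Algebra D' C'] [IsScalarTower R' D' C'] [Algebra D C'] [IsScalarTower D D' C'] [IsScalarTower D C C']
    (N' : Type u) [AddCommGroup N'] [Module S' N'] [Module R' N'] [IsScalarTower R' S' N']
    [Module S N'] [IsScalarTower S S' N'] (f : N →ₗ[S] N') (hf : IsBaseChange S' f)
    (G' : Type u) [AddCommGroup G'] [Module C' G'] [Module S' G'] [IsScalarTower S' C' G']
    [Module C G'] [IsScalarTower C C' G'] (g : G →ₗ[C] G') (hg : IsBaseChange C' g)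
    (q' : Ideal S') [q'.IsPrime] [hq'q : q'.LiesOver q] [hq'p : q'.LiesOver p']
    (z' : Ideal C') [z'.IsPrime] [hz'z : z'.LiesOver z] [hz'p : z'.LiesOver p']
    (y' : Ideal D') [y'.IsPrime] [hy'y : y'.LiesOver y] [hy'p : y'.LiesOver p'] :
    (∀ (q₁ : Ideal S') [q₁.IsPrime], q₁.LiesOver q → q₁.LiesOver p' → q₁ = q') ∧
    FlatCA.IsOneStepDevissage R' S' N' p' C' D' G' n ∧
    (∃ (ξ' : PrimeSpectrum (p'.Fiber S')) (hξ' : ξ' ∈ Module.support (p'.Fiber S') (FlatCA.fiberMod p' S' N')),
      ξ'.asIdeal = FlatCA.fiberIdeal p' q' ∧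
      FlatMor.localDim (Module.support (p'.Fiber S') (FlatCA.fiberMod p' S' N')) ⟨ξ', hξ'⟩ = n) ∧
    z'.LiesOver q' ∧ z'.LiesOver y' ∧
    (∀ (z₁ : Ideal C') [z₁.IsPrime], z₁.LiesOver y' → z₁ = z') ∧
    FlatCA.PurelyTranscendental p' y' := by
  have hκ' : Function.Bijective (resMap R p R' p') := hκ
  -- z' lies over q'
  have hzq' : z'.LiesOver q' := by
    constructor
    haveI : (z'.under S').IsPrime := Ideal.IsPrime.under S' z'
    haveI : (z'.under S').LiesOver p' := by
      constructor
      rw [Ideal.under_under]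
      exact hz'p.over
    apply eq_of_comap_eq R S p R' p' S' hκ'
    change _ = (z'.comap (algebraMap S' C')).comap (algebraMap S S')
    rw [Ideal.comap_comap, ← IsScalarTower.algebraMap_eq, IsScalarTower.algebraMap_eq S C C',
      ← Ideal.comap_comap]
    change q'.under S = (z'.under C).under S
    rw [← hz'z.over, ← hzq.over, ← hq'q.over]
  have hzy' : z'.LiesOver y' := by
    constructor
    haveI : (z'.under D').IsPrime := Ideal.IsPrime.under D' z'
    haveI : (z'.under D').LiesOver p' := by
      constructor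
      rw [Ideal.under_under]
      exact hz'p.over
    apply eq_of_comap_eq R D p R' p' D' hκ'
    change _ = (z'.comap (algebraMap D' C')).comap (algebraMap D D')
    rw [Ideal.comap_comap, ← IsScalarTower.algebraMap_eq, IsScalarTower.algebraMap_eq D C C',
      ← Ideal.comap_comap]
    change y'.under D = (z'.under C).under D
    rw [← hz'z.over, ← hzy.over, ← hy'y.over]
  refine ⟨?_, isOneStepDevissage_baseChange R S N p C D G n h R' p' S' C' D' N' f hf G' g hg,
    exists_localDim_fiberMod R S p R' p' S' hκ' N N' f hf q q' n h1, hzq', hzy', ?_,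
    purelyTranscendental_baseChange R D p y R' p' D' y' hκ' h4⟩
  · intro q₁ _ hq₁q hq₁p
    apply eq_of_comap_eq R S p R' p' S' hκ'
    change q₁.under S = q'.under S
    rw [← hq₁q.over, ← hq'q.over]
  · intro z₁ _ hz₁
    haveI : z₁.LiesOver p' := Ideal.LiesOver.trans z₁ y' p'
    haveI : (z₁.under C).IsPrime := Ideal.IsPrime.under C z₁
    have hz0 : z₁.under C = z := by
      apply h3
      constructor
      change y = (z₁.comap (algebraMap C C')).comap (algebraMap D C)
      rw [Ideal.comap_comap, ← IsScalarTower.algebraMap_eq, IsScalarTower.algebraMap_eq D D' C',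
        ← Ideal.comap_comap]
      change y = (z₁.under D').under D
      rw [← hz₁.over, ← hy'y.over]
    apply eq_of_comap_eq R C p R' p' C' hκ'
    change z₁.under C = z'.under C
    rw [hz0, ← hz'z.over]

end Groth.Agent.Lib.Helper24Dev
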