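import Mathlib
import Groth.Prelude.Def_FlatCA

/-!
# The fibre ring of `D` over `p` when `pD` is prime, torsion fibre modules (helper24)
-/

set_option autoImplicit false
set_option backward.isDefEq.respectTransparency.types false
set_option maxHeartbeats 4000000
set_option synthInstance.maxHeartbeats 400000
set_option linter.style.haveILetI false
set_option linter.unusedSectionVars false
open TensorProduct

namespace Groth.Agent.Lib.Helper24Dev

universe u

section Bound

theorem withBot_lt_of_add_one_le (a : WithBot ℕ∞) (n : ℕ) (h : a + 1 ≤ (n : WithBot ℕ∞)) :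
    a < (n : WithBot ℕ∞) := by
  induction a using WithBot.recBotCoe with
  | bot => exact WithBot.bot_lt_coe _
  | coe b =>
    induction b using ENat.recTopCoe with
    | top =>
      exfalso
      have : ((⊤ : ℕ∞) : WithBot ℕ∞) + 1 = ((⊤ : ℕ∞) : WithBot ℕ∞) := by
        rw [← WithBot.coe_one, ← WithBot.coe_add, top_add]
      rw [this] at h
      have h2 : ((⊤ : ℕ∞) : WithBot ℕ∞) ≤ ((n : ℕ∞) : WithBot ℕ∞) := h
      rw [WithBot.coe_le_coe] at h2
      exact absurd h2 (by simp)
    | coe m =>
      have h2 : (((m + 1 : ℕ) : ℕ∞) : WithBot ℕ∞) ≤ ((n : ℕ∞) : WithBot ℕ∞) := by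
        have e1 : (((m + 1 : ℕ) : ℕ∞) : WithBot ℕ∞) = (((m : ℕ) : ℕ∞) : WithBot ℕ∞) + 1 := by
          push_cast
          rfl
        rw [e1]
        exact h
      rw [WithBot.coe_le_coe, Nat.cast_le] at h2
      have h3 : (((m : ℕ) : ℕ∞) : WithBot ℕ∞) < ((n : ℕ∞) : WithBot ℕ∞) := by
        rw [WithBot.coe_lt_coe, Nat.cast_lt]
        omega
      exact h3

/-- a finite module over a domain of dimension at most `n` which is killed by a nonzero element
has support of dimension less than `n`. -/
theorem supportDim_lt_of_smul_eq_zero (F : Type u) [CommRing F] [IsDomain F] (Q : Type u)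
    [AddCommGroup Q] [Module F Q] [Module.Finite F Q] (n : ℕ)
    (hdim : ringKrullDim F ≤ (n : WithBot ℕ∞)) (x : F) (hx : x ≠ 0) (hxQ : ∀ q : Q, x • q = 0) :
    Module.supportDim F Q < (n : WithBot ℕ∞) := by
  rw [Module.supportDim_eq_ringKrullDim_quotient_annihilator]
  have hxI : Ideal.span {x} ≤ Module.annihilator F Q := by
    rw [Ideal.span_singleton_le_iff_mem, Module.mem_annihilator]
    exact hxQ
  have h1 : ringKrullDim (F ⧸ Module.annihilator F Q) ≤ ringKrullDim (F ⧸ Ideal.span {x}) :=
    ringKrullDim_le_of_surjective (Ideal.Quotient.factor hxI) (Ideal.Quotient.factor_surjective hxI)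
  have h2 : ringKrullDim (F ⧸ Ideal.span {x}) + 1 ≤ ringKrullDim F :=
    ringKrullDim_quotient_succ_le_of_nonZeroDivisor (mem_nonZeroDivisors_of_ne_zero hx)
  apply withBot_lt_of_add_one_le
  calc ringKrullDim (F ⧸ Module.annihilator F Q) + 1
      ≤ ringKrullDim (F ⧸ Ideal.span {x}) + 1 := by gcongr
    _ ≤ ringKrullDim F := h2
    _ ≤ n := hdim

end Bound

section FibreDomain

attribute [local instance] Algebra.TensorProduct.rightAlgebra

variable (R D : Type u) [CommRing R] [CommRing D] [Algebra R D] (p : Ideal R) [p.IsPrime]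

theorem one_tmul_eq_zero_of_mem_map (d : D) (hd : d ∈ p.map (algebraMap R D)) :
    (1 : p.ResidueField) ⊗ₜ[R] d = 0 := by
  unfold Ideal.map at hd
  induction hd using Submodule.span_induction with
  | mem x hx =>
    obtain ⟨a, ha, rfl⟩ := hx
    rw [Algebra.algebraMap_eq_smul_one, ← TensorProduct.smul_tmul, Algebra.smul_def, mul_one,
      Ideal.algebraMap_residueField_eq_zero.mpr ha, TensorProduct.zero_tmul]
  | zero => rw [TensorProduct.tmul_zero]
  | add x y _ _ hx hy => rw [TensorProduct.tmul_add, hx, hy, add_zero]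
  | smul c x _ hx =>
    have : (1 : p.ResidueField) ⊗ₜ[R] (c • x) = ((1 : p.ResidueField) ⊗ₜ[R] c) * (1 ⊗ₜ[R] x) := by
      rw [Algebra.TensorProduct.tmul_mul_tmul, mul_one, smul_eq_mul]
    rw [this, hx, mul_zero]

variable [hP : (p.map (algebraMap R D)).IsPrime]

/-- if the fibre ring is nonzero then `pD` lies over `p`. -/
theorem liesOver_map_of_nontrivial [Nontrivial (p.Fiber D)] :
    (p.map (algebraMap R D)).LiesOver p := by
  constructor
  ext a
  constructor
  · intro ha
    exact Ideal.mem_map_of_mem _ ha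
  · intro ha
    by_contra hap
    have h0 := one_tmul_eq_zero_of_mem_map R D p _ ha
    have hu : algebraMap R p.ResidueField a ≠ 0 := by
      rwa [Ne, Ideal.algebraMap_residueField_eq_zero]
    have h1 : (algebraMap R p.ResidueField a) ⊗ₜ[R] (1 : D) = 0 := by
      rw [← h0, Algebra.algebraMap_eq_smul_one a, Algebra.algebraMap_eq_smul_one a,
        TensorProduct.smul_tmul]
    have h2 : ((algebraMap R p.ResidueField a)⁻¹ ⊗ₜ[R] (1 : D)) *
        ((algebraMap R p.ResidueField a) ⊗ₜ[R] (1 : D)) = (1 : p.Fiber D) := by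
      rw [Algebra.TensorProduct.tmul_mul_tmul, inv_mul_cancel₀ hu, mul_one]
      rfl
    rw [h1, mul_zero] at h2
    exact zero_ne_one h2

/-- an element of `D` mapping to zero in the fibre ring lies in `pD`. -/
theorem mem_map_of_one_tmul_eq_zero [Nontrivial (p.Fiber D)] (s : D)
    (hs : (1 : p.ResidueField) ⊗ₜ[R] s = 0) : s ∈ p.map (algebraMap R D) := by
  haveI := liesOver_map_of_nontrivial R D p
  let E := PrimeSpectrum.primesOverOrderIsoFiber R D p
  let x : p.primesOver D := ⟨p.map (algebraMap R D), hP, inferInstance⟩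
  have k1 : (E x).asIdeal.comap (Algebra.TensorProduct.includeRight (R := R)
      (A := p.ResidueField) (B := D)).toRingHom = p.map (algebraMap R D) := by
    have := congrArg Subtype.val (E.symm_apply_apply x)
    exact this
  rw [← k1, Ideal.mem_comap]
  change (1 : p.ResidueField) ⊗ₜ[R] s ∈ (E x).asIdeal
  rw [hs]
  exact zero_mem _

/-- the fibre ring of `D` over `p` is a domain when `pD` is prime and the fibre is nonempty. -/
theorem isDomain_fiber [Nontrivial (p.Fiber D)] : IsDomain (p.Fiber D) := by
  haveI : NoZeroDivisors (p.Fiber D) := by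
    constructor
    intro x y hxy
    obtain ⟨r₁, hr₁, s₁, e₁⟩ := Ideal.Fiber.exists_smul_eq_one_tmul p x
    obtain ⟨r₂, hr₂, s₂, e₂⟩ := Ideal.Fiber.exists_smul_eq_one_tmul p y
    have hzero : ∀ (r : R) (z : p.Fiber D), r ∉ p → r • z = 0 → z = 0 := by
      intro r z hr hz
      rw [← algebraMap_smul p.ResidueField r z] at hz
      rcases smul_eq_zero.mp hz with h | h
      · exact absurd (Ideal.algebraMap_residueField_eq_zero.mp h) hr
      · exact h
    have h1 : (1 : p.ResidueField) ⊗ₜ[R] (s₁ * s₂) = 0 := by
      have : (1 : p.ResidueField) ⊗ₜ[R] (s₁ * s₂) = (r₁ • x) * (r₂ • y) := by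
        rw [e₁, e₂, Algebra.TensorProduct.tmul_mul_tmul, mul_one]
      rw [this, smul_mul_smul_comm, hxy, smul_zero]
    have h2 := mem_map_of_one_tmul_eq_zero R D p _ h1
    rcases hP.mem_or_mem h2 with h | h
    · left
      apply hzero r₁ x hr₁
      rw [e₁]
      exact one_tmul_eq_zero_of_mem_map R D p _ h
    · right
      apply hzero r₂ y hr₂
      rw [e₂]
      exact one_tmul_eq_zero_of_mem_map R D p _ h
  exact NoZeroDivisors.to_isDomain _

end FibreDomain

section LinAlg

variable (D : Type u) [CommRing D] (K : Type u) [Field K] [Algebra D K]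
  (G : Type u) [AddCommGroup G] [Module D G]

/-- if the base change of `α` to `K` is surjective then the base change of its cokernel is zero. -/
theorem subsingleton_baseChange_coker {r : ℕ} (α : (Fin r → D) →ₗ[D] G)
    (hα : Function.Surjective (α.baseChange K)) :
    Subsingleton (K ⊗[D] (G ⧸ LinearMap.range α)) := by
  let π : G →ₗ[D] G ⧸ LinearMap.range α := (LinearMap.range α).mkQ
  have hπ : Function.Surjective (π.baseChange K) :=
    LinearMap.lTensor_surjective K (Submodule.mkQ_surjective _)
  have hzero : π ∘ₗ α = 0 := by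
    ext v
    simp [π]
  refine ⟨fun a b => ?_⟩
  have h0 : ∀ z : K ⊗[D] (G ⧸ LinearMap.range α), z = 0 := by
    intro z
    obtain ⟨w, rfl⟩ := hπ z
    obtain ⟨v, rfl⟩ := hα w
    rw [← LinearMap.comp_apply, ← LinearMap.baseChange_comp, hzero, LinearMap.baseChange_zero,
      LinearMap.zero_apply]
  rw [h0 a, h0 b]

/-- existence of a map from a finite free module which becomes bijective over `K`. -/
theorem exists_bijective_baseChange [Module.Finite D G] [Nontrivial (K ⊗[D] G)] :
    ∃ (r : ℕ) (α : (Fin r → D) →ₗ[D] G), 0 < r ∧ Function.Bijective (α.baseChange K) := by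
  let s : Set (K ⊗[D] G) := Set.range (TensorProduct.mk D K G 1)
  have hs : ⊤ ≤ Submodule.span K s := by
    intro z _
    induction z using TensorProduct.induction_on with
    | zero => exact zero_mem _
    | tmul c g =>
      have : c ⊗ₜ[D] g = c • ((1 : K) ⊗ₜ[D] g) := by
        rw [TensorProduct.smul_tmul', smul_eq_mul, mul_one]
      rw [this]
      exact Submodule.smul_mem _ _ (Submodule.subset_span ⟨g, rfl⟩)
    | add x y hx hy => exact add_mem (hx trivial) (hy trivial)
  let b := Module.Basis.ofSpan hs
  haveI : Module.Finite K (K ⊗[D] G) := Module.Finite.base_change D K G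
  haveI : Fintype ((linearIndepOn_empty K id).extend (Set.empty_subset s)) :=
    FiniteDimensional.fintypeBasisIndex b
  let ι := ((linearIndepOn_empty K id).extend (Set.empty_subset s))
  let r := Fintype.card ι
  let e : ι ≃ Fin r := Fintype.equivFin ι
  have hsub : ∀ i : ι, ∃ g : G, (1 : K) ⊗ₜ[D] g = b i := by
    intro i
    obtain ⟨g, hg⟩ := Module.Basis.ofSpan_subset hs ⟨i, rfl⟩
    exact ⟨g, hg⟩
  choose gg hgg using hsub
  let α : (Fin r → D) →ₗ[D] G := (Pi.basisFun D (Fin r)).constr D (fun i => gg (e.symm i))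
  have hr : 0 < r := by
    have h1 : Module.finrank K (K ⊗[D] G) = r := Module.finrank_eq_card_basis b
    rw [← h1]
    exact Module.finrank_pos
  refine ⟨r, α, hr, ?_⟩
  let b1 : Module.Basis (Fin r) K (K ⊗[D] (Fin r → D)) := (Pi.basisFun D (Fin r)).baseChange K
  let b2 : Module.Basis (Fin r) K (K ⊗[D] G) := b.reindex e
  have heq : α.baseChange K = (b1.equiv b2 (Equiv.refl _)).toLinearMap := by
    apply b1.ext
    intro i
    rw [LinearEquiv.coe_coe, Module.Basis.equiv_apply]
    change α.baseChange K ((Pi.basisFun D (Fin r)).baseChange K i) = b2 i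
    rw [Module.Basis.baseChange_apply, LinearMap.baseChange_tmul, Module.Basis.constr_basis,
      Module.Basis.reindex_apply, hgg]
  rw [heq]
  exact (b1.equiv b2 (Equiv.refl _)).bijective

end LinAlg

section Kill

theorem exists_smul_eq_zero_of_subsingleton_residueField (D : Type u) [CommRing D] (P : Ideal D)
    [hP : P.IsPrime] (T : Type u) [AddCommGroup T] [Module D T] [Module.Finite D T]
    (h : Subsingleton (P.ResidueField ⊗[D] T)) : ∃ s : D, s ∉ P ∧ ∀ t : T, s • t = 0 := by
  have h1 : (⟨P, hP⟩ : PrimeSpectrum D) ∉ Module.support D T := by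
    rw [Module.mem_support_iff_nontrivial_residueField_tensorProduct]
    exact not_nontrivial_iff_subsingleton.mpr h
  rw [Module.support_eq_zeroLocus, PrimeSpectrum.mem_zeroLocus, SetLike.coe_subset_coe,
    SetLike.not_le_iff_exists] at h1
  obtain ⟨s, hs, hsP⟩ := h1
  exact ⟨s, hsP, fun t => Module.mem_annihilator.mp hs t⟩

attribute [local instance] Algebra.TensorProduct.rightAlgebra

/-- the fibre module of a module killed by `s` is killed by the image of `s`. -/
theorem one_tmul_smul_tensor (R D : Type u) [CommRing R] [CommRing D] [Algebra R D] (p : Ideal R)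
    [p.IsPrime] (T : Type u) [AddCommGroup T] [Module D T]
    (s : D) (hs : ∀ t : T, s • t = 0)
    (q : (p.Fiber D) ⊗[D] T) : ((1 : p.ResidueField) ⊗ₜ[R] s : p.Fiber D) • q = 0 := by
  induction q using TensorProduct.induction_on with
  | zero => rw [smul_zero]
  | tmul f t =>
    rw [TensorProduct.smul_tmul', smul_eq_mul]
    have : ((1 : p.ResidueField) ⊗ₜ[R] s : p.Fiber D) * f = s • f := by
      rw [Algebra.smul_def]
      rfl
    rw [this, TensorProduct.smul_tmul, hs, TensorProduct.tmul_zero]
  | add x y hx hy => rw [smul_add, hx, hy, add_zero]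

theorem one_tmul_smul_fiberMod (R D : Type u) [CommRing R] [CommRing D] [Algebra R D] (p : Ideal R)
    [p.IsPrime] (T : Type u) [AddCommGroup T] [Module D T] [Module R T] [IsScalarTower R D T]
    (s : D) (hs : ∀ t : T, s • t = 0)
    (q : FlatCA.fiberMod p D T) : ((1 : p.ResidueField) ⊗ₜ[R] s : p.Fiber D) • q = 0 :=
  one_tmul_smul_tensor R D p T s hs q

end Kill

section DimDrop

attribute [local instance] Algebra.TensorProduct.rightAlgebra

/-- **Dimension drop**: if `pD` is prime, the fibre ring of `D` over `p` has dimension at most `n`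
and the finite `D`-module `T` vanishes at the generic point of the fibre, then the support of
its fibre module has dimension less than `n`. -/
theorem supportDim_fiberMod_lt (R D : Type u) [CommRing R] [CommRing D] [Algebra R D]
    (p : Ideal R) [p.IsPrime] [hP : (p.map (algebraMap R D)).IsPrime]
    (T : Type u) [AddCommGroup T] [Module D T] [Module R T] [IsScalarTower R D T]
    [Module.Finite D T] (n : ℕ) (hdim : ringKrullDim (p.Fiber D) ≤ (n : WithBot ℕ∞))
    (h : Subsingleton ((p.map (algebraMap R D)).ResidueField ⊗[D] T)) :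
    Module.supportDim (p.Fiber D) (FlatCA.fiberMod p D T) < (n : WithBot ℕ∞) := by
  rcases subsingleton_or_nontrivial (p.Fiber D) with hF | hF
  · haveI : Subsingleton (FlatCA.fiberMod p D T) := by
      refine ⟨fun a b => ?_⟩
      rw [← one_smul (p.Fiber D) a, ← one_smul (p.Fiber D) b, Subsingleton.elim (1 : p.Fiber D) 0,
        zero_smul, zero_smul]
    rw [Module.supportDim_eq_bot_of_subsingleton]
    exact WithBot.bot_lt_coe _
  · haveI := isDomain_fiber R D p
    obtain ⟨s, hsP, hsT⟩ := exists_smul_eq_zero_of_subsingleton_residueField D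
      (p.map (algebraMap R D)) T h
    haveI : Module.Finite (p.Fiber D) (FlatCA.fiberMod p D T) :=
      inferInstanceAs (Module.Finite (p.Fiber D) ((p.Fiber D) ⊗[D] T))
    refine supportDim_lt_of_smul_eq_zero (p.Fiber D) (FlatCA.fiberMod p D T) n hdim
      ((1 : p.ResidueField) ⊗ₜ[R] s) ?_ (one_tmul_smul_fiberMod R D p T s hsT)
    intro h0
    exact hsP (mem_map_of_one_tmul_eq_zero R D p s h0)

end DimDrop

end Groth.Agent.Lib.Helper24Dev
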