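import Mathlib
import Groth.Agent.Lib.Helper24DevC
import Groth.Agent.Lib.Helper24DevH
import Groth.Agent.Lib.Helper4SmoothDim

/-!
# One step dévissage: the fibre of the smooth algebra (helper24)
-/

set_option autoImplicit false
set_option backward.isDefEq.respectTransparency.types false
set_option maxHeartbeats 4000000
set_option synthInstance.maxHeartbeats 400000
set_option linter.style.haveILetI false
set_option linter.unusedSectionVars false
open TensorProduct CategoryTheory AlgebraicGeometry

namespace Groth.Agent.Lib.Helper24Dev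

universe u

section X

/-- dimension of the support is insensitive to finite push forward, pushout form. -/
theorem supportDim_tensor_eq_of_isPushout (S AS C AC : Type u) [CommRing S] [CommRing AS]
    [CommRing C] [CommRing AC] [Algebra S AS] [Algebra S C] [Algebra AS AC] [Algebra C AC]
    [Algebra S AC] [IsScalarTower S AS AC] [IsScalarTower S C AC] [Algebra.IsPushout S AS C AC]
    [Module.Finite S C] [IsNoetherianRing AS] (G : Type u) [AddCommGroup G] [Module C G]
    [Module S G] [IsScalarTower S C G] [Module.Finite C G] :
    Module.supportDim AS (AS ⊗[S] G) = Module.supportDim AC (AC ⊗[C] G) := by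
  let e : AC ⊗[C] G ≃ₗ[AS] AS ⊗[S] G := Algebra.IsPushout.cancelBaseChange S AS C AC G
  rw [← Module.supportDim_eq_of_equiv e]
  haveI : Module.Finite AS AC := finite_of_isPushout S AS C AC
  haveI : Module.Finite AS (AC ⊗[C] G) := Module.Finite.trans AC _
  exact Groth.Agent.Lib.Helper5.supportDim_eq_supportDim_of_finite AS AC (AC ⊗[C] G)

end X

section Sm

theorem finiteType_of_smoothRelDim (R D : Type u) [CommRing R] [CommRing D] [Algebra R D] (n : ℕ)
    (h : FlatCA.SmoothRelDim n R D) : Algebra.FiniteType R D := by
  haveI : SmoothOfRelativeDimension n (Spec.map (CommRingCat.ofHom (algebraMap R D))) := h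
  haveI : Smooth (Spec.map (CommRingCat.ofHom (algebraMap R D))) :=
    SmoothOfRelativeDimension.smooth n _
  have h1 : LocallyOfFiniteType (Spec.map (CommRingCat.ofHom (algebraMap R D))) := inferInstance
  rw [HasRingHomProperty.Spec_iff (P := @LocallyOfFiniteType)] at h1
  exact RingHom.finiteType_algebraMap.mp h1

theorem ringKrullDim_le_of_smoothRelDim (k F : Type u) [Field k] [CommRing F] [Algebra k F] (n : ℕ)
    (h : FlatCA.SmoothRelDim n k F) : ringKrullDim F ≤ (n : WithBot ℕ∞) := by
  haveI : SmoothOfRelativeDimension n (Spec.map (CommRingCat.ofHom (algebraMap k F))) := h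
  have h1 := Groth.Agent.Lib.Helper4.SmoothDim.topologicalKrullDim_le_of_smooth k
    (Spec.map (CommRingCat.ofHom (algebraMap k F))) n
  rw [← PrimeSpectrum.topologicalKrullDim_eq_ringKrullDim F]
  exact h1

end Sm

section Chain

attribute [local instance] Algebra.TensorProduct.rightAlgebra

/-- the dimension of the support of the fibre module computed on `C` instead of `S`. -/
theorem supportDim_fiber_tensor_eq (R S C : Type u) [CommRing R] [CommRing S] [CommRing C]
    [Algebra R S] [Algebra R C] [Algebra S C] [IsScalarTower R S C] (p : Ideal R) [p.IsPrime]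
    [Algebra.FiniteType R S] [Module.Finite S C]
    (G : Type u) [AddCommGroup G] [Module C G] [Module S G] [IsScalarTower S C G]
    [Module.Finite C G] :
    Module.supportDim (p.Fiber S) ((p.Fiber S) ⊗[S] G) =
      Module.supportDim (p.Fiber C) ((p.Fiber C) ⊗[C] G) := by
  set k := p.ResidueField with hk
  set AS := k ⊗[R] S with hAS
  set AC := k ⊗[R] C with hAC
  let ψ : AS →ₐ[k] AC := Algebra.TensorProduct.map (AlgHom.id k k) (IsScalarTower.toAlgHom R S C)
  letI a1 : Algebra AS AC := ψ.toRingHom.toAlgebra
  haveI t1 : IsScalarTower k AS AC := IsScalarTower.of_algebraMap_eq fun x => (ψ.commutes x).symm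
  letI a2 : Algebra S AC := ((algebraMap C AC).comp (algebraMap S C)).toAlgebra
  haveI t2 : IsScalarTower S C AC := IsScalarTower.of_algebraMap_eq fun x => rfl
  haveI t3 : IsScalarTower S AS AC := IsScalarTower.of_algebraMap_eq fun x => by
    change _ = ψ ((1 : k) ⊗ₜ[R] x)
    rw [Algebra.TensorProduct.map_tmul]
    rfl
  haveI : Algebra.IsPushout S AS C AC := isPushout_right R k S AS C AC
  haveI : Algebra.FiniteType k AS := finiteType_of_isPushout' R k S AS
  haveI : IsNoetherianRing AS := Algebra.FiniteType.isNoetherianRing k AS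
  exact supportDim_tensor_eq_of_isPushout S AS C AC G

end Chain

section Final

attribute [local instance] Algebra.TensorProduct.rightAlgebra

theorem oneStepDevissage_fiber_basis_and_dim_drop
    {R S : Type u} [CommRing R] [CommRing S] [Algebra R S] [Algebra.FiniteType R S]
    (N : Type u) [AddCommGroup N] [Module S N] [Module R N] [IsScalarTower R S N]
    [Module.Finite S N] (p : Ideal R) [p.IsPrime]
    (C D G : Type u) [CommRing C] [CommRing D] [Algebra S C] [Algebra R C] [IsScalarTower R S C]
    [Algebra R D] [Algebra D C] [IsScalarTower R D C] [AddCommGroup G] [Module C G] [Module S G]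
    [IsScalarTower S C G]
    [Module D G] [IsScalarTower D C G] [Module R G] [IsScalarTower R D G]
    (n : ℕ) (h : FlatCA.IsOneStepDevissage R S N p C D G n)
    [hP : (p.map (algebraMap R D)).IsPrime] :
    (∃ (r : ℕ) (α : (Fin r → D) →ₗ[D] G), 0 < r ∧
      Function.Bijective (α.baseChange (p.map (algebraMap R D)).ResidueField)) ∧
    ∀ (r : ℕ) (α : (Fin r → D) →ₗ[D] G),
      Function.Bijective (α.baseChange (p.map (algebraMap R D)).ResidueField) →
      Module.supportDim (p.Fiber D) (FlatCA.fiberMod p D (G ⧸ LinearMap.range α)) <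
        (n : WithBot ℕ∞) := by
  obtain ⟨⟨e⟩, hsurj, hfp, hfinDC, hfinCG, hsm, hgi, hdim⟩ := h
  haveI := hfinDC
  haveI := hfinCG
  haveI : Module.Finite D G := Module.Finite.trans C G
  haveI : Algebra.FiniteType R D := finiteType_of_smoothRelDim R D n hsm
  haveI : Module.Finite S C := Module.Finite.of_surjective (Algebra.linearMap S C) hsurj
  -- the fibre ring of `D` has dimension at most `n`
  have hdimF : ringKrullDim (p.Fiber D) ≤ (n : WithBot ℕ∞) :=
    ringKrullDim_le_of_smoothRelDim p.ResidueField (p.Fiber D) n
      (smoothRelDim_baseChange R p.ResidueField D (p.Fiber D) n hsm)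
  -- the fibre module of `G` over `D` has support of dimension `n`
  have hG : Module.supportDim (p.Fiber D) (FlatCA.fiberMod p D G) = (n : WithBot ℕ∞) := by
    change Module.supportDim (p.Fiber D) ((p.Fiber D) ⊗[D] G) = _
    rw [supportDim_fiber_tensor_eq R D C p G, ← supportDim_fiber_tensor_eq R S C p G, ← hdim]
    exact (Module.supportDim_eq_of_equiv
      (TensorProduct.AlgebraTensorModule.congr (LinearEquiv.refl (p.Fiber S) (p.Fiber S)) e)).symm
  have hnt : ¬ Subsingleton ((p.map (algebraMap R D)).ResidueField ⊗[D] G) := by
    intro hsub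
    have := supportDim_fiberMod_lt R D p G n hdimF hsub
    rw [hG] at this
    exact lt_irrefl _ this
  haveI : Nontrivial ((p.map (algebraMap R D)).ResidueField ⊗[D] G) :=
    not_subsingleton_iff_nontrivial.mp hnt
  refine ⟨exists_bijective_baseChange D (p.map (algebraMap R D)).ResidueField G, ?_⟩
  intro r α hα
  haveI : Module.Finite D (G ⧸ LinearMap.range α) := inferInstance
  exact supportDim_fiberMod_lt R D p (G ⧸ LinearMap.range α) n hdimF
    (subsingleton_baseChange_coker D _ G α hα.2)

end Final

end Groth.Agent.Lib.Helper24Dev
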