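import Mathlib
import Groth.Agent.Lib.Helper24DevG

/-!
# Primes of a base change over a given prime when the residue field extension is trivial;
tools for base change of complete dévissages at a point (helper24)
-/

set_option autoImplicit false
set_option backward.isDefEq.respectTransparency.types false
set_option maxHeartbeats 4000000
set_option synthInstance.maxHeartbeats 400000
set_option linter.style.haveILetI false
set_option linter.unusedSectionVars false
open TensorProduct

namespace Groth.Agent.Lib.Helper24Dev

universe u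

section Exists

attribute [local instance] Algebra.TensorProduct.rightAlgebra

variable (R S : Type u) [CommRing R] [CommRing S] [Algebra R S] (p : Ideal R) [p.IsPrime]
  (R' : Type u) [CommRing R'] [Algebra R R'] (p' : Ideal R') [p'.IsPrime] [hp' : p'.LiesOver p]
  (S' : Type u) [CommRing S'] [Algebra R' S'] [Algebra R S'] [Algebra S S']
  [IsScalarTower R R' S'] [IsScalarTower R S S'] [Algebra.IsPushout R R' S S']

/-- **Existence**: when the residue field extension is trivial, every prime of `S` over `p` is the
contraction of a prime of `S'` over `p'`. -/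
theorem exists_prime_over (hκ : Function.Bijective (resMap R p R' p'))
    (q : Ideal S) [hq : q.IsPrime] [oq : q.LiesOver p] :
    ∃ q' : Ideal S', q'.IsPrime ∧ q'.LiesOver q ∧ q'.LiesOver p' := by
  obtain ⟨hψ, -⟩ := fiberMap_facts R S p R' p' S' hκ
  let E := PrimeSpectrum.primesOverOrderIsoFiber R S p
  let x : p.primesOver S := ⟨q, hq, oq⟩
  have k1 : (E x).asIdeal.comap (Algebra.TensorProduct.includeRight (R := R)
      (A := p.ResidueField) (B := S)).toRingHom = q := by
    have := congrArg Subtype.val (E.symm_apply_apply x)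
    exact this
  have hh : IsHomeomorph (PrimeSpectrum.comap (fiberMap R S p R' p' S').toRingHom) :=
    PrimeSpectrum.isHomeomorph_comap_of_bijective hψ
  obtain ⟨ξ', hξ'⟩ := hh.surjective (E x)
  refine ⟨ξ'.asIdeal.comap (Algebra.TensorProduct.includeRight (R := R')
      (A := p'.ResidueField) (B := S')).toRingHom, Ideal.IsPrime.comap _, ⟨?_⟩,
    liesOver_comap_includeRight R' p' S' ξ'⟩
  change q = Ideal.comap (algebraMap S S') _
  rw [Ideal.comap_comap, ← fiberMap_comp_includeRight R S p R' p' S', ← Ideal.comap_comap]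
  have : ξ'.asIdeal.comap (fiberMap R S p R' p' S').toRingHom = (E x).asIdeal := by
    rw [← hξ']
    rfl
  rw [this, k1]

end Exists

section BC

/-- base change along `A → A'` is base change along `B → B'` when `A' = A ⊗_B B'`. -/
theorem isBaseChange_of_isPushout (B B' A A' : Type u) [CommRing B] [CommRing B'] [CommRing A]
    [CommRing A'] [Algebra B B'] [Algebra B A] [Algebra B' A'] [Algebra A A'] [Algebra B A']
    [IsScalarTower B B' A'] [IsScalarTower B A A'] [Algebra.IsPushout B B' A A']
    (M M' : Type u) [AddCommGroup M] [Module A M] [Module B M] [IsScalarTower B A M]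
    [AddCommGroup M'] [Module A' M'] [Module B' M'] [IsScalarTower B' A' M'] [Module A M']
    [IsScalarTower A A' M'] [Module B M'] [IsScalarTower B B' M']
    (g : M →ₗ[A] M') (hg : IsBaseChange A' g) (g' : M →ₗ[B] M') (hgg : ∀ m, g' m = g m) :
    IsBaseChange B' g' := by
  let e1 : M' ≃ₗ[B'] A' ⊗[A] M := hg.equiv.symm.restrictScalars B'
  let e2 : A' ⊗[A] M ≃ₗ[B'] B' ⊗[B] M := Algebra.IsPushout.cancelBaseChange B B' A A' M
  refine IsBaseChange.of_equiv (e1.trans e2).symm ?_
  intro m
  rw [LinearEquiv.symm_apply_eq, hgg]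
  have h1 : hg.equiv.symm (g m) = (1 : A') ⊗ₜ[A] m := by
    rw [LinearEquiv.symm_apply_eq, hg.equiv_tmul, one_smul]
  have h2 : (e1.trans e2) (g m) = e2 (hg.equiv.symm (g m)) := rfl
  rw [h2, h1]
  exact (Algebra.IsPushout.cancelBaseChange_tmul B B' A A' M m).symm

end BC


section Steps

variable (R : Type u) [CommRing R] (p : Ideal R) [p.IsPrime]
  (R' : Type u) [CommRing R'] [Algebra R R'] (p' : Ideal R') [p'.IsPrime] [hp' : p'.LiesOver p]
  (hκ : Function.Bijective (resMap R p R' p'))

include hκ

/-- a prime of `A'` over `qA` and `p'` contracts to the given prime `q'` of `S'` over `q`, `p'`. -/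
theorem comap_eq_of_liesOver (S : Type u) [CommRing S] [Algebra R S]
    (S' : Type u) [CommRing S'] [Algebra R' S'] [Algebra R S'] [Algebra S S']
    [IsScalarTower R R' S'] [IsScalarTower R S S'] [Algebra.IsPushout R R' S S']
    (A A' : Type u) [CommRing A] [CommRing A'] [Algebra S A] [Algebra S' A'] [Algebra A A']
    [Algebra S A'] [IsScalarTower S S' A'] [IsScalarTower S A A'] [Algebra R' A']
    [IsScalarTower R' S' A']
    (q : Ideal S) (qA : Ideal A) (hq : qA.comap (algebraMap S A) = q)
    (q' : Ideal S') [q'.IsPrime] [hq' : q'.LiesOver q] [q'.LiesOver p']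
    (P : Ideal A') [P.IsPrime] [hP : P.LiesOver qA] [hPp : P.LiesOver p'] :
    P.comap (algebraMap S' A') = q' := by
  haveI : (P.under S').IsPrime := Ideal.IsPrime.under S' P
  haveI : (P.under S').LiesOver p' := by
    constructor
    rw [Ideal.under_under]
    exact hPp.over
  change P.under S' = q'
  apply eq_of_comap_eq R S p R' p' S' hκ
  change (P.under S').under S = q'.under S
  have e1 : (P.under S').under S = P.under S := Ideal.under_under P
  have e2 : (P.under A).under S = P.under S := Ideal.under_under P
  rw [e1, ← e2, ← hP.over, ← hq'.over]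
  exact hq

/-- existence of compatible primes of `B'`, `A'` over `qB`, `qA`. -/
theorem exists_pair (B A B' A' : Type u) [CommRing B] [CommRing A] [CommRing B'] [CommRing A']
    [Algebra R B] [Algebra R A] [Algebra B A] [IsScalarTower R B A]
    [Algebra R' B'] [Algebra R' A'] [Algebra B' A'] [IsScalarTower R' B' A']
    [Algebra R B'] [Algebra B B'] [IsScalarTower R R' B'] [IsScalarTower R B B']
    [Algebra.IsPushout R R' B B']
    [Algebra R A'] [Algebra A A'] [IsScalarTower R R' A'] [IsScalarTower R A A']
    [Algebra.IsPushout R R' A A']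
    [Algebra B A'] [IsScalarTower B A A'] [IsScalarTower B B' A']
    (qB : Ideal B) [qB.IsPrime] [qB.LiesOver p] (qA : Ideal A) [qA.IsPrime]
    [hAB : qA.LiesOver qB] :
    ∃ (Q : Ideal B') (P : Ideal A'), Q.IsPrime ∧ P.IsPrime ∧ Q.LiesOver p' ∧ P.LiesOver Q ∧
      Q.LiesOver qB ∧ P.LiesOver qA := by
  haveI : qA.LiesOver p := Ideal.LiesOver.trans qA qB p
  obtain ⟨Q, hQ, hQq, hQp⟩ := exists_prime_over R B p R' p' B' hκ qB
  obtain ⟨P, hP, hPq, hPp⟩ := exists_prime_over R A p R' p' A' hκ qA
  refine ⟨Q, P, hQ, hP, hQp, ⟨?_⟩, hQq, hPq⟩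
  haveI : (P.under B').IsPrime := Ideal.IsPrime.under B' P
  haveI : (P.under B').LiesOver p' := by
    constructor
    rw [Ideal.under_under]
    exact hPp.over
  apply eq_of_comap_eq R B p R' p' B' hκ
  change Q.under B = (P.under B').under B
  have e1 : (P.under B').under B = P.under B := Ideal.under_under P
  have e2 : (P.under A).under B = P.under B := Ideal.under_under P
  rw [e1, ← e2, ← hPq.over, ← hAB.over, ← hQq.over]

/-- uniqueness of the prime of `A'` over the chosen prime of `B'`. -/
theorem uniq_baseChange (B A B' A' : Type u) [CommRing B] [CommRing A] [CommRing B'] [CommRing A']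
    [Algebra R B] [Algebra R A] [Algebra B A] [IsScalarTower R B A]
    [Algebra R' B'] [Algebra R' A'] [Algebra B' A'] [IsScalarTower R' B' A']
    [Algebra R B'] [Algebra B B'] [IsScalarTower R R' B'] [IsScalarTower R B B']
    [Algebra R A'] [Algebra A A'] [IsScalarTower R R' A'] [IsScalarTower R A A']
    [Algebra.IsPushout R R' A A']
    [Algebra B A'] [IsScalarTower B A A'] [IsScalarTower B B' A']
    (qB : Ideal B) [qB.IsPrime] [qB.LiesOver p] (qA : Ideal A) [qA.IsPrime]
    [hAB : qA.LiesOver qB]
    (huniq : ∀ (Q₁ : Ideal A) [Q₁.IsPrime], Q₁.LiesOver qB → Q₁ = qA)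
    (Q : Ideal B') [Q.IsPrime] [Q.LiesOver p'] [hQ : Q.LiesOver qB]
    (P : Ideal A') [P.IsPrime] [hP : P.LiesOver qA] [hPQ : P.LiesOver Q]
    (P₁ : Ideal A') [P₁.IsPrime] (hP₁ : P₁.LiesOver Q) : P₁ = P := by
  haveI : P.LiesOver p' := Ideal.LiesOver.trans P Q p'
  haveI : P₁.LiesOver p' := Ideal.LiesOver.trans P₁ Q p'
  haveI : (P₁.under A).IsPrime := Ideal.IsPrime.under A P₁
  have h0 : P₁.under A = qA := by
    apply huniq
    constructor
    change qB = (P₁.under A).under B
    have e1 : (P₁.under B').under B = P₁.under B := Ideal.under_under P₁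
    have e2 : (P₁.under A).under B = P₁.under B := Ideal.under_under P₁
    rw [e2, ← e1, ← hP₁.over, ← hQ.over]
  apply eq_of_comap_eq R A p R' p' A' hκ
  change P₁.under A = P.under A
  rw [h0, ← hP.over]

/-- transport of the local dimension condition for a module over a finite `B`-algebra `A`. -/
theorem exists_localDim_step (B A B' A' : Type u) [CommRing B] [CommRing A] [CommRing B']
    [CommRing A']
    [Algebra R B] [Algebra R A] [Algebra B A] [IsScalarTower R B A]
    [Algebra R' B'] [Algebra R' A'] [Algebra B' A'] [IsScalarTower R' B' A']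
    [Algebra R B'] [Algebra B B'] [IsScalarTower R R' B'] [IsScalarTower R B B']
    [Algebra.IsPushout R R' B B']
    [Algebra R A'] [Algebra A A'] [IsScalarTower R R' A'] [IsScalarTower R A A']
    [Algebra.IsPushout R R' A A']
    [Algebra B A'] [IsScalarTower B A A'] [IsScalarTower B B' A']
    (M M' : Type u) [AddCommGroup M] [Module A M] [Module B M] [IsScalarTower B A M]
    [Module R M] [IsScalarTower R B M] [Module.Finite A M] [Module.Finite B A]
    [AddCommGroup M'] [Module A' M'] [Module B' M'] [IsScalarTower B' A' M']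
    [Module R' M'] [IsScalarTower R' B' M'] [Module A M'] [IsScalarTower A A' M']
    (g : M →ₗ[A] M') (hg : IsBaseChange A' g)
    (qB : Ideal B) [qB.IsPrime] [qB.LiesOver p]
    (Q : Ideal B') [Q.IsPrime] [Q.LiesOver p'] [hQ : Q.LiesOver qB] (n : ℕ)
    (h1 : ∃ (ξ : PrimeSpectrum (p.Fiber B))
      (hξ : ξ ∈ Module.support (p.Fiber B) (FlatCA.fiberMod p B M)),
      ξ.asIdeal = FlatCA.fiberIdeal p qB ∧
      FlatMor.localDim (Module.support (p.Fiber B) (FlatCA.fiberMod p B M)) ⟨ξ, hξ⟩ = n) :
    ∃ (ξ' : PrimeSpectrum (p'.Fiber B'))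
      (hξ' : ξ' ∈ Module.support (p'.Fiber B') (FlatCA.fiberMod p' B' M')),
      ξ'.asIdeal = FlatCA.fiberIdeal p' Q ∧
      FlatMor.localDim (Module.support (p'.Fiber B') (FlatCA.fiberMod p' B' M')) ⟨ξ', hξ'⟩ = n := by
  letI mBM' : Module B M' := Module.compHom M' (algebraMap B B')
  haveI tBB'M' : IsScalarTower B B' M' := IsScalarTower.of_algebraMap_smul fun r x => rfl
  haveI : Module.Finite B M := Module.Finite.trans A M
  haveI : Algebra.IsPushout B B' A A' := isPushout_right R R' B B' A A'
  let g' : M →ₗ[B] M' :=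
    { toFun := fun m => g m
      map_add' := fun a b => map_add g a b
      map_smul' := fun b m => by
        change g (b • m) = algebraMap B B' b • g m
        rw [← algebraMap_smul A b m, map_smul, ← algebraMap_smul A' (algebraMap B A b) (g m),
          ← algebraMap_smul A' (algebraMap B B' b) (g m),
          ← IsScalarTower.algebraMap_apply B B' A', ← IsScalarTower.algebraMap_apply B A A'] }
  have hg' : IsBaseChange B' g' :=
    isBaseChange_of_isPushout B B' A A' M M' g hg g' (fun m => rfl)
  exact exists_localDim_fiberMod R B p R' p' B' hκ M M' g' hg' qB Q n h1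

end Steps

end Groth.Agent.Lib.Helper24Dev
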