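import Mathlib
import Groth.Agent.Lib.Helper24DevJ

/-!
# Base change of a complete dévissage at a point along a map inducing an isomorphism of residue
fields (helper24)
-/

set_option autoImplicit false
set_option backward.isDefEq.respectTransparency.types false
set_option maxHeartbeats 4000000
set_option synthInstance.maxHeartbeats 400000
set_option linter.style.haveILetI false
set_option linter.unusedSectionVars false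
open TensorProduct FlatMor

namespace Groth.Agent.Lib.Helper24Dev

universe u

theorem completeDevissageAt_baseChange
    (R S : Type u) [CommRing R] [CommRing S] [Algebra R S] [Algebra.FiniteType R S]
    (N : Type u) [AddCommGroup N] [Module S N] [Module.Finite S N]
    (p : Ideal R) [p.IsPrime] (q : Ideal S) [q.IsPrime] (𝒟 : FlatCA.CompleteDevissage R S N p)
    (𝒜 : FlatCA.CompleteDevissageAt R S N p q 𝒟)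
    (R' : Type u) [CommRing R'] [Algebra R R'] (p' : Ideal R') [p'.IsPrime] [hp' : p'.LiesOver p]
    (hκ : Function.Bijective (Ideal.ResidueField.mapₐ p p' (Algebra.ofId R R') hp'.over))
    (S' : Type u) [CommRing S'] [Algebra R' S'] [Algebra R S'] [Algebra S S'] [IsScalarTower R R' S']
    [IsScalarTower R S S'] [Algebra.IsPushout R R' S S']
    (N' : Type u) [AddCommGroup N'] [Module S' N'] [Module S N'] [IsScalarTower S S' N']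
    (f : N →ₗ[S] N') (hf : IsBaseChange S' f)
    (q' : Ideal S') [q'.IsPrime] [q'.LiesOver q] [q'.LiesOver p']
    (𝒟' : FlatCA.CompleteDevissage R' S' N' p') (hn : 𝒟'.n = 𝒟.n)
    (htail : ∀ i, 𝒟.n ≤ i → ∃ (Q : Ideal (𝒟'.B i)) (P : Ideal (𝒟'.A i)),
      Q.IsPrime ∧ P.IsPrime ∧ Q.LiesOver p' ∧ P.LiesOver Q)
    [aA : ∀ i : Fin 𝒟.n, Algebra (𝒟.A i) (𝒟'.A i)] [rA : ∀ i : Fin 𝒟.n, Algebra R (𝒟'.A i)]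
      [∀ i : Fin 𝒟.n, IsScalarTower R (R') (𝒟'.A i)] [∀ i : Fin 𝒟.n, IsScalarTower R (𝒟.A i) (𝒟'.A i)]
      [aB : ∀ i : Fin 𝒟.n, Algebra (𝒟.B i) (𝒟'.B i)] [rB : ∀ i : Fin 𝒟.n, Algebra R (𝒟'.B i)]
      [∀ i : Fin 𝒟.n, IsScalarTower R (R') (𝒟'.B i)] [∀ i : Fin 𝒟.n, IsScalarTower R (𝒟.B i) (𝒟'.B i)]
      [bA : ∀ i : Fin 𝒟.n, Algebra (𝒟.B i) (𝒟'.A i)] [∀ i : Fin 𝒟.n, IsScalarTower (𝒟.B i) (𝒟.A i) (𝒟'.A i)]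
      [∀ i : Fin 𝒟.n, IsScalarTower (𝒟.B i) (𝒟'.B i) (𝒟'.A i)]
      [bA' : ∀ i : Fin 𝒟.n, Algebra (𝒟.B i) (𝒟'.A (i + 1))]
      [∀ i : Fin 𝒟.n, IsScalarTower (𝒟.B i) (𝒟'.B i) (𝒟'.A (i + 1))]
      [sA : Algebra S (𝒟'.A 0)] [IsScalarTower S (S') (𝒟'.A 0)]
      [mA : ∀ i : Fin 𝒟.n, Module (𝒟.A i) (𝒟'.M i)] [∀ i : Fin 𝒟.n, IsScalarTower (𝒟.A i) (𝒟'.A i) (𝒟'.M i)]
      (gM : ∀ i : Fin 𝒟.n, 𝒟.M i →ₗ[𝒟.A i] 𝒟'.M i)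
    (hbc : (letI := aA ⟨0, 𝒟.pos⟩; IsScalarTower S (𝒟.A 0) (𝒟'.A 0)) ∧
      (∀ x : N, 𝒟'.isoN (f x) = gM ⟨0, 𝒟.pos⟩ (𝒟.isoN x)) ∧
      (∀ (i : Fin 𝒟.n) (h : (i : ℕ) + 1 < 𝒟.n),
        letI := aA ⟨i + 1, h⟩; IsScalarTower (𝒟.B i) (𝒟.A (i + 1)) (𝒟'.A (i + 1))) ∧
      ∀ i : Fin 𝒟.n,
        Algebra.IsPushout R R' (𝒟.A i) (𝒟'.A i) ∧ Algebra.IsPushout R R' (𝒟.B i) (𝒟'.B i) ∧
        IsBaseChange (𝒟'.A i) (gM i)) :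
    ∃ 𝒜' : FlatCA.CompleteDevissageAt R' S' N' p' q' 𝒟', 𝒜'.d = 𝒜.d ∧
      ∀ i : Fin 𝒟.n, (𝒜'.qB i).LiesOver (𝒜.qB i) ∧ (𝒜'.qA i).LiesOver (𝒜.qA i) := by
  have hκ' : Function.Bijective (resMap R p R' p') := hκ
  obtain ⟨hb0, hb1, hb2, hb3⟩ := hbc
  haveI i1 := 𝒜.hqB
  haveI i2 := 𝒜.hqA
  haveI i3 := 𝒜.overB
  haveI i4 := 𝒜.overA
  haveI pA : ∀ ι : Fin 𝒟.n, Algebra.IsPushout R R' (𝒟.A ι) (𝒟'.A ι) := fun ι => (hb3 ι).1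
  haveI pB : ∀ ι : Fin 𝒟.n, Algebra.IsPushout R R' (𝒟.B ι) (𝒟'.B ι) := fun ι => (hb3 ι).2.1
  have hexF : ∀ ι : Fin 𝒟.n, ∃ (Q : Ideal (𝒟'.B ι)) (P : Ideal (𝒟'.A ι)), Q.IsPrime ∧ P.IsPrime ∧
      Q.LiesOver p' ∧ P.LiesOver Q ∧ Q.LiesOver (𝒜.qB ι) ∧ P.LiesOver (𝒜.qA ι) := fun ι =>
    exists_pair R p R' p' hκ' (𝒟.B ι) (𝒟.A ι) (𝒟'.B ι) (𝒟'.A ι) (𝒜.qB ι) (𝒜.qA ι)
  have hex : ∀ i : ℕ, ∃ (Q : Ideal (𝒟'.B i)) (P : Ideal (𝒟'.A i)), Q.IsPrime ∧ P.IsPrime ∧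
      Q.LiesOver p' ∧ P.LiesOver Q ∧ ∀ h : i < 𝒟.n,
        (letI := aB ⟨i, h⟩; Q.LiesOver (𝒜.qB i)) ∧ (letI := aA ⟨i, h⟩; P.LiesOver (𝒜.qA i)) := by
    intro i
    by_cases h : i < 𝒟.n
    · obtain ⟨Q, P, h1, h2, h3, h4, h5, h6⟩ := hexF ⟨i, h⟩
      exact ⟨Q, P, h1, h2, h3, h4, fun _ => ⟨h5, h6⟩⟩
    · obtain ⟨Q, P, h1, h2, h3, h4⟩ := htail i (not_lt.mp h)
      exact ⟨Q, P, h1, h2, h3, h4, fun h' => absurd h' h⟩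
  choose qB' qA' hQp hPp hQo hPQ hlie using hex
  have hlB : ∀ ι : Fin 𝒟.n, (qB' ι).LiesOver (𝒜.qB ι) := fun ι => (hlie ι ι.isLt).1
  have hlA : ∀ ι : Fin 𝒟.n, (qA' ι).LiesOver (𝒜.qA ι) := fun ι => (hlie ι ι.isLt).2
  have hPo : ∀ i, (qA' i).LiesOver p' := fun i => Ideal.LiesOver.trans (qA' i) (qB' i) p'
  haveI := hQp
  haveI := hPp
  haveI := hQo
  haveI := hPQ
  haveI := hPo
  have hPT : ∀ ι : Fin 𝒟.n, FlatCA.PurelyTranscendental p' (qB' ι) := fun ι =>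
    haveI := hlB ι
    purelyTranscendental_baseChange R (𝒟.B ι) p (𝒜.qB ι) R' p' (𝒟'.B ι) (qB' ι) hκ'
      (𝒜.pureTrans ι ι.isLt)
  have hU : ∀ ι : Fin 𝒟.n, ∀ (P₁ : Ideal (𝒟'.A ι)) [P₁.IsPrime], P₁.LiesOver (qB' ι) →
      P₁ = qA' ι := fun ι P₁ _ hP₁ =>
    haveI := hlB ι
    haveI := hlA ι
    uniq_baseChange R p R' p' hκ' (𝒟.B ι) (𝒟.A ι) (𝒟'.B ι) (𝒟'.A ι) (𝒜.qB ι) (𝒜.qA ι)
      (𝒜.uniq ι ι.isLt) (qB' ι) (qA' ι) P₁ hP₁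
  have hRD : ∀ ι : Fin 𝒟.n, FlatCA.SmoothRelDim (𝒜.d ι) R' (𝒟'.B ι) := fun ι =>
    smoothRelDim_baseChange R R' (𝒟.B ι) (𝒟'.B ι) (𝒜.d ι) (𝒜.relDim ι ι.isLt)
  have hLD : ∀ ι : Fin 𝒟.n, ∃ (ξ' : PrimeSpectrum (p'.Fiber (𝒟'.B ι)))
      (hξ' : ξ' ∈ Module.support (p'.Fiber (𝒟'.B ι)) (FlatCA.fiberMod p' (𝒟'.B ι) (𝒟'.M ι))),
      ξ'.asIdeal = FlatCA.fiberIdeal p' (qB' ι) ∧
      FlatMor.localDim (Module.support (p'.Fiber (𝒟'.B ι))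
        (FlatCA.fiberMod p' (𝒟'.B ι) (𝒟'.M ι))) ⟨ξ', hξ'⟩ = 𝒜.d ι := fun ι =>
    haveI := hlB ι
    haveI : Module.Finite (𝒟.A ι) (𝒟.M ι) := 𝒟.finiteM ι ι.isLt
    haveI : Module.Finite (𝒟.B ι) (𝒟.A ι) := 𝒟.finiteBA ι ι.isLt
    exists_localDim_step R p R' p' hκ' (𝒟.B ι) (𝒟.A ι) (𝒟'.B ι) (𝒟'.A ι) (𝒟.M ι) (𝒟'.M ι)
      (gM ι) (hb3 ι).2.2 (𝒜.qB ι) (qB' ι) (𝒜.d ι) (𝒜.locDim ι ι.isLt)
  have hq0 : (qA' 0).comap (algebraMap S' (𝒟'.A 0)) = q' := by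
    letI : Algebra (𝒟.A 0) (𝒟'.A 0) := aA ⟨0, 𝒟.pos⟩
    haveI : IsScalarTower S (𝒟.A 0) (𝒟'.A 0) := hb0
    haveI : (qA' 0).LiesOver (𝒜.qA 0) := hlA ⟨0, 𝒟.pos⟩
    exact comap_eq_of_liesOver R p R' p' hκ' S S' (𝒟.A 0) (𝒟'.A 0) q (𝒜.qA 0) 𝒜.q0 q' (qA' 0)
  have hqS : ∀ (ι : Fin 𝒟.n) (h : (ι : ℕ) + 1 < 𝒟.n),
      (qA' (ι + 1)).comap (algebraMap (𝒟'.B ι) (𝒟'.A (ι + 1))) = qB' ι := fun ι h => by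
    letI : Algebra (𝒟.A (ι + 1)) (𝒟'.A (ι + 1)) := aA ⟨ι + 1, h⟩
    haveI : IsScalarTower (𝒟.B ι) (𝒟.A (ι + 1)) (𝒟'.A (ι + 1)) := hb2 ι h
    haveI := hlB ι
    haveI : (qA' (ι + 1)).LiesOver (𝒜.qA (ι + 1)) := hlA ⟨ι + 1, h⟩
    exact comap_eq_of_liesOver R p R' p' hκ' (𝒟.B ι) (𝒟'.B ι) (𝒟.A (ι + 1)) (𝒟'.A (ι + 1))
      (𝒜.qB ι) (𝒜.qA (ι + 1)) (𝒜.qStep ι h) (qB' ι) (qA' (ι + 1))
  refine ⟨{ qB := qB', qA := qA', hqB := hQp, hqA := hPp, overB := hQo, overA := hPQ,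
            pureTrans := ?_, uniq := ?_, q0 := hq0, qStep := ?_, d := 𝒜.d, relDim := ?_,
            locDim := ?_ }, rfl, fun ι => ⟨hlB ι, hlA ι⟩⟩
  · intro i h
    exact hPT ⟨i, hn ▸ h⟩
  · intro i h
    exact hU ⟨i, hn ▸ h⟩
  · intro i h
    have h' : i + 1 < 𝒟.n := hn ▸ h
    exact hqS ⟨i, by omega⟩ h'
  · intro i h
    exact hRD ⟨i, hn ▸ h⟩
  · intro i h
    exact hLD ⟨i, hn ▸ h⟩

end Groth.Agent.Lib.Helper24Dev
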