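import Mathlib

/-!
# A ring that is a given algebra `X` when a proposition holds and the base ring otherwise
(helper24)

`TailAlg R X c` is the quotient of `X × R` by the kernel of the first projection when `c` holds and
by the kernel of the second projection otherwise; it is an `R`-algebra, uniformly in `c`, which is
isomorphic to `X` when `c` holds and to `R` otherwise.
-/

set_option autoImplicit false
set_option backward.isDefEq.respectTransparency.types false
set_option maxHeartbeats 4000000
set_option synthInstance.maxHeartbeats 400000
set_option linter.style.haveILetI false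
set_option linter.unusedSectionVars false
open TensorProduct

namespace Groth.Agent.Lib.Helper24Dev

universe u

open Classical in
/-- the ideal of `X × R` cutting out `X` when `c` holds and `R` otherwise. -/
noncomputable def tailIdeal (R X : Type u) [CommRing R] [CommRing X] [Algebra R X] (c : Prop) :
    Ideal (X × R) :=
  if c then RingHom.ker (AlgHom.fst R X R) else RingHom.ker (AlgHom.snd R X R)

/-- `X` when `c` holds, `R` otherwise. -/
def TailAlg (R X : Type u) [CommRing R] [CommRing X] [Algebra R X] (c : Prop) : Type u :=
  (X × R) ⧸ tailIdeal R X c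

namespace TailAlg

variable (R X : Type u) [CommRing R] [CommRing X] [Algebra R X] (c : Prop)

noncomputable instance : CommRing (TailAlg R X c) :=
  inferInstanceAs (CommRing ((X × R) ⧸ tailIdeal R X c))

noncomputable instance : Algebra R (TailAlg R X c) :=
  inferInstanceAs (Algebra R ((X × R) ⧸ tailIdeal R X c))

theorem tailIdeal_pos (h : c) : tailIdeal R X c = RingHom.ker (AlgHom.fst R X R) := by
  unfold tailIdeal
  rw [if_pos h]

theorem tailIdeal_neg (h : ¬c) : tailIdeal R X c = RingHom.ker (AlgHom.snd R X R) := by
  unfold tailIdeal
  rw [if_neg h]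

/-- the identification with `X` when `c` holds. -/
noncomputable def equivPos (h : c) : TailAlg R X c ≃ₐ[R] X :=
  (Ideal.quotientEquivAlgOfEq R (tailIdeal_pos R X c h)).trans
    (Ideal.quotientKerAlgEquivOfSurjective (f := AlgHom.fst R X R) Prod.fst_surjective)

/-- the identification with `R` when `c` fails. -/
noncomputable def equivNeg (h : ¬c) : TailAlg R X c ≃ₐ[R] R :=
  (Ideal.quotientEquivAlgOfEq R (tailIdeal_neg R X c h)).trans
    (Ideal.quotientKerAlgEquivOfSurjective (f := AlgHom.snd R X R) Prod.snd_surjective)

variable {R X c}

open Classical in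
/-- the map out of `TailAlg R X c` induced by a map out of `X`. -/
noncomputable def lift {Y : Type u} [CommRing Y] [Algebra R Y] (ψ : X →ₐ[R] Y) :
    TailAlg R X c →ₐ[R] Y :=
  Ideal.Quotient.liftₐ (tailIdeal R X c)
    (if c then ψ.comp (AlgHom.fst R X R) else (Algebra.ofId R Y).comp (AlgHom.snd R X R))
    (by
      intro a ha
      by_cases h : c
      · rw [tailIdeal_pos R X c h, RingHom.mem_ker] at ha
        rw [if_pos h, AlgHom.comp_apply, ha, map_zero]
      · rw [tailIdeal_neg R X c h, RingHom.mem_ker] at ha
        rw [if_neg h, AlgHom.comp_apply, ha, map_zero])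

theorem lift_pos {Y : Type u} [CommRing Y] [Algebra R Y] (ψ : X →ₐ[R] Y) (h : c)
    (x : TailAlg R X c) : lift ψ x = ψ (equivPos R X c h x) := by
  obtain ⟨a, rfl⟩ := Ideal.Quotient.mk_surjective x
  unfold lift equivPos
  simp only [if_pos h]
  rfl

theorem lift_comp_equivPos_symm {Y : Type u} [CommRing Y] [Algebra R Y] (ψ : X →ₐ[R] Y) (h : c)
    (x : X) : lift ψ ((equivPos R X c h).symm x) = ψ x := by
  rw [lift_pos ψ h, AlgEquiv.apply_symm_apply]

end TailAlg

end Groth.Agent.Lib.Helper24Dev
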