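import Mathlib
import Groth.Agent.Lib.Helper24DevJ
import Groth.Agent.Lib.Helper6ReducedSmooth

/-!
# Extension of a prime along a smooth map with geometrically irreducible fibres is prime;
contraction of the extended ideal along a flat base change (helper24)
-/

set_option autoImplicit false
set_option backward.isDefEq.respectTransparency.types false
set_option maxHeartbeats 4000000
set_option synthInstance.maxHeartbeats 400000
set_option linter.style.haveILetI false
set_option linter.unusedSectionVars false
open TensorProduct

namespace Groth.Agent.Lib.Helper24Dev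

universe u

section Flat

variable (R B : Type u) [CommRing R] [CommRing B] [Algebra R B] [Module.Flat R B]
  (R' B' : Type u) [CommRing R'] [CommRing B'] [Algebra R R'] [Algebra R' B'] [Algebra B B']
  [Algebra R B'] [IsScalarTower R R' B'] [IsScalarTower R B B'] [Algebra.IsPushout R R' B B']
  (p : Ideal R) (p' : Ideal R') [hp' : p'.LiesOver p]

/-- For a flat `R`-algebra `B` and `B' = R' ⊗ B`, the contraction of `p'B'` to `B` is `pB` when
`p'` lies over `p`. -/
theorem comap_map_eq_map_of_flat :
    (p'.map (algebraMap R' B')).comap (algebraMap B B') = p.map (algebraMap R B) := by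
  apply le_antisymm
  · intro b hb
    rw [Ideal.mem_comap] at hb
    let T := (R' ⧸ p') ⊗[R] B
    let φ : B →ₗ[R] T := TensorProduct.mk R (R' ⧸ p') B 1
    have hbc : IsBaseChange R' (IsScalarTower.toAlgHom R B B').toLinearMap :=
      Algebra.IsPushout.out
    let ψ : B' →ₗ[R'] T := hbc.lift φ
    have hψ : ∀ b, ψ (algebraMap B B' b) = (1 : R' ⧸ p') ⊗ₜ[R] b := fun b => hbc.lift_eq φ b
    have hkill : ∀ (r' : R') (_ : r' ∈ p') (z : T), r' • z = 0 := by
      intro r' hr' z
      induction z using TensorProduct.induction_on with
      | zero => rw [smul_zero]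
      | tmul t b =>
        rw [TensorProduct.smul_tmul']
        have : r' • t = 0 := by
          obtain ⟨t, rfl⟩ := Ideal.Quotient.mk_surjective t
          rw [Algebra.smul_def, Ideal.Quotient.algebraMap_eq, ← map_mul,
            Ideal.Quotient.eq_zero_iff_mem]
          exact Ideal.mul_mem_right _ _ hr'
        rw [this, TensorProduct.zero_tmul]
      | add x y hx hy => rw [smul_add, hx, hy, add_zero]
    have hψ0 : ∀ x ∈ p'.map (algebraMap R' B'), ψ x = 0 := by
      intro x hx
      have hx' : x ∈ (p' • ⊤ : Submodule R' B') := by
        rw [Ideal.smul_top_eq_map]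
        exact hx
      refine Submodule.smul_induction_on hx' ?_ ?_
      · intro r hr y _
        rw [map_smul, hkill r hr]
      · intro x y hx hy
        rw [map_add, hx, hy, add_zero]
    have h1 : (1 : R' ⧸ p') ⊗ₜ[R] b = 0 := by rw [← hψ, hψ0 _ hb]
    have hle : p ≤ p'.comap (Algebra.ofId R R') := by
      intro r hr
      rw [hp'.over] at hr
      exact hr
    let ι : R ⧸ p →ₗ[R] R' ⧸ p' := (Ideal.quotientMapₐ p' (Algebra.ofId R R') hle).toLinearMap
    have hι : Function.Injective ι := by
      have := Ideal.quotientMap_injective' (J := p) (I := p')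
        (f := (Algebra.ofId R R' : R →+* R')) (H := hle) (fun r hr => by
          rw [hp'.over]
          exact hr)
      exact this
    have hinj := Module.Flat.rTensor_preserves_injective_linearMap (M := B) ι hι
    have h2 : (1 : R ⧸ p) ⊗ₜ[R] b = 0 := by
      apply hinj
      rw [LinearMap.rTensor_tmul, map_zero]
      have : ι 1 = 1 := map_one (Ideal.quotientMapₐ p' (Algebra.ofId R R') hle)
      rw [this]
      exact h1
    have h3 := congrArg (TensorProduct.quotTensorEquivQuotSMul B p) h2
    rw [map_zero] at h3
    have h4 : TensorProduct.quotTensorEquivQuotSMul B p ((1 : R ⧸ p) ⊗ₜ[R] b) =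
        Submodule.Quotient.mk b := by
      have := TensorProduct.quotTensorEquivQuotSMul_mk_tmul (M := B) p 1 b
      rw [one_smul] at this
      exact this
    rw [h4, Submodule.Quotient.mk_eq_zero, Ideal.smul_top_eq_map] at h3
    exact h3
  · rw [Ideal.map_le_iff_le_comap]
    intro r hr
    rw [Ideal.mem_comap, Ideal.mem_comap, ← IsScalarTower.algebraMap_apply,
      IsScalarTower.algebraMap_apply R R' B']
    apply Ideal.mem_map_of_mem
    rw [hp'.over] at hr
    exact hr

end Flat


section Prime

open AlgebraicGeometry CategoryTheory

attribute [local instance] Algebra.TensorProduct.rightAlgebra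

variable (R B : Type u) [CommRing R] [CommRing B] [Algebra R B] [Algebra.Smooth R B]

/-- the fibre ring of a smooth algebra with geometrically irreducible fibres is a domain. -/
theorem isDomain_fiber_of_smooth_geomIrred (hgi : FlatCA.GeomIrredFibres R B) (p : Ideal R)
    [p.IsPrime] : IsDomain (p.Fiber B) := by
  haveI : Algebra.Smooth p.ResidueField (p.Fiber B) := inferInstance
  haveI : _root_.IsReduced (p.Fiber B) :=
    Groth.Agent.Lib.Helper6.isReduced_of_smooth p.ResidueField (p.Fiber B)
  have hirr : IrreducibleSpace (Spec (.of (p.Fiber B))) :=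
    hgi.geometrically_irreducibleSpace (Spec.map (CommRingCat.ofHom (algebraMap R p.ResidueField)))
      _ _ (isPullback_Spec R p.ResidueField B (p.Fiber B))
  haveI : AlgebraicGeometry.IsReduced (Spec (.of (p.Fiber B))) := by
    rw [affine_isReduced_iff]
    infer_instance
  haveI : IsIntegral (Spec (.of (p.Fiber B))) := isIntegral_of_irreducibleSpace_of_isReduced _
  exact (affine_isIntegral_iff (.of (p.Fiber B))).mp this

/-- **The extension of a prime along a smooth map with geometrically irreducible fibres is
prime.** -/
theorem isPrime_map_of_smooth_geomIrred (hgi : FlatCA.GeomIrredFibres R B) (p : Ideal R)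
    [p.IsPrime] : (p.map (algebraMap R B)).IsPrime := by
  haveI := isDomain_fiber_of_smooth_geomIrred R B hgi p
  haveI : (⊥ : Ideal p.ResidueField).LiesOver p := by
    constructor
    change p = RingHom.ker (algebraMap R p.ResidueField)
    rw [Ideal.ker_algebraMap_residueField]
  have h := comap_map_eq_map_of_flat R B p.ResidueField (p.Fiber B) p ⊥
  rw [Ideal.map_bot] at h
  rw [← h]
  exact Ideal.IsPrime.comap _

end Prime

end Groth.Agent.Lib.Helper24Dev
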