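import Mathlib

/-!
# Base change of a presentation step: image, cokernel and fibrewise bijectivity (helper24)
-/

set_option autoImplicit false
set_option backward.isDefEq.respectTransparency.types false
set_option maxHeartbeats 4000000
set_option synthInstance.maxHeartbeats 400000
set_option linter.style.haveILetI false
set_option linter.unusedSectionVars false
open TensorProduct

namespace Groth.Agent.Lib.Helper24Dev

universe u

section Square

/-- a linear map between base changes compatible with `α` is bijective iff `α.baseChange` is. -/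
theorem bijective_iff_of_isBaseChange_square (B K : Type u) [CommRing B] [CommRing K] [Algebra B K]
    (F M X Y : Type u) [AddCommGroup F] [AddCommGroup M] [AddCommGroup X] [AddCommGroup Y]
    [Module B F] [Module B M] [Module B X] [Module B Y] [Module K X] [Module K Y]
    [IsScalarTower B K X] [IsScalarTower B K Y]
    (a : F →ₗ[B] X) (ha : IsBaseChange K a) (b : M →ₗ[B] Y) (hb : IsBaseChange K b)
    (α : F →ₗ[B] M) (u : X →ₗ[K] Y) (hc : ∀ x, u (a x) = b (α x)) :
    Function.Bijective u ↔ Function.Bijective (α.baseChange K) := by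
  have key : ∀ z, u (ha.equiv z) = hb.equiv (α.baseChange K z) := by
    intro z
    induction z using TensorProduct.induction_on with
    | zero => rw [map_zero, map_zero, map_zero, map_zero]
    | tmul k x => rw [ha.equiv_tmul, map_smul, hc, LinearMap.baseChange_tmul, hb.equiv_tmul]
    | add x y hx hy => rw [map_add, map_add, hx, hy, map_add, map_add]
  have h1 : (u : X → Y) ∘ ha.equiv = hb.equiv ∘ (α.baseChange K) := funext key
  constructor
  · intro hu
    have : Function.Bijective (hb.equiv ∘ (α.baseChange K)) := h1 ▸ hu.comp ha.equiv.bijective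
    exact (Function.Bijective.of_comp_iff' hb.equiv.bijective _).mp this
  · intro hα
    have : Function.Bijective ((u : X → Y) ∘ ha.equiv) := h1 ▸ hb.equiv.bijective.comp hα
    exact (Function.Bijective.of_comp_iff _ ha.equiv.bijective).mp this

end Square

section Main

variable (B B' : Type u) [CommRing B] [CommRing B'] [Algebra B B']
  (F M F' M' : Type u) [AddCommGroup F] [AddCommGroup M] [AddCommGroup F'] [AddCommGroup M']
  [Module B F] [Module B M] [Module B' F'] [Module B' M'] [Module B F'] [Module B M']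
  [IsScalarTower B B' F'] [IsScalarTower B B' M']
  (gF : F →ₗ[B] F') (hgF : IsBaseChange B' gF) (g : M →ₗ[B] M') (hg : IsBaseChange B' g)
  (α : F →ₗ[B] M) (α' : F' →ₗ[B'] M') (hc : ∀ x, α' (gF x) = g (α x))

include hgF in
theorem span_range_eq_top_of_isBaseChange : Submodule.span B' (Set.range gF) = ⊤ := by
  rw [eq_top_iff]
  intro x _
  induction x using hgF.inductionOn with
  | zero => exact zero_mem _
  | tmul m => exact Submodule.subset_span ⟨m, rfl⟩
  | smul s n hn => exact Submodule.smul_mem _ s (hn trivial)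
  | add n₁ n₂ h₁ h₂ => exact add_mem (h₁ trivial) (h₂ trivial)

include hgF hc in
/-- the image of the base-changed map is generated by the image of the image. -/
theorem range_eq_span_image :
    LinearMap.range α' = Submodule.span B' (g '' (LinearMap.range α : Set M)) := by
  rw [LinearMap.range_eq_map, ← span_range_eq_top_of_isBaseChange B B' F F' gF hgF,
    Submodule.map_span]
  congr 1
  ext y
  constructor
  · rintro ⟨_, ⟨x, rfl⟩, rfl⟩
    exact ⟨α x, ⟨x, rfl⟩, (hc x).symm⟩
  · rintro ⟨_, ⟨x, rfl⟩, rfl⟩
    exact ⟨gF x, ⟨x, rfl⟩, hc x⟩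

include hgF hg hc in
/-- the cokernel of the base-changed map is the base change of the cokernel. -/
theorem nonempty_quotient_equiv_of_isBaseChange (M₂ M₂' : Type u) [AddCommGroup M₂]
    [AddCommGroup M₂'] [Module B M₂] [Module B' M₂'] [Module B M₂'] [IsScalarTower B B' M₂']
    (g₂ : M₂ →ₗ[B] M₂') (hg₂ : IsBaseChange B' g₂)
    (e : (M ⧸ LinearMap.range α) ≃ₗ[B] M₂) :
    Nonempty ((M' ⧸ LinearMap.range α') ≃ₗ[B'] M₂') := by
  have hle : LinearMap.range α ≤
      LinearMap.ker (((LinearMap.range α').mkQ.restrictScalars B).comp g) := by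
    rintro _ ⟨x, rfl⟩
    rw [LinearMap.mem_ker, LinearMap.comp_apply, ← hc]
    change (LinearMap.range α').mkQ (α' (gF x)) = 0
    rw [Submodule.mkQ_apply, Submodule.Quotient.mk_eq_zero]
    exact ⟨gF x, rfl⟩
  let h₃ : M₂ →ₗ[B] M' ⧸ LinearMap.range α' :=
    ((LinearMap.range α).liftQ (((LinearMap.range α').mkQ.restrictScalars B).comp g) hle).comp
      e.symm.toLinearMap
  have key : IsBaseChange B' h₃ := by
    refine IsBaseChange.of_right_exact B' gF g h₃ (f := α)
      (g := e.toLinearMap.comp (LinearMap.range α).mkQ) (f' := α')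
      (g' := (LinearMap.range α').mkQ) ?_ ?_ hgF hg ?_ ?_ ?_ ?_
    · ext x
      exact (hc x).symm
    · ext m
      change h₃ (e ((LinearMap.range α).mkQ m)) = (LinearMap.range α').mkQ (g m)
      change (LinearMap.range α).liftQ _ hle (e.symm (e ((LinearMap.range α).mkQ m))) = _
      rw [LinearEquiv.symm_apply_apply, Submodule.mkQ_apply, Submodule.liftQ_apply]
      rfl
    · intro y
      change e ((LinearMap.range α).mkQ y) = 0 ↔ y ∈ Set.range α
      rw [LinearEquiv.map_eq_zero_iff, Submodule.mkQ_apply, Submodule.Quotient.mk_eq_zero]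
      rfl
    · exact e.surjective.comp (Submodule.mkQ_surjective _)
    · intro y
      rw [Submodule.mkQ_apply, Submodule.Quotient.mk_eq_zero]
      rfl
    · exact Submodule.mkQ_surjective _
  exact ⟨key.equiv.symm ≪≫ₗ hg₂.equiv⟩

end Main


section Residue

variable (B B' κ κ' : Type u) [CommRing B] [CommRing B'] [CommRing κ] [CommRing κ'] [Algebra B B']
  [Algebra B κ] [Algebra B' κ'] [Algebra κ κ'] [Algebra B κ'] [IsScalarTower B κ κ']
  [IsScalarTower B B' κ']
  (F M F' M' : Type u) [AddCommGroup F] [AddCommGroup M] [AddCommGroup F'] [AddCommGroup M']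
  [Module B F] [Module B M] [Module B' F'] [Module B' M'] [Module B F'] [Module B M']
  [IsScalarTower B B' F'] [IsScalarTower B B' M']
  (gF : F →ₗ[B] F') (hgF : IsBaseChange B' gF) (g : M →ₗ[B] M') (hg : IsBaseChange B' g)
  (α : F →ₗ[B] M) (α' : F' →ₗ[B'] M') (hc : ∀ x, α' (gF x) = g (α x))

include hgF hg hc in
/-- bijectivity after base change to `κ` passes to the base-changed map after base change to a
`κ`-algebra `κ'` compatibly over `B → B'`. -/
theorem bijective_baseChange_of_isBaseChange (h : Function.Bijective (α.baseChange κ)) :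
    Function.Bijective (α'.baseChange κ') := by
  -- step 1: `α.baseChange κ'` is bijective
  have h1 : Function.Bijective (α.baseChange κ') := by
    let a₁ : F →ₗ[B] κ' ⊗[κ] (κ ⊗[B] F) :=
      ((TensorProduct.mk κ κ' (κ ⊗[B] F) 1).restrictScalars B).comp (TensorProduct.mk B κ F 1)
    have ha₁ : IsBaseChange κ' a₁ :=
      IsBaseChange.comp (TensorProduct.isBaseChange B F κ)
        (TensorProduct.isBaseChange κ (κ ⊗[B] F) κ')
    let b₁ : M →ₗ[B] κ' ⊗[κ] (κ ⊗[B] M) :=
      ((TensorProduct.mk κ κ' (κ ⊗[B] M) 1).restrictScalars B).comp (TensorProduct.mk B κ M 1)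
    have hb₁ : IsBaseChange κ' b₁ :=
      IsBaseChange.comp (TensorProduct.isBaseChange B M κ)
        (TensorProduct.isBaseChange κ (κ ⊗[B] M) κ')
    let e := LinearEquiv.ofBijective (α.baseChange κ) h
    have hu : Function.Bijective ((α.baseChange κ).baseChange κ') :=
      (LinearEquiv.baseChange κ κ' _ _ e).bijective
    refine (bijective_iff_of_isBaseChange_square B κ' F M _ _ a₁ ha₁ b₁ hb₁ α
      ((α.baseChange κ).baseChange κ') ?_).mp hu
    intro x
    rfl
  -- step 2
  let a₂ : F →ₗ[B] κ' ⊗[B'] F' :=
    ((TensorProduct.mk B' κ' F' 1).restrictScalars B).comp gF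
  have ha₂ : IsBaseChange κ' a₂ := IsBaseChange.comp hgF (TensorProduct.isBaseChange B' F' κ')
  let b₂ : M →ₗ[B] κ' ⊗[B'] M' :=
    ((TensorProduct.mk B' κ' M' 1).restrictScalars B).comp g
  have hb₂ : IsBaseChange κ' b₂ := IsBaseChange.comp hg (TensorProduct.isBaseChange B' M' κ')
  refine (bijective_iff_of_isBaseChange_square B κ' F M _ _ a₂ ha₂ b₂ hb₂ α
    (α'.baseChange κ') ?_).mpr h1
  intro x
  change (α'.baseChange κ') ((1 : κ') ⊗ₜ[B'] gF x) = (1 : κ') ⊗ₜ[B'] g (α x)
  rw [LinearMap.baseChange_tmul, hc]

end Residue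

end Groth.Agent.Lib.Helper24Dev
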