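import Mathlib
import Groth.Agent.Lib.Helper24DevL
import Groth.Agent.Lib.Helper24DevM
import Groth.Agent.Lib.Helper24DevN

/-!
# Base change of one step of a complete dévissage, with the tail trick (helper24)

For an `R`-algebra `B` and a proposition `c`, the ring `Bt = TailAlg R' (R' ⊗[R] B) c` is the base
change of `B` when `c` holds and `R'` otherwise. We record its algebra structures relative to `B`,
to an algebra `A` over `B` and its base change `At = R' ⊗[R] A`.
-/

set_option autoImplicit false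
set_option backward.isDefEq.respectTransparency.types false
set_option maxHeartbeats 4000000
set_option synthInstance.maxHeartbeats 400000
set_option linter.style.haveILetI false
set_option linter.unusedSectionVars false
open TensorProduct

namespace Groth.Agent.Lib.Helper24Dev

universe u

section Generic

attribute [local instance] Algebra.TensorProduct.rightAlgebra

variable (R R' : Type u) [CommRing R] [CommRing R'] [Algebra R R']
  (B A : Type u) [CommRing B] [CommRing A] [Algebra R B] [Algebra R A] [Algebra B A]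
  [IsScalarTower R B A] (c : Prop)

/-- (d1) `Bt → At`. -/
noncomputable def tAlgBtAt : Algebra (TailAlg R' (R' ⊗[R] B) c) (R' ⊗[R] A) :=
  (TailAlg.lift (Algebra.TensorProduct.map (AlgHom.id R' R')
    (IsScalarTower.toAlgHom R B A))).toRingHom.toAlgebra

theorem tAlgBtAt_tower :
    letI := tAlgBtAt R R' B A c
    IsScalarTower R' (TailAlg R' (R' ⊗[R] B) c) (R' ⊗[R] A) := by
  letI := tAlgBtAt R R' B A c
  exact IsScalarTower.of_algebraMap_eq fun r =>
    ((TailAlg.lift (c := c) (Algebra.TensorProduct.map (AlgHom.id R' R')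
      (IsScalarTower.toAlgHom R B A))).commutes r).symm

/-- (d2) `R → Bt`. -/
noncomputable def tAlgRBt : Algebra R (TailAlg R' (R' ⊗[R] B) c) :=
  ((algebraMap R' (TailAlg R' (R' ⊗[R] B) c)).comp (algebraMap R R')).toAlgebra

theorem tAlgRBt_tower :
    letI := tAlgRBt R R' B c
    IsScalarTower R R' (TailAlg R' (R' ⊗[R] B) c) := by
  letI := tAlgRBt R R' B c
  exact IsScalarTower.of_algebraMap_eq fun r => rfl

/-- (d3) `B → Bt` when `c` holds. -/
noncomputable def tAlgBBt (h : c) : Algebra B (TailAlg R' (R' ⊗[R] B) c) :=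
  ((TailAlg.equivPos R' (R' ⊗[R] B) c h).symm.toAlgHom.toRingHom.comp
    (Algebra.TensorProduct.includeRight (R := R) (A := R') (B := B)).toRingHom).toAlgebra

theorem tAlgBBt_apply (h : c) (b : B) :
    letI := tAlgBBt R R' B c h
    algebraMap B (TailAlg R' (R' ⊗[R] B) c) b =
      (TailAlg.equivPos R' (R' ⊗[R] B) c h).symm ((1 : R') ⊗ₜ[R] b) := rfl

theorem tAlgBBt_tower (h : c) :
    letI := tAlgRBt R R' B c
    letI := tAlgBBt R R' B c h
    IsScalarTower R B (TailAlg R' (R' ⊗[R] B) c) := by
  letI := tAlgRBt R R' B c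
  letI := tAlgBBt R R' B c h
  refine IsScalarTower.of_algebraMap_eq fun r => ?_
  rw [tAlgBBt_apply]
  change algebraMap R' (TailAlg R' (R' ⊗[R] B) c) (algebraMap R R' r) = _
  rw [← (TailAlg.equivPos R' (R' ⊗[R] B) c h).symm.commutes (algebraMap R R' r)]
  congr 1
  rw [Algebra.TensorProduct.algebraMap_apply, Algebra.algebraMap_self, RingHom.id_apply,
    Algebra.algebraMap_eq_smul_one r, Algebra.algebraMap_eq_smul_one (A := B) r,
    TensorProduct.smul_tmul]

theorem tail_isPushout (h : c) :
    letI := tAlgRBt R R' B c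
    letI := tAlgBBt R R' B c h
    haveI := tAlgRBt_tower R R' B c
    haveI := tAlgBBt_tower R R' B c h
    Algebra.IsPushout R R' B (TailAlg R' (R' ⊗[R] B) c) := by
  letI := tAlgRBt R R' B c
  letI := tAlgBBt R R' B c h
  haveI := tAlgRBt_tower R R' B c
  haveI := tAlgBBt_tower R R' B c h
  exact Algebra.IsPushout.of_equiv (R := R) (R' := R') (S := B) (S' := R' ⊗[R] B)
    (TailAlg.equivPos R' (R' ⊗[R] B) c h).symm rfl

/-- (d4) `B → At` through `A`. -/
noncomputable def tAlgBAt : Algebra B (R' ⊗[R] A) :=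
  ((algebraMap A (R' ⊗[R] A)).comp (algebraMap B A)).toAlgebra

theorem tAlgBAt_tower :
    letI := tAlgBAt R R' B A
    IsScalarTower B A (R' ⊗[R] A) := by
  letI := tAlgBAt R R' B A
  exact IsScalarTower.of_algebraMap_eq fun r => rfl

theorem tAlgBBtAt_tower (h : c) :
    letI := tAlgBBt R R' B c h
    letI := tAlgBAt R R' B A
    letI := tAlgBtAt R R' B A c
    IsScalarTower B (TailAlg R' (R' ⊗[R] B) c) (R' ⊗[R] A) := by
  letI := tAlgBBt R R' B c h
  letI := tAlgBAt R R' B A
  letI := tAlgBtAt R R' B A c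
  refine IsScalarTower.of_algebraMap_eq fun b => ?_
  rw [tAlgBBt_apply]
  change _ = TailAlg.lift (c := c) (Algebra.TensorProduct.map (AlgHom.id R' R')
    (IsScalarTower.toAlgHom R B A)) _
  rw [TailAlg.lift_comp_equivPos_symm, Algebra.TensorProduct.map_tmul]
  rfl


theorem tail_isPushout_right (h : c) :
    letI := tAlgBBt R R' B c h
    letI := tAlgBAt R R' B A
    letI := tAlgBtAt R R' B A c
    haveI := tAlgBAt_tower R R' B A
    haveI := tAlgBBtAt_tower R R' B A c h
    Algebra.IsPushout B (TailAlg R' (R' ⊗[R] B) c) A (R' ⊗[R] A) := by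
  letI := tAlgRBt R R' B c
  letI := tAlgBBt R R' B c h
  letI := tAlgBAt R R' B A
  letI := tAlgBtAt R R' B A c
  haveI := tAlgRBt_tower R R' B c
  haveI := tAlgBBt_tower R R' B c h
  haveI := tail_isPushout R R' B c h
  haveI := tAlgBAt_tower R R' B A
  haveI := tAlgBBtAt_tower R R' B A c h
  haveI := tAlgBtAt_tower R R' B A c
  exact isPushout_right R R' B (TailAlg R' (R' ⊗[R] B) c) A (R' ⊗[R] A)

theorem tail_finite (h : c) [Module.Finite B A] :
    letI := tAlgBtAt R R' B A c
    Module.Finite (TailAlg R' (R' ⊗[R] B) c) (R' ⊗[R] A) := by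
  letI := tAlgBBt R R' B c h
  letI := tAlgBAt R R' B A
  letI := tAlgBtAt R R' B A c
  haveI := tAlgBAt_tower R R' B A
  haveI := tAlgBBtAt_tower R R' B A c h
  haveI := tail_isPushout_right R R' B A c h
  exact finite_of_isPushout B (TailAlg R' (R' ⊗[R] B) c) A (R' ⊗[R] A)

theorem tail_surjective (h : c) (hs : Function.Surjective (algebraMap B A)) :
    letI := tAlgBtAt R R' B A c
    Function.Surjective (algebraMap (TailAlg R' (R' ⊗[R] B) c) (R' ⊗[R] A)) := by
  letI := tAlgBBt R R' B c h
  letI := tAlgBAt R R' B A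
  letI := tAlgBtAt R R' B A c
  haveI := tAlgBAt_tower R R' B A
  haveI := tAlgBBtAt_tower R R' B A c h
  haveI := tail_isPushout_right R R' B A c h
  exact surjective_of_isPushout B (TailAlg R' (R' ⊗[R] B) c) A (R' ⊗[R] A) hs

theorem tail_finitePresentation (h : c) [Algebra.FinitePresentation B A] :
    letI := tAlgBtAt R R' B A c
    Algebra.FinitePresentation (TailAlg R' (R' ⊗[R] B) c) (R' ⊗[R] A) := by
  letI := tAlgBBt R R' B c h
  letI := tAlgBAt R R' B A
  letI := tAlgBtAt R R' B A c
  haveI := tAlgBAt_tower R R' B A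
  haveI := tAlgBBtAt_tower R R' B A c h
  haveI := tail_isPushout_right R R' B A c h
  exact finitePresentation_of_isPushout B (TailAlg R' (R' ⊗[R] B) c) A (R' ⊗[R] A)

theorem tail_smooth (h : c) [Algebra.Smooth R B] :
    Algebra.Smooth R' (TailAlg R' (R' ⊗[R] B) c) :=
  Algebra.Smooth.of_equiv (TailAlg.equivPos R' (R' ⊗[R] B) c h).symm

theorem tail_geomIrred (h : c) (hgi : FlatCA.GeomIrredFibres R B) :
    FlatCA.GeomIrredFibres R' (TailAlg R' (R' ⊗[R] B) c) := by
  letI := tAlgRBt R R' B c
  letI := tAlgBBt R R' B c h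
  haveI := tAlgRBt_tower R R' B c
  haveI := tAlgBBt_tower R R' B c h
  haveI := tail_isPushout R R' B c h
  exact geomIrred_baseChange R R' B (TailAlg R' (R' ⊗[R] B) c) hgi

theorem tail_isPrime_pos (h : c) [Algebra.Smooth R B] (hgi : FlatCA.GeomIrredFibres R B)
    (p' : Ideal R') [p'.IsPrime] :
    (p'.map (algebraMap R' (TailAlg R' (R' ⊗[R] B) c))).IsPrime := by
  haveI := tail_smooth R R' B c h
  exact isPrime_map_of_smooth_geomIrred R' (TailAlg R' (R' ⊗[R] B) c)
    (tail_geomIrred R R' B c h hgi) p'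

theorem tail_isPrime_neg (h : ¬c) (p' : Ideal R') [p'.IsPrime] :
    (p'.map (algebraMap R' (TailAlg R' (R' ⊗[R] B) c))).IsPrime := by
  let e := TailAlg.equivNeg R' (R' ⊗[R] B) c h
  have h1 : algebraMap R' (TailAlg R' (R' ⊗[R] B) c) = e.symm.toRingEquiv.toRingHom := by
    ext r
    change _ = e.symm r
    rw [← e.symm.commutes r]
    rfl
  rw [h1]
  exact Ideal.map_isPrime_of_equiv e.symm.toRingEquiv

end Generic

end Groth.Agent.Lib.Helper24Dev
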