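import Mathlib
import Groth.Agent.Lib.Helper24DevO

/-!
# Base change of one step of a complete dévissage: module level (helper24)
-/

set_option autoImplicit false
set_option backward.isDefEq.respectTransparency.types false
set_option maxHeartbeats 4000000
set_option synthInstance.maxHeartbeats 400000
set_option linter.style.haveILetI false
set_option linter.unusedSectionVars false
open TensorProduct

namespace Groth.Agent.Lib.Helper24Dev

universe u

section Abstract

/-- a base change map along `A → A'` is a base change map along `B → B'` when `A' = A ⊗_B B'`. -/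
theorem exists_linearMap_isBaseChange_of_isPushout (B B' A A' : Type u) [CommRing B] [CommRing B']
    [CommRing A] [CommRing A'] [Algebra B B'] [Algebra B A] [Algebra B' A'] [Algebra A A']
    [Algebra B A'] [IsScalarTower B B' A'] [IsScalarTower B A A'] [Algebra.IsPushout B B' A A']
    (M M' : Type u) [AddCommGroup M] [Module A M] [Module B M] [IsScalarTower B A M]
    [AddCommGroup M'] [Module A' M'] [Module B' M'] [IsScalarTower B' A' M'] [Module A M']
    [IsScalarTower A A' M'] [Module B M'] [IsScalarTower B B' M']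
    (g : M →ₗ[A] M') (hg : IsBaseChange A' g) :
    ∃ g' : M →ₗ[B] M', IsBaseChange B' g' ∧ ∀ m, g' m = g m := by
  let g' : M →ₗ[B] M' :=
    { toFun := fun m => g m
      map_add' := fun a b => map_add g a b
      map_smul' := fun b m => by
        change g (b • m) = b • g m
        rw [← algebraMap_smul A b m, map_smul, ← algebraMap_smul A' (algebraMap B A b) (g m),
          ← algebraMap_smul B' b (g m), ← algebraMap_smul A' (algebraMap B B' b) (g m),
          ← IsScalarTower.algebraMap_apply B B' A', ← IsScalarTower.algebraMap_apply B A A'] }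
  exact ⟨g', isBaseChange_of_isPushout B B' A A' M M' g hg g' (fun m => rfl), fun m => rfl⟩

variable (B B' : Type u) [CommRing B] [CommRing B'] [Algebra B B'] (r : ℕ)
  (M M' : Type u) [AddCommGroup M] [AddCommGroup M'] [Module B M] [Module B' M'] [Module B M']
  [IsScalarTower B B' M'] (g' : M →ₗ[B] M')
  (α : (Fin r → B) →ₗ[B] M) (α' : (Fin r → B') →ₗ[B'] M')
  (hc : ∀ j, α' (Pi.single j 1) = g' (α (Pi.single j 1)))

include hc in
theorem compat_of_single (x : Fin r → B) :
    α' ((Algebra.linearMap B B').compLeft (Fin r) x) = g' (α x) := by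
  have : (α'.restrictScalars B).comp ((Algebra.linearMap B B').compLeft (Fin r)) = g'.comp α := by
    apply LinearMap.pi_ext'
    intro j
    apply LinearMap.ext_ring
    change α' ((Algebra.linearMap B B').compLeft (Fin r) (Pi.single j 1)) = g' (α (Pi.single j 1))
    rw [← hc]
    congr 1
    ext k
    rw [LinearMap.compLeft_apply, Function.comp_apply, Pi.single_apply, Pi.single_apply]
    split_ifs
    · rw [Algebra.linearMap_apply, map_one]
    · rw [map_zero]
  exact congr($this x)

include hc in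
/-- bijectivity on the fibre at `P` passes to the fibre at a prime `P'` over `P`. -/
theorem bijective_baseChange_residueField (hg' : IsBaseChange B' g') (P : Ideal B) [P.IsPrime]
    (P' : Ideal B') [P'.IsPrime] [hPP : P'.LiesOver P]
    (h : Function.Bijective (α.baseChange P.ResidueField)) :
    Function.Bijective (α'.baseChange P'.ResidueField) := by
  letI : Algebra P.ResidueField P'.ResidueField :=
    (Ideal.ResidueField.map P P' (algebraMap B B') hPP.over).toAlgebra
  haveI : IsScalarTower B P.ResidueField P'.ResidueField :=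
    IsScalarTower.of_algebraMap_eq fun b => by
      change algebraMap B P'.ResidueField b =
        Ideal.ResidueField.map P P' (algebraMap B B') hPP.over (algebraMap B P.ResidueField b)
      rw [Ideal.ResidueField.map_algebraMap, ← IsScalarTower.algebraMap_apply]
  have hgF : IsBaseChange B' ((Algebra.linearMap B B').compLeft (Fin r)) :=
    IsBaseChange.finitePow (Fin r) (IsBaseChange.linearMap B B')
  exact bijective_baseChange_of_isBaseChange B B' P.ResidueField P'.ResidueField (Fin r → B) M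
    (Fin r → B') M' _ hgF g' hg' α α' (compat_of_single B B' r M M' g' α α' hc) h

include hc in
theorem range_eq_span_image_of_single :
    LinearMap.range α' = Submodule.span B' (g' '' (LinearMap.range α : Set M)) :=
  range_eq_span_image B B' (Fin r → B) M (Fin r → B') M' _
    (IsBaseChange.finitePow (Fin r) (IsBaseChange.linearMap B B')) g' α α'
    (compat_of_single B B' r M M' g' α α' hc)

include hc in
theorem nonempty_quotient_equiv_of_single (hg' : IsBaseChange B' g') (M₂ M₂' : Type u)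
    [AddCommGroup M₂] [AddCommGroup M₂'] [Module B M₂] [Module B' M₂'] [Module B M₂']
    [IsScalarTower B B' M₂'] (g₂ : M₂ →ₗ[B] M₂') (hg₂ : IsBaseChange B' g₂)
    (e : (M ⧸ LinearMap.range α) ≃ₗ[B] M₂) :
    Nonempty ((M' ⧸ LinearMap.range α') ≃ₗ[B'] M₂') :=
  nonempty_quotient_equiv_of_isBaseChange B B' (Fin r → B) M (Fin r → B') M' _
    (IsBaseChange.finitePow (Fin r) (IsBaseChange.linearMap B B')) g' hg' α α'
    (compat_of_single B B' r M M' g' α α' hc) M₂ M₂' g₂ hg₂ e

include hc in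
theorem surjective_of_single (hg' : IsBaseChange B' g') (hα : Function.Surjective α) :
    Function.Surjective α' := by
  rw [← LinearMap.range_eq_top, range_eq_span_image_of_single B B' r M M' g' α α' hc,
    LinearMap.range_eq_top.mpr hα, Submodule.top_coe, Set.image_univ]
  exact span_range_eq_top_of_isBaseChange B B' M M' g' hg'

end Abstract


section TailMod

attribute [local instance] Algebra.TensorProduct.rightAlgebra

variable (R R' : Type u) [CommRing R] [CommRing R'] [Algebra R R']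
  (B A : Type u) [CommRing B] [CommRing A] [Algebra R B] [Algebra R A] [Algebra B A]
  [IsScalarTower R B A] (c : Prop)
  (M : Type u) [AddCommGroup M] [Module A M]

/-- (d5) the `Bt`-module structure on `Mt = At ⊗[A] M` through `Bt → At`. -/
noncomputable def tModBtMt : Module (TailAlg R' (R' ⊗[R] B) c) ((R' ⊗[R] A) ⊗[A] M) :=
  letI := tAlgBtAt R R' B A c
  Module.compHom ((R' ⊗[R] A) ⊗[A] M) (algebraMap (TailAlg R' (R' ⊗[R] B) c) (R' ⊗[R] A))

theorem tModBtMt_tower :
    letI := tAlgBtAt R R' B A c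
    letI := tModBtMt R R' B A c M
    IsScalarTower (TailAlg R' (R' ⊗[R] B) c) (R' ⊗[R] A) ((R' ⊗[R] A) ⊗[A] M) := by
  letI := tAlgBtAt R R' B A c
  letI := tModBtMt R R' B A c M
  exact IsScalarTower.of_algebraMap_smul fun _ _ => rfl

/-- the canonical `R'`-module structure on `Mt` is compatible with the `Bt`-structure. -/
theorem tModR'Mt_tower :
    letI := tModBtMt R R' B A c M
    IsScalarTower R' (TailAlg R' (R' ⊗[R] B) c) ((R' ⊗[R] A) ⊗[A] M) := by
  letI := tAlgBtAt R R' B A c
  haveI := tAlgBtAt_tower R R' B A c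
  letI := tModBtMt R R' B A c M
  refine IsScalarTower.of_algebraMap_smul fun r x => ?_
  have e1 : algebraMap R' (TailAlg R' (R' ⊗[R] B) c) r • x =
      algebraMap (TailAlg R' (R' ⊗[R] B) c) (R' ⊗[R] A)
        (algebraMap R' (TailAlg R' (R' ⊗[R] B) c) r) • x := rfl
  rw [e1, ← IsScalarTower.algebraMap_apply, algebraMap_smul]

variable [Module B M] [IsScalarTower B A M] (r : ℕ) (α : (Fin r → B) →ₗ[B] M)

/-- (d7) the base-changed presentation map. -/
noncomputable def tα :
    @LinearMap (TailAlg R' (R' ⊗[R] B) c) (TailAlg R' (R' ⊗[R] B) c) _ _ (RingHom.id _)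
      (Fin r → TailAlg R' (R' ⊗[R] B) c) ((R' ⊗[R] A) ⊗[A] M) _ _ _ (tModBtMt R R' B A c M) :=
  letI := tModBtMt R R' B A c M
  Fintype.linearCombination (TailAlg R' (R' ⊗[R] B) c)
    (fun j => (1 : R' ⊗[R] A) ⊗ₜ[A] α (Pi.single j 1))

theorem tα_single (j : Fin r) :
    tα R R' B A c M r α (Pi.single j 1) = (1 : R' ⊗[R] A) ⊗ₜ[A] α (Pi.single j 1) := by
  letI := tModBtMt R R' B A c M
  unfold tα
  rw [Fintype.linearCombination_apply_single, one_smul]


section Pos

/-- the base change map `M → Mt` as a `B`-linear map is a base change along `B → Bt`. -/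
theorem tail_exists_g' (h : c) :
    letI := tAlgBBt R R' B c h
    letI := tModBtMt R R' B A c M
    letI mB : Module B ((R' ⊗[R] A) ⊗[A] M) :=
      Module.compHom ((R' ⊗[R] A) ⊗[A] M) (algebraMap B (TailAlg R' (R' ⊗[R] B) c))
    haveI : IsScalarTower B (TailAlg R' (R' ⊗[R] B) c) ((R' ⊗[R] A) ⊗[A] M) :=
      IsScalarTower.of_algebraMap_smul fun _ _ => rfl
    ∃ g' : M →ₗ[B] ((R' ⊗[R] A) ⊗[A] M), IsBaseChange (TailAlg R' (R' ⊗[R] B) c) g' ∧
      ∀ m, g' m = (1 : R' ⊗[R] A) ⊗ₜ[A] m := by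
  letI := tAlgBBt R R' B c h
  letI := tModBtMt R R' B A c M
  letI mB : Module B ((R' ⊗[R] A) ⊗[A] M) :=
    Module.compHom ((R' ⊗[R] A) ⊗[A] M) (algebraMap B (TailAlg R' (R' ⊗[R] B) c))
  haveI tB : IsScalarTower B (TailAlg R' (R' ⊗[R] B) c) ((R' ⊗[R] A) ⊗[A] M) :=
    IsScalarTower.of_algebraMap_smul fun _ _ => rfl
  letI := tAlgBAt R R' B A
  letI := tAlgBtAt R R' B A c
  haveI := tAlgBAt_tower R R' B A
  haveI := tAlgBBtAt_tower R R' B A c h
  haveI := tail_isPushout_right R R' B A c h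
  have t9 := tModBtMt_tower R R' B A c M
  exact @exists_linearMap_isBaseChange_of_isPushout B (TailAlg R' (R' ⊗[R] B) c) A (R' ⊗[R] A)
    _ _ _ _ _ _ _ _ _ _ _ _ M ((R' ⊗[R] A) ⊗[A] M) _ _ _ _ _ _ (tModBtMt R R' B A c M) t9 _ _ mB
    tB (TensorProduct.mk A (R' ⊗[R] A) M 1) (TensorProduct.isBaseChange A M (R' ⊗[R] A))

theorem tail_fibreIso (h : c) [Module.Flat R B] (p : Ideal R) (p' : Ideal R') [p'.LiesOver p]
    [hP : (p.map (algebraMap R B)).IsPrime]
    [hP' : (p'.map (algebraMap R' (TailAlg R' (R' ⊗[R] B) c))).IsPrime]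
    (hα : Function.Bijective (α.baseChange (p.map (algebraMap R B)).ResidueField)) :
    letI := tModBtMt R R' B A c M
    Function.Bijective ((tα R R' B A c M r α).baseChange
      (p'.map (algebraMap R' (TailAlg R' (R' ⊗[R] B) c))).ResidueField) := by
  letI := tAlgRBt R R' B c
  letI := tAlgBBt R R' B c h
  haveI := tAlgRBt_tower R R' B c
  haveI := tAlgBBt_tower R R' B c h
  haveI := tail_isPushout R R' B c h
  letI := tModBtMt R R' B A c M
  letI mB : Module B ((R' ⊗[R] A) ⊗[A] M) :=
    Module.compHom ((R' ⊗[R] A) ⊗[A] M) (algebraMap B (TailAlg R' (R' ⊗[R] B) c))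
  haveI : IsScalarTower B (TailAlg R' (R' ⊗[R] B) c) ((R' ⊗[R] A) ⊗[A] M) :=
    IsScalarTower.of_algebraMap_smul fun _ _ => rfl
  obtain ⟨g', hg', hgg⟩ := tail_exists_g' R R' B A c M h
  haveI : (p'.map (algebraMap R' (TailAlg R' (R' ⊗[R] B) c))).LiesOver
      (p.map (algebraMap R B)) :=
    ⟨(comap_map_eq_map_of_flat R B R' (TailAlg R' (R' ⊗[R] B) c) p p').symm⟩
  exact bijective_baseChange_residueField B (TailAlg R' (R' ⊗[R] B) c) r M
    ((R' ⊗[R] A) ⊗[A] M) g' α (tα R R' B A c M r α)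
    (fun j => by rw [tα_single, hgg]) hg' (p.map (algebraMap R B))
    (p'.map (algebraMap R' (TailAlg R' (R' ⊗[R] B) c))) hα

theorem tail_range (h : c) :
    letI := tModBtMt R R' B A c M
    LinearMap.range (tα R R' B A c M r α) =
      Submodule.span (TailAlg R' (R' ⊗[R] B) c)
        ((TensorProduct.mk A (R' ⊗[R] A) M 1) '' (LinearMap.range α : Set M)) := by
  letI := tAlgBBt R R' B c h
  letI := tModBtMt R R' B A c M
  letI mB : Module B ((R' ⊗[R] A) ⊗[A] M) :=
    Module.compHom ((R' ⊗[R] A) ⊗[A] M) (algebraMap B (TailAlg R' (R' ⊗[R] B) c))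
  haveI : IsScalarTower B (TailAlg R' (R' ⊗[R] B) c) ((R' ⊗[R] A) ⊗[A] M) :=
    IsScalarTower.of_algebraMap_smul fun _ _ => rfl
  obtain ⟨g', hg', hgg⟩ := tail_exists_g' R R' B A c M h
  rw [range_eq_span_image_of_single B (TailAlg R' (R' ⊗[R] B) c) r M
    ((R' ⊗[R] A) ⊗[A] M) g' α (tα R R' B A c M r α) (fun j => by rw [tα_single, hgg])]
  congr 1
  exact Set.image_congr fun m _ => hgg m

theorem tail_surjective_α (h : c) (hα : Function.Surjective α) :
    Function.Surjective (tα R R' B A c M r α) := by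
  letI := tAlgBBt R R' B c h
  letI := tModBtMt R R' B A c M
  letI mB : Module B ((R' ⊗[R] A) ⊗[A] M) :=
    Module.compHom ((R' ⊗[R] A) ⊗[A] M) (algebraMap B (TailAlg R' (R' ⊗[R] B) c))
  haveI : IsScalarTower B (TailAlg R' (R' ⊗[R] B) c) ((R' ⊗[R] A) ⊗[A] M) :=
    IsScalarTower.of_algebraMap_smul fun _ _ => rfl
  obtain ⟨g', hg', hgg⟩ := tail_exists_g' R R' B A c M h
  exact surjective_of_single B (TailAlg R' (R' ⊗[R] B) c) r M
    ((R' ⊗[R] A) ⊗[A] M) g' α (tα R R' B A c M r α) (fun j => by rw [tα_single, hgg]) hg' hα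

theorem tail_coker (h : c) (A₂ M₂ : Type u) [CommRing A₂] [Algebra R A₂] [Algebra B A₂]
    [IsScalarTower R B A₂] [AddCommGroup M₂] [Module A₂ M₂] [Module B M₂] [IsScalarTower B A₂ M₂]
    (e : (M ⧸ LinearMap.range α) ≃ₗ[B] M₂) :
    letI := tModBtMt R R' B A c M
    letI := tModBtMt R R' B A₂ c M₂
    Nonempty ((((R' ⊗[R] A) ⊗[A] M) ⧸ LinearMap.range (tα R R' B A c M r α)) ≃ₗ[
      TailAlg R' (R' ⊗[R] B) c] ((R' ⊗[R] A₂) ⊗[A₂] M₂)) := by
  letI := tAlgBBt R R' B c h
  letI i1 := tModBtMt R R' B A c M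
  letI i2 := tModBtMt R R' B A₂ c M₂
  letI mB : Module B ((R' ⊗[R] A) ⊗[A] M) :=
    Module.compHom ((R' ⊗[R] A) ⊗[A] M) (algebraMap B (TailAlg R' (R' ⊗[R] B) c))
  haveI : IsScalarTower B (TailAlg R' (R' ⊗[R] B) c) ((R' ⊗[R] A) ⊗[A] M) :=
    IsScalarTower.of_algebraMap_smul fun _ _ => rfl
  letI mB₂ : Module B ((R' ⊗[R] A₂) ⊗[A₂] M₂) :=
    Module.compHom ((R' ⊗[R] A₂) ⊗[A₂] M₂) (algebraMap B (TailAlg R' (R' ⊗[R] B) c))
  haveI : IsScalarTower B (TailAlg R' (R' ⊗[R] B) c) ((R' ⊗[R] A₂) ⊗[A₂] M₂) :=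
    IsScalarTower.of_algebraMap_smul fun _ _ => rfl
  obtain ⟨g', hg', hgg⟩ := tail_exists_g' R R' B A c M h
  obtain ⟨g₂, hg₂, -⟩ := tail_exists_g' R R' B A₂ c M₂ h
  exact nonempty_quotient_equiv_of_single B (TailAlg R' (R' ⊗[R] B) c) r M
    ((R' ⊗[R] A) ⊗[A] M) g' α (tα R R' B A c M r α) (fun j => by rw [tα_single, hgg]) hg'
    M₂ ((R' ⊗[R] A₂) ⊗[A₂] M₂) g₂ hg₂ e

end Pos

end TailMod

end Groth.Agent.Lib.Helper24Dev
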