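import Mathlib
import Groth.Agent.Lib.Helper24DevP

/-!
# Base change of the first step of a complete dévissage: the map from `S'` (helper24)
-/

set_option autoImplicit false
set_option backward.isDefEq.respectTransparency.types false
set_option maxHeartbeats 4000000
set_option synthInstance.maxHeartbeats 400000
set_option linter.style.haveILetI false
set_option linter.unusedSectionVars false
open TensorProduct

namespace Groth.Agent.Lib.Helper24Dev

universe u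

section SPart

attribute [local instance] Algebra.TensorProduct.rightAlgebra

variable (R R' S S' : Type u) [CommRing R] [CommRing R'] [CommRing S] [CommRing S'] [Algebra R R']
  [Algebra R S] [Algebra R' S'] [Algebra R S'] [Algebra S S'] [IsScalarTower R R' S']
  [IsScalarTower R S S'] [Algebra.IsPushout R R' S S']
  (A₀ : Type u) [CommRing A₀] [Algebra R A₀] [Algebra S A₀] [IsScalarTower R S A₀]

/-- (d8) the map `S' → R' ⊗ A₀`. -/
noncomputable def sAlg : Algebra S' (R' ⊗[R] A₀) :=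
  (Algebra.pushoutDesc S' (Algebra.TensorProduct.includeLeft : R' →ₐ[R] R' ⊗[R] A₀)
    ((Algebra.TensorProduct.includeRight : A₀ →ₐ[R] R' ⊗[R] A₀).comp
      (IsScalarTower.toAlgHom R S A₀))
    (fun _ _ => mul_comm _ _)).toRingHom.toAlgebra

theorem sAlg_tower :
    letI := sAlg R R' S S' A₀
    IsScalarTower R' S' (R' ⊗[R] A₀) := by
  letI := sAlg R R' S S' A₀
  refine IsScalarTower.of_algebraMap_eq fun r => ?_
  change _ = Algebra.pushoutDesc S' (Algebra.TensorProduct.includeLeft : R' →ₐ[R] R' ⊗[R] A₀)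
    ((Algebra.TensorProduct.includeRight : A₀ →ₐ[R] R' ⊗[R] A₀).comp
      (IsScalarTower.toAlgHom R S A₀)) (fun _ _ => mul_comm _ _) (algebraMap R' S' r)
  rw [Algebra.pushoutDesc_left, Algebra.TensorProduct.algebraMap_apply, Algebra.algebraMap_self,
    RingHom.id_apply]
  rfl

theorem sAlg_towerS :
    letI := sAlg R R' S S' A₀
    letI := tAlgBAt R R' S A₀
    IsScalarTower S S' (R' ⊗[R] A₀) := by
  letI := sAlg R R' S S' A₀
  letI := tAlgBAt R R' S A₀
  refine IsScalarTower.of_algebraMap_eq fun s => ?_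
  change _ = Algebra.pushoutDesc S' (Algebra.TensorProduct.includeLeft : R' →ₐ[R] R' ⊗[R] A₀)
    ((Algebra.TensorProduct.includeRight : A₀ →ₐ[R] R' ⊗[R] A₀).comp
      (IsScalarTower.toAlgHom R S A₀)) (fun _ _ => mul_comm _ _) (algebraMap S S' s)
  rw [Algebra.pushoutDesc_right]
  rfl

theorem s_isPushout :
    letI := sAlg R R' S S' A₀
    letI := tAlgBAt R R' S A₀
    haveI := sAlg_towerS R R' S S' A₀
    haveI := tAlgBAt_tower R R' S A₀
    Algebra.IsPushout S S' A₀ (R' ⊗[R] A₀) := by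
  letI := sAlg R R' S S' A₀
  letI := tAlgBAt R R' S A₀
  haveI := sAlg_tower R R' S S' A₀
  haveI := sAlg_towerS R R' S S' A₀
  haveI := tAlgBAt_tower R R' S A₀
  exact isPushout_right R R' S S' A₀ (R' ⊗[R] A₀)

theorem s_surjective (hs : Function.Surjective (algebraMap S A₀)) :
    letI := sAlg R R' S S' A₀
    Function.Surjective (algebraMap S' (R' ⊗[R] A₀)) := by
  letI := sAlg R R' S S' A₀
  letI := tAlgBAt R R' S A₀
  haveI := sAlg_towerS R R' S S' A₀
  haveI := tAlgBAt_tower R R' S A₀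
  haveI := s_isPushout R R' S S' A₀
  exact surjective_of_isPushout S S' A₀ (R' ⊗[R] A₀) hs

theorem s_finitePresentation [Algebra.FinitePresentation S A₀] :
    letI := sAlg R R' S S' A₀
    Algebra.FinitePresentation S' (R' ⊗[R] A₀) := by
  letI := sAlg R R' S S' A₀
  letI := tAlgBAt R R' S A₀
  haveI := sAlg_towerS R R' S S' A₀
  haveI := tAlgBAt_tower R R' S A₀
  haveI := s_isPushout R R' S S' A₀
  exact finitePresentation_of_isPushout S S' A₀ (R' ⊗[R] A₀)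

variable (M₀ : Type u) [AddCommGroup M₀] [Module A₀ M₀]

/-- (d10) the `S'`-module structure on `(R' ⊗ A₀) ⊗[A₀] M₀`. -/
noncomputable def sMod : Module S' ((R' ⊗[R] A₀) ⊗[A₀] M₀) :=
  letI := sAlg R R' S S' A₀
  Module.compHom ((R' ⊗[R] A₀) ⊗[A₀] M₀) (algebraMap S' (R' ⊗[R] A₀))

theorem sMod_tower :
    letI := sAlg R R' S S' A₀
    letI := sMod R R' S S' A₀ M₀
    IsScalarTower S' (R' ⊗[R] A₀) ((R' ⊗[R] A₀) ⊗[A₀] M₀) := by
  letI := sAlg R R' S S' A₀
  letI := sMod R R' S S' A₀ M₀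
  exact IsScalarTower.of_algebraMap_smul fun _ _ => rfl

theorem s_exists_g' [Module S M₀] [IsScalarTower S A₀ M₀] :
    letI := sMod R R' S S' A₀ M₀
    letI mS : Module S ((R' ⊗[R] A₀) ⊗[A₀] M₀) :=
      Module.compHom ((R' ⊗[R] A₀) ⊗[A₀] M₀) (algebraMap S S')
    haveI : IsScalarTower S S' ((R' ⊗[R] A₀) ⊗[A₀] M₀) :=
      IsScalarTower.of_algebraMap_smul fun _ _ => rfl
    ∃ g' : M₀ →ₗ[S] ((R' ⊗[R] A₀) ⊗[A₀] M₀), IsBaseChange S' g' ∧
      ∀ m, g' m = (1 : R' ⊗[R] A₀) ⊗ₜ[A₀] m := by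
  letI := sAlg R R' S S' A₀
  letI mS' := sMod R R' S S' A₀ M₀
  have tS' := sMod_tower R R' S S' A₀ M₀
  letI mS : Module S ((R' ⊗[R] A₀) ⊗[A₀] M₀) :=
    Module.compHom ((R' ⊗[R] A₀) ⊗[A₀] M₀) (algebraMap S S')
  haveI tS : IsScalarTower S S' ((R' ⊗[R] A₀) ⊗[A₀] M₀) :=
    IsScalarTower.of_algebraMap_smul fun _ _ => rfl
  letI := tAlgBAt R R' S A₀
  haveI := sAlg_towerS R R' S S' A₀
  haveI := tAlgBAt_tower R R' S A₀
  haveI := s_isPushout R R' S S' A₀
  exact @exists_linearMap_isBaseChange_of_isPushout S S' A₀ (R' ⊗[R] A₀)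
    _ _ _ _ _ _ _ _ _ _ _ _ M₀ ((R' ⊗[R] A₀) ⊗[A₀] M₀) _ _ _ _ _ _ mS' tS' _ _ mS
    tS (TensorProduct.mk A₀ (R' ⊗[R] A₀) M₀ 1) (TensorProduct.isBaseChange A₀ M₀ (R' ⊗[R] A₀))

/-- the identification `N' ≅ (R' ⊗ A₀) ⊗[A₀] M₀` compatible with `N ≅ M₀`. -/
theorem s_isoN (N N' : Type u) [AddCommGroup N] [AddCommGroup N'] [Module S N] [Module S' N']
    [Module S N'] [IsScalarTower S S' N'] (f : N →ₗ[S] N') (hf : IsBaseChange S' f)
    [Module S M₀] [IsScalarTower S A₀ M₀] (e : N ≃ₗ[S] M₀) :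
    letI := sMod R R' S S' A₀ M₀
    ∃ e' : N' ≃ₗ[S'] ((R' ⊗[R] A₀) ⊗[A₀] M₀), ∀ x, e' (f x) = (1 : R' ⊗[R] A₀) ⊗ₜ[A₀] e x := by
  letI mS' := sMod R R' S S' A₀ M₀
  letI mS : Module S ((R' ⊗[R] A₀) ⊗[A₀] M₀) :=
    Module.compHom ((R' ⊗[R] A₀) ⊗[A₀] M₀) (algebraMap S S')
  haveI tS : IsScalarTower S S' ((R' ⊗[R] A₀) ⊗[A₀] M₀) :=
    IsScalarTower.of_algebraMap_smul fun _ _ => rfl
  obtain ⟨g', hg', hgg⟩ := s_exists_g' R R' S S' A₀ M₀
  have hcomp : IsBaseChange S' (g'.comp e.toLinearMap) := IsBaseChange.comp_equiv e g' hg'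
  refine ⟨hf.equiv.symm ≪≫ₗ hcomp.equiv, fun x => ?_⟩
  rw [LinearEquiv.trans_apply, hf.equiv_symm_apply, hcomp.equiv_tmul, one_smul]
  exact hgg (e x)

end SPart

end Groth.Agent.Lib.Helper24Dev
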