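import Mathlib
import Groth.Agent.Lib.Helper24DevQ

/-!
# Base change of a complete dévissage (helper24)
-/

set_option autoImplicit false
set_option backward.isDefEq.respectTransparency.types false
set_option maxHeartbeats 4000000
set_option synthInstance.maxHeartbeats 400000
set_option linter.style.haveILetI false
set_option linter.unusedSectionVars false
open TensorProduct FlatCA

namespace Groth.Agent.Lib.Helper24Dev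

universe u

section Build

attribute [local instance] Algebra.TensorProduct.rightAlgebra

variable (R S : Type u) [CommRing R] [CommRing S] [Algebra R S]
  (N : Type u) [AddCommGroup N] [Module S N]
  (p : Ideal R) [p.IsPrime] (𝒟 : FlatCA.CompleteDevissage R S N p)
  (R' : Type u) [CommRing R'] [Algebra R R'] (p' : Ideal R') [p'.IsPrime] [p'.LiesOver p]
  (S' : Type u) [CommRing S'] [Algebra R' S'] [Algebra R S'] [Algebra S S'] [IsScalarTower R R' S']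
  [IsScalarTower R S S'] [Algebra.IsPushout R R' S S']
  (N' : Type u) [AddCommGroup N'] [Module S' N'] [Module S N'] [IsScalarTower S S' N']
  (f : N →ₗ[S] N') (hf : IsBaseChange S' f)

/-- the base change of a complete dévissage along `R → R'`. -/
noncomputable abbrev bcDev : FlatCA.CompleteDevissage R' S' N' p' where
  n := 𝒟.n
  pos := 𝒟.pos
  A := fun i => R' ⊗[R] 𝒟.A i
  B := fun i => TailAlg R' (R' ⊗[R] 𝒟.B i) (i < 𝒟.n)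
  M := fun i => (R' ⊗[R] 𝒟.A i) ⊗[𝒟.A i] 𝒟.M i
  r := 𝒟.r
  cA := fun i => inferInstance
  cB := fun i => inferInstance
  aRA := fun i => inferInstance
  aRB := fun i => inferInstance
  aBA := fun i => tAlgBtAt R R' (𝒟.B i) (𝒟.A i) (i < 𝒟.n)
  tRBA := fun i => tAlgBtAt_tower R R' (𝒟.B i) (𝒟.A i) (i < 𝒟.n)
  aSA := sAlg R R' S S' (𝒟.A 0)
  tRSA := sAlg_tower R R' S S' (𝒟.A 0)
  aBA' := fun i => tAlgBtAt R R' (𝒟.B i) (𝒟.A (i + 1)) (i < 𝒟.n)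
  tRBA' := fun i => tAlgBtAt_tower R R' (𝒟.B i) (𝒟.A (i + 1)) (i < 𝒟.n)
  gM := fun i => inferInstance
  mAM := fun i => inferInstance
  mBM := fun i => tModBtMt R R' (𝒟.B i) (𝒟.A i) (i < 𝒟.n) (𝒟.M i)
  tBAM := fun i => tModBtMt_tower R R' (𝒟.B i) (𝒟.A i) (i < 𝒟.n) (𝒟.M i)
  mRM := fun i => inferInstance
  tRBM := fun i => tModR'Mt_tower R R' (𝒟.B i) (𝒟.A i) (i < 𝒟.n) (𝒟.M i)
  mSM := sMod R R' S S' (𝒟.A 0) (𝒟.M 0)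
  tSAM := sMod_tower R R' S S' (𝒟.A 0) (𝒟.M 0)
  mB'M := fun i => tModBtMt R R' (𝒟.B i) (𝒟.A (i + 1)) (i < 𝒟.n) (𝒟.M (i + 1))
  tB'AM := fun i => tModBtMt_tower R R' (𝒟.B i) (𝒟.A (i + 1)) (i < 𝒟.n) (𝒟.M (i + 1))
  hp := fun i => by
    by_cases h : i < 𝒟.n
    · haveI := 𝒟.smooth i h
      exact tail_isPrime_pos R R' (𝒟.B i) (i < 𝒟.n) h (𝒟.geomIrred i h) p'
    · exact tail_isPrime_neg R R' (𝒟.B i) (i < 𝒟.n) h p'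
  α := fun i => tα R R' (𝒟.B i) (𝒟.A i) (i < 𝒟.n) (𝒟.M i) (𝒟.r i) (𝒟.α i)
  surjSA := s_surjective R R' S S' (𝒟.A 0) 𝒟.surjSA
  fpSA := haveI := 𝒟.fpSA; s_finitePresentation R R' S S' (𝒟.A 0)
  surjBA' := fun i h => tail_surjective R R' (𝒟.B i) (𝒟.A (i + 1)) (i < 𝒟.n) (by omega)
    (𝒟.surjBA' i h)
  fpBA' := fun i h => haveI := 𝒟.fpBA' i h
    tail_finitePresentation R R' (𝒟.B i) (𝒟.A (i + 1)) (i < 𝒟.n) (by omega)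
  finiteBA := fun i h => haveI := 𝒟.finiteBA i h
    tail_finite R R' (𝒟.B i) (𝒟.A i) (i < 𝒟.n) h
  smooth := fun i h => haveI := 𝒟.smooth i h
    tail_smooth R R' (𝒟.B i) (i < 𝒟.n) h
  geomIrred := fun i h => tail_geomIrred R R' (𝒟.B i) (i < 𝒟.n) h (𝒟.geomIrred i h)
  finiteM := fun i h => haveI := 𝒟.finiteM i h
    inferInstance
  isoN := (s_isoN R R' S S' (𝒟.A 0) (𝒟.M 0) N N' f hf 𝒟.isoN).choose
  isoCoker := fun i h =>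
    (tail_coker R R' (𝒟.B i) (𝒟.A i) (i < 𝒟.n) (𝒟.M i) (𝒟.r i) (𝒟.α i) (by omega)
      (𝒟.A (i + 1)) (𝒟.M (i + 1)) (𝒟.isoCoker i h)).some
  fibreIso := fun i h => by
    haveI := 𝒟.smooth i h
    haveI : (p'.map (algebraMap R' (TailAlg R' (R' ⊗[R] 𝒟.B i) (i < 𝒟.n)))).IsPrime :=
      tail_isPrime_pos R R' (𝒟.B i) (i < 𝒟.n) h (𝒟.geomIrred i h) p'
    exact tail_fibreIso R R' (𝒟.B i) (𝒟.A i) (i < 𝒟.n) (𝒟.M i) (𝒟.r i) (𝒟.α i) h p p'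
      (𝒟.fibreIso i h)
  cokerLast := tail_surjective_α R R' (𝒟.B (𝒟.n - 1)) (𝒟.A (𝒟.n - 1)) (𝒟.n - 1 < 𝒟.n)
    (𝒟.M (𝒟.n - 1)) (𝒟.r (𝒟.n - 1)) (𝒟.α (𝒟.n - 1)) (Nat.sub_one_lt_of_lt 𝒟.pos) 𝒟.cokerLast

theorem exists_completeDevissage_baseChange
    (R S : Type u) [CommRing R] [CommRing S] [Algebra R S] [Algebra.FiniteType R S]
    (N : Type u) [AddCommGroup N] [Module S N] [Module.Finite S N]
    (p : Ideal R) [p.IsPrime] (𝒟 : FlatCA.CompleteDevissage R S N p)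
    (R' : Type u) [CommRing R'] [Algebra R R'] (p' : Ideal R') [p'.IsPrime] [p'.LiesOver p]
    (S' : Type u) [CommRing S'] [Algebra R' S'] [Algebra R S'] [Algebra S S'] [IsScalarTower R R' S']
    [IsScalarTower R S S'] [Algebra.IsPushout R R' S S']
    (N' : Type u) [AddCommGroup N'] [Module S' N'] [Module S N'] [IsScalarTower S S' N']
    (f : N →ₗ[S] N') (hf : IsBaseChange S' f) :
    ∃ (𝒟' : FlatCA.CompleteDevissage R' S' N' p')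
      (aA : ∀ i : Fin 𝒟.n, Algebra (𝒟.A i) (𝒟'.A i)) (rA : ∀ i : Fin 𝒟.n, Algebra R (𝒟'.A i))
      (_t1 : ∀ i : Fin 𝒟.n, IsScalarTower R (R') (𝒟'.A i)) (_t2 : ∀ i : Fin 𝒟.n, IsScalarTower R (𝒟.A i) (𝒟'.A i))
      (aB : ∀ i : Fin 𝒟.n, Algebra (𝒟.B i) (𝒟'.B i)) (rB : ∀ i : Fin 𝒟.n, Algebra R (𝒟'.B i))
      (_t3 : ∀ i : Fin 𝒟.n, IsScalarTower R (R') (𝒟'.B i)) (_t4 : ∀ i : Fin 𝒟.n, IsScalarTower R (𝒟.B i) (𝒟'.B i))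
      (bA : ∀ i : Fin 𝒟.n, Algebra (𝒟.B i) (𝒟'.A i)) (_t5 : ∀ i : Fin 𝒟.n, IsScalarTower (𝒟.B i) (𝒟.A i) (𝒟'.A i))
      (_t6 : ∀ i : Fin 𝒟.n, IsScalarTower (𝒟.B i) (𝒟'.B i) (𝒟'.A i))
      (bA' : ∀ i : Fin 𝒟.n, Algebra (𝒟.B i) (𝒟'.A (i + 1)))
      (_t7 : ∀ i : Fin 𝒟.n, IsScalarTower (𝒟.B i) (𝒟'.B i) (𝒟'.A (i + 1)))
      (sA : Algebra S (𝒟'.A 0)) (_t8 : IsScalarTower S (S') (𝒟'.A 0))
      (mA : ∀ i : Fin 𝒟.n, Module (𝒟.A i) (𝒟'.M i)) (_t9 : ∀ i : Fin 𝒟.n, IsScalarTower (𝒟.A i) (𝒟'.A i) (𝒟'.M i))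
      (gM : ∀ i : Fin 𝒟.n, 𝒟.M i →ₗ[𝒟.A i] 𝒟'.M i),
      𝒟'.n = 𝒟.n ∧ 𝒟'.r = 𝒟.r ∧
      (letI := aA ⟨0, 𝒟.pos⟩; IsScalarTower S (𝒟.A 0) (𝒟'.A 0)) ∧
      (∀ x : N, 𝒟'.isoN (f x) = gM ⟨0, 𝒟.pos⟩ (𝒟.isoN x)) ∧
      (∀ (i : Fin 𝒟.n) (h : (i : ℕ) + 1 < 𝒟.n),
        letI := aA ⟨i + 1, h⟩; IsScalarTower (𝒟.B i) (𝒟.A (i + 1)) (𝒟'.A (i + 1))) ∧
      ∀ i : Fin 𝒟.n,
        Algebra.IsPushout R R' (𝒟.A i) (𝒟'.A i) ∧ Algebra.IsPushout R R' (𝒟.B i) (𝒟'.B i) ∧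
        IsBaseChange (𝒟'.A i) (gM i) ∧
        LinearMap.range (𝒟'.α i) =
          Submodule.span (𝒟'.B i) ((gM i) '' (LinearMap.range (𝒟.α i) : Set (𝒟.M i))) := by
  refine ⟨bcDev R S N p 𝒟 R' p' S' N' f hf,
    fun i => (Algebra.TensorProduct.rightAlgebra : Algebra (𝒟.A i) (R' ⊗[R] 𝒟.A i)),
    fun i => (inferInstance : Algebra R (R' ⊗[R] 𝒟.A i)),
    fun i => (inferInstance : IsScalarTower R R' (R' ⊗[R] 𝒟.A i)),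
    fun i => (inferInstance : IsScalarTower R (𝒟.A i) (R' ⊗[R] 𝒟.A i)),
    fun i => tAlgBBt R R' (𝒟.B i) ((i : ℕ) < 𝒟.n) i.isLt,
    fun i => tAlgRBt R R' (𝒟.B i) ((i : ℕ) < 𝒟.n),
    fun i => tAlgRBt_tower R R' (𝒟.B i) ((i : ℕ) < 𝒟.n),
    fun i => tAlgBBt_tower R R' (𝒟.B i) ((i : ℕ) < 𝒟.n) i.isLt,
    fun i => tAlgBAt R R' (𝒟.B i) (𝒟.A i),
    fun i => tAlgBAt_tower R R' (𝒟.B i) (𝒟.A i),
    fun i => tAlgBBtAt_tower R R' (𝒟.B i) (𝒟.A i) ((i : ℕ) < 𝒟.n) i.isLt,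
    fun i => tAlgBAt R R' (𝒟.B i) (𝒟.A (i + 1)),
    fun i => tAlgBBtAt_tower R R' (𝒟.B i) (𝒟.A (i + 1)) ((i : ℕ) < 𝒟.n) i.isLt,
    tAlgBAt R R' S (𝒟.A 0), sAlg_towerS R R' S S' (𝒟.A 0),
    fun i => (inferInstance : Module (𝒟.A i) ((R' ⊗[R] 𝒟.A i) ⊗[𝒟.A i] 𝒟.M i)),
    fun i => (inferInstance :
      IsScalarTower (𝒟.A i) (R' ⊗[R] 𝒟.A i) ((R' ⊗[R] 𝒟.A i) ⊗[𝒟.A i] 𝒟.M i)),
    fun i => TensorProduct.mk (𝒟.A i) (R' ⊗[R] 𝒟.A i) (𝒟.M i) 1,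
    rfl, rfl, tAlgBAt_tower R R' S (𝒟.A 0), ?_, ?_, ?_⟩
  · intro x
    exact (s_isoN R R' S S' (𝒟.A 0) (𝒟.M 0) N N' f hf 𝒟.isoN).choose_spec x
  · intro i h
    exact tAlgBAt_tower R R' (𝒟.B i) (𝒟.A (i + 1))
  · intro i
    refine ⟨TensorProduct.isPushout, tail_isPushout R R' (𝒟.B i) ((i : ℕ) < 𝒟.n) i.isLt,
      TensorProduct.isBaseChange (𝒟.A i) (𝒟.M i) (R' ⊗[R] 𝒟.A i), ?_⟩
    exact tail_range R R' (𝒟.B i) (𝒟.A i) ((i : ℕ) < 𝒟.n) (𝒟.M i) (𝒟.r i) (𝒟.α i) i.isLt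

end Build

end Groth.Agent.Lib.Helper24Dev
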