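import Mathlib
import Groth.Agent.Lib.Helper24DevD
import Groth.Prelude.Def_Flat

/-!
# Local dimension under open embeddings, supports under localization away from an element
(helper24)
-/

set_option autoImplicit false
set_option backward.isDefEq.respectTransparency.types false
set_option maxHeartbeats 4000000
set_option synthInstance.maxHeartbeats 400000
set_option linter.style.haveILetI false
set_option linter.unusedSectionVars false
open TensorProduct

namespace Groth.Agent.Lib.Helper24Dev

universe u

section Top

/-- local dimension is invariant under open embeddings. -/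
theorem localDim_isOpenEmbedding {X Y : Type*} [TopologicalSpace X] [TopologicalSpace Y]
    (f : X → Y) (hf : Topology.IsOpenEmbedding f) (x : X) :
    FlatMor.localDim Y (f x) = FlatMor.localDim X x := by
  unfold FlatMor.localDim
  apply le_antisymm
  · refine le_iInf fun U => ?_
    let V : TopologicalSpace.Opens Y := ⟨f '' (U.1 : Set X), hf.isOpenMap _ U.1.isOpen⟩
    have hV : f x ∈ V := ⟨x, U.2, rfl⟩
    refine (iInf_le _ (⟨V, hV⟩ : {V : TopologicalSpace.Opens Y // f x ∈ V})).trans ?_
    let φ : (U.1 : Set X) ≃ₜ (V : Set Y) := hf.isEmbedding.homeomorphImage (U.1 : Set X)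
    exact (IsHomeomorph.topologicalKrullDim_eq _ φ.isHomeomorph).ge
  · refine le_iInf fun V => ?_
    let U : TopologicalSpace.Opens X := ⟨f ⁻¹' (V.1 : Set Y), V.1.isOpen.preimage hf.continuous⟩
    have hU : x ∈ U := V.2
    refine (iInf_le _ (⟨U, hU⟩ : {U : TopologicalSpace.Opens X // x ∈ U})).trans ?_
    exact ((V.1 : Set Y).restrictPreimage_isInducing hf.isInducing).topologicalKrullDim_le

/-- the local dimension at a point is at most the dimension of the space. -/
theorem localDim_le {X : Type*} [TopologicalSpace X] (x : X) :
    FlatMor.localDim X x ≤ topologicalKrullDim X := by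
  unfold FlatMor.localDim
  refine (iInf_le _ (⟨⊤, trivial⟩ : {U : TopologicalSpace.Opens X // x ∈ U})).trans ?_
  exact topologicalKrullDim_subspace_le X _

end Top

section Supp2

/-- the topological dimension of the support of a finite module is its support dimension. -/
theorem topologicalKrullDim_support (A M : Type u) [CommRing A] [AddCommGroup M] [Module A M]
    [Module.Finite A M] :
    topologicalKrullDim (Module.support A M) = Module.supportDim A M := by
  rw [Module.supportDim_eq_ringKrullDim_quotient_annihilator,
    ← PrimeSpectrum.topologicalKrullDim_eq_ringKrullDim]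
  have hemb := PrimeSpectrum.isClosedEmbedding_comap_of_surjective (A ⧸ Module.annihilator A M)
    (Ideal.Quotient.mk (Module.annihilator A M)) Ideal.Quotient.mk_surjective
  have hrange : Set.range (PrimeSpectrum.comap (Ideal.Quotient.mk (Module.annihilator A M))) =
      Module.support A M := by
    rw [_root_.range_comap_of_surjective _ _ Ideal.Quotient.mk_surjective,
      Ideal.mk_ker, Module.support_eq_zeroLocus]
  let e := hemb.isEmbedding.toHomeomorph
  symm
  rw [← hrange]
  exact IsHomeomorph.topologicalKrullDim_eq e e.isHomeomorph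

end Supp2

section Away

/-- support dimension and local dimension of the support of a finite module after localization
away from an element, at a point of the support where the local dimension is the dimension. -/
theorem away_support (A A₁ : Type u) [CommRing A] [CommRing A₁] [Algebra A A₁] (t : A)
    [IsLocalization.Away t A₁]
    (M M₁ : Type u) [AddCommGroup M] [Module A M] [Module.Finite A M] [AddCommGroup M₁]
    [Module A₁ M₁] (e : M₁ ≃ₗ[A₁] A₁ ⊗[A] M) (n : ℕ) (hdim : Module.supportDim A M = n)
    (ξ : PrimeSpectrum A) (hξ : ξ ∈ Module.support A M) (ht : t ∉ ξ.asIdeal)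
    (hloc : FlatMor.localDim (Module.support A M) ⟨ξ, hξ⟩ = n) :
    Module.supportDim A₁ M₁ = n ∧
    ∃ (ξ₁ : PrimeSpectrum A₁) (hξ₁ : ξ₁ ∈ Module.support A₁ M₁),
      ξ₁.comap (algebraMap A A₁) = ξ ∧
      FlatMor.localDim (Module.support A₁ M₁) ⟨ξ₁, hξ₁⟩ = n := by
  haveI : Module.Finite A₁ M₁ := Module.Finite.equiv e.symm
  have hiff : ∀ x' : PrimeSpectrum A₁, x' ∈ Module.support A₁ M₁ ↔
      x'.comap (algebraMap A A₁) ∈ Module.support A M := by
    intro x'
    rw [e.support_eq, Groth.Agent.Lib.Helper20.SuppBC.mem_support_baseChange_iff]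
  have hF : Topology.IsOpenEmbedding (PrimeSpectrum.comap (algebraMap A A₁)) :=
    PrimeSpectrum.localization_away_isOpenEmbedding A₁ t
  have hset : Module.support A₁ M₁ =
      (PrimeSpectrum.comap (algebraMap A A₁)) ⁻¹' (Module.support A M) := by
    ext x'
    exact hiff x'
  let fr : Module.support A₁ M₁ → Module.support A M :=
    (Set.restrictPreimage (Module.support A M) (PrimeSpectrum.comap (algebraMap A A₁))) ∘
      (Homeomorph.setCongr hset)
  have hfr : Topology.IsOpenEmbedding fr :=
    ((Module.support A M).restrictPreimage_isOpenEmbedding hF).comp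
      (Homeomorph.setCongr hset).isOpenEmbedding
  have hfrval : ∀ x, (fr x).1 = PrimeSpectrum.comap (algebraMap A A₁) x.1 := fun x => rfl
  -- the point
  have hmemr : ξ ∈ Set.range (PrimeSpectrum.comap (algebraMap A A₁)) := by
    rw [PrimeSpectrum.localization_away_comap_range A₁ t]
    exact ht
  obtain ⟨ξ₁, hξ₁⟩ := hmemr
  have hmem : ξ₁ ∈ Module.support A₁ M₁ := by
    rw [hiff, hξ₁]
    exact hξ
  have hloc₁ : FlatMor.localDim (Module.support A₁ M₁) ⟨ξ₁, hmem⟩ = n := by
    rw [← localDim_isOpenEmbedding fr hfr ⟨ξ₁, hmem⟩, ← hloc]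
    congr 1
    exact Subtype.ext hξ₁
  refine ⟨?_, ξ₁, hmem, hξ₁, hloc₁⟩
  rw [← topologicalKrullDim_support]
  apply le_antisymm
  · rw [← hdim, ← topologicalKrullDim_support]
    exact hfr.isInducing.topologicalKrullDim_le
  · rw [← hloc₁]
    exact localDim_le _

end Away

end Groth.Agent.Lib.Helper24Dev
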