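import Mathlib
import Groth.Agent.Lib.Helper24DevS
import Groth.Agent.Lib.Helper24DevF

set_option autoImplicit false
set_option backward.isDefEq.respectTransparency.types false
set_option maxHeartbeats 4000000
set_option synthInstance.maxHeartbeats 400000
set_option linter.style.haveILetI false
set_option linter.unusedSectionVars false
open TensorProduct

namespace Groth.Agent.Lib.Helper24Dev

universe u

section ResLoc

/-- the residue field of a prime of a localization is that of its contraction. -/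
theorem residueFieldMap_bijective_of_isLocalization (A A₁ : Type u) [CommRing A] [CommRing A₁]
    [Algebra A A₁] (M : Submonoid A) [IsLocalization M A₁] (P : Ideal A) [P.IsPrime]
    (P₁ : Ideal A₁) [P₁.IsPrime] [hP : P₁.LiesOver P] :
    Function.Bijective (Ideal.ResidueField.map P P₁ (algebraMap A A₁) hP.over) := by
  refine ⟨RingHom.injective _, ?_⟩
  set σ := Ideal.ResidueField.map P P₁ (algebraMap A A₁) hP.over with hσ
  have key : ∀ a : A₁, algebraMap A₁ P₁.ResidueField a ∈ σ.fieldRange := by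
    intro a
    obtain ⟨⟨x, s⟩, hxs⟩ := IsLocalization.surj M a
    have h1 : algebraMap A₁ P₁.ResidueField (algebraMap A A₁ x) ∈ σ.fieldRange := by
      rw [← Ideal.ResidueField.map_algebraMap P P₁ (algebraMap A A₁) hP.over x]
      exact ⟨_, rfl⟩
    have h2 : algebraMap A₁ P₁.ResidueField (algebraMap A A₁ s) ∈ σ.fieldRange := by
      rw [← Ideal.ResidueField.map_algebraMap P P₁ (algebraMap A A₁) hP.over s]
      exact ⟨_, rfl⟩
    have h3 : algebraMap A₁ P₁.ResidueField (algebraMap A A₁ s) ≠ 0 := by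
      intro h0
      have hu : IsUnit (algebraMap A A₁ (s : A)) := IsLocalization.map_units A₁ s
      have hu' := hu.map (algebraMap A₁ P₁.ResidueField)
      rw [h0] at hu'
      exact not_isUnit_zero hu'
    have h4 : algebraMap A₁ P₁.ResidueField a =
        algebraMap A₁ P₁.ResidueField (algebraMap A A₁ x) /
          algebraMap A₁ P₁.ResidueField (algebraMap A A₁ s) := by
      rw [eq_div_iff h3, ← map_mul]
      exact congrArg _ hxs
    rw [h4]
    exact div_mem h1 h2
  intro z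
  obtain ⟨a, b, -, rfl⟩ := IsFractionRing.div_surjective (A₁ ⧸ P₁) z
  obtain ⟨a, rfl⟩ := Ideal.Quotient.mk_surjective a
  obtain ⟨b, rfl⟩ := Ideal.Quotient.mk_surjective b
  have : algebraMap (A₁ ⧸ P₁) P₁.ResidueField (Ideal.Quotient.mk P₁ a) /
      algebraMap (A₁ ⧸ P₁) P₁.ResidueField (Ideal.Quotient.mk P₁ b) ∈ σ.fieldRange := by
    rw [Ideal.algebraMap_quotient_residueField_mk, Ideal.algebraMap_quotient_residueField_mk]
    exact div_mem (key a) (key b)
  exact this

end ResLoc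

section AbstractFibreLoc

variable (R R₁ S S₁ κ κ₁ A A₁ : Type u) [CommRing R] [CommRing R₁] [CommRing S] [CommRing S₁]
    [Field κ] [Field κ₁] [CommRing A] [CommRing A₁]
    [Algebra R R₁] [Algebra R S] [Algebra R₁ S₁] [Algebra S S₁] [Algebra R S₁]
    [IsScalarTower R R₁ S₁] [IsScalarTower R S S₁]
    [Algebra R κ] [Algebra R₁ κ₁] [Algebra κ κ₁] [Algebra R κ₁] [IsScalarTower R κ κ₁]
    [IsScalarTower R R₁ κ₁]
    [Algebra κ A] [Algebra S A] [Algebra R A] [IsScalarTower R κ A] [IsScalarTower R S A]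
    [Algebra.IsPushout R κ S A]
    [Algebra κ₁ A₁] [Algebra S₁ A₁] [Algebra R₁ A₁] [IsScalarTower R₁ κ₁ A₁]
    [IsScalarTower R₁ S₁ A₁] [Algebra.IsPushout R₁ κ₁ S₁ A₁]
    [Algebra A A₁] [Algebra κ A₁] [IsScalarTower κ κ₁ A₁] [IsScalarTower κ A A₁] [Algebra S A₁]
    [IsScalarTower S S₁ A₁] [IsScalarTower S A A₁]

include R R₁ κ κ₁ S in
/-- the fibre ring of a localization away from an element over a localized base is the
localization of the fibre ring. -/
theorem isLocalization_away_fibre (g : R) [IsLocalization.Away g R₁]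
    (hb : Function.Bijective (algebraMap κ κ₁)) (hgu : IsUnit (algebraMap R κ g))
    (t : S) [IsLocalization.Away t S₁] :
    IsLocalization.Away (algebraMap S A t) A₁ := by
  -- the `R`-algebra structure on `A₁`
  letI aRA₁ : Algebra R A₁ := Algebra.compHom A₁ (algebraMap R R₁)
  haveI t1 : IsScalarTower R R₁ A₁ := IsScalarTower.of_algebraMap_eq fun x => rfl
  haveI t2 : IsScalarTower R S₁ A₁ := IsScalarTower.of_algebraMap_eq fun x => by
    rw [IsScalarTower.algebraMap_apply R R₁ A₁, IsScalarTower.algebraMap_apply R₁ S₁ A₁,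
      ← IsScalarTower.algebraMap_apply R R₁ S₁]
  haveI t3 : IsScalarTower R κ₁ A₁ := IsScalarTower.of_algebraMap_eq fun x => by
    rw [IsScalarTower.algebraMap_apply R R₁ A₁, IsScalarTower.algebraMap_apply R₁ κ₁ A₁,
      ← IsScalarTower.algebraMap_apply R R₁ κ₁]
  haveI t4 : IsScalarTower R κ A₁ := IsScalarTower.of_algebraMap_eq fun x => by
    rw [IsScalarTower.algebraMap_apply R κ₁ A₁, IsScalarTower.algebraMap_apply R κ κ₁,
      ← IsScalarTower.algebraMap_apply κ κ₁ A₁]
  -- left square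
  haveI l1 : IsLocalization (Algebra.algebraMapSubmonoid κ (Submonoid.powers g)) κ₁ := by
    rw [Algebra.algebraMapSubmonoid_powers]
    exact IsLocalization.away_of_isUnit_of_bijective κ₁ hgu hb
  haveI p1 : Algebra.IsPushout R κ R₁ κ₁ :=
    Algebra.isPushout_of_isLocalization (Submonoid.powers g) R₁ κ κ₁
  haveI p1' : Algebra.IsPushout R R₁ κ κ₁ := p1.symm
  -- right square
  haveI p2 : Algebra.IsPushout R₁ S₁ κ₁ A₁ := Algebra.IsPushout.symm inferInstance
  -- the rectangle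
  haveI p3 : Algebra.IsPushout R S₁ κ A₁ :=
    (Algebra.IsPushout.comp_iff R R₁ κ (S' := κ₁) (T := S₁) (T' := A₁)).mpr p2
  haveI p3' : Algebra.IsPushout R κ S₁ A₁ := p3.symm
  haveI p4 : Algebra.IsPushout S A S₁ A₁ := isPushout_right R κ S A S₁ A₁
  have h5 : IsLocalization (Algebra.algebraMapSubmonoid A (Submonoid.powers t)) A₁ :=
    (Algebra.isLocalization_iff_isPushout (Submonoid.powers t) S₁).mpr p4
  rw [Algebra.algebraMapSubmonoid_powers] at h5
  exact h5

end AbstractFibreLoc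

section ConcreteLoc

attribute [local instance] Algebra.TensorProduct.rightAlgebra

variable (R S : Type u) [CommRing R] [CommRing S] [Algebra R S] (p : Ideal R) [p.IsPrime]
  (R₁ : Type u) [CommRing R₁] [Algebra R R₁] (p₁ : Ideal R₁) [p₁.IsPrime] [hp₁ : p₁.LiesOver p]
  (S₁ : Type u) [CommRing S₁] [Algebra R₁ S₁] [Algebra R S₁] [Algebra S S₁]
  [IsScalarTower R R₁ S₁] [IsScalarTower R S S₁]

/-- the fibre module of a localization: support dimension and local dimension at the point. -/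
theorem fiberMod_away (g : R) [IsLocalization.Away g R₁] (t : S) [IsLocalization.Away t S₁]
    (N N₁ : Type u) [AddCommGroup N] [Module S N] [Module R N] [IsScalarTower R S N]
    [Module.Finite S N] [AddCommGroup N₁]
    [Module S₁ N₁] [Module R₁ N₁] [IsScalarTower R₁ S₁ N₁] [Module S N₁] [IsScalarTower S S₁ N₁]
    (f : N →ₗ[S] N₁) (hf : IsBaseChange S₁ f)
    (q : Ideal S) [q.IsPrime] [q.LiesOver p] (htq : t ∉ q) (n : ℕ)
    (hdim : Module.supportDim (p.Fiber S) (FlatCA.fiberMod p S N) = n)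
    (h1 : ∃ (ξ : PrimeSpectrum (p.Fiber S))
      (hξ : ξ ∈ Module.support (p.Fiber S) (FlatCA.fiberMod p S N)),
      ξ.asIdeal = FlatCA.fiberIdeal p q ∧
      FlatMor.localDim (Module.support (p.Fiber S) (FlatCA.fiberMod p S N)) ⟨ξ, hξ⟩ = n) :
    Module.supportDim (p₁.Fiber S₁) (FlatCA.fiberMod p₁ S₁ N₁) = n ∧
    ∃ (ξ₁ : PrimeSpectrum (p₁.Fiber S₁))
      (hξ₁ : ξ₁ ∈ Module.support (p₁.Fiber S₁) (FlatCA.fiberMod p₁ S₁ N₁)),
      ξ₁.asIdeal = FlatCA.fiberIdeal p₁ (q.map (algebraMap S S₁)) ∧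
      FlatMor.localDim (Module.support (p₁.Fiber S₁) (FlatCA.fiberMod p₁ S₁ N₁)) ⟨ξ₁, hξ₁⟩ = n := by
  obtain ⟨ξ, hξ, hξq, hloc⟩ := h1
  have hκ : Function.Bijective (resMap R p R₁ p₁) :=
    residueFieldMap_bijective_of_isLocalization R R₁ (Submonoid.powers g) p p₁
  set κ := p.ResidueField with hκdef
  set κ₁ := p₁.ResidueField with hκ₁def
  let φ : κ →ₐ[R] κ₁ := resMap R p R₁ p₁
  letI aκ : Algebra κ κ₁ := φ.toRingHom.toAlgebra
  haveI t0 : IsScalarTower R κ κ₁ := IsScalarTower.of_algebraMap_eq fun x => (φ.commutes x).symm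
  set A := κ ⊗[R] S with hA
  set A₁ := κ₁ ⊗[R₁] S₁ with hA₁
  haveI t1 : IsScalarTower κ κ₁ A₁ := inferInstance
  letI a2 : Algebra S A₁ := ((algebraMap S₁ A₁).comp (algebraMap S S₁)).toAlgebra
  haveI t2 : IsScalarTower S S₁ A₁ := IsScalarTower.of_algebraMap_eq fun x => rfl
  let ψ : A →ₐ[R] A₁ := fiberMap R S p R₁ p₁ S₁
  letI a3 : Algebra A A₁ := ψ.toRingHom.toAlgebra
  haveI t5 : IsScalarTower κ A A₁ := IsScalarTower.of_algebraMap_eq fun x => by
    change _ = ψ (x ⊗ₜ 1)
    rw [fiberMap_tmul, map_one]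
    rfl
  haveI t6 : IsScalarTower S A A₁ := IsScalarTower.of_algebraMap_eq fun x => by
    change _ = ψ (1 ⊗ₜ x)
    rw [fiberMap_tmul, map_one]
    rfl
  have hb : Function.Bijective (algebraMap κ κ₁) := hκ
  have hgp : g ∉ p := by
    intro hgp
    have h1 : algebraMap R R₁ g ∈ p₁ := by
      have : g ∈ p₁.under R := by rw [← hp₁.over]; exact hgp
      exact this
    have hu : IsUnit (algebraMap R R₁ g) := IsLocalization.Away.algebraMap_isUnit g
    exact (Ideal.IsPrime.ne_top inferInstance) (Ideal.eq_top_of_isUnit_mem _ h1 hu)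
  have hgu : IsUnit (algebraMap R κ g) := by
    rw [isUnit_iff_ne_zero, ne_eq, Ideal.algebraMap_residueField_eq_zero]
    exact hgp
  haveI hloc' : IsLocalization.Away (algebraMap S A t) A₁ :=
    isLocalization_away_fibre R R₁ S S₁ κ κ₁ A A₁ g hb hgu t
  have htξ : algebraMap S A t ∉ ξ.asIdeal := by
    intro hmem
    have := comap_fiberIdeal_eq R S p q ξ hξq
    apply htq
    rw [← this]
    exact hmem
  let e1 : A₁ ⊗[A] (A ⊗[S] N) ≃ₗ[A₁] A₁ ⊗[S] N :=
    TensorProduct.AlgebraTensorModule.cancelBaseChange S A A₁ A₁ N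
  let e2 : A₁ ⊗[S₁] N₁ ≃ₗ[A₁] A₁ ⊗[S₁] (S₁ ⊗[S] N) :=
    TensorProduct.AlgebraTensorModule.congr (LinearEquiv.refl A₁ A₁) hf.equiv.symm
  let e3 : A₁ ⊗[S₁] (S₁ ⊗[S] N) ≃ₗ[A₁] A₁ ⊗[S] N :=
    TensorProduct.AlgebraTensorModule.cancelBaseChange S S₁ A₁ A₁ N
  haveI : Module.Finite A (A ⊗[S] N) := inferInstance
  obtain ⟨hd, ξ₁, hξ₁, hcomap, hloc₁⟩ := away_support A A₁ (algebraMap S A t) (A ⊗[S] N)
    (A₁ ⊗[S₁] N₁) ((e2.trans e3).trans e1.symm) n hdim ξ hξ htξ hloc
  refine ⟨hd, ξ₁, hξ₁, ?_, hloc₁⟩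
  have hcomapI : ξ₁.asIdeal.comap (algebraMap A A₁) = ξ.asIdeal := by
    rw [← hcomap]
    rfl
  have hmap := IsLocalization.map_under (Submonoid.powers (algebraMap S A t)) A₁ ξ₁.asIdeal
  rw [← hmap]
  change Ideal.map (algebraMap A A₁) (ξ₁.asIdeal.comap (algebraMap A A₁)) = _
  rw [hcomapI, hξq]
  unfold FlatCA.fiberIdeal
  rw [Ideal.map_map]
  change Ideal.map ((fiberMap R S p R₁ p₁ S₁).toRingHom.comp _) q = _
  rw [fiberMap_comp_includeRight, ← Ideal.map_map]

end ConcreteLoc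

end Groth.Agent.Lib.Helper24Dev
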