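import Mathlib
import Groth.Agent.Lib.Helper24DevC

/-!
# Smoothness and geometric irreducibility of fibres under localization away from elements
(helper24)
-/

set_option autoImplicit false
set_option backward.isDefEq.respectTransparency.types false
set_option maxHeartbeats 4000000
set_option synthInstance.maxHeartbeats 400000
set_option linter.style.haveILetI false
set_option linter.unusedSectionVars false
open TensorProduct CategoryTheory AlgebraicGeometry

namespace Groth.Agent.Lib.Helper24Dev

universe u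

section SelfPushout

variable (R R₁ T : Type u) [CommRing R] [CommRing R₁] [CommRing T] [Algebra R R₁] [Algebra R T]
  [Algebra R₁ T] [IsScalarTower R R₁ T]

/-- an algebra over a localization away from `g` is its own base change. -/
theorem isPushout_self_of_away (g : R) [IsLocalization.Away g R₁] :
    Algebra.IsPushout R R₁ T T := by
  have hu : IsUnit (algebraMap R T g) := by
    rw [IsScalarTower.algebraMap_apply R R₁ T]
    exact (IsLocalization.Away.algebraMap_isUnit g).map _
  haveI l1 : IsLocalization (Algebra.algebraMapSubmonoid T (Submonoid.powers g)) T := by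
    apply IsLocalization.of_le_isUnit
    rw [Algebra.algebraMapSubmonoid_powers, Submonoid.powers_le]
    exact hu
  have p1 : Algebra.IsPushout R T R₁ T :=
    Algebra.isPushout_of_isLocalization (Submonoid.powers g) R₁ T T
  exact p1.symm

end SelfPushout

section Smooth

variable (R R₁ D D₁ : Type u) [CommRing R] [CommRing R₁] [CommRing D] [CommRing D₁]
  [Algebra R R₁] [Algebra R D] [Algebra R₁ D₁] [Algebra D D₁] [Algebra R D₁]
  [IsScalarTower R R₁ D₁] [IsScalarTower R D D₁]

theorem smoothRelDim_away (g : R) [IsLocalization.Away g R₁] (t : D) [IsLocalization.Away t D₁]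
    (n : ℕ) (h : FlatCA.SmoothRelDim n R D) : FlatCA.SmoothRelDim n R₁ D₁ := by
  haveI := isPushout_self_of_away R R₁ D₁ g
  apply smoothRelDim_baseChange R R₁ D₁ D₁ n
  change SmoothOfRelativeDimension n (Spec.map (CommRingCat.ofHom (algebraMap R D₁)))
  rw [IsScalarTower.algebraMap_eq R D D₁, CommRingCat.ofHom_comp, Spec.map_comp]
  haveI : IsOpenImmersion (Spec.map (CommRingCat.ofHom (algebraMap D D₁))) :=
    IsOpenImmersion.of_isLocalization t
  haveI : SmoothOfRelativeDimension n (Spec.map (CommRingCat.ofHom (algebraMap R D))) := h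
  have := smoothOfRelativeDimension_comp (n := 0) (m := n)
    (f := Spec.map (CommRingCat.ofHom (algebraMap D D₁)))
    (Spec.map (CommRingCat.ofHom (algebraMap R D)))
  rwa [zero_add] at this

end Smooth

section GI

attribute [local instance] Algebra.TensorProduct.rightAlgebra

variable (R R₁ D D₁ : Type u) [CommRing R] [CommRing R₁] [CommRing D] [CommRing D₁]
  [Algebra R R₁] [Algebra R D] [Algebra R₁ D₁] [Algebra D D₁] [Algebra R D₁]
  [IsScalarTower R R₁ D₁] [IsScalarTower R D D₁]

theorem geomIrred_away (g : R) [IsLocalization.Away g R₁] (t : D) [IsLocalization.Away t D₁]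
    (h : FlatCA.GeomIrredFibres R D)
    (hs : Function.Surjective (PrimeSpectrum.comap (algebraMap R₁ D₁))) :
    FlatCA.GeomIrredFibres R₁ D₁ := by
  haveI p0 := isPushout_self_of_away R R₁ D₁ g
  -- the intermediate ring
  let φ : R₁ ⊗[R] D →ₐ[R₁] D₁ :=
    Algebra.TensorProduct.lift (Algebra.ofId R₁ D₁) (IsScalarTower.toAlgHom R D D₁)
      (fun _ _ => Commute.all _ _)
  letI aX : Algebra (R₁ ⊗[R] D) D₁ := φ.toRingHom.toAlgebra
  haveI t1 : IsScalarTower R₁ (R₁ ⊗[R] D) D₁ := IsScalarTower.of_algebraMap_eq fun x => by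
    change _ = φ (algebraMap R₁ (R₁ ⊗[R] D) x)
    rw [φ.commutes]
  haveI t2 : IsScalarTower D (R₁ ⊗[R] D) D₁ := IsScalarTower.of_algebraMap_eq fun x => by
    change _ = φ ((1 : R₁) ⊗ₜ x)
    simp [φ]
  haveI p1 : Algebra.IsPushout D (R₁ ⊗[R] D) D₁ D₁ := isPushout_right R R₁ D (R₁ ⊗[R] D) D₁ D₁
  have l1 : IsLocalization (Algebra.algebraMapSubmonoid (R₁ ⊗[R] D) (Submonoid.powers t)) D₁ :=
    (Algebra.isLocalization_iff_isPushout (Submonoid.powers t) D₁).mpr p1
  rw [Algebra.algebraMapSubmonoid_powers] at l1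
  haveI : IsLocalization.Away (algebraMap D (R₁ ⊗[R] D) t) D₁ := l1
  haveI : IsOpenImmersion (Spec.map (CommRingCat.ofHom (algebraMap (R₁ ⊗[R] D) D₁))) :=
    IsOpenImmersion.of_isLocalization (algebraMap D (R₁ ⊗[R] D) t)
  haveI gi : GeometricallyIrreducible
      (Spec.map (CommRingCat.ofHom (algebraMap R₁ (R₁ ⊗[R] D)))) :=
    geomIrred_baseChange R R₁ D (R₁ ⊗[R] D) h
  have heq : Spec.map (CommRingCat.ofHom (algebraMap R₁ D₁)) =
      Spec.map (CommRingCat.ofHom (algebraMap (R₁ ⊗[R] D) D₁)) ≫
        Spec.map (CommRingCat.ofHom (algebraMap R₁ (R₁ ⊗[R] D))) := by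
    rw [← Spec.map_comp, ← CommRingCat.ofHom_comp, ← IsScalarTower.algebraMap_eq]
  haveI sj : Surjective (Spec.map (CommRingCat.ofHom (algebraMap (R₁ ⊗[R] D) D₁)) ≫
        Spec.map (CommRingCat.ofHom (algebraMap R₁ (R₁ ⊗[R] D)))) := by
    rw [← heq]
    exact ⟨hs⟩
  change GeometricallyIrreducible (Spec.map (CommRingCat.ofHom (algebraMap R₁ D₁)))
  rw [heq]
  infer_instance

end GI

end Groth.Agent.Lib.Helper24Dev
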