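import Mathlib
import Groth.Agent.Lib.Helper24DevT

/-!
# Primes and residue fields under localization away from elements (helper24)
-/

set_option autoImplicit false
set_option backward.isDefEq.respectTransparency.types false
set_option maxHeartbeats 4000000
set_option synthInstance.maxHeartbeats 400000
set_option linter.style.haveILetI false
set_option linter.unusedSectionVars false
open TensorProduct

namespace Groth.Agent.Lib.Helper24Dev

universe u

section Primes

theorem disjoint_powers_of_notMem {A : Type u} [CommRing A] (t : A) (P : Ideal A) [hP : P.IsPrime]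
    (ht : t ∉ P) : Disjoint (Submonoid.powers t : Set A) (P : Set A) := by
  rw [Set.disjoint_left]
  rintro _ ⟨k, rfl⟩ hk
  exact ht (hP.mem_of_pow_mem k hk)

variable (A A₁ : Type u) [CommRing A] [CommRing A₁] [Algebra A A₁] (t : A)
  [IsLocalization.Away t A₁] (P : Ideal A) [hP : P.IsPrime]

theorem isPrime_map_away (ht : t ∉ P) : (P.map (algebraMap A A₁)).IsPrime :=
  IsLocalization.isPrime_of_isPrime_disjoint (Submonoid.powers t) A₁ P hP
    (disjoint_powers_of_notMem t P ht)

theorem under_map_away (ht : t ∉ P) : (P.map (algebraMap A A₁)).under A = P :=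
  IsLocalization.under_map_of_isPrime_disjoint (Submonoid.powers t) A₁ hP
    (disjoint_powers_of_notMem t P ht)

theorem liesOver_map_away (ht : t ∉ P) : (P.map (algebraMap A A₁)).LiesOver P :=
  ⟨(under_map_away A A₁ t P ht).symm⟩

end Primes

section Primes2

variable (A A₁ : Type u) [CommRing A] [CommRing A₁] [Algebra A A₁] (M : Submonoid A)
  [IsLocalization M A₁] (P : Ideal A)

include M in
/-- an ideal of an algebra over a localization lies over the extension of its contraction to the
ring being localized. -/
theorem liesOver_map_of_under_eq (B : Type u) [CommRing B] [Algebra A₁ B] [Algebra A B]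
    [IsScalarTower A A₁ B] (Q : Ideal B) (h : Q.under A = P) :
    Q.LiesOver (P.map (algebraMap A A₁)) := by
  constructor
  rw [← h, ← Ideal.under_under (B := A₁) Q]
  exact IsLocalization.map_under M A₁ (Q.under A₁)

include M in
/-- a prime of a localization is the extension of its contraction. -/
theorem eq_map_of_under_eq (Q : Ideal A₁) (h : Q.under A = P) :
    Q = P.map (algebraMap A A₁) := by
  rw [← h]
  exact (IsLocalization.map_under M A₁ Q).symm

end Primes2

section PTAway

variable (R D : Type u) [CommRing R] [CommRing D] [Algebra R D] (p : Ideal R) [p.IsPrime]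
  (y : Ideal D) [y.IsPrime] [hy : y.LiesOver p]
  (R₁ : Type u) [CommRing R₁] [Algebra R R₁] (p₁ : Ideal R₁) [p₁.IsPrime] [hp₁ : p₁.LiesOver p]
  (D₁ : Type u) [CommRing D₁] [Algebra R₁ D₁] [Algebra R D₁] [Algebra D D₁]
  [IsScalarTower R R₁ D₁] [IsScalarTower R D D₁]
  (y₁ : Ideal D₁) [y₁.IsPrime] [hy₁ : y₁.LiesOver y] [hy₁p : y₁.LiesOver p₁]

/-- purely transcendental residue field extensions are preserved by localizations. -/
theorem purelyTranscendental_of_isLocalization (M : Submonoid R) [IsLocalization M R₁]
    (M' : Submonoid D) [IsLocalization M' D₁]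
    (h4 : FlatCA.PurelyTranscendental p y) : FlatCA.PurelyTranscendental p₁ y₁ := by
  unfold FlatCA.PurelyTranscendental at h4 ⊢
  letI a1 : Algebra p.ResidueField y.ResidueField :=
    (Ideal.ResidueField.mapₐ p y (Algebra.ofId R D) hy.over).toRingHom.toAlgebra
  letI a2 : Algebra p₁.ResidueField y₁.ResidueField :=
    (Ideal.ResidueField.mapₐ p₁ y₁ (Algebra.ofId R₁ D₁) hy₁p.over).toRingHom.toAlgebra
  obtain ⟨ι, x, hx, hgen⟩ := h4
  have hκ : Function.Bijective (resMap R p R₁ p₁) :=
    residueFieldMap_bijective_of_isLocalization R R₁ M p p₁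
  let τ : p.ResidueField ≃+* p₁.ResidueField := RingEquiv.ofBijective (resMap R p R₁ p₁) hκ
  let σ : y.ResidueField ≃+* y₁.ResidueField :=
    RingEquiv.ofBijective (Ideal.ResidueField.map y y₁ (algebraMap D D₁) hy₁.over)
      (residueFieldMap_bijective_of_isLocalization D D₁ M' y y₁)
  have hc : ∀ k, algebraMap p₁.ResidueField y₁.ResidueField (τ k) =
      σ (algebraMap p.ResidueField y.ResidueField k) := fun k =>
    resMap_comm R D p y R₁ p₁ D₁ y₁ k
  obtain ⟨h1, h2⟩ := purelyTrans_transport _ _ _ _ τ σ hc ι x hx hgen
  exact ⟨ι, σ ∘ x, h1, h2⟩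

end PTAway

end Groth.Agent.Lib.Helper24Dev
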