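import Mathlib
import Groth.Agent.Lib.Helper24DevU
import Groth.Agent.Lib.Helper24DevV

/-!
# Zariski shrinking of a one step dévissage at a point: abstract form (helper24)
-/

set_option autoImplicit false
set_option backward.isDefEq.respectTransparency.types false
set_option maxHeartbeats 4000000
set_option synthInstance.maxHeartbeats 400000
set_option linter.style.haveILetI false
set_option linter.unusedSectionVars false
open TensorProduct

namespace Groth.Agent.Lib.Helper24Dev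

universe u

theorem devissageAt_shrink
    (R S : Type u) [CommRing R] [CommRing S] [Algebra R S] [Algebra.FiniteType R S]
    (N : Type u) [AddCommGroup N] [Module S N] [Module R N] [IsScalarTower R S N] [Module.Finite S N]
    (p : Ideal R) [p.IsPrime] (q : Ideal S) [q.IsPrime] [q.LiesOver p]
    (C D G : Type u) [CommRing C] [CommRing D] [Algebra S C] [Algebra R C] [IsScalarTower R S C]
    [Algebra R D] [Algebra D C] [IsScalarTower R D C] [AddCommGroup G] [Module C G] [Module S G]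
    [IsScalarTower S C G] (n : ℕ)
    (h : FlatCA.IsOneStepDevissage R S N p C D G n)
    (z : Ideal C) [z.IsPrime] (y : Ideal D) [y.IsPrime] [hzq : z.LiesOver q] [hzy : z.LiesOver y]
    [hyp : y.LiesOver p]
    (h1 : ∃ (ξ : PrimeSpectrum (p.Fiber S)) (hξ : ξ ∈ Module.support (p.Fiber S) (FlatCA.fiberMod p S N)),
      ξ.asIdeal = FlatCA.fiberIdeal p q ∧
      FlatMor.localDim (Module.support (p.Fiber S) (FlatCA.fiberMod p S N)) ⟨ξ, hξ⟩ = n)
    (h3 : ∀ (z₁ : Ideal C) [z₁.IsPrime], z₁.LiesOver y → z₁ = z)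
    (h4 : FlatCA.PurelyTranscendental p y)
    (g : R) (hX : S) (hXq : hX ∉ q) (hZ : C) (hY : D) (hYy : hY ∉ y)
    (hXZ : algebraMap S C hX = hZ) (hYZ : algebraMap D C hY = hZ)
    (R₁ S₁ C₁ D₁ : Type u) [CommRing R₁] [CommRing S₁] [CommRing C₁] [CommRing D₁]
    [Algebra R R₁] [IsLocalization.Away g R₁]
    [Algebra S S₁] [IsLocalization.Away hX S₁]
    [Algebra C C₁] [IsLocalization.Away hZ C₁]
    [Algebra D D₁] [IsLocalization.Away hY D₁]
    [Algebra R₁ S₁] [Algebra R S₁] [IsScalarTower R R₁ S₁] [IsScalarTower R S S₁]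
    [Algebra R₁ C₁] [Algebra R C₁] [IsScalarTower R R₁ C₁] [IsScalarTower R C C₁]
    [Algebra R₁ D₁] [Algebra R D₁] [IsScalarTower R R₁ D₁] [IsScalarTower R D D₁]
    [Algebra S₁ C₁] [IsScalarTower R₁ S₁ C₁] [Algebra S C₁] [IsScalarTower S S₁ C₁] [IsScalarTower S C C₁]
    [Algebra D₁ C₁] [IsScalarTower R₁ D₁ C₁] [Algebra D C₁] [IsScalarTower D D₁ C₁] [IsScalarTower D C C₁]
    (N₁ : Type u) [AddCommGroup N₁] [Module S₁ N₁] [Module R₁ N₁] [IsScalarTower R₁ S₁ N₁]
    [Module S N₁] [IsScalarTower S S₁ N₁] (f : N →ₗ[S] N₁) (hf : IsBaseChange S₁ f)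
    (G₁ : Type u) [AddCommGroup G₁] [Module C₁ G₁] [Module S₁ G₁] [IsScalarTower S₁ C₁ G₁]
    [Module C G₁] [IsScalarTower C C₁ G₁] (γ : G →ₗ[C] G₁) (hγ : IsBaseChange C₁ γ)
    (hs : Function.Surjective (PrimeSpectrum.comap (algebraMap R₁ D₁)))
    [hp₁ : (p.map (algebraMap R R₁)).IsPrime] [hy₁ : (y.map (algebraMap D D₁)).IsPrime]
    [hy₁p : (y.map (algebraMap D D₁)).LiesOver (p.map (algebraMap R R₁))] :
    FlatCA.IsOneStepDevissage R₁ S₁ N₁ (p.map (algebraMap R R₁)) C₁ D₁ G₁ n ∧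
    (∃ (ξ : PrimeSpectrum ((p.map (algebraMap R R₁)).Fiber S₁))
        (hξ : ξ ∈ Module.support ((p.map (algebraMap R R₁)).Fiber S₁)
          (FlatCA.fiberMod (p.map (algebraMap R R₁)) S₁ N₁)),
      ξ.asIdeal = FlatCA.fiberIdeal (p.map (algebraMap R R₁)) (q.map (algebraMap S S₁)) ∧
      FlatMor.localDim (Module.support ((p.map (algebraMap R R₁)).Fiber S₁)
        (FlatCA.fiberMod (p.map (algebraMap R R₁)) S₁ N₁)) ⟨ξ, hξ⟩ = n) ∧
    (z.map (algebraMap C C₁)).LiesOver (q.map (algebraMap S S₁)) ∧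
    (z.map (algebraMap C C₁)).LiesOver (y.map (algebraMap D D₁)) ∧
    (∀ (z₂ : Ideal C₁) [z₂.IsPrime], z₂.LiesOver (y.map (algebraMap D D₁)) →
      z₂ = z.map (algebraMap C C₁)) ∧
    FlatCA.PurelyTranscendental (p.map (algebraMap R R₁)) (y.map (algebraMap D D₁)) := by
  obtain ⟨⟨e⟩, hsurj, hfp, hfinDC, hfinCG, hsm, hgi, hdim⟩ := h
  -- `hZ ∉ z`
  have hZz : hZ ∉ z := by
    intro hmem
    apply hYy
    rw [hzy.over]
    change algebraMap D C hY ∈ z
    rw [hYZ]
    exact hmem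
  -- `g ∉ p`
  have hgp : g ∉ p := by
    intro hgp
    have hmem : algebraMap R R₁ g ∈ p.map (algebraMap R R₁) := Ideal.mem_map_of_mem _ hgp
    have hu : IsUnit (algebraMap R R₁ g) := IsLocalization.Away.algebraMap_isUnit g
    exact hp₁.ne_top (Ideal.eq_top_of_isUnit_mem _ hmem hu)
  haveI hp₁o : (p.map (algebraMap R R₁)).LiesOver p := liesOver_map_away R R₁ g p hgp
  -- pushouts
  haveI lS : IsLocalization (Algebra.algebraMapSubmonoid C (Submonoid.powers hX)) C₁ := by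
    rw [Algebra.algebraMapSubmonoid_powers, hXZ]
    infer_instance
  haveI lD : IsLocalization (Algebra.algebraMapSubmonoid C (Submonoid.powers hY)) C₁ := by
    rw [Algebra.algebraMapSubmonoid_powers, hYZ]
    infer_instance
  haveI pS : Algebra.IsPushout S S₁ C C₁ :=
    (Algebra.isPushout_of_isLocalization (Submonoid.powers hX) S₁ C C₁).symm
  haveI pD : Algebra.IsPushout D D₁ C C₁ :=
    (Algebra.isPushout_of_isLocalization (Submonoid.powers hY) D₁ C C₁).symm
  -- the fibre part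
  obtain ⟨hdim₁, hloc₁⟩ := fiberMod_away R S p R₁ (p.map (algebraMap R R₁)) S₁ g hX N N₁ f hf q
    hXq n hdim h1
  -- primes
  have hz₁u : (z.map (algebraMap C C₁)).under C = z := under_map_away C C₁ hZ z hZz
  have hy₁u : (y.map (algebraMap D D₁)).under D = y := under_map_away D D₁ hY y hYy
  haveI hy₁o : (y.map (algebraMap D D₁)).LiesOver y := ⟨hy₁u.symm⟩
  have hzq₁ : (z.map (algebraMap C C₁)).LiesOver (q.map (algebraMap S S₁)) := by
    apply liesOver_map_of_under_eq S S₁ (Submonoid.powers hX) q C₁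
    rw [← Ideal.under_under (B := C), hz₁u]
    exact hzq.over.symm
  have hzy₁ : (z.map (algebraMap C C₁)).LiesOver (y.map (algebraMap D D₁)) := by
    apply liesOver_map_of_under_eq D D₁ (Submonoid.powers hY) y C₁
    rw [← Ideal.under_under (B := C), hz₁u]
    exact hzy.over.symm
  refine ⟨⟨⟨?_⟩, surjective_of_isPushout S S₁ C C₁ hsurj, finitePresentation_of_isPushout S S₁ C C₁,
    finite_of_isPushout D D₁ C C₁, finite_of_isBaseChange C C₁ G G₁ γ hγ,
    smoothRelDim_away R R₁ D D₁ g hY n hsm, geomIrred_away R R₁ D D₁ g hY hgi hs, hdim₁⟩,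
    hloc₁, hzq₁, hzy₁, ?_, ?_⟩
  · let e1 : N₁ ≃ₗ[S₁] S₁ ⊗[S] N := hf.equiv.symm
    let e2 : S₁ ⊗[S] N ≃ₗ[S₁] S₁ ⊗[S] G :=
      TensorProduct.AlgebraTensorModule.congr (LinearEquiv.refl S₁ S₁) e
    let e3 : C₁ ⊗[C] G ≃ₗ[S₁] S₁ ⊗[S] G := Algebra.IsPushout.cancelBaseChange S S₁ C C₁ G
    let e4 : C₁ ⊗[C] G ≃ₗ[S₁] G₁ := hγ.equiv.restrictScalars S₁
    exact ((e1.trans e2).trans e3.symm).trans e4
  · intro z₂ hz₂ hz₂y
    apply eq_map_of_under_eq C C₁ (Submonoid.powers hZ) z z₂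
    haveI : (z₂.under C).IsPrime := Ideal.IsPrime.under C z₂
    apply h3
    constructor
    rw [Ideal.under_under, ← Ideal.under_under (B := D₁) z₂, ← hz₂y.over, hy₁u]
  · exact purelyTranscendental_of_isLocalization R D p y R₁ (p.map (algebraMap R R₁)) D₁
      (y.map (algebraMap D D₁)) (Submonoid.powers g) (Submonoid.powers hY) h4

end Groth.Agent.Lib.Helper24Dev
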