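import Mathlib
import Groth.Agent.Lib.Helper24DevV

/-!
# Choice of the elements for the standard shrinking of a one step dévissage (helper24)
-/

set_option autoImplicit false
set_option backward.isDefEq.respectTransparency.types false
set_option maxHeartbeats 4000000
set_option synthInstance.maxHeartbeats 400000
set_option linter.style.haveILetI false
set_option linter.unusedSectionVars false
open TensorProduct CategoryTheory AlgebraicGeometry

namespace Groth.Agent.Lib.Helper24Dev

universe u

section X1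

/-- for a finite ring map `D → C` and a prime `z` of `C` which is the only prime over `y`, the
preimages of the neighbourhoods of `y` are cofinal among the neighbourhoods of `z`. -/
theorem exists_mul_eq_of_unique_prime (D C : Type u) [CommRing D] [CommRing C] [Algebra D C]
    [Module.Finite D C] (y : Ideal D) [y.IsPrime] (z : Ideal C) [z.IsPrime]
    (h3 : ∀ (z₁ : Ideal C) [z₁.IsPrime], z₁.LiesOver y → z₁ = z) (c : C) (hc : c ∉ z) :
    ∃ (w : D) (c' : C), w ∉ y ∧ algebraMap D C w = c * c' := by
  by_contra hcon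
  push Not at hcon
  have hle : (Ideal.span {c}).comap (algebraMap D C) ≤ y := by
    intro w hw
    by_contra hwy
    rw [Ideal.mem_comap, Ideal.mem_span_singleton'] at hw
    obtain ⟨c', hc'⟩ := hw
    exact hcon w c' hwy (by rw [← hc', mul_comm])
  obtain ⟨Q, hQ, hQp, hQy⟩ := Ideal.exists_ideal_over_prime_of_isIntegral y (Ideal.span {c}) hle
  haveI := hQp
  have : Q = z := h3 Q ⟨hQy.symm⟩
  apply hc
  rw [← this]
  exact hQ (Ideal.mem_span_singleton_self c)

end X1

section X2

/-- a smooth map is open: a basic open neighbourhood of `p` inside the image of `D(w)`. -/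
theorem exists_basicOpen_subset_image (R D : Type u) [CommRing R] [CommRing D] [Algebra R D]
    (n : ℕ) (h : FlatCA.SmoothRelDim n R D) (p : Ideal R) [p.IsPrime] (y : Ideal D) [y.IsPrime]
    [hy : y.LiesOver p] (w : D) (hw : w ∉ y) :
    ∃ g : R, g ∉ p ∧ ∀ P : PrimeSpectrum R, g ∉ P.asIdeal →
      ∃ Q : PrimeSpectrum D, w ∉ Q.asIdeal ∧ Q.comap (algebraMap R D) = P := by
  haveI : SmoothOfRelativeDimension n (Spec.map (CommRingCat.ofHom (algebraMap R D))) := h
  haveI : Smooth (Spec.map (CommRingCat.ofHom (algebraMap R D))) :=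
    SmoothOfRelativeDimension.smooth n _
  have hopen : IsOpenMap (PrimeSpectrum.comap (algebraMap R D)) :=
    (Spec.map (CommRingCat.ofHom (algebraMap R D))).isOpenMap
  have hU : IsOpen ((PrimeSpectrum.comap (algebraMap R D)) ''
      (PrimeSpectrum.basicOpen w : Set (PrimeSpectrum D))) :=
    hopen _ (PrimeSpectrum.basicOpen w).isOpen
  have hmem : (⟨p, inferInstance⟩ : PrimeSpectrum R) ∈ (PrimeSpectrum.comap (algebraMap R D)) ''
      (PrimeSpectrum.basicOpen w : Set (PrimeSpectrum D)) := by
    refine ⟨⟨y, inferInstance⟩, hw, ?_⟩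
    apply PrimeSpectrum.ext
    exact hy.over.symm
  obtain ⟨_, ⟨g, rfl⟩, hg1, hg2⟩ :=
    PrimeSpectrum.isTopologicalBasis_basic_opens.exists_subset_of_mem_open hmem hU
  refine ⟨g, hg1, fun P hP => ?_⟩
  obtain ⟨Q, hQ1, hQ2⟩ := hg2 hP
  exact ⟨Q, hQ1, hQ2⟩

end X2

section X3

variable (R R₁ D D₁ : Type u) [CommRing R] [CommRing R₁] [CommRing D] [CommRing D₁]
  [Algebra R R₁] [Algebra R D] [Algebra R₁ D₁] [Algebra D D₁] [Algebra R D₁]
  [IsScalarTower R R₁ D₁] [IsScalarTower R D D₁]

/-- surjectivity of `Spec D[1/wg] → Spec R[1/g]` when `D(g)` is in the image of `D(w)`. -/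
theorem surjective_comap_away (g : R) [IsLocalization.Away g R₁] (w : D)
    [IsLocalization.Away (w * algebraMap R D g) D₁]
    (hg : ∀ P : PrimeSpectrum R, g ∉ P.asIdeal →
      ∃ Q : PrimeSpectrum D, w ∉ Q.asIdeal ∧ Q.comap (algebraMap R D) = P) :
    Function.Surjective (PrimeSpectrum.comap (algebraMap R₁ D₁)) := by
  intro P₁
  have hgP : g ∉ (P₁.comap (algebraMap R R₁)).asIdeal := by
    intro hmem
    have hu : IsUnit (algebraMap R R₁ g) := IsLocalization.Away.algebraMap_isUnit g
    exact P₁.2.ne_top (Ideal.eq_top_of_isUnit_mem _ hmem hu)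
  obtain ⟨Q, hQw, hQP⟩ := hg _ hgP
  have hQu : Q.asIdeal.under R = P₁.asIdeal.under R := congrArg PrimeSpectrum.asIdeal hQP
  have hY : w * algebraMap R D g ∉ Q.asIdeal := by
    intro hmem
    rcases Q.2.mem_or_mem hmem with h | h
    · exact hQw h
    · apply hgP
      change g ∈ P₁.asIdeal.under R
      rw [← hQu]
      exact h
  haveI hQ₁ : (Q.asIdeal.map (algebraMap D D₁)).IsPrime :=
    isPrime_map_away D D₁ (w * algebraMap R D g) Q.asIdeal hY
  have hQ₁u : (Q.asIdeal.map (algebraMap D D₁)).under D = Q.asIdeal :=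
    under_map_away D D₁ (w * algebraMap R D g) Q.asIdeal hY
  refine ⟨⟨Q.asIdeal.map (algebraMap D D₁), hQ₁⟩, ?_⟩
  apply PrimeSpectrum.ext
  change (Q.asIdeal.map (algebraMap D D₁)).under R₁ = P₁.asIdeal
  have h1 : (Q.asIdeal.map (algebraMap D D₁)).LiesOver
      ((P₁.asIdeal.under R).map (algebraMap R R₁)) := by
    apply liesOver_map_of_under_eq R R₁ (Submonoid.powers g) (P₁.asIdeal.under R) D₁
    rw [← Ideal.under_under (B := D), hQ₁u, hQu]
  rw [← h1.over]
  exact IsLocalization.map_under (Submonoid.powers g) R₁ P₁.asIdeal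

end X3

section X4

variable (R S : Type u) [CommRing R] [CommRing S] [Algebra R S]
    (p : Ideal R) [p.IsPrime] (q : Ideal S) [q.IsPrime] [hqp : q.LiesOver p]
    (C D : Type u) [CommRing C] [CommRing D] [Algebra S C] [Algebra R C] [IsScalarTower R S C]
    [Algebra R D] [Algebra D C] [IsScalarTower R D C]
    (z : Ideal C) [z.IsPrime] (y : Ideal D) [y.IsPrime] [hzq : z.LiesOver q] [hzy : z.LiesOver y]
    [hyp : y.LiesOver p]

/-- the elements of the standard shrinking, given `w ∉ y` and a lift `s` of its image in `C`. -/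
theorem exists_elements (n : ℕ) (hsm : FlatCA.SmoothRelDim n R D) (w : D) (hw : w ∉ y) (s : S)
    (hsw : algebraMap S C s = algebraMap D C w) :
    ∃ g : R, g ∉ p ∧
      (∀ P : PrimeSpectrum R, g ∉ P.asIdeal →
        ∃ Q : PrimeSpectrum D, w ∉ Q.asIdeal ∧ Q.comap (algebraMap R D) = P) ∧
      s * algebraMap R S g ∉ q ∧ algebraMap D C (w * algebraMap R D g) ∉ z ∧
      w * algebraMap R D g ∉ y ∧
      algebraMap S C (s * algebraMap R S g) = algebraMap D C (w * algebraMap R D g) := by
  obtain ⟨g, hgp, hg⟩ := exists_basicOpen_subset_image R D n hsm p y w hw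
  have hgy : algebraMap R D g ∉ y := by
    intro hmem
    apply hgp
    rw [hyp.over]
    exact hmem
  have hY : w * algebraMap R D g ∉ y := by
    intro hmem
    rcases Ideal.IsPrime.mem_or_mem inferInstance hmem with h | h
    · exact hw h
    · exact hgy h
  have hZ : algebraMap D C (w * algebraMap R D g) ∉ z := by
    intro hmem
    apply hY
    rw [hzy.over]
    exact hmem
  have heq : algebraMap S C (s * algebraMap R S g) = algebraMap D C (w * algebraMap R D g) := by
    rw [map_mul, map_mul, hsw, ← IsScalarTower.algebraMap_apply R S C,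
      ← IsScalarTower.algebraMap_apply R D C]
  refine ⟨g, hgp, hg, ?_, hZ, hY, heq⟩
  intro hmem
  apply hZ
  rw [← heq]
  have : s * algebraMap R S g ∈ z.under S := by rw [← hzq.over]; exact hmem
  exact this

end X4

end Groth.Agent.Lib.Helper24Dev
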