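import Mathlib
import Groth.Agent.Lib.Helper24DevW
import Groth.Agent.Lib.Helper24DevX

/-!
# Standard shrinking of a one step dévissage at a point: concrete form with `Localization.Away`
(helper24)
-/

set_option autoImplicit false
set_option backward.isDefEq.respectTransparency.types false
set_option maxHeartbeats 4000000
set_option synthInstance.maxHeartbeats 400000
set_option linter.style.haveILetI false
set_option linter.unusedSectionVars false
open TensorProduct

namespace Groth.Agent.Lib.Helper24Dev

universe u

theorem shrink_concrete
    (R S : Type u) [CommRing R] [CommRing S] [Algebra R S] [Algebra.FiniteType R S]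
    (N : Type u) [AddCommGroup N] [Module S N] [Module R N] [IsScalarTower R S N] [Module.Finite S N]
    (p : Ideal R) [p.IsPrime] (q : Ideal S) [q.IsPrime] [q.LiesOver p]
    (C D G : Type u) [CommRing C] [CommRing D] [Algebra S C] [Algebra R C] [IsScalarTower R S C]
    [Algebra R D] [Algebra D C] [IsScalarTower R D C] [AddCommGroup G] [Module C G] [Module S G]
    [IsScalarTower S C G] (n : ℕ)
    (h : FlatCA.IsOneStepDevissage R S N p C D G n)
    (z : Ideal C) [z.IsPrime] (y : Ideal D) [y.IsPrime] [hzq : z.LiesOver q] [hzy : z.LiesOver y]
    [hyp : y.LiesOver p]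
    (h1 : ∃ (ξ : PrimeSpectrum (p.Fiber S)) (hξ : ξ ∈ Module.support (p.Fiber S) (FlatCA.fiberMod p S N)),
      ξ.asIdeal = FlatCA.fiberIdeal p q ∧
      FlatMor.localDim (Module.support (p.Fiber S) (FlatCA.fiberMod p S N)) ⟨ξ, hξ⟩ = n)
    (h3 : ∀ (z₁ : Ideal C) [z₁.IsPrime], z₁.LiesOver y → z₁ = z)
    (h4 : FlatCA.PurelyTranscendental p y)
    (g : R) (hgp : g ∉ p) (hX : S) (hZ : C) (hY : D) (w : D) (s : S)
    (hXs : hX = s * algebraMap R S g) (hYw : hY = w * algebraMap R D g)
    (hXq : hX ∉ q) (hYy : hY ∉ y)
    (hXZ : algebraMap S C hX = hZ) (hYZ : algebraMap D C hY = hZ)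
    (hg : ∀ P : PrimeSpectrum R, g ∉ P.asIdeal →
        ∃ Q : PrimeSpectrum D, w ∉ Q.asIdeal ∧ Q.comap (algebraMap R D) = P) :
      ∃ (_ : Algebra (Localization.Away g) (Localization.Away hX)) (_ : IsScalarTower R (Localization.Away g) (Localization.Away hX))
        (_ : Algebra (Localization.Away g) (Localization.Away hZ)) (_ : IsScalarTower R (Localization.Away g) (Localization.Away hZ))
        (_ : Algebra (Localization.Away g) (Localization.Away hY)) (_ : IsScalarTower R (Localization.Away g) (Localization.Away hY))
        (_ : Algebra (Localization.Away hX) (Localization.Away hZ)) (_ : IsScalarTower S (Localization.Away hX) (Localization.Away hZ))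
        (_ : IsScalarTower (Localization.Away g) (Localization.Away hX) (Localization.Away hZ))
        (_ : Algebra (Localization.Away hY) (Localization.Away hZ)) (_ : IsScalarTower D (Localization.Away hY) (Localization.Away hZ))
        (_ : IsScalarTower (Localization.Away g) (Localization.Away hY) (Localization.Away hZ))
        (_ : Module (Localization.Away g) (LocalizedModule (Submonoid.powers hX) N)) (_ : IsScalarTower (Localization.Away g) (Localization.Away hX) (LocalizedModule (Submonoid.powers hX) N))
        (_ : Module (Localization.Away hX) (LocalizedModule (Submonoid.powers hZ) G)) (_ : IsScalarTower (Localization.Away hX) (Localization.Away hZ) (LocalizedModule (Submonoid.powers hZ) G))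
        (_ : (Ideal.map (algebraMap R (Localization.Away g)) p).IsPrime) (_ : (Ideal.map (algebraMap D (Localization.Away hY)) y).IsPrime) (_ : (Ideal.map (algebraMap D (Localization.Away hY)) y).LiesOver (Ideal.map (algebraMap R (Localization.Away g)) p)),
        FlatCA.IsOneStepDevissage (Localization.Away g) (Localization.Away hX) (LocalizedModule (Submonoid.powers hX) N) (Ideal.map (algebraMap R (Localization.Away g)) p) (Localization.Away hZ) (Localization.Away hY) (LocalizedModule (Submonoid.powers hZ) G) n ∧
        (∃ (ξ : PrimeSpectrum ((Ideal.map (algebraMap R (Localization.Away g)) p).Fiber (Localization.Away hX)))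
            (hξ : ξ ∈ Module.support ((Ideal.map (algebraMap R (Localization.Away g)) p).Fiber (Localization.Away hX)) (FlatCA.fiberMod (Ideal.map (algebraMap R (Localization.Away g)) p) (Localization.Away hX) (LocalizedModule (Submonoid.powers hX) N))),
          ξ.asIdeal = FlatCA.fiberIdeal (Ideal.map (algebraMap R (Localization.Away g)) p) (Ideal.map (algebraMap S (Localization.Away hX)) q) ∧
          FlatMor.localDim (Module.support ((Ideal.map (algebraMap R (Localization.Away g)) p).Fiber (Localization.Away hX)) (FlatCA.fiberMod (Ideal.map (algebraMap R (Localization.Away g)) p) (Localization.Away hX) (LocalizedModule (Submonoid.powers hX) N))) ⟨ξ, hξ⟩ = n) ∧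
        (Ideal.map (algebraMap C (Localization.Away hZ)) z).LiesOver (Ideal.map (algebraMap S (Localization.Away hX)) q) ∧ (Ideal.map (algebraMap C (Localization.Away hZ)) z).LiesOver (Ideal.map (algebraMap D (Localization.Away hY)) y) ∧
        (∀ (z₂ : Ideal (Localization.Away hZ)) [z₂.IsPrime], z₂.LiesOver (Ideal.map (algebraMap D (Localization.Away hY)) y) → z₂ = Ideal.map (algebraMap C (Localization.Away hZ)) z) ∧
        FlatCA.PurelyTranscendental (Ideal.map (algebraMap R (Localization.Away g)) p) (Ideal.map (algebraMap D (Localization.Away hY)) y) := by
  -- units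
  have ugX : IsUnit (algebraMap R (Localization.Away hX) g) := by
    have hu : IsUnit (algebraMap S (Localization.Away hX) hX) :=
      IsLocalization.Away.algebraMap_isUnit hX
    have e : algebraMap S (Localization.Away hX) hX = algebraMap S (Localization.Away hX) s *
        algebraMap S (Localization.Away hX) (algebraMap R S g) := by
      rw [← map_mul]
      exact congrArg (algebraMap S (Localization.Away hX)) hXs
    rw [e] at hu
    rw [IsScalarTower.algebraMap_apply R S (Localization.Away hX)]
    exact isUnit_of_mul_isUnit_right hu
  have ugY : IsUnit (algebraMap R (Localization.Away hY) g) := by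
    have hu : IsUnit (algebraMap D (Localization.Away hY) hY) :=
      IsLocalization.Away.algebraMap_isUnit hY
    have e : algebraMap D (Localization.Away hY) hY = algebraMap D (Localization.Away hY) w *
        algebraMap D (Localization.Away hY) (algebraMap R D g) := by
      rw [← map_mul]
      exact congrArg (algebraMap D (Localization.Away hY)) hYw
    rw [e] at hu
    rw [IsScalarTower.algebraMap_apply R D (Localization.Away hY)]
    exact isUnit_of_mul_isUnit_right hu
  have uXZ : IsUnit (algebraMap S (Localization.Away hZ) hX) := by
    rw [IsScalarTower.algebraMap_apply S C (Localization.Away hZ), hXZ]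
    exact IsLocalization.Away.algebraMap_isUnit hZ
  have uYZ : IsUnit (algebraMap D (Localization.Away hZ) hY) := by
    rw [IsScalarTower.algebraMap_apply D C (Localization.Away hZ), hYZ]
    exact IsLocalization.Away.algebraMap_isUnit hZ
  have ugZ : IsUnit (algebraMap R (Localization.Away hZ) g) := by
    have hu := uYZ
    have e : algebraMap D (Localization.Away hZ) hY = algebraMap D (Localization.Away hZ) w *
        algebraMap D (Localization.Away hZ) (algebraMap R D g) := by
      rw [← map_mul]
      exact congrArg (algebraMap D (Localization.Away hZ)) hYw
    rw [e] at hu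
    rw [IsScalarTower.algebraMap_apply R D (Localization.Away hZ)]
    exact isUnit_of_mul_isUnit_right hu
  -- the algebra structures
  letI a1 : Algebra (Localization.Away g) (Localization.Away hX) :=
    (IsLocalization.Away.lift g ugX).toAlgebra
  haveI t1 : IsScalarTower R (Localization.Away g) (Localization.Away hX) :=
    IsScalarTower.of_algebraMap_eq fun x => (IsLocalization.Away.lift_eq g ugX x).symm
  letI a2 : Algebra (Localization.Away g) (Localization.Away hZ) :=
    (IsLocalization.Away.lift g ugZ).toAlgebra
  haveI t2 : IsScalarTower R (Localization.Away g) (Localization.Away hZ) :=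
    IsScalarTower.of_algebraMap_eq fun x => (IsLocalization.Away.lift_eq g ugZ x).symm
  letI a3 : Algebra (Localization.Away g) (Localization.Away hY) :=
    (IsLocalization.Away.lift g ugY).toAlgebra
  haveI t3 : IsScalarTower R (Localization.Away g) (Localization.Away hY) :=
    IsScalarTower.of_algebraMap_eq fun x => (IsLocalization.Away.lift_eq g ugY x).symm
  letI a4 : Algebra (Localization.Away hX) (Localization.Away hZ) :=
    (IsLocalization.Away.lift hX uXZ).toAlgebra
  haveI t4 : IsScalarTower S (Localization.Away hX) (Localization.Away hZ) :=
    IsScalarTower.of_algebraMap_eq fun x => (IsLocalization.Away.lift_eq hX uXZ x).symm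
  haveI t5 : IsScalarTower (Localization.Away g) (Localization.Away hX) (Localization.Away hZ) := by
    apply IsScalarTower.of_algebraMap_eq'
    apply IsLocalization.ringHom_ext (Submonoid.powers g)
    ext r
    simp only [RingHom.comp_apply]
    rw [← IsScalarTower.algebraMap_apply R (Localization.Away g) (Localization.Away hZ),
      ← IsScalarTower.algebraMap_apply R (Localization.Away g) (Localization.Away hX),
      IsScalarTower.algebraMap_apply R S (Localization.Away hX),
      ← IsScalarTower.algebraMap_apply S (Localization.Away hX) (Localization.Away hZ),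
      ← IsScalarTower.algebraMap_apply R S (Localization.Away hZ)]
  letI a5 : Algebra (Localization.Away hY) (Localization.Away hZ) :=
    (IsLocalization.Away.lift hY uYZ).toAlgebra
  haveI t6 : IsScalarTower D (Localization.Away hY) (Localization.Away hZ) :=
    IsScalarTower.of_algebraMap_eq fun x => (IsLocalization.Away.lift_eq hY uYZ x).symm
  haveI t7 : IsScalarTower (Localization.Away g) (Localization.Away hY) (Localization.Away hZ) := by
    apply IsScalarTower.of_algebraMap_eq'
    apply IsLocalization.ringHom_ext (Submonoid.powers g)
    ext r
    simp only [RingHom.comp_apply]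
    rw [← IsScalarTower.algebraMap_apply R (Localization.Away g) (Localization.Away hZ),
      ← IsScalarTower.algebraMap_apply R (Localization.Away g) (Localization.Away hY),
      IsScalarTower.algebraMap_apply R D (Localization.Away hY),
      ← IsScalarTower.algebraMap_apply D (Localization.Away hY) (Localization.Away hZ),
      ← IsScalarTower.algebraMap_apply R D (Localization.Away hZ)]
  letI m1 : Module (Localization.Away g) (LocalizedModule (Submonoid.powers hX) N) :=
    Module.compHom _ (algebraMap (Localization.Away g) (Localization.Away hX))
  haveI t8 : IsScalarTower (Localization.Away g) (Localization.Away hX)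
      (LocalizedModule (Submonoid.powers hX) N) :=
    IsScalarTower.of_algebraMap_smul fun r x => rfl
  letI m2 : Module (Localization.Away hX) (LocalizedModule (Submonoid.powers hZ) G) :=
    Module.compHom _ (algebraMap (Localization.Away hX) (Localization.Away hZ))
  haveI t9 : IsScalarTower (Localization.Away hX) (Localization.Away hZ)
      (LocalizedModule (Submonoid.powers hZ) G) :=
    IsScalarTower.of_algebraMap_smul fun r x => rfl
  -- the primes
  haveI hp₁ : (Ideal.map (algebraMap R (Localization.Away g)) p).IsPrime :=
    isPrime_map_away R (Localization.Away g) g p hgp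
  haveI hy₁ : (Ideal.map (algebraMap D (Localization.Away hY)) y).IsPrime :=
    isPrime_map_away D (Localization.Away hY) hY y hYy
  haveI hy₁p : (Ideal.map (algebraMap D (Localization.Away hY)) y).LiesOver
      (Ideal.map (algebraMap R (Localization.Away g)) p) := by
    apply liesOver_map_of_under_eq R (Localization.Away g) (Submonoid.powers g) p
      (Localization.Away hY)
    rw [← Ideal.under_under (B := D), under_map_away D (Localization.Away hY) hY y hYy]
    exact hyp.over.symm
  refine ⟨a1, t1, a2, t2, a3, t3, a4, t4, t5, a5, t6, t7, m1, t8, m2, t9, hp₁, hy₁, hy₁p, ?_⟩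
  haveI lw : IsLocalization.Away (w * algebraMap R D g) (Localization.Away hY) := by
    rw [← hYw]
    infer_instance
  have hs : Function.Surjective (PrimeSpectrum.comap
      (algebraMap (Localization.Away g) (Localization.Away hY))) :=
    surjective_comap_away R (Localization.Away g) D (Localization.Away hY) g w hg
  have hf : IsBaseChange (Localization.Away hX)
      (LocalizedModule.mkLinearMap (Submonoid.powers hX) N) :=
    IsLocalizedModule.isBaseChange (Submonoid.powers hX) (Localization.Away hX) _
  have hγ : IsBaseChange (Localization.Away hZ)
      (LocalizedModule.mkLinearMap (Submonoid.powers hZ) G) :=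
    IsLocalizedModule.isBaseChange (Submonoid.powers hZ) (Localization.Away hZ) _
  exact devissageAt_shrink R S N p q C D G n h z y h1 h3 h4 g hX hXq hZ hY hYy hXZ hYZ
    (Localization.Away g) (Localization.Away hX) (Localization.Away hZ) (Localization.Away hY)
    (LocalizedModule (Submonoid.powers hX) N) (LocalizedModule.mkLinearMap (Submonoid.powers hX) N)
    hf (LocalizedModule (Submonoid.powers hZ) G)
    (LocalizedModule.mkLinearMap (Submonoid.powers hZ) G) hγ hs

end Groth.Agent.Lib.Helper24Dev
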