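import Mathlib

set_option autoImplicit false
set_option linter.unusedSectionVars false
universe u v

namespace Groth.Agent.Lib.Helper24Dieu

variable {p : ℕ} [Fact p.Prime] {k : Type u} [CommRing k] [CharP k p] [PerfectRing k p]

theorem p_mul_eq_zero (a : WittVector p k) (h : (p : WittVector p k) * a = 0) : a = 0 := by
  rw [mul_comm, ← WittVector.verschiebung_frobenius] at h
  have h1 : WittVector.frobenius a = 0 := by
    apply WittVector.verschiebung_injective
    rw [h, map_zero]
  apply (WittVector.frobenius_bijective p k).injective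
  rw [h1, map_zero]

theorem eq_pow_mul_of_p_mul_mem {n : ℕ} (hn : 1 ≤ n) (a : WittVector p k)
    (h : (p : WittVector p k) * a ∈ Ideal.span {(p : WittVector p k) ^ n}) :
    ∃ c, a = (p : WittVector p k) ^ (n - 1) * c := by
  obtain ⟨c, hc⟩ := Ideal.mem_span_singleton'.1 h
  refine ⟨c, ?_⟩
  have h2 : (p : WittVector p k) * (a - (p : WittVector p k) ^ (n - 1) * c) = 0 := by
    have h3 : (p : WittVector p k) ^ n = (p : WittVector p k) * (p : WittVector p k) ^ (n - 1) := by
      rw [← pow_succ', Nat.sub_add_cancel hn]
    rw [mul_sub, ← hc, h3]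
    ring
  exact sub_eq_zero.1 (p_mul_eq_zero _ h2)

variable (n : ℕ) (M : Type v) [AddCommGroup M] [Module (WittVector p k) M]
  [Module (WittVector p k ⧸ Ideal.span {(p : WittVector p k) ^ n}) M]
  [IsScalarTower (WittVector p k) (WittVector p k ⧸ Ideal.span {(p : WittVector p k) ^ n}) M]
  [Module.Finite (WittVector p k ⧸ Ideal.span {(p : WittVector p k) ^ n}) M]
  [Module.Projective (WittVector p k ⧸ Ideal.span {(p : WittVector p k) ^ n}) M]

theorem mk_smul (w : WittVector p k) (x : M) :
    (Ideal.Quotient.mk (Ideal.span {(p : WittVector p k) ^ n}) w) • x = w • x := by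
  have : (Ideal.Quotient.mk (Ideal.span {(p : WittVector p k) ^ n}) w) =
      w • (1 : WittVector p k ⧸ Ideal.span {(p : WittVector p k) ^ n}) := by
    rw [Algebra.smul_def, mul_one]; rfl
  rw [this, smul_assoc, one_smul]

theorem mem_p_smul_top_of_p_smul_eq_zero (hn : 2 ≤ n) (x : M) (hx : (p : WittVector p k) • x = 0) :
    x ∈ Ideal.span {(p : WittVector p k)} • (⊤ : Submodule (WittVector p k) M) := by
  obtain ⟨r, f, g, -, -, hfg⟩ := Module.Finite.exists_comp_eq_id_of_projective
    (WittVector p k ⧸ Ideal.span {(p : WittVector p k) ^ n}) M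
  have hx' : (Ideal.Quotient.mk (Ideal.span {(p : WittVector p k) ^ n}) (p : WittVector p k)) • g x
      = 0 := by
    rw [← map_smul, mk_smul, hx, map_zero]
  have hc : ∀ i, ∃ b : WittVector p k, g x i =
      Ideal.Quotient.mk (Ideal.span {(p : WittVector p k) ^ n}) ((p : WittVector p k) ^ (n - 1) * b) := by
    intro i
    obtain ⟨a, ha⟩ := Ideal.Quotient.mk_surjective (g x i)
    have h1 := congrFun hx' i
    rw [Pi.smul_apply, Pi.zero_apply, smul_eq_mul, ← ha, ← map_mul,
      Ideal.Quotient.eq_zero_iff_mem] at h1
    obtain ⟨b, hb⟩ := eq_pow_mul_of_p_mul_mem (by omega) a h1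
    exact ⟨b, by rw [← ha, hb]⟩
  choose b hb using hc
  have hgx : g x = (Ideal.Quotient.mk (Ideal.span {(p : WittVector p k) ^ n})
      ((p : WittVector p k) ^ (n - 1))) •
      (fun i => Ideal.Quotient.mk (Ideal.span {(p : WittVector p k) ^ n}) (b i)) := by
    funext i
    rw [hb i, Pi.smul_apply, smul_eq_mul, map_mul]
  have hxf : x = f (g x) := by
    have := congrArg (fun m => m x) hfg
    simpa using this.symm
  rw [hxf, hgx, map_smul, mk_smul]
  have h3 : (p : WittVector p k) ^ (n - 1) = (p : WittVector p k) * (p : WittVector p k) ^ (n - 2) := by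
    rw [← pow_succ']
    congr 1
    omega
  rw [h3, mul_smul]
  exact Submodule.smul_mem_smul (Ideal.mem_span_singleton_self _) Submodule.mem_top

theorem mem_p_smul_top_iff (x : M) :
    x ∈ Ideal.span {(p : WittVector p k)} • (⊤ : Submodule (WittVector p k) M) ↔
      ∃ y : M, x = (p : WittVector p k) • y := by
  rw [Submodule.ideal_span_singleton_smul, Submodule.mem_smul_pointwise_iff_exists]
  constructor
  · rintro ⟨y, -, rfl⟩; exact ⟨y, rfl⟩
  · rintro ⟨y, rfl⟩; exact ⟨y, Submodule.mem_top, rfl⟩

theorem dieudonne_ker_im (hn : 2 ≤ n)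
    (F : M →ₛₗ[(WittVector.frobenius : WittVector p k →+* WittVector p k)] M)
    (V : M →ₛₗ[((WittVector.frobeniusEquiv p k).symm : WittVector p k →+* WittVector p k)] M)
    (hFV : ∀ m : M, F (V m) = (p : WittVector p k) • m)
    (hVF : ∀ m : M, V (F m) = (p : WittVector p k) • m) :
    (Ideal.span {(p : WittVector p k)} • (⊤ : Submodule (WittVector p k) M)).comap F =
        Submodule.span (WittVector p k) (Set.range V) ⊔
          Ideal.span {(p : WittVector p k)} • (⊤ : Submodule (WittVector p k) M) ∧
      (Ideal.span {(p : WittVector p k)} • (⊤ : Submodule (WittVector p k) M)).comap V =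
        Submodule.span (WittVector p k) (Set.range F) ⊔
          Ideal.span {(p : WittVector p k)} • (⊤ : Submodule (WittVector p k) M) := by
  have hFp : ∀ y : M, F ((p : WittVector p k) • y) = (p : WittVector p k) • F y := by
    intro y
    rw [map_smulₛₗ, map_natCast]
  have hVp : ∀ y : M, V ((p : WittVector p k) • y) = (p : WittVector p k) • V y := by
    intro y
    rw [map_smulₛₗ, map_natCast]
  constructor
  · apply le_antisymm
    · intro x hx
      rw [Submodule.mem_comap, mem_p_smul_top_iff] at hx
      obtain ⟨y, hy⟩ := hx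
      have h1 : (p : WittVector p k) • (x - V y) = 0 := by
        rw [smul_sub, ← hVF x, hy, hVp, sub_self]
      have h2 := mem_p_smul_top_of_p_smul_eq_zero n M hn _ h1
      have h3 : x = V y + (x - V y) := by abel
      rw [h3]
      exact Submodule.add_mem_sup (Submodule.subset_span ⟨y, rfl⟩) h2
    · apply sup_le
      · rw [Submodule.span_le]
        rintro _ ⟨y, rfl⟩
        rw [SetLike.mem_coe, Submodule.mem_comap, hFV]
        exact Submodule.smul_mem_smul (Ideal.mem_span_singleton_self _) Submodule.mem_top
      · intro x hx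
        rw [mem_p_smul_top_iff] at hx
        obtain ⟨y, rfl⟩ := hx
        rw [Submodule.mem_comap, hFp]
        exact Submodule.smul_mem_smul (Ideal.mem_span_singleton_self _) Submodule.mem_top
  · apply le_antisymm
    · intro x hx
      rw [Submodule.mem_comap, mem_p_smul_top_iff] at hx
      obtain ⟨y, hy⟩ := hx
      have h1 : (p : WittVector p k) • (x - F y) = 0 := by
        rw [smul_sub, ← hFV x, hy, hFp, sub_self]
      have h2 := mem_p_smul_top_of_p_smul_eq_zero n M hn _ h1
      have h3 : x = F y + (x - F y) := by abel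
      rw [h3]
      exact Submodule.add_mem_sup (Submodule.subset_span ⟨y, rfl⟩) h2
    · apply sup_le
      · rw [Submodule.span_le]
        rintro _ ⟨y, rfl⟩
        rw [SetLike.mem_coe, Submodule.mem_comap, hVF]
        exact Submodule.smul_mem_smul (Ideal.mem_span_singleton_self _) Submodule.mem_top
      · intro x hx
        rw [mem_p_smul_top_iff] at hx
        obtain ⟨y, rfl⟩ := hx
        rw [Submodule.mem_comap, hVp]
        exact Submodule.smul_mem_smul (Ideal.mem_span_singleton_self _) Submodule.mem_top

end Groth.Agent.Lib.Helper24Dieu
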