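import Mathlib

set_option autoImplicit false
universe u

namespace Groth.Agent.Lib.Helper24DvrEF

open IsLocalRing

section Core
variable {A B : Type u} [CommRing A] [IsDomain A] [IsDiscreteValuationRing A]
  [CommRing B] [IsDomain B] [IsDiscreteValuationRing B] [Algebra A B]
  [IsLocalHom (algebraMap A B)]
  {πA : A} {πB : B} (hπA : Irreducible πA) (hπB : Irreducible πB) {e : ℕ} {u : Bˣ}
  (hu : algebraMap A B πA = ↑u * πB ^ e)

include hπA hπB hu

theorem key {ι : Type u} [Fintype ι] (b : ι → B)
    (hb : LinearIndependent (ResidueField A) (fun i => residue B (b i)))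
    (g : ι × Fin e → A)
    (hg : ∑ k, algebraMap A B (g k) * (πB ^ (k.2 : ℕ) * b k.1) = 0) :
    ∀ k, g k ∈ maximalIdeal A := by
  classical
  by_contra hne
  push Not at hne
  obtain ⟨⟨i1, j1⟩, hk1⟩ := hne
  have hex : ∃ j : ℕ, ∃ (hj : j < e) (i : ι), g (i, ⟨j, hj⟩) ∉ maximalIdeal A :=
    ⟨j1.1, j1.2, i1, hk1⟩
  obtain ⟨j0, ⟨hj0, i0, hi0⟩, hminP⟩ : ∃ j0, (∃ (hj : j0 < e) (i : ι),
      g (i, ⟨j0, hj⟩) ∉ maximalIdeal A) ∧ ∀ j < j0, ¬ (∃ (hj : j < e) (i : ι),
      g (i, ⟨j, hj⟩) ∉ maximalIdeal A) :=
    ⟨Nat.find hex, Nat.find_spec hex, fun j hj => Nat.find_min hex hj⟩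
  have hmin : ∀ j, j < j0 → ∀ (hj : j < e) (i : ι), g (i, ⟨j, hj⟩) ∈ maximalIdeal A := by
    intro j hjlt hj i
    by_contra hcon
    exact hminP j hjlt ⟨hj, i, hcon⟩
  obtain ⟨J0, hJ0⟩ : ∃ J0 : Fin e, J0 = ⟨j0, hj0⟩ := ⟨_, rfl⟩
  have hJ0v : (J0 : ℕ) = j0 := by rw [hJ0]
  rw [Fintype.sum_prod_type_right] at hg
  have hdvd_other : ∀ j : Fin e, j ≠ J0 →
      πB ^ (j0 + 1) ∣ ∑ i, algebraMap A B (g (i, j)) * (πB ^ (j : ℕ) * b i) := by
    intro j hjne
    apply Finset.dvd_sum
    intro i _
    have hjne' : (j : ℕ) ≠ j0 := fun h => hjne (Fin.ext (h.trans hJ0v.symm))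
    rcases lt_or_gt_of_ne hjne' with hlt | hgt
    · have hm := hmin j hlt j.2 i
      rw [hπA.maximalIdeal_eq, Ideal.mem_span_singleton] at hm
      have h1 : algebraMap A B πA ∣ algebraMap A B (g (i, j)) := map_dvd _ hm
      have h2 : πB ^ (j0 + 1) ∣ algebraMap A B πA := by
        rw [hu]
        exact dvd_mul_of_dvd_right (pow_dvd_pow _ (by omega)) _
      exact dvd_mul_of_dvd_left (h2.trans h1) _
    · exact dvd_mul_of_dvd_right (dvd_mul_of_dvd_left (pow_dvd_pow _ (by omega)) _) _
  have hsum0 : (∑ i, algebraMap A B (g (i, J0)) * (πB ^ (J0 : ℕ) * b i)) +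
      ∑ j ∈ Finset.univ.erase J0, ∑ i, algebraMap A B (g (i, j)) * (πB ^ (j : ℕ) * b i) = 0 :=
    (Finset.add_sum_erase Finset.univ
      (fun j : Fin e => ∑ i, algebraMap A B (g (i, j)) * (πB ^ (j : ℕ) * b i))
      (Finset.mem_univ J0)).trans hg
  have hdvd0 : πB ^ (j0 + 1) ∣ ∑ i, algebraMap A B (g (i, J0)) * (πB ^ (J0 : ℕ) * b i) := by
    rw [eq_neg_of_add_eq_zero_left hsum0, dvd_neg]
    exact Finset.dvd_sum (fun j hj => hdvd_other j (Finset.ne_of_mem_erase hj))
  have hfac : ∑ i, algebraMap A B (g (i, J0)) * (πB ^ (J0 : ℕ) * b i) =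
      πB ^ j0 * ∑ i, algebraMap A B (g (i, J0)) * b i := by
    rw [Finset.mul_sum, hJ0v]
    refine Finset.sum_congr rfl (fun i _ => ?_)
    ring
  rw [hfac, pow_succ, mul_dvd_mul_iff_left (pow_ne_zero _ hπB.ne_zero)] at hdvd0
  have hS : residue B (∑ i, algebraMap A B (g (i, J0)) * b i) = 0 := by
    rw [residue_eq_zero_iff, hπB.maximalIdeal_eq, Ideal.mem_span_singleton]; exact hdvd0
  rw [map_sum] at hS
  have hS' : ∑ i, (residue A (g (i, J0))) • residue B (b i) = 0 := by
    rw [← hS]
    refine Finset.sum_congr rfl (fun i _ => ?_)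
    rw [map_mul, Algebra.smul_def, IsLocalRing.ResidueField.algebraMap_residue]
  have h0 := Fintype.linearIndependent_iff.mp hb (fun i => residue A (g (i, J0))) hS' i0
  rw [residue_eq_zero_iff] at h0
  apply hi0
  rw [hJ0] at h0
  exact h0

theorem linInd (hinj : Function.Injective (algebraMap A B))
    {ι : Type u} [Fintype ι] (b : ι → B)
    (hb : LinearIndependent (ResidueField A) (fun i => residue B (b i))) :
    LinearIndependent A (fun k : ι × Fin e => πB ^ (k.2 : ℕ) * b k.1) := by
  classical
  have hfπ : algebraMap A B πA ≠ 0 := fun h => hπA.ne_zero (hinj (h.trans (map_zero _).symm))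
  have hall : ∀ w : ℕ, ∀ g : ι × Fin e → A,
      (∑ k, algebraMap A B (g k) * (πB ^ (k.2 : ℕ) * b k.1) = 0) → ∀ k, πA ^ w ∣ g k := by
    intro w
    induction w with
    | zero => intro g _ k; simp
    | succ w ih =>
      intro g hg k
      have hw := ih g hg
      choose g' hg' using hw
      have hg2 : ∑ k, algebraMap A B (g' k) * (πB ^ (k.2 : ℕ) * b k.1) = 0 := by
        have : algebraMap A B πA ^ w * ∑ k, algebraMap A B (g' k) * (πB ^ (k.2 : ℕ) * b k.1) = 0 := by
          rw [← hg, Finset.mul_sum]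
          refine Finset.sum_congr rfl (fun k _ => ?_)
          rw [hg' k, map_mul, map_pow]; ring
        rcases mul_eq_zero.mp this with h | h
        · exact absurd h (pow_ne_zero _ hfπ)
        · exact h
      have hk := key hπA hπB hu b hb g' hg2 k
      rw [hπA.maximalIdeal_eq, Ideal.mem_span_singleton] at hk
      rw [hg' k, pow_succ]
      exact mul_dvd_mul_left _ hk
  rw [Fintype.linearIndependent_iff]
  intro g hg k
  have hg' : ∑ k, algebraMap A B (g k) * (πB ^ (k.2 : ℕ) * b k.1) = 0 := by
    rw [← hg]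
    refine Finset.sum_congr rfl (fun k _ => ?_)
    rw [Algebra.smul_def]
  by_contra hne
  obtain ⟨n, v, hv⟩ := IsDiscreteValuationRing.eq_unit_mul_pow_irreducible hne hπA
  have hd := hall (n + 1) g hg' k
  rw [hv, IsUnit.dvd_mul_left v.isUnit] at hd
  have := (pow_dvd_pow_iff hπA.ne_zero hπA.not_isUnit).mp hd
  omega

end Core

theorem s7132 (A B K L : Type u) [CommRing A] [IsDomain A]
    [IsDiscreteValuationRing A] [CommRing B] [IsDomain B] [IsDiscreteValuationRing B] [Algebra A B]
    (hinj : Function.Injective (algebraMap A B)) [IsLocalHom (algebraMap A B)]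
    [Field K] [Field L] [Algebra A K] [IsFractionRing A K] [Algebra B L] [IsFractionRing B L]
    [Algebra K L] [Algebra A L] [IsScalarTower A K L] [IsScalarTower A B L] [FiniteDimensional K L] :
    Module.Finite (IsLocalRing.ResidueField A) (IsLocalRing.ResidueField B) ∧
      Ideal.ramificationIdx' (IsLocalRing.maximalIdeal A) (IsLocalRing.maximalIdeal B) *
          Module.finrank (IsLocalRing.ResidueField A) (IsLocalRing.ResidueField B) ≤
        Module.finrank K L := by
  classical
  obtain ⟨πA, hπA⟩ := IsDiscreteValuationRing.exists_irreducible A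
  obtain ⟨πB, hπB⟩ := IsDiscreteValuationRing.exists_irreducible B
  have hfπ : algebraMap A B πA ≠ 0 := fun h => hπA.ne_zero (hinj (h.trans (map_zero _).symm))
  obtain ⟨e, u, hu⟩ := IsDiscreteValuationRing.eq_unit_mul_pow_irreducible hfπ hπB
  have hram : Ideal.ramificationIdx' (IsLocalRing.maximalIdeal A)
      (IsLocalRing.maximalIdeal B) = e := by
    have hmap : Ideal.map (algebraMap A B) (IsLocalRing.maximalIdeal A) =
        IsLocalRing.maximalIdeal B ^ e := by
      rw [hπA.maximalIdeal_eq, hπB.maximalIdeal_eq, Ideal.map_span, Set.image_singleton, hu,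
        Ideal.span_singleton_pow, Ideal.span_singleton_mul_left_unit u.isUnit]
    apply Ideal.ramificationIdx'_spec
    · rw [hmap]
    · rw [hmap, hπB.maximalIdeal_eq, Ideal.span_singleton_pow, Ideal.span_singleton_pow,
        Ideal.span_singleton_le_span_singleton]
      intro hdvd
      have := (pow_dvd_pow_iff hπB.ne_zero hπB.not_isUnit).mp hdvd
      omega
  have he : 0 < e := by
    rcases Nat.eq_zero_or_pos e with h0 | h0
    · exfalso
      rw [h0, pow_zero, mul_one] at hu
      have : IsUnit (algebraMap A B πA) := hu ▸ u.isUnit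
      exact hπA.not_isUnit (isUnit_of_map_unit (algebraMap A B) πA this)
    · exact h0
  have hbound : ∀ s : Finset (ResidueField B),
      (LinearIndependent (ResidueField A) fun i : s => (i : ResidueField B)) →
      s.card ≤ Module.finrank K L / e := by
    intro s hs
    have hsurj := IsLocalRing.residue_surjective (R := B)
    choose lift hlift using hsurj
    let b : s → B := fun i => lift i.1
    have hb : LinearIndependent (ResidueField A) (fun i => residue B (b i)) := by
      have : (fun i => residue B (b i)) = fun i : s => (i : ResidueField B) := by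
        funext i; exact hlift i.1
      rw [this]; exact hs
    have hli := linInd hπA hπB hu hinj b hb
    have hliL : LinearIndependent A
        (fun k : s × Fin e => algebraMap B L (πB ^ (k.2 : ℕ) * b k.1)) := by
      have := hli.map' (IsScalarTower.toAlgHom A B L).toLinearMap
        (LinearMap.ker_eq_bot.mpr (IsFractionRing.injective B L))
      exact this
    have hliK : LinearIndependent K
        (fun k : s × Fin e => algebraMap B L (πB ^ (k.2 : ℕ) * b k.1)) :=
      (LinearIndependent.iff_fractionRing A K).mp hliL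
    have hcard := hliK.fintype_card_le_finrank
    rw [Fintype.card_prod, Fintype.card_coe, Fintype.card_fin] at hcard
    exact (Nat.le_div_iff_mul_le he).mpr hcard
  have hrank : Module.rank (ResidueField A) (ResidueField B) ≤ ((Module.finrank K L / e : ℕ) : Cardinal) :=
    rank_le hbound
  have hfin : Module.Finite (ResidueField A) (ResidueField B) :=
    Module.rank_lt_aleph0_iff.mp (hrank.trans_lt (Cardinal.natCast_lt_aleph0))
  refine ⟨hfin, ?_⟩
  rw [hram]
  have hf := Module.finrank_le_of_rank_le hrank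
  calc e * Module.finrank (ResidueField A) (ResidueField B)
      ≤ e * (Module.finrank K L / e) := Nat.mul_le_mul_left _ hf
    _ ≤ Module.finrank K L := Nat.mul_div_le _ _

end Groth.Agent.Lib.Helper24DvrEF
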