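import Mathlib

set_option autoImplicit false
universe u

namespace Groth.Agent.Lib.Helper24DvrInsepRam

theorem s7133 (A B K L : Type u) [CommRing A] [IsDomain A]
    [IsDiscreteValuationRing A] [CommRing B] [IsDomain B] [IsDiscreteValuationRing B] [Algebra A B]
    (hinj : Function.Injective (algebraMap A B)) [IsLocalHom (algebraMap A B)]
    [Field K] [Field L] [Algebra A K] [IsFractionRing A K] [Algebra B L] [IsFractionRing B L]
    [Algebra K L] [Algebra A L] [IsScalarTower A K L] [IsScalarTower A B L]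
    (p : ℕ) (hp : p.Prime) [CharP K p] [IsPurelyInseparable K L] :
    ∃ k : ℕ, Ideal.ramificationIdx' (IsLocalRing.maximalIdeal A) (IsLocalRing.maximalIdeal B) =
      p ^ k := by
  classical
  obtain ⟨πA, hπA⟩ := IsDiscreteValuationRing.exists_irreducible A
  obtain ⟨πB, hπB⟩ := IsDiscreteValuationRing.exists_irreducible B
  have hfπ : algebraMap A B πA ≠ 0 := fun h => hπA.ne_zero (hinj (h.trans (map_zero _).symm))
  obtain ⟨e, u, hu⟩ := IsDiscreteValuationRing.eq_unit_mul_pow_irreducible hfπ hπB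
  have hram : Ideal.ramificationIdx' (IsLocalRing.maximalIdeal A)
      (IsLocalRing.maximalIdeal B) = e := by
    have hmap : Ideal.map (algebraMap A B) (IsLocalRing.maximalIdeal A) =
        IsLocalRing.maximalIdeal B ^ e := by
      rw [hπA.maximalIdeal_eq, hπB.maximalIdeal_eq, Ideal.map_span, Set.image_singleton, hu,
        Ideal.span_singleton_pow, Ideal.span_singleton_mul_left_unit u.isUnit]
    apply Ideal.ramificationIdx'_spec
    · rw [hmap]
    · rw [hmap, hπB.maximalIdeal_eq, Ideal.span_singleton_pow, Ideal.span_singleton_pow,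
        Ideal.span_singleton_le_span_singleton]
      intro hdvd
      have := (pow_dvd_pow_iff hπB.ne_zero hπB.not_isUnit).mp hdvd
      omega
  haveI : ExpChar K p := ExpChar.prime hp
  obtain ⟨m, x, hx⟩ := IsPurelyInseparable.pow_mem K p (algebraMap B L πB)
  obtain ⟨⟨a, s⟩, has⟩ := IsLocalization.surj (nonZeroDivisors A) x
  have hs0 : (s : A) ≠ 0 := nonZeroDivisors.ne_zero s.2
  have hB : πB ^ (p ^ m) * algebraMap A B s = algebraMap A B a := by
    apply IsFractionRing.injective B L
    rw [map_mul, map_pow, ← hx, ← IsScalarTower.algebraMap_apply A B L,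
      ← IsScalarTower.algebraMap_apply A B L,
      IsScalarTower.algebraMap_apply A K L, IsScalarTower.algebraMap_apply A K L, ← map_mul]
    exact congrArg _ has
  have hfs0 : algebraMap A B s ≠ 0 := fun h => hs0 (hinj (h.trans (map_zero _).symm))
  have ha0 : a ≠ 0 := by
    rintro rfl
    rw [map_zero] at hB
    rcases mul_eq_zero.mp hB with h | h
    · exact pow_ne_zero _ hπB.ne_zero h
    · exact hfs0 h
  obtain ⟨r1, u1, hu1⟩ := IsDiscreteValuationRing.eq_unit_mul_pow_irreducible ha0 hπA
  obtain ⟨r2, u2, hu2⟩ := IsDiscreteValuationRing.eq_unit_mul_pow_irreducible hs0 hπA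
  let U1 : Bˣ := Units.map ((algebraMap A B : A →+* B) : A →* B) u1 * u ^ r1
  let U2 : Bˣ := Units.map ((algebraMap A B : A →+* B) : A →* B) u2 * u ^ r2
  have h1 : algebraMap A B a = ↑U1 * πB ^ (e * r1) := by
    rw [hu1, map_mul, map_pow, hu]
    simp only [U1, Units.val_mul, Units.coe_map, Units.val_pow_eq_pow_val, MonoidHom.coe_coe]
    ring
  have h2 : algebraMap A B s = ↑U2 * πB ^ (e * r2) := by
    rw [hu2, map_mul, map_pow, hu]
    simp only [U2, Units.val_mul, Units.coe_map, Units.val_pow_eq_pow_val, MonoidHom.coe_coe]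
    ring
  have h3 : (↑U2 : B) * πB ^ (p ^ m + e * r2) = ↑U1 * πB ^ (e * r1) := by
    rw [← h1, ← hB, h2]; ring
  have h4 := IsDiscreteValuationRing.unit_mul_pow_congr_pow hπB hπB U2 U1 _ _ h3
  have hdvd : e ∣ p ^ m := by
    have hd : e ∣ p ^ m + e * r2 := h4 ▸ dvd_mul_right e r1
    exact (Nat.dvd_add_left (dvd_mul_right e r2)).mp hd
  obtain ⟨k, -, hk⟩ := (Nat.dvd_prime_pow hp).mp hdvd
  exact ⟨k, hram.trans hk⟩

end Groth.Agent.Lib.Helper24DvrInsepRam
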