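import Mathlib

/-!
Helper library for S19008: the "leaf lemma" for simple (co)roots of a finite crystallographic
root pairing (a consequence of positive definiteness of the canonical form on the coroot lattice),
and the resulting solvability of the system `a_ij c_i - a_ji c_j = d_ij - d_ji`.
-/

set_option autoImplicit false

namespace Groth.Agent.Lib.Helper24DynLeaf

open Set Function

variable {ι R M N : Type*} [CommRing R] [IsDomain R] [CharZero R]
  [AddCommGroup M] [Module R M] [AddCommGroup N] [Module R N]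

/-- For a nonempty finite set `S` of indices with `R`-linearly independent roots there is `j ∈ S`
with `∑_{i ∈ S} ⟨α_i, α_j^∨⟩ > 0`. -/
theorem exists_leaf [Fintype ι] (Q : RootPairing ι R M N) [Q.IsCrystallographic]
    (S : Finset ι) (hS : S.Nonempty) (hli : LinearIndepOn R Q.root (S : Set ι)) :
    ∃ j ∈ S, 0 < ∑ i ∈ S, Q.pairingIn ℤ i j := by
  classical
  obtain ⟨B, hBdef⟩ : ∃ B : Q.RootPositiveForm ℤ, B = Q.posRootForm ℤ := ⟨_, rfl⟩
  obtain ⟨x, hx⟩ : ∃ x : Q.rootSpan ℤ, x = ∑ i ∈ S, Q.rootSpanMem ℤ i := ⟨_, rfl⟩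
  have hxM : (x : M) = ∑ i ∈ S, Q.root i := by
    rw [hx, Submodule.coe_sum]
  have hx0 : x ≠ 0 := by
    intro h
    have h1 : ∑ i ∈ S, (1 : R) • Q.root i = 0 := by
      simp only [one_smul]
      rw [← hxM, h]; rfl
    obtain ⟨j, hj⟩ := hS
    have := linearIndepOn_iff'.mp hli S (fun _ => (1 : R)) (subset_refl _) h1 j hj
    exact one_ne_zero this
  have hpos : 0 < B.posForm x x := by
    rw [hBdef]; exact Q.posRootForm_posForm_pos_of_ne_zero ℤ hx0
  have h2 : ∀ i j, 2 * B.posForm (Q.rootSpanMem ℤ i) (Q.rootSpanMem ℤ j)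
      = Q.pairingIn ℤ i j * B.rootLength j := by
    intro i j
    apply FaithfulSMul.algebraMap_injective ℤ R
    rw [map_mul, map_mul, map_ofNat, B.algebraMap_posForm, Q.algebraMap_pairingIn ℤ,
      B.algebraMap_rootLength]
    exact B.toInvariantForm.two_mul_apply_root_root i j
  have hexp : 2 * B.posForm x x
      = ∑ j ∈ S, (∑ i ∈ S, Q.pairingIn ℤ i j) * B.rootLength j := by
    have h3 : B.posForm x x
        = ∑ j ∈ S, ∑ i ∈ S, B.posForm (Q.rootSpanMem ℤ i) (Q.rootSpanMem ℤ j) := by
      rw [hx]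
      simp only [map_sum, LinearMap.sum_apply]
    rw [h3, Finset.mul_sum]
    refine Finset.sum_congr rfl fun j _ => ?_
    rw [Finset.mul_sum, Finset.sum_mul]
    exact Finset.sum_congr rfl fun i _ => h2 i j
  by_contra hcon
  push Not at hcon
  have hle : 2 * B.posForm x x ≤ 0 := by
    rw [hexp]
    exact Finset.sum_nonpos fun j hj =>
      mul_nonpos_of_nonpos_of_nonneg (hcon j hj) (B.rootLength_pos j).le
  linarith

lemma flip_pairingIn (P : RootPairing ι R M N) [P.IsCrystallographic] (i j : ι) :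
    P.flip.pairingIn ℤ i j = P.pairingIn ℤ j i := by
  apply FaithfulSMul.algebraMap_injective ℤ R
  rw [P.flip.algebraMap_pairingIn ℤ, P.algebraMap_pairingIn ℤ]
  rfl

lemma pairingIn_zero_symm (P : RootPairing ι R M N) [P.IsCrystallographic] (i j : ι)
    (h : P.pairingIn ℤ i j = 0) : P.pairingIn ℤ j i = 0 := by
  have h1 : P.pairing i j = 0 := by rw [← P.algebraMap_pairingIn ℤ, h, map_zero]
  have h2 : P.pairing j i = 0 := P.pairing_eq_zero_iff'.mp h1
  apply FaithfulSMul.algebraMap_injective ℤ R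
  rw [P.algebraMap_pairingIn ℤ, h2, map_zero]

theorem key_solve (P : RootPairing ι R M N)
    [Finite ι] [P.IsCrystallographic] (b : P.Base) (d : ι → ι → ℤ)
    (hd : ∀ i ∈ b.support, ∀ j ∈ b.support, i ≠ j → P.pairingIn ℤ i j = 0 → d i j = d j i) :
    ∀ S : Finset ι, S ⊆ b.support → ∃ c : ι → ℤ, ∀ i ∈ S, ∀ j ∈ S, i ≠ j →
      P.pairingIn ℤ i j * c i - P.pairingIn ℤ j i * c j = d i j - d j i := by
  classical
  have _ : Fintype ι := Fintype.ofFinite ι
  intro S
  induction S using Finset.strongInduction with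
  | H S ih =>
    intro hSb
    rcases S.eq_empty_or_nonempty with rfl | hne
    · exact ⟨fun _ => 0, by simp⟩
    obtain ⟨j, hjS, hjpos⟩ := exists_leaf P.flip S hne
      (b.linearIndepOn_coroot.mono (Finset.coe_subset.mpr hSb))
    have hjb : j ∈ b.support := hSb hjS
    -- rewrite the leaf inequality
    have hjpos' : 0 < 2 + ∑ i ∈ S.erase j, P.pairingIn ℤ j i := by
      have h1 : ∑ i ∈ S, P.flip.pairingIn ℤ i j = ∑ i ∈ S, P.pairingIn ℤ j i :=
        Finset.sum_congr rfl fun i _ => flip_pairingIn P i j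
      rw [h1, ← Finset.add_sum_erase S _ hjS, P.pairingIn_same ℤ j] at hjpos
      exact hjpos
    have hnonpos : ∀ i ∈ S.erase j, P.pairingIn ℤ j i ≤ 0 := by
      intro i hi
      exact b.pairingIn_le_zero_of_ne (Finset.ne_of_mem_erase hi).symm hjb
        (hSb (Finset.mem_of_mem_erase hi))
    obtain ⟨c, hc⟩ := ih (S.erase j) (Finset.erase_ssubset hjS)
      ((Finset.erase_subset j S).trans hSb)
    -- trivial equations for orthogonal pairs
    have hzero : ∀ k ∈ S.erase j, P.pairingIn ℤ j k = 0 → ∀ c' : ι → ℤ,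
        (P.pairingIn ℤ j k * c' j - P.pairingIn ℤ k j * c' k = d j k - d k j) ∧
        (P.pairingIn ℤ k j * c' k - P.pairingIn ℤ j k * c' j = d k j - d j k) := by
      intro k hk h0 c'
      have hkb : k ∈ b.support := hSb (Finset.mem_of_mem_erase hk)
      have hkj : k ≠ j := Finset.ne_of_mem_erase hk
      have h0' : P.pairingIn ℤ k j = 0 := pairingIn_zero_symm P j k h0
      have hdd : d j k = d k j := hd j hjb k hkb hkj.symm h0
      rw [h0, h0', hdd]
      simp
    by_cases hnb : ∃ u ∈ S.erase j, P.pairingIn ℤ j u ≠ 0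
    · obtain ⟨u, hu, hu0⟩ := hnb
      have huj : u ≠ j := Finset.ne_of_mem_erase hu
      have hsplit : ∑ i ∈ S.erase j, P.pairingIn ℤ j i
          = P.pairingIn ℤ j u + ∑ i ∈ (S.erase j).erase u, P.pairingIn ℤ j i :=
        (Finset.add_sum_erase (S.erase j) _ hu).symm
      have hrest : ∑ i ∈ (S.erase j).erase u, P.pairingIn ℤ j i ≤ 0 :=
        Finset.sum_nonpos fun i hi => hnonpos i (Finset.mem_of_mem_erase hi)
      have hule : P.pairingIn ℤ j u ≤ 0 := hnonpos u hu
      have hu1 : P.pairingIn ℤ j u = -1 := by omega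
      have hrest0 : ∑ i ∈ (S.erase j).erase u, P.pairingIn ℤ j i = 0 := by omega
      have hothers : ∀ i ∈ (S.erase j).erase u, P.pairingIn ℤ j i = 0 :=
        (Finset.sum_eq_zero_iff_of_nonpos
          (fun i hi => hnonpos i (Finset.mem_of_mem_erase hi))).mp hrest0
      refine ⟨Function.update c j (-(d j u - d u j) - P.pairingIn ℤ u j * c u), ?_⟩
      have hcj : Function.update c j (-(d j u - d u j) - P.pairingIn ℤ u j * c u) j
          = -(d j u - d u j) - P.pairingIn ℤ u j * c u := Function.update_self ..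
      have hcne : ∀ k, k ≠ j →
          Function.update c j (-(d j u - d u j) - P.pairingIn ℤ u j * c u) k = c k :=
        fun k hk => Function.update_of_ne hk ..
      intro i hi k hk hik
      by_cases hij : i = j
      · subst hij
        have hkS : k ∈ S.erase i := Finset.mem_erase.mpr ⟨hik.symm, hk⟩
        by_cases hku : k = u
        · subst hku
          rw [hcj, hcne k huj, hu1]
          ring
        · exact (hzero k hkS (hothers k (Finset.mem_erase.mpr ⟨hku, hkS⟩)) _).1
      · by_cases hkj : k = j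
        · subst hkj
          have hiS : i ∈ S.erase k := Finset.mem_erase.mpr ⟨hij, hi⟩
          by_cases hiu : i = u
          · subst hiu
            rw [hcj, hcne i hij, hu1]
            ring
          · exact (hzero i hiS (hothers i (Finset.mem_erase.mpr ⟨hiu, hiS⟩)) _).2
        · rw [hcne i hij, hcne k hkj]
          exact hc i (Finset.mem_erase.mpr ⟨hij, hi⟩) k (Finset.mem_erase.mpr ⟨hkj, hk⟩) hik
    · push Not at hnb
      refine ⟨c, ?_⟩
      intro i hi k hk hik
      by_cases hij : i = j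
      · subst hij
        have hkS : k ∈ S.erase i := Finset.mem_erase.mpr ⟨hik.symm, hk⟩
        exact (hzero k hkS (hnb k hkS) _).1
      · by_cases hkj : k = j
        · subst hkj
          have hiS : i ∈ S.erase k := Finset.mem_erase.mpr ⟨hij, hi⟩
          exact (hzero i hiS (hnb i hiS) _).2
        · exact hc i (Finset.mem_erase.mpr ⟨hij, hi⟩) k (Finset.mem_erase.mpr ⟨hkj, hk⟩) hik

theorem s19008 (P : RootPairing ι R M N)
    [Finite ι] [P.IsCrystallographic] [P.IsReduced] (b : P.Base) (d : ι → ι → ℤ)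
    (hd : ∀ i ∈ b.support, ∀ j ∈ b.support, i ≠ j → P.pairingIn ℤ i j = 0 → d i j = d j i) :
    ∃ C : ι → ι → ℤ, ∀ i ∈ b.support, ∀ j ∈ b.support, i ≠ j →
      C i j + C j i - P.pairingIn ℤ j i * C j j = d i j := by
  classical
  obtain ⟨c, hc⟩ := key_solve P b d hd b.support (subset_refl _)
  obtain ⟨n, ⟨f⟩⟩ := Finite.exists_equiv_fin ι
  refine ⟨fun i j => if i = j then c i else
    if ((f i : Fin n) : ℕ) < f j then d i j + P.pairingIn ℤ j i * c j else 0, ?_⟩
  intro i hi j hj hij
  have hji : j ≠ i := hij.symm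
  have hne : ((f i : Fin n) : ℕ) ≠ f j := fun h => hij (f.injective (Fin.ext h))
  simp only [if_neg hij, if_neg hji, if_true]
  rcases lt_or_gt_of_ne hne with h | h
  · rw [if_pos h, if_neg (not_lt.mpr h.le)]
    ring
  · rw [if_neg (not_lt.mpr h.le), if_pos h]
    have := hc i hi j hj hij
    linarith

end Groth.Agent.Lib.Helper24DynLeaf
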