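import Groth.Agent.Lib.Helper25Comod
import Groth.Prelude.Def_CoactBr2
import Groth.Prelude.Def_Hoch

/-!
# Helper25BCComod: base change of comodule maps (general rings)

`bcMapG`, `bcMapG_tmul`, `bcMapG_rTensor`, `baseChange_coact_one_tmul'`, `comul_one_tmul'`,
`isComodHom_baseChange_regular`.
-/

set_option autoImplicit false
universe u v w w'

namespace Groth.Agent.Lib.Helper25

open TensorProduct HopfRep

section BCGen

variable (R : Type u) (S : Type v) [CommRing R] [CommRing S] [Algebra R S]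
variable (A : Type w) [AddCommGroup A] [Module R A]
variable (B : Type w') [AddCommGroup B] [Module R B]

/-- The natural map `B ⊗[R] A → (S ⊗ B) ⊗[S] (S ⊗ A)`. -/
noncomputable def bcMapG : B ⊗[R] A →ₗ[R] (S ⊗[R] B) ⊗[S] (S ⊗[R] A) :=
  ((AlgebraTensorModule.tensorTensorTensorComm R S R S S S B A).toLinearMap.restrictScalars R) ∘ₗ
    (TensorProduct.mk R (S ⊗[S] S) (B ⊗[R] A) ((1 : S) ⊗ₜ[S] (1 : S)))

theorem bcMapG_tmul (b : B) (a : A) :
    bcMapG R S A B (b ⊗ₜ[R] a) = ((1 : S) ⊗ₜ[R] b) ⊗ₜ[S] ((1 : S) ⊗ₜ[R] a) := by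
  simp [bcMapG]

theorem bcMapG_rTensor {B' : Type*} [AddCommGroup B'] [Module R B'] (f : B' →ₗ[R] B)
    (z : B' ⊗[R] A) :
    bcMapG R S A B (f.rTensor A z) = (f.baseChange S).rTensor (S ⊗[R] A) (bcMapG R S A B' z) := by
  induction z using TensorProduct.induction_on with
  | zero => simp
  | add x y hx hy => simp only [map_add, hx, hy]
  | tmul b a =>
    rw [LinearMap.rTensor_tmul, bcMapG_tmul, bcMapG_tmul, LinearMap.rTensor_tmul,
      LinearMap.baseChange_tmul]

end BCGen

section BCCoact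

variable (R : Type u) (S : Type v) [CommRing R] [CommRing S] [Algebra R S]
variable (A : Type w) [AddCommGroup A] [Module R A] [Coalgebra R A]
variable (B : Type w') [AddCommGroup B] [Module R B] [Comod R A B]

theorem baseChange_coact_one_tmul' (b : B) :
    (CoactBr.Comod.baseChange R S A B).coact ((1 : S) ⊗ₜ[R] b) =
      bcMapG R S A B (Comod.coact (k := R) (A := A) b) := by
  rw [CoactBr.baseChange_coact_tmul]
  rfl

theorem comul_one_tmul' (a : A) :
    CoalgebraStruct.comul (R := S) ((1 : S) ⊗ₜ[R] a) =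
      bcMapG R S A A (CoalgebraStruct.comul (R := R) a) := by
  rw [TensorProduct.comul_tmul]
  rfl

/-- The base change of a comodule map to a comodule `B` from the regular comodule is a comodule
map. -/
theorem isComodHom_baseChange_regular (α : A →ₗ[R] B) (hα : Hoch.IsComodHom A α) :
    @Hoch.IsComodHom S _ (S ⊗[R] A) _ _ _ (S ⊗[R] A) _ _
      (HopfRep.Comod.regular S (S ⊗[R] A)) (S ⊗[R] B) _ _
      (CoactBr.Comod.baseChange R S A B) (α.baseChange S) := by
  letI := CoactBr.Comod.baseChange R S A B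
  change (CoactBr.Comod.baseChange R S A B).coact ∘ₗ (α.baseChange S) =
    (α.baseChange S).rTensor (S ⊗[R] A) ∘ₗ CoalgebraStruct.comul (R := S) (A := S ⊗[R] A)
  apply TensorProduct.AlgebraTensorModule.ext
  intro s a
  have e : s ⊗ₜ[R] a = s • ((1 : S) ⊗ₜ[R] a) := by
    rw [TensorProduct.smul_tmul', smul_eq_mul, mul_one]
  rw [e, map_smul, map_smul]
  congr 1
  rw [LinearMap.comp_apply, LinearMap.comp_apply, LinearMap.baseChange_tmul,
    baseChange_coact_one_tmul', comul_one_tmul', ← bcMapG_rTensor]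
  congr 1
  exact isComodHom_apply hα a

end BCCoact

end Groth.Agent.Lib.Helper25
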