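import Mathlib.RingTheory.HopfAlgebra.Basic
import Mathlib.RingTheory.Coalgebra.Convolution
import Mathlib.RingTheory.Bialgebra.Convolution
import Mathlib.RingTheory.Coalgebra.GroupLike
import Mathlib.RingTheory.Finiteness.Projective
import Mathlib.LinearAlgebra.Dual.Lemmas

/-!
# Evaluation duality for finitely generated projective bialgebras (helper25)

Group-like / primitive elements of `E` versus algebra maps / point derivations of the convolution
dual `WithConv (E →ₗ[B] B)`.
-/

set_option autoImplicit false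
universe u v
open TensorProduct

namespace Groth.Agent.Lib.Helper25.DualEval

section Sep

variable {B : Type u} [CommRing B] {E : Type v} [AddCommGroup E] [Module B E]
  [Module.Finite B E] [Module.Projective B E]

/-- Finite dual basis of a finitely generated projective module. -/
theorem exists_dual_basis (B : Type u) [CommRing B] (E : Type v) [AddCommGroup E] [Module B E]
    [Module.Finite B E] [Module.Projective B E] :
    ∃ (n : ℕ) (e : Fin n → E) (φ : Fin n → (E →ₗ[B] B)), ∀ x : E, x = ∑ i, φ i x • e i := by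
  obtain ⟨n, f, g, -, -, hfg⟩ := Module.Finite.exists_comp_eq_id_of_projective B E
  refine ⟨n, fun i => f (Pi.single i 1), fun i => (LinearMap.proj i).comp g, fun x => ?_⟩
  have h1 : x = f (g x) := by
    have := LinearMap.congr_fun hfg x
    simpa using this.symm
  have h2 : g x = ∑ i, g x i • (Pi.single i 1 : Fin n → B) := by
    ext j
    simp [Finset.sum_apply, Pi.single_apply]
  conv_lhs => rw [h1, h2, map_sum]
  apply Finset.sum_congr rfl
  intro i _
  rw [map_smul]
  rfl

theorem eq_zero_of_forall_dual (x : E) (h : ∀ φ : E →ₗ[B] B, φ x = 0) : x = 0 := by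
  obtain ⟨n, e, φ, hx⟩ := exists_dual_basis B E
  rw [hx x]
  apply Finset.sum_eq_zero
  intro i _
  rw [h, zero_smul]

theorem eq_of_forall_dual {x y : E} (h : ∀ φ : E →ₗ[B] B, φ x = φ y) : x = y := by
  rw [← sub_eq_zero]
  apply eq_zero_of_forall_dual (B := B)
  intro φ
  rw [map_sub, h, sub_self]

theorem eq_zero_of_forall_dual_tmul (z : E ⊗[B] E)
    (h : ∀ φ ψ : E →ₗ[B] B, LinearMap.mul' B B (TensorProduct.map φ ψ z) = 0) : z = 0 := by
  obtain ⟨n, e, φ, hx⟩ := exists_dual_basis B E
  let T : E ⊗[B] E →ₗ[B] E ⊗[B] E :=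
    ∑ i, ∑ j, ((LinearMap.mul' B B).comp (TensorProduct.map (φ i) (φ j))).smulRight (e i ⊗ₜ[B] e j)
  have hT : T = LinearMap.id := by
    apply TensorProduct.ext'
    intro x y
    simp only [T, LinearMap.sum_apply, LinearMap.smulRight_apply, LinearMap.comp_apply,
      TensorProduct.map_tmul, LinearMap.mul'_apply, LinearMap.id_apply]
    conv_rhs => rw [hx x, hx y, TensorProduct.sum_tmul]
    apply Finset.sum_congr rfl
    intro i _
    rw [TensorProduct.tmul_sum]
    apply Finset.sum_congr rfl
    intro j _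
    rw [TensorProduct.smul_tmul_smul]
  have h2 : z = T z := by rw [hT]; rfl
  rw [h2]
  simp only [T, LinearMap.sum_apply, LinearMap.smulRight_apply, LinearMap.comp_apply]
  apply Finset.sum_eq_zero
  intro i _
  apply Finset.sum_eq_zero
  intro j _
  rw [h, zero_smul]

theorem eq_of_forall_dual_tmul {z w : E ⊗[B] E}
    (h : ∀ φ ψ : E →ₗ[B] B, LinearMap.mul' B B (TensorProduct.map φ ψ z) =
      LinearMap.mul' B B (TensorProduct.map φ ψ w)) : z = w := by
  rw [← sub_eq_zero]
  apply eq_zero_of_forall_dual_tmul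
  intro φ ψ
  rw [map_sub, map_sub, h, sub_self]

/-- Every double-dual functional on a f.g. projective module is evaluation at a unique element. -/
theorem exists_unique_eval (F : (E →ₗ[B] B) →ₗ[B] B) : ∃! x : E, ∀ φ : E →ₗ[B] B, F φ = φ x := by
  obtain ⟨n, e, φ, hx⟩ := exists_dual_basis B E
  have hex : ∀ ψ : E →ₗ[B] B, F ψ = ψ (∑ i, F (φ i) • e i) := by
    intro ψ
    have h1 : ψ = ∑ i, ψ (e i) • φ i := by
      apply LinearMap.ext
      intro x
      conv_lhs => rw [hx x, map_sum]
      rw [LinearMap.sum_apply]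
      apply Finset.sum_congr rfl
      intro i _
      rw [map_smul, LinearMap.smul_apply, smul_eq_mul, smul_eq_mul, mul_comm]
    conv_lhs => rw [h1, map_sum]
    rw [map_sum]
    apply Finset.sum_congr rfl
    intro i _
    rw [map_smul, map_smul, smul_eq_mul, smul_eq_mul, mul_comm]
  refine ⟨∑ i, F (φ i) • e i, hex, ?_⟩
  intro y hy
  apply eq_of_forall_dual (B := B)
  intro ψ
  rw [← hy ψ, hex ψ]

end Sep

section Bialg

variable (B : Type u) [CommRing B] (E : Type v) [CommRing E] [Bialgebra B E]
  [Module.Finite B E] [Module.Projective B E]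

/-- The dual algebra of a bialgebra. -/
abbrev DA : Type (max u v) := WithConv (E →ₗ[B] B)

variable {B E}

theorem conv_apply (φ ψ : DA B E) (x : E) :
    (φ * ψ) x = LinearMap.mul' B B (TensorProduct.map φ.ofConv ψ.ofConv (Coalgebra.comul x)) := rfl

theorem one_apply (x : E) : (1 : DA B E) x = Coalgebra.counit (R := B) x := rfl

theorem conv_apply_of_groupLike {x : E} (hx : IsGroupLikeElem B x) (φ ψ : DA B E) :
    (φ * ψ) x = φ x * ψ x := by
  rw [conv_apply, hx.comul_eq_tmul_self]
  rfl

theorem conv_apply_of_primitive {x : E}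
    (hx : Coalgebra.comul x = x ⊗ₜ[B] (1 : E) + (1 : E) ⊗ₜ[B] x) (φ ψ : DA B E) :
    (φ * ψ) x = φ x * ψ 1 + φ 1 * ψ x := by
  rw [conv_apply, hx, map_add, map_add]
  rfl

/-- Double-dual functional of a linear functional on the dual algebra. -/
noncomputable def toDD (f : DA B E →ₗ[B] B) : (E →ₗ[B] B) →ₗ[B] B where
  toFun φ := f (WithConv.toConv φ)
  map_add' φ ψ := by
    rw [← map_add]
    rfl
  map_smul' c φ := by
    rw [RingHom.id_apply, ← map_smul]
    rfl

theorem toDD_apply (f : DA B E →ₗ[B] B) (φ : E →ₗ[B] B) : toDD f φ = f (WithConv.toConv φ) := rfl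

theorem exists_unique_eval_dual (f : DA B E →ₗ[B] B) :
    ∃! x : E, ∀ φ : DA B E, f φ = φ x := by
  obtain ⟨x, hx, hu⟩ := exists_unique_eval (toDD f)
  refine ⟨x, fun φ => hx φ.ofConv, ?_⟩
  intro y hy
  exact hu y (fun φ => hy (WithConv.toConv φ))

theorem isGroupLikeElem_of_eval (f : DA B E →ₐ[B] B) (x : E) (hx : ∀ φ : DA B E, f φ = φ x) :
    IsGroupLikeElem B x := by
  constructor
  · have h1 := hx 1
    rw [map_one, one_apply] at h1
    exact h1.symm
  · apply eq_of_forall_dual_tmul (B := B)
    intro φ ψ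
    have h1 := hx (WithConv.toConv φ * WithConv.toConv ψ)
    rw [map_mul, hx, hx, conv_apply] at h1
    rw [← h1]
    rfl

/-- Evaluation at a group-like element, as an algebra map on the dual algebra. -/
noncomputable def evalAlgHom (x : E) (hx : IsGroupLikeElem B x) : DA B E →ₐ[B] B :=
  AlgHom.ofLinearMap
    { toFun := fun φ => φ x
      map_add' := fun φ ψ => rfl
      map_smul' := fun c φ => rfl }
    (by
      change (1 : DA B E) x = 1
      rw [one_apply, hx.counit_eq_one])
    (by
      intro φ ψ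
      exact conv_apply_of_groupLike hx φ ψ)

theorem evalAlgHom_apply (x : E) (hx : IsGroupLikeElem B x) (φ : DA B E) :
    evalAlgHom x hx φ = φ x := rfl

theorem primitive_of_eval (f : DA B E →ₗ[B] B)
    (hf : ∀ φ ψ : DA B E, f (φ * ψ) = f φ * ψ 1 + φ 1 * f ψ)
    (x : E) (hx : ∀ φ : DA B E, f φ = φ x) :
    Coalgebra.comul x = x ⊗ₜ[B] (1 : E) + (1 : E) ⊗ₜ[B] x := by
  apply eq_of_forall_dual_tmul (B := B)
  intro φ ψ
  have h1 := hx (WithConv.toConv φ * WithConv.toConv ψ)
  rw [hf, hx, hx, conv_apply] at h1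
  rw [← h1, map_add, map_add]
  rfl

end Bialg

end Groth.Agent.Lib.Helper25.DualEval
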