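import Groth.Agent.Lib.Helper6Hopf5

set_option autoImplicit false

namespace Groth.Agent.Lib.Helper6.Hopf

open Coalgebra TensorProduct

universe u v

/-! ### Unramifiedness of a Hopf algebra over a general base -/

section General

variable {R : Type u} {A : Type v} [CommRing R] [CommRing A] [HopfAlgebra R A]
  {M : Type*} [AddCommGroup M] [Module R M] [Module A M] [IsScalarTower R A M]

/-- `a ⊗ b ↦ S(a) * b`. -/
noncomputable def sE : A ⊗[R] A →ₗ[R] A :=
  LinearMap.mul' R A ∘ₗ (HopfAlgebra.antipode R).rTensor A

@[simp] lemma sE_tmul (a b : A) : sE (R := R) (a ⊗ₜ[R] b) = HopfAlgebra.antipode R a * b := by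
  simp [sE]

lemma sE_comul (a : A) : sE (comul (R := R) a) = algebraMap R A (counit a) :=
  HopfAlgebra.mul_antipode_rTensor_comul_apply (R := R) a

/-- The action map `A ⊗ M → M`. -/
noncomputable def actR : A ⊗[R] M →ₗ[R] M :=
  TensorProduct.lift (Algebra.lsmul R R M).toLinearMap

@[simp] lemma actR_tmul (a : A) (m : M) : actR (R := R) (a ⊗ₜ[R] m) = a • m := by
  simp [actR]

/-- `a ⊗ b ↦ S(a) • D(b)`. -/
noncomputable def sDR (D : A →ₗ[R] M) : A ⊗[R] A →ₗ[R] M :=
  actR ∘ₗ TensorProduct.map (HopfAlgebra.antipode R) D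

@[simp] lemma sDR_tmul (D : A →ₗ[R] M) (a b : A) :
    sDR D (a ⊗ₜ[R] b) = HopfAlgebra.antipode R a • D b := by
  simp [sDR]

lemma sDR_mul (D : A →ₗ[R] M) (hD : ∀ a b, D (a * b) = a • D b + b • D a) (t s : A ⊗[R] A) :
    sDR D (t * s) = sE t • sDR D s + sE s • sDR D t := by
  induction t using TensorProduct.induction_on with
  | zero => simp
  | add t₁ t₂ h₁ h₂ => simp only [add_mul, map_add, h₁, h₂, add_smul, smul_add]; abel
  | tmul a₁ a₂ =>
    induction s using TensorProduct.induction_on with
    | zero => simp
    | add s₁ s₂ h₁ h₂ => simp only [mul_add, map_add, h₁, h₂, add_smul, smul_add]; abel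
    | tmul b₁ b₂ =>
      rw [Algebra.TensorProduct.tmul_mul_tmul, sDR_tmul, sDR_tmul, sDR_tmul, sE_tmul, sE_tmul, hD,
        HopfAlgebra.antipode_mul_distrib]
      simp only [smul_add, smul_smul]
      congr 1
      · congr 1; ring
      · congr 1; ring

lemma thetaR_mul (D : A →ₗ[R] M) (hD : ∀ a b, D (a * b) = a • D b + b • D a) (x y : A) :
    sDR D (comul (R := R) (x * y)) =
      counit (R := R) x • sDR D (comul (R := R) y) + counit (R := R) y • sDR D (comul (R := R) x) := by
  rw [Bialgebra.comul_mul, sDR_mul D hD, sE_comul, sE_comul, algebraMap_smul, algebraMap_smul]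

lemma actR_lTensor_theta (D : A →ₗ[R] M) (a : A) :
    actR (R := R) (LinearMap.lTensor A (sDR D ∘ₗ comul) (comul (R := R) a)) = D a := by
  have key : ∀ (s : A ⊗[R] A) (b : A),
      actR (R := R) (LinearMap.lTensor A (sDR D) (TensorProduct.assoc R A A A (s ⊗ₜ[R] b))) =
        (LinearMap.mul' R A (LinearMap.lTensor A (HopfAlgebra.antipode R) s)) • D b := by
    intro s b
    induction s using TensorProduct.induction_on with
    | zero => simp
    | add s₁ s₂ h₁ h₂ => simp only [TensorProduct.add_tmul, map_add, h₁, h₂, add_smul]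
    | tmul a₁ a₂ => simp [smul_smul]
  have key2 : ∀ t : A ⊗[R] A,
      actR (R := R) (LinearMap.lTensor A (sDR D)
        (TensorProduct.assoc R A A A (comul.rTensor A t))) = D (tF' (counit (R := R)) t) := by
    intro t
    induction t using TensorProduct.induction_on with
    | zero => simp
    | add t₁ t₂ h₁ h₂ => simp only [map_add, h₁, h₂]
    | tmul a b =>
      rw [LinearMap.rTensor_tmul, key, HopfAlgebra.mul_antipode_lTensor_comul_apply, tF'_tmul,
        map_smul, algebraMap_smul]
  rw [LinearMap.lTensor_comp, LinearMap.comp_apply, ← Coalgebra.coassoc_apply, key2,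
    tF'_counit_comul]

/-- If the augmentation ideal is idempotent, every derivation of `A` vanishes. -/
lemma derivation_eq_zero' (I : Ideal A) (hI : ∀ a : A, a ∈ I ↔ counit (R := R) a = 0)
    (h : I ≤ I ^ 2)
    (D : A →ₗ[R] M) (hD : ∀ a b, D (a * b) = a • D b + b • D a) (a : A) : D a = 0 := by
  have hθ1 : sDR D (comul (R := R) (1 : A)) = 0 := by
    have := thetaR_mul D hD 1 1
    rw [mul_one, Bialgebra.counit_one, one_smul] at this
    have h2 : sDR D (comul (R := R) (1 : A)) + 0 =
        sDR D (comul (R := R) (1 : A)) + sDR D (comul (R := R) (1 : A)) := by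
      rw [add_zero]; exact this
    exact (add_left_cancel h2).symm
  have hθI : ∀ z ∈ I ^ 2, sDR D (comul (R := R) z) = 0 := by
    intro z hz
    rw [pow_two] at hz
    refine Submodule.mul_induction_on hz ?_ ?_
    · intro r hr t ht
      rw [thetaR_mul D hD, (hI r).1 hr, (hI t).1 ht, zero_smul, zero_smul, add_zero]
    · intro x y hx hy
      rw [map_add, map_add, hx, hy, add_zero]
  have hθ : ∀ z : A, sDR D (comul (R := R) z) = 0 := by
    intro z
    have e : z = algebraMap R A (counit (R := R) z) + (z - algebraMap R A (counit (R := R) z)) := by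
      ring
    rw [e, map_add, map_add, hθI _ (h ((hI _).2 (counit_sub_algebraMap z))), add_zero,
      Algebra.algebraMap_eq_smul_one, map_smul, map_smul, hθ1, smul_zero]
  rw [← actR_lTensor_theta D a]
  have : (sDR D ∘ₗ comul : A →ₗ[R] M) = 0 := LinearMap.ext hθ
  rw [this, LinearMap.lTensor_zero, LinearMap.zero_apply, map_zero]

end General

section EtaleIff

variable {R : Type u} {A : Type v} [CommRing R] [CommRing A] [HopfAlgebra R A]

variable (R A) in
/-- The augmentation ideal over a general base. -/
abbrev augR : Ideal A := RingHom.ker (Bialgebra.counitAlgHom R A)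

lemma mem_augR {a : A} : a ∈ augR R A ↔ counit (R := R) a = 0 := by
  rw [RingHom.mem_ker]; rfl

lemma sub_counit_mem_augR (a : A) : a - algebraMap R A (counit (R := R) a) ∈ augR R A :=
  mem_augR.2 (counit_sub_algebraMap a)

/-- `a ↦ [a - ε(a)]`, linear over the base. -/
noncomputable def toCotR : A →ₗ[R] (augR R A).Cotangent where
  toFun a := (augR R A).toCotangent ⟨a - algebraMap R A (counit (R := R) a), sub_counit_mem_augR a⟩
  map_add' a b := by
    rw [← map_add]
    congr 1
    apply Subtype.ext
    simp only [map_add, Submodule.coe_add]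
    ring
  map_smul' c a := by
    rw [RingHom.id_apply, ← LinearMap.map_smul_of_tower]
    congr 1
    apply Subtype.ext
    change c • a - algebraMap R A (counit (R := R) (c • a)) =
      c • (a - algebraMap R A (counit (R := R) a))
    rw [map_smul, smul_sub, Algebra.algebraMap_eq_smul_one, Algebra.algebraMap_eq_smul_one,
      smul_eq_mul, mul_smul]

lemma toCotR_of_mem (z : augR R A) : toCotR (z : A) = (augR R A).toCotangent z := by
  change (augR R A).toCotangent ⟨(z : A) - algebraMap R A (counit (R := R) (z : A)), _⟩ = _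
  congr 1
  apply Subtype.ext
  simp only [mem_augR.1 z.2, map_zero, sub_zero]

lemma toCotR_mul (a b : A) : toCotR (R := R) (a * b) = a • toCotR b + b • toCotR a := by
  -- `ab - ε(ab) = a (b - εb) + εb (a - εa)` and `(b - εb)(a - εa) ∈ I²`
  set a' : augR R A := ⟨a - algebraMap R A (counit (R := R) a), sub_counit_mem_augR a⟩ with ha'
  set b' : augR R A := ⟨b - algebraMap R A (counit (R := R) b), sub_counit_mem_augR b⟩ with hb'
  have e1 : toCotR (R := R) (a * b) = (augR R A).toCotangent (a • b' + b • a' - (b' : A) • a') := by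
    change (augR R A).toCotangent _ = _
    congr 1
    apply Subtype.ext
    simp only [Submodule.coe_sub, Submodule.coe_add, Submodule.coe_smul, smul_eq_mul, ha', hb',
      Bialgebra.counit_mul, map_mul]
    ring
  have e2 : (augR R A).toCotangent ((b' : A) • a') = 0 := by
    rw [Ideal.toCotangent_eq_zero, pow_two]
    exact Ideal.mul_mem_mul b'.2 a'.2
  rw [e1, map_sub, map_add, e2, sub_zero, map_smul, map_smul]
  rfl

/-- The derivation `a ↦ [a - ε(a)]`. -/
noncomputable def cotDer : Derivation R A (augR R A).Cotangent :=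
  Derivation.mk' toCotR toCotR_mul

lemma augR_le_sq_of_unramified [Algebra.FormallyUnramified R A] : augR R A ≤ augR R A ^ 2 := by
  intro z hz
  have h0 : (cotDer (R := R) (A := A)) z = 0 := by
    rw [← Derivation.liftKaehlerDifferential_comp_D (cotDer (R := R) (A := A)) z,
      Subsingleton.elim (KaehlerDifferential.D R A z) 0, map_zero]
  have h1 : toCotR (R := R) z = 0 := h0
  rw [show z = ((⟨z, hz⟩ : augR R A) : A) from rfl, toCotR_of_mem, Ideal.toCotangent_eq_zero] at h1
  exact h1

lemma unramified_of_augR_le_sq (h : augR R A ≤ augR R A ^ 2) : Algebra.FormallyUnramified R A := by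
  have hD0 : ∀ a : A, KaehlerDifferential.D R A a = 0 := fun a =>
    derivation_eq_zero' (augR R A) (fun a => mem_augR) h
      ((KaehlerDifferential.D R A : A →ₗ[R] Ω[A⁄R])) (fun a b =>
        (KaehlerDifferential.D R A).leibniz a b) a
  have htop : (⊤ : Submodule A (Ω[A⁄R])) ≤ ⊥ := by
    rw [← KaehlerDifferential.span_range_derivation, Submodule.span_le]
    rintro _ ⟨a, rfl⟩
    exact hD0 a
  exact ⟨(subsingleton_iff_forall_eq 0).mpr fun y => htop trivial⟩

/-- S18472. -/
theorem etale_iff_augR_sq [Module.Finite R A] [Module.Projective R A] :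
    Algebra.Etale R A ↔ augR R A ^ 2 = augR R A := by
  constructor
  · intro h
    exact le_antisymm (Ideal.pow_le_self (by norm_num)) augR_le_sq_of_unramified
  · intro h
    have : Algebra.FormallyUnramified R A := unramified_of_augR_le_sq h.ge
    have : Module.FinitePresentation R A := Module.finitePresentation_of_projective R A
    exact Algebra.Etale.of_formallyUnramified_of_flat

end EtaleIff

end Groth.Agent.Lib.Helper6.Hopf
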