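import Mathlib
import Groth.Agent.Lib.Helper25FinHopf
import Groth.Agent.Lib.Helper25FinEtale
import Groth.Agent.Lib.Helper25CartPts
import Groth.Agent.S18472

/-!
# helper24: a finite commutative group scheme over a field of characteristic `p` is
étale with étale Cartier dual iff its order is prime to `p` (S16674).

Uses helper25's `finrank_eq_card_mul`, `finrank_eq_pow_of_nilpotent` (order of the unit component is
a power of `p`), `FinEtale.finrank_eq_card`, `CartPts.eEquiv` (points of the dual = group-likes),
and S18472 (étale iff the augmentation ideal is idempotent).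
-/

set_option autoImplicit false
universe u v
open TensorProduct

namespace Groth.Agent.Lib.Helper24EE

open Groth.Agent.Lib.Helper25 Groth.Agent.Lib.Helper25.FinHopf Groth.Agent.Lib.Helper25.UL

section Field

variable {K : Type u} [Field K] {C : Type v} [CommRing C] [HopfAlgebra K C] [Module.Finite K C]

/-- The augmentation ideal has codimension one. -/
theorem finrank_quot_augI : Module.finrank K (C ⧸ augI K C) = 1 := by
  have e : (C ⧸ augI K C) ≃ₐ[K] K :=
    Ideal.quotientKerAlgEquivOfSurjective (f := Bialgebra.counitAlgHom K C) (fun c =>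
      ⟨algebraMap K C c, by simp⟩)
  rw [e.toLinearEquiv.finrank_eq, Module.finrank_self]

theorem augI_sq_of_finrank_unitQuot (h : Module.finrank K (C ⧸ unitIdeal K C) = 1) :
    augI K C ^ 2 = augI K C := by
  -- unitIdeal = augI
  have hle : unitIdeal K C ≤ augI K C := unitIdeal_le_augI
  have h1 := Submodule.finrank_quotient_add_finrank (R := K) ((unitIdeal K C).restrictScalars K)
  have h2 := Submodule.finrank_quotient_add_finrank (R := K) ((augI K C).restrictScalars K)
  have h3 : Module.finrank K (C ⧸ (augI K C).restrictScalars K) = 1 := finrank_quot_augI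
  have h4 : Module.finrank K (C ⧸ (unitIdeal K C).restrictScalars K) = 1 := h
  have heq : (unitIdeal K C).restrictScalars K = (augI K C).restrictScalars K := by
    apply Submodule.eq_of_le_of_finrank_eq
    · exact hle
    · omega
  have heq' : unitIdeal K C = augI K C := by
    apply Submodule.restrictScalars_injective K
    exact heq
  unfold unitIdeal at heq'
  have := pow_finrank_eq_pow_add (k := K) (augI K C) (Module.finrank K C)
  rw [pow_add, heq'] at this
  rw [pow_two]
  exact this

end Field

section AlgClosed

variable {K : Type u} [Field K] [IsAlgClosed K] (p : ℕ) [hp : Fact p.Prime] [CharP K p]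
  {C : Type v} [CommRing C] [HopfAlgebra K C] [Module.Finite K C]

theorem finrank_unitQuot_eq_one (h : ¬ p ∣ Module.finrank K C) :
    Module.finrank K (C ⧸ unitIdeal K C) = 1 := by
  haveI : Module.Finite K (C ⧸ unitIdeal K C) :=
    Module.Finite.of_surjective (Ideal.Quotient.mkₐ K _).toLinearMap
      (Ideal.Quotient.mkₐ_surjective K _)
  obtain ⟨r, hr⟩ := finrank_eq_pow_of_nilpotent p (surjective_frobenius K p)
    (Module.finrank K (C ⧸ unitIdeal K C)) (C ⧸ unitIdeal K C)
    isNilpotent_of_counit_unitQuot rfl
  have hmul : Module.finrank K C =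
      Nat.card (C →ₐ[K] K) * Module.finrank K (C ⧸ unitIdeal K C) := finrank_eq_card_mul
  rcases Nat.eq_zero_or_pos r with h0 | hpos
  · rw [hr, h0, pow_zero]
  · exfalso
    apply h
    rw [hmul, hr]
    exact Dvd.dvd.mul_left (dvd_pow_self p hpos.ne') _

theorem etale_of_not_dvd_algClosed (h : ¬ p ∣ Module.finrank K C) : Algebra.Etale K C := by
  rw [Groth.Agent.S18472.result K C]
  exact augI_sq_of_finrank_unitQuot (finrank_unitQuot_eq_one p h)

end AlgClosed

/-- A finite group scheme of order prime to the characteristic is étale. -/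
theorem etale_of_not_dvd (k : Type u) [Field k] (p : ℕ) [Fact p.Prime] [CharP k p]
    (B : Type v) [CommRing B] [HopfAlgebra k B] [Module.Finite k B]
    (h : ¬ p ∣ Module.finrank k B) : Algebra.Etale k B := by
  let K := AlgebraicClosure k
  haveI : CharP K p := charP_of_injective_algebraMap (algebraMap k K).injective p
  have h' : ¬ p ∣ Module.finrank K (K ⊗[k] B) := by
    rw [Module.finrank_baseChange]; exact h
  haveI : Algebra.Etale K (K ⊗[k] B) := etale_of_not_dvd_algClosed p h'
  exact Algebra.Etale.of_etale_tensorProduct_of_faithfullyFlat K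


open WithConv CartDual

section Pairing

variable {K : Type u} [Field K] {C : Type v} [CommRing C] [HopfAlgebra K C]

/-- Evaluating a product of points on a group-like element. -/
theorem mul_apply_groupLike (g h : WithConv (C →ₐ[K] K)) {x : C} (hx : IsGroupLikeElem K x) :
    (g * h).ofConv x = g.ofConv x * h.ofConv x := by
  have := AlgHom.convMul_apply g h x
  rw [hx.comul_eq_tmul_self, Algebra.TensorProduct.lift_tmul] at this
  exact this

theorem pow_apply_groupLike (g : WithConv (C →ₐ[K] K)) {x : C} (hx : IsGroupLikeElem K x) (n : ℕ) :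
    (g ^ n).ofConv x = (g.ofConv x) ^ n := by
  induction n with
  | zero =>
    rw [pow_zero, pow_zero]
    change algebraMap K K (Coalgebra.counit x) = 1
    rw [hx.counit_eq_one]; rfl
  | succ n ih =>
    rw [pow_succ, pow_succ, mul_apply_groupLike _ _ hx, ih]

/-- In characteristic `p`, a point of order dividing `p` is trivial as soon as the group-like
elements span. -/
theorem eq_one_of_span_groupLike (p : ℕ) [Fact p.Prime] [CharP K p]
    (S : Set C) (hS : ∀ x ∈ S, IsGroupLikeElem K x) (hspan : Submodule.span K S = ⊤)
    (g : WithConv (C →ₐ[K] K)) (hg : g ^ p = 1) : g = 1 := by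
  apply WithConv.ofConv_injective
  apply AlgHom.toLinearMap_injective
  apply LinearMap.ext_on hspan
  intro x hx
  have hx' := hS x hx
  change g.ofConv x = (1 : WithConv (C →ₐ[K] K)).ofConv x
  have h1 : (g.ofConv x) ^ p = 1 := by
    rw [← pow_apply_groupLike g hx', hg]
    have := pow_apply_groupLike (1 : WithConv (C →ₐ[K] K)) hx' 0
    rw [pow_zero, pow_zero] at this
    exact this
  have h2 : (1 : WithConv (C →ₐ[K] K)).ofConv x = 1 := by
    have := pow_apply_groupLike (1 : WithConv (C →ₐ[K] K)) hx' 0
    rw [pow_zero, pow_zero] at this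
    exact this
  rw [h2]
  apply frobenius_inj K p
  rw [frobenius_def, frobenius_def, h1, one_pow]

end Pairing

section Count

variable {K : Type u} [Field K] [IsAlgClosed K] {E : Type v} [CommRing E] [Algebra K E]
  [FiniteDimensional K E] [IsReduced E]

theorem card_points : Nat.card (E →ₐ[K] K) = Module.finrank K E := by
  haveI : Finite (E →ₐ[K] K) := Finite.algHom K E K
  letI : Fintype (E →ₐ[K] K) := Fintype.ofFinite _
  rw [FinEtale.finrank_eq_card (k := K) (E := E), Module.finrank_fintype_fun_eq_card,
    Nat.card_eq_fintype_card]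

end Count

section Restrict

variable (k : Type u) [Field k] (K : Type u) [Field K] [Algebra k K]
  (B : Type v) [CommRing B] [Algebra k B]

/-- Restriction of a `K`-point of `K ⊗ B` to `B`. -/
noncomputable def restr (ψ : (K ⊗[k] B) →ₐ[K] K) : B →ₐ[k] K :=
  (ψ.restrictScalars k).comp Algebra.TensorProduct.includeRight

theorem restr_injective : Function.Injective (restr k K B) := by
  intro ψ ψ' h
  apply Algebra.TensorProduct.ext
  · apply AlgHom.ext
    intro c
    have hc : (c ⊗ₜ[k] (1 : B)) = algebraMap K (K ⊗[k] B) c := by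
      rw [Algebra.TensorProduct.algebraMap_apply]; rfl
    change ψ (c ⊗ₜ[k] (1 : B)) = ψ' (c ⊗ₜ[k] (1 : B))
    rw [hc, AlgHom.commutes, AlgHom.commutes]
  · exact h

end Restrict

theorem not_dvd_of_etale (k : Type u) [Field k] (p : ℕ) [Fact p.Prime] [CharP k p]
    (A : Type v) [CommRing A] [HopfAlgebra k A] [Coalgebra.IsCocomm k A] [FiniteDimensional k A]
    [Algebra.Etale k A] [Algebra.Etale k (D k A)] : ¬ p ∣ Module.finrank k A := by
  intro hdvd
  let K := AlgebraicClosure k
  haveI : CharP K p := charP_of_injective_algebraMap (algebraMap k K).injective p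
  haveI : IsReduced (K ⊗[k] A) := Algebra.FormallyUnramified.isReduced_of_field K (K ⊗[k] A)
  haveI : IsReduced (K ⊗[k] D k A) :=
    Algebra.FormallyUnramified.isReduced_of_field K (K ⊗[k] D k A)
  have hG : Nat.card (WithConv ((K ⊗[k] A) →ₐ[K] K)) = Module.finrank k A := by
    rw [Nat.card_congr (WithConv.equiv ((K ⊗[k] A) →ₐ[K] K)), card_points,
      Module.finrank_baseChange]
  have hE : Nat.card ((K ⊗[k] D k A) →ₐ[K] K) = Module.finrank k A := by
    have h0 := card_points (K := K) (E := K ⊗[k] D k A)
    rw [Module.finrank_baseChange, (toDual k A).finrank_eq,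
      Subspace.dual_finrank_eq] at h0
    exact h0
  haveI : Finite ((K ⊗[k] D k A) →ₐ[K] K) := Finite.algHom K (K ⊗[k] D k A) K
  letI : Fintype ((K ⊗[k] D k A) →ₐ[K] K) := Fintype.ofFinite _
  -- the group-like elements coming from points of the dual
  let j : ((K ⊗[k] D k A) →ₐ[K] K) → GroupLike K (K ⊗[k] A) := fun ψ =>
    (CartPts.eEquiv k A K).symm (toConv (restr k K (D k A) ψ))
  have hj : Function.Injective j := by
    intro ψ ψ' h
    apply restr_injective k K (D k A)
    exact WithConv.toConv_injective ((CartPts.eEquiv k A K).symm.injective h)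
  have hli : LinearIndependent K (fun ψ => (j ψ).val) :=
    (linearIndep_groupLikeVal (R := K) (A := K ⊗[k] A)).comp j hj
  have hspan : Submodule.span K (Set.range fun ψ => (j ψ).val) = ⊤ := by
    apply hli.span_eq_top_of_card_eq_finrank'
    rw [← Nat.card_eq_fintype_card, hE, Module.finrank_baseChange]
  haveI : Finite (WithConv ((K ⊗[k] A) →ₐ[K] K)) :=
    Finite.of_equiv _ (WithConv.equiv ((K ⊗[k] A) →ₐ[K] K)).symm
  obtain ⟨g, hg⟩ := exists_prime_orderOf_dvd_card' (G := WithConv ((K ⊗[k] A) →ₐ[K] K)) p
    (by rw [hG]; exact hdvd)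
  have h1 : g = 1 := by
    apply eq_one_of_span_groupLike p _ _ hspan g
    · rw [← hg]; exact pow_orderOf_eq_one g
    · rintro x ⟨ψ, rfl⟩
      exact (j ψ).isGroupLikeElem_val
  rw [h1, orderOf_one] at hg
  exact (Fact.out : p.Prime).one_lt.ne hg

end Groth.Agent.Lib.Helper24EE
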