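import Mathlib
import Groth.Prelude.Def_EssDim

set_option autoImplicit false

namespace Groth.Agent.Lib.Helper24EdBC

universe w u

open Cardinal IntermediateField

section Trdeg

variable {k K L : Type u} [Field k] [Field K] [Field L] [Algebra k K] [Algebra K L] [Algebra k L]
  [IsScalarTower k K L]

theorem trdeg_adjoin_le (E : IntermediateField k L) :
    Algebra.trdeg K (adjoin K (E : Set L)) ≤ Algebra.trdeg k E := by
  obtain ⟨B, hB⟩ := exists_isTranscendenceBasis k E
  have h1 : #B = Algebra.trdeg k E := hB.cardinalMk_eq_trdeg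
  let jA : E →ₐ[k] adjoin K (E : Set L) :=
    { toFun := fun x => ⟨x.1, subset_adjoin K _ x.2⟩
      map_one' := rfl
      map_mul' := fun _ _ => rfl
      map_zero' := rfl
      map_add' := fun _ _ => rfl
      commutes' := fun a => by
        apply Subtype.ext
        rfl }
  let s : Set (adjoin K (E : Set L)) := jA '' B
  have hs : #s ≤ #B := Cardinal.mk_image_le
  have halg0 := hB.isAlgebraic
  rw [Subtype.range_coe] at halg0
  -- the ring hom on coefficient rings
  have hle' : ∀ x ∈ Algebra.adjoin k B, jA x ∈ Algebra.adjoin K s := by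
    intro x hx
    induction hx using Algebra.adjoin_induction with
    | mem x hx => exact Algebra.subset_adjoin ⟨x, hx, rfl⟩
    | algebraMap a =>
      rw [AlgHom.commutes]
      have : algebraMap k (adjoin K (E : Set L)) a =
          algebraMap K (adjoin K (E : Set L)) (algebraMap k K a) := by
        apply Subtype.ext
        change algebraMap k L a = algebraMap K L (algebraMap k K a)
        rw [← IsScalarTower.algebraMap_apply]
      rw [this]
      exact Subalgebra.algebraMap_mem _ _
    | add x y _ _ h1 h2 => rw [map_add]; exact Subalgebra.add_mem _ h1 h2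
    | mul x y _ _ h1 h2 => rw [map_mul]; exact Subalgebra.mul_mem _ h1 h2
  have hle : ∀ x : Algebra.adjoin k B, jA x.1 ∈ Algebra.adjoin K s := fun x => hle' x.1 x.2
  let f : Algebra.adjoin k B →+* Algebra.adjoin K s :=
    { toFun := fun x => ⟨jA x.1, hle x⟩
      map_one' := by apply Subtype.ext; simp
      map_mul' := fun x y => by apply Subtype.ext; simp
      map_zero' := by apply Subtype.ext; simp
      map_add' := fun x y => by apply Subtype.ext; simp }
  have hf : Function.Injective f := by
    intro x y hxy
    have := congrArg (fun z : Algebra.adjoin K s => (z.1 : adjoin K (E : Set L)).1) hxy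
    exact Subtype.ext (Subtype.ext this)
  have halg : Algebra.IsAlgebraic (Algebra.adjoin K s) (adjoin K (E : Set L)) := by
    constructor
    rintro ⟨x, hx⟩
    induction hx using IntermediateField.adjoin_induction with
    | mem x hx =>
      have h4 : IsAlgebraic (Algebra.adjoin k B) (⟨x, hx⟩ : E) := halg0.isAlgebraic _
      have := h4.ringHom_of_comp_eq f (jA : E →+* adjoin K (E : Set L)) hf (by
        ext y; rfl)
      exact this
    | algebraMap a =>
      have : (⟨algebraMap K L a, IntermediateField.algebraMap_mem _ a⟩ : adjoin K (E : Set L)) =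
          algebraMap (Algebra.adjoin K s) (adjoin K (E : Set L)) (algebraMap K _ a) := by
        apply Subtype.ext; rfl
      rw [this]
      exact isAlgebraic_algebraMap _
    | add x y hx hy h1 h2 =>
      have : (⟨x + y, add_mem hx hy⟩ : adjoin K (E : Set L)) = ⟨x, hx⟩ + ⟨y, hy⟩ := rfl
      rw [this]; exact h1.add h2
    | inv x hx h1 =>
      have : (⟨x⁻¹, inv_mem hx⟩ : adjoin K (E : Set L)) = (⟨x, hx⟩ : adjoin K (E : Set L))⁻¹ := rfl
      rw [this]; exact h1.inv
    | mul x y hx hy h1 h2 =>
      have : (⟨x * y, mul_mem hx hy⟩ : adjoin K (E : Set L)) = ⟨x, hx⟩ * ⟨y, hy⟩ := rfl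
      rw [this]; exact h1.mul h2
  exact (halg.trdeg_le_cardinalMk K s).trans (hs.trans h1.le)

end Trdeg

section Cat

open CategoryTheory Opposite AlgebraicGeometry

variable {k K : Type u} [Field k] [Field K] [Algebra k K]

/-- the base change morphism `Spec K ⟶ Spec k` -/
noncomputable abbrev bc (k K : Type u) [Field k] [Field K] [Algebra k K] :
    Spec (CommRingCat.of K) ⟶ Spec (CommRingCat.of k) :=
  Spec.map (CommRingCat.ofHom (algebraMap k K))

/-- `Spec M` over `Spec K` viewed over `Spec k` is `Spec M` over `Spec k`. -/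
noncomputable def eIso (M : Type u) [Field M] [Algebra K M] [Algebra k M] [IsScalarTower k K M] :
    (Over.map (bc k K)).obj (SGA7.pt (K := K) M) ≅ SGA7.pt (K := k) M :=
  Over.isoMk (Iso.refl _) (by
    simp only [Iso.refl_hom, Category.id_comp]
    change Spec.map (CommRingCat.ofHom (algebraMap k M)) =
      Spec.map (CommRingCat.ofHom (algebraMap K M)) ≫ Spec.map (CommRingCat.ofHom (algebraMap k K))
    rw [← Spec.map_comp, ← CommRingCat.ofHom_comp, IsScalarTower.algebraMap_eq k K M])

@[simp] theorem eIso_hom_left (M : Type u) [Field M] [Algebra K M] [Algebra k M]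
    [IsScalarTower k K M] : (eIso (k := k) (K := K) M).hom.left = 𝟙 _ := rfl

end Cat

section Main

open CategoryTheory Opposite AlgebraicGeometry

variable {k K : Type u} [Field k] [Field K] [Algebra k K]
variable (P : (Over (Spec (CommRingCat.of k)))ᵒᵖ ⥤ Type w)

/-- the restriction of `P` to schemes over `K` -/
noncomputable abbrev Qf : (Over (Spec (CommRingCat.of K)))ᵒᵖ ⥤ Type w :=
  (Over.map (bc k K)).op ⋙ P

theorem edAt_le (L : Type u) [Field L] [Algebra K L] [Algebra k L] [IsScalarTower k K L]
    (ξ : EssDim.FPt (Qf (K := K) P) L) :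
    EssDim.edAt (Qf (K := K) P) ξ ≤
      EssDim.edAt P (P.map (eIso (k := k) (K := K) L).inv.op ξ) := by
  set ξ' := P.map (eIso (k := k) (K := K) L).inv.op ξ with hξ'
  have hξ : P.map (eIso (k := k) (K := K) L).hom.op ξ' = ξ := by
    rw [hξ', ← Functor.map_comp_apply, ← op_comp, Iso.hom_inv_id, op_id,
      Functor.map_id_apply]
  unfold EssDim.edAt
  apply le_iInf
  rintro ⟨E, ξ₀', hE⟩
  let E' : IntermediateField K L := adjoin K (E : Set L)
  let jA : E →ₐ[k] E' :=
    { toFun := fun x => ⟨x.1, subset_adjoin K _ x.2⟩
      map_one' := rfl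
      map_mul' := fun _ _ => rfl
      map_zero' := rfl
      map_add' := fun _ _ => rfl
      commutes' := fun a => by
        apply Subtype.ext
        rfl }
  have hdesc : EssDim.Descends (Qf (K := K) P) ξ E' := by
    refine ⟨P.map (eIso (k := k) (K := K) E').hom.op (P.map (EssDim.resPt jA).op ξ₀'), ?_⟩
    change P.map ((Over.map (bc k K)).map (EssDim.resPt E'.val)).op _ = ξ
    rw [← hξ, ← hE]
    change _ = P.map _ (P.map (EssDim.resPt E.val).op ξ₀')
    have key : (Over.map (bc k K)).map (EssDim.resPt E'.val) ≫ (eIso (k := k) (K := K) E').hom ≫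
        EssDim.resPt jA = (eIso (k := k) (K := K) L).hom ≫ EssDim.resPt E.val := by
      ext : 1
      simp only [Over.comp_left, Over.map_map_left, EssDim.resPt_left, eIso_hom_left,
        Category.comp_id, Category.id_comp]
      rw [← Spec.map_comp, ← CommRingCat.ofHom_comp]
      rfl
    rw [← Functor.map_comp_apply, ← Functor.map_comp_apply,
      ← Functor.map_comp_apply, ← op_comp, ← op_comp, ← op_comp, Category.assoc, key]
  refine le_trans (EssDim.edAt_le_of_descends hdesc) ?_
  exact OrderHomClass.mono Cardinal.toENat (trdeg_adjoin_le E)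

theorem ed_baseChange_le :
    EssDim.ed (k := K) (Qf (K := K) P) ≤ EssDim.ed P := by
  unfold EssDim.ed
  apply iSup_le; intro L
  apply iSup_le; intro _
  apply iSup_le; intro _
  apply iSup_le; intro ξ
  letI : Algebra k L := ((algebraMap K L).comp (algebraMap k K)).toAlgebra
  haveI : IsScalarTower k K L := IsScalarTower.of_algebraMap_eq (fun _ => rfl)
  refine le_trans ?_ (EssDim.edAt_le_ed (P := P) (P.map (eIso (k := k) (K := K) L).inv.op ξ))
  exact WithBot.coe_le_coe.mpr (edAt_le P L ξ)

end Main

end Groth.Agent.Lib.Helper24EdBC
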