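import Mathlib
import Groth.Prelude.Def_W4c1hilbpnTgt
import Groth.Agent.Lib.Helper20Monomial

set_option autoImplicit false
universe u

namespace Groth.Agent.Lib.Helper24TgtPiece

open W4c1hilbpn MvPolynomial

variable {σ : Type*} {k : Type*} [Field k]

/-- `exps I` is upward closed. -/
lemma exps_add {I : Ideal (MvPolynomial σ k)} {β : σ →₀ ℕ} (hβ : β ∈ exps I) (δ : σ →₀ ℕ) :
    β + δ ∈ exps I := by
  have h : (monomial (β + δ) (1:k)) = monomial β 1 * monomial δ 1 := by
    rw [monomial_mul, one_mul]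
  show monomial (β + δ) (1:k) ∈ I
  rw [h]
  exact I.mul_mem_right _ hβ

/-- the class of a monomial vanishes in the quotient iff the exponent is in `exps I` -/
lemma mk_monomial_eq_zero {I : Ideal (MvPolynomial σ k)} {γ : σ →₀ ℕ} :
    Ideal.Quotient.mk I (monomial γ (1:k)) = 0 ↔ γ ∈ exps I :=
  Ideal.Quotient.eq_zero_iff_mem

lemma smul_quot {I : Ideal (MvPolynomial σ k)} (r : MvPolynomial σ k) (q : MvPolynomial σ k ⧸ I) :
    r • q = Ideal.Quotient.mk I r * q := by
  obtain ⟨t, rfl⟩ := Ideal.Quotient.mk_surjective q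
  rfl

lemma mk_monomial_smul {I : Ideal (MvPolynomial σ k)} (γ : σ →₀ ℕ) (a : k) :
    Ideal.Quotient.mk I (monomial γ a) = a • Ideal.Quotient.mk I (monomial γ (1:k)) := by
  rw [← Ideal.Quotient.mkₐ_eq_mk k, ← map_smul, smul_monomial, smul_eq_mul, mul_one]

/-- Two `S`-linear maps out of a monomial ideal agreeing on its monomials are equal. -/
lemma ext_monomial {I : Ideal (MvPolynomial σ k)} (hI : IsMonomial I) {M : Type*} [AddCommGroup M]
    [Module (MvPolynomial σ k) M] (φ ψ : ↥I →ₗ[MvPolynomial σ k] M)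
    (h : ∀ (β : σ →₀ ℕ) (hβ : monomial β (1 : k) ∈ I),
      φ ⟨monomial β 1, hβ⟩ = ψ ⟨monomial β 1, hβ⟩) : φ = ψ := by
  ext x
  have hx : x = ∑ β ∈ x.1.support.attach, (C (coeff β.1 x.1) : MvPolynomial σ k) •
      (⟨monomial β.1 1, hI x.1 x.2 β.1 β.2⟩ : ↥I) := by
    apply Subtype.ext
    rw [Submodule.coe_sum]
    simp only [Submodule.coe_smul, smul_eq_mul, C_mul_monomial, mul_one]
    rw [Finset.sum_attach x.1.support (fun β => monomial β (coeff β x.1))]
    exact (support_sum_monomial_coeff x.1).symm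
  rw [hx, map_sum, map_sum]
  apply Finset.sum_congr rfl
  intro β _
  rw [map_smul, map_smul, h]

lemma map_monomial_add {I : Ideal (MvPolynomial σ k)} (φ : Tgt I) {β : σ →₀ ℕ}
    (hβ : monomial β (1:k) ∈ I) (δ : σ →₀ ℕ) (hβδ : monomial (β+δ) (1:k) ∈ I) :
    φ ⟨monomial (β+δ) 1, hβδ⟩ = Ideal.Quotient.mk I (monomial δ 1) * φ ⟨monomial β 1, hβ⟩ := by
  have h : (⟨monomial (β+δ) 1, hβδ⟩ : ↥I) = (monomial δ (1:k)) • (⟨monomial β 1, hβ⟩ : ↥I) := by
    apply Subtype.ext
    simp [monomial_mul, add_comm]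
  rw [h, map_smul, smul_quot]

variable [Fintype σ]

/-- the integer vector `β + α` -/
def pt (α : σ → ℤ) (β : σ →₀ ℕ) : σ → ℤ := fun i => (β i : ℤ) + α i

lemma shift_apply (β : σ →₀ ℕ) (α : σ → ℤ) (i : σ) :
    shift β α i = ((β i : ℤ) + α i).toNat := rfl

lemma shift_add_of_nonneg (α : σ → ℤ) {β : σ →₀ ℕ} (δ : σ →₀ ℕ)
    (h : ∀ i, 0 ≤ (β i : ℤ) + α i) : shift (β + δ) α = shift β α + δ := by
  ext i
  simp only [shift_apply, Finsupp.add_apply, Nat.cast_add]
  have := h i
  omega

/-- recover `β` from `β + α` -/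
noncomputable def bOf (α : σ → ℤ) (γ : σ → ℤ) : σ →₀ ℕ :=
  Finsupp.equivFunOnFinite.symm fun i => (γ i - α i).toNat

lemma bOf_pt (α : σ → ℤ) (β : σ →₀ ℕ) : bOf α (pt α β) = β := by
  ext i
  simp [bOf, pt]

lemma mem_region_pt {I : Ideal (MvPolynomial σ k)} {α : σ → ℤ} {β : σ →₀ ℕ} (hβ : β ∈ exps I) :
    pt α β ∈ region I α ↔ ¬ ((∀ i, 0 ≤ (β i : ℤ) + α i) ∧ shift β α ∈ exps I) := by
  constructor
  · intro h; exact h.2
  · intro h; exact ⟨⟨β, hβ, rfl⟩, h⟩

lemma region_mid {I : Ideal (MvPolynomial σ k)} {α : σ → ℤ} {β : σ →₀ ℕ} (hβ : β ∈ exps I)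
    (δ1 δ2 : σ →₀ ℕ) (h : pt α (β + δ1 + δ2) ∈ region I α) : pt α (β + δ1) ∈ region I α := by
  rw [mem_region_pt (exps_add hβ δ1)]
  rw [mem_region_pt (exps_add (exps_add hβ δ1) δ2)] at h
  rintro ⟨h1, h2⟩
  apply h
  refine ⟨fun i => ?_, ?_⟩
  · have := h1 i
    simp only [Finsupp.add_apply, Nat.cast_add] at this ⊢
    omega
  · rw [shift_add_of_nonneg α δ2 h1]
    exact exps_add h2 δ2

lemma adj_step (α : σ → ℤ) (β : σ →₀ ℕ) (i : σ) :
    (stepGraph σ).Adj (pt α β) (pt α (β + Finsupp.single i 1)) := by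
  classical
  rw [stepGraph, SimpleGraph.fromRel_adj]
  refine ⟨?_, Or.inl ?_⟩
  · intro h
    have := congrFun h i
    simp [pt] at this
  · rw [Finset.sum_eq_single i]
    · simp [pt]
    · intro j _ hj
      simp [pt, Finsupp.single_apply, Ne.symm hj]
    · intro h; exact absurd (Finset.mem_univ i) h

lemma sum_abs_eq_one {a b : σ → ℤ} (h : ∑ i, |a i - b i| = 1) :
    ∃ i, |a i - b i| = 1 ∧ ∀ j, j ≠ i → a j = b j := by
  classical
  have hex : ∃ i, a i ≠ b i := by
    by_contra hcon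
    push Not at hcon
    simp [hcon] at h
  obtain ⟨i, hi⟩ := hex
  have hsplit := Finset.add_sum_erase Finset.univ (fun i => |a i - b i|) (Finset.mem_univ i)
  have hnn : 0 ≤ ∑ j ∈ Finset.univ.erase i, |a j - b j| :=
    Finset.sum_nonneg (fun _ _ => abs_nonneg _)
  have h1 : 1 ≤ |a i - b i| := Int.one_le_abs (sub_ne_zero.mpr hi)
  have h2 : |a i - b i| = 1 ∧ ∑ j ∈ Finset.univ.erase i, |a j - b j| = 0 := by omega
  refine ⟨i, h2.1, fun j hj => ?_⟩
  have := (Finset.sum_eq_zero_iff_of_nonneg (fun _ _ => abs_nonneg _)).mp h2.2 j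
    (Finset.mem_erase.mpr ⟨hj, Finset.mem_univ j⟩)
  exact sub_eq_zero.mp (abs_eq_zero.mp this)

/-- adjacency of `β + α` and `β' + α` means one is a unit step from the other -/
lemma adj_pt_cases (α : σ → ℤ) {β β' : σ →₀ ℕ} (h : (stepGraph σ).Adj (pt α β) (pt α β')) :
    ∃ i, β' = β + Finsupp.single i 1 ∨ β = β' + Finsupp.single i 1 := by
  classical
  rw [stepGraph, SimpleGraph.fromRel_adj] at h
  have hsum : ∑ i, |pt α β i - pt α β' i| = 1 := by
    rcases h.2 with h2 | h2
    · exact h2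
    · rw [← h2]
      apply Finset.sum_congr rfl
      intro i _
      exact abs_sub_comm _ _
  obtain ⟨i, hi, hj⟩ := sum_abs_eq_one hsum
  refine ⟨i, ?_⟩
  simp only [pt] at hi hj
  rcases (abs_eq (by norm_num : (0:ℤ) ≤ 1)).mp hi with h1 | h1
  · right
    ext j
    by_cases hji : j = i
    · subst hji
      simp only [Finsupp.add_apply, Finsupp.single_eq_same]
      omega
    · have := hj j hji
      simp only [Finsupp.add_apply, Finsupp.single_apply, if_neg (Ne.symm hji)]
      omega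
  · left
    ext j
    by_cases hji : j = i
    · subst hji
      simp only [Finsupp.add_apply, Finsupp.single_eq_same]
      omega
    · have := hj j hji
      simp only [Finsupp.add_apply, Finsupp.single_apply, if_neg (Ne.symm hji)]
      omega


section construct

variable (I : Ideal (MvPolynomial σ k)) (α : σ → ℤ)

/-- the value prescribed on the monomial `x^β` -/
noncomputable def gF (F : (σ → ℤ) → k) (β : σ →₀ ℕ) : MvPolynomial σ k ⧸ I :=
  F (pt α β) • Ideal.Quotient.mk I (monomial (shift β α) (1 : k))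

/-- functions on the region that are locally constant for the step graph and vanish at points
with a negative coordinate -/
structure Good (F : (σ → ℤ) → k) : Prop where
  adj : ∀ γ γ', γ ∈ region I α → γ' ∈ region I α → (stepGraph σ).Adj γ γ' → F γ = F γ'
  neg : ∀ γ, γ ∈ region I α → (∃ i, γ i < 0) → F γ = 0

variable {I α}

lemma path {F : (σ → ℤ) → k} (hF : Good I α F) (δ : σ →₀ ℕ) :
    ∀ β, β ∈ exps I → pt α (β + δ) ∈ region I α → F (pt α β) = F (pt α (β + δ)) := by
  induction δ using Finsupp.induction_linear with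
  | zero => intro β _ _; rw [add_zero]
  | add δ1 δ2 h1 h2 =>
    intro β hβ hr
    rw [← add_assoc] at hr
    have hmid := region_mid hβ δ1 δ2 hr
    rw [h1 β hβ hmid, h2 (β + δ1) (exps_add hβ δ1) hr, add_assoc]
  | single i b =>
    induction b with
    | zero => intro β _ _; simp
    | succ b ih =>
      intro β hβ hr
      have e : β + Finsupp.single i (b+1) = β + Finsupp.single i b + Finsupp.single i 1 := by
        rw [add_assoc, ← Finsupp.single_add]
      rw [e] at hr ⊢
      have hmid := region_mid hβ _ _ hr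
      rw [ih β hβ hmid]
      exact hF.adj _ _ hmid hr (adj_step α _ i)

lemma gF_add {F : (σ → ℤ) → k} (hF : Good I α F) {β : σ →₀ ℕ} (hβ : β ∈ exps I) (δ : σ →₀ ℕ) :
    gF I α F (β + δ) = Ideal.Quotient.mk I (monomial δ 1) * gF I α F β := by
  unfold gF
  by_cases hnn : ∀ i, 0 ≤ (β i : ℤ) + α i
  · have hs : shift (β + δ) α = shift β α + δ := shift_add_of_nonneg α δ hnn
    have hm : Ideal.Quotient.mk I (monomial (shift (β+δ) α) (1:k)) =
        Ideal.Quotient.mk I (monomial δ 1) * Ideal.Quotient.mk I (monomial (shift β α) 1) := by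
      rw [hs, ← map_mul, monomial_mul, one_mul, add_comm]
    by_cases hin : shift (β + δ) α ∈ exps I
    · have h0 : Ideal.Quotient.mk I (monomial (shift (β+δ) α) (1:k)) = 0 :=
        mk_monomial_eq_zero.mpr hin
      rw [h0, smul_zero, mul_smul_comm, ← hm, h0, smul_zero]
    · have hr2 : pt α (β+δ) ∈ region I α :=
        (mem_region_pt (exps_add hβ δ)).mpr (fun h => hin h.2)
      rw [← path hF δ β hβ hr2, hm, mul_smul_comm]
  · push Not at hnn
    obtain ⟨i, hi⟩ := hnn
    have hr1 : pt α β ∈ region I α :=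
      (mem_region_pt hβ).mpr (fun h => absurd (h.1 i) (not_le.mpr hi))
    have hF0 : F (pt α β) = 0 := hF.neg _ hr1 ⟨i, hi⟩
    rw [hF0, zero_smul, mul_zero]
    by_cases hr2 : pt α (β+δ) ∈ region I α
    · rw [← path hF δ β hβ hr2, hF0, zero_smul]
    · rw [mem_region_pt (exps_add hβ δ), not_not] at hr2
      rw [mk_monomial_eq_zero.mpr hr2.2, smul_zero]

variable (I α)

/-- the `k`-linear map on all of `S` determined by `gF` on monomials -/
noncomputable def psiF (F : (σ → ℤ) → k) : MvPolynomial σ k →ₗ[k] (MvPolynomial σ k ⧸ I) :=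
  (basisMonomials σ k).constr k (gF I α F)

lemma psiF_monomial (F : (σ → ℤ) → k) (β : σ →₀ ℕ) (a : k) :
    psiF I α F (monomial β a) = a • gF I α F β := by
  have h : monomial β a = a • (basisMonomials σ k) β := by
    rw [coe_basisMonomials, smul_monomial, smul_eq_mul, mul_one]
  rw [h, map_smul, psiF, Module.Basis.constr_basis]

variable {I α}

lemma psiF_mul_monomial {F : (σ → ℤ) → k} (hF : Good I α F) {β : σ →₀ ℕ} (hβ : β ∈ exps I)
    (b : k) (s : MvPolynomial σ k) :
    psiF I α F (s * monomial β b) = Ideal.Quotient.mk I s * psiF I α F (monomial β b) := by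
  induction s using MvPolynomial.induction_on' with
  | monomial δ a =>
    rw [monomial_mul, psiF_monomial, psiF_monomial, add_comm δ β, gF_add hF hβ δ,
      mk_monomial_smul δ a, smul_mul_smul_comm]
  | add s1 s2 h1 h2 =>
    rw [add_mul, map_add, h1, h2, map_add, add_mul]

lemma psiF_mul (hI : IsMonomial I) {F : (σ → ℤ) → k} (hF : Good I α F)
    (s p : MvPolynomial σ k) (hp : p ∈ I) :
    psiF I α F (s * p) = Ideal.Quotient.mk I s * psiF I α F p := by
  have hp' : p = ∑ β ∈ p.support, monomial β (coeff β p) := (support_sum_monomial_coeff p).symm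
  rw [hp', Finset.mul_sum, map_sum, map_sum, Finset.mul_sum]
  apply Finset.sum_congr rfl
  intro β hβ
  exact psiF_mul_monomial hF (hI p hp β hβ) _ s

/-- the tangent vector attached to a good function -/
noncomputable def mkTgt (hI : IsMonomial I) (F : (σ → ℤ) → k) (hF : Good I α F) : Tgt I where
  toFun x := psiF I α F x.1
  map_add' x y := by
    show psiF I α F (x.1 + y.1) = _
    rw [map_add]
  map_smul' s x := by
    show psiF I α F (s * x.1) = s • psiF I α F x.1
    rw [psiF_mul hI hF s x.1 x.2, smul_quot]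

lemma mkTgt_apply (hI : IsMonomial I) (F : (σ → ℤ) → k) (hF : Good I α F) (β : σ →₀ ℕ)
    (hβ : monomial β (1:k) ∈ I) : mkTgt hI F hF ⟨monomial β 1, hβ⟩ = gF I α F β := by
  show psiF I α F (monomial β 1) = _
  rw [psiF_monomial, one_smul]

lemma mkTgt_mem (hI : IsMonomial I) (F : (σ → ℤ) → k) (hF : Good I α F) :
    mkTgt hI F hF ∈ tPiece I α := by
  intro β hβ
  rw [mkTgt_apply]
  refine ⟨fun _ => Submodule.smul_mem _ _ (Submodule.mem_span_singleton_self _), fun hneg => ?_⟩
  unfold gF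
  obtain ⟨i, hi⟩ := hneg
  have hr1 : pt α β ∈ region I α :=
    (mem_region_pt hβ).mpr (fun h => absurd (h.1 i) (not_le.mpr hi))
  rw [hF.neg _ hr1 ⟨i, hi⟩, zero_smul]

end construct


section extract

variable {I : Ideal (MvPolynomial σ k)} {α : σ → ℤ}

/-- Every element of the graded piece comes from a good function. -/
lemma exists_good_of_mem {φ : Tgt I} (hφ : φ ∈ tPiece I α) :
    ∃ F : (σ → ℤ) → k, Good I α F ∧ ∀ (β : σ →₀ ℕ) (hβ : monomial β (1:k) ∈ I),
      φ ⟨monomial β 1, hβ⟩ = gF I α F β := by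
  classical
  have hex : ∀ b : {β : σ →₀ ℕ // monomial β (1:k) ∈ I ∧ ∀ i, 0 ≤ (β i : ℤ) + α i},
      ∃ c : k, c • Ideal.Quotient.mk I (monomial (shift b.1 α) (1:k)) =
        φ ⟨monomial b.1 1, b.2.1⟩ :=
    fun b => Submodule.mem_span_singleton.mp ((hφ b.1 b.2.1).1 b.2.2)
  choose c hc using hex
  obtain ⟨F', hF'⟩ : ∃ F' : (σ →₀ ℕ) → k, F' = fun β =>
      if h : (monomial β (1:k) ∈ I ∧ ∀ i, 0 ≤ (β i : ℤ) + α i) then c ⟨β, h⟩ else 0 := ⟨_, rfl⟩
  have hF'neg : ∀ β, (∃ i, (β i : ℤ) + α i < 0) → F' β = 0 := by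
    intro β ⟨i, hi⟩
    have : ¬ (monomial β (1:k) ∈ I ∧ ∀ i, 0 ≤ (β i : ℤ) + α i) :=
      fun h' => absurd (h'.2 i) (not_le.mpr hi)
    rw [hF']
    simp only [dif_neg this]
  have hF'eval : ∀ β (hβ : monomial β (1:k) ∈ I), φ ⟨monomial β 1, hβ⟩ =
      F' β • Ideal.Quotient.mk I (monomial (shift β α) (1:k)) := by
    intro β hβ
    by_cases h : ∀ i, 0 ≤ (β i : ℤ) + α i
    · rw [hF']
      simp only [dif_pos (And.intro hβ h)]
      exact (hc ⟨β, hβ, h⟩).symm
    · push Not at h
      rw [hF'neg β h, zero_smul]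
      exact (hφ β hβ).2 h
  -- the unit step
  have hstep : ∀ β (hβ : β ∈ exps I) (i : σ), pt α β ∈ region I α →
      pt α (β + Finsupp.single i 1) ∈ region I α → F' β = F' (β + Finsupp.single i 1) := by
    intro β hβ i hr hr'
    have hβ' : β + Finsupp.single i 1 ∈ exps I := exps_add hβ _
    have key := map_monomial_add φ hβ (Finsupp.single i 1) hβ'
    rw [hF'eval _ hβ', hF'eval _ hβ] at key
    by_cases hnn : ∀ j, 0 ≤ (β j : ℤ) + α j
    · have hs : shift (β + Finsupp.single i 1) α = shift β α + Finsupp.single i 1 :=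
        shift_add_of_nonneg α _ hnn
      have hm : Ideal.Quotient.mk I (monomial (shift (β + Finsupp.single i 1) α) (1:k)) =
          Ideal.Quotient.mk I (monomial (Finsupp.single i 1) 1) *
            Ideal.Quotient.mk I (monomial (shift β α) 1) := by
        rw [hs, ← map_mul, monomial_mul, one_mul, add_comm]
      have hnn' : ∀ j, 0 ≤ (((β + Finsupp.single i 1 : σ →₀ ℕ) j : ℕ) : ℤ) + α j := by
        intro j
        have := hnn j
        simp only [Finsupp.add_apply, Nat.cast_add]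
        omega
      have hne : Ideal.Quotient.mk I (monomial (shift (β + Finsupp.single i 1) α) (1:k)) ≠ 0 := by
        intro h0
        exact (mem_region_pt hβ').mp hr' ⟨hnn', mk_monomial_eq_zero.mp h0⟩
      rw [mul_smul_comm, ← hm] at key
      have h2 : (F' (β + Finsupp.single i 1) - F' β) •
          Ideal.Quotient.mk I (monomial (shift (β + Finsupp.single i 1) α) (1:k)) = 0 := by
        rw [sub_smul, key, sub_self]
      rcases smul_eq_zero.mp h2 with h3 | h3
      · exact (sub_eq_zero.mp h3).symm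
      · exact absurd h3 hne
    · push Not at hnn
      rw [hF'neg β hnn]
      rw [hF'neg β hnn, zero_smul, mul_zero] at key
      by_cases hnn' : ∀ j, 0 ≤ (((β + Finsupp.single i 1 : σ →₀ ℕ) j : ℕ) : ℤ) + α j
      · have hne : Ideal.Quotient.mk I (monomial (shift (β + Finsupp.single i 1) α) (1:k)) ≠ 0 := by
          intro h0
          exact (mem_region_pt hβ').mp hr' ⟨hnn', mk_monomial_eq_zero.mp h0⟩
        rcases smul_eq_zero.mp key with h3 | h3
        · exact h3.symm
        · exact absurd h3 hne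
      · push Not at hnn'
        exact (hF'neg _ hnn').symm
  refine ⟨fun γ => F' (bOf α γ), ⟨?_, ?_⟩, ?_⟩
  · rintro γ γ' ⟨⟨β, hβ, rfl⟩, hn⟩ ⟨⟨β', hβ', rfl⟩, hn'⟩ hadj
    have hr : pt α β ∈ region I α := ⟨⟨β, hβ, rfl⟩, hn⟩
    have hr' : pt α β' ∈ region I α := ⟨⟨β', hβ', rfl⟩, hn'⟩
    show F' (bOf α (pt α β)) = F' (bOf α (pt α β'))
    rw [bOf_pt, bOf_pt]
    obtain ⟨i, hi | hi⟩ := adj_pt_cases α hadj
    · subst hi
      exact hstep β hβ i hr hr'
    · subst hi
      exact (hstep β' hβ' i hr' hr).symm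
  · rintro γ ⟨⟨β, hβ, rfl⟩, hn⟩ hneg
    show F' (bOf α (pt α β)) = 0
    rw [bOf_pt]
    exact hF'neg β hneg
  · intro β hβ
    show φ ⟨monomial β 1, hβ⟩ = F' (bOf α (pt α β)) • _
    rw [bOf_pt]
    exact hF'eval β hβ

end extract

end Groth.Agent.Lib.Helper24TgtPiece
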