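import Mathlib
import Groth.Prelude.Def_W4c1hilbpnTgt
import Groth.Agent.Lib.Helper20Monomial
import Groth.Agent.Lib.Helper24TgtPiece

set_option autoImplicit false
universe u

namespace Groth.Agent.Lib.Helper24TgtPiece

open W4c1hilbpn MvPolynomial

variable {σ : Type*} {k : Type*} [Field k] [Fintype σ]

section graph

variable (I : Ideal (MvPolynomial σ k)) (α : σ → ℤ)

/-- the induced step graph on the region -/
abbrev RG : SimpleGraph ↥(region I α) := (stepGraph σ).induce (region I α)

/-- bounded components -/
abbrev BC : Type _ := {c : (RG I α).ConnectedComponent // c.supp.Finite}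

variable {I α}

lemma good_reachable {F : (σ → ℤ) → k} (hF : Good I α F) {v w : ↥(region I α)}
    (h : (RG I α).Reachable v w) : F v.1 = F w.1 := by
  obtain ⟨p⟩ := h
  induction p with
  | nil => rfl
  | cons hadj _ ih =>
    exact (hF.adj _ _ (Subtype.property _) (Subtype.property _)
      (SimpleGraph.induce_adj.mp hadj)).trans ih

/-- a component containing a point with a negative coordinate is infinite (needs two variables) -/
lemma infinite_supp_of_neg [Nontrivial σ] (v : ↥(region I α)) (hv : ∃ i, v.1 i < 0) :
    ((RG I α).connectedComponentMk v).supp.Infinite := by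
  classical
  obtain ⟨⟨β, hβ, hvβ⟩, hn⟩ := v.2
  obtain ⟨i, hi⟩ := hv
  obtain ⟨j, hj⟩ := exists_ne i
  have hmem : ∀ t : ℕ, pt α (β + Finsupp.single j t) ∈ region I α := by
    intro t
    refine (mem_region_pt (exps_add hβ _)).mpr (fun h => ?_)
    have h1 := h.1 i
    rw [hvβ] at hi
    simp only at hi
    simp only [Finsupp.add_apply, Finsupp.single_apply, if_neg hj, Nat.cast_add,
      Nat.cast_zero, add_zero] at h1
    omega
  have hreach : ∀ t : ℕ, (RG I α).Reachable v ⟨pt α (β + Finsupp.single j t), hmem t⟩ := by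
    intro t
    induction t with
    | zero =>
      have : v = ⟨pt α (β + Finsupp.single j 0), hmem 0⟩ := by
        apply Subtype.ext
        rw [hvβ]
        funext l
        simp [pt]
      rw [← this]
    | succ t ih =>
      refine ih.trans (SimpleGraph.Adj.reachable ?_)
      rw [SimpleGraph.induce_adj]
      have e : β + Finsupp.single j (t+1) = β + Finsupp.single j t + Finsupp.single j 1 := by
        rw [add_assoc, ← Finsupp.single_add]
      show (stepGraph σ).Adj (pt α (β + Finsupp.single j t)) (pt α (β + Finsupp.single j (t+1)))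
      rw [e]
      exact adj_step α _ j
  refine Set.infinite_of_injective_forall_mem
    (f := fun t : ℕ => (⟨pt α (β + Finsupp.single j t), hmem t⟩ : ↥(region I α))) ?_ ?_
  · intro t t' h
    have h1 := congrFun (congrArg Subtype.val h) j
    simp only [pt, Finsupp.add_apply, Finsupp.single_eq_same, Nat.cast_add] at h1
    omega
  · intro t
    rw [SimpleGraph.ConnectedComponent.mem_supp_iff, SimpleGraph.ConnectedComponent.eq]
    exact (hreach t).symm

/-- the nonnegative part of the region is finite -/
lemma finite_nonneg_region (hI : IsMonomial I) [Module.Finite k (MvPolynomial σ k ⧸ I)] :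
    {v : ↥(region I α) | ∀ i, 0 ≤ v.1 i}.Finite := by
  haveI := Groth.Agent.Lib.Helper20.finite_compl_exps I hI
  have hN : (Set.range (fun b : {β : σ →₀ ℕ // β ∉ exps I} =>
      (fun i => (b.1 i : ℤ)))).Finite := Set.finite_range _
  refine (hN.preimage (Subtype.val_injective.injOn)).subset ?_
  intro v hv
  have hv2 := v.2.2
  refine ⟨⟨Finsupp.equivFunOnFinite.symm fun i => (v.1 i).toNat, fun h => hv2 ⟨hv, h⟩⟩, ?_⟩
  funext i
  simp only [Finsupp.equivFunOnFinite_symm_apply_apply]
  exact Int.toNat_of_nonneg (hv i)

end graph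


section count

variable (I : Ideal (MvPolynomial σ k)) (α : σ → ℤ)

open Classical in
/-- evaluate a function on bounded components at any component (zero on unbounded ones) -/
noncomputable def ev (f : BC I α → k) (C : (RG I α).ConnectedComponent) : k :=
  if h : C.supp.Finite then f ⟨C, h⟩ else 0

open Classical in
/-- extension of a function on bounded components to all integer vectors -/
noncomputable def Fext (f : BC I α → k) : (σ → ℤ) → k := fun γ =>
  if h : γ ∈ region I α then ev I α f ((RG I α).connectedComponentMk ⟨γ, h⟩) else 0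

variable {I α}

lemma ev_add (f g : BC I α → k) (C : (RG I α).ConnectedComponent) :
    ev I α (f + g) C = ev I α f C + ev I α g C := by
  unfold ev
  split_ifs <;> simp

lemma ev_smul (c : k) (f : BC I α → k) (C : (RG I α).ConnectedComponent) :
    ev I α (c • f) C = c * ev I α f C := by
  unfold ev
  split_ifs <;> simp

lemma Fext_add (f g : BC I α → k) (γ : σ → ℤ) :
    Fext I α (f + g) γ = Fext I α f γ + Fext I α g γ := by
  unfold Fext
  split_ifs
  · exact ev_add f g _
  · simp

lemma Fext_smul (c : k) (f : BC I α → k) (γ : σ → ℤ) :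
    Fext I α (c • f) γ = c * Fext I α f γ := by
  unfold Fext
  split_ifs
  · exact ev_smul c f _
  · simp

lemma Fext_apply_of_finite (f : BC I α → k) (v : ↥(region I α))
    (hfin : ((RG I α).connectedComponentMk v).supp.Finite) :
    Fext I α f v.1 = f ⟨(RG I α).connectedComponentMk v, hfin⟩ := by
  unfold Fext ev
  rw [dif_pos v.2, dif_pos hfin]

lemma Fext_apply_of_infinite (f : BC I α → k) (v : ↥(region I α))
    (hinf : ¬ ((RG I α).connectedComponentMk v).supp.Finite) :
    Fext I α f v.1 = 0 := by
  unfold Fext ev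
  rw [dif_pos v.2, dif_neg hinf]

lemma good_Fext [Nontrivial σ] (f : BC I α → k) : Good I α (Fext I α f) := by
  constructor
  · intro γ γ' hγ hγ' hadj
    have hc : (RG I α).connectedComponentMk ⟨γ, hγ⟩ = (RG I α).connectedComponentMk ⟨γ', hγ'⟩ :=
      SimpleGraph.ConnectedComponent.connectedComponentMk_eq_of_adj
        (SimpleGraph.induce_adj.mpr hadj)
    unfold Fext
    rw [dif_pos hγ, dif_pos hγ', hc]
  · intro γ hγ hneg
    exact Fext_apply_of_infinite f ⟨γ, hγ⟩ (infinite_supp_of_neg ⟨γ, hγ⟩ hneg)

/-- the linear map from functions on bounded components to the tangent space -/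
noncomputable def Psi (hI : IsMonomial I) [Nontrivial σ] : (BC I α → k) →ₗ[k] Tgt I where
  toFun f := mkTgt hI (Fext I α f) (good_Fext f)
  map_add' f g := by
    apply ext_monomial hI
    intro β hβ
    rw [LinearMap.add_apply, mkTgt_apply, mkTgt_apply, mkTgt_apply]
    unfold gF
    rw [← add_smul, Fext_add]
  map_smul' c f := by
    apply ext_monomial hI
    intro β hβ
    rw [LinearMap.smul_apply, RingHom.id_apply, mkTgt_apply, mkTgt_apply]
    unfold gF
    rw [smul_smul, Fext_smul]

lemma Psi_apply (hI : IsMonomial I) [Nontrivial σ] (f : BC I α → k) (β : σ →₀ ℕ)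
    (hβ : monomial β (1:k) ∈ I) :
    Psi hI f ⟨monomial β 1, hβ⟩ =
      Fext I α f (pt α β) • Ideal.Quotient.mk I (monomial (shift β α) (1 : k)) :=
  mkTgt_apply hI (Fext I α f) (good_Fext f) β hβ

lemma Psi_injective (hI : IsMonomial I) [Nontrivial σ] :
    Function.Injective (Psi (I := I) (α := α) hI) := by
  rw [injective_iff_map_eq_zero]
  intro f hf
  funext C
  obtain ⟨v, hv⟩ := C.1.nonempty_supp
  rw [SimpleGraph.ConnectedComponent.mem_supp_iff] at hv
  have hfin : ((RG I α).connectedComponentMk v).supp.Finite := by rw [hv]; exact C.2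
  have hnn : ∀ i, 0 ≤ v.1 i := by
    by_contra hcon
    push Not at hcon
    exact infinite_supp_of_neg v hcon hfin
  obtain ⟨⟨β, hβ, hvβ⟩, hn⟩ := v.2
  have h1 := Psi_apply hI f β hβ
  rw [hf, LinearMap.zero_apply] at h1
  have hpt : pt α β = v.1 := hvβ.symm
  rw [hpt, Fext_apply_of_finite f v hfin] at h1
  have hne : Ideal.Quotient.mk I (monomial (shift β α) (1:k)) ≠ 0 := by
    intro h0
    have h2 := (mem_region_pt hβ).mp (hpt ▸ v.2)
    apply h2
    refine ⟨fun i => ?_, mk_monomial_eq_zero.mp h0⟩
    have := hnn i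
    rw [hvβ] at this
    exact this
  rcases smul_eq_zero.mp h1.symm with h3 | h3
  · have : (⟨(RG I α).connectedComponentMk v, hfin⟩ : BC I α) = C := Subtype.ext hv
    rw [this] at h3
    exact h3
  · exact absurd h3 hne

lemma range_Psi (hI : IsMonomial I) [Module.Finite k (MvPolynomial σ k ⧸ I)] [Nontrivial σ] :
    LinearMap.range (Psi (I := I) (α := α) hI) = tPiece I α := by
  apply le_antisymm
  · rintro _ ⟨f, rfl⟩
    exact mkTgt_mem hI (Fext I α f) (good_Fext f)
  · intro φ hφ
    obtain ⟨F, hF, hFe⟩ := exists_good_of_mem hφ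
    refine ⟨fun C => F (C.1.nonempty_supp.some).1, ?_⟩
    apply ext_monomial hI
    intro β hβ
    rw [Psi_apply, hFe]
    unfold gF
    by_cases hr : pt α β ∈ region I α
    · by_cases hfin : ((RG I α).connectedComponentMk ⟨pt α β, hr⟩).supp.Finite
      · rw [Fext_apply_of_finite _ ⟨pt α β, hr⟩ hfin]
        congr 1
        have hmem := ((RG I α).connectedComponentMk ⟨pt α β, hr⟩).nonempty_supp.some_mem
        rw [SimpleGraph.ConnectedComponent.mem_supp_iff, SimpleGraph.ConnectedComponent.eq] at hmem
        exact good_reachable hF (w := ⟨pt α β, hr⟩) hmem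
      · rw [Fext_apply_of_infinite _ ⟨pt α β, hr⟩ hfin, zero_smul]
        have hex : ∃ v ∈ ((RG I α).connectedComponentMk ⟨pt α β, hr⟩).supp, ∃ i, v.1 i < 0 := by
          by_contra hcon
          push Not at hcon
          exact hfin ((finite_nonneg_region hI).subset (fun v hv => hcon v hv))
        obtain ⟨v, hv, hneg⟩ := hex
        rw [SimpleGraph.ConnectedComponent.mem_supp_iff, SimpleGraph.ConnectedComponent.eq] at hv
        have h1 : F v.1 = F (pt α β) := good_reachable hF hv
        rw [← h1, hF.neg _ v.2 hneg, zero_smul]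
    · rw [mem_region_pt hβ, not_not] at hr
      rw [mk_monomial_eq_zero.mpr hr.2, smul_zero, smul_zero]

lemma finite_BC (hI : IsMonomial I) [Module.Finite k (MvPolynomial σ k ⧸ I)] [Nontrivial σ] :
    Finite (BC I α) := by
  haveI := (finite_nonneg_region (I := I) (α := α) hI).to_subtype
  have hnn : ∀ C : BC I α, ∀ i, 0 ≤ (C.1.nonempty_supp.some).1 i := by
    intro C
    by_contra hcon
    push Not at hcon
    have h1 := infinite_supp_of_neg _ hcon
    have h2 := C.1.nonempty_supp.some_mem
    rw [SimpleGraph.ConnectedComponent.mem_supp_iff] at h2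
    rw [h2] at h1
    exact h1 C.2
  apply Finite.of_injective (fun C : BC I α =>
    (⟨C.1.nonempty_supp.some, hnn C⟩ : {v : ↥(region I α) | ∀ i, 0 ≤ v.1 i}))
  intro C C' h
  have h1 : C.1.nonempty_supp.some = C'.1.nonempty_supp.some := congrArg Subtype.val h
  have h2 := C.1.nonempty_supp.some_mem
  have h3 := C'.1.nonempty_supp.some_mem
  rw [SimpleGraph.ConnectedComponent.mem_supp_iff] at h2 h3
  apply Subtype.ext
  rw [← h2, ← h3, h1]

/-- **Dimension of a graded piece of the tangent space**: the number of bounded components. -/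
theorem finrank_tPiece (hI : IsMonomial I) [Module.Finite k (MvPolynomial σ k ⧸ I)]
    [Nontrivial σ] : Module.finrank k ↥(tPiece I α) = nBddComp I α := by
  haveI := finite_BC (I := I) (α := α) hI
  haveI := Fintype.ofFinite (BC I α)
  rw [← range_Psi hI, LinearMap.finrank_range_of_inj (Psi_injective hI),
    Module.finrank_fintype_fun_eq_card, nBddComp, Nat.card_eq_fintype_card]

end count

theorem s13452 (k : Type u) [Field k] [Infinite k] (n : ℕ) (hn : 2 ≤ n)
    (I : Ideal (MvPolynomial (Fin n) k)) (hI : IsMonomial I) [Module.Finite k (MvPolynomial (Fin n) k ⧸ I)]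
    (α : Fin n → ℤ) :
    Module.finrank k ↥(tPiece I α) = nBddComp I α := by
  haveI : Nontrivial (Fin n) := Fin.nontrivial_iff_two_le.mpr hn
  exact finrank_tPiece hI

end Groth.Agent.Lib.Helper24TgtPiece
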