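import Mathlib
import Groth.Prelude.Def_W4c1hilbpnTgt
import Groth.Agent.Lib.Helper20Monomial
import Groth.Agent.Lib.Helper24TgtPiece
import Groth.Agent.Lib.Helper24TgtPiece2

set_option autoImplicit false
universe u

namespace Groth.Agent.Lib.Helper24TgtPiece

open W4c1hilbpn MvPolynomial

variable {σ : Type*} {k : Type*} [Field k] [Fintype σ]
variable {I : Ideal (MvPolynomial σ k)} {α : σ → ℤ}

/-- nonnegative multidegrees carry no tangent vectors -/
lemma tPiece_eq_bot_of_nonneg (hI : IsMonomial I) (hα : ∀ i, 0 ≤ α i) : tPiece I α = ⊥ := by
  rw [eq_bot_iff]
  intro φ hφ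
  rw [Submodule.mem_bot]
  obtain ⟨F, hF, hFe⟩ := exists_good_of_mem hφ
  apply ext_monomial hI
  intro β hβ
  rw [hFe, LinearMap.zero_apply]
  unfold gF
  have hs : shift β α ∈ exps I := by
    have h : shift β α = β + shift 0 α := by
      ext i
      simp only [shift_apply, Finsupp.add_apply, Finsupp.coe_zero, Pi.zero_apply, Nat.cast_zero,
        zero_add]
      have := hα i
      omega
    rw [h]
    exact exps_add hβ _
  rw [mk_monomial_eq_zero.mpr hs, smul_zero]

lemma exists_add_single_mem (hI : IsMonomial I) [Module.Finite k (MvPolynomial σ k ⧸ I)]
    (γ : σ →₀ ℕ) (j : σ) : ∃ T : ℕ, γ + Finsupp.single j T ∈ exps I := by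
  haveI := Groth.Agent.Lib.Helper20.finite_compl_exps I hI
  by_contra hcon
  push Not at hcon
  have hinj : Function.Injective (fun T : ℕ =>
      (⟨γ + Finsupp.single j T, hcon T⟩ : {β : σ →₀ ℕ // β ∉ exps I})) := by
    intro T T' h
    have h1 := congrArg (fun b : {β : σ →₀ ℕ // β ∉ exps I} => b.1 j) h
    simpa using h1
  exact not_injective_infinite_finite _ hinj

/-- all-negative multidegrees carry no tangent vectors (two or more variables, finite colength) -/
lemma tPiece_eq_bot_of_neg (hI : IsMonomial I) [Module.Finite k (MvPolynomial σ k ⧸ I)]
    [Nontrivial σ] (hα : ∀ i, α i < 0) : tPiece I α = ⊥ := by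
  classical
  rw [eq_bot_iff]
  intro φ hφ
  rw [Submodule.mem_bot]
  obtain ⟨F, hF, hFe⟩ := exists_good_of_mem hφ
  obtain ⟨j1, j2, hj⟩ := exists_pair_ne σ
  -- the key vanishing claim
  have hZ : ∀ m : ℕ, ∀ β, β ∈ exps I → (∀ i, 0 ≤ (β i : ℤ) + α i) → pt α β ∈ region I α →
      (β j2 : ℤ) + α j2 = m → F (pt α β) = 0 := by
    intro m
    induction m using Nat.strong_induction_on with
    | _ m IH =>
      intro β hβ hnn hr hm
      obtain ⟨T, hT⟩ := exists_add_single_mem hI (shift β α) j1
      have hP : ∀ d t : ℕ, t + d = T → pt α (β + Finsupp.single j1 t) ∈ region I α →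
          F (pt α (β + Finsupp.single j1 t)) = 0 := by
        intro d
        induction d with
        | zero =>
          intro t ht hrt
          exfalso
          rw [add_zero] at ht
          subst ht
          refine (mem_region_pt (exps_add hβ _)).mp hrt ⟨fun i => ?_, ?_⟩
          · have := hnn i
            simp only [Finsupp.add_apply, Nat.cast_add]
            omega
          · rw [shift_add_of_nonneg α _ hnn]
            exact hT
        | succ d ihd =>
          intro t ht hrt
          have hB : β + Finsupp.single j1 t ∈ exps I := exps_add hβ _
          have hBnn : ∀ i, 0 ≤ (((β + Finsupp.single j1 t : σ →₀ ℕ) i : ℕ) : ℤ) + α i := by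
            intro i
            have := hnn i
            simp only [Finsupp.add_apply, Nat.cast_add]
            omega
          have e1 : β + Finsupp.single j1 (t+1) = β + Finsupp.single j1 t + Finsupp.single j1 1 := by
            rw [add_assoc, ← Finsupp.single_add]
          by_cases hr' : pt α (β + Finsupp.single j1 t + Finsupp.single j1 1) ∈ region I α
          · rw [hF.adj _ _ hrt hr' (adj_step α _ j1)]
            rw [← e1] at hr' ⊢
            exact ihd (t+1) (by omega) hr'
          · rw [mem_region_pt (exps_add hB _), not_not] at hr'
            obtain ⟨B, hBdef⟩ : ∃ B, B = β + Finsupp.single j1 t := ⟨_, rfl⟩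
            rw [← hBdef] at hB hBnn hr' hrt ⊢
            have hBj2 : B j2 = β j2 := by
              rw [hBdef, Finsupp.add_apply, Finsupp.single_apply, if_neg hj, add_zero]
            have hB2pos : 1 ≤ B j2 := by
              have h1 := hBnn j2
              have h2 := hα j2
              omega
            obtain ⟨B', hB'def⟩ : ∃ B', B' = B - Finsupp.single j2 1 := ⟨_, rfl⟩
            have hB'add : B' + Finsupp.single j2 1 = B := by
              rw [hB'def]
              apply tsub_add_cancel_of_le
              rw [Finsupp.single_le_iff]
              exact hB2pos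
            have hle : shift (B + Finsupp.single j1 1) α ≤ B' := by
              intro i
              have h1 := hα i
              have h3 : B' i + (Finsupp.single j2 1 : σ →₀ ℕ) i = B i := by
                rw [← Finsupp.add_apply, hB'add]
              simp only [shift_apply, Finsupp.add_apply, Finsupp.single_apply, Nat.cast_add] at h3 ⊢
              by_cases hi1 : j1 = i
              · have hi2 : ¬ j2 = i := fun h => hj (hi1.trans h.symm)
                simp only [if_pos hi1, if_neg hi2] at h3 ⊢
                omega
              · simp only [if_neg hi1] at h3 ⊢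
                split_ifs at h3 <;> omega
            have hB'mem : B' ∈ exps I := by
              rw [← add_tsub_cancel_of_le hle]
              exact exps_add hr'.2 _
            have hr'' : pt α B' ∈ region I α := by
              rw [mem_region_pt hB'mem]
              rintro ⟨h1, h2⟩
              refine (mem_region_pt hB).mp hrt ⟨hBnn, ?_⟩
              rw [← hB'add, shift_add_of_nonneg α _ h1]
              exact exps_add h2 _
            have hrt' : pt α (B' + Finsupp.single j2 1) ∈ region I α := by rw [hB'add]; exact hrt
            have hadj := hF.adj _ _ hr'' hrt' (adj_step α B' j2)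
            rw [hB'add] at hadj
            rw [← hadj]
            have hB'j2 : (B' j2 : ℤ) + 1 = B j2 := by
              have h3 : B' j2 + (Finsupp.single j2 1 : σ →₀ ℕ) j2 = B j2 := by
                rw [← Finsupp.add_apply, hB'add]
              simp only [Finsupp.single_eq_same] at h3
              omega
            by_cases hm0 : m = 0
            · apply hF.neg _ hr''
              refine ⟨j2, ?_⟩
              show (B' j2 : ℤ) + α j2 < 0
              rw [hBj2] at hB'j2
              omega
            · refine IH (m - 1) (by omega) B' hB'mem ?_ hr'' ?_
              · intro i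
                by_cases hi : i = j2
                · subst hi
                  rw [hBj2] at hB'j2
                  omega
                · have h3 : B' i + (Finsupp.single j2 1 : σ →₀ ℕ) i = B i := by
                    rw [← Finsupp.add_apply, hB'add]
                  simp only [Finsupp.single_apply, if_neg (Ne.symm hi), add_zero] at h3
                  have := hBnn i
                  rw [h3]
                  exact this
              · rw [hBj2] at hB'j2
                omega
      have h0 := hP T 0 (zero_add T)
      simp only [Finsupp.single_zero, add_zero] at h0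
      exact h0 hr
  apply ext_monomial hI
  intro β hβ
  rw [hFe, LinearMap.zero_apply]
  unfold gF
  by_cases hr : pt α β ∈ region I α
  · by_cases hnn : ∀ i, 0 ≤ (β i : ℤ) + α i
    · have hm : (β j2 : ℤ) + α j2 = ((β j2 : ℤ) + α j2).toNat := (Int.toNat_of_nonneg (hnn j2)).symm
      rw [hZ _ β hβ hnn hr hm, zero_smul]
    · push Not at hnn
      rw [hF.neg _ hr hnn, zero_smul]
  · rw [mem_region_pt hβ, not_not] at hr
    rw [mk_monomial_eq_zero.mpr hr.2, smul_zero]

end Groth.Agent.Lib.Helper24TgtPiece
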