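import Mathlib
import Groth.Prelude.Def_W4c1hilbpnTgt
import Groth.Agent.Lib.Helper20Monomial
import Groth.Agent.Lib.Helper24TgtPiece
import Groth.Agent.Lib.Helper24TgtPiece2
import Groth.Agent.Lib.Helper24TgtPiece3

set_option autoImplicit false
universe u

namespace Groth.Agent.Lib.Helper24TgtPiece

open W4c1hilbpn MvPolynomial

variable {σ : Type*} {k : Type*} [Field k] [Fintype σ]
variable {I : Ideal (MvPolynomial σ k)}

/-- a monomial ideal has a finite set of monomial generators -/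
lemma exists_finset_gens (hI : IsMonomial I) : ∃ G : Finset (σ →₀ ℕ),
    (∀ β ∈ G, monomial β (1:k) ∈ I) ∧
    I = Ideal.span ((fun β => monomial β (1:k)) '' (G : Set (σ →₀ ℕ))) := by
  classical
  obtain ⟨s, hs⟩ := (isNoetherianRing_iff_ideal_fg (MvPolynomial σ k)).mp inferInstance I
  have hsI : ∀ p ∈ s, p ∈ I := fun p hp => hs ▸ Ideal.subset_span hp
  have hG : ∀ β ∈ s.biUnion (fun p => p.support), monomial β (1:k) ∈ I := by
    intro β hβ
    rw [Finset.mem_biUnion] at hβ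
    obtain ⟨p, hp, hβp⟩ := hβ
    exact hI p (hsI p hp) β hβp
  refine ⟨s.biUnion (fun p => p.support), hG, ?_⟩
  apply le_antisymm
  · have h1 : Ideal.span (s : Set (MvPolynomial σ k)) ≤
        Ideal.span ((fun β => monomial β (1:k)) '' ((s.biUnion (fun p => p.support) : Finset _) :
          Set (σ →₀ ℕ))) := by
      rw [Ideal.span_le]
      intro p hp
      have hp' : p = ∑ β ∈ p.support, monomial β (coeff β p) :=
        (support_sum_monomial_coeff p).symm
      rw [hp']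
      apply Ideal.sum_mem
      intro β hβ
      have h2 : monomial β (coeff β p) = C (coeff β p) * monomial β 1 := by
        rw [C_mul_monomial, mul_one]
      rw [h2]
      apply Ideal.mul_mem_left
      apply Ideal.subset_span
      exact ⟨β, Finset.mem_coe.mpr (Finset.mem_biUnion.mpr ⟨p, hp, hβ⟩), rfl⟩
    rw [hs] at h1
    exact h1
  · rw [Ideal.span_le]
    rintro _ ⟨β, hβ, rfl⟩
    exact hG β (Finset.mem_coe.mp hβ)

/-- maps out of `I` agreeing on generators agree -/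
lemma ext_gens {M : Type*} [AddCommGroup M] [Module (MvPolynomial σ k) M]
    (G : Finset (σ →₀ ℕ)) (hG : ∀ β ∈ G, monomial β (1:k) ∈ I)
    (hspan : I = Ideal.span ((fun β => monomial β (1:k)) '' (G : Set (σ →₀ ℕ))))
    (φ ψ : ↥I →ₗ[MvPolynomial σ k] M)
    (h : ∀ β (hβ : β ∈ G), φ ⟨monomial β 1, hG β hβ⟩ = ψ ⟨monomial β 1, hG β hβ⟩) : φ = ψ := by
  have hle : Ideal.span ((fun β => monomial β (1:k)) '' (G : Set (σ →₀ ℕ))) ≤
      Submodule.map I.subtype (LinearMap.eqLocus φ ψ) := by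
    rw [Ideal.span_le]
    rintro _ ⟨β, hβ, rfl⟩
    exact ⟨⟨monomial β 1, hG β hβ⟩, h β hβ, rfl⟩
  ext x
  have hx : x.1 ∈ Ideal.span ((fun β => monomial β (1:k)) '' (G : Set (σ →₀ ℕ))) := by
    rw [← hspan]; exact x.2
  obtain ⟨y, hy, hyx⟩ := hle hx
  have hyx' : y = x := Subtype.ext hyx
  rw [← hyx']
  exact hy

open Classical in
/-- polynomial representative of the value of `φ` on a monomial -/
noncomputable def P (φ : Tgt I) (β : σ →₀ ℕ) : MvPolynomial σ k :=
  if h : monomial β (1:k) ∈ I then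
    Function.surjInv Ideal.Quotient.mk_surjective (φ ⟨monomial β 1, h⟩) else 0

lemma mk_P (φ : Tgt I) (β : σ →₀ ℕ) (hβ : monomial β (1:k) ∈ I) :
    Ideal.Quotient.mk I (P φ β) = φ ⟨monomial β 1, hβ⟩ := by
  unfold P
  rw [dif_pos hβ]
  exact Function.surjInv_eq _ _

lemma coeff_eq_of_mk_eq (hI : IsMonomial I) {p p' : MvPolynomial σ k}
    (h : Ideal.Quotient.mk I p = Ideal.Quotient.mk I p') {γ : σ →₀ ℕ} (hγ : γ ∉ exps I) :
    coeff γ p = coeff γ p' := by
  rw [Ideal.Quotient.eq] at h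
  by_contra hne
  apply hγ
  apply hI _ h
  rw [mem_support_iff, coeff_sub]
  exact sub_ne_zero.mpr hne

open Classical in
/-- the coefficient function of the `α`-component of `φ` -/
noncomputable def Fc' (φ : Tgt I) (α : σ → ℤ) (β : σ →₀ ℕ) : k :=
  if (monomial β (1:k) ∈ I ∧ ∀ i, 0 ≤ (β i : ℤ) + α i) then coeff (shift β α) (P φ β) else 0

noncomputable def Fc (φ : Tgt I) (α : σ → ℤ) : (σ → ℤ) → k := fun γ => Fc' φ α (bOf α γ)

lemma Fc_pt (φ : Tgt I) (α : σ → ℤ) (β : σ →₀ ℕ) : Fc φ α (pt α β) = Fc' φ α β := by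
  show Fc' φ α (bOf α (pt α β)) = _
  rw [bOf_pt]

lemma Fc'_step (hI : IsMonomial I) (φ : Tgt I) (α : σ → ℤ) {β : σ →₀ ℕ} (hβ : β ∈ exps I) (i : σ)
    (hr' : pt α (β + Finsupp.single i 1) ∈ region I α) :
    Fc' φ α β = Fc' φ α (β + Finsupp.single i 1) := by
  classical
  have hβ' : β + Finsupp.single i 1 ∈ exps I := exps_add hβ _
  by_cases h' : ∀ j, 0 ≤ (((β + Finsupp.single i 1 : σ →₀ ℕ) j : ℕ) : ℤ) + α j
  · have hnotin : shift (β + Finsupp.single i 1) α ∉ exps I :=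
      fun h => (mem_region_pt hβ').mp hr' ⟨h', h⟩
    have hmk : Ideal.Quotient.mk I (P φ (β + Finsupp.single i 1)) =
        Ideal.Quotient.mk I (monomial (Finsupp.single i 1) 1 * P φ β) := by
      rw [mk_P φ _ hβ', map_mul, mk_P φ _ hβ, map_monomial_add φ hβ (Finsupp.single i 1) hβ']
    have hc := coeff_eq_of_mk_eq hI hmk hnotin
    rw [coeff_monomial_mul', one_mul] at hc
    have lhs : Fc' φ α (β + Finsupp.single i 1) =
        coeff (shift (β + Finsupp.single i 1) α) (P φ (β + Finsupp.single i 1)) := by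
      unfold Fc'
      rw [if_pos ⟨hβ', h'⟩]
    rw [lhs, hc]
    by_cases h : ∀ j, 0 ≤ (β j : ℤ) + α j
    · have hs := shift_add_of_nonneg α (Finsupp.single i 1) h
      rw [hs, if_pos le_add_self, add_tsub_cancel_right]
      unfold Fc'
      rw [if_pos ⟨hβ, h⟩]
    · push Not at h
      obtain ⟨j, hj⟩ := h
      have h'j := h' j
      simp only [Finsupp.add_apply, Finsupp.single_apply, Nat.cast_add] at h'j
      have hij : i = j := by
        by_contra hne
        rw [if_neg hne] at h'j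
        simp only [Nat.cast_zero, add_zero] at h'j
        omega
      subst hij
      rw [if_pos rfl] at h'j
      have hnle : ¬ (Finsupp.single i 1 ≤ shift (β + Finsupp.single i 1) α) := by
        rw [Finsupp.single_le_iff, shift_apply]
        simp only [Finsupp.add_apply, Finsupp.single_eq_same, Nat.cast_add, Nat.cast_one] at h'j ⊢
        omega
      rw [if_neg hnle]
      unfold Fc'
      rw [if_neg (fun hh => absurd (hh.2 i) (not_le.mpr hj))]
  · have h : ¬ ∀ j, 0 ≤ (β j : ℤ) + α j := fun h => h' (fun j => by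
      have := h j
      simp only [Finsupp.add_apply, Nat.cast_add]
      omega)
    unfold Fc'
    rw [if_neg (fun hh => h hh.2), if_neg (fun hh => h' hh.2)]

lemma good_Fc (hI : IsMonomial I) (φ : Tgt I) (α : σ → ℤ) : Good I α (Fc φ α) := by
  constructor
  · rintro γ γ' ⟨⟨β, hβ, rfl⟩, hn⟩ ⟨⟨β', hβ', rfl⟩, hn'⟩ hadj
    have hr : pt α β ∈ region I α := ⟨⟨β, hβ, rfl⟩, hn⟩
    have hr' : pt α β' ∈ region I α := ⟨⟨β', hβ', rfl⟩, hn'⟩
    show Fc φ α (pt α β) = Fc φ α (pt α β')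
    rw [Fc_pt, Fc_pt]
    obtain ⟨i, hi | hi⟩ := adj_pt_cases α hadj
    · subst hi
      exact Fc'_step hI φ α hβ i hr'
    · subst hi
      exact (Fc'_step hI φ α hβ' i hr).symm
  · rintro γ ⟨⟨β, hβ, rfl⟩, hn⟩ ⟨i, hi⟩
    show Fc φ α (pt α β) = 0
    rw [Fc_pt]
    unfold Fc'
    rw [if_neg (fun hh => absurd (hh.2 i) (not_le.mpr hi))]

/-- the `α`-component of `φ` -/
noncomputable def comp (hI : IsMonomial I) (φ : Tgt I) (α : σ → ℤ) : Tgt I :=
  mkTgt hI (Fc φ α) (good_Fc hI φ α)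

lemma comp_mem (hI : IsMonomial I) (φ : Tgt I) (α : σ → ℤ) : comp hI φ α ∈ tPiece I α :=
  mkTgt_mem hI (Fc φ α) (good_Fc hI φ α)

lemma comp_apply (hI : IsMonomial I) (φ : Tgt I) (α : σ → ℤ) (β : σ →₀ ℕ)
    (hβ : monomial β (1:k) ∈ I) : comp hI φ α ⟨monomial β 1, hβ⟩ =
      Fc' φ α β • Ideal.Quotient.mk I (monomial (shift β α) (1:k)) := by
  unfold comp
  rw [mkTgt_apply]
  unfold gF
  rw [Fc_pt]

/-- every tangent vector is a finite sum of its multigraded components -/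
theorem exists_decomp (hI : IsMonomial I) (φ : Tgt I) :
    ∃ A : Finset (σ → ℤ), φ = ∑ α ∈ A, comp hI φ α := by
  classical
  obtain ⟨G, hG, hspan⟩ := exists_finset_gens hI
  obtain ⟨ι, hι⟩ : ∃ ι : (σ →₀ ℕ) → (σ →₀ ℕ) → (σ → ℤ),
      ι = fun β γ i => (γ i : ℤ) - β i := ⟨_, rfl⟩
  refine ⟨G.biUnion (fun β => (P φ β).support.image (ι β)), ?_⟩
  apply ext_gens G hG hspan
  intro β hβG
  have hβ := hG β hβG
  rw [LinearMap.sum_apply]
  have hcomp : ∀ a ∈ G.biUnion (fun β => (P φ β).support.image (ι β)),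
      comp hI φ a ⟨monomial β 1, hβ⟩ =
        Fc' φ a β • Ideal.Quotient.mk I (monomial (shift β a) (1:k)) :=
    fun a _ => comp_apply hI φ a β hβ
  rw [Finset.sum_congr rfl hcomp, ← mk_P φ β hβ]
  have hexp : Ideal.Quotient.mk I (P φ β) = ∑ γ ∈ (P φ β).support,
      coeff γ (P φ β) • Ideal.Quotient.mk I (monomial γ (1:k)) := by
    conv_lhs => rw [← support_sum_monomial_coeff (P φ β)]
    rw [map_sum]
    apply Finset.sum_congr rfl
    intro γ _
    exact mk_monomial_smul γ _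
  rw [hexp]
  have hpt : ∀ γ, Fc' φ (ι β γ) β • Ideal.Quotient.mk I (monomial (shift β (ι β γ)) (1:k)) =
      coeff γ (P φ β) • Ideal.Quotient.mk I (monomial γ (1:k)) := by
    intro γ
    have hs : shift β (ι β γ) = γ := by
      ext i
      simp [shift_apply, hι]
    have hc : (monomial β (1:k) ∈ I ∧ ∀ i, 0 ≤ (β i : ℤ) + ι β γ i) :=
      ⟨hβ, fun i => by simp [hι]⟩
    unfold Fc'
    rw [if_pos hc, hs]
  have hinj : ∀ γ ∈ (P φ β).support, ∀ γ' ∈ (P φ β).support, ι β γ = ι β γ' → γ = γ' := by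
    intro γ _ γ' _ h
    ext i
    have := congrFun h i
    simp only [hι] at this
    omega
  have hsub : (P φ β).support.image (ι β) ⊆ G.biUnion (fun β => (P φ β).support.image (ι β)) :=
    Finset.subset_biUnion_of_mem (fun β => (P φ β).support.image (ι β)) hβG
  have hzero : ∀ a ∈ G.biUnion (fun β => (P φ β).support.image (ι β)),
      a ∉ (P φ β).support.image (ι β) →
      Fc' φ a β • Ideal.Quotient.mk I (monomial (shift β a) (1:k)) = 0 := by
    intro a _ ha
    unfold Fc'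
    split_ifs with hc
    · have hs : ι β (shift β a) = a := by
        funext i
        have := hc.2 i
        simp only [hι, shift_apply]
        omega
      have hns : shift β a ∉ (P φ β).support :=
        fun hmem => ha (Finset.mem_image.mpr ⟨_, hmem, hs⟩)
      rw [notMem_support_iff.mp hns, zero_smul]
    · rw [zero_smul]
  rw [← Finset.sum_subset hsub hzero, Finset.sum_image hinj]
  exact Finset.sum_congr rfl (fun γ _ => (hpt γ).symm)

/-- the tangent space is spanned by its multigraded pieces -/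
theorem iSup_tPiece_eq_top (hI : IsMonomial I) : (⨆ α : σ → ℤ, tPiece I α) = ⊤ := by
  rw [eq_top_iff]
  intro φ _
  obtain ⟨A, hA⟩ := exists_decomp hI φ
  rw [hA]
  apply Submodule.sum_mem
  intro α _
  exact le_iSup (fun α : σ → ℤ => tPiece I α) α (comp_mem hI φ α)

theorem s13434 (k : Type u) [Field k] [Infinite k]
    (n : ℕ) (hn : 2 ≤ n) (I : Ideal (MvPolynomial (Fin n) k)) (hI : IsMonomial I)
    [Module.Finite k (MvPolynomial (Fin n) k ⧸ I)] :
    (∀ α : Fin n → ℤ, ((∀ i, 0 ≤ α i) ∨ (∀ i, α i < 0)) → tPiece I α = ⊥) ∧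
      (⨆ N : {N : Set (Fin n) // N.Nonempty ∧ N ≠ Set.univ}, sigPiece I N.1) = ⊤ := by
  haveI : Nontrivial (Fin n) := Fin.nontrivial_iff_two_le.mpr hn
  have ha : ∀ α : Fin n → ℤ, ((∀ i, 0 ≤ α i) ∨ (∀ i, α i < 0)) → tPiece I α = ⊥ := by
    rintro α (h | h)
    · exact tPiece_eq_bot_of_nonneg hI h
    · exact tPiece_eq_bot_of_neg hI h
  refine ⟨ha, ?_⟩
  rw [eq_top_iff]
  intro φ _
  obtain ⟨A, hA⟩ := exists_decomp hI φ
  rw [hA]
  apply Submodule.sum_mem
  intro α _
  have hmem := comp_mem hI φ α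
  by_cases h1 : ∀ i, 0 ≤ α i
  · rw [ha α (Or.inl h1), Submodule.mem_bot] at hmem
    rw [hmem]
    exact Submodule.zero_mem _
  by_cases h2 : ∀ i, α i < 0
  · rw [ha α (Or.inr h2), Submodule.mem_bot] at hmem
    rw [hmem]
    exact Submodule.zero_mem _
  push Not at h1 h2
  obtain ⟨i1, hi1⟩ := h1
  obtain ⟨i2, hi2⟩ := h2
  have hN : ({i | α i < 0} : Set (Fin n)).Nonempty ∧ ({i | α i < 0} : Set (Fin n)) ≠ Set.univ :=
    ⟨⟨i1, hi1⟩, fun h => by
      have : i2 ∈ ({i | α i < 0} : Set (Fin n)) := h ▸ Set.mem_univ i2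
      exact absurd this (not_lt.mpr hi2)⟩
  have hle1 : tPiece I α ≤ sigPiece I {i | α i < 0} :=
    le_iSup (fun a : {a : Fin n → ℤ // ∀ i, a i < 0 ↔ i ∈ ({i | α i < 0} : Set (Fin n))} =>
      tPiece I a.1) ⟨α, fun i => Iff.rfl⟩
  have hle2 := le_iSup (fun N : {N : Set (Fin n) // N.Nonempty ∧ N ≠ Set.univ} =>
    sigPiece I N.1) ⟨_, hN⟩
  exact hle2 (hle1 hmem)

end Groth.Agent.Lib.Helper24TgtPiece
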