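import Mathlib
import Groth.Prelude.Def_W4c1hilbpnTgt
import Groth.Agent.Lib.Helper20Monomial
import Groth.Agent.Lib.Helper24TgtPiece
import Groth.Agent.Lib.Helper24TgtPiece2
import Groth.Agent.Lib.Helper24TgtPiece3
import Groth.Agent.Lib.Helper24TgtPiece4

set_option autoImplicit false
universe u

namespace Groth.Agent.Lib.Helper24TgtPiece

open W4c1hilbpn MvPolynomial

variable {σ : Type*} {k : Type*} [Field k] [Fintype σ]
variable {I : Ideal (MvPolynomial σ k)}

/-- the tangent space of a monomial ideal of finite colength is finite dimensional -/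
lemma finite_Tgt (hI : IsMonomial I) [Module.Finite k (MvPolynomial σ k ⧸ I)] :
    Module.Finite k (Tgt I) := by
  classical
  obtain ⟨G, hG, hspan⟩ := exists_finset_gens hI
  let ev : Tgt I →ₗ[k] (↥G → MvPolynomial σ k ⧸ I) :=
    { toFun := fun φ b => φ ⟨monomial b.1 1, hG b.1 b.2⟩
      map_add' := fun φ ψ => by funext b; rfl
      map_smul' := fun c φ => by funext b; rfl }
  have hinj : Function.Injective ev := by
    intro φ ψ h
    apply ext_gens G hG hspan
    intro β hβ
    exact congrFun h ⟨β, hβ⟩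
  exact Module.Finite.of_injective ev hinj

lemma Fc'_add (hI : IsMonomial I) (φ ψ : Tgt I) (α : σ → ℤ) (β : σ →₀ ℕ)
    (hns : shift β α ∉ exps I) :
    Fc' (φ + ψ) α β = Fc' φ α β + Fc' ψ α β := by
  unfold Fc'
  split_ifs with hc
  · have hmk : Ideal.Quotient.mk I (P (φ + ψ) β) = Ideal.Quotient.mk I (P φ β + P ψ β) := by
      rw [map_add, mk_P _ β hc.1, mk_P _ β hc.1, mk_P _ β hc.1, LinearMap.add_apply]
    rw [coeff_eq_of_mk_eq hI hmk hns, coeff_add]
  · rw [add_zero]

lemma Fc'_smul (hI : IsMonomial I) (c : k) (φ : Tgt I) (α : σ → ℤ) (β : σ →₀ ℕ)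
    (hns : shift β α ∉ exps I) :
    Fc' (c • φ) α β = c * Fc' φ α β := by
  unfold Fc'
  split_ifs with hc
  · have hmk : Ideal.Quotient.mk I (P (c • φ) β) = Ideal.Quotient.mk I (c • P φ β) := by
      rw [mk_P _ β hc.1, LinearMap.smul_apply, ← mk_P φ β hc.1, ← Ideal.Quotient.mkₐ_eq_mk k,
        map_smul]
    rw [coeff_eq_of_mk_eq hI hmk hns, coeff_smul, smul_eq_mul]
  · rw [mul_zero]

/-- the projection to the `α`-component, as a linear map -/
noncomputable def compL (hI : IsMonomial I) (α : σ → ℤ) : Tgt I →ₗ[k] Tgt I where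
  toFun φ := comp hI φ α
  map_add' φ ψ := by
    apply ext_monomial hI
    intro β hβ
    rw [LinearMap.add_apply, comp_apply, comp_apply, comp_apply, ← add_smul]
    by_cases hns : shift β α ∈ exps I
    · rw [mk_monomial_eq_zero.mpr hns, smul_zero, smul_zero]
    · rw [Fc'_add hI φ ψ α β hns]
  map_smul' c φ := by
    apply ext_monomial hI
    intro β hβ
    rw [RingHom.id_apply, LinearMap.smul_apply, comp_apply, comp_apply, smul_smul]
    by_cases hns : shift β α ∈ exps I
    · rw [mk_monomial_eq_zero.mpr hns, smul_zero, smul_zero]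
    · rw [Fc'_smul hI c φ α β hns]

lemma compL_apply (hI : IsMonomial I) (α : σ → ℤ) (φ : Tgt I) : compL hI α φ = comp hI φ α := rfl

/-- the projection is the identity on the `α`-piece -/
lemma compL_of_mem (hI : IsMonomial I) {α : σ → ℤ} {ψ : Tgt I} (hψ : ψ ∈ tPiece I α) :
    compL hI α ψ = ψ := by
  classical
  rw [compL_apply]
  apply ext_monomial hI
  intro β hβ
  rw [comp_apply]
  by_cases hnn : ∀ i, 0 ≤ (β i : ℤ) + α i
  · obtain ⟨c, hc⟩ := Submodule.mem_span_singleton.mp ((hψ β hβ).1 hnn)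
    by_cases hns : shift β α ∈ exps I
    · rw [← hc, mk_monomial_eq_zero.mpr hns, smul_zero, smul_zero]
    · have hmk : Ideal.Quotient.mk I (P ψ β) = Ideal.Quotient.mk I (monomial (shift β α) c) := by
        rw [mk_P ψ β hβ, mk_monomial_smul, hc]
      have h1 : Fc' ψ α β = c := by
        unfold Fc'
        rw [if_pos ⟨hβ, hnn⟩, coeff_eq_of_mk_eq hI hmk hns, coeff_monomial, if_pos rfl]
      rw [h1, hc]
  · have h1 : Fc' ψ α β = 0 := by
      unfold Fc'
      rw [if_neg (fun h => hnn h.2)]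
    push Not at hnn
    rw [h1, zero_smul, (hψ β hβ).2 hnn]

/-- the projection kills the other pieces -/
lemma compL_of_mem_ne (hI : IsMonomial I) {α α' : σ → ℤ} (hne : α' ≠ α) {ψ : Tgt I}
    (hψ : ψ ∈ tPiece I α') : compL hI α ψ = 0 := by
  classical
  rw [compL_apply]
  apply ext_monomial hI
  intro β hβ
  rw [comp_apply, LinearMap.zero_apply]
  by_cases hnn : ∀ i, 0 ≤ (β i : ℤ) + α i
  · by_cases hns : shift β α ∈ exps I
    · rw [mk_monomial_eq_zero.mpr hns, smul_zero]
    · have h1 : Fc' ψ α β = 0 := by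
        unfold Fc'
        rw [if_pos ⟨hβ, hnn⟩]
        by_cases hnn' : ∀ i, 0 ≤ (β i : ℤ) + α' i
        · obtain ⟨c, hc⟩ := Submodule.mem_span_singleton.mp ((hψ β hβ).1 hnn')
          have hmk : Ideal.Quotient.mk I (P ψ β) =
              Ideal.Quotient.mk I (monomial (shift β α') c) := by
            rw [mk_P ψ β hβ, mk_monomial_smul, hc]
          rw [coeff_eq_of_mk_eq hI hmk hns, coeff_monomial, if_neg]
          intro heq
          apply hne
          funext i
          have h2 := DFunLike.congr_fun heq i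
          rw [shift_apply, shift_apply] at h2
          have h3 := hnn i
          have h4 := hnn' i
          omega
        · push Not at hnn'
          have hmk : Ideal.Quotient.mk I (P ψ β) = Ideal.Quotient.mk I 0 := by
            rw [mk_P ψ β hβ, (hψ β hβ).2 hnn', map_zero]
          rw [coeff_eq_of_mk_eq hI hmk hns, coeff_zero]
      rw [h1, zero_smul]
  · have h1 : Fc' ψ α β = 0 := by
      unfold Fc'
      rw [if_neg (fun h => hnn h.2)]
    rw [h1, zero_smul]

lemma disjoint_tPiece_biSup (hI : IsMonomial I) (A : Finset (σ → ℤ)) (α₀ : σ → ℤ)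
    (hα₀ : α₀ ∉ A) : Disjoint (tPiece I α₀) (⨆ α ∈ A, tPiece I α) := by
  rw [Submodule.disjoint_def]
  intro φ h1 h2
  have e1 : compL hI α₀ φ = φ := compL_of_mem hI h1
  have hle : (⨆ α ∈ A, tPiece I α) ≤ LinearMap.ker (compL hI α₀) := by
    apply iSup₂_le
    intro α hα ψ hψ
    rw [LinearMap.mem_ker]
    exact compL_of_mem_ne hI (fun h : α = α₀ => hα₀ (by rw [← h]; exact hα)) hψ
  have e2 : compL hI α₀ φ = 0 := LinearMap.mem_ker.mp (hle h2)
  rw [← e1, e2]

/-- dimensions of distinct graded pieces add up -/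
theorem finrank_biSup_tPiece (hI : IsMonomial I) [Module.Finite k (MvPolynomial σ k ⧸ I)]
    (A : Finset (σ → ℤ)) :
    Module.finrank k ↥(⨆ α ∈ A, tPiece I α) = ∑ α ∈ A, Module.finrank k ↥(tPiece I α) := by
  classical
  haveI := finite_Tgt hI
  induction A using Finset.induction_on with
  | empty => simp
  | insert α₀ A hα₀ ih =>
    rw [Finset.iSup_insert, Finset.sum_insert hα₀, ← ih]
    have h := Submodule.finrank_sup_add_finrank_inf_eq (tPiece I α₀) (⨆ α ∈ A, tPiece I α)
    rw [(disjoint_tPiece_biSup hI A α₀ hα₀).eq_bot, finrank_bot, add_zero] at h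
    exact h

lemma iSup_subtype_eq_biSup (P : (σ → ℤ) → Prop) (A : Finset (σ → ℤ)) (hA : ∀ α ∈ A, P α)
    (hbot : ∀ α, P α → α ∉ A → tPiece I α = ⊥) :
    (⨆ α : {α // P α}, tPiece I α.1) = ⨆ α ∈ A, tPiece I α := by
  apply le_antisymm
  · apply iSup_le
    rintro ⟨α, hα⟩
    by_cases h : α ∈ A
    · exact le_iSup₂_of_le α h le_rfl
    · rw [hbot α hα h]
      exact bot_le
  · apply iSup₂_le
    intro α hα
    exact le_iSup (fun a : {α // P α} => tPiece I a.1) ⟨α, hA α hα⟩

end Groth.Agent.Lib.Helper24TgtPiece
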