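import Mathlib
import Groth.Prelude.Def_W4c1hilbpnTgt
import Groth.Agent.Lib.Helper20Monomial
import Groth.Agent.Lib.Helper24TgtPiece
import Groth.Agent.Lib.Helper24TgtPiece2
import Groth.Agent.Lib.Helper24TgtPiece3
import Groth.Agent.Lib.Helper24TgtPiece4
import Groth.Agent.Lib.Helper24TgtPiece7

set_option autoImplicit false
universe u

namespace Groth.Agent.Lib.Helper24GenV

open W4c1hilbpn MvPolynomial Groth.Agent.Lib.Helper24TgtPiece

variable {σ : Type*} [Fintype σ] {k : Type*} [Field k] {ι : Type*}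

variable (k) in
/-- the monomial ideal generated by the monomials with exponents `g i` -/
noncomputable def MI (g : ι → σ →₀ ℕ) : Ideal (MvPolynomial σ k) :=
  Ideal.span ((fun β => monomial β (1:k)) '' (Set.range g))

lemma mem_MI_iff (g : ι → σ →₀ ℕ) (p : MvPolynomial σ k) :
    p ∈ MI k g ↔ ∀ β ∈ p.support, ∃ i, g i ≤ β := by
  unfold MI
  rw [mem_ideal_span_monomial_image]
  apply forall₂_congr
  intro β _
  constructor
  · rintro ⟨s, ⟨i, rfl⟩, hle⟩
    exact ⟨i, hle⟩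
  · rintro ⟨i, hle⟩
    exact ⟨g i, ⟨i, rfl⟩, hle⟩

lemma mem_exps_MI (g : ι → σ →₀ ℕ) (β : σ →₀ ℕ) :
    β ∈ exps (MI k g) ↔ ∃ i, g i ≤ β := by
  classical
  show monomial β (1:k) ∈ MI k g ↔ _
  rw [mem_MI_iff, support_monomial, if_neg one_ne_zero]
  simp only [Finset.mem_singleton, forall_eq]

lemma isMonomial_MI (g : ι → σ →₀ ℕ) : IsMonomial (MI k g) := by
  intro p hp β hβ
  exact (mem_exps_MI g β).mpr ((mem_MI_iff g p).mp hp β hβ)

lemma gen_mem (g : ι → σ →₀ ℕ) (i : ι) : monomial (g i) (1:k) ∈ MI k g :=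
  (mem_exps_MI g (g i)).mpr ⟨i, le_rfl⟩

/-- nonnegativity of `γ + α` -/
def nn (γ : σ →₀ ℕ) (α : σ → ℤ) : Prop := ∀ x, 0 ≤ (γ x : ℤ) + α x

/-- standard monomials -/
def Std (g : ι → σ →₀ ℕ) (γ : σ →₀ ℕ) : Prop := ∀ i, ¬ g i ≤ γ

lemma std_iff (g : ι → σ →₀ ℕ) (γ : σ →₀ ℕ) : Std g γ ↔ γ ∉ exps (MI k g) := by
  rw [mem_exps_MI]
  unfold Std
  push Not
  rfl

/-- active generators -/
def Act (g : ι → σ →₀ ℕ) (α : σ → ℤ) (i : ι) : Prop := nn (g i) α ∧ Std g (shift (g i) α)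

lemma nn_of_le {γ γ' : σ →₀ ℕ} {α : σ → ℤ} (h : γ ≤ γ') (hn : nn γ α) : nn γ' α := by
  intro x
  have h1 := hn x
  have h2 : (γ x : ℤ) ≤ γ' x := by exact_mod_cast h x
  omega

lemma shift_le_shift {γ γ' : σ →₀ ℕ} {α : σ → ℤ} (h : γ ≤ γ') : shift γ α ≤ shift γ' α := by
  intro x
  rw [shift_apply, shift_apply]
  have h2 : (γ x : ℤ) ≤ γ' x := by exact_mod_cast h x
  omega

lemma std_of_le {g : ι → σ →₀ ℕ} {γ γ' : σ →₀ ℕ} (h : γ ≤ γ') (hs : Std g γ') : Std g γ :=
  fun i hi => hs i (le_trans hi h)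

variable (k) in
/-- the space of coefficient functions on the generators -/
def V (g : ι → σ →₀ ℕ) (α : σ → ℤ) : Submodule k (ι → k) where
  carrier := {c | (∀ i, ¬ Act g α i → c i = 0) ∧
    ∀ i j γ, g i ≤ γ → g j ≤ γ → nn γ α → Std g (shift γ α) → c i = c j}
  zero_mem' := ⟨fun _ _ => rfl, fun _ _ _ _ _ _ _ => rfl⟩
  add_mem' := by
    rintro c d ⟨hc1, hc2⟩ ⟨hd1, hd2⟩
    refine ⟨fun i hi => ?_, fun i j γ h1 h2 h3 h4 => ?_⟩
    · simp only [Pi.add_apply, hc1 i hi, hd1 i hi, add_zero]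
    · simp only [Pi.add_apply, hc2 i j γ h1 h2 h3 h4, hd2 i j γ h1 h2 h3 h4]
  smul_mem' := by
    rintro r c ⟨hc1, hc2⟩
    refine ⟨fun i hi => ?_, fun i j γ h1 h2 h3 h4 => ?_⟩
    · simp only [Pi.smul_apply, hc1 i hi, smul_zero]
    · simp only [Pi.smul_apply, hc2 i j γ h1 h2 h3 h4]

lemma mem_V {g : ι → σ →₀ ℕ} {α : σ → ℤ} {c : ι → k} : c ∈ V k g α ↔
    (∀ i, ¬ Act g α i → c i = 0) ∧
    ∀ i j γ, g i ≤ γ → g j ≤ γ → nn γ α → Std g (shift γ α) → c i = c j := Iff.rfl

section toV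

variable (g : ι → σ →₀ ℕ) (α : σ → ℤ)

/-- value of an element of the graded piece on a monomial -/
lemma value_eq {φ : Tgt (MI k g)} (hφ : φ ∈ tPiece (MI k g) α) (β : σ →₀ ℕ)
    (hβ : monomial β (1:k) ∈ MI k g) :
    φ ⟨monomial β 1, hβ⟩ =
      Fc' φ α β • Ideal.Quotient.mk (MI k g) (monomial (shift β α) (1:k)) := by
  have h1 := compL_of_mem (isMonomial_MI g) hφ
  rw [compL_apply] at h1
  conv_lhs => rw [← h1]
  exact comp_apply (isMonomial_MI g) φ α β hβ

lemma Fc'_const (φ : Tgt (MI k g)) {β : σ →₀ ℕ} (hβ : β ∈ exps (MI k g)) (δ : σ →₀ ℕ)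
    (hr : pt α (β + δ) ∈ region (MI k g) α) : Fc' φ α β = Fc' φ α (β + δ) := by
  have h := path (good_Fc (isMonomial_MI g) φ α) δ β hβ hr
  rwa [Fc_pt, Fc_pt] at h

lemma Fc'_of_not_nn (φ : Tgt (MI k g)) {β : σ →₀ ℕ} (h : ¬ nn β α) : Fc' φ α β = 0 := by
  unfold Fc'
  rw [if_neg (fun hh => h hh.2)]

lemma region_of_std {γ : σ →₀ ℕ} (hγ : γ ∈ exps (MI k g)) (hs : Std g (shift γ α)) :
    pt α γ ∈ region (MI k g) α := by
  rw [mem_region_pt hγ]
  rintro ⟨_, h2⟩
  exact (std_iff (k := k) g _).mp hs h2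

open Classical in
/-- the coefficient map -/
noncomputable def toV : ↥(tPiece (MI k g) α) →ₗ[k] (ι → k) where
  toFun φ i := if Act g α i then Fc' φ.1 α (g i) else 0
  map_add' φ ψ := by
    funext i
    simp only [Pi.add_apply]
    split_ifs with h
    · exact Fc'_add (isMonomial_MI g) φ.1 ψ.1 α (g i) ((std_iff (k := k) g _).mp h.2)
    · rw [add_zero]
  map_smul' r φ := by
    funext i
    simp only [Pi.smul_apply, RingHom.id_apply, smul_eq_mul]
    split_ifs with h
    · exact Fc'_smul (isMonomial_MI g) r φ.1 α (g i) ((std_iff (k := k) g _).mp h.2)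
    · rw [mul_zero]

lemma toV_apply (φ : ↥(tPiece (MI k g) α)) (i : ι) :
    toV g α φ i = Fc' φ.1 α (g i) ∨ (¬ Act g α i ∧ toV g α φ i = 0) := by
  classical
  by_cases h : Act g α i
  · left
    show (if Act g α i then Fc' φ.1 α (g i) else 0) = _
    rw [if_pos h]
  · right
    refine ⟨h, ?_⟩
    show (if Act g α i then Fc' φ.1 α (g i) else 0) = _
    rw [if_neg h]

lemma toV_of_act (φ : ↥(tPiece (MI k g) α)) {i : ι} (h : Act g α i) :
    toV g α φ i = Fc' φ.1 α (g i) := by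
  classical
  show (if Act g α i then Fc' φ.1 α (g i) else 0) = _
  rw [if_pos h]

lemma toV_of_not_act (φ : ↥(tPiece (MI k g) α)) {i : ι} (h : ¬ Act g α i) :
    toV g α φ i = 0 := by
  classical
  show (if Act g α i then Fc' φ.1 α (g i) else 0) = _
  rw [if_neg h]

lemma ext_MI {M : Type*} [AddCommGroup M] [Module (MvPolynomial σ k) M]
    (φ ψ : ↥(MI k g) →ₗ[MvPolynomial σ k] M)
    (h : ∀ i, φ ⟨monomial (g i) 1, gen_mem g i⟩ = ψ ⟨monomial (g i) 1, gen_mem g i⟩) : φ = ψ := by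
  have hle : MI k g ≤ Submodule.map (MI k g).subtype (LinearMap.eqLocus φ ψ) := by
    unfold MI
    rw [Ideal.span_le]
    rintro _ ⟨β, ⟨i, rfl⟩, rfl⟩
    exact ⟨⟨monomial (g i) 1, gen_mem g i⟩, h i, rfl⟩
  ext x
  obtain ⟨y, hy, hyx⟩ := hle x.2
  have hyx' : y = x := Subtype.ext hyx
  rw [← hyx']
  exact hy

lemma toV_injective : Function.Injective (toV (k := k) g α) := by
  classical
  rw [injective_iff_map_eq_zero]
  intro φ hφ
  apply Subtype.ext
  show φ.1 = 0
  apply ext_MI g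
  intro i
  rw [LinearMap.zero_apply, value_eq g α φ.2 (g i) (gen_mem g i)]
  by_cases hn : nn (g i) α
  · by_cases hs : Std g (shift (g i) α)
    · have h1 := toV_of_act g α φ ⟨hn, hs⟩
      rw [hφ] at h1
      rw [← h1]
      simp
    · rw [std_iff (k := k)] at hs
      push Not at hs
      rw [mk_monomial_eq_zero.mpr hs, smul_zero]
  · rw [Fc'_of_not_nn g α φ.1 hn, zero_smul]

lemma toV_mem (φ : ↥(tPiece (MI k g) α)) : toV g α φ ∈ V k g α := by
  classical
  refine ⟨fun i hi => toV_of_not_act g α φ hi, ?_⟩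
  intro i j γ hi hj hn hs
  have hγ : γ ∈ exps (MI k g) := (mem_exps_MI g γ).mpr ⟨i, hi⟩
  have hr := region_of_std g α hγ hs
  obtain ⟨δi, rfl⟩ : ∃ δ, γ = g i + δ := ⟨γ - g i, (add_tsub_cancel_of_le hi).symm⟩
  have e1 : Fc' φ.1 α (g i) = Fc' φ.1 α (g i + δi) :=
    Fc'_const g α φ.1 ((mem_exps_MI g _).mpr ⟨i, le_rfl⟩) δi hr
  obtain ⟨δj, hδj⟩ : ∃ δ, g i + δi = g j + δ := ⟨g i + δi - g j, (add_tsub_cancel_of_le hj).symm⟩
  have e2 : Fc' φ.1 α (g j) = Fc' φ.1 α (g i + δi) := by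
    rw [hδj]
    rw [hδj] at hr
    exact Fc'_const g α φ.1 ((mem_exps_MI g _).mpr ⟨j, le_rfl⟩) δj hr
  have key : ∀ l : ι, g l ≤ g i + δi → Fc' φ.1 α (g l) = Fc' φ.1 α (g i + δi) →
      toV g α φ l = Fc' φ.1 α (g i + δi) := by
    intro l hl el
    by_cases hnl : nn (g l) α
    · have hsl : Std g (shift (g l) α) := std_of_le (shift_le_shift hl) hs
      rw [toV_of_act g α φ ⟨hnl, hsl⟩, el]
    · rw [toV_of_not_act g α φ (fun h => hnl h.1), ← el, Fc'_of_not_nn g α φ.1 hnl]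
  rw [key i hi e1, key j hj e2]

end toV

section surj

variable (g : ι → σ →₀ ℕ) (α : σ → ℤ)

open Classical in
/-- the function on lattice points attached to a coefficient function -/
noncomputable def FofC (c : ι → k) : (σ → ℤ) → k := fun γ' =>
  if h : (∀ x, 0 ≤ γ' x) ∧ ∃ i, g i ≤ bOf α γ' then c (Classical.choose h.2) else 0

lemma FofC_of_not_nn (c : ι → k) {β : σ →₀ ℕ} (h : ¬ nn β α) : FofC g α c (pt α β) = 0 := by
  classical
  unfold FofC
  rw [dif_neg]
  rintro ⟨h1, _⟩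
  exact h h1

lemma FofC_pt {c : ι → k} (hc : c ∈ V k g α) {β : σ →₀ ℕ} (hn : nn β α)
    (hs : Std g (shift β α)) {i : ι} (hi : g i ≤ β) : FofC g α c (pt α β) = c i := by
  classical
  unfold FofC
  have hex : ∃ i, g i ≤ bOf α (pt α β) := ⟨i, by rw [bOf_pt]; exact hi⟩
  have h : (∀ x, 0 ≤ pt α β x) ∧ ∃ i, g i ≤ bOf α (pt α β) := ⟨hn, hex⟩
  rw [dif_pos h]
  have h2 : g (Classical.choose h.2) ≤ β := by
    have := Classical.choose_spec h.2
    simpa only [bOf_pt] using this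
  exact hc.2 _ _ β h2 hi hn hs

lemma good_FofC {c : ι → k} (hc : c ∈ V k g α) : Good (MI k g) α (FofC g α c) := by
  classical
  have step : ∀ β, β ∈ exps (MI k g) → ∀ x : σ, pt α β ∈ region (MI k g) α →
      pt α (β + Finsupp.single x 1) ∈ region (MI k g) α →
      FofC g α c (pt α β) = FofC g α c (pt α (β + Finsupp.single x 1)) := by
    intro β hβ x hr hr'
    have hβ' : β + Finsupp.single x 1 ∈ exps (MI k g) := exps_add hβ _
    have hle : β ≤ β + Finsupp.single x 1 := le_self_add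
    obtain ⟨i1, hi1⟩ := (mem_exps_MI g β).mp hβ
    by_cases hn' : nn (β + Finsupp.single x 1) α
    · have hs' : Std g (shift (β + Finsupp.single x 1) α) := by
        rw [std_iff (k := k)]
        intro hmem
        exact (mem_region_pt hβ').mp hr' ⟨hn', hmem⟩
      rw [FofC_pt g α hc hn' hs' (le_trans hi1 hle)]
      by_cases hn : nn β α
      · exact FofC_pt g α hc hn (std_of_le (shift_le_shift hle) hs') hi1
      · rw [FofC_of_not_nn g α c hn]
        exact (hc.1 i1 (fun h => hn (nn_of_le hi1 h.1))).symm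
    · have hn : ¬ nn β α := fun h => hn' (nn_of_le hle h)
      rw [FofC_of_not_nn g α c hn, FofC_of_not_nn g α c hn']
  constructor
  · rintro γ γ' ⟨⟨β, hβ, rfl⟩, hn⟩ ⟨⟨β', hβ', rfl⟩, hn'⟩ hadj
    have hr : pt α β ∈ region (MI k g) α := ⟨⟨β, hβ, rfl⟩, hn⟩
    have hr' : pt α β' ∈ region (MI k g) α := ⟨⟨β', hβ', rfl⟩, hn'⟩
    show FofC g α c (pt α β) = FofC g α c (pt α β')
    obtain ⟨x, hx | hx⟩ := adj_pt_cases α hadj
    · subst hx
      exact step β hβ x hr hr'
    · subst hx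
      exact (step β' hβ' x hr' hr).symm
  · rintro γ ⟨⟨β, hβ, rfl⟩, hn⟩ ⟨x, hx⟩
    show FofC g α c (pt α β) = 0
    apply FofC_of_not_nn
    intro h
    have := h x
    exact absurd this (not_le.mpr hx)

lemma smul_mk_eq_zero' {I : Ideal (MvPolynomial σ k)} {c : k} {s : σ →₀ ℕ} (hs : s ∉ exps I)
    (h : c • Ideal.Quotient.mk I (monomial s (1:k)) = 0) : c = 0 := by
  by_contra hc
  apply hs
  have h1 : Ideal.Quotient.mk I (monomial s (1:k)) = 0 := by
    have := congrArg (fun x => c⁻¹ • x) h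
    simpa [smul_smul, inv_mul_cancel₀ hc] using this
  exact mk_monomial_eq_zero.mp h1

lemma toV_surjective {c : ι → k} (hc : c ∈ V k g α) :
    ∃ φ : ↥(tPiece (MI k g) α), toV g α φ = c := by
  classical
  have hI := isMonomial_MI (k := k) g
  refine ⟨⟨mkTgt hI (FofC g α c) (good_FofC g α hc), mkTgt_mem hI _ _⟩, ?_⟩
  funext i
  by_cases hA : Act g α i
  · rw [toV_of_act g α _ hA]
    have h1 := value_eq g α (mkTgt_mem hI (FofC g α c) (good_FofC g α hc)) (g i) (gen_mem g i)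
    rw [mkTgt_apply] at h1
    unfold gF at h1
    rw [FofC_pt g α hc hA.1 hA.2 le_rfl] at h1
    have h2 : (c i - Fc' (mkTgt hI (FofC g α c) (good_FofC g α hc)) α (g i)) •
        Ideal.Quotient.mk (MI k g) (monomial (shift (g i) α) (1:k)) = 0 := by
      rw [sub_smul, ← h1, sub_self]
    have h3 := smul_mk_eq_zero' ((std_iff (k := k) g _).mp hA.2) h2
    exact (sub_eq_zero.mp h3).symm
  · rw [toV_of_not_act g α _ hA, hc.1 i hA]

/-- the graded piece is isomorphic to the space of coefficient functions -/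
noncomputable def equivV : ↥(tPiece (MI k g) α) ≃ₗ[k] ↥(V k g α) :=
  LinearEquiv.ofBijective ((toV g α).codRestrict (V k g α) (toV_mem g α))
    ⟨fun φ ψ h => toV_injective g α (congrArg Subtype.val h),
     fun c => by
      obtain ⟨φ, hφ⟩ := toV_surjective g α c.2
      exact ⟨φ, Subtype.ext hφ⟩⟩

theorem finrank_tPiece_eq :
    Module.finrank k ↥(tPiece (MI k g) α) = Module.finrank k ↥(V k g α) :=
  (equivV g α).finrank_eq

theorem tPiece_eq_bot_of_V (h : ∀ c ∈ V k g α, ∀ i, c i = 0) : tPiece (MI k g) α = ⊥ := by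
  rw [eq_bot_iff]
  intro φ hφ
  rw [Submodule.mem_bot]
  have h1 : toV g α ⟨φ, hφ⟩ = 0 := by
    funext i
    exact h _ (toV_mem g α ⟨φ, hφ⟩) i
  have h2 : toV g α ⟨φ, hφ⟩ = toV g α 0 := by rw [h1, map_zero]
  exact congrArg Subtype.val (toV_injective g α h2)

/-- computing the dimension of `V` from a labelling of the generators -/
theorem finrank_V_eq {κ : Type*} [Fintype κ] (ℓ : ι → Option κ)
    (hA : ∀ i m, ℓ i = some m → Act g α i)
    (hB : ∀ i j γ m, g i ≤ γ → g j ≤ γ → nn γ α → Std g (shift γ α) →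
      ℓ i = some m → ℓ j = some m)
    (hC : ∀ i, ℓ i = none → ∀ c ∈ V k g α, c i = 0)
    (hD : ∀ i j m, ℓ i = some m → ℓ j = some m → ∀ c ∈ V k g α, c i = c j)
    (hE : ∀ m, ∃ i, ℓ i = some m) :
    Module.finrank k ↥(V k g α) = Fintype.card κ := by
  classical
  choose rep hrep using hE
  have hmem : ∀ f : κ → k, (fun i => (ℓ i).elim 0 f) ∈ V k g α := by
    intro f
    refine ⟨fun i hi => ?_, fun i j γ h1 h2 h3 h4 => ?_⟩
    · show (ℓ i).elim 0 f = 0
      cases hl : ℓ i with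
      | none => rfl
      | some m => exact absurd (hA i m hl) hi
    · show (ℓ i).elim 0 f = (ℓ j).elim 0 f
      cases hl : ℓ i with
      | none =>
        cases hl' : ℓ j with
        | none => rfl
        | some m' =>
          have := hB j i γ m' h2 h1 h3 h4 hl'
          rw [hl] at this
          exact absurd this (by simp)
      | some m =>
        have := hB i j γ m h1 h2 h3 h4 hl
        rw [this]
  let e : (κ → k) ≃ₗ[k] ↥(V k g α) :=
    { toFun := fun f => ⟨fun i => (ℓ i).elim 0 f, hmem f⟩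
      map_add' := fun f f' => by
        apply Subtype.ext
        funext i
        show (ℓ i).elim 0 (f + f') = (ℓ i).elim 0 f + (ℓ i).elim 0 f'
        cases ℓ i <;> simp
      map_smul' := fun r f => by
        apply Subtype.ext
        funext i
        show (ℓ i).elim 0 (r • f) = r • (ℓ i).elim 0 f
        cases ℓ i <;> simp
      invFun := fun c m => c.1 (rep m)
      left_inv := fun f => by
        funext m
        show (ℓ (rep m)).elim 0 f = f m
        rw [hrep m]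
        rfl
      right_inv := fun c => by
        apply Subtype.ext
        funext i
        show (ℓ i).elim 0 (fun m => c.1 (rep m)) = c.1 i
        cases hl : ℓ i with
        | none => exact (hC i hl c.1 c.2).symm
        | some m => exact hD (rep m) i m (hrep m) hl c.1 c.2 }
  rw [← e.finrank_eq, Module.finrank_fintype_fun_eq_card]

end surj

end Groth.Agent.Lib.Helper24GenV
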