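import Mathlib
import Groth.Agent.Lib.Helper24TgtPiece7

/-!
# Degree-zero tangent vectors at the ideal of two transverse coordinate subspaces (helper24)
-/

set_option autoImplicit false
universe u

namespace Groth.Agent.Lib.Helper24TwoBlk

open W4c1hilbpn MvPolynomial Groth.Agent.Lib.Helper24TgtPiece

variable {σ : Type*} [Fintype σ] [DecidableEq σ] {k : Type*} [Field k]

/-- exponent of `x_i x_j` -/
noncomputable def gen (i j : σ) : σ →₀ ℕ := Finsupp.single i 1 + Finsupp.single j 1

lemma gen_apply (i j l : σ) : gen i j l = (if i = l then 1 else 0) + (if j = l then 1 else 0) := by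
  simp [gen, Finsupp.single_apply]

lemma gen_le_iff {i j : σ} (hij : i ≠ j) (β : σ →₀ ℕ) : gen i j ≤ β ↔ 1 ≤ β i ∧ 1 ≤ β j := by
  constructor
  · intro h
    have h1 := h i
    have h2 := h j
    rw [gen_apply] at h1 h2
    simp only [if_true, if_neg hij, if_neg hij.symm] at h1 h2
    omega
  · intro ⟨h1, h2⟩ l
    rw [gen_apply]
    by_cases hil : i = l
    · subst hil
      rw [if_pos rfl, if_neg hij.symm]
      omega
    · by_cases hjl : j = l
      · subst hjl
        rw [if_neg hil, if_pos rfl]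
        omega
      · rw [if_neg hil, if_neg hjl]
        omega

variable (P Q : Finset σ)

/-- exponents of the generators -/
noncomputable def G : Finset (σ →₀ ℕ) := (P ×ˢ Q).image (fun p => gen p.1 p.2)

variable (k) in
/-- the ideal `(x_i : i ∈ P) · (x_j : j ∈ Q)` -/
noncomputable def J : Ideal (MvPolynomial σ k) :=
  Ideal.span ((fun β => monomial β (1:k)) '' (G P Q : Set (σ →₀ ℕ)))

lemma mem_J_iff (p : MvPolynomial σ k) :
    p ∈ J k P Q ↔ ∀ β ∈ p.support, ∃ i ∈ P, ∃ j ∈ Q, gen i j ≤ β := by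
  unfold J
  rw [mem_ideal_span_monomial_image]
  apply forall₂_congr
  intro β _
  constructor
  · rintro ⟨s, hs, hle⟩
    rw [Finset.mem_coe, G, Finset.mem_image] at hs
    obtain ⟨⟨i, j⟩, hp, rfl⟩ := hs
    rw [Finset.mem_product] at hp
    exact ⟨i, hp.1, j, hp.2, hle⟩
  · rintro ⟨i, hi, j, hj, hle⟩
    refine ⟨gen i j, ?_, hle⟩
    rw [Finset.mem_coe, G, Finset.mem_image]
    exact ⟨(i, j), Finset.mem_product.mpr ⟨hi, hj⟩, rfl⟩

lemma mem_exps_J (β : σ →₀ ℕ) :
    β ∈ exps (J k P Q) ↔ ∃ i ∈ P, ∃ j ∈ Q, gen i j ≤ β := by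
  classical
  show monomial β (1:k) ∈ J k P Q ↔ _
  rw [mem_J_iff, support_monomial, if_neg one_ne_zero]
  simp only [Finset.mem_singleton, forall_eq]

lemma isMonomial_J : IsMonomial (J k P Q) := by
  intro p hp β hβ
  exact (mem_exps_J P Q β).mpr ((mem_J_iff P Q p).mp hp β hβ)

variable {P Q}

lemma mem_exps_J' (hPQ : Disjoint P Q) (β : σ →₀ ℕ) :
    β ∈ exps (J k P Q) ↔ (∃ i ∈ P, 1 ≤ β i) ∧ (∃ j ∈ Q, 1 ≤ β j) := by
  rw [mem_exps_J]
  constructor
  · rintro ⟨i, hi, j, hj, hle⟩
    have hij : i ≠ j := fun h => Finset.disjoint_left.mp hPQ hi (h ▸ hj)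
    rw [gen_le_iff hij] at hle
    exact ⟨⟨i, hi, hle.1⟩, ⟨j, hj, hle.2⟩⟩
  · rintro ⟨⟨i, hi, h1⟩, ⟨j, hj, h2⟩⟩
    have hij : i ≠ j := fun h => Finset.disjoint_left.mp hPQ hi (h ▸ hj)
    exact ⟨i, hi, j, hj, (gen_le_iff hij β).mpr ⟨h1, h2⟩⟩

section Deriv

variable (I : Ideal (MvPolynomial σ k))

/-- the tangent vector induced by the vector field `x_a ∂/∂x_b` -/
noncomputable def Dab (a b : σ) : Tgt I where
  toFun f := Ideal.Quotient.mk I (X a * pderiv b (f : MvPolynomial σ k))
  map_add' f g := by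
    simp only [Submodule.coe_add, map_add, mul_add]
  map_smul' s f := by
    simp only [RingHom.id_apply]
    rw [smul_quot, ← map_mul]
    have h1 : ((s • f : ↥I) : MvPolynomial σ k) = s * (f : MvPolynomial σ k) := rfl
    rw [h1, Derivation.leibniz, smul_eq_mul, smul_eq_mul, mul_add, map_add]
    have h2 : Ideal.Quotient.mk I (X a * ((f : MvPolynomial σ k) * pderiv b s)) = 0 := by
      rw [Ideal.Quotient.eq_zero_iff_mem]
      apply Ideal.mul_mem_left
      exact Ideal.mul_mem_right _ _ f.2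
    rw [h2, add_zero]
    congr 1
    ring

lemma Dab_apply (a b : σ) (f : ↥I) :
    Dab I a b f = Ideal.Quotient.mk I (X a * pderiv b (f : MvPolynomial σ k)) := rfl

/-- the multidegree `e_a - e_b` -/
def αab (a b : σ) : σ → ℤ := fun l => (if l = a then 1 else 0) - (if l = b then 1 else 0)

lemma Dab_monomial (a b : σ) (β : σ →₀ ℕ) (hβ : monomial β (1:k) ∈ I) :
    Dab I a b ⟨monomial β 1, hβ⟩ =
      Ideal.Quotient.mk I (monomial (β - Finsupp.single b 1 + Finsupp.single a 1) ((β b : ℕ) : k)) := by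
  rw [Dab_apply]
  simp only [pderiv_monomial, one_mul]
  rw [X, monomial_mul, one_mul, add_comm]

lemma Dab_mem {a b : σ} (hab : a ≠ b) : Dab I a b ∈ tPiece I (αab a b) := by
  intro β hβ
  refine ⟨fun hnn => ?_, fun hneg => ?_⟩
  · have hb : 1 ≤ β b := by
      have := hnn b
      unfold αab at this
      rw [if_neg hab.symm, if_pos rfl] at this
      omega
    have hs : shift β (αab a b) = β - Finsupp.single b 1 + Finsupp.single a 1 := by
      ext l
      rw [shift_apply]
      simp only [Finsupp.coe_add, Finsupp.coe_tsub, Pi.add_apply, Pi.sub_apply,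
        Finsupp.single_apply]
      unfold αab
      by_cases hla : l = a
      · subst hla
        rw [if_pos rfl, if_neg hab, if_pos rfl, if_neg hab.symm]
        omega
      · by_cases hlb : l = b
        · subst hlb
          rw [if_neg hla, if_pos rfl, if_pos rfl, if_neg (Ne.symm hla)]
          omega
        · rw [if_neg hla, if_neg hlb, if_neg (Ne.symm hlb), if_neg (Ne.symm hla)]
          omega
    have h1 : Dab I a b ⟨monomial β 1, hβ⟩ =
        ((β b : ℕ) : k) • Ideal.Quotient.mk I (monomial (shift β (αab a b)) (1:k)) := by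
      rw [Dab_monomial, hs, mk_monomial_smul]
    rw [h1]
    exact Submodule.smul_mem _ _ (Submodule.mem_span_singleton_self _)
  · obtain ⟨l, hl⟩ := hneg
    have hlb : l = b ∧ β b = 0 := by
      unfold αab at hl
      by_cases hlb : l = b
      · subst hlb
        refine ⟨rfl, ?_⟩
        rw [if_neg hab.symm, if_pos rfl] at hl
        omega
      · rw [if_neg hlb] at hl
        split_ifs at hl <;> omega
    rw [Dab_monomial, hlb.2]
    simp

end Deriv

section General

variable {I : Ideal (MvPolynomial σ k)}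

/-- the basic relation between values of a tangent vector -/
lemma rel (φ : Tgt I) {β β' δ δ' : σ →₀ ℕ} (hβ : monomial β (1:k) ∈ I)
    (hβ' : monomial β' (1:k) ∈ I) (h : β + δ = β' + δ') :
    Ideal.Quotient.mk I (monomial δ 1) * φ ⟨monomial β 1, hβ⟩ =
      Ideal.Quotient.mk I (monomial δ' 1) * φ ⟨monomial β' 1, hβ'⟩ := by
  have h1 : monomial (β + δ) (1:k) ∈ I := exps_add hβ δ
  have h2 : monomial (β' + δ') (1:k) ∈ I := exps_add hβ' δ'
  rw [← map_monomial_add φ hβ δ h1, ← map_monomial_add φ hβ' δ' h2]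
  congr 1
  apply Subtype.ext
  simp only [h]

lemma mk_mul_smul (δ s : σ →₀ ℕ) (c : k) :
    Ideal.Quotient.mk I (monomial δ 1) * (c • Ideal.Quotient.mk I (monomial s (1:k))) =
      c • Ideal.Quotient.mk I (monomial (s + δ) (1:k)) := by
  rw [mul_smul_comm, ← map_mul, monomial_mul, one_mul, add_comm]

/-- value of a homogeneous tangent vector on a monomial -/
lemma exists_coeff {α : σ → ℤ} {φ : Tgt I} (hφ : φ ∈ tPiece I α) {β : σ →₀ ℕ}
    (hβ : monomial β (1:k) ∈ I) (hnn : ∀ i, 0 ≤ (β i : ℤ) + α i) :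
    ∃ c : k, φ ⟨monomial β 1, hβ⟩ = c • Ideal.Quotient.mk I (monomial (shift β α) (1:k)) := by
  obtain ⟨c, hc⟩ := Submodule.mem_span_singleton.mp ((hφ β hβ).1 hnn)
  exact ⟨c, hc.symm⟩

lemma eq_zero_of_neg {α : σ → ℤ} {φ : Tgt I} (hφ : φ ∈ tPiece I α) {β : σ →₀ ℕ}
    (hβ : monomial β (1:k) ∈ I) (l : σ) (hl : (β l : ℤ) + α l < 0) :
    φ ⟨monomial β 1, hβ⟩ = 0 := (hφ β hβ).2 ⟨l, hl⟩

lemma smul_mk_eq_zero {c : k} {s : σ →₀ ℕ} (hs : s ∉ exps I)
    (h : c • Ideal.Quotient.mk I (monomial s (1:k)) = 0) : c = 0 := by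
  by_contra hc
  apply hs
  have h1 : Ideal.Quotient.mk I (monomial s (1:k)) = 0 := by
    have := congrArg (fun x => c⁻¹ • x) h
    simpa [smul_smul, inv_mul_cancel₀ hc] using this
  exact mk_monomial_eq_zero.mp h1

/-- arithmetic: a multidegree of sum zero with one entry `-1` and the others nonnegative -/
lemma eq_αab_of (α : σ → ℤ) (hsum : ∑ l, α l = 0) (i : σ) (hi : α i = -1)
    (hnn : ∀ l, l ≠ i → 0 ≤ α l) : ∃ a, a ≠ i ∧ α = αab a i := by
  have h1 : ∑ l ∈ Finset.univ.erase i, α l = 1 := by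
    have := Finset.add_sum_erase Finset.univ α (Finset.mem_univ i)
    rw [hsum, hi] at this
    omega
  have h2 : ∃ a ∈ Finset.univ.erase i, 0 < α a := by
    by_contra hcon
    push Not at hcon
    have : ∑ l ∈ Finset.univ.erase i, α l ≤ 0 := Finset.sum_nonpos hcon
    omega
  obtain ⟨a, ha, hpos⟩ := h2
  have hai : a ≠ i := Finset.ne_of_mem_erase ha
  have h3 : ∑ l ∈ (Finset.univ.erase i).erase a, α l = 1 - α a := by
    have := Finset.add_sum_erase (Finset.univ.erase i) α ha
    omega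
  have h4 : ∀ l ∈ (Finset.univ.erase i).erase a, 0 ≤ α l := by
    intro l hl
    exact hnn l (Finset.ne_of_mem_erase (Finset.mem_of_mem_erase hl))
  have h5 : 0 ≤ ∑ l ∈ (Finset.univ.erase i).erase a, α l := Finset.sum_nonneg h4
  have ha1 : α a = 1 := by omega
  have h6 : ∀ l ∈ (Finset.univ.erase i).erase a, α l = 0 := by
    rw [ha1, sub_self] at h3
    exact (Finset.sum_eq_zero_iff_of_nonneg h4).mp h3
  refine ⟨a, hai, ?_⟩
  funext l
  unfold αab
  by_cases hla : l = a
  · subst hla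
    rw [if_pos rfl, if_neg hai, ha1]
    norm_num
  · by_cases hli : l = i
    · subst hli
      rw [if_neg hla, if_pos rfl, hi]
      norm_num
    · rw [if_neg hla, if_neg hli]
      have := h6 l (Finset.mem_erase.mpr ⟨hla, Finset.mem_erase.mpr ⟨hli, Finset.mem_univ l⟩⟩)
      omega

lemma shift_αab {a b : σ} (hab : a ≠ b) (β : σ →₀ ℕ) (hb : 1 ≤ β b) :
    shift β (αab a b) = β - Finsupp.single b 1 + Finsupp.single a 1 := by
  ext l
  rw [shift_apply]
  simp only [Finsupp.coe_add, Finsupp.coe_tsub, Pi.add_apply, Pi.sub_apply,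
    Finsupp.single_apply]
  unfold αab
  by_cases hla : l = a
  · subst hla
    rw [if_pos rfl, if_neg hab, if_pos rfl, if_neg hab.symm]
    omega
  · by_cases hlb : l = b
    · subst hlb
      rw [if_neg hla, if_pos rfl, if_pos rfl, if_neg (Ne.symm hla)]
      omega
    · rw [if_neg hla, if_neg hlb, if_neg (Ne.symm hlb), if_neg (Ne.symm hla)]
      omega

end General

section TwoBlock

variable {P Q : Finset σ}

lemma gen_mem {i j : σ} (hi : i ∈ P) (hj : j ∈ Q) : monomial (gen i j) (1:k) ∈ J k P Q :=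
  (mem_exps_J P Q _).mpr ⟨i, hi, j, hj, le_rfl⟩

lemma gen_comm (i j : σ) : gen i j = gen j i := add_comm _ _

lemma J_comm : J k P Q = J k Q P := by
  apply le_antisymm
  · intro p hp
    rw [mem_J_iff] at hp ⊢
    intro β hβ
    obtain ⟨i, hi, j, hj, hle⟩ := hp β hβ
    exact ⟨j, hj, i, hi, by rwa [gen_comm]⟩
  · intro p hp
    rw [mem_J_iff] at hp ⊢
    intro β hβ
    obtain ⟨i, hi, j, hj, hle⟩ := hp β hβ
    exact ⟨j, hj, i, hi, by rwa [gen_comm]⟩

/-- extensionality over the generators `x_i x_j` -/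
lemma ext_J (φ ψ : Tgt (J k P Q))
    (h : ∀ i (hi : i ∈ P) j (hj : j ∈ Q), φ ⟨monomial (gen i j) 1, gen_mem hi hj⟩ =
      ψ ⟨monomial (gen i j) 1, gen_mem hi hj⟩) : φ = ψ := by
  have hG : ∀ β ∈ G P Q, monomial β (1:k) ∈ J k P Q := by
    intro β hβ
    rw [G, Finset.mem_image] at hβ
    obtain ⟨⟨i, j⟩, hp, rfl⟩ := hβ
    rw [Finset.mem_product] at hp
    exact gen_mem hp.1 hp.2
  apply ext_gens (G P Q) hG rfl
  intro β hβ
  have hβ' := hβ
  rw [G, Finset.mem_image] at hβ'
  obtain ⟨⟨i, j⟩, hp, rfl⟩ := hβ'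
  rw [Finset.mem_product] at hp
  exact h i hp.1 j hp.2

lemma gen_other {i j l : σ} (hil : i ≠ l) (hjl : j ≠ l) : gen i j l = 0 := by
  rw [gen_apply, if_neg hil, if_neg hjl]

variable (hPQ : Disjoint P Q)
include hPQ

lemma ne_of_mem {i j : σ} (hi : i ∈ P) (hj : j ∈ Q) : i ≠ j :=
  fun h => Finset.disjoint_left.mp hPQ hi (h ▸ hj)

lemma gen_self_left {i j : σ} (hi : i ∈ P) (hj : j ∈ Q) : gen i j i = 1 := by
  rw [gen_apply, if_pos rfl, if_neg (ne_of_mem hPQ hi hj).symm]

lemma gen_self_right {i j : σ} (hi : i ∈ P) (hj : j ∈ Q) : gen i j j = 1 := by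
  rw [gen_apply, if_neg (ne_of_mem hPQ hi hj), if_pos rfl]

/-- the exponent `gen b j - e_b + e_a` with `a ∉ P` is not in the ideal -/
lemma notMem_exps_of_noP (s : σ →₀ ℕ) (h : ∀ i ∈ P, s i = 0) : s ∉ exps (J k P Q) := by
  intro hs
  rw [mem_exps_J' hPQ] at hs
  obtain ⟨⟨i, hi, h1⟩, -⟩ := hs
  have := h i hi
  omega

lemma Dab_ne_zero {a b : σ} (hb : b ∈ P) (ha : a ∉ P) (hQ : Q.Nonempty) :
    Dab (J k P Q) a b ≠ 0 := by
  obtain ⟨j0, hj0⟩ := hQ
  intro h
  have h1 := LinearMap.congr_fun h ⟨monomial (gen b j0) 1, gen_mem hb hj0⟩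
  rw [Dab_monomial, gen_self_left hPQ hb hj0, LinearMap.zero_apply, Nat.cast_one,
    mk_monomial_eq_zero] at h1
  refine notMem_exps_of_noP hPQ _ ?_ h1
  intro i hi
  have hai : a ≠ i := fun h => ha (h ▸ hi)
  have hji : j0 ≠ i := (ne_of_mem hPQ hi hj0).symm
  simp only [Finsupp.coe_add, Finsupp.coe_tsub, Pi.add_apply, Pi.sub_apply, Finsupp.single_apply,
    gen_apply, if_neg hai, if_neg hji]
  split_ifs <;> omega

lemma exists_smul_Dab {a b : σ} (hb : b ∈ P) (ha : a ∉ P) (hQ : Q.Nonempty)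
    {φ : Tgt (J k P Q)} (hφ : φ ∈ tPiece (J k P Q) (αab a b)) :
    ∃ c : k, φ = c • Dab (J k P Q) a b := by
  obtain ⟨j0, hj0⟩ := hQ
  have hab : a ≠ b := fun h => ha (h ▸ hb)
  have hnn0 : ∀ j ∈ Q, ∀ l, 0 ≤ ((gen b j l : ℕ) : ℤ) + αab a b l := by
    intro j hj l
    unfold αab
    by_cases hlb : l = b
    · subst hlb
      rw [gen_self_left hPQ hb hj, if_neg hab.symm, if_pos rfl]
      norm_num
    · rw [if_neg hlb]
      split_ifs <;> omega
  obtain ⟨c, hc⟩ := exists_coeff hφ (gen_mem hb hj0) (hnn0 j0 hj0)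
  refine ⟨c, ?_⟩
  have hD0 : Dab (J k P Q) a b ⟨monomial (gen b j0) 1, gen_mem hb hj0⟩ =
      Ideal.Quotient.mk (J k P Q) (monomial (shift (gen b j0) (αab a b)) (1:k)) := by
    rw [Dab_monomial, gen_self_left hPQ hb hj0, Nat.cast_one,
      shift_αab hab _ (le_of_eq (gen_self_left hPQ hb hj0).symm)]
  set χ : Tgt (J k P Q) := φ - c • Dab (J k P Q) a b with hχ
  have hχmem : χ ∈ tPiece (J k P Q) (αab a b) :=
    Submodule.sub_mem _ hφ (Submodule.smul_mem _ _ (Dab_mem _ hab))
  have hχ0 : χ ⟨monomial (gen b j0) 1, gen_mem hb hj0⟩ = 0 := by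
    rw [hχ, LinearMap.sub_apply, LinearMap.smul_apply, hc, hD0, sub_self]
  have hzero : χ = 0 := by
    apply ext_J
    intro i hi j hj
    rw [LinearMap.zero_apply]
    by_cases hib : i = b
    · subst hib
      obtain ⟨c', hc'⟩ := exists_coeff hχmem (gen_mem hi hj) (hnn0 j hj)
      have hrel := rel χ (gen_mem hi hj) (gen_mem hi hj0)
        (δ := Finsupp.single j0 1) (δ' := Finsupp.single j 1) (by
          unfold gen; abel)
      rw [hχ0, mul_zero, hc', mk_mul_smul] at hrel
      have hs : shift (gen i j) (αab a i) + Finsupp.single j0 1 ∉ exps (J k P Q) := by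
        apply notMem_exps_of_noP hPQ
        intro l hl
        rw [shift_αab hab _ (le_of_eq (gen_self_left hPQ hi hj).symm)]
        have hal : a ≠ l := fun h => ha (h ▸ hl)
        have hjl : j ≠ l := (ne_of_mem hPQ hl hj).symm
        have hj0l : j0 ≠ l := (ne_of_mem hPQ hl hj0).symm
        simp only [Finsupp.coe_add, Finsupp.coe_tsub, Pi.add_apply, Pi.sub_apply,
          Finsupp.single_apply, gen_apply, if_neg hal, if_neg hjl, if_neg hj0l]
        split_ifs <;> omega
      rw [hc', smul_mk_eq_zero hs hrel, zero_smul]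
    · apply eq_zero_of_neg hχmem (gen_mem hi hj) b
      have hjb : j ≠ b := (ne_of_mem hPQ hb hj).symm
      rw [gen_other hib hjb]
      unfold αab
      rw [if_neg hab.symm, if_pos rfl]
      norm_num
  rw [hχ, sub_eq_zero] at hzero
  exact hzero

lemma tPiece_eq_bot (hP : 2 ≤ P.card) (hQ : 2 ≤ Q.card) (α : σ → ℤ) (hsum : ∑ l, α l = 0)
    (hα : ∀ a b, ((b ∈ P ∧ a ∉ P) ∨ (b ∈ Q ∧ a ∉ Q)) → α ≠ αab a b) :
    tPiece (J k P Q) α = ⊥ := by
  rw [eq_bot_iff]
  intro φ hφ
  rw [Submodule.mem_bot]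
  by_contra hne
  have h1 : ∃ i, ∃ hi : i ∈ P, ∃ j, ∃ hj : j ∈ Q,
      φ ⟨monomial (gen i j) 1, gen_mem hi hj⟩ ≠ 0 := by
    by_contra hcon
    push Not at hcon
    apply hne
    apply ext_J
    intro i hi j hj
    rw [hcon i hi j hj, LinearMap.zero_apply]
  obtain ⟨i, hi, j, hj, hval⟩ := h1
  have hij := ne_of_mem hPQ hi hj
  have hnn : ∀ l, 0 ≤ ((gen i j l : ℕ) : ℤ) + α l := by
    by_contra hcon
    push Not at hcon
    obtain ⟨l, hl⟩ := hcon
    exact hval (eq_zero_of_neg hφ _ l hl)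
  obtain ⟨c, hc⟩ := exists_coeff hφ (gen_mem hi hj) hnn
  set s := shift (gen i j) α with hs
  have hc0 : c ≠ 0 := by
    rintro rfl
    rw [zero_smul] at hc
    exact hval hc
  have hsI : s ∉ exps (J k P Q) := by
    intro h
    rw [mk_monomial_eq_zero.mpr h, smul_zero] at hc
    exact hval hc
  have hαi : -1 ≤ α i := by
    have := hnn i
    rw [gen_self_left hPQ hi hj] at this
    omega
  have hαj : -1 ≤ α j := by
    have := hnn j
    rw [gen_self_right hPQ hi hj] at this
    omega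
  have hαl : ∀ l, l ≠ i → l ≠ j → 0 ≤ α l := by
    intro l hli hlj
    have := hnn l
    rw [gen_other (Ne.symm hli) (Ne.symm hlj)] at this
    omega
  have hsl : ∀ l, ((s l : ℕ) : ℤ) = ((gen i j l : ℕ) : ℤ) + α l := by
    intro l
    rw [hs, shift_apply]
    exact Int.toNat_of_nonneg (hnn l)
  by_cases hi0 : 0 ≤ α i
  · by_cases hj0 : 0 ≤ α j
    · have hbot : tPiece (J k P Q) α = ⊥ := tPiece_eq_bot_of_nonneg (isMonomial_J P Q) (by
        intro l
        by_cases hli : l = i
        · subst hli; exact hi0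
        · by_cases hlj : l = j
          · subst hlj; exact hj0
          · exact hαl l hli hlj)
      rw [hbot] at hφ
      exact hne ((Submodule.mem_bot k).mp hφ)
    · have hj1 : α j = -1 := by omega
      obtain ⟨a, haj, hαeq⟩ := eq_αab_of α hsum j hj1 (by
        intro l hl
        by_cases hli : l = i
        · subst hli; exact hi0
        · exact hαl l hli hl)
      have haQ : a ∈ Q := by
        by_contra h
        exact hα a j (Or.inr ⟨hj, h⟩) hαeq
      apply hsI
      rw [mem_exps_J' hPQ]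
      refine ⟨⟨i, hi, ?_⟩, ⟨a, haQ, ?_⟩⟩
      · have := hsl i
        rw [gen_self_left hPQ hi hj] at this
        omega
      · have := hsl a
        have h2 : α a = 1 := by
          rw [hαeq]
          unfold αab
          rw [if_pos rfl, if_neg haj]
          norm_num
        omega
  · have hi1 : α i = -1 := by omega
    by_cases hj0 : 0 ≤ α j
    · obtain ⟨a, hai, hαeq⟩ := eq_αab_of α hsum i hi1 (by
        intro l hl
        by_cases hlj : l = j
        · subst hlj; exact hj0
        · exact hαl l hl hlj)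
      have haP : a ∈ P := by
        by_contra h
        exact hα a i (Or.inl ⟨hi, h⟩) hαeq
      apply hsI
      rw [mem_exps_J' hPQ]
      refine ⟨⟨a, haP, ?_⟩, ⟨j, hj, ?_⟩⟩
      · have := hsl a
        have h2 : α a = 1 := by
          rw [hαeq]
          unfold αab
          rw [if_pos rfl, if_neg hai]
          norm_num
        omega
      · have := hsl j
        rw [gen_self_right hPQ hi hj] at this
        omega
    · have hj1 : α j = -1 := by omega
      obtain ⟨j', hj', hjj'⟩ : ∃ j' ∈ Q, j' ≠ j := Finset.exists_mem_ne (by omega) j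
      obtain ⟨i', hi', hii'⟩ : ∃ i' ∈ P, i' ≠ i := Finset.exists_mem_ne (by omega) i
      -- a P-variable in `s`
      have hP1 : ∃ p ∈ P, 1 ≤ s p := by
        have hz : φ ⟨monomial (gen i j') 1, gen_mem hi hj'⟩ = 0 := by
          apply eq_zero_of_neg hφ (gen_mem hi hj') j
          rw [gen_other hij hjj', hj1]
          norm_num
        have hrel := rel φ (gen_mem hi hj) (gen_mem hi hj')
          (δ := Finsupp.single j' 1) (δ' := Finsupp.single j 1) (by unfold gen; abel)
        rw [hz, mul_zero, hc, mk_mul_smul] at hrel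
        have hin : s + Finsupp.single j' 1 ∈ exps (J k P Q) := by
          by_contra h
          exact hc0 (smul_mk_eq_zero h hrel)
        rw [mem_exps_J' hPQ] at hin
        obtain ⟨⟨p, hp, h1⟩, -⟩ := hin
        refine ⟨p, hp, ?_⟩
        have hpj' : j' ≠ p := (ne_of_mem hPQ hp hj').symm
        rw [Finsupp.add_apply, Finsupp.single_apply, if_neg hpj', add_zero] at h1
        exact h1
      have hQ1 : ∃ q ∈ Q, 1 ≤ s q := by
        have hz : φ ⟨monomial (gen i' j) 1, gen_mem hi' hj⟩ = 0 := by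
          apply eq_zero_of_neg hφ (gen_mem hi' hj) i
          rw [gen_other hii' hij.symm, hi1]
          norm_num
        have hrel := rel φ (gen_mem hi hj) (gen_mem hi' hj)
          (δ := Finsupp.single i' 1) (δ' := Finsupp.single i 1) (by unfold gen; abel)
        rw [hz, mul_zero, hc, mk_mul_smul] at hrel
        have hin : s + Finsupp.single i' 1 ∈ exps (J k P Q) := by
          by_contra h
          exact hc0 (smul_mk_eq_zero h hrel)
        rw [mem_exps_J' hPQ] at hin
        obtain ⟨-, ⟨q, hq, h1⟩⟩ := hin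
        refine ⟨q, hq, ?_⟩
        have hqi' : i' ≠ q := ne_of_mem hPQ hi' hq
        rw [Finsupp.add_apply, Finsupp.single_apply, if_neg hqi', add_zero] at h1
        exact h1
      exact hsI ((mem_exps_J' hPQ s).mpr ⟨hP1, hQ1⟩)

lemma finrank_tPiece_P {a b : σ} (hb : b ∈ P) (ha : a ∉ P) (hQ : Q.Nonempty) :
    Module.finrank k ↥(tPiece (J k P Q) (αab a b)) = 1 := by
  have hab : a ≠ b := fun h => ha (h ▸ hb)
  rw [finrank_eq_one_iff_of_nonzero' (⟨Dab _ a b, Dab_mem _ hab⟩ : ↥(tPiece (J k P Q) (αab a b)))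
    (by
      intro h
      exact Dab_ne_zero hPQ hb ha hQ (congrArg Subtype.val h))]
  rintro ⟨φ, hφ⟩
  obtain ⟨c, hc⟩ := exists_smul_Dab hPQ hb ha hQ hφ
  exact ⟨c, Subtype.ext hc.symm⟩

end TwoBlock

section Count

variable {P Q : Finset σ}

lemma finrank_tPiece_Q (hPQ : Disjoint P Q) {a b : σ} (hb : b ∈ Q) (ha : a ∉ Q) (hP : P.Nonempty) :
    Module.finrank k ↥(tPiece (J k P Q) (αab a b)) = 1 := by
  rw [J_comm]
  exact finrank_tPiece_P hPQ.symm hb ha hP

lemma sum_αab {a b : σ} (hab : a ≠ b) : ∑ l, αab a b l = 0 := by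
  unfold αab
  rw [Finset.sum_sub_distrib, Finset.sum_ite_eq' Finset.univ a, Finset.sum_ite_eq' Finset.univ b]
  simp

lemma αab_self_left {a b : σ} (hab : a ≠ b) : αab a b a = 1 := by
  unfold αab
  rw [if_pos rfl, if_neg hab]
  norm_num

lemma αab_self_right {a b : σ} (hab : a ≠ b) : αab a b b = -1 := by
  unfold αab
  rw [if_neg hab.symm, if_pos rfl]
  norm_num

lemma αab_inj {a b a' b' : σ} (hab : a ≠ b) (h : αab a b = αab a' b') :
    a = a' ∧ b = b' := by
  have h1 := congrFun h a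
  have h2 := congrFun h b
  rw [αab_self_left hab] at h1
  rw [αab_self_right hab] at h2
  unfold αab at h1 h2
  constructor
  · by_contra hne
    rw [if_neg hne] at h1
    split_ifs at h1 <;> omega
  · by_contra hne
    rw [if_neg hne] at h2
    split_ifs at h2 <;> omega

/-- index pairs `(b, a)` -/
def idx (P Q : Finset σ) : Finset (σ × σ) := (P ×ˢ Pᶜ) ∪ (Q ×ˢ Qᶜ)

lemma mem_idx {p : σ × σ} : p ∈ idx P Q ↔ (p.1 ∈ P ∧ p.2 ∉ P) ∨ (p.1 ∈ Q ∧ p.2 ∉ Q) := by
  unfold idx
  rw [Finset.mem_union, Finset.mem_product, Finset.mem_product, Finset.mem_compl, Finset.mem_compl]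

lemma ne_of_mem_idx {p : σ × σ} (hp : p ∈ idx P Q) : p.2 ≠ p.1 := by
  rw [mem_idx] at hp
  rcases hp with ⟨h1, h2⟩ | ⟨h1, h2⟩
  · exact fun h => h2 (h ▸ h1)
  · exact fun h => h2 (h ▸ h1)

/-- the multidegrees carrying tangent vectors -/
def degs (P Q : Finset σ) : Finset (σ → ℤ) := (idx P Q).image (fun p => αab p.2 p.1)

lemma card_degs (hPQ : Disjoint P Q) :
    (degs P Q).card = P.card * (Fintype.card σ - P.card) + Q.card * (Fintype.card σ - Q.card) := by
  unfold degs
  rw [Finset.card_image_of_injOn]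
  · unfold idx
    rw [Finset.card_union_of_disjoint, Finset.card_product, Finset.card_product,
      Finset.card_compl, Finset.card_compl]
    rw [Finset.disjoint_left]
    intro p hp1 hp2
    rw [Finset.mem_product] at hp1 hp2
    exact Finset.disjoint_left.mp hPQ hp1.1 hp2.1
  · intro p hp p' hp' h
    have := αab_inj (ne_of_mem_idx hp) h
    exact Prod.ext this.2 this.1

theorem finrank_biSup_tPiece' {I : Ideal (MvPolynomial σ k)} (hI : IsMonomial I)
    (A : Finset (σ → ℤ)) (hfin : ∀ α ∈ A, FiniteDimensional k ↥(tPiece I α)) :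
    FiniteDimensional k ↥(⨆ α ∈ A, tPiece I α) ∧
      Module.finrank k ↥(⨆ α ∈ A, tPiece I α) = ∑ α ∈ A, Module.finrank k ↥(tPiece I α) := by
  classical
  induction A using Finset.induction_on with
  | empty =>
    have h0 : (⨆ α ∈ (∅ : Finset (σ → ℤ)), tPiece I α) = ⊥ := by simp
    rw [h0, Finset.sum_empty, finrank_bot]
    exact ⟨inferInstance, rfl⟩
  | insert α₀ A hα₀ ih =>
    have ih' := ih (fun α hα => hfin α (Finset.mem_insert_of_mem hα))
    haveI := ih'.1
    haveI := hfin α₀ (Finset.mem_insert_self _ _)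
    rw [Finset.iSup_insert, Finset.sum_insert hα₀, ← ih'.2]
    refine ⟨inferInstance, ?_⟩
    have h := Submodule.finrank_sup_add_finrank_inf_eq (tPiece I α₀) (⨆ α ∈ A, tPiece I α)
    rw [(disjoint_tPiece_biSup hI A α₀ hα₀).eq_bot, finrank_bot, add_zero] at h
    exact h

theorem finrank_degree_zero (hPQ : Disjoint P Q) (hP : 2 ≤ P.card) (hQ : 2 ≤ Q.card) :
    Module.finrank k ↥(⨆ α : {α : σ → ℤ // ∑ l, α l = 0}, tPiece (J k P Q) α.1) =
      P.card * (Fintype.card σ - P.card) + Q.card * (Fintype.card σ - Q.card) := by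
  classical
  have hPne : P.Nonempty := Finset.card_pos.mp (by omega)
  have hQne : Q.Nonempty := Finset.card_pos.mp (by omega)
  have hone : ∀ α ∈ degs P Q, Module.finrank k ↥(tPiece (J k P Q) α) = 1 := by
    intro α hα
    unfold degs at hα
    rw [Finset.mem_image] at hα
    obtain ⟨⟨b, a⟩, hp, rfl⟩ := hα
    rw [mem_idx] at hp
    rcases hp with ⟨h1, h2⟩ | ⟨h1, h2⟩
    · exact finrank_tPiece_P hPQ h1 h2 hQne
    · exact finrank_tPiece_Q hPQ h1 h2 hPne
  rw [iSup_subtype_eq_biSup (fun α => ∑ l, α l = 0) (degs P Q)]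
  · have h := finrank_biSup_tPiece' (isMonomial_J (k := k) P Q) (degs P Q) (by
      intro α hα
      exact FiniteDimensional.of_finrank_pos (by rw [hone α hα]; norm_num))
    rw [h.2, Finset.sum_congr rfl hone, Finset.sum_const, smul_eq_mul, mul_one, card_degs hPQ]
  · intro α hα
    unfold degs at hα
    rw [Finset.mem_image] at hα
    obtain ⟨p, hp, rfl⟩ := hα
    exact sum_αab (ne_of_mem_idx hp)
  · intro α hsum hα
    apply tPiece_eq_bot hPQ hP hQ α hsum
    intro a b hcond hαeq
    apply hα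
    unfold degs
    rw [Finset.mem_image]
    exact ⟨(b, a), mem_idx.mpr hcond, hαeq.symm⟩

end Count

section Final

theorem s13451 (k : Type u) [Field k] (n c d : ℕ) (hc : 2 ≤ c) (hcd : c ≤ d) (hn : c + d ≤ n) :
    Module.finrank k ↥(⨆ α : {α : Fin (n + 1) → ℤ // ∑ i, α i = 0},
      tPiece (Ideal.span {f : MvPolynomial (Fin (n + 1)) k | ∃ i j : Fin (n + 1), i.val + 1 ≤ c ∧ n + 1 ≤ j.val + d ∧
        f = MvPolynomial.X i * MvPolynomial.X j}) α.1) = c * (n - c + 1) + d * (n - d + 1) := by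
  classical
  set P : Finset (Fin (n + 1)) := Finset.univ.filter (fun i => (i : ℕ) < c) with hP
  set Q : Finset (Fin (n + 1)) := Finset.univ.filter (fun j => ¬ ((j : ℕ) < n + 1 - d)) with hQ
  have hPQ : Disjoint P Q := by
    rw [Finset.disjoint_left]
    intro i hi hi'
    rw [hP, Finset.mem_filter] at hi
    rw [hQ, Finset.mem_filter] at hi'
    omega
  have hPc : P.card = c := by
    rw [hP, Fin.card_filter_val_lt]
    omega
  have hQc : Q.card = d := by
    have h1 := Finset.card_filter_add_card_filter_not (s := (Finset.univ : Finset (Fin (n + 1))))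
      (fun j => (j : ℕ) < n + 1 - d)
    rw [Fin.card_filter_val_lt, Finset.card_univ, Fintype.card_fin] at h1
    rw [hQ]
    omega
  have hI : (Ideal.span {f : MvPolynomial (Fin (n + 1)) k | ∃ i j : Fin (n + 1), i.val + 1 ≤ c ∧ n + 1 ≤ j.val + d ∧
        f = MvPolynomial.X i * MvPolynomial.X j}) = J k P Q := by
    unfold J
    congr 1
    ext f
    simp only [Set.mem_setOf_eq, Set.mem_image, Finset.mem_coe]
    constructor
    · rintro ⟨i, j, hi, hj, rfl⟩
      refine ⟨gen i j, ?_, ?_⟩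
      · unfold G
        rw [Finset.mem_image]
        refine ⟨(i, j), Finset.mem_product.mpr ⟨?_, ?_⟩, rfl⟩
        · show i ∈ P
          rw [hP, Finset.mem_filter]
          exact ⟨Finset.mem_univ _, by omega⟩
        · show j ∈ Q
          rw [hQ, Finset.mem_filter]
          exact ⟨Finset.mem_univ _, by omega⟩
      · unfold gen
        rw [X, X, monomial_mul, one_mul]
    · rintro ⟨β, hβ, rfl⟩
      unfold G at hβ
      rw [Finset.mem_image] at hβ
      obtain ⟨⟨i, j⟩, hp, rfl⟩ := hβ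
      rw [Finset.mem_product, hP, hQ, Finset.mem_filter, Finset.mem_filter] at hp
      dsimp only at hp
      refine ⟨i, j, by omega, by omega, ?_⟩
      unfold gen
      rw [X, X, monomial_mul, one_mul]
  rw [hI, finrank_degree_zero hPQ (by omega) (by omega), hPc, hQc, Fintype.card_fin]
  have e1 : n + 1 - c = n - c + 1 := by omega
  have e2 : n + 1 - d = n - d + 1 := by omega
  rw [e1, e2]

end Final

end Groth.Agent.Lib.Helper24TwoBlk
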