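import Mathlib
import Groth.Agent.Lib.Helper24GenV
import Groth.Agent.Lib.Helper24TwoBlk

set_option autoImplicit false
universe u

namespace Groth.Agent.Lib.Helper24Nest

open W4c1hilbpn MvPolynomial Groth.Agent.Lib.Helper24TgtPiece Groth.Agent.Lib.Helper24GenV
open Groth.Agent.Lib.Helper24TwoBlk (gen gen_apply gen_le_iff)

variable {σ : Type*} [Fintype σ] [DecidableEq σ] {k : Type*} [Field k]

section generic

variable {ι : Type*} [DecidableEq ι] (g : ι → σ →₀ ℕ) (α : σ → ℤ)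

/-- dimension count when the classes are single generators -/
theorem finrank_V_of_isolated (s : Finset ι) (hA : ∀ i ∈ s, Act g α i)
    (hB : ∀ i ∈ s, ∀ j γ, g i ≤ γ → g j ≤ γ → nn γ α → Std g (shift γ α) → j = i)
    (hC : ∀ i, i ∉ s → ¬ Act g α i) :
    Module.finrank k ↥(V k g α) = s.card := by
  have h := finrank_V_eq (k := k) g α (κ := ↥s)
    (fun i => if h : i ∈ s then some ⟨i, h⟩ else none)
    (fun i m hm => by
      by_cases h : i ∈ s
      · exact hA i h
      · simp [h] at hm)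
    (fun i j γ m hi hj hn hS hm => by
      by_cases h : i ∈ s
      · have hji := hB i h j γ hi hj hn hS
        subst hji
        exact hm
      · simp [h] at hm)
    (fun i hi c hc => by
      by_cases h : i ∈ s
      · simp [h] at hi
      · exact hc.1 i (hC i h))
    (fun i j m hi hj c hc => by
      by_cases h : i ∈ s
      · by_cases h' : j ∈ s
        · simp only [h, h', dite_true, Option.some.injEq] at hi hj
          have : i = j := by
            have e1 := congrArg Subtype.val hi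
            have e2 := congrArg Subtype.val hj
            simp only at e1 e2
            rw [e1, e2]
          rw [this]
        · simp [h'] at hj
      · simp [h] at hi)
    (fun m => ⟨m.1, by simp [m.2]⟩)
  rw [h, Fintype.card_coe]

lemma zero_of_bad {c : ι → k} (hc : c ∈ V k g α) (i j : ι) (γ : σ →₀ ℕ) (hi : g i ≤ γ)
    (hj : g j ≤ γ) (hn : nn γ α) (hS : Std g (shift γ α)) (hj' : ¬ nn (g j) α) : c i = 0 := by
  rw [hc.2 i j γ hi hj hn hS]
  exact hc.1 j (fun h => hj' h.1)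

end generic

/-- configuration: the two variables of the small block and the free variable -/
structure Cfg (σ : Type*) where
  b : σ
  b' : σ
  a : σ
  hbb : b ≠ b'
  hba : b ≠ a
  hb'a : b' ≠ a

/-- exchanging the two variables of the small block -/
def Cfg.swap (C : Cfg σ) : Cfg σ := ⟨C.b', C.b, C.a, C.hbb.symm, C.hb'a, C.hba⟩

/-- the middle variables -/
abbrev Mid (C : Cfg σ) : Type _ := {x : σ // x ≠ C.b ∧ x ≠ C.b' ∧ x ≠ C.a}

/-- index type of the generators -/
inductive GI (M : Type*) : Type _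
  | bb : GI M
  | bb' : GI M
  | b'b' : GI M
  | bm (x : M) : GI M
  | b'm (x : M) : GI M
  deriving DecidableEq

/-- exponent vectors of the generators -/
noncomputable def gI (C : Cfg σ) : GI (Mid C) → σ →₀ ℕ
  | .bb => gen C.b C.b
  | .bb' => gen C.b C.b'
  | .b'b' => gen C.b' C.b'
  | .bm x => gen C.b x.1
  | .b'm x => gen C.b' x.1

lemma gen_le_iff' (p l : σ) (γ : σ →₀ ℕ) :
    gen p l ≤ γ ↔ 1 ≤ γ p ∧ 1 ≤ γ l ∧ (p = l → 2 ≤ γ p) := by
  by_cases h : p = l
  · subst h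
    constructor
    · intro hle
      have := hle p
      rw [gen_apply] at this
      simp only [if_true] at this
      refine ⟨by omega, by omega, fun _ => by omega⟩
    · rintro ⟨_, _, h3⟩ x
      have := h3 rfl
      rw [gen_apply]
      by_cases hx : p = x
      · subst hx
        simp only [if_true]
        omega
      · simp only [if_neg hx]
        omega
  · rw [gen_le_iff h]
    constructor
    · rintro ⟨h1, h2⟩
      exact ⟨h1, h2, fun h' => absurd h' h⟩
    · rintro ⟨h1, h2, _⟩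
      exact ⟨h1, h2⟩

section le

variable (C : Cfg σ) (γ : σ →₀ ℕ)

lemma le_bb : gI C .bb ≤ γ ↔ 2 ≤ γ C.b := by
  show gen C.b C.b ≤ γ ↔ _
  rw [gen_le_iff']
  constructor
  · intro h; exact h.2.2 rfl
  · intro h; exact ⟨by omega, by omega, fun _ => h⟩

lemma le_bb' : gI C .bb' ≤ γ ↔ 1 ≤ γ C.b ∧ 1 ≤ γ C.b' := by
  show gen C.b C.b' ≤ γ ↔ _
  rw [gen_le_iff C.hbb]

lemma le_b'b' : gI C .b'b' ≤ γ ↔ 2 ≤ γ C.b' := by
  show gen C.b' C.b' ≤ γ ↔ _
  rw [gen_le_iff']
  constructor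
  · intro h; exact h.2.2 rfl
  · intro h; exact ⟨by omega, by omega, fun _ => h⟩

lemma le_bm (x : Mid C) : gI C (.bm x) ≤ γ ↔ 1 ≤ γ C.b ∧ 1 ≤ γ x.1 := by
  show gen C.b x.1 ≤ γ ↔ _
  rw [gen_le_iff (Ne.symm x.2.1)]

lemma le_b'm (x : Mid C) : gI C (.b'm x) ≤ γ ↔ 1 ≤ γ C.b' ∧ 1 ≤ γ x.1 := by
  show gen C.b' x.1 ≤ γ ↔ _
  rw [gen_le_iff (Ne.symm x.2.2.1)]

end le

/-- closed form for the standard monomials -/
lemma std_iff' (C : Cfg σ) (w : σ →₀ ℕ) : Std (gI C) w ↔
    (w C.b = 0 ∧ w C.b' = 0) ∨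
      (w C.b + w C.b' = 1 ∧ ∀ x, x ≠ C.b → x ≠ C.b' → x ≠ C.a → w x = 0) := by
  constructor
  · intro hS
    have h1 := hS .bb
    have h2 := hS .b'b'
    have h3 := hS .bb'
    rw [le_bb] at h1
    rw [le_b'b'] at h2
    rw [le_bb'] at h3
    by_cases hz : w C.b = 0 ∧ w C.b' = 0
    · exact Or.inl hz
    · right
      refine ⟨by omega, fun x hx hx' hxa => ?_⟩
      have h4 := (le_bm C w ⟨x, hx, hx', hxa⟩).not.mp (hS _)
      have h5 := (le_b'm C w ⟨x, hx, hx', hxa⟩).not.mp (hS _)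
      dsimp only at h4 h5
      omega
  · intro h i hi
    cases i with
    | bb => rw [le_bb] at hi; omega
    | bb' => rw [le_bb'] at hi; omega
    | b'b' => rw [le_b'b'] at hi; omega
    | bm x =>
      rw [le_bm] at hi
      rcases h with h | ⟨h1, h2⟩
      · omega
      · have := h2 x.1 x.2.1 x.2.2.1 x.2.2.2
        omega
    | b'm x =>
      rw [le_b'm] at hi
      rcases h with h | ⟨h1, h2⟩
      · omega
      · have := h2 x.1 x.2.1 x.2.2.1 x.2.2.2
        omega

lemma shift_cast {γ : σ →₀ ℕ} {α : σ → ℤ} (hn : nn γ α) (x : σ) :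
    ((shift γ α x : ℕ) : ℤ) = (γ x : ℤ) + α x := by
  rw [shift_apply]
  exact Int.toNat_of_nonneg (hn x)

/-- closed form for standardness of a shifted monomial -/
lemma std_shift_iff (C : Cfg σ) {γ : σ →₀ ℕ} {α : σ → ℤ} (hn : nn γ α) :
    Std (gI C) (shift γ α) ↔
      (((γ C.b : ℤ) + α C.b = 0 ∧ (γ C.b' : ℤ) + α C.b' = 0) ∨
        (((γ C.b : ℤ) + α C.b) + ((γ C.b' : ℤ) + α C.b') = 1 ∧
          ∀ x, x ≠ C.b → x ≠ C.b' → x ≠ C.a → (γ x : ℤ) + α x = 0)) := by
  rw [std_iff']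
  have eb := shift_cast hn C.b
  have eb' := shift_cast hn C.b'
  constructor
  · rintro (⟨h1, h2⟩ | ⟨h1, h2⟩)
    · left; constructor <;> omega
    · right
      refine ⟨by omega, fun x hx hx' hxa => ?_⟩
      have := shift_cast hn x
      have := h2 x hx hx' hxa
      omega
  · rintro (⟨h1, h2⟩ | ⟨h1, h2⟩)
    · left; constructor <;> omega
    · right
      refine ⟨by omega, fun x hx hx' hxa => ?_⟩
      have := shift_cast hn x
      have := h2 x hx hx' hxa
      omega

/-- the multidegree `e_x + e_x' - e_y - e_y'` -/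
def α4 (x x' y y' : σ) : σ → ℤ := fun l =>
  (if l = x then 1 else 0) + (if l = x' then 1 else 0) - (if l = y then 1 else 0) -
    (if l = y' then 1 else 0)

/-- the multidegree `e_x - e_y` -/
def αd (x y : σ) : σ → ℤ := fun l => (if l = x then 1 else 0) - (if l = y then 1 else 0)

lemma nn_αd {x y : σ} (γ : σ →₀ ℕ) : nn γ (αd x y) ↔ (x ≠ y → 1 ≤ γ y) := by
  constructor
  · intro h hxy
    have := h y
    simp only [αd, if_neg (Ne.symm hxy), if_true] at this
    omega
  · intro h l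
    simp only [αd]
    by_cases hxy : x = y
    · subst hxy
      split_ifs <;> omega
    · have := h hxy
      by_cases hly : l = y
      · subst hly
        split_ifs <;> omega
      · rw [if_neg hly]
        split_ifs <;> omega

lemma nn_α4 {x x' y y' : σ} (γ : σ →₀ ℕ) (h1 : y ≠ x) (h2 : y ≠ x') (h3 : y' ≠ x) (h4 : y' ≠ x') :
    nn γ (α4 x x' y y') ↔ (1 ≤ γ y ∧ 1 ≤ γ y' ∧ (y = y' → 2 ≤ γ y)) := by
  constructor
  · intro h
    have e1 := h y
    have e2 := h y'
    simp only [α4, if_neg h1, if_neg h2, if_neg h3, if_neg h4, if_true] at e1 e2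
    refine ⟨?_, ?_, ?_⟩
    · split_ifs at e1 <;> omega
    · split_ifs at e2 <;> omega
    · intro hyy
      subst hyy
      simp only [if_true] at e1
      omega
  · rintro ⟨e1, e2, e3⟩ l
    simp only [α4]
    by_cases hly : l = y
    · subst hly
      by_cases hly' : l = y'
      · subst hly'
        have := e3 rfl
        split_ifs <;> omega
      · rw [if_neg hly']
        split_ifs <;> omega
    · rw [if_neg hly]
      by_cases hly' : l = y'
      · subst hly'
        split_ifs <;> omega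
      · rw [if_neg hly']
        split_ifs <;> omega

/-- first variable of a generator -/
def pOf (C : Cfg σ) : GI (Mid C) → σ
  | .bb => C.b | .bb' => C.b | .b'b' => C.b' | .bm _ => C.b | .b'm _ => C.b'

/-- second variable of a generator -/
def lOf (C : Cfg σ) : GI (Mid C) → σ
  | .bb => C.b | .bb' => C.b' | .b'b' => C.b' | .bm x => x.1 | .b'm x => x.1

lemma gI_apply (C : Cfg σ) (i : GI (Mid C)) (x : σ) :
    gI C i x = (if pOf C i = x then 1 else 0) + (if lOf C i = x then 1 else 0) := by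
  cases i <;> exact gen_apply _ _ _

section Type2

variable (C : Cfg σ)

lemma α2_b : αd C.a C.b C.b = -1 := by simp [αd, C.hba]
lemma α2_b' : αd C.a C.b C.b' = 0 := by simp [αd, C.hb'a, C.hbb.symm]
lemma α2_x {x : σ} (h1 : x ≠ C.a) (h2 : x ≠ C.b) : αd C.a C.b x = 0 := by simp [αd, h1, h2]

lemma lnk2 {γ : σ →₀ ℕ} (hn : nn γ (αd C.a C.b)) (hS : Std (gI C) (shift γ (αd C.a C.b))) :
    1 ≤ γ C.b ∧ ((γ C.b = 1 ∧ γ C.b' = 0) ∨
      (γ C.b + γ C.b' = 2 ∧ ∀ x, x ≠ C.b → x ≠ C.b' → x ≠ C.a → γ x = 0)) := by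
  rw [std_shift_iff C hn, α2_b, α2_b'] at hS
  have h1 := (nn_αd γ).mp hn (Ne.symm C.hba)
  refine ⟨h1, ?_⟩
  rcases hS with ⟨e1, e2⟩ | ⟨e1, e2⟩
  · left; omega
  · right
    refine ⟨by omega, fun x hx hx' hxa => ?_⟩
    have := e2 x hx hx' hxa
    rw [α2_x C hxa hx] at this
    omega

/-- labels for the multidegree `e_a - e_b` -/
def ℓ2 : GI (Mid C) → Option (Fin 3)
  | .bb => some 0
  | .bb' => some 1
  | .bm _ => some 2
  | _ => none

lemma act2 (i : GI (Mid C)) (m : Fin 3) (h : ℓ2 C i = some m) : Act (gI C) (αd C.a C.b) i := by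
  have hn : nn (gI C i) (αd C.a C.b) := by
    rw [nn_αd]
    intro _
    cases i <;> simp [ℓ2] at h <;> simp [gI_apply, pOf, lOf]
  refine ⟨hn, (std_shift_iff C hn).mpr ?_⟩
  rw [α2_b, α2_b']
  cases i with
  | bb =>
    right
    refine ⟨by simp [gI_apply, pOf, lOf, C.hbb, C.hbb.symm], fun x hx hx' hxa => ?_⟩
    rw [α2_x C hxa hx]
    simp [gI_apply, pOf, lOf, Ne.symm hx, Ne.symm hx']
  | bb' =>
    right
    refine ⟨by simp [gI_apply, pOf, lOf, C.hbb, C.hbb.symm], fun x hx hx' hxa => ?_⟩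
    rw [α2_x C hxa hx]
    simp [gI_apply, pOf, lOf, Ne.symm hx, Ne.symm hx']
  | b'b' => simp [ℓ2] at h
  | bm y => left; simp [gI_apply, pOf, lOf, C.hbb, y.2.1, y.2.2.1]
  | b'm y => simp [ℓ2] at h

lemma clo2 (i j : GI (Mid C)) (γ : σ →₀ ℕ) (m : Fin 3) (hi : gI C i ≤ γ) (hj : gI C j ≤ γ)
    (hn : nn γ (αd C.a C.b)) (hS : Std (gI C) (shift γ (αd C.a C.b)))
    (hl : ℓ2 C i = some m) : ℓ2 C j = some m := by
  obtain ⟨h1, h2⟩ := lnk2 C hn hS
  cases i <;> cases j <;> simp only [ℓ2] at hl ⊢ <;>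
    first
    | exact hl
    | (exfalso
       simp only [le_bb, le_bb', le_b'b', le_bm, le_b'm] at hi hj
       rcases h2 with h2 | ⟨h2, h3⟩
       · omega
       · have h3' : ∀ x : Mid C, γ x.1 = 0 := fun x => h3 x.1 x.2.1 x.2.2.1 x.2.2.2
         try simp only [h3'] at hi hj
         omega)

lemma nact2 (i : GI (Mid C)) (h : ℓ2 C i = none) : ¬ Act (gI C) (αd C.a C.b) i := by
  intro hA
  have := (nn_αd _).mp hA.1 (Ne.symm C.hba)
  cases i with
  | bb => simp [ℓ2] at h
  | bb' => simp [ℓ2] at h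
  | b'b' => simp [gI_apply, pOf, lOf, C.hbb.symm] at this
  | bm y => simp [ℓ2] at h
  | b'm y => simp [gI_apply, pOf, lOf, C.hbb.symm, y.2.1] at this

lemma same2 (i j : GI (Mid C)) (m : Fin 3) (hi : ℓ2 C i = some m) (hj : ℓ2 C j = some m)
    (c : GI (Mid C) → k) (hc : c ∈ V k (gI C) (αd C.a C.b)) : c i = c j := by
  cases i with
  | bb => cases j <;> simp only [ℓ2] at hi hj <;> first | rfl | (exfalso; rw [← hj] at hi; simp at hi)
  | bb' => cases j <;> simp only [ℓ2] at hi hj <;> first | rfl | (exfalso; rw [← hj] at hi; simp at hi)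
  | b'b' => simp [ℓ2] at hi
  | b'm x => simp [ℓ2] at hi
  | bm x =>
  cases j with
  | bb => simp only [ℓ2] at hi hj; exfalso; rw [← hj] at hi; simp at hi
  | bb' => simp only [ℓ2] at hi hj; exfalso; rw [← hj] at hi; simp at hi
  | b'b' => simp [ℓ2] at hj
  | b'm y => simp [ℓ2] at hj
  | bm y =>
  refine hc.2 _ _ (gI C (.bm x) + Finsupp.single y.1 1) le_self_add ?_ ?_ ?_
  · rw [le_bm]
    simp [gI_apply, pOf, lOf, Finsupp.single_apply, x.2.1, y.2.1]
  · rw [nn_αd]
    intro _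
    simp [gI_apply, pOf, lOf, Finsupp.single_apply, x.2.1, y.2.1]
  · have hn : nn (gI C (.bm x) + Finsupp.single y.1 1) (αd C.a C.b) := by
      rw [nn_αd]
      intro _
      simp [gI_apply, pOf, lOf, Finsupp.single_apply, x.2.1, y.2.1]
    rw [std_shift_iff C hn, α2_b, α2_b']
    left
    simp [gI_apply, pOf, lOf, Finsupp.single_apply, C.hbb, x.2.1, x.2.2.1, y.2.1, y.2.2.1]

theorem finrank_V2 (t : Mid C) : Module.finrank k ↥(V k (gI C) (αd C.a C.b)) = 3 := by
  have h := finrank_V_eq (k := k) (gI C) (αd C.a C.b) (ℓ2 C) (act2 C) (clo2 C)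
    (fun i hi c hc => hc.1 i (nact2 C i hi)) (same2 C) (fun m => by
      fin_cases m
      · exact ⟨.bb, rfl⟩
      · exact ⟨.bb', rfl⟩
      · exact ⟨.bm t, rfl⟩)
  rw [h, Fintype.card_fin]

end Type2

section Type1

variable (C : Cfg σ) (j : Mid C)

lemma α1_b : αd C.a j.1 C.b = 0 := by simp [αd, C.hba, Ne.symm j.2.1]
lemma α1_b' : αd C.a j.1 C.b' = 0 := by simp [αd, C.hb'a, Ne.symm j.2.2.1]
lemma α1_m (x : Mid C) : αd C.a j.1 x.1 = -(if x.1 = j.1 then 1 else 0) := by
  simp [αd, x.2.2.2]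

lemma lnk1 {γ : σ →₀ ℕ} (hn : nn γ (αd C.a j.1)) (hS : Std (gI C) (shift γ (αd C.a j.1))) :
    1 ≤ γ j.1 ∧ γ C.b + γ C.b' ≤ 1 ∧
      (γ C.b + γ C.b' = 1 → ∀ x : Mid C, γ x.1 = if x.1 = j.1 then 1 else 0) := by
  rw [std_shift_iff C hn, α1_b, α1_b'] at hS
  have h1 := (nn_αd γ).mp hn (Ne.symm j.2.2.2)
  refine ⟨h1, ?_, ?_⟩
  · rcases hS with ⟨e1, e2⟩ | ⟨e1, e2⟩ <;> omega
  · intro hsum x
    rcases hS with ⟨e1, e2⟩ | ⟨e1, e2⟩
    · omega
    · have := e2 x.1 x.2.1 x.2.2.1 x.2.2.2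
      rw [α1_m] at this
      split_ifs at this ⊢ <;> omega

lemma gI_bm_mid (y x : Mid C) : gI C (.bm y) x.1 = if y.1 = x.1 then 1 else 0 := by
  simp [gI_apply, pOf, lOf, Ne.symm x.2.1] <;> rfl

lemma gI_b'm_mid (y x : Mid C) : gI C (.b'm y) x.1 = if y.1 = x.1 then 1 else 0 := by
  simp [gI_apply, pOf, lOf, Ne.symm x.2.2.1] <;> rfl

theorem finrank_V1 : Module.finrank k ↥(V k (gI C) (αd C.a j.1)) = 2 := by
  have h := finrank_V_of_isolated (k := k) (gI C) (αd C.a j.1) {GI.bm j, GI.b'm j} ?_ ?_ ?_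
  · rw [h, Finset.card_pair (by simp)]
  · intro i hi
    simp only [Finset.mem_insert, Finset.mem_singleton] at hi
    rcases hi with rfl | rfl
    · have hn : nn (gI C (.bm j)) (αd C.a j.1) := by
        rw [nn_αd]; intro _; rw [gI_bm_mid]; simp
      refine ⟨hn, (std_shift_iff C hn).mpr ?_⟩
      rw [α1_b, α1_b']
      right
      refine ⟨by simp [gI_apply, pOf, lOf, C.hbb, j.2.1, j.2.2.1], fun x hx hx' hxa => ?_⟩
      have := α1_m C j ⟨x, hx, hx', hxa⟩
      have e := gI_bm_mid C j ⟨x, hx, hx', hxa⟩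
      dsimp only at this e
      rw [this, e]
      by_cases hxj : x = j.1
      · simp [hxj]
      · simp [hxj, Ne.symm hxj]
    · have hn : nn (gI C (.b'm j)) (αd C.a j.1) := by
        rw [nn_αd]; intro _; rw [gI_b'm_mid]; simp
      refine ⟨hn, (std_shift_iff C hn).mpr ?_⟩
      rw [α1_b, α1_b']
      right
      refine ⟨by simp [gI_apply, pOf, lOf, C.hbb.symm, j.2.1, j.2.2.1], fun x hx hx' hxa => ?_⟩
      have := α1_m C j ⟨x, hx, hx', hxa⟩
      have e := gI_b'm_mid C j ⟨x, hx, hx', hxa⟩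
      dsimp only at this e
      rw [this, e]
      by_cases hxj : x = j.1
      · simp [hxj]
      · simp [hxj, Ne.symm hxj]
  · intro i hi j' γ hle hle' hn hS
    obtain ⟨h1, h2, h3⟩ := lnk1 C j hn hS
    simp only [Finset.mem_insert, Finset.mem_singleton] at hi
    rcases hi with rfl | rfl
    · rw [le_bm] at hle
      have h3' := h3 (by omega)
      cases j' with
      | bb => rw [le_bb] at hle'; omega
      | bb' => rw [le_bb'] at hle'; omega
      | b'b' => rw [le_b'b'] at hle'; omega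
      | bm x =>
        rw [le_bm] at hle'
        have := h3' x
        by_cases hx : x.1 = j.1
        · rw [Subtype.ext hx]
        · rw [if_neg hx] at this; omega
      | b'm x => rw [le_b'm] at hle'; omega
    · rw [le_b'm] at hle
      have h3' := h3 (by omega)
      cases j' with
      | bb => rw [le_bb] at hle'; omega
      | bb' => rw [le_bb'] at hle'; omega
      | b'b' => rw [le_b'b'] at hle'; omega
      | b'm x =>
        rw [le_b'm] at hle'
        have := h3' x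
        by_cases hx : x.1 = j.1
        · rw [Subtype.ext hx]
        · rw [if_neg hx] at this; omega
      | bm x => rw [le_bm] at hle'; omega
  · intro i hi hA
    have h1 := (nn_αd _).mp hA.1 (Ne.symm j.2.2.2)
    simp only [Finset.mem_insert, Finset.mem_singleton, not_or] at hi
    cases i with
    | bb => simp [gI_apply, pOf, lOf, Ne.symm j.2.1] at h1
    | bb' => simp [gI_apply, pOf, lOf, Ne.symm j.2.1, Ne.symm j.2.2.1] at h1
    | b'b' => simp [gI_apply, pOf, lOf, Ne.symm j.2.2.1] at h1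
    | bm x =>
      rw [gI_bm_mid] at h1
      by_cases hx : x.1 = j.1
      · exact hi.1 (by rw [Subtype.ext hx])
      · simp [hx] at h1
    | b'm x =>
      rw [gI_b'm_mid] at h1
      by_cases hx : x.1 = j.1
      · exact hi.2 (by rw [Subtype.ext hx])
      · simp [hx] at h1

end Type1

section Type3

variable (C : Cfg σ) (j : Mid C)

lemma α3_b : αd j.1 C.b C.b = -1 := by simp [αd, Ne.symm j.2.1]
lemma α3_b' : αd j.1 C.b C.b' = 0 := by simp [αd, Ne.symm j.2.2.1, C.hbb.symm]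
lemma α3_j : αd j.1 C.b j.1 = 1 := by simp [αd, j.2.1]

lemma lnk3 {γ : σ →₀ ℕ} (hn : nn γ (αd j.1 C.b)) (hS : Std (gI C) (shift γ (αd j.1 C.b))) :
    γ C.b = 1 ∧ γ C.b' = 0 := by
  rw [std_shift_iff C hn, α3_b, α3_b'] at hS
  rcases hS with ⟨e1, e2⟩ | ⟨e1, e2⟩
  · omega
  · have := e2 j.1 j.2.1 j.2.2.1 j.2.2.2
    rw [α3_j] at this
    omega

/-- labels for the multidegree `e_j - e_b` -/
def ℓ3 : GI (Mid C) → Option (Fin 1)
  | .bm _ => some 0
  | _ => none

lemma nn3_iff (γ : σ →₀ ℕ) : nn γ (αd j.1 C.b) ↔ 1 ≤ γ C.b := by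
  rw [nn_αd]
  exact ⟨fun h => h j.2.1, fun h _ => h⟩

lemma std3_of {γ : σ →₀ ℕ} (h1 : γ C.b = 1) (h2 : γ C.b' = 0) :
    nn γ (αd j.1 C.b) ∧ Std (gI C) (shift γ (αd j.1 C.b)) := by
  have hn : nn γ (αd j.1 C.b) := (nn3_iff C j γ).mpr (by omega)
  refine ⟨hn, (std_shift_iff C hn).mpr ?_⟩
  rw [α3_b, α3_b']
  left
  omega

theorem finrank_V3 (t : Mid C) : Module.finrank k ↥(V k (gI C) (αd j.1 C.b)) = 1 := by
  have h := finrank_V_eq (k := k) (gI C) (αd j.1 C.b) (ℓ3 C) ?_ ?_ ?_ ?_ ?_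
  · rw [h, Fintype.card_fin]
  · intro i m hm
    cases i with
    | bm y => exact std3_of C j (by simp [gI_apply, pOf, lOf, y.2.1]) (by simp [gI_apply, pOf, lOf, C.hbb, y.2.2.1])
    | bb => simp [ℓ3] at hm
    | bb' => simp [ℓ3] at hm
    | b'b' => simp [ℓ3] at hm
    | b'm y => simp [ℓ3] at hm
  · intro i i' γ m hi hj hn hS hl
    obtain ⟨h1, h2⟩ := lnk3 C j hn hS
    cases i <;> cases i' <;> simp only [ℓ3] at hl ⊢ <;>
      first
      | exact hl
      | (exfalso
         simp only [le_bb, le_bb', le_b'b', le_bm, le_b'm] at hi hj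
         omega)
  · intro i hi c hc
    apply hc.1
    intro hA
    obtain ⟨h1, h2⟩ := lnk3 C j hA.1 hA.2
    cases i with
    | bm y => simp [ℓ3] at hi
    | bb => simp [gI_apply, pOf, lOf] at h1
    | bb' => simp [gI_apply, pOf, lOf, C.hbb] at h2
    | b'b' => simp [gI_apply, pOf, lOf] at h2
    | b'm y => simp [gI_apply, pOf, lOf, C.hbb.symm] at h2
  · intro i i' m hi hj c hc
    cases i with
    | bb => simp [ℓ3] at hi
    | bb' => simp [ℓ3] at hi
    | b'b' => simp [ℓ3] at hi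
    | b'm y => simp [ℓ3] at hi
    | bm x =>
    cases i' with
    | bb => simp [ℓ3] at hj
    | bb' => simp [ℓ3] at hj
    | b'b' => simp [ℓ3] at hj
    | b'm y => simp [ℓ3] at hj
    | bm y =>
    have hγ := std3_of C j (γ := gI C (.bm x) + Finsupp.single y.1 1)
      (by simp [gI_apply, pOf, lOf, Finsupp.single_apply, x.2.1, y.2.1])
      (by simp [gI_apply, pOf, lOf, Finsupp.single_apply, C.hbb, x.2.2.1, y.2.2.1])
    refine hc.2 _ _ (gI C (.bm x) + Finsupp.single y.1 1) le_self_add ?_ hγ.1 hγ.2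
    rw [le_bm]
    simp [gI_apply, pOf, lOf, Finsupp.single_apply, x.2.1, y.2.1]
  · intro m
    exact ⟨.bm t, by fin_cases m; rfl⟩

end Type3

section Type4

variable (C : Cfg σ)

lemma α4_b : α4 C.b' C.a C.b C.b C.b = -2 := by simp [α4, C.hbb, C.hba]
lemma α4_b' : α4 C.b' C.a C.b C.b C.b' = 1 := by simp [α4, C.hbb.symm, C.hb'a]
lemma α4_m (x : Mid C) : α4 C.b' C.a C.b C.b x.1 = 0 := by
  simp [α4, x.2.1, x.2.2.1, x.2.2.2]

lemma nn4_iff (γ : σ →₀ ℕ) : nn γ (α4 C.b' C.a C.b C.b) ↔ 2 ≤ γ C.b := by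
  rw [nn_α4 γ C.hbb C.hba C.hbb C.hba]
  constructor
  · intro h; exact h.2.2 rfl
  · intro h; exact ⟨by omega, by omega, fun _ => h⟩

lemma lnk4 {γ : σ →₀ ℕ} (hn : nn γ (α4 C.b' C.a C.b C.b))
    (hS : Std (gI C) (shift γ (α4 C.b' C.a C.b C.b))) :
    γ C.b = 2 ∧ γ C.b' = 0 ∧ ∀ x : Mid C, γ x.1 = 0 := by
  rw [std_shift_iff C hn, α4_b, α4_b'] at hS
  have h1 := (nn4_iff C γ).mp hn
  rcases hS with ⟨e1, e2⟩ | ⟨e1, e2⟩
  · omega
  · refine ⟨by omega, by omega, fun x => ?_⟩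
    have := e2 x.1 x.2.1 x.2.2.1 x.2.2.2
    rw [α4_m] at this
    omega

theorem finrank_V4 : Module.finrank k ↥(V k (gI C) (α4 C.b' C.a C.b C.b)) = 1 := by
  have h := finrank_V_of_isolated (k := k) (gI C) (α4 C.b' C.a C.b C.b) {GI.bb} ?_ ?_ ?_
  · rw [h, Finset.card_singleton]
  · intro i hi
    rw [Finset.mem_singleton] at hi
    subst hi
    have hn : nn (gI C .bb) (α4 C.b' C.a C.b C.b) := by
      rw [nn4_iff]; simp [gI_apply, pOf, lOf]
    refine ⟨hn, (std_shift_iff C hn).mpr ?_⟩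
    rw [α4_b, α4_b']
    right
    refine ⟨by simp [gI_apply, pOf, lOf, C.hbb], fun x hx hx' hxa => ?_⟩
    have := α4_m C ⟨x, hx, hx', hxa⟩
    dsimp only at this
    rw [this]
    simp [gI_apply, pOf, lOf, Ne.symm hx]
  · intro i hi j' γ hle hle' hn hS
    rw [Finset.mem_singleton] at hi
    subst hi
    obtain ⟨h1, h2, h3⟩ := lnk4 C hn hS
    cases j' with
    | bb => rfl
    | bb' => rw [le_bb'] at hle'; omega
    | b'b' => rw [le_b'b'] at hle'; omega
    | bm x => rw [le_bm] at hle'; have := h3 x; omega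
    | b'm x => rw [le_b'm] at hle'; omega
  · intro i hi hA
    have h1 := (nn4_iff C _).mp hA.1
    rw [Finset.mem_singleton] at hi
    cases i with
    | bb => exact hi rfl
    | bb' => simp [gI_apply, pOf, lOf, C.hbb.symm] at h1
    | b'b' => simp [gI_apply, pOf, lOf, C.hbb.symm] at h1
    | bm x => simp [gI_apply, pOf, lOf, x.2.1] at h1
    | b'm x => simp [gI_apply, pOf, lOf, C.hbb.symm, x.2.1] at h1

end Type4

section Type5

variable (C : Cfg σ) (j : Mid C)

lemma α5_b : α4 C.b' C.a C.b j.1 C.b = -1 := by simp [α4, C.hbb, C.hba, Ne.symm j.2.1]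
lemma α5_b' : α4 C.b' C.a C.b j.1 C.b' = 1 := by simp [α4, C.hbb.symm, C.hb'a, Ne.symm j.2.2.1]
lemma α5_m (x : Mid C) : α4 C.b' C.a C.b j.1 x.1 = -(if x.1 = j.1 then 1 else 0) := by
  simp [α4, x.2.1, x.2.2.1, x.2.2.2]

lemma nn5_iff (γ : σ →₀ ℕ) : nn γ (α4 C.b' C.a C.b j.1) ↔ 1 ≤ γ C.b ∧ 1 ≤ γ j.1 := by
  rw [nn_α4 γ C.hbb C.hba j.2.2.1 j.2.2.2]
  constructor
  · intro h; exact ⟨h.1, h.2.1⟩
  · intro h; exact ⟨h.1, h.2, fun h' => absurd h'.symm j.2.1⟩

lemma lnk5 {γ : σ →₀ ℕ} (hn : nn γ (α4 C.b' C.a C.b j.1))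
    (hS : Std (gI C) (shift γ (α4 C.b' C.a C.b j.1))) :
    γ C.b = 1 ∧ γ C.b' = 0 ∧ ∀ x : Mid C, γ x.1 = if x.1 = j.1 then 1 else 0 := by
  rw [std_shift_iff C hn, α5_b, α5_b'] at hS
  have h1 := (nn5_iff C j γ).mp hn
  rcases hS with ⟨e1, e2⟩ | ⟨e1, e2⟩
  · omega
  · refine ⟨by omega, by omega, fun x => ?_⟩
    have := e2 x.1 x.2.1 x.2.2.1 x.2.2.2
    rw [α5_m] at this
    split_ifs at this ⊢ <;> omega

theorem finrank_V5 : Module.finrank k ↥(V k (gI C) (α4 C.b' C.a C.b j.1)) = 1 := by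
  have h := finrank_V_of_isolated (k := k) (gI C) (α4 C.b' C.a C.b j.1) {GI.bm j} ?_ ?_ ?_
  · rw [h, Finset.card_singleton]
  · intro i hi
    rw [Finset.mem_singleton] at hi
    subst hi
    have hn : nn (gI C (.bm j)) (α4 C.b' C.a C.b j.1) := by
      rw [nn5_iff]; simp [gI_apply, pOf, lOf, j.2.1]
    refine ⟨hn, (std_shift_iff C hn).mpr ?_⟩
    rw [α5_b, α5_b']
    right
    refine ⟨by simp [gI_apply, pOf, lOf, C.hbb, j.2.1, j.2.2.1], fun x hx hx' hxa => ?_⟩
    have := α5_m C j ⟨x, hx, hx', hxa⟩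
    have e := gI_bm_mid C j ⟨x, hx, hx', hxa⟩
    dsimp only at this e
    rw [this, e]
    by_cases hxj : x = j.1
    · simp [hxj]
    · simp [hxj, Ne.symm hxj]
  · intro i hi j' γ hle hle' hn hS
    rw [Finset.mem_singleton] at hi
    subst hi
    obtain ⟨h1, h2, h3⟩ := lnk5 C j hn hS
    cases j' with
    | bb => rw [le_bb] at hle'; omega
    | bb' => rw [le_bb'] at hle'; omega
    | b'b' => rw [le_b'b'] at hle'; omega
    | bm x =>
      rw [le_bm] at hle'
      have := h3 x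
      by_cases hx : x.1 = j.1
      · rw [Subtype.ext hx]
      · rw [if_neg hx] at this; omega
    | b'm x => rw [le_b'm] at hle'; omega
  · intro i hi hA
    have h1 := (nn5_iff C j _).mp hA.1
    rw [Finset.mem_singleton] at hi
    cases i with
    | bb => simp [gI_apply, pOf, lOf, Ne.symm j.2.1] at h1
    | bb' => simp [gI_apply, pOf, lOf, Ne.symm j.2.1, Ne.symm j.2.2.1] at h1
    | b'b' => simp [gI_apply, pOf, lOf, C.hbb.symm] at h1
    | bm x =>
      have h2 := h1.2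
      rw [gI_bm_mid] at h2
      by_cases hx : x.1 = j.1
      · exact hi (by rw [Subtype.ext hx])
      · simp [hx] at h2
    | b'm x => simp [gI_apply, pOf, lOf, C.hbb.symm, x.2.1] at h1

end Type5

section Vanish

variable (C : Cfg σ)

@[simp] lemma gI_bb_b : gI C .bb C.b = 2 := by simp [gI_apply, pOf, lOf]
@[simp] lemma gI_bb_b' : gI C .bb C.b' = 0 := by simp [gI_apply, pOf, lOf, C.hbb]
@[simp] lemma gI_bb_mid (x : Mid C) : gI C .bb x.1 = 0 := by
  simp [gI_apply, pOf, lOf, Ne.symm x.2.1]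
@[simp] lemma gI_bb'_b : gI C .bb' C.b = 1 := by simp [gI_apply, pOf, lOf, C.hbb.symm]
@[simp] lemma gI_bb'_b' : gI C .bb' C.b' = 1 := by simp [gI_apply, pOf, lOf, C.hbb]
@[simp] lemma gI_bb'_mid (x : Mid C) : gI C .bb' x.1 = 0 := by
  simp [gI_apply, pOf, lOf, Ne.symm x.2.1, Ne.symm x.2.2.1]
@[simp] lemma gI_bm_b (y : Mid C) : gI C (.bm y) C.b = 1 := by
  simp [gI_apply, pOf, lOf, y.2.1]
@[simp] lemma gI_bm_b' (y : Mid C) : gI C (.bm y) C.b' = 0 := by
  simp [gI_apply, pOf, lOf, C.hbb, y.2.2.1]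

lemma sum_ite_eq_one (x : σ) : ∑ l : σ, (if l = x then (1:ℤ) else 0) = 1 := by
  rw [Finset.sum_ite_eq' Finset.univ x]
  simp

lemma sum_αd (x y : σ) : ∑ l, αd x y l = 0 := by
  unfold αd
  rw [Finset.sum_sub_distrib, sum_ite_eq_one, sum_ite_eq_one]
  norm_num

lemma sum_α4 (x x' y y' : σ) : ∑ l, α4 x x' y y' l = 0 := by
  unfold α4
  rw [Finset.sum_sub_distrib, Finset.sum_sub_distrib, Finset.sum_add_distrib,
    sum_ite_eq_one, sum_ite_eq_one, sum_ite_eq_one, sum_ite_eq_one]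
  norm_num

lemma eq_of_eq_off (a : σ) {α β : σ → ℤ} (hα : ∑ l, α l = 0) (hβ : ∑ l, β l = 0)
    (h : ∀ x, x ≠ a → α x = β x) : α = β := by
  have e1 := Finset.add_sum_erase Finset.univ α (Finset.mem_univ a)
  have e2 := Finset.add_sum_erase Finset.univ β (Finset.mem_univ a)
  have e3 : ∑ x ∈ Finset.univ.erase a, α x = ∑ x ∈ Finset.univ.erase a, β x :=
    Finset.sum_congr rfl (fun x hx => h x (Finset.ne_of_mem_erase hx))
  funext x
  by_cases hx : x = a
  · subst hx
    omega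
  · exact h x hx

/-- to identify a multidegree it suffices to know its values on the block and on the middle -/
lemma eq_of_vals {α β : σ → ℤ} (hα : ∑ l, α l = 0) (hβ : ∑ l, β l = 0)
    (h1 : α C.b = β C.b) (h2 : α C.b' = β C.b') (h3 : ∀ x : Mid C, α x.1 = β x.1) : α = β := by
  apply eq_of_eq_off C.a hα hβ
  intro x hx
  by_cases hb : x = C.b
  · rw [hb, h1]
  · by_cases hb' : x = C.b'
    · rw [hb', h2]
    · exact h3 ⟨x, hb, hb', hx⟩

variable {α : σ → ℤ} {c : GI (Mid C) → k}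

lemma zero_bb (t : Mid C) (hsum : ∑ l, α l = 0) (hc : c ∈ V k (gI C) α) (hne : c .bb ≠ 0) :
    α = αd C.a C.b ∨ α = α4 C.b' C.a C.b C.b := by
  have hA : Act (gI C) α .bb := by
    by_contra h
    exact hne (hc.1 _ h)
  have hn := hA.1
  have hS := (std_shift_iff C hn).mp hA.2
  have nb' := hn C.b'
  rw [gI_bb_b, gI_bb_b'] at hS
  rw [gI_bb_b'] at nb'
  rcases hS with ⟨e1, e2⟩ | ⟨e1, e2⟩
  · -- bad neighbour
    exfalso
    apply hne
    have hle : gI C .bb ≤ gI C .bb + Finsupp.single t.1 1 := le_self_add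
    have hn' : nn (gI C .bb + Finsupp.single t.1 1) α := nn_of_le hle hn
    refine zero_of_bad (gI C) α hc .bb (.bm t) (gI C .bb + Finsupp.single t.1 1) hle ?_ hn' ?_ ?_
    · rw [le_bm]
      simp [Finsupp.single_apply, t.2.1]
    · rw [std_shift_iff C hn']
      left
      simp only [Finsupp.add_apply, gI_bb_b, gI_bb_b', Finsupp.single_apply, if_neg t.2.1,
        if_neg t.2.2.1]
      push_cast
      constructor <;> omega
    · intro h
      have := h C.b
      rw [gI_bm_b] at this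
      push_cast at this
      omega
  · have hM : ∀ x : Mid C, α x.1 = 0 := by
      intro x
      have := e2 x.1 x.2.1 x.2.2.1 x.2.2.2
      rw [gI_bb_mid] at this
      simpa using this
    have nb := hn C.b
    rw [gI_bb_b] at nb
    push_cast at nb e1 nb'
    by_cases hb : α C.b = -1
    · left
      apply eq_of_vals C hsum (sum_αd _ _)
      · rw [α2_b, hb]
      · rw [α2_b']; omega
      · intro x; rw [hM x, α2_x C x.2.2.2 x.2.1]
    · right
      apply eq_of_vals C hsum (sum_α4 _ _ _ _)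
      · rw [α4_b]; omega
      · rw [α4_b']; omega
      · intro x; rw [hM x, α4_m]

lemma αsw_b : αd C.a C.b' C.b = 0 := by simp [αd, C.hba, C.hbb]
lemma αsw_b' : αd C.a C.b' C.b' = -1 := by simp [αd, C.hb'a]
lemma αsw_m (x : Mid C) : αd C.a C.b' x.1 = 0 := by simp [αd, x.2.2.2, x.2.2.1]

lemma zero_bb' (t : Mid C) (hsum : ∑ l, α l = 0) (hc : c ∈ V k (gI C) α) (hne : c .bb' ≠ 0) :
    α = αd C.a C.b ∨ α = αd C.a C.b' := by
  have hA : Act (gI C) α .bb' := by
    by_contra h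
    exact hne (hc.1 _ h)
  have hn := hA.1
  have hS := (std_shift_iff C hn).mp hA.2
  have nb := hn C.b
  have nb' := hn C.b'
  rw [gI_bb'_b, gI_bb'_b'] at hS
  rw [gI_bb'_b] at nb
  rw [gI_bb'_b'] at nb'
  push_cast at nb nb' hS
  rcases hS with ⟨e1, e2⟩ | ⟨e1, e2⟩
  · exfalso
    apply hne
    have hle : gI C .bb' ≤ gI C .bb' + Finsupp.single t.1 1 := le_self_add
    have hn' : nn (gI C .bb' + Finsupp.single t.1 1) α := nn_of_le hle hn
    refine zero_of_bad (gI C) α hc .bb' (.bm t) (gI C .bb' + Finsupp.single t.1 1) hle ?_ hn' ?_ ?_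
    · rw [le_bm]
      simp [Finsupp.single_apply, t.2.1]
    · rw [std_shift_iff C hn']
      left
      simp only [Finsupp.add_apply, gI_bb'_b, gI_bb'_b', Finsupp.single_apply, if_neg t.2.1,
        if_neg t.2.2.1]
      push_cast
      constructor <;> omega
    · intro h
      have := h C.b'
      rw [gI_bm_b'] at this
      push_cast at this
      omega
  · have hM : ∀ x : Mid C, α x.1 = 0 := by
      intro x
      have := e2 x.1 x.2.1 x.2.2.1 x.2.2.2
      rw [gI_bb'_mid] at this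
      simpa using this
    by_cases hb : α C.b = -1
    · left
      apply eq_of_vals C hsum (sum_αd _ _)
      · rw [α2_b, hb]
      · rw [α2_b']; omega
      · intro x; rw [hM x, α2_x C x.2.2.2 x.2.1]
    · right
      apply eq_of_vals C hsum (sum_αd _ _)
      · rw [αsw_b]; omega
      · rw [αsw_b']; omega
      · intro x; rw [hM x, αsw_m]

lemma zero_bm (y : Mid C) (hsum : ∑ l, α l = 0) (hc : c ∈ V k (gI C) α) (hne : c (.bm y) ≠ 0) :
    α = αd C.a y.1 ∨ α = α4 C.b' C.a C.b y.1 ∨ ∃ l, l ≠ C.b ∧ l ≠ C.b' ∧ α = αd l C.b := by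
  have hA : Act (gI C) α (.bm y) := by
    by_contra h
    exact hne (hc.1 _ h)
  have hn := hA.1
  have hS := (std_shift_iff C hn).mp hA.2
  have nb := hn C.b
  have nb' := hn C.b'
  rw [gI_bm_b, gI_bm_b'] at hS
  rw [gI_bm_b] at nb
  rw [gI_bm_b'] at nb'
  push_cast at nb nb' hS
  have nM : ∀ x : Mid C, 0 ≤ (if y.1 = x.1 then (1:ℤ) else 0) + α x.1 := by
    intro x
    have := hn x.1
    rw [gI_bm_mid] at this
    push_cast at this
    exact this
  rcases hS with ⟨e1, e2⟩ | ⟨e1, e2⟩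
  · -- α b = -1, α b' = 0
    by_cases hy : 0 ≤ α y.1
    · right; right
      have hnn : ∀ l, l ≠ C.b → 0 ≤ α l := by
        intro l hl
        by_cases hl' : l = C.b'
        · rw [hl']; omega
        · by_cases hla : l = C.a
          · have := hn C.a
            have e : gI C (.bm y) C.a = 0 := by
              simp [gI_apply, pOf, lOf, C.hba, y.2.2.2]
            rw [e] at this
            rw [hla]
            simpa using this
          · have := nM ⟨l, hl, hl', hla⟩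
            dsimp only at this
            by_cases hyl : y.1 = l
            · rw [← hyl]; exact hy
            · rw [if_neg hyl] at this; omega
      obtain ⟨l0, hl0, hα⟩ := Groth.Agent.Lib.Helper24TwoBlk.eq_αab_of α hsum C.b (by omega) hnn
      refine ⟨l0, hl0, ?_, hα⟩
      intro hl0'
      have := congrFun hα C.b'
      rw [hl0'] at this
      simp [Groth.Agent.Lib.Helper24TwoBlk.αab, C.hbb.symm] at this
      omega
    · -- α y = -1 : bad neighbours
      exfalso
      apply hne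
      have hy' : α y.1 = -1 := by
        have := nM y
        simp only [if_true] at this
        omega
      by_cases hex : ∃ x : Mid C, x.1 ≠ y.1 ∧ 1 ≤ α x.1
      · obtain ⟨x, hxy, hx1⟩ := hex
        have hle : gI C (.bm y) ≤ gI C (.bm y) + Finsupp.single x.1 1 := le_self_add
        have hn' : nn (gI C (.bm y) + Finsupp.single x.1 1) α := nn_of_le hle hn
        refine zero_of_bad (gI C) α hc (.bm y) (.bm x) (gI C (.bm y) + Finsupp.single x.1 1)
          hle ?_ hn' ?_ ?_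
        · rw [le_bm]
          simp [Finsupp.single_apply, x.2.1]
        · rw [std_shift_iff C hn']
          left
          simp only [Finsupp.add_apply, gI_bm_b, gI_bm_b', Finsupp.single_apply, if_neg x.2.1,
            if_neg x.2.2.1]
          push_cast
          constructor <;> omega
        · intro h
          have := h y.1
          rw [gI_bm_mid, if_neg hxy] at this
          push_cast at this
          omega
      · push Not at hex
        have hle : gI C (.bm y) ≤ gI C (.bm y) + Finsupp.single C.b 1 := le_self_add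
        have hn' : nn (gI C (.bm y) + Finsupp.single C.b 1) α := nn_of_le hle hn
        refine zero_of_bad (gI C) α hc (.bm y) .bb (gI C (.bm y) + Finsupp.single C.b 1)
          hle ?_ hn' ?_ ?_
        · rw [le_bb]
          simp [Finsupp.single_apply]
        · rw [std_shift_iff C hn']
          right
          simp only [Finsupp.add_apply, gI_bm_b, gI_bm_b', Finsupp.single_apply, if_true,
            if_neg C.hbb]
          push_cast
          refine ⟨by omega, fun x hx hx' hxa => ?_⟩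
          rw [if_neg (Ne.symm hx)]
          have e := gI_bm_mid C y ⟨x, hx, hx', hxa⟩
          dsimp only at e
          rw [e]
          by_cases hyx : y.1 = x
          · rw [if_pos hyx, ← hyx, hy']
            norm_num
          · rw [if_neg hyx]
            have h1 := hex ⟨x, hx, hx', hxa⟩ (Ne.symm hyx)
            have h2 := nM ⟨x, hx, hx', hxa⟩
            dsimp only at h1 h2
            rw [if_neg hyx] at h2
            push_cast
            omega
        · intro h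
          have := h y.1
          rw [gI_bb_mid] at this
          push_cast at this
          omega
  · -- α b + α b' = 0, middle part determined
    have hM : ∀ x : Mid C, α x.1 = -(if x.1 = y.1 then 1 else 0) := by
      intro x
      have := e2 x.1 x.2.1 x.2.2.1 x.2.2.2
      rw [gI_bm_mid] at this
      push_cast at this
      by_cases hyx : y.1 = x.1
      · rw [if_pos hyx] at this
        rw [if_pos hyx.symm]
        omega
      · rw [if_neg hyx] at this
        rw [if_neg (Ne.symm hyx)]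
        omega
    by_cases hb : α C.b = 0
    · left
      apply eq_of_vals C hsum (sum_αd _ _)
      · rw [α1_b, hb]
      · rw [α1_b']; omega
      · intro x; rw [hM x, α1_m]
    · right; left
      apply eq_of_vals C hsum (sum_α4 _ _ _ _)
      · rw [α5_b]; omega
      · rw [α5_b']; omega
      · intro x; rw [hM x, α5_m]

end Vanish

section Swap

variable (C : Cfg σ)

/-- the index bijection induced by exchanging the two block variables -/
def sw : GI (Mid C.swap) → GI (Mid C)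
  | .bb => .b'b'
  | .bb' => .bb'
  | .b'b' => .bb
  | .bm x => .b'm ⟨x.1, x.2.2.1, x.2.1, x.2.2.2⟩
  | .b'm x => .bm ⟨x.1, x.2.2.1, x.2.1, x.2.2.2⟩

lemma gI_sw (i : GI (Mid C.swap)) : gI C (sw C i) = gI C.swap i := by
  cases i with
  | bb => rfl
  | bb' => exact Groth.Agent.Lib.Helper24TwoBlk.gen_comm _ _
  | b'b' => rfl
  | bm x => rfl
  | b'm x => rfl

lemma sw_surjective : Function.Surjective (sw C) := by
  intro i
  cases i with
  | bb => exact ⟨.b'b', rfl⟩
  | bb' => exact ⟨.bb', rfl⟩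
  | b'b' => exact ⟨.bb, rfl⟩
  | bm x => exact ⟨.b'm ⟨x.1, x.2.2.1, x.2.1, x.2.2.2⟩, rfl⟩
  | b'm x => exact ⟨.bm ⟨x.1, x.2.2.1, x.2.1, x.2.2.2⟩, rfl⟩

lemma gI_swap_eq : gI C.swap = gI C ∘ sw C := by
  funext i
  exact (gI_sw C i).symm

lemma MI_swap : MI k (gI C.swap) = MI k (gI C) := by
  unfold MI
  rw [gI_swap_eq, (sw_surjective C).range_comp]

end Swap

section Comp

variable {ι ι' : Type*} (e : ι' → ι) (he : Function.Surjective e) (g : ι → σ →₀ ℕ) (α : σ → ℤ)

include he in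
lemma std_comp (γ : σ →₀ ℕ) : Std (g ∘ e) γ ↔ Std g γ := by
  constructor
  · intro h i
    obtain ⟨i', rfl⟩ := he i
    exact h i'
  · intro h i'
    exact h (e i')

include he in
lemma V_comp {c : ι → k} (hc : c ∈ V k g α) : (c ∘ e) ∈ V k (g ∘ e) α := by
  refine ⟨fun i' hi' => ?_, fun i' j' γ h1 h2 h3 h4 => ?_⟩
  · apply hc.1
    intro hA
    exact hi' ⟨hA.1, (std_comp e he g _).mpr hA.2⟩
  · exact hc.2 (e i') (e j') γ h1 h2 h3 ((std_comp e he g _).mp h4)

end Comp

section Classify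

variable (C : Cfg σ)

/-- the multidegrees that carry tangent vectors -/
def InA (α : σ → ℤ) : Prop :=
  (∃ j : Mid C, α = αd C.a j.1) ∨ (∃ l, l ≠ C.b ∧ l ≠ C.b' ∧ α = αd l C.b) ∨
  (∃ l, l ≠ C.b ∧ l ≠ C.b' ∧ α = αd l C.b') ∨ α = α4 C.b' C.a C.b C.b ∨
  α = α4 C.b C.a C.b' C.b' ∨ (∃ j : Mid C, α = α4 C.b' C.a C.b j.1) ∨
  (∃ j : Mid C, α = α4 C.b C.a C.b' j.1)

theorem V_zero (t : Mid C) {α : σ → ℤ} (hsum : ∑ l, α l = 0) (hnot : ¬ InA C α)
    {c : GI (Mid C) → k} (hc : c ∈ V k (gI C) α) : ∀ i, c i = 0 := by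
  have hc' : (c ∘ sw C) ∈ V k (gI C.swap) α := by
    rw [gI_swap_eq]
    exact V_comp (sw C) (sw_surjective C) (gI C) α hc
  have t' : Mid C.swap := ⟨t.1, t.2.2.1, t.2.1, t.2.2.2⟩
  intro i
  by_contra hne
  apply hnot
  cases i with
  | bb =>
    rcases zero_bb C t hsum hc hne with h | h
    · exact Or.inr (Or.inl ⟨C.a, Ne.symm C.hba, Ne.symm C.hb'a, h⟩)
    · exact Or.inr (Or.inr (Or.inr (Or.inl h)))
  | bb' =>
    rcases zero_bb' C t hsum hc hne with h | h
    · exact Or.inr (Or.inl ⟨C.a, Ne.symm C.hba, Ne.symm C.hb'a, h⟩)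
    · exact Or.inr (Or.inr (Or.inl ⟨C.a, Ne.symm C.hba, Ne.symm C.hb'a, h⟩))
  | bm y =>
    rcases zero_bm C y hsum hc hne with h | h | ⟨l, h1, h2, h⟩
    · exact Or.inl ⟨y, h⟩
    · exact Or.inr (Or.inr (Or.inr (Or.inr (Or.inr (Or.inl ⟨y, h⟩)))))
    · exact Or.inr (Or.inl ⟨l, h1, h2, h⟩)
  | b'b' =>
    have hne' : (c ∘ sw C) .bb ≠ 0 := hne
    rcases zero_bb C.swap t' hsum hc' hne' with h | h
    · exact Or.inr (Or.inr (Or.inl ⟨C.a, Ne.symm C.hba, Ne.symm C.hb'a, h⟩))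
    · exact Or.inr (Or.inr (Or.inr (Or.inr (Or.inl h))))
  | b'm y =>
    have hne' : (c ∘ sw C) (.bm ⟨y.1, y.2.2.1, y.2.1, y.2.2.2⟩) ≠ 0 := hne
    rcases zero_bm C.swap ⟨y.1, y.2.2.1, y.2.1, y.2.2.2⟩ hsum hc' hne' with h | h | ⟨l, h1, h2, h⟩
    · exact Or.inl ⟨y, h⟩
    · exact Or.inr (Or.inr (Or.inr (Or.inr (Or.inr (Or.inr ⟨y, h⟩)))))
    · exact Or.inr (Or.inr (Or.inl ⟨l, h2, h1, h⟩))

theorem tPiece_eq_bot (t : Mid C) {α : σ → ℤ} (hsum : ∑ l, α l = 0) (hnot : ¬ InA C α) :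
    tPiece (MI k (gI C)) α = ⊥ :=
  tPiece_eq_bot_of_V (gI C) α (fun _ hc i => V_zero C t hsum hnot hc i)

end Classify

section Assembly

variable (C : Cfg σ)

/-- index type of the multidegrees carrying tangent vectors -/
abbrev TI (C : Cfg σ) : Type _ :=
  Mid C ⊕ Unit ⊕ Mid C ⊕ Unit ⊕ Mid C ⊕ Unit ⊕ Unit ⊕ Mid C ⊕ Mid C

/-- the multidegrees -/
def αOf : TI C → (σ → ℤ)
  | .inl j => αd C.a j.1
  | .inr (.inl _) => αd C.a C.b
  | .inr (.inr (.inl j)) => αd j.1 C.b
  | .inr (.inr (.inr (.inl _))) => αd C.a C.b'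
  | .inr (.inr (.inr (.inr (.inl j)))) => αd j.1 C.b'
  | .inr (.inr (.inr (.inr (.inr (.inl _))))) => α4 C.b' C.a C.b C.b
  | .inr (.inr (.inr (.inr (.inr (.inr (.inl _)))))) => α4 C.b C.a C.b' C.b'
  | .inr (.inr (.inr (.inr (.inr (.inr (.inr (.inl j))))))) => α4 C.b' C.a C.b j.1
  | .inr (.inr (.inr (.inr (.inr (.inr (.inr (.inr j))))))) => α4 C.b C.a C.b' j.1

/-- the dimensions -/
def dOf : TI C → ℕ
  | .inl _ => 2
  | .inr (.inl _) => 3
  | .inr (.inr (.inl _)) => 1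
  | .inr (.inr (.inr (.inl _))) => 3
  | .inr (.inr (.inr (.inr (.inl _)))) => 1
  | .inr (.inr (.inr (.inr (.inr (.inl _))))) => 1
  | .inr (.inr (.inr (.inr (.inr (.inr (.inl _)))))) => 1
  | .inr (.inr (.inr (.inr (.inr (.inr (.inr (.inl _))))))) => 1
  | .inr (.inr (.inr (.inr (.inr (.inr (.inr (.inr _))))))) => 1

/-- values at `b`, `b'`, `a` -/
def sig : TI C → ℤ × ℤ × ℤ
  | .inl _ => (0, 0, 1)
  | .inr (.inl _) => (-1, 0, 1)
  | .inr (.inr (.inl _)) => (-1, 0, 0)
  | .inr (.inr (.inr (.inl _))) => (0, -1, 1)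
  | .inr (.inr (.inr (.inr (.inl _)))) => (0, -1, 0)
  | .inr (.inr (.inr (.inr (.inr (.inl _))))) => (-2, 1, 1)
  | .inr (.inr (.inr (.inr (.inr (.inr (.inl _)))))) => (1, -2, 1)
  | .inr (.inr (.inr (.inr (.inr (.inr (.inr (.inl _))))))) => (-1, 1, 1)
  | .inr (.inr (.inr (.inr (.inr (.inr (.inr (.inr _))))))) => (1, -1, 1)

lemma αOf_b (t : TI C) : αOf C t C.b = (sig C t).1 := by
  rcases t with j | _ | j | _ | j | _ | _ | j | j
  · simp [αOf, sig, αd, C.hba, Ne.symm j.2.1]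
  · simp [αOf, sig, αd, C.hba]
  · simp [αOf, sig, αd, Ne.symm j.2.1]
  · simp [αOf, sig, αd, C.hba, C.hbb]
  · simp [αOf, sig, αd, C.hbb, Ne.symm j.2.1]
  · simp [αOf, sig, α4, C.hba, C.hbb]
  · simp [αOf, sig, α4, C.hba, C.hbb]
  · simp [αOf, sig, α4, C.hba, C.hbb, Ne.symm j.2.1]
  · simp [αOf, sig, α4, C.hba, C.hbb, Ne.symm j.2.1]

lemma αOf_b' (t : TI C) : αOf C t C.b' = (sig C t).2.1 := by
  rcases t with j | _ | j | _ | j | _ | _ | j | j
  · simp [αOf, sig, αd, C.hb'a, Ne.symm j.2.2.1]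
  · simp [αOf, sig, αd, C.hb'a, C.hbb.symm]
  · simp [αOf, sig, αd, Ne.symm j.2.2.1, C.hbb.symm]
  · simp [αOf, sig, αd, C.hb'a]
  · simp [αOf, sig, αd, Ne.symm j.2.2.1]
  · simp [αOf, sig, α4, C.hb'a, C.hbb.symm]
  · simp [αOf, sig, α4, C.hb'a, C.hbb.symm]
  · simp [αOf, sig, α4, C.hb'a, C.hbb.symm, Ne.symm j.2.2.1]
  · simp [αOf, sig, α4, C.hb'a, C.hbb.symm, Ne.symm j.2.2.1]

lemma αOf_a (t : TI C) : αOf C t C.a = (sig C t).2.2 := by
  rcases t with j | _ | j | _ | j | _ | _ | j | j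
  · simp [αOf, sig, αd, Ne.symm j.2.2.2]
  · simp [αOf, sig, αd, C.hba.symm]
  · simp [αOf, sig, αd, Ne.symm j.2.2.2, C.hba.symm]
  · simp [αOf, sig, αd, C.hb'a.symm]
  · simp [αOf, sig, αd, Ne.symm j.2.2.2, C.hb'a.symm]
  · simp [αOf, sig, α4, C.hb'a.symm, C.hba.symm]
  · simp [αOf, sig, α4, C.hb'a.symm, C.hba.symm]
  · simp [αOf, sig, α4, C.hb'a.symm, C.hba.symm, Ne.symm j.2.2.2]
  · simp [αOf, sig, α4, C.hb'a.symm, C.hba.symm, Ne.symm j.2.2.2]

lemma αOf_injective : Function.Injective (αOf C) := by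
  intro t t' h
  have h1 : (sig C t).1 = (sig C t').1 := by rw [← αOf_b, ← αOf_b, h]
  have h2 : (sig C t).2.1 = (sig C t').2.1 := by rw [← αOf_b', ← αOf_b', h]
  have h3 : (sig C t).2.2 = (sig C t').2.2 := by rw [← αOf_a, ← αOf_a, h]
  rcases t with j | _ | j | _ | j | _ | _ | j | j <;>
    rcases t' with j' | _ | j' | _ | j' | _ | _ | j' | j' <;>
    simp only [sig] at h1 h2 h3 <;> try omega
  · have e := congrFun h j.1
    simp [αOf, αd, j.2.2.2] at e
    rw [Subtype.ext e]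
  · rfl
  · have e := congrFun h j.1
    simp [αOf, αd, j.2.1] at e
    rw [Subtype.ext e]
  · rfl
  · have e := congrFun h j.1
    simp [αOf, αd, j.2.2.1] at e
    rw [Subtype.ext e]
  · rfl
  · rfl
  · have e := congrFun h j.1
    simp [αOf, α4, j.2.1, j.2.2.1, j.2.2.2] at e
    rw [Subtype.ext e]
  · have e := congrFun h j.1
    simp [αOf, α4, j.2.1, j.2.2.1, j.2.2.2] at e
    rw [Subtype.ext e]

lemma sum_αOf (t : TI C) : ∑ l, αOf C t l = 0 := by
  rcases t with j | _ | j | _ | j | _ | _ | j | j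
  all_goals first | exact sum_αd _ _ | exact sum_α4 _ _ _ _

lemma inA_iff (α : σ → ℤ) : InA C α ↔ ∃ t, αOf C t = α := by
  constructor
  · rintro (⟨j, rfl⟩ | ⟨l, h1, h2, rfl⟩ | ⟨l, h1, h2, rfl⟩ | rfl | rfl | ⟨j, rfl⟩ | ⟨j, rfl⟩)
    · exact ⟨.inl j, rfl⟩
    · by_cases hl : l = C.a
      · subst hl
        exact ⟨.inr (.inl ()), rfl⟩
      · exact ⟨.inr (.inr (.inl ⟨l, h1, h2, hl⟩)), rfl⟩
    · by_cases hl : l = C.a
      · subst hl
        exact ⟨.inr (.inr (.inr (.inl ()))), rfl⟩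
      · exact ⟨.inr (.inr (.inr (.inr (.inl ⟨l, h1, h2, hl⟩)))), rfl⟩
    · exact ⟨.inr (.inr (.inr (.inr (.inr (.inl ()))))), rfl⟩
    · exact ⟨.inr (.inr (.inr (.inr (.inr (.inr (.inl ())))))), rfl⟩
    · exact ⟨.inr (.inr (.inr (.inr (.inr (.inr (.inr (.inl j))))))), rfl⟩
    · exact ⟨.inr (.inr (.inr (.inr (.inr (.inr (.inr (.inr j))))))), rfl⟩
  · rintro ⟨t, rfl⟩
    rcases t with j | _ | j | _ | j | _ | _ | j | j
    · exact Or.inl ⟨j, rfl⟩
    · exact Or.inr (Or.inl ⟨C.a, Ne.symm C.hba, Ne.symm C.hb'a, rfl⟩)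
    · exact Or.inr (Or.inl ⟨j.1, j.2.1, j.2.2.1, rfl⟩)
    · exact Or.inr (Or.inr (Or.inl ⟨C.a, Ne.symm C.hba, Ne.symm C.hb'a, rfl⟩))
    · exact Or.inr (Or.inr (Or.inl ⟨j.1, j.2.1, j.2.2.1, rfl⟩))
    · exact Or.inr (Or.inr (Or.inr (Or.inl rfl)))
    · exact Or.inr (Or.inr (Or.inr (Or.inr (Or.inl rfl))))
    · exact Or.inr (Or.inr (Or.inr (Or.inr (Or.inr (Or.inl ⟨j, rfl⟩)))))
    · exact Or.inr (Or.inr (Or.inr (Or.inr (Or.inr (Or.inr ⟨j, rfl⟩)))))

/-- swapping a middle variable -/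
def Mid.sw {C : Cfg σ} (j : Mid C) : Mid C.swap := ⟨j.1, j.2.2.1, j.2.1, j.2.2.2⟩

theorem finrank_piece (t0 : Mid C) (t : TI C) :
    Module.finrank k ↥(tPiece (MI k (gI C)) (αOf C t)) = dOf C t := by
  rcases t with j | _ | j | _ | j | _ | _ | j | j
  · rw [finrank_tPiece_eq]
    exact finrank_V1 C j
  · rw [finrank_tPiece_eq]
    exact finrank_V2 C t0
  · rw [finrank_tPiece_eq]
    exact finrank_V3 C j t0
  · rw [← MI_swap, finrank_tPiece_eq]
    exact finrank_V2 C.swap t0.sw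
  · rw [← MI_swap, finrank_tPiece_eq]
    exact finrank_V3 C.swap j.sw t0.sw
  · rw [finrank_tPiece_eq]
    exact finrank_V4 C
  · rw [← MI_swap, finrank_tPiece_eq]
    exact finrank_V4 C.swap
  · rw [finrank_tPiece_eq]
    exact finrank_V5 C j
  · rw [← MI_swap, finrank_tPiece_eq]
    exact finrank_V5 C.swap j.sw

lemma sum_dOf : ∑ t, dOf C t = 6 * Fintype.card (Mid C) + 8 := by
  simp only [Fintype.sum_sum_type, dOf, Finset.sum_const, Finset.card_univ, smul_eq_mul,
    Fintype.card_unit]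
  ring

theorem finrank_degree_zero (t0 : Mid C) :
    Module.finrank k ↥(⨆ α : {α : σ → ℤ // ∑ l, α l = 0}, tPiece (MI k (gI C)) α.1) =
      6 * Fintype.card (Mid C) + 8 := by
  classical
  have hfr : ∀ α ∈ Finset.univ.image (αOf C), FiniteDimensional k ↥(tPiece (MI k (gI C)) α) := by
    intro α hα
    rw [Finset.mem_image] at hα
    obtain ⟨t, -, rfl⟩ := hα
    apply FiniteDimensional.of_finrank_pos
    rw [finrank_piece C t0 t]
    rcases t with j | _ | j | _ | j | _ | _ | j | j <;> simp [dOf]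
  rw [iSup_subtype_eq_biSup (fun α => ∑ l, α l = 0) (Finset.univ.image (αOf C))]
  · have h := Groth.Agent.Lib.Helper24TwoBlk.finrank_biSup_tPiece' (isMonomial_MI (k := k) (gI C))
      (Finset.univ.image (αOf C)) hfr
    rw [h.2, Finset.sum_image (fun t _ t' _ h => αOf_injective C h),
      Finset.sum_congr rfl (fun t _ => finrank_piece C t0 t), sum_dOf]
  · intro α hα
    rw [Finset.mem_image] at hα
    obtain ⟨t, -, rfl⟩ := hα
    exact sum_αOf C t
  · intro α hsum hα
    apply tPiece_eq_bot C t0 hsum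
    intro hin
    apply hα
    rw [Finset.mem_image]
    obtain ⟨t, ht⟩ := (inA_iff C α).mp hin
    exact ⟨t, Finset.mem_univ _, ht⟩

lemma card_Mid : Fintype.card (Mid C) = Fintype.card σ - 3 := by
  rw [Fintype.card_subtype]
  have h : (Finset.univ.filter (fun x : σ => x ≠ C.b ∧ x ≠ C.b' ∧ x ≠ C.a)) =
      Finset.univ \ {C.b, C.b', C.a} := by
    ext x
    simp [not_or]
  rw [h, Finset.card_sdiff_of_subset (Finset.subset_univ _), Finset.card_univ,
    Finset.card_insert_of_notMem, Finset.card_insert_of_notMem, Finset.card_singleton]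
  · simp [C.hb'a]
  · simp [C.hbb, C.hba]

end Assembly

section Final

theorem s13449 (k : Type u) [Field k] (n : ℕ) (hn : 3 ≤ n) :
    Module.finrank k ↥(⨆ α : {α : Fin (n + 1) → ℤ // ∑ i, α i = 0}, tPiece (Ideal.span ({f : MvPolynomial (Fin (n + 1)) k | ∃ i : Fin (n + 1), i.val + 1 ≤ n ∧ f = MvPolynomial.X 0 * MvPolynomial.X i} ∪ {f : MvPolynomial (Fin (n + 1)) k | ∃ i : Fin (n + 1), 1 ≤ i.val ∧ i.val ≤ n - 1 ∧ f = MvPolynomial.X 1 * MvPolynomial.X i})) α.1) = 6 * n - 4 := by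
  classical
  obtain ⟨m, rfl⟩ : ∃ m, n = m + 3 := ⟨n - 3, by omega⟩
  have h01 : (0 : Fin (m + 3 + 1)) ≠ 1 := by
    intro h
    have := congrArg Fin.val h
    simp at this
  have h0l : (0 : Fin (m + 3 + 1)) ≠ Fin.last (m + 3) := by
    intro h
    have := congrArg Fin.val h
    simp at this
  have h1l : (1 : Fin (m + 3 + 1)) ≠ Fin.last (m + 3) := by
    intro h
    have := congrArg Fin.val h
    simp at this
  let C : Cfg (Fin (m + 3 + 1)) := ⟨0, 1, Fin.last (m + 3), h01, h0l, h1l⟩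
  have t0 : Mid C := ⟨⟨2, by omega⟩, by
    refine ⟨?_, ?_, ?_⟩ <;> intro h <;> have := congrArg Fin.val h <;> simp [C] at this <;> omega⟩
  have hmono : ∀ p l : Fin (m + 3 + 1), monomial (gen p l) (1:k) = X p * X l := by
    intro p l
    unfold gen
    rw [X, X, monomial_mul, one_mul]
  have hI : (Ideal.span ({f : MvPolynomial (Fin (m + 3 + 1)) k | ∃ i : Fin (m + 3 + 1), i.val + 1 ≤ m + 3 ∧ f = MvPolynomial.X 0 * MvPolynomial.X i} ∪ {f : MvPolynomial (Fin (m + 3 + 1)) k | ∃ i : Fin (m + 3 + 1), 1 ≤ i.val ∧ i.val ≤ m + 3 - 1 ∧ f = MvPolynomial.X 1 * MvPolynomial.X i})) = MI k (gI C) := by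
    unfold MI
    congr 1
    ext f
    simp only [Set.mem_union, Set.mem_setOf_eq, Set.mem_image, Set.mem_range]
    constructor
    · rintro (⟨i, hi, rfl⟩ | ⟨i, hi1, hi2, rfl⟩)
      · by_cases h0 : i = 0
        · subst h0
          exact ⟨_, ⟨.bb, rfl⟩, hmono _ _⟩
        · by_cases h1 : i = 1
          · subst h1
            exact ⟨_, ⟨.bb', rfl⟩, hmono _ _⟩
          · have hl : i ≠ Fin.last (m + 3) := by
              intro h
              rw [h, Fin.val_last] at hi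
              omega
            exact ⟨_, ⟨.bm ⟨i, h0, h1, hl⟩, rfl⟩, hmono _ _⟩
      · by_cases h1 : i = 1
        · subst h1
          exact ⟨_, ⟨.b'b', rfl⟩, hmono _ _⟩
        · have h0 : i ≠ 0 := by
            intro h
            rw [h] at hi1
            simp at hi1
          have hl : i ≠ Fin.last (m + 3) := by
            intro h
            rw [h, Fin.val_last] at hi2
            omega
          exact ⟨_, ⟨.b'm ⟨i, h0, h1, hl⟩, rfl⟩, hmono _ _⟩
    · rintro ⟨β, ⟨i, rfl⟩, rfl⟩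
      have hlast : ∀ x : Fin (m + 3 + 1), x ≠ Fin.last (m + 3) → x.val + 1 ≤ m + 3 := by
        intro x hx
        have := Fin.val_lt_last hx
        omega
      cases i with
      | bb => exact Or.inl ⟨0, by simp, hmono _ _⟩
      | bb' => exact Or.inl ⟨1, by simp, hmono _ _⟩
      | b'b' => exact Or.inr ⟨1, by simp, by simp, hmono _ _⟩
      | bm x => exact Or.inl ⟨x.1, hlast _ x.2.2.2, hmono _ _⟩
      | b'm x =>
        refine Or.inr ⟨x.1, ?_, ?_, hmono _ _⟩
        · have h0 : x.1 ≠ 0 := x.2.1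
          have : x.1.val ≠ 0 := fun h => h0 (Fin.ext h)
          omega
        · have := hlast _ x.2.2.2
          omega
  rw [hI, finrank_degree_zero C t0, card_Mid, Fintype.card_fin]
  omega

end Final

end Groth.Agent.Lib.Helper24Nest
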