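import Mathlib
import Groth.Agent.Lib.Helper24Nest

set_option autoImplicit false

namespace Groth.Agent.Lib.Helper24EdgeId

open W4c1hilbpn MvPolynomial Groth.Agent.Lib.Helper24TgtPiece Groth.Agent.Lib.Helper24GenV
open Groth.Agent.Lib.Helper24TwoBlk (gen gen_apply gen_le_iff gen_comm)
open Groth.Agent.Lib.Helper24Nest (αd α4 nn_αd nn_α4 sum_αd sum_α4 gen_le_iff' shift_cast)

variable {σ : Type*} [Fintype σ] [DecidableEq σ] {k : Type*} [Field k]
variable {ι : Type*} (g : ι → σ →₀ ℕ)

/-- families of quadratic monomials -/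
def IsQuad (g : ι → σ →₀ ℕ) : Prop := ∀ i, ∃ p l, g i = gen p l

/-- adjacency: the product of the two variables is a generator -/
def adj (g : ι → σ →₀ ℕ) (u v : σ) : Prop := ∃ i, g i = gen u v

lemma adj_comm {u v : σ} : adj g u v ↔ adj g v u := by
  unfold adj
  rw [gen_comm]

section basic

lemma sum_gen (p l : σ) : ∑ u, ((gen p l u : ℕ) : ℤ) = 2 := by
  simp only [gen_apply]
  push_cast
  rw [Finset.sum_add_distrib]
  simp

lemma eq_of_le_of_sum {a b : σ →₀ ℕ} (h : a ≤ b) (hs : ∑ u, ((a u : ℕ) : ℤ) = ∑ u, ((b u : ℕ) : ℤ)) :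
    a = b := by
  by_contra hne
  have : ∃ u, a u ≠ b u := by
    by_contra hh
    push Not at hh
    exact hne (Finsupp.ext hh)
  obtain ⟨u, hu⟩ := this
  have hlt : ∑ u, ((a u : ℕ) : ℤ) < ∑ u, ((b u : ℕ) : ℤ) := by
    apply Finset.sum_lt_sum
    · intro v _
      exact_mod_cast h v
    · refine ⟨u, Finset.mem_univ _, ?_⟩
      have := h u
      have h' : a u < b u := lt_of_le_of_ne this hu
      exact_mod_cast h'
  omega

lemma gen_le_gen {p l u v : σ} (h : gen p l ≤ gen u v) : gen p l = gen u v :=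
  eq_of_le_of_sum h (by rw [sum_gen, sum_gen])

lemma gen_right_cancel {y z z' : σ} (h : gen y z = gen y z') : z = z' := by
  unfold gen at h
  have h' := add_left_cancel h
  exact (Finsupp.single_left_inj (by norm_num)).mp h'

lemma gen_eq_gen_iff {p l u v : σ} : gen p l = gen u v ↔ (p = u ∧ l = v) ∨ (p = v ∧ l = u) := by
  constructor
  · intro h
    have hp := DFunLike.congr_fun h p
    have hl := DFunLike.congr_fun h l
    have hu := DFunLike.congr_fun h u
    rw [gen_apply, gen_apply] at hp hl hu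
    by_cases h1 : p = u
    · left
      refine ⟨h1, ?_⟩
      subst h1
      exact gen_right_cancel h
    · right
      have h2 : p = v := by
        by_contra h2
        simp only [if_true, if_neg (Ne.symm h1), if_neg (Ne.symm h2)] at hp
        split_ifs at hp <;> omega
      refine ⟨h2, ?_⟩
      subst h2
      rw [gen_comm u p] at h
      exact gen_right_cancel h
  · rintro (⟨rfl, rfl⟩ | ⟨rfl, rfl⟩)
    · rfl
    · exact gen_comm _ _

variable {g}

lemma std_gen (hq : IsQuad g) (u v : σ) : Std g (gen u v) ↔ ¬ adj g u v := by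
  constructor
  · rintro h ⟨i, hi⟩
    exact h i (by rw [hi])
  · intro h i hi
    obtain ⟨p, l, hpl⟩ := hq i
    rw [hpl] at hi
    exact h ⟨i, by rw [hpl, gen_le_gen hi]⟩

/-- the monomial `u v w` -/
noncomputable def tri (u v w : σ) : σ →₀ ℕ := gen u v + Finsupp.single w 1

lemma tri_apply (u v w x : σ) : tri u v w x =
    (if u = x then 1 else 0) + (if v = x then 1 else 0) + (if w = x then 1 else 0) := by
  unfold tri
  rw [Finsupp.add_apply, gen_apply, Finsupp.single_apply]

lemma gen_le_tri {p l u v w : σ} (h : gen p l ≤ tri u v w) :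
    gen p l = gen u v ∨ gen p l = gen u w ∨ gen p l = gen v w := by
  rw [gen_le_iff'] at h
  obtain ⟨h1, h2, h3⟩ := h
  rw [tri_apply] at h1 h2
  have hp : u = p ∨ v = p ∨ w = p := by
    by_contra hh
    push Not at hh
    rw [if_neg hh.1, if_neg hh.2.1, if_neg hh.2.2] at h1
    omega
  have hl : u = l ∨ v = l ∨ w = l := by
    by_contra hh
    push Not at hh
    rw [if_neg hh.1, if_neg hh.2.1, if_neg hh.2.2] at h2
    omega
  have key : ∀ x : σ, 2 ≤ tri u v w x → (u = x ∧ v = x) ∨ (u = x ∧ w = x) ∨ (v = x ∧ w = x) := by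
    intro x hx
    rw [tri_apply] at hx
    by_cases e1 : u = x <;> by_cases e2 : v = x <;> by_cases e3 : w = x <;>
      simp only [if_pos, if_neg, e1, e2, e3, not_false_eq_true] at hx <;> first | omega | tauto
  rcases hp with rfl | rfl | rfl <;> rcases hl with hl | hl | hl
  · subst hl
    rcases key u (h3 rfl) with ⟨_, e⟩ | ⟨_, e⟩ | ⟨e, e'⟩
    · left; rw [e]
    · right; left; rw [e]
    · left; rw [e]
  · subst hl
    exact Or.inl rfl
  · subst hl
    exact Or.inr (Or.inl rfl)
  · subst hl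
    exact Or.inl (gen_comm _ _)
  · subst hl
    rcases key v (h3 rfl) with ⟨e, _⟩ | ⟨e, e'⟩ | ⟨_, e⟩
    · left; rw [e]
    · left; rw [e]
    · right; right; rw [e]
  · subst hl
    exact Or.inr (Or.inr rfl)
  · subst hl
    exact Or.inr (Or.inl (gen_comm _ _))
  · subst hl
    exact Or.inr (Or.inr (gen_comm _ _))
  · subst hl
    rcases key w (h3 rfl) with ⟨e, e'⟩ | ⟨e, _⟩ | ⟨e, _⟩
    · right; left; rw [e]
    · right; left; rw [e]
    · right; right; rw [e]

lemma gen_le_tri_12 (u v w : σ) : gen u v ≤ tri u v w := by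
  intro x
  rw [tri_apply, gen_apply]
  omega

lemma gen_le_tri_13 (u v w : σ) : gen u w ≤ tri u v w := by
  intro x
  rw [tri_apply, gen_apply]
  omega

lemma gen_le_tri_23 (u v w : σ) : gen v w ≤ tri u v w := by
  intro x
  rw [tri_apply, gen_apply]
  omega

lemma std_tri (hq : IsQuad g) (u v w : σ) :
    Std g (tri u v w) ↔ ¬ adj g u v ∧ ¬ adj g u w ∧ ¬ adj g v w := by
  constructor
  · intro h
    refine ⟨?_, ?_, ?_⟩
    · rintro ⟨i, hi⟩
      exact h i (by rw [hi]; exact gen_le_tri_12 u v w)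
    · rintro ⟨i, hi⟩
      exact h i (by rw [hi]; exact gen_le_tri_13 u v w)
    · rintro ⟨i, hi⟩
      exact h i (by rw [hi]; exact gen_le_tri_23 u v w)
  · rintro ⟨h1, h2, h3⟩ i hi
    obtain ⟨p, l, hpl⟩ := hq i
    rw [hpl] at hi
    rcases gen_le_tri hi with e | e | e
    · exact h1 ⟨i, by rw [hpl, e]⟩
    · exact h2 ⟨i, by rw [hpl, e]⟩
    · exact h3 ⟨i, by rw [hpl, e]⟩

lemma exists_gen_of_sum_two (w : σ →₀ ℕ) (h : ∑ u, ((w u : ℕ) : ℤ) = 2) : ∃ x x', w = gen x x' := by
  have h1 : ∃ x, 1 ≤ w x := by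
    by_contra hh
    push Not at hh
    have : ∑ u, ((w u : ℕ) : ℤ) = 0 := by
      apply Finset.sum_eq_zero
      intro u _
      have := hh u
      have : w u = 0 := by omega
      rw [this]
      rfl
    omega
  obtain ⟨x, hx⟩ := h1
  have hsx : Finsupp.single x 1 ≤ w := by
    intro u
    rw [Finsupp.single_apply]
    split_ifs with hu
    · subst hu
      exact hx
    · exact Nat.zero_le _
  set w' := w - Finsupp.single x 1 with hw'
  have hw : w = Finsupp.single x 1 + w' := by
    rw [hw', add_tsub_cancel_of_le hsx]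
  have hsum' : ∑ u, ((w' u : ℕ) : ℤ) = 1 := by
    have : ∑ u, ((w u : ℕ) : ℤ) = ∑ u, (((Finsupp.single x 1 : σ →₀ ℕ) u : ℕ) : ℤ) + ∑ u, ((w' u : ℕ) : ℤ) := by
      rw [← Finset.sum_add_distrib]
      apply Finset.sum_congr rfl
      intro u _
      rw [hw]
      simp
    rw [h] at this
    have h1 : ∑ u, (((Finsupp.single x 1 : σ →₀ ℕ) u : ℕ) : ℤ) = 1 := by
      simp [Finsupp.single_apply]
    omega
  have h2 : ∃ x', 1 ≤ w' x' := by
    by_contra hh
    push Not at hh
    have : ∑ u, ((w' u : ℕ) : ℤ) = 0 := by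
      apply Finset.sum_eq_zero
      intro u _
      have := hh u
      have : w' u = 0 := by omega
      rw [this]
      rfl
    omega
  obtain ⟨x', hx'⟩ := h2
  refine ⟨x, x', ?_⟩
  have hsx' : Finsupp.single x' 1 ≤ w' := by
    intro u
    rw [Finsupp.single_apply]
    split_ifs with hu
    · subst hu
      exact hx'
    · exact Nat.zero_le _
  have : gen x x' ≤ w := by
    rw [hw]
    unfold gen
    exact add_le_add_right hsx' _
  exact (eq_of_le_of_sum this (by rw [sum_gen, h])).symm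

end basic

section shifts

lemma shift_gen_αd {x y : σ} (z : σ) : shift (gen y z) (αd x y) = gen x z := by
  ext u
  rw [shift_apply, gen_apply, gen_apply]
  unfold αd
  have e1 : (y = u) = (u = y) := propext eq_comm
  have e2 : (x = u) = (u = x) := propext eq_comm
  simp only [e1, e2]
  split_ifs <;> simp

lemma shift_tri_αd {x y : σ} (z z' : σ) : shift (tri y z z') (αd x y) = tri x z z' := by
  ext u
  rw [shift_apply, tri_apply, tri_apply]
  unfold αd
  have e1 : (y = u) = (u = y) := propext eq_comm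
  have e2 : (x = u) = (u = x) := propext eq_comm
  simp only [e1, e2]
  split_ifs <;> simp

lemma shift_gen_α4 (x x' y y' : σ) : shift (gen y y') (α4 x x' y y') = gen x x' := by
  ext u
  rw [shift_apply, gen_apply, gen_apply]
  unfold α4
  have e1 : (y = u) = (u = y) := propext eq_comm
  have e2 : (x = u) = (u = x) := propext eq_comm
  have e3 : (y' = u) = (u = y') := propext eq_comm
  have e4 : (x' = u) = (u = x') := propext eq_comm
  simp only [e1, e2, e3, e4]
  split_ifs <;> simp

lemma nn_gen_α4 (x x' y y' : σ) : nn (gen y y') (α4 x x' y y') := by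
  intro u
  rw [gen_apply]
  unfold α4
  have e1 : (y = u) = (u = y) := propext eq_comm
  have e3 : (y' = u) = (u = y') := propext eq_comm
  simp only [e1, e3]
  split_ifs <;> simp

lemma shift_tri_α4 (x x' y y' z : σ) : shift (tri y y' z) (α4 x x' y y') = tri x x' z := by
  unfold tri
  rw [shift_add_of_nonneg _ _ (nn_gen_α4 x x' y y'), shift_gen_α4]

lemma α4_left (p x' l : σ) : α4 p x' p l = αd x' l := by
  funext u
  unfold α4 αd
  ring

lemma α4_left' (l x' p : σ) : α4 l x' p l = αd x' p := by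
  funext u
  unfold α4 αd
  ring

lemma α4_right (x p l : σ) : α4 x p p l = αd x l := by
  funext u
  unfold α4 αd
  ring

lemma α4_right' (x l p : σ) : α4 x l p l = αd x p := by
  funext u
  unfold α4 αd
  ring

lemma αd_self (x : σ) : αd x x = 0 := by
  funext u
  unfold αd
  simp

end shifts

section classify

variable {g}

/-- an active generator determines the multidegree -/
lemma act_form (hq : IsQuad g) {α : σ → ℤ} (hsum : ∑ l, α l = 0) {i : ι} {p l : σ}
    (hi : g i = gen p l) (hact : Act g α i) : ∃ x x', ¬ adj g x x' ∧ α = α4 x x' p l := by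
  obtain ⟨hn, hS⟩ := hact
  have hw : ∑ u, ((shift (g i) α u : ℕ) : ℤ) = 2 := by
    have : ∑ u, ((shift (g i) α u : ℕ) : ℤ) = ∑ u, ((g i u : ℕ) : ℤ) + ∑ u, α u := by
      rw [← Finset.sum_add_distrib]
      apply Finset.sum_congr rfl
      intro u _
      exact shift_cast hn u
    rw [this, hsum, hi, sum_gen]
    norm_num
  obtain ⟨x, x', hxx⟩ := exists_gen_of_sum_two _ hw
  refine ⟨x, x', ?_, ?_⟩
  · rw [← std_gen hq, ← hxx]
    exact hS
  · funext u
    have h1 := shift_cast hn u
    rw [hxx, hi, gen_apply, gen_apply] at h1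
    unfold α4
    have e1 : (u = p) = (p = u) := propext eq_comm
    have e2 : (u = x) = (x = u) := propext eq_comm
    have e3 : (u = l) = (l = u) := propext eq_comm
    have e4 : (u = x') = (x' = u) := propext eq_comm
    simp only [e1, e2, e3, e4]
    push_cast at h1
    linarith

/-- the multidegree of a nonzero tangent vector is a difference of two variables or of two
quadratic monomials -/
lemma form_of_ne_zero (hq : IsQuad g) {α : σ → ℤ} (hsum : ∑ l, α l = 0) {c : ι → k}
    (hc : c ∈ V k g α) {i : ι} (hne : c i ≠ 0) {p l : σ} (hi : g i = gen p l) :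
    (∃ x y, x ≠ y ∧ (y = p ∨ y = l) ∧ α = αd x y) ∨
      (∃ x x', x ≠ p ∧ x ≠ l ∧ x' ≠ p ∧ x' ≠ l ∧ ¬ adj g x x' ∧ α = α4 x x' p l) := by
  have hact : Act g α i := by
    by_contra h
    exact hne (hc.1 i h)
  obtain ⟨x, x', hxx, hα⟩ := act_form hq hsum hi hact
  have hα0 : α ≠ 0 := by
    intro h0
    subst h0
    have h1 : shift (g i) (0 : σ → ℤ) = g i := by
      ext u
      rw [shift_apply]
      simp
    have := hact.2 i
    rw [h1] at this
    exact this le_rfl
  by_cases h1 : x = p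
  · subst h1
    left
    rw [α4_left] at hα
    refine ⟨x', l, ?_, Or.inr rfl, hα⟩
    rintro rfl
    exact hα0 (by rw [hα, αd_self])
  by_cases h2 : x = l
  · subst h2
    left
    rw [α4_left'] at hα
    refine ⟨x', p, ?_, Or.inl rfl, hα⟩
    rintro rfl
    exact hα0 (by rw [hα, αd_self])
  by_cases h3 : x' = p
  · subst h3
    left
    rw [α4_right] at hα
    exact ⟨x, l, h2, Or.inr rfl, hα⟩
  by_cases h4 : x' = l
  · subst h4
    left
    rw [α4_right'] at hα
    exact ⟨x, p, h1, Or.inl rfl, hα⟩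
  right
  exact ⟨x, x', h1, h2, h3, h4, hxx, hα⟩

end classify

section typeI

variable {g}

lemma tri_le_of_le {y z z' : σ} (hz : z ≠ z') {γ : σ →₀ ℕ} (h1 : gen y z ≤ γ)
    (h2 : gen y z' ≤ γ) : tri y z z' ≤ γ := by
  intro u
  have e1 := h1 u
  have e2 := h2 u
  rw [gen_apply] at e1 e2
  rw [tri_apply]
  by_cases a1 : z = u
  · have a2 : ¬ z' = u := fun h => hz (a1.trans h.symm)
    rw [if_pos a1] at e1 ⊢
    rw [if_neg a2] at e2 ⊢
    omega
  · rw [if_neg a1] at e1 ⊢
    omega

lemma nn_αd_iff {x y : σ} (hxy : x ≠ y) (γ : σ →₀ ℕ) : nn γ (αd x y) ↔ 1 ≤ γ y := by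
  rw [nn_αd]
  exact ⟨fun h => h hxy, fun h _ => h⟩

/-- a generator below `γ` with `γ + e_x - e_y` standard contains `y` -/
lemma contains_of_std {x y : σ} (hxy : x ≠ y) (hq : IsQuad g) {j : ι} {γ : σ →₀ ℕ}
    (hj : g j ≤ γ) (hn : nn γ (αd x y)) (hS : Std g (shift γ (αd x y))) : ∃ z, g j = gen y z := by
  obtain ⟨p, l, hpl⟩ := hq j
  by_cases h1 : y = p
  · subst h1
    exact ⟨l, hpl⟩
  by_cases h2 : y = l
  · subst h2
    exact ⟨p, by rw [hpl, gen_comm]⟩
  exfalso
  apply hS j
  intro u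
  have e1 := hj u
  have e2 := shift_cast hn u
  rw [hpl, gen_apply] at e1 ⊢
  have e3 : αd x y u = (if u = x then 1 else 0) - (if u = y then 1 else 0) := rfl
  rw [e3] at e2
  by_cases hu : u = y
  · subst hu
    rw [if_neg (Ne.symm h1), if_neg (Ne.symm h2)]
    exact Nat.zero_le _
  · rw [if_neg hu] at e2
    have : (γ u : ℤ) ≤ (shift γ (αd x y) u : ℕ) := by
      rw [e2]
      split_ifs <;> omega
    have : γ u ≤ shift γ (αd x y) u := by exact_mod_cast this
    omega

open Classical in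
/-- transporting a labelling of the variables to the generators through `y` -/
noncomputable def lab (g : ι → σ →₀ ℕ) (y : σ) {κ : Type*} (ℓ' : σ → Option κ) (i : ι) : Option κ :=
  if h : ∃ z, g i = gen y z then ℓ' (Classical.choose h) else none

lemma lab_eq {y z : σ} {κ : Type*} (ℓ' : σ → Option κ) {i : ι} (hi : g i = gen y z) :
    lab g y ℓ' i = ℓ' z := by
  unfold lab
  have h : ∃ z, g i = gen y z := ⟨z, hi⟩
  rw [dif_pos h]
  have h0 := Classical.choose_spec h
  have e : gen y z = gen y (Classical.choose h) := hi.symm.trans h0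
  rw [← gen_right_cancel e]

lemma lab_none {y : σ} {κ : Type*} (ℓ' : σ → Option κ) {i : ι} (hi : ¬ ∃ z, g i = gen y z) :
    lab g y ℓ' i = none := by
  unfold lab
  rw [dif_neg hi]

/-- the dimension of a tangent piece of multidegree `e_x - e_y`: connected components of the
non-adjacency graph on the variables adjacent to `y` and not to `x` -/
theorem finrank_V_typeI (hq : IsQuad g) {x y : σ} (hxy : x ≠ y) {κ : Type*} [Fintype κ]
    (ℓ' : σ → Option κ)
    (ha : ∀ z m, ℓ' z = some m → adj g y z ∧ ¬ adj g x z)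
    (hc : ∀ z, adj g y z → ¬ adj g x z → ℓ' z ≠ none)
    (hb : ∀ z z' m m', ℓ' z = some m → ℓ' z' = some m' → ¬ adj g z z' → m = m')
    (hd : ∀ m, ∃ z, ℓ' z = some m)
    (he : ∀ z z' m, ℓ' z = some m → ℓ' z' = some m → ∀ f : σ → k,
      (∀ u v, ℓ' u ≠ none → ℓ' v ≠ none → ¬ adj g u v → f u = f v) → f z = f z') :
    Module.finrank k ↥(V k g (αd x y)) = Fintype.card κ := by
  classical
  have hy1 : ∀ z, 1 ≤ gen y z y := by
    intro z
    rw [gen_apply, if_pos rfl]
    omega
  have hlab : ∀ i m, lab g y ℓ' i = some m → ∃ z, g i = gen y z ∧ ℓ' z = some m := by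
    intro i m hm
    by_cases h : ∃ z, g i = gen y z
    · obtain ⟨z, hz⟩ := h
      rw [lab_eq ℓ' hz] at hm
      exact ⟨z, hz, hm⟩
    · rw [lab_none ℓ' h] at hm
      cases hm
  have hstd1 : ∀ z, ¬ adj g x z → Std g (shift (gen y z) (αd x y)) := by
    intro z hz
    rw [shift_gen_αd, std_gen hq]
    exact hz
  apply finrank_V_eq g (αd x y) (lab g y ℓ')
  · intro i m hm
    obtain ⟨z, hz, hzm⟩ := hlab i m hm
    refine ⟨?_, ?_⟩
    · rw [nn_αd_iff hxy, hz]
      exact hy1 z
    · rw [hz]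
      exact hstd1 z (ha z m hzm).2
  · intro i j γ m hi hj hn hS hm
    obtain ⟨z, hz, hzm⟩ := hlab i m hm
    obtain ⟨z', hz'⟩ := contains_of_std hxy hq hj hn hS
    rw [lab_eq ℓ' hz']
    by_cases hzz : z = z'
    · subst hzz
      exact hzm
    · rw [hz] at hi
      rw [hz'] at hj
      have h1 : tri y z z' ≤ γ := tri_le_of_le hzz hi hj
      have h2 : Std g (tri x z z') := by
        rw [← shift_tri_αd (y := y)]
        exact std_of_le (shift_le_shift h1) hS
      rw [std_tri hq] at h2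
      have h3 : ℓ' z' ≠ none := hc z' ⟨j, hz'⟩ h2.2.1
      obtain ⟨m', hm'⟩ := Option.ne_none_iff_exists'.mp h3
      rw [hm', hb z z' m m' hzm hm' h2.2.2]
  · intro i hi c hcV
    apply hcV.1 i
    intro hact
    obtain ⟨z, hz⟩ := contains_of_std hxy hq (le_refl (g i)) hact.1 hact.2
    rw [lab_eq ℓ' hz] at hi
    have h1 := hact.2
    rw [hz, shift_gen_αd, std_gen hq] at h1
    exact hc z ⟨i, hz⟩ h1 hi
  · intro i j m hi hj c hcV
    obtain ⟨z, hz, hzm⟩ := hlab i m hi
    obtain ⟨z', hz', hzm'⟩ := hlab j m hj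
    let f : σ → k := fun u => if h : ∃ i, g i = gen y u then c (Classical.choose h) else 0
    have hf : ∀ u i, g i = gen y u → ℓ' u ≠ none → f u = c i := by
      intro u i hiu hu
      have h : ∃ i, g i = gen y u := ⟨i, hiu⟩
      show (if h : ∃ i, g i = gen y u then c (Classical.choose h) else 0) = c i
      rw [dif_pos h]
      have h0 := Classical.choose_spec h
      obtain ⟨m', hm'⟩ := Option.ne_none_iff_exists'.mp hu
      apply hcV.2 _ _ (gen y u) (le_of_eq h0) (le_of_eq hiu)
      · rw [nn_αd_iff hxy]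
        exact hy1 u
      · exact hstd1 u (ha u m' hm').2
    have hfz := he z z' m hzm hzm' f (by
      intro u v hu hv huv
      obtain ⟨mu, hmu⟩ := Option.ne_none_iff_exists'.mp hu
      obtain ⟨mv, hmv⟩ := Option.ne_none_iff_exists'.mp hv
      obtain ⟨iu, hiu⟩ := (ha u mu hmu).1
      obtain ⟨iv, hiv⟩ := (ha v mv hmv).1
      rw [hf u iu hiu hu, hf v iv hiv hv]
      apply hcV.2 iu iv (tri y u v)
      · rw [hiu]
        exact gen_le_tri_12 y u v
      · rw [hiv]
        exact gen_le_tri_13 y u v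
      · rw [nn_αd_iff hxy, tri_apply, if_pos rfl]
        omega
      · rw [shift_tri_αd, std_tri hq]
        exact ⟨(ha u mu hmu).2, (ha v mv hmv).2, huv⟩)
    rw [hf z i hz (by rw [hzm]; simp), hf z' j hz' (by rw [hzm']; simp)] at hfz
    exact hfz
  · intro m
    obtain ⟨z, hz⟩ := hd m
    obtain ⟨i, hi⟩ := (ha z m hz).1
    exact ⟨i, by rw [lab_eq ℓ' hi, hz]⟩

/-- no tangent vectors of multidegree `e_x - e_y` when every neighbour of `y` is a neighbour of
`x` -/
theorem V_zero_typeI (hq : IsQuad g) {x y : σ} (hxy : x ≠ y) (h : ∀ z, adj g y z → adj g x z)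
    {c : ι → k} (hc : c ∈ V k g (αd x y)) (i : ι) : c i = 0 := by
  apply hc.1 i
  intro hact
  obtain ⟨z, hz⟩ := contains_of_std hxy hq (le_refl (g i)) hact.1 hact.2
  have h1 := hact.2
  rw [hz, shift_gen_αd, std_gen hq] at h1
  exact h1 (h z ⟨i, hz⟩)

end typeI

section typeII

variable {g}

lemma nn_α4_iff {x x' y y' : σ} (h1 : x ≠ y) (h2 : x ≠ y') (h3 : x' ≠ y) (h4 : x' ≠ y')
    (γ : σ →₀ ℕ) : nn γ (α4 x x' y y') ↔ gen y y' ≤ γ := by
  rw [nn_α4 γ h1.symm h3.symm h2.symm h4.symm, gen_le_iff']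

lemma le_shift_α4 {x x' y y' p l : σ} {γ : σ →₀ ℕ} (hn : nn γ (α4 x x' y y'))
    (hp : p ≠ y ∧ p ≠ y') (hl : l ≠ y ∧ l ≠ y') (h : gen p l ≤ γ) :
    gen p l ≤ shift γ (α4 x x' y y') := by
  intro u
  have e1 := h u
  have e2 := shift_cast hn u
  rw [gen_apply] at e1 ⊢
  have e3 : α4 x x' y y' u = (if u = x then 1 else 0) + (if u = x' then 1 else 0) -
      (if u = y then 1 else 0) - (if u = y' then 1 else 0) := rfl
  rw [e3] at e2
  by_cases hu : u = y
  · subst hu
    rw [if_neg hp.1, if_neg hl.1]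
    exact Nat.zero_le _
  by_cases hu' : u = y'
  · subst hu'
    rw [if_neg hp.2, if_neg hl.2]
    exact Nat.zero_le _
  rw [if_neg hu, if_neg hu'] at e2
  have : (γ u : ℤ) ≤ (shift γ (α4 x x' y y') u : ℕ) := by
    rw [e2]
    split_ifs <;> omega
  have : γ u ≤ shift γ (α4 x x' y y') u := by exact_mod_cast this
  omega

lemma share_cases {y y' p l : σ} (hne : gen p l ≠ gen y y') :
    (∃ z, gen p l = gen y z ∧ z ≠ y') ∨ (∃ z, gen p l = gen y' z ∧ z ≠ y) ∨
      ((p ≠ y ∧ p ≠ y') ∧ (l ≠ y ∧ l ≠ y')) := by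
  by_cases e1 : p = y
  · subst e1
    exact Or.inl ⟨l, rfl, fun h => hne (by rw [h])⟩
  by_cases e2 : l = y
  · subst e2
    exact Or.inl ⟨p, gen_comm _ _, fun h => hne (by rw [h, gen_comm])⟩
  by_cases e3 : p = y'
  · subst e3
    exact Or.inr (Or.inl ⟨l, rfl, e2⟩)
  by_cases e4 : l = y'
  · subst e4
    exact Or.inr (Or.inl ⟨p, gen_comm _ _, e1⟩)
  exact Or.inr (Or.inr ⟨⟨e1, e3⟩, ⟨e2, e4⟩⟩)

lemma tri_le_of_le' {y y' z : σ} (hz : z ≠ y) {γ : σ →₀ ℕ} (h1 : gen y y' ≤ γ)
    (h2 : gen y' z ≤ γ) : tri y y' z ≤ γ := by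
  have h := tri_le_of_le (y := y') (z := y) (z' := z) (Ne.symm hz) (by rwa [gen_comm]) h2
  have e : tri y' y z = tri y y' z := by
    unfold tri
    rw [gen_comm]
  rwa [e] at h

/-- tangent pieces whose multidegree is a quotient of two quadratic monomials -/
theorem finrank_V_typeII (hq : IsQuad g) {x x' y y' : σ} (h1 : x ≠ y) (h2 : x ≠ y') (h3 : x' ≠ y)
    (h4 : x' ≠ y') (hxx : ¬ adj g x x') (hyy : adj g y y')
    (hgood : ∀ z, (adj g y z ∧ z ≠ y') ∨ (adj g y' z ∧ z ≠ y) → adj g x z ∨ adj g x' z) :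
    Module.finrank k ↥(V k g (α4 x x' y y')) = 1 := by
  classical
  have hstd0 : Std g (shift (gen y y') (α4 x x' y y')) := by
    rw [shift_gen_α4, std_gen hq]
    exact hxx
  have hnn0 : nn (gen y y') (α4 x x' y y') := nn_gen_α4 x x' y y'
  have hlab : ∀ i m, (if g i = gen y y' then some m else (none : Option Unit)) = some m →
      g i = gen y y' := by
    intro i m hm
    by_contra h
    rw [if_neg h] at hm
    cases hm
  have h := finrank_V_eq (k := k) g (α4 x x' y y') (κ := Unit)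
    (fun i => if g i = gen y y' then some () else none) ?_ ?_ ?_ ?_ ?_
  · rw [h, Fintype.card_unit]
  · intro i m hm
    have hi := hlab i m hm
    rw [Act, hi]
    exact ⟨hnn0, hstd0⟩
  · intro i j γ m hi hj hn hS hm
    have hi' := hlab i m hm
    show (if g j = gen y y' then some () else none) = some m
    by_cases hne : g j = gen y y'
    · rw [if_pos hne]
    exfalso
    obtain ⟨p, l, hpl⟩ := hq j
    rw [hi'] at hi
    rw [hpl] at hne hj
    have hfin : ∀ z, (adj g y z ∧ z ≠ y') ∨ (adj g y' z ∧ z ≠ y) → tri y y' z ≤ γ → False := by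
      intro z hz hle
      have h5 : Std g (tri x x' z) := by
        rw [← shift_tri_α4 x x' y y' z]
        exact std_of_le (shift_le_shift hle) hS
      rw [std_tri hq] at h5
      rcases hgood z hz with h6 | h6
      · exact h5.2.1 h6
      · exact h5.2.2 h6
    rcases share_cases hne with ⟨z, hz, hzy⟩ | ⟨z, hz, hzy⟩ | ⟨hp, hl⟩
    · rw [hz] at hj
      exact hfin z (Or.inl ⟨⟨j, by rw [hpl, hz]⟩, hzy⟩) (tri_le_of_le (Ne.symm hzy) hi hj)
    · rw [hz] at hj
      exact hfin z (Or.inr ⟨⟨j, by rw [hpl, hz]⟩, hzy⟩) (tri_le_of_le' hzy hi hj)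
    · apply hS j
      rw [hpl]
      exact le_shift_α4 hn hp hl hj
  · intro i hi c hcV
    apply hcV.1 i
    intro hact
    have h5 := hact.1
    rw [nn_α4_iff h1 h2 h3 h4] at h5
    obtain ⟨p, l, hpl⟩ := hq i
    rw [hpl] at h5
    have h6 := gen_le_gen h5
    have : g i = gen y y' := by rw [hpl, h6]
    simp only [this, if_true] at hi
    cases hi
  · intro i j m hi hj c hcV
    have hi' := hlab i m hi
    have hj' := hlab j m hj
    apply hcV.2 i j (gen y y') (le_of_eq hi') (le_of_eq hj') hnn0 hstd0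
  · intro m
    obtain ⟨i, hi⟩ := hyy
    exact ⟨i, by rw [if_pos hi]⟩

/-- vanishing of tangent pieces whose multidegree is a quotient of two quadratic monomials -/
theorem V_zero_typeII (hq : IsQuad g) {x x' y y' : σ} (h1 : x ≠ y) (h2 : x ≠ y') (h3 : x' ≠ y)
    (h4 : x' ≠ y') (z : σ) (hz : (adj g y z ∧ z ≠ y') ∨ (adj g y' z ∧ z ≠ y))
    (hbad : ¬ adj g x x' ∧ ¬ adj g x z ∧ ¬ adj g x' z) {c : ι → k}
    (hc : c ∈ V k g (α4 x x' y y')) (i : ι) : c i = 0 := by
  by_contra hne
  have hact : Act g (α4 x x' y y') i := by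
    by_contra h
    exact hne (hc.1 i h)
  have h5 := hact.1
  rw [nn_α4_iff h1 h2 h3 h4] at h5
  obtain ⟨p, l, hpl⟩ := hq i
  rw [hpl] at h5
  have h6 := gen_le_gen h5
  have hi : g i = gen y y' := by rw [hpl, h6]
  have hS : Std g (shift (tri y y' z) (α4 x x' y y')) := by
    rw [shift_tri_α4, std_tri hq]
    exact hbad
  have hn : nn (tri y y' z) (α4 x x' y y') := by
    rw [nn_α4_iff h1 h2 h3 h4]
    exact gen_le_tri_12 y y' z
  rcases hz with ⟨⟨j, hj⟩, hzy⟩ | ⟨⟨j, hj⟩, hzy⟩
  · have e : c i = c j := hc.2 i j (tri y y' z) (by rw [hi]; exact gen_le_tri_12 y y' z)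
      (by rw [hj]; exact gen_le_tri_13 y y' z) hn hS
    apply hne
    rw [e]
    apply hc.1 j
    intro hactj
    have h7 := hactj.1
    rw [nn_α4_iff h1 h2 h3 h4, hj] at h7
    exact hzy (gen_right_cancel (gen_le_gen h7)).symm
  · have e : c i = c j := hc.2 i j (tri y y' z) (by rw [hi]; exact gen_le_tri_12 y y' z)
      (by rw [hj]; exact gen_le_tri_23 y y' z) hn hS
    apply hne
    rw [e]
    apply hc.1 j
    intro hactj
    have h7 := hactj.1
    rw [nn_α4_iff h1 h2 h3 h4, hj, gen_comm y y'] at h7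
    exact hzy (gen_right_cancel (gen_le_gen h7)).symm

end typeII

end Groth.Agent.Lib.Helper24EdgeId
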