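import Mathlib
import Groth.Agent.S1964

/-!
# Eisenstein polynomials of degree `e < p` over henselian DVRs with algebraically closed residue field
(S16053): the splitting field is `K(ϖ^{1/e})`, of degree `e`, with cyclic Galois group.
-/

universe u

namespace Groth.Agent.Lib.Helper24Eis

open Polynomial IsLocalRing


/-- In a henselian local ring with separably closed residue field, there is a primitive
`e`-th root of unity whenever `e` is invertible in the residue field. -/
theorem exists_primitiveRoot (O : Type*) [CommRing O] [HenselianLocalRing O]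
    [IsSepClosed (ResidueField O)] (e : ℕ) (he : (e : ResidueField O) ≠ 0) :
    ∃ ζ : O, IsPrimitiveRoot ζ e := by
  have : NeZero (e : ResidueField O) := ⟨he⟩
  have he0 : e ≠ 0 := by rintro rfl; simp at he
  obtain ⟨ζ₀, hζ₀⟩ := HasEnoughRootsOfUnity.exists_primitiveRoot (ResidueField O) e
  obtain ⟨a₀, ha₀⟩ := residue_surjective ζ₀
  have hmon : (X ^ e - 1 : O[X]).Monic := by
    have := monic_X_pow_sub_C (1 : O) he0
    simpa using this
  obtain ⟨ζ, hζ1, hζ2⟩ := HenselianLocalRing.is_henselian (X ^ e - 1 : O[X]) hmon a₀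
    (by
      rw [← residue_eq_zero_iff]
      simp only [eval_sub, eval_pow, eval_X, eval_one, map_sub, map_pow, map_one, ha₀]
      rw [hζ₀.pow_eq_one, sub_self])
    (by
      rw [← not_not (a := IsUnit _), ← mem_nonunits_iff, ← mem_maximalIdeal, ← residue_eq_zero_iff]
      simp only [derivative_sub, derivative_X_pow, derivative_one, sub_zero, eval_mul, eval_C,
        eval_pow, eval_X, map_mul, map_pow, ha₀, map_natCast, eval_natCast]
      exact mul_ne_zero he (pow_ne_zero _ (hζ₀.ne_zero he0)))
  have hres : residue O ζ = ζ₀ := by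
    rw [← ha₀, ← sub_eq_zero, ← map_sub, residue_eq_zero_iff]
    exact hζ2
  refine ⟨ζ, ?_⟩
  rw [IsPrimitiveRoot.iff_def]
  constructor
  · have := hζ1
    simp only [IsRoot.def, eval_sub, eval_pow, eval_X, eval_one] at this
    exact sub_eq_zero.1 this
  · intro l hl
    apply hζ₀.dvd_of_pow_eq_one
    rw [← hres, ← map_pow, hl, map_one]

/-- `e`-th roots of units. -/
theorem exists_pow_eq (O : Type*) [CommRing O] [HenselianLocalRing O]
    [IsSepClosed (ResidueField O)] (e : ℕ) (he : (e : ResidueField O) ≠ 0) (v : O) (hv : IsUnit v) :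
    ∃ w : O, w ^ e = v := by
  have : NeZero (e : ResidueField O) := ⟨he⟩
  have he0 : e ≠ 0 := by rintro rfl; simp at he
  obtain ⟨w₀, hw₀⟩ := IsSepClosed.exists_pow_nat_eq (residue O v) e
  obtain ⟨a₀, ha₀⟩ := residue_surjective w₀
  have hv0 : residue O v ≠ 0 := by
    rw [Ne, residue_eq_zero_iff, mem_maximalIdeal, mem_nonunits_iff, not_not]
    exact hv
  have hw0 : w₀ ≠ 0 := by
    rintro rfl
    rw [zero_pow he0] at hw₀
    exact hv0 hw₀.symm
  obtain ⟨w, hw1, -⟩ := HenselianLocalRing.is_henselian (X ^ e - C v : O[X])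
    (monic_X_pow_sub_C v he0) a₀
    (by
      rw [← residue_eq_zero_iff]
      simp only [eval_sub, eval_pow, eval_X, eval_C, map_sub, map_pow, ha₀]
      rw [hw₀, sub_self])
    (by
      rw [← not_not (a := IsUnit _), ← mem_nonunits_iff, ← mem_maximalIdeal, ← residue_eq_zero_iff]
      simp only [derivative_sub, derivative_X_pow, derivative_C, sub_zero, eval_mul, eval_C,
        eval_pow, eval_X, map_mul, map_pow, ha₀, map_natCast, eval_natCast]
      exact mul_ne_zero he (pow_ne_zero _ hw0))
  refine ⟨w, ?_⟩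
  simp only [IsRoot.def, eval_sub, eval_pow, eval_X, eval_C] at hw1
  exact sub_eq_zero.1 hw1



section A

variable {O : Type u} [CommRing O] [IsDomain O] [IsDiscreteValuationRing O]

theorem not_mem_sq {ϖ : O} (hϖ : Irreducible ϖ) : ϖ ∉ maximalIdeal O ^ 2 := by
  rw [hϖ.maximalIdeal_eq, Ideal.span_singleton_pow, Ideal.mem_span_singleton]
  rintro ⟨c, hc⟩
  have h1 : ϖ * 1 = ϖ * (ϖ * c) := by rw [mul_one]; rw [hc] at *; ring_nf; ring_nf at hc; exact hc
  have h2 := mul_left_cancel₀ hϖ.ne_zero h1
  exact hϖ.not_isUnit (IsUnit.of_mul_eq_one _ h2.symm)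

theorem eis_X_pow_sub_C {ϖ : O} (hϖ : Irreducible ϖ) (e : ℕ) (he : 1 ≤ e) :
    (X ^ e - C ϖ : O[X]).IsEisensteinAt (maximalIdeal O) := by
  have hdeg : (X ^ e - C ϖ : O[X]).natDegree = e := natDegree_X_pow_sub_C
  have hmon : (X ^ e - C ϖ : O[X]).Monic := monic_X_pow_sub_C ϖ (by omega)
  refine ⟨?_, ?_, ?_⟩
  · rw [hmon.leadingCoeff]
    exact fun h => (Ideal.ne_top_iff_one _).1 (maximalIdeal.isMaximal O).ne_top h
  · intro n hn
    rw [hdeg] at hn
    rw [coeff_sub, coeff_X_pow, if_neg (by omega), zero_sub, coeff_C]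
    split_ifs
    · rw [hϖ.maximalIdeal_eq]
      exact neg_mem (Ideal.subset_span rfl)
    · simp
  · rw [coeff_sub, coeff_X_pow, if_neg (by omega), zero_sub, coeff_C_zero, neg_mem_iff]
    exact not_mem_sq hϖ

theorem irreducible_X_pow_sub_C {ϖ : O} (hϖ : Irreducible ϖ) (e : ℕ) (he : 1 ≤ e) :
    Irreducible (X ^ e - C ϖ : O[X]) :=
  (eis_X_pow_sub_C hϖ e he).irreducible (maximalIdeal.isMaximal O).isPrime
    (monic_X_pow_sub_C ϖ (by omega)).isPrimitive (by rw [natDegree_X_pow_sub_C]; omega)

end A



/-- Hensel lifting of the roots of `X^e + c₀` in a henselian local ring with separably closed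
residue field: a monic `g` of degree `e` whose reduction is `X^e + C c̄` with `c̄ ≠ 0` and `e ≠ 0`
in the residue field has `e` roots with pairwise distinct residues. -/
theorem exists_roots (B : Type*) [CommRing B] [HenselianLocalRing B] [IsSepClosed (ResidueField B)]
    (e : ℕ) (he : (e : ResidueField B) ≠ 0) (g : B[X]) (hg : g.Monic)
    (c : ResidueField B) (hc : c ≠ 0) (hmap : g.map (residue B) = X ^ e + C c) :
    ∃ (S : Finset (ResidueField B)) (z : ResidueField B → B), S.card = e ∧
      ∀ y ∈ S, g.IsRoot (z y) ∧ residue B (z y) = y := by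
  classical
  have he0 : e ≠ 0 := by rintro rfl; simp at he
  have hsep : (X ^ e + C c : (ResidueField B)[X]).Separable := by
    have := separable_X_pow_sub_C (-c) he (neg_ne_zero.2 hc)
    simpa using this
  have hsplit : (X ^ e + C c : (ResidueField B)[X]).Splits := IsSepClosed.splits_of_separable _ hsep
  have hdeg : (X ^ e + C c : (ResidueField B)[X]).natDegree = e := natDegree_X_pow_add_C
  have hcard : (X ^ e + C c : (ResidueField B)[X]).roots.toFinset.card = e := by
    rw [Multiset.toFinset_card_of_nodup (nodup_roots hsep)]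
    exact (splits_iff_card_roots.1 hsplit).trans hdeg
  have hlift : ∀ y ∈ (X ^ e + C c : (ResidueField B)[X]).roots.toFinset,
      ∃ z : B, g.IsRoot z ∧ residue B z = y := by
    intro y hy
    rw [Multiset.mem_toFinset, mem_roots hsep.ne_zero] at hy
    obtain ⟨a₀, ha₀⟩ := residue_surjective y
    have hev : ∀ q : B[X], residue B (q.eval a₀) = (q.map (residue B)).eval y := by
      intro q
      rw [← ha₀, eval_map, eval₂_at_apply]
    obtain ⟨z, hz1, hz2⟩ := HenselianLocalRing.is_henselian g hg a₀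
      (by rw [← residue_eq_zero_iff, hev, hmap]; exact hy)
      (by
        rw [← not_not (a := IsUnit _), ← mem_nonunits_iff, ← mem_maximalIdeal,
          ← residue_eq_zero_iff, hev, ← derivative_map, hmap]
        have := hsep.eval₂_derivative_ne_zero (RingHom.id _) (x := y) (by simpa using hy)
        simpa using this)
    refine ⟨z, hz1, ?_⟩
    rw [← ha₀, ← sub_eq_zero, ← map_sub, residue_eq_zero_iff]
    exact hz2
  choose! z hz using hlift
  exact ⟨_, z, hcard, hz⟩



/-- The scaled polynomial `g` with `f(β z) = ϖ g(z)`. -/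
noncomputable def gPoly {O B : Type*} [CommRing O] [CommRing B] [Algebra O B] (e : ℕ) (c : ℕ → O)
    (β : B) : B[X] :=
  X ^ e + ∑ i ∈ Finset.range e, C (algebraMap O B (c i) * β ^ i) * X ^ i

theorem gPoly_monic {O B : Type*} [CommRing O] [CommRing B] [Algebra O B] (e : ℕ) (c : ℕ → O)
    (β : B) : (gPoly e c β).Monic := by
  nontriviality B
  refine monic_X_pow_add ?_
  refine lt_of_le_of_lt (degree_sum_le _ _) ?_
  refine (Finset.sup_lt_iff (WithBot.bot_lt_coe e)).2 ?_
  intro i hi
  exact lt_of_le_of_lt (degree_C_mul_X_pow_le _ _) (WithBot.coe_lt_coe.2 (Finset.mem_range.1 hi))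

theorem gPoly_eval {O B : Type*} [CommRing O] [CommRing B] [Algebra O B] (f : O[X]) (hmon : f.Monic)
    (e : ℕ) (hdeg : f.natDegree = e) (ϖ : O) (c : ℕ → O) (hc : ∀ i < e, f.coeff i = ϖ * c i)
    (β : B) (hβ : β ^ e = algebraMap O B ϖ) (z : B) :
    eval₂ (algebraMap O B) (β * z) f = algebraMap O B ϖ * (gPoly e c β).eval z := by
  have h1 := congrArg (eval₂ (algebraMap O B) (β * z)) hmon.as_sum
  rw [h1, hdeg, gPoly]
  simp only [eval₂_add, eval₂_pow, eval₂_X, eval₂_finsetSum, eval₂_mul, eval₂_C, eval_add,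
    eval_pow, eval_X, eval_finsetSum, eval_mul, eval_C]
  rw [mul_add, mul_pow, hβ, Finset.mul_sum]
  congr 1
  refine Finset.sum_congr rfl fun i hi => ?_
  rw [hc i (Finset.mem_range.1 hi), map_mul, mul_pow]
  ring

theorem gPoly_map {O B : Type*} [CommRing O] [CommRing B] [IsLocalRing B] [Algebra O B]
    (e : ℕ) (he : 1 ≤ e) (c : ℕ → O) (β : B) (hβ : residue B β = 0) :
    (gPoly e c β).map (residue B) = X ^ e + C (residue B (algebraMap O B (c 0))) := by
  rw [gPoly, Polynomial.map_add, Polynomial.map_pow, map_X, Polynomial.map_sum]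
  congr 1
  rw [Finset.sum_eq_single 0]
  · simp
  · intro i _ hi
    rw [Polynomial.map_mul, map_C, map_mul, map_pow, hβ, zero_pow hi, mul_zero, C_0, zero_mul]
  · intro h
    exact absurd (Finset.mem_range.2 (by omega)) h



/-- An irreducible monic polynomial of degree `e = [L : K]` with `e` distinct roots in `L`
has `L` as a splitting field. -/
theorem isSplittingField_of_roots {K L ι : Type*} [Field K] [Field L] [Algebra K L]
    [FiniteDimensional K L] (e : ℕ) (hLdeg : Module.finrank K L = e) (fK : K[X])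
    (hfK : Irreducible fK) (hfKmon : fK.Monic) (hfKdeg : fK.natDegree = e) (he : 1 ≤ e)
    (S : Finset ι) (hS : S.card = e) (ρ : ι → L) (hρinj : Set.InjOn ρ S)
    (hρroot : ∀ y ∈ S, aeval (ρ y) fK = 0) : fK.IsSplittingField K L := by
  classical
  rw [isSplittingField_iff_intermediateField]
  have hne : fK.map (algebraMap K L) ≠ 0 := (hfKmon.map _).ne_zero
  constructor
  · rw [splits_iff_card_roots]
    apply le_antisymm (card_roots' _)
    rw [natDegree_map, hfKdeg, ← hS, ← Finset.card_image_of_injOn hρinj]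
    refine le_trans (Finset.card_le_card ?_) (Multiset.toFinset_card_le _)
    intro x hx
    obtain ⟨y, hy, rfl⟩ := Finset.mem_image.1 hx
    rw [Multiset.mem_toFinset, mem_roots hne, IsRoot.def, eval_map, ← aeval_def]
    exact hρroot y hy
  · obtain ⟨y₁, hy₁⟩ : S.Nonempty := Finset.card_pos.1 (by omega)
    have hα := hρroot y₁ hy₁
    have hint : IsIntegral K (ρ y₁) := Algebra.IsIntegral.isIntegral _
    have hmin : fK = minpoly K (ρ y₁) := minpoly.eq_of_irreducible_of_monic hfK hα hfKmon
    have h1 : Module.finrank K (IntermediateField.adjoin K {ρ y₁}) = e := by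
      rw [IntermediateField.adjoin.finrank hint, ← hmin, hfKdeg]
    have h2 : IntermediateField.adjoin K {ρ y₁} = ⊤ := by
      apply IntermediateField.eq_of_le_of_finrank_eq le_top
      rw [h1, IntermediateField.finrank_top', hLdeg]
    rw [eq_top_iff, ← h2]
    apply IntermediateField.adjoin.mono
    rw [Set.singleton_subset_iff, mem_rootSet]
    exact ⟨hfKmon.ne_zero, hα⟩



theorem main (O : Type u) [CommRing O] [IsDomain O]
    [IsDiscreteValuationRing O] [HenselianLocalRing O] [IsAlgClosed (ResidueField O)]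
    (p : ℕ) [Fact p.Prime] [CharP (ResidueField O) p]
    (f : O[X]) (hmon : f.Monic) (e : ℕ) (hdeg : f.natDegree = e) (he : 1 ≤ e) (hep : e < p)
    (hf : f.IsEisensteinAt (maximalIdeal O)) :
    Module.finrank (FractionRing O) (f.map (algebraMap O (FractionRing O))).SplittingField = e ∧
      IsCyclic (f.map (algebraMap O (FractionRing O))).Gal := by
  classical
  obtain ⟨ϖ, hϖ⟩ := IsDiscreteValuationRing.exists_irreducible O
  have he0 : e ≠ 0 := by omega
  haveI : NeZero e := ⟨he0⟩
  have hek : (e : ResidueField O) ≠ 0 := by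
    rw [Ne, CharP.cast_eq_zero_iff (ResidueField O) p]
    exact Nat.not_dvd_of_pos_of_lt (by omega) hep
  obtain ⟨ζ, hζ⟩ := exists_primitiveRoot O e hek
  have hinjK : Function.Injective (algebraMap O (FractionRing O)) :=
    IsFractionRing.injective O (FractionRing O)
  have hζK : (primitiveRoots e (FractionRing O)).Nonempty :=
    ⟨algebraMap O (FractionRing O) ζ,
      (mem_primitiveRoots (by omega)).2 (hζ.map_of_injective hinjK)⟩
  have hirrO : Irreducible (X ^ e - C ϖ : O[X]) := irreducible_X_pow_sub_C hϖ e he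
  have hmonO : (X ^ e - C ϖ : O[X]).Monic := monic_X_pow_sub_C ϖ he0
  have hmapK : (X ^ e - C ϖ : O[X]).map (algebraMap O (FractionRing O)) =
      X ^ e - C (algebraMap O (FractionRing O) ϖ) := by simp
  have H : Irreducible (X ^ e - C (algebraMap O (FractionRing O) ϖ) : (FractionRing O)[X]) := by
    rw [← hmapK]
    exact (hmonO.irreducible_iff_irreducible_map_fraction_map).1 hirrO
  have hfirrO : Irreducible f :=
    hf.irreducible (maximalIdeal.isMaximal O).isPrime hmon.isPrimitive (by omega)
  have hfirrK : Irreducible (f.map (algebraMap O (FractionRing O))) :=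
    (hmon.irreducible_iff_irreducible_map_fraction_map).1 hfirrO
  have hprime : Prime (X ^ e - C ϖ : O[X]) :=
    UniqueFactorizationMonoid.irreducible_iff_prime.1 hirrO
  haveI : IsDomain (AdjoinRoot (X ^ e - C ϖ : O[X])) := AdjoinRoot.isDomain_of_prime hprime
  haveI : Module.Finite O (AdjoinRoot (X ^ e - C ϖ : O[X])) := hmonO.finite_adjoinRoot
  obtain ⟨hB, hloc, hsep⟩ := Groth.Agent.S1964.result O (AdjoinRoot (X ^ e - C ϖ : O[X]))
  haveI := hB
  haveI := hloc
  obtain ⟨hsc, -⟩ := hsep inferInstance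
  haveI := hsc
  -- the element β
  set β : AdjoinRoot (X ^ e - C ϖ : O[X]) := AdjoinRoot.root _ with hβdef
  have hβe : β ^ e = algebraMap O (AdjoinRoot (X ^ e - C ϖ : O[X])) ϖ := by
    have h0 := AdjoinRoot.mk_self (f := (X ^ e - C ϖ : O[X]))
    rw [map_sub, map_pow, AdjoinRoot.mk_X, AdjoinRoot.mk_C, sub_eq_zero] at h0
    exact h0
  have hϖB : residue (AdjoinRoot (X ^ e - C ϖ : O[X]))
      (algebraMap O (AdjoinRoot (X ^ e - C ϖ : O[X])) ϖ) = 0 := by
    rw [residue_eq_zero_iff, mem_maximalIdeal, mem_nonunits_iff]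
    intro hu
    exact hϖ.not_isUnit (isUnit_of_map_unit (algebraMap O (AdjoinRoot (X ^ e - C ϖ : O[X]))) ϖ hu)
  have hβres : residue (AdjoinRoot (X ^ e - C ϖ : O[X])) β = 0 := by
    have := congrArg (residue (AdjoinRoot (X ^ e - C ϖ : O[X]))) hβe
    rw [map_pow, hϖB] at this
    exact pow_eq_zero_iff he0 |>.1 this
  -- characteristic of the residue field of B
  haveI : CharP (ResidueField (AdjoinRoot (X ^ e - C ϖ : O[X]))) p :=
    charP_of_injective_ringHom
      (ResidueField.map (algebraMap O (AdjoinRoot (X ^ e - C ϖ : O[X])))).injective p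
  have hekB : (e : ResidueField (AdjoinRoot (X ^ e - C ϖ : O[X]))) ≠ 0 := by
    rw [Ne, CharP.cast_eq_zero_iff (ResidueField (AdjoinRoot (X ^ e - C ϖ : O[X]))) p]
    exact Nat.not_dvd_of_pos_of_lt (by omega) hep
  -- coefficients
  have hcoef : ∀ i, ∃ ci, i < e → f.coeff i = ϖ * ci := by
    intro i
    by_cases hi : i < e
    · have := hf.mem (hdeg ▸ hi)
      rw [hϖ.maximalIdeal_eq, Ideal.mem_span_singleton'] at this
      obtain ⟨ci, hci⟩ := this
      exact ⟨ci, fun _ => by rw [← hci, mul_comm]⟩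
    · exact ⟨0, fun h => absurd h hi⟩
  choose c hc using hcoef
  have hc0 : IsUnit (c 0) := by
    by_contra hnu
    have hm : c 0 ∈ maximalIdeal O := hnu
    rw [hϖ.maximalIdeal_eq, Ideal.mem_span_singleton'] at hm
    obtain ⟨c', hc'⟩ := hm
    apply hf.notMem
    rw [hc 0 (by omega), ← hc', hϖ.maximalIdeal_eq, Ideal.span_singleton_pow,
      Ideal.mem_span_singleton']
    exact ⟨c', by ring⟩
  have hc0B : residue (AdjoinRoot (X ^ e - C ϖ : O[X]))
      (algebraMap O (AdjoinRoot (X ^ e - C ϖ : O[X])) (c 0)) ≠ 0 := by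
    rw [Ne, residue_eq_zero_iff, mem_maximalIdeal, mem_nonunits_iff, not_not]
    exact hc0.map _
  obtain ⟨S, z, hS, hz⟩ := exists_roots (AdjoinRoot (X ^ e - C ϖ : O[X])) e hekB
    (gPoly e c β) (gPoly_monic e c β) _ hc0B (gPoly_map e he c β hβres)
  -- the field L = K[e√ϖ]
  haveI : Fact (Irreducible (X ^ e - C (algebraMap O (FractionRing O) ϖ) : (FractionRing O)[X])) := ⟨H⟩
  haveI hsplitL := isSplittingField_AdjoinRoot_X_pow_sub_C hζK H
  have hβL : (AdjoinRoot.root (X ^ e - C (algebraMap O (FractionRing O) ϖ) :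
      (FractionRing O)[X])) ^ e = algebraMap (FractionRing O) (AdjoinRoot (X ^ e -
      C (algebraMap O (FractionRing O) ϖ) : (FractionRing O)[X])) (algebraMap O (FractionRing O) ϖ) := by
    have h0 := AdjoinRoot.mk_self (f := (X ^ e - C (algebraMap O (FractionRing O) ϖ) :
      (FractionRing O)[X]))
    rw [map_sub, map_pow, AdjoinRoot.mk_X, AdjoinRoot.mk_C, sub_eq_zero] at h0
    exact h0
  let φ : AdjoinRoot (X ^ e - C ϖ : O[X]) →+* AdjoinRoot (X ^ e -
      C (algebraMap O (FractionRing O) ϖ) : (FractionRing O)[X]) :=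
    AdjoinRoot.lift ((algebraMap (FractionRing O) (AdjoinRoot (X ^ e -
      C (algebraMap O (FractionRing O) ϖ) : (FractionRing O)[X]))).comp
      (algebraMap O (FractionRing O))) (AdjoinRoot.root _) (by
      rw [eval₂_sub, eval₂_pow, eval₂_X, eval₂_C, hβL, RingHom.comp_apply, sub_self])
  have hφβ : φ β = AdjoinRoot.root _ := AdjoinRoot.lift_root _
  have hφof : ∀ a : O, φ (algebraMap O (AdjoinRoot (X ^ e - C ϖ : O[X])) a) =
      algebraMap (FractionRing O) (AdjoinRoot (X ^ e -
      C (algebraMap O (FractionRing O) ϖ) : (FractionRing O)[X])) (algebraMap O (FractionRing O) a) :=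
    fun a => AdjoinRoot.lift_of _
  haveI : FiniteDimensional (FractionRing O) (AdjoinRoot (X ^ e -
      C (algebraMap O (FractionRing O) ϖ) : (FractionRing O)[X])) :=
    IsSplittingField.finiteDimensional _ (X ^ e - C (algebraMap O (FractionRing O) ϖ))
  have hLdeg : Module.finrank (FractionRing O) (AdjoinRoot (X ^ e -
      C (algebraMap O (FractionRing O) ϖ) : (FractionRing O)[X])) = e :=
    finrank_of_isSplittingField_X_pow_sub_C hζK H _
  have hφcomp : φ.comp (algebraMap O (AdjoinRoot (X ^ e - C ϖ : O[X]))) =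
      (algebraMap (FractionRing O) (AdjoinRoot (X ^ e -
      C (algebraMap O (FractionRing O) ϖ) : (FractionRing O)[X]))).comp
      (algebraMap O (FractionRing O)) := RingHom.ext hφof
  have hρroot : ∀ y ∈ S, aeval (φ (β * z y)) (f.map (algebraMap O (FractionRing O))) = 0 := by
    intro y hy
    have h1 := gPoly_eval f hmon e hdeg ϖ c (fun i hi => hc i hi) β hβe (z y)
    rw [(hz y hy).1, mul_zero] at h1
    have h2 := congrArg φ h1
    rw [hom_eval₂, map_zero, hφcomp] at h2
    rw [aeval_def, eval₂_map]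
    exact h2
  have hϖL : algebraMap (FractionRing O) (AdjoinRoot (X ^ e -
      C (algebraMap O (FractionRing O) ϖ) : (FractionRing O)[X]))
      (algebraMap O (FractionRing O) ϖ) ≠ 0 := by
    rw [Ne, map_eq_zero, map_eq_zero_iff _ hinjK]
    exact hϖ.ne_zero
  have hrootne : (AdjoinRoot.root (X ^ e - C (algebraMap O (FractionRing O) ϖ) :
      (FractionRing O)[X])) ≠ 0 := by
    intro h0
    rw [h0, zero_pow he0] at hβL
    exact hϖL hβL.symm
  have hρinj : Set.InjOn (fun y => φ (β * z y)) S := by
    intro y hy y' hy' hyy'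
    by_contra hne
    have hu : IsUnit (z y - z y') := by
      rw [← not_not (a := IsUnit _), ← mem_nonunits_iff, ← mem_maximalIdeal, ← residue_eq_zero_iff,
        map_sub, (hz y hy).2, (hz y' hy').2, sub_eq_zero]
      exact hne
    have h1 : φ β * φ (z y - z y') = 0 := by
      rw [← map_mul, mul_sub, map_sub, sub_eq_zero]
      exact hyy'
    rw [hφβ] at h1
    exact mul_ne_zero hrootne (hu.map φ).ne_zero h1
  haveI hsf : (f.map (algebraMap O (FractionRing O))).IsSplittingField (FractionRing O)
      (AdjoinRoot (X ^ e - C (algebraMap O (FractionRing O) ϖ) : (FractionRing O)[X])) :=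
    isSplittingField_of_roots e hLdeg _ hfirrK (hmon.map _) (by rw [natDegree_map_eq_of_injective hinjK, hdeg])
      he S hS _ hρinj hρroot
  have E := IsSplittingField.algEquiv (AdjoinRoot (X ^ e -
      C (algebraMap O (FractionRing O) ϖ) : (FractionRing O)[X]))
      (f.map (algebraMap O (FractionRing O)))
  constructor
  · rw [← E.toLinearEquiv.finrank_eq, hLdeg]
  · have hcyc := isCyclic_of_isSplittingField_X_pow_sub_C hζK H (AdjoinRoot (X ^ e -
      C (algebraMap O (FractionRing O) ϖ) : (FractionRing O)[X]))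
    exact (MulEquiv.isCyclic (AlgEquiv.autCongr E)).1 hcyc

end Groth.Agent.Lib.Helper24Eis
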