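import Mathlib
import Groth.Prelude.Def_W4c5modbuncurvesppStab
import Groth.Agent.Lib.Helper24BI1

set_option autoImplicit false
universe u

namespace Groth.Agent.Lib.Helper24Elem

open LabGraph PhiStab Groth.Agent.Lib.Helper24BI

variable {V E : Type u} [Fintype V] [Fintype E] [DecidableEq V] [DecidableEq E]

/-- the edge `e` joins the vertex sets `X` and `Y`. -/
def Joins (ends : E → V × V) (X Y : Finset V) (e : E) : Prop :=
  ((ends e).1 ∈ X ∧ (ends e).2 ∈ Y) ∨ ((ends e).1 ∈ Y ∧ (ends e).2 ∈ X)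

/-- the stability defect `f(S) = deg_S - (Σ_S φ - cut S / 2)`. -/
noncomputable def fdef (ends : E → V × V) (φ : V → ℝ) (m : V → ℤ) (N : Finset E) (S : Finset V) : ℝ :=
  (degOn ends m N S : ℝ) - ((∑ v ∈ S, φ v) - (cut ends S : ℝ) / 2)

omit [Fintype V] in
theorem cut_eq_sum_real (ends : E → V × V) (Y : Finset V) :
    (cut ends Y : ℝ) = ∑ e, if Crosses ends Y e then (1 : ℝ) else 0 := by
  rw [cut_eq, Finset.card_filter]
  push_cast
  rfl

omit [Fintype V] in
theorem card_inter_inner (ends : E → V × V) (N : Finset E) (S : Finset V) :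
    ((N ∩ PhiStab.inner ends S).card : ℝ) =
      ∑ e ∈ N, if (ends e).1 ∈ S ∧ (ends e).2 ∈ S then (1 : ℝ) else 0 := by
  have : N ∩ PhiStab.inner ends S = N.filter (fun e => (ends e).1 ∈ S ∧ (ends e).2 ∈ S) := by
    ext e
    unfold PhiStab.inner
    simp only [Finset.mem_inter, Finset.mem_filter, Finset.mem_univ, true_and]
  rw [this, Finset.card_filter]
  push_cast
  rfl

omit [Fintype V] in
theorem fdef_eq (ends : E → V × V) (φ : V → ℝ) (m : V → ℤ) (N : Finset E) (S : Finset V) :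
    fdef ends φ m N S = (∑ v ∈ S, ((m v : ℝ) - φ v)) +
      (∑ e ∈ N, if (ends e).1 ∈ S ∧ (ends e).2 ∈ S then (1 : ℝ) else 0) +
      (∑ e, if Crosses ends S e then (1 : ℝ) else 0) / 2 := by
  unfold fdef degOn
  push_cast
  rw [card_inter_inner, cut_eq_sum_real, Finset.sum_sub_distrib]
  ring

omit [Fintype V] in
/-- additivity of the defect over a splitting of `S`. -/
theorem fdef_split (ends : E → V × V) (φ : V → ℝ) (m : V → ℤ) (N : Finset E) (A B : Finset V)
    (hAB : Disjoint A B) (hno : ∀ e, ¬ Joins ends A B e) :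
    fdef ends φ m N (A ∪ B) = fdef ends φ m N A + fdef ends φ m N B := by
  rw [fdef_eq, fdef_eq, fdef_eq, Finset.sum_union hAB]
  have hd : ∀ v, ¬ (v ∈ A ∧ v ∈ B) := fun v h => (Finset.disjoint_left.mp hAB h.1) h.2
  have h1 : ∀ e, (if (ends e).1 ∈ A ∪ B ∧ (ends e).2 ∈ A ∪ B then (1 : ℝ) else 0) =
      (if (ends e).1 ∈ A ∧ (ends e).2 ∈ A then (1 : ℝ) else 0) +
      (if (ends e).1 ∈ B ∧ (ends e).2 ∈ B then (1 : ℝ) else 0) := by
    intro e
    have hn := hno e
    unfold Joins at hn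
    have hd1 := hd (ends e).1
    have hd2 := hd (ends e).2
    simp only [Finset.mem_union]
    by_cases a1 : (ends e).1 ∈ A <;> by_cases a2 : (ends e).2 ∈ A <;>
      by_cases b1 : (ends e).1 ∈ B <;> by_cases b2 : (ends e).2 ∈ B <;> simp_all
  have h2 : ∀ e, (if Crosses ends (A ∪ B) e then (1 : ℝ) else 0) =
      (if Crosses ends A e then (1 : ℝ) else 0) + (if Crosses ends B e then (1 : ℝ) else 0) := by
    intro e
    have hn := hno e
    unfold Joins at hn
    have hd1 := hd (ends e).1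
    have hd2 := hd (ends e).2
    unfold Crosses
    simp only [Finset.mem_union]
    by_cases a1 : (ends e).1 ∈ A <;> by_cases a2 : (ends e).2 ∈ A <;>
      by_cases b1 : (ends e).1 ∈ B <;> by_cases b2 : (ends e).2 ∈ B <;> simp_all
  simp_rw [h1, h2]
  rw [Finset.sum_add_distrib, Finset.sum_add_distrib]
  ring

/-- additivity of the defect over a splitting of the complement of `S`. -/
theorem fdef_split_compl (ends : E → V × V) (φ : V → ℝ) (m : V → ℤ) (N : Finset E)
    (hdeg : (∑ v : V, φ v) = (totDeg m N : ℝ)) (S A B : Finset V)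
    (hSA : Disjoint S A) (hSB : Disjoint S B) (hAB : Disjoint A B) (hcov : S ∪ A ∪ B = Finset.univ)
    (hno : ∀ e, ¬ Joins ends A B e) :
    fdef ends φ m N S = fdef ends φ m N (S ∪ A) + fdef ends φ m N (S ∪ B) := by
  rw [fdef_eq, fdef_eq, fdef_eq, Finset.sum_union hSA, Finset.sum_union hSB]
  have hd1 : ∀ v, ¬ (v ∈ S ∧ v ∈ A) := fun v h => (Finset.disjoint_left.mp hSA h.1) h.2
  have hd2 : ∀ v, ¬ (v ∈ S ∧ v ∈ B) := fun v h => (Finset.disjoint_left.mp hSB h.1) h.2
  have hd3 : ∀ v, ¬ (v ∈ A ∧ v ∈ B) := fun v h => (Finset.disjoint_left.mp hAB h.1) h.2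
  have hc : ∀ v, v ∈ S ∨ v ∈ A ∨ v ∈ B := by
    intro v
    have := Finset.mem_univ v
    rw [← hcov, Finset.mem_union, Finset.mem_union] at this
    tauto
  have h1 : ∀ e, (if (ends e).1 ∈ S ∪ A ∧ (ends e).2 ∈ S ∪ A then (1 : ℝ) else 0) +
      (if (ends e).1 ∈ S ∪ B ∧ (ends e).2 ∈ S ∪ B then (1 : ℝ) else 0) =
      (if (ends e).1 ∈ S ∧ (ends e).2 ∈ S then (1 : ℝ) else 0) + 1 := by
    intro e
    have hn := hno e
    unfold Joins at hn
    have := hd1 (ends e).1; have := hd1 (ends e).2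
    have := hd2 (ends e).1; have := hd2 (ends e).2
    have := hd3 (ends e).1; have := hd3 (ends e).2
    have := hc (ends e).1; have := hc (ends e).2
    simp only [Finset.mem_union]
    by_cases s1 : (ends e).1 ∈ S <;> by_cases s2 : (ends e).2 ∈ S <;>
      by_cases a1 : (ends e).1 ∈ A <;> by_cases a2 : (ends e).2 ∈ A <;>
      by_cases b1 : (ends e).1 ∈ B <;> by_cases b2 : (ends e).2 ∈ B <;> simp_all
  have h2 : ∀ e, (if Crosses ends (S ∪ A) e then (1 : ℝ) else 0) +
      (if Crosses ends (S ∪ B) e then (1 : ℝ) else 0) =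
      (if Crosses ends S e then (1 : ℝ) else 0) := by
    intro e
    have hn := hno e
    unfold Joins at hn
    have := hd1 (ends e).1; have := hd1 (ends e).2
    have := hd2 (ends e).1; have := hd2 (ends e).2
    have := hd3 (ends e).1; have := hd3 (ends e).2
    have := hc (ends e).1; have := hc (ends e).2
    unfold Crosses
    simp only [Finset.mem_union]
    by_cases s1 : (ends e).1 ∈ S <;> by_cases s2 : (ends e).2 ∈ S <;>
      by_cases a1 : (ends e).1 ∈ A <;> by_cases a2 : (ends e).2 ∈ A <;>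
      by_cases b1 : (ends e).1 ∈ B <;> by_cases b2 : (ends e).2 ∈ B <;> simp_all
  have hN : (∑ e ∈ N, if (ends e).1 ∈ S ∪ A ∧ (ends e).2 ∈ S ∪ A then (1 : ℝ) else 0) +
      (∑ e ∈ N, if (ends e).1 ∈ S ∪ B ∧ (ends e).2 ∈ S ∪ B then (1 : ℝ) else 0) =
      (∑ e ∈ N, if (ends e).1 ∈ S ∧ (ends e).2 ∈ S then (1 : ℝ) else 0) + (N.card : ℝ) := by
    rw [← Finset.sum_add_distrib]
    simp_rw [h1]
    rw [Finset.sum_add_distrib]
    simp
  have hC : (∑ e, if Crosses ends (S ∪ A) e then (1 : ℝ) else 0) +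
      (∑ e, if Crosses ends (S ∪ B) e then (1 : ℝ) else 0) =
      (∑ e, if Crosses ends S e then (1 : ℝ) else 0) := by
    rw [← Finset.sum_add_distrib]
    simp_rw [h2]
  have htot : (∑ v ∈ S, ((m v : ℝ) - φ v)) + (∑ v ∈ A, ((m v : ℝ) - φ v)) +
      (∑ v ∈ B, ((m v : ℝ) - φ v)) = - (N.card : ℝ) := by
    have hSA' : Disjoint (S ∪ A) B := by
      rw [Finset.disjoint_union_left]; exact ⟨hSB, hAB⟩
    rw [← Finset.sum_union hSA, ← Finset.sum_union hSA', hcov, Finset.sum_sub_distrib, hdeg]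
    unfold totDeg
    push_cast
    ring
  linarith

end Groth.Agent.Lib.Helper24Elem
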