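import Mathlib
import Groth.Prelude.Def_W4c5modbuncurvesppStab
import Groth.Agent.Lib.Helper24Elem1

set_option autoImplicit false
universe u

namespace Groth.Agent.Lib.Helper24Elem

open LabGraph PhiStab Groth.Agent.Lib.Helper24BI

variable {V E : Type u} [Fintype V] [Fintype E] [DecidableEq V] [DecidableEq E]

/-- `S` cannot be split into two nonempty parts with no edge between them. -/
def Unsplit (ends : E → V × V) (S : Finset V) : Prop :=
  ∀ A B : Finset V, A ∪ B = S → Disjoint A B → A.Nonempty → B.Nonempty → ∃ e, Joins ends A B e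

omit [Fintype E] [DecidableEq E] in
/-- a connected graph has an edge across every nonempty proper vertex set. -/
theorem exists_cross (ends : E → V × V) (hconn : Connected ends) (Q : Finset V)
    (hne : Q.Nonempty) (hnu : Q ≠ Finset.univ) : ∃ e, Crosses ends Q e := by
  obtain ⟨q, hq⟩ := hne
  have hex : ∃ r, r ∉ Q := by
    by_contra h
    push Not at h
    exact hnu (Finset.eq_univ_iff_forall.mpr h)
  obtain ⟨r, hr⟩ := hex
  have key : ∀ x, Relation.ReflTransGen (Adj ends) q x → x ∈ Q ∨ ∃ e, Crosses ends Q e := by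
    intro x hx
    induction hx with
    | refl => exact Or.inl hq
    | tail _ hbc ih =>
      rcases ih with hb | hex
      · rename_i b c _
        by_cases hc : c ∈ Q
        · exact Or.inl hc
        · right
          obtain ⟨e, he | he⟩ := hbc
          · refine ⟨e, Or.inl ?_⟩
            rw [he]; exact ⟨hb, hc⟩
          · refine ⟨e, Or.inr ?_⟩
            rw [he]; exact ⟨hc, hb⟩
      · exact Or.inr hex
  rcases key r (hconn.2 q r) with h | h
  · exact absurd h hr
  · exact h

omit [Fintype V] [DecidableEq E] in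
theorem adj_ind_symm (ends : E → V × V) (S : Finset V) (a b : {v : V // v ∈ S})
    (h : Adj (indEnds ends S) a b) : Adj (indEnds ends S) b a := by
  obtain ⟨e, he | he⟩ := h
  · exact ⟨e, Or.inr he⟩
  · exact ⟨e, Or.inl he⟩

omit [Fintype V] [DecidableEq E] in
theorem reach_ind_symm (ends : E → V × V) (S : Finset V) (a b : {v : V // v ∈ S})
    (h : Relation.ReflTransGen (Adj (indEnds ends S)) a b) :
    Relation.ReflTransGen (Adj (indEnds ends S)) b a := by
  induction h with
  | refl => exact Relation.ReflTransGen.refl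
  | tail _ hbc ih => exact Relation.ReflTransGen.head (adj_ind_symm ends S _ _ hbc) ih

omit [Fintype V] in
theorem adj_ind_of_edge (ends : E → V × V) (S : Finset V) (e : E)
    (h1 : (ends e).1 ∈ S) (h2 : (ends e).2 ∈ S) :
    Adj (indEnds ends S) ⟨(ends e).1, h1⟩ ⟨(ends e).2, h2⟩ := by
  have hmem : e ∈ PhiStab.inner ends S := by
    unfold PhiStab.inner
    rw [Finset.mem_filter]
    exact ⟨Finset.mem_univ _, h1, h2⟩
  exact ⟨⟨e, hmem⟩, Or.inl rfl⟩

omit [Fintype V] in
/-- nonempty unsplittable sets induce connected subgraphs. -/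
theorem connected_of_unsplit (ends : E → V × V) (S : Finset V) (hne : S.Nonempty)
    (hun : Unsplit ends S) : Connected (indEnds ends S) := by
  classical
  obtain ⟨v₀, hv₀⟩ := hne
  refine ⟨⟨⟨v₀, hv₀⟩⟩, ?_⟩
  set A : Finset V := S.filter (fun u => ∃ h : u ∈ S,
    Relation.ReflTransGen (Adj (indEnds ends S)) ⟨v₀, hv₀⟩ ⟨u, h⟩) with hA
  have hAS : A ⊆ S := Finset.filter_subset _ _
  have hv₀A : v₀ ∈ A := by
    rw [hA, Finset.mem_filter]
    exact ⟨hv₀, hv₀, Relation.ReflTransGen.refl⟩
  have hB : S \ A = ∅ := by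
    by_contra hBne
    obtain ⟨e, he⟩ := hun A (S \ A) (Finset.union_sdiff_of_subset hAS) Finset.disjoint_sdiff
      ⟨v₀, hv₀A⟩ (Finset.nonempty_of_ne_empty hBne)
    rcases he with ⟨h1, h2⟩ | ⟨h1, h2⟩
    · have h2' := Finset.mem_sdiff.mp h2
      apply h2'.2
      rw [hA, Finset.mem_filter] at h1 ⊢
      obtain ⟨h1S, h1S', hr⟩ := h1
      exact ⟨h2'.1, h2'.1, Relation.ReflTransGen.tail hr (adj_ind_of_edge ends S e h1S' h2'.1)⟩
    · have h1' := Finset.mem_sdiff.mp h1
      apply h1'.2
      rw [hA, Finset.mem_filter] at h2 ⊢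
      obtain ⟨h2S, h2S', hr⟩ := h2
      exact ⟨h1'.1, h1'.1, Relation.ReflTransGen.tail hr
        (adj_ind_symm ends S _ _ (adj_ind_of_edge ends S e h1'.1 h2S'))⟩
  have hall : ∀ u : {v : V // v ∈ S},
      Relation.ReflTransGen (Adj (indEnds ends S)) ⟨v₀, hv₀⟩ u := by
    rintro ⟨u, hu⟩
    have huA : u ∈ A := by
      by_contra h
      have : u ∈ S \ A := Finset.mem_sdiff.mpr ⟨hu, h⟩
      rw [hB] at this
      exact absurd this (Finset.notMem_empty u)
    rw [hA, Finset.mem_filter] at huA
    obtain ⟨-, _, hr⟩ := huA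
    exact hr
  intro v w
  exact (reach_ind_symm ends S _ _ (hall v)).trans (hall w)

omit [Fintype E] [DecidableEq E] in
/-- enlarging an unsplittable set by a union of pieces of its complement keeps it unsplittable. -/
theorem unsplit_union (ends : E → V × V) (hconn : Connected ends) (S A B : Finset V)
    (hSA : Disjoint S A) (hcov : S ∪ A ∪ B = Finset.univ)
    (hno : ∀ e, ¬ Joins ends A B e) (hSne : S.Nonempty) (hun : Unsplit ends S) :
    Unsplit ends (S ∪ A) := by
  intro P Q hPQ hdis hP hQ
  by_contra hnone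
  push Not at hnone
  -- helper: a part disjoint from S leads to a contradiction
  have helper : ∀ P Q : Finset V, P ∪ Q = S ∪ A → Disjoint P Q → P.Nonempty → Q.Nonempty →
      (∀ e, ¬ Joins ends P Q e) → S ∩ Q = ∅ → False := by
    intro P Q hPQ hdis hP hQ hnone hSQ
    have hQA : ∀ v ∈ Q, v ∈ A := by
      intro v hv
      have : v ∈ S ∪ A := hPQ ▸ Finset.mem_union_right P hv
      rcases Finset.mem_union.mp this with h | h
      · have : v ∈ S ∩ Q := Finset.mem_inter.mpr ⟨h, hv⟩
        rw [hSQ] at this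
        exact absurd this (Finset.notMem_empty v)
      · exact h
    have hQnu : Q ≠ Finset.univ := by
      intro h
      obtain ⟨p, hp⟩ := hP
      exact (Finset.disjoint_left.mp hdis hp) (h ▸ Finset.mem_univ p)
    obtain ⟨e, he⟩ := exists_cross ends hconn Q hQ hQnu
    have hcase : ∀ q x : V, q ∈ Q → x ∉ Q → (x ∈ P ∨ x ∈ B) := by
      intro q x _ hx
      have := Finset.mem_univ x
      rw [← hcov, Finset.mem_union, ← hPQ, Finset.mem_union] at this
      rcases this with (h | h) | h
      · exact Or.inl h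
      · exact absurd h hx
      · exact Or.inr h
    rcases he with ⟨h1, h2⟩ | ⟨h1, h2⟩
    · rcases hcase _ _ h1 h2 with h | h
      · exact hnone e (Or.inr ⟨h1, h⟩)
      · exact hno e (Or.inl ⟨hQA _ h1, h⟩)
    · rcases hcase _ _ h2 h1 with h | h
      · exact hnone e (Or.inl ⟨h, h2⟩)
      · exact hno e (Or.inr ⟨h, hQA _ h2⟩)
  by_cases hSQ : S ∩ Q = ∅
  · exact helper P Q hPQ hdis hP hQ hnone hSQ
  · by_cases hSP : S ∩ P = ∅
    · refine helper Q P (by rw [Finset.union_comm]; exact hPQ) hdis.symm hQ hP ?_ hSP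
      intro e he
      exact hnone e (by
        rcases he with h | h
        · exact Or.inr h
        · exact Or.inl h)
    · -- both nonempty: split S
      have hcovS : (S ∩ P) ∪ (S ∩ Q) = S := by
        rw [← Finset.inter_union_distrib_left, hPQ]
        exact Finset.inter_eq_left.mpr Finset.subset_union_left
      have hdisS : Disjoint (S ∩ P) (S ∩ Q) := by
        rw [Finset.disjoint_left]
        intro v h1 h2
        exact (Finset.disjoint_left.mp hdis (Finset.mem_inter.mp h1).2) (Finset.mem_inter.mp h2).2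
      obtain ⟨e, he⟩ := hun (S ∩ P) (S ∩ Q) hcovS hdisS (Finset.nonempty_of_ne_empty hSP)
        (Finset.nonempty_of_ne_empty hSQ)
      apply hnone e
      rcases he with ⟨h1, h2⟩ | ⟨h1, h2⟩
      · exact Or.inl ⟨(Finset.mem_inter.mp h1).2, (Finset.mem_inter.mp h2).2⟩
      · exact Or.inr ⟨(Finset.mem_inter.mp h1).2, (Finset.mem_inter.mp h2).2⟩

end Groth.Agent.Lib.Helper24Elem
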