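import Mathlib
import Groth.Prelude.Def_W4c5modbuncurvesppStab
import Groth.Agent.Lib.Helper24Elem2

set_option autoImplicit false
universe u

namespace Groth.Agent.Lib.Helper24Elem

open LabGraph PhiStab Groth.Agent.Lib.Helper24BI

variable {V E : Type u} [Fintype V] [Fintype E] [DecidableEq V] [DecidableEq E]

theorem step1 (ends : E → V × V) (φ : V → ℝ) (m : V → ℤ) (N : Finset E)
    (Pos : ℝ → Prop) (hadd : ∀ a b, Pos a → Pos b → Pos (a + b)) :
    ∀ n : ℕ, ∀ S : Finset V, S.card = n → S.Nonempty → S ≠ Finset.univ →
      ¬ Pos (fdef ends φ m N S) →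
      ∃ S' : Finset V, S'.Nonempty ∧ S' ≠ Finset.univ ∧ Unsplit ends S' ∧
        ¬ Pos (fdef ends φ m N S') := by
  intro n
  induction n using Nat.strong_induction_on with
  | _ n ih =>
    intro S hcard hne hnu hbad
    by_cases hun : Unsplit ends S
    · exact ⟨S, hne, hnu, hun, hbad⟩
    · unfold Unsplit at hun
      push Not at hun
      obtain ⟨A, B, hAB, hdis, hA, hB, hno⟩ := hun
      have hf := fdef_split ends φ m N A B hdis hno
      rw [hAB] at hf
      have hAS : A ⊆ S := hAB ▸ Finset.subset_union_left
      have hBS : B ⊆ S := hAB ▸ Finset.subset_union_right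
      have hAlt : A.card < n := by
        rw [← hcard]
        apply Finset.card_lt_card
        rw [Finset.ssubset_iff_of_subset hAS]
        obtain ⟨b, hb⟩ := hB
        exact ⟨b, hBS hb, fun h => (Finset.disjoint_left.mp hdis h) hb⟩
      have hBlt : B.card < n := by
        rw [← hcard]
        apply Finset.card_lt_card
        rw [Finset.ssubset_iff_of_subset hBS]
        obtain ⟨a, ha⟩ := hA
        exact ⟨a, hAS ha, fun h => (Finset.disjoint_left.mp hdis ha) h⟩
      have hAnu : A ≠ Finset.univ := by
        intro h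
        apply hnu
        rw [Finset.eq_univ_iff_forall]
        intro v
        exact hAS (h ▸ Finset.mem_univ v)
      have hBnu : B ≠ Finset.univ := by
        intro h
        apply hnu
        rw [Finset.eq_univ_iff_forall]
        intro v
        exact hBS (h ▸ Finset.mem_univ v)
      by_cases hbA : Pos (fdef ends φ m N A)
      · have hbB : ¬ Pos (fdef ends φ m N B) := by
          intro h
          apply hbad
          rw [hf]
          exact hadd _ _ hbA h
        exact ih B.card hBlt B rfl hB hBnu hbB
      · exact ih A.card hAlt A rfl hA hAnu hbA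

theorem step2 (ends : E → V × V) (hconn : Connected ends) (φ : V → ℝ) (m : V → ℤ) (N : Finset E)
    (hdeg : (∑ v : V, φ v) = (totDeg m N : ℝ))
    (Pos : ℝ → Prop) (hadd : ∀ a b, Pos a → Pos b → Pos (a + b)) :
    ∀ n : ℕ, ∀ S : Finset V, Sᶜ.card = n → S.Nonempty → S ≠ Finset.univ → Unsplit ends S →
      ¬ Pos (fdef ends φ m N S) →
      ∃ S' : Finset V, IsElementary ends S' ∧ ¬ Pos (fdef ends φ m N S') := by
  intro n
  induction n using Nat.strong_induction_on with
  | _ n ih =>
    intro S hcard hne hnu hunS hbad
    have hcne : Sᶜ.Nonempty := by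
      rw [Finset.nonempty_iff_ne_empty]
      intro h
      exact hnu ((Finset.compl_eq_empty_iff S).mp h)
    by_cases hun : Unsplit ends Sᶜ
    · exact ⟨S, ⟨connected_of_unsplit ends S hne hunS, connected_of_unsplit ends Sᶜ hcne hun⟩, hbad⟩
    · unfold Unsplit at hun
      push Not at hun
      obtain ⟨A, B, hAB, hdis, hA, hB, hno⟩ := hun
      have hASc : A ⊆ Sᶜ := hAB ▸ Finset.subset_union_left
      have hBSc : B ⊆ Sᶜ := hAB ▸ Finset.subset_union_right
      have hSA : Disjoint S A := by
        rw [Finset.disjoint_left]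
        intro v hv hvA
        exact (Finset.mem_compl.mp (hASc hvA)) hv
      have hSB : Disjoint S B := by
        rw [Finset.disjoint_left]
        intro v hv hvB
        exact (Finset.mem_compl.mp (hBSc hvB)) hv
      have hcov : S ∪ A ∪ B = Finset.univ := by
        rw [Finset.union_assoc, hAB, Finset.union_compl]
      have hcov' : S ∪ B ∪ A = Finset.univ := by
        rw [Finset.union_assoc, Finset.union_comm B A, hAB, Finset.union_compl]
      have hno' : ∀ e, ¬ Joins ends B A e := by
        intro e he
        apply hno e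
        rcases he with h | h
        · exact Or.inr h
        · exact Or.inl h
      have hf := fdef_split_compl ends φ m N hdeg S A B hSA hSB hdis hcov hno
      -- facts for S ∪ A
      have hgenlt : ∀ X Y : Finset V, X ⊆ Sᶜ → Y ⊆ Sᶜ → X.Nonempty → (S ∪ X)ᶜ.card < n := by
        intro X Y hX _ hXne
        rw [← hcard]
        apply Finset.card_lt_card
        have hsub : (S ∪ X)ᶜ ⊆ Sᶜ := Finset.compl_subset_compl.mpr Finset.subset_union_left
        rw [Finset.ssubset_iff_of_subset hsub]
        obtain ⟨x, hx⟩ := hXne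
        refine ⟨x, hX hx, ?_⟩
        rw [Finset.mem_compl]
        exact fun h => h (Finset.mem_union_right S hx)
      have hgennu : ∀ X Y : Finset V, Disjoint X Y → Disjoint S Y → Y.Nonempty →
          S ∪ X ≠ Finset.univ := by
        intro X Y hXY hSY hYne h
        obtain ⟨y, hy⟩ := hYne
        have := Finset.mem_univ y
        rw [← h, Finset.mem_union] at this
        rcases this with h' | h'
        · exact (Finset.disjoint_left.mp hSY h') hy
        · exact (Finset.disjoint_left.mp hXY h') hy
      by_cases hbA : Pos (fdef ends φ m N (S ∪ A))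
      · have hbB : ¬ Pos (fdef ends φ m N (S ∪ B)) := by
          intro h
          apply hbad
          rw [hf]
          exact hadd _ _ hbA h
        exact ih _ (hgenlt B A hBSc hASc hB) (S ∪ B) rfl (hne.mono Finset.subset_union_left)
          (hgennu B A hdis.symm hSA hA)
          (unsplit_union ends hconn S B A hSB hcov' hno' hne hunS) hbB
      · exact ih _ (hgenlt A B hASc hBSc hA) (S ∪ A) rfl (hne.mono Finset.subset_union_left)
          (hgennu A B hdis hSB hB)
          (unsplit_union ends hconn S A B hSA hcov hno hne hunS) hbA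

theorem main_iff (ends : E → V × V) (hconn : Connected ends) (φ : V → ℝ) (m : V → ℤ)
    (N : Finset E) (hdeg : (∑ v : V, φ v) = (totDeg m N : ℝ))
    (Pos : ℝ → Prop) (hadd : ∀ a b, Pos a → Pos b → Pos (a + b)) :
    (∀ S : Finset V, S.Nonempty → S ≠ Finset.univ → Pos (fdef ends φ m N S)) ↔
      (∀ S : Finset V, IsElementary ends S → Pos (fdef ends φ m N S)) := by
  constructor
  · intro h S hS
    obtain ⟨⟨⟨v, hv⟩⟩, -⟩ := hS.1
    obtain ⟨⟨⟨u, hu⟩⟩, -⟩ := hS.2
    refine h S ⟨v, hv⟩ ?_
    intro h'
    exact (Finset.mem_compl.mp hu) (h' ▸ Finset.mem_univ u)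
  · intro h S hne hnu
    by_contra hbad
    obtain ⟨S₁, h1, h2, h3, h4⟩ := step1 ends φ m N Pos hadd _ S rfl hne hnu hbad
    obtain ⟨S₂, h5, h6⟩ := step2 ends hconn φ m N hdeg Pos hadd _ S₁ rfl h1 h2 h3 h4
    exact h6 (h S₂ h5)

theorem s18374 (ends : E → V × V) (hconn : Connected ends)
    (φ : V → ℝ) (m : V → ℤ) (N : Finset E) (hdeg : (∑ v : V, φ v) = (totDeg m N : ℝ)) :
    (IsSemistable ends φ m N ↔
      ∀ S : Finset V, IsElementary ends S →
        (∑ v ∈ S, φ v) - (cut ends S : ℝ) / 2 ≤ (degOn ends m N S : ℝ)) ∧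
    (IsStable ends φ m N ↔
      ∀ S : Finset V, IsElementary ends S →
        (∑ v ∈ S, φ v) - (cut ends S : ℝ) / 2 < (degOn ends m N S : ℝ)) := by
  constructor
  · have := main_iff ends hconn φ m N hdeg (fun x => 0 ≤ x) (fun a b ha hb => add_nonneg ha hb)
    unfold fdef at this
    simp only [sub_nonneg] at this
    exact this
  · have := main_iff ends hconn φ m N hdeg (fun x => 0 < x) (fun a b ha hb => add_pos ha hb)
    unfold fdef at this
    simp only [sub_pos] at this
    exact this

end Groth.Agent.Lib.Helper24Elem
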