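import Mathlib

/-!
# Helper24Elim: viewing a multivariate polynomial as a polynomial in one variable, and a
"top coefficient" elimination lemma for substitution homomorphisms `X k ↦ v / u`.
-/

namespace Groth.Agent.Lib.Helper24Elim

open MvPolynomial

section tau

variable {σ : Type*} [DecidableEq σ] {A : Type*} [CommRing A]

/-- View a multivariate polynomial as a univariate polynomial in the variable `k` (with
coefficients again in the full multivariate polynomial ring, but not involving `k`). -/
noncomputable def τ (k : σ) : MvPolynomial σ A →ₐ[A] Polynomial (MvPolynomial σ A) :=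
  aeval (fun j => if j = k then Polynomial.X else Polynomial.C (X j))

lemma τ_X_self (k : σ) : τ (A := A) k (X k) = Polynomial.X := by
  simp [τ]

lemma τ_X_ne {k j : σ} (h : j ≠ k) : τ (A := A) k (X j) = Polynomial.C (X j) := by
  simp [τ, h]

lemma eval_τ (k : σ) (r : MvPolynomial σ A) : Polynomial.eval (X k) (τ k r) = r := by
  have h : ((Polynomial.aeval (X k : MvPolynomial σ A)).restrictScalars A).comp (τ k)
      = AlgHom.id A (MvPolynomial σ A) := by
    apply MvPolynomial.algHom_ext
    intro j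
    by_cases hj : j = k
    · subst hj
      simp [τ_X_self]
    · simp [τ_X_ne hj]
  have := congrArg (fun φ => φ r) h
  simpa [Polynomial.coe_aeval_eq_eval] using this

lemma τ_injective (k : σ) : Function.Injective (τ (A := A) k) := by
  intro r s h
  rw [← eval_τ k r, ← eval_τ k s, h]

lemma τ_monomial (k : σ) (m : σ →₀ ℕ) (a : A) :
    τ k (monomial m a) = Polynomial.monomial (m k) (monomial (m.erase k) a) := by
  unfold τ
  rw [aeval_monomial]
  rw [← Finsupp.mul_prod_erase' m k _ (fun i => pow_zero _)]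
  simp only [if_true]
  have h1 : (m.erase k).prod (fun j e => (if j = k then (Polynomial.X : Polynomial (MvPolynomial σ A))
      else Polynomial.C (X j)) ^ e)
      = Polynomial.C ((m.erase k).prod (fun j e => (X j : MvPolynomial σ A) ^ e)) := by
    rw [map_finsuppProd]
    refine Finsupp.prod_congr ?_
    intro j hj
    have : j ≠ k := by
      intro h
      rw [h] at hj
      simp at hj
    simp [this]
  rw [h1, monomial_eq (s := m.erase k), ← Polynomial.C_mul_X_pow_eq_monomial]
  rw [Polynomial.algebraMap_apply, MvPolynomial.algebraMap_eq]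
  rw [Polynomial.C_mul]
  ring

lemma coeff_τ (k : σ) (r : MvPolynomial σ A) (α : ℕ) :
    (τ k r).coeff α = ∑ m ∈ r.support, if m k = α then monomial (m.erase k) (coeff m r) else 0 := by
  conv_lhs => rw [r.as_sum]
  rw [map_sum, Polynomial.finsetSum_coeff]
  refine Finset.sum_congr rfl (fun m _ => ?_)
  rw [τ_monomial, Polynomial.coeff_monomial]

/-- Description of the monomials of the coefficients of `τ k r`. -/
lemma support_coeff_τ {k : σ} {r : MvPolynomial σ A} {α : ℕ} {c : σ →₀ ℕ}
    (hc : c ∈ ((τ k r).coeff α).support) : c k = 0 ∧ c + Finsupp.single k α ∈ r.support := by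
  classical
  rw [coeff_τ] at hc
  have h1 := MvPolynomial.support_sum hc
  rw [Finset.mem_biUnion] at h1
  obtain ⟨m, hm, hcm⟩ := h1
  by_cases hmk : m k = α
  · rw [if_pos hmk] at hcm
    have h2 := MvPolynomial.support_monomial_subset hcm
    rw [Finset.mem_singleton] at h2
    subst h2
    refine ⟨by simp, ?_⟩
    rw [← hmk, Finsupp.erase_add_single]
    exact hm
  · rw [if_neg hmk] at hcm
    simp at hcm

/-- If `τ k r` is constant then `r` does not involve the variable `k`. -/
lemma free_of_natDegree_eq_zero {k : σ} {r : MvPolynomial σ A} (h : (τ k r).natDegree = 0) :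
    ∀ c ∈ r.support, c k = 0 := by
  have h1 : τ k r = Polynomial.C ((τ k r).coeff 0) := Polynomial.eq_C_of_natDegree_eq_zero h
  have h2 : r = (τ k r).coeff 0 := by
    conv_lhs => rw [← eval_τ k r, h1, Polynomial.eval_C]
  intro c hc
  rw [h2] at hc
  exact (support_coeff_τ hc).1

end tau

section elim

variable {σ : Type*} [DecidableEq σ] {A : Type*} [CommRing A]
variable {K : Type*} [Field K] [Algebra A K]

omit [DecidableEq σ] in
/-- Common denominators: every element of `supported A s` can be written, compatibly under `θ`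
and under `Φ`, as a quotient `x / d` of two elements on which `θ` agrees with `ι`. -/
lemma exists_common_denominator (ι θ : MvPolynomial σ A →ₐ[A] K)
    (Φ : MvPolynomial σ A →ₐ[A] K)
    (num den : σ → MvPolynomial σ A) (s : Set σ)
    (hθX : ∀ k ∈ s, θ (den k) * θ (X k) = θ (num k))
    (hθn : ∀ k ∈ s, θ (num k) = ι (num k))
    (hθd : ∀ k ∈ s, θ (den k) = ι (den k))
    (hΦ : ∀ k ∈ s, Φ (den k) * Φ (X k) = Φ (num k)) (hΦd : ∀ k ∈ s, Φ (den k) ≠ 0)
    {y : MvPolynomial σ A} (hy : y ∈ supported A s) :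
    ∃ d x, Φ d ≠ 0 ∧ θ d = ι d ∧ θ x = ι x ∧ θ d * θ y = θ x ∧ Φ d * Φ y = Φ x := by
  unfold supported at hy
  induction hy using Algebra.adjoin_induction with
  | mem x hx =>
    obtain ⟨k, hk, rfl⟩ := hx
    exact ⟨den k, num k, hΦd k hk, hθd k hk, hθn k hk, hθX k hk, hΦ k hk⟩
  | algebraMap a =>
    refine ⟨1, algebraMap A _ a, ?_, ?_, ?_, ?_, ?_⟩
    · simp
    · simp
    · simp
    · simp
    · simp
  | add x y _ _ hx hy =>
    obtain ⟨d1, x1, h1, h2, h3, h4, h5⟩ := hx
    obtain ⟨d2, x2, g1, g2, g3, g4, g5⟩ := hy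
    refine ⟨d1 * d2, x1 * d2 + x2 * d1, ?_, ?_, ?_, ?_, ?_⟩
    · rw [map_mul]; exact mul_ne_zero h1 g1
    · rw [map_mul, map_mul, h2, g2]
    · simp only [map_add, map_mul, h2, g2, h3, g3]
    · simp only [map_add, map_mul]
      rw [← h4, ← g4]; ring
    · simp only [map_add, map_mul]
      rw [← h5, ← g5]; ring
  | mul x y _ _ hx hy =>
    obtain ⟨d1, x1, h1, h2, h3, h4, h5⟩ := hx
    obtain ⟨d2, x2, g1, g2, g3, g4, g5⟩ := hy
    refine ⟨d1 * d2, x1 * x2, ?_, ?_, ?_, ?_, ?_⟩
    · rw [map_mul]; exact mul_ne_zero h1 g1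
    · rw [map_mul, map_mul, h2, g2]
    · simp only [map_mul, h3, g3]
    · simp only [map_mul]
      rw [← h4, ← g4]; ring
    · simp only [map_mul]
      rw [← h5, ← g5]; ring

omit [DecidableEq σ] in
/-- Transfer of vanishing from `θ` to `Φ`. -/
lemma eq_zero_of_eq_zero (ι θ : MvPolynomial σ A →ₐ[A] K) (hι : Function.Injective ι)
    (Φ : MvPolynomial σ A →ₐ[A] K)
    (num den : σ → MvPolynomial σ A) (s : Set σ)
    (hθX : ∀ k ∈ s, θ (den k) * θ (X k) = θ (num k))
    (hθn : ∀ k ∈ s, θ (num k) = ι (num k))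
    (hθd : ∀ k ∈ s, θ (den k) = ι (den k))
    (hΦ : ∀ k ∈ s, Φ (den k) * Φ (X k) = Φ (num k)) (hΦd : ∀ k ∈ s, Φ (den k) ≠ 0)
    {y : MvPolynomial σ A} (hy : y ∈ supported A s) (h0 : θ y = 0) : Φ y = 0 := by
  obtain ⟨d, x, h1, h2, h3, h4, h5⟩ :=
    exists_common_denominator ι θ Φ num den s hθX hθn hθd hΦ hΦd hy
  rw [h0, mul_zero, h3] at h4
  have hx : x = 0 := hι (by rw [← h4, map_zero])
  rw [hx, map_zero] at h5
  exact (mul_eq_zero.mp h5).resolve_left h1

/-- The top-coefficient elimination lemma. -/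
lemma top_coeff_elim (θ Φ : MvPolynomial σ A →ₐ[A] K)
    (ρ : MvPolynomial σ A →ₐ[A] MvPolynomial σ A) (k : σ) (u v : MvPolynomial σ A)
    (ha : θ u * θ (X k) = θ v) (hρu : ρ u = 0) (s : Set σ)
    (hus : u ∈ supported A s) (hvs : v ∈ supported A s)
    (hF : ∀ y ∈ supported A s, θ y = 0 → Φ (ρ y) = 0)
    (r : MvPolynomial σ A) (hr : θ r = 0) (hcoef : ∀ α, (τ k r).coeff α ∈ supported A s) :
    Φ (ρ ((τ k r).leadingCoeff)) * Φ (ρ v) ^ (τ k r).natDegree = 0 := by
  set p := τ k r with hp
  set y := Polynomial.eval v (Polynomial.scaleRoots p u) with hy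
  have hys : y ∈ supported A s := by
    rw [hy, Polynomial.eval_eq_sum_range]
    refine Subalgebra.sum_mem _ (fun i _ => ?_)
    rw [Polynomial.coeff_scaleRoots]
    exact Subalgebra.mul_mem _ (Subalgebra.mul_mem _ (hcoef i) (Subalgebra.pow_mem _ hus _))
      (Subalgebra.pow_mem _ hvs _)
  have hθy : θ y = 0 := by
    have h1 : θ y = Polynomial.eval₂ (θ : MvPolynomial σ A →+* K) (θ v)
        (Polynomial.scaleRoots p u) := by
      rw [hy, Polynomial.eval]
      have := Polynomial.hom_eval₂ (Polynomial.scaleRoots p u) (RingHom.id _)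
        (θ : MvPolynomial σ A →+* K) v
      rw [RingHom.comp_id] at this
      exact this
    rw [h1, ← ha]
    have h2 := Polynomial.scaleRoots_eval₂_mul (p := p) (θ : MvPolynomial σ A →+* K) (θ (X k)) u
    have h2' : Polynomial.eval₂ (θ : MvPolynomial σ A →+* K) (θ u * θ (X k))
        (Polynomial.scaleRoots p u) = θ u ^ p.natDegree *
        Polynomial.eval₂ (θ : MvPolynomial σ A →+* K) (θ (X k)) p := h2
    rw [h2']
    have h3 : Polynomial.eval₂ (θ : MvPolynomial σ A →+* K) (θ (X k)) p = θ r := by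
      have := Polynomial.hom_eval₂ p (RingHom.id _) (θ : MvPolynomial σ A →+* K) (X k)
      rw [RingHom.comp_id] at this
      rw [← eval_τ k r, Polynomial.eval]
      exact this.symm
    rw [h3, hr, mul_zero]
  have h4 := hF y hys hθy
  have h5 : Φ (ρ y) = Polynomial.eval₂ ((Φ : MvPolynomial σ A →+* K).comp
      (ρ : MvPolynomial σ A →+* MvPolynomial σ A)) (Φ (ρ v)) (Polynomial.scaleRoots p u) := by
    rw [hy, Polynomial.eval]
    have := Polynomial.hom_eval₂ (Polynomial.scaleRoots p u) (RingHom.id _)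
      ((Φ : MvPolynomial σ A →+* K).comp (ρ : MvPolynomial σ A →+* MvPolynomial σ A)) v
    rw [RingHom.comp_id] at this
    exact this
  rw [h5, Polynomial.eval₂_eq_sum_range, Polynomial.natDegree_scaleRoots] at h4
  rw [Finset.sum_eq_single p.natDegree] at h4
  · rw [Polynomial.coeff_scaleRoots_natDegree] at h4
    exact h4
  · intro i hi hne
    rw [Polynomial.coeff_scaleRoots]
    have hlt : i < p.natDegree := by
      have := Finset.mem_range.mp hi
      omega
    have hpos : p.natDegree - i ≠ 0 := by omega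
    simp only [RingHom.comp_apply, map_mul, map_pow, AlgHom.coe_toRingHom]
    rw [hρu, map_zero, zero_pow hpos, mul_zero, zero_mul]
  · intro h
    exact absurd (Finset.mem_range.mpr (Nat.lt_succ_self _)) h

/-- One elimination step: either `r = 0` or `r` does not involve the variable `k`. -/
lemma elim_step (θ Φ : MvPolynomial σ A →ₐ[A] K)
    (ρ : MvPolynomial σ A →ₐ[A] MvPolynomial σ A) (k : σ) (u v : MvPolynomial σ A)
    (ha : θ u * θ (X k) = θ v) (hρu : ρ u = 0) (s : Set σ)
    (hus : u ∈ supported A s) (hvs : v ∈ supported A s)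
    (hF : ∀ y ∈ supported A s, θ y = 0 → Φ (ρ y) = 0)
    (hv : Φ (ρ v) ≠ 0)
    (r : MvPolynomial σ A) (hr : θ r = 0) (hcoef : ∀ α, (τ k r).coeff α ∈ supported A s)
    (hnext : (τ k r).natDegree ≠ 0 → Φ (ρ (τ k r).leadingCoeff) = 0 →
      (τ k r).leadingCoeff = 0) :
    r = 0 ∨ ∀ c ∈ r.support, c k = 0 := by
  by_cases hn : (τ k r).natDegree = 0
  · exact Or.inr (free_of_natDegree_eq_zero hn)
  · left
    have key := top_coeff_elim θ Φ ρ k u v ha hρu s hus hvs hF r hr hcoef
    rcases mul_eq_zero.mp key with h | h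
    · have h1 := hnext hn h
      have h2 : τ k r = 0 := Polynomial.leadingCoeff_eq_zero.mp h1
      exact τ_injective k (by rw [h2, map_zero])
    · exact absurd (pow_eq_zero_iff hn |>.mp h) hv

end elim

section avoids

variable {σ : Type*} [DecidableEq σ] {A : Type*} [CommRing A]

/-- No monomial of `r` is divisible by `m`. -/
def Avoids (r : MvPolynomial σ A) (m : σ →₀ ℕ) : Prop := ∀ c ∈ r.support, ¬ m ≤ c

omit [DecidableEq σ] in
lemma avoids_zero (m : σ →₀ ℕ) : Avoids (0 : MvPolynomial σ A) m := by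
  intro c hc; simp at hc

lemma avoids_coeff_τ {k : σ} {r : MvPolynomial σ A} {m : σ →₀ ℕ} {α : ℕ} (h : Avoids r m)
    (hα : m k ≤ α) : Avoids ((τ k r).coeff α) (m.erase k) := by
  intro c hc hle
  obtain ⟨hck, hmem⟩ := support_coeff_τ hc
  apply h _ hmem
  intro j
  by_cases hj : j = k
  · subst hj
    simp only [Finsupp.add_apply, Finsupp.single_eq_same, hck, zero_add]
    exact hα
  · have := hle j
    rw [Finsupp.erase_ne hj] at this
    simp only [Finsupp.add_apply, Finsupp.single_eq_of_ne hj, add_zero]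
    exact this

lemma avoids_coeff_τ_of_ne {k j : σ} (hjk : j ≠ k) {r : MvPolynomial σ A} {α : ℕ}
    (h : Avoids r (Finsupp.single j 1)) : Avoids ((τ k r).coeff α) (Finsupp.single j 1) := by
  have := avoids_coeff_τ (k := k) (α := α) h (by simp [Finsupp.single_eq_of_ne hjk.symm])
  rwa [Finsupp.erase_of_notMem_support (by simp [hjk.symm])] at this

lemma avoids_coeff_τ_self (k : σ) (r : MvPolynomial σ A) (α : ℕ) :
    Avoids ((τ k r).coeff α) (Finsupp.single k 1) := by
  intro c hc hle
  obtain ⟨hck, -⟩ := support_coeff_τ hc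
  have := hle k
  simp [hck] at this

omit [DecidableEq σ] in
lemma mem_supported_of_avoids {r : MvPolynomial σ A} {s : Set σ}
    (h : ∀ k, k ∉ s → Avoids r (Finsupp.single k 1)) : r ∈ supported A s := by
  classical
  rw [mem_supported]
  intro k hk
  by_contra hks
  rw [Finset.mem_coe, mem_vars_iff_mem_support] at hk
  obtain ⟨c, hc, hkc⟩ := hk
  apply h k hks c hc
  intro j
  by_cases hj : j = k
  · subst hj
    simp only [Finsupp.single_eq_same]
    exact Nat.one_le_iff_ne_zero.mpr (Finsupp.mem_support_iff.mp hkc)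
  · simp [Finsupp.single_eq_of_ne hj]

omit [DecidableEq σ] in
lemma avoids_of_free {r : MvPolynomial σ A} {k : σ} (h : ∀ c ∈ r.support, c k = 0) :
    Avoids r (Finsupp.single k 1) := by
  intro c hc hle
  have := hle k
  simp [h c hc] at this

omit [DecidableEq σ] in
/-- Two algebra homomorphisms agreeing on the variables in `s` agree on `supported A s`. -/
lemma algHom_eq_on_supported {B : Type*} [CommRing B] [Algebra A B]
    (f g : MvPolynomial σ A →ₐ[A] B) {s : Set σ} (h : ∀ k ∈ s, f (X k) = g (X k))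
    {y : MvPolynomial σ A} (hy : y ∈ supported A s) : f y = g y := by
  unfold supported at hy
  induction hy using Algebra.adjoin_induction with
  | mem x hx =>
    obtain ⟨k, hk, rfl⟩ := hx
    exact h k hk
  | algebraMap a => simp
  | add x y _ _ hx hy => rw [map_add, map_add, hx, hy]
  | mul x y _ _ hx hy => rw [map_mul, map_mul, hx, hy]

end avoids

end Groth.Agent.Lib.Helper24Elim
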