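import Mathlib

/-!
# Isomorphisms of endomorphism algebras (elementary Morita theory)

For finitely generated projective faithfully flat modules `F`, `G` over a commutative ring `A` and an
`A`-algebra isomorphism `φ : End F ≃ End G` we show that `L φ = {l : F → G | l ∘ f = φ f ∘ l}` is an
invertible module and that evaluation `F ⊗ L φ → G` is an isomorphism inducing `φ`.
-/

set_option autoImplicit false
universe u
open TensorProduct

namespace Groth.Agent.Lib.Helper24EndIso

variable {A : Type u} [CommRing A]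

section Gen

variable (A)
variable (M : Type u) [AddCommGroup M] [Module A M] [Module.Finite A M] [Module.Projective A M]

theorem exists_dualBasis : ∃ (n : ℕ) (x : Fin n → M) (lam : Fin n → (M →ₗ[A] A)),
    ∀ y, ∑ k, lam k y • x k = y := by
  obtain ⟨n, f, g, -, -, hfg⟩ := Module.Finite.exists_comp_eq_id_of_projective A M
  refine ⟨n, fun k => f (Pi.single k 1), fun k => (LinearMap.proj k).comp g, fun y => ?_⟩
  have h1 : f (g y) = y := by
    have := congrArg (fun h : M →ₗ[A] M => h y) hfg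
    simpa using this
  have h2 : g y = ∑ k, g y k • (Pi.single k 1 : Fin n → A) := by
    funext i
    simp [Finset.sum_apply, Pi.single_apply]
  conv_rhs => rw [← h1, h2]
  simp [map_sum]

theorem exists_gen [Module.FaithfullyFlat A M] :
    ∃ (ι : Type) (_ : Fintype ι) (q : ι → M) (κ : ι → (M →ₗ[A] A)), ∑ t, κ t (q t) = 1 := by
  obtain ⟨n, x, lam, hx⟩ := exists_dualBasis A M
  set I : Ideal A := Ideal.span (Set.range fun p : Fin n × Fin n => lam p.1 (x p.2)) with hI
  have hmem : ∀ k y, lam k y ∈ I := by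
    intro k y
    have : lam k y = ∑ j, lam j y * lam k (x j) := by
      conv_lhs => rw [← hx y]
      simp [map_sum]
    rw [this]
    exact Ideal.sum_mem _ fun j _ => Ideal.mul_mem_left _ _ (Ideal.subset_span ⟨(k, j), rfl⟩)
  have htop : I • (⊤ : Submodule A M) = ⊤ := by
    rw [eq_top_iff]
    intro y _
    rw [← hx y]
    exact Submodule.sum_mem _ fun k _ => Submodule.smul_mem_smul (hmem k y) trivial
  have hI1 : I = ⊤ :=
    ((Module.FaithfullyFlat.iff_flat_and_ideal_smul_eq_top A M).1 inferInstance).2 I htop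
  have h1 : (1 : A) ∈ I := by rw [hI1]; trivial
  rw [hI, Ideal.mem_span_range_iff_exists_fun] at h1
  obtain ⟨c, hc⟩ := h1
  exact ⟨Fin n × Fin n, inferInstance, fun p => x p.2, fun p => c p • lam p.1, by simpa using hc⟩

end Gen

section Center

variable {M : Type u} [AddCommGroup M] [Module A M]

/-- A "trace-like" functional attached to a generating family. -/
def tr {ι : Type} [Fintype ι] (q : ι → M) (κ : ι → (M →ₗ[A] A)) : Module.End A M →ₗ[A] A :=
  ∑ t, (κ t).comp (LinearMap.applyₗ (q t))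

theorem tr_apply {ι : Type} [Fintype ι] (q : ι → M) (κ : ι → (M →ₗ[A] A)) (T : Module.End A M) :
    tr q κ T = ∑ t, κ t (T (q t)) := by
  simp [tr, LinearMap.sum_apply]

theorem central_eq_smul {ι : Type} [Fintype ι] (q : ι → M) (κ : ι → (M →ₗ[A] A))
    (hq : ∑ t, κ t (q t) = 1) (T : Module.End A M)
    (hT : ∀ f : Module.End A M, T ∘ₗ f = f ∘ₗ T) : T = tr q κ T • LinearMap.id := by
  ext y
  rw [LinearMap.smul_apply, LinearMap.id_apply, tr_apply, Finset.sum_smul]
  calc T y = T ((∑ t, κ t (q t)) • y) := by rw [hq, one_smul]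
    _ = ∑ t, T ((κ t).smulRight y (q t)) := by
        rw [Finset.sum_smul, map_sum]
        rfl
    _ = ∑ t, κ t (T (q t)) • y := by
        apply Finset.sum_congr rfl
        intro t _
        have := congrArg (fun h : M →ₗ[A] M => h (q t)) (hT ((κ t).smulRight y))
        simpa using this

end Center

section Sums

variable {M N P : Type*} [AddCommGroup M] [Module A M] [AddCommGroup N] [Module A N]
  [AddCommGroup P] [Module A P]

theorem comp_sum' {ι : Type*} (s : Finset ι) (g : N →ₗ[A] P) (f : ι → (M →ₗ[A] N)) :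
    g ∘ₗ (∑ i ∈ s, f i) = ∑ i ∈ s, g ∘ₗ f i := by
  ext x
  simp [LinearMap.sum_apply, map_sum]

theorem sum_comp' {ι : Type*} (s : Finset ι) (g : ι → (N →ₗ[A] P)) (f : M →ₗ[A] N) :
    (∑ i ∈ s, g i) ∘ₗ f = ∑ i ∈ s, g i ∘ₗ f := by
  ext x
  simp [LinearMap.sum_apply]

end Sums

section Context

theorem context_bijective {P Q : Type*} [AddCommGroup P] [Module A P] [AddCommGroup Q] [Module A Q]
    (ν : P ⊗[A] Q →ₗ[A] A) (c : Q → P → A) {ι : Type} [Fintype ι] (a : ι → P) (a' : ι → Q)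
    (h1 : ∀ m' : Q, m' = ∑ j, c m' (a j) • a' j)
    (h2 : ∀ (m : P) (m' : Q) (j : ι), c m' (a j) • m = ν (m ⊗ₜ[A] m') • a j)
    (hτ : ν (∑ i, a i ⊗ₜ[A] a' i) = 1) : Function.Bijective ν := by
  set τ : P ⊗[A] Q := ∑ i, a i ⊗ₜ[A] a' i with hτdef
  have key : ∀ x : P ⊗[A] Q, x = ν x • τ := by
    intro x
    induction x using TensorProduct.induction_on with
    | zero => simp
    | add x y hx hy => rw [map_add, add_smul, ← hx, ← hy]
    | tmul m m' =>
      conv_lhs => rw [h1 m']
      rw [TensorProduct.tmul_sum, hτdef, Finset.smul_sum]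
      apply Finset.sum_congr rfl
      intro j _
      rw [TensorProduct.tmul_smul, TensorProduct.smul_tmul', h2 m m' j, TensorProduct.smul_tmul']
  constructor
  · intro x y hxy
    rw [key x, key y, hxy]
  · intro r
    exact ⟨r • τ, by rw [map_smul, hτ, smul_eq_mul, mul_one]⟩

end Context

section Main

variable {F G : Type u} [AddCommGroup F] [Module A F] [AddCommGroup G] [Module A G]

/-- The module of `φ`-semilinear maps `F → G`. -/
def L (φ : Module.End A F ≃ₐ[A] Module.End A G) : Submodule A (F →ₗ[A] G) where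
  carrier := {l | ∀ f : Module.End A F, l ∘ₗ f = (φ f) ∘ₗ l}
  add_mem' := by
    intro l l' hl hl' f
    rw [LinearMap.add_comp, LinearMap.comp_add, hl f, hl' f]
  zero_mem' := by
    intro f
    rw [LinearMap.zero_comp, LinearMap.comp_zero]
  smul_mem' := by
    intro c l hl f
    rw [LinearMap.smul_comp, LinearMap.comp_smul, hl f]

theorem mem_L {φ : Module.End A F ≃ₐ[A] Module.End A G} {l : F →ₗ[A] G} :
    l ∈ L φ ↔ ∀ f : Module.End A F, l ∘ₗ f = (φ f) ∘ₗ l := Iff.rfl

theorem mem_L_symm {φ : Module.End A F ≃ₐ[A] Module.End A G} {l : G →ₗ[A] F}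
    (hl : l ∈ L φ.symm) (f : Module.End A F) : l ∘ₗ (φ f) = f ∘ₗ l := by
  have := hl (φ f)
  rwa [AlgEquiv.symm_apply_apply] at this

/-- Generators of `L φ`. -/
def lgen (φ : Module.End A F ≃ₐ[A] Module.End A G) (g : G) (l : F →ₗ[A] A) : F →ₗ[A] G :=
  (LinearMap.applyₗ g).comp (φ.toLinearMap.comp (LinearMap.smulRightₗ l))

theorem lgen_apply (φ : Module.End A F ≃ₐ[A] Module.End A G) (g : G) (l : F →ₗ[A] A) (y : F) :
    lgen φ g l y = φ (l.smulRight y) g := rfl

theorem smulRight_apply_eq_mul (l : F →ₗ[A] A) (T : Module.End A F) (y : F) :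
    l.smulRight (T y) = T * l.smulRight y := by
  ext z
  simp

theorem lgen_mem (φ : Module.End A F ≃ₐ[A] Module.End A G) (g : G) (l : F →ₗ[A] A) :
    lgen φ g l ∈ L φ := by
  intro f
  ext y
  simp only [LinearMap.comp_apply, lgen_apply]
  rw [smulRight_apply_eq_mul, map_mul]
  rfl

theorem lgen_comp_lgen (φ : Module.End A F ≃ₐ[A] Module.End A G) (g : G) (l : F →ₗ[A] A)
    (x : F) (γ : G →ₗ[A] A) :
    lgen φ g l ∘ₗ lgen φ.symm x γ = γ (φ (l.smulRight x) g) • LinearMap.id := by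
  ext z
  simp only [LinearMap.comp_apply, lgen_apply, LinearMap.smul_apply, LinearMap.id_apply]
  rw [smulRight_apply_eq_mul, map_mul, AlgEquiv.apply_symm_apply]
  simp

theorem sum_lgen_comp (φ : Module.End A F ≃ₐ[A] Module.End A G)
    {n : ℕ} (x : Fin n → F) (lam : Fin n → (F →ₗ[A] A)) (hx : ∀ y, ∑ k, lam k y • x k = y)
    {ι : Type} [Fintype ι] (q : ι → G) (κ : ι → (G →ₗ[A] A)) (hq : ∑ t, κ t (q t) = 1) :
    ∑ p : Fin n × ι, lgen φ (q p.2) (lam p.1) ∘ₗ lgen φ.symm (x p.1) (κ p.2) = LinearMap.id := by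
  have hid : ∑ k, (lam k).smulRight (x k) = (1 : Module.End A F) := by
    ext y
    simp [LinearMap.sum_apply, hx y]
  simp only [lgen_comp_lgen]
  rw [← Finset.sum_smul, Fintype.sum_prod_type, Finset.sum_comm]
  have : ∀ t, ∑ k, κ t (φ ((lam k).smulRight (x k)) (q t)) = κ t (q t) := by
    intro t
    rw [← map_sum, ← LinearMap.sum_apply, ← map_sum, hid, map_one]
    rfl
  simp only [this, hq, one_smul]

theorem comp_central_left {φ : Module.End A F ≃ₐ[A] Module.End A G} {m : F →ₗ[A] G}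
    {m' : G →ₗ[A] F} (hm : m ∈ L φ) (hm' : m' ∈ L φ.symm) (f : Module.End A F) :
    (m' ∘ₗ m) ∘ₗ f = f ∘ₗ (m' ∘ₗ m) := by
  rw [LinearMap.comp_assoc, hm f, ← LinearMap.comp_assoc, mem_L_symm hm' f, LinearMap.comp_assoc]

theorem comp_central_right {φ : Module.End A F ≃ₐ[A] Module.End A G} {m : F →ₗ[A] G}
    {m' : G →ₗ[A] F} (hm : m ∈ L φ) (hm' : m' ∈ L φ.symm) (h : Module.End A G) :
    (m ∘ₗ m') ∘ₗ h = h ∘ₗ (m ∘ₗ m') := by
  have h1 := hm (φ.symm h)
  rw [AlgEquiv.apply_symm_apply] at h1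
  rw [LinearMap.comp_assoc, hm' h, ← LinearMap.comp_assoc, h1, LinearMap.comp_assoc]

end Main

section Main2

variable {F G : Type u} [AddCommGroup F] [Module A F] [AddCommGroup G] [Module A G]
variable (φ : Module.End A F ≃ₐ[A] Module.End A G)

/-- The pairing `L φ ⊗ L φ⁻¹ → A`, `l ⊗ l' ↦ tr (l ∘ l')`. -/
def pairing {ι : Type} [Fintype ι] (q : ι → G) (κ : ι → (G →ₗ[A] A)) :
    L φ ⊗[A] L φ.symm →ₗ[A] A :=
  TensorProduct.lift (LinearMap.mk₂ A
    (fun (l : L φ) (l' : L φ.symm) => tr q κ (l.1 ∘ₗ l'.1 : Module.End A G))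
    (by intro l₁ l₂ l'; simp [LinearMap.add_comp])
    (by intro c l l'; simp [LinearMap.smul_comp])
    (by intro l l₁' l₂'; simp [LinearMap.comp_add])
    (by intro c l l'; simp [LinearMap.comp_smul]))

theorem pairing_tmul {ι : Type} [Fintype ι] (q : ι → G) (κ : ι → (G →ₗ[A] A))
    (l : L φ) (l' : L φ.symm) :
    pairing φ q κ (l ⊗ₜ[A] l') = tr q κ (l.1 ∘ₗ l'.1 : Module.End A G) := by
  simp [pairing]

/-- Evaluation `F ⊗ L φ → G`. -/
def ev : F ⊗[A] L φ →ₗ[A] G :=
  TensorProduct.lift (LinearMap.mk₂ A (fun (y : F) (l : L φ) => l.1 y)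
    (by intro y y' l; simp)
    (by intro c y l; simp)
    (by intro y l l'; simp)
    (by intro c y l; simp))

theorem ev_tmul (y : F) (l : L φ) : ev φ (y ⊗ₜ[A] l) = l.1 y := by
  simp [ev]

/-- The candidate inverse of `ev`. -/
def evInv {ι : Type} [Fintype ι] (a : ι → L φ) (a' : ι → (G →ₗ[A] F)) : G →ₗ[A] F ⊗[A] L φ :=
  ∑ i, ((TensorProduct.mk A F (L φ)).flip (a i)).comp (a' i)

theorem evInv_apply {ι : Type} [Fintype ι] (a : ι → L φ) (a' : ι → (G →ₗ[A] F)) (g : G) :
    evInv φ a a' g = ∑ i, a' i g ⊗ₜ[A] a i := by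
  simp [evInv, LinearMap.sum_apply]

theorem ev_comp_map (f : Module.End A F) :
    ev φ ∘ₗ TensorProduct.map f LinearMap.id = φ f ∘ₗ ev φ := by
  apply TensorProduct.ext'
  intro y l
  simp only [LinearMap.comp_apply, TensorProduct.map_tmul, LinearMap.id_apply, ev_tmul]
  have := congrArg (fun h : F →ₗ[A] G => h y) (l.2 f)
  simpa using this

variable [Module.Finite A F] [Module.Projective A F] [Module.FaithfullyFlat A F]
  [Module.Finite A G] [Module.Projective A G] [Module.FaithfullyFlat A G]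

theorem L_invertible : Module.Invertible A (L φ) := by
  obtain ⟨n, x, lam, hx⟩ := exists_dualBasis A F
  obtain ⟨ιF, _, p, π, hp⟩ := exists_gen A F
  obtain ⟨ιG, _, q, κ, hq⟩ := exists_gen A G
  have hsum := sum_lgen_comp φ x lam hx q κ hq
  set a : Fin n × ιG → L φ := fun i => ⟨lgen φ (q i.2) (lam i.1), lgen_mem _ _ _⟩ with ha
  set a' : Fin n × ιG → L φ.symm := fun i => ⟨lgen φ.symm (x i.1) (κ i.2), lgen_mem _ _ _⟩
    with ha'
  have hsum' : ∑ i, (a i).1 ∘ₗ (a' i).1 = LinearMap.id := hsum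
  have hb := context_bijective (pairing φ q κ)
    (fun m' m => tr p π (m'.1 ∘ₗ m.1 : Module.End A F)) a a' ?_ ?_ ?_
  · exact Module.Invertible.left (LinearEquiv.ofBijective _ hb)
  · intro m'
    apply Subtype.ext
    rw [Submodule.coe_sum]
    simp only [Submodule.coe_smul]
    calc m'.1 = m'.1 ∘ₗ LinearMap.id := (LinearMap.comp_id _).symm
      _ = ∑ j, (m'.1 ∘ₗ (a j).1) ∘ₗ (a' j).1 := by
          rw [← hsum', comp_sum']
          simp only [LinearMap.comp_assoc]
      _ = ∑ j, tr p π (m'.1 ∘ₗ (a j).1 : Module.End A F) • (a' j).1 := by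
          apply Finset.sum_congr rfl
          intro j _
          conv_lhs => rw [central_eq_smul p π hp (m'.1 ∘ₗ (a j).1)
            (comp_central_left (a j).2 m'.2)]
          rw [LinearMap.smul_comp, LinearMap.id_comp]
  · intro m m' j
    apply Subtype.ext
    simp only [Submodule.coe_smul]
    rw [pairing_tmul]
    calc tr p π (m'.1 ∘ₗ (a j).1 : Module.End A F) • m.1
        = m.1 ∘ₗ (tr p π (m'.1 ∘ₗ (a j).1 : Module.End A F) • LinearMap.id) := by
          rw [LinearMap.comp_smul, LinearMap.comp_id]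
      _ = m.1 ∘ₗ (m'.1 ∘ₗ (a j).1) := by
          rw [← central_eq_smul p π hp (m'.1 ∘ₗ (a j).1) (comp_central_left (a j).2 m'.2)]
      _ = (m.1 ∘ₗ m'.1) ∘ₗ (a j).1 := by rw [LinearMap.comp_assoc]
      _ = (tr q κ (m.1 ∘ₗ m'.1 : Module.End A G) • LinearMap.id) ∘ₗ (a j).1 := by
          rw [← central_eq_smul q κ hq (m.1 ∘ₗ m'.1) (comp_central_right m.2 m'.2)]
      _ = tr q κ (m.1 ∘ₗ m'.1 : Module.End A G) • (a j).1 := by
          rw [LinearMap.smul_comp, LinearMap.id_comp]
  · rw [map_sum]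
    simp only [pairing_tmul]
    rw [← map_sum]
    have : (∑ i, ((a i).1 ∘ₗ (a' i).1 : Module.End A G)) = LinearMap.id := hsum'
    rw [this, tr_apply]
    simpa using hq

theorem ev_bijective : ∃ ξ : F ⊗[A] L φ ≃ₗ[A] G, ∀ w, ξ w = ev φ w := by
  obtain ⟨n, x, lam, hx⟩ := exists_dualBasis A F
  obtain ⟨ιF, _, p, π, hp⟩ := exists_gen A F
  obtain ⟨ιG, _, q, κ, hq⟩ := exists_gen A G
  have hsum := sum_lgen_comp φ x lam hx q κ hq
  set a : Fin n × ιG → L φ := fun i => ⟨lgen φ (q i.2) (lam i.1), lgen_mem _ _ _⟩ with ha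
  set a' : Fin n × ιG → (G →ₗ[A] F) := fun i => lgen φ.symm (x i.1) (κ i.2) with ha'
  have ha'mem : ∀ i, a' i ∈ L φ.symm := fun i => lgen_mem _ _ _
  have hsum' : ∑ i, (a i).1 ∘ₗ a' i = LinearMap.id := hsum
  have h1 : ev φ ∘ₗ evInv φ a a' = LinearMap.id := by
    ext g
    rw [LinearMap.comp_apply, evInv_apply, map_sum]
    simp only [ev_tmul]
    have := congrArg (fun h : G →ₗ[A] G => h g) hsum'
    simpa [LinearMap.sum_apply] using this
  have h2 : evInv φ a a' ∘ₗ ev φ = LinearMap.id := by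
    apply TensorProduct.ext'
    intro y l
    rw [LinearMap.comp_apply, ev_tmul, evInv_apply, LinearMap.id_apply]
    have hc : ∀ i, a' i ∘ₗ l.1 = tr p π (a' i ∘ₗ l.1 : Module.End A F) • LinearMap.id :=
      fun i => central_eq_smul p π hp (a' i ∘ₗ l.1) (comp_central_left l.2 (ha'mem i))
    have hl : l = ∑ i, tr p π (a' i ∘ₗ l.1 : Module.End A F) • a i := by
      apply Subtype.ext
      rw [Submodule.coe_sum]
      simp only [Submodule.coe_smul]
      calc l.1 = LinearMap.id ∘ₗ l.1 := (LinearMap.id_comp _).symm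
        _ = ∑ i, (a i).1 ∘ₗ (a' i ∘ₗ l.1) := by
            rw [← hsum', sum_comp']
            simp only [LinearMap.comp_assoc]
        _ = ∑ i, tr p π (a' i ∘ₗ l.1 : Module.End A F) • (a i).1 := by
            apply Finset.sum_congr rfl
            intro i _
            conv_lhs => rw [hc i]
            rw [LinearMap.comp_smul, LinearMap.comp_id]
    conv_rhs => rw [hl]
    rw [TensorProduct.tmul_sum]
    apply Finset.sum_congr rfl
    intro i _
    have : a' i (l.1 y) = tr p π (a' i ∘ₗ l.1 : Module.End A F) • y := by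
      have := congrArg (fun h : F →ₗ[A] F => h y) (hc i)
      simpa using this
    rw [this, TensorProduct.smul_tmul]
  exact ⟨LinearEquiv.ofLinearMap (ev φ) (evInv φ a a') h1 h2, fun w => rfl⟩

theorem main : ∃ (L : Type u) (_ : AddCommGroup L) (_ : Module A L), Module.Invertible A L ∧
    ∃ ξ : F ⊗[A] L ≃ₗ[A] G, ∀ f : Module.End A F,
      φ f = ξ.conj (TensorProduct.map f LinearMap.id) := by
  obtain ⟨ξ, hξ⟩ := ev_bijective φ
  refine ⟨L φ, inferInstance, inferInstance, L_invertible φ, ξ, fun f => ?_⟩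
  ext g
  rw [LinearEquiv.conj_apply_apply]
  obtain ⟨w, rfl⟩ := ξ.surjective g
  rw [LinearEquiv.symm_apply_apply, hξ, hξ]
  have := congrArg (fun h : F ⊗[A] L φ →ₗ[A] G => h w) (ev_comp_map φ f)
  simpa using this.symm

end Main2

end Groth.Agent.Lib.Helper24EndIso
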