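import Mathlib
import Groth.Prelude.Def_Cyc
import Groth.Prelude.Def_W4stkchowintpicEnv

/-!
# Pushforward along an envelope is surjective on `k`-cycles

Given a completely decomposed quasi-compact `f : Y ⟶ X`, choose over each point `x` a point `σ x` with
trivial residue field extension; the cycle `β = ∑ α(x) [σ x]` pushes forward to `α`.
-/

open CategoryTheory AlgebraicGeometry

namespace Groth.Agent.Lib.Helper24EnvSurj

universe u

section Field

variable {K L : Type*} [Field K] [Field L] [Algebra K L]

lemma finrank_eq_one_of_surjective (h : Function.Surjective (algebraMap K L)) :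
    Module.finrank K L = 1 := by
  have hb : Function.Bijective (Algebra.linearMap K L) := ⟨(algebraMap K L).injective, h⟩
  rw [← (LinearEquiv.ofBijective (Algebra.linearMap K L) hb).finrank_eq, Module.finrank_self]

lemma trdeg_eq_zero_of_surjective (h : Function.Surjective (algebraMap K L)) :
    Algebra.trdeg K L = 0 := by
  haveI : Algebra.IsIntegral K L := Algebra.isIntegral_of_surjective h
  haveI : Algebra.IsAlgebraic K L := Algebra.IsIntegral.isAlgebraic
  exact trdeg_eq_zero

end Field

variable {X Y : Scheme.{u}}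

/-- At a point with trivial residue extension, the pushforward coefficient is one. -/
lemma mapCoeff_eq_one (f : Y ⟶ X) (δ : X → ℤ) (δY : Y → ℤ) (hδ : Cyc.DeltaCompat f δY δ) (y : Y)
    (hy : Function.Surjective (f.residueFieldMap y).hom) :
    δY y = δ (f y) ∧ AlgebraicCycle.mapCoeff f δY δ y = 1 := by
  letI := (f.residueFieldMap y).hom.toAlgebra
  have hs : Function.Surjective (algebraMap (X.residueField (f y)) (Y.residueField y)) := hy
  obtain ⟨n, hn, hd⟩ := hδ y
  have hn0 : n = 0 := by
    have h0 : Algebra.trdeg (X.residueField (f y)) (Y.residueField y) = 0 :=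
      trdeg_eq_zero_of_surjective hs
    have : ((n : ℕ) : Cardinal) = 0 := by rw [← hn]; exact h0
    exact_mod_cast this
  have hd' : δY y = δ (f y) := by rw [hd, hn0]; simp
  refine ⟨hd', ?_⟩
  unfold AlgebraicCycle.mapCoeff
  rw [if_pos hd']
  exact finrank_eq_one_of_surjective hs

open Classical in
theorem main (X Y : Scheme.{u}) (δ : X → ℤ) (δY : Y → ℤ) (f : Y ⟶ X) [IsProper f]
    (hcd : Cyc.IsCompletelyDecomposed f) (hδ : Cyc.DeltaCompat f δY δ) (k : ℤ)
    (α : AlgebraicCycle X ℤ) (hα : α ∈ Cyc.Zk X δ k) :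
    ∃ β : AlgebraicCycle Y ℤ, β ∈ Cyc.Zk Y δY k ∧ AlgebraicCycle.map f δY δ β = α := by
  choose σ hσ1 hσ2 using hcd
  let b : Y → ℤ := fun y => if y = σ (f y) then α (f y) else 0
  have hb_ne : ∀ y, b y ≠ 0 → y = σ (f y) ∧ α (f y) ≠ 0 := by
    intro y hy
    by_cases h : y = σ (f y)
    · refine ⟨h, ?_⟩
      simpa [b, ← h] using hy
    · exact absurd (by simp [b, h]) hy
  let β : AlgebraicCycle Y ℤ :=
    { toFun := b
      supportWithinDomain' := Set.subset_univ _
      supportLocallyFiniteWithinDomain' := by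
        intro y₀ _
        obtain ⟨t, ht, hfin⟩ := α.supportLocallyFiniteWithinDomain' (f y₀) trivial
        refine ⟨f ⁻¹' t, f.continuous.continuousAt ht, ?_⟩
        refine (hfin.image σ).subset ?_
        rintro y ⟨hyt, hy⟩
        obtain ⟨h1, h2⟩ := hb_ne y hy
        exact ⟨f y, ⟨hyt, h2⟩, h1.symm⟩ }
  have hβ : ∀ y, β y = b y := fun _ => rfl
  refine ⟨β, ?_, ?_⟩
  · intro y hy
    by_contra hne
    obtain ⟨h1, h2⟩ := hb_ne y hne
    have hk : δ (f y) = k := by
      by_contra hk
      exact h2 (hα (f y) hk)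
    have := (mapCoeff_eq_one f δ δY hδ y (by rw [h1]; exact hσ2 (f y))).1
    exact hy (this.trans hk)
  · ext z
    change ∑ᶠ y ∈ f ⁻¹' {z}, β y * ((AlgebraicCycle.mapCoeff f δY δ y : ℕ) : ℤ) = α z
    rw [finsum_mem_def, finsum_eq_single _ (σ z)]
    · have hmem : σ z ∈ f ⁻¹' {z} := hσ1 z
      rw [Set.indicator_of_mem hmem, hβ]
      have h1 : b (σ z) = α z := by
        simp only [b, hσ1 z, if_true]
      have h2 := (mapCoeff_eq_one f δ δY hδ (σ z) (hσ2 z)).2
      rw [h1, h2]
      simp
    · intro y hy
      by_cases hmem : y ∈ f ⁻¹' {z}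
      · rw [Set.indicator_of_mem hmem, hβ]
        have hfy : f y = z := hmem
        have : b y = 0 := by
          simp only [b, hfy]
          rw [if_neg hy]
        rw [this, zero_mul]
      · exact Set.indicator_of_notMem hmem _

end Groth.Agent.Lib.Helper24EnvSurj
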