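import Mathlib

/-!
# Essentially finite type local algebras factor through a localized polynomial ring at a maximal ideal
-/

namespace Groth.Agent.Lib.Helper24EssLocal

open IsLocalRing

universe u

theorem s9655 {R S : Type u} [CommRing R] [CommRing S] [Algebra R S] [IsLocalRing R] [IsLocalRing S] [Algebra.EssFiniteType R S] :
    ∃ (n : ℕ) (m : Ideal (MvPolynomial (Fin n) R)) (_ : m.IsMaximal), m.under R = IsLocalRing.maximalIdeal R ∧
      ∃ (φ : Localization.AtPrime m →ₐ[R] S) (T : Submonoid φ.range), IsLocalization T S := by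
  classical
  obtain ⟨σ, hσ⟩ := (Algebra.essFiniteType_iff (R := R) (S := S)).mp inferInstance
  -- the residue field and the valuation ring
  let κ := ResidueField S
  let f : R →+* κ := (residue S).comp (algebraMap R S)
  obtain ⟨V, hfV, hloc⟩ := IsLocalRing.exists_factor_valuationRing f
  haveI : IsLocalRing V.toSubring := inferInstanceAs (IsLocalRing V)
  -- new generators
  let g : S → S := fun y => if residue S y ∈ V then y else Ring.inverse y
  have hg_mem : ∀ y, residue S (g y) ∈ V := by
    intro y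
    by_cases hy : residue S y ∈ V
    · simp only [g, if_pos hy]; exact hy
    · simp only [g, if_neg hy]
      have hne : residue S y ≠ 0 := fun h0 => hy (h0 ▸ V.zero_mem)
      have hu : IsUnit y := by
        by_contra hnu
        exact hne ((residue_eq_zero_iff y).mpr ((mem_maximalIdeal y).mpr hnu))
      obtain ⟨u, rfl⟩ := hu
      rw [Ring.inverse_unit]
      have : residue S ((u⁻¹ : Sˣ) : S) = (residue S (u : S))⁻¹ := by
        rw [eq_comm, inv_eq_iff_eq_inv, ← map_units_inv]  
        simp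
      rw [this]
      exact (V.mem_or_inv_mem _).resolve_left hy
  let n := σ.card
  let a : Fin n → S := fun i => g ((σ.equivFin.symm i : σ) : S)
  let φ₀ : MvPolynomial (Fin n) R →ₐ[R] S := MvPolynomial.aeval a
  have claim1 : ∀ p, residue S (φ₀ p) ∈ V := by
    intro p
    induction p using MvPolynomial.induction_on with
    | C r =>
      have : φ₀ (MvPolynomial.C r) = algebraMap R S r := by simp [φ₀]
      rw [this]; exact hfV r
    | add p q hp hq => rw [map_add, map_add]; exact V.add_mem _ _ hp hq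
    | mul_X p i hp =>
      rw [map_mul, map_mul]
      refine V.mul_mem _ _ hp ?_
      have : φ₀ (MvPolynomial.X i) = a i := by simp [φ₀]
      rw [this]; exact hg_mem _
  let ψ : MvPolynomial (Fin n) R →+* V.toSubring :=
    ((residue S).comp φ₀.toRingHom).codRestrict V.toSubring claim1
  have hψ : ∀ p, ((ψ p : V.toSubring) : κ) = residue S (φ₀ p) := fun p => rfl
  let m₀ : Ideal (MvPolynomial (Fin n) R) := (maximalIdeal V.toSubring).comap ψ
  have hm₀ne : m₀ ≠ ⊤ := by
    intro h
    have : (1 : MvPolynomial (Fin n) R) ∈ m₀ := h ▸ Submodule.mem_top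
    rw [Ideal.mem_comap, map_one] at this
    exact (maximalIdeal.isMaximal _).ne_top ((Ideal.eq_top_iff_one _).mpr this)
  obtain ⟨m, hm, hle⟩ := Ideal.exists_le_maximal m₀ hm₀ne
  have hunder : m.under R = maximalIdeal R := by
    apply le_antisymm
    · apply IsLocalRing.le_maximalIdeal
      intro h
      have h1 : (1 : R) ∈ m.under R := h ▸ Submodule.mem_top
      rw [Ideal.under_def, Ideal.mem_comap, map_one] at h1
      exact hm.ne_top ((Ideal.eq_top_iff_one _).mpr h1)
    · intro r hr
      rw [Ideal.under_def, Ideal.mem_comap]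
      apply hle
      rw [Ideal.mem_comap, mem_maximalIdeal, mem_nonunits_iff]
      intro hu
      have h2 : ψ (algebraMap R _ r) = f.codRestrict V.toSubring hfV r := by
        apply Subtype.ext
        rw [hψ]
        simp [f]
      rw [h2] at hu
      have := hloc.map_nonunit r hu
      exact (mem_maximalIdeal r).mp hr this
  have claim2 : ∀ y : m.primeCompl, IsUnit (φ₀ y) := by
    rintro ⟨p, hp⟩
    have hp0 : p ∉ m₀ := fun h => hp (hle h)
    rw [Ideal.mem_comap, mem_maximalIdeal, mem_nonunits_iff, not_not] at hp0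
    by_contra hnu
    have h0 : residue S (φ₀ p) = 0 := (residue_eq_zero_iff _).mpr ((mem_maximalIdeal _).mpr hnu)
    have : ψ p = 0 := Subtype.ext (by rw [hψ, h0]; rfl)
    rw [this] at hp0
    exact not_isUnit_zero hp0
  haveI := hm.isPrime
  let φ : Localization.AtPrime m →ₐ[R] S := IsLocalization.liftAlgHom (M := m.primeCompl) (f := φ₀) claim2
  refine ⟨n, m, hm, hunder, φ, (IsUnit.submonoid S).comap (algebraMap φ.range S), ?_⟩
  have hφ₀ : ∀ p, φ₀ p ∈ φ.range := by
    intro p
    refine ⟨algebraMap _ _ p, ?_⟩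
    simp [φ, IsLocalization.lift_eq]
  -- B := elements that are fractions
  have hB : ∀ u ∈ Algebra.adjoin R (σ : Set S), ∃ b ∈ φ.range, IsUnit b ∧ u * b ∈ φ.range := by
    intro u hu
    induction hu using Algebra.adjoin_induction with
    | mem y hy =>
      have hyi : y = ((σ.equivFin.symm (σ.equivFin ⟨y, hy⟩) : σ) : S) := by simp
      by_cases hyV : residue S y ∈ V
      · refine ⟨1, one_mem _, isUnit_one, ?_⟩
        rw [mul_one]
        have : φ₀ (MvPolynomial.X (σ.equivFin ⟨y, hy⟩)) = y := by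
          simp only [φ₀, MvPolynomial.aeval_X, a, g]
          rw [← hyi, if_pos hyV]
        rw [← this]; exact hφ₀ _
      · have hne : residue S y ≠ 0 := fun h0 => hyV (h0 ▸ V.zero_mem)
        have hu : IsUnit y := by
          by_contra hnu
          exact hne ((residue_eq_zero_iff y).mpr ((mem_maximalIdeal y).mpr hnu))
        have : φ₀ (MvPolynomial.X (σ.equivFin ⟨y, hy⟩)) = Ring.inverse y := by
          simp only [φ₀, MvPolynomial.aeval_X, a, g]
          rw [← hyi, if_neg hyV]
        refine ⟨Ring.inverse y, this ▸ hφ₀ _, ?_, ?_⟩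
        · obtain ⟨v, rfl⟩ := hu
          rw [Ring.inverse_unit]; exact v⁻¹.isUnit
        · rw [Ring.mul_inverse_cancel _ hu]; exact one_mem _
    | algebraMap r =>
      exact ⟨1, one_mem _, isUnit_one, by rw [mul_one]; exact Subalgebra.algebraMap_mem _ r⟩
    | add x y _ _ hx hy =>
      obtain ⟨b₁, hb₁, hu₁, h₁⟩ := hx
      obtain ⟨b₂, hb₂, hu₂, h₂⟩ := hy
      refine ⟨b₁ * b₂, mul_mem hb₁ hb₂, hu₁.mul hu₂, ?_⟩
      have : (x + y) * (b₁ * b₂) = x * b₁ * b₂ + y * b₂ * b₁ := by ring
      rw [this]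
      exact add_mem (mul_mem h₁ hb₂) (mul_mem h₂ hb₁)
    | mul x y _ _ hx hy =>
      obtain ⟨b₁, hb₁, hu₁, h₁⟩ := hx
      obtain ⟨b₂, hb₂, hu₂, h₂⟩ := hy
      refine ⟨b₁ * b₂, mul_mem hb₁ hb₂, hu₁.mul hu₂, ?_⟩
      have : (x * y) * (b₁ * b₂) = (x * b₁) * (y * b₂) := by ring
      rw [this]
      exact mul_mem h₁ h₂
  constructor; constructor
  · exact fun y ↦ y.prop
  · intro s
    obtain ⟨t, ht, htu, hst⟩ := hσ s
    obtain ⟨b₁, hb₁, hu₁, h₁⟩ := hB t ht
    obtain ⟨b₂, hb₂, hu₂, h₂⟩ := hB (s * t) hst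
    have hden : t * b₁ * b₂ ∈ φ.range := mul_mem h₁ hb₂
    have hnum : s * t * b₂ * b₁ ∈ φ.range := mul_mem h₂ hb₁
    refine ⟨⟨⟨_, hnum⟩, ⟨⟨_, hden⟩, ?_⟩⟩, ?_⟩
    · show IsUnit (t * b₁ * b₂)
      exact (htu.mul hu₁).mul hu₂
    · show s * (t * b₁ * b₂) = s * t * b₂ * b₁
      ring
  · intro x y e
    exact ⟨1, by simpa using Subtype.ext e⟩

end Groth.Agent.Lib.Helper24EssLocal
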