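import Mathlib

set_option autoImplicit false
universe u
open MvPolynomial

namespace Groth.Agent.Lib.Helper24Esymm24

variable {k : Type u} [Field k]

/-- Non-divisibility by evaluation at a point. -/
theorem not_dvd_of_eval {n : ℕ} (y : Fin n → k) {p q : MvPolynomial (Fin n) k}
    (h0 : eval y p = 0) (h1 : eval y q ≠ 0) : ¬ p ∣ q := by
  rintro ⟨c, rfl⟩
  apply h1
  rw [map_mul, h0, zero_mul]

section three
variable [CharZero k]

/-- `a₂ = X0X1 + X0X2 + X1X2` in three variables. -/
noncomputable def a1 : MvPolynomial (Fin 3) k := X 0 + X 1 + X 2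
noncomputable def a2 : MvPolynomial (Fin 3) k := X 0 * X 1 + X 0 * X 2 + X 1 * X 2
noncomputable def a3 : MvPolynomial (Fin 3) k := X 0 * X 1 * X 2

/-- The point `(1, 1, -1/2)` where `a₂` vanishes. -/
noncomputable def pt3 : Fin 3 → k := ![1, 1, -(1/2)]

theorem eval_pt3_a2 : eval (pt3 (k := k)) a2 = 0 := by
  simp [a2, pt3]
  ring

theorem eval_pt3_a3 : eval (pt3 (k := k)) a3 = -(1/2) := by
  simp [a3, pt3]

theorem eval_pt3_a1 : eval (pt3 (k := k)) a1 = 3/2 := by
  simp [a1, pt3]
  ring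

theorem irreducible_X1_add_X2 : Irreducible (X 1 + X 2 : MvPolynomial (Fin 3) k) := by
  have := irreducible_mul_X_add (R := k) (1 : MvPolynomial (Fin 3) k) (X 2) (1 : Fin 3)
    one_ne_zero (by simp) (by simp [vars_X]) isRelPrime_one_left
  simpa using this

theorem irreducible_a2 : Irreducible (a2 : MvPolynomial (Fin 3) k) := by
  have h : (a2 : MvPolynomial (Fin 3) k) = (X 1 + X 2) * X 0 + X 1 * X 2 := by
    unfold a2; ring
  rw [h]
  apply irreducible_mul_X_add
  · intro h0
    have := congrArg (eval (![0, 1, 0] : Fin 3 → k)) h0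
    simp at this
  · intro hmem
    have := vars_add_subset _ _ hmem
    simp [vars_X] at this
  · intro hmem
    have := vars_mul _ _ hmem
    simp [vars_X] at this
  · rw [irreducible_X1_add_X2.isRelPrime_iff_not_dvd]
    apply not_dvd_of_eval (![0, 1, -1] : Fin 3 → k)
    · simp
    · simp

end three


section quad
variable [CharZero k]

/-- The quadratic `(a₃ - a₁a₂) t² - a₂² t - a₂a₃` over `k[X0,X1,X2]`. -/
noncomputable def quadQ : Polynomial (MvPolynomial (Fin 3) k) :=
  Polynomial.C (a3 - a1 * a2) * Polynomial.X ^ 2 + Polynomial.C (-(a2 ^ 2)) * Polynomial.X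
    + Polynomial.C (-(a2 * a3))

theorem lead_ne : (a3 - a1 * a2 : MvPolynomial (Fin 3) k) ≠ 0 := by
  intro h
  have := congrArg (eval (pt3 (k := k))) h
  rw [map_sub, map_mul, eval_pt3_a2, eval_pt3_a3] at this
  simp at this

theorem a2_not_dvd_lead : ¬ (a2 : MvPolynomial (Fin 3) k) ∣ a3 - a1 * a2 := by
  apply not_dvd_of_eval (pt3 (k := k)) eval_pt3_a2
  rw [map_sub, map_mul, eval_pt3_a2, eval_pt3_a3]
  simp

theorem a2_not_dvd_a3 : ¬ (a2 : MvPolynomial (Fin 3) k) ∣ a3 := by
  apply not_dvd_of_eval (pt3 (k := k)) eval_pt3_a2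
  rw [eval_pt3_a3]
  simp

theorem a2_ne_zero : (a2 : MvPolynomial (Fin 3) k) ≠ 0 := irreducible_a2.ne_zero

theorem irreducible_quadQ : Irreducible (quadQ (k := k)) := by
  have hprime : Prime (a2 : MvPolynomial (Fin 3) k) := irreducible_a2.prime
  have hP : (Ideal.span {(a2 : MvPolynomial (Fin 3) k)}).IsPrime :=
    (Ideal.span_singleton_prime a2_ne_zero).mpr hprime
  have hdeg : (quadQ (k := k)).degree = 2 := Polynomial.degree_quadratic lead_ne
  have hlead : (quadQ (k := k)).leadingCoeff = a3 - a1 * a2 :=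
    Polynomial.leadingCoeff_quadratic lead_ne
  have hc0 : (quadQ (k := k)).coeff 0 = -(a2 * a3) := by
    simp [quadQ]
  have hc1 : (quadQ (k := k)).coeff 1 = -(a2 ^ 2) := by
    simp only [quadQ, Polynomial.coeff_add, Polynomial.coeff_C_mul, Polynomial.coeff_X_pow,
      Polynomial.coeff_X, Polynomial.coeff_C]
    simp
  have hc2 : (quadQ (k := k)).coeff 2 = a3 - a1 * a2 := by
    simp only [quadQ, Polynomial.coeff_add, Polynomial.coeff_C_mul, Polynomial.coeff_X_pow,
      Polynomial.coeff_X, Polynomial.coeff_C]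
    simp
  apply Polynomial.irreducible_of_eisenstein_criterion hP
  · rw [hlead, Ideal.mem_span_singleton]
    exact a2_not_dvd_lead
  · intro n hn
    rw [hdeg] at hn
    have hn' : n < 2 := by exact_mod_cast hn
    interval_cases n
    · rw [hc0, Ideal.mem_span_singleton]
      exact ⟨-a3, by ring⟩
    · rw [hc1, Ideal.mem_span_singleton]
      exact ⟨-a2, by ring⟩
  · rw [hdeg]; norm_num
  · rw [hc0, Ideal.span_singleton_pow, Ideal.mem_span_singleton]
    rintro ⟨c, hc⟩
    apply a2_not_dvd_a3 (k := k)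
    refine ⟨-c, ?_⟩
    have : (a2 : MvPolynomial (Fin 3) k) * a3 = a2 * (a2 * (-c)) := by
      have h2 : (a2 : MvPolynomial (Fin 3) k) * a3 = -(a2 ^ 2 * c) := by rw [← hc]; ring
      rw [h2]; ring
    exact mul_left_cancel₀ a2_ne_zero this
  · intro r hr
    rw [Polynomial.C_dvd_iff_dvd_coeff] at hr
    have h1 : r ∣ a2 ^ 2 := by
      have := hr 1
      rw [hc1] at this
      exact (dvd_neg).mp this
    have h2 : r ∣ a3 - a1 * a2 := by
      have := hr 2
      rwa [hc2] at this
    have hrel : IsRelPrime ((a2 : MvPolynomial (Fin 3) k) ^ 2) (a3 - a1 * a2) :=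
      (irreducible_a2.isRelPrime_iff_not_dvd.mpr a2_not_dvd_lead).pow_left
    exact hrel h1 h2


end quad


section four

noncomputable def e1 : MvPolynomial (Fin 4) k := X 0 + X 1 + X 2 + X 3
noncomputable def e2 : MvPolynomial (Fin 4) k :=
  X 0 * X 1 + X 0 * X 2 + X 0 * X 3 + X 1 * X 2 + X 1 * X 3 + X 2 * X 3
noncomputable def e3 : MvPolynomial (Fin 4) k :=
  X 0 * X 1 * X 2 + X 0 * X 1 * X 3 + X 0 * X 2 * X 3 + X 1 * X 2 * X 3
noncomputable def e4 : MvPolynomial (Fin 4) k := X 0 * X 1 * X 2 * X 3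
noncomputable def GG : MvPolynomial (Fin 4) k := e1 * e4 - e2 * e3

theorem finSucc_X1 : finSuccEquiv k 3 (X 1) = Polynomial.C (X 0) := by
  have : (1 : Fin 4) = Fin.succ 0 := rfl
  rw [this, finSuccEquiv_X_succ]
theorem finSucc_X2 : finSuccEquiv k 3 (X 2) = Polynomial.C (X 1) := by
  have : (2 : Fin 4) = Fin.succ 1 := rfl
  rw [this, finSuccEquiv_X_succ]
theorem finSucc_X3 : finSuccEquiv k 3 (X 3) = Polynomial.C (X 2) := by
  have : (3 : Fin 4) = Fin.succ 2 := rfl
  rw [this, finSuccEquiv_X_succ]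

theorem finSucc_GG [CharZero k] : finSuccEquiv k 3 (GG (k := k)) = quadQ := by
  simp only [GG, e1, e2, e3, e4, quadQ, a1, a2, a3, map_sub, map_add, map_mul, map_neg, map_pow,
    finSuccEquiv_X_zero, finSucc_X1, finSucc_X2, finSucc_X3]
  ring

theorem irreducible_GG [CharZero k] : Irreducible (GG (k := k)) := by
  have := irreducible_quadQ (k := k)
  rw [← finSucc_GG] at this
  exact (MulEquiv.irreducible_iff (finSuccEquiv k 3).toMulEquiv).mp this


end four


section abstractK
variable {R : Type*} [CommRing R]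

/-- Homogenisation: `a^N p ≡ const` modulo `aX + b`. -/
theorem exists_pow_mul_sub_C_mem (a b : R) (p : Polynomial R) :
    ∃ (N : ℕ) (r : R), Polynomial.C a ^ N * p - Polynomial.C r ∈
      Ideal.span {Polynomial.C a * Polynomial.X + Polynomial.C b} := by
  induction p using Polynomial.induction_on' with
  | add p q hp hq =>
    obtain ⟨N, r, h1⟩ := hp
    obtain ⟨M, s, h2⟩ := hq
    refine ⟨N + M, a ^ M * r + a ^ N * s, ?_⟩
    have : Polynomial.C a ^ (N + M) * (p + q) - Polynomial.C (a ^ M * r + a ^ N * s)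
        = Polynomial.C a ^ M * (Polynomial.C a ^ N * p - Polynomial.C r)
          + Polynomial.C a ^ N * (Polynomial.C a ^ M * q - Polynomial.C s) := by
      simp only [map_add, map_mul, map_pow]
      ring
    rw [this]
    exact Ideal.add_mem _ (Ideal.mul_mem_left _ _ h1) (Ideal.mul_mem_left _ _ h2)
  | monomial n c =>
    refine ⟨n, c * (-b) ^ n, ?_⟩
    have h1 : (Polynomial.C a * Polynomial.X) - (-Polynomial.C b) ∣
        (Polynomial.C a * Polynomial.X) ^ n - (-Polynomial.C b) ^ n := sub_dvd_pow_sub_pow _ _ n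
    obtain ⟨w, hw⟩ := h1
    have : Polynomial.C a ^ n * (Polynomial.monomial n c) - Polynomial.C (c * (-b) ^ n)
        = (Polynomial.C a * Polynomial.X + Polynomial.C b) * (Polynomial.C c * w) := by
      rw [← Polynomial.C_mul_X_pow_eq_monomial]
      have e : Polynomial.C a ^ n * (Polynomial.C c * Polynomial.X ^ n) - Polynomial.C (c * (-b) ^ n)
          = Polynomial.C c * ((Polynomial.C a * Polynomial.X) ^ n - (-Polynomial.C b) ^ n) := by
        simp only [map_mul, map_pow, map_neg]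
        ring
      rw [e, hw]
      ring
    rw [this]
    exact Ideal.mul_mem_right _ _ (Ideal.subset_span rfl)

variable {F : Type*} [Field F]

/-- Kernel of the evaluation at `-b/a`. -/
theorem exists_pow_mul_mem_of_eval₂_eq_zero (ι : R →+* F) (a b g : R) (ha : ι a ≠ 0)
    (hker : ∀ r, ι r = 0 → r ∈ Ideal.span {g}) (p : Polynomial R)
    (hp : Polynomial.eval₂ ι (-(ι b) / ι a) p = 0) :
    ∃ N : ℕ, Polynomial.C a ^ N * p ∈
      Ideal.span {Polynomial.C a * Polynomial.X + Polynomial.C b, Polynomial.C g} := by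
  obtain ⟨N, r, h⟩ := exists_pow_mul_sub_C_mem a b p
  refine ⟨N, ?_⟩
  rw [Ideal.mem_span_singleton] at h
  obtain ⟨w, hw⟩ := h
  have h1 := congrArg (Polynomial.eval₂ ι (-(ι b) / ι a)) hw
  simp only [Polynomial.eval₂_sub, Polynomial.eval₂_mul, Polynomial.eval₂_pow, Polynomial.eval₂_C,
    Polynomial.eval₂_add, Polynomial.eval₂_X, hp, mul_zero, zero_sub] at h1
  have h2 : ι a * (-(ι b) / ι a) + ι b = 0 := by field_simp; ring
  rw [h2, zero_mul] at h1
  have h3 : ι r = 0 := by simpa using h1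
  have h4 := hker r h3
  rw [Ideal.mem_span_singleton] at h4
  obtain ⟨c, rfl⟩ := h4
  have : Polynomial.C a ^ N * p = (Polynomial.C a * Polynomial.X + Polynomial.C b) * w
      + Polynomial.C g * Polynomial.C c := by
    rw [← hw, map_mul]; ring
  rw [this]
  apply Ideal.add_mem
  · exact Ideal.mul_mem_right _ _ (Ideal.subset_span (by simp))
  · exact Ideal.mul_mem_right _ _ (Ideal.subset_span (by simp))

end abstractK



section five

noncomputable def s1 : MvPolynomial (Fin 5) k := X 0 + X 1 + X 2 + X 3 + X 4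
noncomputable def s2 : MvPolynomial (Fin 5) k :=
  X 0 * X 1 + X 0 * X 2 + X 0 * X 3 + X 0 * X 4 + X 1 * X 2 + X 1 * X 3 + X 1 * X 4
    + X 2 * X 3 + X 2 * X 4 + X 3 * X 4
noncomputable def s4 : MvPolynomial (Fin 5) k :=
  X 0 * X 1 * X 2 * X 3 + X 0 * X 1 * X 2 * X 4 + X 0 * X 1 * X 3 * X 4 + X 0 * X 2 * X 3 * X 4
    + X 1 * X 2 * X 3 * X 4

theorem esymm_one_eq : esymm (Fin 5) k 1 = s1 := by
  rw [esymm_one, s1, Fin.sum_univ_five]

theorem esymm_two_eq : esymm (Fin 5) k 2 = s2 := by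
  have h : Finset.powersetCard 2 (Finset.univ : Finset (Fin 5)) =
      {{0,1},{0,2},{0,3},{0,4},{1,2},{1,3},{1,4},{2,3},{2,4},{3,4}} := by decide
  rw [esymm, h, s2]
  simp (disch := decide) only [Finset.sum_insert, Finset.prod_insert, Finset.sum_singleton,
    Finset.prod_singleton]
  ring

theorem esymm_four_eq : esymm (Fin 5) k 4 = s4 := by
  have h : Finset.powersetCard 4 (Finset.univ : Finset (Fin 5)) =
      {{0,1,2,3},{0,1,2,4},{0,1,3,4},{0,2,3,4},{1,2,3,4}} := by decide
  rw [esymm, h, s4]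
  simp (disch := decide) only [Finset.sum_insert, Finset.prod_insert, Finset.sum_singleton,
    Finset.prod_singleton]
  ring


end five


section six

theorem fs5_X1 : finSuccEquiv k 4 (X 1) = Polynomial.C (X 0) := by
  have : (1 : Fin 5) = Fin.succ 0 := rfl
  rw [this, finSuccEquiv_X_succ]
theorem fs5_X2 : finSuccEquiv k 4 (X 2) = Polynomial.C (X 1) := by
  have : (2 : Fin 5) = Fin.succ 1 := rfl
  rw [this, finSuccEquiv_X_succ]
theorem fs5_X3 : finSuccEquiv k 4 (X 3) = Polynomial.C (X 2) := by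
  have : (3 : Fin 5) = Fin.succ 2 := rfl
  rw [this, finSuccEquiv_X_succ]
theorem fs5_X4 : finSuccEquiv k 4 (X 4) = Polynomial.C (X 3) := by
  have : (4 : Fin 5) = Fin.succ 3 := rfl
  rw [this, finSuccEquiv_X_succ]

theorem fs5_s1 : finSuccEquiv k 4 (s1 (k := k)) = Polynomial.X + Polynomial.C e1 := by
  simp only [s1, e1, map_add, finSuccEquiv_X_zero, fs5_X1, fs5_X2, fs5_X3, fs5_X4]
  ring

theorem fs5_s2 : finSuccEquiv k 4 (s2 (k := k)) = Polynomial.C e1 * Polynomial.X + Polynomial.C e2 := by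
  simp only [s2, e1, e2, map_add, map_mul, finSuccEquiv_X_zero, fs5_X1, fs5_X2, fs5_X3, fs5_X4]
  ring

theorem fs5_s4 : finSuccEquiv k 4 (s4 (k := k)) = Polynomial.C e3 * Polynomial.X + Polynomial.C e4 := by
  simp only [s4, e3, e4, map_add, map_mul, finSuccEquiv_X_zero, fs5_X1, fs5_X2, fs5_X3, fs5_X4]
  ring

/-- The point `(1,1,0,0)` on `G = 0`. -/
noncomputable def pt4 : Fin 4 → k := ![1, 1, 0, 0]

theorem eval_pt4_e1 : eval (pt4 (k := k)) e1 = 2 := by
  simp [e1, pt4]; norm_num
theorem eval_pt4_e2 : eval (pt4 (k := k)) e2 = 1 := by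
  simp [e2, pt4]
theorem eval_pt4_e3 : eval (pt4 (k := k)) e3 = 0 := by
  simp [e3, pt4]
theorem eval_pt4_e4 : eval (pt4 (k := k)) e4 = 0 := by
  simp [e4, pt4]
theorem eval_pt4_GG : eval (pt4 (k := k)) GG = 0 := by
  rw [GG, map_sub, map_mul, map_mul, eval_pt4_e3, eval_pt4_e4]; simp

section charzero
variable [CharZero k]

instance isPrime_span_GG : (Ideal.span {(GG : MvPolynomial (Fin 4) k)}).IsPrime :=
  (Ideal.span_singleton_prime irreducible_GG.ne_zero).mpr irreducible_GG.prime

variable (k) in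
abbrev QR := MvPolynomial (Fin 4) k ⧸ Ideal.span {(GG : MvPolynomial (Fin 4) k)}

variable (k) in
abbrev FF := FractionRing (QR k)

/-- The map `k[Y0..Y3] → Frac (k[Y]/(G))`. -/
noncomputable def iota : MvPolynomial (Fin 4) k →+* FF k :=
  (algebraMap (QR k) (FF k)).comp (Ideal.Quotient.mk _)

theorem iota_eq_zero_iff (r : MvPolynomial (Fin 4) k) :
    iota r = 0 ↔ r ∈ Ideal.span {(GG : MvPolynomial (Fin 4) k)} := by
  rw [iota, RingHom.comp_apply, map_eq_zero_iff _ (IsFractionRing.injective (QR k) (FF k)),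
    Ideal.Quotient.eq_zero_iff_mem]

theorem iota_ne_zero_of_eval {r : MvPolynomial (Fin 4) k} (h : eval (pt4 (k := k)) r ≠ 0) :
    iota r ≠ 0 := by
  rw [Ne, iota_eq_zero_iff, Ideal.mem_span_singleton]
  exact not_dvd_of_eval _ eval_pt4_GG h

theorem iota_e1_ne : iota (e1 : MvPolynomial (Fin 4) k) ≠ 0 := by
  apply iota_ne_zero_of_eval
  rw [eval_pt4_e1]; norm_num

theorem iota_GG : iota (GG : MvPolynomial (Fin 4) k) = 0 := by
  rw [iota_eq_zero_iff]; exact Ideal.subset_span rfl

/-- The generic point's first coordinate. -/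
noncomputable def x0 : FF k := -(iota e2) / iota e1

/-- Evaluation at the generic point. -/
noncomputable def phi : MvPolynomial (Fin 5) k →+* FF k :=
  (Polynomial.eval₂RingHom iota (x0 (k := k))).comp (finSuccEquiv k 4 : _ →+* _)

theorem phi_apply (f : MvPolynomial (Fin 5) k) :
    phi f = Polynomial.eval₂ iota (x0 (k := k)) (finSuccEquiv k 4 f) := rfl

theorem phi_s2 : phi (s2 (k := k)) = 0 := by
  rw [phi_apply, fs5_s2]
  simp only [Polynomial.eval₂_add, Polynomial.eval₂_mul, Polynomial.eval₂_C, Polynomial.eval₂_X, x0]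
  have := iota_e1_ne (k := k)
  field_simp
  ring

theorem phi_s4 : phi (s4 (k := k)) = 0 := by
  rw [phi_apply, fs5_s4]
  simp only [Polynomial.eval₂_add, Polynomial.eval₂_mul, Polynomial.eval₂_C, Polynomial.eval₂_X, x0]
  have h1 := iota_e1_ne (k := k)
  have h2 : iota (e1 : MvPolynomial (Fin 4) k) * iota e4 - iota e2 * iota e3 = 0 := by
    rw [← map_mul, ← map_mul, ← map_sub]; exact iota_GG
  field_simp
  linear_combination h2

/-- `F2`: elements of the kernel are killed into `I` by a power of `E₀`. -/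
theorem exists_pow_mul_mem_of_phi_eq_zero (f : MvPolynomial (Fin 5) k) (hf : phi f = 0) :
    ∃ N : ℕ, (s1 - X 0) ^ N * f ∈ Ideal.span {(s2 : MvPolynomial (Fin 5) k), s4} := by
  rw [phi_apply] at hf
  obtain ⟨N, hN⟩ := exists_pow_mul_mem_of_eval₂_eq_zero (iota (k := k)) e1 e2 GG iota_e1_ne
    (fun r hr => (iota_eq_zero_iff r).mp hr) _ hf
  refine ⟨N, ?_⟩
  have hle : Ideal.span {Polynomial.C (e1 : MvPolynomial (Fin 4) k) * Polynomial.X + Polynomial.C e2,
      Polynomial.C GG} ≤ Ideal.comap (finSuccEquiv k 4).symm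
        (Ideal.span {(s2 : MvPolynomial (Fin 5) k), s4}) := by
    rw [Ideal.span_le]
    have m2 : Polynomial.C (e1 : MvPolynomial (Fin 4) k) * Polynomial.X + Polynomial.C e2 ∈
        Ideal.comap (finSuccEquiv k 4).symm (Ideal.span {(s2 : MvPolynomial (Fin 5) k), s4}) := by
      rw [Ideal.mem_comap, ← fs5_s2, AlgEquiv.symm_apply_apply]
      exact Ideal.subset_span (Set.mem_insert _ _)
    have m4 : Polynomial.C (e3 : MvPolynomial (Fin 4) k) * Polynomial.X + Polynomial.C e4 ∈
        Ideal.comap (finSuccEquiv k 4).symm (Ideal.span {(s2 : MvPolynomial (Fin 5) k), s4}) := by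
      rw [Ideal.mem_comap, ← fs5_s4, AlgEquiv.symm_apply_apply]
      exact Ideal.subset_span (Set.mem_insert_of_mem _ rfl)
    intro z hz
    rcases hz with rfl | rfl
    · exact m2
    · have : Polynomial.C (GG : MvPolynomial (Fin 4) k) =
          Polynomial.C e1 * (Polynomial.C e3 * Polynomial.X + Polynomial.C e4)
            - Polynomial.C e3 * (Polynomial.C e1 * Polynomial.X + Polynomial.C e2) := by
        simp only [GG, map_sub, map_mul]; ring
      rw [SetLike.mem_coe, this]
      exact Ideal.sub_mem _ (Ideal.mul_mem_left _ _ m4) (Ideal.mul_mem_left _ _ m2)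
  have h1 := hle hN
  have hE : (finSuccEquiv k 4) ((s1 - X 0 : MvPolynomial (Fin 5) k)) = Polynomial.C e1 := by
    rw [map_sub, fs5_s1, finSuccEquiv_X_zero]; ring
  rw [Ideal.mem_comap] at h1
  have h2 : (finSuccEquiv k 4).symm (Polynomial.C e1 ^ N * finSuccEquiv k 4 f) = (s1 - X 0) ^ N * f := by
    rw [← hE, ← map_pow, ← map_mul, AlgEquiv.symm_apply_apply]
  rwa [h2] at h1

end charzero


end six


section seven
variable {k : Type u} [Field k] [CharZero k]

theorem phi_E_zero : phi (s1 - X 0 : MvPolynomial (Fin 5) k) ≠ 0 := by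
  have hE : (finSuccEquiv k 4) ((s1 - X 0 : MvPolynomial (Fin 5) k)) = Polynomial.C e1 := by
    rw [map_sub, fs5_s1, finSuccEquiv_X_zero]; ring
  rw [phi_apply, hE, Polynomial.eval₂_C]
  exact iota_e1_ne

theorem phi_E_succ (i : Fin 4) : phi (s1 - X i.succ : MvPolynomial (Fin 5) k) ≠ 0 := by
  have hE : (finSuccEquiv k 4) ((s1 - X i.succ : MvPolynomial (Fin 5) k)) =
      Polynomial.X + Polynomial.C (e1 - X i) := by
    rw [map_sub, fs5_s1, finSuccEquiv_X_succ, map_sub]; ring
  rw [phi_apply, hE, Polynomial.eval₂_add, Polynomial.eval₂_X, Polynomial.eval₂_C]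
  intro h
  have h1 := iota_e1_ne (k := k)
  have h2 : iota ((e1 : MvPolynomial (Fin 4) k) * (e1 - X i) - e2) = 0 := by
    simp only [map_sub, map_mul]
    have : (x0 (k := k)) * iota e1 = -(iota e2) := by
      rw [x0]; field_simp
    rw [map_sub] at h
    linear_combination iota (e1 : MvPolynomial (Fin 4) k) * h - this
  have h3 : iota ((e1 : MvPolynomial (Fin 4) k) * (e1 - X i) - e2) ≠ 0 := by
    apply iota_ne_zero_of_eval
    rw [map_sub, map_mul, map_sub, eval_pt4_e1, eval_pt4_e2, eval_X]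
    fin_cases i <;> simp [pt4] <;> norm_num
  exact h3 h2

theorem phi_E (j : Fin 5) : phi (s1 - X j : MvPolynomial (Fin 5) k) ≠ 0 := by
  induction j using Fin.cases with
  | zero => exact phi_E_zero
  | succ i => exact phi_E_succ i


end seven


section eight
variable {k : Type u} [Field k] [CharZero k]

variable (k) in
/-- The ideal `(σ₂, σ₄)`. -/
noncomputable def II : Ideal (MvPolynomial (Fin 5) k) := Ideal.span {s2, s4}

variable (k) in
/-- The prime `J₀`. -/
noncomputable def J0 : Ideal (MvPolynomial (Fin 5) k) := RingHom.ker (phi (k := k))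

instance : (J0 k).IsPrime := RingHom.ker_isPrime _

theorem II_le_J0 : II k ≤ J0 k := by
  rw [II, Ideal.span_le]
  intro z hz
  rcases hz with rfl | rfl
  · exact phi_s2
  · exact phi_s4

/-- Lemma A. -/
theorem J0_le_of_not_mem (P : Ideal (MvPolynomial (Fin 5) k)) [P.IsPrime] (hI : II k ≤ P)
    (hE : (s1 - X 0 : MvPolynomial (Fin 5) k) ∉ P) : J0 k ≤ P := by
  intro f hf
  obtain ⟨N, hN⟩ := exists_pow_mul_mem_of_phi_eq_zero f hf
  have := hI hN
  rcases Ideal.IsPrime.mem_or_mem ‹P.IsPrime› this with h | h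
  · exact absurd (Ideal.IsPrime.mem_of_pow_mem ‹P.IsPrime› _ h) hE
  · exact h

/-- The renaming automorphism. -/
noncomputable abbrev rho (τ : Equiv.Perm (Fin 5)) : MvPolynomial (Fin 5) k ≃ₐ[k] MvPolynomial (Fin 5) k :=
  renameEquiv k τ

theorem rho_s1 (τ : Equiv.Perm (Fin 5)) : rho τ (s1 (k := k)) = s1 := by
  rw [← esymm_one_eq]; exact rename_esymm _ _ _ τ
theorem rho_s2 (τ : Equiv.Perm (Fin 5)) : rho τ (s2 (k := k)) = s2 := by
  rw [← esymm_two_eq]; exact rename_esymm _ _ _ τ
theorem rho_s4 (τ : Equiv.Perm (Fin 5)) : rho τ (s4 (k := k)) = s4 := by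
  rw [← esymm_four_eq]; exact rename_esymm _ _ _ τ

theorem rho_E (τ : Equiv.Perm (Fin 5)) (j : Fin 5) :
    rho τ (s1 - X j : MvPolynomial (Fin 5) k) = s1 - X (τ j) := by
  rw [map_sub, rho_s1]
  simp [rho, renameEquiv_apply]

theorem II_le_comap (τ : Equiv.Perm (Fin 5)) : II k ≤ Ideal.comap (rho τ) (II k) := by
  rw [II, Ideal.span_le]
  intro z hz
  rcases hz with rfl | rfl
  · rw [SetLike.mem_coe, Ideal.mem_comap, rho_s2]; exact Ideal.subset_span (Set.mem_insert _ _)
  · rw [SetLike.mem_coe, Ideal.mem_comap, rho_s4]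
    exact Ideal.subset_span (Set.mem_insert_of_mem _ rfl)

theorem rho_swap_rho_swap (j : Fin 5) (g : MvPolynomial (Fin 5) k) :
    rho (Equiv.swap 0 j) (rho (Equiv.swap 0 j) g) = g := by
  simp only [rho, renameEquiv_apply, rename_rename]
  have : (⇑(Equiv.swap (0 : Fin 5) j) ∘ ⇑(Equiv.swap (0 : Fin 5) j)) = id := by
    funext i; simp
  rw [this, rename_id_apply]

/-- Lemma A'. -/
theorem comap_J0_le_of_not_mem (P : Ideal (MvPolynomial (Fin 5) k)) [P.IsPrime] (hI : II k ≤ P)
    (j : Fin 5) (hE : (s1 - X j : MvPolynomial (Fin 5) k) ∉ P) :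
    Ideal.comap (rho (Equiv.swap 0 j)) (J0 k) ≤ P := by
  have h1 : J0 k ≤ Ideal.comap (rho (Equiv.swap 0 j)) P := by
    apply J0_le_of_not_mem
    · exact (II_le_comap _).trans (Ideal.comap_mono hI)
    · rw [Ideal.mem_comap, rho_E, Equiv.swap_apply_left]
      exact hE
  intro g hg
  rw [Ideal.mem_comap] at hg
  have := h1 hg
  rwa [Ideal.mem_comap, rho_swap_rho_swap] at this

theorem comap_J0_eq (j : Fin 5) : Ideal.comap (rho (Equiv.swap 0 j)) (J0 k) = J0 k := by
  apply le_antisymm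
  · apply comap_J0_le_of_not_mem _ II_le_J0
    exact phi_E j
  · apply J0_le_of_not_mem
    · exact (II_le_comap _).trans (Ideal.comap_mono II_le_J0)
    · rw [Ideal.mem_comap, rho_E, Equiv.swap_apply_left]
      exact phi_E j

/-- Specialisation `X1 ↦ X1`, others to `0`. -/
noncomputable def ev1 : MvPolynomial (Fin 5) k →ₐ[k] MvPolynomial (Fin 5) k :=
  aeval (fun i : Fin 5 => if i = 1 then (X 1 : MvPolynomial (Fin 5) k) else 0)

theorem ev1_s2 : ev1 (s2 (k := k)) = 0 := by
  simp [ev1, s2]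
theorem ev1_s4 : ev1 (s4 (k := k)) = 0 := by
  simp [ev1, s4]

theorem sub_ev1_mem (P : Ideal (MvPolynomial (Fin 5) k)) (hX : ∀ i, (X i : MvPolynomial (Fin 5) k) ∈ P)
    (f : MvPolynomial (Fin 5) k) : f - ev1 f ∈ P := by
  have h : (Ideal.Quotient.mk P) = (Ideal.Quotient.mk P).comp (ev1 (k := k)).toRingHom := by
    apply MvPolynomial.ringHom_ext
    · intro c
      simp [ev1]
    · intro i
      rw [RingHom.comp_apply]
      by_cases hi : i = 1
      · subst hi; simp [ev1]
      · have : (ev1 (k := k)).toRingHom (X i) = 0 := by simp [ev1, hi]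
        rw [this, map_zero, Ideal.Quotient.eq_zero_iff_mem]
        exact hX i
  have := congrArg (fun ψ => ψ f) h
  simp only [RingHom.comp_apply] at this
  rw [← Ideal.Quotient.eq_zero_iff_mem, map_sub, sub_eq_zero]
  exact this

theorem eq_J0_of_mem_minimalPrimes (P : Ideal (MvPolynomial (Fin 5) k)) (hP : P ∈ (II k).minimalPrimes) :
    P = J0 k := by
  have hPp : P.IsPrime := hP.1.1
  have hPI : II k ≤ P := hP.1.2
  by_cases h : ∃ j, (s1 - X j : MvPolynomial (Fin 5) k) ∉ P
  · obtain ⟨j, hj⟩ := h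
    have h1 := comap_J0_le_of_not_mem P hPI j hj
    rw [comap_J0_eq] at h1
    exact le_antisymm (hP.2 ⟨inferInstance, II_le_J0⟩ h1) h1
  · exfalso
    push Not at h
    have hsum : (4 : MvPolynomial (Fin 5) k) * s1 ∈ P := by
      have : (4 : MvPolynomial (Fin 5) k) * s1 = (s1 - X 0) + (s1 - X 1) + (s1 - X 2) + (s1 - X 3)
          + (s1 - X 4) := by
        simp only [s1]; ring
      rw [this]
      exact Ideal.add_mem _ (Ideal.add_mem _ (Ideal.add_mem _ (Ideal.add_mem _ (h 0) (h 1)) (h 2)) (h 3)) (h 4)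
    have hs1 : (s1 : MvPolynomial (Fin 5) k) ∈ P := by
      have : (s1 : MvPolynomial (Fin 5) k) = C (1/4 : k) * ((4 : MvPolynomial (Fin 5) k) * s1) := by
        have h4 : (C (4 : k) : MvPolynomial (Fin 5) k) = 4 := map_ofNat C 4
        rw [← h4, ← mul_assoc, ← C_mul]
        norm_num
      rw [this]
      exact Ideal.mul_mem_left _ _ hsum
    have hX : ∀ i, (X i : MvPolynomial (Fin 5) k) ∈ P := by
      intro i
      have := Ideal.sub_mem _ hs1 (h i)
      simpa using this
    let P0 : Ideal (MvPolynomial (Fin 5) k) := RingHom.ker (ev1 (k := k)).toRingHom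
    have hP0p : P0.IsPrime := RingHom.ker_isPrime _
    have hP0I : II k ≤ P0 := by
      rw [II, Ideal.span_le]
      intro z hz
      rcases hz with rfl | rfl
      · exact ev1_s2
      · exact ev1_s4
    have hP0P : P0 ≤ P := by
      intro f hf
      have h1 := sub_ev1_mem P hX f
      have h2 : ev1 f = 0 := hf
      rwa [h2, sub_zero] at h1
    have := hP.2 ⟨hP0p, hP0I⟩ hP0P (hX 1)
    have h3 : ev1 (X 1 : MvPolynomial (Fin 5) k) = 0 := this
    simp [ev1] at h3

theorem radical_II : (II k).radical = J0 k := by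
  rw [← Ideal.sInf_minimalPrimes]
  apply le_antisymm
  · obtain ⟨p, hp, hle⟩ := Ideal.exists_minimalPrimes_le (II_le_J0 (k := k))
    exact (sInf_le hp).trans hle
  · apply le_sInf
    intro p hp
    rw [eq_J0_of_mem_minimalPrimes p hp]

theorem main : (Ideal.span ({esymm (Fin 5) k 2, esymm (Fin 5) k 4} :
    Set (MvPolynomial (Fin 5) k))).radical.IsPrime := by
  rw [esymm_two_eq, esymm_four_eq]
  have := radical_II (k := k)
  rw [II] at this
  rw [this]
  infer_instance


end eight

end Groth.Agent.Lib.Helper24Esymm24
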