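import Mathlib
import Groth.Prelude.Def_Exal2

/-!
# Surjectivity at the end of the sequence of `Λ`-trivial extension classes (helper24)

The first section is a universe-generalised copy of helper7's `Helper7ExalSec` (base ring in an
arbitrary universe).
-/

set_option linter.unusedSectionVars false

open Exal

universe u w v

namespace Groth.Agent.Lib.Helper24ExalSurj

attribute [local instance] Exal.opModule Exal.isCentralScalar_opModule

section General

variable {A : Type*} {B L : Type u} [CommRing A] [CommRing B] [Algebra A B] [AddCommGroup L]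
  [Module B L]

lemma incl_mul_incl (X : Ext A B L) (m m' : L) : X.incl m * X.incl m' = 0 := by
  rw [X.isExtension.mul_incl, (X.isExtension.exact _).2 ⟨m, rfl⟩, zero_smul, map_zero]

lemma proj_incl (X : Ext A B L) (m : L) : X.proj (X.incl m) = 0 :=
  (X.isExtension.exact _).2 ⟨m, rfl⟩

end General

section Sec

variable {A : Type u} {B : Type w} {C L : Type v} [CommRing A] [CommRing B] [CommRing C]
    [Algebra A B] [Algebra B C] [Algebra A C] [IsScalarTower A B C]
    [AddCommGroup L] [Module C L] [Module B L] [IsScalarTower B C L] [Module A L] [IsScalarTower A B L]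
    [IsScalarTower A C L]

/-- an `A`-trivial extension has a ring-hom section compatible with `A` -/
lemma exists_ringHom_section_of_isTrivialOver (X : Exal.Ext B C L) (h : X.IsTrivialOver A) :
    ∃ σ : C →+* X.E, (∀ c, X.proj (σ c) = c) ∧
      (∀ a : A, σ (algebraMap A C a) = algebraMap B X.E (algebraMap A B a)) := by
  obtain ⟨s, hs⟩ := h
  let σ : C →+* X.E :=
    { toFun := fun c => s c
      map_one' := map_one s
      map_mul' := map_mul s
      map_zero' := map_zero s
      map_add' := map_add s }
  exact ⟨σ, hs, fun a => s.commutes a⟩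

lemma isTrivialOver_of_ringHom_section (X : Exal.Ext B C L) (σ : C →+* X.E)
    (hσ : ∀ c, X.proj (σ c) = c)
    (hσA : ∀ a : A, σ (algebraMap A C a) = algebraMap B X.E (algebraMap A B a)) :
    X.IsTrivialOver A := by
  let s : C →ₐ[A] (X.restrictBase A).E :=
    { toFun := fun c => σ c
      map_one' := map_one σ
      map_mul' := map_mul σ
      map_zero' := map_zero σ
      map_add' := map_add σ
      commutes' := hσA }
  exact ⟨s, hσ⟩

theorem exists_derivation_of_section (X : Exal.Ext B C L) (σ : C →+* X.E)
    (hσ : ∀ c, X.proj (σ c) = c)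
    (hσA : ∀ a : A, σ (algebraMap A C a) = algebraMap B X.E (algebraMap A B a)) :
    ∃ D : Derivation A B L, ∀ b, X.incl (D b) = algebraMap B X.E b - σ (algebraMap B C b) := by
  have hδ : ∀ b : B, X.proj (algebraMap B X.E b - σ (algebraMap B C b)) = 0 := by
    intro b
    rw [map_sub, AlgHom.commutes, hσ, sub_self]
  have hker : ∀ b : B, X.incl (X.kerLift _ (hδ b)) = algebraMap B X.E b - σ (algebraMap B C b) :=
    fun b => X.incl_kerLift _ _
  have hDmul : ∀ b b' : B, X.kerLift _ (hδ (b * b')) =
      b • X.kerLift _ (hδ b') + b' • X.kerLift _ (hδ b) := by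
    intro b b'
    apply X.isExtension.incl_injective
    rw [hker, map_add, ← algebraMap_smul C b, ← algebraMap_smul C b']
    have e1 : X.incl (algebraMap B C b • X.kerLift _ (hδ b')) =
        algebraMap B X.E b * X.incl (X.kerLift _ (hδ b')) := by
      rw [X.isExtension.mul_incl, AlgHom.commutes]
    have e2 : X.incl (algebraMap B C b' • X.kerLift _ (hδ b)) =
        σ (algebraMap B C b') * X.incl (X.kerLift _ (hδ b)) := by
      rw [X.isExtension.mul_incl, hσ]
    rw [e1, e2, hker, hker, map_mul, map_mul, map_mul]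
    ring
  have hDadd : ∀ b b' : B, X.kerLift _ (hδ (b + b')) =
      X.kerLift _ (hδ b) + X.kerLift _ (hδ b') := by
    intro b b'
    apply X.isExtension.incl_injective
    rw [hker (b + b'), map_add X.incl, hker b, hker b']
    simp only [map_add]
    ring
  have hDA : ∀ a : A, X.kerLift _ (hδ (algebraMap A B a)) = 0 := by
    intro a
    apply X.isExtension.incl_injective
    rw [hker, map_zero, ← IsScalarTower.algebraMap_apply A B C, hσA, sub_self]
  let D0 : B →ₗ[A] L :=
    { toFun := fun b => X.kerLift _ (hδ b)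
      map_add' := hDadd
      map_smul' := fun a b => by
        rw [RingHom.id_apply, Algebra.smul_def, hDmul, hDA, smul_zero, add_zero, algebraMap_smul] }
  let D : Derivation A B L := Derivation.mk' D0 (fun b b' => hDmul b b')
  have hD : ∀ b, X.incl (D b) = algebraMap B X.E b - σ (algebraMap B C b) := hker
  exact ⟨D, hD⟩

end Sec

section OfDer

variable {Λ : Type u} {A : Type w} {C L : Type v} [CommRing Λ] [CommRing A] [CommRing C]
    [Algebra Λ A] [Algebra A C]
    [AddCommGroup L] [Module C L] [Module A L] [IsScalarTower A C L] [Module Λ L]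
    [IsScalarTower Λ A L]

/-- universe-general copy of the prelude's `Exal.Ext.derivationHom` -/
noncomputable def derHom (D : Derivation Λ A L) : A →+* TrivSqZeroExt C L where
  toFun x := TrivSqZeroExt.inl (algebraMap A C x) + TrivSqZeroExt.inr (D x)
  map_one' := by
    rw [map_one, Derivation.map_one_eq_zero, TrivSqZeroExt.inr_zero, add_zero, TrivSqZeroExt.inl_one]
  map_mul' x y := by
    apply TrivSqZeroExt.ext
    · simp
    · simp only [TrivSqZeroExt.snd_add, TrivSqZeroExt.snd_inl, TrivSqZeroExt.snd_inr, zero_add,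
        TrivSqZeroExt.snd_mul, TrivSqZeroExt.fst_add, TrivSqZeroExt.fst_inl, TrivSqZeroExt.fst_inr, add_zero,
        Derivation.leibniz, op_smul_eq_smul]
      rw [IsScalarTower.algebraMap_smul, IsScalarTower.algebraMap_smul, add_comm]
  map_zero' := by
    rw [map_zero, map_zero, TrivSqZeroExt.inl_zero, TrivSqZeroExt.inr_zero, add_zero]
  map_add' x y := by
    rw [map_add, map_add, TrivSqZeroExt.inl_add, TrivSqZeroExt.inr_add]
    abel

/-- carrier of the extension attached to a derivation -/
@[nolint unusedArguments]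
def DerC (_D : Derivation Λ A L) : Type v := TrivSqZeroExt C L

instance (D : Derivation Λ A L) : CommRing (DerC (C := C) D) :=
  inferInstanceAs (CommRing (TrivSqZeroExt C L))

noncomputable instance (D : Derivation Λ A L) : Algebra A (DerC (C := C) D) :=
  (derHom (C := C) D : A →+* DerC (C := C) D).toAlgebra

/-- universe-general copy of the prelude's `Exal.Ext.ofDerivation` -/
noncomputable def ofDer (D : Derivation Λ A L) : Ext A C L where
  E := DerC (C := C) D
  proj :=
    { toFun := fun x => TrivSqZeroExt.fst x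
      map_one' := TrivSqZeroExt.fst_one
      map_mul' := TrivSqZeroExt.fst_mul
      map_zero' := TrivSqZeroExt.fst_zero
      map_add' := TrivSqZeroExt.fst_add
      commutes' := fun x => by
        change TrivSqZeroExt.fst (TrivSqZeroExt.inl (algebraMap A C x) + TrivSqZeroExt.inr (D x)) = _
        rw [TrivSqZeroExt.fst_add, TrivSqZeroExt.fst_inl, TrivSqZeroExt.fst_inr, add_zero] }
  incl := (TrivSqZeroExt.inrHom C L).toAddMonoidHom
  isExtension :=
    { proj_surjective := fun c => ⟨TrivSqZeroExt.inl c, rfl⟩
      incl_injective := TrivSqZeroExt.inr_injective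
      exact := fun x => by
        constructor
        · intro hx
          exact ⟨TrivSqZeroExt.snd x, TrivSqZeroExt.ext hx.symm rfl⟩
        · rintro ⟨z, rfl⟩
          rfl
      mul_incl := fun x z => by
        refine TrivSqZeroExt.ext ?_ ?_
        · change TrivSqZeroExt.fst x * 0 = 0
          exact mul_zero _
        · change TrivSqZeroExt.fst x • z + MulOpposite.op (0 : C) • TrivSqZeroExt.snd x = TrivSqZeroExt.fst x • z
          rw [MulOpposite.op_zero, zero_smul, add_zero] }

lemma algebraMap_ofDer (D : Derivation Λ A L) (a : A) :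
    algebraMap A (ofDer (C := C) D).E a =
      (TrivSqZeroExt.inl (algebraMap A C a) + TrivSqZeroExt.inr (D a) : TrivSqZeroExt C L) := rfl

variable [Algebra Λ C] [IsScalarTower Λ A C]

theorem isTrivialOver_ofDer (D : Derivation Λ A L) : (ofDer (C := C) D).IsTrivialOver Λ := by
  let inlH : C →+* (ofDer (C := C) D).E :=
    { toFun := fun c => (TrivSqZeroExt.inl c : TrivSqZeroExt C L)
      map_one' := TrivSqZeroExt.inl_one L
      map_mul' := TrivSqZeroExt.inl_mul L
      map_zero' := TrivSqZeroExt.inl_zero L
      map_add' := TrivSqZeroExt.inl_add L }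
  let s : C →ₐ[Λ] ((ofDer (C := C) D).restrictBase Λ).E :=
    { toFun := fun c => inlH c
      map_one' := map_one inlH
      map_mul' := map_mul inlH
      map_zero' := map_zero inlH
      map_add' := map_add inlH
      commutes' := fun r => by
        change (TrivSqZeroExt.inl (algebraMap Λ C r) : TrivSqZeroExt C L) =
          (TrivSqZeroExt.inl (algebraMap A C (algebraMap Λ A r)) +
            TrivSqZeroExt.inr (D (algebraMap Λ A r)) : TrivSqZeroExt C L)
        rw [Derivation.map_algebraMap, TrivSqZeroExt.inr_zero, add_zero,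
          ← IsScalarTower.algebraMap_apply] }
  exact ⟨s, fun c => rfl⟩

end OfDer

section Main

variable {Λ : Type u} {A : Type w} {B C L : Type v}
    [CommRing Λ] [CommRing A] [CommRing B] [CommRing C] [Algebra Λ A] [Algebra Λ B] [Algebra Λ C]
    [Algebra A B] [Algebra B C] [Algebra A C] [IsScalarTower Λ A B] [IsScalarTower Λ A C]
    [IsScalarTower A B C]
    [AddCommGroup L] [Module C L] [Module B L] [IsScalarTower B C L]
    [Module A L] [IsScalarTower A B L] [IsScalarTower A C L] [Module Λ L] [IsScalarTower Λ A L]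
    [IsScalarTower Λ B L]

theorem main_aux (Y : Exal.Ext A B L) (hY : Y.IsTrivialOver Λ) :
    ∃ X : Exal.Ext A C L, X.IsTrivialOver Λ ∧ Nonempty ((X.pullback B).Equiv Y) := by
  obtain ⟨σ, hσ, hσΛ⟩ := exists_ringHom_section_of_isTrivialOver (A := Λ) Y hY
  obtain ⟨D, hD⟩ := exists_derivation_of_section (A := Λ) Y σ hσ hσΛ
  refine ⟨ofDer (C := C) D, isTrivialOver_ofDer D, ⟨?_⟩⟩
  set X := ofDer (C := C) D with hX
  -- membership in the fibre product
  have hmem : ∀ x : X.fiberProd B,
      (x.1.1 : TrivSqZeroExt C L).fst = algebraMap B C x.1.2 := by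
    intro x
    have h := x.2
    change _ ∈ AlgHom.equalizer _ _ at h
    rw [AlgHom.mem_equalizer] at h
    exact h
  let ψ0 : X.fiberProd B → Y.E := fun x => σ x.1.2 + Y.incl (x.1.1 : TrivSqZeroExt C L).snd
  have hψmul : ∀ x x' : X.fiberProd B, ψ0 (x * x') = ψ0 x * ψ0 x' := by
    intro x x'
    have e0 : ((x * x' : X.fiberProd B).1.1 : TrivSqZeroExt C L).snd =
        (x.1.1 : TrivSqZeroExt C L).fst • (x'.1.1 : TrivSqZeroExt C L).snd +
          (x'.1.1 : TrivSqZeroExt C L).fst • (x.1.1 : TrivSqZeroExt C L).snd := by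
      have key : ∀ t t' : TrivSqZeroExt C L, (t * t').snd = t.fst • t'.snd + t'.fst • t.snd :=
        fun t t' => by rw [TrivSqZeroExt.snd_mul, op_smul_eq_smul]
      exact key _ _
    have e00 : (x * x' : X.fiberProd B).1.2 = x.1.2 * x'.1.2 := rfl
    simp only [ψ0]
    rw [e0, e00, hmem x, hmem x', algebraMap_smul, algebraMap_smul, map_mul, map_add]
    have e1 : Y.incl (x.1.2 • (x'.1.1 : TrivSqZeroExt C L).snd) =
        σ x.1.2 * Y.incl (x'.1.1 : TrivSqZeroExt C L).snd := by
      rw [Y.isExtension.mul_incl, hσ]
    have e2 : Y.incl (x'.1.2 • (x.1.1 : TrivSqZeroExt C L).snd) =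
        σ x'.1.2 * Y.incl (x.1.1 : TrivSqZeroExt C L).snd := by
      rw [Y.isExtension.mul_incl, hσ]
    rw [e1, e2]
    have e3 : Y.incl (x.1.1 : TrivSqZeroExt C L).snd * Y.incl (x'.1.1 : TrivSqZeroExt C L).snd = 0 :=
      incl_mul_incl Y _ _
    linear_combination (-1 : Y.E) * e3
  have hψadd : ∀ x x' : X.fiberProd B, ψ0 (x + x') = ψ0 x + ψ0 x' := by
    intro x x'
    have e0 : ((x + x' : X.fiberProd B).1.1 : TrivSqZeroExt C L).snd =
        (x.1.1 : TrivSqZeroExt C L).snd + (x'.1.1 : TrivSqZeroExt C L).snd := rfl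
    have e00 : (x + x' : X.fiberProd B).1.2 = x.1.2 + x'.1.2 := rfl
    simp only [ψ0]
    rw [e0, e00, map_add, map_add]
    ring
  have hψone : ψ0 1 = 1 := by
    have e0 : ((1 : X.fiberProd B).1.1 : TrivSqZeroExt C L).snd = 0 := rfl
    have e00 : (1 : X.fiberProd B).1.2 = 1 := rfl
    simp only [ψ0]
    rw [e0, e00, map_one, map_zero, add_zero]
  have hψzero : ψ0 0 = 0 := by
    have e0 : ((0 : X.fiberProd B).1.1 : TrivSqZeroExt C L).snd = 0 := rfl
    have e00 : (0 : X.fiberProd B).1.2 = 0 := rfl
    simp only [ψ0]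
    rw [e0, e00, map_zero, map_zero, add_zero]
  have hψcomm : ∀ a : A, ψ0 (algebraMap A (X.fiberProd B) a) = algebraMap A Y.E a := by
    intro a
    have e0 : ((algebraMap A (X.fiberProd B) a).1.1 : TrivSqZeroExt C L).snd = D a := by
      change ((TrivSqZeroExt.inl (algebraMap A C a) + TrivSqZeroExt.inr (D a) :
        TrivSqZeroExt C L)).snd = D a
      simp
    have e00 : (algebraMap A (X.fiberProd B) a).1.2 = algebraMap A B a := rfl
    simp only [ψ0]
    rw [e0, e00, hD]
    ring
  let ψ : X.fiberProd B →ₐ[A] Y.E :=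
    { toFun := ψ0
      map_one' := hψone
      map_mul' := hψmul
      map_zero' := hψzero
      map_add' := hψadd
      commutes' := hψcomm }
  have hψproj : ∀ x : X.fiberProd B, Y.proj (ψ x) = x.1.2 := by
    intro x
    change Y.proj (σ x.1.2 + Y.incl (x.1.1 : TrivSqZeroExt C L).snd) = x.1.2
    rw [map_add, hσ, proj_incl, add_zero]
  have hbij : Function.Bijective ψ := by
    constructor
    · rw [injective_iff_map_eq_zero]
      intro x hx
      have h1 : x.1.2 = 0 := by
        have := hψproj x
        rw [hx, map_zero] at this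
        exact this.symm
      have h2 : Y.incl (x.1.1 : TrivSqZeroExt C L).snd = 0 := by
        have : σ x.1.2 + Y.incl (x.1.1 : TrivSqZeroExt C L).snd = 0 := hx
        rw [h1, map_zero, zero_add] at this
        exact this
      have h3 : (x.1.1 : TrivSqZeroExt C L).snd = 0 :=
        Y.isExtension.incl_injective (h2.trans (map_zero _).symm)
      have h4 : (x.1.1 : TrivSqZeroExt C L).fst = 0 := by rw [hmem x, h1, map_zero]
      apply Subtype.ext
      apply Prod.ext
      · exact TrivSqZeroExt.ext h4 h3
      · exact h1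
    · intro y
      have h0 : Y.proj (y - σ (Y.proj y)) = 0 := by rw [map_sub, hσ, sub_self]
      obtain ⟨z, hz⟩ := (Y.isExtension.exact _).1 h0
      let t : X.E := (TrivSqZeroExt.inl (algebraMap B C (Y.proj y)) + TrivSqZeroExt.inr z :
        TrivSqZeroExt C L)
      have hmem' : ((t, Y.proj y) : X.E × B) ∈ X.fiberProd B := by
        change _ ∈ AlgHom.equalizer _ _
        rw [AlgHom.mem_equalizer]
        change (TrivSqZeroExt.inl (algebraMap B C (Y.proj y)) + TrivSqZeroExt.inr z :
          TrivSqZeroExt C L).fst = algebraMap B C (Y.proj y)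
        simp
      refine ⟨⟨(t, Y.proj y), hmem'⟩, ?_⟩
      change σ (Y.proj y) + Y.incl (TrivSqZeroExt.inl (algebraMap B C (Y.proj y)) +
        TrivSqZeroExt.inr z : TrivSqZeroExt C L).snd = y
      simp only [TrivSqZeroExt.snd_add, TrivSqZeroExt.snd_inl, TrivSqZeroExt.snd_inr, zero_add]
      rw [hz]; ring
  exact
    { toAlgEquiv := AlgEquiv.ofBijective ψ hbij
      proj_apply := hψproj
      apply_incl := fun z => by
        change σ (0 : B) + Y.incl (TrivSqZeroExt.inr z : TrivSqZeroExt C L).snd = Y.incl z
        simp }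

end Main

section Final

variable {Λ : Type u} {A : Type w} {B C L : Type v}
    [CommRing Λ] [CommRing A] [CommRing B] [CommRing C] [Algebra Λ A] [Algebra Λ B] [Algebra Λ C]
    [Algebra A B] [Algebra B C] [Algebra A C] [IsScalarTower Λ A B] [IsScalarTower Λ A C]
    [IsScalarTower A B C]
    [AddCommGroup L] [Module C L] [Module B L] [IsScalarTower B C L]

theorem main (Y : Exal.Ext A B L) (hY : Y.IsTrivialOver Λ) :
    ∃ X : Exal.Ext A C L, X.IsTrivialOver Λ ∧ Nonempty ((X.pullback B).Equiv Y) := by
  letI : Module A L := Module.compHom L (algebraMap A B)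
  haveI : IsScalarTower A B L := IsScalarTower.of_algebraMap_smul (fun r x => rfl)
  haveI : IsScalarTower A C L := by
    refine IsScalarTower.of_algebraMap_smul (fun r x => ?_)
    change algebraMap A C r • x = algebraMap A B r • x
    rw [IsScalarTower.algebraMap_apply A B C, algebraMap_smul]
  letI : Module Λ L := Module.compHom L (algebraMap Λ A)
  haveI : IsScalarTower Λ A L := IsScalarTower.of_algebraMap_smul (fun r x => rfl)
  haveI : IsScalarTower Λ B L := by
    refine IsScalarTower.of_algebraMap_smul (fun r x => ?_)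
    change algebraMap Λ B r • x = algebraMap A B (algebraMap Λ A r) • x
    rw [← IsScalarTower.algebraMap_apply Λ A B]
  exact main_aux Y hY

end Final

end Groth.Agent.Lib.Helper24ExalSurj
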