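import Mathlib

set_option autoImplicit false

namespace Groth.Agent.Lib.Helper24FD

universe u v

open Submodule

section Der

variable {R : Type u} [CommRing R] {A : Type v} [CommRing A] [Algebra R A] (I : Ideal A)
  (δ : Derivation R A A)
  (hδ : ∀ n : ℕ, ∀ x ∈ (I ^ n • ⊤ : Submodule A A), δ x ∈ (I ^ n • ⊤ : Submodule A A))

/-- the map induced by `δ` on `A ⧸ I^n` -/
noncomputable def DQ (n : ℕ) :
    (A ⧸ (I ^ n • ⊤ : Submodule A A)) →ₗ[R] (A ⧸ (I ^ n • ⊤ : Submodule A A)) :=
  (Submodule.Quotient.restrictScalarsEquiv R (I ^ n • ⊤ : Submodule A A)).toLinearMap ∘ₗ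
    (Submodule.mapQ ((I ^ n • ⊤ : Submodule A A).restrictScalars R)
      ((I ^ n • ⊤ : Submodule A A).restrictScalars R)
      (δ : A →ₗ[R] A) (fun x hx => hδ n x hx)) ∘ₗ
    (Submodule.Quotient.restrictScalarsEquiv R (I ^ n • ⊤ : Submodule A A)).symm.toLinearMap

theorem DQ_mk (n : ℕ) (x : A) :
    DQ I δ hδ n (Submodule.Quotient.mk x) = Submodule.Quotient.mk (δ x) := rfl

theorem transition_DQ {m n : ℕ} (hmn : m ≤ n) (y : A ⧸ (I ^ n • ⊤ : Submodule A A)) :
    AdicCompletion.transitionMap I A hmn (DQ I δ hδ n y) =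
      DQ I δ hδ m (AdicCompletion.transitionMap I A hmn y) := by
  induction y using Submodule.Quotient.induction_on with
  | H x => rfl

/-- the derivation induced on the completion, as an `R`-linear map -/
noncomputable def Dhat : AdicCompletion I A →ₗ[R] AdicCompletion I A where
  toFun x := ⟨fun n => DQ I δ hδ n (x.val n), fun {m n} hmn => by
    rw [transition_DQ, x.property hmn]⟩
  map_add' x y := by
    apply AdicCompletion.ext
    intro n
    change DQ I δ hδ n ((x + y).val n) = DQ I δ hδ n (x.val n) + DQ I δ hδ n (y.val n)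
    rw [AdicCompletion.val_add_apply, map_add]
  map_smul' s x := by
    apply AdicCompletion.ext
    intro n
    change DQ I δ hδ n ((s • x).val n) = s • DQ I δ hδ n (x.val n)
    rw [AdicCompletion.val_smul_apply, map_smul]

theorem Dhat_val (x : AdicCompletion I A) (n : ℕ) :
    (Dhat I δ hδ x).val n = DQ I δ hδ n (x.val n) := rfl

theorem Dhat_of (f : A) : Dhat I δ hδ (AdicCompletion.of I A f) = AdicCompletion.of I A (δ f) := by
  apply AdicCompletion.ext
  intro n
  rfl

theorem DQ_mul (n : ℕ) (y z : A ⧸ (I ^ n • ⊤ : Submodule A A)) :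
    DQ I δ hδ n (y * z) = y * DQ I δ hδ n z + z * DQ I δ hδ n y := by
  induction y using Submodule.Quotient.induction_on with
  | H a =>
  induction z using Submodule.Quotient.induction_on with
  | H b =>
  change DQ I δ hδ n (Submodule.Quotient.mk (a * b)) = _
  rw [DQ_mk, DQ_mk, DQ_mk, Derivation.leibniz]
  rfl

theorem Dhat_mul (x y : AdicCompletion I A) :
    Dhat I δ hδ (x * y) = x * Dhat I δ hδ y + y * Dhat I δ hδ x := by
  apply AdicCompletion.ext
  intro n
  rw [Dhat_val, AdicCompletion.val_mul, AdicCompletion.val_add_apply, AdicCompletion.val_mul,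
    AdicCompletion.val_mul, Dhat_val, Dhat_val]
  exact DQ_mul I δ hδ n _ _

end Der

end Groth.Agent.Lib.Helper24FD
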