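import Mathlib
import Groth.Agent.Lib.Helper24FDa

set_option autoImplicit false

namespace Groth.Agent.Lib.Helper24FD

universe u

open MvPolynomial

section Setting

variable {R : Type u} [CommRing R] (t : R) (r : ℕ)

/-- the ideal `(t)` of the polynomial ring -/
noncomputable abbrev IA : Ideal (MvPolynomial (Fin r) R) := Ideal.span {C t}

/-- the ring of restricted power series -/
abbrev At : Type u := AdicCompletion (IA t r) (MvPolynomial (Fin r) R)

variable {r}

theorem mem_IA_pow_smul_top (n : ℕ) (x : MvPolynomial (Fin r) R) :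
    x ∈ (IA t r ^ n • ⊤ : Submodule (MvPolynomial (Fin r) R) (MvPolynomial (Fin r) R)) ↔
      ∃ y, x = C t ^ n * y := by
  rw [smul_eq_mul, Ideal.mul_top, Ideal.span_singleton_pow, Ideal.mem_span_singleton']
  constructor
  · rintro ⟨y, rfl⟩; exact ⟨y, mul_comm _ _⟩
  · rintro ⟨y, rfl⟩; exact ⟨y, mul_comm _ _⟩

theorem pderiv_mem (i : Fin r) (n : ℕ) (x : MvPolynomial (Fin r) R)
    (hx : x ∈ (IA t r ^ n • ⊤ : Submodule (MvPolynomial (Fin r) R) (MvPolynomial (Fin r) R))) :
    pderiv i x ∈ (IA t r ^ n • ⊤ : Submodule (MvPolynomial (Fin r) R) (MvPolynomial (Fin r) R)) := by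
  rw [mem_IA_pow_smul_top] at hx ⊢
  obtain ⟨y, rfl⟩ := hx
  refine ⟨pderiv i y, ?_⟩
  rw [Derivation.leibniz, ← map_pow, pderiv_C, smul_zero, add_zero, smul_eq_mul]

/-- the partial derivatives on restricted power series -/
noncomputable def Dt (i : Fin r) : At t r →ₗ[R] At t r :=
  Dhat (IA t r) (pderiv i) (fun n x hx => pderiv_mem t i n x hx)

/-- the canonical map from polynomials -/
noncomputable abbrev ofA : MvPolynomial (Fin r) R →+* At t r :=
  algebraMap (MvPolynomial (Fin r) R) (At t r)

theorem ofA_apply (f : MvPolynomial (Fin r) R) :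
    ofA t f = AdicCompletion.of (IA t r) (MvPolynomial (Fin r) R) f := rfl

theorem Dt_ofA (i : Fin r) (f : MvPolynomial (Fin r) R) :
    Dt t i (ofA t f) = ofA t (pderiv i f) :=
  Dhat_of _ _ _ f

theorem Dt_mul (i : Fin r) (x y : At t r) :
    Dt t i (x * y) = x * Dt t i y + y * Dt t i x :=
  Dhat_mul _ _ _ x y

/-- the image of `t` in the completion -/
noncomputable abbrev tt : At t r := algebraMap R (At t r) t

theorem tt_eq : (tt t : At t r) = ofA t (C t) := rfl

theorem Dt_tt_pow_mul (i : Fin r) (n : ℕ) (x : At t r) :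
    Dt t i (tt t ^ n * x) = tt t ^ n * Dt t i x := by
  have h1 : (tt t : At t r) ^ n * x = (t ^ n) • x := by
    rw [Algebra.smul_def, map_pow]
  rw [h1, map_smul, Algebra.smul_def, map_pow]

theorem IA_fg : (IA t r).FG := ⟨{C t}, by simp⟩

/-- polynomial approximation of restricted power series -/
theorem exists_approx (x : At t r) (n : ℕ) :
    ∃ (f : MvPolynomial (Fin r) R) (u : At t r), x = ofA t f + tt t ^ n * u := by
  obtain ⟨f, hf⟩ := Submodule.Quotient.mk_surjective _ (x.val n)
  have h1 : x - ofA t f ∈ LinearMap.ker (AdicCompletion.eval (IA t r) (MvPolynomial (Fin r) R) n) := by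
    rw [LinearMap.mem_ker, map_sub, AdicCompletion.eval_apply, ofA_apply, AdicCompletion.eval_of,
      ← hf]
    exact sub_self _
  rw [← AdicCompletion.pow_smul_top_eq_ker_eval (IA_fg t), Ideal.span_singleton_pow,
    Submodule.ideal_span_singleton_smul] at h1
  obtain ⟨u, -, hu⟩ := (Submodule.mem_smul_pointwise_iff_exists _ _ _).mp h1
  refine ⟨f, u, ?_⟩
  have h2 : (C t ^ n : MvPolynomial (Fin r) R) • u = tt t ^ n * u := by
    rw [Algebra.smul_def, map_pow, tt_eq]
  rw [← h2, hu]
  ring

/-- injectivity modulo `t^n` -/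
theorem mem_of_ofA_eq (f : MvPolynomial (Fin r) R) (n : ℕ) (u : At t r)
    (h : ofA t f = tt t ^ n * u) : ∃ y, f = C t ^ n * y := by
  have h1 : (ofA t f).val n = 0 := by
    rw [h]
    have h2 : tt t ^ n * u = (C t ^ n : MvPolynomial (Fin r) R) • u := by
      rw [Algebra.smul_def, map_pow, tt_eq]
    rw [h2, AdicCompletion.val_smul_apply]
    induction u.val n using Submodule.Quotient.induction_on with
    | H y =>
      rw [← Submodule.Quotient.mk_smul, Submodule.Quotient.mk_eq_zero, mem_IA_pow_smul_top]
      exact ⟨y, rfl⟩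
  rw [ofA_apply, AdicCompletion.of_apply, Submodule.mkQ_apply, Submodule.Quotient.mk_eq_zero,
    mem_IA_pow_smul_top] at h1
  exact h1

end Setting

section Chain

variable {R : Type u} [CommRing R] {r : ℕ} {B : Type u} [CommRing B] [Algebra R B]
  {M : Type u} [AddCommGroup M] [Module R M] [Module B M] [IsScalarTower R B M]

/-- the chain rule for polynomial expressions -/
theorem chain_rule (d : Derivation R B M) (τ : Fin r → B) (f : MvPolynomial (Fin r) R) :
    d (aeval τ f) = ∑ i, aeval τ (pderiv i f) • d (τ i) := by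
  induction f using MvPolynomial.induction_on with
  | C s => simp
  | add p q hp hq =>
    rw [map_add, map_add, hp, hq, ← Finset.sum_add_distrib]
    apply Finset.sum_congr rfl
    intro i _
    rw [map_add, map_add, add_smul]
  | mul_X p j hp =>
    rw [map_mul, aeval_X, Derivation.leibniz, hp, Finset.smul_sum]
    have h1 : ∀ i, aeval τ (pderiv i (p * X j)) • d (τ i) =
        τ j • (aeval τ (pderiv i p) • d (τ i)) + (if i = j then aeval τ p • d (τ i) else 0) := by
      intro i
      rw [Derivation.leibniz, pderiv_X, smul_eq_mul, smul_eq_mul, map_add, map_mul, map_mul,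
        aeval_X, add_smul]
      by_cases hij : i = j
      · subst hij
        simp [mul_smul, add_comm, mul_comm]
      · have : (Pi.single i 1 : Fin r → ℕ) j = 0 := by
          simp [Pi.single_apply, Ne.symm hij]
        simp [hij, this, mul_smul, Ne.symm hij]
    rw [Finset.sum_congr rfl (fun i _ => h1 i), Finset.sum_add_distrib, Finset.sum_ite_eq']
    simp [add_comm]

end Chain

end Groth.Agent.Lib.Helper24FD
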