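import Mathlib
import Groth.Agent.Lib.Helper24FDb

set_option autoImplicit false

namespace Groth.Agent.Lib.Helper24FD

universe u

open MvPolynomial KaehlerDifferential

section Pres

variable {R : Type u} [CommRing R] (t : R) {r c : ℕ} (a : Fin c → At t r)
  {B : Type u} [CommRing B] [Algebra R B] (ψ : At t r →ₐ[R] B)

/-- the images of the variables in `B` -/
noncomputable def tau (i : Fin r) : B := ψ (ofA t (X i))

/-- the rows of the Jacobian matrix over `B` -/
noncomputable def Jrow (j : Fin c) : Fin r → B := fun i => ψ (Dt t i (a j))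

theorem psi_ofA (f : MvPolynomial (Fin r) R) : ψ (ofA t f) = aeval (tau t ψ) f := by
  have h : (ψ.toRingHom.comp (ofA t)) = (aeval (tau t ψ) : MvPolynomial (Fin r) R →ₐ[R] B).toRingHom := by
    apply MvPolynomial.ringHom_ext
    · intro s
      have h1 : ofA t (C s) = algebraMap R (At t r) s := rfl
      change ψ (ofA t (C s)) = aeval (tau t ψ) (C s)
      rw [h1, AlgHom.commutes, aeval_C]
    · intro i
      change ψ (ofA t (X i)) = aeval (tau t ψ) (X i)
      rw [aeval_X]
      rfl
  exact RingHom.congr_fun h f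

theorem psi_tt : ψ (tt t) = algebraMap R B t := ψ.commutes t

theorem D_psi_ofA (f : MvPolynomial (Fin r) R) :
    D R B (ψ (ofA t f)) = ∑ i, ψ (ofA t (pderiv i f)) • D R B (tau t ψ i) := by
  rw [psi_ofA, chain_rule (D R B) (tau t ψ) f]
  apply Finset.sum_congr rfl
  intro i _
  rw [psi_ofA]

theorem D_pow_mul (n : ℕ) (b : B) :
    D R B (algebraMap R B t ^ n * b) = algebraMap R B t ^ n • D R B b := by
  rw [← map_pow, Derivation.leibniz, Derivation.map_algebraMap, smul_zero, add_zero]

variable (hker : RingHom.ker ψ.toRingHom = Ideal.span (Set.range a))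

include hker in
theorem psi_a (j : Fin c) : ψ (a j) = 0 := by
  have : a j ∈ RingHom.ker ψ.toRingHom := by
    rw [hker]; exact Ideal.subset_span ⟨j, rfl⟩
  exact this

include hker in
/-- the rows of the Jacobian are relations modulo every power of `t` -/
theorem Jrow_rel (n : ℕ) (j : Fin c) :
    ∑ i, Jrow t a ψ j i • D R B (tau t ψ i) ∈
      (Ideal.span {algebraMap R B t} ^ n • ⊤ : Submodule B Ω[B⁄R]) := by
  obtain ⟨f, u, hfu⟩ := exists_approx t (a j) n
  have h0 : ψ (ofA t f) = - (algebraMap R B t ^ n * ψ u) := by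
    have h1 := psi_a t a ψ hker j
    rw [hfu, map_add, map_mul, map_pow, psi_tt] at h1
    exact eq_neg_of_add_eq_zero_left h1
  have h2 : ∀ i, Jrow t a ψ j i = ψ (ofA t (pderiv i f)) + algebraMap R B t ^ n * ψ (Dt t i u) := by
    intro i
    unfold Jrow
    rw [hfu, map_add, Dt_ofA, Dt_tt_pow_mul, map_add, map_mul, map_pow, psi_tt]
  have h3 : ∑ i, Jrow t a ψ j i • D R B (tau t ψ i) =
      algebraMap R B t ^ n • (- D R B (ψ u) + ∑ i, ψ (Dt t i u) • D R B (tau t ψ i)) := by
    have h4 := D_psi_ofA t ψ f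
    rw [h0, map_neg, D_pow_mul] at h4
    rw [smul_add, smul_neg, h4, Finset.smul_sum, ← Finset.sum_add_distrib]
    apply Finset.sum_congr rfl
    intro i _
    rw [h2 i, add_smul, mul_smul]
  rw [h3]
  exact Submodule.smul_mem_smul (Ideal.pow_mem_pow (Ideal.mem_span_singleton_self _) n)
    Submodule.mem_top

variable (hψ : Function.Surjective ψ)

include hker hψ in
/-- every relation modulo `t^n` comes from the Jacobian rows, modulo `t^n` -/
theorem exists_of_mem (n : ℕ) (z : Fin r → B)
    (hz : ∑ i, z i • D R B (tau t ψ i) ∈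
      (Ideal.span {algebraMap R B t} ^ n • ⊤ : Submodule B Ω[B⁄R])) :
    ∃ (v : Fin c → B) (w : Fin r → B),
      ∀ i, z i = ∑ j, v j * Jrow t a ψ j i + algebraMap R B t ^ n * w i := by
  classical
  let Bn := B ⧸ Ideal.span {algebraMap R B t ^ n}
  let mk : B →ₐ[R] Bn := Ideal.Quotient.mkₐ R _
  have hmk0 : ∀ b, mk (algebraMap R B t ^ n * b) = 0 := fun b =>
    Ideal.Quotient.eq_zero_iff_mem.mpr (Ideal.mul_mem_right _ _ (Ideal.mem_span_singleton_self _))
  have hsurj : Function.Surjective (aeval (R := R) (fun i => mk (tau t ψ i))) := by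
    intro y
    obtain ⟨b, rfl⟩ := Ideal.Quotient.mkₐ_surjective R _ y
    obtain ⟨x, rfl⟩ := hψ b
    obtain ⟨f, u, rfl⟩ := exists_approx t x n
    refine ⟨f, ?_⟩
    rw [← comp_aeval_apply, ← psi_ofA, map_add, map_mul, map_pow, psi_tt, map_add]
    change _ = _ + mk (algebraMap R B t ^ n * ψ u)
    rw [hmk0, add_zero]
  let P : Algebra.Generators R Bn (Fin r) := Algebra.Generators.ofSurjective _ hsurj
  let E := P.toExtension
  have hkill : ∀ x ∈ (Ideal.span {algebraMap R B t} ^ n • ⊤ : Submodule B Ω[B⁄R]),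
      KaehlerDifferential.map R R B Bn x = 0 := by
    intro x hx
    refine Submodule.smul_induction_on hx ?_ ?_
    · intro s hs m _
      rw [map_smul]
      rw [Ideal.span_singleton_pow] at hs
      have h0 : algebraMap B Bn s = 0 := Ideal.Quotient.eq_zero_iff_mem.mpr hs
      rw [← algebraMap_smul Bn s, h0, zero_smul]
    · intro x y hx hy
      rw [map_add, hx, hy, add_zero]
  have h1 : ∑ i, mk (z i) • D R Bn (mk (tau t ψ i)) = 0 := by
    have := hkill _ hz
    rw [map_sum] at this
    rw [← this]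
    apply Finset.sum_congr rfl
    intro i _
    rw [map_smul, KaehlerDifferential.map_D, ← algebraMap_smul Bn (z i)]
    rfl
  let y : E.CotangentSpace := ∑ i, mk (z i) • P.cotangentSpaceBasis i
  have h2 : E.toKaehler y = 0 := by
    rw [map_sum, ← h1]
    apply Finset.sum_congr rfl
    intro i _
    rw [map_smul]
    congr 1
    exact Algebra.Generators.toKaehler_cotangentSpaceBasis (P := P) i
  obtain ⟨y', hy'⟩ := (E.exact_cotangentComplex_toKaehler y).mp h2
  obtain ⟨F, rfl⟩ := Algebra.Extension.Cotangent.mk_surjective y'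
  let F' : MvPolynomial (Fin r) R := F.val
  have hF' : algebraMap P.Ring Bn F' = 0 := F.2
  have h3 : ∀ i, mk (z i) = aeval P.val (pderiv i F') := by
    intro i
    have h4 : P.cotangentSpaceBasis.repr (E.cotangentComplex (Algebra.Extension.Cotangent.mk F)) i =
        aeval P.val (pderiv i F') := by
      rw [Algebra.Extension.cotangentComplex_mk]
      exact P.cotangentSpaceBasis_repr_one_tmul F' i
    rw [← h4, hy']
    simp only [y, map_sum, map_smul, Module.Basis.repr_self, Finsupp.coe_finset_sum,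
      Finsupp.coe_smul, Finset.sum_apply, Pi.smul_apply, Finsupp.single_apply, smul_eq_mul,
      mul_ite, mul_one, mul_zero, Finset.sum_ite_eq', Finset.mem_univ, if_true]
  have h5 : ∀ g : MvPolynomial (Fin r) R, aeval P.val g = mk (ψ (ofA t g)) := by
    intro g
    rw [psi_ofA, comp_aeval_apply]
    rfl
  -- the element F lies in the kernel
  have h6 : mk (ψ (ofA t F')) = 0 := by
    rw [← h5, ← P.algebraMap_apply]
    exact hF'
  obtain ⟨b', hb'⟩ := Ideal.mem_span_singleton'.mp (Ideal.Quotient.eq_zero_iff_mem.mp h6)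
  obtain ⟨u', rfl⟩ := hψ b'
  have h7 : ofA t F' - tt t ^ n * u' ∈ Ideal.span (Set.range a) := by
    rw [← hker, RingHom.mem_ker]
    change ψ (ofA t F' - tt t ^ n * u') = 0
    rw [map_sub, map_mul, map_pow, psi_tt, ← hb']
    ring
  obtain ⟨g, hg⟩ := (Ideal.mem_span_range_iff_exists_fun).mp h7
  have h8 : ∀ i, ψ (ofA t (pderiv i F')) =
      algebraMap R B t ^ n * ψ (Dt t i u') + ∑ j, ψ (g j) * Jrow t a ψ j i := by
    intro i
    have h9 : ofA t F' = tt t ^ n * u' + ∑ j, g j * a j := by
      rw [hg]; ring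
    have h10 : Dt t i (ofA t F') = tt t ^ n * Dt t i u' +
        ∑ j, (g j * Dt t i (a j) + a j * Dt t i (g j)) := by
      rw [h9, map_add, Dt_tt_pow_mul, map_sum]
      congr 1
      apply Finset.sum_congr rfl
      intro j _
      exact Dt_mul t i (g j) (a j)
    rw [Dt_ofA] at h10
    rw [h10, map_add, map_mul, map_pow, psi_tt, map_sum]
    congr 1
    apply Finset.sum_congr rfl
    intro j _
    rw [map_add, map_mul, map_mul, psi_a t a ψ hker, zero_mul, add_zero]
    rfl
  have h11 : ∀ i, ∃ w, z i - ψ (ofA t (pderiv i F')) = algebraMap R B t ^ n * w := by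
    intro i
    have : mk (z i - ψ (ofA t (pderiv i F'))) = 0 := by
      rw [map_sub, h3 i, h5, sub_self]
    obtain ⟨w, hw⟩ := Ideal.mem_span_singleton'.mp (Ideal.Quotient.eq_zero_iff_mem.mp this)
    exact ⟨w, by rw [← hw, mul_comm]⟩
  choose w hw using h11
  refine ⟨fun j => ψ (g j), fun i => w i + ψ (Dt t i u'), fun i => ?_⟩
  have := hw i
  rw [h8 i] at this
  rw [mul_add, ← this]
  ring

end Pres

end Groth.Agent.Lib.Helper24FD
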