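import Mathlib
import Groth.Agent.Lib.Helper24FDc

set_option autoImplicit false

namespace Groth.Agent.Lib.Helper24FD

universe u

open MvPolynomial KaehlerDifferential

section PiComplete

variable {B : Type u} [CommRing B] (I : Ideal B) (r : ℕ)

theorem mem_smul_top_pi (n : ℕ) (x : Fin r → B) :
    x ∈ (I ^ n • ⊤ : Submodule B (Fin r → B)) ↔ ∀ i, x i ∈ I ^ n := by
  classical
  constructor
  · intro hx i
    refine Submodule.smul_induction_on hx ?_ ?_
    · intro s hs m _
      rw [Pi.smul_apply, smul_eq_mul]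
      exact Ideal.mul_mem_right _ _ hs
    · intro x y hx hy
      rw [Pi.add_apply]
      exact Ideal.add_mem _ hx hy
  · intro hx
    rw [pi_eq_sum_univ x]
    refine Submodule.sum_mem _ fun i _ => ?_
    exact Submodule.smul_mem_smul (hx i) Submodule.mem_top

instance isPrecomplete_pi [IsPrecomplete I B] : IsPrecomplete I (Fin r → B) where
  prec' f hf := by
    have h1 : ∀ i, ∃ L : B, ∀ n, (fun n => f n i) n ≡ L [SMOD (I ^ n • ⊤ : Submodule B B)] := by
      intro i
      apply IsPrecomplete.prec'
      intro m n hmn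
      have := hf hmn
      rw [SModEq.sub_mem] at this ⊢
      rw [mem_smul_top_pi] at this
      rw [smul_eq_mul, Ideal.mul_top]
      exact this i
    choose L hL using h1
    refine ⟨L, fun n => ?_⟩
    rw [SModEq.sub_mem, mem_smul_top_pi]
    intro i
    have := hL i n
    rw [SModEq.sub_mem, smul_eq_mul, Ideal.mul_top] at this
    exact this

end PiComplete

section Coker

variable {R : Type u} [CommRing R] (t : R) {r c : ℕ} (a : Fin c → At t r)
  {B : Type u} [CommRing B] [Algebra R B] (ψ : At t r →ₐ[R] B)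

/-- the Jacobian map `B^c → B^r` -/
noncomputable def sig : (Fin c → B) →ₗ[B] (Fin r → B) :=
  Fintype.linearCombination B (Jrow t a ψ)

theorem sig_apply (v : Fin c → B) (i : Fin r) :
    sig t a ψ v i = ∑ j, v j * Jrow t a ψ j i := by
  simp [sig, Fintype.linearCombination_apply, Finset.sum_apply]

/-- the map `B^r → Ω_{B/R}` -/
noncomputable def omg : (Fin r → B) →ₗ[B] Ω[B⁄R] :=
  Fintype.linearCombination B (fun i => D R B (tau t ψ i))

theorem omg_apply (z : Fin r → B) : omg t ψ z = ∑ i, z i • D R B (tau t ψ i) := by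
  simp [omg, Fintype.linearCombination_apply]

/-- the map `B^r → Ω̂_{B/R}` -/
noncomputable def qq :
    (Fin r → B) →ₗ[B] AdicCompletion (Ideal.span {algebraMap R B t}) Ω[B⁄R] :=
  (AdicCompletion.of (Ideal.span {algebraMap R B t}) Ω[B⁄R]) ∘ₗ omg t ψ

theorem qq_eq_zero_iff (z : Fin r → B) :
    qq t ψ z = 0 ↔ ∀ n, omg t ψ z ∈
      (Ideal.span {algebraMap R B t} ^ n • ⊤ : Submodule B Ω[B⁄R]) := by
  constructor
  · intro h n
    have := congrArg (fun y => y.val n) h
    simp only [qq, LinearMap.comp_apply, AdicCompletion.of_apply, AdicCompletion.val_zero,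
      Pi.zero_apply, Submodule.mkQ_apply, Submodule.Quotient.mk_eq_zero] at this
    exact this
  · intro h
    apply AdicCompletion.ext
    intro n
    simp only [qq, LinearMap.comp_apply, AdicCompletion.of_apply, AdicCompletion.val_zero,
      Pi.zero_apply, Submodule.mkQ_apply, Submodule.Quotient.mk_eq_zero]
    exact h n

variable (hker : RingHom.ker ψ.toRingHom = Ideal.span (Set.range a))

include hker in
theorem qq_sig (v : Fin c → B) : qq t ψ (sig t a ψ v) = 0 := by
  rw [qq_eq_zero_iff]
  intro n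
  have h1 : omg t ψ (sig t a ψ v) = ∑ j, v j • ∑ i, Jrow t a ψ j i • D R B (tau t ψ i) := by
    rw [omg_apply]
    simp only [sig_apply, Finset.sum_smul, Finset.smul_sum, mul_smul]
    rw [Finset.sum_comm]
  rw [h1]
  refine Submodule.sum_mem _ fun j _ => ?_
  exact Submodule.smul_mem _ _ (Jrow_rel t a ψ hker n j)

variable (hψ : Function.Surjective ψ)

include hker hψ in
theorem ker_qq [IsNoetherianRing B] [IsAdicComplete (Ideal.span {algebraMap R B t}) B] :
    LinearMap.ker (qq t ψ) = LinearMap.range (sig t a ψ) := by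
  apply le_antisymm
  · intro z hz
    rw [LinearMap.mem_ker, qq_eq_zero_iff] at hz
    have hjac : Ideal.span {algebraMap R B t} ≤ Ideal.jacobson ⊥ :=
      IsAdicComplete.le_jacobson_bot _
    have hH : IsHausdorff (Ideal.span {algebraMap R B t})
        ((Fin r → B) ⧸ LinearMap.range (sig t a ψ)) :=
      IsHausdorff.of_le_jacobson _ _ hjac
    have h0 : (Submodule.Quotient.mk z : (Fin r → B) ⧸ LinearMap.range (sig t a ψ)) = 0 := by
      apply hH.haus
      intro n
      rw [SModEq.zero]
      have h1 := hz n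
      rw [omg_apply] at h1
      obtain ⟨v, w, hvw⟩ := exists_of_mem t a ψ hker hψ n z h1
      have h2 : z = sig t a ψ v + algebraMap R B t ^ n • w := by
        funext i
        rw [Pi.add_apply, sig_apply, Pi.smul_apply, smul_eq_mul]
        exact hvw i
      rw [h2, Submodule.Quotient.mk_add]
      have h3 : (Submodule.Quotient.mk (sig t a ψ v) :
          (Fin r → B) ⧸ LinearMap.range (sig t a ψ)) = 0 := by
        rw [Submodule.Quotient.mk_eq_zero]
        exact ⟨v, rfl⟩
      rw [h3, zero_add, Submodule.Quotient.mk_smul]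
      exact Submodule.smul_mem_smul (Ideal.pow_mem_pow (Ideal.mem_span_singleton_self _) n)
        Submodule.mem_top
    rwa [Submodule.Quotient.mk_eq_zero] at h0
  · rintro _ ⟨v, rfl⟩
    exact qq_sig t a ψ hker v

include hψ in
theorem omg_sup : LinearMap.range (omg t ψ) ⊔
    (Ideal.span {algebraMap R B t} • ⊤ : Submodule B Ω[B⁄R]) = ⊤ := by
  rw [eq_top_iff]
  intro x₁ _
  have hx₁ : x₁ ∈ Submodule.span B (Set.range (D R B)) := by
    rw [KaehlerDifferential.span_range_derivation R B]; trivial
  refine (Submodule.span_le.mpr ?_) hx₁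
  rintro _ ⟨b, rfl⟩
  obtain ⟨x, rfl⟩ := hψ b
  obtain ⟨f, u, rfl⟩ := exists_approx t x 1
  rw [map_add, map_add, D_psi_ofA, map_mul, map_pow, psi_tt, D_pow_mul]
  apply Submodule.add_mem_sup
  · refine ⟨fun i => ψ (ofA t (pderiv i f)), ?_⟩
    rw [omg_apply]
  · rw [pow_one]
    exact Submodule.smul_mem_smul (Ideal.mem_span_singleton_self _) Submodule.mem_top

include hψ in
theorem qq_surjective [IsPrecomplete (Ideal.span {algebraMap R B t}) B] :
    Function.Surjective (qq t ψ) := by
  have hfg : (Ideal.span {algebraMap R B t}).FG := ⟨{algebraMap R B t}, by simp⟩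
  apply surjective_of_mkQ_comp_surjective (I := Ideal.span {algebraMap R B t})
  intro y'
  obtain ⟨y, rfl⟩ := Submodule.Quotient.mk_surjective _ y'
  obtain ⟨x₀, hx₀⟩ := Submodule.Quotient.mk_surjective _ (y.val 1)
  have h1 : x₀ ∈ LinearMap.range (omg t ψ) ⊔
      (Ideal.span {algebraMap R B t} • ⊤ : Submodule B Ω[B⁄R]) := by
    rw [omg_sup t ψ hψ]; trivial
  obtain ⟨_, ⟨z, rfl⟩, m, hm, rfl⟩ := Submodule.mem_sup.mp h1
  refine ⟨z, ?_⟩
  rw [LinearMap.comp_apply, Submodule.mkQ_apply]
  rw [Submodule.Quotient.eq]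
  have h2 : qq t ψ z - y ∈ LinearMap.ker
      (AdicCompletion.eval (Ideal.span {algebraMap R B t}) Ω[B⁄R] 1) := by
    rw [LinearMap.mem_ker, map_sub, AdicCompletion.eval_apply, AdicCompletion.eval_apply, ← hx₀]
    simp only [qq, LinearMap.comp_apply, AdicCompletion.of_apply, Submodule.mkQ_apply]
    rw [← Submodule.Quotient.mk_sub, Submodule.Quotient.mk_eq_zero]
    rw [sub_add_cancel_left, pow_one]
    exact Submodule.neg_mem _ hm
  rw [← AdicCompletion.pow_smul_top_eq_ker_eval hfg, pow_one] at h2
  exact h2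

end Coker

end Groth.Agent.Lib.Helper24FD
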