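import Mathlib
import Groth.Agent.Lib.Helper24FDc

set_option autoImplicit false

namespace Groth.Agent.Lib.Helper24FD

universe u

open MvPolynomial

section Rho

variable (k : Type u) [Field k] (r : ℕ)

/-- reduction of coefficients modulo `t` -/
noncomputable def rho : MvPolynomial (Fin r) (PowerSeries k) →+* MvPolynomial (Fin r) k :=
  MvPolynomial.map (PowerSeries.constantCoeff (R := k))

variable {k r}

theorem rho_surjective : Function.Surjective (rho k r) :=
  MvPolynomial.map_surjective _ (fun x => ⟨PowerSeries.C x, by simp⟩)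

theorem rho_C (s : PowerSeries k) : rho k r (C s) = C (PowerSeries.constantCoeff s) := by
  simp [rho]

theorem rho_X (i : Fin r) : rho k r (X i) = X i := by
  simp [rho]

theorem rho_Ct : rho k r (C (PowerSeries.X : PowerSeries k)) = 0 := by
  rw [rho_C, PowerSeries.constantCoeff_X, map_zero]

theorem rho_eq_zero_iff (f : MvPolynomial (Fin r) (PowerSeries k)) :
    rho k r f = 0 ↔ ∃ y, f = C (PowerSeries.X : PowerSeries k) * y := by
  constructor
  · intro h
    have h1 : f ∈ RingHom.ker (rho k r) := h
    unfold rho at h1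
    rw [MvPolynomial.ker_map] at h1
    have h2 : RingHom.ker (PowerSeries.constantCoeff (R := k)) =
        Ideal.span {(PowerSeries.X : PowerSeries k)} := by
      ext s
      rw [RingHom.mem_ker, Ideal.mem_span_singleton, PowerSeries.X_dvd_iff]
    rw [h2, Ideal.map_span, Set.image_singleton, Ideal.mem_span_singleton] at h1
    obtain ⟨y, hy⟩ := h1
    exact ⟨y, hy⟩
  · rintro ⟨y, rfl⟩
    rw [map_mul, rho_Ct, zero_mul]

theorem pderiv_rho (i : Fin r) (f : MvPolynomial (Fin r) (PowerSeries k)) :
    pderiv i (rho k r f) = rho k r (pderiv i f) := by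
  unfold rho
  exact pderiv_map

theorem sub_C_constantCoeff (s : PowerSeries k) :
    ∃ s', s = PowerSeries.C (PowerSeries.constantCoeff s) + PowerSeries.X * s' := by
  have h : (PowerSeries.X : PowerSeries k) ∣ s - PowerSeries.C (PowerSeries.constantCoeff s) := by
    rw [PowerSeries.X_dvd_iff, map_sub, PowerSeries.constantCoeff_C, sub_self]
  obtain ⟨s', hs'⟩ := h
  exact ⟨s', by rw [← hs']; ring⟩

end Rho

section Phi

variable {k : Type u} [Field k] {r : ℕ}

local notation "tX" => (PowerSeries.X : PowerSeries k)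

/-- the reduction map from restricted power series to polynomials over `k` -/
noncomputable def Phi : At tX r →+* MvPolynomial (Fin r) k :=
  (Ideal.Quotient.lift (IA tX r ^ 1) (rho k r) (by
    intro x hx
    rw [pow_one, Ideal.mem_span_singleton] at hx
    obtain ⟨y, rfl⟩ := hx
    rw [map_mul, rho_Ct, zero_mul])).comp
    (AdicCompletion.evalₐ (IA tX r) 1).toRingHom

theorem Phi_ofA (f : MvPolynomial (Fin r) (PowerSeries k)) : Phi (ofA tX f) = rho k r f := by
  unfold Phi
  rw [RingHom.comp_apply]
  have : (AdicCompletion.evalₐ (IA tX r) 1).toRingHom (ofA tX f) = Ideal.Quotient.mk _ f := by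
    change AdicCompletion.evalₐ (IA tX r) 1 (AdicCompletion.of _ _ f) = _
    rw [AdicCompletion.evalₐ_of]
  rw [this, Ideal.Quotient.lift_mk]

theorem Phi_tt : Phi (tt tX : At tX r) = 0 := by
  rw [tt_eq, Phi_ofA, rho_Ct]

theorem Phi_surjective : Function.Surjective (Phi : At tX r → MvPolynomial (Fin r) k) := by
  intro g
  obtain ⟨f, rfl⟩ := rho_surjective g
  exact ⟨ofA tX f, Phi_ofA f⟩

theorem ker_Phi : RingHom.ker (Phi : At tX r →+* MvPolynomial (Fin r) k) =
    Ideal.span {(tt tX : At tX r) ^ 1} := by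
  ext x
  rw [RingHom.mem_ker, pow_one, Ideal.mem_span_singleton]
  constructor
  · intro h
    obtain ⟨f, u, rfl⟩ := exists_approx tX x 1
    rw [map_add, map_mul, pow_one, Phi_tt, zero_mul, add_zero, Phi_ofA, rho_eq_zero_iff] at h
    obtain ⟨y, rfl⟩ := h
    refine ⟨ofA tX y + u, ?_⟩
    rw [map_mul, ← tt_eq, pow_one]
    ring
  · rintro ⟨y, rfl⟩
    rw [map_mul, Phi_tt, zero_mul]

/-- the quotient by `t` is the polynomial ring over `k` -/
noncomputable def PhiEquiv :
    (At tX r ⧸ Ideal.span {(tt tX : At tX r) ^ 1}) ≃+* MvPolynomial (Fin r) k :=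
  (Ideal.quotEquivOfEq ker_Phi.symm).trans (RingHom.quotientKerEquivOfSurjective Phi_surjective)

theorem PhiEquiv_mk (x : At tX r) : PhiEquiv (Ideal.Quotient.mk _ x) = Phi x := rfl

end Phi

section Transport

variable {Q P : Type u} [CommRing Q] [CommRing P] (e : Q ≃+* P) {c : ℕ}

theorem isWeaklyRegular_ofFn_equiv (x : Fin c → Q)
    (h : RingTheory.Sequence.IsWeaklyRegular Q (List.ofFn x)) :
    RingTheory.Sequence.IsWeaklyRegular P (List.ofFn (fun j => e (x j))) := by
  refine (AddEquiv.isWeaklyRegular_congr (e := e.toAddEquiv) ?_).mp h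
  rw [List.forall₂_iff_get]
  refine ⟨by simp, ?_⟩
  intro i h1 h2 y
  simp only [List.get_eq_getElem, List.getElem_ofFn, smul_eq_mul]
  exact map_mul e _ _

end Transport

end Groth.Agent.Lib.Helper24FD
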