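import Mathlib
import Groth.Agent.Lib.Helper24FDe
import Groth.Agent.Lib.Helper24CIc

set_option autoImplicit false

namespace Groth.Agent.Lib.Helper24FD

universe u

open MvPolynomial Groth.Agent.Helper18Fitt Groth.Agent.Lib.Helper24CI

section Fibre

variable {k : Type u} [Field k] [PerfectField k] {r c : ℕ}


variable (a : Fin c → At (PowerSeries.X : PowerSeries k) r) {B : Type u} [CommRing B] [Algebra (PowerSeries k) B]
  (ψ : At (PowerSeries.X : PowerSeries k) r →ₐ[PowerSeries k] B) (hψ : Function.Surjective ψ)
  (hker : RingHom.ker ψ.toRingHom = Ideal.span (Set.range a))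

include hψ hker in
/-- injectivity of the Jacobian map on the closed fibre -/
theorem J0_injective [IsReduced (B ⧸ Ideal.span {algebraMap (PowerSeries k) B (PowerSeries.X : PowerSeries k)})]
    (hreg0 : RingTheory.Sequence.IsWeaklyRegular (At (PowerSeries.X : PowerSeries k) r ⧸ Ideal.span {(tt (PowerSeries.X : PowerSeries k) : At (PowerSeries.X : PowerSeries k) r) ^ 1})
      (List.ofFn (fun j => Ideal.Quotient.mk (Ideal.span {(tt (PowerSeries.X : PowerSeries k) : At (PowerSeries.X : PowerSeries k) r) ^ 1}) (a j))))
    (v : Fin c → B)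
    (hv : ∀ i, ∑ j, v j * Jrow (PowerSeries.X : PowerSeries k) a ψ j i ∈ Ideal.span {algebraMap (PowerSeries k) B (PowerSeries.X : PowerSeries k)}) :
    ∀ j, v j ∈ Ideal.span {algebraMap (PowerSeries k) B (PowerSeries.X : PowerSeries k)} := by
  classical
  let B0 := B ⧸ Ideal.span {algebraMap (PowerSeries k) B (PowerSeries.X : PowerSeries k)}
  letI algK : Algebra k B0 :=
    ((algebraMap (PowerSeries k) B0).comp (algebraMap k (PowerSeries k))).toAlgebra
  haveI : IsScalarTower k (PowerSeries k) B0 := IsScalarTower.of_algebraMap_eq' rfl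
  let mk0 : B →+* B0 := Ideal.Quotient.mk _
  have hmk0 : ∀ b, mk0 (algebraMap (PowerSeries k) B (PowerSeries.X : PowerSeries k) * b) = 0 := fun b =>
    Ideal.Quotient.eq_zero_iff_mem.mpr (Ideal.mul_mem_right _ _ (Ideal.mem_span_singleton_self _))
  choose fj uj hfu using fun j => exists_approx (PowerSeries.X : PowerSeries k) (a j) 1
  let ev0 : MvPolynomial (Fin r) k →ₐ[k] B0 := aeval (fun i => mk0 (tau (PowerSeries.X : PowerSeries k) ψ i))
  have key1 : ∀ f, ev0 (rho k r f) = mk0 (ψ (ofA (PowerSeries.X : PowerSeries k) f)) := by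
    have h : (ev0.toRingHom.comp (rho k r)) = mk0.comp (ψ.toRingHom.comp (ofA (PowerSeries.X : PowerSeries k))) := by
      apply MvPolynomial.ringHom_ext
      · intro s
        change ev0 (rho k r (C s)) = mk0 (ψ (ofA (PowerSeries.X : PowerSeries k) (C s)))
        have h1 : ofA (PowerSeries.X : PowerSeries k) (C s) = algebraMap (PowerSeries k) (At (PowerSeries.X : PowerSeries k) r) s := rfl
        rw [rho_C, h1, AlgHom.commutes]
        obtain ⟨s', hs'⟩ := sub_C_constantCoeff s
        have h2 : ev0 (C (PowerSeries.constantCoeff s)) =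
            mk0 (algebraMap (PowerSeries k) B (PowerSeries.C (PowerSeries.constantCoeff s))) := by
          rw [aeval_C]
          rfl
        rw [h2]
        conv_rhs => rw [hs', map_add, map_mul, map_add, hmk0, add_zero]
      · intro i
        change ev0 (rho k r (X i)) = mk0 (ψ (ofA (PowerSeries.X : PowerSeries k) (X i)))
        rw [rho_X, aeval_X]
        rfl
    intro f
    exact RingHom.congr_fun h f
  have hsurj0 : Function.Surjective ev0 := by
    intro y
    obtain ⟨b, rfl⟩ := Ideal.Quotient.mk_surjective y
    obtain ⟨x, rfl⟩ := hψ b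
    obtain ⟨f, u, rfl⟩ := exists_approx (PowerSeries.X : PowerSeries k) x 1
    refine ⟨rho k r f, ?_⟩
    rw [key1, map_add, map_mul, pow_one, psi_tt]
    change _ = mk0 (ψ (ofA (PowerSeries.X : PowerSeries k) f) + algebraMap (PowerSeries k) B (PowerSeries.X : PowerSeries k) * ψ u)
    rw [map_add, hmk0, add_zero]
  let G0 : Algebra.Generators k B0 (Fin r) :=
    Algebra.Generators.ofSurjective (fun i => mk0 (tau (PowerSeries.X : PowerSeries k) ψ i)) hsurj0
  let rel : Fin c → MvPolynomial (Fin r) k := fun j => rho k r (fj j)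
  have hG0 : ∀ g : MvPolynomial (Fin r) k, algebraMap G0.Ring B0 g = ev0 g := by
    intro g
    rw [G0.algebraMap_apply]
    rfl
  have hrel0 : ∀ j, ev0 (rel j) = 0 := by
    intro j
    change ev0 (rho k r (fj j)) = 0
    rw [key1]
    have h1 := psi_a (PowerSeries.X : PowerSeries k) a ψ hker j
    rw [hfu j, map_add, map_mul, pow_one, psi_tt] at h1
    have h2 : ψ (ofA (PowerSeries.X : PowerSeries k) (fj j)) = - (algebraMap (PowerSeries k) B (PowerSeries.X : PowerSeries k) * ψ (uj j)) :=
      eq_neg_of_add_eq_zero_left h1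
    rw [h2, map_neg, hmk0, neg_zero]
  have hrel_ker : Ideal.span (Set.range rel) = G0.ker := by
    apply le_antisymm
    · rw [Ideal.span_le]
      rintro _ ⟨j, rfl⟩
      change algebraMap G0.Ring B0 (rel j) = 0
      rw [hG0]
      exact hrel0 j
    · intro g hg
      have hg0 : ev0 g = 0 := by
        rw [← hG0]; exact hg
      obtain ⟨f, rfl⟩ := rho_surjective g
      rw [key1] at hg0
      obtain ⟨b', hb'⟩ := Ideal.mem_span_singleton'.mp (Ideal.Quotient.eq_zero_iff_mem.mp hg0)
      obtain ⟨u', rfl⟩ := hψ b'
      have h7 : ofA (PowerSeries.X : PowerSeries k) f - tt (PowerSeries.X : PowerSeries k) * u' ∈ Ideal.span (Set.range a) := by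
        rw [← hker, RingHom.mem_ker]
        change ψ (ofA (PowerSeries.X : PowerSeries k) f - tt (PowerSeries.X : PowerSeries k) * u') = 0
        rw [map_sub, map_mul, psi_tt, ← hb']
        ring
      obtain ⟨g', hg'⟩ := (Ideal.mem_span_range_iff_exists_fun).mp h7
      choose hj wj hhw using fun j => exists_approx (PowerSeries.X : PowerSeries k) (g' j) 1
      have hterm : ∀ j, g' j * a j = ofA (PowerSeries.X : PowerSeries k) (hj j * fj j) +
          tt (PowerSeries.X : PowerSeries k) *
            (g' j * uj j + wj j * ofA (PowerSeries.X : PowerSeries k) (fj j)) := by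
        intro j
        have hα := hfu j
        have hγ := hhw j
        rw [pow_one] at hα hγ
        have e1 : g' j * ofA (PowerSeries.X : PowerSeries k) (fj j) =
            ofA (PowerSeries.X : PowerSeries k) (hj j) * ofA (PowerSeries.X : PowerSeries k) (fj j) +
              tt (PowerSeries.X : PowerSeries k) * wj j * ofA (PowerSeries.X : PowerSeries k) (fj j) := by
          rw [hγ]; ring
        have e2 : g' j * a j = g' j * ofA (PowerSeries.X : PowerSeries k) (fj j) +
            tt (PowerSeries.X : PowerSeries k) * (g' j * uj j) := by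
          rw [hα]; ring
        rw [map_mul, e2, e1]
        ring
      have h8 : ofA (PowerSeries.X : PowerSeries k) (f - ∑ j, hj j * fj j) =
          tt (PowerSeries.X : PowerSeries k) ^ 1 *
            (u' + ∑ j, (g' j * uj j + wj j * ofA (PowerSeries.X : PowerSeries k) (fj j))) := by
        have h9 : ofA (PowerSeries.X : PowerSeries k) f =
            tt (PowerSeries.X : PowerSeries k) * u' + ∑ j, g' j * a j := by rw [hg']; ring
        rw [map_sub, h9, map_sum, Finset.sum_congr rfl (fun j _ => hterm j),
          Finset.sum_add_distrib, ← Finset.mul_sum, pow_one]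
        ring
      obtain ⟨y, hy⟩ := mem_of_ofA_eq (PowerSeries.X : PowerSeries k) _ 1 _ h8
      have h10 : rho k r f = ∑ j, rho k r (hj j) * rel j := by
        have := congrArg (rho k r) hy
        rw [map_sub, map_mul, pow_one, rho_Ct, zero_mul, sub_eq_zero, map_sum] at this
        rw [this]
        apply Finset.sum_congr rfl
        intro j _
        rw [map_mul]
      rw [h10]
      refine Ideal.sum_mem _ fun j _ => ?_
      exact Ideal.mul_mem_left _ _ (Ideal.subset_span ⟨j, rfl⟩)
  let pres0 : Algebra.Presentation k B0 (Fin r) (Fin c) :=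
    { toGenerators := G0
      relation := rel
      span_range_relation_eq_ker := hrel_ker }
  have hPhi : ∀ j, Phi (a j) = rel j := by
    intro j
    rw [hfu j, map_add, map_mul, pow_one, Phi_tt, zero_mul, add_zero, Phi_ofA]
  have hregP : RingTheory.Sequence.IsWeaklyRegular pres0.Ring (List.ofFn pres0.relation) := by
    have h1 := isWeaklyRegular_ofFn_equiv (PhiEquiv (k := k) (r := r)) _ hreg0
    have h2 : (fun j => PhiEquiv (Ideal.Quotient.mk (Ideal.span {(tt (PowerSeries.X : PowerSeries k) : At (PowerSeries.X : PowerSeries k) r) ^ 1}) (a j))) = rel := by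
      funext j
      rw [PhiEquiv_mk, hPhi]
    rw [h2] at h1
    exact h1
  have hjac : ∀ j i, jacRow pres0 j i = mk0 (Jrow (PowerSeries.X : PowerSeries k) a ψ j i) := by
    intro j i
    change algebraMap G0.Ring B0 (pderiv i (rel j)) = _
    rw [hG0]
    change ev0 (pderiv i (rho k r (fj j))) = _
    rw [pderiv_rho, key1]
    unfold Jrow
    conv_rhs => rw [hfu j, map_add, Dt_ofA, Dt_tt_pow_mul, map_add, map_mul, map_pow, psi_tt,
      pow_one]
    change _ = mk0 (ψ (ofA (PowerSeries.X : PowerSeries k) (pderiv i (fj j))) + algebraMap (PowerSeries k) B (PowerSeries.X : PowerSeries k) * ψ (Dt (PowerSeries.X : PowerSeries k) i (uj j)))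
    rw [map_add, hmk0, add_zero]
  have hfin := jac_injective pres0 hregP (fun j => mk0 (v j)) (by
    intro i
    have h1 : ∑ j, mk0 (v j) * jacRow pres0 j i = mk0 (∑ j, v j * Jrow (PowerSeries.X : PowerSeries k) a ψ j i) := by
      rw [map_sum]
      apply Finset.sum_congr rfl
      intro j _
      rw [map_mul, hjac]
    rw [h1]
    exact Ideal.Quotient.eq_zero_iff_mem.mpr (hv i))
  intro j
  have := congrFun hfin j
  exact Ideal.Quotient.eq_zero_iff_mem.mp this

end Fibre

end Groth.Agent.Lib.Helper24FD
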