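import Mathlib
import Groth.Agent.Lib.Helper24FDd
import Groth.Agent.Lib.Helper24FDf
import Groth.Agent.Lib.Helper24CIb
import Groth.Agent.Lib.Helper18Fitt30
import Groth.Prelude.Def_Fitting

set_option autoImplicit false

namespace Groth.Agent.Lib.Helper24FD

universe u

open MvPolynomial KaehlerDifferential Groth.Agent.Helper18Fitt Groth.Agent.Lib.Helper24CI
  CategoryTheory

section Inj

variable {k : Type u} [Field k] [PerfectField k] {r c : ℕ}

variable (a : Fin c → At (PowerSeries.X : PowerSeries k) r) {B : Type u} [CommRing B]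
  [Algebra (PowerSeries k) B]
  (ψ : At (PowerSeries.X : PowerSeries k) r →ₐ[PowerSeries k] B) (hψ : Function.Surjective ψ)
  (hker : RingHom.ker ψ.toRingHom = Ideal.span (Set.range a))

theorem pi_regular [Module.Flat (PowerSeries k) B] (n : ℕ) (b : B)
    (h : algebraMap (PowerSeries k) B (PowerSeries.X : PowerSeries k) ^ n * b = 0) : b = 0 := by
  have h1 : ((PowerSeries.X : PowerSeries k) ^ n) ∈ nonZeroDivisors (PowerSeries k) :=
    mem_nonZeroDivisors_of_ne_zero (pow_ne_zero _ PowerSeries.X_ne_zero)
  have h2 : IsSMulRegular B ((PowerSeries.X : PowerSeries k) ^ n) :=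
    Module.Flat.isSMulRegular_of_nonZeroDivisors h1
  apply h2
  change (PowerSeries.X : PowerSeries k) ^ n • b = (PowerSeries.X : PowerSeries k) ^ n • 0
  rw [smul_zero, Algebra.smul_def, map_pow]
  exact h

include hψ hker in
theorem sig_injective [Module.Flat (PowerSeries k) B]
    [IsHausdorff (Ideal.span {algebraMap (PowerSeries k) B (PowerSeries.X : PowerSeries k)}) B]
    [IsReduced (B ⧸ Ideal.span {algebraMap (PowerSeries k) B (PowerSeries.X : PowerSeries k)})]
    (hreg0 : RingTheory.Sequence.IsWeaklyRegular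
      (At (PowerSeries.X : PowerSeries k) r ⧸
        Ideal.span {(tt (PowerSeries.X : PowerSeries k) : At (PowerSeries.X : PowerSeries k) r) ^ 1})
      (List.ofFn (fun j => Ideal.Quotient.mk
        (Ideal.span {(tt (PowerSeries.X : PowerSeries k) : At (PowerSeries.X : PowerSeries k) r) ^ 1})
        (a j)))) :
    Function.Injective (sig (PowerSeries.X : PowerSeries k) a ψ) := by
  rw [injective_iff_map_eq_zero]
  intro v hv
  have key : ∀ n : ℕ, ∃ w : Fin c → B,
      v = algebraMap (PowerSeries k) B (PowerSeries.X : PowerSeries k) ^ n • w := by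
    intro n
    induction n with
    | zero => exact ⟨v, by rw [pow_zero, one_smul]⟩
    | succ n ih =>
      obtain ⟨w, hw⟩ := ih
      have h1 : sig (PowerSeries.X : PowerSeries k) a ψ w = 0 := by
        have h2 : algebraMap (PowerSeries k) B (PowerSeries.X : PowerSeries k) ^ n •
            sig (PowerSeries.X : PowerSeries k) a ψ w = 0 := by
          rw [← map_smul, ← hw, hv]
        funext i
        have h3 := congrFun h2 i
        rw [Pi.smul_apply, smul_eq_mul, Pi.zero_apply] at h3
        exact pi_regular n _ h3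
      have h4 := J0_injective a ψ hψ hker hreg0 w (by
        intro i
        rw [← sig_apply, h1]
        exact Ideal.zero_mem _)
      have h5 : ∀ j, ∃ w', w j = algebraMap (PowerSeries k) B (PowerSeries.X : PowerSeries k) * w' := by
        intro j
        obtain ⟨w', hw'⟩ := Ideal.mem_span_singleton'.mp (h4 j)
        exact ⟨w', by rw [← hw', mul_comm]⟩
      choose w' hw' using h5
      refine ⟨w', ?_⟩
      funext j
      rw [hw, Pi.smul_apply, Pi.smul_apply, smul_eq_mul, smul_eq_mul, hw' j, pow_succ]
      ring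
  funext j
  apply IsHausdorff.haus (I := Ideal.span
    {algebraMap (PowerSeries k) B (PowerSeries.X : PowerSeries k)}) inferInstance
  intro n
  rw [SModEq.zero, smul_eq_mul, Ideal.mul_top]
  obtain ⟨w, hw⟩ := key n
  rw [hw, Pi.smul_apply, smul_eq_mul]
  exact Ideal.mul_mem_right _ _ (Ideal.pow_mem_pow (Ideal.mem_span_singleton_self _) n)

end Inj

section Main

variable {k : Type u} [Field k] [PerfectField k] {r c : ℕ}

variable (a : Fin c → At (PowerSeries.X : PowerSeries k) r) {B : Type u} [CommRing B]
  [Algebra (PowerSeries k) B] [IsNoetherianRing B]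
  [IsAdicComplete (Ideal.span {algebraMap (PowerSeries k) B (PowerSeries.X : PowerSeries k)}) B]
  [Module.Flat (PowerSeries k) B]
  (ψ : At (PowerSeries.X : PowerSeries k) r →ₐ[PowerSeries k] B) (hψ : Function.Surjective ψ)
  (hker : RingHom.ker ψ.toRingHom = Ideal.span (Set.range a))
  [IsReduced (B ⧸ Ideal.span {algebraMap (PowerSeries k) B (PowerSeries.X : PowerSeries k)})]
  (hreg0 : RingTheory.Sequence.IsWeaklyRegular
      (At (PowerSeries.X : PowerSeries k) r ⧸
        Ideal.span {(tt (PowerSeries.X : PowerSeries k) : At (PowerSeries.X : PowerSeries k) r) ^ 1})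
      (List.ofFn (fun j => Ideal.Quotient.mk
        (Ideal.span {(tt (PowerSeries.X : PowerSeries k) : At (PowerSeries.X : PowerSeries k) r) ^ 1})
        (a j))))

/-- the completed module of differentials -/
abbrev OmHat (k : Type u) [Field k] (B : Type u) [CommRing B] [Algebra (PowerSeries k) B] : Type u :=
  AdicCompletion (Ideal.span {algebraMap (PowerSeries k) B (PowerSeries.X : PowerSeries k)})
    Ω[B⁄PowerSeries k]

include hψ hker hreg0 in
theorem structure_thm :
    Function.Injective (sig (PowerSeries.X : PowerSeries k) a ψ) ∧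
    Nonempty (((Fin r → B) ⧸ LinearMap.range (sig (PowerSeries.X : PowerSeries k) a ψ)) ≃ₗ[B]
      OmHat k B) ∧
    Nonempty (Abelian.Ext.{u} (ModuleCat.of B (OmHat k B)) (ModuleCat.of B B) 1 ≃ₗ[B]
      Module.Dual B (Fin c → B) ⧸
        LinearMap.range (sig (PowerSeries.X : PowerSeries k) a ψ).dualMap) := by
  have hinj := sig_injective a ψ hψ hker hreg0
  have hsurj := qq_surjective (PowerSeries.X : PowerSeries k) ψ hψ
  have hk := ker_qq (PowerSeries.X : PowerSeries k) a ψ hker hψ
  refine ⟨hinj, ⟨?_⟩, ?_⟩
  · exact (Submodule.quotEquivOfEq _ _ hk.symm).trans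
      (LinearMap.quotKerEquivOfSurjective _ hsurj)
  · exact ext_one_equiv (OmHat k B) (sig (PowerSeries.X : PowerSeries k) a ψ)
      (qq (PowerSeries.X : PowerSeries k) ψ) hsurj hk hinj

include hψ hker hreg0 in
theorem fitt_main :
    Fitt.ideal B (OmHat k B) (r - c) =
      Fitt.ideal B (Abelian.Ext.{u} (ModuleCat.of B (OmHat k B)) (ModuleCat.of B B) 1) 0 := by
  obtain ⟨hinj, ⟨e1⟩, ⟨e2⟩⟩ := structure_thm a ψ hψ hker hreg0
  rw [← fitt_congr' e1 (r - c), fitt_congr' e2 0]
  have := (main_S14347 B c r (sig (PowerSeries.X : PowerSeries k) a ψ) hinj).1 0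
  rw [add_zero] at this
  exact this

end Main

end Groth.Agent.Lib.Helper24FD
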