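import Mathlib
import Groth.Agent.Lib.Helper24FDg

set_option autoImplicit false

namespace Groth.Agent.Lib.Helper24FD

universe u v

open MvPolynomial KaehlerDifferential Groth.Agent.Helper18Fitt Groth.Agent.Lib.Helper24CI
  CategoryTheory

section Ann

/-- the zeroth Fitting ideal annihilates the module -/
theorem fitt_zero_le_ann {R : Type u} [CommRing R] {M : Type v} [AddCommGroup M]
    [Module R M] : Fitt.ideal R M 0 ≤ Module.annihilator R M := by
  unfold Fitt.ideal
  rw [Ideal.span_le]
  rintro d ⟨n, x, a, hx, hrel, rfl⟩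
  rw [SetLike.mem_coe, Module.mem_annihilator]
  have h1 : ∀ i, ∑ k, a i k • x k = 0 := fun i => hrel i (by simp)
  have key : ∀ j, a.det • x j = 0 := by
    intro j
    have h2 : a.det • x j = ∑ i, a.adjugate j i • ∑ k, a i k • x k := by
      simp_rw [Finset.smul_sum, smul_smul]
      rw [Finset.sum_comm]
      have h3 : ∀ k, ∑ i, (a.adjugate j i * a i k) • x k = ((a.adjugate * a) j k) • x k := by
        intro k
        rw [Matrix.mul_apply, Finset.sum_smul]
      simp_rw [h3, Matrix.adjugate_mul, Matrix.smul_apply, Matrix.one_apply, smul_eq_mul, mul_ite,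
        mul_one, mul_zero, ite_smul, zero_smul]
      simp
    rw [h2]
    simp [h1]
  intro m
  have hm : m ∈ Submodule.span R (Set.range x) := hx ▸ Submodule.mem_top
  induction hm using Submodule.span_induction with
  | mem y hy =>
    obtain ⟨j, rfl⟩ := hy
    exact key j
  | zero => exact smul_zero _
  | add y z _ _ hy hz => rw [smul_add, hy, hz, add_zero]
  | smul c y _ hy => rw [smul_comm, hy, smul_zero]

/-- a power of an annihilating element lies in the zeroth Fitting ideal -/
theorem pow_mem_fitt_zero {R : Type u} [CommRing R] {M : Type v} [AddCommGroup M]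
    [Module R M] {n : ℕ} (x : Fin n → M) (hx : Submodule.span R (Set.range x) = ⊤)
    (s : R) (hs : ∀ y : M, s • y = 0) : s ^ n ∈ Fitt.ideal R M 0 := by
  classical
  unfold Fitt.ideal
  apply Ideal.subset_span
  refine ⟨n, x, s • (1 : Matrix (Fin n) (Fin n) R), hx, ?_, ?_⟩
  · intro i _
    have : ∀ j, (s • (1 : Matrix (Fin n) (Fin n) R)) i j • x j = if i = j then s • x j else 0 := by
      intro j
      rw [Matrix.smul_apply, Matrix.one_apply]
      split_ifs <;> simp
    rw [Finset.sum_congr rfl (fun j _ => this j), Finset.sum_ite_eq]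
    simp [hs]
  · rw [Matrix.det_smul, Matrix.det_one, mul_one, Fintype.card_fin]

end Ann

section S16193

variable {k : Type u} [Field k] [PerfectField k] {r c : ℕ}

variable (a : Fin c → At (PowerSeries.X : PowerSeries k) r) {B : Type u} [CommRing B]
  [Algebra (PowerSeries k) B] [IsNoetherianRing B]
  [IsAdicComplete (Ideal.span {algebraMap (PowerSeries k) B (PowerSeries.X : PowerSeries k)}) B]
  [Module.Flat (PowerSeries k) B]
  (ψ : At (PowerSeries.X : PowerSeries k) r →ₐ[PowerSeries k] B) (hψ : Function.Surjective ψ)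
  (hker : RingHom.ker ψ.toRingHom = Ideal.span (Set.range a))
  [IsReduced (B ⧸ Ideal.span {algebraMap (PowerSeries k) B (PowerSeries.X : PowerSeries k)})]
  (hreg0 : RingTheory.Sequence.IsWeaklyRegular
      (At (PowerSeries.X : PowerSeries k) r ⧸
        Ideal.span {(tt (PowerSeries.X : PowerSeries k) : At (PowerSeries.X : PowerSeries k) r) ^ 1})
      (List.ofFn (fun j => Ideal.Quotient.mk
        (Ideal.span {(tt (PowerSeries.X : PowerSeries k) : At (PowerSeries.X : PowerSeries k) r) ^ 1})
        (a j))))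

include hψ hker hreg0 in
theorem pow_mem_iff :
    (∃ κ : ℕ, algebraMap (PowerSeries k) B (PowerSeries.X : PowerSeries k) ^ κ ∈
        Fitt.ideal B (OmHat k B) (r - c)) ↔
      (∃ m : ℕ, ∀ x : Abelian.Ext.{u} (ModuleCat.of B (OmHat k B)) (ModuleCat.of B B) 1,
        (algebraMap (PowerSeries k) B (PowerSeries.X : PowerSeries k) ^ m) • x = 0) := by
  obtain ⟨hinj, ⟨e1⟩, ⟨e2⟩⟩ := structure_thm a ψ hψ hker hreg0
  rw [fitt_main a ψ hψ hker hreg0]
  constructor
  · rintro ⟨κ, hκ⟩
    refine ⟨κ, fun x => ?_⟩
    exact Module.mem_annihilator.mp (fitt_zero_le_ann hκ) x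
  · rintro ⟨m, hm⟩
    refine ⟨m * c, ?_⟩
    rw [fitt_congr' e2 0, pow_mul]
    apply pow_mem_fitt_zero (dualGen (sig (PowerSeries.X : PowerSeries k) a ψ))
      (dualGen_span _)
    intro y
    apply e2.symm.injective
    rw [map_smul, hm, map_zero]

end S16193

end Groth.Agent.Lib.Helper24FD
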