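import Mathlib
import Groth.Agent.Lib.Helper24FDd

set_option autoImplicit false

namespace Groth.Agent.Lib.Helper24FD

universe u

open MvPolynomial KaehlerDifferential

section Level

variable {R : Type u} [CommRing R] (t : R) {r c : ℕ} (a : Fin c → At t r)
  {B : Type u} [CommRing B] [Algebra R B] (ψ : At t r →ₐ[R] B)

/-- the `n`-th level `B / t^n B` -/
abbrev Bq (R : Type u) [CommRing R] (t : R) (B : Type u) [CommRing B] [Algebra R B] (n : ℕ) :
    Type u := B ⧸ Ideal.span {algebraMap R B t ^ n}

variable (n : ℕ)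

/-- the quotient map to the `n`-th level -/
noncomputable abbrev mkq : B →ₐ[R] Bq R t B n := Ideal.Quotient.mkₐ R _

theorem mkq_pow_mul (b : B) : mkq t n (algebraMap R B t ^ n * b) = 0 :=
  Ideal.Quotient.eq_zero_iff_mem.mpr (Ideal.mul_mem_right _ _ (Ideal.mem_span_singleton_self _))

theorem mkq_eq_zero_iff (b : B) : mkq t n b = 0 ↔ ∃ w, b = algebraMap R B t ^ n * w := by
  constructor
  · intro h
    obtain ⟨w, hw⟩ := Ideal.mem_span_singleton'.mp (Ideal.Quotient.eq_zero_iff_mem.mp h)
    exact ⟨w, by rw [← hw, mul_comm]⟩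
  · rintro ⟨w, rfl⟩
    exact mkq_pow_mul t n w

theorem mkq_surjective : Function.Surjective (mkq (R := R) (B := B) t n) :=
  Ideal.Quotient.mkₐ_surjective R _

variable (hψ : Function.Surjective ψ)

include hψ in
theorem aeval_level_surjective :
    Function.Surjective (aeval (R := R) (fun i => mkq t n (tau t ψ i))) := by
  intro y
  obtain ⟨b, rfl⟩ := mkq_surjective t n y
  obtain ⟨x, rfl⟩ := hψ b
  obtain ⟨f, u, rfl⟩ := exists_approx t x n
  refine ⟨f, ?_⟩
  rw [← comp_aeval_apply, ← psi_ofA, map_add, map_mul, map_pow, psi_tt, map_add, mkq_pow_mul,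
    add_zero]

theorem aeval_level (g : MvPolynomial (Fin r) R) :
    aeval (fun i => mkq t n (tau t ψ i)) g = mkq t n (ψ (ofA t g)) := by
  rw [psi_ofA, comp_aeval_apply]

theorem map_kill (x : Ω[B⁄R])
    (hx : x ∈ (Ideal.span {algebraMap R B t} ^ n • ⊤ : Submodule B Ω[B⁄R])) :
    KaehlerDifferential.map R R B (Bq R t B n) x = 0 := by
  refine Submodule.smul_induction_on hx ?_ ?_
  · intro s hs m _
    rw [map_smul]
    rw [Ideal.span_singleton_pow] at hs
    have h0 : algebraMap B (Bq R t B n) s = 0 := Ideal.Quotient.eq_zero_iff_mem.mpr hs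
    rw [← algebraMap_smul (Bq R t B n) s, h0, zero_smul]
  · intro x y hx hy
    rw [map_add, hx, hy, add_zero]

variable (hker : RingHom.ker ψ.toRingHom = Ideal.span (Set.range a))

include hker hψ in
/-- relations among the differentials at the `n`-th level come from the Jacobian rows -/
theorem exists_of_rel (z : Fin r → B)
    (h1 : ∑ i, mkq t n (z i) • D R (Bq R t B n) (mkq t n (tau t ψ i)) = 0) :
    ∃ (v : Fin c → B) (w : Fin r → B),
      ∀ i, z i = ∑ j, v j * Jrow t a ψ j i + algebraMap R B t ^ n * w i := by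
  classical
  let Bn := Bq R t B n
  let mk : B →ₐ[R] Bn := mkq t n
  let P : Algebra.Generators R Bn (Fin r) :=
    Algebra.Generators.ofSurjective _ (aeval_level_surjective t ψ n hψ)
  let E := P.toExtension
  let y : E.CotangentSpace := ∑ i, mk (z i) • P.cotangentSpaceBasis i
  have h2 : E.toKaehler y = 0 := by
    rw [map_sum, ← h1]
    apply Finset.sum_congr rfl
    intro i _
    rw [map_smul]
    congr 1
    exact Algebra.Generators.toKaehler_cotangentSpaceBasis (P := P) i
  obtain ⟨y', hy'⟩ := (E.exact_cotangentComplex_toKaehler y).mp h2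
  obtain ⟨F, rfl⟩ := Algebra.Extension.Cotangent.mk_surjective y'
  let F' : MvPolynomial (Fin r) R := F.val
  have hF' : algebraMap P.Ring Bn F' = 0 := F.2
  have h3 : ∀ i, mk (z i) = aeval P.val (pderiv i F') := by
    intro i
    have h4 : P.cotangentSpaceBasis.repr (E.cotangentComplex (Algebra.Extension.Cotangent.mk F)) i =
        aeval P.val (pderiv i F') := by
      rw [Algebra.Extension.cotangentComplex_mk]
      exact P.cotangentSpaceBasis_repr_one_tmul F' i
    rw [← h4, hy']
    simp only [y, map_sum, map_smul, Module.Basis.repr_self, Finsupp.coe_finset_sum,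
      Finsupp.coe_smul, Finset.sum_apply, Pi.smul_apply, Finsupp.single_apply, smul_eq_mul,
      mul_ite, mul_one, mul_zero, Finset.sum_ite_eq', Finset.mem_univ, if_true]
  have h5 : ∀ g : MvPolynomial (Fin r) R, aeval P.val g = mk (ψ (ofA t g)) :=
    fun g => aeval_level t ψ n g
  have h6 : mk (ψ (ofA t F')) = 0 := by
    rw [← h5, ← P.algebraMap_apply]
    exact hF'
  obtain ⟨b', hb'⟩ := (mkq_eq_zero_iff t n _).mp h6
  obtain ⟨u', rfl⟩ := hψ b'
  have h7 : ofA t F' - tt t ^ n * u' ∈ Ideal.span (Set.range a) := by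
    rw [← hker, RingHom.mem_ker]
    change ψ (ofA t F' - tt t ^ n * u') = 0
    rw [map_sub, map_mul, map_pow, psi_tt, hb']
    ring
  obtain ⟨g, hg⟩ := (Ideal.mem_span_range_iff_exists_fun).mp h7
  have h8 : ∀ i, ψ (ofA t (pderiv i F')) =
      algebraMap R B t ^ n * ψ (Dt t i u') + ∑ j, ψ (g j) * Jrow t a ψ j i := by
    intro i
    have h9 : ofA t F' = tt t ^ n * u' + ∑ j, g j * a j := by
      rw [hg]; ring
    have h10 : Dt t i (ofA t F') = tt t ^ n * Dt t i u' +
        ∑ j, (g j * Dt t i (a j) + a j * Dt t i (g j)) := by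
      rw [h9, map_add, Dt_tt_pow_mul, map_sum]
      congr 1
      apply Finset.sum_congr rfl
      intro j _
      exact Dt_mul t i (g j) (a j)
    rw [Dt_ofA] at h10
    rw [h10, map_add, map_mul, map_pow, psi_tt, map_sum]
    congr 1
    apply Finset.sum_congr rfl
    intro j _
    rw [map_add, map_mul, map_mul, psi_a t a ψ hker, zero_mul, add_zero]
    rfl
  have h11 : ∀ i, ∃ w, z i - ψ (ofA t (pderiv i F')) = algebraMap R B t ^ n * w := by
    intro i
    have : mk (z i - ψ (ofA t (pderiv i F'))) = 0 := by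
      rw [map_sub, h3 i, h5, sub_self]
    exact (mkq_eq_zero_iff t n _).mp this
  choose w hw using h11
  refine ⟨fun j => ψ (g j), fun i => w i + ψ (Dt t i u'), fun i => ?_⟩
  have := hw i
  rw [h8 i] at this
  rw [mul_add, ← this]
  ring

/-- the Jacobian rows at the `n`-th level -/
noncomputable def Jn (j : Fin c) : Fin r → Bq R t B n := fun i => mkq t n (Jrow t a ψ j i)

/-- the Jacobian map at the `n`-th level -/
noncomputable def sign : (Fin c → Bq R t B n) →ₗ[Bq R t B n] (Fin r → Bq R t B n) :=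
  Fintype.linearCombination (Bq R t B n) (Jn t a ψ n)

theorem sign_apply (v : Fin c → Bq R t B n) (i : Fin r) :
    sign t a ψ n v i = ∑ j, v j * Jn t a ψ n j i := by
  simp [sign, Fintype.linearCombination_apply, Finset.sum_apply]

/-- the presentation map at the `n`-th level -/
noncomputable def qn : (Fin r → Bq R t B n) →ₗ[Bq R t B n] Ω[Bq R t B n⁄R] :=
  Fintype.linearCombination (Bq R t B n) (fun i => D R (Bq R t B n) (mkq t n (tau t ψ i)))

theorem qn_apply (z : Fin r → Bq R t B n) :
    qn t ψ n z = ∑ i, z i • D R (Bq R t B n) (mkq t n (tau t ψ i)) := by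
  simp [qn, Fintype.linearCombination_apply]

include hψ in
theorem qn_surjective : Function.Surjective (qn t ψ n) := by
  rw [← LinearMap.range_eq_top, eq_top_iff]
  intro x _
  have hx : x ∈ Submodule.span (Bq R t B n) (Set.range (D R (Bq R t B n))) := by
    rw [KaehlerDifferential.span_range_derivation R (Bq R t B n)]; trivial
  refine (Submodule.span_le.mpr ?_) hx
  rintro _ ⟨b, rfl⟩
  obtain ⟨f, rfl⟩ := aeval_level_surjective t ψ n hψ b
  rw [chain_rule (D R (Bq R t B n)) (fun i => mkq t n (tau t ψ i)) f]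
  exact ⟨fun i => aeval (fun i => mkq t n (tau t ψ i)) (pderiv i f), qn_apply t ψ n _⟩

theorem exists_lift (z : Fin r → Bq R t B n) : ∃ z' : Fin r → B, ∀ i, mkq t n (z' i) = z i := by
  choose z' hz' using fun i => mkq_surjective t n (z i)
  exact ⟨z', hz'⟩

include hker hψ in
theorem ker_qn : LinearMap.ker (qn t ψ n) = LinearMap.range (sign t a ψ n) := by
  apply le_antisymm
  · intro z hz
    rw [LinearMap.mem_ker, qn_apply] at hz
    obtain ⟨z', hz'⟩ := exists_lift t n z
    have h1 : ∑ i, mkq t n (z' i) • D R (Bq R t B n) (mkq t n (tau t ψ i)) = 0 := by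
      rw [← hz]
      apply Finset.sum_congr rfl
      intro i _
      rw [hz']
    obtain ⟨v, w, hvw⟩ := exists_of_rel t a ψ n hψ hker z' h1
    refine ⟨fun j => mkq t n (v j), ?_⟩
    funext i
    rw [sign_apply, ← hz' i, hvw i, map_add, mkq_pow_mul, add_zero, map_sum]
    apply Finset.sum_congr rfl
    intro j _
    rw [map_mul]
    rfl
  · rintro _ ⟨v, rfl⟩
    rw [LinearMap.mem_ker, qn_apply]
    have h1 : ∀ j, ∑ i, Jn t a ψ n j i • D R (Bq R t B n) (mkq t n (tau t ψ i)) = 0 := by
      intro j
      have h2 := map_kill t n _ (Jrow_rel t a ψ hker n j)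
      rw [map_sum] at h2
      rw [← h2]
      apply Finset.sum_congr rfl
      intro i _
      rw [map_smul, KaehlerDifferential.map_D, ← algebraMap_smul (Bq R t B n) (Jrow t a ψ j i)]
      rfl
    have h3 : ∑ i, sign t a ψ n v i • D R (Bq R t B n) (mkq t n (tau t ψ i)) =
        ∑ j, v j • ∑ i, Jn t a ψ n j i • D R (Bq R t B n) (mkq t n (tau t ψ i)) := by
      simp only [sign_apply, Finset.sum_smul, Finset.smul_sum, mul_smul]
      rw [Finset.sum_comm]
    rw [h3]
    apply Finset.sum_eq_zero
    intro j _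
    rw [h1 j, smul_zero]

end Level

end Groth.Agent.Lib.Helper24FD
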