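import Mathlib

set_option autoImplicit false

namespace Groth.Agent.Lib.Helper24FD

universe u

open TensorProduct

section Generic

variable {S : Type u} [CommRing S] {r c : ℕ} (J : Fin c → Fin r → S)

/-- the map `S^c → S^r` with rows `J` -/
noncomputable def sigG : (Fin c → S) →ₗ[S] (Fin r → S) := Fintype.linearCombination S J

theorem sigG_apply (v : Fin c → S) (i : Fin r) : sigG J v i = ∑ j, v j * J j i := by
  simp [sigG, Fintype.linearCombination_apply, Finset.sum_apply]

/-- the transposed map `S^r → S^c` -/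
noncomputable def sigT : (Fin r → S) →ₗ[S] (Fin c → S) :=
  LinearMap.pi fun j => ∑ i, J j i • LinearMap.proj i

theorem sigT_apply (w : Fin r → S) (j : Fin c) : sigT J w j = ∑ i, J j i * w i := by
  simp [sigT, LinearMap.sum_apply]

/-- coordinates on the dual of a finite free module -/
noncomputable def dualCoord (m : ℕ) : Module.Dual S (Fin m → S) ≃ₗ[S] (Fin m → S) where
  toFun φ := fun j => φ (Pi.single j 1)
  map_add' φ₁ φ₂ := by funext j; simp
  map_smul' s φ := by funext j; simp
  invFun w := ∑ j, w j • (LinearMap.proj j : (Fin m → S) →ₗ[S] S)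
  left_inv φ := by
    apply LinearMap.pi_ext'
    intro b
    ext
    simp [LinearMap.sum_apply, Pi.single_apply]
  right_inv w := by
    funext j
    simp [LinearMap.sum_apply, Pi.single_apply]

theorem dualCoord_apply (m : ℕ) (φ : Module.Dual S (Fin m → S)) (j : Fin m) :
    dualCoord m φ j = φ (Pi.single j 1) := rfl

theorem pi_sum_single (m : ℕ) (w : Fin m → S) :
    ∑ j, w j • (Pi.single j 1 : Fin m → S) = w := by
  funext i
  simp [Finset.sum_apply, Pi.single_apply]

theorem dual_apply_sum (m : ℕ) (φ : Module.Dual S (Fin m → S)) (v : Fin m → S) :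
    φ v = ∑ i, φ (Pi.single i 1) * v i := by
  conv_lhs => rw [← pi_sum_single m v, map_sum]
  apply Finset.sum_congr rfl
  intro i _
  rw [map_smul, smul_eq_mul, mul_comm]

theorem dualCoord_dualMap (ψ' : Module.Dual S (Fin r → S)) :
    dualCoord c ((sigG J).dualMap ψ') = sigT J (dualCoord r ψ') := by
  funext j
  rw [dualCoord_apply, LinearMap.dualMap_apply, sigT_apply, dual_apply_sum r ψ']
  apply Finset.sum_congr rfl
  intro i _
  rw [sigG_apply, dualCoord_apply, mul_comm]
  congr 1
  simp [Pi.single_apply]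

theorem map_range_dualMap :
    (LinearMap.range (sigG J).dualMap).map (dualCoord c).toLinearMap = LinearMap.range (sigT J) := by
  ext w
  constructor
  · rintro ⟨_, ⟨ψ', rfl⟩, rfl⟩
    exact ⟨dualCoord r ψ', (dualCoord_dualMap J ψ').symm⟩
  · rintro ⟨w', rfl⟩
    refine ⟨(sigG J).dualMap ((dualCoord r).symm w'), ⟨_, rfl⟩, ?_⟩
    change dualCoord c _ = _
    rw [dualCoord_dualMap, LinearEquiv.apply_symm_apply]

/-- Lemma A: the cokernel of the dual map in coordinates -/
noncomputable def dualQuotEquiv :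
    (Module.Dual S (Fin c → S) ⧸ LinearMap.range (sigG J).dualMap) ≃ₗ[S]
      ((Fin c → S) ⧸ LinearMap.range (sigT J)) :=
  Submodule.Quotient.equiv _ _ (dualCoord c) (map_range_dualMap J)

end Generic

section BaseChange

variable {S : Type u} [CommRing S] {S' : Type u} [CommRing S'] [Algebra S S']
  (hS : Function.Surjective (algebraMap S S')) {r c : ℕ} (J : Fin c → Fin r → S)

/-- reduction of vectors -/
noncomputable def red (m : ℕ) : (Fin m → S) →ₗ[S] (Fin m → S') :=
  LinearMap.pi fun j => (Algebra.linearMap S S') ∘ₗ LinearMap.proj j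

theorem red_apply (m : ℕ) (w : Fin m → S) (j : Fin m) :
    red (S' := S') m w j = algebraMap S S' (w j) := rfl

include hS in
theorem red_surjective (m : ℕ) : Function.Surjective (red (S := S) (S' := S') m) := by
  intro w'
  choose w hw using fun j => hS (w' j)
  exact ⟨w, funext hw⟩

/-- the reduced matrix -/
def Jred : Fin c → Fin r → S' := fun j i => algebraMap S S' (J j i)

theorem red_sigT (w : Fin r → S) :
    red (S' := S') c (sigT J w) = sigT (Jred (S' := S') J) (red r w) := by
  funext j
  rw [red_apply, sigT_apply, sigT_apply, map_sum]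
  apply Finset.sum_congr rfl
  intro i _
  rw [map_mul]
  rfl

/-- the comparison map on cokernels -/
noncomputable def cokerRed :
    ((Fin c → S) ⧸ LinearMap.range (sigT J)) →ₗ[S]
      ((Fin c → S') ⧸ LinearMap.range (sigT (Jred (S' := S') J))) :=
  Submodule.liftQ _
    (((LinearMap.range (sigT (Jred (S' := S') J))).mkQ.restrictScalars S) ∘ₗ red c) (by
      rintro _ ⟨w, rfl⟩
      rw [LinearMap.mem_ker, LinearMap.comp_apply, red_sigT]
      change (LinearMap.range (sigT (Jred (S' := S') J))).mkQ _ = 0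
      rw [Submodule.mkQ_apply, Submodule.Quotient.mk_eq_zero]
      exact ⟨_, rfl⟩)

theorem cokerRed_mk (w : Fin c → S) :
    cokerRed (S' := S') J (Submodule.Quotient.mk w) = Submodule.Quotient.mk (red c w) := rfl

/-- forward map of Lemma B -/
noncomputable def fwdB :
    (S' ⊗[S] ((Fin c → S) ⧸ LinearMap.range (sigT J))) →ₗ[S']
      ((Fin c → S') ⧸ LinearMap.range (sigT (Jred (S' := S') J))) :=
  LinearMap.liftBaseChange S' (cokerRed J)

theorem fwdB_tmul (s : S') (w : Fin c → S) :
    fwdB (S' := S') J (s ⊗ₜ Submodule.Quotient.mk w) = s • Submodule.Quotient.mk (red c w) := by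
  simp [fwdB, cokerRed_mk]

/-- the map `S'^c → S' ⊗ coker` -/
noncomputable def G0 :
    (Fin c → S') →ₗ[S'] (S' ⊗[S] ((Fin c → S) ⧸ LinearMap.range (sigT J))) :=
  Fintype.linearCombination S'
    (fun j => (1 : S') ⊗ₜ[S] (Submodule.Quotient.mk (Pi.single j 1) :
      (Fin c → S) ⧸ LinearMap.range (sigT J)))

theorem G0_red (w : Fin c → S) :
    G0 (S' := S') J (red c w) =
      (1 : S') ⊗ₜ[S] (Submodule.Quotient.mk w : (Fin c → S) ⧸ LinearMap.range (sigT J)) := by
  rw [G0, Fintype.linearCombination_apply]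
  have h1 : ∀ j, red (S' := S') c w j • ((1 : S') ⊗ₜ[S] (Submodule.Quotient.mk (Pi.single j 1) :
      (Fin c → S) ⧸ LinearMap.range (sigT J))) =
      (1 : S') ⊗ₜ[S] (Submodule.Quotient.mk (w j • Pi.single j 1) :
      (Fin c → S) ⧸ LinearMap.range (sigT J)) := by
    intro j
    rw [red_apply, TensorProduct.smul_tmul', smul_eq_mul, mul_one, Submodule.Quotient.mk_smul,
      ← TensorProduct.smul_tmul, Algebra.smul_def, mul_one]
  rw [Finset.sum_congr rfl (fun j _ => h1 j), ← TensorProduct.tmul_sum]
  have h2 : ∑ a, (Submodule.Quotient.mk (w a • Pi.single a 1) :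
      (Fin c → S) ⧸ LinearMap.range (sigT J)) =
      Submodule.Quotient.mk (∑ a, w a • (Pi.single a 1 : Fin c → S)) :=
    (map_sum (Submodule.mkQ (LinearMap.range (sigT J))) _ _).symm
  rw [h2, pi_sum_single]

include hS in
theorem G0_kill : LinearMap.range (sigT (Jred (S' := S') J)) ≤ LinearMap.ker (G0 (S' := S') J) := by
  rintro _ ⟨w', rfl⟩
  obtain ⟨w, rfl⟩ := red_surjective hS r w'
  rw [LinearMap.mem_ker, ← red_sigT, G0_red]
  have : (Submodule.Quotient.mk (sigT J w) : (Fin c → S) ⧸ LinearMap.range (sigT J)) = 0 := by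
    rw [Submodule.Quotient.mk_eq_zero]
    exact ⟨w, rfl⟩
  rw [this, TensorProduct.tmul_zero]

/-- backward map of Lemma B -/
noncomputable def bwdB :
    ((Fin c → S') ⧸ LinearMap.range (sigT (Jred (S' := S') J))) →ₗ[S']
      (S' ⊗[S] ((Fin c → S) ⧸ LinearMap.range (sigT J))) :=
  Submodule.liftQ _ (G0 J) (G0_kill hS J)

theorem bwdB_mk (w : Fin c → S) :
    bwdB hS J (Submodule.Quotient.mk (red c w)) =
      (1 : S') ⊗ₜ[S] (Submodule.Quotient.mk w : (Fin c → S) ⧸ LinearMap.range (sigT J)) := by
  rw [bwdB, Submodule.liftQ_apply, G0_red]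

/-- Lemma B: base change of the cokernel -/
noncomputable def baseChangeQuotEquiv :
    (S' ⊗[S] ((Fin c → S) ⧸ LinearMap.range (sigT J))) ≃ₗ[S']
      ((Fin c → S') ⧸ LinearMap.range (sigT (Jred (S' := S') J))) :=
  LinearEquiv.ofLinear (fwdB J) (bwdB hS J)
    (by
      apply LinearMap.ext
      intro y
      obtain ⟨w', rfl⟩ := Submodule.Quotient.mk_surjective _ y
      obtain ⟨w, rfl⟩ := red_surjective hS c w'
      rw [LinearMap.comp_apply, bwdB_mk, fwdB_tmul, one_smul, LinearMap.id_apply])
    (by
      apply LinearMap.ext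
      intro y
      induction y using TensorProduct.induction_on with
      | zero => simp
      | tmul s q =>
        obtain ⟨w, rfl⟩ := Submodule.Quotient.mk_surjective _ q
        rw [LinearMap.comp_apply, fwdB_tmul, map_smul, bwdB_mk, LinearMap.id_apply,
          TensorProduct.smul_tmul', smul_eq_mul, mul_one]
      | add y₁ y₂ h₁ h₂ => rw [map_add, h₁, h₂, map_add])

end BaseChange

end Groth.Agent.Lib.Helper24FD
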