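import Mathlib
import Groth.Agent.Lib.Helper24FDg
import Groth.Agent.Lib.Helper24FDi
import Groth.Agent.Lib.Helper24FDj

set_option autoImplicit false

namespace Groth.Agent.Lib.Helper24FD

universe u

open MvPolynomial KaehlerDifferential Groth.Agent.Lib.Helper24CI CategoryTheory TensorProduct

section LevelInj

variable {k : Type u} [Field k] [PerfectField k] {r c : ℕ}

variable (a : Fin c → At (PowerSeries.X : PowerSeries k) r) {B : Type u} [CommRing B]
  [Algebra (PowerSeries k) B] [Module.Flat (PowerSeries k) B]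
  (ψ : At (PowerSeries.X : PowerSeries k) r →ₐ[PowerSeries k] B) (hψ : Function.Surjective ψ)
  (hker : RingHom.ker ψ.toRingHom = Ideal.span (Set.range a))
  [IsReduced (B ⧸ Ideal.span {algebraMap (PowerSeries k) B (PowerSeries.X : PowerSeries k)})]
  (hreg0 : RingTheory.Sequence.IsWeaklyRegular
      (At (PowerSeries.X : PowerSeries k) r ⧸
        Ideal.span {(tt (PowerSeries.X : PowerSeries k) : At (PowerSeries.X : PowerSeries k) r) ^ 1})
      (List.ofFn (fun j => Ideal.Quotient.mk
        (Ideal.span {(tt (PowerSeries.X : PowerSeries k) : At (PowerSeries.X : PowerSeries k) r) ^ 1})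
        (a j))))

include hψ hker hreg0 in
theorem sig_mod_injective : ∀ n : ℕ, ∀ v : Fin c → B,
    (∀ i, ∃ w, sig (PowerSeries.X : PowerSeries k) a ψ v i =
      algebraMap (PowerSeries k) B (PowerSeries.X : PowerSeries k) ^ n * w) →
    ∀ j, ∃ w, v j = algebraMap (PowerSeries k) B (PowerSeries.X : PowerSeries k) ^ n * w := by
  intro n
  induction n with
  | zero =>
    intro v _ j
    exact ⟨v j, by rw [pow_zero, one_mul]⟩
  | succ n ih =>
    intro v hv j
    have h4 := J0_injective a ψ hψ hker hreg0 v (by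
      intro i
      rw [← sig_apply]
      obtain ⟨w, hw⟩ := hv i
      rw [hw, pow_succ', mul_assoc]
      exact Ideal.mul_mem_right _ _ (Ideal.mem_span_singleton_self _))
    have h5 : ∀ j, ∃ w', v j =
        algebraMap (PowerSeries k) B (PowerSeries.X : PowerSeries k) * w' := by
      intro j
      obtain ⟨w', hw'⟩ := Ideal.mem_span_singleton'.mp (h4 j)
      exact ⟨w', by rw [← hw', mul_comm]⟩
    choose v' hv' using h5
    have hvv : v = algebraMap (PowerSeries k) B (PowerSeries.X : PowerSeries k) • v' := by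
      funext j
      rw [Pi.smul_apply, smul_eq_mul]
      exact hv' j
    have h6 : ∀ i, ∃ w, sig (PowerSeries.X : PowerSeries k) a ψ v' i =
        algebraMap (PowerSeries k) B (PowerSeries.X : PowerSeries k) ^ n * w := by
      intro i
      obtain ⟨w, hw⟩ := hv i
      refine ⟨w, ?_⟩
      rw [hvv, map_smul, Pi.smul_apply, smul_eq_mul, pow_succ', mul_assoc] at hw
      have h7 : algebraMap (PowerSeries k) B (PowerSeries.X : PowerSeries k) ^ 1 *
          (sig (PowerSeries.X : PowerSeries k) a ψ v' i -
            algebraMap (PowerSeries k) B (PowerSeries.X : PowerSeries k) ^ n * w) = 0 := by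
        rw [pow_one, mul_sub, hw, sub_self]
      exact sub_eq_zero.mp (pi_regular 1 _ h7)
    obtain ⟨w', hw'⟩ := ih v' h6 j
    exact ⟨w', by rw [hv' j, hw', pow_succ']; ring⟩

include hψ hker hreg0 in
theorem sign_injective (n : ℕ) :
    Function.Injective (sign (PowerSeries.X : PowerSeries k) a ψ n) := by
  rw [injective_iff_map_eq_zero]
  intro vb hvb
  obtain ⟨v, hv⟩ : ∃ v : Fin c → B, ∀ j, mkq (PowerSeries.X : PowerSeries k) n (v j) = vb j := by
    choose v hv using fun j => mkq_surjective (PowerSeries.X : PowerSeries k) n (vb j)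
    exact ⟨v, hv⟩
  have h1 : ∀ i, mkq (PowerSeries.X : PowerSeries k) n
      (sig (PowerSeries.X : PowerSeries k) a ψ v i) = 0 := by
    intro i
    have h2 := congrFun hvb i
    rw [sign_apply, Pi.zero_apply] at h2
    rw [sig_apply, map_sum, ← h2]
    apply Finset.sum_congr rfl
    intro j _
    rw [map_mul, hv j]
    rfl
  have h3 := sig_mod_injective a ψ hψ hker hreg0 n v
    (fun i => (mkq_eq_zero_iff (PowerSeries.X : PowerSeries k) n _).mp (h1 i))
  funext j
  rw [← hv j, Pi.zero_apply]
  exact (mkq_eq_zero_iff (PowerSeries.X : PowerSeries k) n _).mpr (h3 j)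

end LevelInj

section S16192

variable {k : Type u} [Field k] [PerfectField k] {r c : ℕ}

variable (a : Fin c → At (PowerSeries.X : PowerSeries k) r) {B : Type u} [CommRing B]
  [Algebra (PowerSeries k) B] [IsNoetherianRing B]
  [IsAdicComplete (Ideal.span {algebraMap (PowerSeries k) B (PowerSeries.X : PowerSeries k)}) B]
  [Module.Flat (PowerSeries k) B]
  (ψ : At (PowerSeries.X : PowerSeries k) r →ₐ[PowerSeries k] B) (hψ : Function.Surjective ψ)
  (hker : RingHom.ker ψ.toRingHom = Ideal.span (Set.range a))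
  [IsReduced (B ⧸ Ideal.span {algebraMap (PowerSeries k) B (PowerSeries.X : PowerSeries k)})]
  (hreg0 : RingTheory.Sequence.IsWeaklyRegular
      (At (PowerSeries.X : PowerSeries k) r ⧸
        Ideal.span {(tt (PowerSeries.X : PowerSeries k) : At (PowerSeries.X : PowerSeries k) r) ^ 1})
      (List.ofFn (fun j => Ideal.Quotient.mk
        (Ideal.span {(tt (PowerSeries.X : PowerSeries k) : At (PowerSeries.X : PowerSeries k) r) ^ 1})
        (a j))))

include hψ hker hreg0 in
theorem t1_baseChange (n : ℕ) :
    Nonempty (TensorProduct B (Bq (PowerSeries k) (PowerSeries.X : PowerSeries k) B n)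
        (Abelian.Ext.{u} (ModuleCat.of B (OmHat k B)) (ModuleCat.of B B) 1)
      ≃ₗ[Bq (PowerSeries k) (PowerSeries.X : PowerSeries k) B n]
      Abelian.Ext.{u}
        (ModuleCat.of (Bq (PowerSeries k) (PowerSeries.X : PowerSeries k) B n)
          Ω[Bq (PowerSeries k) (PowerSeries.X : PowerSeries k) B n⁄PowerSeries k])
        (ModuleCat.of (Bq (PowerSeries k) (PowerSeries.X : PowerSeries k) B n)
          (Bq (PowerSeries k) (PowerSeries.X : PowerSeries k) B n)) 1) := by
  obtain ⟨-, -, ⟨e2⟩⟩ := structure_thm a ψ hψ hker hreg0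
  have hsig : sig (PowerSeries.X : PowerSeries k) a ψ =
      sigG (Jrow (PowerSeries.X : PowerSeries k) a ψ) := rfl
  rw [hsig] at e2
  have eA := dualQuotEquiv (Jrow (PowerSeries.X : PowerSeries k) a ψ)
  have ebc := LinearEquiv.baseChange B (Bq (PowerSeries k) (PowerSeries.X : PowerSeries k) B n)
    _ _ (e2.trans eA)
  have hS : Function.Surjective (algebraMap B
      (Bq (PowerSeries k) (PowerSeries.X : PowerSeries k) B n)) := Ideal.Quotient.mk_surjective
  have eB := baseChangeQuotEquiv (S' := Bq (PowerSeries k) (PowerSeries.X : PowerSeries k) B n)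
    hS (Jrow (PowerSeries.X : PowerSeries k) a ψ)
  have hJ : Jred (S' := Bq (PowerSeries k) (PowerSeries.X : PowerSeries k) B n)
      (Jrow (PowerSeries.X : PowerSeries k) a ψ) =
      Jn (PowerSeries.X : PowerSeries k) a ψ n := rfl
  rw [hJ] at eB
  have eA' := dualQuotEquiv (Jn (PowerSeries.X : PowerSeries k) a ψ n)
  obtain ⟨e3⟩ := ext_one_equiv Ω[Bq (PowerSeries k) (PowerSeries.X : PowerSeries k) B n⁄PowerSeries k]
    (sign (PowerSeries.X : PowerSeries k) a ψ n) (qn (PowerSeries.X : PowerSeries k) ψ n)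
    (qn_surjective (PowerSeries.X : PowerSeries k) ψ n hψ)
    (ker_qn (PowerSeries.X : PowerSeries k) a ψ n hψ hker)
    (sign_injective a ψ hψ hker hreg0 n)
  have hsign : sign (PowerSeries.X : PowerSeries k) a ψ n =
      sigG (Jn (PowerSeries.X : PowerSeries k) a ψ n) := rfl
  rw [hsign] at e3
  exact ⟨ebc.trans (eB.trans (eA'.symm.trans e3.symm))⟩

end S16192

end Groth.Agent.Lib.Helper24FD
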