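import Mathlib

set_option autoImplicit false

namespace Groth.Agent.Lib.Helper24FL

open Function

universe u v

section A

variable {R : Type*} [CommRing R] {σ : R →+* R} [RingHomSurjective σ]

theorem length_eq_of_bijective_semilinear {X Y : Type*} [AddCommGroup X] [Module R X]
    [AddCommGroup Y] [Module R Y] (f : X →ₛₗ[σ] Y) (hf : Bijective f) :
    Module.length R X = Module.length R Y := by
  apply WithBot.coe_injective
  rw [Module.coe_length, Module.coe_length,
    Order.krullDim_eq_of_orderIso (Submodule.orderIsoMapComapOfBijective f hf)]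

theorem length_eq_add_of_surjective_semilinear {X Y : Type*} [AddCommGroup X] [Module R X]
    [AddCommGroup Y] [Module R Y] (f : X →ₛₗ[σ] Y) (hf : Surjective f) :
    Module.length R X = Module.length R (LinearMap.ker f) + Module.length R Y := by
  have h1 := Module.length_eq_add_of_exact (LinearMap.ker f).subtype (LinearMap.ker f).mkQ
    (Submodule.subtype_injective _) (Submodule.mkQ_surjective _)
    (LinearMap.exact_subtype_mkQ (LinearMap.ker f))
  rw [h1]
  congr 1
  let g : (X ⧸ LinearMap.ker f) →ₛₗ[σ] Y := (LinearMap.ker f).liftQ f le_rfl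
  apply length_eq_of_bijective_semilinear g
  constructor
  · rw [← LinearMap.ker_eq_bot]
    exact Submodule.ker_liftQ_eq_bot _ _ _ le_rfl
  · intro y
    obtain ⟨x, rfl⟩ := hf y
    exact ⟨Submodule.Quotient.mk x, rfl⟩

/-- `c ^ n • X` as a submodule. -/
def P (c : R) (n : ℕ) (X : Type*) [AddCommGroup X] [Module R X] : Submodule R X :=
  LinearMap.range (c ^ n • (LinearMap.id : X →ₗ[R] X))

theorem mem_P {c : R} {n : ℕ} {X : Type*} [AddCommGroup X] [Module R X] {x : X} :
    x ∈ P c n X ↔ ∃ y : X, c ^ n • y = x := by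
  unfold P
  rw [LinearMap.mem_range]
  rfl

theorem P_pi (c : R) (n : ℕ) {ι : Type*} (X : ι → Type*) [∀ i, AddCommGroup (X i)]
    [∀ i, Module R (X i)] :
    P c n (∀ i, X i) = Submodule.pi Set.univ (fun i => P c n (X i)) := by
  ext x
  rw [mem_P, Submodule.mem_pi]
  constructor
  · rintro ⟨y, rfl⟩ i _
    rw [mem_P]
    exact ⟨y i, rfl⟩
  · intro h
    have h' : ∀ i, ∃ y : X i, c ^ n • y = x i := fun i => mem_P.mp (h i (Set.mem_univ i))
    choose y hy using h'
    exact ⟨y, funext hy⟩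

theorem length_quot_pi (c : R) (n : ℕ) {ι : Type*} [Fintype ι] (X : ι → Type*)
    [∀ i, AddCommGroup (X i)] [∀ i, Module R (X i)] :
    Module.length R ((∀ i, X i) ⧸ P c n (∀ i, X i)) =
      ∑ i, Module.length R (X i ⧸ P c n (X i)) := by
  classical
  rw [← Module.length_pi_of_fintype]
  rw [← (Submodule.quotientPi (fun i => P c n (X i))).length_eq]
  exact (Submodule.quotEquivOfEq _ _ (P_pi c n X)).length_eq

end A

section Count

variable {R : Type*} [CommRing R] {σ : R →+* R} [RingHomSurjective σ]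
variable {A B M : Type*} [AddCommGroup A] [Module R A] [AddCommGroup B] [Module R B]
  [AddCommGroup M] [Module R M]

theorem count (c : R) (hc : σ c = c) (n : ℕ)
    (hA : IsFiniteLength R A) (hM : IsFiniteLength R M)
    (ι : A →ₗ[R] B) (Φ : B →ₛₗ[σ] M) (hΦι : ∀ a, Φ (ι a) = 0) (hsurj : Surjective Φ)
    (hker : ∀ b, Φ b = 0 → ∃ a, ι a = b)
    (hlen : Module.length R (B ⧸ P c n B) =
      Module.length R (M ⧸ P c n M) + Module.length R (A ⧸ P c n A)) :
    ∀ a, ι a ∈ P c n B → a ∈ P c n A := by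
  have hPA : P c n A ≤ (P c n B).comap ι := by
    intro a ha
    rw [mem_P] at ha
    obtain ⟨y, rfl⟩ := ha
    rw [Submodule.mem_comap, map_smul, mem_P]
    exact ⟨ι y, rfl⟩
  have hσ : σ (c ^ n) = c ^ n := by rw [map_pow, hc]
  have hPB : P c n B ≤ (P c n M).comap Φ := by
    intro b hb
    rw [mem_P] at hb
    obtain ⟨y, rfl⟩ := hb
    rw [Submodule.mem_comap, map_smulₛₗ, hσ, mem_P]
    exact ⟨Φ y, rfl⟩
  let g : A ⧸ P c n A →ₗ[R] B ⧸ P c n B := (P c n A).mapQ (P c n B) ι hPA
  let Ψ : B ⧸ P c n B →ₛₗ[σ] M ⧸ P c n M := (P c n B).mapQ (P c n M) Φ hPB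
  have hΨsurj : Surjective Ψ := by
    intro m
    obtain ⟨m, rfl⟩ := Submodule.Quotient.mk_surjective _ m
    obtain ⟨b, rfl⟩ := hsurj m
    exact ⟨Submodule.Quotient.mk b, rfl⟩
  have hexact : LinearMap.ker Ψ = LinearMap.range g := by
    ext x
    obtain ⟨b, rfl⟩ := Submodule.Quotient.mk_surjective _ x
    rw [LinearMap.mem_ker, LinearMap.mem_range]
    constructor
    · intro h
      have h1 : Φ b ∈ P c n M := by
        have : Submodule.Quotient.mk (Φ b) = (0 : M ⧸ P c n M) := h
        rwa [Submodule.Quotient.mk_eq_zero] at this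
      rw [mem_P] at h1
      obtain ⟨m, hm⟩ := h1
      obtain ⟨b', rfl⟩ := hsurj m
      have h2 : Φ (b - c ^ n • b') = 0 := by
        rw [map_sub, map_smulₛₗ, hσ, hm, sub_self]
      obtain ⟨a, ha⟩ := hker _ h2
      refine ⟨Submodule.Quotient.mk a, ?_⟩
      change Submodule.Quotient.mk (ι a) = Submodule.Quotient.mk b
      rw [Submodule.Quotient.eq, ha, mem_P]
      exact ⟨-b', by simp⟩
    · rintro ⟨y, hy⟩
      obtain ⟨a, rfl⟩ := Submodule.Quotient.mk_surjective _ y
      rw [← hy]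
      change Submodule.Quotient.mk (Φ (ι a)) = (0 : M ⧸ P c n M)
      rw [hΦι, Submodule.Quotient.mk_zero]
  have hAq : IsFiniteLength R (A ⧸ P c n A) :=
    hA.of_surjective (f := (P c n A).mkQ) (Submodule.mkQ_surjective _)
  have hMq : IsFiniteLength R (M ⧸ P c n M) :=
    hM.of_surjective (f := (P c n M).mkQ) (Submodule.mkQ_surjective _)
  have hAtop : Module.length R (A ⧸ P c n A) ≠ ⊤ := Module.length_ne_top_iff.mpr hAq
  have hMtop : Module.length R (M ⧸ P c n M) ≠ ⊤ := Module.length_ne_top_iff.mpr hMq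
  have h1 := length_eq_add_of_surjective_semilinear Ψ hΨsurj
  have h2 : Module.length R (A ⧸ P c n A) =
      Module.length R (LinearMap.ker g) + Module.length R (LinearMap.range g) :=
    Module.length_eq_add_of_exact (LinearMap.ker g).subtype g.rangeRestrict
      (Submodule.subtype_injective _) g.surjective_rangeRestrict
      (by
        rw [LinearMap.exact_iff, LinearMap.ker_rangeRestrict, Submodule.range_subtype])
  have h3 : Module.length R (LinearMap.ker Ψ) = Module.length R (LinearMap.range g) := by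
    rw [hexact]
  rw [h3, hlen] at h1
  -- h1 : len M/P + len A/P = len range g + len M/P
  have h4 : Module.length R (A ⧸ P c n A) = Module.length R (LinearMap.range g) := by
    rw [add_comm] at h1
    exact (WithTop.add_right_inj hMtop).mp h1
  have hrtop : Module.length R (LinearMap.range g) ≠ ⊤ := h4 ▸ hAtop
  have h5 : Module.length R (LinearMap.ker g) = 0 := by
    rw [h4] at h2
    have : (0 : ℕ∞) + Module.length R (LinearMap.range g) =
        Module.length R (LinearMap.ker g) + Module.length R (LinearMap.range g) := by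
      rw [zero_add]; exact h2
    exact ((WithTop.add_right_inj hrtop).mp this).symm
  have h6 : LinearMap.ker g = ⊥ := by
    rw [Module.length_eq_zero_iff] at h5
    exact Submodule.subsingleton_iff_eq_bot.mp h5
  intro a ha
  have h7 : g (Submodule.Quotient.mk a) = 0 := by
    change Submodule.Quotient.mk (ι a) = (0 : B ⧸ P c n B)
    rwa [Submodule.Quotient.mk_eq_zero]
  have h8 : Submodule.Quotient.mk a ∈ LinearMap.ker g := h7
  rw [h6, Submodule.mem_bot, Submodule.Quotient.mk_eq_zero] at h8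
  exact h8

end Count

section Split

open DirectSum

variable {R : Type u} [CommRing R] [IsDomain R] [IsDiscreteValuationRing R]

theorem exists_isCompl_of_pure (c : R) (hc : Irreducible c)
    {N' : Type*} {N : Type v} [AddCommGroup N'] [Module R N'] [AddCommGroup N] [Module R N]
    [Module.Finite R N] (htors : ∃ n : ℕ, ∀ x : N, c ^ n • x = 0)
    (f : N' →ₗ[R] N) (hpure : ∀ (n : ℕ) (x : N'), f x ∈ P c n N → x ∈ P c n N') :
    ∃ Q : Submodule R N, IsCompl (LinearMap.range f) Q := by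
  classical
  have hc0 : c ≠ 0 := hc.ne_zero
  obtain ⟨n0, hn0⟩ := htors
  have hT : Module.IsTorsion R (N ⧸ LinearMap.range f) := by
    intro q
    obtain ⟨y, rfl⟩ := Submodule.Quotient.mk_surjective _ q
    refine ⟨⟨c ^ n0, mem_nonZeroDivisors_of_ne_zero (pow_ne_zero _ hc0)⟩, ?_⟩
    change c ^ n0 • Submodule.Quotient.mk y = (0 : N ⧸ LinearMap.range f)
    rw [← Submodule.Quotient.mk_smul, hn0, Submodule.Quotient.mk_zero]
  obtain ⟨ι, _, p, hp, e, ⟨E⟩⟩ := Module.equiv_directSum_of_isTorsion hT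
  -- generators
  let q : ι → N ⧸ LinearMap.range f := fun i =>
    E.symm (lof R ι (fun i => R ⧸ Submodule.span R {p i ^ e i}) i (Submodule.Quotient.mk 1))
  have hq : ∀ i, c ^ e i • q i = 0 := by
    intro i
    obtain ⟨u, hu⟩ := IsDiscreteValuationRing.associated_of_irreducible R (hp i) hc
    -- p i * u = c
    have h1 : p i ^ e i • q i = 0 := by
      change p i ^ e i • E.symm _ = 0
      rw [← map_smul, ← map_smul, ← Submodule.Quotient.mk_smul, smul_eq_mul, mul_one]
      rw [(Submodule.Quotient.mk_eq_zero _).mpr (Submodule.mem_span_singleton_self _)]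
      simp
    rw [← hu, mul_pow, mul_comm, mul_smul, h1, smul_zero]
  have hlift : ∀ i, ∃ y : N, Submodule.Quotient.mk y = q i ∧ c ^ e i • y = 0 := by
    intro i
    obtain ⟨y, hy⟩ := Submodule.Quotient.mk_surjective _ (q i)
    have h1 : c ^ e i • y ∈ LinearMap.range f := by
      rw [← Submodule.Quotient.mk_eq_zero, Submodule.Quotient.mk_smul, hy, hq]
    obtain ⟨x, hx⟩ := h1
    have h2 : f x ∈ P c (e i) N := by rw [hx, mem_P]; exact ⟨y, rfl⟩
    obtain ⟨x', hx'⟩ := mem_P.mp (hpure _ _ h2)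
    refine ⟨y - f x', ?_, ?_⟩
    · rw [Submodule.Quotient.mk_sub, hy,
        (Submodule.Quotient.mk_eq_zero (LinearMap.range f)).mpr (LinearMap.mem_range_self f x'), sub_zero]
    · rw [smul_sub, ← map_smul, hx', hx, sub_self]
  choose y hy1 hy2 using hlift
  have hy3 : ∀ i, p i ^ e i • y i = 0 := by
    intro i
    obtain ⟨u, hu⟩ := IsDiscreteValuationRing.associated_of_irreducible R hc (hp i)
    rw [← hu, mul_pow, mul_comm, mul_smul, hy2, smul_zero]
  let s : (⨁ i, R ⧸ Submodule.span R {p i ^ e i}) →ₗ[R] N :=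
    toModule R ι N (fun i => Submodule.liftQ _ (LinearMap.toSpanSingleton R N (y i)) (by
      rw [Submodule.span_le, Set.singleton_subset_iff, SetLike.mem_coe, LinearMap.mem_ker,
        LinearMap.toSpanSingleton_apply]
      exact hy3 i))
  have hs : (LinearMap.range f).mkQ.comp s = E.symm.toLinearMap := by
    apply DirectSum.linearMap_ext
    intro i
    apply Submodule.linearMap_qext
    apply LinearMap.ext_ring
    simp only [LinearMap.comp_apply, Submodule.mkQ_apply, LinearEquiv.coe_coe]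
    change Submodule.Quotient.mk (s (lof R ι _ i (Submodule.Quotient.mk 1))) = q i
    rw [← hy1 i]
    congr 1
    simp only [s, toModule_lof, Submodule.liftQ_apply, LinearMap.toSpanSingleton_apply, one_smul]
  have hs' : ∀ t, Submodule.Quotient.mk (s t) = E.symm t := fun t => LinearMap.congr_fun hs t
  refine ⟨LinearMap.range s, ?_⟩
  constructor
  · rw [Submodule.disjoint_def]
    rintro x hx ⟨t, rfl⟩
    have h1 : Submodule.Quotient.mk (s t) = (0 : N ⧸ LinearMap.range f) :=
      (Submodule.Quotient.mk_eq_zero _).mpr hx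
    rw [hs'] at h1
    have : t = 0 := by simpa using h1
    rw [this, map_zero]
  · rw [codisjoint_iff, eq_top_iff]
    intro x _
    have h1 : x - s (E (Submodule.Quotient.mk x)) ∈ LinearMap.range f := by
      rw [← Submodule.Quotient.mk_eq_zero, Submodule.Quotient.mk_sub, hs', E.symm_apply_apply,
        sub_self]
    have : x = (x - s (E (Submodule.Quotient.mk x))) + s (E (Submodule.Quotient.mk x)) := by abel
    rw [this]
    exact Submodule.add_mem_sup h1 ⟨_, rfl⟩

end Split

section Nil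

variable {R : Type*} [CommRing R] [IsLocalRing R]

theorem exists_pow_smul_eq_zero (c : R) (hc : c ∈ IsLocalRing.maximalIdeal R)
    {X : Type*} [AddCommGroup X] [Module R X] (hX : IsFiniteLength R X) :
    ∃ n : ℕ, ∀ x : X, c ^ n • x = 0 := by
  obtain ⟨hN, hA⟩ := isFiniteLength_iff_isNoetherian_isArtinian.mp hX
  obtain ⟨n, hn⟩ := IsArtinian.range_smul_pow_stabilizes X c
  refine ⟨n, fun x => ?_⟩
  let S : Submodule R X := LinearMap.range (c ^ n • LinearMap.id : X →ₗ[R] X)
  have hS : S = ⊥ := by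
    apply Submodule.eq_bot_of_le_smul_of_le_jacobson_bot (Ideal.span {c}) S
      (IsNoetherian.noetherian S)
    · intro y hy
      have hy' : y ∈ LinearMap.range (c ^ (n + 1) • LinearMap.id : X →ₗ[R] X) := by
        rw [← hn (n + 1) (Nat.le_succ n)]; exact hy
      obtain ⟨z, rfl⟩ := hy'
      have : (c ^ (n + 1) • LinearMap.id : X →ₗ[R] X) z = c • (c ^ n • z) := by
        rw [LinearMap.smul_apply, LinearMap.id_apply, pow_succ, mul_comm, mul_smul]
      rw [this]
      exact Submodule.smul_mem_smul (Ideal.mem_span_singleton_self c) ⟨z, rfl⟩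
    · rw [IsLocalRing.jacobson_eq_maximalIdeal ⊥ bot_ne_top, Ideal.span_le,
        Set.singleton_subset_iff]
      exact hc
  have : c ^ n • x ∈ S := ⟨x, rfl⟩
  rw [hS] at this
  exact this

end Nil

section Concrete

variable {R : Type u} [CommRing R] {σ : R →+* R} [RingHomSurjective σ] (c : R)
variable (r : ℕ) (N : ℕ → Type v) [∀ i, AddCommGroup (N i)] [∀ i, Module R (N i)]
variable (α : ∀ i, N (i + 1) →ₗ[R] N i) (φ : ∀ i, N i →ₛₗ[σ] N 0)

/-- `N_1 ⊕ ⋯ ⊕ N_r` -/
abbrev AA : Type v := ∀ i : Fin r, N ((i : ℕ) + 1)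

/-- `N_0 ⊕ ⋯ ⊕ N_r` -/
abbrev BB : Type v := ∀ j : Fin (r + 1), N (j : ℕ)

/-- `(x_i) ↦ (α_0 x_1, …, α_{r-1} x_r, 0)` -/
def iota1 : AA r N →ₗ[R] BB r N := LinearMap.pi fun j =>
  if h : (j : ℕ) < r then (α j).comp (LinearMap.proj (⟨j, h⟩ : Fin r)) else 0

/-- `(x_i) ↦ (0, c x_1, …, c x_r)` -/
def iota2 : AA r N →ₗ[R] BB r N := LinearMap.pi fun j =>
  match j with
  | ⟨0, _⟩ => 0
  | ⟨i + 1, h⟩ => c • LinearMap.proj (⟨i, Nat.lt_of_succ_lt_succ h⟩ : Fin r)

theorem iota1_of_lt (a : AA r N) (j : Fin (r + 1)) (h : (j : ℕ) < r) :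
    iota1 r N α a j = α j (a ⟨j, h⟩) := by
  unfold iota1
  rw [LinearMap.pi_apply, dif_pos h]
  rfl

theorem iota1_of_not_lt (a : AA r N) (j : Fin (r + 1)) (h : ¬ (j : ℕ) < r) :
    iota1 r N α a j = 0 := by
  unfold iota1
  rw [LinearMap.pi_apply, dif_neg h]
  rfl

theorem iota2_zero (a : AA r N) (h : 0 < r + 1) : iota2 c r N a ⟨0, h⟩ = 0 := rfl

theorem iota2_succ (a : AA r N) (i : ℕ) (h : i + 1 < r + 1) :
    iota2 c r N a ⟨i + 1, h⟩ = c • a ⟨i, Nat.lt_of_succ_lt_succ h⟩ := rfl

/-- `(y_i) ↦ ∑ φ_i(y_i)` -/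
def Phi : BB r N →ₛₗ[σ] N 0 := ∑ j : Fin (r + 1), (φ j).comp (LinearMap.proj j)

theorem Phi_apply (b : BB r N) : Phi r N φ b = ∑ j : Fin (r + 1), φ j (b j) := by
  unfold Phi
  rw [LinearMap.sum_apply]
  rfl

end Concrete

section Concrete2

variable {R : Type u} [CommRing R] {σ : R →+* R} [RingHomSurjective σ] (c : R) (hc : σ c = c)
variable (r : ℕ) (N : ℕ → Type v) [∀ i, AddCommGroup (N i)] [∀ i, Module R (N i)]
variable (α : ∀ i, N (i + 1) →ₗ[R] N i) (φ : ∀ i, N i →ₛₗ[σ] N 0)

include hc in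
theorem Phi_iota (hφ : ∀ i, i < r → ∀ y : N (i + 1), φ i (α i y) = c • φ (i + 1) y)
    (a : AA r N) : Phi r N φ ((iota1 r N α - iota2 c r N) a) = 0 := by
  rw [LinearMap.sub_apply, map_sub, Phi_apply, Phi_apply, Fin.sum_univ_castSucc,
    Fin.sum_univ_succ (fun j : Fin (r + 1) => φ j (iota2 c r N a j))]
  have h1 : φ (Fin.last r : Fin (r + 1)) (iota1 r N α a (Fin.last r)) = 0 := by
    rw [iota1_of_not_lt r N α a (Fin.last r) (by simp), map_zero]
  have h2 : φ ((0 : Fin (r + 1)) : ℕ) (iota2 c r N a 0) = 0 := by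
    rw [show iota2 c r N a 0 = 0 from rfl, map_zero]
  rw [h1, h2, add_zero, zero_add, sub_eq_zero]
  apply Finset.sum_congr rfl
  intro i _
  rw [iota1_of_lt r N α a (Fin.castSucc i) i.isLt]
  have h3 : iota2 c r N a i.succ = c • a i := rfl
  rw [h3]
  have h4 := hφ i i.isLt (a i)
  rw [map_smulₛₗ, hc]
  exact h4

theorem Phi_surj
    (hsurj : ∀ m : N 0, ∃ y : (i : ℕ) → N i, (∀ i, r < i → y i = 0) ∧
      (Finset.range (r + 1)).sum (fun i => φ i (y i)) = m) :
    Surjective (Phi r N φ) := by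
  intro m
  obtain ⟨y, -, hy⟩ := hsurj m
  refine ⟨fun j => y j, ?_⟩
  rw [Phi_apply, ← hy, Finset.sum_range]

theorem Phi_ker
    (hker : ∀ y : (i : ℕ) → N i, (∀ i, r < i → y i = 0) →
      (Finset.range (r + 1)).sum (fun i => φ i (y i)) = 0 →
        ∃ z : (i : ℕ) → N (i + 1), (∀ i, r ≤ i → z i = 0) ∧
          y 0 = α 0 (z 0) ∧ ∀ i, y (i + 1) = α (i + 1) (z (i + 1)) - c • z i)
    (b : BB r N) (hb : Phi r N φ b = 0) : ∃ a, (iota1 r N α - iota2 c r N) a = b := by
  let y : (i : ℕ) → N i := fun i => if h : i < r + 1 then b ⟨i, h⟩ else 0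
  have hy1 : ∀ i, r < i → y i = 0 := by
    intro i hi
    simp only [y]
    rw [dif_neg (by omega)]
  have hyb : ∀ j : Fin (r + 1), y j = b j := by
    intro j
    simp only [y]
    rw [dif_pos j.isLt]
  have hy2 : (Finset.range (r + 1)).sum (fun i => φ i (y i)) = 0 := by
    rw [Finset.sum_range, ← hb, Phi_apply]
    apply Finset.sum_congr rfl
    intro j _
    rw [hyb]
  obtain ⟨z, hz1, hz2, hz3⟩ := hker y hy1 hy2
  refine ⟨fun i => z i, ?_⟩
  funext j
  obtain ⟨j, hj⟩ := j
  rw [LinearMap.sub_apply, Pi.sub_apply]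
  cases j with
  | zero =>
    rw [iota2_zero, sub_zero, ← hyb ⟨0, hj⟩]
    change _ = y 0
    rw [hz2]
    by_cases h0 : 0 < r
    · rw [iota1_of_lt r N α _ ⟨0, hj⟩ h0]
    · rw [iota1_of_not_lt r N α _ ⟨0, hj⟩ h0, hz1 0 (by omega), map_zero]
  | succ i =>
    rw [iota2_succ, ← hyb ⟨i + 1, hj⟩]
    change _ = y (i + 1)
    rw [hz3]
    by_cases h0 : i + 1 < r
    · rw [iota1_of_lt r N α _ ⟨i + 1, hj⟩ h0]
    · rw [iota1_of_not_lt r N α _ ⟨i + 1, hj⟩ h0, hz1 (i + 1) (by omega), map_zero]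

theorem hlen (n : ℕ) :
    Module.length R (BB r N ⧸ P c n (BB r N)) =
      Module.length R (N 0 ⧸ P c n (N 0)) + Module.length R (AA r N ⧸ P c n (AA r N)) := by
  rw [length_quot_pi c n (fun j : Fin (r + 1) => N (j : ℕ)),
    length_quot_pi c n (fun i : Fin r => N ((i : ℕ) + 1)), Fin.sum_univ_succ]
  rfl

end Concrete2

section Concrete3

variable {R : Type u} [CommRing R] {σ : R →+* R} [RingHomSurjective σ] (c : R) (hc : σ c = c)
variable (r : ℕ) (N : ℕ → Type v) [∀ i, AddCommGroup (N i)] [∀ i, Module R (N i)]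
variable (α : ∀ i, N (i + 1) →ₗ[R] N i) (φ : ∀ i, N i →ₛₗ[σ] N 0)

include hc in
theorem iota_pure (hfl : ∀ i, IsFiniteLength R (N i))
    (hφ : ∀ i, i < r → ∀ y : N (i + 1), φ i (α i y) = c • φ (i + 1) y)
    (hsurj : ∀ m : N 0, ∃ y : (i : ℕ) → N i, (∀ i, r < i → y i = 0) ∧
      (Finset.range (r + 1)).sum (fun i => φ i (y i)) = m)
    (hker : ∀ y : (i : ℕ) → N i, (∀ i, r < i → y i = 0) →
      (Finset.range (r + 1)).sum (fun i => φ i (y i)) = 0 →
        ∃ z : (i : ℕ) → N (i + 1), (∀ i, r ≤ i → z i = 0) ∧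
          y 0 = α 0 (z 0) ∧ ∀ i, y (i + 1) = α (i + 1) (z (i + 1)) - c • z i)
    (n : ℕ) (a : AA r N) (ha : (iota1 r N α - iota2 c r N) a ∈ P c n (BB r N)) :
    a ∈ P c n (AA r N) := by
  have hA : IsFiniteLength R (AA r N) := by
    rw [isFiniteLength_iff_isNoetherian_isArtinian]
    have h1 : ∀ i : Fin r, IsNoetherian R (N ((i : ℕ) + 1)) := fun i =>
      (isFiniteLength_iff_isNoetherian_isArtinian.mp (hfl _)).1
    have h2 : ∀ i : Fin r, IsArtinian R (N ((i : ℕ) + 1)) := fun i =>
      (isFiniteLength_iff_isNoetherian_isArtinian.mp (hfl _)).2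
    exact ⟨inferInstance, inferInstance⟩
  exact count c hc n hA (hfl 0) (iota1 r N α - iota2 c r N) (Phi r N φ)
    (Phi_iota c hc r N α φ hφ) (Phi_surj r N φ hsurj) (Phi_ker c r N α φ hker)
    (hlen c r N n) a ha

include hc in
theorem alpha_pure_step (hfl : ∀ i, IsFiniteLength R (N i))
    (hφ : ∀ i, i < r → ∀ y : N (i + 1), φ i (α i y) = c • φ (i + 1) y)
    (hsurj : ∀ m : N 0, ∃ y : (i : ℕ) → N i, (∀ i, r < i → y i = 0) ∧
      (Finset.range (r + 1)).sum (fun i => φ i (y i)) = m)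
    (hker : ∀ y : (i : ℕ) → N i, (∀ i, r < i → y i = 0) →
      (Finset.range (r + 1)).sum (fun i => φ i (y i)) = 0 →
        ∃ z : (i : ℕ) → N (i + 1), (∀ i, r ≤ i → z i = 0) ∧
          y 0 = α 0 (z 0) ∧ ∀ i, y (i + 1) = α (i + 1) (z (i + 1)) - c • z i)
    (n : ℕ) (i : ℕ) (hi : i < r) (x : N (i + 1)) (hx1 : α i x ∈ P c n (N i))
    (hx2 : c • x ∈ P c n (N (i + 1))) : x ∈ P c n (N (i + 1)) := by
  classical
  let a : AA r N := Pi.single (⟨i, hi⟩ : Fin r) x
  have ha : (iota1 r N α - iota2 c r N) a ∈ P c n (BB r N) := by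
    rw [P_pi, Submodule.mem_pi]
    intro j _
    rw [LinearMap.sub_apply, Pi.sub_apply]
    apply Submodule.sub_mem
    · by_cases h : (j : ℕ) < r
      · rw [iota1_of_lt r N α a j h]
        by_cases hji : (j : ℕ) = i
        · obtain ⟨j, hj⟩ := j
          simp only at hji
          subst hji
          have : a ⟨j, h⟩ = x := Pi.single_eq_same _ _
          rw [this]
          exact hx1
        · have : a ⟨j, h⟩ = 0 := by
            apply Pi.single_eq_of_ne
            intro h'
            apply hji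
            exact congrArg Fin.val h'
          rw [this, map_zero]
          exact Submodule.zero_mem _
      · rw [iota1_of_not_lt r N α a j h]
        exact Submodule.zero_mem _
    · obtain ⟨j, hj⟩ := j
      cases j with
      | zero =>
        rw [iota2_zero]
        exact Submodule.zero_mem _
      | succ k =>
        rw [iota2_succ]
        by_cases hki : k = i
        · subst hki
          have : a ⟨k, Nat.lt_of_succ_lt_succ hj⟩ = x := Pi.single_eq_same _ _
          rw [this]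
          exact hx2
        · have : a ⟨k, Nat.lt_of_succ_lt_succ hj⟩ = 0 := by
            apply Pi.single_eq_of_ne
            intro h'
            apply hki
            exact congrArg Fin.val h'
          rw [this, smul_zero]
          exact Submodule.zero_mem _
  have h1 := iota_pure c hc r N α φ hfl hφ hsurj hker n a ha
  rw [P_pi, Submodule.mem_pi] at h1
  have h2 := h1 ⟨i, hi⟩ (Set.mem_univ _)
  have : a ⟨i, hi⟩ = x := Pi.single_eq_same _ _
  rwa [this] at h2

include hc in
theorem alpha_pure (hfl : ∀ i, IsFiniteLength R (N i))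
    (hφ : ∀ i, i < r → ∀ y : N (i + 1), φ i (α i y) = c • φ (i + 1) y)
    (hsurj : ∀ m : N 0, ∃ y : (i : ℕ) → N i, (∀ i, r < i → y i = 0) ∧
      (Finset.range (r + 1)).sum (fun i => φ i (y i)) = m)
    (hker : ∀ y : (i : ℕ) → N i, (∀ i, r < i → y i = 0) →
      (Finset.range (r + 1)).sum (fun i => φ i (y i)) = 0 →
        ∃ z : (i : ℕ) → N (i + 1), (∀ i, r ≤ i → z i = 0) ∧
          y 0 = α 0 (z 0) ∧ ∀ i, y (i + 1) = α (i + 1) (z (i + 1)) - c • z i)
    (n : ℕ) (i : ℕ) (hi : i < r) (x : N (i + 1)) (hx1 : α i x ∈ P c n (N i)) :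
    x ∈ P c n (N (i + 1)) := by
  have key : ∀ m : ℕ, ∀ x : N (i + 1), α i x ∈ P c n (N i) → c ^ m • x ∈ P c n (N (i + 1)) →
      x ∈ P c n (N (i + 1)) := by
    intro m
    induction m with
    | zero =>
      intro x _ h
      rwa [pow_zero, one_smul] at h
    | succ m ih =>
      intro x h1 h2
      apply ih x h1
      apply alpha_pure_step c hc r N α φ hfl hφ hsurj hker n i hi (c ^ m • x)
      · rw [map_smul]
        exact Submodule.smul_mem _ _ h1
      · rw [smul_smul, ← pow_succ']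
        exact h2
  exact key n x hx1 (mem_P.mpr ⟨x, rfl⟩)

end Concrete3

section Final

variable {R : Type u} [CommRing R] [IsDomain R] [IsDiscreteValuationRing R]
  {σ : R →+* R} [RingHomSurjective σ] (c : R) (hc : σ c = c) (hirr : Irreducible c)
variable (r : ℕ) (N : ℕ → Type v) [∀ i, AddCommGroup (N i)] [∀ i, Module R (N i)]
variable (α : ∀ i, N (i + 1) →ₗ[R] N i) (φ : ∀ i, N i →ₛₗ[σ] N 0)

include hc hirr in
theorem main (hfl : ∀ i, IsFiniteLength R (N i))
    (hφ : ∀ i, i < r → ∀ y : N (i + 1), φ i (α i y) = c • φ (i + 1) y)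
    (hsurj : ∀ m : N 0, ∃ y : (i : ℕ) → N i, (∀ i, r < i → y i = 0) ∧
      (Finset.range (r + 1)).sum (fun i => φ i (y i)) = m)
    (hker : ∀ y : (i : ℕ) → N i, (∀ i, r < i → y i = 0) →
      (Finset.range (r + 1)).sum (fun i => φ i (y i)) = 0 →
        ∃ z : (i : ℕ) → N (i + 1), (∀ i, r ≤ i → z i = 0) ∧
          y 0 = α 0 (z 0) ∧ ∀ i, y (i + 1) = α (i + 1) (z (i + 1)) - c • z i)
    (i : ℕ) (hi : i < r) :
    Function.Injective (α i) ∧
      ∃ Q : Submodule R (N i), IsCompl (LinearMap.range (α i)) Q := by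
  have hcm : c ∈ IsLocalRing.maximalIdeal R := by
    rw [IsLocalRing.mem_maximalIdeal, mem_nonunits_iff]
    exact hirr.not_isUnit
  have hpure := alpha_pure c hc r N α φ hfl hφ hsurj hker
  constructor
  · rw [injective_iff_map_eq_zero]
    intro x hx
    obtain ⟨n, hn⟩ := exists_pow_smul_eq_zero c hcm (hfl (i + 1))
    have h1 : α i x ∈ P c n (N i) := by rw [hx]; exact Submodule.zero_mem _
    obtain ⟨y, hy⟩ := mem_P.mp (hpure n i hi x h1)
    rw [← hy, hn]
  · have hfin : Module.Finite R (N i) := by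
      have := (isFiniteLength_iff_isNoetherian_isArtinian.mp (hfl i)).1
      infer_instance
    exact exists_isCompl_of_pure c hirr (exists_pow_smul_eq_zero c hcm (hfl i)) (α i)
      (fun n x hx => hpure n i hi x hx)

end Final

end Groth.Agent.Lib.Helper24FL
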