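import Mathlib
import Groth.Prelude.Def_W4c6instabfans3FanCvx
import Groth.Agent.Lib.Helper15FanY
import Groth.Agent.S19370
import Groth.Agent.S19369
import Groth.Agent.S19366

set_option autoImplicit false
set_option backward.isDefEq.respectTransparency.types false
set_option maxHeartbeats 4000000
set_option synthInstance.maxHeartbeats 400000

namespace Groth.Agent.Lib.Helper24FanMax

universe u v

open CategoryTheory Opposite Instab Instab.Fan Filter Topology
open Groth.Agent.S19370.Aux.FanCvx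
open Groth.Agent.Lib.Helper15.FanCone

variable {F : Fan.{u}}

/-- rational points are dense in a realizable set -/
theorem exists_rational_mem (U : Set (P F)) (hU : IsRealizable U) (W : Set U) (hW : IsOpen W)
    (p : U) (hp : p ∈ W) : ∃ q : U, q ∈ W ∧ (q : P F).IsRational := by
  obtain ⟨S, hS⟩ := hU
  have hy : (p : P F) ∈ Set.range (P.map S.ι) := hS ▸ p.2
  obtain ⟨z, hz⟩ := hy
  obtain ⟨⟨⟨n, ξ'⟩, v⟩, rfl⟩ := Quot.exists_rep z
  have hcell : ∀ w : Orth n, P.mk (S.ι.app (op n) ξ') w ∈ U := by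
    intro w
    rw [hS]
    exact ⟨P.mk ξ' w, rfl⟩
  have hpv : (p : P F) = P.mk (S.ι.app (op n) ξ') v := hz.symm
  let g : Orth n → U := fun w => ⟨P.mk (S.ι.app (op n) ξ') w, hcell w⟩
  have hg : Continuous g := Continuous.subtype_mk (Groth.Agent.S19370.Aux.FanCvx.continuous_mk _) _
  have hgv : g v = p := Subtype.ext hpv.symm
  have h1 : Tendsto (fun k => g (approx v k)) atTop (𝓝 p) := by
    rw [← hgv]
    exact (hg.tendsto v).comp (tendsto_approx v)
  obtain ⟨k, hk⟩ := (h1.eventually (hW.mem_nhds hp)).exists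
  exact ⟨g (approx v k), hk, approx_rational _ v k⟩

/-- the midpoint of two orthant vectors -/
noncomputable def addOrth {n : ICone} (a b : Orth n) : Orth n :=
  ⟨a.1 + b.1, fun i => add_nonneg (a.2.1 i) (b.2.1 i), fun h => by
    apply a.2.2
    funext i
    have h1 := congr_fun h i
    simp only [Pi.add_apply, Pi.zero_apply] at h1
    have ha := a.2.1 i
    have hb := b.2.1 i
    simp only [Pi.zero_apply]
    linarith⟩

theorem continuous_addOrth {n : ICone} (b : Orth n) : Continuous (fun a : Orth n => addOrth a b) := by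
  rw [(Groth.Agent.S19370.Aux.FanCvx.inducing_val n).continuous_iff]
  show Continuous fun a : Orth n => a.1 + b.1
  exact (continuous_subtype_val).add continuous_const

theorem pos_of_smul {n : ICone} (a b : Orth n) (c : ℝ) (h : b.1 = c • a.1) : 0 < c := by
  by_contra hc
  push Not at hc
  apply b.2.2
  funext i
  have h1 := congr_fun h i
  simp only [Pi.smul_apply, smul_eq_mul] at h1
  have ha := a.2.1 i
  have hb := b.2.1 i
  simp only [Pi.zero_apply]
  nlinarith [mul_nonneg (neg_nonneg.2 hc) ha]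

/-- Case A: a sequence of competitors converging to a local maximum is impossible. -/
theorem caseA (hF : F.IsQuasiSeparated) (U : Set (P F)) (hU : IsConvex U)
    {Γ : Type v} [LinearOrder Γ] (Φ : U → Γ) (hs : IsStrictQuasiConcaveOn U Φ) (x : U)
    (hx : IsLocalMax Φ x) (z : ℕ → U) (hz : ∀ k, z k ≠ x ∧ Φ x ≤ Φ (z k))
    (hzx : Tendsto z atTop (𝓝 x)) : False := by
  have hzx' : Tendsto (fun k => (z k : P F)) atTop (𝓝 (x : P F)) :=
    (continuous_subtype_val.tendsto x).comp hzx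
  obtain ⟨n, σ, r, vv, v₀, hr, hvv, hv₀, hlim⟩ :=
    Groth.Agent.S19369.result F hF (fun k => (z k : P F)) (x : P F) hzx'
  have h₂ : P.mk σ v₀ ∈ U := hv₀ ▸ x.2
  have h₀ : ∀ j, P.mk σ (vv j) ∈ U := fun j => (hvv j) ▸ (z (r j)).2
  have hab : ∀ j, ∃ a b : ℝ, 0 < a ∧ 0 < b ∧ (addOrth (vv j) v₀).1 = a • (vv j).1 + b • v₀.1 :=
    fun j => ⟨1, 1, one_pos, one_pos, by simp [addOrth]⟩
  have h₁ : ∀ j, P.mk σ (addOrth (vv j) v₀) ∈ U :=
    fun j => hU.1 n σ (vv j) (addOrth (vv j) v₀) v₀ (h₀ j) h₂ (hab j)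
  have e₂ : (⟨P.mk σ v₀, h₂⟩ : U) = x := Subtype.ext hv₀
  have e₀ : ∀ j, (⟨P.mk σ (vv j), h₀ j⟩ : U) = z (r j) := fun j => Subtype.ext (hvv j)
  -- the midpoints converge to x
  have hmid : Tendsto (fun j => (⟨P.mk σ (addOrth (vv j) v₀), h₁ j⟩ : U)) atTop (𝓝 x) := by
    rw [tendsto_subtype_rng]
    have h2 : P.mk σ (addOrth v₀ v₀) = (x : P F) := by
      rw [← hv₀]
      exact (mk_smul σ v₀ (addOrth v₀ v₀) 2 two_pos (by
        show v₀.1 + v₀.1 = (2 : ℝ) • v₀.1
        rw [two_smul])).symm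
    show Tendsto (fun j => P.mk σ (addOrth (vv j) v₀)) atTop (𝓝 (x : P F))
    rw [← h2]
    exact ((Groth.Agent.S19370.Aux.FanCvx.continuous_mk σ).tendsto _).comp (((continuous_addOrth v₀).tendsto v₀).comp hlim)
  obtain ⟨j, hj⟩ := (hmid.eventually hx).exists
  have hnm : ¬ ∃ c : ℝ, v₀.1 = c • (vv j).1 := by
    rintro ⟨c, hc⟩
    have hcpos := pos_of_smul (vv j) v₀ c hc
    have := mk_smul σ (vv j) v₀ c hcpos hc
    apply (hz (r j)).1
    apply Subtype.ext
    rw [← hvv j, this, hv₀]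
  have hq := hs n σ (vv j) (addOrth (vv j) v₀) v₀ (h₀ j) (h₁ j) h₂ hnm (hab j)
  rw [e₂, e₀ j, min_eq_right (hz (r j)).2] at hq
  exact absurd hj (not_le.mpr hq)

/-- the segment point `(|1 - t|, |t|)` of the orthant of `[2]`. -/
noncomputable def segPt (t : ℝ) : Orth two :=
  ⟨fun j => |1 - t| * (Orth.basis two 0).1 j + |t| * (Orth.basis two 1).1 j, fun j => by
    have h0 := (Orth.basis two 0).2.1 j
    have h1 := (Orth.basis two 1).2.1 j
    have := abs_nonneg t
    have := abs_nonneg (1 - t)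
    positivity, fun h => by
    have e00 : (Orth.basis two 0).1 0 = 1 := by simp [Orth.basis]
    have e10 : (Orth.basis two 1).1 0 = 0 := by
      show (if (0 : Fin two.dim) = 1 then (1 : ℝ) else 0) = 0
      rw [if_neg (by decide)]
    have e01 : (Orth.basis two 0).1 1 = 0 := by
      show (if (1 : Fin two.dim) = 0 then (1 : ℝ) else 0) = 0
      rw [if_neg (by decide)]
    have e11 : (Orth.basis two 1).1 1 = 1 := by simp [Orth.basis]
    have h0 := congr_fun h 0
    have h1 := congr_fun h 1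
    simp only [Pi.zero_apply] at h0 h1
    rw [e00, e10] at h0
    rw [e01, e11] at h1
    have a1 : |1 - t| = 0 := by linarith
    have a2 : |t| = 0 := by linarith
    rw [abs_eq_zero] at a1 a2
    linarith⟩

theorem segPt_zero : segPt 0 = Orth.basis two 0 := by
  apply Subtype.ext
  funext j
  simp [segPt]

theorem segPt_one : segPt 1 = Orth.basis two 1 := by
  apply Subtype.ext
  funext j
  simp [segPt]

theorem continuous_segPt : Continuous segPt := by
  rw [(Groth.Agent.S19370.Aux.FanCvx.inducing_val two).continuous_iff]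
  apply continuous_pi
  intro j
  show Continuous fun t : ℝ => |1 - t| * (Orth.basis two 0).1 j + |t| * (Orth.basis two 1).1 j
  fun_prop

instance (n : ICone) : FirstCountableTopology (Orth n) :=
  (Groth.Agent.S19370.Aux.FanCvx.inducing_val n).firstCountableTopology

/-- Case B: if no sequence of competitors converges to `x`, the competitors form a closed set, and a
connectedness argument on a rational segment gives a contradiction. -/
theorem caseB (hF : F.IsQuasiSeparated) (hT2 : T2Space (P F)) (U : Set (P F)) (hUc : IsCompact U)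
    (hU : IsConvex U) {Γ : Type v} [LinearOrder Γ] [TopologicalSpace Γ] [OrderTopology Γ]
    (Φ : U → Γ) (hΦc : Continuous Φ) (hs : IsStrictQuasiConcaveOn U Φ) (x y : U) (hxy : x ≠ y)
    (hle : Φ x ≤ Φ y)
    (hno : ¬ ∃ z : ℕ → U, (∀ k, z k ≠ x ∧ Φ x ≤ Φ (z k)) ∧ Tendsto z atTop (𝓝 x)) : False := by
  have hUcl : IsClosed U := hUc.isClosed
  let B' : Set (P F) := {p | ∃ h : p ∈ U, (⟨p, h⟩ : U) ≠ x ∧ Φ x ≤ Φ ⟨p, h⟩}
  let E' : Set (P F) := {p | ∃ h : p ∈ U, Φ x ≤ Φ ⟨p, h⟩}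
  have hE' : IsClosed E' := by
    have h1 : IsClosed {z : U | Φ x ≤ Φ z} := isClosed_le continuous_const hΦc
    have h2 : E' = Subtype.val '' {z : U | Φ x ≤ Φ z} := by
      ext p
      constructor
      · rintro ⟨h, hp⟩
        exact ⟨⟨p, h⟩, hp, rfl⟩
      · rintro ⟨z, hz, rfl⟩
        exact ⟨z.2, hz⟩
    rw [h2]
    exact hUcl.isClosedEmbedding_subtypeVal.isClosedMap _ h1
  have hBE : B' ⊆ E' := fun p ⟨h, _, hp⟩ => ⟨h, hp⟩
  have hB' : IsClosed B' := by
    rw [(Groth.Agent.S19366.result F hF).2]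
    intro n ξ
    let C : Set (Orth n) := {v | P.mk ξ v ∈ B'}
    have hC : IsClosed C := by
      apply IsSeqClosed.isClosed
      intro vk vinf hmem hlim
      have hl : Tendsto (fun k => P.mk ξ (vk k)) atTop (𝓝 (P.mk ξ vinf)) :=
        ((Groth.Agent.S19370.Aux.FanCvx.continuous_mk ξ).tendsto vinf).comp hlim
      have hin : P.mk ξ vinf ∈ E' :=
        hE'.mem_of_tendsto hl (Eventually.of_forall fun k => hBE (hmem k))
      obtain ⟨hinf, hΦinf⟩ := hin
      by_cases e : (⟨P.mk ξ vinf, hinf⟩ : U) = x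
      · exfalso
        apply hno
        refine ⟨fun k => ⟨P.mk ξ (vk k), (hmem k).choose⟩, fun k => (hmem k).choose_spec, ?_⟩
        rw [tendsto_subtype_rng]
        have : (x : P F) = P.mk ξ vinf := by rw [← e]
        rw [this]
        exact hl
      · exact ⟨hinf, e, hΦinf⟩
    have hCs : ∀ v w : Orth n, v ∈ C → ∀ c : ℝ, 0 < c → w.1 = c • v.1 → w ∈ C := by
      intro v w hv c hc hw
      show P.mk ξ w ∈ B'
      rw [← mk_smul ξ v w c hc hw]
      exact hv
    have h3 : B' ∩ P.cell ξ = P.mk ξ '' C := by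
      ext p
      constructor
      · rintro ⟨hp, v, rfl⟩
        exact ⟨v, hp, rfl⟩
      · rintro ⟨v, hv, rfl⟩
        exact ⟨hv, v, rfl⟩
    rw [h3]
    exact (Groth.Agent.S19366.result F hF).1 n ξ C hC hCs
  have hxB : (x : P F) ∉ B' := fun ⟨h, hne, _⟩ => hne rfl
  have hyB : (y : P F) ∈ B' := ⟨y.2, fun h => hxy h.symm, hle⟩
  have hB'c : IsCompact B' := hUc.of_isClosed_subset hB' (fun p hp => hp.1)
  obtain ⟨O₁, O₂, hO₁, hO₂, hxO, hBO, hdisj⟩ :=
    SeparatedNhds.of_isCompact_isCompact (isCompact_singleton (x := (x : P F))) hB'c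
      (Set.disjoint_singleton_left.2 hxB)
  have hxO₁ : (x : P F) ∈ O₁ := hxO rfl
  haveI : CompactSpace U := isCompact_iff_compactSpace.1 hUc
  let A' : Set U := {a | (a : P F) ∉ O₁ ∧ (a : P F) ∉ O₂}
  have hA'cl : IsClosed A' := by
    have h1 : IsClosed {a : U | (a : P F) ∉ O₁} :=
      (hO₁.preimage continuous_subtype_val).isClosed_compl
    have h2 : IsClosed {a : U | (a : P F) ∉ O₂} :=
      (hO₂.preimage continuous_subtype_val).isClosed_compl
    exact h1.inter h2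
  have hA'c : IsCompact A' := hA'cl.isCompact
  have hA'lt : ∀ a ∈ A', Φ a < Φ x := by
    intro a ha
    by_contra hlt
    push Not at hlt
    by_cases hax : a = x
    · exact ha.1 (hax ▸ hxO₁)
    · exact ha.2 (hBO ⟨a.2, hax, hlt⟩)
  obtain ⟨T', hT'o, hxT, hyT, hT'⟩ : ∃ T' : Set U, IsOpen T' ∧ x ∈ T' ∧ y ∈ T' ∧
      ∀ z ∈ T', ∀ a ∈ A', Φ a < Φ z := by
    rcases A'.eq_empty_or_nonempty with h | h
    · exact ⟨Set.univ, isOpen_univ, trivial, trivial, fun z _ a ha => by rw [h] at ha; exact ha.elim⟩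
    · obtain ⟨a₀, ha₀, hmax⟩ := hA'c.exists_isMaxOn h hΦc.continuousOn
      have hlt := hA'lt a₀ ha₀
      exact ⟨{z | Φ a₀ < Φ z}, isOpen_lt continuous_const hΦc, hlt, lt_of_lt_of_le hlt hle,
        fun z hz a ha => lt_of_le_of_lt (hmax ha) hz⟩
  -- rational points near x and y
  obtain ⟨x', hx'W, hx'rat⟩ := exists_rational_mem U hU.2.1 (T' ∩ Subtype.val ⁻¹' O₁)
    (hT'o.inter (hO₁.preimage continuous_subtype_val)) x ⟨hxT, hxO₁⟩
  obtain ⟨y', hy'W, hy'rat⟩ := exists_rational_mem U hU.2.1 (T' ∩ Subtype.val ⁻¹' O₂)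
    (hT'o.inter (hO₂.preimage continuous_subtype_val)) y ⟨hyT, hBO hyB⟩
  have hx'O : (x' : P F) ∈ O₁ := hx'W.2
  have hy'O : (y' : P F) ∈ O₂ := hy'W.2
  have hne : (x' : P F) ≠ y' := by
    intro h
    exact Set.disjoint_left.1 hdisj hx'O (h ▸ hy'O)
  obtain ⟨τ, hτU, hτ0, hτ1⟩ := hU.2.2 x' y' x'.2 y'.2 hx'rat hy'rat hne
  have hcell : ∀ w : Orth two, P.mk τ w ∈ U := fun w => hτU ⟨w, rfl⟩
  let f : ℝ → P F := fun t => P.mk τ (segPt t)
  have hf : Continuous f := (Groth.Agent.S19370.Aux.FanCvx.continuous_mk τ).comp continuous_segPt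
  have hZ : IsPreconnected (f '' Set.Icc 0 1) := isPreconnected_Icc.image f hf.continuousOn
  have hf0 : f 0 = x' := by show P.mk τ (segPt 0) = x'; rw [segPt_zero, hτ0]
  have hf1 : f 1 = y' := by show P.mk τ (segPt 1) = y'; rw [segPt_one, hτ1]
  by_cases hsub : f '' Set.Icc 0 1 ⊆ O₁ ∪ O₂
  · obtain ⟨p, -, hp1, hp2⟩ := hZ O₁ O₂ hO₁ hO₂ hsub
      ⟨f 0, ⟨0, ⟨le_refl _, zero_le_one⟩, rfl⟩, hf0 ▸ hx'O⟩
      ⟨f 1, ⟨1, ⟨zero_le_one, le_refl _⟩, rfl⟩, hf1 ▸ hy'O⟩
    exact Set.disjoint_left.1 hdisj hp1 hp2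
  · rw [Set.not_subset] at hsub
    obtain ⟨p, ⟨t, ht, rfl⟩, hp⟩ := hsub
    have hp1 : f t ∉ O₁ := fun h => hp (Or.inl h)
    have hp2 : f t ∉ O₂ := fun h => hp (Or.inr h)
    have ht0 : t ≠ 0 := by
      rintro rfl
      exact hp1 (hf0 ▸ hx'O)
    have ht1 : t ≠ 1 := by
      rintro rfl
      exact hp2 (hf1 ▸ hy'O)
    have ht0' : 0 < t := lt_of_le_of_ne ht.1 (Ne.symm ht0)
    have ht1' : 0 < 1 - t := sub_pos.2 (lt_of_le_of_ne ht.2 ht1)
    have haA : (⟨f t, hcell _⟩ : U) ∈ A' := ⟨hp1, hp2⟩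
    have hab : ∃ a b : ℝ, 0 < a ∧ 0 < b ∧
        (segPt t).1 = a • (Orth.basis two 0).1 + b • (Orth.basis two 1).1 := by
      refine ⟨1 - t, t, ht1', ht0', ?_⟩
      funext j
      show |1 - t| * (Orth.basis two 0).1 j + |t| * (Orth.basis two 1).1 j =
        (1 - t) * (Orth.basis two 0).1 j + t * (Orth.basis two 1).1 j
      rw [abs_of_pos ht0', abs_of_pos ht1']
    have hq := hs two τ (Orth.basis two 0) (segPt t) (Orth.basis two 1) (hcell _) (hcell _) (hcell _)
      basis_not_mul hab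
    have e0 : (⟨P.mk τ (Orth.basis two 0), hcell _⟩ : U) = x' := Subtype.ext hτ0
    have e1 : (⟨P.mk τ (Orth.basis two 1), hcell _⟩ : U) = y' := Subtype.ext hτ1
    rw [e0, e1] at hq
    have h1 := hT' x' hx'W.1 _ haA
    have h2 := hT' y' hy'W.1 _ haA
    exact absurd (lt_min h1 h2) (not_lt.2 hq.le)

theorem main (F : Fan.{u})
    (hF : F.IsQuasiSeparated) (hT2 : T2Space (Fan.P F)) (U : Set (Fan.P F)) (hUc : IsCompact U)
    (hU : Fan.IsConvex U) {Γ : Type v} [LinearOrder Γ] [TopologicalSpace Γ] [OrderTopology Γ]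
    (Φ : U → Γ) (hΦc : Continuous Φ) (hΦ : Fan.IsStrictQuasiConcaveOn U Φ) (x y : U)
    (hx : IsLocalMax Φ x) (hy : IsLocalMax Φ y) : x = y := by
  by_contra hxy
  have key : ∀ x y : U, IsLocalMax Φ x → x ≠ y → Φ x ≤ Φ y → False := by
    intro x y hx hxy hle
    by_cases h : ∃ z : ℕ → U, (∀ k, z k ≠ x ∧ Φ x ≤ Φ (z k)) ∧ Tendsto z atTop (𝓝 x)
    · obtain ⟨z, hz, hzx⟩ := h
      exact caseA hF U hU Φ hΦ x hx z hz hzx
    · exact caseB hF hT2 U hUc hU Φ hΦc hΦ x y hxy hle h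
  rcases le_total (Φ x) (Φ y) with h | h
  · exact key x y hx hxy h
  · exact key y x hy (fun e => hxy e.symm) h

end Groth.Agent.Lib.Helper24FanMax
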