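import Mathlib
import Groth.Prelude.Def_W4c6instabfans3FanCvx
import Groth.Agent.Lib.Helper15FanY
import Groth.Agent.S19369

set_option autoImplicit false
set_option backward.isDefEq.respectTransparency.types false
set_option maxHeartbeats 4000000
set_option synthInstance.maxHeartbeats 400000

namespace Groth.Agent.Lib.Helper24FanRays

universe u

open CategoryTheory Opposite Instab Instab.Fan Filter Topology
open Groth.Agent.Lib.Helper15.FanCone

variable {N : ℕ}

section Rext

variable {n : ℕ}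

/-- real extension of an integer linear map between coordinate lattices -/
noncomputable def rext (φ : (Fin n → ℤ) →ₗ[ℤ] (Fin N → ℤ)) : (Fin n → ℝ) →ₗ[ℝ] (Fin N → ℝ) where
  toFun v j := ∑ i, (φ (Pi.single i 1) j : ℝ) * v i
  map_add' a b := by
    funext j
    simp only [Pi.add_apply, mul_add, Finset.sum_add_distrib]
  map_smul' c a := by
    funext j
    simp only [Pi.smul_apply, smul_eq_mul, RingHom.id_apply, Finset.mul_sum]
    apply Finset.sum_congr rfl
    intro i _
    ring

theorem rext_apply (φ : (Fin n → ℤ) →ₗ[ℤ] (Fin N → ℤ)) (v : Fin n → ℝ) (j : Fin N) :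
    rext φ v j = ∑ i, (φ (Pi.single i 1) j : ℝ) * v i := rfl

theorem lin_apply_eq_sum (φ : (Fin n → ℤ) →ₗ[ℤ] (Fin N → ℤ)) (v : Fin n → ℤ) (j : Fin N) :
    φ v j = ∑ i, φ (Pi.single i 1) j * v i := by
  classical
  have h1 : v = ∑ i, v i • (Pi.single i 1 : Fin n → ℤ) := by
    funext i'
    simp [Finset.sum_apply, Pi.single_apply]
  conv_lhs => rw [h1]
  rw [map_sum, Finset.sum_apply]
  apply Finset.sum_congr rfl
  intro i _
  rw [map_smul, Pi.smul_apply, smul_eq_mul, mul_comm]

theorem rext_intCast (φ : (Fin n → ℤ) →ₗ[ℤ] (Fin N → ℤ)) (v : Fin n → ℤ) :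
    rext φ (fun i => (v i : ℝ)) = fun j => (φ v j : ℝ) := by
  funext j
  rw [lin_apply_eq_sum, rext_apply]
  push_cast
  rfl

theorem rext_eq_zero (φ : (Fin n → ℤ) →ₗ[ℤ] (Fin N → ℤ)) (hφ : Function.Injective φ)
    (u : Fin n → ℝ) (h : rext φ u = 0) : u = 0 := by
  by_contra hne
  obtain ⟨i₀, hi₀⟩ : ∃ i, u i ≠ 0 := by
    by_contra hall
    push Not at hall
    exact hne (funext hall)
  have key : ∀ u' : Fin n → ℝ, rext φ u' = 0 → 0 < u' i₀ → False := by
    intro u' h' hpos
    obtain ⟨z, hz1, hz2⟩ := exists_int_solution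
      (fun (j : Fin N) (i : Fin n) => φ (Pi.single i 1) j) u'
      (fun j => by simpa [rext_apply] using congr_fun h' j)
    have hz0 : φ z = 0 := by
      funext j
      rw [lin_apply_eq_sum]
      exact hz1 j
    have : z = 0 := hφ (by rw [hz0, map_zero])
    have h2 := hz2 i₀ hpos
    rw [this] at h2
    simp at h2
  rcases lt_or_gt_of_ne hi₀ with hlt | hgt
  · apply key (-u)
    · rw [map_neg, h, neg_zero]
    · simpa using hlt
  · exact key u h hgt

theorem rext_injective (φ : (Fin n → ℤ) →ₗ[ℤ] (Fin N → ℤ)) (hφ : Function.Injective φ) :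
    Function.Injective (rext φ) := by
  intro a b hab
  have : rext φ (a - b) = 0 := by rw [map_sub, hab, sub_self]
  exact sub_eq_zero.mp (rext_eq_zero φ hφ _ this)

theorem rext_comp {k : ℕ} (φ : (Fin n → ℤ) →ₗ[ℤ] (Fin N → ℤ))
    (ψ : (Fin k → ℤ) →ₗ[ℤ] (Fin n → ℤ)) (x : Fin k → ℝ) :
    rext (φ.comp ψ) x = rext φ (fun i => ∑ l, (ψ (Pi.single l 1) i : ℝ) * x l) := by
  funext j
  simp only [rext_apply, LinearMap.comp_apply]
  have h1 : ∀ l : Fin k, (φ (ψ (Pi.single l 1)) j : ℝ) =
      ∑ i, (φ (Pi.single i 1) j : ℝ) * (ψ (Pi.single l 1) i : ℝ) := by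
    intro l
    rw [lin_apply_eq_sum φ (ψ (Pi.single l 1)) j]
    push_cast
    rfl
  simp_rw [h1, Finset.sum_mul, Finset.mul_sum]
  rw [Finset.sum_comm]
  apply Finset.sum_congr rfl
  intro i _
  apply Finset.sum_congr rfl
  intro l _
  ring

end Rext

section G

variable {ι : Type} (K : ι → Set (Fin N → ℝ))

theorem toVec_eq (n : ICone) (φ : RFan.Cone K n) (v : Fin n.dim → ℝ) :
    RFan.toVec K n φ v = rext φ.1 v := rfl

theorem toVec_ne_zero (n : ICone) (φ : RFan.Cone K n) (v : Orth n) : RFan.toVec K n φ v.1 ≠ 0 := by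
  intro h
  exact v.2.2 (rext_eq_zero φ.1 φ.2.1 v.1 h)

/-- the ray of a nonzero vector -/
def ray (w : {w : Fin N → ℝ // w ≠ 0}) : Rays N := Quot.mk _ w

theorem ray_eq {w w' : {w : Fin N → ℝ // w ≠ 0}} (c : ℝ) (hc : 0 < c) (h : w'.1 = c • w.1) :
    ray w = ray w' := Quot.sound ⟨c, hc, h⟩

/-- the map on the disjoint union of orthants -/
noncomputable def gPt (p : Pt (RFan K)) : Rays N :=
  ray ⟨RFan.toVec K p.1.1 p.1.2 p.2.1, toVec_ne_zero K p.1.1 p.1.2 p.2⟩

theorem toVec_map {k n : ICone} (ψ : k ⟶ n) (φ : RFan.Cone K n) (v : Fin k.dim → ℝ) :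
    RFan.toVec K k ((RFan K).map ψ.op φ) v = RFan.toVec K n φ (ψ.realMap v) := by
  rw [toVec_eq, toVec_eq]
  exact rext_comp φ.1 ψ.toLin v

theorem gPt_rel {a b : Pt (RFan K)} (h : Rel (RFan K) a b) : gPt K a = gPt K b := by
  obtain ⟨ψ, φ, v, w, c, hc, hw⟩ := h
  apply ray_eq c hc
  show RFan.toVec K _ φ w.1 = c • RFan.toVec K _ ((RFan K).map ψ.op φ) v.1
  rw [toVec_map, hw, toVec_eq, toVec_eq, map_smul]

/-- the canonical map from the projective realization to the space of rays -/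
noncomputable def g : P (RFan K) → Rays N := Quot.lift (gPt K) (fun _ _ h => gPt_rel K h)

theorem g_mk (n : ICone) (φ : (RFan K).obj (op n)) (v : Orth n) (h : RFan.toVec K n φ v.1 ≠ 0) :
    g K (P.mk φ v) = Quot.mk _ ⟨RFan.toVec K n φ v.1, h⟩ := rfl

theorem continuous_ray : Continuous (ray : {w : Fin N → ℝ // w ≠ 0} → Rays N) :=
  continuous_quot_mk

theorem continuous_g : Continuous (g K) := by
  apply continuous_quot_lift
  apply continuous_sigma
  rintro ⟨n, φ⟩
  show Continuous fun v : Orth n => ray ⟨RFan.toVec K n φ v.1, toVec_ne_zero K n φ v⟩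
  apply continuous_ray.comp
  apply Continuous.subtype_mk
  show Continuous fun v : Orth n => rext φ.1 v.1
  exact (LinearMap.continuous_of_finiteDimensional (rext φ.1)).comp continuous_subtype_val

end G

end Groth.Agent.Lib.Helper24FanRays
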