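import Mathlib
import Groth.Prelude.Def_W4c6instabfans3FanCvx

set_option autoImplicit false
set_option backward.isDefEq.respectTransparency.types false
set_option maxHeartbeats 4000000
set_option synthInstance.maxHeartbeats 400000

namespace Groth.Agent.Lib.Helper24FanRays

open Instab Instab.Fan Filter Topology

variable {N : ℕ}

/-- normalisation of a nonzero vector -/
noncomputable def nrm (w : {w : Fin N → ℝ // w ≠ 0}) : Fin N → ℝ := ‖w.1‖⁻¹ • w.1

theorem continuous_nrm : Continuous (nrm : {w : Fin N → ℝ // w ≠ 0} → Fin N → ℝ) := by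
  unfold nrm
  have h1 : Continuous fun w : {w : Fin N → ℝ // w ≠ 0} => ‖w.1‖ :=
    continuous_norm.comp continuous_subtype_val
  exact (h1.inv₀ (fun w => norm_ne_zero_iff.2 w.2)).smul continuous_subtype_val

theorem nrm_rel (w w' : {w : Fin N → ℝ // w ≠ 0}) (h : ∃ c : ℝ, 0 < c ∧ w'.1 = c • w.1) :
    nrm w = nrm w' := by
  obtain ⟨c, hc, hw⟩ := h
  unfold nrm
  rw [hw, norm_smul, Real.norm_of_nonneg hc.le, smul_smul]
  congr 1
  have := norm_ne_zero_iff.2 w.2
  field_simp

/-- the normalisation map on rays -/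
noncomputable def nrmR : Rays N → Fin N → ℝ := Quot.lift nrm (fun a b h => nrm_rel a b h)

theorem continuous_nrmR : Continuous (nrmR : Rays N → Fin N → ℝ) :=
  continuous_quot_lift _ continuous_nrm

theorem nrmR_injective : Function.Injective (nrmR : Rays N → Fin N → ℝ) := by
  intro a b hab
  obtain ⟨w, rfl⟩ := Quot.exists_rep a
  obtain ⟨w', rfl⟩ := Quot.exists_rep b
  have h : ‖w.1‖⁻¹ • w.1 = ‖w'.1‖⁻¹ • w'.1 := hab
  have hw := norm_ne_zero_iff.2 w.2
  have hw' := norm_ne_zero_iff.2 w'.2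
  apply Quot.sound
  refine ⟨‖w'.1‖ * ‖w.1‖⁻¹, mul_pos (norm_pos_iff.2 w'.2) (inv_pos.2 (norm_pos_iff.2 w.2)), ?_⟩
  rw [mul_smul, h, smul_smul, mul_inv_cancel₀ hw', one_smul]

instance : T2Space (Rays N) :=
  T2Space.of_injective_continuous nrmR_injective continuous_nrmR

end Groth.Agent.Lib.Helper24FanRays
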