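import Mathlib
import Groth.Prelude.Def_W4c6instabfans3FanCvx
import Groth.Agent.Lib.Helper15FanY
import Groth.Agent.Lib.Helper15FanLin
import Groth.Agent.Lib.Helper24FanRaysA

set_option autoImplicit false
set_option backward.isDefEq.respectTransparency.types false
set_option maxHeartbeats 4000000
set_option synthInstance.maxHeartbeats 400000

namespace Groth.Agent.Lib.Helper24FanRays

universe u

open CategoryTheory Opposite Instab Instab.Fan Filter Topology
open Groth.Agent.Lib.Helper15.FanCone Groth.Agent.Lib.Helper15.FanLin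

variable {N : ℕ} {ι : Type} (K : ι → Set (Fin N → ℝ))

theorem rays_rel_equiv : Equivalence
    (fun v w : {v : Fin N → ℝ // v ≠ 0} => ∃ c : ℝ, 0 < c ∧ w.1 = c • v.1) where
  refl v := ⟨1, one_pos, (one_smul _ _).symm⟩
  symm := by
    rintro v w ⟨c, hc, h⟩
    exact ⟨c⁻¹, inv_pos.2 hc, by rw [h, smul_smul, inv_mul_cancel₀ hc.ne', one_smul]⟩
  trans := by
    rintro a b d ⟨c, hc, h⟩ ⟨c', hc', h'⟩
    exact ⟨c' * c, mul_pos hc' hc, by rw [h', h, smul_smul]⟩

theorem ray_eq_iff (w w' : {w : Fin N → ℝ // w ≠ 0}) :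
    ray w = ray w' ↔ ∃ c : ℝ, 0 < c ∧ w'.1 = c • w.1 := by
  constructor
  · intro h
    exact (rays_rel_equiv.eqvGen_iff).1 (Quot.eqvGen_exact h)
  · rintro ⟨c, hc, h⟩
    exact ray_eq c hc h

/-- the common subcone through a common point of two cones -/
theorem mk_eq_of_toVec_eq {n n' : ICone} (φ : RFan.Cone K n) (φ' : RFan.Cone K n')
    (v : Orth n) (v' : Orth n') (h : RFan.toVec K n φ v.1 = RFan.toVec K n' φ' v'.1) :
    P.mk (F := RFan K) φ v = P.mk (F := RFan K) φ' v' := by
  classical
  let A : Fin N → (Fin n.dim ⊕ Fin n'.dim) → ℤ := fun j =>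
    Sum.elim (fun i => φ.1 (Pi.single i 1) j) (fun i => - φ'.1 (Pi.single i 1) j)
  let u : (Fin n.dim ⊕ Fin n'.dim) → ℝ := Sum.elim v.1 v'.1
  have hu0 : ∀ i, 0 ≤ u i := by
    rintro (i | i)
    · exact v.2.1 i
    · exact v'.2.1 i
  have hu : ∀ j, ∑ i, (A j i : ℝ) * u i = 0 := by
    intro j
    rw [Fintype.sum_sum_type]
    have h1 := congr_fun h j
    rw [toVec_eq, toVec_eq, rext_apply, rext_apply] at h1
    simp only [A, u, Sum.elim_inl, Sum.elim_inr, Int.cast_neg, neg_mul, Finset.sum_neg_distrib]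
    linarith
  obtain ⟨m, w, x, hx, hw, -, hind, hux⟩ := exists_decomp A _ u hu0 hu le_rfl
  have hm : 0 < m := by
    rcases Nat.eq_zero_or_pos m with h0 | h0
    · exfalso
      subst h0
      apply v.2.2
      funext i
      have := hux (Sum.inl i)
      simpa [u] using this
    · exact h0
  let k : ICone := ⟨⟨m, hm⟩⟩
  let W : Fin m → (Fin n.dim → ℤ) := fun l i => (w l (Sum.inl i) : ℤ)
  let W' : Fin m → (Fin n'.dim → ℤ) := fun l i => (w l (Sum.inr i) : ℤ)
  have hWW : ∀ l, φ.1 (W l) = φ'.1 (W' l) := by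
    intro l
    funext j
    rw [lin_apply_eq_sum, lin_apply_eq_sum]
    have := hw l j
    rw [Fintype.sum_sum_type] at this
    simp only [A, Sum.elim_inl, Sum.elim_inr, neg_mul, Finset.sum_neg_distrib] at this
    simp only [W, W']
    linarith
  let L : (Fin m → ℤ) →ₗ[ℤ] (Fin n.dim → ℤ) := Fintype.linearCombination ℤ W
  let L' : (Fin m → ℤ) →ₗ[ℤ] (Fin n'.dim → ℤ) := Fintype.linearCombination ℤ W'
  have hLL : ∀ t, φ.1 (L t) = φ'.1 (L' t) := by
    intro t
    simp only [L, L', Fintype.linearCombination_apply, map_sum, map_smul, hWW]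
  have hLinj : Function.Injective L ∧ Function.Injective L' := by
    have key : ∀ t, (L t = 0 ∨ L' t = 0) → t = 0 := by
      intro t ht
      have h0 : L t = 0 ∧ L' t = 0 := by
        rcases ht with h1 | h1
        · refine ⟨h1, φ'.2.1 ?_⟩
          rw [← hLL, h1, map_zero, map_zero]
        · refine ⟨φ.2.1 ?_, h1⟩
          rw [hLL, h1, map_zero, map_zero]
      funext l
      apply hind t _ l
      rintro (i | i)
      · have := congr_fun h0.1 i
        simp only [L, Fintype.linearCombination_apply, Finset.sum_apply, Pi.smul_apply, smul_eq_mul,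
          Pi.zero_apply, W] at this
        exact this
      · have := congr_fun h0.2 i
        simp only [L', Fintype.linearCombination_apply, Finset.sum_apply, Pi.smul_apply, smul_eq_mul,
          Pi.zero_apply, W'] at this
        exact this
    constructor
    · intro a b hab
      have := key (a - b) (Or.inl (by rw [map_sub, hab, sub_self]))
      exact sub_eq_zero.1 this
    · intro a b hab
      have := key (a - b) (Or.inr (by rw [map_sub, hab, sub_self]))
      exact sub_eq_zero.1 this
  have hnn : ∀ (t : Fin m → ℤ), (∀ l, 0 ≤ t l) → (∀ i, 0 ≤ L t i) ∧ (∀ i, 0 ≤ L' t i) := by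
    intro t ht
    constructor
    · intro i
      simp only [L, Fintype.linearCombination_apply, Finset.sum_apply, Pi.smul_apply, smul_eq_mul, W]
      exact Finset.sum_nonneg fun l _ => mul_nonneg (ht l) (Int.natCast_nonneg _)
    · intro i
      simp only [L', Fintype.linearCombination_apply, Finset.sum_apply, Pi.smul_apply, smul_eq_mul, W']
      exact Finset.sum_nonneg fun l _ => mul_nonneg (ht l) (Int.natCast_nonneg _)
  let ψ : k ⟶ n := ⟨L, hLinj.1, fun t ht => (hnn t ht).1⟩
  let ψ' : k ⟶ n' := ⟨L', hLinj.2, fun t ht => (hnn t ht).2⟩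
  have hcone : (RFan K).map ψ.op φ = (RFan K).map ψ'.op φ' := by
    apply Subtype.ext
    apply LinearMap.ext
    intro t
    exact hLL t
  let y : Orth k := ⟨x, fun l => (hx l).le, fun h0 => by
    have := hx ⟨0, hm⟩
    rw [h0] at this
    exact lt_irrefl _ this⟩
  have hL1 : ∀ l, L (Pi.single l 1) = W l := by
    intro l
    simp [L, Fintype.linearCombination_apply, Pi.single_apply]
  have hL1' : ∀ l, L' (Pi.single l 1) = W' l := by
    intro l
    simp [L', Fintype.linearCombination_apply, Pi.single_apply]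
  refine mk_eq_of_common (F := RFan K) φ φ' v v' ψ ψ' y 1 1 hcone one_pos one_pos ?_ ?_
  · rw [one_smul]
    funext i
    have := hux (Sum.inl i)
    simp only [u, Sum.elim_inl] at this
    rw [this]
    show _ = ∑ l, ((L (Pi.single l 1) i : ℤ) : ℝ) * x l
    simp only [hL1, W]
    apply Finset.sum_congr rfl
    intro l _
    push_cast
    ring
  · rw [one_smul]
    funext i
    have := hux (Sum.inr i)
    simp only [u, Sum.elim_inr] at this
    rw [this]
    show _ = ∑ l, ((L' (Pi.single l 1) i : ℤ) : ℝ) * x l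
    simp only [hL1', W']
    apply Finset.sum_congr rfl
    intro l _
    push_cast
    ring

/-- scaling of an orthant vector -/
noncomputable def smulOrth {n : ICone} (c : ℝ) (hc : 0 < c) (v : Orth n) : Orth n :=
  ⟨c • v.1, fun i => mul_nonneg hc.le (v.2.1 i), fun h => v.2.2 (by
    have := congrArg (fun z => c⁻¹ • z) h
    simpa [smul_smul, inv_mul_cancel₀ hc.ne'] using this)⟩

theorem g_injective : Function.Injective (g K) := by
  intro a b hab
  obtain ⟨n, φ, v, rfl⟩ := mk_surjective a
  obtain ⟨n', φ', v', rfl⟩ := mk_surjective b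
  rw [g_mk K n φ v (toVec_ne_zero K n φ v), g_mk K n' φ' v' (toVec_ne_zero K n' φ' v')] at hab
  obtain ⟨c, hc, h⟩ := (ray_eq_iff _ _).1 hab
  have h' : RFan.toVec K n' φ' v'.1 = c • RFan.toVec K n φ v.1 := h
  have e1 : P.mk (F := RFan K) φ v = P.mk (F := RFan K) φ (smulOrth c hc v) :=
    mk_smul φ v (smulOrth c hc v) c hc rfl
  rw [e1]
  apply mk_eq_of_toVec_eq
  show RFan.toVec K n φ (c • v.1) = _
  rw [h', toVec_eq, toVec_eq, map_smul]

end Groth.Agent.Lib.Helper24FanRays
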