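import Mathlib

set_option autoImplicit false
set_option backward.isDefEq.respectTransparency.types false
set_option maxHeartbeats 4000000
set_option synthInstance.maxHeartbeats 400000

namespace Groth.Agent.Lib.Helper24FanRays

open Filter Topology

variable {N : ℕ}

/-- real cast of an integer vector -/
def rc (g : Fin N → ℤ) : Fin N → ℝ := fun j => (g j : ℝ)

/-- the cone spanned by a finite set of integer vectors -/
def cone (G : Finset (Fin N → ℤ)) : Set (Fin N → ℝ) :=
  {x | ∃ c : (Fin N → ℤ) → ℝ, (∀ g, 0 ≤ c g) ∧ x = ∑ g ∈ G, c g • rc g}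

theorem cone_mono {G' G : Finset (Fin N → ℤ)} (h : G' ⊆ G) : cone G' ⊆ cone G := by
  classical
  rintro x ⟨c, hc, rfl⟩
  refine ⟨fun g => if g ∈ G' then c g else 0, fun g => by dsimp only; split_ifs <;> simp [hc g], ?_⟩
  rw [← Finset.sum_subset h]
  · apply Finset.sum_congr rfl
    intro g hg
    simp [hg]
  · intro g _ hg
    simp [hg]

theorem smul_mem_cone {G : Finset (Fin N → ℤ)} {x : Fin N → ℝ} (hx : x ∈ cone G) (t : ℝ)
    (ht : 0 ≤ t) : t • x ∈ cone G := by
  obtain ⟨c, hc, rfl⟩ := hx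
  refine ⟨fun g => t * c g, fun g => mul_nonneg ht (hc g), ?_⟩
  rw [Finset.smul_sum]
  apply Finset.sum_congr rfl
  intro g _
  rw [smul_smul]

/-- conic Caratheodory -/
theorem exists_indep (G : Finset (Fin N → ℤ)) : ∀ (x : Fin N → ℝ), x ∈ cone G →
    ∃ G' ⊆ G, LinearIndependent ℝ (fun g : G' => rc g.1) ∧
      ∃ c : (Fin N → ℤ) → ℝ, (∀ g ∈ G', 0 < c g) ∧ x = ∑ g ∈ G', c g • rc g := by
  classical
  induction G using Finset.strongInduction with
  | H G ih =>
    rintro x ⟨c, hc, rfl⟩
    -- if some coefficient vanishes, drop it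
    by_cases hz : ∃ g ∈ G, c g = 0
    · obtain ⟨g₀, hg₀, hcg₀⟩ := hz
      have hx' : ∑ g ∈ G, c g • rc g ∈ cone (G.erase g₀) := by
        refine ⟨c, hc, ?_⟩
        rw [← Finset.add_sum_erase G _ hg₀, hcg₀, zero_smul, zero_add]
      obtain ⟨G', hG', hli, c', hc', hx⟩ := ih (G.erase g₀) (Finset.erase_ssubset hg₀) _ hx'
      exact ⟨G', hG'.trans (Finset.erase_subset _ _), hli, c', hc', hx⟩
    push Not at hz
    have hpos : ∀ g ∈ G, 0 < c g := fun g hg => lt_of_le_of_ne (hc g) (Ne.symm (hz g hg))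
    by_cases hli : LinearIndependent ℝ (fun g : G => rc g.1)
    · exact ⟨G, subset_rfl, hli, c, hpos, rfl⟩
    rw [Fintype.not_linearIndependent_iff] at hli
    obtain ⟨lam, hlam, g₁, hg₁⟩ := hli
    -- extend to a function, WLOG a positive entry
    have key : ∀ μ : (Fin N → ℤ) → ℝ, (∑ g ∈ G, μ g • rc g = 0) → (∃ g ∈ G, 0 < μ g) →
        ∃ G' ⊆ G, LinearIndependent ℝ (fun g : G' => rc g.1) ∧
          ∃ c' : (Fin N → ℤ) → ℝ, (∀ g ∈ G', 0 < c' g) ∧
            ∑ g ∈ G, c g • rc g = ∑ g ∈ G', c' g • rc g := by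
      intro μ hμ hμpos
      let S := G.filter (fun g => 0 < μ g)
      have hS : S.Nonempty := by
        obtain ⟨g, hg, hgp⟩ := hμpos
        exact ⟨g, Finset.mem_filter.2 ⟨hg, hgp⟩⟩
      obtain ⟨g₀, hg₀S, hmin⟩ := Finset.exists_min_image S (fun g => c g / μ g) hS
      have hg₀ : g₀ ∈ G := (Finset.mem_filter.1 hg₀S).1
      have hμ₀ : 0 < μ g₀ := (Finset.mem_filter.1 hg₀S).2
      let t := c g₀ / μ g₀
      have ht : 0 < t := div_pos (hpos g₀ hg₀) hμ₀
      let c' : (Fin N → ℤ) → ℝ := fun g => if g ∈ G then c g - t * μ g else 0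
      have hc'0 : ∀ g, 0 ≤ c' g := by
        intro g
        simp only [c']
        split_ifs with hg
        · by_cases hgp : 0 < μ g
          · have := hmin g (Finset.mem_filter.2 ⟨hg, hgp⟩)
            have h2 : t * μ g ≤ c g := by
              have := (le_div_iff₀ hgp).1 this
              exact this
            linarith
          · push Not at hgp
            have : t * μ g ≤ 0 := mul_nonpos_of_nonneg_of_nonpos ht.le hgp
            have := hc g
            linarith
        · exact le_rfl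
      have hc'g₀ : c' g₀ = 0 := by
        simp only [c', hg₀, if_true, t]
        field_simp
        ring
      have hsum : ∑ g ∈ G, c g • rc g = ∑ g ∈ G, c' g • rc g := by
        have h1 : ∑ g ∈ G, c' g • rc g = ∑ g ∈ G, (c g • rc g - t • (μ g • rc g)) := by
          apply Finset.sum_congr rfl
          intro g hg
          simp only [c', hg, if_true, sub_smul, mul_smul]
        rw [h1, Finset.sum_sub_distrib, ← Finset.smul_sum, hμ, smul_zero, sub_zero]
      have hx' : ∑ g ∈ G, c g • rc g ∈ cone (G.erase g₀) := by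
        refine ⟨c', hc'0, ?_⟩
        rw [hsum, ← Finset.add_sum_erase G _ hg₀, hc'g₀, zero_smul, zero_add]
      obtain ⟨G', hG', hli', c'', hc'', hx⟩ := ih (G.erase g₀) (Finset.erase_ssubset hg₀) _ hx'
      exact ⟨G', hG'.trans (Finset.erase_subset _ _), hli', c'', hc'', hx⟩
    let μ : (Fin N → ℤ) → ℝ := fun g => if h : g ∈ G then lam ⟨g, h⟩ else 0
    have hμsum : ∑ g ∈ G, μ g • rc g = 0 := by
      rw [← hlam, ← Finset.sum_coe_sort G]
      apply Finset.sum_congr rfl
      intro g _
      simp [μ]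
    have hμ₁ : μ g₁.1 = lam g₁ := by simp [μ]
    rcases lt_or_gt_of_ne hg₁ with hneg | hposl
    · apply key (fun g => - μ g)
      · simp only [neg_smul, Finset.sum_neg_distrib, hμsum, neg_zero]
      · exact ⟨g₁.1, g₁.2, by rw [hμ₁]; linarith⟩
    · exact key μ hμsum ⟨g₁.1, g₁.2, by rw [hμ₁]; exact hposl⟩

end Groth.Agent.Lib.Helper24FanRays
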