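import Mathlib
import Groth.Agent.Lib.Helper24FanRaysD

set_option autoImplicit false
set_option backward.isDefEq.respectTransparency.types false
set_option maxHeartbeats 4000000
set_option synthInstance.maxHeartbeats 400000

namespace Groth.Agent.Lib.Helper24FanRays

open Filter Topology

variable {N : ℕ}

theorem isClosed_cone_of_indep (G' : Finset (Fin N → ℤ))
    (hli : LinearIndependent ℝ (fun g : G' => rc g.1)) : IsClosed (cone G') := by
  classical
  let Λ : (G' → ℝ) →ₗ[ℝ] (Fin N → ℝ) := Fintype.linearCombination ℝ (fun g : G' => rc g.1)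
  have hinj : Function.Injective Λ := linearIndependent_iff_injective_fintypeLinearCombination.1 hli
  have hce : IsClosedEmbedding Λ :=
    LinearMap.isClosedEmbedding_of_injective (LinearMap.ker_eq_bot.2 hinj)
  have horth : IsClosed {c : G' → ℝ | ∀ g, 0 ≤ c g} := by
    have : {c : G' → ℝ | ∀ g, 0 ≤ c g} = ⋂ g, {c : G' → ℝ | 0 ≤ c g} := by
      ext c; simp
    rw [this]
    exact isClosed_iInter fun g => isClosed_le continuous_const (continuous_apply g)
  have : cone G' = Λ '' {c : G' → ℝ | ∀ g, 0 ≤ c g} := by
    ext x
    constructor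
    · rintro ⟨c, hc, rfl⟩
      refine ⟨fun g => c g.1, fun g => hc _, ?_⟩
      simp only [Λ, Fintype.linearCombination_apply]
      exact Finset.sum_coe_sort G' (fun g => c g • rc g)
    · rintro ⟨c, hc, rfl⟩
      refine ⟨fun g => if h : g ∈ G' then c ⟨g, h⟩ else 0, fun g => ?_, ?_⟩
      · dsimp only
        split_ifs
        · exact hc _
        · exact le_rfl
      · simp only [Λ, Fintype.linearCombination_apply]
        rw [← Finset.sum_coe_sort G']
        apply Finset.sum_congr rfl
        intro g _
        simp
  rw [this]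
  exact hce.isClosedMap _ horth

open Classical in
theorem cone_eq_iUnion (G : Finset (Fin N → ℤ)) :
    cone G = ⋃ G' ∈ (G.powerset.filter
      (fun G' : Finset (Fin N → ℤ) => LinearIndependent ℝ (fun g : G' => rc g.1)) :
        Finset (Finset (Fin N → ℤ))), cone G' := by
  classical
  ext x
  simp only [Set.mem_iUnion, Finset.mem_filter, Finset.mem_powerset, exists_prop]
  constructor
  · intro hx
    obtain ⟨G', hG', hli, c, hc, rfl⟩ := exists_indep G x hx
    refine ⟨G', ⟨hG', hli⟩, fun g => if g ∈ G' then c g else 0, fun g => ?_, ?_⟩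
    · dsimp only
      split_ifs with h
      · exact (hc g h).le
      · exact le_rfl
    · apply Finset.sum_congr rfl
      intro g hg
      simp [hg]
  · rintro ⟨G', ⟨hG', -⟩, hx⟩
    exact cone_mono hG' hx

theorem isClosed_cone (G : Finset (Fin N → ℤ)) : IsClosed (cone G) := by
  classical
  rw [cone_eq_iUnion]
  apply Set.Finite.isClosed_biUnion (Finset.finite_toSet _)
  intro G' hG'
  exact isClosed_cone_of_indep G' (Finset.mem_filter.1 hG').2

end Groth.Agent.Lib.Helper24FanRays
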