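import Mathlib
import Groth.Prelude.Def_W4c6instabfans3FanCvx
import Groth.Agent.Lib.Helper24FanRaysA
import Groth.Agent.Lib.Helper24FanRaysB
import Groth.Agent.Lib.Helper24FanRaysC
import Groth.Agent.Lib.Helper24FanRaysE
import Groth.Agent.S19369

set_option autoImplicit false
set_option backward.isDefEq.respectTransparency.types false
set_option maxHeartbeats 4000000
set_option synthInstance.maxHeartbeats 400000

namespace Groth.Agent.Lib.Helper24FanRays

universe u

open CategoryTheory Opposite Instab Instab.Fan Filter Topology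
open Groth.Agent.Lib.Helper15.FanCone
open Groth.Agent.S19369.Aux.FanSeq (nu simplex isCompact_simplex mk_nu nu_mem)

variable {N : ℕ} {ι : Type} (K : ι → Set (Fin N → ℝ)) (m : ι → ℕ)
  (gen : ∀ a, Fin (m a) → Finset (Fin N → ℤ)) (hK : ∀ a, K a = ⋃ l, cone (gen a l))

include hK

theorem isClosed_K (a : ι) : IsClosed (K a) := by
  rw [hK a]
  exact isClosed_iUnion_of_finite fun l => isClosed_cone _

theorem smul_mem_K (a : ι) {x : Fin N → ℝ} (hx : x ∈ K a) (t : ℝ) (ht : 0 ≤ t) : t • x ∈ K a := by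
  rw [hK a] at hx ⊢
  obtain ⟨l, hl⟩ := Set.mem_iUnion.1 hx
  exact Set.mem_iUnion.2 ⟨l, smul_mem_cone hl t ht⟩

theorem toVec_mem (n : ICone) (φ : RFan.Cone K n) (v : Fin n.dim → ℝ) (hv : ∀ i, 0 ≤ v i) :
    ∃ a, RFan.toVec K n φ v ∈ K a := by
  obtain ⟨a, ha⟩ := φ.2.2
  refine ⟨a, ?_⟩
  let z : ℕ → Fin n.dim → ℤ := fun k i => (⌊v i * (k : ℝ)⌋₊ : ℤ)
  let q : ℕ → Fin n.dim → ℝ := fun k => (k : ℝ)⁻¹ • fun i => ((z k i : ℤ) : ℝ)
  have hq : Tendsto q atTop (𝓝 v) := by
    rw [tendsto_pi_nhds]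
    intro i
    have h1 := (tendsto_nat_floor_mul_div_atTop (hv i)).comp
      (tendsto_natCast_atTop_atTop (R := ℝ))
    refine h1.congr (fun k => ?_)
    simp only [Function.comp_apply, q, z, Pi.smul_apply, smul_eq_mul]
    push_cast
    rw [div_eq_inv_mul]
  have hmem : ∀ k, rext φ.1 (q k) ∈ K a := by
    intro k
    simp only [q]
    rw [map_smul, rext_intCast]
    apply smul_mem_K K m gen hK a _ _ (inv_nonneg.2 (Nat.cast_nonneg k))
    exact ha (z k) (fun i => Int.natCast_nonneg _)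
  have hc : Continuous (rext φ.1) := LinearMap.continuous_of_finiteDimensional _
  exact (isClosed_K K m gen hK a).mem_of_tendsto ((hc.tendsto v).comp hq)
    (Eventually.of_forall hmem)

omit hK in
/-- the standard cone attached to a linearly independent set of generators -/
theorem exists_stdCone (a : ι) (G' : Finset (Fin N → ℤ)) (hne : G'.Nonempty)
    (hli : LinearIndependent ℝ (fun g : G' => rc g.1)) (hsub : cone G' ⊆ K a) :
    ∃ (n : ICone) (φ : RFan.Cone K n), ∀ c : (Fin N → ℤ) → ℝ, (∀ g ∈ G', 0 < c g) →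
      ∃ v : Orth n, RFan.toVec K n φ v.1 = ∑ g ∈ G', c g • rc g := by
  classical
  let n : ICone := ⟨⟨G'.card, Finset.card_pos.2 hne⟩⟩
  let e : Fin n.dim ≃ G' := G'.equivFin.symm
  let Wv : Fin n.dim → (Fin N → ℤ) := fun i => (e i).1
  let L : (Fin n.dim → ℤ) →ₗ[ℤ] (Fin N → ℤ) := Fintype.linearCombination ℤ Wv
  have hrcL : ∀ t : Fin n.dim → ℤ, rc (L t) = ∑ i, (t i : ℝ) • rc (Wv i) := by
    intro t
    funext j
    simp only [rc, L, Fintype.linearCombination_apply, Finset.sum_apply, Pi.smul_apply, smul_eq_mul]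
    push_cast
    rfl
  have hli' : LinearIndependent ℝ (fun i : Fin n.dim => rc (Wv i)) := hli.comp e e.injective
  have hsum : ∀ f : (Fin N → ℤ) → (Fin N → ℝ), ∑ i, f (Wv i) = ∑ g ∈ G', f g := by
    intro f
    rw [← Finset.sum_coe_sort G']
    exact Equiv.sum_comp e (fun g : G' => f g.1)
  have hLinj : Function.Injective L := by
    intro s t hst
    have h0 : L (s - t) = 0 := by rw [map_sub, hst, sub_self]
    have h1 : ∑ i, ((s - t) i : ℝ) • rc (Wv i) = 0 := by
      rw [← hrcL, h0]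
      funext j
      simp [rc]
    have h2 := Fintype.linearIndependent_iff.1 hli' (fun i => ((s - t) i : ℝ)) h1
    funext i
    have := h2 i
    have h3 : (s - t) i = 0 := by exact_mod_cast this
    simpa [sub_eq_zero] using h3
  have hLK : ∀ t : Fin n.dim → ℤ, (∀ i, 0 ≤ t i) → (fun j => (L t j : ℝ)) ∈ K a := by
    intro t ht
    apply hsub
    refine ⟨fun g => if h : g ∈ G' then (t (e.symm ⟨g, h⟩) : ℝ) else 0, fun g => ?_, ?_⟩
    · dsimp only
      split_ifs
      · exact_mod_cast ht _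
      · exact le_rfl
    · show rc (L t) = _
      rw [hrcL, ← hsum (fun g => (if h : g ∈ G' then (t (e.symm ⟨g, h⟩) : ℝ) else 0) • rc g)]
      apply Finset.sum_congr rfl
      intro i _
      simp [Wv]
  refine ⟨n, ⟨L, hLinj, a, hLK⟩, fun c hc => ?_⟩
  have hL1 : ∀ i, L (Pi.single i 1) = Wv i := by
    intro i
    simp [L, Fintype.linearCombination_apply, Pi.single_apply]
  refine ⟨⟨fun i => c (Wv i), fun i => (hc _ (e i).2).le, fun h0 => ?_⟩, ?_⟩
  · have := congr_fun h0 ⟨0, n.dim.pos⟩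
    have h1 := hc _ (e ⟨0, n.dim.pos⟩).2
    simp only [Pi.zero_apply] at this
    simp only [Wv] at this
    linarith
  · rw [toVec_eq]
    funext j
    rw [rext_apply]
    simp only [hL1]
    rw [← hsum (fun g => c g • rc g), Finset.sum_apply]
    apply Finset.sum_congr rfl
    intro i _
    simp only [Pi.smul_apply, smul_eq_mul, rc]
    ring

/-- every nonzero point of `K a` lies in a cone of `R(K)` -/
theorem exists_cone_of_mem (a : ι) (w : Fin N → ℝ) (hw : w ∈ K a) (hw0 : w ≠ 0) :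
    ∃ (n : ICone) (φ : RFan.Cone K n) (v : Orth n), RFan.toVec K n φ v.1 = w := by
  have hw' := hw
  rw [hK a] at hw'
  obtain ⟨l, hl⟩ := Set.mem_iUnion.1 hw'
  obtain ⟨G', hG', hli, c, hc, hx⟩ := exists_indep (gen a l) w hl
  have hne : G'.Nonempty := by
    rcases G'.eq_empty_or_nonempty with h | h
    · exfalso
      rw [h, Finset.sum_empty] at hx
      exact hw0 hx
    · exact h
  have hsub : cone G' ⊆ K a := by
    intro x hx
    rw [hK a]
    exact Set.mem_iUnion.2 ⟨l, cone_mono hG' hx⟩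
  obtain ⟨n, φ, hφ⟩ := exists_stdCone K a G' hne hli hsub
  obtain ⟨v, hv⟩ := hφ c hc
  exact ⟨n, φ, v, hv.trans hx.symm⟩

theorem range_g [Finite ι] :
    Set.range (g K) = {r | ∃ w : {w : Fin N → ℝ // w ≠ 0}, r = Quot.mk _ w ∧ w.1 ∈ Set.iUnion K} := by
  ext r
  constructor
  · rintro ⟨p, rfl⟩
    obtain ⟨n, φ, v, rfl⟩ := mk_surjective p
    obtain ⟨a, ha⟩ := toVec_mem K m gen hK n φ v.1 v.2.1
    exact ⟨⟨RFan.toVec K n φ v.1, toVec_ne_zero K n φ v⟩, rfl, Set.mem_iUnion.2 ⟨a, ha⟩⟩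
  · rintro ⟨w, rfl, hw⟩
    obtain ⟨a, ha⟩ := Set.mem_iUnion.1 hw
    obtain ⟨n, φ, v, hv⟩ := exists_cone_of_mem K m gen hK a w.1 ha w.2
    refine ⟨P.mk (F := RFan K) φ v, ?_⟩
    rw [g_mk K n φ v (toVec_ne_zero K n φ v)]
    congr 1
    exact Subtype.ext hv

omit hK in
theorem isCompact_cell {n : ICone} (φ : (RFan K).obj (op n)) : IsCompact (P.cell φ) := by
  have : P.cell φ = P.mk φ '' simplex n := by
    ext p
    constructor
    · rintro ⟨v, rfl⟩
      exact ⟨nu v, nu_mem v, mk_nu φ v⟩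
    · rintro ⟨v, -, rfl⟩
      exact ⟨v, rfl⟩
  rw [this]
  exact (isCompact_simplex n).image (continuous_mk φ)

theorem compactSpace_P [Finite ι] : CompactSpace (P (RFan K)) := by
  classical
  let Idx := Σ a : ι, Σ l : Fin (m a), {G' : Finset (Fin N → ℤ) //
    G' ⊆ gen a l ∧ G'.Nonempty ∧ LinearIndependent ℝ (fun g : G' => rc g.1)}
  have hfin : ∀ a (l : Fin (m a)), Finite {G' : Finset (Fin N → ℤ) //
      G' ⊆ gen a l ∧ G'.Nonempty ∧ LinearIndependent ℝ (fun g : G' => rc g.1)} := by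
    intro a l
    apply Finite.of_injective
      (fun G' => (⟨G'.1, Finset.mem_powerset.2 G'.2.1⟩ : (gen a l).powerset))
    intro A B hAB
    exact Subtype.ext (congrArg (fun z => z.1) hAB)
  haveI : Finite Idx := by
    haveI := hfin
    infer_instance
  have hsub : ∀ idx : Idx, cone idx.2.2.1 ⊆ K idx.1 := by
    intro idx x hx
    rw [hK idx.1]
    exact Set.mem_iUnion.2 ⟨idx.2.1, cone_mono idx.2.2.2.1 hx⟩
  have hex := fun idx : Idx => exists_stdCone K idx.1 idx.2.2.1 idx.2.2.2.2.1 idx.2.2.2.2.2 (hsub idx)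
  choose nn φφ hφφ using hex
  have hcover : (Set.univ : Set (P (RFan K))) = ⋃ idx : Idx, P.cell (F := RFan K) (φφ idx) := by
    symm
    rw [Set.eq_univ_iff_forall]
    intro p
    obtain ⟨n, φ, v, rfl⟩ := mk_surjective p
    obtain ⟨a, ha⟩ := toVec_mem K m gen hK n φ v.1 v.2.1
    have hw0 := toVec_ne_zero K n φ v
    have ha' := ha
    rw [hK a] at ha'
    obtain ⟨l, hl⟩ := Set.mem_iUnion.1 ha'
    obtain ⟨G', hG', hli, c, hc, hx⟩ := exists_indep (gen a l) _ hl
    have hne : G'.Nonempty := by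
      rcases G'.eq_empty_or_nonempty with h | h
      · exfalso
        rw [h, Finset.sum_empty] at hx
        exact hw0 hx
      · exact h
    let idx : Idx := ⟨a, l, ⟨G', hG', hne, hli⟩⟩
    obtain ⟨v', hv'⟩ := hφφ idx c hc
    refine Set.mem_iUnion.2 ⟨idx, v', ?_⟩
    exact mk_eq_of_toVec_eq K (φφ idx) φ v' v (hv'.trans hx.symm)
  refine ⟨?_⟩
  rw [hcover]
  exact isCompact_iUnion fun idx => isCompact_cell K (φφ idx)

theorem main [Finite ι] :
    ∃ g : Fan.P (RFan K) → Fan.Rays N,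
      (∀ (n : ICone) (φ : (RFan K).obj (op n)) (v : Fan.Orth n) (h : RFan.toVec K n φ v.1 ≠ 0),
        g (Fan.P.mk φ v) = Quot.mk _ ⟨RFan.toVec K n φ v.1, h⟩) ∧
      Topology.IsEmbedding g ∧
      Set.range g = {r | ∃ w : {w : Fin N → ℝ // w ≠ 0}, r = Quot.mk _ w ∧ w.1 ∈ Set.iUnion K} := by
  haveI := compactSpace_P K m gen hK
  exact ⟨g K, fun n φ v h => g_mk K n φ v h,
    ((continuous_g K).isClosedEmbedding (g_injective K)).isEmbedding, range_g K m gen hK⟩

end Groth.Agent.Lib.Helper24FanRays
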