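import Mathlib

set_option autoImplicit false
universe u

namespace Groth.Agent.Lib.Helper24FinSubCx

open CategoryTheory CategoryTheory.Limits Module

section General

variable {R : Type u} [CommRing R] (F : CochainComplex (ModuleCat.{u} R) ℤ)
  {I : ℤ → Type u} (B : ∀ n, Module.Basis (I n) R (F.X n)) (fs : ∀ n, Set (F.X n))

inductive Mem : (n : ℤ) → I n → Prop
  | base (n : ℤ) (x : F.X n) (hx : x ∈ fs n) (j : I n) (h : (B n).repr x j ≠ 0) : Mem n j
  | step (n : ℤ) (e : I n) (j : I (n + 1)) (he : Mem n e)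
      (h : (B (n + 1)).repr ((F.d n (n + 1)).hom (B n e)) j ≠ 0) : Mem (n + 1) j

theorem mem_inv {m : ℤ} {j : I m} (h : Mem F B fs m j) :
    (∃ x ∈ fs m, (B m).repr x j ≠ 0) ∨
    (∃ (n : ℤ) (_ : n + 1 = m) (e : I n), Mem F B fs n e ∧
      (B m).repr ((F.d n m).hom (B n e)) j ≠ 0) := by
  cases h with
  | base n x hx j h => exact Or.inl ⟨x, hx, h⟩
  | step n e j he h => exact Or.inr ⟨n, rfl, e, he, h⟩

theorem le_of_mem (a : ℤ) (ha : ∀ n, n < a → fs n = ∅) {m : ℤ} {j : I m}
    (h : Mem F B fs m j) : a ≤ m := by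
  induction h with
  | base n x hx j h =>
    by_contra hlt
    rw [ha n (not_le.mp hlt)] at hx
    exact hx
  | step n e j he h ih => omega

theorem finite_mem (hfs : ∀ n, (fs n).Finite) (a : ℤ) (ha : ∀ n, n < a → fs n = ∅) (n : ℤ) :
    {j : I n | Mem F B fs n j}.Finite := by
  classical
  have hlow : ∀ n, n < a → {j : I n | Mem F B fs n j}.Finite := by
    intro n hn
    have : {j : I n | Mem F B fs n j} = ∅ := by
      ext j
      simp only [Set.mem_setOf_eq, Set.mem_empty_iff_false, iff_false]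
      intro h
      have := le_of_mem F B fs a ha h
      omega
    rw [this]; exact Set.finite_empty
  have hstep : ∀ n, {j : I n | Mem F B fs n j}.Finite →
      {j : I (n+1) | Mem F B fs (n+1) j}.Finite := by
    intro n hfin
    refine Set.Finite.subset (Set.Finite.union
      (Set.Finite.biUnion (hfs (n+1)) (fun x _ => ((B (n+1)).repr x).support.finite_toSet))
      (Set.Finite.biUnion hfin (fun e _ =>
        ((B (n+1)).repr ((F.d n (n+1)).hom (B n e))).support.finite_toSet))) ?_
    intro j hj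
    rcases mem_inv F B fs hj with ⟨x, hx, h⟩ | ⟨n', hn', e, he, h⟩
    · left
      simp only [Set.mem_iUnion, Finset.mem_coe]
      exact ⟨x, hx, Finsupp.mem_support_iff.mpr h⟩
    · right
      have : n' = n := by omega
      subst this
      simp only [Set.mem_iUnion, Finset.mem_coe]
      exact ⟨e, he, Finsupp.mem_support_iff.mpr h⟩
  by_cases hn : n < a
  · exact hlow n hn
  · obtain ⟨k, rfl⟩ : ∃ k : ℕ, n = a - 1 + k := ⟨(n - (a - 1)).toNat, by omega⟩
    clear hn
    induction k with
    | zero => exact hlow _ (by omega)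
    | succ k ih =>
      have e : a - 1 + ((k + 1 : ℕ) : ℤ) = (a - 1 + (k : ℤ)) + 1 := by push_cast; ring
      rw [e]
      exact hstep _ ih

def Gs (n : ℤ) : Submodule R (F.X n) :=
  Submodule.span R (Set.range (fun j : {j : I n // Mem F B fs n j} => B n j.1))

theorem mem_Gs_of_supp {n : ℤ} (x : F.X n)
    (h : ∀ j, (B n).repr x j ≠ 0 → Mem F B fs n j) : x ∈ Gs F B fs n := by
  have h1 := (B n).mem_span_repr_support x
  refine Submodule.span_mono ?_ h1
  rintro _ ⟨j, hj, rfl⟩
  exact ⟨⟨j, h j (Finsupp.mem_support_iff.mp hj)⟩, rfl⟩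

theorem d_mem (i j : ℤ) (x : F.X i) (hx : x ∈ Gs F B fs i) :
    (F.d i j).hom x ∈ Gs F B fs j := by
  by_cases hij : i + 1 = j
  · subst hij
    have : Gs F B fs i ≤ (Gs F B fs (i+1)).comap (F.d i (i+1)).hom := by
      apply Submodule.span_le.mpr
      rintro _ ⟨e, rfl⟩
      exact mem_Gs_of_supp F B fs _ (fun j hj => Mem.step i e.1 j e.2 hj)
    exact this hx
  · have : F.d i j = 0 := F.shape i j hij
    rw [this]
    simp

noncomputable def Gc : CochainComplex (ModuleCat.{u} R) ℤ where
  X n := ModuleCat.of R (Gs F B fs n)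
  d i j := ModuleCat.ofHom ((F.d i j).hom.restrict (fun x hx => d_mem F B fs i j x hx))
  shape i j h := by
    apply ModuleCat.hom_ext
    apply LinearMap.ext; intro x
    apply Subtype.ext
    simp only [ModuleCat.hom_ofHom, LinearMap.restrict_coe_apply, ModuleCat.hom_zero,
      LinearMap.zero_apply, ZeroMemClass.coe_zero]
    rw [F.shape i j h]; simp
  d_comp_d' i j k _ _ := by
    apply ModuleCat.hom_ext
    apply LinearMap.ext; intro x
    apply Subtype.ext
    have := congrArg (fun φ => φ.hom x.1) (F.d_comp_d i j k)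
    simp only [ModuleCat.hom_comp, LinearMap.comp_apply, ModuleCat.hom_zero,
      LinearMap.zero_apply] at this
    simp only [ModuleCat.hom_comp, ModuleCat.hom_ofHom, LinearMap.comp_apply,
      LinearMap.restrict_coe_apply, ModuleCat.hom_zero, LinearMap.zero_apply,
      ZeroMemClass.coe_zero]
    exact this

noncomputable def Gι : Gc F B fs ⟶ F where
  f n := ModuleCat.ofHom (Gs F B fs n).subtype
  comm' i j _ := by
    apply ModuleCat.hom_ext
    apply LinearMap.ext; intro x
    rfl

end General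

theorem s7145 (R : Type u) [CommRing R]
    (F : CochainComplex (ModuleCat.{u} R) ℤ) (hfree : ∀ n : ℤ, Module.Free R (F.X n))
    (b : ℤ) (hb : ∀ n : ℤ, b < n → IsZero (F.X n))
    (N : ℕ) (deg : Fin N → ℤ) (f : ∀ i : Fin N, F.X (deg i)) :
    ∃ (G : CochainComplex (ModuleCat.{u} R) ℤ) (ι : G ⟶ F),
      (∀ n : ℤ, Function.Injective (ι.f n)) ∧
      (∃ a c : ℤ, ∀ n : ℤ, (n < a ∨ c < n) → IsZero (G.X n)) ∧
      (∀ n : ℤ, Module.Finite R (G.X n) ∧ Module.Free R (G.X n)) ∧
      ∀ i : Fin N, f i ∈ Set.range (ι.f (deg i)) := by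
  classical
  haveI : ∀ n, Module.Free R (F.X n) := hfree
  let I : ℤ → Type u := fun n => Module.Free.ChooseBasisIndex R (F.X n)
  let B : ∀ n, Module.Basis (I n) R (F.X n) := fun n => Module.Free.chooseBasis R (F.X n)
  let fs : ∀ n, Set (F.X n) :=
    fun n => {x | ∃ i : Fin N, ∃ h : deg i = n, (h ▸ f i : F.X n) = x}
  have hfs : ∀ n, (fs n).Finite := by
    intro n
    refine Set.Finite.subset (Set.finite_range
      (fun p : {i : Fin N // deg i = n} => (p.2 ▸ f p.1 : F.X n))) ?_
    rintro x ⟨i, h, rfl⟩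
    exact ⟨⟨i, h⟩, rfl⟩
  obtain ⟨a, ha⟩ := (Set.finite_range deg).bddBelow
  have ha' : ∀ n, n < a → fs n = ∅ := by
    intro n hn
    ext x
    simp only [Set.mem_empty_iff_false, iff_false]
    rintro ⟨i, h, -⟩
    have := ha ⟨i, rfl⟩
    omega
  refine ⟨Gc F B fs, Gι F B fs, ?_, ⟨a, b, ?_⟩, ?_, ?_⟩
  · intro n x y h
    exact Subtype.ext h
  · rintro n (hn | hn)
    · have hemp : IsEmpty {j : I n // Mem F B fs n j} :=
        ⟨fun j => by have := le_of_mem F B fs a ha' j.2; omega⟩
      have hbot : Gs F B fs n = ⊥ := by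
        unfold Gs; rw [Set.range_eq_empty, Submodule.span_empty]
      have : Subsingleton (Gs F B fs n) := by rw [hbot]; infer_instance
      exact @ModuleCat.isZero_of_subsingleton _ _ ((Gc F B fs).X n) this
    · have h1 : Subsingleton (F.X n) := ModuleCat.subsingleton_of_isZero (hb n hn)
      have : Subsingleton (Gs F B fs n) := inferInstance
      exact @ModuleCat.isZero_of_subsingleton _ _ ((Gc F B fs).X n) this
  · intro n
    have hfin : Finite {j : I n // Mem F B fs n j} :=
      (finite_mem F B fs hfs a ha' n).to_subtype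
    have hli : LinearIndependent R (fun j : {j : I n // Mem F B fs n j} => B n j.1) :=
      (B n).linearIndependent.comp Subtype.val Subtype.val_injective
    let bs := Module.Basis.span hli
    exact ⟨Module.Finite.of_basis bs, Module.Free.of_basis bs⟩
  · intro i
    exact ⟨⟨f i, mem_Gs_of_supp F B fs _
      (fun j hj => Mem.base _ (f i) (show f i ∈ fs (deg i) from ⟨i, rfl, rfl⟩) j hj)⟩, rfl⟩

end Groth.Agent.Lib.Helper24FinSubCx
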