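import Mathlib

/-!
# Fixed ideal of a finite-order automorphism of a local ring (helper24)

`A` Noetherian local `k`-algebra with residue field `k`, `σ` a `k`-algebra endomorphism with `σ^n = id`,
`n` invertible in `k`.  Then `I_σ = (a - σ a)` is generated by elements of `m` whose classes in `m/m²`
are linearly independent.
-/

open IsLocalRing

namespace Helper24FixIdeal

universe u

variable {k : Type u} [Field k] {A : Type u} [CommRing A] [Algebra k A] [IsLocalRing A]

section basic

variable (σ : A →ₐ[k] A) (n : ℕ) (hσ : ∀ a : A, (⇑σ)^[n] a = a)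

include hσ in
theorem map_mem_max (hn0 : n ≠ 0) : maximalIdeal A ≤ (maximalIdeal A).comap σ := by
  intro a ha
  rw [Ideal.mem_comap]
  by_contra h
  have hu : IsUnit (σ a) := by
    by_contra h'
    exact h ((IsLocalRing.mem_maximalIdeal _).2 h')
  have : ∀ j : ℕ, IsUnit ((⇑σ)^[j] (σ a)) := by
    intro j
    induction j with
    | zero => simpa using hu
    | succ j ih =>
      rw [Function.iterate_succ_apply']
      exact ih.map σ
  obtain ⟨j, rfl⟩ := Nat.exists_eq_succ_of_ne_zero hn0
  have h2 := this j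
  rw [← Function.iterate_succ_apply, hσ] at h2
  exact (IsLocalRing.mem_maximalIdeal _).1 ha h2

/-- `σ` restricted to `m`, `k`-linear. -/
def sigM (hm : maximalIdeal A ≤ (maximalIdeal A).comap σ) :
    maximalIdeal A →ₗ[k] maximalIdeal A where
  toFun x := ⟨σ x, hm x.2⟩
  map_add' x y := Subtype.ext (by simp)
  map_smul' c x := Subtype.ext (by simp)

@[simp] theorem sigM_coe (hm : maximalIdeal A ≤ (maximalIdeal A).comap σ) (x : maximalIdeal A) :
    ((sigM σ hm x : maximalIdeal A) : A) = σ x := rfl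

theorem sigM_pow_coe (hm : maximalIdeal A ≤ (maximalIdeal A).comap σ) (j : ℕ) (x : maximalIdeal A) :
    (((sigM σ hm) ^ j) x : A) = (⇑σ)^[j] x := by
  induction j with
  | zero => simp
  | succ j ih =>
    rw [pow_succ', Module.End.mul_apply, sigM_coe, ih, Function.iterate_succ_apply']

/-- `σ` on the cotangent space. -/
noncomputable def sigV (hm : maximalIdeal A ≤ (maximalIdeal A).comap σ) :
    (maximalIdeal A).Cotangent →ₗ[k] (maximalIdeal A).Cotangent :=
  Ideal.mapCotangent (maximalIdeal A) (maximalIdeal A) σ hm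

/-- the cotangent projection, `k`-linear. -/
noncomputable def piK : maximalIdeal A →ₗ[k] (maximalIdeal A).Cotangent :=
  (maximalIdeal A).toCotangent.restrictScalars k

theorem piK_apply (x : maximalIdeal A) : piK (k := k) x = (maximalIdeal A).toCotangent x := rfl

theorem piK_surjective : Function.Surjective (piK (k := k) (A := A)) :=
  (maximalIdeal A).toCotangent_surjective

theorem piK_sigM (hm : maximalIdeal A ≤ (maximalIdeal A).comap σ) (x : maximalIdeal A) :
    piK (k := k) (sigM σ hm x) = sigV σ hm (piK (k := k) x) := by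
  rw [piK_apply, piK_apply, sigV, Ideal.mapCotangent_toCotangent]
  rfl

theorem piK_sigM_pow (hm : maximalIdeal A ≤ (maximalIdeal A).comap σ) (j : ℕ) (x : maximalIdeal A) :
    piK (k := k) (((sigM σ hm) ^ j) x) = ((sigV σ hm) ^ j) (piK (k := k) x) := by
  induction j generalizing x with
  | zero => simp
  | succ j ih =>
    rw [pow_succ, Module.End.mul_apply, ih, piK_sigM, pow_succ, Module.End.mul_apply]

include hσ in
theorem sigM_pow_n (hm : maximalIdeal A ≤ (maximalIdeal A).comap σ) :
    (sigM σ hm) ^ n = 1 := by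
  ext x
  rw [sigM_pow_coe, hσ]
  rfl

include hσ in
theorem sigV_pow_n (hm : maximalIdeal A ≤ (maximalIdeal A).comap σ) :
    (sigV σ hm) ^ n = 1 := by
  ext v
  obtain ⟨x, rfl⟩ := piK_surjective (k := k) v
  rw [← piK_sigM_pow, sigM_pow_n σ n hσ hm]
  rfl

end basic

section sect

variable (σ : A →ₐ[k] A) (n : ℕ) (hσ : ∀ a : A, (⇑σ)^[n] a = a)
  (hm : maximalIdeal A ≤ (maximalIdeal A).comap σ)

/-- un-normalized averaged section. -/
noncomputable def T (N : ℕ) (s₀ : (maximalIdeal A).Cotangent →ₗ[k] maximalIdeal A) (i : ℕ) :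
    (maximalIdeal A).Cotangent →ₗ[k] maximalIdeal A :=
  ((sigM σ hm) ^ i) ∘ₗ s₀ ∘ₗ ((sigV σ hm) ^ (N - i))

include hσ in
theorem piK_T (s₀ : (maximalIdeal A).Cotangent →ₗ[k] maximalIdeal A)
    (hs₀ : ∀ v, piK (k := k) (s₀ v) = v) (v : (maximalIdeal A).Cotangent) :
    piK (k := k) ((∑ i ∈ Finset.range n, T σ hm n s₀ i) v) = (n : k) • v := by
  rw [LinearMap.sum_apply, map_sum]
  have : ∀ i ∈ Finset.range n, piK (k := k) (T σ hm n s₀ i v) = v := by
    intro i hi
    have hi' : i + (n - i) = n := by have := Finset.mem_range.1 hi; omega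
    simp only [T, LinearMap.comp_apply]
    rw [piK_sigM_pow, hs₀, ← Module.End.mul_apply, ← pow_add, hi', sigV_pow_n σ n hσ hm]
    rfl
  rw [Finset.sum_congr rfl this]
  simp [Nat.cast_smul_eq_nsmul]

include hσ in
theorem sigM_T (s₀ : (maximalIdeal A).Cotangent →ₗ[k] maximalIdeal A)
    (v : (maximalIdeal A).Cotangent) :
    sigM σ hm ((∑ i ∈ Finset.range n, T σ hm n s₀ i) v) =
      (∑ i ∈ Finset.range n, T σ hm n s₀ i) (sigV σ hm v) := by
  rw [LinearMap.sum_apply, LinearMap.sum_apply, map_sum]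
  have h1 : ∀ i ∈ Finset.range n, sigM σ hm (T σ hm n s₀ i v) = T σ hm (n + 1) s₀ (i + 1) v := by
    intro i _
    simp only [T, LinearMap.comp_apply]
    rw [pow_succ' (sigM σ hm) i, Module.End.mul_apply, Nat.add_sub_add_right]
  have h2 : ∀ i ∈ Finset.range n, T σ hm n s₀ i (sigV σ hm v) = T σ hm (n + 1) s₀ i v := by
    intro i hi
    have hi' : n + 1 - i = (n - i) + 1 := by have := Finset.mem_range.1 hi; omega
    simp only [T, LinearMap.comp_apply]
    rw [hi', pow_succ (sigV σ hm) (n - i), Module.End.mul_apply]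
  rw [Finset.sum_congr rfl h1, Finset.sum_congr rfl h2]
  have e1 := Finset.sum_range_succ' (fun i => T σ hm (n + 1) s₀ i v) n
  have e2 := Finset.sum_range_succ (fun i => T σ hm (n + 1) s₀ i v) n
  have e3 : T σ hm (n + 1) s₀ 0 v = T σ hm (n + 1) s₀ n v := by
    simp only [T, LinearMap.comp_apply, Nat.sub_zero, pow_zero, Nat.add_sub_cancel_left, pow_one,
      Module.End.one_apply]
    rw [sigM_pow_n σ n hσ hm, pow_succ, Module.End.mul_apply, sigV_pow_n σ n hσ hm]
    rfl
  rw [e1, e3] at e2
  exact add_right_cancel e2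

include hσ in
theorem exists_equivariant_section (hn : (n : k) ≠ 0) :
    ∃ s : (maximalIdeal A).Cotangent →ₗ[k] maximalIdeal A,
      (∀ v, piK (k := k) (s v) = v) ∧ (∀ v, sigM σ hm (s v) = s (sigV σ hm v)) := by
  obtain ⟨s₀, hs₀⟩ := LinearMap.exists_rightInverse_of_surjective (piK (k := k) (A := A))
    (LinearMap.range_eq_top.2 piK_surjective)
  have hs₀' : ∀ v, piK (k := k) (s₀ v) = v := fun v => by
    have := LinearMap.congr_fun hs₀ v
    simpa using this
  refine ⟨(n : k)⁻¹ • ∑ i ∈ Finset.range n, T σ hm n s₀ i, fun v => ?_, fun v => ?_⟩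
  · rw [LinearMap.smul_apply, map_smul, piK_T σ n hσ hm s₀ hs₀', smul_smul, inv_mul_cancel₀ hn,
      one_smul]
  · rw [LinearMap.smul_apply, map_smul, sigM_T σ n hσ hm s₀, LinearMap.smul_apply]

end sect

end Helper24FixIdeal
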