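import Groth.Agent.Lib.Helper24FixIdeal

/-!
# Fixed ideal of a finite-order automorphism of a local ring, main argument (helper24)
-/

open IsLocalRing

namespace Helper24FixIdeal

universe u

variable {k : Type u} [Field k] {A : Type u} [CommRing A] [Algebra k A] [IsLocalRing A]

/-- the ideal generated by the `a - σ a`. -/
def Isig (σ : A →ₐ[k] A) : Ideal A := Ideal.span (Set.range fun a : A => a - σ a)

theorem sub_mem_Isig (σ : A →ₐ[k] A) (a : A) : a - σ a ∈ Isig σ := Ideal.subset_span ⟨a, rfl⟩

theorem sq_sub_mem (σ : A →ₐ[k] A) (hm : maximalIdeal A ≤ (maximalIdeal A).comap σ) {h : A}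
    (hh : h ∈ maximalIdeal A ^ 2) : h - σ h ∈ maximalIdeal A * Isig σ := by
  rw [pow_two] at hh
  refine Submodule.mul_induction_on hh ?_ ?_
  · intro a ha b hb
    have : a * b - σ (a * b) = b * (a - σ a) + σ a * (b - σ b) := by rw [map_mul]; ring
    rw [this]
    exact add_mem (Ideal.mul_mem_mul hb (sub_mem_Isig σ a))
      (Ideal.mul_mem_mul (hm ha) (sub_mem_Isig σ b))
  · intro x y hx hy
    have : x + y - σ (x + y) = (x - σ x) + (y - σ y) := by rw [map_add]; ring
    rw [this]; exact add_mem hx hy

theorem algebraMap_smul_cot (c : k) (v : (maximalIdeal A).Cotangent) :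
    (algebraMap k (ResidueField A) c) • v = c • v := by
  rw [IsScalarTower.algebraMap_apply k A (ResidueField A), algebraMap_smul, algebraMap_smul]

variable [IsNoetherianRing A]

theorem main (hres : Function.Surjective ⇑(algebraMap k (ResidueField A))) (σ : A →ₐ[k] A) (n : ℕ)
    (hσ : ∀ a : A, (⇑σ)^[n] a = a) (hn : (n : k) ≠ 0) :
    ∃ (m : ℕ) (f : Fin m → ↥(maximalIdeal A)),
      Ideal.span (Set.range fun i : Fin m => (f i : A)) = Ideal.span (Set.range fun a : A => a - σ a) ∧
      LinearIndependent (ResidueField A) (fun i : Fin m => (maximalIdeal A).toCotangent (f i)) := by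
  classical
  have hn0 : n ≠ 0 := by rintro rfl; simp at hn
  have hm := map_mem_max σ n hσ hn0
  obtain ⟨s, hs1, hs2⟩ := exists_equivariant_section σ n hσ hm hn
  let D : (maximalIdeal A).Cotangent →ₗ[k] (maximalIdeal A).Cotangent := LinearMap.id - sigV σ hm
  let U : Submodule (ResidueField A) (maximalIdeal A).Cotangent :=
    { carrier := LinearMap.range D
      add_mem' := fun ha hb => (LinearMap.range D).add_mem ha hb
      zero_mem' := (LinearMap.range D).zero_mem
      smul_mem' := by
        intro c v hv
        obtain ⟨c₀, rfl⟩ := hres c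
        rw [algebraMap_smul_cot]
        exact (LinearMap.range D).smul_mem c₀ hv }
  have hU : ∀ v, v ∈ U ↔ v ∈ LinearMap.range D := fun v => Iff.rfl
  let b := Module.finBasis (ResidueField A) U
  have hsb : ∀ v : (maximalIdeal A).Cotangent, (maximalIdeal A).toCotangent (s v) = v := hs1
  -- s maps U into J
  have hJ : ∀ u ∈ U, ((s u : maximalIdeal A) : A) ∈
      Ideal.span (Set.range fun i : Fin (Module.finrank (ResidueField A) U) => ((s (b i : (maximalIdeal A).Cotangent) : maximalIdeal A) : A)) := by
    intro u hu
    have h1 := b.sum_repr ⟨u, hu⟩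
    choose c hc using fun i => hres (b.repr ⟨u, hu⟩ i)
    have h2 : u = ∑ i, c i • (b i : (maximalIdeal A).Cotangent) := by
      have := congrArg (fun x : U => (x : (maximalIdeal A).Cotangent)) h1
      simp only [Submodule.coe_sum, Submodule.coe_smul] at this
      rw [← this]
      refine Finset.sum_congr rfl fun i _ => ?_
      rw [← hc i, algebraMap_smul_cot]
    rw [h2, map_sum, Submodule.coe_sum]
    refine Ideal.sum_mem _ fun i _ => ?_
    rw [map_smul, Submodule.coe_smul_of_tower, Algebra.smul_def]
    exact Ideal.mul_mem_left _ _ (Ideal.subset_span ⟨i, rfl⟩)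
  refine ⟨Module.finrank (ResidueField A) U, fun i => s (b i : (maximalIdeal A).Cotangent), ?_, ?_⟩
  · apply le_antisymm
    · rw [Ideal.span_le]
      rintro _ ⟨i, rfl⟩
      obtain ⟨v, hv⟩ := (hU _).1 (b i).2
      have : (s (b i : (maximalIdeal A).Cotangent) : maximalIdeal A) = s v - sigM σ hm (s v) := by
        rw [hs2, ← map_sub, ← hv]
        rfl
      simp only
      rw [this, Submodule.coe_sub, sigM_coe]
      exact sub_mem_Isig σ _
    · change Isig σ ≤ _
      refine Submodule.le_of_le_smul_of_le_jacobson_bot (I := maximalIdeal A)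
        (IsNoetherian.noetherian _) (IsLocalRing.maximalIdeal_le_jacobson _) ?_
      rw [smul_eq_mul]
      refine Ideal.span_le.2 ?_
      rintro _ ⟨a, rfl⟩
      obtain ⟨c₀, hc₀⟩ := hres (residue A a)
      have hg : a - algebraMap k A c₀ ∈ maximalIdeal A := by
        rw [← IsLocalRing.residue_eq_zero_iff, map_sub, ← hc₀,
          IsScalarTower.algebraMap_apply k A (ResidueField A)]
        exact sub_self _
      obtain ⟨g, hgdef⟩ : ∃ g, g = a - algebraMap k A c₀ := ⟨_, rfl⟩
      rw [← hgdef] at hg
      have e1 : a - σ a = g - σ g := by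
        rw [hgdef, map_sub, AlgHom.commutes]; ring
      let gm : maximalIdeal A := ⟨g, hg⟩
      let v := (maximalIdeal A).toCotangent gm
      have hh : g - (s v : maximalIdeal A) ∈ maximalIdeal A ^ 2 := by
        have := (Ideal.toCotangent_eq (I := maximalIdeal A) (x := gm) (y := s v)).1 (hsb v).symm
        exact this
      have e2 : g - σ g = (((s v : maximalIdeal A) : A) - σ (s v)) +
          ((g - (s v : maximalIdeal A)) - σ (g - (s v : maximalIdeal A))) := by
        rw [map_sub]; ring
      have e3 : (((s v : maximalIdeal A) : A) - σ (s v)) = ((s (D v) : maximalIdeal A) : A) := by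
        have : s (D v) = s v - sigM σ hm (s v) := by
          rw [hs2, ← map_sub]; rfl
        rw [this, Submodule.coe_sub, sigM_coe]
      show a - σ a ∈ _
      rw [e1, e2, e3]
      refine Submodule.add_mem_sup (hJ _ ((hU _).2 ⟨v, rfl⟩)) (sq_sub_mem σ hm hh)
  · have : (fun i => (maximalIdeal A).toCotangent (s (b i : (maximalIdeal A).Cotangent))) =
        fun i => U.subtype (b i) := by
      funext i; rw [hsb]; rfl
    rw [this]
    exact b.linearIndependent.map' U.subtype (Submodule.ker_subtype U)

end Helper24FixIdeal
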