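import Mathlib
import Groth.Agent.Lib.Helper5NilFlat

set_option autoImplicit false
set_option linter.unusedSectionVars false
set_option linter.style.haveILetI false
universe u

open TensorProduct

namespace Groth.Agent.Lib.Helper24FlatP2

variable (p : ℕ) [Fact p.Prime]

theorem zmod_sq_p_mul_eq_zero (c : ZMod (p ^ 2)) (h : (p : ZMod (p ^ 2)) * c = 0) :
    ∃ c', c = (p : ZMod (p ^ 2)) * c' := by
  have hp := (Fact.out : p.Prime)
  haveI : NeZero (p ^ 2) := ⟨pow_ne_zero 2 hp.ne_zero⟩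
  have hc : ((c.val : ℕ) : ZMod (p ^ 2)) = c := ZMod.natCast_zmod_val c
  have h1 : ((p * c.val : ℕ) : ZMod (p ^ 2)) = 0 := by
    rw [Nat.cast_mul, hc]; exact h
  rw [ZMod.natCast_eq_zero_iff] at h1
  obtain ⟨t, ht⟩ := h1
  have h3 : p * c.val = p * (p * t) := by rw [ht]; ring
  have hn' : c.val = p * t := Nat.eq_of_mul_eq_mul_left hp.pos h3
  obtain ⟨n', hn'⟩ : ∃ n', c.val = p * n' := ⟨t, hn'⟩
  refine ⟨(n' : ZMod (p ^ 2)), ?_⟩
  rw [← hc, hn']
  push_cast
  ring

theorem torsion_of_flat_zmod (M : Type*) [AddCommGroup M] [Module (ZMod (p ^ 2)) M]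
    [Module.Flat (ZMod (p ^ 2)) M] (m : M) (h : (p : ZMod (p ^ 2)) • m = 0) :
    ∃ m', m = (p : ZMod (p ^ 2)) • m' := by
  have hrel : ∑ i : Fin 1, (fun _ => (p : ZMod (p ^ 2))) i • (fun _ => m) i = 0 := by
    simpa using h
  obtain ⟨k, a, y, hxy, ha⟩ := Module.Flat.isTrivialRelation_of_sum_smul_eq_zero hrel
  have ha' : ∀ j, ∃ c', a 0 j = (p : ZMod (p ^ 2)) * c' := fun j =>
    zmod_sq_p_mul_eq_zero p _ (by simpa using ha j)
  choose c' hc' using ha'
  refine ⟨∑ j, c' j • y j, ?_⟩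
  refine (hxy 0).trans ?_
  rw [Finset.smul_sum]
  apply Finset.sum_congr rfl
  intro j _
  rw [hc', mul_smul]

variable (Al : Type u) [CommRing Al] [Algebra (ZMod (p ^ 2)) Al]
  (Bl : Type u) [CommRing Bl] [Algebra Al Bl]

theorem torsion_of_flat [Module.Flat (ZMod (p ^ 2)) Al] [Module.Flat Al Bl] (b : Bl)
    (hb : (p : Bl) * b = 0) : b ∈ Ideal.span {(p : Bl)} := by
  obtain ⟨k, a, y, hxy, ha⟩ := Module.Flat.isTrivialRelation_of_sum_smul_eq_zero
    (f := fun _ : Fin 1 => (p : Al)) (x := fun _ : Fin 1 => b) (by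
      simp only [Finset.univ_unique, Finset.sum_singleton]
      rw [Algebra.smul_def, map_natCast]
      exact hb)
  have ha' : ∀ j, ∃ a' : Al, a 0 j = (p : Al) * a' := by
    intro j
    have h1 : (p : ZMod (p ^ 2)) • a 0 j = 0 := by
      rw [Algebra.smul_def, map_natCast]
      simpa using ha j
    obtain ⟨a', ha'⟩ := torsion_of_flat_zmod p Al (a 0 j) h1
    exact ⟨a', by rw [ha', Algebra.smul_def, map_natCast]⟩
  choose a' ha' using ha'
  rw [Ideal.mem_span_singleton']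
  refine ⟨∑ j, a' j • y j, ?_⟩
  refine Eq.trans ?_ (hxy 0).symm
  rw [Finset.sum_mul]
  apply Finset.sum_congr rfl
  intro j _
  rw [ha', Algebra.smul_def, Algebra.smul_def, map_mul, map_natCast]
  ring

theorem flat_of_torsion
    (hB : Module.Flat (Al ⧸ Ideal.span {(p : Al)})
      (Bl ⧸ (Ideal.span {(p : Al)}).map (algebraMap Al Bl)))
    (h : ∀ b : Bl, (p : Bl) * b = 0 → b ∈ Ideal.span {(p : Bl)}) : Module.Flat Al Bl := by
  have hp2 : (p : Al) * (p : Al) = 0 := by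
    have h1 : ((p : ZMod (p ^ 2)) * (p : ZMod (p ^ 2))) = 0 := by
      rw [← pow_two, ← Nat.cast_pow, ZMod.natCast_self]
    have h2 := congrArg (algebraMap (ZMod (p ^ 2)) Al) h1
    simpa using h2
  have hnil : IsNilpotent (Ideal.span {(p : Al)}) :=
    ⟨2, by rw [pow_two, Ideal.span_singleton_mul_span_singleton, hp2]; simp⟩
  apply Groth.Agent.Lib.Helper5.flat_of_isNilpotent (Ideal.span {(p : Al)}) hnil
  · rw [injective_iff_map_eq_zero]
    intro x hx
    have hform : ∀ x : Bl ⊗[Al] (Ideal.span {(p : Al)} : Ideal Al),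
        ∃ b : Bl, x = b ⊗ₜ ⟨(p : Al), Ideal.mem_span_singleton_self _⟩ := by
      intro x
      induction x using TensorProduct.induction_on with
      | zero => exact ⟨0, by simp⟩
      | tmul b i =>
        obtain ⟨i, hi⟩ := i
        obtain ⟨a, rfl⟩ := Ideal.mem_span_singleton'.1 hi
        refine ⟨a • b, ?_⟩
        rw [TensorProduct.smul_tmul]
        congr 1
      | add x y hx hy =>
        obtain ⟨b1, rfl⟩ := hx
        obtain ⟨b2, rfl⟩ := hy
        exact ⟨b1 + b2, by rw [TensorProduct.add_tmul]⟩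
    obtain ⟨b, rfl⟩ := hform x
    rw [LinearMap.lTensor_tmul] at hx
    have hb : (p : Bl) * b = 0 := by
      have h1 := congrArg (TensorProduct.rid Al Bl) hx
      rw [Submodule.subtype_apply, TensorProduct.rid_tmul, map_zero, Algebra.smul_def,
        map_natCast] at h1
      exact h1
    obtain ⟨b', hb'⟩ := Ideal.mem_span_singleton'.1 (h b hb)
    have e1 : b = (p : Al) • b' := by
      rw [Algebra.smul_def, map_natCast, mul_comm]; exact hb'.symm
    rw [e1, TensorProduct.smul_tmul]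
    have e2 : (p : Al) • (⟨(p : Al), Ideal.mem_span_singleton_self _⟩ :
        (Ideal.span {(p : Al)} : Ideal Al)) = 0 := by
      apply Subtype.ext
      simp [hp2]
    rw [e2, TensorProduct.tmul_zero]
  · let e1 : ((Al ⧸ Ideal.span {(p : Al)}) ⊗[Al] Bl) ≃ₗ[Al]
        (Bl ⧸ (Ideal.span {(p : Al)} • ⊤ : Submodule Al Bl)) :=
      TensorProduct.quotTensorEquivQuotSMul Bl (Ideal.span {(p : Al)})
    let e2 : (Bl ⧸ (Ideal.span {(p : Al)} • ⊤ : Submodule Al Bl)) ≃ₗ[Al]
        (Bl ⧸ ((Ideal.span {(p : Al)}).map (algebraMap Al Bl)).restrictScalars Al) :=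
      Submodule.quotEquivOfEq _ _ (Ideal.smul_top_eq_map _)
    let e3 : (Bl ⧸ ((Ideal.span {(p : Al)}).map (algebraMap Al Bl)).restrictScalars Al) ≃ₗ[Al]
        (Bl ⧸ (Ideal.span {(p : Al)}).map (algebraMap Al Bl)) :=
      Submodule.Quotient.restrictScalarsEquiv Al _
    let e : ((Al ⧸ Ideal.span {(p : Al)}) ⊗[Al] Bl) ≃ₗ[Al ⧸ Ideal.span {(p : Al)}]
        (Bl ⧸ (Ideal.span {(p : Al)}).map (algebraMap Al Bl)) :=
      LinearEquiv.extendScalarsOfSurjective Ideal.Quotient.mk_surjective (e1 ≪≫ₗ e2 ≪≫ₗ e3)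
    exact Module.Flat.of_linearEquiv e

theorem flat_iff [Module.Flat (ZMod (p ^ 2)) Al]
    (hB : Module.Flat (Al ⧸ Ideal.span {(p : Al)})
      (Bl ⧸ (Ideal.span {(p : Al)}).map (algebraMap Al Bl))) :
    Module.Flat Al Bl ↔ ∀ b : Bl, (p : Bl) * b = 0 → b ∈ Ideal.span {(p : Bl)} :=
  ⟨fun _ b hb => torsion_of_flat p Al Bl b hb, flat_of_torsion p Al Bl hB⟩

end Groth.Agent.Lib.Helper24FlatP2
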