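import Mathlib
import Groth.Prelude.Def_FrobAlg

set_option autoImplicit false
universe u v w
open TensorProduct

namespace Groth.Agent.Lib.Helper24FrobFree

theorem exists_min_gens (R : Type u) [CommRing R] [IsLocalRing R]
    (M : Type v) [AddCommGroup M] [Module R M] [Module.Finite R M] :
    ∃ (ι : Type (max u v)) (_ : Fintype ι) (v : ι → M), Submodule.span R (Set.range v) = ⊤ ∧
      ∀ x : ι → R, ∑ i, x i • v i = 0 → ∀ i, x i ∈ IsLocalRing.maximalIdeal R := by
  classical
  have hfin : Fintype (Module.Free.ChooseBasisIndex (IsLocalRing.ResidueField R)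
      (IsLocalRing.ResidueField R ⊗[R] M)) := Module.Free.ChooseBasisIndex.fintype _ _
  obtain ⟨w, hwdef⟩ : ∃ w, w = Module.Free.chooseBasis (IsLocalRing.ResidueField R)
      (IsLocalRing.ResidueField R ⊗[R] M) := ⟨_, rfl⟩
  obtain ⟨v, hv⟩ := (TensorProduct.mk_surjective R M (IsLocalRing.ResidueField R)
    (by exact IsLocalRing.residue_surjective)).comp_left w
  refine ⟨_, hfin, v, IsLocalRing.span_eq_top_of_tmul_eq_basis v w (congr_fun hv), ?_⟩
  intro x hx i
  have hj : ∀ j, (algebraMap R (IsLocalRing.ResidueField R) (x j)) • w j =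
      TensorProduct.mk R (IsLocalRing.ResidueField R) M 1 (x j • v j) := by
    intro j
    have hwj : w j = TensorProduct.mk R (IsLocalRing.ResidueField R) M 1 (v j) :=
      (congr_fun hv j).symm
    rw [map_smul, algebraMap_smul, hwj]
  have h1 : ∑ i, (algebraMap R (IsLocalRing.ResidueField R) (x i)) • w i = 0 := by
    calc ∑ i, (algebraMap R (IsLocalRing.ResidueField R) (x i)) • w i
        = ∑ i, TensorProduct.mk R (IsLocalRing.ResidueField R) M 1 (x i • v i) :=
          Finset.sum_congr rfl (fun j _ => hj j)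
      _ = TensorProduct.mk R (IsLocalRing.ResidueField R) M 1 (∑ i, x i • v i) :=
          (map_sum _ _ _).symm
      _ = 0 := by rw [hx, map_zero]
  have h2 := Fintype.linearIndependent_iff.mp w.linearIndependent _ h1 i
  exact (IsLocalRing.residue_eq_zero_iff _).mp h2

theorem core (p : ℕ) [Fact p.Prime] (R : Type u) [CommRing R] [IsLocalRing R] [CharP R p]
    (M : Type v) [AddCommGroup M] [Module R M]
    (e : (FrobAlg.Twist p R ⊗[R] M) →ₛₗ[((FrobAlg.toTwist p R).symm : FrobAlg.Twist p R →+* R)] M)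
    (he : Function.Bijective e)
    {ι : Type w} [Fintype ι] (v : ι → M) (hspan : Submodule.span R (Set.range v) = ⊤)
    (hker : ∀ x : ι → R, ∑ i, x i • v i = 0 → ∀ i, x i ∈ IsLocalRing.maximalIdeal R)
    (hfg : (LinearMap.ker (Fintype.linearCombination R v)).FG) :
    ∀ x : ι → R, ∑ i, x i • v i = 0 → x = 0 := by
  classical
  have hp2 : 2 ≤ p := (Fact.out : p.Prime).two_le
  obtain ⟨π, hπdef⟩ : ∃ π : (ι → R) →ₗ[R] M, π = Fintype.linearCombination R v := ⟨_, rfl⟩
  have hπ : ∀ x, π x = ∑ i, x i • v i := by intro x; rw [hπdef]; rfl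
  have hπsurj : Function.Surjective π := by
    rw [hπdef]
    exact LinearMap.range_eq_top.mp (by rw [Fintype.range_linearCombination]; exact hspan)
  rw [← hπdef] at hfg
  have hπsingle : ∀ i, π (Pi.single i 1) = v i := by
    intro i; rw [hπdef, Fintype.linearCombination_apply_single, one_smul]
  -- the coordinate ideal
  obtain ⟨J, hJdef⟩ : ∃ J : Ideal R, J = ⨆ i : ι,
      Submodule.map (LinearMap.proj i : (ι → R) →ₗ[R] R) (LinearMap.ker π) := ⟨_, rfl⟩
  have hJmem : ∀ x, π x = 0 → ∀ i, x i ∈ J := by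
    intro x hx i
    rw [hJdef]
    exact Submodule.mem_iSup_of_mem i
      (Submodule.mem_map_of_mem (f := (LinearMap.proj i : (ι → R) →ₗ[R] R))
        (LinearMap.mem_ker.mpr hx))
  have hJle : ∀ I : Ideal R, (∀ x, π x = 0 → ∀ i, x i ∈ I) → J ≤ I := by
    intro I h
    rw [hJdef]
    refine iSup_le (fun i => ?_)
    rintro _ ⟨x, hx, rfl⟩
    exact h x (LinearMap.mem_ker.mp hx) i
  have hJm : J ≤ IsLocalRing.maximalIdeal R :=
    hJle _ (fun x hx i => hker x ((hπ x).symm.trans hx) i)
  have hJfg : Submodule.FG J := by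
    rw [hJdef]
    exact Submodule.fg_iSup _ (fun i => hfg.map _)
  -- the detecting quotient
  obtain ⟨Jp, hJpdef⟩ : ∃ Jp : Ideal (FrobAlg.Twist p R), Jp = Ideal.span
      {r | ∃ x, π x = 0 ∧ ∃ j, algebraMap R (FrobAlg.Twist p R) (x j) = r} := ⟨_, rfl⟩
  have hJpmem : ∀ x, π x = 0 → ∀ j, algebraMap R (FrobAlg.Twist p R) (x j) ∈ Jp := by
    intro x hx j; rw [hJpdef]; exact Ideal.subset_span ⟨x, hx, j, rfl⟩
  have hJpmap : Ideal.map ((FrobAlg.toTwist p R).symm : FrobAlg.Twist p R →+* R) Jp ≤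
      IsLocalRing.maximalIdeal R * J := by
    rw [hJpdef, Ideal.map_span, Ideal.span_le]
    rintro _ ⟨_, ⟨x, hx, j, rfl⟩, rfl⟩
    have h1 : ((FrobAlg.toTwist p R).symm : FrobAlg.Twist p R →+* R)
        (algebraMap R (FrobAlg.Twist p R) (x j)) = (x j) ^ p := by
      rw [FrobAlg.algebraMap_twist]; exact RingEquiv.symm_apply_apply _ _
    have h2 : (x j) ^ p = (x j) ^ (p - 1) * x j := by
      rw [← pow_succ]; congr 1; omega
    rw [SetLike.mem_coe, h1, h2]
    exact Ideal.mul_mem_mul (Ideal.pow_mem_of_mem _ (hJm (hJmem x hx j)) _ (by omega))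
      (hJmem x hx j)
  obtain ⟨g, hg⟩ : ∃ g : (ι → R) →ₗ[R] (ι → FrobAlg.Twist p R ⧸ Jp),
      ∀ x j, g x j = Ideal.Quotient.mk Jp (algebraMap R (FrobAlg.Twist p R) (x j)) :=
    ⟨(Algebra.linearMap R (FrobAlg.Twist p R ⧸ Jp)).compLeft ι, fun _ _ => rfl⟩
  have hgK : LinearMap.ker π ≤ LinearMap.ker g := by
    intro x hx
    rw [LinearMap.mem_ker] at hx ⊢
    funext j
    rw [hg]
    exact Ideal.Quotient.eq_zero_iff_mem.mpr (hJpmem x hx j)
  obtain ⟨gM, hgM⟩ : ∃ gM : M →ₗ[R] (ι → FrobAlg.Twist p R ⧸ Jp), ∀ x, gM (π x) = g x := by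
    refine ⟨(Submodule.liftQ (LinearMap.ker π) g hgK).comp
      (π.quotKerEquivOfSurjective hπsurj).symm.toLinearMap, fun x => ?_⟩
    rw [LinearMap.comp_apply, LinearEquiv.coe_coe, LinearMap.quotKerEquivOfSurjective_symm_apply,
      Submodule.liftQ_apply]
  obtain ⟨Φ, hΦ⟩ : ∃ Φ : (FrobAlg.Twist p R ⊗[R] M) →+ (ι → FrobAlg.Twist p R ⧸ Jp),
      ∀ (s : FrobAlg.Twist p R) (m : M), Φ (s ⊗ₜ[R] m) = s • gM m :=
    ⟨(LinearMap.liftBaseChange (FrobAlg.Twist p R) gM).toAddMonoidHom, fun _ _ => rfl⟩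
  -- the second presentation
  obtain ⟨u, hu⟩ : ∃ u : ι → M, ∀ i, u i = e ((1 : FrobAlg.Twist p R) ⊗ₜ[R] v i) :=
    ⟨_, fun _ => rfl⟩
  have E : ∀ (s : FrobAlg.Twist p R) (i : ι),
      e (s ⊗ₜ[R] v i) = ((FrobAlg.toTwist p R).symm s) • u i := by
    intro s i
    have h1 : s ⊗ₜ[R] v i = s • ((1 : FrobAlg.Twist p R) ⊗ₜ[R] v i) := by
      rw [TensorProduct.smul_tmul', smul_eq_mul, mul_one]
    rw [h1, map_smulₛₗ, hu] <;> rfl
  obtain ⟨π', hπ'def⟩ : ∃ π' : (ι → R) →ₗ[R] M, π' = Fintype.linearCombination R u := ⟨_, rfl⟩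
  have hπ' : ∀ y, π' y = ∑ i, y i • u i := by intro y; rw [hπ'def]; rfl
  have hπ'single : ∀ i, π' (Pi.single i 1) = u i := by
    intro i; rw [hπ'def, Fintype.linearCombination_apply_single, one_smul]
  have hπ'surj : Function.Surjective π' := by
    intro m
    obtain ⟨t, rfl⟩ := he.2 m
    suffices h : e t ∈ LinearMap.range π' from LinearMap.mem_range.mp h
    induction t using TensorProduct.induction_on with
    | zero => rw [map_zero]; exact Submodule.zero_mem _
    | tmul s m =>
      have hm : m ∈ Submodule.span R (Set.range v) := by rw [hspan]; exact Submodule.mem_top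
      obtain ⟨c, hc⟩ := (Submodule.mem_span_range_iff_exists_fun R).mp hm
      rw [← hc, TensorProduct.tmul_sum, map_sum]
      refine Submodule.sum_mem _ (fun i _ => ?_)
      rw [TensorProduct.tmul_smul, TensorProduct.smul_tmul', E]
      exact Submodule.smul_mem _ _ (LinearMap.mem_range.mpr ⟨_, hπ'single i⟩)
    | add t1 t2 h1 h2 => rw [map_add]; exact Submodule.add_mem _ h1 h2
  -- kernel of the second presentation has small coordinates
  have C : ∀ y, π' y = 0 → ∀ j, y j ∈ IsLocalRing.maximalIdeal R * J := by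
    intro y hy j
    have ht : e (∑ i, (FrobAlg.toTwist p R (y i)) ⊗ₜ[R] v i) = e 0 := by
      rw [map_sum, map_zero, ← hy, hπ']
      refine Finset.sum_congr rfl (fun i _ => ?_)
      rw [E, RingEquiv.symm_apply_apply]
    have ht0 := he.1 ht
    have hΦ0 : Φ (∑ i, (FrobAlg.toTwist p R (y i)) ⊗ₜ[R] v i) = 0 := by rw [ht0, map_zero]
    rw [map_sum] at hΦ0
    have hj := congrFun hΦ0 j
    rw [Finset.sum_apply, Finset.sum_eq_single j] at hj
    · rw [hΦ, ← hπsingle j, hgM, Pi.smul_apply, hg, Pi.single_eq_same, map_one, map_one] at hj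
      have h3 : Ideal.Quotient.mk Jp (FrobAlg.toTwist p R (y j)) = 0 := by
        rw [Algebra.smul_def, mul_one] at hj
        exact hj
      have hmem : FrobAlg.toTwist p R (y j) ∈ Jp := Ideal.Quotient.eq_zero_iff_mem.mp h3
      have := hJpmap (Ideal.mem_map_of_mem
        ((FrobAlg.toTwist p R).symm : FrobAlg.Twist p R →+* R) hmem)
      rwa [show ((FrobAlg.toTwist p R).symm : FrobAlg.Twist p R →+* R)
        (FrobAlg.toTwist p R (y j)) = y j from RingEquiv.symm_apply_apply _ _] at this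
    · intro i _ hij
      rw [hΦ, ← hπsingle i, hgM, Pi.smul_apply, hg, Pi.single_eq_of_ne hij.symm, map_zero,
        map_zero, smul_zero]
    · intro h; exact absurd (Finset.mem_univ j) h
  -- lifts between the two presentations
  choose a ha using fun i => hπ'surj (v i)
  choose b hb using fun i => hπsurj (u i)
  obtain ⟨A, hAdef⟩ : ∃ A : (ι → R) →ₗ[R] (ι → R), A = Fintype.linearCombination R a :=
    ⟨_, rfl⟩
  obtain ⟨B, hBdef⟩ : ∃ B : (ι → R) →ₗ[R] (ι → R), B = Fintype.linearCombination R b :=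
    ⟨_, rfl⟩
  have hA : ∀ x, A x = ∑ i, x i • a i := by intro x; rw [hAdef]; rfl
  have hB : ∀ y, B y = ∑ i, y i • b i := by intro y; rw [hBdef]; rfl
  have hπ'A : ∀ x, π' (A x) = π x := by
    intro x
    rw [hA, map_sum, hπ]
    exact Finset.sum_congr rfl (fun i _ => by rw [map_smul, ha])
  have hπB : ∀ y, π (B y) = π' y := by
    intro y
    rw [hB, map_sum, hπ']
    exact Finset.sum_congr rfl (fun i _ => by rw [map_smul, hb])
  have hN : ∀ x, π (B (A x) - x) = 0 := by
    intro x; rw [map_sub, hπB, hπ'A, sub_self]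
  have hmain : J ≤ IsLocalRing.maximalIdeal R * J := by
    apply hJle
    intro x hx j
    have hAx : ∀ i, (A x) i ∈ IsLocalRing.maximalIdeal R * J :=
      C (A x) (by rw [hπ'A, hx])
    have h1 : (B (A x)) j ∈ IsLocalRing.maximalIdeal R * J := by
      rw [hB, Finset.sum_apply]
      refine Ideal.sum_mem _ (fun i _ => ?_)
      rw [Pi.smul_apply, smul_eq_mul]
      exact Ideal.mul_mem_right _ _ (hAx i)
    have h2 : (B (A x) - x) j ∈ IsLocalRing.maximalIdeal R * J := by
      have hlin := LinearMap.pi_apply_eq_sum_univ (B.comp A - LinearMap.id) x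
      have hlin' : B (A x) - x = ∑ i, x i • (B (A (fun j => if i = j then 1 else 0)) -
          (fun j => if i = j then 1 else 0)) := hlin
      rw [hlin', Finset.sum_apply]
      refine Ideal.sum_mem _ (fun i _ => ?_)
      rw [Pi.smul_apply, smul_eq_mul]
      exact Ideal.mul_mem_mul (hJm (hJmem x hx i)) (hJmem _ (hN _) j)
    have h3 : x j = (B (A x)) j - (B (A x) - x) j := by rw [Pi.sub_apply]; ring
    rw [h3]
    exact Ideal.sub_mem _ h1 h2
  have hJbot : J = ⊥ :=
    Submodule.eq_bot_of_le_smul_of_le_jacobson_bot (IsLocalRing.maximalIdeal R) J hJfg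
      (by rw [smul_eq_mul]; exact hmain)
      (IsLocalRing.jacobson_eq_maximalIdeal ⊥ bot_ne_top).ge
  intro x hx
  funext i
  have := hJmem x ((hπ x).trans hx) i
  rw [hJbot] at this
  exact Ideal.mem_bot.mp this

theorem s16368
    (p : ℕ) [Fact p.Prime] (R : Type u) [CommRing R] [IsLocalRing R] [CharP R p]
    (M : Type v) [AddCommGroup M] [Module R M] [Module.FinitePresentation R M]
    (e : (FrobAlg.Twist p R ⊗[R] M) →ₛₗ[((FrobAlg.toTwist p R).symm : FrobAlg.Twist p R →+* R)] M)
    (he : Function.Bijective e) :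
    Module.Free R M := by
  obtain ⟨ι, hι, v, hspan, hker⟩ := exists_min_gens R M
  have hsurj : Function.Surjective (Fintype.linearCombination R v) :=
    LinearMap.range_eq_top.mp (by rw [Fintype.range_linearCombination]; exact hspan)
  have hfg := Module.FinitePresentation.fg_ker (Fintype.linearCombination R v) hsurj
  have hinj : Function.Injective (Fintype.linearCombination R v) := by
    rw [← LinearMap.ker_eq_bot, LinearMap.ker_eq_bot']
    intro x hx
    exact core p R M e he v hspan hker hfg x hx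
  exact Module.Free.of_equiv (LinearEquiv.ofBijective _ ⟨hinj, hsurj⟩)

end Groth.Agent.Lib.Helper24FrobFree
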