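import Mathlib

/-!
# The functional equation `F(x + y F(x)) = F(x) F(y)` for rational functions

If `F ∈ k(X)` is defined at `0` with `F(0) = 1` and satisfies `F(x + y F(x)) = F(x) F(y)` in
`k(x, y)`, then `F = 1 + a X`.  We transport the identity to `K(Y)` with `K = k(X)`, where it says
`F(x + c y) = c F(y)` with `c = F(x) ∈ K`, an identity about an affine substitution in `K[Y]`;
coprimality of numerator and denominator gives `P(x + c y) = u P(y)`, and comparing leading
coefficients and constant terms yields `P(x) = P(0) c ^ deg P`, `Q(x) = Q(0) c ^ deg Q`.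
-/

namespace Groth.Agent.Lib.Helper24FunEq

open Polynomial

section Core

variable {K : Type*} [Field K]

theorem exists_C_mul_of_dvd (A B : K[X]) (hAB : A ∣ B) (hB : B ≠ 0)
    (hdeg : A.natDegree = B.natDegree) : ∃ u : K, u ≠ 0 ∧ B = C u * A := by
  obtain ⟨W, rfl⟩ := hAB
  have hA : A ≠ 0 := left_ne_zero_of_mul hB
  have hW : W ≠ 0 := right_ne_zero_of_mul hB
  rw [natDegree_mul hA hW] at hdeg
  have hW0 : W.natDegree = 0 := by omega
  rw [eq_C_of_natDegree_eq_zero hW0] at hW ⊢
  refine ⟨W.coeff 0, fun h => hW (by rw [h, C_0]), ?_⟩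
  rw [mul_comm]

theorem core (P Q : K[X]) (hP : P ≠ 0) (hQ : Q ≠ 0) (hcop : IsCoprime P Q) (x c : K) (hc : c ≠ 0)
    (h : P.comp (C c * X + C x) * Q = C c * P * Q.comp (C c * X + C x)) :
    P.eval x = P.eval 0 * c ^ P.natDegree ∧ Q.eval x = Q.eval 0 * c ^ Q.natDegree := by
  set ℓ : K[X] := C c * X + C x with hℓ
  have hℓdeg : ℓ.natDegree = 1 := natDegree_linear hc
  have hℓlc : ℓ.leadingCoeff = c := leadingCoeff_linear hc
  have hℓ0 : ℓ.eval 0 = x := by simp [hℓ]
  have hcop' : IsCoprime (P.comp ℓ) (Q.comp ℓ) := hcop.map (compRingHom ℓ)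
  have hdP : (P.comp ℓ).natDegree = P.natDegree := by rw [natDegree_comp, hℓdeg, mul_one]
  have hdQ : (Q.comp ℓ).natDegree = Q.natDegree := by rw [natDegree_comp, hℓdeg, mul_one]
  have hlP : (P.comp ℓ).leadingCoeff = P.leadingCoeff * c ^ P.natDegree := by
    rw [leadingCoeff_comp (by rw [hℓdeg]; exact one_ne_zero), hℓlc]
  have hlQ : (Q.comp ℓ).leadingCoeff = Q.leadingCoeff * c ^ Q.natDegree := by
    rw [leadingCoeff_comp (by rw [hℓdeg]; exact one_ne_zero), hℓlc]
  have hlcP : P.leadingCoeff ≠ 0 := leadingCoeff_ne_zero.2 hP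
  have hlcQ : Q.leadingCoeff ≠ 0 := leadingCoeff_ne_zero.2 hQ
  constructor
  · have hdvd : P.comp ℓ ∣ C c * P := by
      apply hcop'.dvd_of_dvd_mul_right
      rw [← h]
      exact dvd_mul_right _ _
    have hne : C c * P ≠ 0 := mul_ne_zero (by rwa [Ne, C_eq_zero]) hP
    obtain ⟨u, hu, hu'⟩ := exists_C_mul_of_dvd _ _ hdvd hne (by rw [hdP, natDegree_C_mul hc])
    have e1 := congrArg (eval 0) hu'
    have e2 := congrArg leadingCoeff hu'
    simp only [eval_mul, eval_C, eval_comp, hℓ0, leadingCoeff_mul, leadingCoeff_C, hlP] at e1 e2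
    have e3 : c = u * c ^ P.natDegree := by
      apply mul_right_cancel₀ hlcP
      rw [e2]; ring
    have : c * P.eval x = c * (P.eval 0 * c ^ P.natDegree) := by
      calc c * P.eval x = (u * c ^ P.natDegree) * P.eval x := by rw [← e3]
        _ = (u * P.eval x) * c ^ P.natDegree := by ring
        _ = (c * P.eval 0) * c ^ P.natDegree := by rw [e1]
        _ = c * (P.eval 0 * c ^ P.natDegree) := by ring
    exact mul_left_cancel₀ hc this
  · have hdvd : Q.comp ℓ ∣ Q := by
      apply hcop'.symm.dvd_of_dvd_mul_left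
      rw [h]
      exact dvd_mul_left _ _
    obtain ⟨u, hu, hu'⟩ := exists_C_mul_of_dvd _ _ hdvd hQ hdQ
    have e1 := congrArg (eval 0) hu'
    have e2 := congrArg leadingCoeff hu'
    simp only [eval_mul, eval_C, eval_comp, hℓ0, leadingCoeff_mul, leadingCoeff_C, hlQ] at e1 e2
    have e3 : 1 = u * c ^ Q.natDegree := by
      apply mul_right_cancel₀ hlcQ
      rw [one_mul]
      conv_lhs => rw [e2]
      ring
    calc Q.eval x = 1 * Q.eval x := (one_mul _).symm
      _ = (u * c ^ Q.natDegree) * Q.eval x := by rw [← e3]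
      _ = (u * Q.eval x) * c ^ Q.natDegree := by ring
      _ = Q.eval 0 * c ^ Q.natDegree := by rw [← e1]

end Core

section Finish

variable {k : Type*} [Field k]

/-- The purely polynomial endgame. -/
theorem finish (P Q : k[X]) (hcop : IsCoprime P Q) (h0 : Q.eval 0 ≠ 0) (h1 : P.eval 0 = Q.eval 0)
    (hPQ : P * Q ^ P.natDegree = C (P.eval 0) * P ^ P.natDegree)
    (hQP : Q * Q ^ Q.natDegree = C (Q.eval 0) * P ^ Q.natDegree) :
    ∃ a : k, P = (1 + C a * X) * Q := by
  have hP : P ≠ 0 := by
    rintro rfl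
    rw [eval_zero] at h1
    exact h0 h1.symm
  have hQ : Q ≠ 0 := by
    rintro rfl
    simp at h0
  rcases Nat.eq_zero_or_pos P.natDegree with hd | hd
  · -- P constant
    have hPc : P = C (P.eval 0) := by
      rw [← coeff_zero_eq_eval_zero]
      exact eq_C_of_natDegree_eq_zero hd
    have hQdeg : Q.natDegree = 0 := by
      have := congrArg natDegree hQP
      rw [← pow_succ', natDegree_pow, hPc, ← C_pow, ← C_mul, natDegree_C] at this
      rcases Nat.mul_eq_zero.1 this with h | h
      · omega
      · exact h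
    have hQc : Q = C (Q.eval 0) := by
      rw [← coeff_zero_eq_eval_zero]
      exact eq_C_of_natDegree_eq_zero hQdeg
    refine ⟨0, ?_⟩
    rw [C_0, zero_mul, add_zero, one_mul, hPc, hQc, h1]
  · -- P nonconstant
    have hQd : Q ^ P.natDegree = C (P.eval 0) * P ^ (P.natDegree - 1) := by
      apply mul_left_cancel₀ hP
      rw [hPQ]
      conv_lhs => rw [show P.natDegree = (P.natDegree - 1) + 1 by omega, pow_succ]
      ring
    have hd1 : P.natDegree = 1 := by
      by_contra hne
      have hge : P.natDegree - 1 ≠ 0 := by omega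
      have hdvd : P ∣ Q ^ P.natDegree := by
        rw [hQd]
        exact Dvd.dvd.mul_left (dvd_pow_self P hge) _
      have hu : IsUnit P := (hcop.pow_right (n := P.natDegree)).isUnit_of_dvd' dvd_rfl hdvd
      have := natDegree_eq_zero_of_isUnit hu
      omega
    rw [hd1, pow_one, Nat.sub_self, pow_zero, mul_one] at hQd
    have hPl : P = C (P.coeff 1) * X + C (P.coeff 0) :=
      eq_X_add_C_of_natDegree_le_one hd1.le
    rw [coeff_zero_eq_eval_zero] at hPl
    refine ⟨P.coeff 1 / P.eval 0, ?_⟩
    have hP0 : P.eval 0 ≠ 0 := by rw [h1]; exact h0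
    rw [hQd]
    conv_lhs => rw [hPl]
    rw [add_mul, one_mul, mul_comm (C (P.coeff 1 / P.eval 0) * X), ← mul_assoc, ← C_mul,
      mul_div_cancel₀ _ hP0]
    ring

end Finish

section Transport

variable {k : Type} [Field k]

theorem algInd : AlgebraicIndependent k
    (![algebraMap (RatFunc k) (RatFunc (RatFunc k)) RatFunc.X, RatFunc.X] :
      Fin 2 → RatFunc (RatFunc k)) := by
  have hx : AlgebraicIndependent k (fun _ : Unit => (RatFunc.X : RatFunc k)) :=
    algebraicIndependent_unique_type_iff.2 RatFunc.transcendental_X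
  have hy : AlgebraicIndependent (RatFunc k) (fun _ : Unit => (RatFunc.X : RatFunc (RatFunc k))) :=
    algebraicIndependent_unique_type_iff.2 RatFunc.transcendental_X
  have h := AlgebraicIndependent.sumElim_comp hx hy
  let f : Fin 2 → Unit ⊕ Unit := ![Sum.inr (), Sum.inl ()]
  have hf : Function.Injective f := by
    intro a b hab
    fin_cases a <;> fin_cases b <;> simp [f] at hab ⊢
  have h2 := h.comp f hf
  convert h2 using 1
  ext i
  fin_cases i <;> simp [f]

theorem map_eval {L M : Type} [Field L] [Field M] (φ : L →+* M) (f : k →+* L) (a : L)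
    (F : RatFunc k) : φ (RatFunc.eval f a F) = RatFunc.eval (φ.comp f) (φ a) F := by
  simp [RatFunc.eval, Polynomial.hom_eval₂]

/-- transport of the functional equation to `RatFunc (RatFunc k)`. -/
theorem transport (F : RatFunc k)
    (hFE : RatFunc.eval (algebraMap k (FractionRing (MvPolynomial (Fin 2) k)))
        (algebraMap (MvPolynomial (Fin 2) k) (FractionRing (MvPolynomial (Fin 2) k)) (MvPolynomial.X 0) +
          algebraMap (MvPolynomial (Fin 2) k) (FractionRing (MvPolynomial (Fin 2) k)) (MvPolynomial.X 1) *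
            RatFunc.eval (algebraMap k (FractionRing (MvPolynomial (Fin 2) k)))
              (algebraMap (MvPolynomial (Fin 2) k) (FractionRing (MvPolynomial (Fin 2) k)) (MvPolynomial.X 0)) F) F =
      RatFunc.eval (algebraMap k (FractionRing (MvPolynomial (Fin 2) k)))
          (algebraMap (MvPolynomial (Fin 2) k) (FractionRing (MvPolynomial (Fin 2) k)) (MvPolynomial.X 0)) F *
        RatFunc.eval (algebraMap k (FractionRing (MvPolynomial (Fin 2) k)))
          (algebraMap (MvPolynomial (Fin 2) k) (FractionRing (MvPolynomial (Fin 2) k)) (MvPolynomial.X 1)) F) :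
    RatFunc.eval (algebraMap k (RatFunc (RatFunc k)))
        (algebraMap (RatFunc k) (RatFunc (RatFunc k)) RatFunc.X +
          RatFunc.X * RatFunc.eval (algebraMap k (RatFunc (RatFunc k)))
            (algebraMap (RatFunc k) (RatFunc (RatFunc k)) RatFunc.X) F) F =
      RatFunc.eval (algebraMap k (RatFunc (RatFunc k)))
          (algebraMap (RatFunc k) (RatFunc (RatFunc k)) RatFunc.X) F *
        RatFunc.eval (algebraMap k (RatFunc (RatFunc k))) RatFunc.X F := by
  have hinj : Function.Injective
      ((MvPolynomial.aeval (![algebraMap (RatFunc k) (RatFunc (RatFunc k)) RatFunc.X, RatFunc.X] :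
        Fin 2 → RatFunc (RatFunc k)) : MvPolynomial (Fin 2) k →ₐ[k] RatFunc (RatFunc k)) :
        MvPolynomial (Fin 2) k →+* RatFunc (RatFunc k)) := algInd
  let φ : FractionRing (MvPolynomial (Fin 2) k) →+* RatFunc (RatFunc k) := IsFractionRing.lift hinj
  have hφ0 : φ (algebraMap (MvPolynomial (Fin 2) k) (FractionRing (MvPolynomial (Fin 2) k))
      (MvPolynomial.X 0)) = algebraMap (RatFunc k) (RatFunc (RatFunc k)) RatFunc.X := by
    rw [IsFractionRing.lift_algebraMap]
    simp
  have hφ1 : φ (algebraMap (MvPolynomial (Fin 2) k) (FractionRing (MvPolynomial (Fin 2) k))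
      (MvPolynomial.X 1)) = RatFunc.X := by
    rw [IsFractionRing.lift_algebraMap]
    simp
  have hφk : φ.comp (algebraMap k (FractionRing (MvPolynomial (Fin 2) k))) =
      algebraMap k (RatFunc (RatFunc k)) := by
    ext a
    rw [RingHom.comp_apply, IsScalarTower.algebraMap_apply k (MvPolynomial (Fin 2) k)
      (FractionRing (MvPolynomial (Fin 2) k)), IsFractionRing.lift_algebraMap]
    simp
  have := congrArg φ hFE
  rw [map_mul, map_eval, map_eval, map_eval, map_add, map_mul, map_eval, hφk, hφ0, hφ1] at this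
  exact this

end Transport

section Main

variable {k : Type} [Field k]

theorem evalM (P : k[X]) (g : (RatFunc k)[X]) :
    P.eval₂ (algebraMap k (RatFunc (RatFunc k))) (algebraMap (RatFunc k)[X] (RatFunc (RatFunc k)) g) =
      algebraMap (RatFunc k)[X] (RatFunc (RatFunc k)) ((P.map (algebraMap k (RatFunc k))).comp g) := by
  rw [Polynomial.comp, Polynomial.hom_eval₂, Polynomial.eval₂_map]
  congr 1

theorem main_of_transported (F : RatFunc k)
    (h0 : F.denom.eval 0 ≠ 0) (h1 : F.num.eval 0 = F.denom.eval 0)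
    (hFE : RatFunc.eval (algebraMap k (RatFunc (RatFunc k)))
        (algebraMap (RatFunc k) (RatFunc (RatFunc k)) RatFunc.X +
          RatFunc.X * RatFunc.eval (algebraMap k (RatFunc (RatFunc k)))
            (algebraMap (RatFunc k) (RatFunc (RatFunc k)) RatFunc.X) F) F =
      RatFunc.eval (algebraMap k (RatFunc (RatFunc k)))
          (algebraMap (RatFunc k) (RatFunc (RatFunc k)) RatFunc.X) F *
        RatFunc.eval (algebraMap k (RatFunc (RatFunc k))) RatFunc.X F) :
    ∃ a : k, F = 1 + RatFunc.C a * RatFunc.X := by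
  set P := F.num with hPdef
  set Q := F.denom with hQdef
  have hQ : Q ≠ 0 := F.denom_ne_zero
  have hP : P ≠ 0 := by
    intro h
    rw [h, eval_zero] at h1
    exact h0 h1.symm
  have hcop : IsCoprime P Q := F.isCoprime_num_denom
  have hF : algebraMap k[X] (RatFunc k) P / algebraMap k[X] (RatFunc k) Q = F := F.num_div_denom
  have hinjK : Function.Injective (algebraMap k[X] (RatFunc k)) := RatFunc.algebraMap_injective k
  have hqK : algebraMap k[X] (RatFunc k) Q ≠ 0 := by
    rw [Ne, map_eq_zero_iff _ hinjK]; exact hQ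
  have hpK : algebraMap k[X] (RatFunc k) P ≠ 0 := by
    rw [Ne, map_eq_zero_iff _ hinjK]; exact hP
  have hF0 : F ≠ 0 := by
    rw [← hF]; exact div_ne_zero hpK hqK
  -- the polynomials over K
  set Pt : (RatFunc k)[X] := P.map (algebraMap k (RatFunc k)) with hPt
  set Qt : (RatFunc k)[X] := Q.map (algebraMap k (RatFunc k)) with hQt
  have hPt0 : Pt ≠ 0 := by rw [hPt, Ne, Polynomial.map_eq_zero]; exact hP
  have hQt0 : Qt ≠ 0 := by rw [hQt, Ne, Polynomial.map_eq_zero]; exact hQ
  have hcopt : IsCoprime Pt Qt := hcop.map (mapRingHom (algebraMap k (RatFunc k)))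
  have evX : ∀ R : k[X], (R.map (algebraMap k (RatFunc k))).eval RatFunc.X =
      algebraMap k[X] (RatFunc k) R := by
    intro R
    rw [eval_map]
    have := Polynomial.eval₂_algebraMap_X R (IsScalarTower.toAlgHom k k[X] (RatFunc k))
    simpa using this
  have ev0 : ∀ R : k[X], (R.map (algebraMap k (RatFunc k))).eval 0 =
      algebraMap k (RatFunc k) (R.eval 0) := by
    intro R
    rw [eval_map, eval₂_at_zero, coeff_zero_eq_eval_zero]
  -- rewrite the hypothesis
  set ℓ : (RatFunc k)[X] := C F * X + C RatFunc.X with hℓ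
  have hx' : algebraMap (RatFunc k) (RatFunc (RatFunc k)) RatFunc.X =
      algebraMap (RatFunc k)[X] (RatFunc (RatFunc k)) (C RatFunc.X) := by
    simp
  have hy' : (RatFunc.X : RatFunc (RatFunc k)) = algebraMap (RatFunc k)[X] (RatFunc (RatFunc k)) X := by
    simp
  have hc' : RatFunc.eval (algebraMap k (RatFunc (RatFunc k)))
      (algebraMap (RatFunc k) (RatFunc (RatFunc k)) RatFunc.X) F =
      algebraMap (RatFunc k)[X] (RatFunc (RatFunc k)) (C F) := by
    rw [RatFunc.eval, hx', evalM, evalM, comp_C, comp_C, evX, evX]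
    simp only [RatFunc.algebraMap_C, ← map_div₀]
    rw [RatFunc.num_div_denom]
  have harg : algebraMap (RatFunc k) (RatFunc (RatFunc k)) RatFunc.X +
      RatFunc.X * RatFunc.eval (algebraMap k (RatFunc (RatFunc k)))
        (algebraMap (RatFunc k) (RatFunc (RatFunc k)) RatFunc.X) F =
      algebraMap (RatFunc k)[X] (RatFunc (RatFunc k)) ℓ := by
    rw [hc', hx', hℓ, map_add, map_mul, ← hy']
    ring
  rw [harg, hc'] at hFE
  have hyev : RatFunc.eval (algebraMap k (RatFunc (RatFunc k))) RatFunc.X F =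
      algebraMap (RatFunc k)[X] (RatFunc (RatFunc k)) Pt /
        algebraMap (RatFunc k)[X] (RatFunc (RatFunc k)) Qt := by
    rw [RatFunc.eval]
    conv_lhs => rw [hy', evalM, evalM, comp_X, comp_X]
  rw [hyev, RatFunc.eval, evalM, evalM] at hFE
  have hinjM : Function.Injective (algebraMap (RatFunc k)[X] (RatFunc (RatFunc k))) :=
    RatFunc.algebraMap_injective (RatFunc k)
  have hℓdeg : ℓ.natDegree = 1 := natDegree_linear hF0
  have hQl : Qt.comp ℓ ≠ 0 := by
    intro h
    have := congrArg natDegree h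
    rw [natDegree_comp, hℓdeg, mul_one, natDegree_zero] at this
    rw [eq_C_of_natDegree_eq_zero this, C_comp] at h
    rw [eq_C_of_natDegree_eq_zero this] at hQt0
    exact hQt0 h
  have h1M : algebraMap (RatFunc k)[X] (RatFunc (RatFunc k)) (Qt.comp ℓ) ≠ 0 := by
    rw [Ne, map_eq_zero_iff _ hinjM]; exact hQl
  have h2M : algebraMap (RatFunc k)[X] (RatFunc (RatFunc k)) Qt ≠ 0 := by
    rw [Ne, map_eq_zero_iff _ hinjM]; exact hQt0
  have hpoly : Pt.comp ℓ * Qt = C F * Pt * Qt.comp ℓ := by
    apply hinjM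
    rw [map_mul, map_mul, map_mul]
    have hFE' : algebraMap (RatFunc k)[X] (RatFunc (RatFunc k)) (Pt.comp ℓ) /
        algebraMap (RatFunc k)[X] (RatFunc (RatFunc k)) (Qt.comp ℓ) =
        algebraMap (RatFunc k)[X] (RatFunc (RatFunc k)) (C F) *
          (algebraMap (RatFunc k)[X] (RatFunc (RatFunc k)) Pt /
            algebraMap (RatFunc k)[X] (RatFunc (RatFunc k)) Qt) := hFE
    rw [div_eq_iff h1M] at hFE'
    rw [hFE']
    field_simp
  obtain ⟨e1, e2⟩ := core Pt Qt hPt0 hQt0 hcopt RatFunc.X F hF0 hpoly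
  have hdP : Pt.natDegree = P.natDegree := natDegree_map _
  have hdQ : Qt.natDegree = Q.natDegree := natDegree_map _
  rw [hPt, evX, ev0, ← hPt, hdP] at e1
  rw [hQt, evX, ev0, ← hQt, hdQ] at e2
  have hFq : F * algebraMap k[X] (RatFunc k) Q = algebraMap k[X] (RatFunc k) P := by
    rw [← hF, div_mul_cancel₀ _ hqK]
  have hPQ : P * Q ^ P.natDegree = C (P.eval 0) * P ^ P.natDegree := by
    apply hinjK
    rw [map_mul, map_mul, map_pow, map_pow]
    have : (algebraMap k[X] (RatFunc k)) (C (P.eval 0)) = algebraMap k (RatFunc k) (P.eval 0) := by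
      simp [RatFunc.algebraMap_eq_C]
    rw [this]
    calc algebraMap k[X] (RatFunc k) P * algebraMap k[X] (RatFunc k) Q ^ P.natDegree
        = (algebraMap k (RatFunc k) (P.eval 0) * F ^ P.natDegree) *
            algebraMap k[X] (RatFunc k) Q ^ P.natDegree := by rw [← e1]
      _ = algebraMap k (RatFunc k) (P.eval 0) * (F * algebraMap k[X] (RatFunc k) Q) ^ P.natDegree := by
          rw [mul_pow]; ring
      _ = _ := by rw [hFq]
  have hQP : Q * Q ^ Q.natDegree = C (Q.eval 0) * P ^ Q.natDegree := by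
    apply hinjK
    rw [map_mul, map_mul, map_pow, map_pow]
    have : (algebraMap k[X] (RatFunc k)) (C (Q.eval 0)) = algebraMap k (RatFunc k) (Q.eval 0) := by
      simp [RatFunc.algebraMap_eq_C]
    rw [this]
    calc algebraMap k[X] (RatFunc k) Q * algebraMap k[X] (RatFunc k) Q ^ Q.natDegree
        = (algebraMap k (RatFunc k) (Q.eval 0) * F ^ Q.natDegree) *
            algebraMap k[X] (RatFunc k) Q ^ Q.natDegree := by rw [← e2]
      _ = algebraMap k (RatFunc k) (Q.eval 0) * (F * algebraMap k[X] (RatFunc k) Q) ^ Q.natDegree := by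
          rw [mul_pow]; ring
      _ = _ := by rw [hFq]
  obtain ⟨a, ha⟩ := finish P Q hcop h0 h1 hPQ hQP
  refine ⟨a, ?_⟩
  rw [← hF, ha, map_mul, mul_div_assoc, div_self hqK, mul_one]
  simp

end Main

section Final

variable {k : Type} [Field k]

theorem main (F : RatFunc k)
    (h0 : F.denom.eval 0 ≠ 0) (h1 : F.num.eval 0 = F.denom.eval 0)
    (hFE : RatFunc.eval (algebraMap k (FractionRing (MvPolynomial (Fin 2) k)))
        (algebraMap (MvPolynomial (Fin 2) k) (FractionRing (MvPolynomial (Fin 2) k)) (MvPolynomial.X 0) +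
          algebraMap (MvPolynomial (Fin 2) k) (FractionRing (MvPolynomial (Fin 2) k)) (MvPolynomial.X 1) *
            RatFunc.eval (algebraMap k (FractionRing (MvPolynomial (Fin 2) k)))
              (algebraMap (MvPolynomial (Fin 2) k) (FractionRing (MvPolynomial (Fin 2) k)) (MvPolynomial.X 0)) F) F =
      RatFunc.eval (algebraMap k (FractionRing (MvPolynomial (Fin 2) k)))
          (algebraMap (MvPolynomial (Fin 2) k) (FractionRing (MvPolynomial (Fin 2) k)) (MvPolynomial.X 0)) F *
        RatFunc.eval (algebraMap k (FractionRing (MvPolynomial (Fin 2) k)))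
          (algebraMap (MvPolynomial (Fin 2) k) (FractionRing (MvPolynomial (Fin 2) k)) (MvPolynomial.X 1)) F) :
    ∃ a : k, F = 1 + RatFunc.C a * RatFunc.X :=
  main_of_transported F h0 h1 (transport F hFE)

end Final

end Groth.Agent.Lib.Helper24FunEq
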