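import Mathlib
import Groth.Prelude.Def_SekSuwa2
import Groth.Agent.Lib.Helper24FlatTF

universe u
open CategoryTheory AlgebraicGeometry SekSuwa Groth.Agent.Lib.Helper24FlatTF

namespace Groth.Agent.Lib.Helper24GKInj

theorem ringHom_ext_AK {R : Type u} [CommRing R] {lam : R} {N : ℕ} {h : DivCond lam N}
    {T : Type u} [CommRing T] (F F' : AK R lam N h →+* T)
    (hR : F.comp (algebraMap R (AK R lam N h)) = F'.comp (algebraMap R (AK R lam N h)))
    (ht : F AK.t = F' AK.t) (hinv : F AK.inv = F' AK.inv) : F = F' := by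
  let _ : Algebra R T := (F.comp (algebraMap R (AK R lam N h))).toAlgebra
  let Fa : AK R lam N h →ₐ[R] T := { F with commutes' := fun r => rfl }
  let Fa' : AK R lam N h →ₐ[R] T := { F' with commutes' := fun r => (RingHom.congr_fun hR r).symm }
  have : Fa = Fa' := AK.algHom_ext ht hinv
  ext x
  exact congrArg (fun k : AK R lam N h →ₐ[R] T => k x) this

theorem main (R : Type u) [CommRing R] (lam : R) (N : ℕ) (h : DivCond lam N)
    (G : Over (Spec (CommRingCat.of R))) [Flat G.hom]
    (f g : G ⟶ SekSuwa.GK R lam N h)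
    (hfg : f ≫ SekSuwa.alphaN R lam N h = g ≫ SekSuwa.alphaN R lam N h) : f = g := by
  apply Over.OverMorphism.ext
  obtain ⟨fl, hfl⟩ : ∃ fl : G.left ⟶ Spec (CommRingCat.of (AK R lam N h)), fl = f.left := ⟨_, rfl⟩
  obtain ⟨gl, hgl⟩ : ∃ gl : G.left ⟶ Spec (CommRingCat.of (AK R lam N h)), gl = g.left := ⟨_, rfl⟩
  have hwf : fl ≫ Spec.map (CommRingCat.ofHom (algebraMap R (AK R lam N h))) = G.hom := by
    rw [hfl]; exact Over.w f
  have hwg : gl ≫ Spec.map (CommRingCat.ofHom (algebraMap R (AK R lam N h))) = G.hom := by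
    rw [hgl]; exact Over.w g
  have hαl : fl ≫ Spec.map (CommRingCat.ofHom ((alphaNHom R lam N h : _ →ₐc[R] AK R lam N h) :
        MonoidAlgebra R (Multiplicative (ZMod N)) →+* AK R lam N h)) =
      gl ≫ Spec.map (CommRingCat.ofHom ((alphaNHom R lam N h : _ →ₐc[R] AK R lam N h) :
        MonoidAlgebra R (Multiplicative (ZMod N)) →+* AK R lam N h)) := by
    rw [hfl, hgl]
    exact congrArg (fun k => k.left) hfg
  suffices fl = gl by rw [← hfl, ← hgl, this]
  clear hfl hgl
  apply Phi_injective
  have hR : (Phi fl).comp (algebraMap R (AK R lam N h)) =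
      (Phi gl).comp (algebraMap R (AK R lam N h)) := by
    rw [← Phi_comp, ← Phi_comp, hwf, hwg]
  have hρ : Phi G.hom = (Phi fl).comp (algebraMap R (AK R lam N h)) := by
    rw [← Phi_comp, hwf]
  have hα : (Phi fl).comp ((alphaNHom R lam N h : _ →ₐc[R] AK R lam N h) :
        MonoidAlgebra R (Multiplicative (ZMod N)) →+* AK R lam N h) =
      (Phi gl).comp ((alphaNHom R lam N h : _ →ₐc[R] AK R lam N h) :
        MonoidAlgebra R (Multiplicative (ZMod N)) →+* AK R lam N h) := by
    rw [← Phi_comp, ← Phi_comp, hαl]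
  have hu : Phi fl (1 + lam • AK.t) = Phi gl (1 + lam • AK.t) := by
    rw [← alphaNHom_single_one]
    exact RingHom.congr_fun hα _
  have ht : Phi fl AK.t = Phi gl AK.t := by
    have h1 : Phi G.hom lam * (Phi fl AK.t - Phi gl AK.t) = 0 := by
      rw [Algebra.smul_def, map_add, map_add, map_one, map_one, map_mul, map_mul] at hu
      have h2 : Phi gl (algebraMap R (AK R lam N h) lam) = Phi G.hom lam := by
        rw [hρ, hR]; rfl
      have h3 : Phi fl (algebraMap R (AK R lam N h) lam) = Phi G.hom lam := by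
        rw [hρ]; rfl
      rw [h2, h3] at hu
      linear_combination hu
    exact sub_eq_zero.1 (torsionFree G.hom lam h.nzd _ h1)
  have e1 : (1 + lam • (AK.t : AK R lam N h)) * AK.inv = 1 := by
    have := congrArg (AK.mkHom R lam N h) (A.u_mul_inv (R := R) (lam := lam))
    rw [map_mul, map_one, A.u, map_add, map_one, map_smul] at this
    exact this
  have hinv : Phi fl AK.inv = Phi gl AK.inv := by
    have ef := congrArg (Phi fl) e1
    have eg := congrArg (Phi gl) e1
    rw [map_mul, map_one] at ef eg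
    rw [hu] at ef
    calc Phi fl AK.inv = Phi fl AK.inv * (Phi gl (1 + lam • AK.t) * Phi gl AK.inv) := by
          rw [eg, mul_one]
      _ = (Phi gl (1 + lam • AK.t) * Phi fl AK.inv) * Phi gl AK.inv := by ring
      _ = _ := by rw [ef, one_mul]
  exact ringHom_ext_AK _ _ hR ht hinv

end Groth.Agent.Lib.Helper24GKInj
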