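import Mathlib
import Groth.Prelude.Def_SekSuwa2
import Groth.Prelude.Def_AlgGrp

universe u
open CategoryTheory AlgebraicGeometry Limits SekSuwa MonObj CartesianMonoidalCategory

namespace Groth.Agent.Lib.Helper24GKKer

variable (R : Type u) [CommRing R] (lam : R) (N : ℕ) (h : DivCond lam N)

theorem isPushout :
    IsPushout (CommRingCat.ofHom ((psiHom R lam N h : A R (lam ^ N) →ₐc[R] A R lam) : A R (lam ^ N) →+* A R lam))
      (CommRingCat.ofHom ((Bialgebra.counitAlgHom R (A R (lam ^ N)) : A R (lam ^ N) →ₐ[R] R) : A R (lam ^ N) →+* R))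
      (CommRingCat.ofHom ((AK.mkHom R lam N h : A R lam →ₐc[R] AK R lam N h) : A R lam →+* AK R lam N h))
      (CommRingCat.ofHom (algebraMap R (AK R lam N h))) := by
  have w : CommRingCat.ofHom ((psiHom R lam N h : A R (lam ^ N) →ₐc[R] A R lam) : A R (lam ^ N) →+* A R lam) ≫
      CommRingCat.ofHom ((AK.mkHom R lam N h : A R lam →ₐc[R] AK R lam N h) : A R lam →+* AK R lam N h) =
      CommRingCat.ofHom ((Bialgebra.counitAlgHom R (A R (lam ^ N)) : A R (lam ^ N) →ₐ[R] R) : A R (lam ^ N) →+* R) ≫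
      CommRingCat.ofHom (algebraMap R (AK R lam N h)) := by
    ext a
    have := congrArg (fun f : A R (lam ^ N) →ₐc[R] AK R lam N h => f a) (mkHom_comp_psiHom R lam N h)
    exact this
  -- key vanishing for cocones
  have hs : ∀ s : PushoutCocone
      (CommRingCat.ofHom ((psiHom R lam N h : A R (lam ^ N) →ₐc[R] A R lam) : A R (lam ^ N) →+* A R lam))
      (CommRingCat.ofHom ((Bialgebra.counitAlgHom R (A R (lam ^ N)) : A R (lam ^ N) →ₐ[R] R) :
        A R (lam ^ N) →+* R)), ∀ a : A R (lam ^ N),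
      s.inl.hom (psiHom R lam N h a) = s.inr.hom (Bialgebra.counitAlgHom R (A R (lam ^ N)) a) := by
    intro s a
    have := congrArg (fun f => f.hom a) s.condition
    exact this
  have hker : ∀ s : PushoutCocone
      (CommRingCat.ofHom ((psiHom R lam N h : A R (lam ^ N) →ₐc[R] A R lam) : A R (lam ^ N) →+* A R lam))
      (CommRingCat.ofHom ((Bialgebra.counitAlgHom R (A R (lam ^ N)) : A R (lam ^ N) →ₐ[R] R) :
        A R (lam ^ N) →+* R)), ∀ a ∈ kerIdeal lam N h, s.inl.hom a = 0 := by
    intro s a ha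
    obtain ⟨c, rfl⟩ := Ideal.mem_span_singleton'.1 ha
    rw [map_mul, ← psiHom_t R lam N h, hs s]
    have : Bialgebra.counitAlgHom R (A R (lam ^ N)) A.t = 0 := A.counit_t
    rw [this, map_zero, mul_zero]
  refine IsPushout.of_isColimit' ⟨w⟩ (PushoutCocone.IsColimit.mk w
    (fun s => CommRingCat.ofHom (Ideal.Quotient.lift (kerIdeal lam N h) s.inl.hom (hker s)))
    ?_ ?_ ?_)
  · intro s
    ext a
    exact Ideal.Quotient.lift_mk (kerIdeal lam N h) s.inl.hom (hker s)
  · intro s
    ext r
    change Ideal.Quotient.lift (kerIdeal lam N h) s.inl.hom (hker s)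
      (Ideal.Quotient.mk _ (algebraMap R (A R lam) r)) = s.inr.hom r
    rw [Ideal.Quotient.lift_mk]
    have h1 : psiHom R lam N h (algebraMap R (A R (lam ^ N)) r) = algebraMap R (A R lam) r :=
      AlgHomClass.commutes (psiHom R lam N h) r
    rw [← h1, hs s, AlgHom.commutes]
    rfl
  · intro s m hm1 hm2
    ext a
    obtain ⟨b, rfl⟩ := Ideal.Quotient.mk_surjective a
    have := congrArg (fun f => f.hom b) hm1
    exact this.trans (Ideal.Quotient.lift_mk (kerIdeal lam N h) s.inl.hom (hker s)).symm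

theorem isKernel : AlgGrp.IsKernel (SekSuwa.incl R lam N h) (SekSuwa.psi R lam N h) := by
  unfold AlgGrp.IsKernel
  have comm : SekSuwa.incl R lam N h ≫ SekSuwa.psi R lam N h =
      toUnit (SekSuwa.GK R lam N h) ≫ η[SekSuwa.G R (lam ^ N)] := by
    rw [incl_psi, Hom.one_def]
  refine IsPullback.of_map (Over.forget _) comm ?_
  have hu : (toUnit (SekSuwa.GK R lam N h)).left =
      Spec.map (CommRingCat.ofHom (algebraMap R (AK R lam N h))) := by
    rw [← Category.comp_id (toUnit (SekSuwa.GK R lam N h)).left]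
    exact Over.w (toUnit (SekSuwa.GK R lam N h))
  have := isPullback_SpecMap_of_isPushout _ _ _ _ (isPushout R lam N h)
  simp only [Over.forget_obj, Over.forget_map]
  rw [hu]
  exact this

end Groth.Agent.Lib.Helper24GKKer
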