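import Mathlib

/-!
# Extension of rational places (helper24)

For an algebraically closed field `k`, a field extension `K/k`, a `k`-subalgebra `B ⊆ K` and a
`k`-algebra map `g : B → k`, there is a valuation ring `V ⊆ K` (a `k`-subalgebra with
`x ∈ V ∨ x⁻¹ ∈ V`) containing `B` and a `k`-algebra map `V → k` extending `g` whose kernel is the set
of non-units of `V`.
-/

set_option autoImplicit false
set_option linter.style.haveILetI false
universe u v w
open Polynomial

namespace Groth.Agent.Lib.Helper24HM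

theorem exists_const_of_maximal {k : Type u} [Field k] [IsAlgClosed k] {R' : Type w} [CommRing R']
    (M : Ideal R') (hM : M.IsMaximal) (ι₀ : k →+* R') (x' : R')
    (hgen : ∀ s : R', ∃ q : k[X], s - Polynomial.eval₂ ι₀ x' q ∈ M) :
    ∀ s : R', ∃ c : k, s - ι₀ c ∈ M := by
  letI : Field (R' ⧸ M) := Ideal.Quotient.field M
  let ι : k →+* R' ⧸ M := (Ideal.Quotient.mk M).comp ι₀
  letI : Algebra k (R' ⧸ M) := ι.toAlgebra
  have halg : ∀ c : k, algebraMap k (R' ⧸ M) c = Ideal.Quotient.mk M (ι₀ c) := fun c => rfl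
  have htop : Algebra.adjoin k {Ideal.Quotient.mk M x'} = ⊤ := by
    rw [eq_top_iff]
    intro f _
    obtain ⟨s, rfl⟩ := Ideal.Quotient.mk_surjective f
    obtain ⟨q, hq⟩ := hgen s
    rw [Algebra.adjoin_singleton_eq_range_aeval]
    refine ⟨q, ?_⟩
    have h1 : Ideal.Quotient.mk M s = Ideal.Quotient.mk M (Polynomial.eval₂ ι₀ x' q) :=
      Ideal.Quotient.eq.mpr hq
    rw [h1, Polynomial.hom_eval₂]
    rfl
  haveI : Algebra.FiniteType k (R' ⧸ M) := ⟨⟨{Ideal.Quotient.mk M x'}, by simpa using htop⟩⟩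
  haveI : Module.Finite k (R' ⧸ M) := finite_of_finite_type_of_isJacobsonRing k (R' ⧸ M)
  haveI : Algebra.IsIntegral k (R' ⧸ M) := Algebra.IsIntegral.of_finite k (R' ⧸ M)
  have hbij : Function.Bijective (algebraMap k (R' ⧸ M)) :=
    IsAlgClosed.algebraMap_bijective_of_isIntegral
  intro s
  obtain ⟨c, hc⟩ := hbij.2 (Ideal.Quotient.mk M s)
  refine ⟨c, ?_⟩
  rw [halg] at hc
  exact Ideal.Quotient.eq.mp hc.symm


variable {k : Type u} [Field k] {K : Type v} [Field K] [Algebra k K]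

/-- A place datum: a subalgebra `B` with a `k`-submodule `P ⊆ B` that is an ideal of `B` with
`B = k + P` and `1 ∉ P`. -/
structure IsPlaceDatum (B : Subalgebra k K) (P : Submodule k K) : Prop where
  le : ∀ x ∈ P, x ∈ B
  mul_mem : ∀ b ∈ B, ∀ x ∈ P, b * x ∈ P
  exists_sub : ∀ b ∈ B, ∃ c : k, b - algebraMap k K c ∈ P
  one_notMem : (1 : K) ∉ P

namespace IsPlaceDatum

variable {B : Subalgebra k K} {P : Submodule k K}

/-- the ideal of `B` given by `P`. -/
def ideal (h : IsPlaceDatum B P) : Ideal B where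
  carrier := {b | (b : K) ∈ P}
  add_mem' := fun {a b} ha hb => by
    simp only [Set.mem_ofPred_eq, Subalgebra.coe_add] at ha hb ⊢
    exact P.add_mem ha hb
  zero_mem' := by simp
  smul_mem' := fun c x hx => by
    simp only [Set.mem_ofPred_eq, smul_eq_mul, Subalgebra.coe_mul] at hx ⊢
    exact h.mul_mem _ c.2 _ hx

theorem mem_ideal (h : IsPlaceDatum B P) (b : B) : b ∈ h.ideal ↔ (b : K) ∈ P := Iff.rfl

theorem ideal_ne_top (h : IsPlaceDatum B P) : h.ideal ≠ ⊤ := by
  intro htop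
  have : (1 : B) ∈ h.ideal := by rw [htop]; trivial
  exact h.one_notMem (by simpa [mem_ideal] using this)

theorem const_notMem (h : IsPlaceDatum B P) {c : k} (hc : c ≠ 0) : algebraMap k K c ∉ P := by
  intro hmem
  apply h.one_notMem
  have := P.smul_mem c⁻¹ hmem
  rwa [Algebra.smul_def, ← map_mul, inv_mul_cancel₀ hc, map_one] at this

theorem const_unique (h : IsPlaceDatum B P) {x : K} {c c' : k} (hc : x - algebraMap k K c ∈ P)
    (hc' : x - algebraMap k K c' ∈ P) : c = c' := by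
  by_contra hne
  have : algebraMap k K (c' - c) ∈ P := by
    have := P.sub_mem hc hc'
    rw [map_sub]
    convert this using 1
    ring
  exact h.const_notMem (sub_ne_zero.mpr (Ne.symm hne)) this

/-- Elements outside `P` are of the form nonzero constant plus element of `P`. -/
theorem exists_const_ne_zero (h : IsPlaceDatum B P) {b : K} (hb : b ∈ B) (hbP : b ∉ P) :
    ∃ c : k, c ≠ 0 ∧ b - algebraMap k K c ∈ P := by
  obtain ⟨c, hc⟩ := h.exists_sub b hb
  refine ⟨c, ?_, hc⟩
  rintro rfl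
  apply hbP
  simpa using hc

theorem ideal_isMaximal (h : IsPlaceDatum B P) : h.ideal.IsMaximal := by
  rw [Ideal.isMaximal_iff]
  refine ⟨fun h1 => h.one_notMem (by simpa [mem_ideal] using h1), ?_⟩
  intro J b hJ hb hbJ
  have hbP : (b : K) ∉ P := hb
  obtain ⟨c, hc0, hc⟩ := h.exists_const_ne_zero b.2 hbP
  -- b - c ∈ ideal ≤ J, b ∈ J so c ∈ J, so 1 ∈ J
  have h1 : b - algebraMap k B c ∈ J := hJ (by
    rw [mem_ideal]; simpa using hc)
  have h2 : algebraMap k B c ∈ J := by
    have := J.sub_mem hbJ h1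
    simpa using this
  have h3 := J.mul_mem_left (algebraMap k B c⁻¹) h2
  rwa [← map_mul, inv_mul_cancel₀ hc0, map_one] at h3

theorem exists_extension [IsAlgClosed k] (h : IsPlaceDatum B P) (x : K)
    (hx : h.ideal.map (algebraMap B (Algebra.adjoin B {x})) ≠ ⊤) :
    ∃ (B' : Subalgebra k K) (P' : Submodule k K), IsPlaceDatum B' P' ∧ B ≤ B' ∧ P ≤ P' ∧ x ∈ B' := by
  classical
  obtain ⟨M, hM, hIM⟩ := Ideal.exists_le_maximal _ hx
  have hxS : x ∈ Algebra.adjoin B {x} := Algebra.subset_adjoin rfl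
  let ι₀ : k →+* Algebra.adjoin B {x} := (algebraMap B (Algebra.adjoin B {x})).comp (algebraMap k B)
  have hι₀ : ∀ c : k, ((ι₀ c : Algebra.adjoin B {x}) : K) = algebraMap k K c := fun c => rfl
  -- elements of P lie in M
  have hP0 : ∀ (p : K) (hp : p ∈ P), algebraMap B (Algebra.adjoin B {x}) ⟨p, h.le p hp⟩ ∈ M := by
    intro p hp
    apply hIM
    exact Ideal.mem_map_of_mem _ hp
  have hB : ∀ b : B, ∃ c : k, algebraMap B (Algebra.adjoin B {x}) b - ι₀ c ∈ M := by
    intro b
    obtain ⟨c, hc⟩ := h.exists_sub b b.2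
    refine ⟨c, ?_⟩
    have h0 := hP0 _ hc
    have : (⟨(b : K) - algebraMap k K c, h.le _ hc⟩ : B) = b - algebraMap k B c := by
      ext; simp
    rw [this, map_sub] at h0
    exact h0
  have hgen : ∀ s : Algebra.adjoin B {x}, ∃ q : k[X], s - Polynomial.eval₂ ι₀ ⟨x, hxS⟩ q ∈ M := by
    intro s
    obtain ⟨s, hs⟩ := s
    induction hs using Algebra.adjoin_induction with
    | mem y hy =>
      have : y = x := hy
      subst this
      exact ⟨X, by simp⟩
    | algebraMap b =>
      obtain ⟨c, hc⟩ := hB b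
      refine ⟨C c, ?_⟩
      rw [Polynomial.eval₂_C]
      exact hc
    | add y z hy hz ihy ihz =>
      obtain ⟨q₁, h₁⟩ := ihy
      obtain ⟨q₂, h₂⟩ := ihz
      refine ⟨q₁ + q₂, ?_⟩
      have : (⟨y + z, Subalgebra.add_mem _ hy hz⟩ : Algebra.adjoin B {x}) = ⟨y, hy⟩ + ⟨z, hz⟩ := rfl
      rw [this, Polynomial.eval₂_add]
      have := M.add_mem h₁ h₂
      convert this using 1
      ring
    | mul y z hy hz ihy ihz =>
      obtain ⟨q₁, h₁⟩ := ihy
      obtain ⟨q₂, h₂⟩ := ihz
      refine ⟨q₁ * q₂, ?_⟩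
      have : (⟨y * z, Subalgebra.mul_mem _ hy hz⟩ : Algebra.adjoin B {x}) = ⟨y, hy⟩ * ⟨z, hz⟩ := rfl
      rw [this, Polynomial.eval₂_mul]
      have := M.add_mem (M.mul_mem_left ⟨y, hy⟩ h₂)
        (M.mul_mem_left (Polynomial.eval₂ ι₀ ⟨x, hxS⟩ q₂) h₁)
      convert this using 1
      ring
  have hsurj := exists_const_of_maximal M hM ι₀ ⟨x, hxS⟩ hgen
  have hcS : ∀ c : k, algebraMap k K c ∈ Algebra.adjoin B {x} := fun c => (ι₀ c).2
  refine ⟨(Algebra.adjoin B {x}).restrictScalars k,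
    { carrier := {y | ∃ hy : y ∈ Algebra.adjoin B {x}, (⟨y, hy⟩ : Algebra.adjoin B {x}) ∈ M}
      add_mem' := ?_
      zero_mem' := ?_
      smul_mem' := ?_ }, ?_, ?_, ?_, ?_⟩
  · rintro a b ⟨ha, ha0⟩ ⟨hb, hb0⟩
    exact ⟨Subalgebra.add_mem _ ha hb, M.add_mem ha0 hb0⟩
  · exact ⟨Subalgebra.zero_mem _, M.zero_mem⟩
  · rintro c a ⟨ha, ha0⟩
    refine ⟨by rw [Algebra.smul_def]; exact Subalgebra.mul_mem _ (hcS c) ha, ?_⟩
    have : (⟨c • a, by rw [Algebra.smul_def]; exact Subalgebra.mul_mem _ (hcS c) ha⟩ :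
        Algebra.adjoin B {x}) = ι₀ c * ⟨a, ha⟩ := by
      ext; simp [Algebra.smul_def, hι₀]
    rw [this]
    exact M.mul_mem_left _ ha0
  · refine ⟨?_, ?_, ?_, ?_⟩
    · rintro y ⟨hy, -⟩
      exact hy
    · rintro b hb y ⟨hy, hy0⟩
      have hb' : b ∈ Algebra.adjoin B {x} := hb
      exact ⟨Subalgebra.mul_mem _ hb' hy, M.mul_mem_left ⟨b, hb'⟩ hy0⟩
    · intro b hb
      have hb' : b ∈ Algebra.adjoin B {x} := hb
      obtain ⟨c, hc⟩ := hsurj ⟨b, hb'⟩
      exact ⟨c, Subalgebra.sub_mem _ hb' (hcS c), hc⟩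
    · rintro ⟨h1, h10⟩
      apply hM.ne_top
      rw [Ideal.eq_top_iff_one]
      exact h10
  · intro b hb
    exact Subalgebra.algebraMap_mem (Algebra.adjoin B {x}) (⟨b, hb⟩ : B)
  · intro p hp
    exact ⟨Subalgebra.algebraMap_mem (Algebra.adjoin B {x}) (⟨p, h.le p hp⟩ : B), hP0 p hp⟩
  · exact hxS

end IsPlaceDatum

/-- maximality of a datum -/
def IsMaxDatum (B : Subalgebra k K) (P : Submodule k K) : Prop :=
  ∀ (B' : Subalgebra k K) (P' : Submodule k K), IsPlaceDatum B' P' → B ≤ B' → P ≤ P' → B' ≤ B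

namespace IsPlaceDatum
variable {B : Subalgebra k K} {P : Submodule k K}

section
variable [IsAlgClosed k]

theorem mem_of_map_ne_top (h : IsPlaceDatum B P) (hmax : IsMaxDatum B P) (x : K)
    (hx : h.ideal.map (algebraMap B (Algebra.adjoin B {x})) ≠ ⊤) : x ∈ B := by
  obtain ⟨B', P', h', hB, hP, hxB'⟩ := h.exists_extension x hx
  exact hmax B' P' h' hB hP hxB'

theorem mem_of_isIntegral (h : IsPlaceDatum B P) (hmax : IsMaxDatum B P) (y : K)
    (hy : IsIntegral B y) : y ∈ B := by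
  apply h.mem_of_map_ne_top hmax y
  haveI : Algebra.IsIntegral B (Algebra.adjoin B {y}) := Algebra.IsIntegral.adjoin (by simpa using hy)
  haveI := h.ideal_isMaximal
  have hinj : Function.Injective (algebraMap B (Algebra.adjoin B {y})) := by
    intro a b hab
    have := congrArg (Subtype.val) hab
    exact Subtype.ext this
  obtain ⟨Q, hQ, hQc⟩ := Ideal.exists_ideal_over_maximal_of_isIntegral (S := Algebra.adjoin B {y})
    h.ideal (by rw [(RingHom.injective_iff_ker_eq_bot _).mp hinj]; exact bot_le)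
  intro htop
  have : h.ideal.map (algebraMap B (Algebra.adjoin B {y})) ≤ Q :=
    Ideal.map_le_iff_le_comap.mpr hQc.ge
  rw [htop] at this
  exact hQ.ne_top (top_le_iff.mp this)

theorem inv_mem_of_notMem (h : IsPlaceDatum B P) (hmax : IsMaxDatum B P) (b : K) (hb : b ∈ B)
    (hbP : b ∉ P) : b⁻¹ ∈ B := by
  have hb0 : b ≠ 0 := by rintro rfl; exact hbP P.zero_mem
  apply h.mem_of_map_ne_top hmax b⁻¹
  intro htop
  have h1 : (1 : Algebra.adjoin B {b⁻¹}) ∈ h.ideal.map (algebraMap B (Algebra.adjoin B {b⁻¹})) := by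
    rw [htop]; trivial
  obtain ⟨q, hq, hq1⟩ := (Algebra.mem_ideal_map_adjoin b⁻¹ h.ideal).mp h1
  -- 1 = Σ q_i b^{-i}
  have hq1' : Polynomial.aeval b⁻¹ q = (1 : K) := by
    simpa using hq1
  set N := q.natDegree with hN
  have key : b ^ N = ∑ i ∈ Finset.range (N + 1), (q.coeff i : K) * b ^ (N - i) := by
    have : b ^ N = b ^ N * Polynomial.aeval b⁻¹ q := by rw [hq1', mul_one]
    rw [this, Polynomial.aeval_eq_sum_range, Finset.mul_sum]
    refine Finset.sum_congr rfl fun i hi => ?_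
    have hi' : i ≤ N := Nat.lt_succ_iff.mp (Finset.mem_range.mp hi)
    rw [Algebra.smul_def, inv_pow]
    have : b ^ N = b ^ (N - i) * b ^ i := by rw [← pow_add, Nat.sub_add_cancel hi']
    rw [this]
    have hbi : b ^ i ≠ 0 := pow_ne_zero _ hb0
    change b ^ (N - i) * b ^ i * ((q.coeff i : K) * (b ^ i)⁻¹) = _
    field_simp
  have hmem : b ^ N ∈ P := by
    rw [key]
    refine P.sum_mem fun i _ => ?_
    rw [mul_comm]
    exact h.mul_mem _ (Subalgebra.pow_mem _ hb _) _ (hq i)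
  haveI := h.ideal_isMaximal
  have : (⟨b, hb⟩ : B) ∈ h.ideal := by
    apply (h.ideal_isMaximal.isPrime).mem_of_pow_mem N
    rw [mem_ideal]
    simpa using hmem
  exact hbP this

theorem mem_or_inv_mem (h : IsPlaceDatum B P) (hmax : IsMaxDatum B P) (x : K) :
    x ∈ B ∨ x⁻¹ ∈ B := by
  by_cases hx0 : x = 0
  · left; rw [hx0]; exact B.zero_mem
  by_cases hxB : x ∈ B
  · exact Or.inl hxB
  right
  have htop : h.ideal.map (algebraMap B (Algebra.adjoin B {x})) = ⊤ := by
    by_contra hne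
    exact hxB (h.mem_of_map_ne_top hmax x hne)
  letI := invertibleOfNonzero hx0
  obtain ⟨p, hp, hpx⟩ := Algebra.exists_aeval_invOf_eq_zero_of_idealMap_adjoin_sup_span_eq_top x
    h.ideal h.ideal_ne_top (by rw [htop]; exact top_sup_eq _)
  have hlc : (p.leadingCoeff : K) ∉ P := by
    intro hmem
    apply h.ideal_ne_top
    rw [Ideal.eq_top_iff_one]
    have h2 : p.leadingCoeff ∈ h.ideal := hmem
    have := h.ideal.sub_mem h2 hp
    simpa using this
  have hinv := h.inv_mem_of_notMem hmax _ p.leadingCoeff.2 hlc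
  have hlc0 : (p.leadingCoeff : K) ≠ 0 := by rintro h0; exact hlc (h0 ▸ P.zero_mem)
  have hint : IsIntegral B x⁻¹ := by
    refine ⟨C (⟨(p.leadingCoeff : K)⁻¹, hinv⟩ : B) * p, ?_, ?_⟩
    · have hu : (⟨(p.leadingCoeff : K)⁻¹, hinv⟩ : B) * p.leadingCoeff = 1 := by
        ext; simp [inv_mul_cancel₀ hlc0]
      exact Polynomial.monic_C_mul_of_mul_leadingCoeff_eq_one hu
    · rw [← Polynomial.aeval_def, map_mul, ← invOf_eq_inv x, hpx, mul_zero]
  exact h.mem_of_isIntegral hmax _ hint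

end

/-- the residue map of a datum -/
noncomputable def res (h : IsPlaceDatum B P) : B →ₐ[k] k where
  toFun b := Classical.choose (h.exists_sub b b.2)
  map_one' := by
    have h1 := Classical.choose_spec (h.exists_sub (1 : B) (1 : B).2)
    have h2 : ((1 : B) : K) - algebraMap k K 1 ∈ P := by simp
    exact h.const_unique h1 h2
  map_mul' := fun a b => by
    have h1 := Classical.choose_spec (h.exists_sub (a * b : B) (a * b : B).2)
    have ha := Classical.choose_spec (h.exists_sub a a.2)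
    have hb := Classical.choose_spec (h.exists_sub b b.2)
    refine h.const_unique h1 ?_
    have e : ((a * b : B) : K) - algebraMap k K
        (Classical.choose (h.exists_sub a a.2) * Classical.choose (h.exists_sub b b.2)) =
        (a : K) * ((b : K) - algebraMap k K (Classical.choose (h.exists_sub b b.2))) +
        (Classical.choose (h.exists_sub b b.2)) • ((a : K) - algebraMap k K (Classical.choose (h.exists_sub a a.2))) := by
      rw [Algebra.smul_def, map_mul]
      push_cast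
      ring
    rw [e]
    exact P.add_mem (h.mul_mem _ a.2 _ hb) (P.smul_mem _ ha)
  map_zero' := by
    have h1 := Classical.choose_spec (h.exists_sub (0 : B) (0 : B).2)
    have h2 : ((0 : B) : K) - algebraMap k K 0 ∈ P := by simp
    exact h.const_unique h1 h2
  map_add' := fun a b => by
    have h1 := Classical.choose_spec (h.exists_sub (a + b : B) (a + b : B).2)
    have ha := Classical.choose_spec (h.exists_sub a a.2)
    have hb := Classical.choose_spec (h.exists_sub b b.2)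
    refine h.const_unique h1 ?_
    have := P.add_mem ha hb
    convert this using 1
    rw [map_add]
    push_cast
    ring
  commutes' := fun c => by
    have h1 := Classical.choose_spec (h.exists_sub (algebraMap k B c) (algebraMap k B c).2)
    have h2 : ((algebraMap k B c : B) : K) - algebraMap k K c ∈ P := by simp
    exact h.const_unique h1 h2

theorem res_spec (h : IsPlaceDatum B P) (b : B) : (b : K) - algebraMap k K (h.res b) ∈ P :=
  Classical.choose_spec (h.exists_sub b b.2)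

theorem res_eq_zero_iff (h : IsPlaceDatum B P) (b : B) : h.res b = 0 ↔ (b : K) ∈ P := by
  constructor
  · intro h0
    have := h.res_spec b
    rwa [h0, map_zero, sub_zero] at this
  · intro hb
    have h2 : (b : K) - algebraMap k K 0 ∈ P := by simpa using hb
    exact h.const_unique (h.res_spec b) h2

end IsPlaceDatum

theorem exists_maxDatum {B₀ : Subalgebra k K} {P₀ : Submodule k K} (h₀ : IsPlaceDatum B₀ P₀) :
    ∃ (B : Subalgebra k K) (P : Submodule k K), IsPlaceDatum B P ∧ B₀ ≤ B ∧ P₀ ≤ P ∧ IsMaxDatum B P := by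
  classical
  let S : Set (Subalgebra k K × Submodule k K) := {p | IsPlaceDatum p.1 p.2}
  have hS₀ : (B₀, P₀) ∈ S := h₀
  obtain ⟨m, hm₀, hmax⟩ := zorn_le_nonempty₀ S (fun c hcS hc y hy => by
    haveI : Nonempty c := ⟨⟨y, hy⟩⟩
    have hdir1 : Directed (· ≤ ·) (fun p : c => p.1.1) := by
      intro p q
      rcases hc.total p.2 q.2 with hpq | hqp
      · exact ⟨q, hpq.1, le_rfl⟩
      · exact ⟨p, le_rfl, hqp.1⟩
    have hdir2 : Directed (· ≤ ·) (fun p : c => p.1.2) := by
      intro p q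
      rcases hc.total p.2 q.2 with hpq | hqp
      · exact ⟨q, hpq.2, le_rfl⟩
      · exact ⟨p, le_rfl, hqp.2⟩
    have hmem1 : ∀ x : K, x ∈ (⨆ p : c, p.1.1) ↔ ∃ p : c, x ∈ p.1.1 := by
      intro x
      rw [← SetLike.mem_coe, Subalgebra.coe_iSup_of_directed hdir1, Set.mem_iUnion]
      rfl
    refine ⟨(⨆ p : c, p.1.1, ⨆ p : c, p.1.2), ?_, ?_⟩
    · refine ⟨?_, ?_, ?_, ?_⟩
      · intro x hx
        obtain ⟨p, hp⟩ := (Submodule.mem_iSup_of_directed _ hdir2).mp hx
        exact (hmem1 _).mpr ⟨p, (hcS p.2).le x hp⟩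
      · intro b hb x hx
        obtain ⟨p, hp⟩ := (Submodule.mem_iSup_of_directed _ hdir2).mp hx
        obtain ⟨q, hq⟩ := (hmem1 _).mp hb
        rcases hc.total p.2 q.2 with hpq | hqp
        · exact (Submodule.mem_iSup_of_directed _ hdir2).mpr
            ⟨q, (hcS q.2).mul_mem b hq x (hpq.2 hp)⟩
        · exact (Submodule.mem_iSup_of_directed _ hdir2).mpr
            ⟨p, (hcS p.2).mul_mem b (hqp.1 hq) x hp⟩
      · intro b hb
        obtain ⟨q, hq⟩ := (hmem1 _).mp hb
        obtain ⟨c', hc'⟩ := (hcS q.2).exists_sub b hq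
        exact ⟨c', (Submodule.mem_iSup_of_directed _ hdir2).mpr ⟨q, hc'⟩⟩
      · intro h1
        obtain ⟨p, hp⟩ := (Submodule.mem_iSup_of_directed _ hdir2).mp h1
        exact (hcS p.2).one_notMem hp
    · intro z hz
      exact ⟨le_iSup (fun p : c => p.1.1) ⟨z, hz⟩, le_iSup (fun p : c => p.1.2) ⟨z, hz⟩⟩)
    (B₀, P₀) hS₀
  refine ⟨m.1, m.2, hmax.prop, hm₀.1, hm₀.2, ?_⟩
  intro B' P' h' hB hP
  have : (B', P') ≤ m := hmax.le_of_ge (show (B', P') ∈ S from h') ⟨hB, hP⟩
  exact this.1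

/-- **Extension of rational places.** -/
theorem exists_place [IsAlgClosed k] (B : Subalgebra k K) (g : B →ₐ[k] k) :
    ∃ (V : Subalgebra k K) (res : V →ₐ[k] k) (hBV : B ≤ V),
      (∀ b : B, res (Subalgebra.inclusion hBV b) = g b) ∧
      (∀ x : K, x ∈ V ∨ x⁻¹ ∈ V) ∧
      (∀ v : V, res v = 0 ↔ ¬ IsUnit v) := by
  classical
  let P₀ : Submodule k K := Submodule.map B.val.toLinearMap ((RingHom.ker g : Ideal B).restrictScalars k)
  have hP₀ : ∀ y : K, y ∈ P₀ ↔ ∃ hy : y ∈ B, g ⟨y, hy⟩ = 0 := by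
    intro y
    constructor
    · rintro ⟨b, hb, rfl⟩
      exact ⟨b.2, hb⟩
    · rintro ⟨hy, h0⟩
      exact ⟨⟨y, hy⟩, h0, rfl⟩
  have h₀ : IsPlaceDatum B P₀ := by
    refine ⟨?_, ?_, ?_, ?_⟩
    · intro x hx
      exact ((hP₀ x).mp hx).1
    · intro b hb x hx
      obtain ⟨hxB, hx0⟩ := (hP₀ x).mp hx
      refine (hP₀ _).mpr ⟨B.mul_mem hb hxB, ?_⟩
      have : (⟨b * x, B.mul_mem hb hxB⟩ : B) = ⟨b, hb⟩ * ⟨x, hxB⟩ := rfl
      rw [this, map_mul, hx0, mul_zero]
    · intro b hb
      refine ⟨g ⟨b, hb⟩, (hP₀ _).mpr ⟨B.sub_mem hb (B.algebraMap_mem _), ?_⟩⟩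
      have : (⟨b - algebraMap k K (g ⟨b, hb⟩), B.sub_mem hb (B.algebraMap_mem _)⟩ : B) =
          ⟨b, hb⟩ - algebraMap k B (g ⟨b, hb⟩) := rfl
      rw [this, map_sub, AlgHom.commutes]
      simp
    · intro h1
      obtain ⟨h1B, h10⟩ := (hP₀ 1).mp h1
      have : (⟨1, h1B⟩ : B) = 1 := rfl
      rw [this, map_one] at h10
      exact one_ne_zero h10
  obtain ⟨V, P, h, hBV, hPP, hmax⟩ := exists_maxDatum h₀
  refine ⟨V, h.res, hBV, ?_, h.mem_or_inv_mem hmax, ?_⟩
  · intro b
    have h1 := h.res_spec (Subalgebra.inclusion hBV b)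
    have h2 : ((Subalgebra.inclusion hBV b : V) : K) - algebraMap k K (g b) ∈ P := by
      apply hPP
      refine (hP₀ _).mpr ⟨B.sub_mem b.2 (B.algebraMap_mem _), ?_⟩
      have : (⟨((Subalgebra.inclusion hBV b : V) : K) - algebraMap k K (g b),
          B.sub_mem b.2 (B.algebraMap_mem _)⟩ : B) = b - algebraMap k B (g b) := rfl
      rw [this, map_sub, AlgHom.commutes]
      simp
    exact h.const_unique h1 h2
  · intro v
    rw [h.res_eq_zero_iff]
    constructor
    · intro hv hu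
      obtain ⟨w, hw⟩ := hu.exists_right_inv
      apply h.one_notMem
      have := h.mul_mem _ w.2 _ hv
      have e : (w : K) * (v : K) = 1 := by
        have := congrArg (Subtype.val) hw
        rw [mul_comm]
        simpa using this
      rwa [e] at this
    · intro hv
      by_contra hvP
      apply hv
      have hinv := h.inv_mem_of_notMem hmax _ v.2 hvP
      have hv0 : (v : K) ≠ 0 := by
        intro h0; exact hvP (h0 ▸ P.zero_mem)
      refine IsUnit.of_mul_eq_one (⟨(v : K)⁻¹, hinv⟩ : V) ?_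
      ext
      simp [mul_inv_cancel₀ hv0]

end Groth.Agent.Lib.Helper24HM
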