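import Mathlib
import Groth.Agent.Lib.Helper24HMa

set_option autoImplicit false
set_option linter.style.haveILetI false
universe u
open Polynomial

namespace Groth.Agent.Lib.Helper24HM

/-- a subalgebra of a field with `x ∈ V ∨ x⁻¹ ∈ V` is a valuation ring. -/
theorem valuationRing_of_mem_or_inv_mem {k : Type u} [Field k] {K : Type u} [Field K] [Algebra k K]
    (V : Subalgebra k K) (hV : ∀ x : K, x ∈ V ∨ x⁻¹ ∈ V) : ValuationRing V := by
  refine @ValuationRing.mk _ _ _ ⟨?_⟩
  intro a b
  by_cases ha : a = 0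
  · exact ⟨0, Or.inr (by rw [ha, mul_zero])⟩
  have ha' : (a : K) ≠ 0 := fun h => ha (Subtype.ext h)
  rcases hV ((b : K) / a) with h | h
  · refine ⟨⟨_, h⟩, Or.inl ?_⟩
    ext
    simp only [Subalgebra.coe_mul]
    field_simp
  · by_cases hb : b = 0
    · exact ⟨0, Or.inl (by rw [hb, mul_zero])⟩
    have hb' : (b : K) ≠ 0 := fun h => hb (Subtype.ext h)
    refine ⟨⟨_, h⟩, Or.inr ?_⟩
    ext
    simp only [Subalgebra.coe_mul]
    field_simp

theorem isFractionRing_of_mem_or_inv_mem {k : Type u} [Field k] {K : Type u} [Field K] [Algebra k K]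
    (V : Subalgebra k K) (hV : ∀ x : K, x ∈ V ∨ x⁻¹ ∈ V) : IsFractionRing V K := by
  have hinj : Function.Injective (algebraMap V K) := fun a b h => Subtype.ext h
  refine ⟨?_, ?_, ?_⟩
  · rintro ⟨y, hy⟩
    have hy0 : y ≠ 0 := nonZeroDivisors.ne_zero hy
    have : (y : K) ≠ 0 := fun h => hy0 (Subtype.ext h)
    exact IsUnit.mk0 _ this
  · intro z
    rcases hV z with h | h
    · exact ⟨(⟨z, h⟩, 1), by simp⟩
    · by_cases hz : z = 0
      · exact ⟨(0, 1), by simp [hz]⟩
      have hne : (⟨z⁻¹, h⟩ : V) ≠ 0 := by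
        intro h0
        have := congrArg Subtype.val h0
        simp at this
        exact hz this
      refine ⟨(1, ⟨⟨z⁻¹, h⟩, mem_nonZeroDivisors_of_ne_zero hne⟩), ?_⟩
      show z * z⁻¹ = algebraMap V K 1
      rw [mul_inv_cancel₀ hz, map_one]
  · intro x y hxy
    exact ⟨1, by rw [hinj hxy]⟩

/-- **Valuative criterion for images of affine morphisms** (rational points, `k` algebraically
closed): if `y` kills the kernel of `φ : R₀ → A` then `y` is the specialisation of a point of
`Spec A` with values in the fraction field of a valuation ring with residue field `k`. -/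
theorem exists_valuative {k : Type u} [Field k] [IsAlgClosed k] {R₀ A : Type u} [CommRing R₀]
    [Algebra k R₀] [CommRing A] [Algebra k A] (φ : R₀ →ₐ[k] A) (y : R₀ →ₐ[k] k)
    (hy : RingHom.ker φ ≤ RingHom.ker y) :
    ∃ (R : Type u) (_ : CommRing R) (_ : IsDomain R) (_ : ValuationRing R) (_ : Algebra k R)
      (res : R →ₐ[k] k) (Ξ : A →ₐ[k] FractionRing R) (h : R₀ →ₐ[k] R),
      RingHom.ker res = IsLocalRing.maximalIdeal R ∧
        (IsScalarTower.toAlgHom k R (FractionRing R)).comp h = Ξ.comp φ ∧ res.comp h = y := by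
  classical
  haveI : (RingHom.ker y).IsPrime := RingHom.ker_isPrime y
  obtain ⟨q, hq, hqy⟩ := Ideal.exists_minimalPrimes_le hy
  obtain ⟨P, hP, -, hPq⟩ := Ideal.exists_comap_eq_of_mem_minimalPrimes (I := ⊥) φ.toRingHom q
    (by rwa [← RingHom.ker_eq_comap_bot])
  let D := A ⧸ P
  let K₀ := FractionRing D
  let π : A →ₐ[k] K₀ := (IsScalarTower.toAlgHom k D K₀).comp (Ideal.Quotient.mkₐ k P)
  let ψ : R₀ →ₐ[k] K₀ := π.comp φ
  have hkerψ : RingHom.ker ψ ≤ RingHom.ker y := by
    intro f hf
    apply hqy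
    rw [← hPq]
    rw [RingHom.mem_ker] at hf
    have h1 : algebraMap D K₀ (Ideal.Quotient.mk P (φ f)) = 0 := hf
    have h2 := (IsFractionRing.injective D K₀) (h1.trans (map_zero _).symm)
    exact Ideal.mem_comap.mpr (Ideal.Quotient.eq_zero_iff_mem.mp h2)
  -- the subalgebra `B = ψ(R₀)` and the point `ȳ` on it
  have hkerψ' : ∀ a ∈ RingHom.ker ψ.rangeRestrict, y a = 0 := by
    intro a ha
    have : a ∈ RingHom.ker ψ := by
      rw [RingHom.mem_ker] at ha ⊢
      have := congrArg Subtype.val ha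
      simpa using this
    exact hkerψ this
  let e := Ideal.quotientKerAlgEquivOfSurjective (f := ψ.rangeRestrict) ψ.rangeRestrict_surjective
  let g : ψ.range →ₐ[k] k := (Ideal.Quotient.liftₐ (RingHom.ker ψ.rangeRestrict) y hkerψ').comp
    e.symm.toAlgHom
  have hg : ∀ f : R₀, g (ψ.rangeRestrict f) = y f := by
    intro f
    have : e.symm (ψ.rangeRestrict f) = Ideal.Quotient.mk _ f := by
      rw [AlgEquiv.symm_apply_eq]
      rfl
    show (Ideal.Quotient.liftₐ (RingHom.ker ψ.rangeRestrict) y hkerψ') (e.symm (ψ.rangeRestrict f)) = _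
    rw [this]
    rfl
  obtain ⟨V, res, hBV, hres, hval, hker⟩ := exists_place ψ.range g
  haveI hVR : ValuationRing V := valuationRing_of_mem_or_inv_mem V hval
  haveI hFR : IsFractionRing V K₀ := isFractionRing_of_mem_or_inv_mem V hval
  let E : FractionRing V ≃ₐ[V] K₀ := FractionRing.algEquiv V K₀
  let Ek : FractionRing V ≃ₐ[k] K₀ := E.restrictScalars k
  refine ⟨V, inferInstance, inferInstance, hVR, inferInstance, res,
    (Ek.symm : K₀ →ₐ[k] FractionRing V).comp π, (Subalgebra.inclusion hBV).comp ψ.rangeRestrict,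
    ?_, ?_, ?_⟩
  · ext v
    rw [RingHom.mem_ker, IsLocalRing.mem_maximalIdeal, mem_nonunits_iff]
    exact hker v
  · apply AlgHom.ext
    intro f
    apply Ek.injective
    simp only [AlgHom.comp_apply]
    show E (algebraMap V (FractionRing V) _) = Ek (Ek.symm (π (φ f)))
    rw [AlgEquiv.commutes, AlgEquiv.apply_symm_apply]
    rfl
  · apply AlgHom.ext
    intro f
    simp only [AlgHom.comp_apply]
    rw [hres, hg]

end Groth.Agent.Lib.Helper24HM
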