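import Mathlib
import Groth.Prelude.Def_GLin
import Groth.Agent.Lib.Helper24HMb

/-!
# Integrality from the valuative criterion over rational valuation rings; stability (helper24)
-/

set_option autoImplicit false
set_option linter.style.haveILetI false
universe u v w
open Polynomial

namespace Groth.Agent.Lib.Helper24HM

/-- Nullstellensatz: a proper ideal of a finitely generated algebra over an algebraically closed field is
contained in the kernel of a rational point. -/
theorem exists_algHom_ker_ge {k : Type u} [Field k] [IsAlgClosed k] {C : Type v} [CommRing C]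
    [Algebra k C] [Algebra.FiniteType k C] (I : Ideal C) (hI : I ≠ ⊤) :
    ∃ g : C →ₐ[k] k, I ≤ RingHom.ker g := by
  obtain ⟨M, hM, hIM⟩ := Ideal.exists_le_maximal I hI
  letI : Field (C ⧸ M) := Ideal.Quotient.field M
  haveI : Algebra.FiniteType k (C ⧸ M) :=
    Algebra.FiniteType.of_surjective (Ideal.Quotient.mkₐ k M) (Ideal.Quotient.mkₐ_surjective k M)
  haveI : Module.Finite k (C ⧸ M) := finite_of_finite_type_of_isJacobsonRing k (C ⧸ M)
  haveI : Algebra.IsIntegral k (C ⧸ M) := Algebra.IsIntegral.of_finite k (C ⧸ M)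
  have hbij : Function.Bijective (algebraMap k (C ⧸ M)) :=
    IsAlgClosed.algebraMap_bijective_of_isIntegral
  let e : k ≃ₐ[k] (C ⧸ M) := AlgEquiv.ofBijective (Algebra.ofId k (C ⧸ M)) hbij
  refine ⟨e.symm.toAlgHom.comp (Ideal.Quotient.mkₐ k M), ?_⟩
  intro a ha
  rw [RingHom.mem_ker]
  have : Ideal.Quotient.mkₐ k M a = 0 := Ideal.Quotient.eq_zero_iff_mem.mpr (hIM ha)
  show e.symm (Ideal.Quotient.mkₐ k M a) = 0
  rw [this, map_zero]

/-- If `1/x` is a unit modulo the kernel in `R₀[1/x] ⊆ A_x` then `x` is integral. -/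
theorem isIntegralElem_of_sup_eq_top {R₀ A : Type u} [CommRing R₀] [CommRing A] (φ : R₀ →+* A) (x : A)
    (θ : R₀[X] →+* Localization.Away x)
    (hθC : ∀ r, θ (C r) = algebraMap A (Localization.Away x) (φ r))
    (hθX : θ X = IsLocalization.Away.invSelf x)
    (htop : RingHom.ker θ ⊔ Ideal.span {X} = ⊤) : φ.IsIntegralElem x := by
  classical
  rcases subsingleton_or_nontrivial R₀ with hsub | hnt
  · refine ⟨1, monic_one, ?_⟩
    have : Subsingleton A := by
      refine ⟨fun a b => ?_⟩
      have h1 : (1 : A) = 0 := by rw [← map_one φ, Subsingleton.elim (1 : R₀) 0, map_zero]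
      rw [← mul_one a, ← mul_one b, h1, mul_zero, mul_zero]
    exact Subsingleton.elim _ _
  let ι := algebraMap A (Localization.Away x)
  set y : Localization.Away x := IsLocalization.Away.invSelf x with hy
  have hxy : ι x * y = 1 := IsLocalization.Away.mul_invSelf x
  letI : Invertible y := ⟨ι x, hxy, by rw [mul_comm]; exact hxy⟩
  have hinv : ⅟y = ι x := rfl
  have hθ : ∀ p : R₀[X], θ p = eval₂ (ι.comp φ) y p := by
    intro p
    have : θ = eval₂RingHom (ι.comp φ) y := by
      apply Polynomial.ringHom_ext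
      · intro r
        rw [hθC]
        simp [ι]
      · rw [hθX]
        simp [hy]
    rw [this]
    rfl
  have h1 : (1 : R₀[X]) ∈ RingHom.ker θ ⊔ Ideal.span {X} := by rw [htop]; trivial
  obtain ⟨c, hc, z, hz, hcz⟩ := Submodule.mem_sup.mp h1
  obtain ⟨q, rfl⟩ := Ideal.mem_span_singleton'.mp hz
  have hf : c = 1 - q * X := by rw [← hcz]; ring
  have hc0 : c.coeff 0 = 1 := by
    rw [hf]
    simp
  have hc0' : c.coeff 0 ≠ 0 := by rw [hc0]; exact one_ne_zero
  have hev : eval₂ (ι.comp φ) y c = 0 := by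
    rw [← hθ]
    exact hc
  have hrev : eval₂ (ι.comp φ) (⅟y) (reverse c) = 0 := (eval₂_reverse_eq_zero_iff _ y c).mpr hev
  rw [hinv] at hrev
  have h2 : ι (eval₂ φ x (reverse c)) = 0 := by
    rw [Polynomial.hom_eval₂]
    exact hrev
  obtain ⟨⟨_, M, rfl⟩, hM⟩ := (IsLocalization.map_eq_zero_iff (Submonoid.powers x) _ _).mp h2
  have hmonic : (reverse c).Monic := by
    rw [Monic, reverse_leadingCoeff, trailingCoeff_eq_coeff_zero hc0', hc0]
  refine ⟨X ^ M * reverse c, (monic_X_pow M).mul hmonic, ?_⟩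
  rw [eval₂_mul, eval₂_pow, eval₂_X]
  exact hM

/-- **Integrality from the valuative criterion** tested on valuation rings with residue field `k`. -/
theorem isIntegral_of_valuative {k : Type u} [Field k] [IsAlgClosed k] {R₀ A : Type u}
    [CommRing R₀] [Algebra k R₀] [Algebra.FiniteType k R₀] [CommRing A] [Algebra k A]
    (φ : R₀ →ₐ[k] A)
    (hVP : ∀ (R : Type u) [CommRing R] [IsDomain R] [ValuationRing R] [Algebra k R]
      (res : R →ₐ[k] k) (Ξ : A →ₐ[k] FractionRing R) (h : R₀ →ₐ[k] R),
      RingHom.ker res = IsLocalRing.maximalIdeal R →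
      (IsScalarTower.toAlgHom k R (FractionRing R)).comp h = Ξ.comp φ →
      ∀ x : A, ∃ r : R, algebraMap R (FractionRing R) r = Ξ x) :
    φ.toRingHom.IsIntegral := by
  classical
  intro x
  by_contra hx
  let Ax := Localization.Away x
  let ι : A →ₐ[k] Ax := IsScalarTower.toAlgHom k A Ax
  let y : Ax := IsLocalization.Away.invSelf x
  have hxy : ι x * y = 1 := IsLocalization.Away.mul_invSelf x
  let θ : R₀[X] →ₐ[k] Ax := Polynomial.aevalTower (ι.comp φ) y
  have hθC : ∀ r, θ (C r) = ι (φ r) := by
    intro r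
    simp [θ]
  have hθX : θ X = y := by
    simp [θ]
  have hne : RingHom.ker θ ⊔ Ideal.span {X} ≠ ⊤ := by
    intro htop
    exact hx (isIntegralElem_of_sup_eq_top φ.toRingHom x θ.toRingHom hθC hθX htop)
  obtain ⟨gpt, hg⟩ := exists_algHom_ker_ge (k := k) _ hne
  have hg1 : RingHom.ker θ ≤ RingHom.ker gpt := le_sup_left.trans hg
  have hg2 : gpt X = 0 := by
    have : (X : R₀[X]) ∈ RingHom.ker gpt := hg (Ideal.mem_sup_right (Ideal.subset_span rfl))
    exact this
  obtain ⟨R, iR, iD, iV, iA, res, Ξ', h', hker, hcomp, hres⟩ := exists_valuative θ gpt hg1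
  have hcomp' : (IsScalarTower.toAlgHom k R (FractionRing R)).comp (h'.comp (Polynomial.CAlgHom)) =
      (Ξ'.comp ι).comp φ := by
    apply AlgHom.ext
    intro r
    have := congrArg (fun ψ => ψ (C r)) hcomp
    simp only [AlgHom.comp_apply] at this ⊢
    rw [hθC] at this
    exact this
  obtain ⟨r₀, hr₀⟩ := hVP R res (Ξ'.comp ι) (h'.comp (Polynomial.CAlgHom)) hker hcomp' x
  have h1 : algebraMap R (FractionRing R) (h' X) = Ξ' y := by
    have := congrArg (fun ψ => ψ X) hcomp
    simp only [AlgHom.comp_apply] at this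
    rw [hθX] at this
    exact this
  have h2 : algebraMap R (FractionRing R) (r₀ * h' X) = 1 := by
    rw [map_mul, hr₀, h1, AlgHom.comp_apply, ← map_mul, hxy, map_one]
  have h3 : r₀ * h' X = 1 := by
    apply IsFractionRing.injective R (FractionRing R)
    rw [h2, map_one]
  have h4 : h' X ∈ IsLocalRing.maximalIdeal R := by
    rw [← hker, RingHom.mem_ker]
    have := congrArg (fun ψ => ψ X) hres
    simp only [AlgHom.comp_apply] at this
    rw [this, hg2]
  exact (IsLocalRing.mem_maximalIdeal _).mp h4 (IsUnit.of_mul_eq_one r₀ (by rw [mul_comm]; exact h3))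

/-- an integral orbit map gives a closed orbit and a finite stabiliser. -/
theorem isStablePt_of_isIntegral {k : Type u} [Field k] {A : Type v} [CommRing A] [Bialgebra k A]
    [Algebra.FiniteType k A] {R : Type w} [CommRing R] [Algebra k R] [HopfRep.Comod k A R]
    [GLin.IsCoactAlg k A R] (x : R →ₐ[k] k)
    (hint : (GLin.orbitHom k A x).toRingHom.IsIntegral) : GLin.IsStablePt k A x := by
  refine ⟨?_, ?_⟩
  · unfold GLin.IsClosedOrbit
    exact (PrimeSpectrum.isClosedMap_comap_of_isIntegral _ hint).isClosed_range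
  · unfold GLin.HasFiniteStab
    set φ := GLin.orbitHom k A x with hφ
    set I := GLin.stabIdeal k A x with hI
    have hmk : ∀ f : R, Ideal.Quotient.mk I (φ f) = algebraMap k (A ⧸ I) (x f) := by
      intro f
      have h1 : f - algebraMap k R (x f) ∈ RingHom.ker x := by
        rw [RingHom.mem_ker, map_sub, AlgHom.commutes]
        simp
      have h2 : φ (f - algebraMap k R (x f)) ∈ I := Ideal.mem_map_of_mem _ h1
      rw [map_sub, AlgHom.commutes] at h2
      have h3 := Ideal.Quotient.eq.mpr h2
      rw [h3]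
      rfl
    haveI : Algebra.IsIntegral k (A ⧸ I) := by
      refine ⟨fun s => ?_⟩
      obtain ⟨a, rfl⟩ := Ideal.Quotient.mk_surjective s
      obtain ⟨P, hP, hPa⟩ := hint a
      refine ⟨P.map x.toRingHom, hP.map _, ?_⟩
      rw [Polynomial.eval₂_map]
      have h4 : (algebraMap k (A ⧸ I)).comp x.toRingHom = (Ideal.Quotient.mk I).comp φ.toRingHom := by
        ext f
        exact (hmk f).symm
      rw [h4, ← Polynomial.hom_eval₂, hPa, map_zero]
    haveI : Algebra.FiniteType k (A ⧸ I) :=
      Algebra.FiniteType.of_surjective (Ideal.Quotient.mkₐ k I) (Ideal.Quotient.mkₐ_surjective k I)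
    exact Algebra.IsIntegral.finite

end Groth.Agent.Lib.Helper24HM
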