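import Mathlib
import Groth.Agent.Lib.Helper24HMd
import Groth.Agent.Lib.Helper25ActPt

/-!
# Hilbert–Mumford for `SL_n` on forms: the easy direction (helper24)
-/

set_option autoImplicit false
set_option linter.style.haveILetI false
universe u v w
open CoordGrp TensorProduct LaurentPolynomial

namespace Groth.Agent.Lib.Helper24HM

attribute [local instance] formsComod formsComod_isCoactAlg

/-- the weight of a monomial for the diagonal one-parameter subgroup with weights `r` -/
def wt {n d : ℕ} (r : Fin n → ℤ) (m : FormIdx n d) : ℤ := ∑ i, (m.1 i : ℤ) * r i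

section
variable {k : Type u} [CommRing k] {n d : ℕ}

theorem ptMat_diag (r : Fin n → ℤ) (hr : ∑ i, r i = 0) :
    ptMat ((SLn.diag n k r hr : SLn n k →ₐc[k] k[T;T⁻¹]) : SLn n k →ₐ[k] k[T;T⁻¹]) =
      Matrix.diagonal (fun i => (T (r i) : k[T;T⁻¹])) := by
  classical
  funext i j
  show SLn.diag n k r hr (SLn.X i j) = _
  rw [SLn.diag_X, Matrix.diagonal_apply]

theorem prod_T_pow (r : Fin n → ℤ) (m : FormIdx n d) :
    ∏ i, (T (r i) : k[T;T⁻¹]) ^ (m.1 i) = T (wt r m) := by
  simp only [T_pow]
  rw [GLn.prod_T]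
  rfl

theorem orbP_diag (r : Fin n → ℤ) (hr : ∑ i, r i = 0) (x : FormIdx n d → k) (m : FormIdx n d) :
    Helper25.orbP (SLn.diag n k r hr) x m = T (wt r m) * C (x m) := by
  unfold Helper25.orbP GLin.lamOrbit
  rw [comp_orbitHom', MvPolynomial.aeval_X, ptMat_diag, actVec_diagonal, prod_T_pow, mul_comm]
  rfl

theorem coeff_orbP_diag (r : Fin n → ℤ) (hr : ∑ i, r i = 0) (x : FormIdx n d → k) (m : FormIdx n d)
    (z : ℤ) : (Helper25.orbP (SLn.diag n k r hr) x m).coeff z = if z = wt r m then x m else 0 := by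
  rw [orbP_diag, Helper25.coeff_T_mul, C_apply]
  simp only [sub_eq_zero]

end

section Easy
variable {k : Type u} [Field k] [IsAlgClosed k] {n d : ℕ}

theorem exists_zpow_eq (e : ℤ) (he : e ≠ 0) (c : k) (hc : c ≠ 0) : ∃ t : k, t ≠ 0 ∧ t ^ e = c := by
  rcases lt_or_gt_of_ne he with hneg | hpos
  · obtain ⟨z, hz⟩ := IsAlgClosed.exists_pow_nat_eq c⁻¹ (n := (-e).toNat) (by omega)
    have hz0 : z ≠ 0 := by
      rintro rfl
      rw [zero_pow (by omega)] at hz
      exact inv_ne_zero hc hz.symm
    refine ⟨z, hz0, ?_⟩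
    have h1 : e = -((-e).toNat : ℤ) := by omega
    rw [h1, zpow_neg, zpow_natCast, hz, inv_inv]
  · obtain ⟨z, hz⟩ := IsAlgClosed.exists_pow_nat_eq c (n := e.toNat) (by omega)
    have hz0 : z ≠ 0 := by
      rintro rfl
      rw [zero_pow (by omega)] at hz
      exact hc hz.symm
    refine ⟨z, hz0, ?_⟩
    have h1 : e = (e.toNat : ℤ) := by omega
    rw [h1, zpow_natCast, hz]

theorem prod_zpow_eq_zpow_sum {ι : Type*} (t : k) (ht : t ≠ 0) (s : Finset ι) (r : ι → ℤ) :
    ∏ i ∈ s, t ^ r i = t ^ ∑ i ∈ s, r i := by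
  classical
  induction s using Finset.induction_on with
  | empty => simp
  | insert a s ha ih => rw [Finset.prod_insert ha, Finset.sum_insert ha, ih, zpow_add₀ ht]

/-- **Hilbert–Mumford, easy direction**: if, after moving by `g ∈ SL_n(k)`, all monomials of the form
have non-negative weight for a non-trivial diagonal one-parameter subgroup, the form is not stable. -/
theorem not_isStableVec_of_weights (a : FormIdx n d → k) (g : Matrix (Fin n) (Fin n) k)
    (hg : g.det = 1) (r : Fin n → ℤ) (hr : ∑ i, r i = 0) (hr0 : r ≠ 0)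
    (hw : ∀ m, actVec k a g m ≠ 0 → 0 ≤ wt r m) : ¬ GLin.IsStableVec k (SLn n k) a := by
  classical
  rintro ⟨hcl, hfin⟩
  set x' := actVec k a g with hx'
  let y' : FormIdx n d → k := fun m => if wt r m = 0 then x' m else 0
  -- the limit
  have hlim : GLin.IsLimit k (SLn n k) (SLn.diag n k r hr) (GLin.vecPt k _ x') (GLin.vecPt k _ y') := by
    rw [Helper25.isLimit_iff]
    refine ⟨fun m z hz => ?_, fun m => ?_⟩
    · rw [coeff_orbP_diag]
      split_ifs with h
      · by_contra hne
        have := hw m hne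
        omega
      · rfl
    · rw [coeff_orbP_diag]
      simp only [y']
      by_cases h : wt r m = 0
      · rw [if_pos h.symm, if_pos h]
      · rw [if_neg (fun e => h e.symm), if_neg h]
  have hcl' : GLin.InOrbitClosure k (SLn n k) (GLin.vecPt k _ a) (GLin.vecPt k _ y') := by
    have := Helper25.inOrbitClosure_of_isLimit hlim
    unfold GLin.InOrbitClosure at this ⊢
    rwa [ker_orbitHom_actVec g hg a] at this
  obtain ⟨h, hh⟩ := Helper25.exists_actPt_eq_of_isClosedOrbit hcl hcl'
  rw [actPt_eq] at hh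
  have hy' : y' = actVec k a (ptMat h) := vecPt_injective _ _ hh
  set H := ptMat h with hH
  have hHdet : H.det = 1 := det_ptMat h
  have hHinv : H * H⁻¹ = 1 := Matrix.mul_nonsing_inv H (by rw [hHdet]; exact isUnit_one)
  have hHinv' : H⁻¹ * H = 1 := Matrix.nonsing_inv_mul H (by rw [hHdet]; exact isUnit_one)
  have hHinvdet : (H⁻¹).det = 1 := by
    have := congrArg Matrix.det hHinv
    rwa [Matrix.det_mul, hHdet, one_mul, Matrix.det_one] at this
  -- the stabilising points
  let D : kˣ → Matrix (Fin n) (Fin n) k := fun t => Matrix.diagonal (fun i => ((t : k) ^ (r i)))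
  have hDdet : ∀ t, (D t).det = 1 := by
    intro t
    simp only [D, Matrix.det_diagonal]
    rw [prod_zpow_eq_zpow_sum _ t.ne_zero, hr, zpow_zero]
  let N : kˣ → Matrix (Fin n) (Fin n) k := fun t => H * D t * H⁻¹
  have hNdet : ∀ t, (N t).det = 1 := by
    intro t
    simp only [N, Matrix.det_mul, hHdet, hDdet, hHinvdet, mul_one]
  have hyD : ∀ t, actVec k y' (D t) = y' := by
    intro t
    funext m
    rw [actVec_diagonal]
    simp only [y']
    by_cases h0 : wt r m = 0
    · rw [if_pos h0]
      have : ∏ i, ((t : k) ^ r i) ^ (m.1 i) = 1 := by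
        have h1 : ∀ i, ((t : k) ^ r i) ^ (m.1 i) = (t : k) ^ ((m.1 i : ℤ) * r i) := by
          intro i
          rw [← zpow_natCast, ← zpow_mul, mul_comm]
        simp only [h1]
        rw [prod_zpow_eq_zpow_sum _ t.ne_zero]
        have : ∑ i, (m.1 i : ℤ) * r i = 0 := h0
        rw [this, zpow_zero]
      rw [this, mul_one]
    · rw [if_neg h0, zero_mul]
  have hNa : ∀ t, actVec k a (N t) = a := by
    intro t
    simp only [N]
    rw [actVec_mul, actVec_mul, ← hy', hyD, hy', ← actVec_mul, hHinv, actVec_one]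
  -- the stabiliser quotient has finitely many points
  let S := SLn n k ⧸ GLin.stabIdeal k (SLn n k) (GLin.vecPt k (FormIdx n d) a)
  haveI : Module.Finite k S := hfin
  haveI : Finite (S →ₐ[k] k) := Finite.algHom k S k
  have hkill : ∀ t : kˣ, ∀ f ∈ GLin.stabIdeal k (SLn n k) (GLin.vecPt k (FormIdx n d) a),
      SLn.pt n k (N t) (hNdet t) f = 0 := by
    intro t f hf
    have hle : GLin.stabIdeal k (SLn n k) (GLin.vecPt k (FormIdx n d) a) ≤
        RingHom.ker (SLn.pt n k (N t) (hNdet t)) := by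
      unfold GLin.stabIdeal
      rw [Ideal.map_le_iff_le_comap]
      intro p hp
      rw [Ideal.mem_comap, RingHom.mem_ker]
      have h1 := actPt_pt (N t) (hNdet t) a
      rw [hNa] at h1
      have h2 := congrArg (fun φ => φ p) h1
      simp only [GLin.actPt, AlgHom.comp_apply] at h2
      rw [RingHom.mem_ker] at hp
      exact h2.trans hp
    exact hle hf
  let F : kˣ → (S →ₐ[k] k) := fun t => Ideal.Quotient.liftₐ _ (SLn.pt n k (N t) (hNdet t)) (hkill t)
  obtain ⟨i, hi⟩ : ∃ i, r i ≠ 0 := by
    by_contra hcon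
    push_neg at hcon
    exact hr0 (funext hcon)
  let G : (S →ₐ[k] k) → k := fun s =>
    (H⁻¹ * ptMat (s.comp (Ideal.Quotient.mkₐ k _)) * H) i i
  have hGF : ∀ t : kˣ, G (F t) = (t : k) ^ r i := by
    intro t
    have h1 : (F t).comp (Ideal.Quotient.mkₐ k _) = SLn.pt n k (N t) (hNdet t) := by
      apply AlgHom.ext
      intro f
      rfl
    simp only [G]
    rw [h1, ptMat_pt]
    simp only [N]
    have : H⁻¹ * (H * D t * H⁻¹) * H = D t := by
      rw [Matrix.mul_assoc, Matrix.mul_assoc, hHinv', Matrix.mul_one, ← Matrix.mul_assoc, hHinv',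
        Matrix.one_mul]
    rw [this]
    simp [D]
  have hfinrange : (Set.range (G ∘ F)).Finite :=
    (Set.finite_range G).subset (Set.range_comp_subset_range F G)
  have hsub : {c : k | c ≠ 0} ⊆ Set.range (G ∘ F) := by
    intro c hc
    obtain ⟨t, ht0, htc⟩ := exists_zpow_eq (r i) hi c hc
    exact ⟨Units.mk0 t ht0, by rw [Function.comp_apply, hGF]; exact htc⟩
  have hfin2 : {c : k | c ≠ 0}.Finite := hfinrange.subset hsub
  haveI : Infinite k := IsAlgClosed.instInfinite
  have : (Set.univ : Set k).Finite := by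
    have h1 : (Set.univ : Set k) = {c : k | c ≠ 0} ∪ {0} := by
      ext c
      by_cases hc : c = 0 <;> simp [hc]
    rw [h1]
    exact hfin2.union (Set.finite_singleton 0)
  exact Set.infinite_univ this

end Easy

end Groth.Agent.Lib.Helper24HM
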