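import Mathlib

set_option autoImplicit false
set_option linter.unusedSectionVars false

namespace Groth.Agent.Lib.Helper24OrdSign

variable {Λ : Type*} [AddCommGroup Λ] [LinearOrder Λ] [IsOrderedAddMonoid Λ]

def E {n : ℕ} (χ : Fin n → Λ) (a : Fin n → ℤ) : Λ := ∑ i, a i • χ i

def Er {n : ℕ} (r : Fin n → ℚ) (a : Fin n → ℤ) : ℚ := ∑ i, (a i : ℚ) * r i

def init {n : ℕ} (a : Fin (n + 1) → ℤ) : Fin n → ℤ := fun i => a (Fin.castSucc i)

omit [LinearOrder Λ] [IsOrderedAddMonoid Λ] in
lemma E_succ {n : ℕ} (χ : Fin (n + 1) → Λ) (a : Fin (n + 1) → ℤ) :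
    E χ a = E (fun i => χ (Fin.castSucc i)) (init a) + a (Fin.last n) • χ (Fin.last n) :=
  Fin.sum_univ_castSucc _

lemma Er_snoc {n : ℕ} (r' : Fin n → ℚ) (c : ℚ) (a : Fin (n + 1) → ℤ) :
    Er (Fin.snoc r' c : Fin (n + 1) → ℚ) a = Er r' (init a) + (a (Fin.last n) : ℚ) * c := by
  unfold Er init
  rw [Fin.sum_univ_castSucc]
  simp

omit [LinearOrder Λ] [IsOrderedAddMonoid Λ] in
lemma E_sub {n : ℕ} (χ : Fin n → Λ) (a b : Fin n → ℤ) : E χ (a - b) = E χ a - E χ b := by
  simp [E, sub_smul, Finset.sum_sub_distrib]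

omit [LinearOrder Λ] [IsOrderedAddMonoid Λ] in
lemma E_add {n : ℕ} (χ : Fin n → Λ) (a b : Fin n → ℤ) : E χ (a + b) = E χ a + E χ b := by
  simp [E, add_smul, Finset.sum_add_distrib]

omit [LinearOrder Λ] [IsOrderedAddMonoid Λ] in
lemma E_smul {n : ℕ} (χ : Fin n → Λ) (d : ℤ) (a : Fin n → ℤ) : E χ (d • a) = d • E χ a := by
  simp [E, mul_smul, Finset.smul_sum]

omit [LinearOrder Λ] [IsOrderedAddMonoid Λ] in
lemma E_neg {n : ℕ} (χ : Fin n → Λ) (a : Fin n → ℤ) : E χ (-a) = - E χ a := by
  simp [E]

lemma Er_sub {n : ℕ} (r : Fin n → ℚ) (a b : Fin n → ℤ) : Er r (a - b) = Er r a - Er r b := by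
  simp [Er, sub_mul, Finset.sum_sub_distrib]

lemma Er_add {n : ℕ} (r : Fin n → ℚ) (a b : Fin n → ℤ) : Er r (a + b) = Er r a + Er r b := by
  simp [Er, add_mul, Finset.sum_add_distrib]

lemma Er_smul {n : ℕ} (r : Fin n → ℚ) (d : ℤ) (a : Fin n → ℤ) : Er r (d • a) = d * Er r a := by
  simp [Er, mul_assoc, Finset.mul_sum]

lemma Er_neg {n : ℕ} (r : Fin n → ℚ) (a : Fin n → ℤ) : Er r (-a) = - Er r a := by
  simp [Er]

lemma init_neg {n : ℕ} (a : Fin (n + 1) → ℤ) : init (-a) = - init a := rfl

lemma pos_zsmul_iff {d : ℤ} (hd : 0 < d) (x : Λ) : 0 < d • x ↔ 0 < x := by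
  rw [← zsmul_lt_zsmul_iff_right (a := (0 : Λ)) (b := x) hd, smul_zero]

lemma zsmul_eq_zero_iff' {d : ℤ} (hd : 0 < d) (x : Λ) : d • x = 0 ↔ x = 0 := by
  constructor
  · intro h
    have := (zsmul_strictMono_right Λ hd).injective (a₁ := x) (a₂ := 0)
    apply this
    simp [h]
  · rintro rfl; simp

theorem main_rat : ∀ (n : ℕ) (χ : Fin n → Λ) (Φ : Finset (Fin n → ℤ)),
    ∃ r : Fin n → ℚ, ∀ a ∈ Φ, (0 < E χ a ↔ 0 < Er r a) ∧ (E χ a = 0 ↔ Er r a = 0)
  | 0, χ, Φ => ⟨fun _ => 0, fun a _ => by simp [E, Er]⟩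
  | n + 1, χ, Φ => by
    classical
    set χ' : Fin n → Λ := fun i => χ (Fin.castSucc i) with hχ'
    by_cases hA : ∃ a0 : Fin (n + 1) → ℤ, E χ a0 = 0 ∧ 0 < a0 (Fin.last n)
    · obtain ⟨a0, h0, hd⟩ := hA
      let T : (Fin (n + 1) → ℤ) → (Fin n → ℤ) :=
        fun a => a0 (Fin.last n) • init a - a (Fin.last n) • init a0
      obtain ⟨r', hr'⟩ := main_rat n χ' (Φ.image T)
      have hdq : (0 : ℚ) < (a0 (Fin.last n) : ℚ) := by exact_mod_cast hd
      refine ⟨Fin.snoc r' (-(Er r' (init a0)) / (a0 (Fin.last n) : ℚ)), fun a ha => ?_⟩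
      have hT := hr' (T a) (Finset.mem_image_of_mem T ha)
      have e1 : E χ' (T a) = a0 (Fin.last n) • E χ a := by
        have h1 := E_succ χ a
        have h2 := E_succ χ a0
        rw [h0] at h2
        show E χ' (a0 (Fin.last n) • init a - a (Fin.last n) • init a0) = _
        rw [E_sub, E_smul, E_smul, h1]
        have h3 : E χ' (init a0) = - (a0 (Fin.last n) • χ (Fin.last n)) := by
          rw [eq_neg_iff_add_eq_zero]; exact h2.symm
        rw [h3, smul_add, smul_neg, smul_smul, smul_smul, mul_comm]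
        abel
      have e2 : Er r' (T a) = (a0 (Fin.last n) : ℚ) *
          Er (Fin.snoc r' (-(Er r' (init a0)) / (a0 (Fin.last n) : ℚ)) : Fin (n + 1) → ℚ) a := by
        show Er r' (a0 (Fin.last n) • init a - a (Fin.last n) • init a0) = _
        rw [Er_sub, Er_smul, Er_smul, Er_snoc]
        field_simp
        ring
      rw [e1, e2] at hT
      constructor
      · rw [← pos_zsmul_iff hd, hT.1]
        exact mul_pos_iff_of_pos_left hdq
      · rw [← zsmul_eq_zero_iff' hd, hT.2]
        constructor
        · intro h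
          rcases mul_eq_zero.mp h with h | h
          · exact absurd h hdq.ne'
          · exact h
        · intro h; rw [h, mul_zero]
    · -- Case B
      have hB : ∀ a : Fin (n + 1) → ℤ, E χ a = 0 → a (Fin.last n) = 0 := by
        intro a ha
        by_contra hne
        rcases lt_or_gt_of_ne hne with h | h
        · exact hA ⟨-a, by rw [E_neg, ha, neg_zero], by simpa using h⟩
        · exact hA ⟨a, ha, h⟩
      -- positive vectors
      let Ψ : Finset (Fin (n + 1) → ℤ) := (Φ ∪ Φ.image (fun a => -a)).filter (fun a => 0 < E χ a)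
      let P : Finset (Fin (n + 1) → ℤ) := Ψ.filter (fun a => 0 < a (Fin.last n))
      let N : Finset (Fin (n + 1) → ℤ) := Ψ.filter (fun a => a (Fin.last n) < 0)
      let Φ' : Finset (Fin n → ℤ) := Φ.image init ∪
        (P ×ˢ N).image (fun st => (-(st.2 (Fin.last n))) • init st.1 + st.1 (Fin.last n) • init st.2)
      obtain ⟨r', hr'⟩ := main_rat n χ' Φ'
      -- combos are positive
      have hcombo : ∀ s ∈ P, ∀ t ∈ N,
          0 < (-(t (Fin.last n)) : ℚ) * Er r' (init s) + (s (Fin.last n) : ℚ) * Er r' (init t) := by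
        intro s hs t ht
        have hs' := Finset.mem_filter.mp hs
        have ht' := Finset.mem_filter.mp ht
        have hsΨ := (Finset.mem_filter.mp hs'.1).2
        have htΨ := (Finset.mem_filter.mp ht'.1).2
        have hmem : (-(t (Fin.last n))) • init s + s (Fin.last n) • init t ∈ Φ' := by
          apply Finset.mem_union_right
          exact Finset.mem_image.mpr ⟨(s, t), Finset.mem_product.mpr ⟨hs, ht⟩, rfl⟩
        have h := (hr' _ hmem).1
        rw [E_add, E_smul, E_smul, Er_add, Er_smul, Er_smul] at h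
        have hpos : 0 < (-(t (Fin.last n))) • E χ' (init s) + s (Fin.last n) • E χ' (init t) := by
          have h1 := E_succ χ s
          have h2 := E_succ χ t
          have e : (-(t (Fin.last n))) • E χ' (init s) + s (Fin.last n) • E χ' (init t) =
              (-(t (Fin.last n))) • E χ s + s (Fin.last n) • E χ t := by
            rw [h1, h2, smul_add, smul_add, smul_smul, smul_smul]
            have : -t (Fin.last n) * s (Fin.last n) + s (Fin.last n) * t (Fin.last n) = 0 := by ring
            have h4 : (-t (Fin.last n) * s (Fin.last n)) • χ (Fin.last n) +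
                (s (Fin.last n) * t (Fin.last n)) • χ (Fin.last n) = 0 := by
              rw [← add_smul, this, zero_smul]
            calc _ = (-t (Fin.last n)) • E χ' (init s) + s (Fin.last n) • E χ' (init t) := rfl
              _ = (-t (Fin.last n)) • E χ' (init s) + s (Fin.last n) • E χ' (init t) +
                  ((-t (Fin.last n) * s (Fin.last n)) • χ (Fin.last n) +
                (s (Fin.last n) * t (Fin.last n)) • χ (Fin.last n)) := by rw [h4, add_zero]
              _ = _ := by abel
          rw [e]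
          have p1 : 0 < (-(t (Fin.last n))) • E χ s :=
            (pos_zsmul_iff (by linarith [ht'.2]) _).mpr hsΨ
          have p2 : 0 < s (Fin.last n) • E χ t := (pos_zsmul_iff hs'.2 _).mpr htΨ
          exact add_pos p1 p2
        have := h.mp hpos
        push_cast at this
        exact this
      -- choose c
      let lo : Finset ℚ := P.image (fun s => -(Er r' (init s)) / (s (Fin.last n) : ℚ))
      let hi : Finset ℚ := N.image (fun t => Er r' (init t) / (-(t (Fin.last n)) : ℚ))
      obtain ⟨c, hclo, hchi⟩ := Order.exists_between_finsets lo hi (by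
        intro x hx y hy
        obtain ⟨s, hs, rfl⟩ := Finset.mem_image.mp hx
        obtain ⟨t, ht, rfl⟩ := Finset.mem_image.mp hy
        have hs' : (0 : ℚ) < (s (Fin.last n) : ℚ) := by
          exact_mod_cast (Finset.mem_filter.mp hs).2
        have ht' : (0 : ℚ) < (-(t (Fin.last n)) : ℚ) := by
          have := (Finset.mem_filter.mp ht).2
          have : (t (Fin.last n) : ℚ) < 0 := by exact_mod_cast this
          linarith
        rw [div_lt_div_iff₀ hs' ht']
        have := hcombo s hs t ht
        linarith)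
      have hP : ∀ s ∈ P, 0 < Er r' (init s) + (s (Fin.last n) : ℚ) * c := by
        intro s hs
        have hs' : (0 : ℚ) < (s (Fin.last n) : ℚ) := by
          exact_mod_cast (Finset.mem_filter.mp hs).2
        have := hclo _ (Finset.mem_image_of_mem _ hs)
        rw [div_lt_iff₀ hs'] at this
        linarith
      have hN : ∀ t ∈ N, 0 < Er r' (init t) + (t (Fin.last n) : ℚ) * c := by
        intro t ht
        have ht' : (0 : ℚ) < (-(t (Fin.last n)) : ℚ) := by
          have := (Finset.mem_filter.mp ht).2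
          have : (t (Fin.last n) : ℚ) < 0 := by exact_mod_cast this
          linarith
        have := hchi _ (Finset.mem_image_of_mem _ ht)
        rw [lt_div_iff₀ ht'] at this
        linarith
      have hΨpos : ∀ a ∈ Ψ, a (Fin.last n) ≠ 0 → 0 < Er (Fin.snoc r' c : Fin (n + 1) → ℚ) a := by
        intro a ha hne
        rw [Er_snoc]
        rcases lt_or_gt_of_ne hne with h | h
        · exact hN a (Finset.mem_filter.mpr ⟨ha, h⟩)
        · exact hP a (Finset.mem_filter.mpr ⟨ha, h⟩)
      refine ⟨Fin.snoc r' c, fun a ha => ?_⟩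
      by_cases hlast : a (Fin.last n) = 0
      · have hmem : init a ∈ Φ' := Finset.mem_union_left _ (Finset.mem_image_of_mem _ ha)
        have h := hr' _ hmem
        have e1 : E χ a = E χ' (init a) := by rw [E_succ, hlast, zero_smul, add_zero]
        have e2 : Er (Fin.snoc r' c : Fin (n + 1) → ℚ) a = Er r' (init a) := by
          rw [Er_snoc, hlast]; simp
        rw [e1, e2]; exact h
      · have hne : E χ a ≠ 0 := fun h => hlast (hB a h)
        rcases lt_or_gt_of_ne hne with h | h
        · -- E χ a < 0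
          have hm : -a ∈ Ψ := by
            refine Finset.mem_filter.mpr ⟨Finset.mem_union_right _ (Finset.mem_image_of_mem _ ha), ?_⟩
            rw [E_neg]; exact neg_pos.mpr h
          have := hΨpos (-a) hm (by simpa using hlast)
          rw [Er_neg] at this
          have hneg : Er (Fin.snoc r' c : Fin (n + 1) → ℚ) a < 0 := by linarith
          constructor
          · constructor
            · intro h'; exact absurd h' (not_lt.mpr h.le)
            · intro h'; exact absurd h' (not_lt.mpr hneg.le)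
          · constructor
            · intro h'; exact absurd h' hne
            · intro h'; exact absurd h' hneg.ne
        · have hm : a ∈ Ψ := Finset.mem_filter.mpr ⟨Finset.mem_union_left _ ha, h⟩
          have hpos := hΨpos a hm hlast
          constructor
          · exact ⟨fun _ => hpos, fun _ => h⟩
          · constructor
            · intro h'; exact absurd h' hne
            · intro h'; exact absurd h' hpos.ne'

theorem main {Λ : Type*} [AddCommGroup Λ] [LinearOrder Λ] [IsOrderedAddMonoid Λ]
    (n : ℕ) (χ : Fin n → Λ) (Φ : Finset (Fin n → ℤ)) :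
    ∃ r : Fin n → ℤ, ∀ a ∈ Φ,
      (0 < ∑ i, a i • χ i ↔ 0 < ∑ i, a i * r i) ∧
        (∑ i, a i • χ i = 0 ↔ ∑ i, a i * r i = 0) := by
  obtain ⟨r, hr⟩ := main_rat n χ Φ
  -- clear denominators
  let D : ℕ := ∏ i, (r i).den
  have hD : 0 < D := Finset.prod_pos (fun i _ => (r i).den_pos)
  have hdiv : ∀ i, ∃ z : ℤ, r i * (D : ℚ) = z := by
    intro i
    have : (r i).den ∣ D := Finset.dvd_prod_of_mem _ (Finset.mem_univ i)
    obtain ⟨k, hk⟩ := this
    refine ⟨(r i).num * k, ?_⟩
    rw [hk]
    push_cast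
    rw [← mul_assoc, Rat.mul_den_eq_num]
  choose z hz using hdiv
  refine ⟨z, fun a ha => ?_⟩
  have h := hr a ha
  have hDq : (0 : ℚ) < (D : ℚ) := by exact_mod_cast hD
  have key : ((∑ i, a i * z i : ℤ) : ℚ) = Er r a * (D : ℚ) := by
    push_cast
    unfold Er
    rw [Finset.sum_mul]
    refine Finset.sum_congr rfl fun i _ => ?_
    rw [← hz i]; ring
  constructor
  · rw [show (∑ i, a i • χ i) = E χ a from rfl, h.1]
    rw [← Int.cast_pos (R := ℚ), key]
    exact (mul_pos_iff_of_pos_right hDq).symm
  · rw [show (∑ i, a i • χ i) = E χ a from rfl, h.2]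
    rw [← Int.cast_eq_zero (α := ℚ), key]
    constructor
    · intro h'; rw [h', zero_mul]
    · intro h'
      rcases mul_eq_zero.mp h' with h'' | h''
      · exact h''
      · exact absurd h'' hDq.ne'

end Groth.Agent.Lib.Helper24OrdSign
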