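import Mathlib

set_option autoImplicit false

namespace Groth.Agent.Lib.Helper24ValSNF

open Matrix Matrix.TransvectionStruct

variable {R K : Type*} [CommRing R] [IsDomain R] [ValuationRing R] [Field K] [Algebra R K]
  [IsFractionRing R K]

/-- image in `K`-matrices of the product of a list of `R`-transvections. -/
noncomputable def im {n : Type} [Fintype n] [DecidableEq n] (L : List (TransvectionStruct n R)) :
    Matrix n n K :=
  (algebraMap R K).mapMatrix (L.map toMatrix).prod

section im
variable {n : Type} [Fintype n] [DecidableEq n]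

@[simp] theorem im_nil : im (K := K) ([] : List (TransvectionStruct n R)) = 1 := by
  simp [im]

theorem im_append (L L' : List (TransvectionStruct n R)) :
    im (K := K) (L ++ L') = im L * im L' := by
  simp [im, List.map_append, List.prod_append, map_mul]

theorem map_transvection (i j : n) (c : R) :
    (algebraMap R K).mapMatrix (transvection i j c) = transvection i j (algebraMap R K c) := by
  simp only [transvection, map_add, map_one, RingHom.mapMatrix_apply]
  congr 1
  exact Matrix.map_single i j c (algebraMap R K)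

theorem im_singleton (i j : n) (h : i ≠ j) (c : R) :
    im (K := K) [(⟨i, j, h, c⟩ : TransvectionStruct n R)] = transvection i j (algebraMap R K c) := by
  have := map_transvection (K := K) i j c
  simp only [RingHom.mapMatrix_apply] at this
  simp [im, toMatrix, this]

end im

/-- every entry of `M` is an `R`-multiple of `p`. -/
def Dvd {m n : Type} (p : K) (M : Matrix m n K) : Prop :=
  ∀ i j, ∃ r : R, M i j = algebraMap R K r * p

theorem Dvd.mul_left {m n : Type} [Fintype m] [DecidableEq m] {p : K} {M : Matrix m n K}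
    (h : Dvd (R := R) p M) (A : Matrix m m R) :
    Dvd (R := R) p ((algebraMap R K).mapMatrix A * M) := by
  classical
  intro i j
  choose r hr using h
  refine ⟨∑ k, A i k * r k j, ?_⟩
  rw [Matrix.mul_apply, map_sum, Finset.sum_mul]
  refine Finset.sum_congr rfl (fun k _ => ?_)
  rw [hr k j, RingHom.mapMatrix_apply, Matrix.map_apply, map_mul]
  ring

theorem Dvd.mul_right {m n : Type} [Fintype n] [DecidableEq n] {p : K} {M : Matrix m n K}
    (h : Dvd (R := R) p M) (A : Matrix n n R) :
    Dvd (R := R) p (M * (algebraMap R K).mapMatrix A) := by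
  classical
  intro i j
  choose r hr using h
  refine ⟨∑ k, r i k * A k j, ?_⟩
  rw [Matrix.mul_apply, map_sum, Finset.sum_mul]
  refine Finset.sum_congr rfl (fun k _ => ?_)
  rw [hr i k, RingHom.mapMatrix_apply, Matrix.map_apply, map_mul]
  ring

/-- existence of a pivot of maximal valuation. -/
theorem exists_pivot {n : Type} [Fintype n] (M : Matrix n n K) (hM : M ≠ 0) :
    ∃ i₀ j₀, M i₀ j₀ ≠ 0 ∧ Dvd (R := R) (M i₀ j₀) M := by
  classical
  have hne : ∃ i j, M i j ≠ 0 := by
    by_contra hcon
    push Not at hcon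
    exact hM (by ext i j; exact hcon i j)
  obtain ⟨a, b, hab⟩ := hne
  let v := ValuationRing.valuation R K
  have hnonempty : (Finset.univ : Finset (n × n)).Nonempty := ⟨(a, b), Finset.mem_univ _⟩
  obtain ⟨⟨i₀, j₀⟩, -, hmax⟩ := Finset.exists_max_image Finset.univ (fun x : n × n => v (M x.1 x.2))
    hnonempty
  have hp : M i₀ j₀ ≠ 0 := by
    intro h0
    have h1 := hmax (a, b) (Finset.mem_univ _)
    simp only [h0, map_zero] at h1
    exact hab ((Valuation.zero_iff v).mp (le_antisymm h1 zero_le'))
  refine ⟨i₀, j₀, hp, ?_⟩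
  intro i j
  have h1 : v (M i j) ≤ v (M i₀ j₀) := hmax (i, j) (Finset.mem_univ _)
  have hpos : 0 < v (M i₀ j₀) := zero_lt_iff.mpr ((Valuation.ne_zero_iff v).mpr hp)
  have h2 : v (M i j / M i₀ j₀) ≤ 1 := by
    rw [map_div₀]
    exact (div_le_one₀ hpos).mpr h1
  have h3 : M i j / M i₀ j₀ ∈ v.integer := (Valuation.mem_integer_iff v _).mpr h2
  obtain ⟨r, hr⟩ := (ValuationRing.mem_integer_iff R K _).mp h3
  refine ⟨r, ?_⟩
  rw [hr]
  field_simp

theorem im_dvd_left {n : Type} [Fintype n] [DecidableEq n] {p : K} {M : Matrix n n K}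
    (h : Dvd (R := R) p M) (L : List (TransvectionStruct n R)) : Dvd (R := R) p (im L * M) :=
  h.mul_left _

theorem im_dvd_right {n : Type} [Fintype n] [DecidableEq n] {p : K} {M : Matrix n n K}
    (h : Dvd (R := R) p M) (L : List (TransvectionStruct n R)) : Dvd (R := R) p (M * im L) :=
  h.mul_right _

/-- move the pivot to a prescribed position. -/
theorem exists_move {n : Type} [Fintype n] [DecidableEq n] (M : Matrix n n K) (i₀ j₀ a b : n)
    (hd : Dvd (R := R) (M i₀ j₀) M) :
    ∃ L L' : List (TransvectionStruct n R),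
      (im L * M * im L' : Matrix n n K) a b = M i₀ j₀ ∧
      Dvd (R := R) (M i₀ j₀) (im L * M * im L' : Matrix n n K) := by
  set p := M i₀ j₀ with hp
  -- row step
  have hrow : ∃ L : List (TransvectionStruct n R), (im L * M : Matrix n n K) a j₀ = p := by
    by_cases h : i₀ = a
    · exact ⟨[], by simp [h, hp]⟩
    · obtain ⟨r, hr⟩ := hd a j₀
      refine ⟨[⟨a, i₀, fun h' => h h'.symm, 1 - r⟩], ?_⟩
      rw [im_singleton, transvection_mul_apply_same, hr, ← hp, map_sub, map_one]
      ring
  obtain ⟨L, hL⟩ := hrow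
  have hd1 : Dvd (R := R) p (im L * M) := im_dvd_left hd L
  have hcol : ∃ L' : List (TransvectionStruct n R),
      (im L * M * im L' : Matrix n n K) a b = p := by
    by_cases h : j₀ = b
    · exact ⟨[], by simp [← h, hL]⟩
    · obtain ⟨s, hs⟩ := hd1 a b
      refine ⟨[⟨j₀, b, h, 1 - s⟩], ?_⟩
      rw [im_singleton, mul_transvection_apply_same, hs, hL, map_sub, map_one]
      ring
  obtain ⟨L', hL'⟩ := hcol
  exact ⟨L, L', hL', im_dvd_right hd1 L'⟩

open Sum Unit in
theorem exists_twoBlock_of_pivot {r : ℕ} (M : Matrix (Fin r ⊕ Unit) (Fin r ⊕ Unit) K)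
    (hp : M (inr unit) (inr unit) ≠ 0) (hd : Dvd (R := R) (M (inr unit) (inr unit)) M) :
    ∃ L L' : List (TransvectionStruct (Fin r ⊕ Unit) R),
      IsTwoBlockDiagonal (im L * M * im L') := by
  choose c hc using hd
  let L : List (TransvectionStruct (Fin r ⊕ Unit) R) :=
    List.ofFn fun i : Fin r => ⟨inl i, inr unit, by simp, -(c (inl i) (inr unit))⟩
  let L' : List (TransvectionStruct (Fin r ⊕ Unit) R) :=
    List.ofFn fun i : Fin r => ⟨inr unit, inl i, by simp, -(c (inr unit) (inl i))⟩
  refine ⟨L, L', ?_⟩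
  have A : im (K := K) L = (Pivot.listTransvecCol M).prod := by
    simp only [im, L, Pivot.listTransvecCol, map_list_prod, List.map_ofFn]
    congr 1
    congr 1
    funext i
    simp only [Function.comp_apply, toMatrix]
    rw [map_transvection]
    congr 1
    rw [hc (inl i) (inr unit), map_neg]
    field_simp
  have B : im (K := K) L' = (Pivot.listTransvecRow M).prod := by
    simp only [im, L', Pivot.listTransvecRow, map_list_prod, List.map_ofFn]
    congr 1
    congr 1
    funext i
    simp only [Function.comp_apply, toMatrix]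
    rw [map_transvection]
    congr 1
    rw [hc (inr unit) (inl i), map_neg]
    field_simp
  rw [A, B]
  exact Pivot.isTwoBlockDiagonal_listTransvecCol_mul_mul_listTransvecRow M hp

open Sum Unit in
theorem exists_twoBlock {r : ℕ} (M : Matrix (Fin r ⊕ Unit) (Fin r ⊕ Unit) K) :
    ∃ L L' : List (TransvectionStruct (Fin r ⊕ Unit) R),
      IsTwoBlockDiagonal (im L * M * im L') := by
  by_cases hM : M = 0
  · refine ⟨[], [], ?_⟩
    subst hM
    simp only [im_nil, mul_zero, zero_mul]
    constructor <;> · ext i j; simp [toBlocks₁₂, toBlocks₂₁]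
  · obtain ⟨i₀, j₀, hp, hd⟩ := exists_pivot (R := R) M hM
    obtain ⟨L₁, L₁', h1, hd1⟩ := exists_move (R := R) M i₀ j₀ (inr unit) (inr unit) hd
    set M' := im L₁ * M * im L₁' with hM'
    rw [← h1] at hd1 hp
    obtain ⟨L₂, L₂', h2⟩ := exists_twoBlock_of_pivot (R := R) M' hp hd1
    refine ⟨L₂ ++ L₁, L₁' ++ L₂', ?_⟩
    rw [im_append, im_append]
    have : im (K := K) L₂ * im L₁ * M * (im L₁' * im L₂') = im L₂ * M' * im L₂' := by
      rw [hM']
      simp only [Matrix.mul_assoc]
    rw [this]
    exact h2

theorem im_cons {n : Type} [Fintype n] [DecidableEq n] (t : TransvectionStruct n R)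
    (L : List (TransvectionStruct n R)) :
    im (K := K) (t :: L) = (algebraMap R K).mapMatrix t.toMatrix * im L := by
  simp [im, map_mul]

theorem im_map_sumInl {n : Type} [Fintype n] [DecidableEq n] (L : List (TransvectionStruct n R)) :
    im (K := K) (L.map (sumInl Unit)) = fromBlocks (im L) 0 0 1 := by
  induction L with
  | nil => simp
  | cons t L ih =>
    rw [List.map_cons, im_cons, im_cons, ih, toMatrix_sumInl, RingHom.mapMatrix_apply,
      fromBlocks_map, fromBlocks_multiply]
    simp [Matrix.map_zero, Matrix.map_one]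

theorem im_map_reindexEquiv {n p : Type} [Fintype n] [DecidableEq n] [Fintype p] [DecidableEq p]
    (e : n ≃ p) (L : List (TransvectionStruct n R)) :
    im (K := K) (L.map (reindexEquiv e)) = reindexAlgEquiv K _ e (im L) := by
  simp only [im, List.map_map, toMatrix_reindexEquiv_prod]
  ext i j
  simp [reindexAlgEquiv_apply, reindex_apply]

open Sum Unit in
theorem diag_induction {r : ℕ}
    (IH : ∀ M : Matrix (Fin r) (Fin r) K,
      ∃ (L₀ L₀' : List (TransvectionStruct (Fin r) R)) (D₀ : Fin r → K),
        im L₀ * M * im L₀' = diagonal D₀)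
    (M : Matrix (Fin r ⊕ Unit) (Fin r ⊕ Unit) K) :
    ∃ (L L' : List (TransvectionStruct (Fin r ⊕ Unit) R)) (D : Fin r ⊕ Unit → K),
      im L * M * im L' = diagonal D := by
  obtain ⟨L₁, L₁', hM⟩ := exists_twoBlock (R := R) M
  set M' : Matrix (Fin r ⊕ Unit) (Fin r ⊕ Unit) K := im L₁ * M * im L₁' with hM'
  obtain ⟨L₀, L₀', D₀, h₀⟩ := IH (toBlocks₁₁ M')
  set c := M' (inr unit) (inr unit) with hc
  refine ⟨L₀.map (sumInl Unit) ++ L₁, L₁' ++ L₀'.map (sumInl Unit),
    Sum.elim D₀ fun _ => c, ?_⟩
  have h1 : im (K := K) (L₀.map (sumInl Unit) ++ L₁) * M * im (L₁' ++ L₀'.map (sumInl Unit))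
      = im (L₀.map (sumInl Unit)) * M' * im (L₀'.map (sumInl Unit)) := by
    rw [im_append, im_append, hM']
    simp only [Matrix.mul_assoc]
  rw [h1, im_map_sumInl, im_map_sumInl]
  have h2 : M' = fromBlocks (toBlocks₁₁ M') 0 0 (diagonal fun _ => c) := by
    conv_lhs => rw [← fromBlocks_toBlocks M', hM.1, hM.2]
    congr 1
  rw [h2, fromBlocks_multiply, fromBlocks_multiply]
  simp only [Matrix.mul_zero, Matrix.zero_mul, add_zero, zero_add, Matrix.one_mul, Matrix.mul_one]
  rw [h₀, fromBlocks_diagonal]

theorem diag_reindex {n p : Type} [Fintype n] [DecidableEq n] [Fintype p] [DecidableEq p]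
    (M : Matrix p p K) (e : p ≃ n)
    (H : ∃ (L L' : List (TransvectionStruct n R)) (D : n → K),
      im L * reindexAlgEquiv K _ e M * im L' = diagonal D) :
    ∃ (L L' : List (TransvectionStruct p R)) (D : p → K), im L * M * im L' = diagonal D := by
  obtain ⟨L₀, L₀', D₀, h₀⟩ := H
  refine ⟨L₀.map (reindexEquiv e.symm), L₀'.map (reindexEquiv e.symm), D₀ ∘ e, ?_⟩
  have : M = reindexAlgEquiv K _ e.symm (reindexAlgEquiv K _ e M) := by simp
  rw [this, im_map_reindexEquiv, im_map_reindexEquiv, ← map_mul, ← map_mul, h₀]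
  simp

theorem diag_aux (n : Type) [Fintype n] [DecidableEq n] (M : Matrix n n K) :
    ∃ (L L' : List (TransvectionStruct n R)) (D : n → K), im L * M * im L' = diagonal D := by
  suffices ∀ cn, Fintype.card n = cn →
      ∃ (L L' : List (TransvectionStruct n R)) (D : n → K), im L * M * im L' = diagonal D by
    exact this _ rfl
  intro cn hn
  induction cn generalizing n M with
  | zero =>
    refine ⟨List.nil, List.nil, fun _ => 1, ?_⟩
    ext i j
    rw [Fintype.card_eq_zero_iff] at hn
    exact hn.elim' i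
  | succ r IH =>
    have e : n ≃ Fin r ⊕ Unit := by
      refine Fintype.equivOfCardEq ?_
      rw [hn]
      rw [@Fintype.card_sum (Fin r) Unit _ _]
      simp
    apply diag_reindex M e
    apply diag_induction fun N => IH (Fin r) N (by simp)

/-- Diagonalization over a valuation ring. -/
theorem main (n : ℕ) (Ξ : Matrix (Fin n) (Fin n) K) :
    ∃ (A B : Matrix (Fin n) (Fin n) R) (d : Fin n → K), A.det = 1 ∧ B.det = 1 ∧
      Ξ = A.map (algebraMap R K) * Matrix.diagonal d * B.map (algebraMap R K) := by
  obtain ⟨L, L', D, h⟩ := diag_aux (R := R) (Fin n) Ξ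
  refine ⟨((L.reverse.map TransvectionStruct.inv).map toMatrix).prod,
    ((L'.reverse.map TransvectionStruct.inv).map toMatrix).prod, D,
    det_toMatrix_prod _, det_toMatrix_prod _, ?_⟩
  have hA : (algebraMap R K).mapMatrix ((L.reverse.map TransvectionStruct.inv).map toMatrix).prod
      * im L = 1 := by
    rw [im, ← map_mul, List.map_map, reverse_inv_prod_mul_prod, map_one]
  have hB : im (K := K) L' *
      (algebraMap R K).mapMatrix ((L'.reverse.map TransvectionStruct.inv).map toMatrix).prod
      = 1 := by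
    rw [im, ← map_mul, List.map_map, prod_mul_reverse_inv_prod, map_one]
  simp only [RingHom.mapMatrix_apply] at hA hB
  rw [← h]
  have h3 : Ξ = ((List.map toMatrix (List.map TransvectionStruct.inv L.reverse)).prod.map
      ⇑(algebraMap R K) * im L) * Ξ * (im L' *
      (List.map toMatrix (List.map TransvectionStruct.inv L'.reverse)).prod.map
      ⇑(algebraMap R K)) := by
    rw [hA, hB]; simp
  conv_lhs => rw [h3]
  simp only [Matrix.mul_assoc]

end Groth.Agent.Lib.Helper24ValSNF
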