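import Mathlib
import Groth.Agent.Lib.Helper24HMd

/-!
# The form of the moved point: `formPoly (a · g) = (formPoly a)(g · y)` (helper24)
-/

set_option autoImplicit false
set_option linter.style.haveILetI false
universe u v w
open CoordGrp TensorProduct

namespace Groth.Agent.Lib.Helper24HM

/-- multinomial theorem indexed by exponent vectors of degree `d`. -/
theorem sum_pow_formIdx {R : Type*} [CommSemiring R] {n : ℕ} (d : ℕ) (f : Fin n → R) :
    (∑ i, f i) ^ d = ∑ m : FormIdx n d, (m.1.multinomial : R) * ∏ i, f i ^ (m.1 i) := by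
  classical
  rw [Finset.sum_pow_eq_sum_piAntidiag]
  symm
  refine Finset.sum_bij' (fun (m : FormIdx n d) _ => (m.1 : Fin n → ℕ))
    (fun k hk => (⟨Finsupp.equivFunOnFinite.symm k, by
      rw [Finsupp.degree_eq_sum]
      simpa using (Finset.mem_piAntidiag.mp hk).1⟩ : FormIdx n d)) ?_ ?_ ?_ ?_ ?_
  · intro m _
    rw [Finset.mem_piAntidiag]
    refine ⟨?_, fun i _ => Finset.mem_univ i⟩
    have := m.2
    rw [Finsupp.degree_eq_sum] at this
    exact this
  · intro k hk
    exact Finset.mem_univ _
  · intro m _
    apply Subtype.ext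
    ext i
    simp
  · intro k hk
    funext i
    simp
  · intro m _
    rw [Finsupp.multinomial_of_support_subset (Finset.subset_univ _)]

section Subst
variable {k : Type u} [CommRing k] {n d : ℕ}

/-- the linear substitution `y ↦ g · y` on polynomials -/
noncomputable def substVec (g : Matrix (Fin n) (Fin n) k) (j : Fin n) : MvPolynomial (Fin n) k :=
  ∑ i, MvPolynomial.C (g j i) * MvPolynomial.X i

theorem monomial_eq_prod (m : Fin n →₀ ℕ) {R : Type*} [CommSemiring R] :
    (MvPolynomial.monomial m (1 : R)) = ∏ i, (MvPolynomial.X i : MvPolynomial (Fin n) R) ^ (m i) := by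
  rw [MvPolynomial.monomial_eq, Finsupp.prod_fintype _ _ (fun i => pow_zero _)]
  simp

theorem sum_multinomial_FC (g : Matrix (Fin n) (Fin n) k) (l : FormIdx n d) :
    ∑ m : FormIdx n d, MvPolynomial.monomial m.1 ((m.1.multinomial : k) * FC k d g l m) =
      MvPolynomial.C (l.1.multinomial : k) * ∏ j, (substVec g j) ^ (l.1 j) := by
  classical
  let B := MvPolynomial (Fin n) k
  let u : Fin n → MvPolynomial (Fin n) B := fun i =>
    ∑ j, MvPolynomial.X j * MvPolynomial.C (MvPolynomial.C (g j i))
  let v : Fin n → MvPolynomial (Fin n) B := fun i => MvPolynomial.C (MvPolynomial.X i)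
  have hE : (∑ i, u i * v i) = ∑ j, MvPolynomial.X j * MvPolynomial.C (substVec g j) := by
    simp only [u, v, substVec, Finset.sum_mul, map_sum, Finset.mul_sum, map_mul]
    rw [Finset.sum_comm]
    refine Finset.sum_congr rfl fun j _ => Finset.sum_congr rfl fun i _ => ?_
    ring
  have h1 := sum_pow_formIdx d (fun i => u i * v i)
  have h2 := sum_pow_formIdx d (fun j => (MvPolynomial.X j : MvPolynomial (Fin n) B) *
    MvPolynomial.C (substVec g j))
  rw [hE] at h1
  have h3 := h1.symm.trans h2
  have h4 := congrArg (MvPolynomial.coeff l.1) h3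
  -- left side
  have hL : MvPolynomial.coeff l.1 (∑ m : FormIdx n d, ((m.1.multinomial : ℕ) : MvPolynomial (Fin n) B) *
      ∏ i, (u i * v i) ^ (m.1 i)) =
      ∑ m : FormIdx n d, MvPolynomial.monomial m.1 ((m.1.multinomial : k) * FC k d g l m) := by
    rw [MvPolynomial.coeff_sum]
    refine Finset.sum_congr rfl fun m _ => ?_
    have e1 : ∏ i, (u i * v i) ^ (m.1 i) =
        MvPolynomial.C (MvPolynomial.monomial m.1 (1 : k)) * ∏ i, (u i) ^ (m.1 i) := by
      simp only [mul_pow, Finset.prod_mul_distrib, v]
      rw [mul_comm, monomial_eq_prod]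
      simp only [map_prod, map_pow]
    have e2 : ((m.1.multinomial : ℕ) : MvPolynomial (Fin n) B) =
        MvPolynomial.C ((m.1.multinomial : ℕ) : B) := by simp
    rw [e1, e2, ← mul_assoc, ← map_mul, MvPolynomial.coeff_C_mul]
    have e3 : MvPolynomial.coeff l.1 (∏ i, (u i) ^ (m.1 i)) =
        FC k d (g.map (algebraMap k B)) l m := by
      rw [FC_eq_coeff]
      rfl
    have e4 : FC k d (g.map (algebraMap k B)) l m = MvPolynomial.C (FC k d g l m) := by
      have := FC_map (k := k) (d := d) (Algebra.ofId k B) g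
      have h' := congrFun (congrFun this l) m
      exact h'
    rw [e3, e4]
    have e5 : ((m.1.multinomial : ℕ) : B) = MvPolynomial.C ((m.1.multinomial : ℕ) : k) := by simp
    rw [e5, mul_assoc, mul_comm (MvPolynomial.monomial _ _),
      MvPolynomial.C_mul_monomial, MvPolynomial.C_mul_monomial, mul_one]
  have hR : MvPolynomial.coeff l.1 (∑ m : FormIdx n d, ((m.1.multinomial : ℕ) : MvPolynomial (Fin n) B) *
      ∏ j, ((MvPolynomial.X j : MvPolynomial (Fin n) B) * MvPolynomial.C (substVec g j)) ^ (m.1 j)) =
      MvPolynomial.C (l.1.multinomial : k) * ∏ j, (substVec g j) ^ (l.1 j) := by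
    rw [MvPolynomial.coeff_sum, Finset.sum_eq_single l]
    · have e1 : ∏ j, ((MvPolynomial.X j : MvPolynomial (Fin n) B) * MvPolynomial.C (substVec g j)) ^ (l.1 j) =
          MvPolynomial.C (∏ j, (substVec g j) ^ (l.1 j)) * MvPolynomial.monomial l.1 1 := by
        simp only [mul_pow, Finset.prod_mul_distrib]
        rw [mul_comm, monomial_eq_prod]
        simp only [map_prod, map_pow]
      have e2 : ((l.1.multinomial : ℕ) : MvPolynomial (Fin n) B) =
          MvPolynomial.C ((l.1.multinomial : ℕ) : B) := by simp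
      rw [e1, e2, ← mul_assoc, ← map_mul, MvPolynomial.C_mul_monomial, MvPolynomial.coeff_monomial,
        if_pos rfl, mul_one]
      simp
    · intro m _ hm
      have e1 : ∏ j, ((MvPolynomial.X j : MvPolynomial (Fin n) B) * MvPolynomial.C (substVec g j)) ^ (m.1 j) =
          MvPolynomial.C (∏ j, (substVec g j) ^ (m.1 j)) * MvPolynomial.monomial m.1 1 := by
        simp only [mul_pow, Finset.prod_mul_distrib]
        rw [mul_comm, monomial_eq_prod]
        simp only [map_prod, map_pow]
      have e2 : ((m.1.multinomial : ℕ) : MvPolynomial (Fin n) B) =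
          MvPolynomial.C ((m.1.multinomial : ℕ) : B) := by simp
      rw [e1, e2, ← mul_assoc, ← map_mul, MvPolynomial.C_mul_monomial, MvPolynomial.coeff_monomial,
        if_neg (fun e => hm (Subtype.ext e))]
    · intro h; exact absurd (Finset.mem_univ l) h
  rw [hL, hR] at h4
  exact h4

/-- **The form of the moved point**: `F_{a·g}(y) = F_a(g·y)`. -/
theorem formPoly_actVec (a : FormIdx n d → k) (g : Matrix (Fin n) (Fin n) k) :
    formPoly (actVec k a g) = MvPolynomial.aeval (substVec g) (formPoly a) := by
  classical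
  unfold formPoly
  rw [map_sum]
  simp only [MvPolynomial.aeval_monomial]
  have h1 : ∀ m : FormIdx n d, MvPolynomial.monomial m.1 ((m.1.multinomial : k) * actVec k a g m) =
      ∑ l : FormIdx n d, MvPolynomial.C (a l) *
        MvPolynomial.monomial m.1 ((m.1.multinomial : k) * FC k d g l m) := by
    intro m
    rw [actVec_apply, Finset.mul_sum, map_sum]
    refine Finset.sum_congr rfl fun l _ => ?_
    rw [MvPolynomial.C_mul_monomial]
    congr 1
    ring
  simp only [h1]
  rw [Finset.sum_comm]
  refine Finset.sum_congr rfl fun l _ => ?_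
  rw [← Finset.mul_sum, sum_multinomial_FC, Finsupp.prod_fintype _ _ (fun i => pow_zero _)]
  rw [← mul_assoc, ← map_mul, mul_comm (a l)]
  rfl

end Subst

end Groth.Agent.Lib.Helper24HM
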