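import Mathlib
import Groth.Agent.Lib.Helper24HMf
import Groth.Agent.Lib.Helper24HMg

/-!
# Hilbert–Mumford for forms, easy direction in terms of the form; point configurations (helper24)
-/

set_option autoImplicit false
set_option linter.style.haveILetI false
universe u v w
open CoordGrp TensorProduct

namespace Groth.Agent.Lib.Helper24HM

attribute [local instance] formsComod formsComod_isCoactAlg

theorem multinomial_ne_zero {k : Type u} [Field k] {n d : ℕ} (hd : (Nat.factorial d : k) ≠ 0)
    (m : FormIdx n d) : ((m.1.multinomial : ℕ) : k) ≠ 0 := by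
  intro h
  apply hd
  have h1 := Nat.multinomial_spec m.1.support m.1
  have h2 : ∑ i ∈ m.1.support, m.1 i = d := by
    have := m.2
    rw [Finsupp.degree_apply] at this
    exact this
  rw [h2] at h1
  rw [← h1, Nat.cast_mul, ← Finsupp.multinomial_eq, h, mul_zero]

/-- the weight of an exponent vector -/
def wtE {n : ℕ} (r : Fin n → ℤ) (m : Fin n →₀ ℕ) : ℤ := ∑ i, (m i : ℤ) * r i

theorem wtE_add {n : ℕ} (r : Fin n → ℤ) (m m' : Fin n →₀ ℕ) : wtE r (m + m') = wtE r m + wtE r m' := by
  unfold wtE
  rw [← Finset.sum_add_distrib]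
  refine Finset.sum_congr rfl fun i _ => ?_
  simp only [Finsupp.coe_add, Pi.add_apply, Nat.cast_add]
  ring

theorem wtE_zero {n : ℕ} (r : Fin n → ℤ) : wtE r 0 = 0 := by
  simp [wtE]

theorem wtE_single {n : ℕ} (r : Fin n → ℤ) (j : Fin n) : wtE r (Finsupp.single j 1) = r j := by
  classical
  unfold wtE
  rw [Finset.sum_eq_single j]
  · simp
  · intro i _ hi
    simp [hi.symm]
  · intro h; exact absurd (Finset.mem_univ j) h

/-- all monomials of `P` have weight at least `c` -/
def WtGE {k : Type u} [CommSemiring k] {n : ℕ} (r : Fin n → ℤ) (P : MvPolynomial (Fin n) k) (c : ℤ) : Prop :=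
  ∀ m ∈ P.support, c ≤ wtE r m

theorem WtGE.mul {k : Type u} [CommSemiring k] {n : ℕ} {r : Fin n → ℤ} {P Q : MvPolynomial (Fin n) k}
    {c c' : ℤ} (hP : WtGE r P c) (hQ : WtGE r Q c') : WtGE r (P * Q) (c + c') := by
  classical
  intro m hm
  have := MvPolynomial.support_mul P Q hm
  rw [Finset.mem_add] at this
  obtain ⟨m₁, h₁, m₂, h₂, rfl⟩ := this
  rw [wtE_add]
  exact add_le_add (hP m₁ h₁) (hQ m₂ h₂)

theorem WtGE.one {k : Type u} [CommSemiring k] {n : ℕ} (r : Fin n → ℤ) :
    WtGE r (1 : MvPolynomial (Fin n) k) 0 := by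
  classical
  intro m hm
  have : m = 0 := by
    by_contra h
    rw [MvPolynomial.mem_support_iff, MvPolynomial.coeff_one, if_neg (fun e => h e.symm)] at hm
    exact hm rfl
  rw [this, wtE_zero]

theorem WtGE.prod {k : Type u} [CommSemiring k] {n : ℕ} {r : Fin n → ℤ} {ι : Type*} (s : Finset ι)
    (P : ι → MvPolynomial (Fin n) k) (c : ι → ℤ) (h : ∀ i ∈ s, WtGE r (P i) (c i)) :
    WtGE r (∏ i ∈ s, P i) (∑ i ∈ s, c i) := by
  classical
  induction s using Finset.induction_on with
  | empty => simpa using WtGE.one r
  | insert a s ha ih =>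
    rw [Finset.prod_insert ha, Finset.sum_insert ha]
    exact (h a (Finset.mem_insert_self a s)).mul (ih fun i hi => h i (Finset.mem_insert_of_mem hi))

theorem WtGE.linear {k : Type u} [CommSemiring k] {n : ℕ} {r : Fin n → ℤ} (q : Fin n → k) (c : ℤ)
    (h : ∀ j, q j ≠ 0 → c ≤ r j) :
    WtGE r (∑ j, MvPolynomial.C (q j) * MvPolynomial.X j) c := by
  classical
  intro m hm
  rw [MvPolynomial.mem_support_iff, MvPolynomial.coeff_sum] at hm
  obtain ⟨j, -, hj⟩ := Finset.exists_ne_zero_of_sum_ne_zero hm
  rw [MvPolynomial.coeff_C_mul, MvPolynomial.coeff_X] at hj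
  have hq : q j ≠ 0 := fun h0 => hj (by rw [h0, zero_mul])
  have hm' : Finsupp.single j 1 = m := by
    by_contra hne
    rw [if_neg hne, mul_zero] at hj
    exact hj rfl
  rw [← hm', wtE_single]
  exact h j hq

section Main
variable {k : Type u} [Field k] [IsAlgClosed k] {n d : ℕ}

/-- easy direction of Hilbert–Mumford in terms of the monomials of the form `F_a(g · y)`. -/
theorem not_isStableVec_of_form_weights (hd : (Nat.factorial d : k) ≠ 0) (a : FormIdx n d → k)
    (g : Matrix (Fin n) (Fin n) k) (hg : g.det = 1) (r : Fin n → ℤ) (hr : ∑ i, r i = 0) (hr0 : r ≠ 0)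
    (hw : WtGE r (MvPolynomial.aeval (substVec g) (formPoly a)) 0) :
    ¬ GLin.IsStableVec k (SLn n k) a := by
  apply not_isStableVec_of_weights a g hg r hr hr0
  intro m hm
  have h1 : MvPolynomial.coeff m.1 (MvPolynomial.aeval (substVec g) (formPoly a)) ≠ 0 := by
    rw [← formPoly_actVec, coeff_formPoly]
    exact mul_ne_zero (multinomial_ne_zero hd m) hm
  exact hw m.1 (MvPolynomial.mem_support_iff.mpr h1)

end Main

section Adapted
variable {k : Type u} [Field k]

/-- a matrix of determinant one carrying the subspace `W` into the span of the first `dim W`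
coordinate vectors. -/
theorem exists_adapted_matrix {N : ℕ} (W : Submodule k (Fin (N + 1) → k)) :
    ∃ M : Matrix (Fin (N + 1)) (Fin (N + 1)) k, M.det = 1 ∧
      ∀ p ∈ W, ∀ j : Fin (N + 1), Module.finrank k W ≤ j.val → (M.mulVec p) j = 0 := by
  classical
  set w := Module.finrank k W with hw
  have hwN : w ≤ N + 1 := by
    have := Submodule.finrank_le W
    simpa using this
  let ι : (Fin w → k) →ₗ[k] (Fin (N + 1) → k) :=
    { toFun := fun u j => if h : j.val < w then u ⟨j.val, h⟩ else 0
      map_add' := by
        intro u u'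
        funext j
        by_cases h : j.val < w <;> simp [h]
      map_smul' := by
        intro c u
        funext j
        by_cases h : j.val < w <;> simp [h] }
  have hι0 : ∀ u j, w ≤ j.val → ι u j = 0 := by
    intro u j hj
    show (if h : j.val < w then u ⟨j.val, h⟩ else 0) = 0
    rw [dif_neg (by omega)]
  have hιinj : Function.Injective ι := by
    intro u u' h
    funext i
    have := congrFun h ⟨i.val, by omega⟩
    change (if h : i.val < w then u ⟨i.val, h⟩ else 0) = (if h : i.val < w then u' ⟨i.val, h⟩ else 0) at this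
    rw [dif_pos i.2, dif_pos i.2] at this
    exact this
  let e : W ≃ₗ[k] (Fin w → k) := LinearEquiv.ofFinrankEq _ _ (by simp [hw])
  have hinj : Function.Injective (ι ∘ₗ e.toLinearMap) := hιinj.comp e.injective
  let f : W ≃ₗ[k] LinearMap.range (ι ∘ₗ e.toLinearMap) := LinearEquiv.ofInjective _ hinj
  obtain ⟨G, hG⟩ := Submodule.exists_linearEquiv_restrict_eq f
  let M₀ : Matrix (Fin (N + 1)) (Fin (N + 1)) k := LinearMap.toMatrix' G.toLinearMap
  have hM₀ : ∀ p, M₀.mulVec p = G p := fun p => LinearMap.toMatrix'_mulVec _ _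
  have hδ : M₀.det ≠ 0 := by
    have h1 : M₀.det = LinearMap.det G.toLinearMap := LinearMap.det_toMatrix' _
    rw [h1]
    exact (LinearEquiv.isUnit_det' G).ne_zero
  let D : Matrix (Fin (N + 1)) (Fin (N + 1)) k :=
    Matrix.diagonal (Function.update (fun _ => (1 : k)) 0 (M₀.det)⁻¹)
  refine ⟨D * M₀, ?_, ?_⟩
  · rw [Matrix.det_mul, Matrix.det_diagonal, Fin.prod_univ_succ]
    simp only [Function.update_self]
    have : ∀ i : Fin N, Function.update (fun _ => (1 : k)) 0 (M₀.det)⁻¹ i.succ = 1 := by
      intro i
      rw [Function.update_of_ne (Fin.succ_ne_zero i)]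
    simp only [this, Finset.prod_const_one, mul_one]
    exact inv_mul_cancel₀ hδ
  · intro p hp j hj
    rw [← Matrix.mulVec_mulVec, hM₀]
    have h1 : G p = ι (e ⟨p, hp⟩) := by
      rw [← hG ⟨p, hp⟩]
      rfl
    rw [h1, Matrix.mulVec_diagonal, hι0 _ _ hj, mul_zero]

end Adapted

section Points
variable {k : Type u} [Field k] [IsAlgClosed k]

theorem WtGE.mono {k : Type u} [CommSemiring k] {n : ℕ} {r : Fin n → ℤ} {P : MvPolynomial (Fin n) k}
    {c c' : ℤ} (h : WtGE r P c) (hc : c' ≤ c) : WtGE r P c' :=
  fun m hm => hc.trans (h m hm)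

theorem aeval_substVec_linear {n : ℕ} (g : Matrix (Fin n) (Fin n) k) (q : Fin n → k) :
    MvPolynomial.aeval (substVec g) (∑ j, MvPolynomial.C (q j) * MvPolynomial.X j) =
      ∑ l, MvPolynomial.C ((g.transpose.mulVec q) l) * MvPolynomial.X l := by
  simp only [map_sum, map_mul, MvPolynomial.aeval_C, MvPolynomial.aeval_X, substVec,
    Matrix.mulVec, dotProduct, Matrix.transpose_apply, Finset.mul_sum, Finset.sum_mul,
    MvPolynomial.algebraMap_eq]
  rw [Finset.sum_comm]
  refine Finset.sum_congr rfl fun l _ => Finset.sum_congr rfl fun j _ => ?_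
  ring

/-- necessity of the strict inequality for stable point configurations. -/
theorem card_mul_lt_of_isStableVec (n m : ℕ) (hm : (Nat.factorial m : k) ≠ 0)
    (p : Fin m → Fin (n + 1) → k) (a : FormIdx (n + 1) m → k)
    (ha : formPoly a = ∏ i, ∑ j, MvPolynomial.C (p i j) * MvPolynomial.X j)
    (hst : GLin.IsStableVec k (SLn (n + 1) k) a)
    (W : Submodule k (Fin (n + 1) → k)) (hW : W ≠ ⊥) (hW' : W ≠ ⊤) :
    Nat.card {i : Fin m // p i ∈ W} * (n + 1) < m * Module.finrank k W := by
  classical
  by_contra hge
  push Not at hge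
  obtain ⟨M, hMdet, hM⟩ := exists_adapted_matrix W
  set w := Module.finrank k W with hw
  have hw1 : 1 ≤ w := by
    have : 0 < Module.finrank k W := Module.finrank_pos_iff.mpr
      ((Submodule.nontrivial_iff_ne_bot).mpr hW)
    omega
  have hwn : w < n + 1 := by
    have := Submodule.finrank_lt hW'
    simpa using this
  let r : Fin (n + 1) → ℤ := fun j => (if j.val < w then ((n : ℤ) + 1) else 0) - w
  have hr : ∑ j, r j = 0 := by
    simp only [r, Finset.sum_sub_distrib, Finset.sum_const, Finset.card_univ, Fintype.card_fin]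
    rw [← Finset.sum_filter]
    have hc : (Finset.univ.filter (fun j : Fin (n + 1) => j.val < w)).card = w := by
      rw [Fin.card_filter_val_lt]
      omega
    rw [Finset.sum_const, hc]
    simp only [nsmul_eq_mul, Nat.cast_add, Nat.cast_one]
    ring
  have hr0 : r ≠ 0 := by
    intro h
    have := congrFun h 0
    simp only [r, Pi.zero_apply] at this
    have h0 : ((0 : Fin (n + 1)).val < w) := by
      show 0 < w
      omega
    rw [if_pos h0] at this
    omega
  refine not_isStableVec_of_form_weights hm a M.transpose (by rw [Matrix.det_transpose, hMdet]) r hr hr0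
    ?_ hst
  rw [ha, map_prod]
  simp only [aeval_substVec_linear, Matrix.transpose_transpose]
  let c : Fin m → ℤ := fun i => (if p i ∈ W then ((n : ℤ) + 1) else 0) - w
  have h1 : WtGE r (∏ i, ∑ l, MvPolynomial.C ((M.mulVec (p i)) l) * MvPolynomial.X l) (∑ i, c i) := by
    apply WtGE.prod
    intro i _
    apply WtGE.linear
    intro j hj
    simp only [c, r]
    by_cases hpi : p i ∈ W
    · rw [if_pos hpi]
      have : j.val < w := by
        by_contra hlt
        exact hj (hM (p i) hpi j (by omega))
      rw [if_pos this]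
    · rw [if_neg hpi]
      split_ifs
      · have : (0 : ℤ) ≤ (n : ℤ) + 1 := by positivity
        omega
      · exact le_refl _
  refine h1.mono ?_
  simp only [c, Finset.sum_sub_distrib, Finset.sum_const, Finset.card_univ, Fintype.card_fin]
  rw [← Finset.sum_filter, Finset.sum_const]
  have hcard : Nat.card {i : Fin m // p i ∈ W} = (Finset.univ.filter (fun i => p i ∈ W)).card := by
    rw [Nat.card_eq_fintype_card, Fintype.card_subtype]
  rw [hcard] at hge
  simp only [nsmul_eq_mul]
  have : ((m * w : ℕ) : ℤ) ≤ (((Finset.univ.filter (fun i => p i ∈ W)).card * (n + 1) : ℕ) : ℤ) := by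
    exact_mod_cast hge
  push_cast at this
  linarith

/-- a configuration of at most `n` points of projective `n`-space is never stable. -/
theorem not_isStableVec_of_le (n m : ℕ) (hn : 1 ≤ n) (hmn : m ≤ n) (hm : (Nat.factorial m : k) ≠ 0)
    (p : Fin m → Fin (n + 1) → k) (a : FormIdx (n + 1) m → k)
    (ha : formPoly a = ∏ i, ∑ j, MvPolynomial.C (p i j) * MvPolynomial.X j) :
    ¬ GLin.IsStableVec k (SLn (n + 1) k) a := by
  classical
  intro hst
  have key : ∀ W : Submodule k (Fin (n + 1) → k), W ≠ ⊥ → Module.finrank k W ≤ n →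
      (∀ i, p i ∈ W) → False := by
    intro W hW hdim hall
    have hW' : W ≠ ⊤ := by
      intro htop
      rw [htop] at hdim
      simp at hdim
    have h1 := card_mul_lt_of_isStableVec n m hm p a ha hst W hW hW'
    have hcard : Nat.card {i : Fin m // p i ∈ W} = m := by
      rw [Nat.card_eq_fintype_card, Fintype.card_subtype]
      have : (Finset.univ.filter (fun i => p i ∈ W)) = Finset.univ := by
        ext i
        simp [hall i]
      rw [this, Finset.card_univ, Fintype.card_fin]
    rw [hcard] at h1
    have h2 : m * Module.finrank k W ≤ m * n := Nat.mul_le_mul_left m hdim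
    have h3 : m * n ≤ m * (n + 1) := Nat.mul_le_mul_left m (by omega)
    omega
  by_cases hbot : Submodule.span k (Set.range p) = ⊥
  · have hp0 : ∀ i, p i = 0 := by
      intro i
      have : p i ∈ Submodule.span k (Set.range p) := Submodule.subset_span ⟨i, rfl⟩
      rw [hbot] at this
      exact (Submodule.mem_bot k).mp this
    let e0 : Fin (n + 1) → k := Pi.single 0 1
    have he0 : e0 ≠ 0 := by
      intro h
      have := congrFun h 0
      simp [e0] at this
    refine key (Submodule.span k {e0}) ?_ ?_ ?_
    · intro h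
      have : e0 ∈ Submodule.span k {e0} := Submodule.subset_span rfl
      rw [h] at this
      exact he0 ((Submodule.mem_bot k).mp this)
    · rw [finrank_span_singleton he0]
      exact hn
    · intro i
      rw [hp0 i]
      exact Submodule.zero_mem _
  · refine key (Submodule.span k (Set.range p)) hbot ?_ ?_
    · have := finrank_range_le_card (R := k) p
      have h2 : Set.finrank k (Set.range p) = Module.finrank k (Submodule.span k (Set.range p)) := rfl
      rw [h2, Fintype.card_fin] at this
      omega
    · intro i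
      exact Submodule.subset_span ⟨i, rfl⟩

end Points

end Groth.Agent.Lib.Helper24HM
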