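import Groth.Agent.Lib.Helper25ComodIso
import Mathlib.LinearAlgebra.Dual.Lemmas

/-!
# Left slices, subcoalgebras and coefficient spaces of comodules (helper25)
-/

set_option autoImplicit false
universe u v v' w w' x

namespace Groth.Agent.Lib.Helper25

open TensorProduct HopfRep

section LSlice

variable {k : Type u} [CommRing k] {A : Type v} [AddCommGroup A] [Module k A]
variable {W : Type w} [AddCommGroup W] [Module k W]

/-- The left slice map `W ⊗ A → A`, `w ⊗ a ↦ l w • a`. -/
noncomputable def lslice (l : W →ₗ[k] k) : W ⊗[k] A →ₗ[k] A :=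
  (TensorProduct.lid k A).toLinearMap ∘ₗ LinearMap.rTensor A l

@[simp] theorem lslice_tmul (l : W →ₗ[k] k) (w : W) (a : A) :
    lslice l (w ⊗ₜ[k] a) = l w • a := by
  simp [lslice]

theorem lslice_eq_slice_comm (l : W →ₗ[k] k) (x : W ⊗[k] A) :
    lslice l x = slice A l (TensorProduct.comm k W A x) := by
  induction x using TensorProduct.induction_on with
  | zero => simp
  | add x y hx hy => simp only [map_add, hx, hy]
  | tmul w a => simp

theorem lslice_lTensor {B : Type*} [AddCommGroup B] [Module k B] (l : W →ₗ[k] k) (f : A →ₗ[k] B)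
    (x : W ⊗[k] A) : lslice l (f.lTensor W x) = f (lslice l x) := by
  induction x using TensorProduct.induction_on with
  | zero => simp
  | add x y hx hy => simp only [map_add, hx, hy]
  | tmul w a => simp

theorem lslice_rTensor {W' : Type*} [AddCommGroup W'] [Module k W'] (l : W' →ₗ[k] k)
    (f : W →ₗ[k] W') (x : W ⊗[k] A) : lslice l (f.rTensor A x) = lslice (l ∘ₗ f) x := by
  induction x using TensorProduct.induction_on with
  | zero => simp
  | add x y hx hy => simp only [map_add, hx, hy]
  | tmul w a => simp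

theorem lslice_map {W' B : Type*} [AddCommGroup W'] [Module k W'] [AddCommGroup B] [Module k B]
    (l : W' →ₗ[k] k) (f : W →ₗ[k] W') (g : A →ₗ[k] B) (x : W ⊗[k] A) :
    lslice l (TensorProduct.map f g x) = g (lslice (l ∘ₗ f) x) := by
  induction x using TensorProduct.induction_on with
  | zero => simp
  | add x y hx hy => simp only [map_add, hx, hy]
  | tmul w a => simp

theorem slice_map {W' B : Type*} [AddCommGroup W'] [Module k W'] [AddCommGroup B] [Module k B]
    (φ : B →ₗ[k] k) (f : W →ₗ[k] W') (g : A →ₗ[k] B) (x : W ⊗[k] A) :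
    slice W' φ (TensorProduct.map f g x) = f (slice W (φ ∘ₗ g) x) := by
  induction x using TensorProduct.induction_on with
  | zero => simp
  | add x y hx hy => simp only [map_add, hx, hy]
  | tmul w a => simp

/-- Slicing on the left and then applying a functional is the same as slicing on the right and
applying the other functional. -/
theorem apply_lslice (l : W →ₗ[k] k) (φ : A →ₗ[k] k) (x : W ⊗[k] A) :
    φ (lslice l x) = l (slice W φ x) := by
  induction x using TensorProduct.induction_on with
  | zero => simp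
  | add x y hx hy => simp only [map_add, hx, hy]
  | tmul w a => simp [mul_comm]

theorem mem_range_lTensor_subtype_iff [Module.Free k W] (D : Submodule k A) (x : W ⊗[k] A) :
    x ∈ LinearMap.range (D.subtype.lTensor W) ↔ ∀ l : W →ₗ[k] k, lslice l x ∈ D := by
  have h := mem_range_rTensor_iff (A := W) D (TensorProduct.comm k W A x)
  simp only [← lslice_eq_slice_comm] at h
  rw [← h]
  constructor
  · rintro ⟨y, rfl⟩
    exact ⟨TensorProduct.comm k W D y, LinearMap.rTensor_comm _ _⟩
  · rintro ⟨y, hy⟩
    refine ⟨(TensorProduct.comm k W D).symm y, ?_⟩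
    apply (TensorProduct.comm k W A).injective
    rw [← hy, ← LinearMap.rTensor_comm, LinearEquiv.apply_symm_apply]

theorem eq_zero_of_lslice_eq_zero [Module.Free k W] (x : W ⊗[k] A)
    (h : ∀ l : W →ₗ[k] k, lslice l x = 0) : x = 0 := by
  have : TensorProduct.comm k W A x = 0 :=
    eq_zero_of_slice_eq_zero _ (fun l => by rw [← lslice_eq_slice_comm]; exact h l)
  simpa using this

end LSlice

section FieldSlice

variable {k : Type u} [Field k] {A : Type v} [AddCommGroup A] [Module k A]
variable {W : Type w} [AddCommGroup W] [Module k W]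

/-- Over a field, `x ∈ W ⊗ A` lies in `B ⊗ D` iff all its right slices lie in `B` and all its left
slices lie in `D`. -/
theorem mem_range_map_subtype_iff (B : Submodule k W) (D : Submodule k A) (x : W ⊗[k] A) :
    x ∈ LinearMap.range (TensorProduct.map B.subtype D.subtype) ↔
      (∀ φ : A →ₗ[k] k, slice W φ x ∈ B) ∧ (∀ l : W →ₗ[k] k, lslice l x ∈ D) := by
  constructor
  · rintro ⟨y, rfl⟩
    refine ⟨fun φ => ?_, fun l => ?_⟩
    · rw [slice_map]
      exact (slice B (φ ∘ₗ D.subtype) y).2
    · rw [lslice_map]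
      exact (lslice (l ∘ₗ B.subtype) y).2
  · rintro ⟨h1, h2⟩
    obtain ⟨y, rfl⟩ := (mem_range_rTensor_iff B x).mpr h1
    have hy : y ∈ LinearMap.range (D.subtype.lTensor B) := by
      rw [mem_range_lTensor_subtype_iff]
      intro l'
      obtain ⟨l, hl⟩ := LinearMap.exists_extend l'
      have := h2 l
      rw [lslice_rTensor, hl] at this
      exact this
    obtain ⟨z, rfl⟩ := hy
    refine ⟨z, ?_⟩
    rw [← LinearMap.comp_apply, LinearMap.rTensor_comp_lTensor]

end FieldSlice

section AssocSlices

variable {k : Type u} [CommRing k] {A : Type v} [AddCommGroup A] [Module k A]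
variable {V : Type w} [AddCommGroup V] [Module k V]

theorem lslice_assoc (l : V →ₗ[k] k) (z : (V ⊗[k] A) ⊗[k] A) :
    lslice l (TensorProduct.assoc k V A A z) = (lslice l).rTensor A z := by
  suffices h : lslice l ∘ₗ (TensorProduct.assoc k V A A).toLinearMap = (lslice l).rTensor A from
    LinearMap.congr_fun h z
  apply TensorProduct.ext_threefold
  intro v a b
  simp [TensorProduct.smul_tmul']

theorem slice_lslice_assoc (l : V →ₗ[k] k) (φ : A →ₗ[k] k) (z : (V ⊗[k] A) ⊗[k] A) :
    slice A φ (lslice l (TensorProduct.assoc k V A A z)) = lslice l (slice (V ⊗[k] A) φ z) := by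
  suffices h : slice A φ ∘ₗ lslice l ∘ₗ (TensorProduct.assoc k V A A).toLinearMap =
      lslice l ∘ₗ slice (V ⊗[k] A) φ from LinearMap.congr_fun h z
  apply TensorProduct.ext_threefold
  intro v a b
  simp only [LinearMap.compr₂ₛₗ_apply, TensorProduct.mk_apply, LinearMap.coe_comp,
    LinearEquiv.coe_coe, Function.comp_apply, TensorProduct.assoc_tmul, lslice_tmul, map_smul,
    slice_tmul]
  rw [smul_comm]

theorem lslice_lslice_assoc (l : V →ₗ[k] k) (φ : A →ₗ[k] k) (z : (V ⊗[k] A) ⊗[k] A) :
    lslice φ (lslice l (TensorProduct.assoc k V A A z)) = lslice (φ ∘ₗ lslice l) z := by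
  suffices h : lslice φ ∘ₗ lslice l ∘ₗ (TensorProduct.assoc k V A A).toLinearMap =
      lslice (φ ∘ₗ lslice l) from LinearMap.congr_fun h z
  apply TensorProduct.ext_threefold
  intro v a b
  simp [smul_smul, mul_comm]

end AssocSlices

section Coeff

variable {k : Type u} [CommRing k] {A : Type v} [AddCommGroup A] [Module k A] [Coalgebra k A]
variable {V : Type w} [AddCommGroup V] [Module k V] [Comod k A V]
variable {W : Type w'} [AddCommGroup W] [Module k W] [Comod k A W]

/-- The matrix-coefficient map `v ↦ (l ⊗ id)(ρ v)` attached to a functional `l` on a comodule. -/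
noncomputable def coeffMap (l : V →ₗ[k] k) : V →ₗ[k] A :=
  lslice l ∘ₗ Comod.coact (k := k) (A := A)

theorem coeffMap_apply (l : V →ₗ[k] k) (v : V) :
    coeffMap (A := A) l v = lslice l (Comod.coact (k := k) (A := A) v) := rfl

/-- Matrix-coefficient maps are comodule maps to the regular comodule. -/
theorem isComodHom_coeffMap (l : V →ₗ[k] k) : Hoch.IsComodHom A (coeffMap (A := A) l) := by
  apply LinearMap.ext
  intro v
  show CoalgebraStruct.comul (R := k) (lslice l (Comod.coact (k := k) (A := A) v)) =
    (coeffMap (A := A) l).rTensor A (Comod.coact (k := k) (A := A) v)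
  rw [← lslice_lTensor]
  have h := LinearMap.congr_fun (Comod.coassoc (k := k) (A := A) (V := V)) v
  simp only [LinearMap.coe_comp, Function.comp_apply, LinearEquiv.coe_coe] at h
  rw [← h, lslice_assoc, coeffMap, LinearMap.rTensor_comp]
  rfl

theorem counit_coeffMap (l : V →ₗ[k] k) (v : V) :
    CoalgebraStruct.counit (R := k) (coeffMap (A := A) l v) = l v := by
  rw [coeffMap_apply, apply_lslice, ← T_apply, T_counit]

theorem T_coeffMap (φ : A →ₗ[k] k) (l : V →ₗ[k] k) (v : V) :
    T φ (coeffMap (A := A) l v) = coeffMap l (T φ v) :=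
  (map_T_of_isComodHom (isComodHom_coeffMap l) φ v).symm

theorem lslice_comul_coeffMap (φ : A →ₗ[k] k) (l : V →ₗ[k] k) (v : V) :
    lslice φ (CoalgebraStruct.comul (R := k) (coeffMap (A := A) l v)) =
      coeffMap (φ ∘ₗ coeffMap (A := A) l) v := by
  rw [coeffMap_apply, ← lslice_lTensor]
  have h := LinearMap.congr_fun (Comod.coassoc (k := k) (A := A) (V := V)) v
  simp only [LinearMap.coe_comp, Function.comp_apply, LinearEquiv.coe_coe] at h
  rw [← h, lslice_lslice_assoc, lslice_rTensor]
  rfl

/-- Compatibility of matrix coefficients with comodule maps. -/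
theorem coeffMap_comp_of_isComodHom {g : V →ₗ[k] W} (hg : Hoch.IsComodHom A g) (l : W →ₗ[k] k) :
    coeffMap (A := A) l ∘ₗ g = coeffMap (l ∘ₗ g) := by
  apply LinearMap.ext
  intro v
  rw [LinearMap.comp_apply, coeffMap_apply, isComodHom_apply hg, lslice_rTensor]
  rfl

/-- A comodule map to the regular comodule is a matrix-coefficient map. -/
theorem eq_coeffMap_of_isComodHom {g : V →ₗ[k] A} (hg : Hoch.IsComodHom A g) :
    g = coeffMap (A := A) ((CoalgebraStruct.counit (R := k) (A := A)) ∘ₗ g) := by
  apply LinearMap.ext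
  intro v
  rw [← coeffMap_comp_of_isComodHom hg, LinearMap.comp_apply, coeffMap_apply]
  show g v = lslice _ (CoalgebraStruct.comul (R := k) (g v))
  have := LinearMap.congr_fun (Coalgebra.rTensor_counit_comp_comul (R := k) (A := A)) (g v)
  simp only [LinearMap.coe_comp, Function.comp_apply] at this
  rw [lslice, LinearMap.comp_apply, this]
  simp

variable (k A V) in
/-- The coefficient space of a comodule: the span of all its matrix coefficients. -/
noncomputable def coeffSpace : Submodule k A :=
  ⨆ l : V →ₗ[k] k, LinearMap.range (coeffMap (A := A) l)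

theorem coeffMap_mem_coeffSpace (l : V →ₗ[k] k) (v : V) :
    coeffMap (A := A) l v ∈ coeffSpace k A V :=
  Submodule.mem_iSup_of_mem l ⟨v, rfl⟩

theorem coeffSpace_le_iff [Module.Free k V] (D' : Submodule k A) :
    coeffSpace k A V ≤ D' ↔ ∀ v : V, Comod.coact (k := k) (A := A) v ∈
      LinearMap.range (D'.subtype.lTensor V) := by
  constructor
  · intro h v
    rw [mem_range_lTensor_subtype_iff]
    intro l
    exact h (coeffMap_mem_coeffSpace l v)
  · intro h
    apply iSup_le
    rintro l _ ⟨v, rfl⟩
    exact (mem_range_lTensor_subtype_iff D' _).mp (h v) l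

theorem isLeast_coeffSpace [Module.Free k V] :
    IsLeast {D' : Submodule k A | ∀ v : V, Comod.coact (k := k) (A := A) v ∈
      LinearMap.range (D'.subtype.lTensor V)} (coeffSpace k A V) :=
  ⟨(coeffSpace_le_iff _).mp le_rfl, fun _ hD' => (coeffSpace_le_iff _).mpr hD'⟩

theorem range_le_coeffSpace_of_isComodHom {g : V →ₗ[k] A} (hg : Hoch.IsComodHom A g) :
    LinearMap.range g ≤ coeffSpace k A V := by
  rintro _ ⟨v, rfl⟩
  rw [eq_coeffMap_of_isComodHom hg]
  exact coeffMap_mem_coeffSpace _ v

theorem coeffSpace_le_of_surjective {g : V →ₗ[k] W} (hg : Hoch.IsComodHom A g)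
    (hs : Function.Surjective g) : coeffSpace k A W ≤ coeffSpace k A V := by
  apply iSup_le
  rintro l _ ⟨w, rfl⟩
  obtain ⟨v, rfl⟩ := hs w
  rw [← LinearMap.comp_apply, coeffMap_comp_of_isComodHom hg]
  exact coeffMap_mem_coeffSpace _ v

end Coeff

section Subcoalg

variable {k : Type u} [Field k] {A : Type v} [AddCommGroup A] [Module k A] [Coalgebra k A]
variable {V : Type w} [AddCommGroup V] [Module k V] [Comod k A V]
variable {W : Type w'} [AddCommGroup W] [Module k W] [Comod k A W]

/-- A subcoalgebra: a subspace `B` with `Δ B ⊆ B ⊗ B`. -/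
def IsSubcoalg (B : Submodule k A) : Prop :=
  ∀ b ∈ B, CoalgebraStruct.comul (R := k) b ∈
    LinearMap.range (TensorProduct.map B.subtype B.subtype)

theorem isSubcoalg_iff (B : Submodule k A) :
    IsSubcoalg B ↔ (∀ b ∈ B, ∀ φ : A →ₗ[k] k, slice A φ (CoalgebraStruct.comul (R := k) b) ∈ B) ∧
      (∀ b ∈ B, ∀ φ : A →ₗ[k] k, lslice φ (CoalgebraStruct.comul (R := k) b) ∈ B) := by
  unfold IsSubcoalg
  simp only [mem_range_map_subtype_iff]
  constructor
  · intro h
    exact ⟨fun b hb => (h b hb).1, fun b hb => (h b hb).2⟩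
  · intro h b hb
    exact ⟨h.1 b hb, h.2 b hb⟩

theorem IsSubcoalg.isSubcomod {B : Submodule k A} (hB : IsSubcoalg B) :
    IsSubcomod (k := k) (A := A) B := by
  rw [isSubcomod_iff]
  intro φ b hb
  exact ((isSubcoalg_iff B).mp hB).1 b hb φ

theorem isSubcoalg_bot : IsSubcoalg (⊥ : Submodule k A) := by
  intro b hb
  rw [Submodule.mem_bot] at hb
  rw [hb, map_zero]
  exact Submodule.zero_mem _

theorem isSubcoalg_top : IsSubcoalg (⊤ : Submodule k A) := by
  rw [isSubcoalg_iff]
  exact ⟨fun _ _ _ => Submodule.mem_top, fun _ _ _ => Submodule.mem_top⟩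

theorem isSubcoalg_inf {B B' : Submodule k A} (hB : IsSubcoalg B) (hB' : IsSubcoalg B') :
    IsSubcoalg (B ⊓ B') := by
  rw [isSubcoalg_iff] at hB hB' ⊢
  exact ⟨fun b hb φ => ⟨hB.1 b hb.1 φ, hB'.1 b hb.2 φ⟩, fun b hb φ => ⟨hB.2 b hb.1 φ, hB'.2 b hb.2 φ⟩⟩

theorem isSubcoalg_iSup {ι : Sort*} {B : ι → Submodule k A} (hB : ∀ i, IsSubcoalg (B i)) :
    IsSubcoalg (⨆ i, B i) := by
  rw [isSubcoalg_iff]
  constructor
  · intro b hb φ
    induction hb using Submodule.iSup_induction' with
    | mem i x hx => exact Submodule.mem_iSup_of_mem i (((isSubcoalg_iff _).mp (hB i)).1 x hx φ)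
    | zero => simp
    | add x y _ _ hx hy => rw [map_add, map_add]; exact Submodule.add_mem _ hx hy
  · intro b hb φ
    induction hb using Submodule.iSup_induction' with
    | mem i x hx => exact Submodule.mem_iSup_of_mem i (((isSubcoalg_iff _).mp (hB i)).2 x hx φ)
    | zero => simp
    | add x y _ _ hx hy => rw [map_add, map_add]; exact Submodule.add_mem _ hx hy

/-- The coefficient space of a comodule is a subcoalgebra. -/
theorem isSubcoalg_coeffSpace : IsSubcoalg (coeffSpace k A V) := by
  rw [isSubcoalg_iff]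
  constructor
  · intro b hb φ
    unfold coeffSpace at hb
    induction hb using Submodule.iSup_induction' with
    | mem l x hx =>
      obtain ⟨v, rfl⟩ := hx
      have := T_coeffMap (A := A) φ l v
      rw [T_apply] at this
      erw [this]
      exact coeffMap_mem_coeffSpace _ _
    | zero => simp
    | add x y _ _ hx hy => rw [map_add, map_add]; exact Submodule.add_mem _ hx hy
  · intro b hb φ
    unfold coeffSpace at hb
    induction hb using Submodule.iSup_induction' with
    | mem l x hx =>
      obtain ⟨v, rfl⟩ := hx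
      rw [lslice_comul_coeffMap]
      exact coeffMap_mem_coeffSpace _ _
    | zero => simp
    | add x y _ _ hx hy => rw [map_add, map_add]; exact Submodule.add_mem _ hx hy

theorem coeffSpace_ne_bot [Nontrivial V] : coeffSpace k A V ≠ ⊥ := by
  intro h
  obtain ⟨v, hv⟩ := exists_ne (0 : V)
  apply hv
  rw [← Module.forall_dual_apply_eq_zero_iff k]
  intro l
  have : coeffMap (A := A) l v ∈ coeffSpace k A V := coeffMap_mem_coeffSpace l v
  rw [h, Submodule.mem_bot] at this
  rw [← counit_coeffMap (A := A), this, map_zero]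

theorem coeffSpace_le_of_injective {g : V →ₗ[k] W} (hg : Hoch.IsComodHom A g)
    (hi : Function.Injective g) : coeffSpace k A V ≤ coeffSpace k A W := by
  apply iSup_le
  rintro l _ ⟨v, rfl⟩
  obtain ⟨l', hl'⟩ := LinearMap.exists_leftInverse_of_injective g (LinearMap.ker_eq_bot.mpr hi)
  have : l = (l ∘ₗ l') ∘ₗ g := by rw [LinearMap.comp_assoc, hl', LinearMap.comp_id]
  rw [this, ← coeffMap_comp_of_isComodHom hg]
  exact coeffMap_mem_coeffSpace _ _

/-- If a comodule map `g : V → A` (regular comodule) is injective with image inside a subcoalgebra `B`,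
then the coefficient space of `V` is inside `B`. -/
theorem coeffSpace_le_of_range_le {g : V →ₗ[k] A} (hg : Hoch.IsComodHom A g)
    (hi : Function.Injective g) {B : Submodule k A} (hB : IsSubcoalg B)
    (hr : LinearMap.range g ≤ B) : coeffSpace k A V ≤ B := by
  apply iSup_le
  rintro l _ ⟨v, rfl⟩
  obtain ⟨l', hl'⟩ := LinearMap.exists_leftInverse_of_injective g (LinearMap.ker_eq_bot.mpr hi)
  have : l = (l ∘ₗ l') ∘ₗ g := by rw [LinearMap.comp_assoc, hl', LinearMap.comp_id]
  rw [this, coeffMap_apply, ← lslice_rTensor, ← isComodHom_apply hg]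
  exact ((isSubcoalg_iff B).mp hB).2 _ (hr ⟨v, rfl⟩) _

end Subcoalg

end Groth.Agent.Lib.Helper25
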