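import Groth.Agent.Lib.Helper25CoactAlg
import Mathlib.RingTheory.MvPolynomial.Homogeneous

/-!
# Linear coactions on polynomial rings are graded (helper25)
-/

set_option autoImplicit false
universe u v w

namespace Groth.Agent.Lib.Helper25

open TensorProduct HopfRep MvPolynomial

section HomComp

variable {k : Type u} [CommRing k] {ι : Type w}

theorem homogeneousComponent_mul_X (d : ℕ) (q : MvPolynomial ι k) (j : ι) :
    homogeneousComponent (d + 1) (q * X j) = homogeneousComponent d q * X j := by
  induction q using MvPolynomial.induction_on' with
  | monomial s c =>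
    have h1 : (monomial s c * X j : MvPolynomial ι k) = monomial (s + Finsupp.single j 1) c := by
      rw [X, monomial_mul, mul_one]
    have hdeg : (s + Finsupp.single j 1).degree = s.degree + 1 := by
      rw [map_add, Finsupp.degree_single]
    rw [h1, homogeneousComponent_of_mem (isHomogeneous_monomial c hdeg),
      homogeneousComponent_of_mem (isHomogeneous_monomial c rfl)]
    by_cases h : d = s.degree
    · subst h; simp [h1]
    · have : ¬ (d + 1 = s.degree + 1) := fun h' => h (Nat.succ_injective h')
      simp [h, this]
  | add p q hp hq => rw [add_mul, map_add, hp, hq, map_add, add_mul]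

theorem homogeneousComponent_zero_mul_X (q : MvPolynomial ι k) (j : ι) :
    homogeneousComponent 0 (q * X j) = 0 := by
  induction q using MvPolynomial.induction_on' with
  | monomial s c =>
    have h1 : (monomial s c * X j : MvPolynomial ι k) = monomial (s + Finsupp.single j 1) c := by
      rw [X, monomial_mul, mul_one]
    have hdeg : (s + Finsupp.single j 1).degree = s.degree + 1 := by
      rw [map_add, Finsupp.degree_single]
    rw [h1, homogeneousComponent_of_mem (isHomogeneous_monomial c hdeg)]
    simp
  | add p q hp hq => rw [add_mul, map_add, hp, hq, add_zero]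

end HomComp

section Graded

variable {k : Type u} [Field k] {A : Type v} [CommRing A] [Bialgebra k A]
variable {ι : Type w} [Fintype ι] [Comod k A (MvPolynomial ι k)]
  [GLin.IsCoactAlg k A (MvPolynomial ι k)]

omit [Fintype ι] [Comod k A (MvPolynomial ι k)] [GLin.IsCoactAlg k A (MvPolynomial ι k)] in
theorem rTensor_homogeneousComponent_mul (d : ℕ) (y : MvPolynomial ι k ⊗[k] A) (j : ι) (m : A) :
    (homogeneousComponent (d + 1)).rTensor A (y * ((X j : MvPolynomial ι k) ⊗ₜ[k] m)) =
      (homogeneousComponent d).rTensor A y * ((X j : MvPolynomial ι k) ⊗ₜ[k] m) := by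
  induction y using TensorProduct.induction_on with
  | zero => simp
  | add x y hx hy => rw [add_mul, map_add, hx, hy, map_add, add_mul]
  | tmul q a =>
    simp only [Algebra.TensorProduct.tmul_mul_tmul, LinearMap.rTensor_tmul,
      homogeneousComponent_mul_X]

omit [Fintype ι] [Comod k A (MvPolynomial ι k)] [GLin.IsCoactAlg k A (MvPolynomial ι k)] in
theorem rTensor_homogeneousComponent_zero_mul (y : MvPolynomial ι k ⊗[k] A) (j : ι) (m : A) :
    (homogeneousComponent 0).rTensor A (y * ((X j : MvPolynomial ι k) ⊗ₜ[k] m)) = 0 := by
  induction y using TensorProduct.induction_on with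
  | zero => simp
  | add x y hx hy => rw [add_mul, map_add, hx, hy, add_zero]
  | tmul q a =>
    simp only [Algebra.TensorProduct.tmul_mul_tmul, LinearMap.rTensor_tmul,
      homogeneousComponent_zero_mul_X, TensorProduct.zero_tmul]

/-- A linear coaction commutes with taking homogeneous components. -/
theorem coact_homogeneousComponent (hlin : GLin.IsLinear k A ι) (d : ℕ) (p : MvPolynomial ι k) :
    (homogeneousComponent d).rTensor A (Comod.coact (k := k) (A := A) p) =
      Comod.coact (k := k) (A := A) (homogeneousComponent d p) := by
  induction p using MvPolynomial.induction_on generalizing d with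
  | C c =>
    have h1 : Comod.coact (k := k) (A := A) (C c : MvPolynomial ι k) =
        (C c : MvPolynomial ι k) ⊗ₜ[k] (1 : A) := by
      have : (C c : MvPolynomial ι k) = c • 1 := by
        rw [MvPolynomial.smul_eq_C_mul, mul_one]
      rw [this, map_smul, GLin.IsCoactAlg.coact_one (k := k) (A := A),
        Algebra.TensorProduct.one_def, TensorProduct.smul_tmul']
    rw [h1, LinearMap.rTensor_tmul]
    have h2 : homogeneousComponent d (C c : MvPolynomial ι k) = if d = 0 then C c else 0 :=
      homogeneousComponent_of_mem (isHomogeneous_C ι c)
    rw [h2]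
    by_cases hd : d = 0
    · rw [if_pos hd, h1]
    · rw [if_neg hd, TensorProduct.zero_tmul, map_zero]
  | add p q hp hq => rw [map_add, map_add, hp, hq, map_add, map_add]
  | mul_X p j hp =>
    obtain ⟨m, hm⟩ := hlin j
    rw [coact_mul, hm, Finset.mul_sum, map_sum]
    cases d with
    | zero =>
      rw [homogeneousComponent_zero_mul_X, map_zero]
      exact Finset.sum_eq_zero (fun i _ => rTensor_homogeneousComponent_zero_mul _ i (m i))
    | succ d =>
      rw [homogeneousComponent_mul_X, coact_mul, hm, ← hp d, Finset.mul_sum]
      exact Finset.sum_congr rfl (fun i _ => rTensor_homogeneousComponent_mul d _ i (m i))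

/-- Homogeneous components of invariants of a linear coaction are invariant. -/
theorem homogeneousComponent_mem_invariants (hlin : GLin.IsLinear k A ι) (d : ℕ)
    {F : MvPolynomial ι k} (hF : F ∈ GLin.invariants k A (MvPolynomial ι k)) :
    homogeneousComponent d F ∈ GLin.invariants k A (MvPolynomial ι k) := by
  have hF' : Comod.coact (k := k) (A := A) F = F ⊗ₜ[k] (1 : A) := hF
  change Comod.coact (k := k) (A := A) (homogeneousComponent d F) = _
  rw [← coact_homogeneousComponent hlin, hF', LinearMap.rTensor_tmul]

end Graded

end Groth.Agent.Lib.Helper25
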