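import Mathlib

/-!
# Indecomposable injectives in a Grothendieck abelian category are uniform (helper24)

Namespace `Groth.Agent.Lib.Helper24Uniform`.

* `inf_eq_bot_iff`: `A ⊓ B = ⊥` in `Subobject E` iff every map factoring through both is zero.
* `iSup_inf_eq_bot`, `sSup_inf_eq_bot_of_chain`: AB5 in lattice form (disjointness passes to directed unions).
* `exists_maximal_disjoint`: Zorn: a maximal subobject containing `R` and disjoint from `Q`.
* `nonempty_iso_biprod`: mutual complements `N`, `N'` in an injective object `E` give `E ≅ N ⊞ N'`.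
* `uniform`: in an indecomposable injective, two nonzero subobjects meet nontrivially.
-/
set_option autoImplicit false
set_option backward.isDefEq.respectTransparency.types false
set_option maxHeartbeats 4000000
set_option synthInstance.maxHeartbeats 400000
universe w v u
open CategoryTheory CategoryTheory.Limits ZeroObject

namespace Groth.Agent.Lib.Helper24Uniform

variable {C : Type u} [Category.{v} C] [Abelian C]

section basic
variable {E : C}

lemma inf_eq_bot_iff (A B : Subobject E) :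
    A ⊓ B = ⊥ ↔ ∀ (T : C) (g : T ⟶ E), A.Factors g → B.Factors g → g = 0 := by
  constructor
  · intro h T g hA hB
    have h1 : (A ⊓ B).Factors g := (Subobject.inf_factors g).2 ⟨hA, hB⟩
    rw [h] at h1
    exact (Subobject.bot_factors_iff_zero g).1 h1
  · intro h
    have h1 := h _ (A ⊓ B).arrow (Subobject.inf_arrow_factors_left A B)
      (Subobject.inf_arrow_factors_right A B)
    rw [← Subobject.mk_arrow (A ⊓ B)]
    exact (Subobject.mk_eq_bot_iff_zero).2 h1

lemma isPullback_zero {A B Z : C} (a : A ⟶ E) (b : B ⟶ E) [Mono a] [Mono b] (hZ : IsZero Z)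
    (h : ∀ (T : C) (x : T ⟶ A) (y : T ⟶ B), x ≫ a = y ≫ b → x ≫ a = 0) :
    IsPullback (0 : Z ⟶ A) (0 : Z ⟶ B) a b := by
  refine ⟨⟨by simp⟩, ⟨PullbackCone.IsLimit.mk _ (fun s => 0) (fun s => ?_) (fun s => ?_)
    (fun s m _ _ => hZ.eq_of_tgt _ _)⟩⟩
  · have h1 := h _ s.fst s.snd s.condition
    rw [zero_comp]
    exact ((cancel_mono a).1 (by rw [h1, zero_comp])).symm
  · have h1 := h _ s.fst s.snd s.condition
    rw [s.condition] at h1
    rw [zero_comp]
    exact ((cancel_mono b).1 (by rw [h1, zero_comp])).symm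

lemma eq_zero_of_isPullback_zero {A B Z T : C} {a : A ⟶ E} {b : B ⟶ E} {z₁ : Z ⟶ A} {z₂ : Z ⟶ B}
    (hZ : IsZero Z) (sq : IsPullback z₁ z₂ a b) (x : T ⟶ A) (y : T ⟶ B) (hxy : x ≫ a = y ≫ b) :
    x = 0 := by
  have h1 := sq.lift_fst x y hxy
  rw [← h1, hZ.eq_of_tgt (sq.lift x y hxy) 0, zero_comp]

end basic

section AB5
variable [IsGrothendieckAbelian.{w} C] {E : C} {J : Type w} [SmallCategory J] [IsFiltered J]
  (F : J ⥤ MonoOver E) (Q : Subobject E)

attribute [local instance] IsFiltered.isConnected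

lemma iSup_inf_eq_bot (h : ∀ j, Subobject.mk (F.obj j).obj.hom ⊓ Q = ⊥) :
    (⨆ j, Subobject.mk (F.obj j).obj.hom) ⊓ Q = ⊥ := by
  let G : J ⥤ C := F ⋙ MonoOver.forget _ ⋙ Over.forget _
  let α : G ⟶ (Functor.const J).obj E :=
    { app j := (F.obj j).obj.hom
      naturality := fun j j' φ => by
        dsimp [G]
        simp [MonoOver.forget] }
  let β : (Functor.const J).obj (Q : C) ⟶ (Functor.const J).obj E := (Functor.const J).map Q.arrow
  let f : (colim : (J ⥤ C) ⥤ C).obj G ⟶ E := colimit.desc G (Cocone.mk E α)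
  have hf : ∀ j, colimit.ι G j ≫ f = (F.obj j).obj.hom := fun j => by simp [f, α]
  haveI := IsGrothendieckAbelian.mono_of_isColimit_monoOver F (colimit.isColimit _) f hf
  rw [← IsGrothendieckAbelian.subobjectMk_of_isColimit_eq_iSup F (colimit.isColimit _) f hf]
  -- the pointwise pullback square
  let Z : J ⥤ C := (Functor.const J).obj (0 : C)
  have sq : IsPullback (0 : Z ⟶ G) (0 : Z ⟶ (Functor.const J).obj (Q : C)) α β := by
    apply IsPullback.of_forall_isPullback_app
    intro j
    haveI : Mono (α.app j) := (F.obj j).property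
    haveI : Mono (β.app j) := by dsimp [β]; infer_instance
    refine isPullback_zero (α.app j) (β.app j) (isZero_zero C) ?_
    intro T x y hxy
    refine (inf_eq_bot_iff _ _).1 (h j) T (x ≫ α.app j)
      ((Subobject.mk_factors_iff _ _).2 ⟨x, rfl⟩) ?_
    rw [hxy]
    exact Q.factors_comp_arrow y
  have sq2 := sq.map (colim : (J ⥤ C) ⥤ C)
  have hZ : IsZero ((colim : (J ⥤ C) ⥤ C).obj Z) :=
    IsZero.of_iso (isZero_zero C)
      (IsColimit.coconePointUniqueUpToIso (colimit.isColimit _) (isColimitConstCocone J (0 : C)))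
  rw [inf_eq_bot_iff]
  intro T g hA hB
  obtain ⟨a, ha⟩ : ∃ a : T ⟶ (colim : (J ⥤ C) ⥤ C).obj G, a ≫ f = g := (Subobject.mk_factors_iff f g).1 hA
  obtain ⟨b, hb⟩ : ∃ b : T ⟶ (Q : C), b ≫ Q.arrow = g := ⟨Q.factorThru g hB, Q.factorThru_arrow g hB⟩
  -- identify colim of constants
  let eE : (colim : (J ⥤ C) ⥤ C).obj ((Functor.const J).obj E) ≅ E :=
    IsColimit.coconePointUniqueUpToIso (colimit.isColimit _) (isColimitConstCocone J E)
  let eQ : (colim : (J ⥤ C) ⥤ C).obj ((Functor.const J).obj (Q : C)) ≅ (Q : C) :=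
    IsColimit.coconePointUniqueUpToIso (colimit.isColimit _) (isColimitConstCocone J (Q : C))
  have h1 : (colim : (J ⥤ C) ⥤ C).map α ≫ eE.hom = f := by
    apply colimit.hom_ext
    intro j
    have e1 : colimit.ι ((Functor.const J).obj E) j ≫ eE.hom = 𝟙 E :=
      IsColimit.comp_coconePointUniqueUpToIso_hom (colimit.isColimit _) (isColimitConstCocone J E) j
    change colimit.ι G j ≫ colimMap α ≫ eE.hom = colimit.ι G j ≫ f
    rw [ι_colimMap_assoc, e1, hf]
    exact Category.comp_id _
  have h2 : (colim : (J ⥤ C) ⥤ C).map β ≫ eE.hom = eQ.hom ≫ Q.arrow := by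
    apply colimit.hom_ext
    intro j
    have e1 : colimit.ι ((Functor.const J).obj E) j ≫ eE.hom = 𝟙 E :=
      IsColimit.comp_coconePointUniqueUpToIso_hom (colimit.isColimit _) (isColimitConstCocone J E) j
    have e2 : colimit.ι ((Functor.const J).obj (Q : C)) j ≫ eQ.hom = 𝟙 (Q : C) :=
      IsColimit.comp_coconePointUniqueUpToIso_hom (colimit.isColimit _)
        (isColimitConstCocone J (Q : C)) j
    change colimit.ι ((Functor.const J).obj (Q : C)) j ≫ colimMap β ≫ eE.hom =
      colimit.ι ((Functor.const J).obj (Q : C)) j ≫ eQ.hom ≫ Q.arrow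
    rw [ι_colimMap_assoc, e1, ← Category.assoc, e2]
    exact (Category.comp_id _).trans (Category.id_comp _).symm
  have h3 : a ≫ (colim : (J ⥤ C) ⥤ C).map α = (b ≫ eQ.inv) ≫ (colim : (J ⥤ C) ⥤ C).map β := by
    rw [← cancel_mono eE.hom, Category.assoc, Category.assoc, h1, h2, Category.assoc,
      Iso.inv_hom_id_assoc, ha, hb]
  have h4 := eq_zero_of_isPullback_zero hZ sq2 a (b ≫ eQ.inv) h3
  rw [← ha, h4, zero_comp]

end AB5

section Zorn
variable [IsGrothendieckAbelian.{w} C] {E : C}

/-- index type (in universe `w`) for a set of subobjects -/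
structure ChainIdx (c : Set (Subobject E)) : Type w where
  /-- the shrunk element -/
  val : Shrink.{w} c

/-- the subobject attached to an index -/
noncomputable def ChainIdx.sub {c : Set (Subobject E)} (j : ChainIdx.{w} c) : Subobject E :=
  ((equivShrink c).symm j.val).1

noncomputable instance (c : Set (Subobject E)) : Preorder (ChainIdx.{w} c) :=
  Preorder.lift ChainIdx.sub

lemma sSup_inf_eq_bot_of_chain (c : Set (Subobject E)) (hc : IsChain (· ≤ ·) c) (hne : c.Nonempty)
    (Q : Subobject E) (h : ∀ P ∈ c, P ⊓ Q = ⊥) : sSup c ⊓ Q = ⊥ := by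
  classical
  let J : Type w := ChainIdx.{w} c
  let φ : J → Subobject E := ChainIdx.sub
  have hφ : ∀ j, φ j ∈ c := fun j => ((equivShrink c).symm j.val).2
  haveI : Nonempty J := ⟨⟨equivShrink c ⟨hne.some, hne.some_mem⟩⟩⟩
  haveI : IsDirectedOrder J := ⟨fun i j => by
    rcases hc.total (hφ i) (hφ j) with hij | hij
    · exact ⟨j, hij, le_refl (φ j)⟩
    · exact ⟨i, le_refl (φ i), hij⟩⟩
  haveI : IsFiltered J := isFiltered_of_directed_le_nonempty J
  let F : J ⥤ MonoOver E :=
    { obj := fun j => MonoOver.mk (φ j).arrow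
      map := fun {i j} f => MonoOver.homMk (Subobject.ofLE (φ i) (φ j) (show φ i ≤ φ j from (leOfHom f : i ≤ j))) (by simp)
      map_id := fun _ => Subsingleton.elim _ _
      map_comp := fun _ _ => Subsingleton.elim _ _ }
  have hF : ∀ j, Subobject.mk (F.obj j).obj.hom = φ j := fun j => Subobject.mk_arrow (φ j)
  have h1 := iSup_inf_eq_bot F Q (fun j => by rw [hF]; exact h _ (hφ j))
  have h2 : (⨆ j, Subobject.mk (F.obj j).obj.hom) = sSup c := by
    apply le_antisymm
    · refine iSup_le fun j => ?_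
      rw [hF]
      exact le_sSup (hφ j)
    · refine sSup_le fun P hP => ?_
      have : P = φ ⟨equivShrink c ⟨P, hP⟩⟩ := by
        simp [φ, ChainIdx.sub]
      rw [this, ← hF]
      exact le_iSup (fun j => Subobject.mk (F.obj j).obj.hom) _
  rw [← h2]
  exact h1

theorem exists_maximal_disjoint (Q R : Subobject E) (h : R ⊓ Q = ⊥) :
    ∃ N : Subobject E, R ≤ N ∧ N ⊓ Q = ⊥ ∧ ∀ P, N ≤ P → P ⊓ Q = ⊥ → P = N := by
  obtain ⟨N, hRN, hN⟩ := zorn_le_nonempty₀ {P : Subobject E | P ⊓ Q = ⊥} (fun c hcS hc y hy =>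
    ⟨sSup c, sSup_inf_eq_bot_of_chain c hc ⟨y, hy⟩ Q (fun P hP => hcS hP), fun z hz => le_sSup hz⟩)
    R h
  refine ⟨N, hRN, hN.prop, fun P hNP hP => ?_⟩
  exact le_antisymm (hN.le_of_ge hP hNP) hNP

end Zorn


section decomp
variable {E : C} (N N' : Subobject E)

lemma le_mk_of_forall {A : C} (k : A ⟶ E) [Mono k] (h : ∃ z : (N : C) ⟶ A, z ≫ k = N.arrow) :
    N ≤ Subobject.mk k := by
  obtain ⟨z, hz⟩ := h
  exact Subobject.le_mk_of_comm z hz

lemma mono_desc (hd : N ⊓ N' = ⊥) : Mono (biprod.desc N.arrow N'.arrow) := by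
  apply Preadditive.mono_of_cancel_zero
  intro T g hg
  have h1 : (g ≫ biprod.fst) ≫ N.arrow = (-(g ≫ biprod.snd)) ≫ N'.arrow := by
    have h2 : g ≫ biprod.desc N.arrow N'.arrow =
        (g ≫ biprod.fst) ≫ N.arrow + (g ≫ biprod.snd) ≫ N'.arrow := by
      rw [biprod.desc_eq, Preadditive.comp_add, Category.assoc, Category.assoc]
    rw [h2] at hg
    rw [Preadditive.neg_comp]
    exact eq_neg_of_add_eq_zero_left hg
  have h3 := (inf_eq_bot_iff N N').1 hd T ((g ≫ biprod.fst) ≫ N.arrow)
    (N.factors_comp_arrow _) (by rw [h1]; exact N'.factors_comp_arrow _)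
  have h4 : g ≫ biprod.fst = 0 := (cancel_mono N.arrow).1 (by rw [h3, zero_comp])
  have h5 : g ≫ biprod.snd = 0 := by
    rw [h3] at h1
    have : (g ≫ biprod.snd) ≫ N'.arrow = 0 := by
      rw [Preadditive.neg_comp] at h1
      exact neg_eq_zero.1 h1.symm
    exact (cancel_mono N'.arrow).1 (by rw [this, zero_comp])
  apply biprod.hom_ext
  · rw [h4, zero_comp]
  · rw [h5, zero_comp]

theorem nonempty_iso_biprod [Injective E] (hd : N ⊓ N' = ⊥)
    (hN : ∀ P, N ≤ P → P ⊓ N' = ⊥ → P = N)
    (hN' : ∀ P, N' ≤ P → P ⊓ N = ⊥ → P = N') :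
    Nonempty (E ≅ (N : C) ⊞ (N' : C)) := by
  haveI := mono_desc N N' hd
  obtain ⟨e, he⟩ : ∃ e : E ⟶ E, biprod.desc N.arrow N'.arrow ≫ e = biprod.snd ≫ N'.arrow :=
    ⟨Injective.factorThru (biprod.snd ≫ N'.arrow) (biprod.desc N.arrow N'.arrow),
      Injective.comp_factorThru _ _⟩
  have e1 : N.arrow ≫ e = 0 := by
    have := congrArg (fun k => biprod.inl ≫ k) he
    simpa using this
  have e2 : N'.arrow ≫ e = N'.arrow := by
    have := congrArg (fun k => biprod.inr ≫ k) he
    simpa using this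
  -- step 3: kernel of e is N
  have hK : ∀ (T : C) (g : T ⟶ E), g ≫ e = 0 → N.Factors g := by
    have hKN : Subobject.mk (kernel.ι e) = N := by
      apply hN
      · exact Subobject.le_mk_of_comm (kernel.lift e N.arrow e1) (kernel.lift_ι _ _ _)
      · rw [inf_eq_bot_iff]
        intro T g hA hB
        obtain ⟨a, ha⟩ : ∃ a : T ⟶ kernel e, a ≫ kernel.ι e = g :=
          (Subobject.mk_factors_iff (kernel.ι e) g).1 hA
        have h1 : g ≫ e = 0 := by rw [← ha, Category.assoc, kernel.condition, comp_zero]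
        have h2 : g ≫ e = g := by
          rw [← N'.factorThru_arrow g hB, Category.assoc, e2]
        rw [← h2, h1]
    intro T g hg
    rw [← hKN]
    exact (Subobject.mk_factors_iff (kernel.ι e) g).2 ⟨kernel.lift e g hg, kernel.lift_ι _ _ _⟩
  -- step 4
  have hQ : ∀ (T : C) (g : T ⟶ E), N.Factors (g ≫ e) → g ≫ e = 0 := by
    have hQN : Subobject.mk (pullback.snd N.arrow e) = N := by
      apply hN
      · exact Subobject.le_mk_of_comm (pullback.lift 0 N.arrow (by rw [zero_comp, e1]))
          (pullback.lift_snd _ _ _)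
      · rw [inf_eq_bot_iff]
        intro T g hA hB
        obtain ⟨a, ha⟩ : ∃ a : T ⟶ pullback N.arrow e, a ≫ pullback.snd N.arrow e = g :=
          (Subobject.mk_factors_iff (pullback.snd N.arrow e) g).1 hA
        have h2 : g ≫ e = g := by
          rw [← N'.factorThru_arrow g hB, Category.assoc, e2]
        have h3 : N.Factors g := by
          rw [← h2, ← ha, Category.assoc, ← pullback.condition, ← Category.assoc]
          exact N.factors_comp_arrow _
        exact (inf_eq_bot_iff N N').1 hd T g h3 hB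
    intro T g hg
    have h1 : N.Factors g := by
      rw [← hQN]
      exact (Subobject.mk_factors_iff (pullback.snd N.arrow e) g).2
        ⟨pullback.lift (N.factorThru _ hg) g (N.factorThru_arrow _ hg), pullback.lift_snd _ _ _⟩
    rw [← N.factorThru_arrow g h1, Category.assoc, e1, comp_zero]
  -- step 5: image of e is N'
  have hI : N'.Factors e := by
    have hIN : Subobject.mk (image.ι e) = N' := by
      apply hN'
      · refine Subobject.le_mk_of_comm (N'.arrow ≫ factorThruImage e) ?_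
        rw [Category.assoc, image.fac, e2]
      · rw [inf_eq_bot_iff]
        intro T g hA hB
        obtain ⟨t, ht⟩ : ∃ t : T ⟶ image e, t ≫ image.ι e = g :=
          (Subobject.mk_factors_iff (image.ι e) g).1 hA
        obtain ⟨T', π, hπ, t', ht'⟩ := surjective_up_to_refinements_of_epi (factorThruImage e) t
        have h1 : π ≫ g = t' ≫ e := by
          rw [← ht, ← Category.assoc, ht', Category.assoc, image.fac]
        have h2 : N.Factors (t' ≫ e) := by
          rw [← h1]
          exact Subobject.factors_of_factors_right π hB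
        have h3 := hQ T' t' h2
        rw [← h1] at h3
        exact (cancel_epi π).1 (by rw [h3, comp_zero])
    rw [← hIN]
    exact (Subobject.mk_factors_iff (image.ι e) e).2 ⟨factorThruImage e, image.fac e⟩
  -- step 6
  obtain ⟨p, hp⟩ : ∃ p : E ⟶ (N' : C), p ≫ N'.arrow = e := ⟨N'.factorThru e hI, N'.factorThru_arrow e hI⟩
  have p1 : N'.arrow ≫ p = 𝟙 _ := (cancel_mono N'.arrow).1 (by rw [Category.assoc, hp, e2, Category.id_comp])
  have p2 : N.arrow ≫ p = 0 := (cancel_mono N'.arrow).1 (by rw [Category.assoc, hp, e1, zero_comp])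
  let S : ShortComplex C := ShortComplex.mk N.arrow p p2
  have hS : S.Exact := by
    rw [ShortComplex.exact_iff_exact_up_to_refinements]
    intro A x₂ hx₂
    have h1 : x₂ ≫ e = 0 := by
      rw [← hp, ← Category.assoc]
      change (x₂ ≫ p) ≫ N'.arrow = 0
      rw [show x₂ ≫ p = 0 from hx₂, zero_comp]
    have h2 := hK A x₂ h1
    exact ⟨A, 𝟙 A, inferInstance, N.factorThru x₂ h2, by
      rw [Category.id_comp]; exact (N.factorThru_arrow x₂ h2).symm⟩
  haveI : Mono S.f := by dsimp [S]; infer_instance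
  exact ⟨(ShortComplex.Splitting.ofExactOfSection S hS N'.arrow p1 inferInstance).isoBinaryBiproduct⟩

end decomp


section uniform
variable [IsGrothendieckAbelian.{w} C] {E : C}

lemma eq_bot_of_isZero (N : Subobject E) (h : IsZero (N : C)) : N = ⊥ := by
  rw [← Subobject.mk_arrow N]
  exact (Subobject.mk_eq_bot_iff_zero).2 (h.eq_of_src _ _)

theorem uniform [Injective E]
    (hind : ∀ (A B : C), Nonempty (E ≅ A ⊞ B) → IsZero A ∨ IsZero B)
    (M₁ M₂ : Subobject E) (hM₁ : M₁ ≠ ⊥) (hM₂ : M₂ ≠ ⊥) : M₁ ⊓ M₂ ≠ ⊥ := by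
  intro h
  obtain ⟨N, hN1, hN2, hN3⟩ := exists_maximal_disjoint.{w} M₁ M₂ (by rw [inf_comm]; exact h)
  obtain ⟨N', hN'1, hN'2, hN'3⟩ := exists_maximal_disjoint.{w} N M₁ (by rw [inf_comm]; exact hN2)
  have hd : N ⊓ N' = ⊥ := by rw [inf_comm]; exact hN'2
  have hmax : ∀ P, N ≤ P → P ⊓ N' = ⊥ → P = N := by
    intro P hP hPN'
    apply hN3 P hP
    apply le_antisymm _ bot_le
    rw [← hPN']
    exact inf_le_inf_left P hN'1
  obtain ⟨e⟩ := nonempty_iso_biprod N N' hd hmax hN'3
  rcases hind _ _ ⟨e⟩ with h0 | h0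
  · have := eq_bot_of_isZero N h0
    rw [this] at hN1
    exact hM₂ (le_antisymm hN1 bot_le)
  · have := eq_bot_of_isZero N' h0
    rw [this] at hN'1
    exact hM₁ (le_antisymm hN'1 bot_le)

end uniform

end Groth.Agent.Lib.Helper24Uniform
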