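import Mathlib
import Groth.Prelude.Def_W4c5qcohlocdualityLoc
import Groth.Agent.Lib.Helper24Uniform
/-!
# GabLoc: subquotients of coproducts and the class `TP` (helper24)

Namespace `Groth.Agent.Lib.Helper24GabLoc`.
* `factors_of_comp_cokernel_π`, `sq_of_epi`, `sq_of_mono`, `sq_of_isZero`, `sq_of_prop`: closure properties of
  `GabLoc.subquotCoprod P`.
* `HasS`, `TP`: `TP P X` says every nonzero quotient of `X` has a nonzero subobject in `subquotCoprod P`.
* `isLocalizing_TP`, `le_TP`: `TP P` is a localizing class containing `P`.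
-/

set_option autoImplicit false
set_option backward.isDefEq.respectTransparency.types false
set_option maxHeartbeats 4000000
set_option synthInstance.maxHeartbeats 400000
universe w v u
open CategoryTheory CategoryTheory.Limits ZeroObject

namespace Groth.Agent.Lib.Helper24GabLoc

variable {C : Type u} [Category.{v} C] [Abelian C]

/-- a map killed by the cokernel of a subobject factors through it -/
lemma factors_of_comp_cokernel_π {X T : C} (A : Subobject X) (g : T ⟶ X)
    (h : g ≫ cokernel.π A.arrow = 0) : A.Factors g := by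
  have hl := Abelian.monoIsKernelOfCokernel _ (cokernelIsCokernel A.arrow)
  have h1 : (Subobject.mk A.arrow).Factors g :=
    (Subobject.mk_factors_iff _ _).2 ⟨hl.lift (KernelFork.ofι g h),
      hl.fac (KernelFork.ofι g h) WalkingParallelPair.zero⟩
  rwa [Subobject.mk_arrow] at h1

section subquot
variable [HasCoproducts.{w} C] (P : ObjectProperty C)

lemma sq_of_epi {A A' : C} (p : A ⟶ A') [Epi p] (hA : GabLoc.subquotCoprod.{w} P A) :
    GabLoc.subquotCoprod.{w} P A' := by
  obtain ⟨J, X, hX, B, i, q, hi, hq⟩ := hA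
  haveI := hq
  exact ⟨J, X, hX, B, i, q ≫ p, hi, epi_comp q p⟩

lemma sq_of_mono {A A' : C} (m : A' ⟶ A) [Mono m] (hA : GabLoc.subquotCoprod.{w} P A) :
    GabLoc.subquotCoprod.{w} P A' := by
  obtain ⟨J, X, hX, B, i, q, hi, hq⟩ := hA
  haveI := hq
  haveI := hi
  refine ⟨J, X, hX, pullback q m, pullback.fst q m ≫ i, pullback.snd q m, ?_, ?_⟩
  · exact mono_comp _ _
  · exact Abelian.epi_pullback_of_epi_f q m

lemma sq_of_isZero {A : C} (hA : IsZero A) : GabLoc.subquotCoprod.{w} P A := by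
  refine ⟨PEmpty, fun j => j.elim, fun j => j.elim, 0, 0, 0, ?_, ?_⟩
  · exact ⟨fun _ _ _ => (isZero_zero C).eq_of_tgt _ _⟩
  · exact ⟨fun _ _ _ => hA.eq_of_src _ _⟩

lemma sq_of_prop {A : C} (hA : P A) : GabLoc.subquotCoprod.{w} P A := by
  refine ⟨PUnit, fun _ => A, fun _ => hA, A, Sigma.ι (fun _ : PUnit.{w+1} => A) PUnit.unit, 𝟙 A, ?_, inferInstance⟩
  infer_instance

/-- `Y` has a nonzero subobject which is a subquotient of a coproduct of objects of `P`. -/
def HasS (Y : C) : Prop :=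
  ∃ (S : C) (i : S ⟶ Y), Mono i ∧ GabLoc.subquotCoprod.{w} P S ∧ ¬ IsZero S

/-- every nonzero quotient has a nonzero `𝒮`-subobject. -/
def TP : ObjectProperty C := fun X => ∀ (Y : C) (p : X ⟶ Y), Epi p → ¬ IsZero Y → HasS.{w} P Y

variable {P}

lemma HasS.of_mono {Y Y' : C} (m : Y ⟶ Y') [Mono m] (h : HasS.{w} P Y) : HasS.{w} P Y' := by
  obtain ⟨S, i, hi, hS, hS0⟩ := h
  haveI := hi
  exact ⟨S, i ≫ m, mono_comp _ _, hS, hS0⟩

lemma TP.of_epi {X X' : C} (p : X ⟶ X') [Epi p] (h : TP.{w} P X) : TP.{w} P X' := by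
  intro Y q hq hY
  haveI := hq
  exact h Y (p ≫ q) (epi_comp p q) hY

lemma TP.hasS_of_ne_zero {X Y : C} (h : TP.{w} P X) (f : X ⟶ Y) (hf : f ≠ 0) : HasS.{w} P Y := by
  have h1 : ¬ IsZero (image f) := by
    intro h0
    apply hf
    rw [← image.fac f, h0.eq_of_src (image.ι f) 0, comp_zero]
  exact (h (image f) (factorThruImage f) inferInstance h1).of_mono (image.ι f)

lemma TP.of_isZero {X : C} (hX : IsZero X) : TP.{w} P X := by
  intro Y p hp hY
  haveI := hp
  exact absurd (IsZero.of_epi p hX) hY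

lemma TP.of_prop {X : C} (hX : P X) : TP.{w} P X := by
  intro Y p hp hY
  haveI := hp
  exact ⟨Y, 𝟙 Y, (inferInstance : Mono (𝟙 Y)), sq_of_epi P p (sq_of_prop P hX), hY⟩

lemma TP.of_shortExact {S : ShortComplex C} (hS : S.ShortExact) (h1 : TP.{w} P S.X₁)
    (h3 : TP.{w} P S.X₃) : TP.{w} P S.X₂ := by
  intro Y p hp hY
  haveI := hp
  haveI := hS.epi_g
  by_cases h : S.f ≫ p = 0
  · have hfac : S.g ≫ hS.exact.desc p h = p := hS.exact.g_desc p h
    haveI : Epi (S.g ≫ hS.exact.desc p h) := by rw [hfac]; infer_instance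
    haveI : Epi (hS.exact.desc p h) := epi_of_epi S.g _
    exact h3 Y (hS.exact.desc p h) inferInstance hY
  · exact h1.hasS_of_ne_zero _ h

lemma TP.of_coproduct {J : Type w} {F : Discrete J ⥤ C} {c : Cocone F} (hc : IsColimit c)
    (hF : ∀ j, TP.{w} P (F.obj j)) : TP.{w} P c.pt := by
  intro Y p hp hY
  haveI := hp
  by_cases h : ∀ j, c.ι.app j ≫ p = 0
  · exfalso
    apply hY
    have : p = 0 := hc.hom_ext (fun j => by rw [h j, comp_zero])
    rw [IsZero.iff_id_eq_zero, ← cancel_epi p, this, zero_comp, zero_comp]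
  · push Not at h
    obtain ⟨j, hj⟩ := h
    exact (hF j).hasS_of_ne_zero _ hj


open Groth.Agent.Lib.Helper24Uniform in
lemma TP.of_mono [IsGrothendieckAbelian.{w} C] {X X' : C} (m : X' ⟶ X) [Mono m]
    (h : TP.{w} P X) : TP.{w} P X' := by
  intro Y p hp hY
  haveI := hp
  obtain ⟨n, hn⟩ : ∃ n : Y ⟶ pushout p m, n = pushout.inl p m := ⟨_, rfl⟩
  obtain ⟨q, hq⟩ : ∃ q : X ⟶ pushout p m, q = pushout.inr p m := ⟨_, rfl⟩
  haveI : Mono n := by rw [hn]; infer_instance
  haveI : Epi q := by rw [hq]; infer_instance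
  obtain ⟨W, -, hW1, hW2⟩ := exists_maximal_disjoint.{w} (Subobject.mk n) ⊥ (by simp)
  obtain ⟨r, hr⟩ : ∃ r : pushout p m ⟶ cokernel W.arrow, r = cokernel.π W.arrow := ⟨_, rfl⟩
  haveI : Epi r := by rw [hr]; infer_instance
  have hWr : W.arrow ≫ r = 0 := by rw [hr]; exact cokernel.condition _
  have hWf : ∀ {T : C} (g : T ⟶ pushout p m), g ≫ r = 0 → W.Factors g := by
    intro T g hg
    exact factors_of_comp_cokernel_π W g (by rw [← hr]; exact hg)
  haveI hnr : Mono (n ≫ r) := by
    apply Preadditive.mono_of_cancel_zero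
    intro T g hg
    have h1 : W.Factors (g ≫ n) := hWf _ (by rw [Category.assoc]; exact hg)
    have h2 : (Subobject.mk n).Factors (g ≫ n) := (Subobject.mk_factors_iff _ _).2 ⟨g, rfl⟩
    have h3 := (inf_eq_bot_iff _ _).1 hW1 T (g ≫ n) h1 h2
    exact (cancel_mono n).1 (by rw [h3, zero_comp])
  have hZ : ¬ IsZero (cokernel W.arrow) := fun h0 => hY (IsZero.of_mono (n ≫ r) h0)
  obtain ⟨S, s, hs, hS, hS0⟩ := h _ (q ≫ r) (epi_comp q r) hZ
  haveI := hs
  have hess : Subobject.mk s ⊓ Subobject.mk (n ≫ r) ≠ ⊥ := by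
    intro hbot
    haveI : Mono (pullback.snd s r) := inferInstance
    have hW' : Subobject.mk (pullback.snd s r) = W := by
      apply hW2
      · exact Subobject.le_mk_of_comm (pullback.lift 0 W.arrow (by rw [zero_comp, hWr]))
          (pullback.lift_snd _ _ _)
      · rw [inf_eq_bot_iff]
        intro T g hA hB
        obtain ⟨a, ha⟩ : ∃ a : T ⟶ pullback s r, a ≫ pullback.snd s r = g :=
          (Subobject.mk_factors_iff (pullback.snd s r) g).1 hA
        obtain ⟨y, hy⟩ : ∃ y : T ⟶ Y, y ≫ n = g := (Subobject.mk_factors_iff n g).1 hB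
        have e1 : (a ≫ pullback.fst s r) ≫ s = g ≫ r := by
          rw [Category.assoc, pullback.condition, ← Category.assoc, ha]
        have e2 : y ≫ (n ≫ r) = g ≫ r := by rw [← hy, Category.assoc]
        have h1 : (Subobject.mk s).Factors (g ≫ r) :=
          (Subobject.mk_factors_iff s (g ≫ r)).2 ⟨a ≫ pullback.fst s r, e1⟩
        have h2 : (Subobject.mk (n ≫ r)).Factors (g ≫ r) :=
          (Subobject.mk_factors_iff (n ≫ r) (g ≫ r)).2 ⟨y, e2⟩
        have h3 := (inf_eq_bot_iff _ _).1 hbot T (g ≫ r) h1 h2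
        have h4 : y = 0 :=
          (cancel_mono (n ≫ r)).1 (by rw [zero_comp, ← Category.assoc, hy, h3])
        rw [← hy, h4, zero_comp]
    have h5 : pullback.fst s r ≫ s = 0 := by
      rw [pullback.condition]
      have h6 : (Subobject.mk (pullback.snd s r)).Factors (pullback.snd s r) :=
        (Subobject.mk_factors_iff (pullback.snd s r) (pullback.snd s r)).2 ⟨𝟙 _, Category.id_comp _⟩
      rw [hW'] at h6
      rw [← W.factorThru_arrow _ h6, Category.assoc, hWr, comp_zero]
    have h7 : s = 0 := (cancel_epi (pullback.fst s r)).1 (by rw [h5, comp_zero])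
    exact hS0 (IsZero.of_mono_eq_zero s h7)
  refine ⟨((Subobject.mk s ⊓ Subobject.mk (n ≫ r) : Subobject (cokernel W.arrow)) : C),
    (Subobject.ofLE _ _ inf_le_right) ≫ (Subobject.underlyingIso (n ≫ r)).hom, mono_comp _ _, ?_, ?_⟩
  · exact sq_of_mono P ((Subobject.ofLE _ _ inf_le_left) ≫ (Subobject.underlyingIso s).hom) hS
  · intro h0
    exact hess (eq_bot_of_isZero _ h0)

theorem isLocalizing_TP [IsGrothendieckAbelian.{w} C] : GabLoc.IsLocalizing.{w} (TP.{w} P) where
  isSerreClass :=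
    { exists_zero := ⟨0, isZero_zero C, TP.of_isZero (isZero_zero C)⟩
      prop_of_mono := fun m _ h => TP.of_mono m h
      prop_of_epi := fun p _ h => TP.of_epi p h
      prop_X₂_of_shortExact := fun hS h1 h3 => TP.of_shortExact hS h1 h3 }
  isClosedUnderCoproducts := fun J => ⟨fun X ⟨h⟩ => TP.of_coproduct h.isColimit h.prop_diag_obj⟩

theorem le_TP : P ≤ TP.{w} P := fun _ hX => TP.of_prop hX

end subquot

end Groth.Agent.Lib.Helper24GabLoc
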