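import Mathlib
import Groth.Prelude.Def_W4c5qcohlocdualityLoc
import Groth.Agent.Lib.Helper24GabLocA
import Groth.Agent.Lib.Helper24GabLocB
/-!
# GabLoc: objects of `TP P` have transfinite `subquotCoprod P`-filtrations (helper24)

* `genAt_of_TP`: for `X` in `TP P`, every proper subobject of `X` can be enlarged by a mono whose cokernel is a
  subquotient of a coproduct of objects of `P`.
* `transfiniteCompositions_of_locClosure`: the forward direction of S17648.
-/

set_option autoImplicit false
set_option backward.isDefEq.respectTransparency.types false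
set_option maxHeartbeats 4000000
set_option synthInstance.maxHeartbeats 400000
universe w v u
open CategoryTheory CategoryTheory.Limits ZeroObject MorphismProperty

namespace Groth.Agent.Lib.Helper24GabLoc

variable {C : Type u} [Category.{v} C] [Abelian C] [IsGrothendieckAbelian.{w} C]
  {P : ObjectProperty C}

theorem genAt_of_TP {X : C} (hX : TP.{w} P X) : GenAt X (GabLoc.monoModSubquot.{w} P) where
  iso_mem f hf := by
    haveI := hf
    exact ⟨inferInstance, sq_of_isZero P (isZero_cokernel_of_epi f)⟩
  exists_larger A hA := by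
    obtain ⟨π, hπ⟩ : ∃ π : X ⟶ cokernel A.arrow, π = cokernel.π A.arrow := ⟨_, rfl⟩
    haveI : Epi π := by rw [hπ]; infer_instance
    have hAπ : A.arrow ≫ π = 0 := by rw [hπ]; exact cokernel.condition _
    have hAf : ∀ {T : C} (g : T ⟶ X), g ≫ π = 0 → A.Factors g := by
      intro T g hg
      exact factors_of_comp_cokernel_π A g (by rw [← hπ]; exact hg)
    have hZ : ¬ IsZero (cokernel A.arrow) := by
      intro h0
      apply hA
      haveI : Epi A.arrow := Preadditive.epi_of_isZero_cokernel _ h0
      haveI : IsIso A.arrow := isIso_of_mono_of_epi _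
      exact (Subobject.isIso_arrow_iff_eq_top A).1 inferInstance
    obtain ⟨S, s, hs, hS, hS0⟩ := hX _ π inferInstance hZ
    haveI := hs
    haveI : Mono (pullback.snd s π) := inferInstance
    haveI : Epi (pullback.fst s π) := inferInstance
    have hle : A ≤ Subobject.mk (pullback.snd s π) :=
      Subobject.le_mk_of_comm (pullback.lift 0 A.arrow (by rw [zero_comp, hAπ]))
        (pullback.lift_snd _ _ _)
    have hne : A ≠ Subobject.mk (pullback.snd s π) := by
      intro h
      have h6 : (Subobject.mk (pullback.snd s π)).Factors (pullback.snd s π) :=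
        (Subobject.mk_factors_iff (pullback.snd s π) (pullback.snd s π)).2
          ⟨𝟙 _, Category.id_comp _⟩
      rw [← h] at h6
      have h5 : pullback.fst s π ≫ s = 0 := by
        rw [pullback.condition, ← A.factorThru_arrow _ h6, Category.assoc, hAπ, comp_zero]
      have h7 : s = 0 := (cancel_epi (pullback.fst s π)).1 (by rw [h5, comp_zero])
      exact hS0 (IsZero.of_mono_eq_zero s h7)
    refine ⟨Subobject.mk (pullback.snd s π), lt_of_le_of_ne hle hne, inferInstance, ?_⟩
    -- the cokernel embeds into `S`
    obtain ⟨ι, hι⟩ : ∃ ι : (A : C) ⟶ (Subobject.mk (pullback.snd s π) : C),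
        ι = Subobject.ofLE A _ hle := ⟨_, rfl⟩
    have hιa : ι ≫ (Subobject.mk (pullback.snd s π)).arrow = A.arrow := by
      rw [hι]; exact Subobject.ofLE_arrow _
    obtain ⟨φ, hφ⟩ : ∃ φ : (Subobject.mk (pullback.snd s π) : C) ⟶ S,
        φ ≫ s = (Subobject.mk (pullback.snd s π)).arrow ≫ π := by
      refine ⟨(Subobject.underlyingIso (pullback.snd s π)).hom ≫ pullback.fst s π, ?_⟩
      rw [Category.assoc, pullback.condition, ← Category.assoc,
        Subobject.underlyingIso_hom_comp_eq_mk]
    have hιφ : ι ≫ φ = 0 := (cancel_mono s).1 (by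
      rw [Category.assoc, hφ, ← Category.assoc, hιa, hAπ, zero_comp])
    suffices hm : Mono (cokernel.desc ι φ hιφ) by
      haveI := hm
      have := sq_of_mono P (cokernel.desc ι φ hιφ) hS
      rw [hι] at this
      exact this
    apply Preadditive.mono_of_cancel_zero
    intro T g hg
    obtain ⟨T', π', hπ', g', hg'⟩ := surjective_up_to_refinements_of_epi (cokernel.π ι) g
    have h1 : g' ≫ φ = 0 := by
      have := congrArg (fun k => k ≫ cokernel.desc ι φ hιφ) hg'
      simp only [Category.assoc, cokernel.π_desc] at this
      rw [← this, hg, comp_zero]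
    have h2 : (g' ≫ (Subobject.mk (pullback.snd s π)).arrow) ≫ π = 0 := by
      rw [Category.assoc, ← hφ, ← Category.assoc, h1, zero_comp]
    have h3 := hAf _ h2
    have h4 : g' = A.factorThru _ h3 ≫ ι :=
      (cancel_mono (Subobject.mk (pullback.snd s π)).arrow).1 (by
        rw [Category.assoc, hιa, A.factorThru_arrow])
    have h5 : π' ≫ g = 0 := by
      rw [hg', h4, Category.assoc, cokernel.condition, comp_zero]
    exact (cancel_epi π').1 (by rw [h5, comp_zero])

theorem transfiniteCompositions_of_locClosure (P : ObjectProperty C) (X : C)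
    (hX : GabLoc.locClosure.{w} P X) :
    transfiniteCompositions.{w} (GabLoc.monoModSubquot.{w} P) (0 : (0 : C) ⟶ X) :=
  transfiniteCompositions_of_genAt.{w} (genAt_of_TP (hX _ isLocalizing_TP le_TP)) 0

end Groth.Agent.Lib.Helper24GabLoc
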