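import Mathlib
import Groth.Prelude.Def_W4c5qcohlocdualityLoc
/-!
# GabLoc: transfinite compositions of monos with cokernel in a localizing class (helper24)

* `WQ Q`: monomorphisms with cokernel in the Serre class `Q`; multiplicative, respects isos, and (for `Q` closed
  under coproducts, in a Grothendieck abelian category) stable under filtered colimits, hence under transfinite
  compositions.
* `locClosure_of_transfiniteCompositions`: the backward direction of S17648.
-/

set_option autoImplicit false
set_option backward.isDefEq.respectTransparency.types false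
set_option maxHeartbeats 4000000
set_option synthInstance.maxHeartbeats 400000
universe w v u
open CategoryTheory CategoryTheory.Limits ZeroObject MorphismProperty

namespace Groth.Agent.Lib.Helper24GabLoc

variable {C : Type u} [Category.{v} C] [Abelian C] (Q : ObjectProperty C) [Q.IsSerreClass]

/-- monomorphisms with cokernel in `Q` -/
def WQ : MorphismProperty C := monomorphisms C ⊓ Q.epiModSerre

instance : (WQ Q).IsMultiplicative := by
  unfold WQ
  infer_instance

instance : (WQ Q).RespectsIso := by
  unfold WQ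
  infer_instance

lemma WQ_iff {X Y : C} (f : X ⟶ Y) : WQ Q f ↔ Mono f ∧ Q (cokernel f) := by
  unfold WQ
  rw [MorphismProperty.inf_iff]  -- ?
  rfl


lemma WQ_isStableUnderFilteredColimits [IsGrothendieckAbelian.{w} C]
    (hQ : ∀ J : Type w, Q.IsClosedUnderColimitsOfShape (Discrete J)) :
    IsStableUnderFilteredColimits.{w, w} (WQ Q) where
  isStableUnderColimitsOfShape J _ _ := ⟨by
    intro X₁ X₂ c₁ c₂ h₁ h₂ f hf φ hφ
    have hf' : ∀ j, Mono (f.app j) ∧ Q (cokernel (f.app j)) := fun j => (WQ_iff Q _).1 (hf j)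
    rw [WQ_iff]
    refine ⟨?_, ?_⟩
    · exact (IsStableUnderColimitsOfShape.condition (W := monomorphisms C) X₁ X₂ c₁ c₂ h₁ h₂ f
        (fun j => (hf' j).1) φ hφ : monomorphisms C φ)
    · have hu : ∀ j, f.app j ≫ c₂.ι.app j ≫ cokernel.π φ = 0 := fun j => by
        rw [← Category.assoc, ← hφ j, Category.assoc, cokernel.condition, comp_zero]
      let u : ∀ j, cokernel (f.app j) ⟶ cokernel φ := fun j => cokernel.desc _ _ (hu j)
      haveI : Epi (Sigma.desc u) := by
        apply Preadditive.epi_of_cancel_zero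
        intro T g hg
        have h3 : ∀ j, c₂.ι.app j ≫ cokernel.π φ ≫ g = 0 := fun j => by
          have h4 : Sigma.ι _ j ≫ Sigma.desc u ≫ g = 0 := by rw [hg, comp_zero]
          rw [Sigma.ι_desc_assoc] at h4
          have h5 : cokernel.π (f.app j) ≫ u j ≫ g = 0 := by rw [h4, comp_zero]
          rw [cokernel.π_desc_assoc, Category.assoc] at h5
          exact h5
        have h6 : cokernel.π φ ≫ g = 0 := h₂.hom_ext (fun j => by rw [h3 j, comp_zero])
        exact (cancel_epi (cokernel.π φ)).1 (by rw [h6, comp_zero])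
      haveI := hQ J
      have h7 : Q (∐ fun j => cokernel (f.app j)) :=
        Q.prop_colimit (Discrete.functor fun j => cokernel (f.app j)) (fun ⟨j⟩ => (hf' j).2)
      exact Q.prop_of_epi (Sigma.desc u) h7⟩


lemma subquotCoprod_le [HasCoproducts.{w} C] {P : ObjectProperty C} (hPQ : P ≤ Q)
    (hQ : ∀ J : Type w, Q.IsClosedUnderColimitsOfShape (Discrete J)) :
    GabLoc.subquotCoprod.{w} P ≤ Q := by
  intro A ⟨J, X, hX, B, i, p, hi, hp⟩
  haveI := hi
  haveI := hp
  haveI := hQ J
  have h1 : Q (∐ X) := Q.prop_colimit (Discrete.functor X) (fun ⟨j⟩ => hPQ _ (hX j))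
  exact Q.prop_of_epi p (Q.prop_of_mono i h1)

end Groth.Agent.Lib.Helper24GabLoc

namespace Groth.Agent.Lib.Helper24GabLoc

variable {C : Type u} [Category.{v} C] [Abelian C]

theorem locClosure_of_transfiniteCompositions [IsGrothendieckAbelian.{w} C] (P : ObjectProperty C)
    (X : C)
    (h : transfiniteCompositions.{w} (GabLoc.monoModSubquot.{w} P) (0 : (0 : C) ⟶ X)) :
    GabLoc.locClosure.{w} P X := by
  intro Q hQ hPQ
  haveI := hQ.isSerreClass
  haveI := WQ_isStableUnderFilteredColimits.{w} Q hQ.isClosedUnderCoproducts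
  have hle : GabLoc.monoModSubquot.{w} P ≤ WQ Q := by
    intro A B f hf
    rw [WQ_iff]
    exact ⟨hf.1, subquotCoprod_le Q hPQ hQ.isClosedUnderCoproducts _ hf.2⟩
  have h1 : WQ Q (0 : (0 : C) ⟶ X) := (transfiniteCompositions_le_iff.{w}.2 hle) _ h
  exact Q.prop_of_iso cokernelZeroIsoTarget ((WQ_iff Q _).1 h1).2

end Groth.Agent.Lib.Helper24GabLoc
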