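import Mathlib
import Groth.Prelude.Def_EtCore

set_option autoImplicit false
set_option backward.isDefEq.respectTransparency.types false
set_option maxHeartbeats 4000000
set_option synthInstance.maxHeartbeats 400000
universe u w v
open CategoryTheory CategoryTheory.Limits AlgebraicGeometry Opposite

namespace Groth.Agent.Lib.Helper24GalCov

section Sch

variable {σ : Type u} {g : σ → Scheme.{u}} {W : Scheme.{u}} (j : ∀ i, g i ⟶ W)
  (hc : IsColimit (Cofan.mk W j))

include hc

/-- the comparison iso with the chosen coproduct -/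
noncomputable def eIso : (∐ g) ≅ W :=
  (coproductIsCoproduct g).coconePointUniqueUpToIso hc

lemma ι_eIso (i : σ) : Sigma.ι g i ≫ (eIso j hc).hom = j i :=
  (coproductIsCoproduct g).comp_coconePointUniqueUpToIso_hom hc ⟨i⟩

theorem exists_of_isColimit (w : W) : ∃ (i : σ) (y : g i), j i y = w := by
  obtain ⟨i, y, hy⟩ := (sigmaOpenCover g).exists_eq ((eIso j hc).inv w)
  refine ⟨i, y, ?_⟩
  have h1 : (Sigma.ι g i ≫ (eIso j hc).hom) y = w := by
    rw [Scheme.Hom.comp_apply]
    have hy' : Sigma.ι g i y = (eIso j hc).inv w := hy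
    rw [hy', ← Scheme.Hom.comp_apply, Iso.inv_hom_id]
    rfl
  rwa [ι_eIso] at h1

theorem isEmpty_of_isColimit {Z : Scheme.{u}} {i k : σ} (a : Z ⟶ g i) (b : Z ⟶ g k)
    (h : a ≫ j i = b ≫ j k) (hik : i ≠ k) : IsEmpty Z := by
  refine isEmpty_of_commSq_sigmaι_of_ne (g := g) (a := a) (b := b) ⟨?_⟩ hik
  have : (a ≫ Sigma.ι g i) ≫ (eIso j hc).hom = (b ≫ Sigma.ι g k) ≫ (eIso j hc).hom := by
    rw [Category.assoc, Category.assoc, ι_eIso, ι_eIso, h]
  exact (cancel_mono _).1 this

end Sch

section Site

variable {C : Type*} [Category C] (J : GrothendieckTopology C) (P : Cᵒᵖ ⥤ Type w)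
  (hP : Presieve.IsSheaf J P)

include hP

theorem eq_of_bot_mem {T : C} (hT : (⊥ : Sieve T) ∈ J T) (s t : P.obj (op T)) : s = t :=
  (hP ⊥ hT).isSeparatedFor.ext (fun _ _ hf => hf.elim)

theorem bijective_of_disjoint_cover {W : C} {ι : Type*} (Z : ι → C) (f : ∀ i, Z i ⟶ W)
    (hcov : Sieve.ofArrows Z f ∈ J W) (hmono : ∀ i, Mono (f i))
    (hdisj : ∀ i k, i ≠ k → ∀ (T : C) (a : T ⟶ Z i) (b : T ⟶ Z k), a ≫ f i = b ≫ f k →
      (⊥ : Sieve T) ∈ J T) :
    Function.Bijective (fun s : P.obj (op W) => fun i => P.map (f i).op s) := by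
  have hsf : (Presieve.ofArrows Z f).IsSheafFor P := by
    rw [Presieve.isSheafFor_iff_generate]
    exact hP _ hcov
  rw [Presieve.isSheafFor_arrows_iff] at hsf
  constructor
  · intro s s' hss
    have hcomp : Presieve.Arrows.Compatible P f (fun i => P.map (f i).op s) := by
      intro i k T a b hab
      change P.map a.op (P.map (f i).op s) = P.map b.op (P.map (f k).op s)
      rw [← Functor.map_comp_apply, ← Functor.map_comp_apply, ← op_comp, ← op_comp, hab]
    obtain ⟨t, -, ht⟩ := hsf _ hcomp
    have e1 : s = t := ht s (fun i => rfl)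
    have e2 : s' = t := ht s' (fun i => (congrFun hss i).symm)
    rw [e1, e2]
  · intro x
    have hcomp : Presieve.Arrows.Compatible P f x := by
      intro i k T a b hab
      by_cases hik : i = k
      · subst hik
        have := hmono i
        rw [(cancel_mono (f i)).1 hab]
      · exact eq_of_bot_mem J P hP (hdisj i k hik T a b hab) _ _
    obtain ⟨t, ht, -⟩ := hsf x hcomp
    exact ⟨t, funext ht⟩

end Site

section Et

variable (X : Scheme.{u})

noncomputable instance presForget (G : Type u) :
    PreservesColimitsOfShape (Discrete G) (Scheme.Etale.forget X) := by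
  haveI : CreatesColimitsOfShape (Discrete G) (MorphismProperty.Over.forget @Etale ⊤ X) :=
    inferInstance
  exact inferInstanceAs (PreservesColimitsOfShape (Discrete G) (MorphismProperty.Over.forget @Etale ⊤ X))

variable {X} {G : Type u}

noncomputable def sch_isColimit {W : X.Etale} (Z : G → X.Etale) (f : ∀ g, Z g ⟶ W)
    (hc : IsColimit (Cofan.mk W f)) :
    IsColimit (Cofan.mk W.left (fun g => (f g).left)) := by
  have h1 := isColimitOfPreserves (Scheme.Etale.forget X ⋙ Over.forget X) hc
  exact (isColimitMapCoconeCofanMkEquiv _ _ _) h1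

theorem bot_mem_of_isEmpty (T : X.Etale) [IsEmpty T.left] :
    (⊥ : Sieve T) ∈ X.smallEtaleTopology T := by
  have h : Sieve.ofArrows (fun e : PEmpty.{1} => (e.elim : X.Etale)) (fun e => e.elim) ∈
      X.smallEtaleTopology T := by
    rw [Scheme.ofArrows_mem_smallEtaleTopology_iff]
    ext t
    exact isEmptyElim t
  refine X.smallEtaleTopology.superset_covering ?_ h
  rintro V f ⟨_, _, _, ⟨e⟩, _⟩
  exact e.elim

variable (P : X.Etaleᵒᵖ ⥤ Type w) (hP : Presieve.IsSheaf X.smallEtaleTopology P)

include hP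

theorem bijective_of_isColimit {W : X.Etale} (Z : G → X.Etale) (f : ∀ g, Z g ⟶ W)
    (hc : IsColimit (Cofan.mk W f)) (hmono : ∀ g, Mono (f g)) :
    Function.Bijective (fun s : P.obj (op W) => fun g => P.map (f g).op s) := by
  have hc' := sch_isColimit Z f hc
  refine bijective_of_disjoint_cover _ P hP Z f ?_ hmono ?_
  · rw [Scheme.ofArrows_mem_smallEtaleTopology_iff]
    ext w
    simp only [Set.mem_iUnion, Set.mem_range, Set.mem_univ, iff_true]
    obtain ⟨i, y, hy⟩ := exists_of_isColimit _ hc' w
    exact ⟨i, y, hy⟩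
  · intro i k hik T a b hab
    have : IsEmpty T.left := by
      refine isEmpty_of_isColimit _ hc' a.left b.left ?_ hik
      have := congrArg (fun m => m.left) hab
      exact this
    exact bot_mem_of_isEmpty T

theorem isSheafFor_singleton (Y : X.Etale) (hY : Function.Surjective Y.hom.base) :
    Presieve.IsSheafFor P (Presieve.singleton ((EtCore.topIsTerminal X).from Y)) := by
  rw [← Presieve.ofArrows_pUnit.{0}, Presieve.isSheafFor_iff_generate]
  refine hP _ ?_
  change Sieve.ofArrows _ _ ∈ _
  rw [Scheme.ofArrows_mem_smallEtaleTopology_iff]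
  ext x
  simp only [Set.mem_iUnion, Set.mem_range, Set.mem_univ, iff_true]
  obtain ⟨y, hy⟩ := hY x
  refine ⟨⟨⟩, y, ?_⟩
  have h1 : ((EtCore.topIsTerminal X).from Y).left = Y.hom := by
    have := MorphismProperty.Over.w ((EtCore.topIsTerminal X).from Y)
    exact (Category.comp_id _).symm.trans this
  rw [h1]
  exact hy

end Et

end Groth.Agent.Lib.Helper24GalCov
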