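import Mathlib

/-!
# Gauss–Jacobi product formula for several characters (helper24)
-/

set_option autoImplicit false

namespace Groth.Agent.Lib.Helper24GaussJacobi

open Finset

variable {F : Type} [Field F] [Fintype F] [DecidableEq F] {R : Type} [CommRing R] [IsDomain R]

lemma sum_units_eq (f : F → R) (h0 : f 0 = 0) : ∑ u : Fˣ, f u = ∑ y : F, f y := by
  rw [← Finset.sum_subset (Finset.subset_univ
    (Finset.univ.map ⟨((↑) : Fˣ → F), Units.val_injective⟩))]
  · rw [Finset.sum_map]; rfl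
  · intro y _ hy
    have : y = 0 := by
      by_contra hne
      exact hy (Finset.mem_map.mpr ⟨Units.mk0 y hne, Finset.mem_univ _, rfl⟩)
    rw [this, h0]

lemma prod_apply {ι : Type} (s : Finset ι) (χ : ι → MulChar F R) (a : Fˣ) :
    (∏ i ∈ s, χ i) (a : F) = ∏ i ∈ s, χ i (a : F) := by
  classical
  induction s using Finset.induction_on with
  | empty => simp [MulChar.one_apply_coe]
  | insert i s hi ih => rw [Finset.prod_insert hi, Finset.prod_insert hi, MulChar.mul_apply, ih]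

lemma addChar_sum {ι : Type} (Ψ : AddChar F R) (s : Finset ι) (f : ι → F) :
    Ψ (∑ i ∈ s, f i) = ∏ i ∈ s, Ψ (f i) := by
  classical
  induction s using Finset.induction_on with
  | empty => simp
  | insert i s hi ih =>
    rw [Finset.sum_insert hi, Finset.prod_insert hi, AddChar.map_add_eq_mul, ih]

lemma inv_mul_apply (χ : MulChar F R) (a : Fˣ) : χ⁻¹ (a : F) * χ (a : F) = 1 := by
  rw [← MulChar.mul_apply, inv_mul_cancel, MulChar.one_apply_coe]

/-- twisted Gauss sum over units -/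
lemma sum_twist (Ψ : AddChar F R) (χ : MulChar F R) (a : Fˣ) :
    ∑ u : Fˣ, Ψ ((a : F) * u) * χ⁻¹ (u : F) = χ (a : F) * ∑ y : F, Ψ y * χ⁻¹ y := by
  rw [← sum_units_eq (fun y => Ψ y * χ⁻¹ y) (by rw [MulChar.map_zero, mul_zero]), Finset.mul_sum]
  refine Fintype.sum_equiv (Equiv.mulLeft a) _ _ (fun u => ?_)
  simp only [Equiv.coe_mulLeft, Units.val_mul, map_mul]
  have h := inv_mul_apply χ a
  calc Ψ ((a : F) * u) * χ⁻¹ (u : F)
      = Ψ ((a : F) * u) * χ⁻¹ (u : F) * (χ⁻¹ (a : F) * χ (a : F)) := by rw [h, mul_one]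
    _ = χ (a : F) * (Ψ ((a : F) * u) * (χ⁻¹ (a : F) * χ⁻¹ (u : F))) := by ring

lemma sum_indicator (Ψ : AddChar F R) (hΨ : Ψ ≠ 1) (z : F) :
    ∑ a : F, Ψ (a * z) = if z = 0 then (Fintype.card F : R) else 0 := by
  rw [AddChar.sum_mulShift z (AddChar.IsPrimitive.of_ne_one hΨ)]
  split_ifs <;> simp

theorem s3129 (F : Type) [Field F] [Fintype F] [DecidableEq F] (R : Type) [CommRing R] [IsDomain R]
    (N : ℕ) (hN : 1 ≤ N) (χ : Fin (N + 1) → MulChar F R) (hprod : ∏ i, χ i = 1) (hnt : ∃ i, χ i ≠ 1)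
    (Ψ : AddChar F R) (hΨ : Ψ ≠ 1) :
    (Fintype.card F : R) * ((-1) ^ (N - 1) *
        ∑ x ∈ (Finset.univ : Finset (Fin N → Fˣ)).filter (fun x => ∑ i, ((x i : Fˣ) : F) = -1),
          ∏ i : Fin N, (χ i.succ)⁻¹ ((x i : Fˣ) : F)) =
      ∏ i : Fin (N + 1), (-(∑ y : F, Ψ y * (χ i)⁻¹ y)) := by
  classical
  set g : Fin (N + 1) → R := fun i => ∑ y : F, Ψ y * (χ i)⁻¹ y with hg
  -- the product of the tail characters
  have htail : ∏ i : Fin N, χ i.succ = (χ 0)⁻¹ := by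
    rw [Fin.prod_univ_succ] at hprod
    exact eq_inv_of_mul_eq_one_right hprod
  -- some tail character is nontrivial
  have hnt' : ∃ i : Fin N, χ i.succ ≠ 1 := by
    by_contra hcon
    push Not at hcon
    have h0 : χ 0 = 1 := by
      have : ∏ i : Fin N, χ i.succ = 1 := Finset.prod_eq_one (fun i _ => hcon i)
      rw [this] at htail
      exact inv_eq_one.mp htail.symm
    obtain ⟨i, hi⟩ := hnt
    refine Fin.cases ?_ (fun j => ?_) i hi
    · exact fun h => h h0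
    · exact fun h => h (hcon j)
  set h : Fin N → F → R := fun i a => ∑ u : Fˣ, Ψ (a * u) * (χ i.succ)⁻¹ (u : F) with hh
  -- Fourier expansion
  have step1 : (Fintype.card F : R) *
      ∑ x ∈ (Finset.univ : Finset (Fin N → Fˣ)).filter (fun x => ∑ i, ((x i : Fˣ) : F) = -1),
        ∏ i : Fin N, (χ i.succ)⁻¹ ((x i : Fˣ) : F) = ∑ a : F, Ψ a * ∏ i : Fin N, h i a := by
    rw [Finset.sum_filter, Finset.mul_sum]
    have e1 : ∀ x : Fin N → Fˣ,
        (Fintype.card F : R) * (if ∑ i, ((x i : Fˣ) : F) = -1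
          then ∏ i : Fin N, (χ i.succ)⁻¹ ((x i : Fˣ) : F) else 0) =
        ∑ a : F, Ψ a * ∏ i : Fin N, (Ψ (a * (x i : F)) * (χ i.succ)⁻¹ ((x i : Fˣ) : F)) := by
      intro x
      have hz := sum_indicator Ψ hΨ (∑ i, ((x i : Fˣ) : F) + 1)
      have hiff : (∑ i, ((x i : Fˣ) : F) + 1 = 0) ↔ (∑ i, ((x i : Fˣ) : F) = -1) :=
        ⟨fun h => eq_neg_of_add_eq_zero_left h, fun h => by rw [h]; ring⟩
      have e2 : ∀ a : F, Ψ a * ∏ i : Fin N, (Ψ (a * (x i : F)) * (χ i.succ)⁻¹ ((x i : Fˣ) : F)) =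
          Ψ (a * (∑ i, ((x i : Fˣ) : F) + 1)) * ∏ i : Fin N, (χ i.succ)⁻¹ ((x i : Fˣ) : F) := by
        intro a
        rw [Finset.prod_mul_distrib, mul_add, mul_one, AddChar.map_add_eq_mul, Finset.mul_sum,
          addChar_sum]
        ring
      simp_rw [e2]
      rw [← Finset.sum_mul, hz]
      simp only [hiff]
      split_ifs <;> simp
    simp_rw [e1]
    rw [Finset.sum_comm]
    refine Finset.sum_congr rfl (fun a _ => ?_)
    rw [← Finset.mul_sum]
    congr 1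
    simp only [hh]
    rw [Finset.prod_univ_sum, Fintype.piFinset_univ]
  -- the term a = 0 vanishes
  have hzero : ∏ i : Fin N, h i 0 = 0 := by
    obtain ⟨i, hi⟩ := hnt'
    apply Finset.prod_eq_zero (Finset.mem_univ i)
    simp only [hh, zero_mul, AddChar.map_zero_eq_one, one_mul]
    rw [sum_units_eq (fun y => (χ i.succ)⁻¹ y) (MulChar.map_zero _)]
    exact MulChar.sum_eq_zero_of_ne_one (inv_ne_one.mpr hi)
  -- the terms a ≠ 0
  have hne : ∀ a : Fˣ, ∏ i : Fin N, h i (a : F) = (χ 0)⁻¹ (a : F) * ∏ i : Fin N, g i.succ := by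
    intro a
    have : ∀ i : Fin N, h i (a : F) = (χ i.succ) (a : F) * g i.succ := fun i => sum_twist Ψ _ a
    simp_rw [this]
    rw [Finset.prod_mul_distrib, ← prod_apply, htail]
  have step2 : ∑ a : F, Ψ a * ∏ i : Fin N, h i a = ∏ i : Fin (N + 1), g i := by
    rw [← sum_units_eq (fun a => Ψ a * ∏ i : Fin N, h i a) (by simp [hzero])]
    simp_rw [hne]
    have : ∀ a : Fˣ, Ψ (a : F) * ((χ 0)⁻¹ (a : F) * ∏ i : Fin N, g i.succ) =
        (Ψ (a : F) * (χ 0)⁻¹ (a : F)) * ∏ i : Fin N, g i.succ := fun a => by ring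
    simp_rw [this]
    rw [← Finset.sum_mul, sum_units_eq (fun y => Ψ y * (χ 0)⁻¹ y)
      (by rw [MulChar.map_zero, mul_zero]), Fin.prod_univ_succ]
  have hsign : ∏ i : Fin (N + 1), (-(g i)) = (-1) ^ (N - 1) * ∏ i : Fin (N + 1), g i := by
    rw [Finset.prod_neg]
    simp only [Finset.card_univ, Fintype.card_fin]
    congr 1
    obtain ⟨m, rfl⟩ : ∃ m, N = m + 1 := ⟨N - 1, by omega⟩
    simp [pow_succ]
  rw [hsign, ← step2, ← step1]
  ring

end Groth.Agent.Lib.Helper24GaussJacobi
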