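import Mathlib

/-!
# The gcd of `∏_{a ≤ g} (ℓ^{2a} - 1)` over large primes `ℓ`

Helper library for S17445.
-/

namespace Groth.Agent.Lib.Helper24GcdProd

open Finset

theorem padicValNat_prod {ι : Type*} (p : ℕ) [Fact p.Prime] (s : Finset ι) (f : ι → ℕ)
    (hf : ∀ i ∈ s, f i ≠ 0) :
    padicValNat p (∏ i ∈ s, f i) = ∑ i ∈ s, padicValNat p (f i) := by
  classical
  induction s using Finset.induction_on with
  | empty => simp
  | insert a s ha ih =>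
    rw [Finset.prod_insert ha, Finset.sum_insert ha,
      padicValNat.mul (hf a (mem_insert_self _ _))
        (prod_ne_zero_iff.mpr fun i hi => hf i (mem_insert_of_mem hi)),
      ih fun i hi => hf i (mem_insert_of_mem hi)]

theorem sum_padicValNat_Icc (p : ℕ) [Fact p.Prime] (g : ℕ) :
    ∑ a ∈ Icc 1 g, padicValNat p a = padicValNat p g.factorial := by
  induction g with
  | zero => simp
  | succ g ih =>
    rw [Finset.sum_Icc_succ_top (by omega), ih, Nat.factorial_succ,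
      padicValNat.mul (by omega) (Nat.factorial_ne_zero g), add_comm]

theorem factor_ne_zero {ℓ a : ℕ} (hℓ : 1 < ℓ) (ha : 1 ≤ a) : ℓ ^ (2 * a) - 1 ≠ 0 := by
  have : 1 < ℓ ^ (2 * a) := Nat.one_lt_pow (by omega) hℓ
  omega

/-- The product. -/
def P (g ℓ : ℕ) : ℕ := ∏ a ∈ Icc 1 g, (ℓ ^ (2 * a) - 1)

theorem P_ne_zero {g ℓ : ℕ} (hℓ : 1 < ℓ) : P g ℓ ≠ 0 := by
  rw [P, prod_ne_zero_iff]
  intro a ha
  rw [mem_Icc] at ha
  exact factor_ne_zero hℓ ha.1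

theorem padicValNat_P (p : ℕ) [Fact p.Prime] {g ℓ : ℕ} (hℓ : 1 < ℓ) :
    padicValNat p (P g ℓ) = ∑ a ∈ Icc 1 g, padicValNat p (ℓ ^ (2 * a) - 1) := by
  rw [P, padicValNat_prod]
  intro a ha
  rw [mem_Icc] at ha
  exact factor_ne_zero hℓ ha.1

section Two

theorem v2_factor {ℓ a : ℕ} (hℓ : 1 < ℓ) (hodd : ¬ 2 ∣ ℓ) (ha : 1 ≤ a) :
    padicValNat 2 (ℓ ^ (2 * a) - 1) =
      padicValNat 2 (ℓ + 1) + padicValNat 2 (ℓ - 1) + padicValNat 2 a := by
  have h := padicValNat.pow_two_sub_one hℓ hodd (n := 2 * a) (by omega) (even_two_mul a)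
  have h2 : padicValNat 2 (2 * a) = 1 + padicValNat 2 a := by
    rw [padicValNat.mul (by norm_num) (by omega), padicValNat_self]
  omega

theorem v2_ge {ℓ : ℕ} (hℓ : 1 < ℓ) (hodd : ¬ 2 ∣ ℓ) :
    3 ≤ padicValNat 2 (ℓ + 1) + padicValNat 2 (ℓ - 1) := by
  have h8 : 2 ^ 3 ∣ (ℓ + 1) * (ℓ - 1) := by
    have := Nat.eight_dvd_sq_sub_one_of_odd (Nat.odd_iff.mpr (by omega) : Odd ℓ)
    have h1 : ℓ ^ 2 - 1 = (ℓ + 1) * (ℓ - 1) := by
      have := Nat.sq_sub_sq ℓ 1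
      simpa using this
    rw [h1] at this
    exact this
  rw [← padicValNat.mul (by omega) (by omega)]
  exact (padicValNat_dvd_iff_le (by
    apply Nat.mul_ne_zero <;> omega)).mp h8

theorem v2_three {ℓ : ℕ} (h : ℓ % 8 = 3) :
    padicValNat 2 (ℓ + 1) + padicValNat 2 (ℓ - 1) = 3 := by
  obtain ⟨q, rfl⟩ : ∃ q, ℓ = 8 * q + 3 := ⟨ℓ / 8, by omega⟩
  have h1 : 8 * q + 3 + 1 = 2 ^ 2 * (2 * q + 1) := by ring
  have h2 : 8 * q + 3 - 1 = 2 ^ 1 * (4 * q + 1) := by omega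
  rw [h1, h2, padicValNat.mul (by norm_num) (by omega), padicValNat.mul (by norm_num) (by omega),
    padicValNat.prime_pow, padicValNat.prime_pow,
    padicValNat.eq_zero_of_not_dvd (by omega), padicValNat.eq_zero_of_not_dvd (by omega)]

end Two

section Odd

variable (p : ℕ) [hp : Fact p.Prime]

theorem fermat {ℓ : ℕ} (hpℓ : ¬ p ∣ ℓ) : p ∣ ℓ ^ (p - 1) - 1 := by
  have hcop : Nat.Coprime ℓ p := ((Nat.Prime.coprime_iff_not_dvd hp.out).mpr hpℓ).symm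
  have := Nat.ModEq.pow_totient hcop
  rw [Nat.totient_prime hp.out] at this
  exact (Nat.modEq_iff_dvd' (Nat.one_le_pow _ _ (Nat.pos_of_ne_zero (by
    rintro rfl; exact hpℓ (dvd_zero p))))).mp this.symm

include hp in
theorem vp_factor (hodd : Odd p) {ℓ : ℕ} (hℓ : 1 < ℓ) (hpℓ : ¬ p ∣ ℓ) {i : ℕ} (hi : i ≠ 0) :
    padicValNat p (ℓ ^ ((p - 1) * i) - 1) =
      padicValNat p (ℓ ^ (p - 1) - 1) + padicValNat p i := by
  have hp1 : p - 1 ≠ 0 := by have := hp.out.two_le; omega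
  have h := padicValNat.pow_sub_pow (p := p) hodd (x := ℓ ^ (p - 1)) (y := 1)
    (Nat.one_lt_pow hp1 hℓ) (fermat p hpℓ)
    (fun h => hpℓ (hp.out.dvd_of_dvd_pow h)) hi
  rw [one_pow, ← pow_mul] at h
  exact h

/-- generic element: the valuation of `ℓ^n - 1` is governed by a generator -/
theorem exists_gen_prime (hp2 : p ≠ 2) (B : ℕ) :
    ∃ ℓ : ℕ, ℓ.Prime ∧ B < ℓ ∧ ¬ p ∣ ℓ ∧ ∀ n : ℕ, p ^ 2 ∣ ℓ ^ n - 1 ↔ p * (p - 1) ∣ n := by
  haveI := ZMod.isCyclic_units_of_prime_pow p hp.out hp2 2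
  obtain ⟨u, hu⟩ := IsCyclic.exists_generator (α := (ZMod (p ^ 2))ˣ)
  have hord : orderOf u = p * (p - 1) := by
    rw [orderOf_eq_card_of_forall_mem_zpowers hu, Nat.card_eq_fintype_card,
      ZMod.card_units_eq_totient, Nat.totient_prime_pow hp.out (by norm_num)]
    simp
  have hcop : Nat.Coprime (u : ZMod (p ^ 2)).val (p ^ 2) := ZMod.val_coe_unit_coprime u
  have hp2ne : p ^ 2 ≠ 0 := pow_ne_zero _ hp.out.ne_zero
  obtain ⟨ℓ, hℓB, hℓ, hmod⟩ := Nat.forall_exists_prime_gt_and_modEq (max B p) hp2ne hcop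
  have hℓu : ((ℓ : ℕ) : ZMod (p ^ 2)) = (u : ZMod (p ^ 2)) := by
    haveI : NeZero (p ^ 2) := ⟨hp2ne⟩
    rw [(ZMod.natCast_eq_natCast_iff _ _ _).mpr hmod, ZMod.natCast_zmod_val]
  refine ⟨ℓ, hℓ, lt_of_le_of_lt (le_max_left _ _) hℓB, ?_, ?_⟩
  · intro h
    have := (Nat.prime_dvd_prime_iff_eq hp.out hℓ).mp h
    have h2 : p < ℓ := lt_of_le_of_lt (le_max_right _ _) hℓB
    omega
  · intro n
    have h1 : 1 ≤ ℓ ^ n := Nat.one_le_pow _ _ hℓ.pos
    rw [← ZMod.natCast_eq_zero_iff, Nat.cast_sub h1, Nat.cast_pow, hℓu, sub_eq_zero,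
      Nat.cast_one, ← hord, orderOf_dvd_iff_pow_eq_one, ← Units.val_pow_eq_pow_val,
      ← Units.val_one, Units.val_inj]

include hp in
theorem gen_val_one (hodd : Odd p) {ℓ : ℕ} (hℓ : 1 < ℓ) (hpℓ : ¬ p ∣ ℓ)
    (hgen : ∀ n : ℕ, p ^ 2 ∣ ℓ ^ n - 1 ↔ p * (p - 1) ∣ n) :
    padicValNat p (ℓ ^ (p - 1) - 1) = 1 := by
  have hp1 : p - 1 ≠ 0 := by have := hp.out.two_le; omega
  have hne : ℓ ^ (p - 1) - 1 ≠ 0 := by
    have := Nat.one_lt_pow hp1 hℓ
    omega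
  have h1 : 1 ≤ padicValNat p (ℓ ^ (p - 1) - 1) :=
    (padicValNat_dvd_iff_le hne).mp (by simpa using fermat p hpℓ)
  have h2 : ¬ 2 ≤ padicValNat p (ℓ ^ (p - 1) - 1) := by
    intro h
    have := (padicValNat_dvd_iff_le hne).mpr h
    rw [hgen] at this
    have := Nat.le_of_dvd (by omega) this
    have hp2 := hp.out.two_le
    have h3 : 2 * (p - 1) ≤ p * (p - 1) := Nat.mul_le_mul_right _ hp2
    omega
  omega

include hp in
theorem gen_not_dvd (hodd : Odd p) {ℓ : ℕ} (hℓ : 1 < ℓ) (hpℓ : ¬ p ∣ ℓ)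
    (hgen : ∀ n : ℕ, p ^ 2 ∣ ℓ ^ n - 1 ↔ p * (p - 1) ∣ n) {a : ℕ} (ha : 1 ≤ a)
    (hdiv : ¬ (p - 1) ∣ 2 * a) : padicValNat p (ℓ ^ (2 * a) - 1) = 0 := by
  apply padicValNat.eq_zero_of_not_dvd
  intro h
  apply hdiv
  have hlt : 1 < ℓ ^ (2 * a) := Nat.one_lt_pow (by omega) hℓ
  have hl := padicValNat.pow_sub_pow (p := p) hodd (x := ℓ ^ (2 * a)) (y := 1) hlt h
    (fun h => hpℓ (hp.out.dvd_of_dvd_pow h)) hp.out.ne_zero
  rw [one_pow, ← pow_mul, padicValNat_self] at hl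
  have hne : ℓ ^ (2 * a) - 1 ≠ 0 := by omega
  have h1 : 1 ≤ padicValNat p (ℓ ^ (2 * a) - 1) :=
    (padicValNat_dvd_iff_le hne).mp (by simpa using h)
  have hne2 : ℓ ^ (2 * a * p) - 1 ≠ 0 := by
    have : 1 < ℓ ^ (2 * a * p) := Nat.one_lt_pow (by have := hp.out.two_le; positivity) hℓ
    omega
  have h2 : p ^ 2 ∣ ℓ ^ (2 * a * p) - 1 := (padicValNat_dvd_iff_le hne2).mpr (by omega)
  rw [hgen, mul_comm (2 * a) p] at h2
  exact Nat.dvd_of_mul_dvd_mul_left hp.out.pos h2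

end Odd

section Sum

theorem filter_eq_image (h g : ℕ) (hh : 0 < h) :
    (Icc 1 g).filter (h ∣ ·) = (Icc 1 (g / h)).image (h * ·) := by
  ext a
  simp only [mem_filter, mem_Icc, mem_image]
  constructor
  · rintro ⟨⟨h1, h2⟩, i, rfl⟩
    refine ⟨i, ⟨?_, ?_⟩, rfl⟩
    · rcases Nat.eq_zero_or_pos i with rfl | hi
      · simp at h1
      · exact hi
    · rw [Nat.le_div_iff_mul_le hh, mul_comm]
      exact h2
  · rintro ⟨i, ⟨h1, h2⟩, rfl⟩
    refine ⟨⟨Nat.mul_pos hh h1, ?_⟩, dvd_mul_right _ _⟩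
    calc h * i ≤ h * (g / h) := Nat.mul_le_mul_left _ h2
      _ ≤ g := Nat.mul_div_le g h

theorem sum_multiples (h g : ℕ) (hh : 0 < h) (F : ℕ → ℕ) :
    ∑ a ∈ (Icc 1 g).filter (h ∣ ·), F a = ∑ i ∈ Icc 1 (g / h), F (h * i) := by
  rw [filter_eq_image h g hh, sum_image]
  intro x _ y _ hxy
  exact Nat.eq_of_mul_eq_mul_left hh hxy

variable (p : ℕ) [hp : Fact p.Prime]

include hp in
theorem half_spec (hodd : Odd p) : p - 1 = 2 * ((p - 1) / 2) ∧ 0 < (p - 1) / 2 := by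
  obtain ⟨m, hm⟩ := hodd
  have := hp.out.two_le
  constructor <;> omega

include hp in
theorem t_eq (hodd : Odd p) (g : ℕ) : 2 * g / (p - 1) = g / ((p - 1) / 2) := by
  obtain ⟨h1, h2⟩ := half_spec p hodd
  conv_lhs => rw [h1]
  exact Nat.mul_div_mul_left g _ (by norm_num)

include hp in
theorem vp_P_lower (hodd : Odd p) {ℓ : ℕ} (hℓ : 1 < ℓ) (hpℓ : ¬ p ∣ ℓ) (g : ℕ) :
    2 * g / (p - 1) + ∑ i ∈ Icc 1 (2 * g / (p - 1)), padicValNat p i ≤ padicValNat p (P g ℓ) := by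
  obtain ⟨h1, h2⟩ := half_spec p hodd
  rw [padicValNat_P p hℓ, t_eq p hodd]
  set h := (p - 1) / 2 with hh
  calc g / h + ∑ i ∈ Icc 1 (g / h), padicValNat p i
      = ∑ i ∈ Icc 1 (g / h), (1 + padicValNat p i) := by
        rw [sum_add_distrib, sum_const, Nat.card_Icc]; simp
    _ ≤ ∑ i ∈ Icc 1 (g / h), padicValNat p (ℓ ^ (2 * (h * i)) - 1) := by
        apply sum_le_sum
        intro i hi
        rw [mem_Icc] at hi
        rw [← mul_assoc, ← h1, vp_factor p hodd hℓ hpℓ (by omega)]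
        have hp1 : p - 1 ≠ 0 := by omega
        have hne : ℓ ^ (p - 1) - 1 ≠ 0 := by
          have := Nat.one_lt_pow hp1 hℓ
          omega
        have : 1 ≤ padicValNat p (ℓ ^ (p - 1) - 1) :=
          (padicValNat_dvd_iff_le hne).mp (by simpa using fermat p hpℓ)
        omega
    _ = ∑ a ∈ (Icc 1 g).filter (h ∣ ·), padicValNat p (ℓ ^ (2 * a) - 1) :=
        (sum_multiples h g h2 (fun a => padicValNat p (ℓ ^ (2 * a) - 1))).symm
    _ ≤ ∑ a ∈ Icc 1 g, padicValNat p (ℓ ^ (2 * a) - 1) :=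
        sum_le_sum_of_subset (filter_subset _ _)

include hp in
theorem vp_P_exact (hodd : Odd p) {ℓ : ℕ} (hℓ : 1 < ℓ) (hpℓ : ¬ p ∣ ℓ)
    (hgen : ∀ n : ℕ, p ^ 2 ∣ ℓ ^ n - 1 ↔ p * (p - 1) ∣ n) (g : ℕ) :
    padicValNat p (P g ℓ) =
      2 * g / (p - 1) + ∑ i ∈ Icc 1 (2 * g / (p - 1)), padicValNat p i := by
  obtain ⟨h1, h2⟩ := half_spec p hodd
  rw [padicValNat_P p hℓ, t_eq p hodd]
  set h := (p - 1) / 2 with hh
  have hfil : ∑ a ∈ (Icc 1 g).filter (h ∣ ·), padicValNat p (ℓ ^ (2 * a) - 1) =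
      ∑ a ∈ Icc 1 g, padicValNat p (ℓ ^ (2 * a) - 1) := by
    apply sum_filter_of_ne
    intro a ha hne
    by_contra hdiv
    apply hne
    rw [mem_Icc] at ha
    apply gen_not_dvd p hodd hℓ hpℓ hgen ha.1
    rw [h1]
    intro h3
    exact hdiv ((Nat.mul_dvd_mul_iff_left (by norm_num)).mp h3)
  rw [← hfil, sum_multiples h g h2 (fun a => padicValNat p (ℓ ^ (2 * a) - 1))]
  calc ∑ i ∈ Icc 1 (g / h), padicValNat p (ℓ ^ (2 * (h * i)) - 1)
      = ∑ i ∈ Icc 1 (g / h), (1 + padicValNat p i) := by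
        apply sum_congr rfl
        intro i hi
        rw [mem_Icc] at hi
        rw [← mul_assoc, ← h1, vp_factor p hodd hℓ hpℓ (by omega),
          gen_val_one p hodd hℓ hpℓ hgen]
    _ = g / h + ∑ i ∈ Icc 1 (g / h), padicValNat p i := by
        rw [sum_add_distrib, sum_const, Nat.card_Icc]; simp

end Sum

section TwoSum

theorem v2_P_lower {ℓ : ℕ} (hℓ : 1 < ℓ) (hodd : ¬ 2 ∣ ℓ) (g : ℕ) :
    3 * g + padicValNat 2 g.factorial ≤ padicValNat 2 (P g ℓ) := by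
  rw [padicValNat_P 2 hℓ, ← sum_padicValNat_Icc]
  calc 3 * g + ∑ a ∈ Icc 1 g, padicValNat 2 a
      = ∑ a ∈ Icc 1 g, (3 + padicValNat 2 a) := by
        rw [sum_add_distrib, sum_const, Nat.card_Icc]; simp [mul_comm]
    _ ≤ ∑ a ∈ Icc 1 g, padicValNat 2 (ℓ ^ (2 * a) - 1) := by
        apply sum_le_sum
        intro a ha
        rw [mem_Icc] at ha
        rw [v2_factor hℓ hodd ha.1]
        have := v2_ge hℓ hodd
        omega

theorem v2_P_exact {ℓ : ℕ} (hℓ : ℓ % 8 = 3) (g : ℕ) :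
    padicValNat 2 (P g ℓ) = 3 * g + padicValNat 2 g.factorial := by
  have h1 : 1 < ℓ := by omega
  have hodd : ¬ 2 ∣ ℓ := by omega
  rw [padicValNat_P 2 h1, ← sum_padicValNat_Icc]
  calc ∑ a ∈ Icc 1 g, padicValNat 2 (ℓ ^ (2 * a) - 1)
      = ∑ a ∈ Icc 1 g, (3 + padicValNat 2 a) := by
        apply sum_congr rfl
        intro a ha
        rw [mem_Icc] at ha
        rw [v2_factor h1 hodd ha.1, v2_three hℓ]
    _ = 3 * g + ∑ a ∈ Icc 1 g, padicValNat 2 a := by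
        rw [sum_add_distrib, sum_const, Nat.card_Icc]; simp [mul_comm]

end TwoSum

section Main

theorem prod_prime_pow_dvd (s : Finset ℕ) (e : ℕ → ℕ) (z : ℕ) (hs : ∀ p ∈ s, p.Prime)
    (hz : ∀ p ∈ s, p ^ e p ∣ z) : ∏ p ∈ s, p ^ e p ∣ z := by
  induction s using Finset.induction_on with
  | empty => simp
  | insert a s ha ih =>
    rw [prod_insert ha]
    apply Nat.Coprime.mul_dvd_of_dvd_of_dvd
    · apply Nat.Coprime.prod_right
      intro q hq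
      apply Nat.Coprime.pow
      rw [Nat.coprime_primes (hs a (mem_insert_self _ _)) (hs q (mem_insert_of_mem hq))]
      rintro rfl
      exact ha hq
    · exact hz a (mem_insert_self _ _)
    · exact ih (fun q hq => hs q (mem_insert_of_mem hq)) (fun q hq => hz q (mem_insert_of_mem hq))

theorem main (g B d : ℕ) (hB : 2 * g + 1 ≤ B) :
    (∀ ℓ : ℕ, ℓ.Prime → B < ℓ → d ∣ ∏ a ∈ Icc 1 g, (ℓ ^ (2 * a) - 1)) ↔
      d ∣ 2 ^ (3 * g + padicValNat 2 g.factorial) *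
        ∏ p ∈ (Icc 3 (2 * g + 1)).filter Nat.Prime,
          p ^ ((2 * g) / (p - 1) + ∑ i ∈ Icc 1 ((2 * g) / (p - 1)), padicValNat p i) := by
  change (∀ ℓ : ℕ, ℓ.Prime → B < ℓ → d ∣ P g ℓ) ↔ _
  rcases Nat.eq_zero_or_pos g with rfl | hg
  · -- g = 0
    have hN : 2 ^ (3 * 0 + padicValNat 2 (Nat.factorial 0)) *
        ∏ p ∈ (Icc 3 (2 * 0 + 1)).filter Nat.Prime,
          p ^ ((2 * 0) / (p - 1) + ∑ i ∈ Icc 1 ((2 * 0) / (p - 1)), padicValNat p i) = 1 := by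
      simp
    rw [hN]
    constructor
    · intro h
      obtain ⟨ℓ, hℓB, hℓ⟩ := Nat.exists_infinite_primes (B + 1)
      have := h ℓ hℓ (by omega)
      simpa [P] using this
    · intro h ℓ _ _
      simpa [P] using h
  constructor
  · intro h
    rw [Nat.dvd_iff_prime_pow_dvd_dvd]
    intro q k hq hqk
    haveI : Fact q.Prime := ⟨hq⟩
    rcases eq_or_ne q 2 with rfl | hq2
    · obtain ⟨ℓ, hℓB, hℓ, hmod⟩ := Nat.forall_exists_prime_gt_and_modEq B (q := 8) (a := 3)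
        (by norm_num) (by norm_num)
      have hmod' : ℓ % 8 = 3 := hmod
      have hdvd : 2 ^ k ∣ P g ℓ := hqk.trans (h ℓ hℓ hℓB)
      have hk := (padicValNat_dvd_iff_le (P_ne_zero hℓ.one_lt)).mp hdvd
      rw [v2_P_exact hmod'] at hk
      exact (pow_dvd_pow 2 hk).trans (dvd_mul_right _ _)
    · have hodd : Odd q := hq.odd_of_ne_two hq2
      obtain ⟨ℓ, hℓ, hℓB, hqℓ, hgen⟩ := exists_gen_prime q hq2 B
      have hdvd : q ^ k ∣ P g ℓ := hqk.trans (h ℓ hℓ hℓB)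
      have hk := (padicValNat_dvd_iff_le (P_ne_zero hℓ.one_lt)).mp hdvd
      rw [vp_P_exact q hodd hℓ.one_lt hqℓ hgen] at hk
      by_cases hqS : q ≤ 2 * g + 1
      · have hmem : q ∈ (Icc 3 (2 * g + 1)).filter Nat.Prime := by
          rw [mem_filter, mem_Icc]
          have := hq.two_le
          exact ⟨⟨by omega, hqS⟩, hq⟩
        exact ((pow_dvd_pow q hk).trans (dvd_prod_of_mem
          (fun p => p ^ ((2 * g) / (p - 1) + ∑ i ∈ Icc 1 ((2 * g) / (p - 1)), padicValNat p i))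
          hmem)).trans (dvd_mul_left _ _)
      · have ht : 2 * g / (q - 1) = 0 := Nat.div_eq_of_lt (by omega)
        rw [ht] at hk
        simp at hk
        subst hk
        simp
  · intro h ℓ hℓ hℓB
    apply h.trans
    have hℓ1 : 1 < ℓ := hℓ.one_lt
    have hℓodd : ¬ 2 ∣ ℓ := by
      intro h2
      have := (Nat.prime_dvd_prime_iff_eq Nat.prime_two hℓ).mp h2
      omega
    apply Nat.Coprime.mul_dvd_of_dvd_of_dvd
    · apply Nat.Coprime.pow_left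
      apply Nat.Coprime.prod_right
      intro q hq
      rw [mem_filter, mem_Icc] at hq
      apply Nat.Coprime.pow_right
      rw [Nat.coprime_primes Nat.prime_two hq.2]
      omega
    · exact (padicValNat_dvd_iff_le (P_ne_zero hℓ1)).mpr (v2_P_lower hℓ1 hℓodd g)
    · apply prod_prime_pow_dvd _ (fun p => (2 * g) / (p - 1) +
        ∑ i ∈ Icc 1 ((2 * g) / (p - 1)), padicValNat p i)
      · intro q hq
        exact (mem_filter.mp hq).2
      · intro q hq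
        rw [mem_filter, mem_Icc] at hq
        haveI : Fact q.Prime := ⟨hq.2⟩
        have hodd : Odd q := hq.2.odd_of_ne_two (by omega)
        have hqℓ : ¬ q ∣ ℓ := by
          intro h2
          have := (Nat.prime_dvd_prime_iff_eq hq.2 hℓ).mp h2
          omega
        exact (padicValNat_dvd_iff_le (P_ne_zero hℓ1)).mpr (vp_P_lower q hodd hℓ1 hqℓ g)

end Main

end Groth.Agent.Lib.Helper24GcdProd
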