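import Mathlib
import Groth.Agent.Lib.Helper24Nodal1

/-!
# Five points in general position on a cubic surface: tools (helper24)
-/

namespace Groth.Agent.Lib.Helper24Gp5

open MvPolynomial
open Groth.Agent.Lib.Helper24CubicSec Groth.Agent.Lib.Helper24CubicLines
open Groth.Agent.Lib.Helper24CubicSing Groth.Agent.Lib.Helper24Nodal

variable {k : Type*} [Field k]

theorem exists_eval_ne_zero [Infinite k] {n : ℕ} (G : MvPolynomial (Fin n) k) (hG : G ≠ 0) :
    ∃ x, eval x G ≠ 0 := by
  by_contra hcon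
  push Not at hcon
  exact hG (MvPolynomial.funext (fun x => by rw [hcon x, map_zero]))

/-- substitution congruence -/
theorem sub_aeval_mem {n : ℕ} (J : Ideal (MvPolynomial (Fin n) k))
    (τ : Fin n → MvPolynomial (Fin n) k)
    (h : ∀ j, X j - τ j ∈ J) (p : MvPolynomial (Fin n) k) : p - aeval τ p ∈ J := by
  induction p using MvPolynomial.induction_on with
  | C c => simp
  | add p q hp hq =>
    rw [map_add]
    have := J.add_mem hp hq
    convert this using 1
    ring
  | mul_X p i hp =>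
    rw [map_mul, aeval_X]
    have e : p * X i - aeval τ p * τ i = (p - aeval τ p) * X i + aeval τ p * (X i - τ i) := by
      ring
    rw [e]
    exact J.add_mem (J.mul_mem_right _ hp) (J.mul_mem_left _ (h i))

/-- A polynomial over an infinite field vanishing on a hyperplane is divisible by its equation. -/
theorem linForm_dvd_of_vanish_inf [Infinite k] {n : ℕ} (φ : (Fin n → k) →ₗ[k] k) (hφ : φ ≠ 0)
    (g : MvPolynomial (Fin n) k) (hg : ∀ w, φ w = 0 → eval w g = 0) : linForm φ ∣ g := by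
  obtain ⟨w, hw⟩ : ∃ w, φ w = 1 := by
    obtain ⟨w, hw⟩ : ∃ w, φ w ≠ 0 := by
      by_contra hcon
      push Not at hcon
      exact hφ (LinearMap.ext hcon)
    exact ⟨(φ w)⁻¹ • w, by rw [map_smul, smul_eq_mul, inv_mul_cancel₀ hw]⟩
  obtain ⟨τ, hτ⟩ : ∃ τ : Fin n → MvPolynomial (Fin n) k, τ = fun j => X j - C (w j) * linForm φ :=
    ⟨_, rfl⟩
  have h0 : aeval τ g = 0 := by
    apply MvPolynomial.funext
    intro x
    rw [eval_aeval_gen, map_zero]
    apply hg
    have : (fun i => eval x (τ i)) = x - φ x • w := by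
      funext i
      simp [hτ, eval_linForm]
      ring
    rw [this, map_sub, map_smul, hw]
    simp
  have h1 := sub_aeval_mem (Ideal.span {linForm φ}) τ (fun j => by
    rw [hτ]
    simp only [sub_sub_cancel]
    exact Ideal.mul_mem_left _ _ (Ideal.subset_span rfl)) g
  rw [h0, sub_zero] at h1
  exact Ideal.mem_span_singleton.1 h1

theorem exists_functional3 (x y z : Fin 4 → k) :
    ∃ g : (Fin 4 → k) →ₗ[k] k, g ≠ 0 ∧ g x = 0 ∧ g y = 0 ∧ g z = 0 := by
  have hlt : Submodule.span k (Set.range ![x, y, z]) < ⊤ := by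
    rw [lt_top_iff_ne_top]
    intro h
    have h1 : Module.finrank k (Submodule.span k (Set.range ![x, y, z])) ≤ 3 := by
      have := finrank_range_le_card (R := k) ![x, y, z]
      simpa [Set.finrank] using this
    rw [h] at h1
    simp at h1
  obtain ⟨g, hg0, hg⟩ := Submodule.exists_le_ker_of_lt_top _ hlt
  exact ⟨g, hg0, hg (Submodule.subset_span ⟨0, rfl⟩), hg (Submodule.subset_span ⟨1, rfl⟩),
    hg (Submodule.subset_span ⟨2, rfl⟩)⟩

/-- explicit linear independence of three vectors -/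
def LI3 (x1 x2 x3 : Fin 4 → k) : Prop :=
  ∀ c1 c2 c3 : k, c1 • x1 + c2 • x2 + c3 • x3 = 0 → c1 = 0 ∧ c2 = 0 ∧ c3 = 0

/-- explicit linear independence of four vectors -/
def LI4 (x1 x2 x3 x4 : Fin 4 → k) : Prop :=
  ∀ c1 c2 c3 c4 : k, c1 • x1 + c2 • x2 + c3 • x3 + c4 • x4 = 0 →
    c1 = 0 ∧ c2 = 0 ∧ c3 = 0 ∧ c4 = 0

variable {x1 x2 x3 x4 : Fin 4 → k}

theorem LI4.linearIndependent (h : LI4 x1 x2 x3 x4) : LinearIndependent k ![x1, x2, x3, x4] := by
  rw [Fintype.linearIndependent_iff]
  intro g hg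
  rw [Fin.sum_univ_four] at hg
  obtain ⟨h1, h2, h3, h4⟩ := h (g 0) (g 1) (g 2) (g 3) (by simpa using hg)
  intro i
  fin_cases i <;> assumption

theorem LI4.rotate (h : LI4 x1 x2 x3 x4) : LI4 x2 x3 x4 x1 := by
  intro c1 c2 c3 c4 hc
  obtain ⟨h1, h2, h3, h4⟩ := h c4 c1 c2 c3 (by rw [← hc]; abel)
  exact ⟨h2, h3, h4, h1⟩

theorem LI4.swap (h : LI4 x1 x2 x3 x4) : LI4 x2 x1 x3 x4 := by
  intro c1 c2 c3 c4 hc
  obtain ⟨h1, h2, h3, h4⟩ := h c2 c1 c3 c4 (by rw [← hc]; abel)
  exact ⟨h2, h1, h3, h4⟩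

theorem LI4.left3 (h : LI4 x1 x2 x3 x4) : LI3 x1 x2 x3 := by
  intro c1 c2 c3 hc
  obtain ⟨h1, h2, h3, -⟩ := h c1 c2 c3 0 (by rw [zero_smul, add_zero, hc])
  exact ⟨h1, h2, h3⟩

theorem LI3.rotate {x1 x2 x3 : Fin 4 → k} (h : LI3 x1 x2 x3) : LI3 x2 x3 x1 := by
  intro c1 c2 c3 hc
  obtain ⟨h1, h2, h3⟩ := h c3 c1 c2 (by rw [← hc]; abel)
  exact ⟨h2, h3, h1⟩

/-- three independent vectors in the kernel of a functional and a fourth outside it -/
theorem LI4_last (f : (Fin 4 → k) →ₗ[k] k) (h1 : f x1 = 0) (h2 : f x2 = 0) (h3 : f x3 = 0)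
    (h4 : f x4 ≠ 0) (h : LI3 x1 x2 x3) : LI4 x1 x2 x3 x4 := by
  intro c1 c2 c3 c4 hc
  have h5 := congrArg f hc
  simp only [map_add, map_smul, h1, h2, h3, smul_eq_mul, mul_zero, zero_add, map_zero] at h5
  have hc4 : c4 = 0 := by
    rcases mul_eq_zero.1 h5 with h6 | h6
    · exact h6
    · exact absurd h6 h4
  rw [hc4, zero_smul, add_zero] at hc
  obtain ⟨a1, a2, a3⟩ := h c1 c2 c3 hc
  exact ⟨a1, a2, a3, hc4⟩

theorem five_points (p0 p1 p2 p3 p4 : Fin 4 → k) (h0 : LI4 p1 p2 p3 p4) (h1 : LI4 p0 p2 p3 p4)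
    (h2 : LI4 p0 p1 p3 p4) (h3 : LI4 p0 p1 p2 p4) (h4 : LI4 p0 p1 p2 p3) :
    ∀ j : Fin 5, LinearIndependent k (fun i : Fin 4 => ![p0, p1, p2, p3, p4] (j.succAbove i)) := by
  intro j
  fin_cases j
  · convert h0.linearIndependent using 1
    funext i
    fin_cases i <;> rfl
  · convert h1.linearIndependent using 1
    funext i
    fin_cases i <;> rfl
  · convert h2.linearIndependent using 1
    funext i
    fin_cases i <;> rfl
  · convert h3.linearIndependent using 1
    funext i
    fin_cases i <;> rfl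
  · convert h4.linearIndependent using 1
    funext i
    fin_cases i <;> rfl

section Third

variable [CharZero k] (F : MvPolynomial (Fin 4) k) (hF : F.IsHomogeneous 3)

/-- The third intersection point with `F = 0` of the tangent line at `b` in the direction `x`. -/
noncomputable def third (b x : Fin 4 → k) : Fin 4 → k :=
  eval x F • b - eval x (polar F b) • x

include hF in
theorem eval_third (b : Fin 4 → k) (hFb : eval b F = 0) (x : Fin 4 → k) (hx : dF F b x = 0) :
    eval (third F b x) F = 0 := by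
  have h := expand_at F hF b hFb x (eval x F) (-(eval x (polar F b)))
  have e : third F b x = eval x F • b + (-(eval x (polar F b))) • x := by
    rw [third, neg_smul, sub_eq_add_neg]
  rw [e, h, hx]
  ring

end Third

/-- A geometrically irreducible cubic is not a product of a quadric and a linear form. -/
theorem not_factor (F : MvPolynomial (Fin 4) k)
    (hirr : Irreducible (MvPolynomial.map (algebraMap k (AlgebraicClosure k)) F))
    (c : k) (hc : c ≠ 0) (Q L : MvPolynomial (Fin 4) k) (hQ : Q.IsHomogeneous 2) (hQ0 : Q ≠ 0)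
    (hL : L.IsHomogeneous 1) (hL0 : L ≠ 0) : C c * F ≠ Q * L := by
  intro h
  have hinj : Function.Injective (algebraMap k (AlgebraicClosure k)) :=
    (algebraMap k (AlgebraicClosure k)).injective
  have hmapinj := MvPolynomial.map_injective (σ := Fin 4) _ hinj
  have h1 := congrArg (MvPolynomial.map (algebraMap k (AlgebraicClosure k))) h
  rw [map_mul, map_mul, map_C] at h1
  have hc' : algebraMap k (AlgebraicClosure k) c ≠ 0 := by
    rw [Ne, map_eq_zero_iff _ hinj]; exact hc
  have h2 : MvPolynomial.map (algebraMap k (AlgebraicClosure k)) F =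
      (C (algebraMap k (AlgebraicClosure k) c)⁻¹ * MvPolynomial.map (algebraMap k _) Q) *
        MvPolynomial.map (algebraMap k _) L := by
    rw [mul_assoc, ← h1, ← mul_assoc, ← C_mul, inv_mul_cancel₀ hc', C_1, one_mul]
  have hQ' : (MvPolynomial.map (algebraMap k (AlgebraicClosure k)) Q).totalDegree = 2 := by
    apply (hQ.map _).totalDegree
    intro h0
    apply hQ0
    apply hmapinj
    rw [h0, map_zero]
  have hL' : (MvPolynomial.map (algebraMap k (AlgebraicClosure k)) L).totalDegree = 1 := by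
    apply (hL.map _).totalDegree
    intro h0
    apply hL0
    apply hmapinj
    rw [h0, map_zero]
  rcases hirr.isUnit_or_isUnit h2 with hu | hu
  · have h3 := (isUnit_iff_totalDegree_of_isReduced.mp hu).2
    have hinv : (algebraMap k (AlgebraicClosure k) c)⁻¹ ≠ 0 := inv_ne_zero hc'
    rw [totalDegree_mul_of_isDomain (by rw [Ne, C_eq_zero]; exact hinv)
      (by intro h0; rw [h0] at hQ'; simp at hQ'), totalDegree_C, hQ'] at h3
    omega
  · have h3 := (isUnit_iff_totalDegree_of_isReduced.mp hu).2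
    omega

end Groth.Agent.Lib.Helper24Gp5
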