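import Mathlib
import Groth.Agent.Lib.Helper24Gp5a

/-!
# Five points in general position on a cubic surface: the singular case (helper24)
-/

namespace Groth.Agent.Lib.Helper24Gp5

open MvPolynomial
open Groth.Agent.Lib.Helper24CubicSec Groth.Agent.Lib.Helper24CubicLines
open Groth.Agent.Lib.Helper24CubicSing Groth.Agent.Lib.Helper24Nodal

variable {k : Type*} [Field k]

variable {x1 x2 x3 x4 : Fin 4 → k}

theorem LI4.swap23 (h : LI4 x1 x2 x3 x4) : LI4 x1 x3 x2 x4 := by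
  intro c1 c2 c3 c4 hc
  obtain ⟨h1, h2, h3, h4⟩ := h c1 c3 c2 c4 (by rw [← hc]; abel)
  exact ⟨h1, h3, h2, h4⟩

theorem LI4.swap34 (h : LI4 x1 x2 x3 x4) : LI4 x1 x2 x4 x3 := by
  intro c1 c2 c3 c4 hc
  obtain ⟨h1, h2, h3, h4⟩ := h c1 c2 c4 c3 (by rw [← hc]; abel)
  exact ⟨h1, h2, h4, h3⟩

theorem functional_eq_zero_of_LI4 (h : LI4 x1 x2 x3 x4) (g : (Fin 4 → k) →ₗ[k] k)
    (h1 : g x1 = 0) (h2 : g x2 = 0) (h3 : g x3 = 0) (h4 : g x4 = 0) : g = 0 := by
  have hcard : Fintype.card (Fin 4) = Module.finrank k (Fin 4 → k) := by simp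
  apply (basisOfLinearIndependentOfCardEqFinrank h.linearIndependent hcard).ext
  intro i
  rw [coe_basisOfLinearIndependentOfCardEqFinrank]
  fin_cases i <;> simpa

theorem LI4_third {a x y z : Fin 4 → k} (h : LI4 a x y z) (f g e p q r : k) (hp : p ≠ 0)
    (hq : q ≠ 0) (hr : r ≠ 0) : LI4 a (f • a - p • x) (g • a - q • y) (e • a - r • z) := by
  intro c1 c2 c3 c4 hc
  obtain ⟨h1, h2, h3, h4⟩ := h (c1 + c2 * f + c3 * g + c4 * e) (-(c2 * p)) (-(c3 * q)) (-(c4 * r))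
    (by
      rw [← hc]
      simp only [smul_sub, smul_smul, add_smul, neg_smul]
      abel)
  have e2 : c2 = 0 := by
    rcases mul_eq_zero.1 (neg_eq_zero.1 h2) with h5 | h5
    · exact h5
    · exact absurd h5 hp
  have e3 : c3 = 0 := by
    rcases mul_eq_zero.1 (neg_eq_zero.1 h3) with h5 | h5
    · exact h5
    · exact absurd h5 hq
  have e4 : c4 = 0 := by
    rcases mul_eq_zero.1 (neg_eq_zero.1 h4) with h5 | h5
    · exact h5
    · exact absurd h5 hr
  refine ⟨?_, e2, e3, e4⟩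
  rw [e2, e3, e4] at h1
  simpa using h1

theorem caseA [CharZero k] (F : MvPolynomial (Fin 4) k) (hF : F.IsHomogeneous 3)
    (hirr : Irreducible (MvPolynomial.map (algebraMap k (AlgebraicClosure k)) F))
    (hcone : ¬ ∃ v : Fin 4 → k, v ≠ 0 ∧ ∑ i : Fin 4, v i • MvPolynomial.pderiv i F = 0)
    (a : Fin 4 → k) (ha : a ≠ 0) (hFa : eval a F = 0)
    (hsing : ∀ i, eval a (pderiv i F) = 0) :
    ∃ p1 p2 p3 p4 : Fin 4 → k, eval p1 F = 0 ∧ eval p2 F = 0 ∧ eval p3 F = 0 ∧ eval p4 F = 0 ∧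
      LI4 p1 p2 p3 p4 ∧ LI4 a p2 p3 p4 ∧ LI4 a p1 p3 p4 ∧ LI4 a p1 p2 p4 ∧ LI4 a p1 p2 p3 := by
  have hP0 : polar F a ≠ 0 := fun h => hcone ⟨a, ha, h⟩
  have hPhom := polar_isHomogeneous F a hF
  have hdF : ∀ x, dF F a x = 0 := by
    intro x
    rw [dF_apply]
    simp [hsing]
  have hPa : ∀ c : k, eval (c • a) (polar F a) = 0 := by
    intro c
    rw [eval_smul_of_isHomogeneous hPhom, eval_polar]
    simp [hsing]
  -- first three directions
  obtain ⟨v1, hv1⟩ := exists_eval_ne_zero (polar F a) hP0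
  obtain ⟨g2, hg2, hg2a, hg2v, -⟩ := exists_functional3 a v1 v1
  obtain ⟨v2, hv2⟩ := exists_eval_ne_zero (polar F a * linForm g2)
    (mul_ne_zero hP0 (linForm_ne_zero g2 hg2))
  rw [map_mul, eval_linForm] at hv2
  obtain ⟨hv2P, hv2g⟩ := mul_ne_zero_iff.1 hv2
  obtain ⟨g3, hg3, hg3a, hg3v1, hg3v2⟩ := exists_functional3 a v1 v2
  obtain ⟨v3, hv3⟩ := exists_eval_ne_zero (polar F a * linForm g3)
    (mul_ne_zero hP0 (linForm_ne_zero g3 hg3))
  rw [map_mul, eval_linForm] at hv3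
  obtain ⟨hv3P, hv3g⟩ := mul_ne_zero_iff.1 hv3
  have hli3 : LI3 a v1 v2 := by
    intro c1 c2 c3 hc
    have h5 := congrArg g2 hc
    simp only [map_add, map_smul, hg2a, hg2v, smul_eq_mul, mul_zero, zero_add, map_zero] at h5
    have hc3 : c3 = 0 := by
      rcases mul_eq_zero.1 h5 with h6 | h6
      · exact h6
      · exact absurd h6 hv2g
    rw [hc3, zero_smul, add_zero] at hc
    have hc2 : c2 = 0 := by
      by_contra hne
      apply hv1
      have : v1 = (-(c1 / c2)) • a := by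
        have h7 : c2 • v1 = -(c1 • a) := by
          rw [eq_neg_iff_add_eq_zero, add_comm]; exact hc
        calc v1 = c2⁻¹ • (c2 • v1) := by rw [smul_smul, inv_mul_cancel₀ hne, one_smul]
          _ = (-(c1 / c2)) • a := by
            rw [h7, smul_neg, smul_smul, neg_smul]
            congr 2
            field_simp
      rw [this]
      exact hPa _
    rw [hc2, zero_smul, add_zero] at hc
    rcases smul_eq_zero.1 hc with h6 | h6
    · exact ⟨h6, hc2, hc3⟩
    · exact absurd h6 ha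
  have hli4 : LI4 a v1 v2 v3 := LI4_last g3 hg3a hg3v1 hg3v2 hv3g hli3
  -- the fourth direction
  obtain ⟨g12, hg12, hg12a, hg12v1, hg12v2⟩ := exists_functional3 a v1 v2
  obtain ⟨g13, hg13, hg13a, hg13v1, hg13v3⟩ := exists_functional3 a v1 v3
  obtain ⟨g23, hg23, hg23a, hg23v2, hg23v3⟩ := exists_functional3 a v2 v3
  have hφ4 : LI4 a (third F a v1) (third F a v2) (third F a v3) :=
    LI4_third hli4 _ _ _ _ _ _ hv1 hv2P hv3P
  obtain ⟨g0, hg0, hg0φ1, hg0φ2, hg0φ3⟩ :=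
    exists_functional3 (third F a v1) (third F a v2) (third F a v3)
  have hg0a : g0 a ≠ 0 := by
    intro h
    exact hg0 (functional_eq_zero_of_LI4 hφ4 g0 h hg0φ1 hg0φ2 hg0φ3)
  have hD : C (g0 a) * F - polar F a * linForm g0 ≠ 0 := by
    intro h
    exact not_factor F hirr (g0 a) hg0a (polar F a) (linForm g0) hPhom hP0
      (linForm_isHomogeneous g0) (linForm_ne_zero g0 hg0) (sub_eq_zero.1 h)
  obtain ⟨v4, hv4⟩ := exists_eval_ne_zero
    (polar F a * linForm g12 * linForm g13 * linForm g23 *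
      (C (g0 a) * F - polar F a * linForm g0))
    (mul_ne_zero (mul_ne_zero (mul_ne_zero (mul_ne_zero hP0 (linForm_ne_zero g12 hg12))
      (linForm_ne_zero g13 hg13)) (linForm_ne_zero g23 hg23)) hD)
  simp only [map_mul, map_sub, eval_linForm, eval_C] at hv4
  obtain ⟨hv4', hv4D⟩ := mul_ne_zero_iff.1 hv4
  obtain ⟨hv4', hv4g23⟩ := mul_ne_zero_iff.1 hv4'
  obtain ⟨hv4', hv4g13⟩ := mul_ne_zero_iff.1 hv4'
  obtain ⟨hv4P, hv4g12⟩ := mul_ne_zero_iff.1 hv4'
  have hth : ∀ v, eval (third F a v) F = 0 := fun v => eval_third F hF a hFa v (hdF v)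
  refine ⟨third F a v1, third F a v2, third F a v3, third F a v4, hth v1, hth v2, hth v3, hth v4,
    ?_, ?_, ?_, ?_, hφ4⟩
  · apply LI4_last g0 hg0φ1 hg0φ2 hg0φ3 _ hφ4.rotate.left3
    rw [third, map_sub, map_smul, map_smul, smul_eq_mul, smul_eq_mul]
    intro h
    apply hv4D
    rw [← h]
    ring
  · exact LI4_third (LI4_last g23 hg23a hg23v2 hg23v3 hv4g23 hli4.swap23.swap34.left3)
      _ _ _ _ _ _ hv2P hv3P hv4P
  · exact LI4_third (LI4_last g13 hg13a hg13v1 hg13v3 hv4g13 hli4.swap34.left3)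
      _ _ _ _ _ _ hv1 hv3P hv4P
  · exact LI4_third (LI4_last g12 hg12a hg12v1 hg12v2 hv4g12 hli4.left3)
      _ _ _ _ _ _ hv1 hv2P hv4P

end Groth.Agent.Lib.Helper24Gp5
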