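import Mathlib
import Groth.Agent.Lib.Helper24Gp5a

/-!
# Five points in general position on a cubic surface: non-T-points (helper24)
-/

namespace Groth.Agent.Lib.Helper24Gp5

open MvPolynomial
open Groth.Agent.Lib.Helper24CubicSec Groth.Agent.Lib.Helper24CubicLines
open Groth.Agent.Lib.Helper24CubicSing Groth.Agent.Lib.Helper24Nodal

variable {k : Type*} [Field k]

/-- The coordinate forms of a linear map `ξ : k⁴ → k²`. -/
noncomputable def cξ (ξ : (Fin 4 → k) →ₗ[k] (Fin 2 → k)) : Fin 2 → MvPolynomial (Fin 4) k :=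
  fun l => linForm (LinearMap.proj l ∘ₗ ξ)

theorem eval_aeval_cξ (ξ : (Fin 4 → k) →ₗ[k] (Fin 2 → k)) (x : Fin 4 → k)
    (p : MvPolynomial (Fin 2) k) : eval x (aeval (cξ ξ) p) = eval (ξ x) p := by
  rw [eval_aeval_gen]
  have : (fun l => eval x (cξ ξ l)) = ξ x := by
    funext l
    rw [cξ, eval_linForm]
    rfl
  rw [this]

theorem map_linForm_dF [CharZero k] (F : MvPolynomial (Fin 4) k) (a : Fin 4 → k) :
    MvPolynomial.map (algebraMap k (AlgebraicClosure k)) (linForm (dF F a)) =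
      ∑ i : Fin 4, C (algebraMap k (AlgebraicClosure k) (eval a (pderiv i F))) * X i := by
  rw [linForm, map_sum]
  refine Finset.sum_congr rfl fun i _ => ?_
  rw [map_mul, map_C, map_X, dF_apply]
  simp

section

variable [CharZero k] (F : MvPolynomial (Fin 4) k) (hF : F.IsHomogeneous 3)
  (a : Fin 4 → k) (hFa : eval a F = 0)

/-- The parametrisation in the form with a linear `a`-coordinate. -/
theorem param_sigma (ha : a ≠ 0) (B : (Fin 2 → k) →ₗ[k] (Fin 4 → k))
    (ξ : (Fin 4 → k) →ₗ[k] (Fin 2 → k))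
    (h3 : ∀ x, dF F a x = 0 → ∃ s : k, x = s • a + B (ξ x)) :
    ∃ σ : (Fin 4 → k) →ₗ[k] k, ∀ x, dF F a x = 0 → x = σ x • a + B (ξ x) := by
  obtain ⟨i0, hi0⟩ : ∃ i0, a i0 ≠ 0 := by
    by_contra hcon
    push Not at hcon
    exact ha (funext hcon)
  refine ⟨(a i0)⁻¹ • (LinearMap.proj i0 - LinearMap.proj i0 ∘ₗ B ∘ₗ ξ), fun x hx => ?_⟩
  obtain ⟨s, hs⟩ := h3 x hx
  have h4 := congrFun hs i0
  simp only [Pi.add_apply, Pi.smul_apply, smul_eq_mul] at h4
  have : ((a i0)⁻¹ • (LinearMap.proj i0 - LinearMap.proj i0 ∘ₗ B ∘ₗ ξ) :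
      (Fin 4 → k) →ₗ[k] k) x = s := by
    simp only [LinearMap.smul_apply, LinearMap.sub_apply, LinearMap.proj_apply,
      LinearMap.comp_apply, smul_eq_mul]
    rw [h4]
    field_simp
    ring
  rw [this]
  exact hs

include hF hFa in
/-- The restriction of `F` to the tangent plane. -/
theorem F_plane (B : (Fin 2 → k) →ₗ[k] (Fin 4 → k)) (h1 : ∀ z, dF F a (B z) = 0) (s : k)
    (z : Fin 2 → k) :
    eval (s • a + B z) F = s * eval (B z) (polar F a) + eval (B z) F := by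
  have h := expand_at F hF a hFa (B z) s 1
  rw [one_smul, h1] at h
  rw [h]
  ring

/-- If `F` agrees on the tangent plane with a polynomial that splits into three linear forms
over the algebraic closure, then `a` is a T-point. -/
theorem T_of_agree (hφ : dF F a ≠ 0) (Ψ : MvPolynomial (Fin 4) k)
    (hΨ : ∀ x, dF F a x = 0 → eval x F = eval x Ψ)
    (L₁ L₂ L₃ : MvPolynomial (Fin 4) (AlgebraicClosure k))
    (hL₁ : L₁.IsHomogeneous 1) (hL₂ : L₂.IsHomogeneous 1) (hL₃ : L₃.IsHomogeneous 1)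
    (hmap : MvPolynomial.map (algebraMap k (AlgebraicClosure k)) Ψ = L₁ * L₂ * L₃)
    (ℓ : MvPolynomial (Fin 4) (AlgebraicClosure k))
    (hℓ : ℓ = ∑ i : Fin 4, MvPolynomial.C (algebraMap k (AlgebraicClosure k)
      (MvPolynomial.eval a (MvPolynomial.pderiv i F))) * MvPolynomial.X i) :
    ∃ L₁ L₂ L₃ : MvPolynomial (Fin 4) (AlgebraicClosure k), L₁.IsHomogeneous 1 ∧
      L₂.IsHomogeneous 1 ∧ L₃.IsHomogeneous 1 ∧
      MvPolynomial.map (algebraMap k (AlgebraicClosure k)) F - L₁ * L₂ * L₃ ∈ Ideal.span {ℓ} := by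
  refine ⟨L₁, L₂, L₃, hL₁, hL₂, hL₃, ?_⟩
  obtain ⟨Q, hQ⟩ := linForm_dvd_of_vanish_inf (dF F a) hφ (F - Ψ) (fun w hw => by
    rw [map_sub, hΨ w hw, sub_self])
  rw [← hmap, ← map_sub, hQ, map_mul, map_linForm_dF, ← hℓ]
  exact Ideal.mul_mem_right _ _ (Ideal.subset_span rfl)

end

/-- A binary form over an algebraically closed field, as a product of linear forms. -/
theorem binary_factor_poly {K : Type*} [Field K] [IsAlgClosed K] (d : ℕ)
    (g : MvPolynomial (Fin 2) K) (hg : g.IsHomogeneous d) :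
    ∃ (c : K) (l : Fin d → ((Fin 2 → K) →ₗ[K] K)), g = C c * ∏ i, linForm (l i) := by
  obtain ⟨c, l, hl⟩ := binary_factor d g hg
  refine ⟨c, l, ?_⟩
  apply MvPolynomial.funext
  intro x
  rw [hl x, map_mul, eval_C, map_prod]
  simp only [eval_linForm]

section

variable [CharZero k] (F : MvPolynomial (Fin 4) k) (hF : F.IsHomogeneous 3)
  (a : Fin 4 → k) (hFa : eval a F = 0)

theorem map_cξ_isHomogeneous (ξ : (Fin 4 → k) →ₗ[k] (Fin 2 → k)) (i : Fin 2) :
    (MvPolynomial.map (algebraMap k (AlgebraicClosure k)) (cξ ξ i)).IsHomogeneous 1 :=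
  (linForm_isHomogeneous _).map _

theorem aeval_map_cξ_linForm (ξ : (Fin 4 → k) →ₗ[k] (Fin 2 → k))
    (l : (Fin 2 → AlgebraicClosure k) →ₗ[AlgebraicClosure k] AlgebraicClosure k) :
    (aeval (fun i => MvPolynomial.map (algebraMap k (AlgebraicClosure k)) (cξ ξ i))
      (linForm l)).IsHomogeneous 1 := by
  have h := (linForm_isHomogeneous l).aeval _ (map_cξ_isHomogeneous ξ)
  rw [one_mul] at h
  exact h

include hF hFa in
/-- A non-T-point: the tangent cone is not zero, and does not divide the cubic part. -/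
theorem non_T (ha : a ≠ 0) (hφ : dF F a ≠ 0)
    (B : (Fin 2 → k) →ₗ[k] (Fin 4 → k)) (ξ : (Fin 4 → k) →ₗ[k] (Fin 2 → k))
    (h1 : ∀ z, dF F a (B z) = 0)
    (h3 : ∀ x, dF F a x = 0 → ∃ s : k, x = s • a + B (ξ x))
    (ℓ : MvPolynomial (Fin 4) (AlgebraicClosure k))
    (hℓ : ℓ = ∑ i : Fin 4, MvPolynomial.C (algebraMap k (AlgebraicClosure k)
      (MvPolynomial.eval a (MvPolynomial.pderiv i F))) * MvPolynomial.X i)
    (hT : ¬ ∃ L₁ L₂ L₃ : MvPolynomial (Fin 4) (AlgebraicClosure k), L₁.IsHomogeneous 1 ∧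
      L₂.IsHomogeneous 1 ∧ L₃.IsHomogeneous 1 ∧
      MvPolynomial.map (algebraMap k (AlgebraicClosure k)) F - L₁ * L₂ * L₃ ∈ Ideal.span {ℓ})
    (A Φ : MvPolynomial (Fin 2) k) (hA : ∀ z, eval z A = eval (B z) (polar F a))
    (hΦ : ∀ z, eval z Φ = eval (B z) F) (hAhom : A.IsHomogeneous 2) (hΦhom : Φ.IsHomogeneous 3) :
    A ≠ 0 ∧ ¬ A ∣ Φ := by
  obtain ⟨σ, hσ⟩ := param_sigma F a ha B ξ h3
  have hA0 : A ≠ 0 := by
    intro hA0
    apply hT
    obtain ⟨c, l, hl⟩ := binary_factor_poly 3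
      (MvPolynomial.map (algebraMap k (AlgebraicClosure k)) Φ) (hΦhom.map _)
    refine T_of_agree F a hφ (aeval (cξ ξ) Φ) ?_
      (C c * aeval (fun i => MvPolynomial.map (algebraMap k (AlgebraicClosure k)) (cξ ξ i))
        (linForm (l 0)))
      (aeval (fun i => MvPolynomial.map (algebraMap k (AlgebraicClosure k)) (cξ ξ i))
        (linForm (l 1)))
      (aeval (fun i => MvPolynomial.map (algebraMap k (AlgebraicClosure k)) (cξ ξ i))
        (linForm (l 2)))
      ((aeval_map_cξ_linForm ξ _).C_mul c) (aeval_map_cξ_linForm ξ _)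
      (aeval_map_cξ_linForm ξ _) ?_ ℓ hℓ
    · intro x hx
      rw [eval_aeval_cξ, hΦ]
      have h4 := F_plane F hF a hFa B h1 (σ x) (ξ x)
      rw [← hσ x hx, ← hA, hA0, map_zero, mul_zero, zero_add] at h4
      exact h4
    · rw [aeval_eq_bind₁, map_bind₁, ← aeval_eq_bind₁, hl, map_mul, map_prod,
        Fin.prod_univ_three, aeval_C]
      simp only [algebraMap_eq]
      ring
  refine ⟨hA0, ?_⟩
  rintro ⟨q, hq⟩
  apply hT
  have hqhom : q.IsHomogeneous 1 := by
    apply isHomogeneous_of_mul hAhom hA0 (n := 1)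
    rw [mul_comm, ← hq]
    exact hΦhom
  obtain ⟨c, l, hl⟩ := binary_factor_poly 2
    (MvPolynomial.map (algebraMap k (AlgebraicClosure k)) A) (hAhom.map _)
  refine T_of_agree F a hφ (aeval (cξ ξ) A * (linForm σ + aeval (cξ ξ) q)) ?_
    (C c * aeval (fun i => MvPolynomial.map (algebraMap k (AlgebraicClosure k)) (cξ ξ i))
      (linForm (l 0)))
    (aeval (fun i => MvPolynomial.map (algebraMap k (AlgebraicClosure k)) (cξ ξ i))
      (linForm (l 1)))
    (MvPolynomial.map (algebraMap k (AlgebraicClosure k)) (linForm σ) +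
      aeval (fun i => MvPolynomial.map (algebraMap k (AlgebraicClosure k)) (cξ ξ i))
        (MvPolynomial.map (algebraMap k (AlgebraicClosure k)) q))
    ((aeval_map_cξ_linForm ξ _).C_mul c) (aeval_map_cξ_linForm ξ _)
    ?_ ?_ ℓ hℓ
  · intro x hx
    rw [map_mul, map_add, eval_aeval_cξ, eval_aeval_cξ, eval_linForm]
    have h4 := F_plane F hF a hFa B h1 (σ x) (ξ x)
    rw [← hσ x hx, ← hA, ← hΦ, hq, map_mul] at h4
    rw [h4]
    ring
  · apply IsHomogeneous.add ((linForm_isHomogeneous σ).map _)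
    have h := (hqhom.map (algebraMap k (AlgebraicClosure k))).aeval _ (map_cξ_isHomogeneous ξ)
    rw [one_mul] at h
    exact h
  · rw [map_mul, map_add, aeval_eq_bind₁, map_bind₁, map_bind₁, ← aeval_eq_bind₁, hl, map_mul,
      map_prod, Fin.prod_univ_two, aeval_C]
    simp only [algebraMap_eq]
    ring

end

end Groth.Agent.Lib.Helper24Gp5
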