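import Mathlib
import Groth.Agent.Lib.Helper24Gp5a

/-!
# Five points in general position on a cubic surface: a good second point (helper24)
-/

namespace Groth.Agent.Lib.Helper24Gp5

open MvPolynomial
open Groth.Agent.Lib.Helper24CubicSec Groth.Agent.Lib.Helper24CubicLines
open Groth.Agent.Lib.Helper24CubicSing Groth.Agent.Lib.Helper24Nodal

theorem eval_smul_homR {S σ : Type*} [CommRing S] [Fintype σ] {P : MvPolynomial σ S} {d : ℕ}
    (hP : P.IsHomogeneous d) (t : S) (w : σ → S) : eval (t • w) P = t ^ d * eval w P := by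
  rw [eval_eq', eval_eq', Finset.mul_sum]
  refine Finset.sum_congr rfl fun e he => ?_
  have hd' : ∑ i, e i = d := by
    have := hP (mem_support_iff.mp he)
    simpa [Finsupp.weight_apply, Finsupp.sum_fintype] using this
  simp only [Pi.smul_apply, smul_eq_mul, mul_pow, Finset.prod_mul_distrib,
    Finset.prod_pow_eq_pow_sum, hd']
  ring

theorem eval_sub_memR {S : Type*} [CommRing S] {n : ℕ} (J : Ideal S) (a b : Fin n → S)
    (h : ∀ l, b l - a l ∈ J) (p : MvPolynomial (Fin n) S) : eval b p - eval a p ∈ J := by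
  rw [← Ideal.Quotient.eq]
  have h1 : ∀ c : Fin n → S, Ideal.Quotient.mk J (eval c p) =
      eval₂ (Ideal.Quotient.mk J) (Ideal.Quotient.mk J ∘ c) p := by
    intro c
    have := eval₂_comp_left (Ideal.Quotient.mk J) (RingHom.id S) c p
    rw [eval₂_id, RingHom.comp_id] at this
    exact this
  rw [h1 a, h1 b]
  congr 1
  funext l
  exact (Ideal.Quotient.eq.2 (h l))

variable {k : Type*} [Field k]

theorem aeval_eq_eval_map {m n : ℕ} (g : Fin m → MvPolynomial (Fin n) k)
    (P : MvPolynomial (Fin m) k) : aeval g P = eval g (MvPolynomial.map C P) := by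
  rw [aeval_def, eval₂_eq_eval_map, algebraMap_eq]

theorem aeval_C_comp {m n : ℕ} (a : Fin m → k) (P : MvPolynomial (Fin m) k) :
    aeval (fun j => (C (a j) : MvPolynomial (Fin n) k)) P = C (eval a P) := by
  induction P using MvPolynomial.induction_on with
  | C c => simp
  | add p q hp hq => simp only [map_add, hp, hq]
  | mul_X p i hp => simp only [map_mul, hp, aeval_X, eval_X]

section

variable [CharZero k] (F : MvPolynomial (Fin 4) k) (hF : F.IsHomogeneous 3)

/-- The direction polynomials: `V(b) = dF_b(w) x - dF_b(x) w`. -/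
noncomputable def Vdir (x w : Fin 4 → k) : Fin 4 → MvPolynomial (Fin 4) k :=
  fun j => polar F w * C (x j) - polar F x * C (w j)

/-- The polynomial `b ↦ P_b(V(b))`. -/
noncomputable def Bpoly (x w : Fin 4 → k) : MvPolynomial (Fin 4) k :=
  ∑ i, X i * aeval (Vdir F x w) (pderiv i F)

theorem eval_polar_eq_dF (b w : Fin 4 → k) : eval b (polar F w) = dF F b w := by
  rw [eval_polar, dF_apply]

theorem eval_Vdir (x w b : Fin 4 → k) :
    (fun j => eval b (Vdir F x w j)) = dF F b w • x - dF F b x • w := by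
  funext j
  simp only [Vdir, map_sub, map_mul, eval_C, eval_polar_eq_dF, Pi.sub_apply, Pi.smul_apply,
    smul_eq_mul]

theorem eval_Bpoly (x w b : Fin 4 → k) :
    eval b (Bpoly F x w) = eval (dF F b w • x - dF F b x • w) (polar F b) := by
  rw [Bpoly, map_sum, eval_polar]
  refine Finset.sum_congr rfl fun i _ => ?_
  rw [map_mul, eval_X, eval_aeval_gen, eval_Vdir]

include hF in
theorem Bpoly_isHomogeneous (x w : Fin 4 → k) : (Bpoly F x w).IsHomogeneous 5 := by
  apply IsHomogeneous.sum
  intro i _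
  have h1 : (pderiv i F).IsHomogeneous (3 - 1) := hF.pderiv
  have h2 : ∀ j, (Vdir F x w j).IsHomogeneous 2 := by
    intro j
    apply IsHomogeneous.sub
    · simpa using (polar_isHomogeneous F w hF).mul (isHomogeneous_C (Fin 4) (x j))
    · simpa using (polar_isHomogeneous F x hF).mul (isHomogeneous_C (Fin 4) (w j))
  have h3 := h1.aeval (Vdir F x w) h2
  exact (isHomogeneous_X k i).mul h3

end

section Induction

variable (a : Fin 4 → k) (β : Fin 4 → MvPolynomial (Fin 2) k)
  (P : MvPolynomial (Fin 4) k) (hP : P.IsHomogeneous 5) (hPa : eval a P ≠ 0)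

include hP in
theorem aeval_smul_vec (t : MvPolynomial (Fin 2) k) (g : Fin 4 → MvPolynomial (Fin 2) k) :
    aeval (fun j => t * g j) P = t ^ 5 * aeval g P := by
  rw [aeval_eq_eval_map, aeval_eq_eval_map]
  exact eval_smul_homR (hP.map C) t g

include hP hPa in
theorem dvd_of_aeval_eq_zero : ∀ A' : MvPolynomial (Fin 2) k, ∀ Φ' : MvPolynomial (Fin 2) k,
    aeval (fun j => Φ' * C (a j) - A' * β j) P = 0 → A' ∣ Φ' := by
  have hκ : IsUnit (C (eval a P) : MvPolynomial (Fin 2) k) := (IsUnit.mk0 _ hPa).map C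
  have hpure : ∀ Φ' : MvPolynomial (Fin 2) k,
      aeval (fun j => Φ' * C (a j)) P = Φ' ^ 5 * C (eval a P) := by
    intro Φ'
    rw [aeval_smul_vec P hP, aeval_C_comp]
  intro A'
  induction A' using UniqueFactorizationMonoid.induction_on_prime with
  | h₁ =>
    intro Φ' h
    simp only [zero_mul, sub_zero] at h
    rw [hpure] at h
    have h5 : Φ' ^ 5 = 0 := by
      rcases mul_eq_zero.1 h with h6 | h6
      · exact h6
      · exact absurd h6 hκ.ne_zero
    rw [pow_eq_zero_iff (by norm_num)] at h5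
    rw [h5]
  | h₂ x hx =>
    intro Φ' _
    exact hx.dvd
  | h₃ A'' π hA'' hπ ih =>
    intro Φ' h
    have h1 := eval_sub_memR (Ideal.span {π}) (fun j => Φ' * C (a j) - π * A'' * β j)
      (fun j => Φ' * C (a j)) (fun l => by
        simp only [sub_sub_cancel]
        rw [mul_assoc]
        exact Ideal.mul_mem_right _ _ (Ideal.subset_span rfl)) (MvPolynomial.map C P)
    rw [← aeval_eq_eval_map, ← aeval_eq_eval_map, h, sub_zero, hpure,
      Ideal.mem_span_singleton] at h1
    have h2 : π ∣ Φ' := by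
      rcases hπ.dvd_or_dvd h1 with h3 | h3
      · exact hπ.dvd_of_dvd_pow h3
      · exact absurd (isUnit_of_dvd_unit h3 hκ) hπ.not_isUnit
    obtain ⟨Φ'', rfl⟩ := h2
    have h4 : (fun j => π * Φ'' * C (a j) - π * A'' * β j) =
        fun j => π * (Φ'' * C (a j) - A'' * β j) := by
      funext j
      ring
    rw [h4, aeval_smul_vec P hP] at h
    have h5 : aeval (fun j => Φ'' * C (a j) - A'' * β j) P = 0 := by
      rcases mul_eq_zero.1 h with h6 | h6
      · exact absurd (pow_eq_zero_iff (by norm_num) |>.1 h6) hπ.ne_zero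
      · exact h6
    exact mul_dvd_mul_left π (ih Φ'' h5)

end Induction

section

variable [CharZero k] (F : MvPolynomial (Fin 4) k) (hF : F.IsHomogeneous 3)
  (a : Fin 4 → k) (hFa : eval a F = 0)

include hF in
/-- There is a point on the tangent plane section at `a` whose own tangent plane section
does not have a triple point. -/
theorem good_b (hφ : dF F a ≠ 0) (B : (Fin 2 → k) →ₗ[k] (Fin 4 → k))
    (h1 : ∀ z, dF F a (B z) = 0)
    (A Φ : MvPolynomial (Fin 2) k) (hA : ∀ z, eval z A = eval (B z) (polar F a))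
    (hΦ : ∀ z, eval z Φ = eval (B z) F) (hA0 : A ≠ 0) (hN2 : ¬ A ∣ Φ) :
    ∃ z, eval z A ≠ 0 ∧ ∃ x0, dF F (third F a (B z)) x0 = 0 ∧
      eval x0 (polar F (third F a (B z))) ≠ 0 := by
  by_contra hbad
  push Not at hbad
  obtain ⟨z0, hz0⟩ := exists_eval_ne_zero A hA0
  obtain ⟨w, hw⟩ : ∃ w, dF F a w ≠ 0 := by
    by_contra hcon
    push Not at hcon
    exact hφ (LinearMap.ext hcon)
  have hκ : eval a (Bpoly F (B z0) w) ≠ 0 := by
    rw [eval_Bpoly, h1, zero_smul, sub_zero,
      eval_smul_of_isHomogeneous (polar_isHomogeneous F a hF), ← hA]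
    exact mul_ne_zero (pow_ne_zero _ hw) hz0
  apply hN2
  apply dvd_of_aeval_eq_zero a (subst (LinearMap.toMatrix' B)) (Bpoly F (B z0) w)
    (Bpoly_isHomogeneous F hF _ _) hκ
  have hmul : A * aeval (fun j => Φ * C (a j) - A * subst (LinearMap.toMatrix' B) j)
      (Bpoly F (B z0) w) = 0 := by
    apply MvPolynomial.funext
    intro z
    rw [map_mul, map_zero, eval_aeval_gen]
    by_cases hz : eval z A = 0
    · rw [hz, zero_mul]
    · have e : (fun j => eval z (Φ * C (a j) - A * subst (LinearMap.toMatrix' B) j)) =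
          third F a (B z) := by
        funext j
        simp only [map_sub, map_mul, eval_C, eval_subst, LinearMap.toMatrix'_mulVec, third,
          Pi.sub_apply, Pi.smul_apply, smul_eq_mul, hA, hΦ]
      rw [e, eval_Bpoly]
      rw [hbad z hz _ (by
        rw [map_sub, map_smul, map_smul, smul_eq_mul, smul_eq_mul]
        ring), mul_zero]
  rcases mul_eq_zero.1 hmul with h | h
  · exact absurd h hA0
  · exact h

end

end Groth.Agent.Lib.Helper24Gp5
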