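import Mathlib
import Groth.Agent.Lib.Helper24Gp5b
import Groth.Agent.Lib.Helper24Gp5c
import Groth.Agent.Lib.Helper24Gp5d

/-!
# Five points in general position on a cubic surface: the smooth case (helper24)
-/

namespace Groth.Agent.Lib.Helper24Gp5

open MvPolynomial
open Groth.Agent.Lib.Helper24CubicSec Groth.Agent.Lib.Helper24CubicLines
open Groth.Agent.Lib.Helper24CubicSing Groth.Agent.Lib.Helper24Nodal

variable {k : Type*} [Field k]

section

variable [CharZero k] (F : MvPolynomial (Fin 4) k) (hF : F.IsHomogeneous 3)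

include hF in
theorem dF_third_self (b : Fin 4 → k) (hFb : eval b F = 0) (x : Fin 4 → k) (hx : dF F b x = 0) :
    dF F b (third F b x) = 0 := by
  rw [third, map_sub, map_smul, map_smul, dF_self F hF b hFb, hx]
  simp

theorem apply_third (f : (Fin 4 → k) →ₗ[k] k) (b x : Fin 4 → k) :
    f (third F b x) = eval x F * f b - eval x (polar F b) * f x := by
  rw [third, map_sub, map_smul, map_smul, smul_eq_mul, smul_eq_mul]

include hF in
theorem caseB (a : Fin 4 → k) (ha : a ≠ 0) (hFa : eval a F = 0) (hφ : dF F a ≠ 0)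
    (ℓ : MvPolynomial (Fin 4) (AlgebraicClosure k))
    (hℓ : ℓ = ∑ i : Fin 4, MvPolynomial.C (algebraMap k (AlgebraicClosure k)
      (MvPolynomial.eval a (MvPolynomial.pderiv i F))) * MvPolynomial.X i)
    (hT : ¬ ∃ L₁ L₂ L₃ : MvPolynomial (Fin 4) (AlgebraicClosure k), L₁.IsHomogeneous 1 ∧
      L₂.IsHomogeneous 1 ∧ L₃.IsHomogeneous 1 ∧
      MvPolynomial.map (algebraMap k (AlgebraicClosure k)) F - L₁ * L₂ * L₃ ∈ Ideal.span {ℓ}) :
    ∃ p1 p2 p3 p4 : Fin 4 → k, eval p1 F = 0 ∧ eval p2 F = 0 ∧ eval p3 F = 0 ∧ eval p4 F = 0 ∧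
      LI4 p1 p2 p3 p4 ∧ LI4 a p2 p3 p4 ∧ LI4 a p1 p3 p4 ∧ LI4 a p1 p2 p4 ∧ LI4 a p1 p2 p3 := by
  have hφa := dF_self F hF a hFa
  obtain ⟨B, ξ, h1, h2, h3⟩ := exists_param (dF F a) hφ a ha hφa
  obtain ⟨A, hAdef⟩ : ∃ A, A = aeval (subst (LinearMap.toMatrix' B)) (polar F a) := ⟨_, rfl⟩
  obtain ⟨Φ, hΦdef⟩ : ∃ Φ, Φ = aeval (subst (LinearMap.toMatrix' B)) F := ⟨_, rfl⟩
  have hA : ∀ z, eval z A = eval (B z) (polar F a) := by
    intro z; rw [hAdef, eval_aeval_subst, LinearMap.toMatrix'_mulVec]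
  have hΦ : ∀ z, eval z Φ = eval (B z) F := by
    intro z; rw [hΦdef, eval_aeval_subst, LinearMap.toMatrix'_mulVec]
  have hAhom : A.IsHomogeneous 2 := by
    have h := (polar_isHomogeneous F a hF).aeval (subst (LinearMap.toMatrix' B))
      (subst_isHomogeneous _)
    rw [one_mul] at h
    rw [hAdef]; exact h
  have hΦhom : Φ.IsHomogeneous 3 := by
    have h := hF.aeval (subst (LinearMap.toMatrix' B)) (subst_isHomogeneous _)
    rw [one_mul] at h
    rw [hΦdef]; exact h
  obtain ⟨hA0, hN2⟩ := non_T F hF a hFa ha hφ B ξ h1 h3 ℓ hℓ hT A Φ hA hΦ hAhom hΦhom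
  obtain ⟨z, hz, x0, hx0, hPx0⟩ := good_b F hF a hφ B h1 A Φ hA hΦ hA0 hN2
  have hthird : ∀ z', third F a (B z') = eval z' Φ • a + (-(eval z' A)) • B z' := by
    intro z'
    rw [third, hA, hΦ, neg_smul, sub_eq_add_neg]
  obtain ⟨b, hbdef⟩ : ∃ b, b = third F a (B z) := ⟨_, rfl⟩
  rw [← hbdef] at hx0 hPx0
  have hFb : eval b F = 0 := by rw [hbdef]; exact eval_third F hF a hFa (B z) (h1 z)
  have hba : dF F a b = 0 := by rw [hbdef]; exact dF_third_self F hF a hFa (B z) (h1 z)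
  have hbb : dF F b b = 0 := dF_self F hF b hFb
  have hδ : dF F b a = eval z A ^ 3 := by
    rw [← eval_polar_eq_dF, hbdef, hthird, polar_on_plane F hF a hFa (h1 z), ← hA]
    ring
  have hδ0 : dF F b a ≠ 0 := by rw [hδ]; exact pow_ne_zero _ hz
  have hz0 : z ≠ 0 := by
    intro h
    apply hz
    rw [h]
    have := eval_smul_of_isHomogeneous hAhom (0 : k) (0 : Fin 2 → k)
    rw [zero_smul] at this
    rw [this]
    simp
  -- independence of `a` and `b`
  have hab : ∀ c1 c2 : k, c1 • a + c2 • b = 0 → c1 = 0 ∧ c2 = 0 := by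
    intro c1 c2 hc
    rw [hbdef, hthird] at hc
    have hc' : (c1 + c2 * eval z Φ) • a + B ((-(c2 * eval z A)) • z) = 0 := by
      rw [← hc, map_smul]
      module
    obtain ⟨e1, e2⟩ := h2 _ _ hc'
    have hc2 : c2 = 0 := by
      rcases smul_eq_zero.1 e2 with h | h
      · rcases mul_eq_zero.1 (neg_eq_zero.1 h) with h' | h'
        · exact h'
        · exact absurd h' hz
      · exact absurd h hz0
    rw [hc2] at e1
    simp only [zero_mul, add_zero] at e1
    exact ⟨e1, hc2⟩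
  -- the projection to the tangent plane at `b`
  obtain ⟨Qb, hQbdef⟩ : ∃ Qb, Qb = aeval (fun j => C (dF F b a) * X j -
      C (a j) * linForm (dF F b)) (polar F b) := ⟨_, rfl⟩
  have hQb : ∀ y, eval y Qb = eval (dF F b a • y - dF F b y • a) (polar F b) := by
    intro y
    rw [hQbdef, eval_aeval_gen]
    have : (fun j => eval y (C (dF F b a) * X j - C (a j) * linForm (dF F b))) =
        dF F b a • y - dF F b y • a := by
      funext j
      simp only [map_sub, map_mul, eval_C, eval_X, eval_linForm, Pi.sub_apply, Pi.smul_apply,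
        smul_eq_mul]
      ring
    rw [this]
  have hQb0 : Qb ≠ 0 := by
    intro h
    have h4 := hQb x0
    rw [h, map_zero, hx0, zero_smul, sub_zero,
      eval_smul_of_isHomogeneous (polar_isHomogeneous F b hF)] at h4
    exact mul_ne_zero (pow_ne_zero _ hδ0) hPx0 h4.symm
  have hπb : ∀ y, dF F b (dF F b a • y - dF F b y • a) = 0 := by
    intro y
    rw [map_sub, map_smul, map_smul, smul_eq_mul, smul_eq_mul]
    ring
  have hπa : ∀ y, dF F a (dF F b a • y - dF F b y • a) = dF F b a * dF F a y := by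
    intro y
    rw [map_sub, map_smul, map_smul, smul_eq_mul, smul_eq_mul, hφa]
    ring
  have hlφ : linForm (dF F a) ≠ 0 := linForm_ne_zero _ hφ
  obtain ⟨y1, hy1⟩ := exists_eval_ne_zero (Qb * linForm (dF F a)) (mul_ne_zero hQb0 hlφ)
  rw [map_mul, eval_linForm, hQb] at hy1
  obtain ⟨hy1P, hy1a⟩ := mul_ne_zero_iff.1 hy1
  obtain ⟨g1, hg1, hg1a, hg1b, hg1y⟩ := exists_functional3 a b y1
  obtain ⟨y2, hy2⟩ := exists_eval_ne_zero (Qb * linForm (dF F a) * linForm g1)
    (mul_ne_zero (mul_ne_zero hQb0 hlφ) (linForm_ne_zero _ hg1))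
  rw [map_mul, map_mul, eval_linForm, eval_linForm, hQb] at hy2
  obtain ⟨hy2', hy2g⟩ := mul_ne_zero_iff.1 hy2
  obtain ⟨hy2P, hy2a⟩ := mul_ne_zero_iff.1 hy2'
  have hli3y : LI3 a b y1 := by
    intro c1 c2 c3 hc
    have h5 := congrArg (dF F a) hc
    simp only [map_add, map_smul, hφa, hba, smul_eq_mul, mul_zero, zero_add, map_zero] at h5
    have hc3 : c3 = 0 := by
      rcases mul_eq_zero.1 h5 with h6 | h6
      · exact h6
      · exact absurd h6 hy1a
    rw [hc3, zero_smul, add_zero] at hc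
    obtain ⟨e1, e2⟩ := hab c1 c2 hc
    exact ⟨e1, e2, hc3⟩
  have hli4y : LI4 a b y1 y2 := LI4_last g1 hg1a hg1b hg1y hy2g hli3y
  obtain ⟨x1, hx1def⟩ : ∃ x1, x1 = dF F b a • y1 - dF F b y1 • a := ⟨_, rfl⟩
  obtain ⟨x2, hx2def⟩ : ∃ x2, x2 = dF F b a • y2 - dF F b y2 • a := ⟨_, rfl⟩
  rw [← hx1def] at hy1P
  rw [← hx2def] at hy2P
  have hx1b : dF F b x1 = 0 := by rw [hx1def]; exact hπb y1
  have hx2b : dF F b x2 = 0 := by rw [hx2def]; exact hπb y2
  have hx1a : dF F a x1 ≠ 0 := by rw [hx1def, hπa]; exact mul_ne_zero hδ0 hy1a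
  have hx2a : dF F a x2 ≠ 0 := by rw [hx2def, hπa]; exact mul_ne_zero hδ0 hy2a
  have hd1F : eval (third F b x1) F = 0 := eval_third F hF b hFb x1 hx1b
  have hd2F : eval (third F b x2) F = 0 := eval_third F hF b hFb x2 hx2b
  have hd1b : dF F b (third F b x1) = 0 := dF_third_self F hF b hFb x1 hx1b
  have hd2b : dF F b (third F b x2) = 0 := dF_third_self F hF b hFb x2 hx2b
  have hd1a : dF F a (third F b x1) ≠ 0 := by
    rw [apply_third, hba, mul_zero, zero_sub]
    exact neg_ne_zero.2 (mul_ne_zero hy1P hx1a)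
  have hd2a : dF F a (third F b x2) ≠ 0 := by
    rw [apply_third, hba, mul_zero, zero_sub]
    exact neg_ne_zero.2 (mul_ne_zero hy2P hx2a)
  have hli3d : LI3 b (third F b x1) (third F b x2) := by
    intro c1 c2 c3 hc
    obtain ⟨e1, e2, e3, e4⟩ := hli4y
      (c2 * eval x1 (polar F b) * dF F b y1 + c3 * eval x2 (polar F b) * dF F b y2)
      (c1 + c2 * eval x1 F + c3 * eval x2 F)
      (-(c2 * eval x1 (polar F b) * dF F b a)) (-(c3 * eval x2 (polar F b) * dF F b a)) (by
        have e1 : third F b x1 = eval x1 F • b - eval x1 (polar F b) • x1 := rfl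
        have e2 : third F b x2 = eval x2 F • b - eval x2 (polar F b) • x2 := rfl
        rw [← hc, e1, e2]
        generalize eval x1 F = r1
        generalize eval x2 F = r2
        generalize eval x1 (polar F b) = q1
        generalize eval x2 (polar F b) = q2
        rw [hx1def, hx2def]
        module)
    have hc2 : c2 = 0 := by
      rcases mul_eq_zero.1 (neg_eq_zero.1 e3) with h | h
      · rcases mul_eq_zero.1 h with h' | h'
        · exact h'
        · exact absurd h' hy1P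
      · exact absurd h hδ0
    have hc3 : c3 = 0 := by
      rcases mul_eq_zero.1 (neg_eq_zero.1 e4) with h | h
      · rcases mul_eq_zero.1 h with h' | h'
        · exact h'
        · exact absurd h' hy2P
      · exact absurd h hδ0
    rw [hc2, hc3] at e2
    simp only [zero_mul, add_zero] at e2
    exact ⟨e2, hc2, hc3⟩
  have hII : LI4 a b (third F b x1) (third F b x2) :=
    (LI4_last (dF F b) hbb hd1b hd2b hδ0 hli3d).rotate.rotate.rotate
  -- the third point on the first tangent plane section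
  obtain ⟨f, hf, hfa, hfd1, hfd2⟩ := exists_functional3 a (third F b x1) (third F b x2)
  have hfB : f ∘ₗ B ≠ 0 := by
    intro h
    have hfB' : ∀ z', f (B z') = 0 := fun z' => LinearMap.congr_fun h z'
    have hfker : ∀ x, dF F a x = 0 → f x = 0 := by
      intro x hx
      obtain ⟨s, hs⟩ := h3 x hx
      rw [hs, map_add, map_smul, hfa, hfB']
      simp
    have hfb : f b = 0 := hfker b hba
    have hfx1 : f x1 = 0 := by
      have h5 := hfd1
      rw [apply_third, hfb, mul_zero, zero_sub, neg_eq_zero] at h5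
      rcases mul_eq_zero.1 h5 with h6 | h6
      · exact absurd h6 hy1P
      · exact h6
    apply hf
    apply LinearMap.ext
    intro y
    have h6 : dF F a (y - (dF F a y / dF F a x1) • x1) = 0 := by
      rw [map_sub, map_smul, smul_eq_mul]
      field_simp
      ring
    have h7 := hfker _ h6
    rw [map_sub, map_smul, hfx1, smul_zero, sub_zero] at h7
    rw [h7]
    rfl
  obtain ⟨Ψ, hΨdef⟩ : ∃ Ψ, Ψ = C (dF F b a) * Φ - A * linForm (dF F b ∘ₗ B) := ⟨_, rfl⟩
  have hΨ0 : Ψ ≠ 0 := by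
    intro h
    apply hN2
    rw [hΨdef, sub_eq_zero] at h
    have hu : IsUnit (C (dF F b a) : MvPolynomial (Fin 2) k) := (IsUnit.mk0 _ hδ0).map C
    exact (hu.dvd_mul_left).1 ⟨_, h⟩
  have hdet : detForm (z 0) (z 1) ≠ 0 := by
    apply detForm_ne_zero
    by_contra hcon
    push Not at hcon
    apply hz0
    funext i
    fin_cases i
    · exact hcon.1
    · exact hcon.2
  obtain ⟨z', hz'⟩ := exists_eval_ne_zero
    (A * Ψ * linForm (f ∘ₗ B) * linForm (detForm (z 0) (z 1)))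
    (mul_ne_zero (mul_ne_zero (mul_ne_zero hA0 hΨ0) (linForm_ne_zero _ hfB))
      (linForm_ne_zero _ hdet))
  simp only [map_mul, eval_linForm, LinearMap.comp_apply, detForm_apply] at hz'
  obtain ⟨hz'', hz'det⟩ := mul_ne_zero_iff.1 hz'
  obtain ⟨hz''', hz'f⟩ := mul_ne_zero_iff.1 hz''
  obtain ⟨hz'A, hz'Ψ⟩ := mul_ne_zero_iff.1 hz'''
  obtain ⟨c, hcdef⟩ : ∃ c, c = third F a (B z') := ⟨_, rfl⟩
  have hFc : eval c F = 0 := by rw [hcdef]; exact eval_third F hF a hFa (B z') (h1 z')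
  have hca : dF F a c = 0 := by rw [hcdef]; exact dF_third_self F hF a hFa (B z') (h1 z')
  have hcb : dF F b c ≠ 0 := by
    rw [hcdef, apply_third, ← hA, ← hΦ]
    intro h
    apply hz'Ψ
    rw [hΨdef, map_sub, map_mul, map_mul, eval_C, eval_linForm, LinearMap.comp_apply, ← h]
    ring
  have hfc : f c ≠ 0 := by
    rw [hcdef, apply_third, hfa, mul_zero, zero_sub, ← hA]
    exact neg_ne_zero.2 (mul_ne_zero hz'A hz'f)
  have hli3c : LI3 a b c := by
    intro c1 c2 c3 hc
    rw [hbdef, hcdef, hthird, hthird] at hc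
    have hc' : (c1 + c2 * eval z Φ + c3 * eval z' Φ) • a +
        B ((-(c2 * eval z A)) • z + (-(c3 * eval z' A)) • z') = 0 := by
      rw [← hc, map_add, map_smul, map_smul]
      module
    obtain ⟨e1, e2⟩ := h2 _ _ hc'
    have e20 := congrFun e2 0
    have e21 := congrFun e2 1
    simp only [Pi.add_apply, Pi.smul_apply, smul_eq_mul, Pi.zero_apply] at e20 e21
    have hc3 : c3 = 0 := by
      have h5 : c3 * eval z' A * (z 1 * z' 0 - z 0 * z' 1) = 0 := by
        linear_combination (-(z 1)) * e20 + z 0 * e21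
      rcases mul_eq_zero.1 h5 with h6 | h6
      · rcases mul_eq_zero.1 h6 with h7 | h7
        · exact h7
        · exact absurd h7 hz'A
      · exact absurd h6 hz'det
    rw [hc3] at e20 e21 e1
    simp only [zero_mul, neg_zero, add_zero] at e20 e21 e1
    have hc2 : c2 = 0 := by
      by_contra hne
      apply hz0
      have hne' : c2 * eval z A ≠ 0 := mul_ne_zero hne hz
      funext i
      fin_cases i
      · simpa [hne'] using e20
      · simpa [hne'] using e21
    rw [hc2] at e1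
    simp only [zero_mul, add_zero] at e1
    exact ⟨e1, hc2, hc3⟩
  refine ⟨b, c, third F b x1, third F b x2, hFb, hFc, hd1F, hd2F, ?_, ?_, hII, ?_, ?_⟩
  · exact (LI4_last (dF F b) hbb hd1b hd2b hcb hli3d).swap34.swap23
  · exact (LI4_last f hfa hfd1 hfd2 hfc hII.swap.rotate.left3).swap34.swap23
  · exact LI4_last (dF F a) hφa hba hca hd2a hli3c
  · exact LI4_last (dF F a) hφa hba hca hd1a hli3c

end

/-- Four further rational points, in general position together with `a`. -/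
theorem exists_four_points [CharZero k]
    (F : MvPolynomial (Fin 4) k) (hF : F.IsHomogeneous 3)
    (hirr : Irreducible (MvPolynomial.map (algebraMap k (AlgebraicClosure k)) F))
    (hcone : ¬ ∃ v : Fin 4 → k, v ≠ 0 ∧ ∑ i : Fin 4, v i • MvPolynomial.pderiv i F = 0)
    (a : Fin 4 → k) (ha : a ≠ 0) (hFa : MvPolynomial.eval a F = 0)
    (ℓ : MvPolynomial (Fin 4) (AlgebraicClosure k))
    (hℓ : ℓ = ∑ i : Fin 4, MvPolynomial.C (algebraMap k (AlgebraicClosure k)
      (MvPolynomial.eval a (MvPolynomial.pderiv i F))) * MvPolynomial.X i)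
    (hT : ¬ ∃ L₁ L₂ L₃ : MvPolynomial (Fin 4) (AlgebraicClosure k), L₁.IsHomogeneous 1 ∧
      L₂.IsHomogeneous 1 ∧ L₃.IsHomogeneous 1 ∧
      MvPolynomial.map (algebraMap k (AlgebraicClosure k)) F - L₁ * L₂ * L₃ ∈ Ideal.span {ℓ}) :
    ∃ p1 p2 p3 p4 : Fin 4 → k, eval p1 F = 0 ∧ eval p2 F = 0 ∧ eval p3 F = 0 ∧ eval p4 F = 0 ∧
      LI4 p1 p2 p3 p4 ∧ LI4 a p2 p3 p4 ∧ LI4 a p1 p3 p4 ∧ LI4 a p1 p2 p4 ∧ LI4 a p1 p2 p3 := by
  by_cases hs : ∀ i, eval a (pderiv i F) = 0
  · exact caseA F hF hirr hcone a ha hFa hs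
  · push Not at hs
    obtain ⟨i, hi⟩ := hs
    have hφ : dF F a ≠ 0 := by
      intro h0
      apply hi
      have := LinearMap.congr_fun h0 (Pi.single i 1)
      rw [dF_apply] at this
      simpa [Pi.single_apply] using this
    exact caseB F hF a ha hFa hφ ℓ hℓ hT

theorem s16348 (k : Type*) [Field k] [CharZero k]
    (F : MvPolynomial (Fin 4) k) (hF : F.IsHomogeneous 3)
    (hirr : Irreducible (MvPolynomial.map (algebraMap k (AlgebraicClosure k)) F))
    (hcone : ¬ ∃ v : Fin 4 → k, v ≠ 0 ∧ ∑ i : Fin 4, v i • MvPolynomial.pderiv i F = 0)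
    (a : Fin 4 → k) (ha : a ≠ 0) (hFa : MvPolynomial.eval a F = 0)
    (ℓ : MvPolynomial (Fin 4) (AlgebraicClosure k))
    (hℓ : ℓ = ∑ i : Fin 4, MvPolynomial.C (algebraMap k (AlgebraicClosure k)
      (MvPolynomial.eval a (MvPolynomial.pderiv i F))) * MvPolynomial.X i)
    (hT : ¬ ∃ L₁ L₂ L₃ : MvPolynomial (Fin 4) (AlgebraicClosure k), L₁.IsHomogeneous 1 ∧
      L₂.IsHomogeneous 1 ∧ L₃.IsHomogeneous 1 ∧
      MvPolynomial.map (algebraMap k (AlgebraicClosure k)) F - L₁ * L₂ * L₃ ∈ Ideal.span {ℓ}) :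
    ∃ p : Fin 5 → (Fin 4 → k), p 0 = a ∧ (∀ j : Fin 5, MvPolynomial.eval (p j) F = 0) ∧
      ∀ j : Fin 5, LinearIndependent k (fun i : Fin 4 => p (j.succAbove i)) := by
  obtain ⟨p1, p2, p3, p4, h1, h2, h3, h4, l0, l1, l2, l3, l4⟩ :=
    exists_four_points F hF hirr hcone a ha hFa ℓ hℓ hT
  refine ⟨![a, p1, p2, p3, p4], rfl, ?_, five_points a p1 p2 p3 p4 l0 l1 l2 l3 l4⟩
  intro j
  fin_cases j
  · exact hFa
  · exact h1
  · exact h2
  · exact h3
  · exact h4

end Groth.Agent.Lib.Helper24Gp5
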