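import Mathlib

set_option autoImplicit false

open DirectSum

namespace Groth.Agent.Lib.Helper24GrCompl

variable {S : Type*} [CommRing S] (𝒜 : ℤ → AddSubgroup S) [GradedRing 𝒜]
  {M : Type*} [AddCommGroup M] [Module S M] (ℳ : ℤ → AddSubgroup M)
  [DirectSum.Decomposition ℳ] [SetLike.GradedSMul 𝒜 ℳ]

lemma decompose_smul_of_mem (a : S) {y : M} {d : ℤ} (hy : y ∈ ℳ d) (n : ℤ) :
    (decompose ℳ (a • y) n : M) = (decompose 𝒜 a (n - d) : S) • y := by
  classical
  conv_lhs => rw [← DirectSum.sum_support_decompose 𝒜 a, Finset.sum_smul, DirectSum.decompose_sum]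
  rw [DFinsupp.finsetSum_apply, AddSubmonoidClass.coe_finsetSum]
  have hterm : ∀ e : ℤ, (decompose ℳ ((decompose 𝒜 a e : S) • y) n : M) =
      if e = n - d then (decompose 𝒜 a e : S) • y else 0 := by
    intro e
    have hmem : (decompose 𝒜 a e : S) • y ∈ ℳ (e + d) :=
      SetLike.GradedSMul.smul_mem (decompose 𝒜 a e).2 hy
    split_ifs with h
    · have : e + d = n := by omega
      rw [this] at hmem
      exact DirectSum.decompose_of_mem_same ℳ hmem
    · have : e + d ≠ n := by omega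
      exact DirectSum.decompose_of_mem_ne ℳ hmem this
  simp only [hterm]
  rw [Finset.sum_ite_eq']
  split_ifs with h
  · rfl
  · rw [DFinsupp.mem_support_toFun, not_not] at h
    rw [h]; simp


/-- linear functionals send `I • ⊤` into `I`. -/
lemma apply_mem_of_mem_smul_top {k : ℕ} (g : M →ₗ[S] (Fin k → S)) (I : Ideal S) {x : M}
    (hx : x ∈ I • (⊤ : Submodule S M)) (i : Fin k) : g x i ∈ I := by
  refine Submodule.smul_induction_on hx ?_ ?_
  · intro a ha m _
    rw [map_smul, Pi.smul_apply, smul_eq_mul]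
    exact I.mul_mem_right _ ha
  · intro x y hx hy
    rw [map_add, Pi.add_apply]
    exact I.add_mem hx hy

theorem graded_complete
    (V : ℕ → HomogeneousIdeal 𝒜)
    (hsep : ∀ (n : ℤ) (s : S), s ∈ 𝒜 n → (∀ m, s ∈ (V m).toIdeal) → s = 0)
    (hcpl : ∀ (n : ℤ) (f : ℕ → S), (∀ m, f m ∈ 𝒜 n) →
      (∀ m, f (m + 1) - f m ∈ (V m).toIdeal) → ∃ s ∈ 𝒜 n, ∀ m, s - f m ∈ (V m).toIdeal)
    [Module.Finite S M] [Module.Projective S M] :
    (∀ (n : ℤ) (x : M), x ∈ ℳ n → (∀ m, x ∈ (V m).toIdeal • (⊤ : Submodule S M)) → x = 0) ∧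
    (∀ (n : ℤ) (g : ℕ → M), (∀ m, g m ∈ ℳ n) →
      (∀ m, g (m + 1) - g m ∈ (V m).toIdeal • (⊤ : Submodule S M)) →
      ∃ x ∈ ℳ n, ∀ m, x - g m ∈ (V m).toIdeal • (⊤ : Submodule S M)) := by
  classical
  obtain ⟨k, f, g, -, -, hfg⟩ := Module.Finite.exists_comp_eq_id_of_projective S M
  -- generators and their components
  set xg : Fin k → M := fun i => f (Pi.single i 1) with hxg
  set y : Fin k → ℤ → M := fun i d => (decompose ℳ (xg i) d : M) with hy
  have hy_mem : ∀ i d, y i d ∈ ℳ d := fun i d => (decompose ℳ (xg i) d).2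
  set supp : Fin k → Finset ℤ := fun i => (decompose ℳ (xg i)).support with hsupp
  have hxg_sum : ∀ i, xg i = ∑ d ∈ supp i, y i d :=
    fun i => (DirectSum.sum_support_decompose ℳ (xg i)).symm
  have hexp : ∀ x : M, x = ∑ i, ∑ d ∈ supp i, g x i • y i d := by
    intro x
    have h1 : x = f (g x) := by
      have := congrArg (fun φ => φ x) hfg
      simpa using this.symm
    have h2 : f (g x) = ∑ i, g x i • xg i := by
      rw [LinearMap.pi_apply_eq_sum_univ f (g x)]
      refine Finset.sum_congr rfl fun i _ => ?_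
      congr 2
      ext j
      simp [Pi.single_apply, eq_comm]
    refine h1.trans (h2.trans ?_)
    refine Finset.sum_congr rfl fun i _ => ?_
    conv_lhs => rw [hxg_sum i, Finset.smul_sum]
  -- coefficient function
  set c : ℤ → M → Fin k → ℤ → S := fun n x i d => (decompose 𝒜 (g x i) (n - d) : S) with hc
  have hc_mem : ∀ n x i d, c n x i d ∈ 𝒜 (n - d) := fun n x i d => (decompose 𝒜 (g x i) (n - d)).2
  have hc_sub : ∀ n x x' i d, c n (x - x') i d = c n x i d - c n x' i d := by
    intro n x x' i d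
    simp only [hc, map_sub, Pi.sub_apply, DirectSum.decompose_sub, DirectSum.sub_apply,
      AddSubgroup.coe_sub]
  have hc_ideal : ∀ (I : HomogeneousIdeal 𝒜) n x i d, x ∈ I.toIdeal • (⊤ : Submodule S M) →
      c n x i d ∈ I.toIdeal := by
    intro I n x i d hx
    exact I.isHomogeneous (n - d) (apply_mem_of_mem_smul_top g I.toIdeal hx i)
  have hexp_hom : ∀ n x, x ∈ ℳ n → x = ∑ i, ∑ d ∈ supp i, c n x i d • y i d := by
    intro n x hx
    have h1 : (decompose ℳ x n : M) = x := DirectSum.decompose_of_mem_same ℳ hx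
    conv_lhs => rw [← h1, hexp x]
    rw [DirectSum.decompose_sum, DFinsupp.finsetSum_apply, AddSubmonoidClass.coe_finsetSum]
    refine Finset.sum_congr rfl fun i _ => ?_
    rw [DirectSum.decompose_sum, DFinsupp.finsetSum_apply, AddSubmonoidClass.coe_finsetSum]
    refine Finset.sum_congr rfl fun d _ => ?_
    exact decompose_smul_of_mem 𝒜 ℳ (g x i) (hy_mem i d) n
  refine ⟨?_, ?_⟩
  · intro n x hx hxV
    rw [hexp_hom n x hx]
    refine Finset.sum_eq_zero fun i _ => Finset.sum_eq_zero fun d _ => ?_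
    rw [hsep (n - d) (c n x i d) (hc_mem n x i d) (fun m => hc_ideal (V m) n x i d (hxV m)),
      zero_smul]
  · intro n g' hg' hdiff
    have hseq : ∀ i d, ∃ s ∈ 𝒜 (n - d), ∀ m, s - c n (g' m) i d ∈ (V m).toIdeal := by
      intro i d
      refine hcpl (n - d) (fun m => c n (g' m) i d) (fun m => hc_mem n (g' m) i d) ?_
      intro m
      rw [← hc_sub]
      exact hc_ideal (V m) n _ i d (hdiff m)
    choose s hs_mem hs using hseq
    refine ⟨∑ i, ∑ d ∈ supp i, s i d • y i d, ?_, ?_⟩
    · refine AddSubgroup.sum_mem _ fun i _ => AddSubgroup.sum_mem _ fun d _ => ?_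
      have := SetLike.GradedSMul.smul_mem (hs_mem i d) (hy_mem i d)
      simpa using this
    · intro m
      rw [hexp_hom n (g' m) (hg' m), ← Finset.sum_sub_distrib]
      refine Submodule.sum_mem _ fun i _ => ?_
      rw [← Finset.sum_sub_distrib]
      refine Submodule.sum_mem _ fun d _ => ?_
      rw [← sub_smul]
      exact Submodule.smul_mem_smul (hs i d m) Submodule.mem_top

end Groth.Agent.Lib.Helper24GrCompl
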