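import Mathlib
import Groth.Prelude.Def_GrSeg
import Groth.Prelude.Def_GrLC

/-!
# Graded `k`-duals: morphisms (helper24)

Graded pieces of a finite graded module over a graded `k`-algebra of finite type with `R_0 = k`,
`R_n = 0` for `n < 0`, are finite dimensional (Noetherian trick), and every graded homomorphism
`M^* → F^*` of graded duals is the dual of a unique graded homomorphism `F → M`.
-/

set_option autoImplicit false
universe u
open DirectSum

namespace Groth.Agent.Lib.Helper24GrDual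

section Proj

variable {M : Type u} [AddCommGroup M] (ℳ : ℤ → AddSubgroup M) [DirectSum.Decomposition ℳ]

/-- The degree-`n` component of `x`. -/
noncomputable def P (n : ℤ) (x : M) : M := ((DirectSum.decompose ℳ x) n : M)

theorem P_zero (n : ℤ) : P ℳ n 0 = 0 := by
  simp [P]

theorem P_add (n : ℤ) (x y : M) : P ℳ n (x + y) = P ℳ n x + P ℳ n y := by
  simp [P]

theorem P_mem (n : ℤ) (x : M) : P ℳ n x ∈ ℳ n := ((DirectSum.decompose ℳ x) n).2

theorem P_of_mem_same {n : ℤ} {x : M} (hx : x ∈ ℳ n) : P ℳ n x = x :=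
  DirectSum.decompose_of_mem_same ℳ hx

theorem P_of_mem_ne {m n : ℤ} {x : M} (hx : x ∈ ℳ m) (h : m ≠ n) : P ℳ n x = 0 :=
  DirectSum.decompose_of_mem_ne ℳ hx h

end Proj

section Graded

variable {k : Type u} [Field k] {R : Type u} [CommRing R] [Algebra k R]
  (𝒜 : ℤ → Submodule k R) [GradedAlgebra 𝒜]
  {M : Type u} [AddCommGroup M] [Module R M] [Module k M] [IsScalarTower k R M]
  (ℳ : ℤ → AddSubgroup M) [DirectSum.Decomposition ℳ] [SetLike.GradedSMul 𝒜 ℳ]

include 𝒜 in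
theorem ksmul_mem {n : ℤ} (c : k) {x : M} (hx : x ∈ ℳ n) : c • x ∈ ℳ n := by
  have h1 : (c • (1 : R)) ∈ 𝒜 0 := Submodule.smul_mem _ c (SetLike.one_mem_graded 𝒜)
  have h := SetLike.GradedSMul.smul_mem (A := 𝒜) (B := ℳ) h1 hx
  rw [vadd_eq_add, zero_add, smul_assoc, one_smul] at h
  exact h

/-- The piece `M_n` as a `k`-subspace. -/
def pieceSub (n : ℤ) : Submodule k M where
  carrier := (ℳ n : Set M)
  add_mem' ha hb := add_mem ha hb
  zero_mem' := zero_mem _
  smul_mem' c _ hx := ksmul_mem 𝒜 ℳ c hx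

theorem mem_pieceSub {n : ℤ} {x : M} : x ∈ pieceSub 𝒜 ℳ n ↔ x ∈ ℳ n := Iff.rfl

theorem P_smul_homog {a : ℤ} {r : R} (hr : r ∈ 𝒜 a) (n : ℤ) (z : M) :
    P ℳ n (r • z) = r • P ℳ (n - a) z := by
  refine DirectSum.Decomposition.inductionOn ℳ
    (motive := fun z => P ℳ n (r • z) = r • P ℳ (n - a) z) ?_ ?_ ?_ z
  · rw [smul_zero, P_zero, P_zero, smul_zero]
  · intro b y
    have hy : (y : M) ∈ ℳ b := y.2
    have hry : r • (y : M) ∈ ℳ (a + b) := by
      have h := SetLike.GradedSMul.smul_mem (A := 𝒜) (B := ℳ) hr hy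
      rwa [vadd_eq_add] at h
    by_cases h : a + b = n
    · subst h
      rw [show a + b - a = b by ring, P_of_mem_same ℳ hry, P_of_mem_same ℳ hy]
    · have hb : b ≠ n - a := by omega
      rw [P_of_mem_ne ℳ hry h, P_of_mem_ne ℳ hy hb, smul_zero]
  · intro x y hx hy
    rw [smul_add, P_add, hx, hy, P_add, smul_add]

theorem eq_zero_of_neg (hpos : ∀ n : ℤ, n < 0 → 𝒜 n = ⊥) {a : ℤ} (ha : a < 0) (x : R)
    (hx : x ∈ 𝒜 a) : x = 0 := by
  rw [hpos a ha] at hx
  exact (Submodule.mem_bot k).1 hx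

/-- The submodule `M_{≥ m}`. -/
def geSub (hpos : ∀ n : ℤ, n < 0 → 𝒜 n = ⊥) (m : ℤ) : Submodule R M where
  carrier := {z | ∀ n : ℤ, n < m → P ℳ n z = 0}
  add_mem' := by
    intro x y hx hy n hn
    rw [P_add, hx n hn, hy n hn, add_zero]
  zero_mem' := fun n _ => P_zero ℳ n
  smul_mem' := by
    intro r z hz n hn
    refine DirectSum.Decomposition.inductionOn 𝒜
      (motive := fun r => P ℳ n (r • z) = 0) ?_ ?_ ?_ r
    · rw [zero_smul, P_zero]
    · intro a ra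
      by_cases ha : a < 0
      · rw [eq_zero_of_neg 𝒜 hpos ha _ ra.2, zero_smul, P_zero]
      · rw [P_smul_homog 𝒜 ℳ ra.2 n z, hz (n - a) (by omega), smul_zero]
    · intro r r' h h'
      rw [add_smul, P_add, h, h', add_zero]

theorem P_smul_of_ge (hpos : ∀ n : ℤ, n < 0 → 𝒜 n = ⊥) {m : ℤ} {z : M}
    (hz : ∀ n : ℤ, n < m → P ℳ n z = 0) (r : R) :
    P ℳ m (r • z) = ((DirectSum.decompose 𝒜 r 0 : 𝒜 0) : R) • P ℳ m z := by
  refine DirectSum.Decomposition.inductionOn 𝒜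
    (motive := fun r => P ℳ m (r • z) = ((DirectSum.decompose 𝒜 r 0 : 𝒜 0) : R) • P ℳ m z)
    ?_ ?_ ?_ r
  · simp [P_zero]
  · intro a ra
    rcases lt_trichotomy a 0 with ha | ha | ha
    · rw [eq_zero_of_neg 𝒜 hpos ha _ ra.2]
      simp [P_zero]
    · subst ha
      rw [DirectSum.decompose_of_mem_same 𝒜 ra.2, P_smul_homog 𝒜 ℳ ra.2 m z, sub_zero]
    · rw [DirectSum.decompose_of_mem_ne 𝒜 ra.2 (by omega : a ≠ 0), zero_smul,
        P_smul_homog 𝒜 ℳ ra.2 m z, hz (m - a) (by omega), smul_zero]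
  · intro r r' h h'
    rw [add_smul, P_add, h, h', DirectSum.decompose_add, DirectSum.add_apply, Submodule.coe_add,
      add_smul]

theorem piece_le_span (hpos : ∀ n : ℤ, n < 0 → 𝒜 n = ⊥)
    (h0R : 𝒜 0 = Submodule.span k {(1 : R)}) [Algebra.FiniteType k R] [Module.Finite R M]
    (m : ℤ) : ∃ T : Finset M, ∀ x ∈ ℳ m, x ∈ Submodule.span k (T : Set M) := by
  classical
  haveI : IsNoetherianRing R := Algebra.FiniteType.isNoetherianRing k R
  haveI : IsNoetherian R M := isNoetherian_of_isNoetherianRing_of_finite R M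
  obtain ⟨S, hS⟩ := IsNoetherian.noetherian (geSub 𝒜 ℳ hpos m)
  refine ⟨S.image (P ℳ m), ?_⟩
  intro x hx
  have hxN : x ∈ geSub 𝒜 ℳ hpos m := fun n hn => P_of_mem_ne ℳ hx (by omega)
  have h1 : ∀ y : R, y ∈ 𝒜 0 → y ∈ Submodule.span k {(1 : R)} := fun y hy => by
    rw [← h0R]; exact hy
  have key : ∀ z ∈ Submodule.span R (S : Set M),
      P ℳ m z ∈ Submodule.span k ((S.image (P ℳ m) : Finset M) : Set M) := by
    intro z hz
    refine Submodule.span_induction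
      (p := fun z _ => P ℳ m z ∈ Submodule.span k ((S.image (P ℳ m) : Finset M) : Set M))
      ?_ ?_ ?_ ?_ hz
    · intro s hs
      exact Submodule.subset_span
        (Finset.mem_coe.2 (Finset.mem_image_of_mem _ (Finset.mem_coe.1 hs)))
    · rw [P_zero]; exact zero_mem _
    · intro x y _ _ ihx ihy
      rw [P_add]; exact add_mem ihx ihy
    · intro r z hz ih
      have hzN : z ∈ geSub 𝒜 ℳ hpos m := hS ▸ hz
      rw [P_smul_of_ge 𝒜 ℳ hpos hzN r]
      obtain ⟨c, hc⟩ := Submodule.mem_span_singleton.1 (h1 _ (DirectSum.decompose 𝒜 r 0).2)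
      rw [← hc, smul_assoc, one_smul]
      exact Submodule.smul_mem _ c ih
  have := key x (hS.symm ▸ hxN)
  rwa [P_of_mem_same ℳ hx] at this

theorem pieceSub_finite (hpos : ∀ n : ℤ, n < 0 → 𝒜 n = ⊥)
    (h0R : 𝒜 0 = Submodule.span k {(1 : R)}) [Algebra.FiniteType k R] [Module.Finite R M]
    (m : ℤ) : Module.Finite k (pieceSub 𝒜 ℳ m) := by
  obtain ⟨T, hT⟩ := piece_le_span 𝒜 ℳ hpos h0R m
  haveI : Module.Finite k (Submodule.span k (T : Set M)) :=
    Module.Finite.span_of_finite k (Finset.finite_toSet T)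
  exact Submodule.finiteDimensional_of_le
    (show pieceSub 𝒜 ℳ m ≤ Submodule.span k (T : Set M) from fun x hx => hT x hx)

end Graded

section Dual

variable {k : Type u} [Field k] {R : Type u} [CommRing R] [Algebra k R]
  {M : Type u} [AddCommGroup M] [Module R M] [Module k M] [IsScalarTower k R M]
  (ℳ : ℤ → AddSubgroup M) [DirectSum.Decomposition ℳ]
  {D : Type u} [AddCommGroup D] [Module R D] [Module k D] [IsScalarTower k R D]
  (𝒟 : ℤ → AddSubgroup D) [DirectSum.Decomposition 𝒟]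
  (β : D →ₗ[k] M →ₗ[k] k)

theorem pair_eq_pair_P (hD : GrSeg.IsGDual R ℳ 𝒟 β) {j : ℤ} {d : D} (hd : d ∈ 𝒟 j) (y : M) :
    β d y = β d (P ℳ (-j) y) := by
  refine DirectSum.Decomposition.inductionOn ℳ
    (motive := fun y => β d y = β d (P ℳ (-j) y)) ?_ ?_ ?_ y
  · rw [P_zero]
  · intro b yb
    by_cases hb : b = -j
    · subst hb
      rw [P_of_mem_same ℳ yb.2]
    · rw [P_of_mem_ne ℳ yb.2 hb, map_zero, hD.vanish j d hd b hb _ yb.2]
  · intro y y' h h'
    rw [map_add, h, h', P_add, map_add]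

theorem eq_zero_of_pairing (hD : GrSeg.IsGDual R ℳ 𝒟 β) (y : M) (h : ∀ d : D, β d y = 0) :
    y = 0 := by
  classical
  have hP : ∀ n, P ℳ n y = 0 := by
    intro n
    apply (Module.forall_dual_apply_eq_zero_iff k _).1
    intro φ
    obtain ⟨d, hd, hdφ⟩ := hD.exists_eq (-n) φ
    have h1 := pair_eq_pair_P ℳ 𝒟 β hD hd y
    rw [neg_neg] at h1
    have h2 := hdφ (P ℳ n y) (by rw [neg_neg]; exact P_mem ℳ n y)
    rw [← h2, ← h1, h]
  calc y = ∑ i ∈ (DirectSum.decompose ℳ y).support, ((DirectSum.decompose ℳ y) i : M) :=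
        (DirectSum.sum_support_decompose ℳ y).symm
    _ = 0 := Finset.sum_eq_zero (fun n _ => hP n)

end Dual

section Exists

variable {k : Type u} [Field k] {R : Type u} [CommRing R] [Algebra k R]
  (𝒜 : ℤ → Submodule k R) [GradedAlgebra 𝒜]
  {M : Type u} [AddCommGroup M] [Module R M] [Module k M] [IsScalarTower k R M]
  (ℳ : ℤ → AddSubgroup M) [DirectSum.Decomposition ℳ] [SetLike.GradedSMul 𝒜 ℳ]
  {DM : Type u} [AddCommGroup DM] [Module R DM] [Module k DM] [IsScalarTower k R DM]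
  (𝒟M : ℤ → AddSubgroup DM) [DirectSum.Decomposition 𝒟M] [SetLike.GradedSMul 𝒜 𝒟M]
  (βM : DM →ₗ[k] M →ₗ[k] k)

theorem exists_on_piece (hDM : GrSeg.IsGDual R ℳ 𝒟M βM) (m : ℤ)
    [Module.Finite k (pieceSub 𝒜 ℳ m)] (φ : DM →ₗ[k] k) :
    ∃ y ∈ ℳ m, ∀ d ∈ 𝒟M (-m), βM d y = φ d := by
  classical
  have b := Module.finBasis k (pieceSub 𝒜 ℳ m)
  have hext : ∀ i, ∃ l : M →ₗ[k] k, ∀ v : pieceSub 𝒜 ℳ m, l (v : M) = b.coord i v := by
    intro i
    obtain ⟨l, hl⟩ := LinearMap.exists_extend (b.coord i)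
    exact ⟨l, fun v => by rw [← hl]; rfl⟩
  choose lam hlam using hext
  have hd : ∀ i, ∃ d : DM, d ∈ 𝒟M (-m) ∧
      ∀ v : pieceSub 𝒜 ℳ m, βM d (v : M) = b.coord i v := by
    intro i
    obtain ⟨d, hd, hdv⟩ := hDM.exists_eq (-m) (lam i)
    refine ⟨d, hd, fun v => ?_⟩
    rw [hdv (v : M) (by rw [neg_neg]; exact (mem_pieceSub 𝒜 ℳ).1 v.2), hlam]
  choose dd hdd hddv using hd
  have hcoord : ∀ i j, b.coord i (b j) = if j = i then 1 else 0 := by
    intro i j
    rw [Module.Basis.coord_apply, Module.Basis.repr_self, Finsupp.single_apply]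
  refine ⟨((∑ i, φ (dd i) • b i : pieceSub 𝒜 ℳ m) : M),
    (mem_pieceSub 𝒜 ℳ).1 (∑ i, φ (dd i) • b i : pieceSub 𝒜 ℳ m).2, ?_⟩
  intro d hd
  obtain ⟨d', hd'⟩ : ∃ d' : DM, d' = ∑ i, (βM d (b i : M)) • dd i := ⟨_, rfl⟩
  have hmem : d - d' ∈ 𝒟M (-m) := by
    rw [hd']
    exact sub_mem hd (sum_mem (fun i _ => ksmul_mem 𝒜 𝒟M _ (hdd i)))
  have hfun : (βM d) ∘ₗ (pieceSub 𝒜 ℳ m).subtype = (βM d') ∘ₗ (pieceSub 𝒜 ℳ m).subtype := by
    apply b.ext
    intro j
    rw [hd']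
    simp only [LinearMap.comp_apply, Submodule.subtype_apply, map_sum, LinearMap.sum_apply,
      map_smul, LinearMap.smul_apply, hddv, smul_eq_mul, hcoord, mul_ite, mul_one, mul_zero,
      Finset.sum_ite_eq, Finset.mem_univ, if_true]
  have hzero : d - d' = 0 := by
    apply hDM.eq_zero (-m) _ hmem
    intro v hv
    rw [neg_neg] at hv
    have := LinearMap.congr_fun hfun ⟨v, (mem_pieceSub 𝒜 ℳ).2 hv⟩
    simp only [LinearMap.comp_apply, Submodule.subtype_apply] at this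
    rw [map_sub, LinearMap.sub_apply, this, sub_self]
  have hdd' : d = d' := sub_eq_zero.1 hzero
  calc βM d ((∑ i, φ (dd i) • b i : pieceSub 𝒜 ℳ m) : M)
      = ∑ i, φ (dd i) * βM d (b i : M) := by
        rw [Submodule.coe_sum, map_sum]
        refine Finset.sum_congr rfl (fun i _ => ?_)
        rw [Submodule.coe_smul, map_smul, smul_eq_mul]
    _ = φ d' := by
        rw [hd', map_sum]
        refine Finset.sum_congr rfl (fun i _ => ?_)
        rw [map_smul, smul_eq_mul, mul_comm]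
    _ = φ d := by rw [← hdd']

end Exists

theorem s19762 (k : Type u) [Field k] (R : Type u) [CommRing R] [Algebra k R] (𝒜 : ℤ → Submodule k R) [GradedAlgebra 𝒜] (hposR : ∀ n : ℤ, n < 0 → 𝒜 n = ⊥) (h0R : 𝒜 0 = Submodule.span k {(1 : R)}) [Algebra.FiniteType k R] (F : Type u) [AddCommGroup F] [Module R F] [Module k F] [IsScalarTower k R F] (ℱ : ℤ → AddSubgroup F) [DirectSum.Decomposition ℱ] [SetLike.GradedSMul 𝒜 ℱ] [Module.Finite R F] (M : Type u) [AddCommGroup M] [Module R M] [Module k M] [IsScalarTower k R M] (ℳ : ℤ → AddSubgroup M) [DirectSum.Decomposition ℳ] [SetLike.GradedSMul 𝒜 ℳ] [Module.Finite R M] (DM : Type u) [AddCommGroup DM] [Module R DM] [Module k DM] [IsScalarTower k R DM] (𝒟M : ℤ → AddSubgroup DM) [DirectSum.Decomposition 𝒟M] [SetLike.GradedSMul 𝒜 𝒟M] (βM : DM →ₗ[k] M →ₗ[k] k) (hDM : GrSeg.IsGDual R ℳ 𝒟M βM) (DF : Type u) [AddCommGroup DF] [Module R DF] [Module k DF] [IsScalarTower k R DF] (𝒟F : ℤ → AddSubgroup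 DF) [DirectSum.Decomposition 𝒟F] [SetLike.GradedSMul 𝒜 𝒟F] (βF : DF →ₗ[k] F →ₗ[k] k) (hDF : GrSeg.IsGDual R ℱ 𝒟F βF) (g : DM →ₗ[R] DF) (hg : GrLC.IsGrHom 𝒟M 𝒟F g) : ∃! f : F →ₗ[R] M, GrLC.IsGrHom ℱ ℳ f ∧ GrSeg.IsGDualMap βM βF f g := by
  classical
  have sepM : ∀ y : M, (∀ d : DM, βM d y = 0) → y = 0 := eq_zero_of_pairing ℳ 𝒟M βM hDM
  have hfinM : ∀ m, Module.Finite k (pieceSub 𝒜 ℳ m) := pieceSub_finite 𝒜 ℳ hposR h0R
  have hex_hom : ∀ (m : ℤ) (x : F), x ∈ ℱ m →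
      ∃ y ∈ ℳ m, ∀ d : DM, βM d y = βF (g d) x := by
    intro m x hx
    haveI := hfinM m
    obtain ⟨y, hym, hy⟩ := exists_on_piece 𝒜 ℳ 𝒟M βM hDM m
      ((βF.flip x) ∘ₗ (g.restrictScalars k))
    refine ⟨y, hym, ?_⟩
    intro d
    refine DirectSum.Decomposition.inductionOn 𝒟M
      (motive := fun d => βM d y = βF (g d) x) ?_ ?_ ?_ d
    · simp
    · intro j dj
      by_cases hj : j = -m
      · subst hj
        exact hy _ dj.2
      · rw [hDM.vanish j _ dj.2 m (by omega) y hym,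
          hDF.vanish j _ (hg j _ dj.2) m (by omega) x hx]
    · intro d d' h h'
      simp only [map_add, LinearMap.add_apply, h, h']
  have hex : ∀ x : F, ∃ y : M, ∀ d : DM, βM d y = βF (g d) x := by
    intro x
    refine DirectSum.Decomposition.inductionOn ℱ
      (motive := fun x => ∃ y : M, ∀ d : DM, βM d y = βF (g d) x) ?_ ?_ ?_ x
    · exact ⟨0, fun d => by simp⟩
    · intro m xm
      obtain ⟨y, _, hy⟩ := hex_hom m xm xm.2
      exact ⟨y, hy⟩
    · rintro x x' ⟨y, hy⟩ ⟨y', hy'⟩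
      exact ⟨y + y', fun d => by rw [map_add, map_add, hy, hy']⟩
  choose f0 hf0 using hex
  have huniq : ∀ (x : F) (y : M), (∀ d : DM, βM d y = βF (g d) x) → y = f0 x := by
    intro x y hy
    have : y - f0 x = 0 := sepM _ (fun d => by rw [map_sub, hy, hf0, sub_self])
    exact sub_eq_zero.1 this
  let f : F →ₗ[R] M :=
    { toFun := f0
      map_add' := fun x x' =>
        (huniq _ _ (fun d => by rw [map_add, map_add, hf0, hf0])).symm
      map_smul' := fun r x => (huniq _ _ (fun d => by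
        rw [RingHom.id_apply, ← hDM.map_smul, hf0, LinearMap.map_smul g r d,
          hDF.map_smul])).symm }
  refine ⟨f, ⟨?_, ?_⟩, ?_⟩
  · intro m x hx
    obtain ⟨y, hym, hy⟩ := hex_hom m x hx
    have : y = f0 x := huniq x y hy
    show f0 x ∈ ℳ m
    rw [← this]; exact hym
  · intro d x
    exact (hf0 x d).symm
  · rintro f' ⟨_, hf'⟩
    apply LinearMap.ext
    intro x
    exact huniq x (f' x) (fun d => (hf' d x).symm)

end Groth.Agent.Lib.Helper24GrDual
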