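import Mathlib
import Groth.Prelude.Def_GrSeg
import Groth.Prelude.Def_GrLC
import Groth.Agent.Lib.Helper24GrDual

/-!
# The graded dual `R^*` is the *injective envelope of `R/m` (helper24)
-/

set_option autoImplicit false
universe u
open DirectSum

namespace Groth.Agent.Lib.Helper24GrDual2

open Groth.Agent.Lib.Helper24GrDual

section

variable {k : Type u} [Field k] {R : Type u} [CommRing R] [Algebra k R]
  (𝒜 : ℤ → Submodule k R) [GradedAlgebra 𝒜]

/-- The `k`-linear projection to the degree-`n` component. -/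
noncomputable def Plin {M : Type u} [AddCommGroup M] [Module R M] [Module k M]
    [IsScalarTower k R M] (ℳ : ℤ → AddSubgroup M) [DirectSum.Decomposition ℳ]
    [SetLike.GradedSMul 𝒜 ℳ] (n : ℤ) : M →ₗ[k] M where
  toFun := P ℳ n
  map_add' := P_add ℳ n
  map_smul' c x := by
    have h1 : algebraMap k R c ∈ 𝒜 0 := by
      rw [Algebra.algebraMap_eq_smul_one]
      exact Submodule.smul_mem _ c (SetLike.one_mem_graded 𝒜)
    have h := P_smul_homog 𝒜 ℳ h1 n x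
    rw [sub_zero, algebraMap_smul, algebraMap_smul] at h
    exact h

variable {D : Type u} [AddCommGroup D] [Module R D] [Module k D] [IsScalarTower k R D]
  (𝒟 : ℤ → AddSubgroup D) [DirectSum.Decomposition 𝒟] [SetLike.GradedSMul 𝒜 𝒟]
  (β : D →ₗ[k] R →ₗ[k] k)

theorem pairD_P (hD : GrSeg.IsGDual R 𝒜 𝒟 β) {n : ℤ} {x : R} (hx : x ∈ 𝒜 (-n)) (d : D) :
    β (P 𝒟 n d) x = β d x := by
  refine DirectSum.Decomposition.inductionOn 𝒟
    (motive := fun d => β (P 𝒟 n d) x = β d x) ?_ ?_ ?_ d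
  · rw [P_zero]
  · intro j dj
    by_cases hj : j = n
    · subst hj
      rw [P_of_mem_same 𝒟 dj.2]
    · rw [P_of_mem_ne 𝒟 dj.2 hj, map_zero, LinearMap.zero_apply,
        hD.vanish j _ dj.2 (-n) (by omega) x hx]
  · intro d d' h h'
    rw [P_add, map_add, LinearMap.add_apply, h, h', map_add, LinearMap.add_apply]

theorem sepD (hD : GrSeg.IsGDual R 𝒜 𝒟 β) (d : D) (h : ∀ r : R, β d r = 0) : d = 0 := by
  classical
  have hP : ∀ n, P 𝒟 n d = 0 := fun n =>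
    hD.eq_zero n _ (P_mem 𝒟 n d) (fun x hx => by rw [pairD_P 𝒜 𝒟 β hD hx d, h])
  calc d = ∑ i ∈ (DirectSum.decompose 𝒟 d).support, ((DirectSum.decompose 𝒟 d) i : D) :=
        (DirectSum.sum_support_decompose 𝒟 d).symm
    _ = 0 := Finset.sum_eq_zero (fun n _ => hP n)

theorem starInj_aux (hD : GrSeg.IsGDual R 𝒜 𝒟 β)
    {A : Type u} [AddCommGroup A] [Module R A] [Module k A] [IsScalarTower k R A]
    (𝒢 : ℤ → AddSubgroup A) [DirectSum.Decomposition 𝒢] [SetLike.GradedSMul 𝒜 𝒢]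
    {B : Type u} [AddCommGroup B] [Module R B] [Module k B] [IsScalarTower k R B]
    (ℬ : ℤ → AddSubgroup B) [DirectSum.Decomposition ℬ] [SetLike.GradedSMul 𝒜 ℬ]
    (f : A →ₗ[R] B) (hf : GrLC.IsGrHom 𝒢 ℬ f) (hinj : Function.Injective f)
    (g : A →ₗ[R] D) (hg : GrLC.IsGrHom 𝒢 𝒟 g) :
    ∃ h : B →ₗ[R] D, GrLC.IsGrHom ℬ 𝒟 h ∧ h ∘ₗ f = g := by
  classical
  obtain ⟨q, hq⟩ := LinearMap.exists_leftInverse_of_injective (f.restrictScalars k)
    (LinearMap.ker_eq_bot.2 hinj)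
  have hq' : ∀ a, q (f a) = a := fun a => LinearMap.congr_fun hq a
  obtain ⟨lamB, hlamB⟩ : ∃ l : B →ₗ[k] k,
      l = (β.flip 1) ∘ₗ (g.restrictScalars k) ∘ₗ q ∘ₗ (Plin 𝒜 ℬ 0) := ⟨_, rfl⟩
  have hlam : ∀ b, lamB b = β (g (q (P ℬ 0 b))) 1 := fun b => by rw [hlamB]; rfl
  have one0 : (1 : R) ∈ 𝒜 0 := SetLike.one_mem_graded 𝒜
  have hL3 : ∀ a, lamB (f a) = β (g a) 1 := by
    intro a
    refine DirectSum.Decomposition.inductionOn 𝒢
      (motive := fun a => lamB (f a) = β (g a) 1) ?_ ?_ ?_ a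
    · simp
    · intro n an
      by_cases hn : n = 0
      · subst hn
        rw [hlam, P_of_mem_same ℬ (hf 0 _ an.2), hq']
      · have h0 : β (g (an : A)) 1 = 0 := hD.vanish n _ (hg n _ an.2) 0 (by omega) 1 one0
        rw [hlam, P_of_mem_ne ℬ (hf n _ an.2) hn, h0]
        simp only [map_zero, LinearMap.zero_apply]
    · intro a a' h h'
      simp only [map_add, LinearMap.add_apply, h, h']
  have hL4 : ∀ (n j : ℤ) (b : B) (x : R), b ∈ ℬ n → x ∈ 𝒜 j → j + n ≠ 0 →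
      lamB (x • b) = 0 := by
    intro n j b x hb hx hne
    have hxb : x • b ∈ ℬ (j + n) := by
      have h := SetLike.GradedSMul.smul_mem (A := 𝒜) (B := ℬ) hx hb
      rwa [vadd_eq_add] at h
    rw [hlam, P_of_mem_ne ℬ hxb hne]
    simp only [map_zero, LinearMap.zero_apply]
  have hex_hom : ∀ (n : ℤ) (b : B), b ∈ ℬ n →
      ∃ d ∈ 𝒟 n, ∀ r : R, β d r = lamB (r • b) := by
    intro n b hb
    obtain ⟨d, hd, hdx⟩ := hD.exists_eq n
      (lamB ∘ₗ ((LinearMap.toSpanSingleton R B b).restrictScalars k))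
    refine ⟨d, hd, fun r => ?_⟩
    refine DirectSum.Decomposition.inductionOn 𝒜
      (motive := fun r => β d r = lamB (r • b)) ?_ ?_ ?_ r
    · simp
    · intro j xj
      by_cases hj : j = -n
      · subst hj
        exact hdx _ xj.2
      · rw [hD.vanish n d hd j hj _ xj.2, hL4 n j b _ hb xj.2 (by omega)]
    · intro r r' h h'
      rw [map_add, h, h', add_smul, map_add]
  have hex : ∀ b : B, ∃ d : D, ∀ r : R, β d r = lamB (r • b) := by
    intro b
    refine DirectSum.Decomposition.inductionOn ℬ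
      (motive := fun b => ∃ d : D, ∀ r : R, β d r = lamB (r • b)) ?_ ?_ ?_ b
    · exact ⟨0, fun r => by simp⟩
    · intro n bn
      obtain ⟨d, _, hd⟩ := hex_hom n bn bn.2
      exact ⟨d, hd⟩
    · rintro b b' ⟨d, hd⟩ ⟨d', hd'⟩
      exact ⟨d + d', fun r => by
        rw [map_add, LinearMap.add_apply, hd, hd', smul_add, map_add]⟩
  choose h0 hh0 using hex
  have huniq : ∀ (b : B) (d : D), (∀ r : R, β d r = lamB (r • b)) → d = h0 b := by
    intro b d hd
    have : d - h0 b = 0 := sepD 𝒜 𝒟 β hD _ (fun r => by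
      rw [map_sub, LinearMap.sub_apply, hd, hh0, sub_self])
    exact sub_eq_zero.1 this
  let h : B →ₗ[R] D :=
    { toFun := h0
      map_add' := fun b b' => (huniq _ _ (fun r => by
        rw [map_add, LinearMap.add_apply, hh0, hh0, smul_add, map_add])).symm
      map_smul' := fun r' b => (huniq _ _ (fun r => by
        rw [RingHom.id_apply, hD.map_smul, hh0, smul_eq_mul, mul_comm, mul_smul])).symm }
  refine ⟨h, ?_, ?_⟩
  · intro n b hb
    obtain ⟨d, hd, hdr⟩ := hex_hom n b hb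
    have : d = h0 b := huniq b d hdr
    show h0 b ∈ 𝒟 n
    rw [← this]; exact hd
  · apply LinearMap.ext
    intro a
    show h0 (f a) = g a
    refine (huniq (f a) (g a) (fun r => ?_)).symm
    rw [← LinearMap.map_smul f r a, hL3, LinearMap.map_smul g r a, hD.map_smul, smul_eq_mul,
      mul_one]

theorem D_pos_eq_zero (hpos : ∀ n : ℤ, n < 0 → 𝒜 n = ⊥) (hD : GrSeg.IsGDual R 𝒜 𝒟 β)
    {n : ℤ} (hn : 0 < n) {d : D} (hd : d ∈ 𝒟 n) : d = 0 :=
  hD.eq_zero n d hd (fun x hx => by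
    rw [eq_zero_of_neg 𝒜 hpos (by omega : -n < 0) x hx, map_zero])

theorem mR_pair_zero (hpos : ∀ n : ℤ, n < 0 → 𝒜 n = ⊥) (hD : GrSeg.IsGDual R 𝒜 𝒟 β)
    (mR : HomogeneousIdeal 𝒜)
    (hmR : mR.toIdeal = Ideal.span (⋃ n ∈ Set.Ioi (0 : ℤ), (𝒜 n : Set R)))
    {δ : D} (hδ : δ ∈ 𝒟 0) {r : R} (hr : r ∈ mR.toIdeal) : β δ r = 0 := by
  rw [hmR] at hr
  have key : ∀ a : R, β δ (a * r) = 0 := by
    refine Submodule.span_induction (p := fun r _ => ∀ a : R, β δ (a * r) = 0) ?_ ?_ ?_ ?_ hr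
    · intro x hx a
      obtain ⟨n, hn, hxn⟩ := Set.mem_iUnion₂.1 hx
      have hn' : 0 < n := hn
      have hxδ : x • δ ∈ 𝒟 (n + 0) := by
        have h := SetLike.GradedSMul.smul_mem (A := 𝒜) (B := 𝒟) hxn hδ
        rwa [vadd_eq_add] at h
      have h0 : x • δ = 0 := D_pos_eq_zero 𝒜 𝒟 β hpos hD (by omega) hxδ
      have h1 : β δ (a * x) = β (x • δ) a := by
        rw [hD.map_smul, smul_eq_mul, mul_comm]
      rw [h1, h0, map_zero, LinearMap.zero_apply]
    · intro a; rw [mul_zero, map_zero]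
    · intro x y _ _ hx hy a
      rw [mul_add, map_add, hx, hy, add_zero]
    · intro a' x _ hx a
      rw [smul_eq_mul, ← mul_assoc]
      exact hx _
  have := key 1
  rwa [one_mul] at this

theorem D0_eq_smul (h0R : 𝒜 0 = Submodule.span k {(1 : R)}) (hD : GrSeg.IsGDual R 𝒜 𝒟 β)
    {δ ε : D} (hδ : δ ∈ 𝒟 0) (hε : ε ∈ 𝒟 0) (hne : β ε 1 ≠ 0) :
    δ = (β δ 1 / β ε 1) • ε := by
  have hmem : δ - (β δ 1 / β ε 1) • ε ∈ 𝒟 0 := sub_mem hδ (ksmul_mem 𝒜 𝒟 _ hε)
  have := hD.eq_zero 0 _ hmem (fun x hx => by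
    rw [neg_zero, h0R] at hx
    obtain ⟨t, rfl⟩ := Submodule.mem_span_singleton.1 hx
    have e1 : β δ 1 / β ε 1 * β ε 1 = β δ 1 := by field_simp
    simp only [map_sub, LinearMap.sub_apply, map_smul, LinearMap.smul_apply, smul_eq_mul]
    rw [e1, sub_self, mul_zero])
  exact sub_eq_zero.1 this

end

theorem s19752 (k : Type u) [Field k] (R : Type u) [CommRing R] [Algebra k R] (𝒜 : ℤ → Submodule k R) [GradedAlgebra 𝒜] (hposR : ∀ n : ℤ, n < 0 → 𝒜 n = ⊥) (h0R : 𝒜 0 = Submodule.span k {(1 : R)}) [Algebra.FiniteType k R] (mR : HomogeneousIdeal 𝒜) (hmR : mR.toIdeal = Ideal.span (⋃ n ∈ Set.Ioi (0 : ℤ), (𝒜 n : Set R))) (D : Type u) [AddCommGroup D] [Module R D] [Module k D] [IsScalarTower k R D] (𝒟 : ℤ → AddSubgroup D) [DirectSum.Decomposition 𝒟] [SetLike.GradedSMul 𝒜 𝒟] (β : D →ₗ[k] R →ₗ[k] k) (hD : GrSeg.IsGDual R 𝒜 𝒟 β) (e : (R ⧸ mR.toIdeal) →ₗ[R] D) (he : Function.Injective e) (hegr : GrLC.IsGrHom (GrLC.quotGr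 𝒜 mR) 𝒟 e) : GrLC.IsStarInjHull 𝒜 (GrLC.quotGr 𝒜 mR) 𝒟 e := by
  classical
  have one0 : (1 : R) ∈ 𝒜 0 := SetLike.one_mem_graded 𝒜
  refine ⟨⟨he, hegr, ?_⟩, ?_⟩
  · intro Psub hPhom hPne
    obtain ⟨d, hdP, hdne⟩ := Submodule.exists_mem_ne_zero_of_ne_bot hPne
    obtain ⟨n, hn⟩ : ∃ n, P 𝒟 n d ≠ 0 := by
      by_contra hcon
      push Not at hcon
      apply hdne
      calc d = ∑ i ∈ (DirectSum.decompose 𝒟 d).support, ((DirectSum.decompose 𝒟 d) i : D) :=
            (DirectSum.sum_support_decompose 𝒟 d).symm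
        _ = 0 := Finset.sum_eq_zero (fun n _ => hcon n)
    have hdnP : P 𝒟 n d ∈ Psub := hPhom n hdP
    have hdn : P 𝒟 n d ∈ 𝒟 n := P_mem 𝒟 n d
    obtain ⟨x, hx, hxne⟩ : ∃ x ∈ 𝒜 (-n), β (P 𝒟 n d) x ≠ 0 := by
      by_contra hcon
      push Not at hcon
      exact hn (hD.eq_zero n _ hdn hcon)
    obtain ⟨δ, hδdef⟩ : ∃ δ : D, δ = x • P 𝒟 n d := ⟨_, rfl⟩
    have hδP : δ ∈ Psub := by rw [hδdef]; exact Psub.smul_mem x hdnP
    have hδ0 : δ ∈ 𝒟 0 := by
      have h := SetLike.GradedSMul.smul_mem (A := 𝒜) (B := 𝒟) hx hdn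
      rw [vadd_eq_add, neg_add_cancel] at h
      rw [hδdef]; exact h
    have hδ1 : β δ 1 ≠ 0 := by
      rw [hδdef, hD.map_smul, smul_eq_mul, mul_one]; exact hxne
    have hδne : δ ≠ 0 := fun h => hδ1 (by rw [h, map_zero, LinearMap.zero_apply])
    have h1mR : (1 : R) ∉ mR.toIdeal := fun h1 =>
      hδ1 (mR_pair_zero 𝒜 𝒟 β hposR hD mR hmR hδ0 h1)
    have hε0 : e (Ideal.Quotient.mk mR.toIdeal 1) ∈ 𝒟 0 :=
      hegr 0 _ (show _ ∈ (AddSubgroup.ofClass (𝒜 0)).map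
        (Ideal.Quotient.mk mR.toIdeal).toAddMonoidHom from AddSubgroup.mem_map.2 ⟨1, one0, rfl⟩)
    have hεne : e (Ideal.Quotient.mk mR.toIdeal 1) ≠ 0 := by
      intro h
      have : Ideal.Quotient.mk mR.toIdeal 1 = 0 := he (by rw [h, map_zero])
      exact h1mR (Ideal.Quotient.eq_zero_iff_mem.1 this)
    have hε1 : β (e (Ideal.Quotient.mk mR.toIdeal 1)) 1 ≠ 0 := by
      intro h
      apply hεne
      apply hD.eq_zero 0 _ hε0
      intro y hy
      rw [neg_zero, h0R] at hy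
      obtain ⟨t, rfl⟩ := Submodule.mem_span_singleton.1 hy
      rw [map_smul, h, smul_zero]
    have hδε := D0_eq_smul 𝒜 𝒟 β h0R hD hδ0 hε0 hε1
    have hδrange : δ ∈ LinearMap.range e := by
      refine LinearMap.mem_range.2 ⟨algebraMap k R
        (β δ 1 / β (e (Ideal.Quotient.mk mR.toIdeal 1)) 1) • Ideal.Quotient.mk mR.toIdeal 1, ?_⟩
      rw [map_smul, algebraMap_smul]
      exact hδε.symm
    intro hbot
    have hmem : δ ∈ Psub ⊓ LinearMap.range e := ⟨hδP, hδrange⟩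
    rw [hbot] at hmem
    exact hδne ((Submodule.mem_bot R).1 hmem)
  · intro A B f hf hinj g hg
    letI : Module k A.carrier := Module.compHom A.carrier (algebraMap k R)
    haveI : IsScalarTower k R A.carrier := IsScalarTower.of_algebraMap_smul (fun _ _ => rfl)
    letI : Module k B.carrier := Module.compHom B.carrier (algebraMap k R)
    haveI : IsScalarTower k R B.carrier := IsScalarTower.of_algebraMap_smul (fun _ _ => rfl)
    exact starInj_aux 𝒜 𝒟 β hD A.gr B.gr f hf hinj g hg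

end Groth.Agent.Lib.Helper24GrDual2
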