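import Mathlib
import Groth.Prelude.Def_GrSeg
import Groth.Prelude.Def_GrLC
import Groth.Agent.Lib.Helper24GrDual

/-!
# Minimal surjections and essential duals (helper24)

`f : F → M` surjective graded; `Ker f ⊆ m F` iff `f^* : M^* → F^*` is *essential.
-/

set_option autoImplicit false
universe u
open DirectSum

namespace Groth.Agent.Lib.Helper24GrDual3

open Groth.Agent.Lib.Helper24GrDual

section Basic

variable {X : Type u} [AddCommGroup X] (𝒳 : ℤ → AddSubgroup X) [DirectSum.Decomposition 𝒳]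

theorem P_sub (n : ℤ) (x y : X) : P 𝒳 n (x - y) = P 𝒳 n x - P 𝒳 n y := by
  simp [P]

theorem eq_zero_of_P_eq_zero {z : X} (h : ∀ j, P 𝒳 j z = 0) : z = 0 := by
  classical
  calc z = ∑ i ∈ (DirectSum.decompose 𝒳 z).support, ((DirectSum.decompose 𝒳 z) i : X) :=
        (DirectSum.sum_support_decompose 𝒳 z).symm
    _ = 0 := Finset.sum_eq_zero (fun n _ => h n)

theorem mem_of_P_ne_eq_zero {n : ℤ} {z : X} (h : ∀ j, j ≠ n → P 𝒳 j z = 0) : z ∈ 𝒳 n := by
  have hz : z - P 𝒳 n z = 0 := by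
    apply eq_zero_of_P_eq_zero 𝒳
    intro j
    rw [P_sub]
    by_cases hj : j = n
    · subst hj
      rw [P_of_mem_same 𝒳 (P_mem 𝒳 j z), sub_self]
    · rw [h j hj, P_of_mem_ne 𝒳 (P_mem 𝒳 n z) (Ne.symm hj), sub_zero]
  have h2 : z = P 𝒳 n z := sub_eq_zero.1 hz
  rw [h2]; exact P_mem 𝒳 n z

theorem exists_lower (y : X) : ∃ m : ℤ, ∀ n : ℤ, n < m → P 𝒳 n y = 0 := by
  refine DirectSum.Decomposition.inductionOn 𝒳
    (motive := fun y => ∃ m : ℤ, ∀ n : ℤ, n < m → P 𝒳 n y = 0) ?_ ?_ ?_ y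
  · exact ⟨0, fun n _ => P_zero 𝒳 n⟩
  · intro i yi
    exact ⟨i, fun n hn => P_of_mem_ne 𝒳 yi.2 (by omega)⟩
  · rintro y y' ⟨m, hm⟩ ⟨m', hm'⟩
    exact ⟨min m m', fun n hn => by
      rw [P_add, hm n (lt_of_lt_of_le hn (min_le_left _ _)),
        hm' n (lt_of_lt_of_le hn (min_le_right _ _)), add_zero]⟩

end Basic

section Main

variable {k : Type u} [Field k] {R : Type u} [CommRing R] [Algebra k R]
  (𝒜 : ℤ → Submodule k R) [GradedAlgebra 𝒜]
  {F : Type u} [AddCommGroup F] [Module R F] [Module k F] [IsScalarTower k R F]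
  (ℱ : ℤ → AddSubgroup F) [DirectSum.Decomposition ℱ] [SetLike.GradedSMul 𝒜 ℱ]
  {M : Type u} [AddCommGroup M] [Module R M] [Module k M] [IsScalarTower k R M]
  (ℳ : ℤ → AddSubgroup M) [DirectSum.Decomposition ℳ] [SetLike.GradedSMul 𝒜 ℳ]
  {DM : Type u} [AddCommGroup DM] [Module R DM] [Module k DM] [IsScalarTower k R DM]
  (𝒟M : ℤ → AddSubgroup DM) [DirectSum.Decomposition 𝒟M] [SetLike.GradedSMul 𝒜 𝒟M]
  (βM : DM →ₗ[k] M →ₗ[k] k)
  {DF : Type u} [AddCommGroup DF] [Module R DF] [Module k DF] [IsScalarTower k R DF]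
  (𝒟F : ℤ → AddSubgroup DF) [DirectSum.Decomposition 𝒟F] [SetLike.GradedSMul 𝒜 𝒟F]
  (βF : DF →ₗ[k] F →ₗ[k] k)

theorem P_map (f : F →ₗ[R] M) (hf : GrLC.IsGrHom ℱ ℳ f) (n : ℤ) (x : F) :
    P ℳ n (f x) = f (P ℱ n x) := by
  refine DirectSum.Decomposition.inductionOn ℱ
    (motive := fun x => P ℳ n (f x) = f (P ℱ n x)) ?_ ?_ ?_ x
  · rw [map_zero, P_zero, P_zero, map_zero]
  · intro j xj
    by_cases hj : j = n
    · subst hj
      rw [P_of_mem_same ℳ (hf j _ xj.2), P_of_mem_same ℱ xj.2]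
    · rw [P_of_mem_ne ℳ (hf j _ xj.2) hj, P_of_mem_ne ℱ xj.2 hj, map_zero]
  · intro x y hx hy
    rw [map_add, P_add, hx, hy, P_add, map_add]

theorem pairD_P' (hDF : GrSeg.IsGDual R ℱ 𝒟F βF) {n : ℤ} {x : F} (hx : x ∈ ℱ (-n)) (d : DF) :
    βF (P 𝒟F n d) x = βF d x := by
  refine DirectSum.Decomposition.inductionOn 𝒟F
    (motive := fun d => βF (P 𝒟F n d) x = βF d x) ?_ ?_ ?_ d
  · rw [P_zero]
  · intro j dj
    by_cases hj : j = n
    · subst hj
      rw [P_of_mem_same 𝒟F dj.2]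
    · rw [P_of_mem_ne 𝒟F dj.2 hj, map_zero, LinearMap.zero_apply,
        hDF.vanish j _ dj.2 (-n) (by omega) x hx]
  · intro d d' h h'
    rw [P_add, map_add, LinearMap.add_apply, h, h', map_add, LinearMap.add_apply]

theorem sepD' (hDF : GrSeg.IsGDual R ℱ 𝒟F βF) (d : DF) (h : ∀ x : F, βF d x = 0) : d = 0 :=
  eq_zero_of_P_eq_zero 𝒟F (fun n =>
    hDF.eq_zero n _ (P_mem 𝒟F n d) (fun x hx => by rw [pairD_P' ℱ 𝒟F βF hDF hx d, h]))

theorem dualMap_graded (hDM : GrSeg.IsGDual R ℳ 𝒟M βM) (hDF : GrSeg.IsGDual R ℱ 𝒟F βF)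
    (f : F →ₗ[R] M) (hfgr : GrLC.IsGrHom ℱ ℳ f) (g : DM →ₗ[R] DF)
    (hg : GrSeg.IsGDualMap βM βF f g) : GrLC.IsGrHom 𝒟M 𝒟F g := by
  intro n d hd
  apply mem_of_P_ne_eq_zero 𝒟F
  intro j hj
  apply hDF.eq_zero j _ (P_mem 𝒟F j (g d))
  intro x hx
  rw [pairD_P' ℱ 𝒟F βF hDF hx (g d), hg d x]
  exact hDM.vanish n d hd (-j) (by omega) (f x) (hfgr (-j) x hx)

theorem dualMap_injective (hDM : GrSeg.IsGDual R ℳ 𝒟M βM)
    (f : F →ₗ[R] M) (hf : Function.Surjective f) (g : DM →ₗ[R] DF)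
    (hg : GrSeg.IsGDualMap βM βF f g) : Function.Injective g := by
  intro d d' hdd
  have : d - d' = 0 := sepD' ℳ 𝒟M βM hDM _ (fun y => by
    obtain ⟨x, rfl⟩ := hf y
    rw [map_sub, LinearMap.sub_apply, ← hg d x, ← hg d' x, hdd, sub_self])
  exact sub_eq_zero.1 this

theorem mem_range_of_vanish (hDM : GrSeg.IsGDual R ℳ 𝒟M βM) (hDF : GrSeg.IsGDual R ℱ 𝒟F βF)
    (f : F →ₗ[R] M) (hf : Function.Surjective f) (hfgr : GrLC.IsGrHom ℱ ℳ f)
    (g : DM →ₗ[R] DF) (hg : GrSeg.IsGDualMap βM βF f g) {j : ℤ} {d : DF} (hd : d ∈ 𝒟F j)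
    (hv : ∀ z ∈ LinearMap.ker f, βF d z = 0) : d ∈ LinearMap.range g := by
  obtain ⟨s, hs⟩ := LinearMap.exists_rightInverse_of_surjective (f.restrictScalars k)
    (LinearMap.range_eq_top.2 hf)
  have hs' : ∀ m, f (s m) = m := fun m => LinearMap.congr_fun hs m
  obtain ⟨d', hd', hd'ψ⟩ := hDM.exists_eq j ((βF d) ∘ₗ s)
  refine ⟨d', ?_⟩
  have hgr := dualMap_graded ℱ ℳ 𝒟M βM 𝒟F βF hDM hDF f hfgr g hg
  have : g d' - d = 0 := by
    apply hDF.eq_zero j _ (sub_mem (hgr j d' hd') hd)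
    intro y hy
    rw [map_sub, LinearMap.sub_apply, hg d' y, hd'ψ (f y) (hfgr (-j) y hy)]
    have hker : s (f y) - y ∈ LinearMap.ker f := by
      rw [LinearMap.mem_ker, map_sub, hs', sub_self]
    have h2 := hv _ hker
    rw [map_sub] at h2
    exact h2
  exact sub_eq_zero.1 this

theorem vanish_mF (hDF : GrSeg.IsGDual R ℱ 𝒟F βF) (mR : HomogeneousIdeal 𝒜)
    (hmR : mR.toIdeal = Ideal.span (⋃ n ∈ Set.Ioi (0 : ℤ), (𝒜 n : Set R)))
    {z : DF} (hz : ∀ a : ℤ, 0 < a → ∀ r ∈ 𝒜 a, r • z = 0) :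
    ∀ y ∈ mR.toIdeal • (⊤ : Submodule R F), βF z y = 0 := by
  have h1 : ∀ r ∈ mR.toIdeal, r • z = 0 := by
    intro r hr
    rw [hmR] at hr
    refine Submodule.span_induction (p := fun r _ => r • z = 0) ?_ ?_ ?_ ?_ hr
    · intro x hx
      obtain ⟨n, hn, hxn⟩ := Set.mem_iUnion₂.1 hx
      exact hz n hn x hxn
    · exact zero_smul _ _
    · intro x y _ _ hx hy
      rw [add_smul, hx, hy, add_zero]
    · intro a x _ hx
      rw [smul_eq_mul, mul_smul, hx, smul_zero]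
  intro y hy
  refine Submodule.smul_induction_on hy ?_ ?_
  · intro r hr y' _
    rw [← hDF.map_smul, h1 r hr, map_zero, LinearMap.zero_apply]
  · intro y1 y2 h1' h2'
    rw [map_add, h1', h2', add_zero]

theorem exists_bound (hpos : ∀ n : ℤ, n < 0 → 𝒜 n = ⊥) [Module.Finite R F] :
    ∃ m : ℤ, ∀ (y : F) (n : ℤ), n < m → P ℱ n y = 0 := by
  classical
  have hall : ∀ S : Finset F, ∃ m : ℤ, ∀ s ∈ S, ∀ n : ℤ, n < m → P ℱ n s = 0 := by
    intro S
    induction S using Finset.induction_on with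
    | empty => exact ⟨0, fun s hs => by simp at hs⟩
    | insert a S _ ih =>
      obtain ⟨m, hm⟩ := ih
      obtain ⟨m', hm'⟩ := exists_lower ℱ a
      refine ⟨min m m', fun s hs n hn => ?_⟩
      rcases Finset.mem_insert.1 hs with h | h
      · rw [h]; exact hm' n (lt_of_lt_of_le hn (min_le_right _ _))
      · exact hm s h n (lt_of_lt_of_le hn (min_le_left _ _))
  obtain ⟨S, hS⟩ := (Module.Finite.fg_top : (⊤ : Submodule R F).FG)
  obtain ⟨m, hm⟩ := hall S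
  refine ⟨m, fun y => ?_⟩
  have hle : (⊤ : Submodule R F) ≤ geSub 𝒜 ℱ hpos m := by
    rw [← hS]
    exact Submodule.span_le.2 (fun s hs => hm s (Finset.mem_coe.1 hs))
  have hy : y ∈ geSub 𝒜 ℱ hpos m := hle Submodule.mem_top
  exact hy

theorem dual_piece_zero (hDF : GrSeg.IsGDual R ℱ 𝒟F βF) {m : ℤ}
    (hm : ∀ (y : F) (n : ℤ), n < m → P ℱ n y = 0) {i : ℤ} (hi : -m < i) {z : DF}
    (hz : z ∈ 𝒟F i) : z = 0 :=
  hDF.eq_zero i z hz (fun y hy => by
    have h0 : y = 0 := by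
      rw [← P_of_mem_same ℱ hy]; exact hm y (-i) (by omega)
    rw [h0, map_zero])

theorem exists_killed (Psub : Submodule R DF) {N : ℤ}
    (hN : ∀ i : ℤ, N < i → ∀ z ∈ 𝒟F i, z = 0) :
    ∀ (t : ℕ) (j : ℤ) (d : DF), N - j ≤ t → d ∈ 𝒟F j → d ∈ Psub → d ≠ 0 →
      ∃ (i : ℤ) (z : DF), z ∈ 𝒟F i ∧ z ∈ Psub ∧ z ≠ 0 ∧
        ∀ a : ℤ, 0 < a → ∀ r ∈ 𝒜 a, r • z = 0 := by
  intro t
  induction t with
  | zero =>
    intro j d hjt hd hdP hdne
    refine ⟨j, d, hd, hdP, hdne, fun a ha r hr => ?_⟩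
    have h := SetLike.GradedSMul.smul_mem (A := 𝒜) (B := 𝒟F) hr hd
    rw [vadd_eq_add] at h
    push_cast at hjt
    exact hN (a + j) (by omega) _ h
  | succ t ih =>
    intro j d hjt hd hdP hdne
    by_cases hall : ∀ a : ℤ, 0 < a → ∀ r ∈ 𝒜 a, r • d = 0
    · exact ⟨j, d, hd, hdP, hdne, hall⟩
    · push Not at hall
      obtain ⟨a, ha, r, hr, hrd⟩ := hall
      have h := SetLike.GradedSMul.smul_mem (A := 𝒜) (B := 𝒟F) hr hd
      rw [vadd_eq_add] at h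
      push_cast at hjt
      exact ih (a + j) (r • d) (by omega) h (Psub.smul_mem r hdP) hrd

end Main

theorem s19751 (k : Type u) [Field k] (R : Type u) [CommRing R] [Algebra k R] (𝒜 : ℤ → Submodule k R) [GradedAlgebra 𝒜] (hposR : ∀ n : ℤ, n < 0 → 𝒜 n = ⊥) (h0R : 𝒜 0 = Submodule.span k {(1 : R)}) [Algebra.FiniteType k R] (mR : HomogeneousIdeal 𝒜) (hmR : mR.toIdeal = Ideal.span (⋃ n ∈ Set.Ioi (0 : ℤ), (𝒜 n : Set R))) (F : Type u) [AddCommGroup F] [Module R F] [Module k F] [IsScalarTower k R F] (ℱ : ℤ → AddSubgroup F) [DirectSum.Decomposition ℱ] [SetLike.GradedSMul 𝒜 ℱ] [Module.Finite R F] (M : Type u) [AddCommGroup M] [Module R M] [Module k M] [IsScalarTower k R M] (ℳ : ℤ → AddSubgroup M) [DirectSum.Decomposition ℳ] [SetLike.GradedSMul 𝒜 ℳ] [Module.Finite R M] (f : F →ₗ[R] M) (hf : Function.Surjective f) (hfgr : GrLC.IsGrHom ℱ ℳ f) (DM : Type u) [AddCommGroup DM] [Module R DM] [Module k DM] [IsScalarTower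 k R DM] (𝒟M : ℤ → AddSubgroup DM) [DirectSum.Decomposition 𝒟M] [SetLike.GradedSMul 𝒜 𝒟M] (βM : DM →ₗ[k] M →ₗ[k] k) (hDM : GrSeg.IsGDual R ℳ 𝒟M βM) (DF : Type u) [AddCommGroup DF] [Module R DF] [Module k DF] [IsScalarTower k R DF] (𝒟F : ℤ → AddSubgroup DF) [DirectSum.Decomposition 𝒟F] [SetLike.GradedSMul 𝒜 𝒟F] (βF : DF →ₗ[k] F →ₗ[k] k) (hDF : GrSeg.IsGDual R ℱ 𝒟F βF) (g : DM →ₗ[R] DF) (hg : GrSeg.IsGDualMap βM βF f g) : LinearMap.ker f ≤ mR.toIdeal • (⊤ : Submodule R F) ↔ GrLC.IsStarEss 𝒟M 𝒟F g := by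
  classical
  have hggr : GrLC.IsGrHom 𝒟M 𝒟F g := dualMap_graded ℱ ℳ 𝒟M βM 𝒟F βF hDM hDF f hfgr g hg
  have hginj : Function.Injective g := dualMap_injective ℳ 𝒟M βM βF hDM f hf g hg
  constructor
  · intro hker
    refine ⟨hginj, hggr, ?_⟩
    intro Psub hPhom hPne
    obtain ⟨d0, hd0P, hd0ne⟩ := Submodule.exists_mem_ne_zero_of_ne_bot hPne
    obtain ⟨j, hj⟩ : ∃ j, P 𝒟F j d0 ≠ 0 := by
      by_contra hcon
      push Not at hcon
      exact hd0ne (eq_zero_of_P_eq_zero 𝒟F hcon)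
    obtain ⟨m, hm⟩ := exists_bound 𝒜 ℱ hposR
    have hN : ∀ i : ℤ, -m < i → ∀ z ∈ 𝒟F i, z = 0 :=
      fun i hi z hz => dual_piece_zero ℱ 𝒟F βF hDF hm hi hz
    obtain ⟨i, z, hzi, hzP, hzne, hzk⟩ := exists_killed 𝒜 𝒟F Psub hN (Int.toNat (-m - j)) j
      (P 𝒟F j d0) (Int.self_le_toNat _) (P_mem 𝒟F j d0) (hPhom j hd0P) hj
    have hzm := vanish_mF 𝒜 ℱ 𝒟F βF hDF mR hmR hzk
    have hzr : z ∈ LinearMap.range g :=
      mem_range_of_vanish ℱ ℳ 𝒟M βM 𝒟F βF hDM hDF f hf hfgr g hg hzi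
        (fun y hy => hzm y (hker hy))
    intro hbot
    have hmem : z ∈ Psub ⊓ LinearMap.range g := ⟨hzP, hzr⟩
    rw [hbot] at hmem
    exact hzne ((Submodule.mem_bot R).1 hmem)
  · intro hess x hx
    by_contra hxm
    obtain ⟨n, hn⟩ : ∃ n, P ℱ n x ∉ mR.toIdeal • (⊤ : Submodule R F) := by
      by_contra hcon
      push Not at hcon
      apply hxm
      have hsum := DirectSum.sum_support_decompose ℱ x
      rw [← hsum]
      exact Submodule.sum_mem _ (fun n _ => hcon n)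
    obtain ⟨x', hx'def⟩ : ∃ x' : F, x' = P ℱ n x := ⟨_, rfl⟩
    have hx'n : x' ∈ ℱ n := by rw [hx'def]; exact P_mem ℱ n x
    have hx'ker : f x' = 0 := by
      rw [hx'def, ← P_map ℱ ℳ f hfgr, LinearMap.mem_ker.1 hx, P_zero]
    have hx'm : x' ∉ mR.toIdeal • (⊤ : Submodule R F) := by rw [hx'def]; exact hn
    obtain ⟨φ, hφm, hφx⟩ : ∃ φ : F →ₗ[k] k,
        (∀ y ∈ mR.toIdeal • (⊤ : Submodule R F), φ y = 0) ∧ φ x' ≠ 0 := by
      let W : Submodule k F := (mR.toIdeal • (⊤ : Submodule R F)).restrictScalars k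
      have hx'W : x' ∉ W := hx'm
      obtain ⟨ψ, hψ⟩ : ∃ ψ : Module.Dual k (F ⧸ W), ψ (Submodule.Quotient.mk x') ≠ 0 := by
        by_contra hcon
        push Not at hcon
        exact hx'W ((Submodule.Quotient.mk_eq_zero W).1
          ((Module.forall_dual_apply_eq_zero_iff k _).1 hcon))
      refine ⟨ψ ∘ₗ W.mkQ, fun y hy => ?_, hψ⟩
      have h0 : W.mkQ y = 0 := (Submodule.Quotient.mk_eq_zero W).2 hy
      rw [LinearMap.comp_apply, h0, map_zero]
    obtain ⟨d, hd, hdφ⟩ := hDF.exists_eq (-n) φ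
    have hdφ' : ∀ y ∈ ℱ n, βF d y = φ y := fun y hy => hdφ y (by rw [neg_neg]; exact hy)
    have hdx' : βF d x' ≠ 0 := by rw [hdφ' x' hx'n]; exact hφx
    have hdne : d ≠ 0 := fun h => hdx' (by rw [h, map_zero, LinearMap.zero_apply])
    have hkill : ∀ a : ℤ, 0 < a → ∀ r ∈ 𝒜 a, r • d = 0 := by
      intro a ha r hr
      have hrd : r • d ∈ 𝒟F (a + -n) := by
        have h := SetLike.GradedSMul.smul_mem (A := 𝒜) (B := 𝒟F) hr hd
        rwa [vadd_eq_add] at h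
      apply hDF.eq_zero (a + -n) _ hrd
      intro y hy
      have hry : r • y ∈ ℱ n := by
        have h := SetLike.GradedSMul.smul_mem (A := 𝒜) (B := ℱ) hr hy
        rw [vadd_eq_add, show a + -(a + -n) = n by ring] at h
        exact h
      have hrm : r ∈ mR.toIdeal := by
        rw [hmR]; exact Ideal.subset_span (Set.mem_iUnion₂.2 ⟨a, ha, hr⟩)
      rw [hDF.map_smul, hdφ' _ hry]
      exact hφm _ (Submodule.smul_mem_smul hrm Submodule.mem_top)
    have hPhom : (Submodule.span R {d}).IsHomogeneous 𝒟F := by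
      intro i z hz
      obtain ⟨r, rfl⟩ := Submodule.mem_span_singleton.1 hz
      show P 𝒟F i (r • d) ∈ Submodule.span R {d}
      refine DirectSum.Decomposition.inductionOn 𝒜
        (motive := fun r => P 𝒟F i (r • d) ∈ Submodule.span R {d}) ?_ ?_ ?_ r
      · rw [zero_smul, P_zero]; exact zero_mem _
      · intro a ra
        have h := SetLike.GradedSMul.smul_mem (A := 𝒜) (B := 𝒟F) ra.2 hd
        rw [vadd_eq_add] at h
        by_cases hai : a + -n = i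
        · subst hai
          rw [P_of_mem_same 𝒟F h]
          exact Submodule.smul_mem _ _ (Submodule.mem_span_singleton_self d)
        · rw [P_of_mem_ne 𝒟F h hai]; exact zero_mem _
      · intro r r' h h'
        rw [add_smul, P_add]; exact add_mem h h'
    have hPne : Submodule.span R {d} ≠ ⊥ := by
      intro h
      have hmem : d ∈ Submodule.span R {d} := Submodule.mem_span_singleton_self d
      rw [h] at hmem
      exact hdne ((Submodule.mem_bot R).1 hmem)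
    obtain ⟨z, hz, hzne⟩ :=
      Submodule.exists_mem_ne_zero_of_ne_bot (hess.essential _ hPhom hPne)
    obtain ⟨hz1, hz2⟩ := Submodule.mem_inf.1 hz
    obtain ⟨r, hr⟩ := Submodule.mem_span_singleton.1 hz1
    obtain ⟨d', hd'⟩ := hz2
    have hc : ∀ r : R, ∃ c : k, r • d = c • d := by
      intro r
      refine DirectSum.Decomposition.inductionOn 𝒜
        (motive := fun r => ∃ c : k, r • d = c • d) ?_ ?_ ?_ r
      · exact ⟨0, by rw [zero_smul, zero_smul]⟩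
      · intro a ra
        rcases lt_trichotomy a 0 with ha | ha | ha
        · exact ⟨0, by rw [eq_zero_of_neg 𝒜 hposR ha _ ra.2, zero_smul, zero_smul]⟩
        · subst ha
          have h1 : (ra : R) ∈ Submodule.span k {(1 : R)} := by rw [← h0R]; exact ra.2
          obtain ⟨c, hc⟩ := Submodule.mem_span_singleton.1 h1
          exact ⟨c, by rw [← hc, smul_assoc, one_smul]⟩
        · exact ⟨0, by rw [hkill a ha _ ra.2, zero_smul]⟩
      · rintro r r' ⟨c, hc⟩ ⟨c', hc'⟩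
        exact ⟨c + c', by rw [add_smul, hc, hc', add_smul]⟩
    obtain ⟨c, hc'⟩ := hc r
    have h1 : βF z x' = c * φ x' := by
      rw [← hr, hc', map_smul, LinearMap.smul_apply, smul_eq_mul, hdφ' x' hx'n]
    have h2 : βF z x' = 0 := by
      rw [← hd', hg d' x', hx'ker, map_zero]
    have hc0 : c = 0 := by
      have h3 : c * φ x' = 0 := by rw [← h1, h2]
      rcases mul_eq_zero.1 h3 with h | h
      · exact h
      · exact absurd h hφx
    apply hzne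
    rw [← hr, hc', hc0, zero_smul]

end Groth.Agent.Lib.Helper24GrDual3
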