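import Mathlib
import Groth.Prelude.Def_GrSeg
import Groth.Prelude.Def_GrLC
import Groth.Agent.Lib.Helper24GrDual
import Groth.Agent.Lib.Helper24GrDual3

/-!
# Graded `k`-duals: chain conditions (helper24)

For a perfect graded pairing `D × M → k` (`D = M^*`) with finite dimensional pieces, the map sending a
submodule `N ⊆ D` to the annihilator in `M` of its leading forms (lowest or highest degree, according
to a sign `ε`) is strictly antitone as soon as the grading of `D` is bounded on the appropriate side.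
Hence chain conditions transfer from `M` to `D`.
-/

set_option autoImplicit false
set_option linter.unusedSectionVars false
set_option linter.unusedSimpArgs false
universe u
open DirectSum

namespace Groth.Agent.Lib.Helper24GrDual4

open Groth.Agent.Lib.Helper24GrDual Groth.Agent.Lib.Helper24GrDual3

section

variable {k : Type u} [Field k] {R : Type u} [CommRing R] [Algebra k R]
  (𝒜 : ℤ → Submodule k R) [GradedAlgebra 𝒜]
  {M : Type u} [AddCommGroup M] [Module R M] [Module k M] [IsScalarTower k R M]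
  (ℳ : ℤ → AddSubgroup M) [DirectSum.Decomposition ℳ] [SetLike.GradedSMul 𝒜 ℳ]
  {D : Type u} [AddCommGroup D] [Module R D] [Module k D] [IsScalarTower k R D]
  (𝒟 : ℤ → AddSubgroup D) [DirectSum.Decomposition 𝒟] [SetLike.GradedSMul 𝒜 𝒟]
  (β : D →ₗ[k] M →ₗ[k] k)

include 𝒜 in
theorem P_ksmul (n : ℤ) (c : k) (z : M) : P ℳ n (c • z) = c • P ℳ n z := by
  have h1 : (c • (1 : R)) ∈ 𝒜 0 := Submodule.smul_mem _ c (SetLike.one_mem_graded 𝒜)
  have := P_smul_homog 𝒜 ℳ h1 n z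
  rwa [sub_zero, smul_assoc, one_smul, smul_assoc, one_smul] at this

/-- The reflexivity of graded duals with finite dimensional pieces. -/
theorem isGDual_flip (hD : GrSeg.IsGDual R ℳ 𝒟 β)
    (hfin : ∀ m, Module.Finite k (pieceSub 𝒜 ℳ m)) :
    GrSeg.IsGDual R 𝒟 ℳ β.flip where
  map_smul r x d := by
    rw [LinearMap.flip_apply, LinearMap.flip_apply, hD.map_smul]
  vanish n x hx m hm d hd := by
    rw [LinearMap.flip_apply]
    exact hD.vanish m d hd n (by omega) x hx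
  eq_zero n x hx h := by
    apply eq_zero_of_pairing ℳ 𝒟 β hD x
    intro d
    refine DirectSum.Decomposition.inductionOn 𝒟 (motive := fun d => β d x = 0) ?_ ?_ ?_ d
    · rw [map_zero, LinearMap.zero_apply]
    · intro j dj
      by_cases hj : j = -n
      · have := h dj.1 (hj ▸ dj.2)
        rwa [LinearMap.flip_apply] at this
      · exact hD.vanish j dj.1 dj.2 n (by omega) x hx
    · intro d d' h1 h2
      rw [map_add, LinearMap.add_apply, h1, h2, add_zero]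
  exists_eq n g := by
    have := hfin n
    obtain ⟨y, hy, hyd⟩ := exists_on_piece 𝒜 ℳ 𝒟 β hD n g
    exact ⟨y, hy, fun d hd => by rw [LinearMap.flip_apply]; exact hyd d hd⟩

/-- The elements of `D` whose components of degree `n` with `ε n < ε p` vanish. -/
def Fil (ε p : ℤ) : Set D := {y | ∀ n : ℤ, ε * n < ε * p → P 𝒟 n y = 0}

theorem Fil_sub {ε p : ℤ} {y z : D} (hy : y ∈ Fil 𝒟 ε p) (hz : z ∈ Fil 𝒟 ε p) :
    y - z ∈ Fil 𝒟 ε p := fun n hn => by
  rw [P_sub, hy n hn, hz n hn, sub_zero]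

theorem Fil_add {ε p : ℤ} {y z : D} (hy : y ∈ Fil 𝒟 ε p) (hz : z ∈ Fil 𝒟 ε p) :
    y + z ∈ Fil 𝒟 ε p := fun n hn => by
  rw [P_add, hy n hn, hz n hn, add_zero]

include 𝒜 in
theorem Fil_ksmul {ε p : ℤ} (c : k) {y : D} (hy : y ∈ Fil 𝒟 ε p) : c • y ∈ Fil 𝒟 ε p :=
  fun n hn => by rw [P_ksmul 𝒜 𝒟, hy n hn, smul_zero]

theorem Fil_smul {ε p a : ℤ} {r : R} (hr : r ∈ 𝒜 a) {y : D} (hy : y ∈ Fil 𝒟 ε p) :
    r • y ∈ Fil 𝒟 ε (p + a) := fun n hn => by
  rw [P_smul_homog 𝒜 𝒟 hr n y, hy (n - a) (by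
    have h1 := mul_sub ε n a
    have h2 := mul_add ε p a
    linarith), smul_zero]

/-- The annihilator in `M` of the leading forms of a submodule of `D`. -/
def T (hD : GrSeg.IsGDual R ℳ 𝒟 β) (ε : ℤ) (N : Submodule R D) : Submodule R M where
  carrier := {x | ∀ p : ℤ, ∀ y ∈ N, y ∈ Fil 𝒟 ε p → β (P 𝒟 p y) x = 0}
  add_mem' := by
    intro x x' hx hx' p y hy hyF
    rw [map_add, hx p y hy hyF, hx' p y hy hyF, add_zero]
  zero_mem' := by
    intro p y _ _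
    rw [map_zero]
  smul_mem' := by
    intro r x hx
    refine DirectSum.Decomposition.inductionOn 𝒜
      (motive := fun r => r • x ∈ {x | ∀ p : ℤ, ∀ y ∈ N, y ∈ Fil 𝒟 ε p → β (P 𝒟 p y) x = 0})
      ?_ ?_ ?_ r
    · intro p y _ _
      rw [zero_smul, map_zero]
    · intro a ra p y hy hyF
      have h1 : P 𝒟 (p + a) ((ra : R) • y) = (ra : R) • P 𝒟 p y := by
        rw [P_smul_homog 𝒜 𝒟 ra.2 (p + a) y, add_sub_cancel_right]
      rw [← hD.map_smul, ← h1]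
      exact hx (p + a) _ (N.smul_mem _ hy) (Fil_smul 𝒜 𝒟 ra.2 hyF)
    · intro r r' h h' p y hy hyF
      rw [add_smul, map_add, h p y hy hyF, h' p y hy hyF, add_zero]


variable {𝒜 ℳ 𝒟 β}

theorem mem_T (hD : GrSeg.IsGDual R ℳ 𝒟 β) {ε : ℤ} {N : Submodule R D} {x : M} :
    x ∈ T 𝒜 ℳ 𝒟 β hD ε N ↔ ∀ p : ℤ, ∀ y ∈ N, y ∈ Fil 𝒟 ε p → β (P 𝒟 p y) x = 0 := Iff.rfl

theorem T_antitone (hD : GrSeg.IsGDual R ℳ 𝒟 β) (ε : ℤ) : Antitone (T 𝒜 ℳ 𝒟 β hD ε) := by
  intro N₁ N₂ h x hx p y hy hyF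
  exact hx p y (h hy) hyF

/-- Leading forms of `N₁` are leading forms of `N₂` as soon as `T N₂ ≤ T N₁`. -/
theorem exists_same_lead (hD : GrSeg.IsGDual R ℳ 𝒟 β)
    (hfin : ∀ m, Module.Finite k (pieceSub 𝒜 ℳ m)) {ε : ℤ} {N₁ N₂ : Submodule R D}
    (hT : T 𝒜 ℳ 𝒟 β hD ε N₂ ≤ T 𝒜 ℳ 𝒟 β hD ε N₁) {p : ℤ} {y : D} (hy : y ∈ N₁)
    (hyF : y ∈ Fil 𝒟 ε p) : ∃ z ∈ N₂, z ∈ Fil 𝒟 ε p ∧ P 𝒟 p z = P 𝒟 p y := by
  classical
  let W : Submodule k D :=
    { carrier := {b | ∃ z ∈ N₂, z ∈ Fil 𝒟 ε p ∧ P 𝒟 p z = b}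
      add_mem' := by
        rintro b b' ⟨z, hz, hzF, rfl⟩ ⟨z', hz', hzF', rfl⟩
        exact ⟨z + z', N₂.add_mem hz hz', Fil_add 𝒟 hzF hzF', P_add 𝒟 p z z'⟩
      zero_mem' := ⟨0, N₂.zero_mem, fun n _ => P_zero 𝒟 n, P_zero 𝒟 p⟩
      smul_mem' := by
        rintro c b ⟨z, hz, hzF, rfl⟩
        refine ⟨c • z, ?_, Fil_ksmul 𝒜 𝒟 c hzF, P_ksmul 𝒜 𝒟 p c z⟩
        have : c • z = (c • (1 : R)) • z := by rw [smul_assoc, one_smul]
        rw [this]
        exact N₂.smul_mem _ hz }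
  by_contra hcon
  have hnot : P 𝒟 p y ∉ W := fun ⟨z, hz, hzF, hzP⟩ => hcon ⟨z, hz, hzF, hzP⟩
  obtain ⟨φ, hφ, hφW⟩ := Submodule.exists_dual_map_eq_bot_of_notMem hnot inferInstance
  have hφW' : ∀ b ∈ W, φ b = 0 := by
    intro b hb
    have : φ b ∈ W.map φ := Submodule.mem_map_of_mem hb
    rw [hφW] at this
    exact (Submodule.mem_bot k).1 this
  have := hfin (-p)
  obtain ⟨x, hx, hxd⟩ := exists_on_piece 𝒜 ℳ 𝒟 β hD (-p) φ
  rw [neg_neg] at hxd
  have hxT : x ∈ T 𝒜 ℳ 𝒟 β hD ε N₂ := by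
    intro q z hz hzF
    by_cases hq : q = p
    · subst hq
      rw [hxd _ (P_mem 𝒟 q z)]
      exact hφW' _ ⟨z, hz, hzF, rfl⟩
    · exact hD.vanish q _ (P_mem 𝒟 q z) (-p) (by omega) x hx
  have h0 := hT hxT p y hy hyF
  rw [hxd _ (P_mem 𝒟 p y)] at h0
  exact hφ h0

theorem exists_abs_bound (y : D) : ∃ B : ℤ, ∀ n : ℤ, B < |n| → P 𝒟 n y = 0 := by
  classical
  refine ⟨∑ i ∈ (DirectSum.decompose 𝒟 y).support, |i|, fun n hn => ?_⟩
  by_contra h
  have hmem : n ∈ (DirectSum.decompose 𝒟 y).support := by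
    rw [DFinsupp.mem_support_iff]
    intro h0
    apply h
    show ((DirectSum.decompose 𝒟 y) n : D) = 0
    rw [h0]; rfl
  have := Finset.single_le_sum (f := fun i : ℤ => |i|) (fun i _ => abs_nonneg i) hmem
  simp only at this
  omega

/-- The descent: if `N₂ ≤ N₁` have the same leading forms and the grading is bounded on the side
of the sign `ε`, then `N₁ = N₂`. -/
theorem le_of_T_le (hD : GrSeg.IsGDual R ℳ 𝒟 β)
    (hfin : ∀ m, Module.Finite k (pieceSub 𝒜 ℳ m)) {ε : ℤ} (hε : ε = 1 ∨ ε = -1)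
    {B : ℤ} (hB : ∀ i : ℤ, ε * B < ε * i → ∀ z ∈ 𝒟 i, z = 0)
    {N₁ N₂ : Submodule R D} (hle : N₂ ≤ N₁)
    (hT : T 𝒜 ℳ 𝒟 β hD ε N₂ ≤ T 𝒜 ℳ 𝒟 β hD ε N₁) : N₁ ≤ N₂ := by
  have key : ∀ j : ℕ, ∀ y ∈ N₁, y ∈ Fil 𝒟 ε (B + ε - ε * j) → y ∈ N₂ := by
    intro j
    induction j with
    | zero =>
      intro y _ hyF
      have : y = 0 := by
        apply eq_zero_of_P_eq_zero 𝒟
        intro n
        by_cases hn : ε * B < ε * n
        · exact hB n hn _ (P_mem 𝒟 n y)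
        · apply hyF n
          rcases hε with rfl | rfl <;> push_cast <;> omega
      rw [this]; exact N₂.zero_mem
    | succ j ih =>
      intro y hy hyF
      obtain ⟨z, hz, hzF, hzP⟩ := exists_same_lead hD hfin hT hy hyF
      have h1 : y - z ∈ N₂ := by
        apply ih (y - z) (N₁.sub_mem hy (hle hz))
        intro n hn
        by_cases hn' : n = B + ε - ε * ((j + 1 : ℕ) : ℤ)
        · rw [hn', P_sub, hzP, sub_self]
        · rw [P_sub, hyF n (by rcases hε with rfl | rfl <;> push_cast at * <;> omega),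
            hzF n (by rcases hε with rfl | rfl <;> push_cast at * <;> omega), sub_zero]
      have : y = (y - z) + z := by abel
      rw [this]
      exact N₂.add_mem h1 hz
  intro y hy
  obtain ⟨C, hC⟩ := exists_abs_bound (𝒟 := 𝒟) y
  apply key (C + |B| + 2).toNat y hy
  intro n hn
  apply hC
  have h0 : (0 : ℤ) ≤ C + |B| + 2 ∨ C + |B| + 2 < 0 := le_or_gt _ _
  have hCn := abs_nonneg B
  rcases hε with rfl | rfl
  · rcases h0 with h0 | h0
    · rw [Int.toNat_of_nonneg h0] at hn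
      have := abs_nonneg n
      rcases abs_cases n with ⟨h1, _⟩ | ⟨h1, _⟩ <;> rcases abs_cases B with ⟨h2, _⟩ | ⟨h2, _⟩ <;> omega
    · have : (C + |B| + 2).toNat = 0 := Int.toNat_eq_zero.2 (by omega)
      rw [this] at hn
      rcases abs_cases n with ⟨h1, _⟩ | ⟨h1, _⟩ <;> rcases abs_cases B with ⟨h2, _⟩ | ⟨h2, _⟩ <;> omega
  · rcases h0 with h0 | h0
    · rw [Int.toNat_of_nonneg h0] at hn
      rcases abs_cases n with ⟨h1, _⟩ | ⟨h1, _⟩ <;> rcases abs_cases B with ⟨h2, _⟩ | ⟨h2, _⟩ <;> omega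
    · have : (C + |B| + 2).toNat = 0 := Int.toNat_eq_zero.2 (by omega)
      rw [this] at hn
      rcases abs_cases n with ⟨h1, _⟩ | ⟨h1, _⟩ <;> rcases abs_cases B with ⟨h2, _⟩ | ⟨h2, _⟩ <;> omega

theorem T_strictAnti (hD : GrSeg.IsGDual R ℳ 𝒟 β)
    (hfin : ∀ m, Module.Finite k (pieceSub 𝒜 ℳ m)) {ε : ℤ} (hε : ε = 1 ∨ ε = -1)
    {B : ℤ} (hB : ∀ i : ℤ, ε * B < ε * i → ∀ z ∈ 𝒟 i, z = 0) :
    StrictAnti (T 𝒜 ℳ 𝒟 β hD ε) := by
  intro N₂ N₁ hlt
  refine lt_of_le_of_ne (T_antitone hD ε hlt.le) ?_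
  intro heq
  exact (not_le_of_gt hlt) (le_of_T_le hD hfin hε hB hlt.le heq.ge)

/-- If `M` is Noetherian with finite dimensional pieces and `D = M^*` is bounded above, then `D` is
Artinian. -/
theorem isArtinian_of_isNoetherian (hD : GrSeg.IsGDual R ℳ 𝒟 β)
    (hfin : ∀ m, Module.Finite k (pieceSub 𝒜 ℳ m)) [IsNoetherian R M]
    {B : ℤ} (hB : ∀ i : ℤ, B < i → ∀ z ∈ 𝒟 i, z = 0) : IsArtinian R D := by
  haveI : WellFoundedGT (Submodule R M) := isNoetherian_iff'.1 inferInstance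
  exact (T_strictAnti hD hfin (ε := 1) (Or.inl rfl) (B := B)
    (fun i hi => hB i (by omega))).wellFoundedLT

/-- If `M` is Artinian with finite dimensional pieces and `D = M^*` is bounded below, then `D` is
Noetherian. -/
theorem isNoetherian_of_isArtinian (hD : GrSeg.IsGDual R ℳ 𝒟 β)
    (hfin : ∀ m, Module.Finite k (pieceSub 𝒜 ℳ m)) [IsArtinian R M]
    {B : ℤ} (hB : ∀ i : ℤ, i < B → ∀ z ∈ 𝒟 i, z = 0) : IsNoetherian R D := by
  rw [isNoetherian_iff']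
  exact (T_strictAnti hD hfin (ε := -1) (Or.inr rfl) (B := B)
    (fun i hi => hB i (by omega))).wellFoundedGT

end

end Groth.Agent.Lib.Helper24GrDual4
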