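import Mathlib
import Groth.Prelude.Def_GrSeg
import Groth.Prelude.Def_GrLC
import Groth.Agent.Lib.Helper24GrDual
import Groth.Agent.Lib.Helper24GrDual3
import Groth.Agent.Lib.Helper24GrDual4

/-!
# Graded Matlis duality over a field: Noetherian ↔ Artinian (helper24)

Artinian graded modules over a positively graded `k`-algebra with `R_0 = k` are bounded above and
have finite dimensional pieces; combined with `Helper24GrDual4` this gives the graded Matlis duality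
on objects.
-/

set_option autoImplicit false
set_option linter.unusedSectionVars false
set_option linter.unusedSimpArgs false
universe u
open DirectSum

namespace Groth.Agent.Lib.Helper24GrDual5

open Groth.Agent.Lib.Helper24GrDual Groth.Agent.Lib.Helper24GrDual3 Groth.Agent.Lib.Helper24GrDual4

section

variable {k : Type u} [Field k] {R : Type u} [CommRing R] [Algebra k R]
  (𝒜 : ℤ → Submodule k R) [GradedAlgebra 𝒜]
  {M : Type u} [AddCommGroup M] [Module R M] [Module k M] [IsScalarTower k R M]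
  (ℳ : ℤ → AddSubgroup M) [DirectSum.Decomposition ℳ] [SetLike.GradedSMul 𝒜 ℳ]

theorem mem_geSub_of_mem (hpos : ∀ n : ℤ, n < 0 → 𝒜 n = ⊥) {j m : ℤ} (hmj : m ≤ j) {x : M}
    (hx : x ∈ ℳ j) : x ∈ geSub 𝒜 ℳ hpos m :=
  fun n hn => P_of_mem_ne ℳ hx (by omega)

theorem geSub_antitone (hpos : ∀ n : ℤ, n < 0 → 𝒜 n = ⊥) {m m' : ℤ} (h : m ≤ m') :
    geSub 𝒜 ℳ hpos m' ≤ geSub 𝒜 ℳ hpos m :=
  fun _ hz n hn => hz n (by omega)

/-- An Artinian graded module over a positively graded ring is bounded above. -/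
theorem exists_upper_bound (hpos : ∀ n : ℤ, n < 0 → 𝒜 n = ⊥) [IsArtinian R M] :
    ∃ m₁ : ℤ, ∀ n : ℤ, m₁ ≤ n → ∀ x ∈ ℳ n, x = 0 := by
  obtain ⟨N, ⟨m₀, rfl⟩, hmin⟩ := IsArtinian.set_has_minimal
    (Set.range (fun m : ℤ => geSub 𝒜 ℳ hpos m)) ⟨_, ⟨0, rfl⟩⟩
  refine ⟨m₀, fun j hj x hx => ?_⟩
  have hle : geSub 𝒜 ℳ hpos (j + 1) ≤ geSub 𝒜 ℳ hpos m₀ :=
    geSub_antitone 𝒜 ℳ hpos (by omega)
  have heq : geSub 𝒜 ℳ hpos (j + 1) = geSub 𝒜 ℳ hpos m₀ := by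
    by_contra hne
    exact hmin _ ⟨j + 1, rfl⟩ (lt_of_le_of_ne hle hne)
  have h1 : x ∈ geSub 𝒜 ℳ hpos (j + 1) := by
    rw [heq]; exact mem_geSub_of_mem 𝒜 ℳ hpos hj hx
  have h2 := h1 j (by omega)
  rwa [P_of_mem_same ℳ hx] at h2

/-- The `R`-submodule of `M_{≥ n}` of the elements whose component of degree `n` lies in a given
subspace. -/
def Phi (hpos : ∀ n : ℤ, n < 0 → 𝒜 n = ⊥) (h0R : 𝒜 0 = Submodule.span k {(1 : R)}) (n : ℤ)
    (W : Submodule k M) : Submodule R M where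
  carrier := {z | z ∈ geSub 𝒜 ℳ hpos n ∧ P ℳ n z ∈ W}
  add_mem' := by
    rintro x y ⟨hx, hxW⟩ ⟨hy, hyW⟩
    refine ⟨add_mem hx hy, ?_⟩
    rw [P_add]; exact add_mem hxW hyW
  zero_mem' := ⟨zero_mem _, by rw [P_zero]; exact zero_mem _⟩
  smul_mem' := by
    rintro r z ⟨hz, hzW⟩
    refine ⟨Submodule.smul_mem _ r hz, ?_⟩
    have h1 : ∀ y : R, y ∈ 𝒜 0 → y ∈ Submodule.span k {(1 : R)} := fun y hy => by
      rw [← h0R]; exact hy
    show P ℳ n (r • z) ∈ W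
    rw [P_smul_of_ge 𝒜 ℳ hpos hz r]
    obtain ⟨c, hc⟩ := Submodule.mem_span_singleton.1 (h1 _ (DirectSum.decompose 𝒜 r 0).2)
    rw [← hc, smul_assoc, one_smul]
    exact Submodule.smul_mem _ c hzW

theorem Phi_strictMono (hpos : ∀ n : ℤ, n < 0 → 𝒜 n = ⊥)
    (h0R : 𝒜 0 = Submodule.span k {(1 : R)}) (n : ℤ) :
    StrictMono (fun W : Submodule k (pieceSub 𝒜 ℳ n) =>
      Phi 𝒜 ℳ hpos h0R n (W.map (pieceSub 𝒜 ℳ n).subtype)) := by
  intro W₁ W₂ hlt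
  refine lt_of_le_of_ne ?_ ?_
  · rintro z ⟨hz, hzW⟩
    exact ⟨hz, Submodule.map_mono hlt.le hzW⟩
  · intro heq
    obtain ⟨x, hx2, hx1⟩ := SetLike.exists_of_lt hlt
    have hxn : (x : M) ∈ ℳ n := (mem_pieceSub 𝒜 ℳ).1 x.2
    have hmem : (x : M) ∈ Phi 𝒜 ℳ hpos h0R n (W₂.map (pieceSub 𝒜 ℳ n).subtype) := by
      refine ⟨mem_geSub_of_mem 𝒜 ℳ hpos le_rfl hxn, ?_⟩
      rw [P_of_mem_same ℳ hxn]
      exact Submodule.mem_map_of_mem hx2
    have heq' : Phi 𝒜 ℳ hpos h0R n (W₁.map (pieceSub 𝒜 ℳ n).subtype) =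
        Phi 𝒜 ℳ hpos h0R n (W₂.map (pieceSub 𝒜 ℳ n).subtype) := heq
    rw [← heq'] at hmem
    obtain ⟨_, hW⟩ := hmem
    rw [P_of_mem_same ℳ hxn] at hW
    obtain ⟨y, hy, hyx⟩ := (Submodule.mem_map).1 hW
    have : y = x := Subtype.ext hyx
    exact hx1 (this ▸ hy)

/-- The pieces of an Artinian graded module are finite dimensional. -/
theorem pieceSub_finite_of_isArtinian (hpos : ∀ n : ℤ, n < 0 → 𝒜 n = ⊥)
    (h0R : 𝒜 0 = Submodule.span k {(1 : R)}) [IsArtinian R M] (n : ℤ) :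
    Module.Finite k (pieceSub 𝒜 ℳ n) := by
  have hA : IsArtinian k (pieceSub 𝒜 ℳ n) := (Phi_strictMono 𝒜 ℳ hpos h0R n).wellFoundedLT
  have h := IsSemisimpleModule.finite_tfae (R := k) (M := pieceSub 𝒜 ℳ n)
  exact (h.out 0 2).mpr hA

end

theorem s19761 (k : Type u) [Field k] (R : Type u) [CommRing R] [Algebra k R] (𝒜 : ℤ → Submodule k R) [GradedAlgebra 𝒜] (hposR : ∀ n : ℤ, n < 0 → 𝒜 n = ⊥) (h0R : 𝒜 0 = Submodule.span k {(1 : R)}) [Algebra.FiniteType k R] (M : Type u) [AddCommGroup M] [Module R M] [Module k M] [IsScalarTower k R M] (ℳ : ℤ → AddSubgroup M) [DirectSum.Decomposition ℳ] [SetLike.GradedSMul 𝒜 ℳ] (D : Type u) [AddCommGroup D] [Module R D] [Module k D] [IsScalarTower k R D] (𝒟 : ℤ → AddSubgroup D) [DirectSum.Decomposition 𝒟] [SetLike.GradedSMul 𝒜 𝒟] (β : D →ₗ[k] M →ₗ[k] k) (hD : GrSeg.IsGDual R ℳ 𝒟 β) : (Module.Finite R M → IsArtinian R D ∧ GrSeg.IsGDual R 𝒟 ℳ β.flip)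 ∧ (IsArtinian R M → Module.Finite R D ∧ GrSeg.IsGDual R 𝒟 ℳ β.flip) := by
  refine ⟨fun hM => ?_, fun hM => ?_⟩
  · have : IsNoetherianRing R := Algebra.FiniteType.isNoetherianRing k R
    have : IsNoetherian R M := isNoetherian_of_isNoetherianRing_of_finite R M
    have hfin : ∀ m, Module.Finite k (pieceSub 𝒜 ℳ m) := pieceSub_finite 𝒜 ℳ hposR h0R
    obtain ⟨m, hm⟩ := exists_bound 𝒜 ℳ hposR
    refine ⟨?_, isGDual_flip 𝒜 ℳ 𝒟 β hD hfin⟩
    exact isArtinian_of_isNoetherian (𝒜 := 𝒜) hD hfin (B := -m)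
      (fun i hi z hz => dual_piece_zero ℳ 𝒟 β hD hm hi hz)
  · have hfin : ∀ m, Module.Finite k (pieceSub 𝒜 ℳ m) :=
      pieceSub_finite_of_isArtinian 𝒜 ℳ hposR h0R
    obtain ⟨m₁, hm₁⟩ := exists_upper_bound 𝒜 ℳ hposR
    refine ⟨?_, isGDual_flip 𝒜 ℳ 𝒟 β hD hfin⟩
    have : IsNoetherian R D := isNoetherian_of_isArtinian (𝒜 := 𝒜) hD hfin (B := -m₁ + 1)
      (fun i hi z hz => hD.eq_zero i z hz (fun x hx => by
        rw [hm₁ (-i) (by omega) x hx, map_zero]))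
    infer_instance

end Groth.Agent.Lib.Helper24GrDual5
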