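import Mathlib
import Groth.Prelude.Def_GrSeg
import Groth.Prelude.Def_GrLC
import Groth.Agent.Lib.Helper24GrDual
import Groth.Agent.Lib.Helper24GrDual3
import Groth.Agent.Lib.Helper24GrDual4
import Groth.Agent.Lib.Helper24GrDual5

/-!
# Artinian graded modules embed in sums of shifts of `R^*` (helper24)
-/

set_option autoImplicit false
set_option linter.unusedSectionVars false
set_option linter.unusedSimpArgs false
universe u
open DirectSum

namespace Groth.Agent.Lib.Helper24GrDual6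

open Groth.Agent.Lib.Helper24GrDual Groth.Agent.Lib.Helper24GrDual3 Groth.Agent.Lib.Helper24GrDual4
  Groth.Agent.Lib.Helper24GrDual5

section Conv

variable {k : Type u} [Field k] {R : Type u} [CommRing R] [Algebra k R]
  (𝒜 : ℤ → Submodule k R) [GradedAlgebra 𝒜]

/-- The pieces of `R` as additive subgroups. -/
def toAG (n : ℤ) : AddSubgroup R := (𝒜 n).toAddSubgroup

theorem mem_toAG {n : ℤ} {x : R} : x ∈ toAG 𝒜 n ↔ x ∈ 𝒜 n := Iff.rfl

noncomputable instance : DirectSum.Decomposition (toAG 𝒜) where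
  decompose' := DirectSum.decompose 𝒜
  left_inv := fun _ => (DirectSum.decompose 𝒜).left_inv _
  right_inv := fun _ => (DirectSum.decompose 𝒜).right_inv _

instance : SetLike.GradedSMul 𝒜 (toAG 𝒜) where
  smul_mem := by
    intro i j a b ha hb
    rw [vadd_eq_add, smul_eq_mul]
    exact SetLike.mul_mem_graded (A := 𝒜) ha hb

theorem isGDual_toAG {D : Type u} [AddCommGroup D] [Module R D] [Module k D] [IsScalarTower k R D]
    (𝒟 : ℤ → AddSubgroup D) [DirectSum.Decomposition 𝒟] (β : D →ₗ[k] R →ₗ[k] k)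
    (hD : GrSeg.IsGDual R 𝒜 𝒟 β) : GrSeg.IsGDual R (toAG 𝒜) 𝒟 β :=
  ⟨hD.map_smul, hD.vanish, hD.eq_zero, hD.exists_eq⟩

end Conv

section Main

variable {k : Type u} [Field k] {R : Type u} [CommRing R] [Algebra k R]
  (𝒜 : ℤ → Submodule k R) [GradedAlgebra 𝒜]
  {M : Type u} [AddCommGroup M] [Module R M] [Module k M] [IsScalarTower k R M]
  (ℳ : ℤ → AddSubgroup M) [DirectSum.Decomposition ℳ] [SetLike.GradedSMul 𝒜 ℳ]
  {D : Type u} [AddCommGroup D] [Module R D] [Module k D] [IsScalarTower k R D]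
  (𝒟 : ℤ → AddSubgroup D) [DirectSum.Decomposition 𝒟] [SetLike.GradedSMul 𝒜 𝒟]
  (β : D →ₗ[k] R →ₗ[k] k)

/-- `P n` as a `k`-linear map. -/
noncomputable def Pl (n : ℤ) : M →ₗ[k] M where
  toFun := P ℳ n
  map_add' := P_add ℳ n
  map_smul' c z := by rw [RingHom.id_apply]; exact P_ksmul 𝒜 ℳ n c z

/-- `r ↦ r • x` as a `k`-linear map. -/
def smulR (x : M) : R →ₗ[k] M where
  toFun r := r • x
  map_add' r s := add_smul r s x
  map_smul' c r := by rw [RingHom.id_apply, smul_assoc]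

/-- A functional of degree `n`. -/
def IsHom (lam : M →ₗ[k] k) (n : ℤ) : Prop := ∀ m : ℤ, m ≠ -n → ∀ x ∈ ℳ m, lam x = 0

/-- The largest submodule killed by all the functionals of a list. -/
def Kof (L : List ((M →ₗ[k] k) × ℤ)) : Submodule R M where
  carrier := {x | ∀ p ∈ L, ∀ r : R, p.1 (r • x) = 0}
  add_mem' := by
    intro x y hx hy p hp r
    rw [smul_add, map_add, hx p hp r, hy p hp r, add_zero]
  zero_mem' := by
    intro p _ r
    rw [smul_zero, map_zero]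
  smul_mem' := by
    intro s x hx p hp r
    rw [smul_smul]
    exact hx p hp _

include 𝒜 in
theorem exists_list_Kof_eq_bot [IsArtinian R M] :
    ∃ L : List ((M →ₗ[k] k) × ℤ), (∀ p ∈ L, IsHom ℳ p.1 p.2) ∧ Kof (R := R) L = ⊥ := by
  obtain ⟨K₀, ⟨L₀, hL₀, rfl⟩, hmin⟩ := IsArtinian.set_has_minimal
    {K : Submodule R M | ∃ L : List ((M →ₗ[k] k) × ℤ), (∀ p ∈ L, IsHom ℳ p.1 p.2) ∧
      Kof (R := R) L = K} ⟨_, ⟨[], fun p hp => by simp at hp, rfl⟩⟩
  refine ⟨L₀, hL₀, ?_⟩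
  by_contra hne
  obtain ⟨x, hxK, hx0⟩ := Submodule.exists_mem_ne_zero_of_ne_bot hne
  obtain ⟨g, hg⟩ : ∃ g : ℤ, P ℳ g x ≠ 0 := by
    by_contra hcon
    push Not at hcon
    exact hx0 (eq_zero_of_P_eq_zero ℳ hcon)
  obtain ⟨μ, hμ⟩ : ∃ μ : M →ₗ[k] k, μ (P ℳ g x) ≠ 0 := by
    by_contra hcon
    push Not at hcon
    exact hg ((Module.forall_dual_apply_eq_zero_iff k _).1 hcon)
  have hhom : IsHom ℳ (μ ∘ₗ Pl 𝒜 ℳ g) (-g) := by
    intro m hm y hy
    rw [neg_neg] at hm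
    show μ (P ℳ g y) = 0
    rw [P_of_mem_ne ℳ hy hm, map_zero]
  have hle : Kof (R := R) ((μ ∘ₗ Pl 𝒜 ℳ g, -g) :: L₀) ≤ Kof (R := R) L₀ := by
    intro y hy p hp r
    exact hy p (List.mem_cons_of_mem _ hp) r
  have hnot : x ∉ Kof (R := R) ((μ ∘ₗ Pl 𝒜 ℳ g, -g) :: L₀) := by
    intro hx
    have := hx (μ ∘ₗ Pl 𝒜 ℳ g, -g) List.mem_cons_self 1
    rw [one_smul] at this
    exact hμ this
  have hlt : Kof (R := R) ((μ ∘ₗ Pl 𝒜 ℳ g, -g) :: L₀) < Kof (R := R) L₀ :=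
    lt_of_le_of_ne hle (fun heq => hnot (heq ▸ hxK))
  refine hmin _ ⟨_, ?_, rfl⟩ hlt
  intro p hp
  rcases List.mem_cons.1 hp with rfl | hp
  · exact hhom
  · exact hL₀ p hp

theorem exists_d (hD : GrSeg.IsGDual R (toAG 𝒜) 𝒟 β) {lam : M →ₗ[k] k} {n : ℤ}
    (hlam : IsHom ℳ lam n) {g : ℤ} {x : M} (hx : x ∈ ℳ g) :
    ∃ d ∈ 𝒟 (g + n), ∀ r : R, β d r = lam (r • x) := by
  obtain ⟨d, hd, hdφ⟩ := hD.exists_eq (g + n) (lam ∘ₗ smulR x)
  refine ⟨d, hd, fun r => ?_⟩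
  refine DirectSum.Decomposition.inductionOn 𝒜 (motive := fun r => β d r = lam (r • x)) ?_ ?_ ?_ r
  · rw [map_zero, zero_smul, map_zero]
  · intro a ra
    by_cases ha : a = -(g + n)
    · exact hdφ ra (ha ▸ ra.2)
    · have h1 := SetLike.GradedSMul.smul_mem (A := 𝒜) (B := ℳ) ra.2 hx
      rw [vadd_eq_add] at h1
      rw [hD.vanish (g + n) d hd a ha ra ra.2, hlam (a + g) (by omega) _ h1]
  · intro r r' h h'
    rw [map_add, add_smul, map_add, h, h']

theorem exists_d' (hD : GrSeg.IsGDual R (toAG 𝒜) 𝒟 β) {lam : M →ₗ[k] k} {n : ℤ}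
    (hlam : IsHom ℳ lam n) (x : M) : ∃ d : D, ∀ r : R, β d r = lam (r • x) := by
  refine DirectSum.Decomposition.inductionOn ℳ
    (motive := fun x => ∃ d : D, ∀ r : R, β d r = lam (r • x)) ?_ ?_ ?_ x
  · exact ⟨0, fun r => by rw [map_zero, LinearMap.zero_apply, smul_zero, map_zero]⟩
  · intro g xg
    obtain ⟨d, _, hd⟩ := exists_d 𝒜 ℳ 𝒟 β hD hlam xg.2
    exact ⟨d, hd⟩
  · rintro x y ⟨d, hd⟩ ⟨e, he⟩
    exact ⟨d + e, fun r => by rw [map_add, LinearMap.add_apply, hd, he, smul_add, map_add]⟩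

theorem exists_embedding (hD : GrSeg.IsGDual R (toAG 𝒜) 𝒟 β) [IsArtinian R M] :
    ∃ (t : ℕ) (sh : Fin t → ℤ) (f : M →ₗ[R] (Fin t → D)), Function.Injective f ∧
      ∀ (i : Fin t) (g : ℤ) (x : M), x ∈ ℳ g → f x i ∈ 𝒟 (g + sh i) := by
  obtain ⟨L, hL, hK⟩ := exists_list_Kof_eq_bot (R := R) 𝒜 ℳ
  have hLi : ∀ i : Fin L.length, IsHom ℳ (L.get i).1 (L.get i).2 :=
    fun i => hL _ (List.get_mem L i)
  have hex : ∀ (i : Fin L.length) (x : M), ∃ d : D, ∀ r : R, β d r = (L.get i).1 (r • x) :=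
    fun i x => exists_d' 𝒜 ℳ 𝒟 β hD (hLi i) x
  choose f0 hf0 using hex
  have huniq : ∀ (i : Fin L.length) (x : M) (d : D),
      (∀ r : R, β d r = (L.get i).1 (r • x)) → d = f0 i x := by
    intro i x d hd
    have : d - f0 i x = 0 := sepD' (toAG 𝒜) 𝒟 β hD _ (fun r => by
      rw [map_sub, LinearMap.sub_apply, hd, hf0, sub_self])
    exact sub_eq_zero.1 this
  let f : M →ₗ[R] (Fin L.length → D) :=
    { toFun := fun x i => f0 i x
      map_add' := fun x y => funext (fun i => (huniq i _ _ (fun r => by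
        show β (f0 i x + f0 i y) r = _
        rw [map_add, LinearMap.add_apply, hf0, hf0, smul_add, map_add])).symm)
      map_smul' := fun s x => funext (fun i => (huniq i _ _ (fun r => by
        show β (s • f0 i x) r = _
        rw [hD.map_smul, hf0, smul_eq_mul, smul_smul, mul_comm])).symm) }
  refine ⟨L.length, fun i => (L.get i).2, f, ?_, ?_⟩
  · rw [injective_iff_map_eq_zero]
    intro x hx
    have hxK : x ∈ Kof (R := R) L := by
      intro p hp r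
      obtain ⟨i, rfl⟩ := List.mem_iff_get.1 hp
      have h0 : f0 i x = 0 := congrFun hx i
      rw [← hf0, h0, map_zero, LinearMap.zero_apply]
    rw [hK] at hxK
    exact (Submodule.mem_bot R).1 hxK
  · intro i g x hx
    obtain ⟨d, hd, hdr⟩ := exists_d 𝒜 ℳ 𝒟 β hD (hLi i) hx
    have : d = f0 i x := huniq i x d hdr
    show f0 i x ∈ 𝒟 (g + (L.get i).2)
    rw [← this]; exact hd

end Main

theorem s19760 (k : Type u) [Field k] (R : Type u) [CommRing R] [Algebra k R] (𝒜 : ℤ → Submodule k R) [GradedAlgebra 𝒜] (hposR : ∀ n : ℤ, n < 0 → 𝒜 n = ⊥) (h0R : 𝒜 0 = Submodule.span k {(1 : R)}) [Algebra.FiniteType k R] (D : Type u) [AddCommGroup D] [Module R D] [Module k D] [IsScalarTower k R D] (𝒟 : ℤ → AddSubgroup D) [DirectSum.Decomposition 𝒟] [SetLike.GradedSMul 𝒜 𝒟] (β : D →ₗ[k] R →ₗ[k] k) (hD : GrSeg.IsGDual R 𝒜 𝒟 β) (M : Type u) [AddCommGroup M] [Module R M] [Module k M] [IsScalarTower k R M] (ℳ : ℤ → AddSubgroup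 M) [DirectSum.Decomposition ℳ] [SetLike.GradedSMul 𝒜 ℳ] : IsArtinian R M ↔ ∃ (t : ℕ) (sh : Fin t → ℤ) (f : M →ₗ[R] (Fin t → D)), Function.Injective f ∧ ∀ (i : Fin t) (g : ℤ) (x : M), x ∈ ℳ g → f x i ∈ 𝒟 (g + sh i) := by
  have hD' := isGDual_toAG 𝒜 𝒟 β hD
  constructor
  · intro hM
    exact exists_embedding 𝒜 ℳ 𝒟 β hD'
  · rintro ⟨t, sh, f, hf, _⟩
    have hDA : IsArtinian R D :=
      ((Groth.Agent.Lib.Helper24GrDual5.s19761 k R 𝒜 hposR h0R R (toAG 𝒜) D 𝒟 β hD').1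
        inferInstance).1
    exact isArtinian_of_injective f hf

end Groth.Agent.Lib.Helper24GrDual6
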