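import Mathlib
import Groth.Prelude.Def_GrMap

set_option autoImplicit false
universe u
open Polynomial

namespace Groth.Agent.Lib.Helper24GrEtale

theorem key {R S : Type u} [CommRing R] [CommRing S] [Algebra R S] [Algebra.FormallyEtale R S]
    (J : Ideal S) (hJ : Function.Surjective (algebraMap R (S ⧸ J))) (n : ℕ) :
    (∀ x : R, algebraMap R S x ∈ J ^ (n + 1) → x ∈ (J.comap (algebraMap R S)) ^ (n + 1)) ∧
    (∀ s : S, ∃ r : R, algebraMap R S r - s ∈ J ^ (n + 1)) := by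
  obtain ⟨I, hIdef⟩ : ∃ I : Ideal R, I = J.comap (algebraMap R S) := ⟨_, rfl⟩
  rw [← hIdef]
  obtain ⟨N, hN⟩ : ∃ N : ℕ, N = n + 1 := ⟨_, rfl⟩
  rw [← hN]
  have hN0 : N ≠ 0 := by omega
  have hmemI : ∀ r : R, r ∈ I ↔ algebraMap R S r ∈ J := by
    intro r; rw [hIdef]; exact Ideal.mem_comap
  -- the map g : R/I^N → S/J
  have hg0 : ∀ a : R, a ∈ I ^ N → Algebra.ofId R (S ⧸ J) a = 0 := by
    intro a ha
    have h1 : a ∈ I := Ideal.pow_le_self hN0 ha
    have h2 : algebraMap R S a ∈ J := (hmemI a).mp h1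
    exact Ideal.Quotient.eq_zero_iff_mem.mpr h2
  obtain ⟨g, hgdef⟩ : ∃ g : (R ⧸ I ^ N) →ₐ[R] (S ⧸ J),
      g = Ideal.Quotient.liftₐ (I ^ N) (Algebra.ofId R (S ⧸ J)) hg0 := ⟨_, rfl⟩
  have hg_mk : ∀ r : R, g (Ideal.Quotient.mk (I ^ N) r) =
      Ideal.Quotient.mk J (algebraMap R S r) := by
    intro r; rw [hgdef]; rfl
  have hg : Function.Surjective g := by
    intro c
    obtain ⟨r, rfl⟩ := hJ c
    exact ⟨Ideal.Quotient.mk (I ^ N) r, hg_mk r⟩
  have hker : RingHom.ker (g : (R ⧸ I ^ N) →+* (S ⧸ J)) ≤ I.map (Ideal.Quotient.mk (I ^ N)) := by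
    intro b hb
    obtain ⟨r, rfl⟩ := Ideal.Quotient.mk_surjective b
    rw [RingHom.mem_ker] at hb
    have hb' : Ideal.Quotient.mk J (algebraMap R S r) = 0 := by
      rw [← hg_mk r]; exact hb
    have h2 : algebraMap R S r ∈ J := Ideal.Quotient.eq_zero_iff_mem.mp hb'
    exact Ideal.mem_map_of_mem _ ((hmemI r).mpr h2)
  have hkerN : (RingHom.ker (g : (R ⧸ I ^ N) →+* (S ⧸ J))) ^ N = ⊥ := by
    rw [eq_bot_iff]
    calc (RingHom.ker (g : (R ⧸ I ^ N) →+* (S ⧸ J))) ^ N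
        ≤ (I.map (Ideal.Quotient.mk (I ^ N))) ^ N := Ideal.pow_right_mono hker N
      _ = (I ^ N).map (Ideal.Quotient.mk (I ^ N)) := (Ideal.map_pow ..).symm
      _ = ⊥ := Ideal.map_quotient_self _
  have hnil : IsNilpotent (RingHom.ker (g : (R ⧸ I ^ N) →+* (S ⧸ J))) := ⟨N, hkerN⟩
  -- the section σ : S → R/I^N
  obtain ⟨σ, hσdef⟩ : ∃ σ : S →ₐ[R] (R ⧸ I ^ N),
      σ = Algebra.FormallySmooth.liftOfSurjective (Ideal.Quotient.mkₐ R J) g hg hnil := ⟨_, rfl⟩
  have hσ : ∀ s : S, g (σ s) = Ideal.Quotient.mk J s := by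
    intro s
    rw [hσdef]
    exact Algebra.FormallySmooth.liftOfSurjective_apply (Ideal.Quotient.mkₐ R J) g hg hnil s
  have hσJ : J.map σ ≤ RingHom.ker (g : (R ⧸ I ^ N) →+* (S ⧸ J)) := by
    rw [Ideal.map_le_iff_le_comap]
    intro s hs
    rw [Ideal.mem_comap, RingHom.mem_ker]
    show g (σ s) = 0
    rw [hσ]
    exact Ideal.Quotient.eq_zero_iff_mem.mpr hs
  have hσR : ∀ x : R, σ (algebraMap R S x) = Ideal.Quotient.mk (I ^ N) x := by
    intro x
    rw [AlgHom.commutes]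
    rfl
  -- (a)
  have hA : ∀ x : R, algebraMap R S x ∈ J ^ N → x ∈ I ^ N := by
    intro x hx
    rw [← Ideal.Quotient.eq_zero_iff_mem, ← hσR x]
    have h2 : σ (algebraMap R S x) ∈ (J ^ N).map σ := Ideal.mem_map_of_mem _ hx
    have h3 : (J ^ N).map σ ≤ ⊥ := by
      rw [Ideal.map_pow]
      calc (J.map σ) ^ N ≤ (RingHom.ker (g : (R ⧸ I ^ N) →+* (S ⧸ J))) ^ N :=
            Ideal.pow_right_mono hσJ N
        _ = ⊥ := hkerN
    exact (Ideal.mem_bot).mp (h3 h2)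
  refine ⟨hA, ?_⟩
  -- (b)
  have hIJ : ∀ a : R, a ∈ I ^ N → Algebra.ofId R (S ⧸ J ^ N) a = 0 := by
    intro a ha
    have h1 : (I ^ N).map (algebraMap R S) ≤ J ^ N := by
      rw [Ideal.map_pow]
      exact Ideal.pow_right_mono (by rw [hIdef]; exact Ideal.map_comap_le) N
    exact Ideal.Quotient.eq_zero_iff_mem.mpr (h1 (Ideal.mem_map_of_mem _ ha))
  obtain ⟨φ', hφdef⟩ : ∃ φ' : (R ⧸ I ^ N) →ₐ[R] (S ⧸ J ^ N),
      φ' = Ideal.Quotient.liftₐ (I ^ N) (Algebra.ofId R (S ⧸ J ^ N)) hIJ := ⟨_, rfl⟩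
  have hφ_mk : ∀ r : R, φ' (Ideal.Quotient.mk (I ^ N) r) =
      Ideal.Quotient.mk (J ^ N) (algebraMap R S r) := by
    intro r; rw [hφdef]; rfl
  have hnil' : IsNilpotent (J.map (Ideal.Quotient.mk (J ^ N))) := by
    refine ⟨N, ?_⟩
    rw [← Ideal.map_pow, Ideal.map_quotient_self]
    rfl
  have hdiff : ∀ (x : S) (r : R), σ x = Ideal.Quotient.mk (I ^ N) r → x - algebraMap R S r ∈ J := by
    intro x r hr
    have h1 := hσ x
    rw [hr, hg_mk] at h1
    have h2 := Ideal.Quotient.eq.mp h1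
    rw [← neg_sub]
    exact J.neg_mem h2
  have hqψ : Ideal.Quotient.mkₐ R (J ^ N) = φ'.comp σ := by
    apply Algebra.FormallyUnramified.ext (J.map (Ideal.Quotient.mk (J ^ N))) hnil'
    intro x
    obtain ⟨r, hr⟩ := Ideal.Quotient.mk_surjective (σ x)
    rw [Ideal.Quotient.eq]
    have h1 : (φ'.comp σ) x = Ideal.Quotient.mk (J ^ N) (algebraMap R S r) := by
      show φ' (σ x) = _
      rw [← hr, hφ_mk]
    have h0 : (Ideal.Quotient.mkₐ R (J ^ N)) x = Ideal.Quotient.mk (J ^ N) x := rfl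
    rw [h1, h0, ← map_sub]
    exact Ideal.mem_map_of_mem _ (hdiff x r hr.symm)
  intro s
  obtain ⟨r, hr⟩ := Ideal.Quotient.mk_surjective (σ s)
  refine ⟨r, ?_⟩
  have h1 : (φ'.comp σ) s = Ideal.Quotient.mk (J ^ N) (algebraMap R S r) := by
    show φ' (σ s) = _
    rw [← hr, hφ_mk]
  have h2 : (Ideal.Quotient.mkₐ R (J ^ N)) s = Ideal.Quotient.mk (J ^ N) (algebraMap R S r) := by
    rw [hqψ]; exact h1
  have h3 : Ideal.Quotient.mk (J ^ N) (algebraMap R S r) = Ideal.Quotient.mk (J ^ N) s := h2.symm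
  exact Ideal.Quotient.eq.mp h3

theorem s16452 (R : Type u) [CommRing R] (S : Type u)
    [CommRing S] [Algebra R S] [Algebra.FormallyEtale R S] (J : Ideal S)
    (hJ : Function.Surjective (algebraMap R (S ⧸ J))) :
    Function.Bijective (AssocGr.map (AssocGr.IsFiltHom.adic
      (Ideal.map_comap_le : (J.comap (algebraMap R S)).map (algebraMap R S) ≤ J))) := by
  have hkey := key J hJ
  have hA : ∀ (n : ℕ) (x : R), algebraMap R S x ∈ J ^ n →
      x ∈ (J.comap (algebraMap R S)) ^ n := by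
    intro n x hx
    cases n with
    | zero => rw [pow_zero, Ideal.one_eq_top]; trivial
    | succ n => exact (hkey n).1 x hx
  have h : AssocGr.IsFiltHom (algebraMap R S)
      (FiltBl.IdealFiltration.adic (J.comap (algebraMap R S))) (FiltBl.IdealFiltration.adic J) :=
    AssocGr.IsFiltHom.adic Ideal.map_comap_le
  show Function.Bijective (AssocGr.map h)
  constructor
  · rw [injective_iff_map_eq_zero]
    intro x hx
    obtain ⟨f, rfl⟩ := AssocGr.mkG_surjective _ x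
    rw [AssocGr.map_mkG, AssocGr.mkG_eq_zero_iff] at hx
    rw [AssocGr.mkG_eq_zero_iff]
    intro n
    have h1 := hx n
    rw [AssocGr.coe_reesMap, Polynomial.coeff_map] at h1
    exact hA (n + 1) _ h1
  · intro y
    obtain ⟨g, rfl⟩ := AssocGr.mkG_surjective _ y
    have hex : ∀ n : ℕ, ∃ r : R, r ∈ (J.comap (algebraMap R S)) ^ n ∧
        algebraMap R S r - (g : S[X]).coeff n ∈ J ^ (n + 1) := by
      intro n
      obtain ⟨r, hr⟩ := (hkey n).2 ((g : S[X]).coeff n)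
      refine ⟨r, hA n r ?_, hr⟩
      have h1 : (g : S[X]).coeff n ∈ J ^ n := g.2 n
      have h2 : algebraMap R S r - (g : S[X]).coeff n ∈ J ^ n :=
        Ideal.pow_le_pow_right (Nat.le_succ n) hr
      have h3 := Ideal.add_mem _ h2 h1
      rwa [sub_add_cancel] at h3
    choose a ha1 ha2 using hex
    obtain ⟨p, hpdef⟩ : ∃ p : R[X],
        p = ∑ n ∈ (g : S[X]).support, Polynomial.monomial n (a n) := ⟨_, rfl⟩
    have hp : ∀ n, p.coeff n = if n ∈ (g : S[X]).support then a n else 0 := by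
      intro n
      rw [hpdef, Polynomial.finset_sum_coeff]
      simp only [Polynomial.coeff_monomial]
      exact Finset.sum_ite_eq' _ _ _
    have hpmem : p ∈ (FiltBl.IdealFiltration.adic (J.comap (algebraMap R S))).rees := by
      intro n
      rw [hp n]
      split_ifs
      · exact ha1 n
      · exact Ideal.zero_mem _
    refine ⟨AssocGr.mkG _ ⟨p, hpmem⟩, ?_⟩
    rw [AssocGr.map_mkG, ← sub_eq_zero, ← map_sub, AssocGr.mkG_eq_zero_iff]
    intro n
    rw [Subalgebra.coe_sub, Polynomial.coeff_sub, AssocGr.coe_reesMap, Polynomial.coeff_map]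
    show algebraMap R S (p.coeff n) - (g : S[X]).coeff n ∈ J ^ (n + 1)
    rw [hp n]
    split_ifs with hn
    · exact ha2 n
    · rw [map_zero, Polynomial.notMem_support_iff.mp hn, sub_zero]
      exact Ideal.zero_mem _

end Groth.Agent.Lib.Helper24GrEtale
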