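import Mathlib

set_option autoImplicit false
set_option backward.isDefEq.respectTransparency.types false
set_option maxHeartbeats 4000000
set_option synthInstance.maxHeartbeats 400000
universe u v

namespace Groth.Agent.Lib.Helper24GrProj

open MvPolynomial



/-- A polynomial with constant coefficient `1` is a non-zero-divisor. -/
theorem mul_eq_zero_of_constantCoeff_one {σ : Type*} {R : Type*} [CommRing R]
    (a b : MvPolynomial σ R) (ha : constantCoeff a = 1) (h : a * b = 0) : b = 0 := by
  have hu : IsUnit (a : MvPowerSeries σ R) := by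
    rw [MvPowerSeries.isUnit_iff_constantCoeff, ← MvPowerSeries.coeff_zero_eq_constantCoeff_apply,
      MvPolynomial.coeff_coe]
    have : coeff 0 a = 1 := ha
    rw [this]; exact isUnit_one
  have h2 : (a : MvPowerSeries σ R) * (b : MvPowerSeries σ R) = 0 := by
    rw [← MvPolynomial.coe_mul, h]; simp
  have h3 : (b : MvPowerSeries σ R) = 0 := hu.mul_right_eq_zero.mp h2
  exact MvPolynomial.coe_eq_zero_iff.mp h3




/-- A finitely generated projective module has, locally around any prime, a "basis up to powers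
of `r`", expressed elementwise. -/
theorem exists_local_basis {R : Type u} [CommRing R] {M : Type v} [AddCommGroup M] [Module R M]
    [Module.Finite R M] [Module.Projective R M] (p : Ideal R) [p.IsPrime] :
    ∃ r : R, r ∉ p ∧ ∃ (k : ℕ) (e : Fin k → M),
      (∀ m : M, ∃ (N : ℕ) (b : Fin k → R), r ^ N • m = ∑ i, b i • e i) ∧
      (∀ b : Fin k → R, ∑ i, b i • e i = 0 → ∃ N : ℕ, ∀ i, r ^ N * b i = 0) := by
  classical
  haveI : Module.FinitePresentation R M := Module.finitePresentation_of_projective R M
  haveI : Module.Free (Localization.AtPrime p) (LocalizedModule p.primeCompl M) :=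
    Module.free_of_flat_of_isLocalRing
  obtain ⟨r, hr, hfree, -⟩ := Module.FinitePresentation.exists_free_localizedModule_powers
    p.primeCompl (LocalizedModule.mkLinearMap p.primeCompl M) (Localization.AtPrime p)
  haveI := hfree
  refine ⟨r, hr, ?_⟩
  set S := Submonoid.powers r with hS
  set f := LocalizedModule.mkLinearMap S M with hf
  rcases subsingleton_or_nontrivial (Localization S) with hsub | hnt
  · -- `r` is nilpotent
    have h0 : (0 : R) ∈ S := by
      have : algebraMap R (Localization S) 1 = 0 := Subsingleton.elim _ _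
      obtain ⟨c, hc⟩ := (IsLocalization.map_eq_zero_iff S (Localization S) 1).mp this
      rw [mul_one] at hc
      rw [← hc]; exact c.2
    obtain ⟨N, hN⟩ := h0
    refine ⟨0, Fin.elim0, fun m => ⟨N, Fin.elim0, ?_⟩, fun b _ => ⟨N, fun i => i.elim0⟩⟩
    have : r ^ N = 0 := hN
    simp [this]
  obtain ⟨⟨ι, b0⟩⟩ := Module.Free.exists_basis (R := Localization S) (M := LocalizedModule S M)
  haveI : Finite ι := Module.Finite.finite_basis b0
  haveI : Fintype ι := Fintype.ofFinite ι
  let b := b0.reindex (Fintype.equivFin ι)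
  have hex : ∀ x : LocalizedModule S M, ∃ (m : M) (s : S), x = LocalizedModule.mk m s :=
    fun x => LocalizedModule.induction_on (fun m s => ⟨m, s, rfl⟩) x
  choose m s hms using fun i => hex (b i)
  -- new basis `f (m i)`
  have hunit : ∀ i, IsUnit (algebraMap R (Localization S) (s i)) := fun i =>
    IsLocalization.map_units _ (s i)
  let b' := b.unitsSMul (fun i => (hunit i).unit)
  have hb' : ∀ i, b' i = f (m i) := by
    intro i
    rw [Module.Basis.unitsSMul_apply, hms i, hf, LocalizedModule.mkLinearMap_apply]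
    change (algebraMap R (Localization S) (s i)) • (LocalizedModule.mk (m i) (s i) : LocalizedModule S M) = _
    rw [algebraMap_smul, LocalizedModule.smul'_mk]
    exact LocalizedModule.mk_cancel (s i) (m i)
  refine ⟨_, m, ?_, ?_⟩
  · intro x
    -- coordinates of f x
    obtain ⟨c, hc⟩ := IsLocalization.exist_integer_multiples_of_finset S
      (Finset.univ.image (fun i => b'.repr (f x) i))
    have hc' : ∀ i, ∃ y : R, algebraMap R (Localization S) y = (c : R) • b'.repr (f x) i := by
      intro i
      exact hc _ (Finset.mem_image_of_mem _ (Finset.mem_univ i))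
    choose y hy using hc'
    have h1 : f ((c : R) • x - ∑ i, y i • m i) = 0 := by
      rw [map_sub, map_smul, map_sum]
      have : f x = ∑ i, b'.repr (f x) i • b' i := (b'.sum_repr (f x)).symm
      conv_lhs => rw [this]
      rw [Finset.smul_sum, ← Finset.sum_sub_distrib]
      apply Finset.sum_eq_zero
      intro i _
      rw [map_smul, ← hb' i, ← algebraMap_smul (Localization S) (y i) (b' i), hy i, smul_assoc]
      simp
    obtain ⟨c', hc'⟩ := (IsLocalizedModule.eq_zero_iff S f).mp h1
    obtain ⟨N1, hN1⟩ := c.2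
    obtain ⟨N2, hN2⟩ := c'.2
    refine ⟨N2 + N1, fun i => (c' : R) * y i, ?_⟩
    have h2 : (c' : R) • ((c : R) • x - ∑ i, y i • m i) = 0 := hc'
    rw [smul_sub, sub_eq_zero] at h2
    rw [pow_add, mul_smul]
    have e1 : r ^ N1 = (c : R) := hN1
    have e2 : r ^ N2 = (c' : R) := hN2
    rw [e1, e2, h2, Finset.smul_sum]
    exact Finset.sum_congr rfl fun i _ => by rw [mul_smul]
  · intro β hβ
    have h1 : ∑ i, algebraMap R (Localization S) (β i) • b' i = 0 := by
      have := congrArg f hβ
      rw [map_sum, map_zero] at this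
      rw [← this]
      exact Finset.sum_congr rfl fun i _ => by rw [hb' i, map_smul, algebraMap_smul]
    have h2 := Fintype.linearIndependent_iff.mp b'.linearIndependent _ h1
    have h3 : ∀ i, ∃ c : S, (c : R) * β i = 0 := fun i =>
      (IsLocalization.map_eq_zero_iff S (Localization S) (β i)).mp (h2 i)
    choose c hc using h3
    have h4 : ∀ i, ∃ N : ℕ, r ^ N = (c i : R) := fun i => (c i).2
    choose N hN using h4
    refine ⟨∑ i, N i, fun i => ?_⟩
    have : r ^ (∑ j, N j) = r ^ (∑ j ∈ Finset.univ.erase i, N j) * r ^ N i := by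
      rw [← pow_add, Finset.sum_erase_add _ _ (Finset.mem_univ i)]
    rw [this, mul_assoc, hN i, hc i, mul_zero]




/-- the weights `e_i` -/
abbrev wt (n : ℕ) : Fin n → (Fin n → ℤ) := fun i => Pi.single i 1

section Graded

variable {R : Type u} [CommRing R] {n : ℕ}
  {P : Type v} [AddCommGroup P] [Module (MvPolynomial (Fin n) R) P] [Module R P]
  [IsScalarTower R (MvPolynomial (Fin n) R) P]
  (ℳ : (Fin n → ℤ) → Submodule R P) [DirectSum.Decomposition ℳ]
  [SetLike.GradedSMul (weightedHomogeneousSubmodule R (wt n)) ℳ]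

/-- projection onto the degree `d` component, as an `R`-linear endomorphism of `P` -/
noncomputable def pr (d : Fin n → ℤ) : P →ₗ[R] P :=
  (ℳ d).subtype ∘ₗ (DirectSum.component R _ (fun i => ℳ i) d) ∘ₗ
    (DirectSum.decomposeLinearEquiv ℳ).toLinearMap

theorem pr_apply (d : Fin n → ℤ) (q : P) : pr ℳ d q = (DirectSum.decompose ℳ q d : P) := rfl

theorem pr_mem (d : Fin n → ℤ) (q : P) : pr ℳ d q ∈ ℳ d := by
  rw [pr_apply]; exact (DirectSum.decompose ℳ q d).2

theorem pr_of_mem_same {d : Fin n → ℤ} {q : P} (hq : q ∈ ℳ d) : pr ℳ d q = q := by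
  rw [pr_apply]; exact DirectSum.decompose_of_mem_same ℳ hq

theorem pr_of_mem_ne {d e : Fin n → ℤ} {q : P} (hq : q ∈ ℳ e) (h : e ≠ d) : pr ℳ d q = 0 := by
  rw [pr_apply]; exact DirectSum.decompose_of_mem_ne ℳ hq h

theorem sum_pr (q : P) : ∃ D : Finset (Fin n → ℤ), ∑ d ∈ D, pr ℳ d q = q := by
  classical
  exact ⟨_, DirectSum.sum_support_decompose ℳ q⟩

theorem pr_smul_homog {δ : Fin n → ℤ} {a : MvPolynomial (Fin n) R}
    (ha : a ∈ weightedHomogeneousSubmodule R (wt n) δ) (d : Fin n → ℤ) (q : P) :
    pr ℳ d (a • q) = a • pr ℳ (d - δ) q := by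
  induction q using DirectSum.Decomposition.inductionOn ℳ with
  | zero => simp
  | @homogeneous e m =>
    have hm : (m : P) ∈ ℳ e := m.2
    have h1 : a • (m : P) ∈ ℳ (δ + e) := SetLike.GradedSMul.smul_mem ha hm
    by_cases hd : δ + e = d
    · rw [← hd, pr_of_mem_same ℳ h1]
      have : δ + e - δ = e := by abel
      rw [this, pr_of_mem_same ℳ hm]
    · rw [pr_of_mem_ne ℳ h1 hd]
      have : e ≠ d - δ := by
        intro h; apply hd; rw [h]; abel
      rw [pr_of_mem_ne ℳ hm this, smul_zero]
  | add q q' hq hq' => rw [smul_add, map_add, map_add, smul_add, hq, hq']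

/-- weight of an exponent vector -/
theorem weight_apply (μ : Fin n →₀ ℕ) (i : Fin n) : Finsupp.weight (wt n) μ i = (μ i : ℤ) := by
  classical
  rw [Finsupp.weight_apply, Finsupp.sum, Finset.sum_apply]
  simp only [Pi.smul_apply, Pi.single_apply, smul_eq_mul]
  rw [Finset.sum_eq_single i]
  · simp
  · intro j _ hj; simp [hj.symm]
  · intro hi
    simp only [Finsupp.mem_support_iff, not_not] at hi
    simp [hi]

theorem weight_eq_zero_iff (μ : Fin n →₀ ℕ) : Finsupp.weight (wt n) μ = 0 ↔ μ = 0 := by
  constructor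
  · intro h
    ext i
    have := congrFun h i
    rw [weight_apply] at this
    simpa using this
  · rintro rfl; simp

theorem monomial_mem (μ : Fin n →₀ ℕ) (r : R) :
    monomial μ r ∈ weightedHomogeneousSubmodule R (wt n) (Finsupp.weight (wt n) μ) :=
  (mem_weightedHomogeneousSubmodule _ _ _ _).mpr (isWeightedHomogeneous_monomial _ _ _ rfl)

theorem pr_smul (a : MvPolynomial (Fin n) R) (d : Fin n → ℤ) (q : P) :
    pr ℳ d (a • q) =
      ∑ μ ∈ a.support, (monomial μ (coeff μ a)) • pr ℳ (d - Finsupp.weight (wt n) μ) q := by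
  conv_lhs => rw [← support_sum_monomial_coeff a, Finset.sum_smul, map_sum]
  exact Finset.sum_congr rfl fun μ _ => pr_smul_homog ℳ (monomial_mem μ _) d q

/-- on a homogeneous element, the degree-preserving part of `a • q` is `a₀ • q` -/
theorem pr_smul_same (a : MvPolynomial (Fin n) R) {d : Fin n → ℤ} {q : P} (hq : q ∈ ℳ d) :
    pr ℳ d (a • q) = constantCoeff a • q := by
  classical
  rw [pr_smul]
  have h : ∀ μ ∈ a.support, μ ≠ 0 →
      (monomial μ (coeff μ a)) • pr ℳ (d - Finsupp.weight (wt n) μ) q = 0 := by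
    intro μ _ hμ
    have : d ≠ d - Finsupp.weight (wt n) μ := by
      intro h
      apply hμ
      rw [← weight_eq_zero_iff]
      have h2 : d - Finsupp.weight (wt n) μ = d - 0 := by rw [sub_zero]; exact h.symm
      exact sub_right_injective h2
    rw [pr_of_mem_ne ℳ hq this, smul_zero]
  by_cases h0 : (0 : Fin n →₀ ℕ) ∈ a.support
  · rw [Finset.sum_eq_single_of_mem 0 h0 (fun μ hμ hne => h μ hμ hne)]
    rw [map_zero, sub_zero, pr_of_mem_same ℳ hq]
    change (C (coeff 0 a) : MvPolynomial (Fin n) R) • q = _
    rw [← algebraMap_eq, algebraMap_smul]; rfl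
  · rw [Finset.sum_eq_zero (fun μ hμ => h μ hμ (fun h' => h0 (h' ▸ hμ)))]
    have : constantCoeff a = 0 := by
      simpa [constantCoeff_eq] using h0
    rw [this, zero_smul]

/-- `pr d` maps `I • ⊤` into itself, where `I` is the ideal of polynomials without constant term -/
theorem pr_mem_smul_top (d : Fin n → ℤ) {q : P}
    (hq : q ∈ (RingHom.ker (constantCoeff (σ := Fin n) (R := R)) • ⊤ : Submodule (MvPolynomial (Fin n) R) P)) :
    pr ℳ d q ∈ (RingHom.ker (constantCoeff (σ := Fin n) (R := R)) • ⊤ : Submodule (MvPolynomial (Fin n) R) P) := by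
  classical
  refine Submodule.smul_induction_on hq ?_ ?_
  · intro a ha m _
    rw [pr_smul]
    apply Submodule.sum_mem
    intro μ hμ
    by_cases h0 : μ = 0
    · subst h0
      have : coeff 0 a = 0 := ha
      rw [this, map_zero, zero_smul]; exact Submodule.zero_mem _
    · apply Submodule.smul_mem_smul _ Submodule.mem_top
      rw [RingHom.mem_ker, constantCoeff_monomial, if_neg h0]
  · intro x y hx hy
    rw [map_add]; exact Submodule.add_mem _ hx hy

/-- the span of homogeneous elements is stable under the projections -/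
theorem pr_mem_span {H : Set P} (hH : ∀ h ∈ H, ∃ e, h ∈ ℳ e) {q : P}
    (hq : q ∈ Submodule.span (MvPolynomial (Fin n) R) H) (d : Fin n → ℤ) :
    pr ℳ d q ∈ Submodule.span (MvPolynomial (Fin n) R) H := by
  induction hq using Submodule.span_induction generalizing d with
  | mem h hh =>
    obtain ⟨e, he⟩ := hH h hh
    by_cases hed : e = d
    · subst hed; rw [pr_of_mem_same ℳ he]; exact Submodule.subset_span hh
    · rw [pr_of_mem_ne ℳ he hed]; exact Submodule.zero_mem _
  | zero => rw [map_zero]; exact Submodule.zero_mem _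
  | add x y _ _ hx hy => rw [map_add]; exact Submodule.add_mem _ (hx d) (hy d)
  | smul a x _ hx =>
    rw [pr_smul]
    exact Submodule.sum_mem _ fun μ _ => Submodule.smul_mem _ _ (hx _)

end Graded


end Groth.Agent.Lib.Helper24GrProj
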