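import Mathlib
import Groth.Agent.Lib.Helper24GrProjA

set_option autoImplicit false
set_option backward.isDefEq.respectTransparency.types false
set_option maxHeartbeats 4000000
set_option synthInstance.maxHeartbeats 400000
universe u v

namespace Groth.Agent.Lib.Helper24GrProj

open MvPolynomial TensorProduct



section Quot

variable (R : Type u) [CommRing R] (n : ℕ)
  (P : Type v) [AddCommGroup P] [Module (MvPolynomial (Fin n) R) P] [Module R P]
  [IsScalarTower R (MvPolynomial (Fin n) R) P]

/-- the augmentation ideal -/
noncomputable abbrev II : Ideal (MvPolynomial (Fin n) R) := RingHom.ker (constantCoeff (σ := Fin n) (R := R))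

/-- `I • P` as an `R`-submodule -/
noncomputable def XR : Submodule R P :=
  ((II R n • ⊤ : Submodule (MvPolynomial (Fin n) R) P)).restrictScalars R

/-- `P / I P` as an `R`-module -/
abbrev P0 : Type v := P ⧸ XR R n P

/-- the quotient map -/
noncomputable def πR : P →ₗ[R] P0 R n P := (XR R n P).mkQ

variable {R n P}

theorem mem_XR {q : P} : q ∈ XR R n P ↔
    q ∈ (II R n • ⊤ : Submodule (MvPolynomial (Fin n) R) P) := Iff.rfl

theorem πR_eq_zero {q : P} : πR R n P q = 0 ↔
    q ∈ (II R n • ⊤ : Submodule (MvPolynomial (Fin n) R) P) :=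
  Submodule.Quotient.mk_eq_zero _

theorem πR_surjective : Function.Surjective (πR R n P) := Submodule.mkQ_surjective _

theorem C_smul' (r : R) (q : P) : (C r : MvPolynomial (Fin n) R) • q = r • q := by
  have : (C r : MvPolynomial (Fin n) R) = algebraMap R (MvPolynomial (Fin n) R) r := rfl
  rw [this, algebraMap_smul]

theorem πR_smul (a : MvPolynomial (Fin n) R) (q : P) :
    πR R n P (a • q) = constantCoeff a • πR R n P q := by
  have h : a • q - constantCoeff a • q = (a - C (constantCoeff a)) • q := by
    rw [sub_smul, C_smul' (n := n)]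
  rw [← sub_eq_zero, ← map_smul, ← map_sub, πR_eq_zero, h]
  apply Submodule.smul_mem_smul _ Submodule.mem_top
  rw [RingHom.mem_ker, map_sub, constantCoeff_C, sub_self]

/-- constant coefficient as an `R`-linear map -/
noncomputable def ccL : MvPolynomial (Fin n) R →ₗ[R] R where
  toFun := constantCoeff
  map_add' := map_add _
  map_smul' r a := by simp [smul_eq_C_mul]

@[simp] theorem ccL_apply (a : MvPolynomial (Fin n) R) : ccL a = constantCoeff a := rfl

theorem finite_P0 [Module.Finite (MvPolynomial (Fin n) R) P] : Module.Finite R (P0 R n P) := by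
  classical
  obtain ⟨G, hG⟩ := (Module.Finite.fg_top : (⊤ : Submodule (MvPolynomial (Fin n) R) P).FG)
  refine ⟨⟨G.image (πR R n P), ?_⟩⟩
  rw [eq_top_iff]
  rintro x -
  obtain ⟨q, rfl⟩ := πR_surjective x
  have hq : q ∈ Submodule.span (MvPolynomial (Fin n) R) (G : Set P) := by rw [hG]; trivial
  induction hq using Submodule.span_induction with
  | mem g hg =>
    apply Submodule.subset_span
    simp only [Finset.coe_image, Set.mem_image, Finset.mem_coe]
    exact ⟨g, hg, rfl⟩
  | zero => rw [map_zero]; exact Submodule.zero_mem _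
  | add x y _ _ hx hy => rw [map_add]; exact Submodule.add_mem _ hx hy
  | smul a x _ hx => rw [πR_smul]; exact Submodule.smul_mem _ _ hx

theorem projective_P0 [Module.Projective (MvPolynomial (Fin n) R) P] :
    Module.Projective R (P0 R n P) := by
  classical
  obtain ⟨s, hs⟩ := (Module.projective_def' (R := MvPolynomial (Fin n) R) (P := P)).mp inferInstance
  let φ : P →ₗ[R] (P →₀ R) := (Finsupp.mapRange.linearMap ccL) ∘ₗ (s.restrictScalars R)
  have hφ : XR R n P ≤ LinearMap.ker φ := by
    intro q hq
    rw [mem_XR] at hq
    rw [LinearMap.mem_ker]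
    refine Submodule.smul_induction_on hq ?_ ?_
    · intro a ha m _
      ext x
      simp only [φ, LinearMap.coe_comp, LinearMap.coe_restrictScalars, Function.comp_apply,
        map_smul, Finsupp.mapRange.linearMap_apply, Finsupp.mapRange_apply, Finsupp.coe_smul,
        Pi.smul_apply, smul_eq_mul, ccL_apply, map_mul, Finsupp.coe_zero, Pi.zero_apply]
      have : constantCoeff a = 0 := ha
      rw [this, zero_mul]
    · intro x y hx hy
      rw [map_add, hx, hy, add_zero]
  let i : P0 R n P →ₗ[R] (P →₀ R) := (XR R n P).liftQ φ hφ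
  let j : (P →₀ R) →ₗ[R] P0 R n P := Finsupp.linearCombination R (fun x => πR R n P x)
  refine Module.Projective.of_split i j ?_
  apply LinearMap.ext
  intro x
  obtain ⟨q, rfl⟩ := πR_surjective x
  have h1 : i (πR R n P q) = φ q := Submodule.liftQ_apply _ _ _
  rw [LinearMap.comp_apply, h1, LinearMap.id_apply]
  have h2 : q = Finsupp.linearCombination (MvPolynomial (Fin n) R) id (s q) := by
    have := LinearMap.congr_fun hs q
    simpa using this.symm
  conv_rhs => rw [h2]
  simp only [j, φ, LinearMap.coe_comp, LinearMap.coe_restrictScalars, Function.comp_apply,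
    Finsupp.mapRange.linearMap_apply]
  rw [Finsupp.linearCombination_apply, Finsupp.linearCombination_apply,
    Finsupp.sum_mapRange_index (by intro x; simp), Finsupp.sum, Finsupp.sum, map_sum]
  refine Finset.sum_congr rfl fun x _ => ?_
  rw [id, πR_smul, ccL_apply]

end Quot


end Groth.Agent.Lib.Helper24GrProj
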