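import Mathlib
import Groth.Agent.Lib.Helper24GrProjC

set_option autoImplicit false
set_option backward.isDefEq.respectTransparency.types false
set_option maxHeartbeats 4000000
set_option synthInstance.maxHeartbeats 400000
universe u v

namespace Groth.Agent.Lib.Helper24GrProj

open MvPolynomial TensorProduct

section Gr

variable {R : Type u} [CommRing R] {n : ℕ}
  {P : Type v} [AddCommGroup P] [Module (MvPolynomial (Fin n) R) P] [Module R P]
  [IsScalarTower R (MvPolynomial (Fin n) R) P]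
  (ℳ : (Fin n → ℤ) → Submodule R P) [DirectSum.Decomposition ℳ]
  [SetLike.GradedSMul (weightedHomogeneousSubmodule R (wt n)) ℳ]

theorem sum_pr' (q : P) : ∃ D : Finset (Fin n → ℤ), (∀ d ∉ D, pr ℳ d q = 0) ∧
    ∑ d ∈ D, pr ℳ d q = q := by
  classical
  refine ⟨_, fun d hd => ?_, DirectSum.sum_support_decompose ℳ q⟩
  rw [pr_apply]
  simpa using hd

/-- the induced projection on `P / I P` -/
noncomputable def pbar (d : Fin n → ℤ) : P0 R n P →ₗ[R] P0 R n P :=
  (XR R n P).mapQ (XR R n P) (pr ℳ d) (fun q hq => by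
    rw [Submodule.mem_comap, mem_XR]
    exact pr_mem_smul_top ℳ d (mem_XR.mp hq))

theorem pbar_π (d : Fin n → ℤ) (q : P) : pbar ℳ d (πR R n P q) = πR R n P (pr ℳ d q) :=
  Submodule.mapQ_apply _ _ _ _

/-- the degree `d` piece of `P / I P` -/
noncomputable def Md (d : Fin n → ℤ) : Submodule R (P0 R n P) := (ℳ d).map (πR R n P)

theorem pbar_mem (d : Fin n → ℤ) (x : P0 R n P) : pbar ℳ d x ∈ Md ℳ d := by
  obtain ⟨q, rfl⟩ := πR_surjective x
  rw [pbar_π]
  exact Submodule.mem_map_of_mem (pr_mem ℳ d q)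

theorem pbar_of_mem_same {d : Fin n → ℤ} {x : P0 R n P} (hx : x ∈ Md ℳ d) : pbar ℳ d x = x := by
  obtain ⟨q, hq, rfl⟩ := hx
  rw [pbar_π, pr_of_mem_same ℳ hq]

theorem pbar_of_mem_ne {d e : Fin n → ℤ} {x : P0 R n P} (hx : x ∈ Md ℳ e) (h : e ≠ d) :
    pbar ℳ d x = 0 := by
  obtain ⟨q, hq, rfl⟩ := hx
  rw [pbar_π, pr_of_mem_ne ℳ hq h, map_zero]

/-- corestriction of `pbar` -/
noncomputable def pcod (d : Fin n → ℤ) : P0 R n P →ₗ[R] ↥(Md ℳ d) :=
  LinearMap.codRestrict (Md ℳ d) (pbar ℳ d) (pbar_mem ℳ d)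

theorem pcod_subtype (d : Fin n → ℤ) (x : ↥(Md ℳ d)) : pcod ℳ d (x : P0 R n P) = x :=
  Subtype.ext (pbar_of_mem_same ℳ x.2)

instance finite_Md [Module.Finite (MvPolynomial (Fin n) R) P] (d : Fin n → ℤ) :
    Module.Finite R ↥(Md ℳ d) := by
  haveI := finite_P0 (R := R) (n := n) (P := P)
  exact Module.Finite.of_surjective (pcod ℳ d) (fun x => ⟨x, pcod_subtype ℳ d x⟩)

instance projective_Md [Module.Projective (MvPolynomial (Fin n) R) P] (d : Fin n → ℤ) :
    Module.Projective R ↥(Md ℳ d) := by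
  haveI := projective_P0 (R := R) (n := n) (P := P)
  exact Module.Projective.of_split (Md ℳ d).subtype (pcod ℳ d)
    (LinearMap.ext fun x => pcod_subtype ℳ d x)

/-- the restriction of the quotient map to degree `d` -/
noncomputable def πd (d : Fin n → ℤ) : ↥(ℳ d) →ₗ[R] ↥(Md ℳ d) :=
  LinearMap.codRestrict (Md ℳ d) ((πR R n P).domRestrict (ℳ d))
    (fun x => Submodule.mem_map_of_mem x.2)

theorem πd_surjective (d : Fin n → ℤ) : Function.Surjective (πd ℳ d) := by
  rintro ⟨x, q, hq, rfl⟩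
  exact ⟨⟨q, hq⟩, rfl⟩

theorem exists_section [Module.Projective (MvPolynomial (Fin n) R) P] (d : Fin n → ℤ) :
    ∃ s : ↥(Md ℳ d) →ₗ[R] ↥(ℳ d), ∀ x, πd ℳ d (s x) = x := by
  obtain ⟨s, hs⟩ := Module.projective_lifting_property (πd ℳ d) LinearMap.id (πd_surjective ℳ d)
  exact ⟨s, fun x => LinearMap.congr_fun hs x⟩

end Gr

end Groth.Agent.Lib.Helper24GrProj
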