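import Mathlib
import Groth.Agent.Lib.Helper24GrProjC
import Groth.Agent.Lib.Helper24GrProjD

set_option autoImplicit false
set_option backward.isDefEq.respectTransparency.types false
set_option maxHeartbeats 4000000
set_option synthInstance.maxHeartbeats 400000
universe u v

namespace Groth.Agent.Lib.Helper24GrProj

open MvPolynomial TensorProduct

section Gr

variable {R : Type u} [CommRing R] {n : ℕ}
  {P : Type v} [AddCommGroup P] [Module (MvPolynomial (Fin n) R) P] [Module R P]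
  [IsScalarTower R (MvPolynomial (Fin n) R) P]
  (ℳ : (Fin n → ℤ) → Submodule R P) [DirectSum.Decomposition ℳ]
  [SetLike.GradedSMul (weightedHomogeneousSubmodule R (wt n)) ℳ]

theorem exists_degrees [Module.Finite (MvPolynomial (Fin n) R) P] :
    ∃ D : Finset (Fin n → ℤ), ∀ x : P0 R n P, ∑ d ∈ D, pbar ℳ d x = x := by
  classical
  obtain ⟨G, hG⟩ := (Module.Finite.fg_top : (⊤ : Submodule (MvPolynomial (Fin n) R) P).FG)
  choose Dg hDg0 hDg using fun g : P => sum_pr' ℳ g
  refine ⟨G.biUnion Dg, fun x => ?_⟩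
  obtain ⟨q, rfl⟩ := πR_surjective x
  have hq : q ∈ Submodule.span (MvPolynomial (Fin n) R) (G : Set P) := by rw [hG]; trivial
  induction hq using Submodule.span_induction with
  | mem g hg =>
    simp_rw [pbar_π]
    rw [← map_sum]
    congr 1
    rw [← Finset.sum_subset (Finset.subset_biUnion_of_mem Dg hg) (fun d _ hd => hDg0 g d hd)]
    exact hDg g
  | zero => simp
  | add x y _ _ hx hy => simp_rw [map_add]; rw [Finset.sum_add_distrib, hx, hy]
  | smul a x _ hx => simp_rw [πR_smul, map_smul]; rw [← Finset.smul_sum, hx]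

variable (sec : ∀ d, ↥(Md ℳ d) →ₗ[R] ↥(ℳ d)) (hsec : ∀ d x, πd ℳ d (sec d x) = x)
  (D : Finset (Fin n → ℤ)) (hD : ∀ x : P0 R n P, ∑ d ∈ D, pbar ℳ d x = x)

/-- the graded section -/
noncomputable def sig : P0 R n P →ₗ[R] P :=
  ∑ d ∈ D, (ℳ d).subtype ∘ₗ sec d ∘ₗ pcod ℳ d

theorem sig_apply (x : P0 R n P) : sig ℳ sec D x = ∑ d ∈ D, (sec d (pcod ℳ d x) : P) := by
  simp [sig, LinearMap.sum_apply]

include hsec in
theorem π_sec (d : Fin n → ℤ) (y : ↥(Md ℳ d)) : πR R n P (sec d y : P) = y := by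
  have := congrArg Subtype.val (hsec d y)
  exact this

include hsec hD in
theorem π_sig (x : P0 R n P) : πR R n P (sig ℳ sec D x) = x := by
  rw [sig_apply, map_sum]
  conv_rhs => rw [← hD x]
  refine Finset.sum_congr rfl fun d _ => ?_
  rw [π_sec ℳ sec hsec]
  rfl

theorem sig_of_mem {d : Fin n → ℤ} (hd : d ∈ D) {x : P0 R n P} (hx : x ∈ Md ℳ d) :
    sig ℳ sec D x = (sec d ⟨x, hx⟩ : P) := by
  classical
  rw [sig_apply, Finset.sum_eq_single_of_mem d hd]
  · congr 2
    exact Subtype.ext (pbar_of_mem_same ℳ hx)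
  · intro e _ hed
    have : pcod ℳ e x = 0 := Subtype.ext (pbar_of_mem_ne ℳ hx (Ne.symm hed))
    rw [this, map_zero]; rfl

theorem sig_mem {d : Fin n → ℤ} (hd : d ∈ D) {x : P0 R n P} (hx : x ∈ Md ℳ d) :
    sig ℳ sec D x ∈ ℳ d := by
  rw [sig_of_mem ℳ sec D hd hx]; exact (sec d ⟨x, hx⟩).2

/-- the homogeneous lifts -/
def HH : Set P := {h | ∃ d ∈ D, ∃ x ∈ Md ℳ d, sig ℳ sec D x = h}

include hD in
theorem sig_mem_span (x : P0 R n P) :
    sig ℳ sec D x ∈ Submodule.span (MvPolynomial (Fin n) R) (HH ℳ sec D) := by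
  have h : sig ℳ sec D x = ∑ d ∈ D, sig ℳ sec D (pbar ℳ d x) := by
    rw [← map_sum, hD x]
  rw [h]
  exact Submodule.sum_mem _ fun d hd => Submodule.subset_span ⟨d, hd, _, pbar_mem ℳ d x, rfl⟩

include hsec hD in
theorem span_HH [Module.Finite (MvPolynomial (Fin n) R) P] :
    Submodule.span (MvPolynomial (Fin n) R) (HH ℳ sec D) = ⊤ := by
  classical
  set N := Submodule.span (MvPolynomial (Fin n) R) (HH ℳ sec D) with hN
  -- P = N + I P
  have h1 : ∀ q : P, q ∈ N ⊔ (II R n • ⊤ : Submodule (MvPolynomial (Fin n) R) P) := by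
    intro q
    have : q = sig ℳ sec D (πR R n P q) + (q - sig ℳ sec D (πR R n P q)) := by abel
    rw [this]
    refine Submodule.add_mem_sup (sig_mem_span ℳ sec D hD _) ?_
    rw [← πR_eq_zero, map_sub, π_sig ℳ sec hsec D hD, sub_self]
  -- Nakayama on P / N
  have h2 : (⊤ : Submodule (MvPolynomial (Fin n) R) (P ⧸ N)) ≤ II R n • ⊤ := by
    rintro y -
    obtain ⟨q, rfl⟩ := Submodule.mkQ_surjective N y
    obtain ⟨a, ha, b, hb, rfl⟩ := Submodule.mem_sup.mp (h1 q)
    rw [map_add, (Submodule.mkQ_apply N a).trans ((Submodule.Quotient.mk_eq_zero N).mpr ha), zero_add]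
    have : N.mkQ b ∈ Submodule.map N.mkQ (II R n • ⊤ : Submodule (MvPolynomial (Fin n) R) P) :=
      Submodule.mem_map_of_mem hb
    rw [Submodule.map_smul''] at this
    exact Submodule.smul_mono le_rfl le_top this
  obtain ⟨a, ha1, ha2⟩ := Submodule.exists_sub_one_mem_and_smul_eq_zero_of_fg_of_le_smul
    (II R n) (⊤ : Submodule (MvPolynomial (Fin n) R) (P ⧸ N)) Module.Finite.fg_top h2
  have hcc : constantCoeff a = 1 := by
    have : constantCoeff (a - 1) = 0 := ha1
    rw [map_sub, map_one, sub_eq_zero] at this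
    exact this
  have h3 : ∀ q : P, a • q ∈ N := by
    intro q
    have := ha2 (N.mkQ q) trivial
    rw [← map_smul] at this
    exact (Submodule.Quotient.mk_eq_zero N).mp this
  have hH : ∀ h ∈ HH ℳ sec D, ∃ e, h ∈ ℳ e := by
    rintro h ⟨d, hd, x, hx, rfl⟩
    exact ⟨d, sig_mem ℳ sec D hd hx⟩
  -- homogeneous elements lie in N
  have h4 : ∀ d, ∀ q ∈ ℳ d, q ∈ N := by
    intro d q hq
    have := pr_mem_span ℳ hH (h3 q) d
    rwa [pr_smul_same ℳ a hq, hcc, one_smul] at this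
  rw [eq_top_iff]
  rintro q -
  obtain ⟨Dq, -, hDq⟩ := sum_pr' ℳ q
  rw [← hDq]
  exact Submodule.sum_mem _ fun d _ => h4 d _ (pr_mem ℳ d q)

end Gr

end Groth.Agent.Lib.Helper24GrProj
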