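import Mathlib
import Groth.Agent.Lib.Helper24GrProjE

set_option autoImplicit false
set_option backward.isDefEq.respectTransparency.types false
set_option maxHeartbeats 4000000
set_option synthInstance.maxHeartbeats 400000
universe u v

namespace Groth.Agent.Lib.Helper24GrProj

open MvPolynomial TensorProduct

section Gr

variable {R : Type u} [CommRing R] {n : ℕ}
  {P : Type v} [AddCommGroup P] [Module (MvPolynomial (Fin n) R) P] [Module R P]
  [IsScalarTower R (MvPolynomial (Fin n) R) P]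
  (ℳ : (Fin n → ℤ) → Submodule R P) [DirectSum.Decomposition ℳ]
  [SetLike.GradedSMul (weightedHomogeneousSubmodule R (wt n)) ℳ]
  (sec : ∀ d, ↥(Md ℳ d) →ₗ[R] ↥(ℳ d)) (hsec : ∀ d x, πd ℳ d (sec d x) = x)
  (D : Finset (Fin n → ℤ)) (hD : ∀ x : P0 R n P, ∑ d ∈ D, pbar ℳ d x = x)

/-- the comparison map `A ⊗ P/IP → P` -/
noncomputable def Phi :
    (MvPolynomial (Fin n) R) ⊗[R] (P0 R n P) →ₗ[MvPolynomial (Fin n) R] P :=
  LinearMap.liftBaseChange _ (sig ℳ sec D)

theorem Phi_tmul (a : MvPolynomial (Fin n) R) (x : P0 R n P) :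
    Phi ℳ sec D (a ⊗ₜ x) = a • sig ℳ sec D x := rfl

include hsec hD in
theorem Phi_surjective [Module.Finite (MvPolynomial (Fin n) R) P] :
    Function.Surjective (Phi ℳ sec D) := by
  rw [← LinearMap.range_eq_top, Phi, LinearMap.range_liftBaseChange, eq_top_iff,
    ← span_HH ℳ sec hsec D hD]
  apply Submodule.span_mono
  rintro h ⟨d, _, x, _, rfl⟩
  exact ⟨x, rfl⟩

/-- the augmentation `A ⊗ P/IP → P/IP` -/
noncomputable def eps : (MvPolynomial (Fin n) R) ⊗[R] (P0 R n P) →ₗ[R] P0 R n P :=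
  TensorProduct.lift ((LinearMap.lsmul R (P0 R n P)) ∘ₗ ccL)

theorem eps_tmul (a : MvPolynomial (Fin n) R) (x : P0 R n P) :
    eps (a ⊗ₜ x) = constantCoeff a • x := by
  simp [eps]

include hsec hD in
theorem π_Phi (t : (MvPolynomial (Fin n) R) ⊗[R] (P0 R n P)) :
    πR R n P (Phi ℳ sec D t) = eps t := by
  induction t using TensorProduct.induction_on with
  | zero => simp
  | tmul a x => rw [Phi_tmul, πR_smul, π_sig ℳ sec hsec D hD, eps_tmul]
  | add x y hx hy => rw [map_add, map_add, map_add, hx, hy]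

theorem sub_mem (t : (MvPolynomial (Fin n) R) ⊗[R] (P0 R n P)) :
    t - (1 : MvPolynomial (Fin n) R) ⊗ₜ[R] eps t ∈
      (II R n • ⊤ : Submodule (MvPolynomial (Fin n) R) ((MvPolynomial (Fin n) R) ⊗[R] (P0 R n P))) := by
  induction t using TensorProduct.induction_on with
  | zero => simp
  | tmul a x =>
    have : a ⊗ₜ[R] x - (1 : MvPolynomial (Fin n) R) ⊗ₜ[R] eps (a ⊗ₜ[R] x) =
        (a - C (constantCoeff a)) • ((1 : MvPolynomial (Fin n) R) ⊗ₜ[R] x) := by
      rw [eps_tmul, TensorProduct.tmul_smul, TensorProduct.smul_tmul', TensorProduct.smul_tmul',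
        smul_eq_mul, mul_one, ← TensorProduct.sub_tmul]
      congr 2
      rw [smul_eq_C_mul, mul_one]
    rw [this]
    apply Submodule.smul_mem_smul _ Submodule.mem_top
    rw [RingHom.mem_ker, map_sub, constantCoeff_C, sub_self]
  | add x y hx hy =>
    have : x + y - (1 : MvPolynomial (Fin n) R) ⊗ₜ[R] eps (x + y) =
        (x - (1 : MvPolynomial (Fin n) R) ⊗ₜ[R] eps x) + (y - (1 : MvPolynomial (Fin n) R) ⊗ₜ[R] eps y) := by
      rw [map_add, TensorProduct.tmul_add]; abel
    rw [this]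
    exact Submodule.add_mem _ hx hy

include hsec hD in
theorem Phi_injective [Module.Finite (MvPolynomial (Fin n) R) P]
    [Module.Projective (MvPolynomial (Fin n) R) P] :
    Function.Injective (Phi ℳ sec D) := by
  haveI := finite_P0 (R := R) (n := n) (P := P)
  haveI := projective_P0 (R := R) (n := n) (P := P)
  set Φ := Phi ℳ sec D with hΦ
  obtain ⟨τ, hτ⟩ := Module.projective_lifting_property Φ LinearMap.id
    (Phi_surjective ℳ sec hsec D hD)
  set Ψ : (MvPolynomial (Fin n) R) ⊗[R] (P0 R n P) →ₗ[MvPolynomial (Fin n) R]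
      (MvPolynomial (Fin n) R) ⊗[R] (P0 R n P) := LinearMap.id - τ ∘ₗ Φ with hΨ
  have hΨK : ∀ t, Φ (Ψ t) = 0 := by
    intro t
    have := LinearMap.congr_fun hτ (Φ t)
    simp only [LinearMap.comp_apply, LinearMap.id_apply] at this
    simp [hΨ, this]
  have hΨid : ∀ k, Φ k = 0 → Ψ k = k := by
    intro k hk
    simp [hΨ, hk]
  set K := LinearMap.ker Φ with hK
  have hKr : K = LinearMap.range Ψ := by
    apply le_antisymm
    · intro k hk
      exact ⟨k, hΨid k hk⟩
    · rintro _ ⟨t, rfl⟩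
      exact hΨK t
  have hKfg : K.FG := by
    rw [hKr, LinearMap.range_eq_map]
    exact Submodule.FG.map _ Module.Finite.fg_top
  have hKle : K ≤ II R n • K := by
    intro k hk
    have hk0 : Φ k = 0 := hk
    have h1 : k ∈ (II R n • ⊤ : Submodule (MvPolynomial (Fin n) R)
        ((MvPolynomial (Fin n) R) ⊗[R] (P0 R n P))) := by
      have := sub_mem (R := R) (n := n) (P := P) k
      rwa [← π_Phi ℳ sec hsec D hD, ← hΦ, hk0, map_zero, TensorProduct.tmul_zero, sub_zero] at this
    have h2 : Ψ k ∈ Submodule.map Ψ (II R n • ⊤ : Submodule (MvPolynomial (Fin n) R)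
        ((MvPolynomial (Fin n) R) ⊗[R] (P0 R n P))) := Submodule.mem_map_of_mem h1
    rw [Submodule.map_smul'', hΨid k hk0] at h2
    refine Submodule.smul_mono le_rfl ?_ h2
    rw [hKr, LinearMap.range_eq_map]
  obtain ⟨a, ha1, ha2⟩ := Submodule.exists_sub_one_mem_and_smul_eq_zero_of_fg_of_le_smul
    (II R n) K hKfg hKle
  have hcc : constantCoeff a = 1 := by
    have : constantCoeff (a - 1) = 0 := ha1
    rw [map_sub, map_one, sub_eq_zero] at this
    exact this
  have hnzd : a ∈ nonZeroDivisors (MvPolynomial (Fin n) R) := by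
    rw [mem_nonZeroDivisors_iff]
    refine ⟨fun x hx => mul_eq_zero_of_constantCoeff_one a x hcc hx, fun x hx => ?_⟩
    rw [mul_comm] at hx
    exact mul_eq_zero_of_constantCoeff_one a x hcc hx
  have hreg : IsSMulRegular ((MvPolynomial (Fin n) R) ⊗[R] (P0 R n P)) a :=
    Module.Flat.isSMulRegular_of_nonZeroDivisors
      (M := (MvPolynomial (Fin n) R) ⊗[R] (P0 R n P)) hnzd
  rw [← LinearMap.ker_eq_bot, eq_bot_iff]
  intro k hk
  have := ha2 k hk
  rw [Submodule.mem_bot]
  apply hreg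
  change a • k = a • 0
  rw [this, smul_zero]

end Gr

end Groth.Agent.Lib.Helper24GrProj
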