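import Mathlib
import Groth.Agent.Lib.Helper24GrProjF

set_option autoImplicit false
set_option backward.isDefEq.respectTransparency.types false
set_option maxHeartbeats 4000000
set_option synthInstance.maxHeartbeats 400000
universe u v

namespace Groth.Agent.Lib.Helper24GrProj

open MvPolynomial TensorProduct

theorem pow_mul_eq_zero_of_le {R : Type*} [CommRing R] {r b : R} {N N' : ℕ}
    (h : r ^ N * b = 0) (hN : N ≤ N') : r ^ N' * b = 0 := by
  obtain ⟨k, rfl⟩ := Nat.exists_eq_add_of_le hN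
  rw [pow_add, mul_comm (r ^ N), mul_assoc, h, mul_zero]

section Gr

variable {R : Type u} [CommRing R] {n : ℕ}
  {P : Type v} [AddCommGroup P] [Module (MvPolynomial (Fin n) R) P] [Module R P]
  [IsScalarTower R (MvPolynomial (Fin n) R) P]
  (ℳ : (Fin n → ℤ) → Submodule R P) [DirectSum.Decomposition ℳ]
  [SetLike.GradedSMul (weightedHomogeneousSubmodule R (wt n)) ℳ]

/-- coefficient extraction on `A ⊗ M` -/
noncomputable def Lmu (μ : Fin n →₀ ℕ) :
    (MvPolynomial (Fin n) R) ⊗[R] (P0 R n P) →ₗ[R] P0 R n P :=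
  (TensorProduct.lid R (P0 R n P)).toLinearMap ∘ₗ LinearMap.rTensor (P0 R n P) (lcoeff R μ)

theorem Lmu_tmul (μ : Fin n →₀ ℕ) (c : MvPolynomial (Fin n) R) (x : P0 R n P) :
    Lmu μ (c ⊗ₜ[R] x) = coeff μ c • x := by
  simp [Lmu, lcoeff]

theorem main [Module.Finite (MvPolynomial (Fin n) R) P]
    [Module.Projective (MvPolynomial (Fin n) R) P] (p : PrimeSpectrum R) :
    ∃ r : R, r ∉ p.asIdeal ∧ ∃ (m : ℕ) (d : Fin m → (Fin n → ℤ)) (f : Fin m → P),
      (∀ i, f i ∈ ℳ (d i)) ∧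
      (∀ q : P, ∃ (N : ℕ) (c : Fin m → MvPolynomial (Fin n) R),
        (MvPolynomial.C r : MvPolynomial (Fin n) R) ^ N • q = ∑ i, c i • f i) ∧
      (∀ c : Fin m → MvPolynomial (Fin n) R, ∑ i, c i • f i = 0 →
        ∃ N : ℕ, ∀ i, (MvPolynomial.C r : MvPolynomial (Fin n) R) ^ N * c i = 0) := by
  classical
  choose sec hsec using fun d => exists_section ℳ d
  obtain ⟨D, hD⟩ := exists_degrees ℳ
  choose rr hrr kk ee hspan hrel using
    fun d => exists_local_basis (R := R) (M := ↥(Md ℳ d)) p.asIdeal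
  set r := ∏ d ∈ D, rr d with hr_def
  have hr : r ∉ p.asIdeal := by
    rw [hr_def, Ideal.IsPrime.prod_mem_iff]
    rintro ⟨d, _, hd⟩
    exact hrr d hd
  have hdvd : ∀ d ∈ D, ∃ t, r = rr d * t := fun d hd => Finset.dvd_prod_of_mem _ hd
  have hspan' : ∀ d ∈ D, ∀ x : ↥(Md ℳ d), ∃ (N : ℕ) (b : Fin (kk d) → R),
      r ^ N • x = ∑ i, b i • ee d i := by
    intro d hd x
    obtain ⟨N, b, h⟩ := hspan d x
    obtain ⟨t, ht⟩ := hdvd d hd
    refine ⟨N, fun i => t ^ N * b i, ?_⟩
    rw [ht, mul_pow, mul_comm, mul_smul, h, Finset.smul_sum]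
    exact Finset.sum_congr rfl fun i _ => by rw [mul_smul]
  have hrel' : ∀ d ∈ D, ∀ b : Fin (kk d) → R, ∑ i, b i • ee d i = 0 →
      ∃ N : ℕ, ∀ i, r ^ N * b i = 0 := by
    intro d hd b hb
    obtain ⟨N, h⟩ := hrel d b hb
    obtain ⟨t, ht⟩ := hdvd d hd
    refine ⟨N, fun i => ?_⟩
    rw [ht, mul_pow, mul_comm (rr d ^ N), mul_assoc, h i, mul_zero]
  -- the index type
  let ι := Σ d : {d // d ∈ D}, Fin (kk d.1)
  let e : ι → P0 R n P := fun j => (ee j.1.1 j.2 : P0 R n P)
  let f : ι → P := fun j => sig ℳ sec D (e j)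
  have he : ∀ j : ι, e j ∈ Md ℳ j.1.1 := fun j => (ee j.1.1 j.2).2
  have hf : ∀ j : ι, f j ∈ ℳ j.1.1 := fun j => sig_mem ℳ sec D j.1.2 (he j)
  -- spanning in P0
  have hS0 : ∀ x : P0 R n P, ∃ (N : ℕ) (b : ι → R), r ^ N • x = ∑ j, b j • e j := by
    intro x
    rw [← hD x]
    refine Finset.sum_induction _ (fun y => ∃ (N : ℕ) (b : ι → R), r ^ N • y = ∑ j, b j • e j)
      ?_ ?_ ?_
    · rintro y z ⟨N1, b1, h1⟩ ⟨N2, b2, h2⟩
      refine ⟨N1 + N2, fun j => r ^ N2 * b1 j + r ^ N1 * b2 j, ?_⟩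
      rw [smul_add]
      nth_rewrite 1 [add_comm N1 N2]
      rw [pow_add, pow_add, mul_smul, mul_smul, h1, h2, Finset.smul_sum, Finset.smul_sum,
        ← Finset.sum_add_distrib]
      exact Finset.sum_congr rfl fun j _ => by rw [add_smul, mul_smul, mul_smul]
    · exact ⟨0, fun _ => 0, by simp⟩
    · intro d hd
      obtain ⟨N, b, h⟩ := hspan' d hd ⟨pbar ℳ d x, pbar_mem ℳ d x⟩
      have h' : r ^ N • pbar ℳ d x = ∑ i, b i • (ee d i : P0 R n P) := by
        have := congrArg Subtype.val h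
        simpa using this
      refine ⟨N, fun j => if hj : j.1.1 = d then b (hj ▸ j.2) else 0, ?_⟩
      rw [h']
      symm
      rw [Fintype.sum_sigma, Finset.sum_eq_single (⟨d, hd⟩ : {d // d ∈ D})]
      · simp [e]
      · intro d' _ hd'
        apply Finset.sum_eq_zero
        intro i _
        have : d'.1 ≠ d := fun h => hd' (Subtype.ext h)
        simp [this]
      · intro h; exact absurd (Finset.mem_univ _) h
  -- relations in P0
  have hR0 : ∀ b : ι → R, ∑ j, b j • e j = 0 → ∃ N : ℕ, ∀ j, r ^ N * b j = 0 := by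
    intro b hb
    have h1 : ∀ d0 : {d // d ∈ D}, ∃ N : ℕ, ∀ i, r ^ N * b ⟨d0, i⟩ = 0 := by
      intro d0
      apply hrel' d0.1 d0.2
      apply Subtype.ext
      have h2 := congrArg (pbar ℳ d0.1) hb
      rw [map_sum, map_zero, Fintype.sum_sigma, Finset.sum_eq_single d0] at h2
      · rw [Submodule.coe_sum, Submodule.coe_zero, ← h2]
        refine Finset.sum_congr rfl fun i _ => ?_
        rw [map_smul, pbar_of_mem_same ℳ (he ⟨d0, i⟩)]
        rfl
      · intro d' _ hd'
        apply Finset.sum_eq_zero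
        intro i _
        have : d'.1 ≠ d0.1 := fun h => hd' (Subtype.ext h)
        rw [map_smul, pbar_of_mem_ne ℳ (he ⟨d', i⟩) this, smul_zero]
      · intro h; exact absurd (Finset.mem_univ _) h
    choose N hN using h1
    refine ⟨∑ d0, N d0, fun j => ?_⟩
    exact pow_mul_eq_zero_of_le (hN j.1 j.2)
      (Finset.single_le_sum (fun _ _ => Nat.zero_le _) (Finset.mem_univ j.1))
  -- spanning in P
  have hS : ∀ q : P, ∃ (N : ℕ) (c : ι → MvPolynomial (Fin n) R),
      (C r : MvPolynomial (Fin n) R) ^ N • q = ∑ j, c j • f j := by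
    intro q
    have hq : q ∈ Submodule.span (MvPolynomial (Fin n) R) (HH ℳ sec D) := by
      rw [span_HH ℳ sec hsec D hD]; trivial
    induction hq using Submodule.span_induction with
    | mem h hh =>
      obtain ⟨d, _, x, _, rfl⟩ := hh
      obtain ⟨N, b, hb⟩ := hS0 x
      refine ⟨N, fun j => C (b j), ?_⟩
      rw [← C_pow, C_smul', ← map_smul, hb, map_sum]
      exact Finset.sum_congr rfl fun j _ => by rw [map_smul, C_smul']
    | zero => exact ⟨0, fun _ => 0, by simp⟩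
    | add y z _ _ hy hz =>
      obtain ⟨N1, c1, h1⟩ := hy
      obtain ⟨N2, c2, h2⟩ := hz
      refine ⟨N1 + N2, fun j => C r ^ N2 * c1 j + C r ^ N1 * c2 j, ?_⟩
      rw [smul_add]
      nth_rewrite 1 [add_comm N1 N2]
      rw [pow_add, pow_add, mul_smul, mul_smul, h1, h2, Finset.smul_sum, Finset.smul_sum,
        ← Finset.sum_add_distrib]
      exact Finset.sum_congr rfl fun j _ => by rw [add_smul, mul_smul, mul_smul]
    | smul a y _ hy =>
      obtain ⟨N, c, h⟩ := hy
      refine ⟨N, fun j => a * c j, ?_⟩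
      rw [smul_comm, h, Finset.smul_sum]
      exact Finset.sum_congr rfl fun j _ => by rw [mul_smul]
  -- relations in P
  have hRel : ∀ c : ι → MvPolynomial (Fin n) R, ∑ j, c j • f j = 0 →
      ∃ N : ℕ, ∀ j, (C r : MvPolynomial (Fin n) R) ^ N * c j = 0 := by
    intro c hc
    have h1 : ∑ j, c j ⊗ₜ[R] e j = (0 : (MvPolynomial (Fin n) R) ⊗[R] (P0 R n P)) := by
      apply Phi_injective ℳ sec hsec D hD
      rw [map_sum, map_zero, ← hc]
      exact Finset.sum_congr rfl fun j _ => Phi_tmul ℳ sec D _ _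
    have h2 : ∀ μ : Fin n →₀ ℕ, ∃ N : ℕ, ∀ j, r ^ N * coeff μ (c j) = 0 := by
      intro μ
      apply hR0
      have := congrArg (Lmu (R := R) (n := n) (P := P) μ) h1
      rw [map_sum, map_zero] at this
      rw [← this]
      exact Finset.sum_congr rfl fun j _ => (Lmu_tmul μ _ _).symm
    choose Nμ hNμ using h2
    let U : Finset (Fin n →₀ ℕ) := Finset.univ.biUnion fun j => (c j).support
    refine ⟨∑ μ ∈ U, Nμ μ, fun j => ?_⟩
    ext μ
    rw [← C_pow, coeff_C_mul, coeff_zero]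
    by_cases hμ : μ ∈ U
    · exact pow_mul_eq_zero_of_le (hNμ μ j) (Finset.single_le_sum (fun _ _ => Nat.zero_le _) hμ)
    · have : coeff μ (c j) = 0 := by
        by_contra h
        apply hμ
        exact Finset.mem_biUnion.mpr ⟨j, Finset.mem_univ j, mem_support_iff.mpr h⟩
      rw [this, mul_zero]
  -- reindex
  let eqv := Fintype.equivFin ι
  refine ⟨r, hr, Fintype.card ι, fun k => (eqv.symm k).1.1, fun k => f (eqv.symm k),
    fun k => hf _, fun q => ?_, fun c' hc' => ?_⟩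
  · obtain ⟨N, c, h⟩ := hS q
    refine ⟨N, fun k => c (eqv.symm k), ?_⟩
    rw [h]
    exact (Equiv.sum_comp eqv.symm (fun j => c j • f j)).symm
  · have h1 : ∑ j, c' (eqv j) • f j = 0 := by
      rw [← hc', ← Equiv.sum_comp eqv (fun k => c' k • f (eqv.symm k))]
      exact Finset.sum_congr rfl fun j _ => by rw [Equiv.symm_apply_apply]
    obtain ⟨N, hN⟩ := hRel (fun j => c' (eqv j)) h1
    refine ⟨N, fun k => ?_⟩
    have := hN (eqv.symm k)
    simpa using this

end Gr

end Groth.Agent.Lib.Helper24GrProj
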