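import Mathlib

set_option autoImplicit false
universe u v

namespace Groth.Agent.Lib.Helper24GrSN

open Module DirectSum

section
variable {k : Type u} [Field k] {V W : Type v} [AddCommGroup V] [Module k V]
  [AddCommGroup W] [Module k W]

/-- projection onto the `i`-th graded piece, as an endomorphism -/
noncomputable def proj (𝒱 : ℤ → Submodule k V) [Decomposition 𝒱] (i : ℤ) : V →ₗ[k] V where
  toFun v := (decompose 𝒱 v i : V)
  map_add' a b := by rw [decompose_add, DirectSum.add_apply, Submodule.coe_add]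
  map_smul' c a := by rw [decompose_smul, DirectSum.smul_apply, Submodule.coe_smul]; rfl

theorem proj_apply (𝒱 : ℤ → Submodule k V) [Decomposition 𝒱] (i : ℤ) (v : V) :
    proj 𝒱 i v = (decompose 𝒱 v i : V) := rfl

theorem exists_homog_ne_zero (𝒱 : ℤ → Submodule k V) [Decomposition 𝒱] [Nontrivial V] :
    ∃ (i : ℤ) (x : V), x ∈ 𝒱 i ∧ x ≠ 0 := by
  classical
  by_contra h
  push Not at h
  obtain ⟨v, hv⟩ := exists_ne (0 : V)
  apply hv
  rw [← sum_support_decompose 𝒱 v]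
  exact Finset.sum_eq_zero (fun i _ => h i _ (SetLike.coe_mem _))

theorem exists_graded_dual (𝒱 : ℤ → Submodule k V) [Decomposition 𝒱] (i : ℤ) (x : V)
    (hx : x ∈ 𝒱 i) (hx0 : x ≠ 0) :
    ∃ lam : V →ₗ[k] k, lam x = 1 ∧ ∀ l, l ≠ i → ∀ v ∈ 𝒱 l, lam v = 0 := by
  obtain ⟨μ, hμ⟩ := Module.Projective.exists_dual_ne_zero k hx0
  refine ⟨(μ x)⁻¹ • (μ ∘ₗ proj 𝒱 i), ?_, ?_⟩
  · simp [proj_apply, decompose_of_mem_same 𝒱 hx, hμ]
  · intro l hl v hv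
    simp [proj_apply, decompose_of_mem_ne 𝒱 hv hl]

theorem exists_shift (𝒱 : ℤ → Submodule k V) (𝒲 : ℤ → Submodule k W) [Decomposition 𝒱]
    [Decomposition 𝒲] [Nontrivial V] (g : V ≃ₗ[k] W)
    (hφ : ∀ (d : ℤ) (f : Module.End k V), (∀ (i : ℤ) (x : V), x ∈ 𝒱 i → f x ∈ 𝒱 (i + d)) →
      ∀ (i : ℤ) (y : W), y ∈ 𝒲 i → g (f (g.symm y)) ∈ 𝒲 (i + d)) :
    ∃ n : ℤ, ∀ j, ∀ y ∈ 𝒱 j, g y ∈ 𝒲 (j + n) := by
  classical
  obtain ⟨i, x, hx, hx0⟩ := exists_homog_ne_zero 𝒱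
  obtain ⟨lam, hlx, hl0⟩ := exists_graded_dual 𝒱 i x hx hx0
  have hsum : ∑ l ∈ (decompose 𝒲 (g x)).support,
      lam (g.symm (decompose 𝒲 (g x) l : W)) = 1 := by
    have h := congrArg (fun w => lam (g.symm w)) (sum_support_decompose 𝒲 (g x))
    simp only [map_sum, LinearEquiv.symm_apply_apply, hlx] at h
    exact h
  obtain ⟨l₀, _, hc⟩ := Finset.exists_ne_zero_of_sum_ne_zero (by rw [hsum]; exact one_ne_zero)
  refine ⟨l₀ - i, fun j y hy => ?_⟩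
  have hdeg := hφ (j - i) (lam.smulRight y) (by
    intro l v hv
    rw [LinearMap.smulRight_apply]
    by_cases hl : l = i
    · subst hl
      have e : l + (j - l) = j := by ring
      rw [e]
      exact Submodule.smul_mem _ _ hy
    · rw [hl0 l hl v hv, zero_smul]
      exact zero_mem _) l₀ (decompose 𝒲 (g x) l₀ : W) (SetLike.coe_mem _)
  rw [LinearMap.smulRight_apply, map_smul] at hdeg
  have h2 : g y ∈ 𝒲 (l₀ + (j - i)) := (Submodule.smul_mem_iff _ hc).1 hdeg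
  have e : j + (l₀ - i) = l₀ + (j - i) := by ring
  rw [e]
  exact h2

theorem decompose_map (𝒱 : ℤ → Submodule k V) (𝒲 : ℤ → Submodule k W) [Decomposition 𝒱]
    [Decomposition 𝒲] (g : V ≃ₗ[k] W) (n : ℤ) (hg : ∀ j, ∀ y ∈ 𝒱 j, g y ∈ 𝒲 (j + n))
    (v : V) (l : ℤ) :
    (decompose 𝒲 (g v) (l + n) : W) = g (decompose 𝒱 v l : V) := by
  refine DirectSum.Decomposition.inductionOn 𝒱
    (motive := fun v => (decompose 𝒲 (g v) (l + n) : W) = g (decompose 𝒱 v l : V)) ?_ ?_ ?_ v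
  · simp
  · intro l' m
    by_cases h : l' = l
    · subst h
      rw [decompose_of_mem_same 𝒲 (hg l' m m.2), decompose_of_mem_same 𝒱 m.2]
    · have h' : l' + n ≠ l + n := fun e => h (by omega)
      rw [decompose_of_mem_ne 𝒲 (hg l' m m.2) h', decompose_of_mem_ne 𝒱 m.2 h, map_zero]
  · intro a b ha hb
    rw [map_add, decompose_add, decompose_add, DirectSum.add_apply, DirectSum.add_apply,
      Submodule.coe_add, Submodule.coe_add, map_add, ha, hb]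

theorem map_eq (𝒱 : ℤ → Submodule k V) (𝒲 : ℤ → Submodule k W) [Decomposition 𝒱]
    [Decomposition 𝒲] (g : V ≃ₗ[k] W) (n : ℤ) (hg : ∀ j, ∀ y ∈ 𝒱 j, g y ∈ 𝒲 (j + n)) (j : ℤ) :
    Submodule.map (g : V →ₗ[k] W) (𝒱 j) = 𝒲 (j + n) := by
  ext w
  rw [Submodule.mem_map]
  constructor
  · rintro ⟨y, hy, rfl⟩
    exact hg j y hy
  · intro hw
    refine ⟨(decompose 𝒱 (g.symm w) j : V), SetLike.coe_mem _, ?_⟩
    rw [LinearEquiv.coe_coe, ← decompose_map 𝒱 𝒲 g n hg, LinearEquiv.apply_symm_apply,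
      decompose_of_mem_same 𝒲 hw]

end

theorem s13846 (k : Type u) [Field k] (V W : Type v) [AddCommGroup V] [Module k V] [FiniteDimensional k V] [Nontrivial V] [AddCommGroup W] [Module k W] [FiniteDimensional k W] (𝒱 : ℤ → Submodule k V) (h𝒱 : DirectSum.IsInternal 𝒱) (𝒲 : ℤ → Submodule k W) (h𝒲 : DirectSum.IsInternal 𝒲) (φ : Module.End k V ≃ₐ[k] Module.End k W) (hφ : ∀ (d : ℤ) (f : Module.End k V), (∀ (i : ℤ) (x : V), x ∈ 𝒱 i → f x ∈ 𝒱 (i + d)) → ∀ (i : ℤ) (y : W), y ∈ 𝒲 i → φ f y ∈ 𝒲 (i + d)) : ∃ (n : ℤ) (g : V ≃ₗ[k] W), (∀ i : ℤ, Submodule.map (g : V →ₗ[k] W) (𝒱 i) = 𝒲 (i + n)) ∧ (∀ f : Module.End k V, φ f = (g : V →ₗ[k] W) ∘ₗ f ∘ₗ (g.symm : W →ₗ[k] V)) ∧ ∀ (n' : ℤ) (g' : V ≃ₗ[k] W), (∀ i : ℤ, Submodule.map (g' : V →ₗ[k] W) (𝒱 i) = 𝒲 (i + n')) → (∀ f : Module.End k V, φ f = (g' : V →ₗ[k] W) ∘ₗ f ∘ₗ (g'.symm : W →ₗ[k] V)) → n' = n ∧ ∃ c : kˣ, ∀ x : V, g' x = c • g x := by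
  classical
  letI := h𝒱.chooseDecomposition
  letI := h𝒲.chooseDecomposition
  obtain ⟨g, hg⟩ := φ.eq_linearEquivConjAlgEquiv
  have hφg : ∀ f : Module.End k V,
      φ f = (g : V →ₗ[k] W) ∘ₗ f ∘ₗ (g.symm : W →ₗ[k] V) := by
    intro f
    rw [hg]
    rfl
  obtain ⟨n, hn⟩ := exists_shift 𝒱 𝒲 g (by
    intro d f hf i y hy
    have h := hφ d f hf i y hy
    rw [hφg] at h
    exact h)
  refine ⟨n, g, map_eq 𝒱 𝒲 g n hn, hφg, ?_⟩
  intro n' g' hmap' hφg'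
  have hconj : g'.conjAlgEquiv k = g.conjAlgEquiv k := by
    apply AlgEquiv.ext
    intro f
    rw [LinearEquiv.conjAlgEquiv_apply, LinearEquiv.conjAlgEquiv_apply]
    exact (hφg' f).symm.trans (hφg f)
  obtain ⟨α, hα⟩ := LinearEquiv.conjAlgEquiv_ext_iff.1 hconj
  have hα' : ∀ x : V, g' x = α • g x := fun x => congrFun hα x
  obtain ⟨i, x, hx, hx0⟩ := exists_homog_ne_zero 𝒱
  have hα0 : α ≠ 0 := by
    rintro rfl
    have h0 : g' x = 0 := by rw [hα' x, zero_smul]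
    exact hx0 (by simpa using h0)
  refine ⟨?_, Units.mk0 α hα0, fun y => by rw [Units.smul_mk0]; exact hα' y⟩
  have h1 : g' x ∈ 𝒲 (i + n') := by
    rw [← hmap' i]
    exact Submodule.mem_map_of_mem hx
  have h2 : g' x ∈ 𝒲 (i + n) := by
    rw [hα' x]
    exact Submodule.smul_mem _ _ (hn i x hx)
  by_contra hne
  have hne' : i + n' ≠ i + n := fun e => hne (by omega)
  have h3 : g' x = 0 := by
    rw [← decompose_of_mem_same 𝒲 h2, decompose_of_mem_ne 𝒲 h1 hne']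
  exact hx0 (by simpa using h3)

end Groth.Agent.Lib.Helper24GrSN
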