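import Mathlib
import Groth.Prelude.Def_W4bk4grassmannianPl

/-!
# Straightening for the Plücker algebra: standard monomials span (helper24)
-/

noncomputable section

open MvPolynomial W4bk4grassmannian

namespace Groth.Agent.Lib.Helper24Grass

variable {d n : ℕ}

/-- sum of entries of a tuple -/
def wt (a : Fin d → Fin n) : ℕ := ∑ t, (a t).val

theorem wt_le (a : Fin d → Fin n) : wt a ≤ d * n := by
  unfold wt
  calc ∑ t, (a t).val ≤ ∑ _t : Fin d, n := Finset.sum_le_sum (fun t _ => (a t).isLt.le)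
    _ = d * n := by simp

theorem injective_of_card {a : Fin d → Fin n} (h : (Finset.univ.image a).card = d) :
    Function.Injective a := by
  have : (Finset.univ.image a).card = (Finset.univ : Finset (Fin d)).card := by simpa using h
  intro x y hxy
  exact Finset.card_image_iff.mp this (Finset.mem_coe.mpr (Finset.mem_univ x))
    (Finset.mem_coe.mpr (Finset.mem_univ y)) hxy

theorem wt_sortIdx (a : Fin d → Fin n) (h : (Finset.univ.image a).card = d) :
    wt (sortIdx d n a h).1 = wt a := by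
  unfold wt sortIdx
  simp only
  have hinj := injective_of_card h
  have h1 : ∑ t : Fin d, ((Finset.univ.image a).orderEmbOfFin h t).val
      = ∑ x ∈ (Finset.univ.image a), x.val := by
    conv_rhs => rw [← Finset.map_orderEmbOfFin_univ (Finset.univ.image a) h]
    rw [Finset.sum_map]
    rfl
  rw [h1, Finset.sum_image (fun x _ y _ hxy => hinj hxy)]

theorem card_image_of_strictMono {a : Fin d → Fin n} (ha : StrictMono a) :
    (Finset.univ.image a).card = d := by
  rw [Finset.card_image_of_injective _ ha.injective]; simp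

theorem sortIdx_of_strictMono (θ : Idx d n) (h : (Finset.univ.image θ.1).card = d) :
    sortIdx d n θ.1 h = θ := by
  apply Subtype.ext
  unfold sortIdx
  simp only
  funext t
  have := Finset.orderEmbOfFin_unique h (f := θ.1) (fun x => Finset.mem_image_of_mem _ (Finset.mem_univ x)) θ.2
  exact (congrFun this t).symm

variable (K : Type*) [CommRing K]

/-- `coord a` is zero or a sign times the variable of the sorted tuple. -/
theorem coord_cases (a : Fin d → Fin n) :
    coord K d n a = 0 ∨ ∃ (h : (Finset.univ.image a).card = d) (k : ℕ),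
      coord K d n a = ((-1 : K) ^ k) • X (sortIdx d n a h) := by
  unfold coord
  split_ifs with h
  · right
    refine ⟨h, invCount d n a, ?_⟩
    rw [Algebra.smul_def]
    simp
  · left; rfl

theorem coord_strictMono (θ : Idx d n) : ∃ k : ℕ, coord K d n θ.1 = ((-1 : K) ^ k) • X θ := by
  have h := card_image_of_strictMono θ.2
  unfold coord
  rw [dif_pos h, sortIdx_of_strictMono θ h]
  refine ⟨invCount d n θ.1, ?_⟩
  rw [Algebra.smul_def]; simp


/-! ### moving rows -/

theorem movingRows_le (i j : Idx d n) (r : Fin d) (k : Fin (d + 1)) (h : k.val ≤ r.val) :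
    movingRows i j r k = i.1 ⟨k.val, lt_of_le_of_lt h r.isLt⟩ := by
  unfold movingRows; rw [dif_pos h]

theorem movingRows_gt (i j : Idx d n) (r : Fin d) (k : Fin (d + 1)) (h : r.val < k.val) :
    movingRows i j r k = j.1 ⟨k.val - 1, by have := k.isLt; omega⟩ := by
  unfold movingRows; rw [dif_neg (by omega)]

theorem movingRows_strictMono (i j : Idx d n) (r : Fin d) (hp : i.1 r < j.1 r) :
    StrictMono (movingRows i j r) := by
  intro k k' hkk'
  have hkk : k.val < k'.val := hkk'
  by_cases h1 : k'.val ≤ r.val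
  · rw [movingRows_le _ _ _ _ h1, movingRows_le _ _ _ _ (by omega)]
    exact i.2 (Fin.lt_def.mpr hkk)
  · have h1' : r.val < k'.val := by omega
    rw [movingRows_gt _ _ _ _ h1']
    by_cases h2 : k.val ≤ r.val
    · rw [movingRows_le _ _ _ _ h2]
      have a1 : i.1 ⟨k.val, lt_of_le_of_lt h2 r.isLt⟩ ≤ i.1 r :=
        i.2.monotone (Fin.le_def.mpr h2)
      have a2 : j.1 r ≤ j.1 ⟨k'.val - 1, by have := k'.isLt; omega⟩ :=
        j.2.monotone (by simp only [Fin.le_def]; omega)
      exact lt_of_le_of_lt a1 (lt_of_lt_of_le hp a2)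
    · rw [movingRows_gt _ _ _ _ (by omega)]
      exact j.2 (by simp only [Fin.lt_def]; omega)

/-- the identity shuffle: positions `0, …, r`. -/
def A0 (r : Fin d) : Finset (Fin (d + 1)) := Finset.univ.filter (fun k => k.val ≤ r.val)

theorem A0_eq_image (r : Fin d) :
    A0 r = Finset.univ.image (fun t : Fin (r.val + 1) => (⟨t.val, by have := t.isLt; have := r.isLt; omega⟩ : Fin (d + 1))) := by
  ext k
  simp only [A0, Finset.mem_filter, Finset.mem_univ, true_and, Finset.mem_image]
  constructor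
  · intro h; exact ⟨⟨k.val, by omega⟩, by simp⟩
  · rintro ⟨t, rfl⟩; have := t.isLt; simp only; omega

theorem card_A0 (r : Fin d) : (A0 r).card = r.val + 1 := by
  rw [A0_eq_image, Finset.card_image_of_injective]
  · simp
  · intro a b hab
    simp only [Fin.mk.injEq] at hab
    exact Fin.ext hab

theorem orderEmb_A0 (r : Fin d) (h : (A0 r).card = r.val + 1) (t : Fin (r.val + 1)) :
    (A0 r).orderEmbOfFin h t = ⟨t.val, by have := t.isLt; have := r.isLt; omega⟩ := by
  have := Finset.orderEmbOfFin_unique h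
    (f := fun t : Fin (r.val + 1) => (⟨t.val, by have := t.isLt; have := r.isLt; omega⟩ : Fin (d + 1)))
    (fun x => by have := x.isLt; simp only [A0, Finset.mem_filter, Finset.mem_univ, true_and]; omega)
    (fun a b hab => Fin.lt_def.mpr (Fin.lt_def.mp hab))
  exact (congrFun this t).symm

theorem compl_A0 (r : Fin d) : (A0 r)ᶜ = Finset.univ.filter (fun k : Fin (d + 1) => r.val < k.val) := by
  ext k; simp [A0]

theorem orderEmb_compl_A0 (r : Fin d) (h : ((A0 r)ᶜ).card = d - r.val) (t : Fin (d - r.val)) :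
    ((A0 r)ᶜ).orderEmbOfFin h t = ⟨r.val + 1 + t.val, by have := t.isLt; have := r.isLt; omega⟩ := by
  have := Finset.orderEmbOfFin_unique h
    (f := fun t : Fin (d - r.val) => (⟨r.val + 1 + t.val, by have := t.isLt; have := r.isLt; omega⟩ : Fin (d + 1)))
    (fun x => by simp only [compl_A0, Finset.mem_filter, Finset.mem_univ, true_and]; omega)
    (fun a b hab => Fin.lt_def.mpr (by have := Fin.lt_def.mp hab; simp only; omega))
  exact (congrFun this t).symm

theorem shuffleI_A0 (i j : Idx d n) (r : Fin d) (h : (A0 r).card = r.val + 1) :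
    shuffleI i j r (A0 r) h = i.1 := by
  funext t
  unfold shuffleI
  split_ifs with ht
  · rw [orderEmb_A0, movingRows_le _ _ _ _ (by simpa using ht)]
  · rfl

theorem shuffleJ_A0 (i j : Idx d n) (r : Fin d) (h : (A0 r).card = r.val + 1) :
    shuffleJ i j r (A0 r) h = j.1 := by
  funext t
  unfold shuffleJ
  split_ifs with ht
  · rfl
  · rw [orderEmb_compl_A0, movingRows_gt _ _ _ _ (by simp only; omega)]
    exact congrArg j.1 (Fin.ext (by simp only; omega))

theorem shuffleTerm_A0 (i j : Idx d n) (r : Fin d) :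
    ∃ k : ℕ, shuffleTerm K i j r (A0 r) = ((-1 : K) ^ k) • (X i * X j) := by
  unfold shuffleTerm
  rw [dif_pos (card_A0 r), shuffleI_A0, shuffleJ_A0]
  obtain ⟨k1, h1⟩ := coord_strictMono K i
  obtain ⟨k2, h2⟩ := coord_strictMono K j
  refine ⟨shuffleSign r (A0 r) + k1 + k2, ?_⟩
  rw [h1, h2, pow_add, pow_add, Algebra.smul_def, Algebra.smul_def, Algebra.smul_def]
  simp only [map_mul, map_pow, map_neg, map_one]
  ring

/-- strict monotone maps `Fin k → Fin m` dominate the identity. -/
theorem val_le_of_strictMono {k m : ℕ} (f : Fin k → Fin m) (hf : StrictMono f) (t : Fin k) :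
    t.val ≤ (f t).val := by
  obtain ⟨t, ht⟩ := t
  induction t with
  | zero => exact Nat.zero_le _
  | succ t ih =>
    have h1 := ih (by omega)
    have h2 : f ⟨t, by omega⟩ < f ⟨t + 1, ht⟩ := hf (by simp [Fin.lt_def])
    have h3 : (f ⟨t, by omega⟩).val < (f ⟨t + 1, ht⟩).val := h2
    simp only at h1 ⊢
    omega

theorem wt_shuffleI_gt (i j : Idx d n) (r : Fin d) (hp : i.1 r < j.1 r)
    (A : Finset (Fin (d + 1))) (hA : A.card = r.val + 1) (hne : A ≠ A0 r) :
    wt i.1 < wt (shuffleI i j r A hA) := by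
  have hmv := movingRows_strictMono i j r hp
  have hemb : ∀ t : Fin (r.val + 1), t.val ≤ (A.orderEmbOfFin hA t).val :=
    val_le_of_strictMono _ (A.orderEmbOfFin hA).strictMono
  unfold wt
  apply Finset.sum_lt_sum
  · intro t _
    unfold shuffleI
    split_ifs with ht
    · have h1 : i.1 t = movingRows i j r ⟨t.val, by have := t.isLt; omega⟩ := by
        rw [movingRows_le _ _ _ _ (by simpa using ht)]
      rw [h1]
      have := hemb ⟨t.val, by omega⟩
      exact Fin.le_def.mp (hmv.monotone (Fin.le_def.mpr (by simpa using this)))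
    · exact le_refl _
  · -- strictness somewhere
    by_contra hcon
    push Not at hcon
    apply hne
    -- the embedding is the identity on positions
    have hid : ∀ t : Fin (r.val + 1), A.orderEmbOfFin hA t = ⟨t.val, by have := t.isLt; have := r.isLt; omega⟩ := by
      intro t
      have ht : t.val ≤ r.val := by have := t.isLt; omega
      have htd : t.val < d := lt_of_le_of_lt ht r.isLt
      have h2 := hcon ⟨t.val, htd⟩ (Finset.mem_univ _)
      unfold shuffleI at h2
      rw [dif_pos (by simpa using ht)] at h2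
      have h1 : i.1 ⟨t.val, htd⟩ = movingRows i j r ⟨t.val, by omega⟩ := by
        rw [movingRows_le _ _ _ _ (by simpa using ht)]
      rw [h1] at h2
      have h3 : movingRows i j r (A.orderEmbOfFin hA ⟨t.val, by omega⟩) ≤ movingRows i j r ⟨t.val, by omega⟩ :=
        Fin.le_def.mpr h2
      have h4 := hmv.le_iff_le.mp h3
      have h5 := hemb t
      apply Fin.ext
      have h6 : (A.orderEmbOfFin hA ⟨t.val, by omega⟩).val ≤ t.val := Fin.le_def.mp h4
      have : (⟨t.val, by omega⟩ : Fin (r.val + 1)) = t := Fin.ext rfl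
      rw [this] at h6
      simp only
      omega
    rw [A0_eq_image, ← Finset.image_orderEmbOfFin_univ A hA]
    apply Finset.image_congr
    intro t _
    exact hid t

theorem shuffleTerm_cases (i j : Idx d n) (r : Fin d) (hp : i.1 r < j.1 r)
    (A : Finset (Fin (d + 1))) (hne : A ≠ A0 r) :
    shuffleTerm K i j r A = 0 ∨ ∃ (i' j' : Idx d n) (k : ℕ), wt i.1 < wt i'.1 ∧
      shuffleTerm K i j r A = ((-1 : K) ^ k) • (X i' * X j') := by
  unfold shuffleTerm
  split_ifs with hA
  · rcases coord_cases K (shuffleI i j r A hA) with h1 | ⟨hc1, k1, h1⟩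
    · left; rw [h1]; ring
    · rcases coord_cases K (shuffleJ i j r A hA) with h2 | ⟨hc2, k2, h2⟩
      · left; rw [h2]; ring
      · right
        refine ⟨sortIdx d n _ hc1, sortIdx d n _ hc2, shuffleSign r A + k1 + k2, ?_, ?_⟩
        · rw [wt_sortIdx]; exact wt_shuffleI_gt i j r hp A hA hne
        · rw [h1, h2, pow_add, pow_add, Algebra.smul_def, Algebra.smul_def, Algebra.smul_def]
          simp only [map_mul, map_pow, map_neg, map_one]
          ring
  · left; rfl


/-! ### the potential -/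

/-- potential of a monomial: `Σ_k 2 ^ wt (c k)`. -/
def pot {m : ℕ} (c : Fin m → Idx d n) : ℕ := ∑ k, 2 ^ wt (c k).1

theorem pot_le {m : ℕ} (c : Fin m → Idx d n) : pot c ≤ m * 2 ^ (d * n) := by
  unfold pot
  calc ∑ k, 2 ^ wt (c k).1 ≤ ∑ _k : Fin m, 2 ^ (d * n) :=
        Finset.sum_le_sum (fun k _ => Nat.pow_le_pow_right (by norm_num) (wt_le _))
    _ = m * 2 ^ (d * n) := by simp

theorem wt_mono {θ φ : Idx d n} (h : θ ≤ φ) : wt θ.1 ≤ wt φ.1 :=
  Finset.sum_le_sum (fun t _ => Fin.le_def.mp (h t))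

theorem eq_of_le_of_wt_eq {θ φ : Idx d n} (h : θ ≤ φ) (hw : wt θ.1 = wt φ.1) : θ = φ := by
  apply Subtype.ext
  funext t
  have := (Finset.sum_eq_sum_iff_of_le (s := Finset.univ) (f := fun t => (θ.1 t).val)
    (g := fun t => (φ.1 t).val) (fun t _ => Fin.le_def.mp (h t))).mp hw t (Finset.mem_univ t)
  exact Fin.ext this

/-- splitting a product over `Fin m` at two distinct indices. -/
theorem prod_split {M : Type*} [CommMonoid M] {m : ℕ} (f : Fin m → M) (k₁ k₂ : Fin m) (h : k₁ ≠ k₂) :
    ∏ k, f k = f k₁ * f k₂ * ∏ k ∈ (Finset.univ.erase k₁).erase k₂, f k := by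
  rw [← Finset.mul_prod_erase Finset.univ f (Finset.mem_univ k₁),
    ← Finset.mul_prod_erase (Finset.univ.erase k₁) f
      (Finset.mem_erase.mpr ⟨h.symm, Finset.mem_univ k₂⟩), mul_assoc]

theorem sum_split {m : ℕ} (f : Fin m → ℕ) (k₁ k₂ : Fin m) (h : k₁ ≠ k₂) :
    ∑ k, f k = f k₁ + f k₂ + ∑ k ∈ (Finset.univ.erase k₁).erase k₂, f k := by
  rw [← Finset.add_sum_erase Finset.univ f (Finset.mem_univ k₁),
    ← Finset.add_sum_erase (Finset.univ.erase k₁) f
      (Finset.mem_erase.mpr ⟨h.symm, Finset.mem_univ k₂⟩), add_assoc]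

/-- replace two entries of a tuple. -/
def repl {m : ℕ} (c : Fin m → Idx d n) (k₁ k₂ : Fin m) (i' j' : Idx d n) : Fin m → Idx d n :=
  Function.update (Function.update c k₁ i') k₂ j'

theorem repl_k₁ {m : ℕ} (c : Fin m → Idx d n) (k₁ k₂ : Fin m) (h : k₁ ≠ k₂) (i' j' : Idx d n) :
    repl c k₁ k₂ i' j' k₁ = i' := by
  unfold repl; rw [Function.update_of_ne h, Function.update_self]

theorem repl_k₂ {m : ℕ} (c : Fin m → Idx d n) (k₁ k₂ : Fin m) (i' j' : Idx d n) :
    repl c k₁ k₂ i' j' k₂ = j' := by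
  unfold repl; rw [Function.update_self]

theorem repl_other {m : ℕ} (c : Fin m → Idx d n) (k₁ k₂ : Fin m) (i' j' : Idx d n) (k : Fin m)
    (hk : k ∈ (Finset.univ.erase k₁).erase k₂) : repl c k₁ k₂ i' j' k = c k := by
  unfold repl
  rw [Function.update_of_ne (Finset.ne_of_mem_erase hk),
    Function.update_of_ne (Finset.ne_of_mem_erase (Finset.mem_of_mem_erase hk))]

theorem chainMon_repl {m : ℕ} (c : Fin m → Idx d n) (k₁ k₂ : Fin m) (h : k₁ ≠ k₂) (i' j' : Idx d n) :
    chainMon K (repl c k₁ k₂ i' j') =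
      X i' * X j' * ∏ k ∈ (Finset.univ.erase k₁).erase k₂, (X (c k) : PlRing K d n) := by
  unfold chainMon
  rw [prod_split _ k₁ k₂ h, repl_k₁ c k₁ k₂ h, repl_k₂]
  congr 1
  exact Finset.prod_congr rfl (fun k hk => by rw [repl_other c k₁ k₂ i' j' k hk])

theorem chainMon_split {m : ℕ} (c : Fin m → Idx d n) (k₁ k₂ : Fin m) (h : k₁ ≠ k₂) :
    chainMon K c =
      X (c k₁) * X (c k₂) * ∏ k ∈ (Finset.univ.erase k₁).erase k₂, (X (c k) : PlRing K d n) := by
  unfold chainMon
  rw [prod_split _ k₁ k₂ h]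

theorem pot_repl_gt {m : ℕ} (c : Fin m → Idx d n) (k₁ k₂ : Fin m) (h : k₁ ≠ k₂) (i' j' : Idx d n)
    (h1 : wt (c k₁).1 < wt i'.1) (h2 : wt (c k₂).1 ≤ wt (c k₁).1) :
    pot c < pot (repl c k₁ k₂ i' j') := by
  unfold pot
  rw [sum_split _ k₁ k₂ h, sum_split (fun k => 2 ^ wt (repl c k₁ k₂ i' j' k).1) k₁ k₂ h]
  simp only [repl_k₁ c k₁ k₂ h, repl_k₂]
  have e : ∑ k ∈ (Finset.univ.erase k₁).erase k₂, 2 ^ wt (repl c k₁ k₂ i' j' k).1 =
      ∑ k ∈ (Finset.univ.erase k₁).erase k₂, 2 ^ wt (c k).1 :=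
    Finset.sum_congr rfl (fun k hk => by rw [repl_other c k₁ k₂ i' j' k hk])
  rw [e]
  have a1 : 2 ^ (wt (c k₁).1 + 1) ≤ 2 ^ wt i'.1 := Nat.pow_le_pow_right (by norm_num) h1
  have a2 : 2 ^ wt (c k₂).1 ≤ 2 ^ wt (c k₁).1 := Nat.pow_le_pow_right (by norm_num) h2
  have a3 : 0 < 2 ^ wt j'.1 := by positivity
  rw [pow_succ] at a1
  omega

/-- the span of the classes of standard monomials. -/
def Std (K : Type*) [CommRing K] (d n : ℕ) : Submodule K (PlRing K d n ⧸ plIdealTop (d := d) (n := n) K) :=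
  Submodule.span K (Set.range fun c : (Σ m : ℕ, {c : Fin m → Idx d n // Antitone c}) =>
    Ideal.Quotient.mk (plIdealTop (d := d) (n := n) K) (chainMon K c.2.1))

theorem exists_pivot (i j : Idx d n) (h : ¬ j ≤ i) : ∃ r : Fin d, IsPivot i j r := by
  have hne : (Finset.univ.filter (fun t : Fin d => i.1 t < j.1 t)).Nonempty := by
    by_contra hcon
    rw [Finset.not_nonempty_iff_eq_empty] at hcon
    apply h
    intro t
    by_contra ht
    have : t ∈ Finset.univ.filter (fun t : Fin d => i.1 t < j.1 t) := by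
      simp only [Finset.mem_filter, Finset.mem_univ, true_and]
      exact not_le.mp ht
    rw [hcon] at this
    exact absurd this (Finset.notMem_empty _)
  refine ⟨(Finset.univ.filter (fun t : Fin d => i.1 t < j.1 t)).min' hne, ?_, ?_⟩
  · intro t ht
    by_contra hcon
    have : t ∈ Finset.univ.filter (fun t : Fin d => i.1 t < j.1 t) := by
      simp only [Finset.mem_filter, Finset.mem_univ, true_and]
      exact not_le.mp hcon
    exact absurd (Finset.min'_le _ t this) (not_le.mpr ht)
  · have := Finset.min'_mem _ hne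
    simp only [Finset.mem_filter, Finset.mem_univ, true_and] at this
    exact this

theorem sortable {m : ℕ} (c : Fin m → Idx d n) (hc : ∀ k₁ k₂, c k₁ ≤ c k₂ ∨ c k₂ ≤ c k₁) :
    ∃ σ : Equiv.Perm (Fin m), Antitone (c ∘ σ) := by
  let f : Fin m → ℕ := fun k => wt (c k).1
  refine ⟨Fin.revPerm.trans (Tuple.sort f), ?_⟩
  intro a b hab
  have hmono := Tuple.monotone_sort f
  have h1 : f (Tuple.sort f (Fin.rev b)) ≤ f (Tuple.sort f (Fin.rev a)) :=
    hmono (Fin.rev_le_rev.mpr hab)
  show c (Tuple.sort f (Fin.rev b)) ≤ c (Tuple.sort f (Fin.rev a))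
  rcases hc (Tuple.sort f (Fin.rev b)) (Tuple.sort f (Fin.rev a)) with h | h
  · exact h
  · have h2 := wt_mono h
    have h3 : wt (c (Tuple.sort f (Fin.rev a))).1 = wt (c (Tuple.sort f (Fin.rev b))).1 :=
      le_antisymm h2 h1
    rw [eq_of_le_of_wt_eq h h3]

theorem mk_chainMon_mem_of_chain {m : ℕ} (c : Fin m → Idx d n)
    (hc : ∀ k₁ k₂, c k₁ ≤ c k₂ ∨ c k₂ ≤ c k₁) :
    Ideal.Quotient.mk (plIdealTop (d := d) (n := n) K) (chainMon K c) ∈ Std K d n := by
  obtain ⟨σ, hσ⟩ := sortable c hc
  have : chainMon K c = chainMon K (c ∘ σ) := by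
    unfold chainMon
    exact (Equiv.prod_comp σ (fun k => (X (c k) : PlRing K d n))).symm
  rw [this]
  exact Submodule.subset_span ⟨⟨m, ⟨c ∘ σ, hσ⟩⟩, rfl⟩


theorem neg_one_pow_smul_smul {V : Type*} [AddCommGroup V] [Module K V] (k : ℕ) (v : V) :
    ((-1 : K) ^ k) • (((-1 : K) ^ k) • v) = v := by
  rw [smul_smul, ← mul_pow]; simp

/-- the rewriting step. -/
theorem step {m : ℕ} (c : Fin m → Idx d n) (k₁ k₂ : Fin m) (hk : k₁ ≠ k₂)
    (r : Fin d) (hp : IsPivot (c k₁) (c k₂) r) (hw : wt (c k₂).1 ≤ wt (c k₁).1)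
    (ih : ∀ c' : Fin m → Idx d n, pot c < pot c' →
      Ideal.Quotient.mk (plIdealTop (d := d) (n := n) K) (chainMon K c') ∈ Std K d n) :
    Ideal.Quotient.mk (plIdealTop (d := d) (n := n) K) (chainMon K c) ∈ Std K d n := by
  set I := plIdealTop (d := d) (n := n) K with hI
  set rest : PlRing K d n := ∏ k ∈ (Finset.univ.erase k₁).erase k₂, (X (c k) : PlRing K d n) with hrest
  have hrel : shuffleRel K (c k₁) (c k₂) r ∈ I :=
    Ideal.subset_span ⟨c k₁, c k₂, r, hp, rfl⟩
  obtain ⟨k0, h0⟩ := shuffleTerm_A0 K (c k₁) (c k₂) r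
  have hsum : shuffleRel K (c k₁) (c k₂) r =
      shuffleTerm K (c k₁) (c k₂) r (A0 r) +
        ∑ A ∈ Finset.univ.erase (A0 r), shuffleTerm K (c k₁) (c k₂) r A := by
    unfold shuffleRel
    rw [Finset.add_sum_erase _ _ (Finset.mem_univ _)]
  have e1 : chainMon K c = ((-1 : K) ^ k0) • (shuffleRel K (c k₁) (c k₂) r * rest) -
      ((-1 : K) ^ k0) • ∑ A ∈ Finset.univ.erase (A0 r), shuffleTerm K (c k₁) (c k₂) r A * rest := by
    rw [chainMon_split K c k₁ k₂ hk, hsum, h0, add_mul, smul_add, ← Finset.sum_mul,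
      add_sub_cancel_right, smul_mul_assoc, neg_one_pow_smul_smul]
  rw [e1, map_sub]
  refine Submodule.sub_mem _ ?_ ?_
  · have : Ideal.Quotient.mk I (((-1 : K) ^ k0) • (shuffleRel K (c k₁) (c k₂) r * rest)) = 0 := by
      rw [Ideal.Quotient.eq_zero_iff_mem]
      exact Submodule.smul_of_tower_mem _ _ (I.mul_mem_right _ hrel)
    rw [this]; exact Submodule.zero_mem _
  · have hsm : ∀ (a : K) (p : PlRing K d n), Ideal.Quotient.mk I (a • p) = a • Ideal.Quotient.mk I p := by
      intro a p
      exact map_smul (Ideal.Quotient.mkₐ K I) a p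
    rw [hsm]
    refine Submodule.smul_mem _ _ ?_
    rw [map_sum]
    refine Submodule.sum_mem _ (fun A hA => ?_)
    have hne : A ≠ A0 r := Finset.ne_of_mem_erase hA
    rcases shuffleTerm_cases K (c k₁) (c k₂) r hp.2 A hne with h | ⟨i', j', k, hwt, h⟩
    · rw [h, zero_mul, map_zero]; exact Submodule.zero_mem _
    · rw [h, smul_mul_assoc, hsm, ← chainMon_repl K c k₁ k₂ hk i' j']
      refine Submodule.smul_mem _ _ (ih _ ?_)
      exact pot_repl_gt c k₁ k₂ hk i' j' hwt hw

theorem mk_chainMon_mem {m : ℕ} (c : Fin m → Idx d n) :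
    Ideal.Quotient.mk (plIdealTop (d := d) (n := n) K) (chainMon K c) ∈ Std K d n := by
  induction' hN : m * 2 ^ (d * n) - pot c using Nat.strong_induction_on with N ih generalizing c
  by_cases hc : ∀ k₁ k₂, c k₁ ≤ c k₂ ∨ c k₂ ≤ c k₁
  · exact mk_chainMon_mem_of_chain K c hc
  · push Not at hc
    obtain ⟨k₁, k₂, h1, h2⟩ := hc
    have hk : k₁ ≠ k₂ := by
      rintro rfl; exact h1 (le_refl _)
    have ih' : ∀ c' : Fin m → Idx d n, pot c < pot c' →
        Ideal.Quotient.mk (plIdealTop (d := d) (n := n) K) (chainMon K c') ∈ Std K d n := by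
      intro c' hc'
      have := pot_le c'
      exact ih (m * 2 ^ (d * n) - pot c') (by omega) c' rfl
    rcases le_total (wt (c k₂).1) (wt (c k₁).1) with hw | hw
    · obtain ⟨r, hr⟩ := exists_pivot (c k₁) (c k₂) h2
      exact step K c k₁ k₂ hk r hr hw ih'
    · obtain ⟨r, hr⟩ := exists_pivot (c k₂) (c k₁) h1
      exact step K c k₂ k₁ hk.symm r hr hw ih'

/-- all monomials. -/
theorem span_chainMon_eq_top :
    Submodule.span K {p : PlRing K d n | ∃ (m : ℕ) (c : Fin m → Idx d n), p = chainMon K c} = ⊤ := by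
  rw [eq_top_iff]
  rintro p -
  induction p using MvPolynomial.induction_on with
  | C a =>
    have : (C a : PlRing K d n) = a • chainMon K (Fin.elim0 : Fin 0 → Idx d n) := by
      unfold chainMon
      simp [Algebra.smul_def]
    rw [this]
    exact Submodule.smul_mem _ _ (Submodule.subset_span ⟨0, _, rfl⟩)
  | add p q hp hq => exact Submodule.add_mem _ hp hq
  | mul_X p θ hp =>
    induction hp using Submodule.span_induction with
    | mem x hx =>
      obtain ⟨m, c, rfl⟩ := hx
      refine Submodule.subset_span ⟨m + 1, Fin.snoc c θ, ?_⟩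
      unfold chainMon
      rw [Fin.prod_univ_castSucc]
      simp
    | zero => rw [zero_mul]; exact Submodule.zero_mem _
    | add x y _ _ hx hy => rw [add_mul]; exact Submodule.add_mem _ hx hy
    | smul a x _ hx => rw [smul_mul_assoc]; exact Submodule.smul_mem _ _ hx

theorem std_eq_top : Std K d n = ⊤ := by
  rw [eq_top_iff]
  rintro q -
  obtain ⟨p, rfl⟩ := Ideal.Quotient.mk_surjective q
  have hp : p ∈ Submodule.span K {p : PlRing K d n | ∃ (m : ℕ) (c : Fin m → Idx d n), p = chainMon K c} := by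
    rw [span_chainMon_eq_top]; trivial
  have hsm : ∀ (a : K) (p : PlRing K d n),
      Ideal.Quotient.mk (plIdealTop (d := d) (n := n) K) (a • p) =
        a • Ideal.Quotient.mk (plIdealTop (d := d) (n := n) K) p := by
    intro a p
    exact map_smul (Ideal.Quotient.mkₐ K (plIdealTop (d := d) (n := n) K)) a p
  induction hp using Submodule.span_induction with
  | mem x hx =>
    obtain ⟨m, c, rfl⟩ := hx
    exact mk_chainMon_mem K c
  | zero => rw [map_zero]; exact Submodule.zero_mem _
  | add x y _ _ hx hy => rw [map_add]; exact Submodule.add_mem _ hx hy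
  | smul a x _ hx => rw [hsm]; exact Submodule.smul_mem _ _ hx

end Groth.Agent.Lib.Helper24Grass
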