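import Mathlib
import Groth.Prelude.Def_W4bk4grassmannianPl

/-!
# Matrices of full column rank and their maximal minors (helper24)
-/

noncomputable section

open W4bk4grassmannian

namespace Groth.Agent.Lib.Helper24Grass2

variable {K : Type*} [Field K] {d n : ℕ}

/-- A matrix with linearly independent columns has a nonzero maximal minor on increasing rows. -/
theorem exists_minor_ne_zero (A : Matrix (Fin n) (Fin d) K) (hA : LinearIndependent K A.transpose) :
    ∃ θ : Idx d n, (A.submatrix θ.1 id).det ≠ 0 := by
  classical
  have hrank : A.rank = d := by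
    have h1 : A.transpose.rank = Fintype.card (Fin d) := LinearIndependent.rank_matrix (M := A.transpose) hA
    rw [Matrix.rank_transpose] at h1
    simpa using h1
  obtain ⟨κ, a, hinj, hspan, hli⟩ := exists_linearIndependent' K A.row
  haveI : Finite κ := Finite.of_injective a hinj
  haveI : Fintype κ := Fintype.ofFinite κ
  have hcard : Fintype.card κ = d := by
    rw [linearIndependent_iff_card_eq_finrank_span.mp hli, Set.finrank, hspan,
      ← Matrix.rank_eq_finrank_span_row, hrank]
  have hs : (Finset.univ.image a).card = d := by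
    rw [Finset.card_image_of_injective _ hinj, Finset.card_univ, hcard]
  let θ : Fin d ↪o Fin n := (Finset.univ.image a).orderEmbOfFin hs
  have hmem : ∀ t, ∃ k, a k = θ t := by
    intro t
    have h1 : θ t ∈ Finset.univ.image a := Finset.orderEmbOfFin_mem (Finset.univ.image a) hs t
    obtain ⟨k, -, hk⟩ := Finset.mem_image.mp h1
    exact ⟨k, hk⟩
  choose e he using hmem
  have hinj_e : Function.Injective e := by
    intro t t' htt
    have : θ t = θ t' := by rw [← he t, ← he t', htt]
    exact θ.injective this
  refine ⟨⟨θ, θ.strictMono⟩, ?_⟩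
  have hli2 : LinearIndependent K (A.submatrix θ id).row := by
    have : (A.submatrix θ id).row = (A.row ∘ a) ∘ e := by
      funext t
      simp only [Matrix.row, Function.comp_apply, he]
      rfl
    rw [this]
    exact hli.comp e hinj_e
  have hu := Matrix.linearIndependent_rows_iff_isUnit.mp hli2
  exact ((Matrix.isUnit_iff_isUnit_det _).mp hu).ne_zero


theorem eval_minor (v : Fin n × Fin d → K) (a : Fin d → Fin n) :
    MvPolynomial.eval v (minor K d n a) = (Matrix.of fun s t : Fin d => v (a s, t)).det := by
  unfold minor
  rw [RingHom.map_det]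
  congr 1
  ext s t
  simp

theorem semistable_of_indep (hd : 0 < d) (A : Matrix (Fin n) (Fin d) K)
    (hA : LinearIndependent K A.transpose) :
    ∃ f : MatRing K d n, (∀ g : Matrix.SpecialLinearGroup (Fin d) K,
        MvPolynomial.eval (fun p : Fin n × Fin d => (A * (g : Matrix (Fin d) (Fin d) K)) p.1 p.2) f = 0) ∧
        MvPolynomial.eval (fun _ : Fin n × Fin d => (0 : K)) f ≠ 0 := by
  obtain ⟨θ, hθ⟩ := exists_minor_ne_zero A hA
  refine ⟨minor K d n θ.1 - MvPolynomial.C ((A.submatrix θ.1 id).det), ?_, ?_⟩
  · intro g
    rw [map_sub, eval_minor, MvPolynomial.eval_C]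
    have : (Matrix.of fun s t : Fin d => (A * (g : Matrix (Fin d) (Fin d) K)) (θ.1 s) t) =
        A.submatrix θ.1 id * (g : Matrix (Fin d) (Fin d) K) := by
      ext s t; simp [Matrix.mul_apply]
    rw [this, Matrix.det_mul, g.det_coe, mul_one, sub_self]
  · rw [map_sub, eval_minor, MvPolynomial.eval_C]
    have h0 : (Matrix.of fun _ _ : Fin d => (0 : K)) = 0 := rfl
    haveI hne : Nonempty (Fin d) := Fin.pos_iff_nonempty.mp hd
    rw [h0, Matrix.det_zero, zero_sub]
    exact neg_ne_zero.mpr hθ

theorem eval_aeval_line (A : Matrix (Fin n) (Fin d) K) (f : MatRing K d n) (t : K) :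
    Polynomial.eval t (MvPolynomial.aeval
      (fun p : Fin n × Fin d => Polynomial.C (A p.1 p.2) * Polynomial.X) f) =
      MvPolynomial.eval (fun p : Fin n × Fin d => t * A p.1 p.2) f := by
  induction f using MvPolynomial.induction_on with
  | C a => simp
  | add p q hp hq => simp [hp, hq]
  | mul_X p i hp =>
    rw [map_mul, Polynomial.eval_mul, hp, map_mul, MvPolynomial.aeval_X, MvPolynomial.eval_X,
      Polynomial.eval_mul, Polynomial.eval_C, Polynomial.eval_X, mul_comm (A i.1 i.2) t]

theorem indep_of_semistable [Infinite K] (A : Matrix (Fin n) (Fin d) K) (f : MatRing K d n)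
    (h1 : ∀ g : Matrix.SpecialLinearGroup (Fin d) K,
        MvPolynomial.eval (fun p : Fin n × Fin d => (A * (g : Matrix (Fin d) (Fin d) K)) p.1 p.2) f = 0)
    (h2 : MvPolynomial.eval (fun _ : Fin n × Fin d => (0 : K)) f ≠ 0) :
    LinearIndependent K A.transpose := by
  classical
  by_contra hA
  rw [Fintype.not_linearIndependent_iff] at hA
  obtain ⟨c, hc, a, hca⟩ := hA
  have hAc : A.mulVec c = 0 := by
    funext i
    have := congrFun hc i
    simp only [Finset.sum_apply, Pi.smul_apply, Matrix.transpose_apply, smul_eq_mul, Pi.zero_apply] at this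
    simp only [Matrix.mulVec, dotProduct, Pi.zero_apply]
    rw [← this]
    exact Finset.sum_congr rfl (fun j _ => mul_comm _ _)
  have key : ∀ t : K, t ≠ 0 → MvPolynomial.eval (fun p : Fin n × Fin d => t * A p.1 p.2) f = 0 := by
    intro t ht
    set s : K := (t ^ d)⁻¹ - 1 with hs
    set u : Fin d → K := s • c with hu
    set v : Fin d → K := Pi.single a (c a)⁻¹ with hv
    set M : Matrix (Fin d) (Fin d) K :=
      t • (1 + Matrix.replicateCol Unit u * Matrix.replicateRow Unit v) with hM
    have hvu : v ⬝ᵥ u = s := by
      rw [hv, hu, single_dotProduct, Pi.smul_apply, smul_eq_mul]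
      field_simp
    have hdet : M.det = 1 := by
      rw [hM, Matrix.det_smul, Matrix.det_one_add_replicateCol_mul_replicateRow, hvu, hs,
        Fintype.card_fin]
      have : t ^ d ≠ 0 := pow_ne_zero _ ht
      field_simp
      ring
    have hAM : A * M = t • A := by
      rw [hM, Matrix.mul_smul, Matrix.mul_add, Matrix.mul_one, ← Matrix.mul_assoc]
      have : A * Matrix.replicateCol Unit u = 0 := by
        ext i j
        simp only [Matrix.mul_apply, Matrix.replicateCol_apply, Matrix.zero_apply]
        have := congrFun hAc i
        simp only [Matrix.mulVec, dotProduct, Pi.zero_apply] at this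
        rw [hu]
        simp only [Pi.smul_apply, smul_eq_mul]
        calc ∑ x, A i x * (s * c x) = s * ∑ x, A i x * c x := by
              rw [Finset.mul_sum]; exact Finset.sum_congr rfl (fun x _ => by ring)
          _ = 0 := by rw [this, mul_zero]
      rw [this, Matrix.zero_mul, add_zero]
    have := h1 ⟨M, hdet⟩
    simp only [hAM] at this
    simpa [Matrix.smul_apply] using this
  set q : Polynomial K := MvPolynomial.aeval
      (fun p : Fin n × Fin d => Polynomial.C (A p.1 p.2) * Polynomial.X) f with hq
  have hq0 : q = 0 := by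
    apply Polynomial.eq_zero_of_infinite_isRoot
    refine Set.Infinite.mono ?_ (Set.finite_singleton (0 : K)).infinite_compl
    intro t ht
    simp only [Set.mem_compl_iff, Set.mem_singleton_iff] at ht
    simp only [Set.mem_ofPred_eq, Polynomial.IsRoot, hq, eval_aeval_line]
    exact key t ht
  have h3 : Polynomial.eval 0 q = 0 := by rw [hq0]; simp
  rw [hq, eval_aeval_line] at h3
  apply h2
  simpa using h3

end Groth.Agent.Lib.Helper24Grass2
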