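import Mathlib

set_option autoImplicit false

namespace Groth.Agent.Lib.Helper24HD

open Polynomial

section A

variable {F : Type*} [Field F] [Fintype F] {R : Type*} [CommRing R] [IsDomain R]
variable (χ : MulChar F R) (ψ : AddChar F R)

/-- The multiplicative function on monic polynomials `X^d - c₁ X^(d-1) + ⋯ + (-1)^d c_d ↦ χ(c_d) ψ(c₁)`. -/
noncomputable def lam (f : F[X]) : R := χ ((-1) ^ f.natDegree * f.coeff 0) * ψ (- f.nextCoeff)

theorem lam_one : lam χ ψ 1 = 1 := by
  simp [lam, nextCoeff]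

theorem lam_mul {f g : F[X]} (hf : f.Monic) (hg : g.Monic) :
    lam χ ψ (f * g) = lam χ ψ f * lam χ ψ g := by
  unfold lam
  rw [hf.natDegree_mul hg, mul_coeff_zero, hf.nextCoeff_mul hg, neg_add, AddChar.map_add_eq_mul,
    pow_add]
  rw [show (-1 : F) ^ f.natDegree * (-1) ^ g.natDegree * (f.coeff 0 * g.coeff 0) =
    (-1) ^ f.natDegree * f.coeff 0 * ((-1) ^ g.natDegree * g.coeff 0) by ring]
  rw [map_mul χ]
  ring

theorem lam_pow {f : F[X]} (hf : f.Monic) (r : ℕ) : lam χ ψ (f ^ r) = lam χ ψ f ^ r := by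
  induction r with
  | zero => simp [lam_one]
  | succ r ih => rw [pow_succ, lam_mul χ ψ (hf.pow r) hf, ih, pow_succ]

variable (F) in
/-- monic polynomials of degree `n`, as a subtype -/
abbrev MonT (n : ℕ) := {p : F[X] // p.Monic ∧ p.natDegree = n}

noncomputable instance (n : ℕ) : Fintype (MonT F n) :=
  Fintype.ofEquiv (Fin n → F) ((monicEquivDegreeLT n).trans (degreeLTEquiv F n).toEquiv).symm

variable (F) in
/-- monic polynomials of degree `n`, as a finset -/
noncomputable def Mon (n : ℕ) : Finset F[X] :=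
  (Finset.univ : Finset (MonT F n)).map (Function.Embedding.subtype _)

theorem mem_Mon {n : ℕ} {f : F[X]} : f ∈ Mon F n ↔ f.Monic ∧ f.natDegree = n := by
  unfold Mon
  rw [Finset.mem_map]
  constructor
  · rintro ⟨a, -, rfl⟩
    exact a.2
  · intro h
    exact ⟨⟨f, h⟩, Finset.mem_univ _, rfl⟩

/-- the coefficient sums `S_n = ∑_{f monic of degree n} λ(f)` -/
noncomputable def S (n : ℕ) : R := ∑ f ∈ Mon F n, lam χ ψ f

theorem Mon_zero : Mon F 0 = {1} := by
  ext f
  rw [mem_Mon, Finset.mem_singleton]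
  constructor
  · rintro ⟨h1, h2⟩
    exact (Polynomial.Monic.natDegree_eq_zero h1).mp h2
  · rintro rfl
    exact ⟨monic_one, natDegree_one⟩

theorem S_zero : S χ ψ 0 = 1 := by
  unfold S
  rw [Mon_zero, Finset.sum_singleton, lam_one]

theorem lam_X_sub_C (c : F) : lam χ ψ (X - C c) = χ c * ψ c := by
  unfold lam
  rw [natDegree_X_sub_C, nextCoeff_X_sub_C]
  simp

theorem S_one : S χ ψ 1 = ∑ c : F, χ c * ψ c := by
  unfold S
  symm
  apply Finset.sum_bij (fun (c : F) _ => X - C c)
  · intro c _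
    rw [mem_Mon]
    exact ⟨monic_X_sub_C c, natDegree_X_sub_C c⟩
  · intro a _ b _ h
    have := congrArg (fun p : F[X] => p.coeff 0) h
    simpa using this
  · intro f hf
    rw [mem_Mon] at hf
    refine ⟨-f.coeff 0, Finset.mem_univ _, ?_⟩
    have h1 : f = C (f.coeff 1) * X + C (f.coeff 0) :=
      eq_X_add_C_of_natDegree_le_one hf.2.le
    have h2 : f.coeff 1 = 1 := by
      have := hf.1.coeff_natDegree
      rwa [hf.2] at this
    rw [h2] at h1
    rw [map_neg, sub_neg_eq_add]
    conv_rhs => rw [h1]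
    simp
  · intro c _
    exact (lam_X_sub_C χ ψ c).symm


theorem shift_mem {n : ℕ} (hn : 2 ≤ n) (b : F) {f : F[X]} (hf : f ∈ Mon F n) :
    f + C b * X ^ (n - 1) ∈ Mon F n := by
  rw [mem_Mon] at hf ⊢
  have hdeg : (C b * X ^ (n - 1)).degree < f.degree := by
    rw [degree_eq_natDegree hf.1.ne_zero, hf.2]
    refine lt_of_le_of_lt (degree_C_mul_X_pow_le _ _) ?_
    exact_mod_cast Nat.sub_lt (by omega) one_pos
  refine ⟨hf.1.add_of_left hdeg, ?_⟩
  rw [natDegree_add_eq_left_of_degree_lt hdeg, hf.2]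

theorem lam_shift {n : ℕ} (hn : 2 ≤ n) (b : F) {f : F[X]} (hf : f ∈ Mon F n) :
    lam χ ψ (f + C b * X ^ (n - 1)) = lam χ ψ f * ψ (-b) := by
  have hf' := shift_mem hn b hf
  rw [mem_Mon] at hf hf'
  unfold lam
  rw [hf'.2, hf.2, nextCoeff_of_natDegree_pos (by rw [hf'.2]; omega),
    nextCoeff_of_natDegree_pos (by rw [hf.2]; omega), hf'.2, hf.2]
  have h0 : (f + C b * X ^ (n - 1)).coeff 0 = f.coeff 0 := by
    rw [coeff_add, coeff_C_mul_X_pow, if_neg (by omega), add_zero]
  have h1 : (f + C b * X ^ (n - 1)).coeff (n - 1) = f.coeff (n - 1) + b := by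
    rw [coeff_add, coeff_C_mul_X_pow, if_pos rfl]
  rw [h0, h1, neg_add, AddChar.map_add_eq_mul, mul_assoc]

theorem S_eq_zero (hψ : ψ ≠ 1) {n : ℕ} (hn : 2 ≤ n) : S χ ψ n = 0 := by
  obtain ⟨a, ha⟩ := (AddChar.ne_one_iff).mp hψ
  have key : S χ ψ n = S χ ψ n * ψ a := by
    unfold S
    rw [Finset.sum_mul]
    refine Finset.sum_bij' (fun f _ => f + C a * X ^ (n - 1)) (fun f _ => f + C (-a) * X ^ (n - 1))
      ?_ ?_ ?_ ?_ ?_
    · intro f hf; exact shift_mem hn a hf
    · intro f hf; exact shift_mem hn (-a) hf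
    · intro f _; simp
    · intro f _; simp
    · intro f hf
      have := lam_shift χ ψ hn (-a) (shift_mem hn a hf)
      rw [neg_neg] at this
      rw [← this]
      congr 1
      simp
  have h2 : S χ ψ n * (1 - ψ a) = 0 := by
    rw [mul_sub, mul_one, ← key, sub_self]
  rcases mul_eq_zero.mp h2 with h | h
  · exact h
  · exact absurd (sub_eq_zero.mp h).symm ha

end A


section B

open Classical

variable {F : Type*} [Field F] [Fintype F] {R : Type*} [CommRing R] [IsDomain R]
variable (χ : MulChar F R) (ψ : AddChar F R)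

theorem sum_filter_dvd {D : F[X]} (hD : D.Monic) (k : ℕ) :
    ∑ f ∈ (Mon F (D.natDegree + k)).filter (fun f => D ∣ f), lam χ ψ f = lam χ ψ D * S χ ψ k := by
  unfold S
  rw [Finset.mul_sum]
  symm
  apply Finset.sum_bij (fun h _ => D * h)
  · intro h hh
    rw [mem_Mon] at hh
    rw [Finset.mem_filter, mem_Mon]
    exact ⟨⟨hD.mul hh.1, by rw [hD.natDegree_mul hh.1, hh.2]⟩, dvd_mul_right _ _⟩
  · intro a _ b _ h
    exact mul_left_cancel₀ hD.ne_zero h
  · intro f hf
    rw [Finset.mem_filter, mem_Mon] at hf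
    obtain ⟨⟨hfm, hfd⟩, h, rfl⟩ := hf
    have hh : h.Monic := hD.of_mul_monic_left hfm
    refine ⟨h, ?_, rfl⟩
    rw [mem_Mon]
    refine ⟨hh, ?_⟩
    rw [hD.natDegree_mul hh] at hfd
    omega
  · intro h hh
    rw [mem_Mon] at hh
    rw [lam_mul χ ψ hD hh.1]

theorem filter_dvd_eq_empty {D : F[X]} {n : ℕ} (h : n < D.natDegree) :
    (Mon F n).filter (fun f => D ∣ f) = ∅ := by
  rw [Finset.filter_eq_empty_iff]
  intro f hf hdvd
  rw [mem_Mon] at hf
  have := natDegree_le_of_dvd hdvd hf.1.ne_zero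
  omega

variable (F) in
/-- monic irreducible polynomials of degree at most `n`. -/
noncomputable def Irr (n : ℕ) : Finset F[X] :=
  ((Finset.range (n + 1)).biUnion (Mon F)).filter Irreducible

theorem mem_Irr {n : ℕ} {P : F[X]} :
    P ∈ Irr F n ↔ P.Monic ∧ P.natDegree ≤ n ∧ Irreducible P := by
  unfold Irr
  rw [Finset.mem_filter, Finset.mem_biUnion]
  constructor
  · rintro ⟨⟨k, hk, hP⟩, hirr⟩
    rw [mem_Mon] at hP
    rw [Finset.mem_range] at hk
    exact ⟨hP.1, by omega, hirr⟩
  · rintro ⟨h1, h2, h3⟩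
    exact ⟨⟨P.natDegree, Finset.mem_range.mpr (by omega), mem_Mon.mpr ⟨h1, rfl⟩⟩, h3⟩

theorem natDegree_pos_of_irreducible {P : F[X]} (h : Irreducible P) : 0 < P.natDegree :=
  Polynomial.natDegree_pos_iff_degree_pos.mpr (Polynomial.degree_pos_of_irreducible h)


theorem count_identity {n : ℕ} {f : F[X]} (hf : f ∈ Mon F n) :
    ∑ P ∈ Irr F n, P.natDegree * ((Finset.Icc 1 n).filter (fun r => P ^ r ∣ f)).card = n := by
  rw [mem_Mon] at hf
  obtain ⟨hm, hd⟩ := hf
  have hf0 : f ≠ 0 := hm.ne_zero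
  obtain ⟨nf, hnf⟩ : ∃ nf, nf = UniqueFactorizationMonoid.normalizedFactors f := ⟨_, rfl⟩
  have hirr : ∀ P ∈ nf, Irreducible P := by
    intro P hP; rw [hnf] at hP
    exact UniqueFactorizationMonoid.irreducible_of_normalized_factor P hP
  have hmonic : ∀ P ∈ nf, P.Monic := by
    intro P hP
    have h2 : P ≠ 0 := (hirr P hP).ne_zero
    rw [hnf] at hP
    have h1 := UniqueFactorizationMonoid.normalize_normalized_factor P hP
    rw [← h1]; exact Polynomial.monic_normalize h2
  have hprod : nf.prod = f := by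
    rw [hnf, UniqueFactorizationMonoid.prod_normalizedFactors_eq hf0, hm.normalize_eq_self]
  have hdeg : (nf.map natDegree).sum = n := by
    rw [← hd, ← hprod]
    exact (natDegree_multiset_prod_of_monic nf hmonic).symm
  have hdvd : ∀ P ∈ nf, P ∣ f := by
    intro P hP; rw [← hprod]; exact Multiset.dvd_prod hP
  have hpow : ∀ P : F[X], P.Monic → Irreducible P → ∀ r : ℕ, P ^ r ∣ f ↔ r ≤ nf.count P := by
    intro P hPm hPi r
    rw [pow_dvd_iff_le_emultiplicity,
      UniqueFactorizationMonoid.emultiplicity_eq_count_normalizedFactors hPi hf0,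
      hPm.normalize_eq_self, ← hnf]
    exact Nat.cast_le
  have hcount : ∀ P : F[X], P.Monic → Irreducible P →
      ((Finset.Icc 1 n).filter (fun r => P ^ r ∣ f)).card = nf.count P := by
    intro P hPm hPi
    have hle : nf.count P ≤ n := by
      have h1 : P ^ (nf.count P) ∣ f := (hpow P hPm hPi _).mpr le_rfl
      have h2 := natDegree_le_of_dvd h1 hf0
      rw [natDegree_pow, hd] at h2
      have h3 := natDegree_pos_of_irreducible hPi
      calc nf.count P ≤ nf.count P * P.natDegree := Nat.le_mul_of_pos_right _ h3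
        _ ≤ n := h2
    have : (Finset.Icc 1 n).filter (fun r => P ^ r ∣ f) = Finset.Icc 1 (nf.count P) := by
      ext r
      rw [Finset.mem_filter, Finset.mem_Icc, Finset.mem_Icc, hpow P hPm hPi r]
      constructor
      · rintro ⟨⟨h1, -⟩, h2⟩; exact ⟨h1, h2⟩
      · rintro ⟨h1, h2⟩; exact ⟨⟨h1, h2.trans hle⟩, h2⟩
    rw [this, Nat.card_Icc]; omega
  have hsub : nf.toFinset ⊆ Irr F n := by
    intro P hP
    rw [Multiset.mem_toFinset] at hP
    rw [mem_Irr]
    refine ⟨hmonic P hP, ?_, hirr P hP⟩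
    have := natDegree_le_of_dvd (hdvd P hP) hf0
    rwa [hd] at this
  refine Eq.trans ?_ hdeg
  rw [Finset.sum_multiset_map_count]
  symm
  rw [← Finset.sum_subset hsub]
  · apply Finset.sum_congr rfl
    intro P hP
    rw [Multiset.mem_toFinset] at hP
    rw [hcount P (hmonic P hP) (hirr P hP), smul_eq_mul, mul_comm]
  · intro P hP hPn
    rw [mem_Irr] at hP
    rw [hcount P hP.1 hP.2.2]
    rw [Multiset.mem_toFinset] at hPn
    rw [Multiset.count_eq_zero_of_notMem hPn, mul_zero]


theorem vm (n : ℕ) :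
    (n : R) * S χ ψ n = ∑ P ∈ Irr F n, ∑ r ∈ Finset.Icc 1 n,
      if r * P.natDegree ≤ n then
        (P.natDegree : R) * lam χ ψ P ^ r * S χ ψ (n - r * P.natDegree) else 0 := by
  have h1 : (n : R) * S χ ψ n = ∑ f ∈ Mon F n, ∑ P ∈ Irr F n, ∑ r ∈ Finset.Icc 1 n,
      if P ^ r ∣ f then (P.natDegree : R) * lam χ ψ f else 0 := by
    unfold S
    rw [Finset.mul_sum]
    apply Finset.sum_congr rfl
    intro f hf
    have := count_identity hf
    conv_lhs => rw [← this]
    rw [Nat.cast_sum, Finset.sum_mul]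
    apply Finset.sum_congr rfl
    intro P _
    rw [Nat.cast_mul, Finset.card_filter, Nat.cast_sum, Finset.mul_sum, Finset.sum_mul]
    apply Finset.sum_congr rfl
    intro r _
    split_ifs <;> simp
  rw [h1, Finset.sum_comm]
  apply Finset.sum_congr rfl
  intro P hP
  rw [mem_Irr] at hP
  rw [Finset.sum_comm]
  apply Finset.sum_congr rfl
  intro r _
  rw [← Finset.sum_filter, ← Finset.mul_sum]
  have hPr : (P ^ r).Monic := hP.1.pow r
  have hdeg : (P ^ r).natDegree = r * P.natDegree := natDegree_pow P r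
  split_ifs with hle
  · have hn : n = (P ^ r).natDegree + (n - r * P.natDegree) := by rw [hdeg]; omega
    conv_lhs => rw [hn]
    rw [sum_filter_dvd χ ψ hPr, lam_pow χ ψ hP.1, mul_assoc]
  · rw [filter_dvd_eq_empty (by rw [hdeg]; omega), Finset.sum_empty, mul_zero]


/-- `T_k` computed with an ambient bound `N`. -/
noncomputable def Tb (N k : ℕ) : R :=
  ∑ P ∈ Irr F N, ∑ r ∈ Finset.Icc 1 N,
    if r * P.natDegree = k then (P.natDegree : R) * lam χ ψ P ^ r else 0

theorem Irr_mono {k N : ℕ} (h : k ≤ N) : Irr F k ⊆ Irr F N := by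
  intro P hP
  rw [mem_Irr] at hP ⊢
  exact ⟨hP.1, hP.2.1.trans h, hP.2.2⟩

theorem Tb_eq {N k : ℕ} (hk : 1 ≤ k) (hN : k ≤ N) : Tb χ ψ N k = Tb χ ψ k k := by
  unfold Tb
  symm
  rw [← Finset.sum_subset (Irr_mono hN)]
  · apply Finset.sum_congr rfl
    intro P hP
    rw [mem_Irr] at hP
    have hd := natDegree_pos_of_irreducible hP.2.2
    apply Finset.sum_subset (Finset.Icc_subset_Icc le_rfl hN)
    intro r hr hr'
    rw [Finset.mem_Icc] at hr hr'
    rw [if_neg]
    intro h
    apply hr'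
    refine ⟨hr.1, ?_⟩
    calc r ≤ r * P.natDegree := Nat.le_mul_of_pos_right _ hd
      _ = k := h
  · intro P hP hP'
    rw [mem_Irr] at hP hP'
    apply Finset.sum_eq_zero
    intro r hr
    rw [Finset.mem_Icc] at hr
    rw [if_neg]
    intro h
    apply hP'
    refine ⟨hP.1, ?_, hP.2.2⟩
    calc P.natDegree ≤ r * P.natDegree := Nat.le_mul_of_pos_left _ hr.1
      _ = k := h

theorem vm' (hψ : ψ ≠ 1) {n : ℕ} (hn : 1 ≤ n) :
    (n : R) * S χ ψ n = Tb χ ψ n n + (∑ c : F, χ c * ψ c) * Tb χ ψ n (n - 1) := by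
  rw [vm χ ψ n]
  unfold Tb
  rw [Finset.mul_sum, ← Finset.sum_add_distrib]
  apply Finset.sum_congr rfl
  intro P hP
  rw [mem_Irr] at hP
  have hd := natDegree_pos_of_irreducible hP.2.2
  rw [Finset.mul_sum, ← Finset.sum_add_distrib]
  apply Finset.sum_congr rfl
  intro r hr
  rw [Finset.mem_Icc] at hr
  by_cases h1 : r * P.natDegree = n
  · rw [if_pos h1.le, if_pos h1, if_neg (by omega), h1, Nat.sub_self, S_zero, mul_one, mul_zero,
      add_zero]
  · by_cases h2 : r * P.natDegree = n - 1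
    · rw [if_pos (by omega), if_neg h1, if_pos h2, zero_add]
      have : n - r * P.natDegree = 1 := by omega
      rw [this, S_one]
      ring
    · rw [if_neg h1, if_neg h2, mul_zero, add_zero]
      split_ifs with h3
      · rw [S_eq_zero χ ψ hψ (by omega), mul_zero]
      · rfl

/-- `T_k = ∑_{(P, r), r deg P = k} deg P · λ(P)^r`. -/
noncomputable def T (k : ℕ) : R := Tb χ ψ k k

theorem T_eq (hψ : ψ ≠ 1) {n : ℕ} (hn : 1 ≤ n) :
    T χ ψ n = - (-(∑ c : F, χ c * ψ c)) ^ n := by
  induction n, hn using Nat.le_induction with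
  | base =>
    have h := vm' χ ψ hψ (le_refl 1)
    have h0 : Tb χ ψ 1 (1 - 1) = 0 := by
      unfold Tb
      apply Finset.sum_eq_zero
      intro P hP
      rw [mem_Irr] at hP
      have hd := natDegree_pos_of_irreducible hP.2.2
      apply Finset.sum_eq_zero
      intro r hr
      rw [Finset.mem_Icc] at hr
      rw [if_neg]
      have : 0 < r * P.natDegree := Nat.mul_pos (by omega) hd
      omega
    rw [h0, mul_zero, add_zero, Nat.cast_one, one_mul, S_one] at h
    unfold T
    rw [← h]; ring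
  | succ n hn ih =>
    have h := vm' χ ψ hψ (show 1 ≤ n + 1 by omega)
    rw [S_eq_zero χ ψ hψ (by omega), mul_zero, Nat.add_sub_cancel,
      Tb_eq χ ψ hn (Nat.le_succ n)] at h
    change 0 = T χ ψ (n + 1) + _ * T χ ψ n at h
    rw [ih] at h
    have : T χ ψ (n + 1) = (∑ c : F, χ c * ψ c) * (-(∑ c : F, χ c * ψ c)) ^ n := by
      have := eq_neg_of_add_eq_zero_left h.symm
      rw [this]; ring
    rw [this, pow_succ]; ring

end B


section D

open Classical IntermediateField

variable {F F' : Type*} [Field F] [Fintype F] [Field F'] [Fintype F'] [Algebra F F']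
variable {R : Type*} [CommRing R] [IsDomain R]
variable (χ : MulChar F R) (ψ : AddChar F R)

theorem term_eq (α : F') :
    χ (Algebra.norm F α) * ψ (Algebra.trace F F' α) =
      lam χ ψ (minpoly F α) ^ (Module.finrank F F' / (minpoly F α).natDegree) := by
  have hint : IsIntegral F α := .of_finite F α
  have hmon : (minpoly F α).Monic := minpoly.monic hint
  have hd : Module.finrank F F⟮α⟯ = (minpoly F α).natDegree := adjoin.finrank hint
  have hmul : Module.finrank F F⟮α⟯ * Module.finrank F⟮α⟯ F' = Module.finrank F F' :=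
    Module.finrank_mul_finrank F F⟮α⟯ F'
  have hdpos : 0 < (minpoly F α).natDegree := minpoly.natDegree_pos hint
  have hr : Module.finrank F F' / (minpoly F α).natDegree = Module.finrank F⟮α⟯ F' := by
    rw [← hmul, hd, Nat.mul_div_cancel_left _ hdpos]
  rw [hr, ← lam_pow χ ψ hmon]
  unfold lam
  have hN : Algebra.norm F α = (-1) ^ (minpoly F α ^ Module.finrank F⟮α⟯ F').natDegree *
      (minpoly F α ^ Module.finrank F⟮α⟯ F').coeff 0 := by
    rw [Algebra.norm_eq_norm_adjoin F α]
    have := Algebra.PowerBasis.norm_gen_eq_coeff_zero_minpoly (adjoin.powerBasis hint)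
    rw [adjoin.powerBasis_gen, minpoly_gen, adjoin.powerBasis_dim] at this
    rw [this, natDegree_pow, mul_pow, coeff_zero_eq_eval_zero, coeff_zero_eq_eval_zero, eval_pow,
      ← pow_mul]
    ring
  have hT : Algebra.trace F F' α = -(minpoly F α ^ Module.finrank F⟮α⟯ F').nextCoeff := by
    rw [trace_eq_finrank_mul_minpoly_nextCoeff F α, hmon.nextCoeff_pow, nsmul_eq_mul]
    ring
  rw [hN, hT]

theorem card_minpoly_eq {P : F[X]} (hPm : P.Monic) (hPi : Irreducible P) :
    (Finset.univ.filter (fun α : F' => minpoly F α = P)).card =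
      if P.natDegree ∣ Module.finrank F F' then P.natDegree else 0 := by
  split_ifs with hdvd
  · haveI : Fact (Irreducible P) := ⟨hPi⟩
    have hP0 : P ≠ 0 := hPm.ne_zero
    have hfr : Module.finrank F (AdjoinRoot P) = P.natDegree := by
      rw [(AdjoinRoot.powerBasis hP0).finrank, AdjoinRoot.powerBasis_dim]
    have h1 : Nat.card (AdjoinRoot P →ₐ[F] F') = P.natDegree := by
      rw [FiniteField.natCard_algHom_of_finrank_dvd (by rw [hfr]; exact hdvd), hfr]
    have h2 : Nat.card {x // x ∈ P.aroots F'} = P.natDegree := by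
      rw [← Nat.card_congr (AdjoinRoot.equiv F' F P hP0), h1]
    rw [← h2, ← Nat.card_eq_finsetCard]
    apply Nat.card_congr
    refine Equiv.subtypeEquivRight (fun α => ?_)
    rw [Finset.mem_filter, mem_aroots]
    constructor
    · rintro ⟨-, h⟩
      refine ⟨hP0, ?_⟩
      rw [← h]; exact minpoly.aeval F α
    · rintro ⟨-, h⟩
      exact ⟨Finset.mem_univ _, (minpoly.eq_of_irreducible_of_monic hPi h hPm).symm⟩
  · rw [Finset.card_eq_zero, Finset.filter_eq_empty_iff]
    intro α _ h
    apply hdvd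
    rw [← h, ← adjoin.finrank (.of_finite F α), ← Module.finrank_mul_finrank F F⟮α⟯ F']
    exact dvd_mul_right _ _

theorem Tb_self_eq {n : ℕ} (hn : 1 ≤ n) :
    Tb χ ψ n n = ∑ P ∈ Irr F n,
      if P.natDegree ∣ n then (P.natDegree : R) * lam χ ψ P ^ (n / P.natDegree) else 0 := by
  unfold Tb
  apply Finset.sum_congr rfl
  intro P hP
  rw [mem_Irr] at hP
  have hd := natDegree_pos_of_irreducible hP.2.2
  split_ifs with hdvd
  · obtain ⟨r, hr⟩ := hdvd
    have hr1 : 1 ≤ r := by
      rcases Nat.eq_zero_or_pos r with h | h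
      · rw [h, mul_zero] at hr; omega
      · exact h
    have hrn : r ≤ n := by
      calc r ≤ P.natDegree * r := Nat.le_mul_of_pos_left _ hd
        _ = n := hr.symm
    have hdiv : n / P.natDegree = r := by
      rw [hr, Nat.mul_div_cancel_left _ hd]
    rw [Finset.sum_eq_single_of_mem r (Finset.mem_Icc.mpr ⟨hr1, hrn⟩)]
    · rw [if_pos (by rw [hr, mul_comm]), hdiv]
    · intro s _ hs
      rw [if_neg]
      intro h
      apply hs
      have : s * P.natDegree = r * P.natDegree := by rw [h, hr, mul_comm]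
      exact Nat.eq_of_mul_eq_mul_right hd this
  · apply Finset.sum_eq_zero
    intro r _
    rw [if_neg]
    intro h
    exact hdvd ⟨r, by rw [← h, mul_comm]⟩

theorem sum_eq_T :
    ∑ α : F', χ (Algebra.norm F α) * ψ (Algebra.trace F F' α) = T χ ψ (Module.finrank F F') := by
  have hn : 1 ≤ Module.finrank F F' := Module.finrank_pos
  unfold T
  rw [Tb_self_eq χ ψ hn]
  have hmaps : ∀ α ∈ (Finset.univ : Finset F'), minpoly F α ∈ Irr F (Module.finrank F F') := by
    intro α _
    have hint : IsIntegral F α := .of_finite F α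
    rw [mem_Irr]
    refine ⟨minpoly.monic hint, ?_, minpoly.irreducible hint⟩
    rw [← adjoin.finrank hint, ← Module.finrank_mul_finrank F F⟮α⟯ F']
    exact Nat.le_mul_of_pos_right _ Module.finrank_pos
  rw [← Finset.sum_fiberwise_of_maps_to hmaps]
  apply Finset.sum_congr rfl
  intro P hP
  rw [mem_Irr] at hP
  have : ∀ α ∈ Finset.univ.filter (fun α : F' => minpoly F α = P),
      χ (Algebra.norm F α) * ψ (Algebra.trace F F' α) =
        lam χ ψ P ^ (Module.finrank F F' / P.natDegree) := by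
    intro α hα
    rw [Finset.mem_filter] at hα
    rw [term_eq χ ψ α, hα.2]
  rw [Finset.sum_congr rfl this, Finset.sum_const, card_minpoly_eq hP.1 hP.2.2, nsmul_eq_mul]
  split_ifs <;> simp

theorem hasse_davenport (hψ : ψ ≠ 1) :
    -(∑ x : F', χ (Algebra.norm F x) * ψ (Algebra.trace F F' x)) =
      (-(∑ x : F, χ x * ψ x)) ^ Module.finrank F F' := by
  rw [sum_eq_T χ ψ, T_eq χ ψ hψ Module.finrank_pos, neg_neg]

end D

end Groth.Agent.Lib.Helper24HD
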