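import Mathlib
import Groth.Agent.Lib.Helper24HMj

/-!
# Stability of binary forms (helper24)
-/

set_option autoImplicit false
set_option linter.style.haveILetI false
universe u v w
open CoordGrp TensorProduct

namespace Groth.Agent.Lib.Helper24HM

attribute [local instance] formsComod formsComod_isCoactAlg

section Lin
variable {k : Type u} [CommRing k] {n : ℕ}

/-- a homogeneous polynomial of degree one is a linear form -/
theorem eq_linear_of_isHomogeneous_one (ℓ : MvPolynomial (Fin n) k) (hℓ : ℓ.IsHomogeneous 1) :
    ℓ = ∑ j, MvPolynomial.C (MvPolynomial.coeff (Finsupp.single j 1) ℓ) * MvPolynomial.X j := by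
  classical
  ext m
  rw [MvPolynomial.coeff_sum]
  simp only [MvPolynomial.coeff_C_mul, MvPolynomial.coeff_X]
  by_cases hm : ∃ j, Finsupp.single j 1 = m
  · obtain ⟨j₀, rfl⟩ := hm
    rw [Finset.sum_eq_single j₀]
    · simp
    · intro j _ hj
      have : Finsupp.single j 1 ≠ Finsupp.single j₀ 1 := by
        intro h
        apply hj
        have := congrArg (fun f => f j) h
        simp only [Finsupp.single_eq_same] at this
        by_contra hne
        rw [Finsupp.single_eq_of_ne hne] at this
        exact one_ne_zero this
      rw [if_neg this, mul_zero]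
    · intro h; exact absurd (Finset.mem_univ j₀) h
  · push Not at hm
    have h0 : MvPolynomial.coeff m ℓ = 0 := by
      by_contra hne
      have hdeg := hℓ hne
      have : m ∈ {d : Fin n →₀ ℕ | d.degree = 1} := by
        show m.degree = 1
        rw [Finsupp.degree_eq_weight_one]
        exact hdeg
      rw [← Finsupp.range_single_one] at this
      obtain ⟨j, hj⟩ := this
      exact hm j hj
    rw [h0]
    symm
    apply Finset.sum_eq_zero
    intro j _
    rw [if_neg (hm j), mul_zero]

/-- divisibility by a power of a variable from the support -/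
theorem X_pow_dvd_of_support (P : MvPolynomial (Fin n) k) (i : Fin n) (e : ℕ)
    (h : ∀ m ∈ P.support, e ≤ m i) : (MvPolynomial.X i : MvPolynomial (Fin n) k) ^ e ∣ P := by
  classical
  rw [P.as_sum]
  apply Finset.dvd_sum
  intro m hm
  rw [MvPolynomial.X_pow_eq_monomial, MvPolynomial.monomial_dvd_monomial]
  refine ⟨Or.inr ?_, one_dvd _⟩
  rw [Finsupp.single_le_iff]
  exact h m hm

theorem le_of_X_pow_dvd (P : MvPolynomial (Fin n) k) (i : Fin n) (e : ℕ)
    (h : (MvPolynomial.X i : MvPolynomial (Fin n) k) ^ e ∣ P) : ∀ m ∈ P.support, e ≤ m i := by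
  classical
  obtain ⟨Q, rfl⟩ := h
  intro m hm
  rw [MvPolynomial.mem_support_iff, MvPolynomial.X_pow_eq_monomial, MvPolynomial.coeff_monomial_mul'] at hm
  by_contra hlt
  apply hm
  rw [if_neg]
  intro hle
  have := hle i
  simp only [Finsupp.single_eq_same] at this
  exact hlt this

end Lin

section Binary
variable {k : Type u} [Field k] [IsAlgClosed k]

theorem degree_of_mem_support_sigma_formPoly {n d : ℕ} (b : FormIdx n d → k)
    (g : Matrix (Fin n) (Fin n) k) (mm : Fin n →₀ ℕ)
    (h : mm ∈ (sigma g (formPoly b)).support) : mm.degree = d := by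
  have h' : mm ∈ (MvPolynomial.aeval (substVec g) (formPoly b)).support := h
  rw [← formPoly_actVec] at h'
  obtain ⟨m', rfl, -⟩ := support_formPoly _ mm h'
  exact m'.2

theorem substVec_isHomogeneous {n : ℕ} (g : Matrix (Fin n) (Fin n) k) (j : Fin n) :
    (substVec g j).IsHomogeneous 1 := by
  unfold substVec
  apply MvPolynomial.IsHomogeneous.sum
  intro i _
  exact MvPolynomial.isHomogeneous_C_mul_X _ _

/-- binary forms: stable iff all roots have multiplicity `< d/2`. -/
theorem binary_isStableVec_iff (d : ℕ) (hd : (Nat.factorial d : k) ≠ 0) (b : FormIdx 2 d → k) :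
    GLin.IsStableVec k (SLn 2 k) b ↔
      ∀ ℓ : MvPolynomial (Fin 2) k, ℓ.IsHomogeneous 1 → ℓ ≠ 0 →
        ∀ m : ℕ, ℓ ^ m ∣ formPoly b → 2 * m < d := by
  classical
  constructor
  · intro hst ℓ hℓ hℓ0 m hdvd
    by_contra hge
    push Not at hge
    let q : Fin 2 → k := fun j => MvPolynomial.coeff (Finsupp.single j 1) ℓ
    have hℓq : ℓ = ∑ j, MvPolynomial.C (q j) * MvPolynomial.X j := eq_linear_of_isHomogeneous_one ℓ hℓ
    have hq0 : q ≠ 0 := by
      intro h
      apply hℓ0
      rw [hℓq]
      simp [h]
    obtain ⟨M, hMdet, hM⟩ := exists_adapted_matrix (Submodule.span k {q})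
    rw [finrank_span_singleton hq0] at hM
    have hM1 : (M.mulVec q) 1 = 0 := hM q (Submodule.subset_span rfl) 1 (by simp)
    have hσℓ : sigma M.transpose ℓ = MvPolynomial.C ((M.mulVec q) 0) * MvPolynomial.X 0 := by
      rw [hℓq]
      have := aeval_substVec_linear M.transpose q
      rw [Matrix.transpose_transpose] at this
      show MvPolynomial.aeval (substVec M.transpose) _ = _
      rw [this, Fin.sum_univ_two, hM1]
      simp
    obtain ⟨Q, hQ⟩ := hdvd
    have hdvd' : (MvPolynomial.X 0 : MvPolynomial (Fin 2) k) ^ m ∣ sigma M.transpose (formPoly b) := by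
      rw [hQ, map_mul, map_pow, hσℓ, mul_pow, mul_comm (MvPolynomial.C _ ^ m), mul_assoc]
      exact dvd_mul_right _ _
    have hsupp := le_of_X_pow_dvd _ _ _ hdvd'
    let r : Fin 2 → ℤ := ![1, -1]
    have hr : ∑ i, r i = 0 := by simp [r, Fin.sum_univ_two]
    have hr0 : r ≠ 0 := by
      intro h
      have := congrFun h 0
      simp [r] at this
    refine not_isStableVec_of_form_weights hd b M.transpose
      (by rw [Matrix.det_transpose, hMdet]) r hr hr0 ?_ hst
    intro mm hmm
    have h1 := hsupp mm hmm
    have h2 := degree_of_mem_support_sigma_formPoly b _ mm hmm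
    rw [Finsupp.degree_eq_sum, Fin.sum_univ_two] at h2
    show (0 : ℤ) ≤ wtE r mm
    simp only [wtE, Fin.sum_univ_two, r, Matrix.cons_val_zero, Matrix.cons_val_one]
    omega
  · intro H
    rw [isStableVec_iff_form hd]
    intro g hg r hr hw
    rw [Fin.sum_univ_two] at hr
    have hginv : g * g⁻¹ = 1 := Matrix.mul_nonsing_inv g (by rw [hg]; exact isUnit_one)
    have hginv' : g⁻¹ * g = 1 := Matrix.nonsing_inv_mul g (by rw [hg]; exact isUnit_one)
    have hback : sigma g⁻¹ (sigma g (formPoly b)) = formPoly b := by
      rw [sigma_sigma, hginv, sigma_one]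
      rfl
    -- key: a variable with non-negative multiplicity excess gives a root of high multiplicity
    have key : ∀ i j : Fin 2, i ≠ j →
        (∀ mm ∈ (sigma g (formPoly b)).support, mm j ≤ mm i) → False := by
      intro i j hij hmm
      have hsupp : ∀ mm ∈ (sigma g (formPoly b)).support, (d + 1) / 2 ≤ mm i := by
        intro mm hm
        have h1 := hmm mm hm
        have h2 := degree_of_mem_support_sigma_formPoly b _ mm hm
        rw [Finsupp.degree_eq_sum, Fin.sum_univ_two] at h2
        have h3 : mm i + mm j = d := by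
          fin_cases i <;> fin_cases j <;> simp_all <;> omega
        omega
      have hdvd := X_pow_dvd_of_support _ i _ hsupp
      have hdvd' := map_dvd (sigma g⁻¹) hdvd
      rw [hback, map_pow, sigma_X] at hdvd'
      have hne : substVec g⁻¹ i ≠ 0 := by
        intro h0
        have h1 : sigma g (sigma g⁻¹ (MvPolynomial.X i)) = MvPolynomial.X i := by
          rw [sigma_sigma, hginv', sigma_one]
          rfl
        rw [sigma_X, h0, map_zero] at h1
        exact MvPolynomial.X_ne_zero i h1.symm
      have := H _ (substVec_isHomogeneous g⁻¹ i) hne _ hdvd'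
      omega
    by_contra hr0
    have hr0' : r 0 ≠ 0 := by
      intro h
      apply hr0
      funext i
      fin_cases i
      · exact h
      · show r 1 = 0
        omega
    rcases lt_or_gt_of_ne hr0' with hneg | hpos
    · refine key 1 0 (by decide) ?_
      intro mm hm
      have := hw mm hm
      simp only [wtE, Fin.sum_univ_two] at this
      have h1 : r 1 = - r 0 := by omega
      rw [h1] at this
      by_contra hlt
      push Not at hlt
      have h2 : ((mm 0 : ℤ) - mm 1) * r 0 < 0 := by
        apply mul_neg_of_pos_of_neg _ hneg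
        have : (mm 1 : ℤ) < mm 0 := by exact_mod_cast hlt
        omega
      nlinarith
    · refine key 0 1 (by decide) ?_
      intro mm hm
      have := hw mm hm
      simp only [wtE, Fin.sum_univ_two] at this
      have h1 : r 1 = - r 0 := by omega
      rw [h1] at this
      by_contra hlt
      push Not at hlt
      have h2 : ((mm 1 : ℤ) - mm 0) * r 0 > 0 := by
        apply mul_pos _ hpos
        have : (mm 0 : ℤ) < mm 1 := by exact_mod_cast hlt
        omega
      nlinarith

end Binary

end Groth.Agent.Lib.Helper24HM
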