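import Mathlib
import Groth.Agent.Lib.Helper24HMr
import Groth.Agent.Lib.Helper24HMk

/-!
# Semistability of binary forms (helper24)
-/

set_option autoImplicit false
set_option linter.style.haveILetI false
universe u v w
open CoordGrp TensorProduct

namespace Groth.Agent.Lib.Helper24HM

attribute [local instance] formsComod formsComod_isCoactAlg

section Binary
variable {k : Type u} [Field k] [IsAlgClosed k] [CharZero k]

theorem formPoly_ne_zero {n d : ℕ} (b : FormIdx n d → k) (hb : b ≠ 0) : formPoly b ≠ 0 := by
  have hd : (Nat.factorial d : k) ≠ 0 := Nat.cast_ne_zero.mpr (Nat.factorial_ne_zero d)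
  intro h0
  apply hb
  funext m
  have := coeff_formPoly b m
  rw [h0, MvPolynomial.coeff_zero] at this
  rcases mul_eq_zero.mp this.symm with h | h
  · exact absurd h (multinomial_ne_zero hd m)
  · exact h

/-- binary forms: semistable iff all roots have multiplicity `≤ d/2`. -/
theorem binary_isSemistableVec_iff (d : ℕ) (b : FormIdx 2 d → k) (hb : b ≠ 0) :
    GLin.IsSemistableVec k (SLn 2 k) b ↔
      ∀ ℓ : MvPolynomial (Fin 2) k, ℓ.IsHomogeneous 1 → ℓ ≠ 0 →
        ∀ m : ℕ, ℓ ^ m ∣ formPoly b → 2 * m ≤ d := by
  classical
  have hF0 : formPoly b ≠ 0 := formPoly_ne_zero b hb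
  constructor
  · intro hss ℓ hℓ hℓ0 m hdvd
    by_contra hge
    push Not at hge
    let q : Fin 2 → k := fun j => MvPolynomial.coeff (Finsupp.single j 1) ℓ
    have hℓq : ℓ = ∑ j, MvPolynomial.C (q j) * MvPolynomial.X j := eq_linear_of_isHomogeneous_one ℓ hℓ
    have hq0 : q ≠ 0 := by
      intro h
      apply hℓ0
      rw [hℓq]
      simp [h]
    obtain ⟨M, hMdet, hM⟩ := exists_adapted_matrix (Submodule.span k {q})
    rw [finrank_span_singleton hq0] at hM
    have hM1 : (M.mulVec q) 1 = 0 := hM q (Submodule.subset_span rfl) 1 (by simp)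
    have hσℓ : sigma M.transpose ℓ = MvPolynomial.C ((M.mulVec q) 0) * MvPolynomial.X 0 := by
      rw [hℓq]
      have := aeval_substVec_linear M.transpose q
      rw [Matrix.transpose_transpose] at this
      show MvPolynomial.aeval (substVec M.transpose) _ = _
      rw [this, Fin.sum_univ_two, hM1]
      simp
    obtain ⟨Q, hQ⟩ := hdvd
    have hdvd' : (MvPolynomial.X 0 : MvPolynomial (Fin 2) k) ^ m ∣ sigma M.transpose (formPoly b) := by
      rw [hQ, map_mul, map_pow, hσℓ, mul_pow, mul_comm (MvPolynomial.C _ ^ m), mul_assoc]
      exact dvd_mul_right _ _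
    have hsupp := le_of_X_pow_dvd _ _ _ hdvd'
    let r : Fin 2 → ℤ := ![1, -1]
    have hr : ∑ i, r i = 0 := by simp [r, Fin.sum_univ_two]
    obtain ⟨mm, hmm, hle⟩ := (isSemistableVec_iff_form b).mp hss M.transpose
      (by rw [Matrix.det_transpose, hMdet]) r hr
    have h1 := hsupp mm hmm
    have h2 := degree_of_mem_support_sigma_formPoly b _ mm hmm
    rw [Finsupp.degree_eq_sum, Fin.sum_univ_two] at h2
    simp only [wtE, Fin.sum_univ_two, r, Matrix.cons_val_zero, Matrix.cons_val_one] at hle
    omega
  · intro H
    rw [isSemistableVec_iff_form]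
    intro g hg r hr
    rw [Fin.sum_univ_two] at hr
    have hginv : g * g⁻¹ = 1 := Matrix.mul_nonsing_inv g (by rw [hg]; exact isUnit_one)
    have hginv' : g⁻¹ * g = 1 := Matrix.nonsing_inv_mul g (by rw [hg]; exact isUnit_one)
    have hback : sigma g⁻¹ (sigma g (formPoly b)) = formPoly b := by
      rw [sigma_sigma, hginv, sigma_one]
      rfl
    by_contra hcon
    push Not at hcon
    -- key: a variable with positive multiplicity excess gives a root of high multiplicity
    have key : ∀ i j : Fin 2, i ≠ j →
        (∀ mm ∈ (sigma g (formPoly b)).support, mm j < mm i) → False := by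
      intro i j hij hmm
      have hsupp : ∀ mm ∈ (sigma g (formPoly b)).support, d / 2 + 1 ≤ mm i := by
        intro mm hm
        have h1 := hmm mm hm
        have h2 := degree_of_mem_support_sigma_formPoly b _ mm hm
        rw [Finsupp.degree_eq_sum, Fin.sum_univ_two] at h2
        have h3 : mm i + mm j = d := by
          fin_cases i <;> fin_cases j <;> simp_all <;> omega
        omega
      have hdvd := X_pow_dvd_of_support _ i _ hsupp
      have hdvd' := map_dvd (sigma g⁻¹) hdvd
      rw [hback, map_pow, sigma_X] at hdvd'
      have hne : substVec g⁻¹ i ≠ 0 := by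
        intro h0
        have h1 : sigma g (sigma g⁻¹ (MvPolynomial.X i)) = MvPolynomial.X i := by
          rw [sigma_sigma, hginv', sigma_one]
          rfl
        rw [sigma_X, h0, map_zero] at h1
        exact MvPolynomial.X_ne_zero i h1.symm
      have := H _ (substVec_isHomogeneous g⁻¹ i) hne _ hdvd'
      omega
    have hr0' : r 0 ≠ 0 := by
      intro h
      have h1 : r 1 = 0 := by omega
      have hsupp0 : (sigma g (formPoly b)).support = ∅ := by
        apply Finset.eq_empty_of_forall_notMem
        intro mm hmm
        have := hcon mm hmm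
        simp only [wtE, Fin.sum_univ_two, h, h1, mul_zero, add_zero] at this
        exact lt_irrefl _ this
      rw [MvPolynomial.support_eq_empty] at hsupp0
      rw [hsupp0, map_zero] at hback
      exact hF0 hback.symm
    rcases lt_or_gt_of_ne hr0' with hneg | hpos
    · refine key 1 0 (by decide) ?_
      intro mm hm
      have := hcon mm hm
      simp only [wtE, Fin.sum_univ_two] at this
      have h1 : r 1 = - r 0 := by omega
      rw [h1] at this
      by_contra hlt
      push Not at hlt
      have h2 : ((mm 0 : ℤ) - mm 1) * r 0 ≤ 0 := by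
        apply mul_nonpos_of_nonneg_of_nonpos _ hneg.le
        have : (mm 1 : ℤ) ≤ mm 0 := by exact_mod_cast hlt
        omega
      nlinarith
    · refine key 0 1 (by decide) ?_
      intro mm hm
      have := hcon mm hm
      simp only [wtE, Fin.sum_univ_two] at this
      have h1 : r 1 = - r 0 := by omega
      rw [h1] at this
      by_contra hlt
      push Not at hlt
      have h2 : ((mm 1 : ℤ) - mm 0) * r 0 ≥ 0 := by
        apply mul_nonneg _ hpos.le
        have : (mm 0 : ℤ) ≤ mm 1 := by exact_mod_cast hlt
        omega
      nlinarith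

end Binary

end Groth.Agent.Lib.Helper24HM
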