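import Mathlib

/-!
# Pairings with the highest root

Helper library for S17471.
-/

namespace Groth.Agent.Lib.Helper24HighRoot

universe u v w x

variable {ι : Type u} {R : Type v} {M : Type w} {N : Type x}
  [Field R] [LinearOrder R] [IsStrictOrderedRing R]
  [AddCommGroup M] [Module R M] [AddCommGroup N] [Module R N] [Fintype ι]
  (P : RootPairing ι R M N) [P.IsRootSystem] [P.IsCrystallographic] [P.IsReduced]
  (b : P.Base) (θ : ι) (hθ : b.IsPos θ)
  (hmax : ∀ i : ι, b.IsPos i → P.root θ + P.root i ∉ Set.range P.root)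

include hθ in
theorem root_ne_neg (i : ι) (hi : b.IsPos i) : P.root i ≠ -P.root θ := by
  intro h
  letI := P.indexNeg
  have h1 : P.root i = P.root (-θ) := by simpa using h
  have h2 : i = -θ := P.root.injective h1
  rw [h2] at hi
  exact (RootPairing.Base.IsPos.neg_iff_not b θ).mp hi hθ

include hθ hmax in
theorem pairingIn_nonneg (i : ι) (hi : b.IsPos i) : 0 ≤ P.pairingIn ℤ i θ := by
  by_contra h
  push Not at h
  have := P.root_add_root_mem_of_pairingIn_neg h (root_ne_neg P b θ hθ i hi)
  rw [add_comm] at this
  exact hmax i hi this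

theorem pairing_sub (i k : ι) (h : P.root k = P.root θ - P.root i) :
    P.pairingIn ℤ k θ = 2 - P.pairingIn ℤ i θ := by
  apply FaithfulSMul.algebraMap_injective ℤ R
  rw [map_sub, P.algebraMap_pairingIn ℤ, P.algebraMap_pairingIn ℤ]
  rw [← P.root_coroot_eq_pairing, h, map_sub, LinearMap.sub_apply, P.root_coroot_eq_pairing,
    P.root_coroot_eq_pairing, P.pairing_same]
  simp

include hθ hmax in
theorem pairingIn_le_one (i : ι) (hi : b.IsPos i) (hne : i ≠ θ) : P.pairingIn ℤ i θ ≤ 1 := by
  by_contra h
  push Not at h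
  have hpos : 0 < P.pairingIn ℤ i θ := by omega
  obtain ⟨k, hk⟩ := P.root_sub_root_mem_of_pairingIn_pos hpos hne
  letI := P.indexNeg
  rcases RootPairing.Base.IsPos.or_neg b k with hkpos | hkneg
  · apply hmax k hkpos
    exact ⟨i, by rw [hk]; abel⟩
  · have hk' : P.root (-k) = P.root θ - P.root i := by
      have : P.root (-k) = -P.root k := by
        simp [RootPairing.indexNeg_neg]
      rw [this, hk]; abel
    have hp := pairing_sub P θ i (-k) hk'
    rcases lt_or_eq_of_le (show 2 ≤ P.pairingIn ℤ i θ by omega) with h3 | h2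
    · have hneg : P.pairingIn ℤ (-k) θ < 0 := by omega
      have := P.root_add_root_mem_of_pairingIn_neg hneg (root_ne_neg P b θ hθ (-k) hkneg)
      rw [add_comm] at this
      exact hmax (-k) hkneg this
    · apply hmax (-k) hkneg
      have h2' : P.pairing i θ = 2 := by
        rw [← P.algebraMap_pairingIn ℤ, ← h2]; simp
      have hr : P.reflection θ (P.root i) = P.root i - (P.pairing i θ) • P.root θ :=
        P.reflection_apply_root θ i
      rw [h2'] at hr
      have : P.root θ + P.root (-k) = -(P.root (P.reflectionPerm θ i)) := by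
        rw [hk', P.root_reflectionPerm, hr]
        rw [two_smul]; abel
      rw [this]
      exact (P.neg_mem_range_root_iff).mpr ⟨_, rfl⟩

include hθ hmax in
theorem main :
    ∑ i ∈ Finset.univ.filter (fun i => 0 < b.height i), P.pairing i θ ^ 2 =
      2 + ∑ i ∈ Finset.univ.filter (fun i => 0 < b.height i), P.pairing i θ := by
  classical
  have hmem : θ ∈ Finset.univ.filter (fun i => 0 < b.height i) := by
    simp only [Finset.mem_filter, Finset.mem_univ, true_and]
    exact hθ
  rw [← Finset.add_sum_erase _ _ hmem, ← Finset.add_sum_erase _ _ hmem, P.pairing_same]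
  have : ∑ i ∈ (Finset.univ.filter (fun i => 0 < b.height i)).erase θ, P.pairing i θ ^ 2 =
      ∑ i ∈ (Finset.univ.filter (fun i => 0 < b.height i)).erase θ, P.pairing i θ := by
    apply Finset.sum_congr rfl
    intro i hi
    rw [Finset.mem_erase, Finset.mem_filter] at hi
    have hipos : b.IsPos i := hi.2.2
    have h0 := pairingIn_nonneg P b θ hθ hmax i hipos
    have h1 := pairingIn_le_one P b θ hθ hmax i hipos hi.1
    rw [← P.algebraMap_pairingIn ℤ]
    rcases (show P.pairingIn ℤ i θ = 0 ∨ P.pairingIn ℤ i θ = 1 by omega) with h | h <;>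
      rw [h] <;> simp
  rw [this]
  ring

end Groth.Agent.Lib.Helper24HighRoot
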