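import Mathlib
import Groth.Prelude.Def_Hoch
import Groth.Prelude.Def_CoactBr2
import Groth.Agent.Lib.Helper25BCComod

set_option autoImplicit false
universe u v w
open TensorProduct

/-!
# helper24: Hochschild cohomology of a comodule commutes with base change over a field (S19275)

`Data` packages comparison maps `φ n : R ⊗ Cⁿ(A,V) → Cⁿ(R ⊗ A, R ⊗ V)` with `φ 0 = id` and the
recursion on pure tensors; `Data.bijective`, `Data.comm_d`, `Data.exists_equiv`.
-/

namespace Groth.Agent.Lib.Helper24HochBC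

open Groth.Agent.Lib.Helper25

section Ext

variable {K : Type*} [CommRing K] {R : Type*} [CommRing R] [Algebra K R]
  {M : Type*} [AddCommGroup M] [Module K M] {P : Type*} [AddCommGroup P] [Module R P]

theorem tmul_eq_smul_one (r : R) (m : M) : r ⊗ₜ[K] m = r • ((1 : R) ⊗ₜ[K] m) := by
  rw [TensorProduct.smul_tmul', smul_eq_mul, mul_one]

theorem ext_bc {f g : R ⊗[K] M →ₗ[R] P} (h : ∀ m : M, f ((1 : R) ⊗ₜ[K] m) = g ((1 : R) ⊗ₜ[K] m)) :
    f = g := by
  apply LinearMap.ext
  intro x
  induction x using TensorProduct.induction_on with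
  | zero => simp
  | add x y hx hy => rw [map_add, map_add, hx, hy]
  | tmul r m => rw [tmul_eq_smul_one, map_smul, map_smul, h]

end Ext

section Setup

variable (K : Type u) [Field K] (A : Type v) [CommRing A] [HopfAlgebra K A]
    (V : Type v) [AddCommGroup V] [Module K V] [HopfRep.Comod K A V]
    (R : Type w) [CommRing R] [Algebra K R]

structure Data where
  φ : ∀ n : ℕ, R ⊗[K] (Hoch.cochain K A V n) →ₗ[R] (Hoch.cochain R (R ⊗[K] A) (R ⊗[K] V) n)
  hφ0 : ∀ x : R ⊗[K] V, φ 0 x = x
  hφs : ∀ (n : ℕ) (r : R) (c : Hoch.cochain K A V n) (a : A),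
      φ (n + 1) (r ⊗ₜ[K] (c ⊗ₜ[K] a)) = (φ n (r ⊗ₜ[K] c)) ⊗ₜ[R] ((1 : R) ⊗ₜ[K] a)

variable {K A V R}

theorem Data.succ_eq (D : Data K A V R) (n : ℕ) :
    D.φ (n + 1) = (TensorProduct.AlgebraTensorModule.map (D.φ n) (LinearMap.id : R ⊗[K] A →ₗ[R] R ⊗[K] A)) ∘ₗ
      (TensorProduct.AlgebraTensorModule.distribBaseChange K R (Hoch.cochain K A V n) A).toLinearMap := by
  apply ext_bc
  intro y
  induction y using TensorProduct.induction_on with
  | zero => simp
  | add x y hx hy => rw [tmul_add, map_add, map_add, hx, hy]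
  | tmul c a =>
    rw [D.hφs]
    simp

theorem Data.bijective (D : Data K A V R) : ∀ n : ℕ, Function.Bijective (D.φ n)
  | 0 => by
    have : D.φ 0 = LinearMap.id := LinearMap.ext D.hφ0
    rw [this]
    exact Function.bijective_id
  | n + 1 => by
    rw [D.succ_eq n]
    have ih := Data.bijective D n
    let e : R ⊗[K] (Hoch.cochain K A V n) ≃ₗ[R] (Hoch.cochain R (R ⊗[K] A) (R ⊗[K] V) n) :=
      LinearEquiv.ofBijective (D.φ n) ih
    have : TensorProduct.AlgebraTensorModule.map (D.φ n) (LinearMap.id : R ⊗[K] A →ₗ[R] R ⊗[K] A) =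
        (TensorProduct.AlgebraTensorModule.congr e (LinearEquiv.refl R (R ⊗[K] A))).toLinearMap := by
      rfl
    rw [this]
    exact ((TensorProduct.AlgebraTensorModule.distribBaseChange K R (Hoch.cochain K A V n) A).trans
      (TensorProduct.AlgebraTensorModule.congr e (LinearEquiv.refl R (R ⊗[K] A)))).bijective


local instance instBC : HopfRep.Comod R (R ⊗[K] A) (R ⊗[K] V) := CoactBr.Comod.baseChange K R A V

/-- `φ (n+1)` on `1 ⊗ y`. -/
theorem Data.succ_one_tmul (D : Data K A V R) (n : ℕ) (y : (Hoch.cochain K A V n) ⊗[K] A) :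
    D.φ (n + 1) ((1 : R) ⊗ₜ[K] y) =
      (D.φ n).rTensor (R ⊗[K] A) (bcMapG K R A (Hoch.cochain K A V n) y) := by
  induction y using TensorProduct.induction_on with
  | zero => simp
  | add x y hx hy => rw [tmul_add, map_add, map_add, map_add, hx, hy]
  | tmul c a =>
    rw [D.hφs, bcMapG_tmul, LinearMap.rTensor_tmul]

/-- `φ (n+2)` on `1 ⊗ (c ⊗ z)` re-bracketed. -/
theorem Data.succ_succ_assoc (D : Data K A V R) (n : ℕ) (c : Hoch.cochain K A V n) (z : A ⊗[K] A) :
    D.φ (n + 2) ((1 : R) ⊗ₜ[K] ((TensorProduct.assoc K (Hoch.cochain K A V n) A A).symm (c ⊗ₜ[K] z))) =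
      (TensorProduct.assoc R (Hoch.cochain R (R ⊗[K] A) (R ⊗[K] V) n) (R ⊗[K] A) (R ⊗[K] A)).symm
        (D.φ n ((1 : R) ⊗ₜ[K] c) ⊗ₜ[R] bcMapG K R A A z) := by
  induction z using TensorProduct.induction_on with
  | zero => simp
  | add x y hx hy => rw [tmul_add, map_add, tmul_add, map_add, map_add, tmul_add, map_add, hx, hy]
  | tmul a₁ a₂ =>
    rw [TensorProduct.assoc_symm_tmul, D.hφs, D.hφs, bcMapG_tmul, TensorProduct.assoc_symm_tmul]


theorem redComul_one_tmul (a : A) :
    Hoch.redComul R (R ⊗[K] A) ((1 : R) ⊗ₜ[K] a) = bcMapG K R A A (Hoch.redComul K A a) := by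
  rw [Hoch.redComul_apply, Hoch.redComul_apply, map_sub, map_sub, comul_one_tmul', bcMapG_tmul,
    bcMapG_tmul, Algebra.TensorProduct.one_def]

theorem Data.comm_d (D : Data K A V R) : ∀ (n : ℕ) (x : R ⊗[K] (Hoch.cochain K A V n)),
    D.φ (n + 1) ((Hoch.d K A V n).baseChange R x) =
      Hoch.d R (R ⊗[K] A) (R ⊗[K] V) n (D.φ n x)
  | 0 => by
    intro x
    have key : D.φ 1 ∘ₗ (Hoch.d K A V 0).baseChange R =
        Hoch.d R (R ⊗[K] A) (R ⊗[K] V) 0 ∘ₗ D.φ 0 := by
      apply ext_bc
      intro v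
      rw [LinearMap.comp_apply, LinearMap.comp_apply, LinearMap.baseChange_tmul, D.hφ0]
      rw [Hoch.d_zero_apply, Hoch.d_zero_apply, tmul_sub, map_sub]
      rw [D.succ_one_tmul 0, D.succ_one_tmul 0]
      have h0 : D.φ 0 = LinearMap.id := LinearMap.ext D.hφ0
      rw [h0, LinearMap.rTensor_id, LinearMap.id_apply, LinearMap.id_apply,
        baseChange_coact_one_tmul', bcMapG_tmul, Algebra.TensorProduct.one_def]
    exact LinearMap.congr_fun key x
  | n + 1 => by
    intro x
    have ih := Data.comm_d D n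
    have key : D.φ (n + 2) ∘ₗ (Hoch.d K A V (n + 1)).baseChange R =
        Hoch.d R (R ⊗[K] A) (R ⊗[K] V) (n + 1) ∘ₗ D.φ (n + 1) := by
      apply ext_bc
      intro y
      rw [LinearMap.comp_apply, LinearMap.comp_apply, LinearMap.baseChange_tmul]
      induction y using TensorProduct.induction_on with
      | zero => simp
      | add x y hx hy => rw [map_add, tmul_add, map_add, hx, hy, tmul_add, map_add, map_add]
      | tmul c a =>
        rw [Hoch.d_succ, Hoch.d_succ, LinearMap.add_apply, LinearMap.add_apply,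
          LinearMap.smul_apply, LinearMap.smul_apply, LinearMap.rTensor_tmul, D.hφs,
          LinearMap.rTensor_tmul, Hoch.tail_tmul, Hoch.tail_tmul]
        rw [tmul_add, map_add, D.hφs, ← LinearMap.baseChange_tmul, ih]
        congr 1
        rw [TensorProduct.tmul_smul, ← Hoch.redComul_apply, ← Hoch.redComul_apply,
          redComul_one_tmul]
        have hs : ((-1 : K) ^ (n + 1)) • ((1 : R) ⊗ₜ[K]
            ((TensorProduct.assoc K (Hoch.cochain K A V n) A A).symm (c ⊗ₜ[K] Hoch.redComul K A a))) =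
            ((-1 : R) ^ (n + 1)) • ((1 : R) ⊗ₜ[K]
            ((TensorProduct.assoc K (Hoch.cochain K A V n) A A).symm (c ⊗ₜ[K] Hoch.redComul K A a))) := by
          rw [← algebraMap_smul R ((-1 : K) ^ (n + 1)), map_pow, map_neg, map_one]
        rw [hs, map_smul, D.succ_succ_assoc]
    exact LinearMap.congr_fun key x


section Coh

variable (D : Data K A V R) (n : ℕ)

/-- The base change of a cocycle is a cocycle. -/
theorem Data.mem_cocycles (x : R ⊗[K] (Hoch.cocycles K A V n)) :
    D.φ n ((Hoch.cocycles K A V n).subtype.baseChange R x) ∈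
      Hoch.cocycles R (R ⊗[K] A) (R ⊗[K] V) n := by
  change Hoch.d R (R ⊗[K] A) (R ⊗[K] V) n _ = 0
  rw [← D.comm_d]
  have : Hoch.d K A V n ∘ₗ (Hoch.cocycles K A V n).subtype = 0 := by
    apply LinearMap.ext
    intro z
    exact z.2
  have h2 : (Hoch.d K A V n).baseChange R ((Hoch.cocycles K A V n).subtype.baseChange R x) =
      ((Hoch.d K A V n ∘ₗ (Hoch.cocycles K A V n).subtype).baseChange R) x := by
    rw [LinearMap.baseChange_comp]; rfl
  rw [h2, this, LinearMap.baseChange_zero, LinearMap.zero_apply, map_zero]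

/-- The comparison map on cocycles. -/
noncomputable def Data.Psi : R ⊗[K] (Hoch.cocycles K A V n) →ₗ[R]
    Hoch.cocycles R (R ⊗[K] A) (R ⊗[K] V) n :=
  LinearMap.codRestrict _ (D.φ n ∘ₗ (Hoch.cocycles K A V n).subtype.baseChange R)
    (fun x => D.mem_cocycles n x)

theorem Data.Psi_val (x : R ⊗[K] (Hoch.cocycles K A V n)) :
    ((D.Psi n x : Hoch.cocycles R (R ⊗[K] A) (R ⊗[K] V) n) : Hoch.cochain R (R ⊗[K] A) (R ⊗[K] V) n) =
      D.φ n ((Hoch.cocycles K A V n).subtype.baseChange R x) := rfl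

/-- An element whose comparison image is a coboundary dies in the quotient by coboundaries. -/
theorem Data.mkQ_eq_zero_of_mem_coboundaries (u : R ⊗[K] (Hoch.cochain K A V n))
    (hu : D.φ n u ∈ Hoch.coboundaries R (R ⊗[K] A) (R ⊗[K] V) n) :
    (Hoch.coboundaries K A V n).mkQ.baseChange R u = 0 := by
  cases n with
  | zero =>
    have h0 : D.φ 0 u = 0 := hu
    have : u = 0 := (D.bijective 0).1 (by rw [h0, map_zero])
    rw [this, map_zero]
  | succ m =>
    obtain ⟨y', hy'⟩ := hu
    obtain ⟨y, rfl⟩ := (D.bijective m).2 y'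
    rw [← D.comm_d] at hy'
    have hu' : u = (Hoch.d K A V m).baseChange R y := ((D.bijective (m + 1)).1 hy').symm
    have h2 : (Hoch.coboundaries K A V (m + 1)).mkQ.baseChange R ((Hoch.d K A V m).baseChange R y) =
        (((Hoch.coboundaries K A V (m + 1)).mkQ ∘ₗ Hoch.d K A V m).baseChange R) y := by
      rw [LinearMap.baseChange_comp]; rfl
    rw [hu', h2]
    have : (Hoch.coboundaries K A V (m + 1)).mkQ ∘ₗ Hoch.d K A V m = 0 := by
      apply LinearMap.ext
      intro c
      rw [LinearMap.comp_apply, Submodule.mkQ_apply, LinearMap.zero_apply,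
        Submodule.Quotient.mk_eq_zero]
      exact ⟨c, rfl⟩
    rw [this, LinearMap.baseChange_zero, LinearMap.zero_apply]


/-- The cohomology comparison. -/
theorem Data.exists_equiv :
    ∃ e : R ⊗[K] Hoch.H K A V n ≃ₗ[R] Hoch.H R (R ⊗[K] A) (R ⊗[K] V) n,
      ∀ (r : R) (z : Hoch.cocycles K A V n)
        (hz : D.φ n (r ⊗ₜ[K] (z : Hoch.cochain K A V n)) ∈ Hoch.cocycles R (R ⊗[K] A) (R ⊗[K] V) n),
        e (r ⊗ₜ[K] Hoch.H.mk K A V n z) =
          Hoch.H.mk R (R ⊗[K] A) (R ⊗[K] V) n ⟨D.φ n (r ⊗ₜ[K] (z : Hoch.cochain K A V n)), hz⟩ := by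
  classical
  set Z := Hoch.cocycles K A V n with hZ
  set B := Hoch.coboundaries K A V n with hB
  set N := B.comap Z.subtype with hN
  -- the two maps out of `R ⊗ Z`
  let p : R ⊗[K] Z →ₗ[R] R ⊗[K] Hoch.H K A V n := (Hoch.H.mk K A V n).baseChange R
  let q : R ⊗[K] Z →ₗ[R] Hoch.H R (R ⊗[K] A) (R ⊗[K] V) n :=
    Hoch.H.mk R (R ⊗[K] A) (R ⊗[K] V) n ∘ₗ D.Psi n
  have hp : Function.Surjective p := by
    change Function.Surjective ((Hoch.H.mk K A V n).lTensor R)
    exact LinearMap.lTensor_surjective R (Submodule.mkQ_surjective _)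
  -- exactness of `R ⊗ N → R ⊗ Z → R ⊗ (C/B)`
  let g : Z →ₗ[K] (Hoch.cochain K A V n) ⧸ B := B.mkQ ∘ₗ Z.subtype
  have hgker : LinearMap.ker g = N := by
    ext z
    simp [g, hN, Submodule.mem_comap]
  have hex : Function.Exact (N.subtype.lTensor R) (g.lTensor R) := by
    apply Module.Flat.lTensor_exact R
    rw [LinearMap.exact_iff, hgker, Submodule.range_subtype]
  have hpN : ∀ x : R ⊗[K] N, p (N.subtype.lTensor R x) = 0 := by
    intro x
    change ((Hoch.H.mk K A V n).lTensor R) (N.subtype.lTensor R x) = 0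
    rw [← LinearMap.comp_apply, ← LinearMap.lTensor_comp]
    have : Hoch.H.mk K A V n ∘ₗ N.subtype = 0 := by
      apply LinearMap.ext
      intro z
      change N.mkQ (z : Z) = 0
      rw [Submodule.mkQ_apply, Submodule.Quotient.mk_eq_zero]
      exact z.2
    rw [this, LinearMap.lTensor_zero, LinearMap.zero_apply]
  -- key: `q x = 0 → p x = 0`
  have hqp : ∀ x : R ⊗[K] Z, q x = 0 → p x = 0 := by
    intro x hx
    have h1 : (D.Psi n x : Hoch.cochain R (R ⊗[K] A) (R ⊗[K] V) n) ∈
        Hoch.coboundaries R (R ⊗[K] A) (R ⊗[K] V) n := by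
      have : D.Psi n x ∈ (Hoch.coboundaries R (R ⊗[K] A) (R ⊗[K] V) n).comap
          (Hoch.cocycles R (R ⊗[K] A) (R ⊗[K] V) n).subtype := by
        rw [← Submodule.Quotient.mk_eq_zero]
        exact hx
      exact this
    rw [D.Psi_val] at h1
    have h2 := D.mkQ_eq_zero_of_mem_coboundaries n _ h1
    have h3 : g.lTensor R x = 0 := by
      change (g.baseChange R) x = 0
      have : g.baseChange R = B.mkQ.baseChange R ∘ₗ Z.subtype.baseChange R :=
        LinearMap.baseChange_comp _ _
      rw [this, LinearMap.comp_apply]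
      exact h2
    obtain ⟨x', rfl⟩ := (hex x).mp h3
    exact hpN x'
  have hpq : ∀ x : R ⊗[K] Z, p x = 0 → q x = 0 := by
    intro x hx
    -- `x` comes from `R ⊗ N`
    have hex2 : Function.Exact (N.subtype.lTensor R) ((Hoch.H.mk K A V n).lTensor R) := by
      apply lTensor_exact R _ (Submodule.mkQ_surjective _)
      rw [LinearMap.exact_iff]
      change LinearMap.ker N.mkQ = _
      rw [Submodule.ker_mkQ, Submodule.range_subtype]
    obtain ⟨x', rfl⟩ := (hex2 x).mp hx
    -- reduce to pure tensors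
    induction x' using TensorProduct.induction_on with
    | zero => simp
    | add a b ha hb =>
      rw [map_add, map_add, ha (hpN a), hb (hpN b), add_zero]
    | tmul r z =>
      change Hoch.H.mk R (R ⊗[K] A) (R ⊗[K] V) n (D.Psi n (r ⊗ₜ[K] (z : Z))) = 0
      change (Submodule.mkQ _) _ = 0
      rw [Submodule.mkQ_apply, Submodule.Quotient.mk_eq_zero, Submodule.mem_comap]
      change D.φ n (r ⊗ₜ[K] ((z : Z) : Hoch.cochain K A V n)) ∈ _
      have hzB : ((z : Z) : Hoch.cochain K A V n) ∈ B := z.2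
      cases n with
      | zero =>
        have : ((z : Z) : Hoch.cochain K A V 0) = 0 := hzB
        rw [this, tmul_zero, map_zero]
        exact Submodule.zero_mem _
      | succ m =>
        obtain ⟨c, hc⟩ := hzB
        rw [← hc, ← LinearMap.baseChange_tmul, D.comm_d]
        exact ⟨_, rfl⟩
  have hker : LinearMap.ker p ≤ LinearMap.ker q := fun x hx => hpq x hx
  let E : R ⊗[K] Hoch.H K A V n →ₗ[R] Hoch.H R (R ⊗[K] A) (R ⊗[K] V) n :=
    (LinearMap.ker p).liftQ q hker ∘ₗ (p.quotKerEquivOfSurjective hp).symm.toLinearMap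
  have hE : ∀ x, E (p x) = q x := by
    intro x
    change (LinearMap.ker p).liftQ q hker ((p.quotKerEquivOfSurjective hp).symm (p x)) = q x
    have : (p.quotKerEquivOfSurjective hp).symm (p x) = Submodule.Quotient.mk x := by
      rw [LinearEquiv.symm_apply_eq]
      rfl
    rw [this, Submodule.liftQ_apply]
  have hEbij : Function.Bijective E := by
    constructor
    · rw [injective_iff_map_eq_zero]
      intro y hy
      obtain ⟨x, rfl⟩ := hp y
      rw [hE] at hy
      exact hqp x hy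
    · intro h'
      obtain ⟨z', rfl⟩ := Submodule.mkQ_surjective _ h'
      obtain ⟨u, hu⟩ := (D.bijective n).2 (z' : Hoch.cochain R (R ⊗[K] A) (R ⊗[K] V) n)
      have hdu : (Hoch.d K A V n).lTensor R u = 0 := by
        change (Hoch.d K A V n).baseChange R u = 0
        apply (D.bijective (n + 1)).1
        rw [D.comm_d, hu, map_zero]
        exact z'.2
      have hexZ : Function.Exact (Z.subtype.lTensor R) ((Hoch.d K A V n).lTensor R) := by
        apply Module.Flat.lTensor_exact R
        exact LinearMap.exact_subtype_ker_map _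
      obtain ⟨x, rfl⟩ := (hexZ u).mp hdu
      refine ⟨p x, ?_⟩
      rw [hE]
      change Hoch.H.mk R (R ⊗[K] A) (R ⊗[K] V) n (D.Psi n x) = _
      congr 1
      apply Subtype.ext
      rw [D.Psi_val]
      exact hu
  refine ⟨LinearEquiv.ofBijective E hEbij, ?_⟩
  intro r z hz
  change E (r ⊗ₜ[K] Hoch.H.mk K A V n z) = _
  have : r ⊗ₜ[K] Hoch.H.mk K A V n z = p (r ⊗ₜ[K] z) := rfl
  rw [this, hE]
  rfl

end Coh

end Setup

end Groth.Agent.Lib.Helper24HochBC
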