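import Mathlib
import Groth.Agent.Lib.Helper24Bezout1

/-!
# Finiteness of the solution set of an inhomogeneous system with trivial cone (helper24)

If homogeneous polynomials `Φ_m` of positive degrees have only the trivial common zero over an
algebraically closed field, then every system `Φ_m = c_m` has finitely many solutions.
-/

set_option autoImplicit false
universe u v w

namespace Groth.Agent.Lib.Helper24HomFin

open MvPolynomial

variable {k : Type u} [Field k] {σ : Type v} [Fintype σ] {τ : Type w} [Fintype τ]

/-- the `k`-span of the monomials of degree `< N` -/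
noncomputable def lowSpan (k : Type u) [Field k] (σ : Type v) (N : ℕ) : Submodule k (MvPolynomial σ k) :=
  Submodule.span k ((fun β : σ →₀ ℕ => monomial β (1:k)) '' {β | β.degree < N})

lemma mem_lowSpan_of_isHomogeneous {N e : ℕ} (he : e < N) {h : MvPolynomial σ k}
    (hh : h.IsHomogeneous e) : h ∈ lowSpan k σ N := by
  classical
  rw [← support_sum_monomial_coeff h]
  apply Submodule.sum_mem
  intro β hβ
  have h1 : monomial β (coeff β h) = (coeff β h) • monomial β (1:k) := by
    rw [smul_monomial, smul_eq_mul, mul_one]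
  rw [h1]
  apply Submodule.smul_mem
  apply Submodule.subset_span
  refine ⟨β, ?_, rfl⟩
  have h2 : Finsupp.degree β = e := by
    rw [Finsupp.degree_eq_weight_one]
    exact hh (mem_support_iff.mp hβ)
  simp only [Set.mem_setOf_eq]
  omega

section Engine

variable [IsAlgClosed k]

theorem exists_pow_mem (Φ : τ → MvPolynomial σ k)
    (hcone : ∀ y : σ → k, (∀ m, eval y (Φ m) = 0) → y = 0) (i : σ) :
    ∃ N : ℕ, (X i : MvPolynomial σ k) ^ N ∈ Ideal.span (Set.range Φ) := by
  have h1 : (X i : MvPolynomial σ k) ∈
      vanishingIdeal k (zeroLocus k (Ideal.span (Set.range Φ))) := by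
    rw [mem_vanishingIdeal_iff]
    intro y hy
    rw [mem_zeroLocus_iff] at hy
    have hy0 : y = 0 := hcone y (fun m => by
      have := hy (Φ m) (Ideal.subset_span ⟨m, rfl⟩)
      rwa [aeval_eq_eval] at this)
    rw [hy0, aeval_X]
    rfl
  rw [vanishingIdeal_zeroLocus_eq_radical] at h1
  exact h1

theorem exists_bound (Φ : τ → MvPolynomial σ k)
    (hcone : ∀ y : σ → k, (∀ m, eval y (Φ m) = 0) → y = 0) :
    ∃ N : ℕ, ∀ β : σ →₀ ℕ, N ≤ β.degree →
      monomial β (1:k) ∈ Ideal.span (Set.range Φ) := by
  classical
  choose Ni hNi using exists_pow_mem Φ hcone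
  refine ⟨∑ i, Ni i + 1, ?_⟩
  intro β hβ
  have h1 : ∃ i ∈ Finset.univ, Ni i < β i := by
    apply Finset.exists_lt_of_sum_lt
    have : β.degree = ∑ i, β i := by
      rw [Finsupp.degree_eq_sum]
    omega
  obtain ⟨i, -, hi⟩ := h1
  have hβ' : β = Finsupp.single i (Ni i) + (β - Finsupp.single i (Ni i)) := by
    ext j
    rw [Finsupp.add_apply, Finsupp.tsub_apply, Finsupp.single_apply]
    split_ifs with hij
    · subst hij; omega
    · omega
  have h2 : monomial β (1:k) = X i ^ Ni i * monomial (β - Finsupp.single i (Ni i)) 1 := by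
    rw [X_pow_eq_monomial, monomial_mul, one_mul, ← hβ']
  rw [h2]
  exact Ideal.mul_mem_right _ _ (hNi i)

theorem monomial_mem_sup (Φ : τ → MvPolynomial σ k) (D : τ → ℕ) (hD : ∀ m, 0 < D m)
    (hΦ : ∀ m, (Φ m).IsHomogeneous (D m)) (c : τ → k) (N : ℕ)
    (hN : ∀ β : σ →₀ ℕ, N ≤ β.degree → monomial β (1:k) ∈ Ideal.span (Set.range Φ))
    (hND : ∀ m, D m ≤ N) :
    ∀ e : ℕ, ∀ β : σ →₀ ℕ, β.degree = e →
      monomial β (1:k) ∈ (Ideal.span (Set.range fun m => Φ m - C (c m))).restrictScalars k ⊔
        lowSpan k σ N := by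
  classical
  intro e
  induction e using Nat.strong_induction_on with
  | _ e ih =>
    intro β hβ
    by_cases he : e < N
    · apply Submodule.mem_sup_right
      apply Submodule.subset_span
      exact ⟨β, by simp only [Set.mem_setOf_eq]; omega, rfl⟩
    · push Not at he
      have hmem := hN β (by omega)
      rw [Ideal.mem_span_range_iff_exists_fun] at hmem
      obtain ⟨h, hh⟩ := hmem
      have hcomp := congrArg (homogeneousComponent e) hh
      rw [map_sum] at hcomp
      have hmono : homogeneousComponent e (monomial β (1:k)) = monomial β 1 := by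
        apply homogeneousComponent_eq_self
        rw [← hβ]
        exact isHomogeneous_monomial _ (by rw [Finsupp.degree_eq_weight_one])
      rw [hmono] at hcomp
      have hterm : ∀ m, homogeneousComponent e (h m * Φ m) =
          homogeneousComponent (e - D m) (h m) * Φ m := by
        intro m
        have := Groth.Agent.Lib.Helper24Bezout.homogeneousComponent_mul_homogeneous (h m) (hΦ m)
          (e - D m)
        have he' : e - D m + D m = e := Nat.sub_add_cancel ((hND m).trans he)
        rw [he'] at this
        exact this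
      simp only [hterm] at hcomp
      have hsplit : monomial β (1:k) =
          ∑ m, homogeneousComponent (e - D m) (h m) * (Φ m - C (c m)) +
          ∑ m, c m • homogeneousComponent (e - D m) (h m) := by
        rw [← hcomp, ← Finset.sum_add_distrib]
        apply Finset.sum_congr rfl
        intro m _
        rw [smul_eq_C_mul]
        ring
      rw [hsplit]
      apply Submodule.add_mem
      · apply Submodule.mem_sup_left
        show _ ∈ Ideal.span (Set.range fun m => Φ m - C (c m))
        apply Ideal.sum_mem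
        intro m _
        exact Ideal.mul_mem_left _ _ (Ideal.subset_span ⟨m, rfl⟩)
      · apply Submodule.sum_mem
        intro m _
        apply Submodule.smul_mem
        set h' := homogeneousComponent (e - D m) (h m) with hh'
        have hhom : h'.IsHomogeneous (e - D m) := homogeneousComponent_isHomogeneous _ _
        rw [← support_sum_monomial_coeff h']
        apply Submodule.sum_mem
        intro γ hγ
        have h1 : monomial γ (coeff γ h') = (coeff γ h') • monomial γ (1:k) := by
          rw [smul_monomial, smul_eq_mul, mul_one]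
        rw [h1]
        apply Submodule.smul_mem
        have hγdeg : Finsupp.degree γ = e - D m := by
          rw [Finsupp.degree_eq_weight_one]
          exact hhom (mem_support_iff.mp hγ)
        have hlt : e - D m < e := by
          have := hD m
          have := hND m
          omega
        exact ih (e - D m) hlt γ hγdeg

theorem finite_quotient (Φ : τ → MvPolynomial σ k) (D : τ → ℕ) (hD : ∀ m, 0 < D m)
    (hΦ : ∀ m, (Φ m).IsHomogeneous (D m))
    (hcone : ∀ y : σ → k, (∀ m, eval y (Φ m) = 0) → y = 0) (c : τ → k) :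
    Module.Finite k (MvPolynomial σ k ⧸ Ideal.span (Set.range fun m => Φ m - C (c m))) := by
  classical
  obtain ⟨N₀, hN₀⟩ := exists_bound Φ hcone
  set N := N₀ + ∑ m, D m with hNdef
  have hN : ∀ β : σ →₀ ℕ, N ≤ β.degree → monomial β (1:k) ∈ Ideal.span (Set.range Φ) :=
    fun β hβ => hN₀ β (by omega)
  have hND : ∀ m, D m ≤ N := by
    intro m
    have := Finset.single_le_sum (f := D) (fun i _ => Nat.zero_le _) (Finset.mem_univ m)
    omega
  set 𝔞 := Ideal.span (Set.range fun m => Φ m - C (c m)) with h𝔞
  have htop : (⊤ : Submodule k (MvPolynomial σ k)) ≤ 𝔞.restrictScalars k ⊔ lowSpan k σ N := by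
    intro p _
    rw [← support_sum_monomial_coeff p]
    apply Submodule.sum_mem
    intro β _
    have h1 : monomial β (coeff β p) = (coeff β p) • monomial β (1:k) := by
      rw [smul_monomial, smul_eq_mul, mul_one]
    rw [h1]
    apply Submodule.smul_mem
    exact monomial_mem_sup Φ D hD hΦ c N hN hND _ β rfl
  -- the quotient map restricted to `lowSpan` is surjective
  have hfinlow : Module.Finite k ↥(lowSpan k σ N) := by
    apply Module.Finite.span_of_finite
    exact (Finsupp.finite_of_degree_lt N).image _
  let π : ↥(lowSpan k σ N) →ₗ[k] (MvPolynomial σ k ⧸ 𝔞) :=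
    ((Ideal.Quotient.mkₐ k 𝔞).toLinearMap).comp (lowSpan k σ N).subtype
  have hsurj : Function.Surjective π := by
    intro q
    obtain ⟨p, rfl⟩ := Ideal.Quotient.mk_surjective q
    have hp := htop (Submodule.mem_top : p ∈ ⊤)
    rw [Submodule.mem_sup] at hp
    obtain ⟨a, ha, l, hl, hal⟩ := hp
    refine ⟨⟨l, hl⟩, ?_⟩
    show Ideal.Quotient.mk 𝔞 l = Ideal.Quotient.mk 𝔞 p
    rw [← hal, map_add]
    have : Ideal.Quotient.mk 𝔞 a = 0 := Ideal.Quotient.eq_zero_iff_mem.mpr ha
    rw [this, zero_add]
  exact Module.Finite.of_surjective π hsurj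

/-- **Finiteness**: homogeneous polynomials of positive degree with only the trivial common zero:
every inhomogeneous system `Φ_m = c_m` has finitely many solutions. -/
theorem finite_solutions (Φ : τ → MvPolynomial σ k) (D : τ → ℕ) (hD : ∀ m, 0 < D m)
    (hΦ : ∀ m, (Φ m).IsHomogeneous (D m))
    (hcone : ∀ y : σ → k, (∀ m, eval y (Φ m) = 0) → y = 0) (c : τ → k) :
    {y : σ → k | ∀ m, eval y (Φ m) = c m}.Finite := by
  classical
  set 𝔞 := Ideal.span (Set.range fun m => Φ m - C (c m)) with h𝔞
  haveI hfinA : Module.Finite k (MvPolynomial σ k ⧸ 𝔞) := finite_quotient Φ D hD hΦ hcone c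
  have hfinHom : Finite ((MvPolynomial σ k ⧸ 𝔞) →ₐ[k] k) := inferInstance
  have hvan : ∀ P : {y : σ → k | ∀ m, eval y (Φ m) = c m}, ∀ p ∈ 𝔞, aeval P.1 p = 0 := by
    intro P p hp
    have hle : 𝔞 ≤ RingHom.ker (aeval P.1 : MvPolynomial σ k →ₐ[k] k) := by
      rw [h𝔞, Ideal.span_le]
      rintro _ ⟨m, rfl⟩
      rw [SetLike.mem_coe, RingHom.mem_ker, aeval_eq_eval, map_sub, P.2 m, eval_C, sub_self]
    exact hle hp
  have hinj : ∀ P : {y : σ → k | ∀ m, eval y (Φ m) = c m},
      ∃ χ : (MvPolynomial σ k ⧸ 𝔞) →ₐ[k] k,
        ∀ b, χ (Ideal.Quotient.mkₐ k 𝔞 (X b)) = P.1 b := by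
    intro P
    refine ⟨Ideal.Quotient.liftₐ 𝔞 (aeval P.1) (hvan P), fun b => ?_⟩
    have := AlgHom.congr_fun (Ideal.Quotient.liftₐ_comp 𝔞 (aeval P.1) (hvan P)) (X b)
    rw [AlgHom.comp_apply, aeval_X] at this
    exact this
  choose χ hχ using hinj
  have hχinj : Function.Injective χ := by
    intro P Q hPQ
    apply Subtype.ext
    funext b
    rw [← hχ P b, ← hχ Q b, hPQ]
  have hfinS : Finite {y : σ → k | ∀ m, eval y (Φ m) = c m} := Finite.of_injective χ hχinj
  exact Set.toFinite _

end Engine

end Groth.Agent.Lib.Helper24HomFin
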