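import Mathlib

/-!
# Induction principle for semisimple endomorphisms and the simple case (helper24)

* `semisimple_induction`: to prove a property of all semisimple endomorphisms of finite-dimensional
  spaces it suffices to treat zero spaces, "simple" endomorphisms (no non-trivial invariant
  subspace), products and conjugation by linear equivalences.
* For a simple endomorphism the characteristic polynomial is irreducible, equal to the minimal
  polynomial, and every non-zero vector is cyclic.
-/

open Polynomial Module
open scoped Classical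

universe u v w

namespace Helper24HomSS

variable {K : Type u} [Field K]

section induction

set_option backward.isDefEq.respectTransparency false in
theorem conj_prodMap_restrict {V : Type v} [AddCommGroup V] [Module K V]
    (π : Module.End K V) (p q : Submodule K V) (hp : p ∈ π.invtSubmodule) (hq : q ∈ π.invtSubmodule)
    (hpq : IsCompl p q) :
    (Submodule.prodEquivOfIsCompl p q hpq).conj ((π.restrict hp).prodMap (π.restrict hq)) = π := by
  apply LinearMap.ext
  intro x
  obtain ⟨y, rfl⟩ := (Submodule.prodEquivOfIsCompl p q hpq).surjective x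
  rw [LinearEquiv.conj_apply]
  change (Submodule.prodEquivOfIsCompl p q hpq) (((π.restrict hp).prodMap (π.restrict hq))
    ((Submodule.prodEquivOfIsCompl p q hpq).symm ((Submodule.prodEquivOfIsCompl p q hpq) y))) = _
  rw [LinearEquiv.symm_apply_apply]
  simp only [LinearMap.prodMap_apply, Submodule.coe_prodEquivOfIsCompl', map_add]
  rfl

theorem semisimple_induction
    {motive : ∀ (V : Type v) [AddCommGroup V] [Module K V] [FiniteDimensional K V], Module.End K V → Prop}
    (h0 : ∀ (V : Type v) [AddCommGroup V] [Module K V] [FiniteDimensional K V] (π : Module.End K V),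
      Subsingleton V → motive V π)
    (hsimple : ∀ (V : Type v) [AddCommGroup V] [Module K V] [FiniteDimensional K V] (π : Module.End K V),
      Nontrivial V → (∀ p ∈ π.invtSubmodule, p = ⊥ ∨ p = ⊤) → motive V π)
    (hprod : ∀ (V₁ V₂ : Type v) [AddCommGroup V₁] [Module K V₁] [FiniteDimensional K V₁]
      [AddCommGroup V₂] [Module K V₂] [FiniteDimensional K V₂] (F : Module.End K V₁) (G : Module.End K V₂),
      motive V₁ F → motive V₂ G → motive (V₁ × V₂) (F.prodMap G))
    (hiso : ∀ (V V' : Type v) [AddCommGroup V] [Module K V] [FiniteDimensional K V]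
      [AddCommGroup V'] [Module K V'] [FiniteDimensional K V'] (e : V ≃ₗ[K] V') (π : Module.End K V),
      motive V π → motive V' (e.conj π)) :
    ∀ (n : ℕ) (V : Type v) [AddCommGroup V] [Module K V] [FiniteDimensional K V] (π : Module.End K V),
      π.IsSemisimple → finrank K V = n → motive V π := by
  intro n
  induction n using Nat.strong_induction_on with
  | _ n ih =>
    intro V _ _ _ π hπ hn
    by_cases hsub : Subsingleton V
    · exact h0 V π hsub
    have hnt : Nontrivial V := not_subsingleton_iff_nontrivial.mp hsub
    by_cases hs : ∀ p ∈ π.invtSubmodule, p = ⊥ ∨ p = ⊤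
    · exact hsimple V π hnt hs
    push Not at hs
    obtain ⟨p, hp, hp0, hp1⟩ := hs
    obtain ⟨q, hq, hpq⟩ := (Module.End.isSemisimple_iff.mp hπ) p hp
    have hq1 : q ≠ ⊤ := by
      intro h
      apply hp0
      have := hpq.inf_eq_bot
      rw [h, inf_top_eq] at this
      exact this
    have hlt1 : finrank K p < n := hn ▸ Submodule.finrank_lt hp1
    have hlt2 : finrank K q < n := hn ▸ Submodule.finrank_lt hq1
    have m1 := ih _ hlt1 p (π.restrict hp) (hπ.restrict hp) rfl
    have m2 := ih _ hlt2 q (π.restrict hq) (hπ.restrict hq) rfl
    have m3 := hprod p q _ _ m1 m2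
    have m4 := hiso _ _ (Submodule.prodEquivOfIsCompl p q hpq) _ m3
    rwa [conj_prodMap_restrict π p q hp hq hpq] at m4

end induction

section simple

variable {V : Type v} [AddCommGroup V] [Module K V] (π : Module.End K V)

theorem aeval_X_mul (q : K[X]) : aeval π (X * q) = π * aeval π q := by
  rw [map_mul, aeval_X]

theorem aeval_mul_X (q : K[X]) : aeval π (q * X) = aeval π q * π := by
  rw [map_mul, aeval_X]

theorem aeval_apply_comm (q : K[X]) (x : V) : aeval π q (π x) = π (aeval π q x) := by
  have h : aeval π q * π = π * aeval π q := by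
    rw [← aeval_X_mul, ← aeval_mul_X, mul_comm]
  exact LinearMap.congr_fun h x

theorem ker_aeval_mem_invt (q : K[X]) : LinearMap.ker (aeval π q) ∈ π.invtSubmodule := by
  rw [Module.End.mem_invtSubmodule_iff_forall_mem_of_mem]
  intro x hx
  rw [LinearMap.mem_ker] at hx ⊢
  rw [aeval_apply_comm, hx, map_zero]

/-- evaluation `q ↦ q(π) v`. -/
noncomputable def evv (v : V) : K[X] →ₗ[K] V := (LinearMap.applyₗ v).comp (aeval π).toLinearMap

theorem evv_apply (v : V) (q : K[X]) : evv π v q = aeval π q v := rfl

theorem evv_X_mul (v : V) (q : K[X]) : evv π v (X * q) = π (evv π v q) := by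
  rw [evv_apply, aeval_X_mul]
  rfl

theorem evv_one (v : V) : evv π v 1 = v := by
  rw [evv_apply, map_one]
  rfl

theorem range_evv_mem_invt (v : V) : LinearMap.range (evv π v) ∈ π.invtSubmodule := by
  rw [Module.End.mem_invtSubmodule_iff_forall_mem_of_mem]
  rintro x ⟨q, rfl⟩
  exact ⟨X * q, evv_X_mul π v q⟩

variable {π}
variable (hs : ∀ p ∈ π.invtSubmodule, p = ⊥ ∨ p = ⊤)

include hs in
theorem evv_surjective {v : V} (hv : v ≠ 0) : Function.Surjective (evv π v) := by
  rw [← LinearMap.range_eq_top]
  rcases hs _ (range_evv_mem_invt π v) with h | h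
  · exfalso
    apply hv
    have : v ∈ LinearMap.range (evv π v) := ⟨1, evv_one π v⟩
    rw [h] at this
    exact (Submodule.mem_bot K).mp this
  · exact h

include hs in
theorem aeval_eq_zero_of_apply_eq_zero {v : V} (hv : v ≠ 0) (q : K[X]) (h : aeval π q v = 0) :
    aeval π q = 0 := by
  rcases hs _ (ker_aeval_mem_invt π q) with h' | h'
  · exfalso
    apply hv
    have : v ∈ LinearMap.ker (aeval π q) := LinearMap.mem_ker.mpr h
    rw [h'] at this
    exact (Submodule.mem_bot K).mp this
  · exact LinearMap.ker_eq_top.mp h'

variable [FiniteDimensional K V]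

include hs in
theorem charpoly_eq_minpoly [Nontrivial V] : π.charpoly = minpoly K π := by
  obtain ⟨v, hv⟩ := exists_ne (0 : V)
  have hint : IsIntegral K π := Algebra.IsIntegral.isIntegral π
  have hmon := minpoly.monic hint
  set m := minpoly K π with hm
  set d := m.natDegree with hd
  have hsurj : Function.Surjective ((evv π v).comp (degreeLT K d).subtype) := by
    intro x
    obtain ⟨q, rfl⟩ := evv_surjective hs hv x
    have hlt : (q %ₘ m) ∈ degreeLT K d := by
      rw [mem_degreeLT]
      calc (q %ₘ m).degree < m.degree := degree_modByMonic_lt q hmon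
        _ = d := degree_eq_natDegree hmon.ne_zero
    refine ⟨⟨q %ₘ m, hlt⟩, ?_⟩
    change evv π v (q %ₘ m) = evv π v q
    conv_rhs => rw [← modByMonic_add_div q m]
    rw [map_add, evv_apply π v (m * _), map_mul, minpoly.aeval, zero_mul]
    simp
  haveI : Module.Finite K (degreeLT K d) := Module.Finite.equiv (degreeLTEquiv K d).symm
  have h1 : finrank K V ≤ d := by
    have := LinearMap.finrank_le_finrank_of_surjective hsurj
    rwa [(degreeLTEquiv K d).finrank_eq, Module.finrank_fin_fun] at this
  have hdvd : m ∣ π.charpoly := LinearMap.minpoly_dvd_charpoly π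
  refine Polynomial.eq_of_monic_of_dvd_of_natDegree_le hmon (LinearMap.charpoly_monic π) hdvd ?_
  rw [LinearMap.charpoly_natDegree]
  exact h1

include hs in
theorem aeval_eq_zero_iff [Nontrivial V] (q : K[X]) : aeval π q = 0 ↔ π.charpoly ∣ q := by
  rw [charpoly_eq_minpoly hs, minpoly.dvd_iff]

include hs in
theorem charpoly_irreducible [Nontrivial V] : Irreducible π.charpoly := by
  have hmon := LinearMap.charpoly_monic π
  rw [irreducible_iff]
  constructor
  · intro hu
    have h0 : π.charpoly.natDegree = 0 := natDegree_eq_zero_of_isUnit hu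
    rw [LinearMap.charpoly_natDegree] at h0
    exact (Module.finrank_pos (R := K) (M := V)).ne' h0
  · intro a b hab
    have hz : aeval π (a * b) = 0 := by rw [← hab]; exact LinearMap.aeval_self_charpoly π
    rcases hs _ (ker_aeval_mem_invt π a) with h | h
    · -- a(π) injective, so b(π) = 0
      left
      have hb : aeval π b = 0 := by
        apply LinearMap.ext
        intro x
        have : aeval π b x ∈ LinearMap.ker (aeval π a) := by
          rw [LinearMap.mem_ker, ← Module.End.mul_apply, ← map_mul, hz]
          rfl
        rw [h] at this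
        exact (Submodule.mem_bot K).mp this
      obtain ⟨c, hc⟩ := (aeval_eq_zero_iff hs b).mp hb
      rw [hc] at hab
      have : π.charpoly * 1 = π.charpoly * (c * a) := by
        rw [mul_one]
        conv_lhs => rw [hab]
        ring
      have h1 := mul_left_cancel₀ hmon.ne_zero this
      exact IsUnit.of_mul_eq_one c (by rw [mul_comm]; exact h1.symm)
    · right
      have ha : aeval π a = 0 := LinearMap.ker_eq_top.mp h
      obtain ⟨c, hc⟩ := (aeval_eq_zero_iff hs a).mp ha
      rw [hc] at hab
      have : π.charpoly * 1 = π.charpoly * (c * b) := by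
        rw [mul_one]
        conv_lhs => rw [hab]
        ring
      have h1 := mul_left_cancel₀ hmon.ne_zero this
      exact IsUnit.of_mul_eq_one c (by rw [mul_comm]; exact h1.symm)

include hs in
theorem normalizedFactors_charpoly [Nontrivial V] :
    UniqueFactorizationMonoid.normalizedFactors π.charpoly = {π.charpoly} := by
  rw [UniqueFactorizationMonoid.normalizedFactors_irreducible (charpoly_irreducible hs),
    (LinearMap.charpoly_monic π).normalize_eq_self]

end simple

theorem charpoly_eq_one_of_subsingleton {V : Type v} [AddCommGroup V] [Module K V]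
    [FiniteDimensional K V] [Subsingleton V] (π : Module.End K V) : π.charpoly = 1 := by
  apply Polynomial.eq_one_of_monic_natDegree_zero (LinearMap.charpoly_monic π)
  rw [LinearMap.charpoly_natDegree, Module.finrank_zero_of_subsingleton]

end Helper24HomSS
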