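import Groth.Agent.Lib.Helper24HomSS

/-!
# Dimension of intertwiners between semisimple endomorphisms (helper24)

* `finrank_ker_aeval`: for semisimple `π` and monic irreducible `P`,
  `dim ker P(π) = mult_P(charpoly π) · deg P`.
* `finrank_Hm`: for semisimple `π₁`, `dim Hom_{K[t]}(V₁, V₂) = Σ_{P ∈ factors(charpoly π₁)} dim ker P(π₂)`.
* `main`: the formula `Σ_P mult_P(f₁) mult_P(f₂) deg P`.
-/

open Polynomial Module UniqueFactorizationMonoid
open scoped Classical

universe u v w

namespace Helper24HomSS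

variable {K : Type u} [Field K]

section aux

variable {V₁ : Type v} {V₂ : Type w} [AddCommGroup V₁] [Module K V₁] [AddCommGroup V₂] [Module K V₂]

/-- the product of two submodules, as a product. -/
def prodSubEquiv (p : Submodule K V₁) (q : Submodule K V₂) : ↥(p.prod q) ≃ₗ[K] ↥p × ↥q where
  toFun x := (⟨x.1.1, x.2.1⟩, ⟨x.1.2, x.2.2⟩)
  invFun y := ⟨(y.1.1, y.2.1), ⟨y.1.2, y.2.2⟩⟩
  map_add' _ _ := rfl
  map_smul' _ _ := rfl
  left_inv _ := rfl
  right_inv _ := rfl

theorem finrank_prodSub [FiniteDimensional K V₁] [FiniteDimensional K V₂]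
    (p : Submodule K V₁) (q : Submodule K V₂) :
    finrank K ↥(p.prod q) = finrank K p + finrank K q := by
  rw [(prodSubEquiv p q).finrank_eq, Module.finrank_prod]

theorem aeval_prodMap (F : Module.End K V₁) (G : Module.End K V₂) (P : K[X]) :
    aeval (F.prodMap G) P = (aeval F P).prodMap (aeval G P) := by
  have h := aeval_algHom_apply (LinearMap.prodMapAlgHom K V₁ V₂) (F, G) P
  rw [aeval_prod_apply] at h
  exact h

end aux

section aux2

variable {V : Type v} {V' : Type v} [AddCommGroup V] [Module K V] [AddCommGroup V'] [Module K V']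

theorem aeval_conj (e : V ≃ₗ[K] V') (π : Module.End K V) (P : K[X]) :
    aeval (e.conj π) P = e.conj (aeval π P) :=
  aeval_algHom_apply (LinearEquiv.conjAlgEquiv K e) π P

theorem ker_conj (e : V ≃ₗ[K] V') (f : Module.End K V) :
    LinearMap.ker (e.conj f) = (LinearMap.ker f).map (e : V →ₗ[K] V') := by
  ext x
  rw [LinearMap.mem_ker, LinearEquiv.conj_apply, Submodule.mem_map_equiv, LinearMap.mem_ker]
  change e (f (e.symm x)) = 0 ↔ _
  rw [e.map_eq_zero_iff]

end aux2

theorem finrank_ker_aeval (P : K[X]) (hP : P.Monic) (hirr : Irreducible P) :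
    ∀ (n : ℕ) (V : Type v) [AddCommGroup V] [Module K V] [FiniteDimensional K V] (π : Module.End K V),
      π.IsSemisimple → finrank K V = n →
      finrank K (LinearMap.ker (aeval π P)) = (normalizedFactors π.charpoly).count P * P.natDegree := by
  apply semisimple_induction
    (motive := fun V _ _ _ π => finrank K (LinearMap.ker (aeval π P)) =
      (normalizedFactors π.charpoly).count P * P.natDegree)
  · -- zero space
    intro V _ _ _ π hsub
    rw [charpoly_eq_one_of_subsingleton, normalizedFactors_one, Multiset.count_zero, zero_mul]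
    exact Module.finrank_zero_of_subsingleton
  · -- simple
    intro V _ _ _ π hnt hs
    rw [normalizedFactors_charpoly hs, Multiset.count_singleton]
    by_cases h : P = π.charpoly
    · rw [if_pos h, one_mul, h, LinearMap.aeval_self_charpoly, LinearMap.ker_zero, finrank_top,
        LinearMap.charpoly_natDegree]
    · rw [if_neg h, zero_mul]
      rcases hs _ (ker_aeval_mem_invt π P) with h' | h'
      · rw [h', finrank_bot]
      · exfalso
        apply h
        have hdvd := (aeval_eq_zero_iff hs P).mp (LinearMap.ker_eq_top.mp h')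
        have hass : Associated π.charpoly P :=
          (charpoly_irreducible hs).associated_of_dvd hirr hdvd
        exact (Polynomial.eq_of_monic_of_associated (LinearMap.charpoly_monic π) hP hass).symm
  · -- product
    intro V₁ V₂ _ _ _ _ _ _ F G h1 h2
    rw [aeval_prodMap, LinearMap.ker_prodMap, finrank_prodSub, h1, h2, LinearMap.charpoly_prodMap,
      normalizedFactors_mul (LinearMap.charpoly_monic F).ne_zero (LinearMap.charpoly_monic G).ne_zero,
      Multiset.count_add, add_mul]
  · -- iso
    intro V V' _ _ _ _ _ _ e π h1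
    rw [aeval_conj, ker_conj, LinearEquiv.finrank_map_eq, h1, LinearEquiv.charpoly_conj]

section Hm

variable {V₁ : Type v} {V₂ : Type w} [AddCommGroup V₁] [Module K V₁] [AddCommGroup V₂] [Module K V₂]

/-- the space of intertwiners `h ∘ π₁ = π₂ ∘ h`. -/
def Hm (π₁ : Module.End K V₁) (π₂ : Module.End K V₂) : Submodule K (V₁ →ₗ[K] V₂) :=
  LinearMap.ker (LinearMap.lcomp K V₂ π₁ - LinearMap.llcomp K V₁ V₂ V₂ π₂ :
    (V₁ →ₗ[K] V₂) →ₗ[K] (V₁ →ₗ[K] V₂))

theorem mem_Hm {π₁ : Module.End K V₁} {π₂ : Module.End K V₂} {h : V₁ →ₗ[K] V₂} :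
    h ∈ Hm π₁ π₂ ↔ ∀ x, h (π₁ x) = π₂ (h x) := by
  rw [Hm, LinearMap.mem_ker, LinearMap.sub_apply, sub_eq_zero]
  constructor
  · intro H x
    exact LinearMap.congr_fun H x
  · intro H
    ext x
    exact H x

theorem Hm_aeval {π₁ : Module.End K V₁} {π₂ : Module.End K V₂} {h : V₁ →ₗ[K] V₂}
    (hh : h ∈ Hm π₁ π₂) (q : K[X]) : ∀ x, h (aeval π₁ q x) = aeval π₂ q (h x) := by
  rw [mem_Hm] at hh
  induction q using Polynomial.induction_on with
  | C a =>
    intro x
    rw [aeval_C, aeval_C, Module.algebraMap_end_apply, Module.algebraMap_end_apply, map_smul]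
  | add p q hp hq =>
    intro x
    rw [map_add, map_add, LinearMap.add_apply, LinearMap.add_apply, map_add, hp, hq]
  | monomial n a ih =>
    intro x
    rw [pow_succ, ← mul_assoc, aeval_mul_X, aeval_mul_X, Module.End.mul_apply, Module.End.mul_apply,
      ih, hh]

end Hm

section HmIso

variable {V : Type v} {V' : Type v} {V₂ : Type w} [AddCommGroup V] [Module K V]
  [AddCommGroup V'] [Module K V'] [AddCommGroup V₂] [Module K V₂]

theorem Hm_conj (e : V ≃ₗ[K] V') (π : Module.End K V) (π₂ : Module.End K V₂) :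
    Hm (e.conj π) π₂ = (Hm π π₂).map
      ((e.arrowCongr (LinearEquiv.refl K V₂) : (V →ₗ[K] V₂) ≃ₗ[K] (V' →ₗ[K] V₂)) :
        (V →ₗ[K] V₂) →ₗ[K] (V' →ₗ[K] V₂)) := by
  ext h
  rw [Submodule.mem_map_equiv, mem_Hm, mem_Hm]
  constructor
  · intro H x
    have := H (e x)
    rw [LinearEquiv.conj_apply] at this
    simpa using this
  · intro H x'
    have := H (e.symm x')
    rw [LinearEquiv.conj_apply]
    simpa using this

/-- intertwiners out of a product. -/
def HmProdEquiv {V₁ : Type v} {V₁' : Type v} [AddCommGroup V₁] [Module K V₁]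
    [AddCommGroup V₁'] [Module K V₁'] (F : Module.End K V₁) (G : Module.End K V₁')
    (π₂ : Module.End K V₂) :
    ↥(Hm (F.prodMap G) π₂) ≃ₗ[K] ↥(Hm F π₂) × ↥(Hm G π₂) where
  toFun h := (⟨h.1.comp (LinearMap.inl K V₁ V₁'), mem_Hm.mpr fun x => by
      have := (mem_Hm.mp h.2) (x, 0)
      simpa using this⟩,
    ⟨h.1.comp (LinearMap.inr K V₁ V₁'), mem_Hm.mpr fun x => by
      have := (mem_Hm.mp h.2) (0, x)
      simpa using this⟩)
  invFun p := ⟨p.1.1.coprod p.2.1, mem_Hm.mpr fun x => by
    have h1 := (mem_Hm.mp p.1.2) x.1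
    have h2 := (mem_Hm.mp p.2.2) x.2
    simp [h1, h2]⟩
  map_add' _ _ := rfl
  map_smul' _ _ := rfl
  left_inv h := by
    apply Subtype.ext
    apply LinearMap.ext
    intro x
    change h.1 (x.1, 0) + h.1 (0, x.2) = h.1 x
    rw [← map_add]
    simp
  right_inv p := by
    apply Prod.ext
    · apply Subtype.ext
      apply LinearMap.ext
      intro x
      simp
    · apply Subtype.ext
      apply LinearMap.ext
      intro x
      simp

end HmIso

section HmSimple

variable {V₁ : Type v} {V₂ : Type w} [AddCommGroup V₁] [Module K V₁] [FiniteDimensional K V₁]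
  [AddCommGroup V₂] [Module K V₂] [FiniteDimensional K V₂]

theorem finrank_Hm_simple [Nontrivial V₁] (π₁ : Module.End K V₁) (π₂ : Module.End K V₂)
    (hs : ∀ p ∈ π₁.invtSubmodule, p = ⊥ ∨ p = ⊤) :
    finrank K (Hm π₁ π₂) = finrank K (LinearMap.ker (aeval π₂ π₁.charpoly)) := by
  obtain ⟨v, hv⟩ := exists_ne (0 : V₁)
  set Φ : ↥(Hm π₁ π₂) →ₗ[K] V₂ := (LinearMap.applyₗ v).comp (Hm π₁ π₂).subtype with hΦ
  have hΦa : ∀ h : ↥(Hm π₁ π₂), Φ h = h.1 v := fun h => rfl
  have hinj : Function.Injective Φ := by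
    rw [injective_iff_map_eq_zero]
    intro h hh
    rw [hΦa] at hh
    apply Subtype.ext
    apply LinearMap.ext
    intro x
    obtain ⟨q, rfl⟩ := evv_surjective hs hv x
    rw [evv_apply, Hm_aeval h.2 q v, hh, map_zero]
    rfl
  have hrange : LinearMap.range Φ = LinearMap.ker (aeval π₂ π₁.charpoly) := by
    apply le_antisymm
    · rintro _ ⟨h, rfl⟩
      rw [LinearMap.mem_ker, hΦa, ← Hm_aeval h.2, LinearMap.aeval_self_charpoly, LinearMap.zero_apply,
        map_zero]
    · intro w hw
      rw [LinearMap.mem_ker] at hw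
      have hsurj := evv_surjective hs hv
      have hle : LinearMap.ker (evv π₁ v) ≤ LinearMap.ker (evv π₂ w) := by
        intro q hq
        rw [LinearMap.mem_ker, evv_apply] at hq ⊢
        have h0 := aeval_eq_zero_of_apply_eq_zero hs hv q hq
        obtain ⟨c, rfl⟩ := (aeval_eq_zero_iff hs q).mp h0
        rw [mul_comm, map_mul, Module.End.mul_apply, hw, map_zero]
      set h : V₁ →ₗ[K] V₂ := ((LinearMap.ker (evv π₁ v)).liftQ (evv π₂ w) hle).comp
        ((evv π₁ v).quotKerEquivOfSurjective hsurj).symm.toLinearMap with hh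
      have hprop : ∀ q : K[X], h (evv π₁ v q) = evv π₂ w q := by
        intro q
        have e1 : ((evv π₁ v).quotKerEquivOfSurjective hsurj).symm (evv π₁ v q) =
            Submodule.Quotient.mk q := by
          rw [LinearEquiv.symm_apply_eq]
          rfl
        rw [hh, LinearMap.comp_apply, LinearEquiv.coe_coe, e1, Submodule.liftQ_apply]
      have hmem : h ∈ Hm π₁ π₂ := by
        rw [mem_Hm]
        intro x
        obtain ⟨q, rfl⟩ := hsurj x
        rw [← evv_X_mul, hprop, hprop, evv_X_mul]
      refine ⟨⟨h, hmem⟩, ?_⟩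
      rw [hΦa]
      change h v = w
      have := hprop 1
      rwa [evv_one, evv_one] at this
  rw [← hrange, LinearMap.finrank_range_of_inj hinj]

end HmSimple

theorem finrank_Hm {V₂ : Type w} [AddCommGroup V₂] [Module K V₂] [FiniteDimensional K V₂]
    (π₂ : Module.End K V₂) :
    ∀ (n : ℕ) (V₁ : Type v) [AddCommGroup V₁] [Module K V₁] [FiniteDimensional K V₁]
      (π₁ : Module.End K V₁), π₁.IsSemisimple → finrank K V₁ = n →
      finrank K (Hm π₁ π₂) = ((normalizedFactors π₁.charpoly).map
        (fun P => finrank K (LinearMap.ker (aeval π₂ P)))).sum := by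
  apply semisimple_induction
    (motive := fun V₁ _ _ _ π₁ => finrank K (Hm π₁ π₂) = ((normalizedFactors π₁.charpoly).map
        (fun P => finrank K (LinearMap.ker (aeval π₂ P)))).sum)
  · intro V _ _ _ π hsub
    rw [charpoly_eq_one_of_subsingleton, normalizedFactors_one, Multiset.map_zero, Multiset.sum_zero]
    haveI : Subsingleton ↥(Hm π π₂) := ⟨fun a b => Subtype.ext (LinearMap.ext fun x => by
      rw [Subsingleton.elim x 0, map_zero, map_zero])⟩
    exact Module.finrank_zero_of_subsingleton
  · intro V _ _ _ π hnt hs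
    rw [normalizedFactors_charpoly hs, Multiset.map_singleton, Multiset.sum_singleton]
    exact finrank_Hm_simple π π₂ hs
  · intro V₁ V₁' _ _ _ _ _ _ F G h1 h2
    rw [(HmProdEquiv F G π₂).finrank_eq, Module.finrank_prod, h1, h2, LinearMap.charpoly_prodMap,
      normalizedFactors_mul (LinearMap.charpoly_monic F).ne_zero (LinearMap.charpoly_monic G).ne_zero,
      Multiset.map_add, Multiset.sum_add]
  · intro V V' _ _ _ _ _ _ e π h1
    rw [Hm_conj, LinearEquiv.finrank_map_eq, h1, LinearEquiv.charpoly_conj]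

theorem main {V₁ : Type v} {V₂ : Type w} [AddCommGroup V₁] [Module K V₁] [FiniteDimensional K V₁]
    [AddCommGroup V₂] [Module K V₂] [FiniteDimensional K V₂]
    (π₁ : Module.End K V₁) (π₂ : Module.End K V₂) (h₁ : π₁.IsSemisimple) (h₂ : π₂.IsSemisimple) :
    finrank K (Hm π₁ π₂) =
      ∑ P ∈ (normalizedFactors π₁.charpoly).toFinset,
        (normalizedFactors π₁.charpoly).count P * (normalizedFactors π₂.charpoly).count P *
          P.natDegree := by
  rw [finrank_Hm π₂ _ V₁ π₁ h₁ rfl, Finset.sum_multiset_map_count]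
  apply Finset.sum_congr rfl
  intro P hP
  rw [Multiset.mem_toFinset] at hP
  have hirr : Irreducible P := irreducible_of_normalized_factor P hP
  have hmon : P.Monic := by
    have := Polynomial.monic_normalize hirr.ne_zero
    rwa [normalize_normalized_factor P hP] at this
  rw [finrank_ker_aeval P hmon hirr _ V₂ π₂ h₂ rfl, smul_eq_mul, mul_assoc]

end Helper24HomSS
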