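import Mathlib

universe u

namespace Groth.Agent.Lib.Helper24HopfDed

open TensorProduct

section tmap

variable (R : Type*) [CommRing R] (K : Type*) [Field K] [Algebra R K] [IsFractionRing R K]
variable {M N M' N' : Type*} [AddCommGroup M] [AddCommGroup N] [Module R M] [Module R N]
  [AddCommGroup M'] [AddCommGroup N'] [Module R M'] [Module R N'] [Module K M'] [Module K N']
  [IsScalarTower R K M'] [IsScalarTower R K N']

/-- `m ⊗ n ↦ f m ⊗ g n`, from a tensor product over `R` to a tensor product over `K = Frac R`. -/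
noncomputable def tmap (f : M →ₗ[R] M') (g : N →ₗ[R] N') : M ⊗[R] N →ₗ[R] M' ⊗[K] N' :=
  haveI : TensorProduct.CompatibleSMul R K M' N' :=
    IsLocalization.tensorProduct_compatibleSMul (nonZeroDivisors R) K M' N'
  (TensorProduct.equivOfCompatibleSMul R K R M' N').symm.toLinearMap ∘ₗ TensorProduct.map f g

@[simp] theorem tmap_tmul (f : M →ₗ[R] M') (g : N →ₗ[R] N') (m : M) (n : N) :
    tmap R K f g (m ⊗ₜ[R] n) = f m ⊗ₜ[K] g n := rfl

theorem tmap_injective [Module.Flat R N] [Module.Flat R M'] (f : M →ₗ[R] M') (g : N →ₗ[R] N')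
    (hf : Function.Injective f) (hg : Function.Injective g) :
    Function.Injective (tmap R K f g) := by
  have : TensorProduct.CompatibleSMul R K M' N' :=
    IsLocalization.tensorProduct_compatibleSMul (nonZeroDivisors R) K M' N'
  have h1 : Function.Injective (TensorProduct.map f g) := by
    rw [← LinearMap.lTensor_comp_rTensor]
    exact (Module.Flat.lTensor_preserves_injective_linearMap g hg).comp
      (Module.Flat.rTensor_preserves_injective_linearMap f hf)
  exact (TensorProduct.equivOfCompatibleSMul R K R M' N').symm.injective.comp h1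

end tmap

section hopf

variable (R : Type u) [CommRing R] [IsDomain R] (K : Type u) [Field K] [Algebra R K]
  [IsFractionRing R K] (A : Type u) [CommRing A] [HopfAlgebra R A]

/-- `a ↦ 1 ⊗ a`. -/
noncomputable abbrev ι : A →ₐ[R] K ⊗[R] A := Algebra.TensorProduct.includeRight

theorem ι_injective [Module.Flat R A] : Function.Injective (ι R K A) :=
  Algebra.TensorProduct.includeRight_injective (IsFractionRing.injective R K)

theorem exists_smul_eq (y : K ⊗[R] A) :
    ∃ s ∈ nonZeroDivisors R, ∃ b : A, s • y = ι R K A b := by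
  induction y using TensorProduct.induction_on with
  | zero => exact ⟨1, one_mem _, 0, by simp⟩
  | tmul k a =>
    obtain ⟨n, d, hd, rfl⟩ := IsFractionRing.div_surjective (A := R) k
    refine ⟨d, hd, n • a, ?_⟩
    have hd0 : algebraMap R K d ≠ 0 :=
      (map_ne_zero_iff _ (IsFractionRing.injective R K)).2 (nonZeroDivisors.ne_zero hd)
    rw [TensorProduct.smul_tmul', Algebra.smul_def, mul_div_cancel₀ _ hd0,
      Algebra.algebraMap_eq_smul_one, TensorProduct.smul_tmul]
    rfl
  | add x y hx hy =>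
    obtain ⟨s₁, hs₁, b₁, h₁⟩ := hx
    obtain ⟨s₂, hs₂, b₂, h₂⟩ := hy
    refine ⟨s₁ * s₂, mul_mem hs₁ hs₂, s₂ • b₁ + s₁ • b₂, ?_⟩
    rw [smul_add, mul_comm s₁ s₂, mul_smul, h₁, mul_comm s₂ s₁, mul_smul, h₂, map_add, map_smul,
      map_smul]

theorem comul_ι (a : A) : Coalgebra.comul (R := K) (ι R K A a) =
    tmap R K (ι R K A).toLinearMap (ι R K A).toLinearMap (Coalgebra.comul (R := R) a) := by
  change Coalgebra.comul (R := K) ((1 : K) ⊗ₜ[R] a) = _
  rw [TensorProduct.comul_tmul, CommSemiring.comul_apply]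
  generalize Coalgebra.comul (R := R) a = t
  induction t using TensorProduct.induction_on with
  | zero => simp
  | tmul x y =>
    rw [TensorProduct.AlgebraTensorModule.tensorTensorTensorComm_tmul, tmap_tmul]
    rfl
  | add x y hx hy => rw [TensorProduct.tmul_add, map_add, map_add, hx, hy]

theorem counit_ι (a : A) : Coalgebra.counit (R := K) (ι R K A a) =
    algebraMap R K (Coalgebra.counit (R := R) a) := by
  change Coalgebra.counit (R := K) ((1 : K) ⊗ₜ[R] a) = _
  rw [TensorProduct.counit_tmul, CommSemiring.counit_apply, Algebra.algebraMap_eq_smul_one]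

theorem antipode_ι (a : A) : HopfAlgebra.antipode K (ι R K A a) =
    ι R K A (HopfAlgebra.antipode R a) := by
  change HopfAlgebra.antipode K ((1 : K) ⊗ₜ[R] a) = _
  rw [TensorProduct.antipode_def, TensorProduct.AlgebraTensorModule.map_tmul,
    CommSemiring.antipode_eq_id]
  rfl

end hopf

section coideal

variable {R' : Type*} [CommRing R'] {C : Type*} [CommRing C] [Bialgebra R' C]

theorem isCoideal_iff' (I : Ideal C) : (I.restrictScalars R').IsCoideal ↔
    (∀ x ∈ I, Coalgebra.counit (R := R') x = 0) ∧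
    ∀ x ∈ I, Algebra.TensorProduct.map (Ideal.Quotient.mkₐ R' I) (Ideal.Quotient.mkₐ R' I)
      (Coalgebra.comul (R := R') x) = 0 := by
  rw [Submodule.isCoideal_iff]
  constructor
  · rintro ⟨h1, h2⟩
    exact ⟨fun x hx => h1 hx, fun x hx => h2 hx⟩
  · rintro ⟨h1, h2⟩
    exact ⟨fun x hx => h1 x hx, fun x hx => h2 x hx⟩

end coideal

section main

variable {R : Type u} [CommRing R] [IsDomain R] {K : Type u} [Field K] [Algebra R K]
  [IsFractionRing R K] {A : Type u} [CommRing A] [HopfAlgebra R A]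

theorem quot_square (J' : Ideal A) (J : Ideal (K ⊗[R] A)) (h : J' ≤ J.comap (ι R K A))
    (t : A ⊗[R] A) :
    Algebra.TensorProduct.map (Ideal.Quotient.mkₐ K J) (Ideal.Quotient.mkₐ K J)
      (tmap R K (ι R K A).toLinearMap (ι R K A).toLinearMap t) =
    tmap R K (Ideal.quotientMapₐ J (ι R K A) h).toLinearMap
      (Ideal.quotientMapₐ J (ι R K A) h).toLinearMap
      (Algebra.TensorProduct.map (Ideal.Quotient.mkₐ R J') (Ideal.Quotient.mkₐ R J') t) := by
  induction t using TensorProduct.induction_on with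
  | zero => simp
  | tmul x y => rfl
  | add x y hx hy => rw [map_add, map_add, map_add, map_add, hx, hy]

theorem isHopfIdeal_map (J' : Ideal A) (hJ' : J'.IsHopfIdeal R) :
    (Ideal.map (ι R K A) J').IsHopfIdeal K := by
  set J := Ideal.map (ι R K A) J' with hJ
  have h : J' ≤ J.comap (ι R K A) := Ideal.le_comap_map
  obtain ⟨hco, hanti⟩ := (Ideal.isHopfIdeal_iff R J').1 hJ'
  obtain ⟨hc1, hc2⟩ := (isCoideal_iff' J').1 hco
  rw [Ideal.isHopfIdeal_iff, isCoideal_iff']
  refine ⟨⟨?_, ?_⟩, ?_⟩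
  · have : J ≤ RingHom.ker (Bialgebra.counitAlgHom K (K ⊗[R] A)) := by
      refine Ideal.map_le_iff_le_comap.2 ?_
      intro a ha
      rw [Ideal.mem_comap, RingHom.mem_ker]
      change Coalgebra.counit (R := K) (ι R K A a) = 0
      rw [counit_ι, hc1 a ha, map_zero]
    intro x hx
    exact this hx
  · let Ψ : K ⊗[R] A →ₐ[K] ((K ⊗[R] A) ⧸ J) ⊗[K] ((K ⊗[R] A) ⧸ J) :=
      (Algebra.TensorProduct.map (Ideal.Quotient.mkₐ K J) (Ideal.Quotient.mkₐ K J)).comp
        (Bialgebra.comulAlgHom K (K ⊗[R] A))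
    have : J ≤ RingHom.ker Ψ := by
      refine Ideal.map_le_iff_le_comap.2 ?_
      intro a ha
      rw [Ideal.mem_comap, RingHom.mem_ker]
      change Algebra.TensorProduct.map (Ideal.Quotient.mkₐ K J) (Ideal.Quotient.mkₐ K J)
        (Coalgebra.comul (R := K) (ι R K A a)) = 0
      rw [comul_ι, quot_square J' J h, hc2 a ha, map_zero]
    intro x hx
    exact this hx
  · have : J ≤ J.comap (HopfAlgebra.antipodeAlgHom K (K ⊗[R] A)) := by
      refine Ideal.map_le_iff_le_comap.2 ?_
      intro a ha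
      rw [Ideal.mem_comap, Ideal.mem_comap]
      change HopfAlgebra.antipode K (ι R K A a) ∈ _
      rw [antipode_ι]
      exact Ideal.mem_map_of_mem _ (hanti ha)
    intro x hx
    exact this hx

theorem exists_smul_mem (J' : Ideal A) (x : K ⊗[R] A) (hx : x ∈ Ideal.map (ι R K A) J') :
    ∃ s ∈ nonZeroDivisors R, ∃ j ∈ J', s • x = ι R K A j := by
  rw [Ideal.map] at hx
  induction hx using Submodule.span_induction with
  | mem x hx =>
    obtain ⟨j, hj, rfl⟩ := hx
    exact ⟨1, one_mem _, j, hj, one_smul _ _⟩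
  | zero => exact ⟨1, one_mem _, 0, zero_mem _, by simp⟩
  | add x y _ _ hx hy =>
    obtain ⟨s₁, hs₁, b₁, hb₁, h₁⟩ := hx
    obtain ⟨s₂, hs₂, b₂, hb₂, h₂⟩ := hy
    refine ⟨s₁ * s₂, mul_mem hs₁ hs₂, s₂ • b₁ + s₁ • b₂,
      add_mem (Submodule.smul_of_tower_mem _ _ hb₁) (Submodule.smul_of_tower_mem _ _ hb₂), ?_⟩
    rw [smul_add, mul_comm s₁ s₂, mul_smul, h₁, mul_comm s₂ s₁, mul_smul, h₂, map_add, map_smul,
      map_smul]
  | smul y x _ hx =>
    obtain ⟨s₁, hs₁, b₁, hb₁, h₁⟩ := hx
    obtain ⟨s₂, hs₂, b₂, h₂⟩ := exists_smul_eq R K A y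
    refine ⟨s₂ * s₁, mul_mem hs₂ hs₁, b₂ * b₁, Ideal.mul_mem_left _ _ hb₁, ?_⟩
    rw [smul_eq_mul, map_mul, ← h₁, ← h₂, smul_mul_smul_comm]

end main

section main2

variable {R : Type u} [CommRing R] [IsDomain R] {K : Type u} [Field K] [Algebra R K]
  [IsFractionRing R K] {A : Type u} [CommRing A] [HopfAlgebra R A]

theorem comap_map_eq [Module.Flat R A] (J' : Ideal A) [Module.Flat R (A ⧸ J')] :
    (Ideal.map (ι R K A) J').comap (ι R K A) = J' := by
  apply le_antisymm
  · intro a ha
    obtain ⟨s, hs, j, hj, h⟩ := exists_smul_mem J' _ (Ideal.mem_comap.1 ha)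
    rw [← map_smul] at h
    have h2 : s • a = j := ι_injective R K A h
    have h3 : s • (Ideal.Quotient.mk J' a) = 0 := by
      have : (Ideal.Quotient.mk J') (s • a) = 0 := by
        rw [h2]; exact Ideal.Quotient.eq_zero_iff_mem.2 hj
      rw [← this]
      rfl
    have h4 := Module.Flat.isSMulRegular_of_nonZeroDivisors (M := A ⧸ J') hs
    have h5 : Ideal.Quotient.mk J' a = 0 := h4 (by simp only [h3, smul_zero])
    exact Ideal.Quotient.eq_zero_iff_mem.1 h5
  · exact Ideal.le_comap_map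

theorem map_comap_eq (J : Ideal (K ⊗[R] A)) :
    (J.comap (ι R K A)).map (ι R K A) = J := by
  apply le_antisymm Ideal.map_comap_le
  intro x hx
  obtain ⟨s, hs, b, h⟩ := exists_smul_eq R K A x
  have hb : b ∈ J.comap (ι R K A) := by
    rw [Ideal.mem_comap, ← h]
    exact Submodule.smul_of_tower_mem _ _ hx
  have hs0 : algebraMap R K s ≠ 0 :=
    (map_ne_zero_iff _ (IsFractionRing.injective R K)).2 (nonZeroDivisors.ne_zero hs)
  have hx2 : x = (algebraMap R K s)⁻¹ • (ι R K A b) := by
    rw [← h, ← algebraMap_smul K s x, smul_smul, inv_mul_cancel₀ hs0, one_smul]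
  rw [hx2]
  exact Submodule.smul_of_tower_mem _ _ (Ideal.mem_map_of_mem _ hb)

end main2

section main3

variable {R : Type u} [CommRing R] [IsDedekindDomain R] {K : Type u} [Field K] [Algebra R K]
  [IsFractionRing R K] {A : Type u} [CommRing A] [HopfAlgebra R A]

theorem isTorsionFree_of_field (V : Type*) [AddCommGroup V] [Module R V] [Module K V]
    [IsScalarTower R K V] : Module.IsTorsionFree R V := by
  refine Module.IsTorsionFree.comap (S := K) (algebraMap R K) ?_ (fun r m => algebraMap_smul K r m)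
  intro r hr
  have : algebraMap R K r ≠ 0 :=
    (map_ne_zero_iff _ (IsFractionRing.injective R K)).2 hr.ne_zero
  exact IsUnit.isRegular (Ne.isUnit this)

theorem surjOn_aux [Module.Flat R A] (J : Ideal (K ⊗[R] A)) (hJ : J.IsHopfIdeal K) :
    (J.comap (ι R K A)).IsHopfIdeal R ∧ Module.Flat R (A ⧸ J.comap (ι R K A)) := by
  set J' := J.comap (ι R K A) with hJ'
  obtain ⟨hco, hanti⟩ := (Ideal.isHopfIdeal_iff K J).1 hJ
  obtain ⟨hc1, hc2⟩ := (isCoideal_iff' J).1 hco
  let ι' : A ⧸ J' →ₐ[R] (K ⊗[R] A) ⧸ J := Ideal.quotientMapₐ J (ι R K A) le_rfl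
  have hι' : Function.Injective ι' :=
    Ideal.quotientMap_injective' (f := (ι R K A : A →+* K ⊗[R] A)) (H := le_rfl) le_rfl
  haveI : Module.IsTorsionFree R ((K ⊗[R] A) ⧸ J) := isTorsionFree_of_field (K := K) _
  haveI : Module.IsTorsionFree R (A ⧸ J') :=
    Function.Injective.moduleIsTorsionFree ι' hι' (fun r m => map_smul ι' r m)
  haveI : Module.Flat R (A ⧸ J') := inferInstance
  haveI : Module.Flat R K := IsLocalization.flat K (nonZeroDivisors R)
  haveI : Module.Flat R ((K ⊗[R] A) ⧸ J) := Module.Flat.trans R K _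
  refine ⟨?_, inferInstance⟩
  rw [Ideal.isHopfIdeal_iff, isCoideal_iff']
  refine ⟨⟨?_, ?_⟩, ?_⟩
  · intro a ha
    have h1 := hc1 _ (Ideal.mem_comap.1 ha)
    rw [counit_ι] at h1
    exact (map_eq_zero_iff _ (IsFractionRing.injective R K)).1 h1
  · intro a ha
    have h1 := hc2 _ (Ideal.mem_comap.1 ha)
    rw [comul_ι, quot_square J' J le_rfl] at h1
    have hinj := tmap_injective R K ι'.toLinearMap ι'.toLinearMap hι' hι'
    exact hinj (by rw [h1, map_zero])
  · intro a ha
    have h1 := hanti (Ideal.mem_comap.1 ha)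
    rw [antipode_ι] at h1
    exact Ideal.mem_comap.2 h1

theorem main (R : Type u) [CommRing R] [IsDedekindDomain R]
    (K : Type u) [Field K] [Algebra R K] [IsFractionRing R K]
    (A : Type u) [CommRing A] [HopfAlgebra R A] [Module.Finite R A] [Module.Flat R A] :
    Set.BijOn (fun J' : Ideal A => Ideal.map (Algebra.TensorProduct.includeRight : A →ₐ[R] K ⊗[R] A) J')
      {J' : Ideal A | J'.IsHopfIdeal R ∧ Module.Flat R (A ⧸ J')}
      {J : Ideal (K ⊗[R] A) | J.IsHopfIdeal K} := by
  refine ⟨?_, ?_, ?_⟩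
  · rintro J' ⟨h1, -⟩
    exact isHopfIdeal_map J' h1
  · rintro J₁ ⟨-, h1⟩ J₂ ⟨-, h2⟩ h
    haveI := h1
    haveI := h2
    have e1 := comap_map_eq (R := R) (K := K) J₁
    have e2 := comap_map_eq (R := R) (K := K) J₂
    simp only at h
    change Ideal.map (ι R K A) J₁ = Ideal.map (ι R K A) J₂ at h
    rw [← e1, h, e2]
  · intro J hJ
    obtain ⟨h1, h2⟩ := surjOn_aux J hJ
    exact ⟨J.comap (ι R K A), ⟨h1, h2⟩, map_comap_eq J⟩

end main3

end Groth.Agent.Lib.Helper24HopfDed
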