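import Mathlib
import Groth.Prelude.Def_RedSub

namespace Groth.Agent.Lib.Helper24InvCount

open Set

/-- Abstract counting lemma. -/
theorem count_lt {ι : Type} [Finite ι] (s : ι → ι) (hs : ∀ b, s (s b) = b)
    (h g p : ι → ℤ) (hc gc : ℤ)
    (hh : ∀ b, h (s b) = h b - p b * hc) (hg : ∀ b, g (s b) = g b - p b * gc)
    (hc0 : 0 < hc) (gc0 : 0 < gc) (hne : ∀ b, h b ≠ 0)
    (c : ι) (h1 : 0 < g c) (h2 : h (s c) < 0) (h3 : 0 < h c) (h4 : g (s c) < 0) :
    Set.ncard {b | 0 < g b ∧ h b < 0} < Set.ncard {b | 0 < g b ∧ h (s b) < 0} := by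
  classical
  set A : Set ι := {b | 0 < g b ∧ h b < 0} with hA
  set B : Set ι := {b | 0 < g b ∧ h (s b) < 0} with hB
  let φ : ι → ι := fun b => if h (s b) < 0 then b else s b
  have hφB : ∀ b ∈ A, φ b ∈ B \ {c} := by
    intro b hb
    obtain ⟨hb1, hb2⟩ := hb
    by_cases hsb : h (s b) < 0
    · have : φ b = b := by simp [φ, hsb]
      rw [this]
      refine ⟨⟨hb1, hsb⟩, ?_⟩
      intro hbc
      rw [Set.mem_singleton_iff] at hbc
      rw [hbc] at hb2
      omega
    · have : φ b = s b := by simp [φ, hsb]
      rw [this]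
      have hpos : 0 < h (s b) := by
        have := hne (s b)
        omega
      have hp : p b < 0 := by
        have e := hh b
        by_contra hp
        push Not at hp
        have : 0 ≤ p b * hc := mul_nonneg hp hc0.le
        omega
      have hg' : 0 < g (s b) := by
        rw [hg b]
        have : p b * gc < 0 := mul_neg_of_neg_of_pos hp gc0
        omega
      refine ⟨⟨hg', by rw [hs]; exact hb2⟩, ?_⟩
      intro hbc
      rw [Set.mem_singleton_iff] at hbc
      have : b = s c := by rw [← hbc, hs]
      rw [this] at hb1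
      omega
  have hinj : Set.InjOn φ A := by
    intro b1 hb1 b2 hb2 e
    by_cases h1' : h (s b1) < 0 <;> by_cases h2' : h (s b2) < 0
    · simpa [φ, h1', h2'] using e
    · have e' : b1 = s b2 := by simpa [φ, h1', h2'] using e
      exfalso
      have := hne (s b2)
      have hb1' := hb1.2
      rw [e'] at hb1'
      omega
    · have e' : s b1 = b2 := by simpa [φ, h1', h2'] using e
      exfalso
      have := hne (s b1)
      have hb2' := hb2.2
      rw [← e'] at hb2'
      omega
    · have e' : s b1 = s b2 := by simpa [φ, h1', h2'] using e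
      have := congrArg s e'
      simpa [hs] using this
  have hcB : c ∈ B := ⟨h1, h2⟩
  have hle : A.ncard ≤ (B \ {c}).ncard :=
    Set.ncard_le_ncard_of_injOn φ hφB hinj (Set.toFinite _)
  have hlt : (B \ {c}).ncard < B.ncard :=
    Set.ncard_sdiff_singleton_lt_of_mem hcB (Set.toFinite _)
  exact lt_of_le_of_lt hle hlt


variable {idx M N : Type} [AddCommGroup M] [AddCommGroup N]
  (P : RootPairing idx ℤ M N) (b : P.Base)

theorem closure_repr (m : M) (hm : m ∈ AddSubmonoid.closure (P.root '' (b.support : Set idx))) :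
    ∃ f : idx → ℕ, m = ∑ j ∈ b.support, f j • P.root j := by
  classical
  refine AddSubmonoid.closure_induction ?_ ⟨0, by simp⟩ ?_ hm
  · rintro - ⟨j, hj, rfl⟩
    refine ⟨Pi.single j 1, ?_⟩
    rw [Finset.sum_eq_single_of_mem j hj]
    · simp
    · intro k _ hk
      simp [hk]
  · intro _ _ _ _ ⟨f, hf'⟩ ⟨g, hg'⟩
    exact ⟨f + g, by simp [hf', hg', add_smul, Finset.sum_add_distrib]⟩

theorem mem_posRoots_iff (a : idx) : a ∈ RedSub.posRoots P b ↔ 0 < b.height a := by
  constructor
  · intro ha
    obtain ⟨f, hf⟩ := closure_repr P b _ ha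
    have hf' : P.root a = ∑ j ∈ b.support, ((f j : ℕ) : ℤ) • P.root j := by
      rw [hf]; simp
    have := RootPairing.Base.height_eq_sum hf'
    have hne := b.height_ne_zero a
    have hnn : 0 ≤ ∑ j ∈ b.support, ((f j : ℕ) : ℤ) := Finset.sum_nonneg (fun _ _ => by positivity)
    omega
  · intro ha
    rcases b.root_mem_or_neg_mem a with h | h
    · exact h
    · exfalso
      obtain ⟨f, hf⟩ := closure_repr P b _ h
      have hf' : P.root a = ∑ j ∈ b.support, (-((f j : ℕ) : ℤ)) • P.root j := by
        rw [← neg_neg (P.root a), hf]; simp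
      have := RootPairing.Base.height_eq_sum hf'
      have hnn : 0 ≤ ∑ j ∈ b.support, ((f j : ℕ) : ℤ) := Finset.sum_nonneg (fun _ _ => by positivity)
      rw [Finset.sum_neg_distrib] at this
      omega

theorem mem_negRoots_iff (a : idx) : a ∈ RedSub.negRoots P b ↔ b.height a < 0 := by
  constructor
  · intro ha
    obtain ⟨f, hf⟩ := closure_repr P b _ ha
    have hf' : P.root a = ∑ j ∈ b.support, (-((f j : ℕ) : ℤ)) • P.root j := by
      rw [← neg_neg (P.root a), hf]; simp
    have := RootPairing.Base.height_eq_sum hf'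
    have hne := b.height_ne_zero a
    have hnn : 0 ≤ ∑ j ∈ b.support, ((f j : ℕ) : ℤ) := Finset.sum_nonneg (fun _ _ => by positivity)
    rw [Finset.sum_neg_distrib] at this
    omega
  · intro ha
    rcases b.root_mem_or_neg_mem a with h | h
    · exfalso
      have := (mem_posRoots_iff P b a).mp h
      omega
    · exact h

/-- The linear automorphism attached to a word. -/
theorem exists_lin (l : List idx) :
    ∃ W : M ≃ₗ[ℤ] M, ∀ a, P.root (RedSub.wordPerm P l a) = W (P.root a) := by
  induction l with
  | nil => exact ⟨LinearEquiv.refl ℤ M, fun a => by simp [RedSub.wordPerm]⟩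
  | cons i l ih =>
    obtain ⟨W, hW⟩ := ih
    refine ⟨W.trans (P.reflection i), fun a => ?_⟩
    have : RedSub.wordPerm P (i :: l) = P.reflectionPerm i * RedSub.wordPerm P l := by
      simp [RedSub.wordPerm]
    rw [this, Equiv.Perm.mul_apply, RootPairing.root_reflectionPerm]
    simp only [LinearEquiv.trans_apply]
    rw [← hW a]

theorem height_refl (c a : idx) :
    b.height (P.reflectionPerm c a) = b.height a - P.pairing a c * b.height c := by
  have : P.root (P.reflectionPerm c a) = P.root a + (-(P.pairing a c)) • P.root c := by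
    rw [RootPairing.root_reflectionPerm, RootPairing.reflection_apply_root, neg_smul, sub_eq_add_neg]
  rw [b.height_add_zsmul this]
  simp [sub_eq_add_neg]

theorem height_winv_refl (l : List idx) (c a : idx) :
    b.height ((RedSub.wordPerm P l)⁻¹ (P.reflectionPerm c a)) =
      b.height ((RedSub.wordPerm P l)⁻¹ a) - P.pairing a c * b.height ((RedSub.wordPerm P l)⁻¹ c) := by
  obtain ⟨W, hW⟩ := exists_lin P l
  have hinv : ∀ x, P.root ((RedSub.wordPerm P l)⁻¹ x) = W.symm (P.root x) := by
    intro x
    rw [LinearEquiv.eq_symm_apply, ← hW]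
    simp
  have : P.root ((RedSub.wordPerm P l)⁻¹ (P.reflectionPerm c a)) =
      P.root ((RedSub.wordPerm P l)⁻¹ a) + (-(P.pairing a c)) • P.root ((RedSub.wordPerm P l)⁻¹ c) := by
    rw [hinv, hinv, hinv, RootPairing.root_reflectionPerm, RootPairing.reflection_apply_root,
      map_sub, map_zsmul, neg_smul, sub_eq_add_neg]
  rw [b.height_add_zsmul this]
  simp [sub_eq_add_neg]


theorem main [Finite idx] (l : List idx) (c : idx)
    (hc : c ∈ RedSub.posRoots P b) :
    Set.ncard {a : idx | a ∈ RedSub.posRoots P b ∧ RedSub.wordPerm P l a ∈ RedSub.negRoots P b} <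
        Set.ncard {a : idx | a ∈ RedSub.posRoots P b ∧
          (P.reflectionPerm c * RedSub.wordPerm P l) a ∈ RedSub.negRoots P b} ↔
      (RedSub.wordPerm P l)⁻¹ c ∈ RedSub.posRoots P b := by
  set w := RedSub.wordPerm P l with hw
  set s : idx → idx := fun x => P.reflectionPerm c x with hsdef
  have hs : ∀ x, s (s x) = x := fun x => P.reflectionPerm_self c x
  have hc0 : 0 < b.height c := (mem_posRoots_iff P b c).mp hc
  -- reindexing
  have hA : Set.ncard {a : idx | a ∈ RedSub.posRoots P b ∧ w a ∈ RedSub.negRoots P b} =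
      Set.ncard {x : idx | 0 < b.height (w⁻¹ x) ∧ b.height x < 0} := by
    rw [← Set.ncard_image_of_injective _ w.injective]
    congr 1
    ext x
    simp only [Set.mem_image, Set.mem_ofPred_eq, mem_posRoots_iff, mem_negRoots_iff]
    constructor
    · rintro ⟨a, ⟨h1, h2⟩, rfl⟩
      simpa using ⟨h1, h2⟩
    · rintro ⟨h1, h2⟩
      exact ⟨w⁻¹ x, ⟨h1, by simpa using h2⟩, by simp⟩
  have hB : Set.ncard {a : idx | a ∈ RedSub.posRoots P b ∧
        (P.reflectionPerm c * w) a ∈ RedSub.negRoots P b} =
      Set.ncard {x : idx | 0 < b.height (w⁻¹ x) ∧ b.height (s x) < 0} := by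
    rw [← Set.ncard_image_of_injective _ w.injective]
    congr 1
    ext x
    simp only [Set.mem_image, Set.mem_ofPred_eq, mem_posRoots_iff, mem_negRoots_iff,
      Equiv.Perm.mul_apply]
    constructor
    · rintro ⟨a, ⟨h1, h2⟩, rfl⟩
      simpa using ⟨h1, h2⟩
    · rintro ⟨h1, h2⟩
      exact ⟨w⁻¹ x, ⟨h1, by simpa using h2⟩, by simp⟩
  rw [hA, hB, mem_posRoots_iff]
  have hsc : b.height (s c) = - b.height c := by
    rw [hsdef, height_refl]; simp; ring
  have hwsc : b.height (w⁻¹ (s c)) = - b.height (w⁻¹ c) := by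
    rw [hsdef, hw, height_winv_refl]; simp; ring
  constructor
  · intro hlt
    by_contra hneg
    have hgc : b.height (w⁻¹ c) < 0 := by
      have := b.height_ne_zero (w⁻¹ c)
      omega
    -- apply the counting lemma with h' = h ∘ s, c' = s c
    have key := count_lt s hs (fun x => b.height (s x)) (fun x => b.height (w⁻¹ x))
      (fun x => - P.pairing x c) (b.height c) (- b.height (w⁻¹ c))
      (fun x => by
        simp only [hs]
        rw [hsdef, height_refl]; ring)
      (fun x => by
        rw [hsdef, hw, height_winv_refl]; ring)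
      hc0 (by omega) (fun x => b.height_ne_zero _) (s c)
      (by rw [hwsc]; omega) (by simp only [hs]; rw [hsc]; omega) (by simp only [hs]; exact hc0)
      (by simp only [hs]; exact hgc)
    simp only [hs] at key
    omega
  · intro hgc
    exact count_lt s hs (fun x => b.height x) (fun x => b.height (w⁻¹ x))
      (fun x => P.pairing x c) (b.height c) (b.height (w⁻¹ c))
      (fun x => by rw [hsdef, height_refl])
      (fun x => by rw [hsdef, hw, height_winv_refl])
      hc0 hgc (fun x => b.height_ne_zero _) c hgc (by rw [hsc]; omega) hc0 (by rw [hwsc]; omega)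

end Groth.Agent.Lib.Helper24InvCount
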