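import Mathlib
import Groth.Prelude.Def_Isoc

set_option autoImplicit false
set_option linter.unusedSectionVars false
open scoped Pointwise Isocrystal
universe u v

namespace Groth.Agent.Lib.Helper24Isoc

variable {p : ℕ} [Fact p.Prime] {k : Type u} [Field k] [CharP k p] [PerfectRing k p]

theorem pK_ne_zero : (p : K(p, k)) ≠ 0 := by
  have h : (p : WittVector p k) ≠ 0 := WittVector.p_nonzero p k
  have : algebraMap (WittVector p k) K(p, k) (p : WittVector p k) ≠ 0 := by
    intro h0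
    exact h ((IsFractionRing.injective (WittVector p k) K(p, k)) (by simpa using h0))
  simpa using this

variable {N : Type v} [AddCommGroup N] [Module (WittVector p k) N] [Module K(p, k) N]
  [IsScalarTower (WittVector p k) K(p, k) N]

open Isoc

theorem zpow_ne_zero' (r : ℤ) : ((p : K(p, k)) ^ r) ≠ 0 := zpow_ne_zero r pK_ne_zero

theorem mem_pPow_iff' (r : ℤ) (M : Submodule (WittVector p k) N) (x : N) :
    x ∈ pPow r M ↔ ∃ y ∈ M, x = ((p : K(p, k)) ^ r) • y := by
  unfold pPow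
  rw [Submodule.mem_smul_pointwise_iff_exists]
  constructor
  · rintro ⟨y, hy, rfl⟩; exact ⟨y, hy, rfl⟩
  · rintro ⟨y, hy, rfl⟩; exact ⟨y, hy, rfl⟩

theorem mem_pPow_iff (r : ℤ) (M : Submodule (WittVector p k) N) (x : N) :
    x ∈ pPow r M ↔ ((p : K(p, k)) ^ (-r)) • x ∈ M := by
  rw [mem_pPow_iff']
  constructor
  · rintro ⟨y, hy, rfl⟩
    rw [smul_smul, ← zpow_add₀ pK_ne_zero]; simpa using hy
  · intro h
    refine ⟨_, h, ?_⟩
    rw [smul_smul, ← zpow_add₀ pK_ne_zero]; simp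

theorem smul_mem_pPow (r : ℤ) (M : Submodule (WittVector p k) N) {y : N} (hy : y ∈ M) :
    ((p : K(p, k)) ^ r) • y ∈ pPow r M := (mem_pPow_iff' r M _).2 ⟨y, hy, rfl⟩

@[simp] theorem pPow_zero (M : Submodule (WittVector p k) N) : pPow 0 M = M := by
  ext x; rw [mem_pPow_iff]; simp

theorem pPow_pPow (r s : ℤ) (M : Submodule (WittVector p k) N) :
    pPow r (pPow s M) = pPow (r + s) M := by
  ext x
  rw [mem_pPow_iff, mem_pPow_iff, mem_pPow_iff, smul_smul, ← zpow_add₀ pK_ne_zero, neg_add_rev]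

theorem pPow_mono (r : ℤ) {M M' : Submodule (WittVector p k) N} (h : M ≤ M') :
    pPow r M ≤ pPow r M' := fun x hx => by
  rw [mem_pPow_iff] at hx ⊢; exact h hx

theorem pPow_le_pPow_iff (r : ℤ) {M M' : Submodule (WittVector p k) N} :
    pPow r M ≤ pPow r M' ↔ M ≤ M' := by
  refine ⟨fun h => ?_, pPow_mono r⟩
  have := pPow_mono (-r) h
  simpa [pPow_pPow] using this

theorem pPow_le_iff (r : ℤ) {M M' : Submodule (WittVector p k) N} :
    pPow r M ≤ M' ↔ M ≤ pPow (-r) M' := by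
  rw [← pPow_le_pPow_iff r (M' := pPow (-r) M'), pPow_pPow]; simp

theorem le_pPow_iff (r : ℤ) {M M' : Submodule (WittVector p k) N} :
    M ≤ pPow r M' ↔ pPow (-r) M ≤ M' := by
  rw [pPow_le_iff]; simp

theorem natCast_smul_eq (n : ℕ) (x : N) :
    ((p : K(p, k)) ^ n) • x = ((p : WittVector p k) ^ n) • x := by
  rw [← algebraMap_smul K(p, k) ((p : WittVector p k) ^ n) x]; simp

theorem pPow_nat_le (n : ℕ) (M : Submodule (WittVector p k) N) : pPow (n : ℤ) M ≤ M := by
  intro x hx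
  obtain ⟨y, hy, rfl⟩ := (mem_pPow_iff' _ _ _).1 hx
  rw [zpow_natCast, natCast_smul_eq]
  exact M.smul_mem _ hy

theorem pPow_anti {r s : ℤ} (h : r ≤ s) (M : Submodule (WittVector p k) N) :
    pPow s M ≤ pPow r M := by
  obtain ⟨n, rfl⟩ := Int.le.dest h
  rw [add_comm, ← pPow_pPow]
  exact pPow_nat_le n _

theorem pPow_sup (r : ℤ) (M M' : Submodule (WittVector p k) N) :
    pPow r (M ⊔ M') = pPow r M ⊔ pPow r M' := by
  unfold pPow; exact Submodule.smul_sup' _ _ _

theorem pPow_bot (r : ℤ) : pPow r (⊥ : Submodule (WittVector p k) N) = ⊥ := by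
  unfold pPow; exact Submodule.smul_bot' _

theorem pPow_eq_bot_iff (r : ℤ) (M : Submodule (WittVector p k) N) : pPow r M = ⊥ ↔ M = ⊥ := by
  constructor
  · intro h
    have := congrArg (pPow (-r)) h
    simpa [pPow_pPow, pPow_bot] using this
  · rintro rfl; exact pPow_bot r

theorem pPow_isLattice (r : ℤ) (M : Submodule (WittVector p k) N) (hM : M.IsLattice K(p, k)) :
    (pPow r M).IsLattice K(p, k) := by
  have := Submodule.IsLattice.smul K(p, k) M (Units.mk0 _ (zpow_ne_zero' (p := p) (k := k) r))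
  exact this


/-! ### Twists restricting to automorphisms of `W` -/

/-- `τ` is an automorphism of `K` restricting to an automorphism of `W`. -/
structure WAuto (τ : K(p, k) →+* K(p, k)) : Prop where
  bij : Function.Bijective τ
  map_W : ∀ w : WittVector p k, ∃ w' : WittVector p k,
    τ (algebraMap (WittVector p k) K(p, k) w) = algebraMap (WittVector p k) K(p, k) w'
  surj_W : ∀ w : WittVector p k, ∃ w' : WittVector p k,
    τ (algebraMap (WittVector p k) K(p, k) w') = algebraMap (WittVector p k) K(p, k) w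

theorem WAuto.frob (a : ℤ) : WAuto (Isoc.frob p k a) where
  bij := by
    unfold Isoc.frob
    exact (IsFractionRing.ringEquivOfRingEquiv (K := K(p, k)) (L := K(p, k))
      (WittVector.frobeniusEquiv p k ^ a)).bijective
  map_W w := ⟨_, Isoc.frob_algebraMap p k a w⟩
  surj_W w := ⟨(WittVector.frobeniusEquiv p k ^ a).symm w, by
    rw [Isoc.frob_algebraMap]; simp⟩

theorem WAuto.one : WAuto (1 : K(p, k) →+* K(p, k)) where
  bij := Function.bijective_id
  map_W w := ⟨w, rfl⟩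
  surj_W w := ⟨w, rfl⟩

theorem WAuto.mul {τ τ' : K(p, k) →+* K(p, k)} (h : WAuto τ) (h' : WAuto τ') : WAuto (τ * τ') where
  bij := h.bij.comp h'.bij
  map_W w := by
    obtain ⟨w', hw'⟩ := h'.map_W w
    obtain ⟨w'', hw''⟩ := h.map_W w'
    exact ⟨w'', by rw [RingHom.mul_def, RingHom.comp_apply, hw', hw'']⟩
  surj_W w := by
    obtain ⟨w', hw'⟩ := h.surj_W w
    obtain ⟨w'', hw''⟩ := h'.surj_W w'
    exact ⟨w'', by rw [RingHom.mul_def, RingHom.comp_apply, hw'', hw']⟩

theorem WAuto.pow {τ : K(p, k) →+* K(p, k)} (h : WAuto τ) (n : ℕ) : WAuto (τ ^ n) := by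
  induction n with
  | zero => rw [pow_zero]; exact WAuto.one
  | succ n ih => rw [pow_succ]; exact ih.mul h

variable {τ : K(p, k) →+* K(p, k)}

theorem tau_zpow (τ : K(p, k) →+* K(p, k)) (r : ℤ) : τ ((p : K(p, k)) ^ r) = (p : K(p, k)) ^ r := by
  rw [map_zpow₀, map_natCast]

/-- The image of a `W`-submodule under a semilinear map whose twist is an automorphism of `W`. -/
def imgSub (hτ : WAuto τ) (G : N →ₛₗ[τ] N) (M : Submodule (WittVector p k) N) :
    Submodule (WittVector p k) N where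
  carrier := G '' (M : Set N)
  add_mem' := by
    rintro _ _ ⟨x, hx, rfl⟩ ⟨y, hy, rfl⟩
    exact ⟨x + y, M.add_mem hx hy, map_add G x y⟩
  zero_mem' := ⟨0, M.zero_mem, map_zero G⟩
  smul_mem' := by
    rintro w _ ⟨x, hx, rfl⟩
    obtain ⟨w', hw'⟩ := hτ.surj_W w
    refine ⟨w' • x, M.smul_mem _ hx, ?_⟩
    rw [← algebraMap_smul K(p, k) w' x, map_smulₛₗ, hw', algebraMap_smul]

theorem mem_imgSub (hτ : WAuto τ) (G : N →ₛₗ[τ] N) (M : Submodule (WittVector p k) N) (x : N) :
    x ∈ imgSub hτ G M ↔ ∃ y ∈ M, G y = x := Iff.rfl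

theorem latImg_eq_imgSub (hτ : WAuto τ) (F : N →ₛₗ[τ] N) (s : ℕ) (M : Submodule (WittVector p k) N) :
    latImg F s M = imgSub (hτ.pow s) (iter F s) M := by
  unfold latImg
  apply le_antisymm
  · rw [Submodule.span_le]
    rintro _ ⟨y, hy, rfl⟩
    exact ⟨y, hy, rfl⟩
  · rintro _ ⟨y, hy, rfl⟩
    exact Submodule.subset_span ⟨y, hy, rfl⟩

theorem mem_latImg (hτ : WAuto τ) (F : N →ₛₗ[τ] N) (s : ℕ) (M : Submodule (WittVector p k) N) (x : N) :
    x ∈ latImg F s M ↔ ∃ y ∈ M, (⇑F)^[s] y = x := by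
  rw [latImg_eq_imgSub hτ]; rfl

theorem iterate_mem_latImg (F : N →ₛₗ[τ] N) (s : ℕ) (M : Submodule (WittVector p k) N) {y : N}
    (hy : y ∈ M) : (⇑F)^[s] y ∈ latImg F s M := Submodule.subset_span ⟨y, hy, rfl⟩

@[simp] theorem latImg_zero (F : N →ₛₗ[τ] N) (M : Submodule (WittVector p k) N) :
    latImg F 0 M = M := by
  unfold latImg; simp

theorem latImg_mono (F : N →ₛₗ[τ] N) (s : ℕ) {M M' : Submodule (WittVector p k) N} (h : M ≤ M') :
    latImg F s M ≤ latImg F s M' :=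
  Submodule.span_mono (Set.image_mono h)

theorem latImg_add (hτ : WAuto τ) (F : N →ₛₗ[τ] N) (s t : ℕ) (M : Submodule (WittVector p k) N) :
    latImg F (s + t) M = latImg F s (latImg F t M) := by
  ext x
  simp only [mem_latImg hτ]
  constructor
  · rintro ⟨y, hy, rfl⟩
    exact ⟨(⇑F)^[t] y, ⟨y, hy, rfl⟩, by rw [Function.iterate_add_apply]⟩
  · rintro ⟨_, ⟨y, hy, rfl⟩, rfl⟩
    exact ⟨y, hy, by rw [Function.iterate_add_apply]⟩

theorem iterate_smul_zpow (F : N →ₛₗ[τ] N) (s : ℕ) (r : ℤ) (x : N) :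
    (⇑F)^[s] (((p : K(p, k)) ^ r) • x) = ((p : K(p, k)) ^ r) • (⇑F)^[s] x := by
  have := (iter F s).map_smulₛₗ ((p : K(p, k)) ^ r) x
  rw [tau_zpow] at this
  exact this

theorem latImg_pPow (hτ : WAuto τ) (F : N →ₛₗ[τ] N) (s : ℕ) (r : ℤ) (M : Submodule (WittVector p k) N) :
    latImg F s (pPow r M) = pPow r (latImg F s M) := by
  ext x
  simp only [mem_latImg hτ, mem_pPow_iff']
  constructor
  · rintro ⟨_, ⟨y, hy, rfl⟩, rfl⟩
    exact ⟨_, ⟨y, hy, rfl⟩, iterate_smul_zpow F s r y⟩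
  · rintro ⟨_, ⟨y, hy, rfl⟩, rfl⟩
    exact ⟨_, ⟨y, hy, rfl⟩, iterate_smul_zpow F s r y⟩

theorem latImg_sup (hτ : WAuto τ) (F : N →ₛₗ[τ] N) (s : ℕ) (M M' : Submodule (WittVector p k) N) :
    latImg F s (M ⊔ M') = latImg F s M ⊔ latImg F s M' := by
  apply le_antisymm
  · intro x hx
    obtain ⟨y, hy, rfl⟩ := (mem_latImg hτ F s _ x).1 hx
    obtain ⟨a, ha, b, hb, rfl⟩ := Submodule.mem_sup.1 hy
    have : (⇑F)^[s] (a + b) = (⇑F)^[s] a + (⇑F)^[s] b := map_add (iter F s) a b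
    rw [this]
    exact Submodule.add_mem_sup (iterate_mem_latImg F s M ha) (iterate_mem_latImg F s M' hb)
  · exact sup_le (latImg_mono F s le_sup_left) (latImg_mono F s le_sup_right)

theorem latImg_bot (F : N →ₛₗ[τ] N) (s : ℕ) : latImg F s (⊥ : Submodule (WittVector p k) N) = ⊥ := by
  unfold latImg
  rw [Submodule.span_eq_bot]
  rintro _ ⟨y, hy, rfl⟩
  rw [SetLike.mem_coe, Submodule.mem_bot] at hy
  subst hy
  exact map_zero (iter F s)

theorem latImg_le_latImg_iff (hτ : WAuto τ) (F : N →ₛₗ[τ] N) (hF : Function.Injective F) (s : ℕ)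
    {M M' : Submodule (WittVector p k) N} : latImg F s M ≤ latImg F s M' ↔ M ≤ M' := by
  refine ⟨fun h x hx => ?_, latImg_mono F s⟩
  obtain ⟨y, hy, hyx⟩ := (mem_latImg hτ F s M' _).1 (h (iterate_mem_latImg F s M hx))
  have := (hF.iterate s) hyx
  rwa [← this]


/-! ### Lattices -/

theorem exists_pow_mul_eq_algebraMap (c : K(p, k)) :
    ∃ (n : ℕ) (w : WittVector p k), (p : K(p, k)) ^ n * c = algebraMap (WittVector p k) K(p, k) w := by
  by_cases hc : c = 0
  · exact ⟨0, 0, by simp [hc]⟩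
  obtain ⟨a, b, hb, rfl⟩ := IsFractionRing.div_surjective (A := WittVector p k) c
  have hb0 : b ≠ 0 := nonZeroDivisors.ne_zero hb
  obtain ⟨n, v, rfl⟩ := WittVector.exists_eq_pow_p_mul' b hb0
  refine ⟨n, a * ((v⁻¹ : (WittVector p k)ˣ) : WittVector p k), ?_⟩
  have hp := pK_ne_zero (p := p) (k := k)
  have hv : algebraMap (WittVector p k) K(p, k) (v : WittVector p k) ≠ 0 := by
    intro h0
    exact v.ne_zero ((IsFractionRing.injective (WittVector p k) K(p, k)) (by simpa using h0))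
  have hinv : algebraMap (WittVector p k) K(p, k) ((v⁻¹ : (WittVector p k)ˣ) : WittVector p k) =
      (algebraMap (WittVector p k) K(p, k) (v : WittVector p k))⁻¹ := by
    apply eq_inv_of_mul_eq_one_left
    rw [← map_mul]; simp
  rw [map_mul, map_mul, map_pow, map_natCast, hinv]
  field_simp

theorem exists_pow_smul_mem (M : Submodule (WittVector p k) N) (hM : M.IsLattice K(p, k)) (x : N) :
    ∃ n : ℕ, ((p : K(p, k)) ^ n) • x ∈ M := by
  have hx : x ∈ Submodule.span K(p, k) (M : Set N) := by rw [hM.span_eq_top]; trivial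
  induction hx using Submodule.span_induction with
  | mem x hx => exact ⟨0, by simpa using hx⟩
  | zero => exact ⟨0, by simp⟩
  | add x y _ _ hx hy =>
    obtain ⟨n, hn⟩ := hx
    obtain ⟨m, hm⟩ := hy
    refine ⟨n + m, ?_⟩
    rw [smul_add]
    refine M.add_mem ?_ ?_
    · rw [pow_add, mul_comm, mul_smul, natCast_smul_eq m]
      exact M.smul_mem _ hn
    · rw [pow_add, mul_smul, natCast_smul_eq n]
      exact M.smul_mem _ hm
  | smul c x _ hx =>
    obtain ⟨n, hn⟩ := hx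
    obtain ⟨m, w, hw⟩ := exists_pow_mul_eq_algebraMap (p := p) (k := k) c
    refine ⟨n + m, ?_⟩
    rw [smul_smul, pow_add, mul_assoc, hw, mul_comm, mul_smul, algebraMap_smul]
    exact M.smul_mem _ hn

theorem exists_le_pPow_neg (M : Submodule (WittVector p k) N) (hM : M.IsLattice K(p, k))
    (Q : Submodule (WittVector p k) N) (hQ : Q.FG) : ∃ c : ℕ, Q ≤ pPow (-(c : ℤ)) M := by
  induction Q, hQ using Submodule.fg_induction with
  | singleton x =>
    obtain ⟨n, hn⟩ := exists_pow_smul_mem M hM x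
    refine ⟨n, ?_⟩
    rw [Submodule.span_singleton_le_iff_mem, mem_pPow_iff]
    simpa using hn
  | sup M₁ M₂ _ _ h₁ h₂ =>
    obtain ⟨c₁, h₁⟩ := h₁
    obtain ⟨c₂, h₂⟩ := h₂
    refine ⟨max c₁ c₂, sup_le (h₁.trans (pPow_anti ?_ M)) (h₂.trans (pPow_anti ?_ M))⟩
    · simp
    · simp

theorem eq_zero_of_forall_mem_pPow (M : Submodule (WittVector p k) N) (hM : M.IsLattice K(p, k))
    (x : N) (h : ∀ r : ℕ, x ∈ pPow (r : ℤ) M) : x = 0 := by
  have := hM
  have hx : x ∈ M := by simpa using h 0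
  have hI : Ideal.span {(p : WittVector p k)} ≠ ⊤ := by
    rw [Ne, Ideal.span_singleton_eq_top]
    exact (WittVector.irreducible p).not_isUnit
  have key := Ideal.iInf_pow_smul_eq_bot_of_isLocalRing (Ideal.span {(p : WittVector p k)}) (M := ↥M) hI
  have hmem : (⟨x, hx⟩ : ↥M) ∈ (⨅ i : ℕ, Ideal.span {(p : WittVector p k)} ^ i • (⊤ : Submodule (WittVector p k) ↥M)) := by
    rw [Submodule.mem_iInf]
    intro i
    obtain ⟨y, hy, hxy⟩ := (mem_pPow_iff' _ _ _).1 (h i)
    have : (⟨x, hx⟩ : ↥M) = ((p : WittVector p k) ^ i) • (⟨y, hy⟩ : ↥M) := by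
      apply Subtype.ext
      rw [Submodule.coe_smul, ← natCast_smul_eq, ← zpow_natCast]
      exact hxy
    rw [this]
    exact Submodule.smul_mem_smul (Ideal.pow_mem_pow (Ideal.mem_span_singleton_self _) i) Submodule.mem_top
  rw [key, Submodule.mem_bot] at hmem
  exact congrArg Subtype.val hmem

theorem le_of_pPow_le_pPow (M : Submodule (WittVector p k) N) (hM : M.IsLattice K(p, k))
    (hne : M ≠ ⊥) {a b : ℤ} (h : pPow a M ≤ pPow b M) : b ≤ a := by
  by_contra hlt
  push Not at hlt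
  have h1 : M ≤ pPow 1 M := by
    have h2 : pPow a M ≤ pPow (a + 1) M := h.trans (pPow_anti (by omega) M)
    have h4 := pPow_mono (-a) h2
    rw [pPow_pPow, pPow_pPow] at h4
    simpa using h4
  have h3 : ∀ n : ℕ, M ≤ pPow (n : ℤ) M := by
    intro n
    induction n with
    | zero => simp
    | succ n ih =>
      calc M ≤ pPow 1 M := h1
        _ ≤ pPow 1 (pPow (n : ℤ) M) := pPow_mono 1 ih
        _ = pPow ((n + 1 : ℕ) : ℤ) M := by rw [pPow_pPow]; congr 1; push_cast; ring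
  apply hne
  rw [eq_bot_iff]
  intro x hx
  rw [Submodule.mem_bot]
  exact eq_zero_of_forall_mem_pPow M hM x (fun r => h3 r hx)

theorem exists_ord (M : Submodule (WittVector p k) N) (hM : M.IsLattice K(p, k))
    (Q : Submodule (WittVector p k) N) (hQ : Q.FG) (hne : Q ≠ ⊥) :
    ∃ r : ℤ, Q ≤ pPow r M ∧ ¬ Q ≤ pPow (r + 1) M := by
  obtain ⟨c, hc⟩ := exists_le_pPow_neg M hM Q hQ
  obtain ⟨x, hxQ, hx0⟩ := (Submodule.ne_bot_iff Q).1 hne
  have hbdd : ∃ b : ℤ, ∀ z : ℤ, Q ≤ pPow z M → z ≤ b := by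
    by_contra hcon
    push Not at hcon
    apply hx0
    apply eq_zero_of_forall_mem_pPow M hM x
    intro r
    obtain ⟨z, hz, hzr⟩ := hcon r
    exact pPow_anti hzr.le M (hz hxQ)
  obtain ⟨ub, hub, hmax⟩ := Int.exists_greatest_of_bdd hbdd ⟨_, hc⟩
  refine ⟨ub, hub, fun h => ?_⟩
  have := hmax _ h
  omega

theorem le_of_le_pPow_of_not_le (M Q : Submodule (WittVector p k) N) {r r' : ℤ}
    (h : Q ≤ pPow r' M) (h' : ¬ Q ≤ pPow (r + 1) M) : r' ≤ r := by
  by_contra hlt
  push Not at hlt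
  exact h' (h.trans (pPow_anti (by omega) M))

theorem latImg_fg (hτ : WAuto τ) (F : N →ₛₗ[τ] N) (s : ℕ) (M : Submodule (WittVector p k) N)
    (hM : M.FG) : (latImg F s M).FG := by
  obtain ⟨S, rfl⟩ := hM
  classical
  refine ⟨S.image ((⇑F)^[s]), ?_⟩
  apply le_antisymm
  · rw [Submodule.span_le]
    intro y hy
    rw [Finset.coe_image] at hy
    obtain ⟨x, hx, rfl⟩ := hy
    exact iterate_mem_latImg F s _ (Submodule.subset_span hx)
  · have key : ∀ x ∈ Submodule.span (WittVector p k) (S : Set N),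
        (⇑F)^[s] x ∈ Submodule.span (WittVector p k) ((S.image ((⇑F)^[s]) : Finset N) : Set N) := by
      intro x hx
      induction hx using Submodule.span_induction with
      | mem x hx => exact Submodule.subset_span (by rw [Finset.coe_image]; exact ⟨x, hx, rfl⟩)
      | zero => rw [show (⇑F)^[s] 0 = 0 from map_zero (iter F s)]; exact Submodule.zero_mem _
      | add x y _ _ hx hy =>
        rw [show (⇑F)^[s] (x + y) = (⇑F)^[s] x + (⇑F)^[s] y from map_add (iter F s) x y]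
        exact Submodule.add_mem _ hx hy
      | smul w x _ hx =>
        obtain ⟨w', hw'⟩ := (hτ.pow s).map_W w
        have : (⇑F)^[s] (w • x) = w' • (⇑F)^[s] x := by
          have h1 := (iter F s).map_smulₛₗ (algebraMap (WittVector p k) K(p, k) w) x
          rw [hw', algebraMap_smul, algebraMap_smul] at h1
          exact h1
        rw [this]
        exact Submodule.smul_mem _ _ hx
    intro y hy
    obtain ⟨x, hx, rfl⟩ := (mem_latImg hτ F s _ y).1 hy
    exact key x hx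

theorem latImg_isLattice (hτ : WAuto τ) (F : N →ₛₗ[τ] N) (hF : Function.Surjective F) (s : ℕ)
    (M : Submodule (WittVector p k) N) (hM : M.IsLattice K(p, k)) :
    (latImg F s M).IsLattice K(p, k) where
  fg := latImg_fg hτ F s M hM.fg
  span_eq_top := by
    rw [eq_top_iff]
    have key : ∀ x : N, (⇑F)^[s] x ∈ Submodule.span K(p, k) ((latImg F s M : Submodule (WittVector p k) N) : Set N) := by
      intro x
      have hx : x ∈ Submodule.span K(p, k) (M : Set N) := by rw [hM.span_eq_top]; trivial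
      induction hx using Submodule.span_induction with
      | mem x hx => exact Submodule.subset_span (iterate_mem_latImg F s M hx)
      | zero => rw [show (⇑F)^[s] 0 = 0 from map_zero (iter F s)]; exact Submodule.zero_mem _
      | add x y _ _ hx hy =>
        rw [show (⇑F)^[s] (x + y) = (⇑F)^[s] x + (⇑F)^[s] y from map_add (iter F s) x y]
        exact Submodule.add_mem _ hx hy
      | smul c x _ hx =>
        rw [show (⇑F)^[s] (c • x) = ((τ ^ s) c) • (⇑F)^[s] x from (iter F s).map_smulₛₗ c x]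
        exact Submodule.smul_mem _ _ hx
    intro y _
    obtain ⟨x, rfl⟩ := (hF.iterate s) y
    exact key x

theorem sup_isLattice (M M' : Submodule (WittVector p k) N) (hM : M.IsLattice K(p, k))
    (hM' : M'.FG) : (M ⊔ M').IsLattice K(p, k) := by
  have := hM
  exact Submodule.IsLattice.of_le_of_isLattice_of_fg K(p, k) le_sup_left (hM.fg.sup hM')


/-! ### Orders of iterates -/

theorem ne_bot_of_isLattice [Nontrivial N] (M : Submodule (WittVector p k) N)
    (hM : M.IsLattice K(p, k)) : M ≠ ⊥ := by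
  rintro rfl
  have h := hM.span_eq_top
  simp at h

theorem latImg_ne_bot (hτ : WAuto τ) (F : N →ₛₗ[τ] N) (hF : Function.Injective F) (s : ℕ)
    (M : Submodule (WittVector p k) N) (hne : M ≠ ⊥) : latImg F s M ≠ ⊥ := by
  intro h
  apply hne
  rw [eq_bot_iff, ← latImg_le_latImg_iff hτ F hF s, latImg_bot, h]

theorem exists_isOrd (hτ : WAuto τ) (F : N →ₛₗ[τ] N) (hF : Function.Injective F)
    (M : Submodule (WittVector p k) N) (hM : M.IsLattice K(p, k)) (hne : M ≠ ⊥) (s : ℕ) :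
    ∃ r : ℤ, IsOrd M F s r :=
  exists_ord M hM _ (latImg_fg hτ F s M hM.fg) (latImg_ne_bot hτ F hF s M hne)

theorem latImg_le_of_le (hτ : WAuto τ) (F : N →ₛₗ[τ] N) (M : Submodule (WittVector p k) N)
    {m n : ℕ} {a b : ℤ} (hm : latImg F m M ≤ pPow a M) (hn : latImg F n M ≤ pPow b M) :
    latImg F (m + n) M ≤ pPow (a + b) M := by
  calc latImg F (m + n) M = latImg F m (latImg F n M) := latImg_add hτ F m n M
    _ ≤ latImg F m (pPow b M) := latImg_mono F m hn
    _ = pPow b (latImg F m M) := latImg_pPow hτ F m b M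
    _ ≤ pPow b (pPow a M) := pPow_mono b hm
    _ = pPow (a + b) M := by rw [pPow_pPow, add_comm]

theorem isOrd_superadd (hτ : WAuto τ) (F : N →ₛₗ[τ] N) (M : Submodule (WittVector p k) N)
    {m n : ℕ} {a b c : ℤ} (hm : IsOrd M F m a) (hn : IsOrd M F n b) (hmn : IsOrd M F (m + n) c) :
    a + b ≤ c :=
  le_of_le_pPow_of_not_le M _ (latImg_le_of_le hτ F M hm.1 hn.1) hmn.2

theorem latImg_mul_le (hτ : WAuto τ) (F : N →ₛₗ[τ] N) (M : Submodule (WittVector p k) N)
    {s : ℕ} {r : ℤ} (h : latImg F s M ≤ pPow r M) (n : ℕ) :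
    latImg F (n * s) M ≤ pPow (n * r) M := by
  induction n with
  | zero => simp
  | succ n ih =>
    have := latImg_le_of_le hτ F M ih h
    rw [show (n + 1) * s = n * s + s by ring, show ((n + 1 : ℕ) : ℤ) * r = n * r + r by push_cast; ring]
    exact this

theorem exists_pPow_le_latImg (hτ : WAuto τ) (F : N →ₛₗ[τ] N) (hF : Function.Surjective F)
    (M : Submodule (WittVector p k) N) (hM : M.IsLattice K(p, k)) :
    ∃ c : ℕ, ∀ n : ℕ, pPow ((c * n : ℕ) : ℤ) M ≤ latImg F n M := by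
  obtain ⟨c, hc⟩ := exists_le_pPow_neg (latImg F 1 M) (latImg_isLattice hτ F hF 1 M hM) M hM.fg
  rw [le_pPow_iff, neg_neg] at hc
  refine ⟨c, fun n => ?_⟩
  induction n with
  | zero => simp
  | succ n ih =>
    calc pPow ((c * (n + 1) : ℕ) : ℤ) M = pPow (c : ℤ) (pPow ((c * n : ℕ) : ℤ) M) := by
          rw [pPow_pPow]; congr 1; push_cast; ring
      _ ≤ pPow (c : ℤ) (latImg F n M) := pPow_mono _ ih
      _ = latImg F n (pPow (c : ℤ) M) := (latImg_pPow hτ F n c M).symm
      _ ≤ latImg F n (latImg F 1 M) := latImg_mono F n hc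
      _ = latImg F (n + 1) M := (latImg_add hτ F n 1 M).symm

theorem exists_ord_le_mul (hτ : WAuto τ) (F : N →ₛₗ[τ] N) (hF : Function.Surjective F)
    (M : Submodule (WittVector p k) N) (hM : M.IsLattice K(p, k)) (hne : M ≠ ⊥) :
    ∃ c : ℕ, ∀ (n : ℕ) (r : ℤ), latImg F n M ≤ pPow r M → r ≤ c * n := by
  obtain ⟨c, hc⟩ := exists_pPow_le_latImg hτ F hF M hM
  refine ⟨c, fun n r h => ?_⟩
  have := le_of_pPow_le_pPow M hM hne ((hc n).trans h)
  push_cast at this
  exact this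

/-- Fekete: the limit of `ord_M(F^n)/n` exists. -/
theorem exists_tendsto_of_isOrd (hτ : WAuto τ) (F : N →ₛₗ[τ] N) (hF : Function.Surjective F)
    (M : Submodule (WittVector p k) N) (hM : M.IsLattice K(p, k)) (hne : M ≠ ⊥)
    (o : ℕ → ℤ) (ho : ∀ n : ℕ, 1 ≤ n → IsOrd M F n (o n)) :
    ∃ lam : ℝ, Filter.Tendsto (fun n : ℕ => (o n : ℝ) / n) Filter.atTop (nhds lam) := by
  -- normalise `o 0 = 0`
  set o' : ℕ → ℤ := fun n => if n = 0 then 0 else o n with ho'
  have hsub : Subadditive (fun n => -(o' n : ℝ)) := by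
    intro m n
    by_cases hm : m = 0
    · subst hm; simp [ho']
    by_cases hn : n = 0
    · subst hn; simp [ho']
    have hmn : m + n ≠ 0 := by omega
    have h := isOrd_superadd hτ F M (ho m (by omega)) (ho n (by omega)) (ho (m + n) (by omega))
    simp only [ho', hm, hn, hmn, if_false]
    have h' : ((o m + o n : ℤ) : ℝ) ≤ (o (m + n) : ℝ) := by exact_mod_cast h
    push_cast at h'
    linarith
  obtain ⟨c, hc⟩ := exists_ord_le_mul hτ F hF M hM hne
  have hbdd : BddBelow (Set.range fun n : ℕ => (-(o' n : ℝ)) / n) := by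
    refine ⟨-(c : ℝ), ?_⟩
    rintro _ ⟨n, rfl⟩
    by_cases hn : n = 0
    · subst hn; simp
    have hn' : (0 : ℝ) < n := by exact_mod_cast Nat.pos_of_ne_zero hn
    have h := hc n (o n) (ho n (by omega)).1
    have h' : ((o n : ℤ) : ℝ) ≤ (c : ℝ) * n := by exact_mod_cast h
    simp only [ho', hn, if_false]
    rw [le_div_iff₀ hn']
    linarith
  have hlim := hsub.tendsto_lim hbdd
  refine ⟨-hsub.lim, ?_⟩
  have h2 := hlim.neg
  refine h2.congr' ?_
  filter_upwards [Filter.eventually_ge_atTop 1] with n hn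
  have hn0 : n ≠ 0 := by omega
  simp only [ho', hn0, if_false]
  ring


/-! ### Comparison of lattices, first slope -/

theorem ne_bot_of_isOrd (F : N →ₛₗ[τ] N) {M : Submodule (WittVector p k) N} {s : ℕ} {r : ℤ}
    (h : IsOrd M F s r) : M ≠ ⊥ := by
  rintro rfl
  apply h.2
  rw [latImg_bot]
  exact bot_le

theorem isOrd_compare (hτ : WAuto τ) (F : N →ₛₗ[τ] N)
    (M₁ M₂ : Submodule (WittVector p k) N) (hM₁ : M₁.IsLattice K(p, k)) (hM₂ : M₂.IsLattice K(p, k)) :
    ∃ c : ℕ, ∀ (n : ℕ) (r₁ r₂ : ℤ), latImg F n M₁ ≤ pPow r₁ M₁ → ¬ latImg F n M₂ ≤ pPow (r₂ + 1) M₂ →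
      r₁ - 2 * c ≤ r₂ := by
  obtain ⟨c₁, h₁⟩ := exists_le_pPow_neg M₁ hM₁ M₂ hM₂.fg
  obtain ⟨c₂, h₂⟩ := exists_le_pPow_neg M₂ hM₂ M₁ hM₁.fg
  refine ⟨max c₁ c₂, fun n r₁ r₂ hr₁ hr₂ => ?_⟩
  have h₁' : M₂ ≤ pPow (-((max c₁ c₂ : ℕ) : ℤ)) M₁ := h₁.trans (pPow_anti (by simp) M₁)
  have h₂' : M₁ ≤ pPow (-((max c₁ c₂ : ℕ) : ℤ)) M₂ := h₂.trans (pPow_anti (by simp) M₂)
  set c := max c₁ c₂
  have key : latImg F n M₂ ≤ pPow (r₁ - 2 * c) M₂ := by
    calc latImg F n M₂ ≤ latImg F n (pPow (-(c : ℤ)) M₁) := latImg_mono F n h₁'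
      _ = pPow (-(c : ℤ)) (latImg F n M₁) := latImg_pPow hτ F n _ M₁
      _ ≤ pPow (-(c : ℤ)) (pPow r₁ M₁) := pPow_mono _ hr₁
      _ ≤ pPow (-(c : ℤ)) (pPow r₁ (pPow (-(c : ℤ)) M₂)) := pPow_mono _ (pPow_mono _ h₂')
      _ = pPow (r₁ - 2 * c) M₂ := by rw [pPow_pPow, pPow_pPow]; congr 1; ring
  exact le_of_le_pPow_of_not_le M₂ _ key hr₂

theorem tendsto_unique_of_bdd_diff (o₁ o₂ : ℕ → ℤ) (C : ℤ) (h : ∀ n : ℕ, 1 ≤ n → |o₁ n - o₂ n| ≤ C)
    {l₁ l₂ : ℝ} (h₁ : Filter.Tendsto (fun n : ℕ => (o₁ n : ℝ) / n) Filter.atTop (nhds l₁))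
    (h₂ : Filter.Tendsto (fun n : ℕ => (o₂ n : ℝ) / n) Filter.atTop (nhds l₂)) : l₁ = l₂ := by
  have hd : Filter.Tendsto (fun n : ℕ => (o₁ n : ℝ) / n - (o₂ n : ℝ) / n) Filter.atTop (nhds (l₁ - l₂)) :=
    h₁.sub h₂
  have h0 : Filter.Tendsto (fun n : ℕ => (o₁ n : ℝ) / n - (o₂ n : ℝ) / n) Filter.atTop (nhds 0) := by
    apply squeeze_zero_norm' _ (tendsto_const_div_atTop_nhds_zero_nat (C : ℝ))
    filter_upwards [Filter.eventually_ge_atTop 1] with n hn
    have hn' : (0 : ℝ) < n := by exact_mod_cast hn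
    rw [← sub_div, norm_div, Real.norm_eq_abs, Real.norm_eq_abs, abs_of_pos hn']
    apply div_le_div_of_nonneg_right _ hn'.le
    have := h n hn
    have h' : ((|o₁ n - o₂ n| : ℤ) : ℝ) ≤ (C : ℝ) := by exact_mod_cast this
    simpa using h'
  have := tendsto_nhds_unique hd h0
  linarith

theorem firstSlope_unique (hτ : WAuto τ) (F : N →ₛₗ[τ] N)
    (M₁ M₂ : Submodule (WittVector p k) N) (hM₁ : M₁.IsLattice K(p, k)) (hM₂ : M₂.IsLattice K(p, k))
    (o₁ o₂ : ℕ → ℤ) (ho₁ : ∀ n : ℕ, 1 ≤ n → IsOrd M₁ F n (o₁ n))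
    (ho₂ : ∀ n : ℕ, 1 ≤ n → IsOrd M₂ F n (o₂ n)) {l₁ l₂ : ℝ}
    (h₁ : Filter.Tendsto (fun n : ℕ => (o₁ n : ℝ) / n) Filter.atTop (nhds l₁))
    (h₂ : Filter.Tendsto (fun n : ℕ => (o₂ n : ℝ) / n) Filter.atTop (nhds l₂)) : l₁ = l₂ := by
  obtain ⟨c, hc⟩ := isOrd_compare hτ F M₁ M₂ hM₁ hM₂
  obtain ⟨c', hc'⟩ := isOrd_compare hτ F M₂ M₁ hM₂ hM₁
  refine tendsto_unique_of_bdd_diff o₁ o₂ (2 * c + 2 * c') (fun n hn => ?_) h₁ h₂
  have e₁ := hc n (o₁ n) (o₂ n) (ho₁ n hn).1 (ho₂ n hn).2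
  have e₂ := hc' n (o₂ n) (o₁ n) (ho₂ n hn).1 (ho₁ n hn).2
  rw [abs_le]
  constructor <;> omega

theorem isFirstSlope_unique (hτ : WAuto τ) (F : N →ₛₗ[τ] N) {l₁ l₂ : ℝ}
    (h₁ : IsFirstSlope F l₁) (h₂ : IsFirstSlope F l₂) : l₁ = l₂ := by
  obtain ⟨M₁, hM₁, o₁, ho₁, ht₁⟩ := h₁
  obtain ⟨M₂, hM₂, o₂, ho₂, ht₂⟩ := h₂
  exact firstSlope_unique hτ F M₁ M₂ hM₁ hM₂ o₁ o₂ ho₁ ho₂ ht₁ ht₂


/-! ### Twisted iterates -/

theorem iterate_zpow_smul_iter (F : N →ₛₗ[τ] N) (m : ℤ) (n : ℕ) (j : ℕ) (x : N) :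
    (⇑(((p : K(p, k)) ^ m) • iter F n))^[j] x = ((p : K(p, k)) ^ (m * j)) • (⇑F)^[n * j] x := by
  induction j with
  | zero => simp
  | succ j ih =>
    rw [Function.iterate_succ_apply', ih, LinearMap.smul_apply, iter_apply, iterate_smul_zpow,
      smul_smul, ← zpow_add₀ pK_ne_zero, ← Function.iterate_add_apply]
    congr 2
    · push_cast; ring
    · ring

theorem latImg_zpow_smul_iter (hτ : WAuto τ) (F : N →ₛₗ[τ] N) (m : ℤ) (n : ℕ) (j : ℕ)
    (M : Submodule (WittVector p k) N) :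
    latImg (((p : K(p, k)) ^ m) • iter F n) j M = pPow (m * j) (latImg F (n * j) M) := by
  ext x
  rw [mem_latImg (hτ.pow n), mem_pPow_iff']
  constructor
  · rintro ⟨y, hy, rfl⟩
    exact ⟨_, iterate_mem_latImg F (n * j) M hy, iterate_zpow_smul_iter F m n j y⟩
  · rintro ⟨z, hz, rfl⟩
    obtain ⟨y, hy, rfl⟩ := (mem_latImg hτ F _ M z).1 hz
    exact ⟨y, hy, iterate_zpow_smul_iter F m n j y⟩

theorem isOrd_zpow_smul_iter (hτ : WAuto τ) (F : N →ₛₗ[τ] N) (m : ℤ) (n : ℕ) (j : ℕ)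
    (M : Submodule (WittVector p k) N) (r : ℤ) :
    IsOrd M (((p : K(p, k)) ^ m) • iter F n) j r ↔ IsOrd M F (n * j) (r - m * j) := by
  unfold IsOrd
  rw [latImg_zpow_smul_iter hτ, pPow_le_iff, pPow_pPow, pPow_le_iff, pPow_pPow]
  rw [show -(m * (j : ℤ)) + r = r - m * j by ring, show -(m * (j : ℤ)) + (r + 1) = r - m * j + 1 by ring]

theorem isOrd_zero (M : Submodule (WittVector p k) N) (hM : M.IsLattice K(p, k)) (hne : M ≠ ⊥)
    (F : N →ₛₗ[τ] N) : IsOrd M F 0 0 := by
  refine ⟨by simp, fun h => ?_⟩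
  rw [latImg_zero] at h
  have h' : pPow 0 M ≤ pPow (0 + 1) M := by simpa using h
  have := le_of_pPow_le_pPow M hM hne h'
  omega

theorem isFirstSlope_zpow_smul_iter (hτ : WAuto τ) (F : N →ₛₗ[τ] N) {lam : ℝ}
    (hlam : IsFirstSlope F lam) (m : ℤ) (n : ℕ) :
    IsFirstSlope (((p : K(p, k)) ^ m) • iter F n) (n * lam + m) := by
  obtain ⟨M, hM, o, ho, ht⟩ := hlam
  have hne : M ≠ ⊥ := ne_bot_of_isOrd F (ho 1 le_rfl)
  refine ⟨M, hM, fun j => (if n * j = 0 then 0 else o (n * j)) + m * j, fun j _ => ?_, ?_⟩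
  · rw [isOrd_zpow_smul_iter hτ]
    rw [add_sub_cancel_right]
    by_cases h0 : n * j = 0
    · rw [if_pos h0, h0]; exact isOrd_zero M hM hne F
    · rw [if_neg h0]; exact ho _ (Nat.pos_of_ne_zero h0)
  · rcases Nat.eq_zero_or_pos n with hn | hn
    · subst hn
      have : Filter.Tendsto (fun _ : ℕ => (m : ℝ)) Filter.atTop (nhds (((0 : ℕ) : ℝ) * lam + m)) := by
        simp
      refine this.congr' ?_
      filter_upwards [Filter.eventually_ge_atTop 1] with j hj
      have hj' : (j : ℝ) ≠ 0 := by exact_mod_cast (by omega : j ≠ 0)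
      simp only [zero_mul, if_true]
      push_cast
      field_simp
      ring
    · have hsub : Filter.Tendsto (fun j : ℕ => n * j) Filter.atTop Filter.atTop :=
        Filter.tendsto_atTop_mono (fun j => Nat.le_mul_of_pos_left j hn) Filter.tendsto_id
      have h1 := ht.comp hsub
      have h2 : Filter.Tendsto (fun j : ℕ => (n : ℝ) * ((o (n * j) : ℝ) / ((n * j : ℕ) : ℝ)) + m)
          Filter.atTop (nhds ((n : ℝ) * lam + m)) := (h1.const_mul (n : ℝ)).add_const (m : ℝ)
      refine h2.congr' ?_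
      filter_upwards [Filter.eventually_ge_atTop 1] with j hj
      have hj' : (j : ℝ) ≠ 0 := by exact_mod_cast (by omega : j ≠ 0)
      have hn' : (n : ℝ) ≠ 0 := by exact_mod_cast (by omega : n ≠ 0)
      have h0 : n * j ≠ 0 := Nat.mul_ne_zero (by omega) (by omega)
      simp only [h0, if_false]
      push_cast
      field_simp


/-! ### Isoclinic lattices -/

theorem latImg_mul_eq (hτ : WAuto τ) (F : N →ₛₗ[τ] N) (M : Submodule (WittVector p k) N)
    {s : ℕ} {r : ℤ} (h : latImg F s M = pPow r M) (n : ℕ) :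
    latImg F (n * s) M = pPow (n * r) M := by
  induction n with
  | zero => simp
  | succ n ih =>
    rw [show (n + 1) * s = n * s + s by ring, latImg_add hτ, h, latImg_pPow hτ, ih, pPow_pPow]
    congr 1; push_cast; ring

theorem eq_bot_of_latImg_eq (hτ : WAuto τ) (F : N →ₛₗ[τ] N) (hF : Function.Injective F)
    (M : Submodule (WittVector p k) N) (hM : M.IsLattice K(p, k))
    (Q : Submodule (WittVector p k) N) (hQfg : Q.FG) {s : ℕ} {A B : ℤ}
    (hMs : latImg F s M = pPow B M) (hQs : latImg F s Q = pPow A Q) (hAB : A ≠ B) : Q = ⊥ := by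
  by_contra hne
  obtain ⟨c, hc, hc'⟩ := exists_ord M hM Q hQfg hne
  rcases lt_or_gt_of_ne hAB with hlt | hgt
  · apply hc'
    have h1 : latImg F s Q ≤ latImg F s (pPow c M) := latImg_mono F s hc
    rw [hQs, latImg_pPow hτ, hMs, pPow_pPow, pPow_le_iff, pPow_pPow] at h1
    exact h1.trans (pPow_anti (by omega) M)
  · have h1 : ¬ latImg F s Q ≤ latImg F s (pPow (c + 1) M) := by
      rw [latImg_le_latImg_iff hτ F hF]; exact hc'
    apply h1
    rw [hQs, latImg_pPow hτ, hMs, pPow_pPow, pPow_le_iff, pPow_pPow]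
    exact hc.trans (pPow_anti (by omega) M)


/-! ### Transport along equivariant linear maps -/

section Transport

universe w

variable {N' : Type w} [AddCommGroup N'] [Module (WittVector p k) N'] [Module K(p, k) N']
  [IsScalarTower (WittVector p k) K(p, k) N']

theorem iterate_equivariant (g : N →ₗ[K(p, k)] N') (F : N →ₛₗ[τ] N) (F' : N' →ₛₗ[τ] N')
    (hg : ∀ x, g (F x) = F' (g x)) (n : ℕ) (x : N) : g ((⇑F)^[n] x) = (⇑F')^[n] (g x) := by
  induction n generalizing x with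
  | zero => rfl
  | succ n ih => rw [Function.iterate_succ_apply', Function.iterate_succ_apply', hg, ih]

theorem map_latImg (hτ : WAuto τ) (g : N →ₗ[K(p, k)] N') (F : N →ₛₗ[τ] N) (F' : N' →ₛₗ[τ] N')
    (hg : ∀ x, g (F x) = F' (g x)) (s : ℕ) (M : Submodule (WittVector p k) N) :
    Submodule.map (g.restrictScalars (WittVector p k)) (latImg F s M) =
      latImg F' s (Submodule.map (g.restrictScalars (WittVector p k)) M) := by
  ext x
  rw [Submodule.mem_map, mem_latImg hτ]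
  constructor
  · rintro ⟨z, hz, rfl⟩
    obtain ⟨y, hy, rfl⟩ := (mem_latImg hτ F s M z).1 hz
    exact ⟨g y, ⟨y, hy, rfl⟩, (iterate_equivariant g F F' hg s y).symm⟩
  · rintro ⟨_, ⟨y, hy, rfl⟩, rfl⟩
    exact ⟨_, iterate_mem_latImg F s M hy, iterate_equivariant g F F' hg s y⟩

theorem map_pPow (g : N →ₗ[K(p, k)] N') (r : ℤ) (M : Submodule (WittVector p k) N) :
    Submodule.map (g.restrictScalars (WittVector p k)) (pPow r M) =
      pPow r (Submodule.map (g.restrictScalars (WittVector p k)) M) := by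
  ext x
  rw [Submodule.mem_map, mem_pPow_iff']
  constructor
  · rintro ⟨z, hz, rfl⟩
    obtain ⟨y, hy, rfl⟩ := (mem_pPow_iff' _ _ _).1 hz
    exact ⟨g y, ⟨y, hy, rfl⟩, map_smul g _ y⟩
  · rintro ⟨_, ⟨y, hy, rfl⟩, rfl⟩
    exact ⟨_, smul_mem_pPow r M hy, map_smul g _ y⟩

theorem map_isLattice_of_surjective (g : N →ₗ[K(p, k)] N') (hg : Function.Surjective g)
    (M : Submodule (WittVector p k) N) (hM : M.IsLattice K(p, k)) :
    (Submodule.map (g.restrictScalars (WittVector p k)) M).IsLattice K(p, k) where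
  fg := hM.fg.map _
  span_eq_top := by
    have : ((Submodule.map (g.restrictScalars (WittVector p k)) M : Submodule (WittVector p k) N') : Set N') =
        g '' (M : Set N) := rfl
    rw [this, ← Submodule.map_span, hM.span_eq_top, Submodule.map_top, LinearMap.range_eq_top.2 hg]

/-- Isoclinicity passes to equivariant quotients. -/
theorem isIsoclinic_of_surjective (hτ : WAuto τ) (g : N →ₗ[K(p, k)] N') (hgs : Function.Surjective g)
    (F : N →ₛₗ[τ] N) (F' : N' →ₛₗ[τ] N') (hg : ∀ x, g (F x) = F' (g x)) {μ : ℚ}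
    (h : IsIsoclinic F μ) : IsIsoclinic F' μ := by
  obtain ⟨M, hM, r, s, hs, hμ, hFM⟩ := h
  refine ⟨_, map_isLattice_of_surjective g hgs M hM, r, s, hs, hμ, ?_⟩
  rw [← map_latImg hτ g F F' hg, hFM, map_pPow]

end Transport


/-! ### Semilinear injective endomorphisms of finite-dimensional spaces are surjective -/

theorem surjective_of_injective (hτ : Function.Bijective τ) [Module.Finite K(p, k) N]
    (F : N →ₛₗ[τ] N) (hF : Function.Injective F) : Function.Surjective F := by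
  classical
  let e : K(p, k) ≃+* K(p, k) := RingEquiv.ofBijective τ hτ
  have he : ∀ c, τ (e.symm c) = c := fun c => e.apply_symm_apply c
  let b := Module.finBasis K(p, k) N
  have hli : LinearIndependent K(p, k) (fun i => F (b i)) := by
    rw [linearIndependent_iff']
    intro s g hg i hi
    have h1 : F (∑ j ∈ s, e.symm (g j) • b j) = 0 := by
      rw [map_sum, ← hg]
      refine Finset.sum_congr rfl (fun j _ => ?_)
      rw [map_smulₛₗ, he]
    have h2 : ∑ j ∈ s, e.symm (g j) • b j = 0 := hF (by rw [h1, map_zero])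
    have h3 := linearIndependent_iff'.1 b.linearIndependent s _ h2 i hi
    have : g i = τ (e.symm (g i)) := (he _).symm
    rw [this, h3, map_zero]
  have hspan : Submodule.span K(p, k) (Set.range fun i => F (b i)) = ⊤ :=
    LinearIndependent.span_eq_top_of_card_eq_finrank' hli (by simp)
  intro y
  have hy : y ∈ Submodule.span K(p, k) (Set.range fun i => F (b i)) := by rw [hspan]; trivial
  induction hy using Submodule.span_induction with
  | mem y hy => obtain ⟨i, rfl⟩ := hy; exact ⟨b i, rfl⟩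
  | zero => exact ⟨0, map_zero F⟩
  | add x y _ _ hx hy =>
    obtain ⟨x', rfl⟩ := hx
    obtain ⟨y', rfl⟩ := hy
    exact ⟨x' + y', map_add F x' y'⟩
  | smul c x _ hx =>
    obtain ⟨x', rfl⟩ := hx
    exact ⟨e.symm c • x', by rw [map_smulₛₗ, he]⟩

/-! ### Sub-isocrystals of isoclinic isocrystals -/

theorem restrict_iterate (F : N →ₛₗ[τ] N) (P : Submodule K(p, k) N) (hP : ∀ x ∈ P, F x ∈ P)
    (n : ℕ) (y : P) : (((⇑(F.restrict hP))^[n] y : P) : N) = (⇑F)^[n] (y : N) :=
  iterate_equivariant P.subtype (F.restrict hP) F (fun _ => rfl) n y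

/-- The lattice `M ∩ P` of the subspace `P`. -/
noncomputable def subLat (M : Submodule (WittVector p k) N) (P : Submodule K(p, k) N) :
    Submodule (WittVector p k) P :=
  M.comap (P.subtype.restrictScalars (WittVector p k))

theorem mem_subLat (M : Submodule (WittVector p k) N) (P : Submodule K(p, k) N) (x : P) :
    x ∈ subLat M P ↔ (x : N) ∈ M := Iff.rfl

theorem subLat_isLattice (M : Submodule (WittVector p k) N) (hM : M.IsLattice K(p, k))
    (P : Submodule K(p, k) N) : (subLat M P).IsLattice K(p, k) where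
  fg := by
    have hinj : Function.Injective (P.subtype.restrictScalars (WittVector p k)) :=
      fun x y h => Subtype.ext h
    apply Submodule.fg_of_fg_map_injective _ hinj
    have hN : IsNoetherian (WittVector p k) M := isNoetherian_of_fg_of_noetherian M hM.fg
    have hle : Submodule.map (P.subtype.restrictScalars (WittVector p k)) (subLat M P) ≤ M := by
      rintro _ ⟨x, hx, rfl⟩; exact hx
    exact (isNoetherian_submodule.1 hN) _ hle
  span_eq_top := by
    rw [eq_top_iff]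
    intro x _
    obtain ⟨n, hn⟩ := exists_pow_smul_mem M hM (x : N)
    have h1 : ((p : K(p, k)) ^ n) • x ∈ subLat M P := hn
    have h2 : x = ((p : K(p, k)) ^ n)⁻¹ • (((p : K(p, k)) ^ n) • x) := by
      rw [smul_smul, inv_mul_cancel₀ (pow_ne_zero n pK_ne_zero), one_smul]
    rw [h2]
    exact Submodule.smul_mem _ _ (Submodule.subset_span h1)

theorem isIsoclinic_restrict (hτ : WAuto τ) (F : N →ₛₗ[τ] N) (hfin : Module.Finite K(p, k) N)
    (hF : Function.Injective F) {μ : ℚ} (hμ : IsIsoclinic F μ)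
    (P : Submodule K(p, k) N) (hP : ∀ x ∈ P, F x ∈ P) : IsIsoclinic (F.restrict hP) μ := by
  obtain ⟨M, hM, r, s, hs, hμ', hFM⟩ := hμ
  refine ⟨subLat M P, subLat_isLattice M hM P, r, s, hs, hμ', ?_⟩
  have hinj : Function.Injective (F.restrict hP) := by
    intro x y h
    apply Subtype.ext
    apply hF
    have := congrArg Subtype.val h
    simpa using this
  have hsurj : Function.Surjective (F.restrict hP) := surjective_of_injective hτ.bij _ hinj
  ext x
  rw [mem_latImg hτ, mem_pPow_iff, mem_subLat]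
  constructor
  · rintro ⟨y, hy, rfl⟩
    rw [Submodule.coe_smul, restrict_iterate, ← mem_pPow_iff, ← hFM]
    exact iterate_mem_latImg F s M hy
  · intro hx
    rw [Submodule.coe_smul, ← mem_pPow_iff, ← hFM] at hx
    obtain ⟨y, hy, hyx⟩ := (mem_latImg hτ F s M _).1 hx
    obtain ⟨y', hy'⟩ := (hsurj.iterate s) x
    have h1 : (⇑F)^[s] (y' : N) = (x : N) := by rw [← restrict_iterate F P hP, hy']
    have h2 : y = (y' : N) := (hF.iterate s) (hyx.trans h1.symm)
    exact ⟨y', by rw [mem_subLat, ← h2]; exact hy, hy'⟩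


/-! ### Ambient form of isoclinicity of a stable subspace; the slope part -/

/-- Ambient form of "`(P, F|P)` is isoclinic of slope `μ`". -/
def IsoOn (F : N →ₛₗ[τ] N) (P : Submodule K(p, k) N) (μ : ℚ) : Prop :=
  ∃ M : Submodule (WittVector p k) N, M.FG ∧ Submodule.span K(p, k) (M : Set N) = P ∧
    ∃ (r : ℤ) (s : ℕ), 0 < s ∧ (r : ℚ) / s = μ ∧ latImg F s M = pPow r M

theorem map_subtype_injective (P : Submodule K(p, k) N) :
    Function.Injective (Submodule.map (P.subtype.restrictScalars (WittVector p k))) :=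
  Submodule.map_injective_of_injective (f := P.subtype.restrictScalars (WittVector p k))
    (fun _ _ h => Subtype.ext h)

theorem isoOn_of_isIsoclinic_restrict (hτ : WAuto τ) (F : N →ₛₗ[τ] N) (P : Submodule K(p, k) N)
    (hP : ∀ x ∈ P, F x ∈ P) {μ : ℚ} (h : IsIsoclinic (F.restrict hP) μ) : IsoOn F P μ := by
  obtain ⟨M, hM, r, s, hs, hμ, hFM⟩ := h
  refine ⟨Submodule.map (P.subtype.restrictScalars (WittVector p k)) M, hM.fg.map _, ?_, r, s, hs, hμ, ?_⟩
  · have : ((Submodule.map (P.subtype.restrictScalars (WittVector p k)) M : Submodule (WittVector p k) N) : Set N) =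
        P.subtype '' (M : Set P) := rfl
    rw [this, ← Submodule.map_span, hM.span_eq_top, Submodule.map_subtype_top]
  · rw [← map_latImg hτ P.subtype (F.restrict hP) F (fun _ => rfl), hFM, map_pPow]

theorem isIsoclinic_restrict_of_isoOn (hτ : WAuto τ) (F : N →ₛₗ[τ] N) (P : Submodule K(p, k) N)
    (hP : ∀ x ∈ P, F x ∈ P) {μ : ℚ} (h : IsoOn F P μ) : IsIsoclinic (F.restrict hP) μ := by
  obtain ⟨M, hMfg, hMspan, r, s, hs, hμ, hFM⟩ := h
  have hMP : ∀ x ∈ M, x ∈ P := fun x hx => by rw [← hMspan]; exact Submodule.subset_span hx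
  have hmap : Submodule.map (P.subtype.restrictScalars (WittVector p k)) (subLat M P) = M := by
    ext x
    constructor
    · rintro ⟨y, hy, rfl⟩; exact hy
    · intro hx; exact ⟨⟨x, hMP x hx⟩, hx, rfl⟩
  refine ⟨subLat M P, ⟨?_, ?_⟩, r, s, hs, hμ, ?_⟩
  · apply Submodule.fg_of_fg_map_injective (P.subtype.restrictScalars (WittVector p k))
      (fun x y h => Subtype.ext h)
    rw [hmap]; exact hMfg
  · apply Submodule.map_injective_of_injective (f := P.subtype) (Subtype.val_injective)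
    rw [Submodule.map_span, Submodule.map_subtype_top]
    have : P.subtype '' ((subLat M P : Submodule (WittVector p k) P) : Set P) =
        ((Submodule.map (P.subtype.restrictScalars (WittVector p k)) (subLat M P) :
          Submodule (WittVector p k) N) : Set N) := rfl
    rw [this, hmap, hMspan]
  · apply map_subtype_injective P
    rw [map_latImg hτ P.subtype (F.restrict hP) F (fun _ => rfl), map_pPow, hmap, hFM]

theorem span_sup_coe (M₁ M₂ : Submodule (WittVector p k) N) :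
    Submodule.span K(p, k) ((M₁ ⊔ M₂ : Submodule (WittVector p k) N) : Set N) =
      Submodule.span K(p, k) (M₁ : Set N) ⊔ Submodule.span K(p, k) (M₂ : Set N) := by
  apply le_antisymm
  · rw [Submodule.span_le]
    intro x hx
    obtain ⟨a, ha, b, hb, rfl⟩ := Submodule.mem_sup.1 hx
    exact Submodule.add_mem_sup (Submodule.subset_span ha) (Submodule.subset_span hb)
  · exact sup_le (Submodule.span_mono (fun x hx => (le_sup_left : M₁ ≤ M₁ ⊔ M₂) hx))
      (Submodule.span_mono (fun x hx => (le_sup_right : M₂ ≤ M₁ ⊔ M₂) hx))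

theorem isoOn_bot (F : N →ₛₗ[τ] N) (μ : ℚ) : IsoOn F ⊥ μ := by
  refine ⟨⊥, Submodule.fg_bot, by simp, μ.num, μ.den, μ.den_pos, Rat.num_div_den μ, ?_⟩
  rw [latImg_bot, pPow_bot]

theorem isoOn_sup (hτ : WAuto τ) (F : N →ₛₗ[τ] N) {P₁ P₂ : Submodule K(p, k) N} {μ : ℚ}
    (h₁ : IsoOn F P₁ μ) (h₂ : IsoOn F P₂ μ) : IsoOn F (P₁ ⊔ P₂) μ := by
  obtain ⟨M₁, hM₁fg, hM₁span, r₁, s₁, hs₁, hμ₁, hFM₁⟩ := h₁
  obtain ⟨M₂, hM₂fg, hM₂span, r₂, s₂, hs₂, hμ₂, hFM₂⟩ := h₂
  have e₁ := latImg_mul_eq hτ F M₁ hFM₁ s₂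
  have e₂ := latImg_mul_eq hτ F M₂ hFM₂ s₁
  rw [mul_comm s₂ s₁] at e₁
  have hAB : (s₂ : ℤ) * r₁ = (s₁ : ℤ) * r₂ := by
    have h1 : (s₁ : ℚ) ≠ 0 := by exact_mod_cast hs₁.ne'
    have h2 : (s₂ : ℚ) ≠ 0 := by exact_mod_cast hs₂.ne'
    have h3 : (r₁ : ℚ) / s₁ = (r₂ : ℚ) / s₂ := hμ₁.trans hμ₂.symm
    rw [div_eq_div_iff h1 h2] at h3
    have : ((s₂ : ℤ) * r₁ : ℚ) = ((s₁ : ℤ) * r₂ : ℚ) := by push_cast; linarith
    exact_mod_cast this
  refine ⟨M₁ ⊔ M₂, hM₁fg.sup hM₂fg, ?_, (s₂ : ℤ) * r₁, s₁ * s₂, Nat.mul_pos hs₁ hs₂, ?_, ?_⟩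
  · rw [span_sup_coe, hM₁span, hM₂span]
  · rw [← hμ₁]
    have h1 : (s₁ : ℚ) ≠ 0 := by exact_mod_cast hs₁.ne'
    have h2 : (s₂ : ℚ) ≠ 0 := by exact_mod_cast hs₂.ne'
    push_cast
    field_simp
  · rw [latImg_sup hτ, e₁, e₂, ← hAB, pPow_sup]

theorem slopePart_stable_isoOn (hτ : WAuto τ) (F : N →ₛₗ[τ] N) [Module.Finite K(p, k) N] (μ : ℚ) :
    (∀ x ∈ slopePart F μ, F x ∈ slopePart F μ) ∧ IsoOn F (slopePart F μ) μ := by
  classical
  set S : Set (Submodule K(p, k) N) :=
    {P : Submodule K(p, k) N | ∃ hP : ∀ x ∈ P, F x ∈ P, IsIsoclinic (F.restrict hP) μ} with hS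
  have hfg : (sSup S).FG := IsNoetherian.noetherian _
  have hcomp := (Submodule.fg_iff_compact (sSup S)).1 hfg
  obtain ⟨t, htS, hle⟩ := (CompleteLattice.isCompactElement_iff_exists_le_sSup_of_le_sSup _ (sSup S)).1 hcomp S le_rfl
  have heq : slopePart F μ = t.sup id := by
    apply le_antisymm hle
    apply Finset.sup_le
    intro P hP
    exact le_sSup (htS hP)
  rw [heq]
  clear heq hle hcomp hfg
  induction t using Finset.induction with
  | empty =>
    rw [Finset.sup_empty]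
    exact ⟨fun x hx => by rw [Submodule.mem_bot] at hx; rw [hx, map_zero]; exact Submodule.zero_mem _,
      isoOn_bot F μ⟩
  | insert P t hPt ih =>
    rw [Finset.sup_insert]
    have hPS : P ∈ S := htS (by simp)
    obtain ⟨hPst, hPiso⟩ := hPS
    obtain ⟨ih1, ih2⟩ := ih (fun Q hQ => htS (by simp [hQ]))
    refine ⟨?_, isoOn_sup hτ F (isoOn_of_isIsoclinic_restrict hτ F P hPst hPiso) ih2⟩
    intro x hx
    obtain ⟨a, ha, b, hb, rfl⟩ := Submodule.mem_sup.1 hx
    rw [map_add]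
    exact Submodule.add_mem_sup (hPst a ha) (ih1 b hb)


/-! ### A `p`-adic order on `K` and pivots -/

theorem exists_zpow_unit (c : K(p, k)) (hc : c ≠ 0) :
    ∃ (n : ℤ) (u : (WittVector p k)ˣ), c = (p : K(p, k)) ^ n * algebraMap (WittVector p k) K(p, k) u := by
  obtain ⟨a, b, hb, rfl⟩ := IsFractionRing.div_surjective (A := WittVector p k) c
  have hb0 : b ≠ 0 := nonZeroDivisors.ne_zero hb
  have ha0 : a ≠ 0 := by
    rintro rfl
    simp at hc
  obtain ⟨m, u, rfl⟩ := WittVector.exists_eq_pow_p_mul' a ha0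
  obtain ⟨n, v, rfl⟩ := WittVector.exists_eq_pow_p_mul' b hb0
  refine ⟨(m : ℤ) - n, u * v⁻¹, ?_⟩
  have hp := pK_ne_zero (p := p) (k := k)
  have hv : algebraMap (WittVector p k) K(p, k) (v : WittVector p k) ≠ 0 := by
    intro h0
    exact v.ne_zero ((IsFractionRing.injective (WittVector p k) K(p, k)) (by simpa using h0))
  rw [zpow_sub₀ hp, Units.val_mul, map_mul, map_mul, map_mul, map_pow, map_pow, map_natCast, zpow_natCast, zpow_natCast]
  have : algebraMap (WittVector p k) K(p, k) ((v⁻¹ : (WittVector p k)ˣ) : WittVector p k) = (algebraMap (WittVector p k) K(p, k) (v : WittVector p k))⁻¹ := by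
    apply eq_inv_of_mul_eq_one_left
    rw [← map_mul]; simp
  rw [this]
  field_simp

/-- A `p`-adic order on `K` (junk value `0` at `0`). -/
noncomputable def ordK (c : K(p, k)) : ℤ := by
  classical
  exact if h : c = 0 then 0 else (exists_zpow_unit c h).choose

theorem ordK_spec {c : K(p, k)} (hc : c ≠ 0) :
    ∃ u : (WittVector p k)ˣ, c = (p : K(p, k)) ^ (ordK c) * algebraMap (WittVector p k) K(p, k) u := by
  unfold ordK
  rw [dif_neg hc]
  exact (exists_zpow_unit c hc).choose_spec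

theorem algebraMap_unit_inv (v : (WittVector p k)ˣ) :
    algebraMap (WittVector p k) K(p, k) ((v⁻¹ : (WittVector p k)ˣ) : WittVector p k) =
      (algebraMap (WittVector p k) K(p, k) (v : WittVector p k))⁻¹ := by
  apply eq_inv_of_mul_eq_one_left
  rw [← map_mul]; simp

theorem algebraMap_unit_ne_zero (v : (WittVector p k)ˣ) :
    algebraMap (WittVector p k) K(p, k) (v : WittVector p k) ≠ 0 := by
  intro h0
  exact v.ne_zero ((IsFractionRing.injective (WittVector p k) K(p, k)) (by simpa using h0))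

theorem div_eq_zpow_mul {a b : K(p, k)} (ha : a ≠ 0) (hb : b ≠ 0) :
    ∃ w : (WittVector p k)ˣ, a / b = (p : K(p, k)) ^ (ordK a - ordK b) *
      algebraMap (WittVector p k) K(p, k) w := by
  obtain ⟨u, hu⟩ := ordK_spec ha
  obtain ⟨v, hv⟩ := ordK_spec hb
  refine ⟨u * v⁻¹, ?_⟩
  have hp := pK_ne_zero (p := p) (k := k)
  have hv0 := algebraMap_unit_ne_zero v
  rw [Units.val_mul, map_mul, algebraMap_unit_inv, zpow_sub₀ hp]
  conv_lhs => rw [hu, hv]
  field_simp

theorem div_eq_algebraMap_of_ord_le {a b : K(p, k)} (ha : a ≠ 0) (hb : b ≠ 0)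
    (h : ordK b ≤ ordK a) : ∃ w : WittVector p k, a / b = algebraMap (WittVector p k) K(p, k) w := by
  obtain ⟨u, hu⟩ := div_eq_zpow_mul ha hb
  obtain ⟨d, hd⟩ := Int.eq_ofNat_of_zero_le (sub_nonneg.2 h)
  refine ⟨(p : WittVector p k) ^ d * u, ?_⟩
  rw [hu, hd, zpow_natCast, map_mul, map_pow, map_natCast]

theorem div_eq_p_mul_of_ord_lt {a b : K(p, k)} (ha : a ≠ 0) (hb : b ≠ 0)
    (h : ordK b < ordK a) :
    ∃ w : WittVector p k, a / b = (p : K(p, k)) * algebraMap (WittVector p k) K(p, k) w := by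
  obtain ⟨u, hu⟩ := div_eq_zpow_mul ha hb
  obtain ⟨d, hd⟩ := Int.eq_ofNat_of_zero_le (show 0 ≤ ordK a - ordK b - 1 by omega)
  refine ⟨(p : WittVector p k) ^ d * u, ?_⟩
  have : ordK a - ordK b = (d : ℤ) + 1 := by omega
  rw [hu, this, zpow_add₀ pK_ne_zero, zpow_natCast, zpow_one, map_mul, map_pow, map_natCast]
  ring

theorem exists_pivot {n : ℕ} (g : Fin n → K(p, k)) (hg : ∃ i, g i ≠ 0) :
    ∃ j, g j ≠ 0 ∧ (∀ i, ∃ w : WittVector p k, g i / g j = algebraMap (WittVector p k) K(p, k) w) ∧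
      (∀ i, j < i → ∃ w : WittVector p k,
        g i / g j = (p : K(p, k)) * algebraMap (WittVector p k) K(p, k) w) := by
  classical
  set I : Finset (Fin n) := Finset.univ.filter (fun i => g i ≠ 0) with hI
  have hIne : I.Nonempty := by
    obtain ⟨i, hi⟩ := hg
    exact ⟨i, by simp [hI, hi]⟩
  obtain ⟨i₀, hi₀, hmin⟩ := Finset.exists_min_image I (fun i => ordK (g i)) hIne
  set J : Finset (Fin n) := I.filter (fun i => ordK (g i) = ordK (g i₀)) with hJ
  have hJne : J.Nonempty := ⟨i₀, by simp [hJ, hi₀]⟩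
  set j := J.max' hJne with hj
  have hjJ : j ∈ J := Finset.max'_mem J hJne
  have hjI : j ∈ I := (Finset.mem_filter.1 hjJ).1
  have hjord : ordK (g j) = ordK (g i₀) := (Finset.mem_filter.1 hjJ).2
  have hj0 : g j ≠ 0 := (Finset.mem_filter.1 hjI).2
  refine ⟨j, hj0, fun i => ?_, fun i hji => ?_⟩
  · by_cases hi0 : g i = 0
    · exact ⟨0, by simp [hi0]⟩
    · have hiI : i ∈ I := by simp [hI, hi0]
      exact div_eq_algebraMap_of_ord_le hi0 hj0 (by rw [hjord]; exact hmin i hiI)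
  · by_cases hi0 : g i = 0
    · exact ⟨0, by simp [hi0]⟩
    · have hiI : i ∈ I := by simp [hI, hi0]
      have hle : ordK (g j) ≤ ordK (g i) := by rw [hjord]; exact hmin i hiI
      have hne : ordK (g i) ≠ ordK (g j) := by
        intro he
        have hiJ : i ∈ J := Finset.mem_filter.2 ⟨hiI, by rw [he, hjord]⟩
        have := Finset.le_max' J i hiJ
        exact absurd hji (not_lt.2 this)
      exact div_eq_p_mul_of_ord_lt hi0 hj0 (lt_of_le_of_ne hle (Ne.symm hne))


/-! ### The effectivity lemma -/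

/-- `M + F M + ⋯ + F^(m-1) M`. -/
noncomputable def sumLat (F : N →ₛₗ[τ] N) (m : ℕ) (M : Submodule (WittVector p k) N) :
    Submodule (WittVector p k) N :=
  (Finset.range m).sup (fun i => latImg F i M)

theorem latImg_le_sumLat (F : N →ₛₗ[τ] N) (M : Submodule (WittVector p k) N) {i m : ℕ} (h : i < m) :
    latImg F i M ≤ sumLat F m M :=
  Finset.le_sup (f := fun i => latImg F i M) (Finset.mem_range.2 h)

theorem le_sumLat (F : N →ₛₗ[τ] N) (M : Submodule (WittVector p k) N) {m : ℕ} (h : 0 < m) :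
    M ≤ sumLat F m M := by
  have := latImg_le_sumLat F M h
  rwa [latImg_zero] at this

theorem sumLat_isLattice (hτ : WAuto τ) (F : N →ₛₗ[τ] N) {m : ℕ} (hm : 0 < m)
    (M : Submodule (WittVector p k) N) (hM : M.IsLattice K(p, k)) :
    (sumLat F m M).IsLattice K(p, k) := by
  have := hM
  refine Submodule.IsLattice.of_le_of_isLattice_of_fg K(p, k) (le_sumLat F M hm) ?_
  exact Submodule.fg_finset_sup _ _ (fun i _ => latImg_fg hτ F i M hM.fg)

theorem latImg_finset_sup (hτ : WAuto τ) (F : N →ₛₗ[τ] N) (s : ℕ) {ι : Type*} (t : Finset ι)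
    (f : ι → Submodule (WittVector p k) N) :
    latImg F s (t.sup f) = t.sup (fun i => latImg F s (f i)) := by
  classical
  induction t using Finset.induction with
  | empty => simp [latImg_bot]
  | insert i t _ ih => rw [Finset.sup_insert, Finset.sup_insert, latImg_sup hτ, ih]

theorem iterate_mem_sumLat_of_le (hτ : WAuto τ) (F : N →ₛₗ[τ] N) [Module.Finite K(p, k) N]
    (M : Submodule (WittVector p k) N) (m : ℕ) (hm : Module.finrank K(p, k) N < m)
    (h : latImg F m M ≤ pPow (-1) M) (x : N) (hx : x ∈ M) : (⇑F)^[m] x ∈ sumLat F m M := by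
  classical
  set h₀ := Module.finrank K(p, k) N with hh₀
  set T := sumLat F m M with hT
  -- basic membership facts
  have T1 : ∀ e : ℕ, e < m → ∀ y ∈ M, (⇑F)^[e] y ∈ T := fun e he y hy =>
    latImg_le_sumLat F M he (iterate_mem_latImg F e M hy)
  have T2 : ∀ t : ℕ, t < m → ∀ y ∈ M, (p : K(p, k)) • (⇑F)^[t + m] y ∈ T := by
    intro t ht y hy
    have hz : (⇑F)^[m] y ∈ pPow (-1) M := h (iterate_mem_latImg F m M hy)
    rw [mem_pPow_iff, neg_neg, zpow_one] at hz
    have := T1 t ht _ hz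
    have e := iterate_smul_zpow F t 1 ((⇑F)^[m] y)
    rw [zpow_one] at e
    rw [e, ← Function.iterate_add_apply] at this
    exact this
  -- linear dependence
  let v : Fin (h₀ + 1) → N := fun i => (⇑F)^[i.val] x
  have hdep : ¬ LinearIndependent K(p, k) v := by
    intro hli
    have := hli.fintype_card_le_finrank
    simp at this
    omega
  rw [Fintype.not_linearIndependent_iff] at hdep
  obtain ⟨g, hsum, hg⟩ := hdep
  obtain ⟨j, hj0, V1, V2⟩ := exists_pivot g hg
  have hjm : j.val < m := by have := j.isLt; omega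
  obtain ⟨t, ht⟩ : ∃ t : ℕ, t + j.val = m := ⟨m - j.val, by omega⟩
  have hτt := hτ.pow t
  -- apply `F^t` and normalise
  have hsum' : ∑ i, ((τ ^ t) (g i / g j)) • (⇑F)^[t + i.val] x = 0 := by
    have h1 := congrArg (iter F t) hsum
    rw [map_sum, map_zero] at h1
    have h2 : ∑ i, ((τ ^ t) (g i)) • (⇑F)^[t + i.val] x = 0 := by
      rw [← h1]
      refine Finset.sum_congr rfl (fun i _ => ?_)
      rw [map_smulₛₗ, iter_apply, ← Function.iterate_add_apply]
    have h3 := congrArg (fun y => ((τ ^ t) (g j))⁻¹ • y) h2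
    simp only [Finset.smul_sum, smul_zero, smul_smul] at h3
    rw [← h3]
    refine Finset.sum_congr rfl (fun i _ => ?_)
    rw [map_div₀, div_eq_inv_mul]
  have hdj : (τ ^ t) (g j / g j) = 1 := by rw [div_self hj0, map_one]
  rw [← Finset.add_sum_erase _ _ (Finset.mem_univ j), hdj, one_smul, ht] at hsum'
  have hFm : (⇑F)^[m] x = -∑ i ∈ Finset.univ.erase j, ((τ ^ t) (g i / g j)) • (⇑F)^[t + i.val] x :=
    eq_neg_of_add_eq_zero_left hsum'
  rw [hFm]
  refine Submodule.neg_mem _ (Submodule.sum_mem _ (fun i hi => ?_))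
  have hij : i ≠ j := Finset.ne_of_mem_erase hi
  rcases lt_or_gt_of_ne hij with hlt | hgt
  · obtain ⟨w, hw⟩ := V1 i
    obtain ⟨w', hw'⟩ := hτt.map_W w
    rw [hw, hw', algebraMap_smul]
    refine Submodule.smul_mem _ _ (T1 _ ?_ x hx)
    have : i.val < j.val := hlt
    omega
  · obtain ⟨w, hw⟩ := V2 i hgt
    obtain ⟨w', hw'⟩ := hτt.map_W w
    rw [hw, map_mul, map_natCast, hw', mul_comm, mul_smul, algebraMap_smul]
    refine Submodule.smul_mem _ _ ?_
    have hji : j.val < i.val := hgt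
    have hi' := i.isLt
    have e : t + i.val = (i.val - j.val) + m := by omega
    rw [e]
    exact T2 _ (by omega) x hx

theorem latImg_one_sumLat_le (hτ : WAuto τ) (F : N →ₛₗ[τ] N) [Module.Finite K(p, k) N]
    (M : Submodule (WittVector p k) N) (m : ℕ) (hm : Module.finrank K(p, k) N < m)
    (h : latImg F m M ≤ pPow (-1) M) : latImg F 1 (sumLat F m M) ≤ sumLat F m M := by
  unfold sumLat
  rw [latImg_finset_sup hτ]
  apply Finset.sup_le
  intro i hi
  rw [← latImg_add hτ]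
  have him : i < m := Finset.mem_range.1 hi
  rcases Nat.lt_or_ge (1 + i) m with h1 | h1
  · exact latImg_le_sumLat F M h1
  · have e : 1 + i = m := by omega
    rw [e]
    intro y hy
    obtain ⟨x, hx, rfl⟩ := (mem_latImg hτ F m M y).1 hy
    exact iterate_mem_sumLat_of_le hτ F M m hm h x hx

/-- If `F^m M ⊆ p⁻¹ M` for some `m > dim N`, then `(N, F)` is effective. -/
theorem isEffective_of_latImg_le (hτ : WAuto τ) (F : N →ₛₗ[τ] N) [Module.Finite K(p, k) N]
    (M : Submodule (WittVector p k) N) (hM : M.IsLattice K(p, k)) (m : ℕ)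
    (hm : Module.finrank K(p, k) N < m) (h : latImg F m M ≤ pPow (-1) M) : IsEffective F :=
  ⟨sumLat F m M, sumLat_isLattice hτ F (by omega) M hM, latImg_one_sumLat_le hτ F M m hm h⟩


/-! ### Non-negative first slope implies effective -/

theorem latImg_one_sumLat_le_of_latImg_le (hτ : WAuto τ) (G : N →ₛₗ[τ] N)
    (M : Submodule (WittVector p k) N) {j : ℕ} (hj : 0 < j) (h : latImg G j M ≤ M) :
    latImg G 1 (sumLat G j M) ≤ sumLat G j M := by
  unfold sumLat
  rw [latImg_finset_sup hτ]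
  apply Finset.sup_le
  intro i hi
  rw [← latImg_add hτ]
  have him : i < j := Finset.mem_range.1 hi
  rcases Nat.lt_or_ge (1 + i) j with h1 | h1
  · exact latImg_le_sumLat G M h1
  · have e : 1 + i = j := by omega
    rw [e]
    exact h.trans (le_sumLat G M hj)

theorem isEffective_of_firstSlope_nonneg (hτ : WAuto τ) (F : N →ₛₗ[τ] N) [Module.Finite K(p, k) N]
    {lam : ℝ} (hlam : IsFirstSlope F lam) (h0 : 0 ≤ lam) : IsEffective F := by
  obtain ⟨M, hM, o, ho, ht⟩ := hlam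
  set m₀ := Module.finrank K(p, k) N + 1 with hm₀
  have hm₀pos : (0 : ℝ) < (m₀ : ℝ) := by positivity
  have hev : ∀ᶠ n : ℕ in Filter.atTop, -(1 : ℝ) / m₀ < (o n : ℝ) / n := by
    apply ht.eventually (lt_mem_nhds _)
    have : -(1 : ℝ) / m₀ < 0 := by
      apply div_neg_of_neg_of_pos <;> [norm_num; exact hm₀pos]
    linarith
  obtain ⟨N₀, hN₀⟩ := Filter.eventually_atTop.1 hev
  set j := max N₀ 1 with hj
  have hj1 : 1 ≤ j := le_max_right _ _
  have hjN : N₀ ≤ m₀ * j := by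
    have : N₀ ≤ j := le_max_left _ _
    calc N₀ ≤ j := this
      _ = 1 * j := (one_mul j).symm
      _ ≤ m₀ * j := Nat.mul_le_mul_right j (by omega)
  have hlt := hN₀ (m₀ * j) hjN
  have hjpos : (0 : ℝ) < (j : ℝ) := by exact_mod_cast hj1
  have hord : -(j : ℤ) ≤ o (m₀ * j) := by
    have h1 : -(j : ℝ) < (o (m₀ * j) : ℝ) := by
      rw [div_lt_div_iff₀ hm₀pos (by push_cast; positivity)] at hlt
      push_cast at hlt
      nlinarith
    have h2 : (-(j : ℤ) : ℤ) < o (m₀ * j) := by exact_mod_cast h1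
    exact h2.le
  have hle : latImg F (m₀ * j) M ≤ pPow (-(j : ℤ)) M :=
    (ho (m₀ * j) (Nat.mul_pos (by omega) hj1)).1.trans (pPow_anti hord M)
  -- the twisted iterate `G = p F^{m₀}`
  set G : N →ₛₗ[τ ^ m₀] N := ((p : K(p, k)) ^ (1 : ℤ)) • iter F m₀ with hG
  have hτG := hτ.pow m₀
  have hGj : latImg G j M ≤ M := by
    rw [hG, latImg_zpow_smul_iter hτ, one_mul, pPow_le_iff]
    exact hle
  have hstab := latImg_one_sumLat_le_of_latImg_le hτG G M hj1 hGj
  set M' := sumLat G j M with hM'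
  have hM'lat : M'.IsLattice K(p, k) := sumLat_isLattice hτG G hj1 M hM
  have hFM' : latImg F m₀ M' ≤ pPow (-1) M' := by
    rw [hG, latImg_zpow_smul_iter hτ, pPow_le_iff] at hstab
    simpa using hstab
  exact isEffective_of_latImg_le hτ F M' hM'lat m₀ (by omega) hFM'

theorem exists_lattice_latImg_le_of_le_firstSlope (hτ : WAuto τ) (F : N →ₛₗ[τ] N)
    [Module.Finite K(p, k) N] {lam : ℝ} (hlam : IsFirstSlope F lam) (r : ℤ) (s : ℕ) (hs : 0 < s)
    (hrs : (r : ℝ) / s ≤ lam) :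
    ∃ M : Submodule (WittVector p k) N, M.IsLattice K(p, k) ∧ latImg F s M ≤ pPow r M := by
  have h1 := isFirstSlope_zpow_smul_iter hτ F hlam (-r) s
  have hs' : (0 : ℝ) < s := by exact_mod_cast hs
  have h0 : (0 : ℝ) ≤ (s : ℝ) * lam + ((-r : ℤ) : ℝ) := by
    rw [div_le_iff₀ hs'] at hrs
    push_cast
    linarith
  obtain ⟨M, hM, hFM⟩ := isEffective_of_firstSlope_nonneg (hτ.pow s) _ h1 h0
  refine ⟨M, hM, ?_⟩
  rw [latImg_zpow_smul_iter hτ, pPow_le_iff] at hFM
  simpa using hFM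

end Groth.Agent.Lib.Helper24Isoc
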