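import Mathlib
import Groth.Prelude.Def_Isoc
import Groth.Agent.Lib.Helper24IsocLat

set_option autoImplicit false
set_option linter.unusedSectionVars false
set_option linter.unnecessarySimpa false
open scoped Pointwise Isocrystal
universe u v

namespace Groth.Agent.Lib.Helper24Isoc

variable {p : ℕ} [Fact p.Prime] {k : Type u} [Field k] [CharP k p] [PerfectRing k p]
variable {N : Type v} [AddCommGroup N] [Module (WittVector p k) N] [Module K(p, k) N]
  [IsScalarTower (WittVector p k) K(p, k) N]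
variable {τ : K(p, k) →+* K(p, k)}

open Isoc

/-! ### `IsOrdP` -/

theorem isOrdP_one : IsOrdP (1 : K(p, k)) 0 := ⟨1, by simp⟩

theorem isOrdP_ne_zero {c : K(p, k)} {r : ℤ} (h : IsOrdP c r) : c ≠ 0 := by
  obtain ⟨u, rfl⟩ := h
  exact mul_ne_zero (zpow_ne_zero' r) (algebraMap_unit_ne_zero u)

theorem isOrdP_mul {c c' : K(p, k)} {r r' : ℤ} (h : IsOrdP c r) (h' : IsOrdP c' r') :
    IsOrdP (c * c') (r + r') := by
  obtain ⟨u, rfl⟩ := h
  obtain ⟨u', rfl⟩ := h'
  refine ⟨u * u', ?_⟩
  rw [zpow_add₀ pK_ne_zero, Units.val_mul, map_mul]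
  ring

theorem isOrdP_inv {c : K(p, k)} {r : ℤ} (h : IsOrdP c r) : IsOrdP c⁻¹ (-r) := by
  obtain ⟨u, rfl⟩ := h
  refine ⟨u⁻¹, ?_⟩
  rw [mul_inv, zpow_neg, algebraMap_unit_inv]

theorem exists_isOrdP {c : K(p, k)} (hc : c ≠ 0) : ∃ r : ℤ, IsOrdP c r := by
  obtain ⟨n, u, h⟩ := exists_zpow_unit c hc
  exact ⟨n, u, h⟩

theorem isOrdP_zpow (r : ℤ) : IsOrdP ((p : K(p, k)) ^ r) r := ⟨1, by simp⟩

theorem isOrdP_algebraMap_unit (u : (WittVector p k)ˣ) :
    IsOrdP (algebraMap (WittVector p k) K(p, k) u) 0 := ⟨u, by simp⟩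

theorem isOrdP_tau (hτ : WAuto τ) {c : K(p, k)} {r : ℤ} (h : IsOrdP c r) : IsOrdP (τ c) r := by
  obtain ⟨u, rfl⟩ := h
  obtain ⟨w, hw⟩ := hτ.map_W (u : WittVector p k)
  obtain ⟨w', hw'⟩ := hτ.map_W ((u⁻¹ : (WittVector p k)ˣ) : WittVector p k)
  have hmul : w * w' = 1 := by
    apply IsFractionRing.injective (WittVector p k) K(p, k)
    rw [map_mul, ← hw, ← hw', ← map_mul, ← map_mul, map_one]
    simp
  refine ⟨⟨w, w', hmul, by rw [mul_comm]; exact hmul⟩, ?_⟩
  rw [map_mul, tau_zpow, hw]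

theorem isOrdP_algebraMap_nonneg {w : WittVector p k} {r : ℤ}
    (h : IsOrdP (algebraMap (WittVector p k) K(p, k) w) r) : 0 ≤ r ∧ (r = 0 → IsUnit w) := by
  have hw0 : w ≠ 0 := by
    rintro rfl
    exact isOrdP_ne_zero h (map_zero _)
  obtain ⟨m, b, rfl⟩ := WittVector.exists_eq_pow_p_mul' w hw0
  obtain ⟨u, hu⟩ := h
  -- p^m * b = p^r * u in K
  by_contra hcon
  have hcases : r < 0 ∨ (r = 0 ∧ ¬ IsUnit ((p : WittVector p k) ^ m * (b : WittVector p k))) := by
    by_cases hr : 0 ≤ r
    · right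
      rw [not_and_or, not_le] at hcon
      rcases hcon with h1 | h1
      · omega
      · push Not at h1
        exact h1
    · left; omega
  have hpu : ¬ IsUnit (p : WittVector p k) := (WittVector.irreducible p).not_isUnit
  rcases hcases with hr | ⟨hr, hnu⟩
  · -- p^(m + (-r)) * b = u in W
    obtain ⟨d, hd⟩ : ∃ d : ℕ, -r = (d : ℤ) + 1 := ⟨(-r - 1).toNat, by omega⟩
    have h1 : algebraMap (WittVector p k) K(p, k) ((p : WittVector p k) ^ (m + (d + 1)) * b) =
        algebraMap (WittVector p k) K(p, k) u := by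
      rw [pow_add, mul_assoc, mul_comm ((p : WittVector p k) ^ (d + 1)), ← mul_assoc, map_mul, hu,
        map_pow, map_natCast]
      have : r = -((d : ℤ) + 1) := by omega
      rw [this, zpow_neg]
      have hp := pK_ne_zero (p := p) (k := k)
      have : ((p : K(p, k)) ^ ((d : ℤ) + 1)) = (p : K(p, k)) ^ (d + 1) := by
        rw [← zpow_natCast]; push_cast; rfl
      rw [this]
      field_simp
    have h2 := IsFractionRing.injective (WittVector p k) K(p, k) h1
    have h3 : IsUnit ((p : WittVector p k) ^ (m + (d + 1)) * b) := by rw [h2]; exact u.isUnit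
    have h4 : IsUnit ((p : WittVector p k) ^ (m + (d + 1))) := isUnit_of_mul_isUnit_left h3
    rw [isUnit_pow_iff (by omega)] at h4
    exact hpu h4
  · apply hnu
    subst hr
    rw [zpow_zero, one_mul] at hu
    have h2 := IsFractionRing.injective (WittVector p k) K(p, k) hu
    rw [h2]; exact u.isUnit

theorem isOrdP_unique {c : K(p, k)} {r r' : ℤ} (h : IsOrdP c r) (h' : IsOrdP c r') : r = r' := by
  have h1 : IsOrdP (c * c⁻¹) (r + -r') := isOrdP_mul h (isOrdP_inv h')
  have h2 : IsOrdP (c * c⁻¹) (r' + -r) := isOrdP_mul h' (isOrdP_inv h)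
  rw [mul_inv_cancel₀ (isOrdP_ne_zero h)] at h1 h2
  have e : (1 : K(p, k)) = algebraMap (WittVector p k) K(p, k) 1 := (map_one _).symm
  rw [e] at h1 h2
  have := (isOrdP_algebraMap_nonneg h1).1
  have := (isOrdP_algebraMap_nonneg h2).1
  omega

theorem isOrdP_zpow_mul_algebraMap {w : WittVector p k} {r D : ℤ}
    (h : IsOrdP ((p : K(p, k)) ^ r * algebraMap (WittVector p k) K(p, k) w) D) :
    r ≤ D ∧ (r = D → IsUnit w) := by
  have h1 : IsOrdP (((p : K(p, k)) ^ r)⁻¹ * ((p : K(p, k)) ^ r * algebraMap (WittVector p k) K(p, k) w)) (-r + D) :=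
    isOrdP_mul (isOrdP_inv (isOrdP_zpow r)) h
  rw [inv_mul_cancel_left₀ (zpow_ne_zero' r)] at h1
  obtain ⟨h2, h3⟩ := isOrdP_algebraMap_nonneg h1
  exact ⟨by omega, fun e => h3 (by omega)⟩


/-! ### Matrices of semilinear maps -/

section Det

variable {n : ℕ}

/-- The matrix of a semilinear map in a basis. -/
noncomputable def mat (b : Module.Basis (Fin n) K(p, k) N) (F : N →ₛₗ[τ] N) :
    Matrix (Fin n) (Fin n) K(p, k) :=
  Matrix.of fun i j => b.repr (F (b j)) i

theorem detCoeff_eq_det_mat (b : Module.Basis (Fin n) K(p, k) N) (F : N →ₛₗ[τ] N) :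
    detCoeff b F = (mat b F).det := rfl

theorem repr_semilinear (b : Module.Basis (Fin n) K(p, k) N) (F : N →ₛₗ[τ] N) (x : N) (i : Fin n) :
    b.repr (F x) i = ∑ l, mat b F i l * τ (b.repr x l) := by
  conv_lhs => rw [← b.sum_repr x]
  rw [map_sum, map_sum, Finsupp.finsetSum_apply]
  refine Finset.sum_congr rfl (fun l _ => ?_)
  rw [map_smulₛₗ, map_smul, Finsupp.smul_apply, smul_eq_mul, mul_comm]; rfl

theorem mat_comp {τ' τ'' : K(p, k) →+* K(p, k)} (b : Module.Basis (Fin n) K(p, k) N)
    (G : N →ₛₗ[τ'] N) (F : N →ₛₗ[τ] N) (H : N →ₛₗ[τ''] N) (hH : ∀ x, H x = G (F x)) :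
    mat b H = mat b G * (mat b F).map τ' := by
  ext i j
  rw [Matrix.mul_apply]
  show b.repr (H (b j)) i = _
  rw [hH, repr_semilinear b G]
  rfl

theorem detCoeff_comp {τ' τ'' : K(p, k) →+* K(p, k)} (b : Module.Basis (Fin n) K(p, k) N)
    (G : N →ₛₗ[τ'] N) (F : N →ₛₗ[τ] N) (H : N →ₛₗ[τ''] N) (hH : ∀ x, H x = G (F x)) :
    detCoeff b H = detCoeff b G * τ' (detCoeff b F) := by
  rw [detCoeff_eq_det_mat, detCoeff_eq_det_mat, detCoeff_eq_det_mat, mat_comp b G F H hH,
    Matrix.det_mul, RingHom.map_det, RingHom.mapMatrix_apply]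

theorem mat_iter_zero (b : Module.Basis (Fin n) K(p, k) N) (F : N →ₛₗ[τ] N) :
    mat b (iter F 0) = 1 := by
  ext i j
  show b.repr ((iter F 0) (b j)) i = _
  rw [iter_apply, Function.iterate_zero, id_eq, b.repr_self, Matrix.one_apply, Finsupp.single_apply]
  simp [eq_comm]

theorem detCoeff_iter_succ (b : Module.Basis (Fin n) K(p, k) N) (F : N →ₛₗ[τ] N) (m : ℕ) :
    detCoeff b (iter F (m + 1)) = detCoeff b F * τ (detCoeff b (iter F m)) :=
  detCoeff_comp b F (iter F m) (iter F (m + 1))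
    (fun x => by rw [iter_apply, iter_apply, Function.iterate_succ_apply'])

theorem isOrdP_detCoeff_iter (hτ : WAuto τ) (b : Module.Basis (Fin n) K(p, k) N) (F : N →ₛₗ[τ] N)
    {d : ℤ} (h : IsOrdP (detCoeff b F) d) (m : ℕ) : IsOrdP (detCoeff b (iter F m)) (m * d) := by
  induction m with
  | zero =>
    rw [detCoeff_eq_det_mat, mat_iter_zero, Matrix.det_one]
    simpa using isOrdP_one (p := p) (k := k)
  | succ m ih =>
    rw [detCoeff_iter_succ]
    have := isOrdP_mul h (isOrdP_tau hτ ih)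
    rw [show ((m + 1 : ℕ) : ℤ) * d = d + m * d by push_cast; ring]
    exact this

theorem detCoeff_basis_change (b b' : Module.Basis (Fin n) K(p, k) N) (F : N →ₛₗ[τ] N) :
    (b.toMatrix b').det * detCoeff b' F = detCoeff b F * τ ((b.toMatrix b').det) := by
  have hmat : b.toMatrix b' * mat b' F = mat b F * (b.toMatrix b').map τ := by
    ext i j
    rw [Matrix.mul_apply, Matrix.mul_apply]
    have h1 : ∑ l, mat b F i l * ((b.toMatrix b').map τ) l j = b.repr (F (b' j)) i := by
      rw [repr_semilinear b F]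
      rfl
    have h2 : ∑ l, (b.toMatrix b') i l * mat b' F l j = b.repr (F (b' j)) i := by
      conv_rhs => rw [← b'.sum_repr (F (b' j))]
      rw [map_sum, Finsupp.finsetSum_apply]
      refine Finset.sum_congr rfl (fun l _ => ?_)
      rw [map_smul, Finsupp.smul_apply, smul_eq_mul, mul_comm]
      rfl
    rw [h1, h2]
  have := congrArg Matrix.det hmat
  rw [Matrix.det_mul, Matrix.det_mul] at this
  rw [detCoeff_eq_det_mat, detCoeff_eq_det_mat, this, RingHom.map_det, RingHom.mapMatrix_apply]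

theorem isOrdP_detCoeff_basis (hτ : WAuto τ) (b b' : Module.Basis (Fin n) K(p, k) N)
    (F : N →ₛₗ[τ] N) {d : ℤ} (h : IsOrdP (detCoeff b F) d) : IsOrdP (detCoeff b' F) d := by
  classical
  have hP : (b.toMatrix b').det ≠ 0 := by
    have h1 := b.toMatrix_mul_toMatrix_flip b'
    have h2 := congrArg Matrix.det h1
    rw [Matrix.det_mul, Matrix.det_one] at h2
    exact left_ne_zero_of_mul_eq_one h2
  obtain ⟨e, he⟩ := exists_isOrdP hP
  have h1 := detCoeff_basis_change b b' F
  have h2 : detCoeff b' F = ((b.toMatrix b').det)⁻¹ * (detCoeff b F * τ ((b.toMatrix b').det)) := by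
    rw [← h1, inv_mul_cancel_left₀ hP]
  rw [h2]
  have := isOrdP_mul (isOrdP_inv he) (isOrdP_mul h (isOrdP_tau hτ he))
  rw [show -e + (d + e) = d by ring] at this
  exact this

end Det


/-! ### Lattice bases and determinants -/

theorem latImg_span (hτ : WAuto τ) (F : N →ₛₗ[τ] N) (s : ℕ) (S : Set N) :
    latImg F s (Submodule.span (WittVector p k) S) =
      Submodule.span (WittVector p k) ((⇑F)^[s] '' S) := by
  apply le_antisymm
  · have key : ∀ x ∈ Submodule.span (WittVector p k) S,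
        (⇑F)^[s] x ∈ Submodule.span (WittVector p k) ((⇑F)^[s] '' S) := by
      intro x hx
      induction hx using Submodule.span_induction with
      | mem x hx => exact Submodule.subset_span ⟨x, hx, rfl⟩
      | zero => rw [show (⇑F)^[s] 0 = 0 from map_zero (iter F s)]; exact Submodule.zero_mem _
      | add x y _ _ hx hy =>
        rw [show (⇑F)^[s] (x + y) = (⇑F)^[s] x + (⇑F)^[s] y from map_add (iter F s) x y]
        exact Submodule.add_mem _ hx hy
      | smul w x _ hx =>
        obtain ⟨w', hw'⟩ := (hτ.pow s).map_W w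
        have : (⇑F)^[s] (w • x) = w' • (⇑F)^[s] x := by
          have h1 := (iter F s).map_smulₛₗ (algebraMap (WittVector p k) K(p, k) w) x
          rw [hw', algebraMap_smul, algebraMap_smul] at h1
          exact h1
        rw [this]
        exact Submodule.smul_mem _ _ hx
    intro y hy
    obtain ⟨x, hx, rfl⟩ := (mem_latImg hτ F s _ y).1 hy
    exact key x hx
  · rw [Submodule.span_le]
    rintro _ ⟨x, hx, rfl⟩
    exact iterate_mem_latImg F s _ (Submodule.subset_span hx)

theorem pPow_span (r : ℤ) (S : Set N) :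
    pPow r (Submodule.span (WittVector p k) S) =
      Submodule.span (WittVector p k) ((fun x => ((p : K(p, k)) ^ r) • x) '' S) := by
  unfold pPow
  rw [Submodule.smul_span, ← Set.image_smul]

section LatticeBasis

variable {n : ℕ}

theorem exists_lattice_basis (b : Module.Basis (Fin n) K(p, k) N) (M : Submodule (WittVector p k) N)
    (hM : M.IsLattice K(p, k)) : Nonempty (Module.Basis (Fin n) (WittVector p k) M) := by
  have := hM
  have hrank : Module.rank (WittVector p k) M = n := by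
    rw [Submodule.IsLattice.rank' K(p, k) M, rank_eq_card_basis b]; simp
  have hfin : Module.finrank (WittVector p k) M = n := by
    apply Module.finrank_eq_of_rank_eq hrank
  exact ⟨Module.finBasisOfFinrankEq (WittVector p k) M hfin⟩

theorem span_range_lattice_basis (M : Submodule (WittVector p k) N)
    (β : Module.Basis (Fin n) (WittVector p k) M) :
    Submodule.span (WittVector p k) (Set.range fun j => (β j : N)) = M := by
  have h1 : Submodule.map M.subtype (Submodule.span (WittVector p k) (Set.range β)) = M := by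
    rw [β.span_eq, Submodule.map_subtype_top]
  rw [Submodule.map_span, ← Set.range_comp] at h1
  exact h1

theorem span_range_coe (M : Submodule (WittVector p k) N) (m : Fin n → M) :
    Submodule.span (WittVector p k) (Set.range fun j => (m j : N)) =
      Submodule.map M.subtype (Submodule.span (WittVector p k) (Set.range m)) := by
  rw [Submodule.map_span, ← Set.range_comp]; rfl

theorem repr_extend (M : Submodule (WittVector p k) N) [hM : M.IsLattice K(p, k)]
    (β : Module.Basis (Fin n) (WittVector p k) M) (m : M) (i : Fin n) :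
    (β.extendOfIsLattice K(p, k)).repr (m : N) i =
      algebraMap (WittVector p k) K(p, k) (β.repr m i) := by
  have h1 : (m : N) = ∑ j, (algebraMap (WittVector p k) K(p, k) (β.repr m j)) •
      (β.extendOfIsLattice K(p, k)) j := by
    conv_lhs => rw [← β.sum_repr m]
    rw [Submodule.coe_sum]
    refine Finset.sum_congr rfl (fun j _ => ?_)
    rw [Submodule.coe_smul, Module.Basis.extendOfIsLattice_apply, algebraMap_smul]
  conv_lhs => rw [h1]
  rw [Module.Basis.repr_sum_self]

theorem exists_mat_of_latImg_le (F : N →ₛₗ[τ] N) (s : ℕ) (r : ℤ)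
    (M : Submodule (WittVector p k) N) [hM : M.IsLattice K(p, k)]
    (β : Module.Basis (Fin n) (WittVector p k) M) (h : latImg F s M ≤ pPow r M) :
    ∃ m : Fin n → M, (∀ j, (⇑F)^[s] (β j : N) = ((p : K(p, k)) ^ r) • (m j : N)) ∧
      mat (β.extendOfIsLattice K(p, k)) (iter F s) =
        ((p : K(p, k)) ^ r) • (β.toMatrix m).map (algebraMap (WittVector p k) K(p, k)) := by
  have h1 : ∀ j, ∃ y : M, (⇑F)^[s] (β j : N) = ((p : K(p, k)) ^ r) • (y : N) := by
    intro j
    obtain ⟨y, hy, hyx⟩ := (mem_pPow_iff' _ _ _).1 (h (iterate_mem_latImg F s M (β j).2))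
    exact ⟨⟨y, hy⟩, hyx⟩
  choose m hm using h1
  refine ⟨m, hm, ?_⟩
  ext i j
  show (β.extendOfIsLattice K(p, k)).repr ((iter F s) ((β.extendOfIsLattice K(p, k)) j)) i = _
  rw [Module.Basis.extendOfIsLattice_apply, iter_apply, hm j, map_smul, Finsupp.smul_apply,
    repr_extend, Matrix.smul_apply, Matrix.map_apply, Module.Basis.toMatrix_apply]

theorem detCoeff_of_mat_eq (B : Module.Basis (Fin n) K(p, k) N) (F : N →ₛₗ[τ] N) (s : ℕ) (r : ℤ)
    (A : Matrix (Fin n) (Fin n) (WittVector p k))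
    (h : mat B (iter F s) = ((p : K(p, k)) ^ r) • A.map (algebraMap (WittVector p k) K(p, k))) :
    detCoeff B (iter F s) = (p : K(p, k)) ^ (r * n) * algebraMap (WittVector p k) K(p, k) A.det := by
  rw [detCoeff_eq_det_mat, h, Matrix.det_smul, Fintype.card_fin, RingHom.map_det,
    RingHom.mapMatrix_apply, zpow_mul, zpow_natCast]

theorem isUnit_det_iff_span (M : Submodule (WittVector p k) N)
    (β : Module.Basis (Fin n) (WittVector p k) M) (m : Fin n → M) :
    IsUnit (β.toMatrix m).det ↔ Submodule.span (WittVector p k) (Set.range m) = ⊤ := by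
  rw [← Module.Basis.det_apply, ← Module.Basis.is_basis_iff_det]
  constructor
  · exact fun h => h.2
  · intro h
    refine ⟨?_, h⟩
    apply linearIndependent_of_top_le_span_of_card_eq_finrank h.ge
    rw [Module.finrank_eq_card_basis β]

theorem latImg_eq_pPow_iff_span (hτ : WAuto τ) (F : N →ₛₗ[τ] N) (s : ℕ) (r : ℤ)
    (M : Submodule (WittVector p k) N) (β : Module.Basis (Fin n) (WittVector p k) M)
    (m : Fin n → M) (hm : ∀ j, (⇑F)^[s] (β j : N) = ((p : K(p, k)) ^ r) • (m j : N)) :
    latImg F s M = pPow r M ↔ Submodule.span (WittVector p k) (Set.range m) = ⊤ := by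
  have h1 : latImg F s M = pPow r (Submodule.span (WittVector p k) (Set.range fun j => (m j : N))) := by
    conv_lhs => rw [← span_range_lattice_basis M β]
    rw [latImg_span hτ, pPow_span, ← Set.range_comp, ← Set.range_comp]
    congr 2
    ext j
    exact hm j
  rw [h1, span_range_coe]
  constructor
  · intro h
    have h2 := (pPow_le_pPow_iff r).1 h.ge
    rw [eq_top_iff]
    intro x _
    obtain ⟨y, hy, hyx⟩ := h2 x.2
    have : y = x := Subtype.ext hyx
    rwa [← this]
  · intro h
    rw [h, Submodule.map_subtype_top]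

/-- `F^s M ⊆ p^r M` bounds the order of the determinant below by `r · dim`. -/
theorem mul_le_of_latImg_le (hτ : WAuto τ) (b : Module.Basis (Fin n) K(p, k) N) (F : N →ₛₗ[τ] N)
    (s : ℕ) (r D : ℤ) (M : Submodule (WittVector p k) N) (hM : M.IsLattice K(p, k))
    (h : latImg F s M ≤ pPow r M) (hD : IsOrdP (detCoeff b (iter F s)) D) : r * n ≤ D := by
  have := hM
  obtain ⟨β⟩ := exists_lattice_basis b M hM
  obtain ⟨m, hm, hmat⟩ := exists_mat_of_latImg_le F s r M β h
  have hD' := isOrdP_detCoeff_basis (hτ.pow s) b (β.extendOfIsLattice K(p, k)) (iter F s) hD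
  rw [detCoeff_of_mat_eq _ F s r _ hmat] at hD'
  exact (isOrdP_zpow_mul_algebraMap hD').1

/-- `F^s M = p^r M` forces the order of the determinant to be `r · dim`. -/
theorem isOrdP_detCoeff_of_latImg_eq (hτ : WAuto τ) (b : Module.Basis (Fin n) K(p, k) N)
    (F : N →ₛₗ[τ] N) (s : ℕ) (r : ℤ) (M : Submodule (WittVector p k) N) (hM : M.IsLattice K(p, k))
    (h : latImg F s M = pPow r M) : IsOrdP (detCoeff b (iter F s)) (r * n) := by
  have := hM
  obtain ⟨β⟩ := exists_lattice_basis b M hM
  obtain ⟨m, hm, hmat⟩ := exists_mat_of_latImg_le F s r M β h.le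
  apply isOrdP_detCoeff_basis (hτ.pow s) (β.extendOfIsLattice K(p, k)) b (iter F s)
  rw [detCoeff_of_mat_eq _ F s r _ hmat]
  have hu : IsUnit (β.toMatrix m).det :=
    (isUnit_det_iff_span M β m).2 ((latImg_eq_pPow_iff_span hτ F s r M β m hm).1 h)
  exact ⟨hu.unit, by rw [IsUnit.unit_spec]⟩

/-- If `F^s M ⊆ p^r M` and the determinant has order exactly `r · dim`, then `F^s M = p^r M`. -/
theorem latImg_eq_of_isOrdP (hτ : WAuto τ) (b : Module.Basis (Fin n) K(p, k) N) (F : N →ₛₗ[τ] N)
    (s : ℕ) (r : ℤ) (M : Submodule (WittVector p k) N) (hM : M.IsLattice K(p, k))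
    (h : latImg F s M ≤ pPow r M) (hD : IsOrdP (detCoeff b (iter F s)) (r * n)) :
    latImg F s M = pPow r M := by
  have := hM
  obtain ⟨β⟩ := exists_lattice_basis b M hM
  obtain ⟨m, hm, hmat⟩ := exists_mat_of_latImg_le F s r M β h
  have hD' := isOrdP_detCoeff_basis (hτ.pow s) b (β.extendOfIsLattice K(p, k)) (iter F s) hD
  rw [detCoeff_of_mat_eq _ F s r _ hmat] at hD'
  have hu := (isOrdP_zpow_mul_algebraMap hD').2 rfl
  exact (latImg_eq_pPow_iff_span hτ F s r M β m hm).2 ((isUnit_det_iff_span M β m).1 hu)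

end LatticeBasis


/-! ### First slope of an isoclinic lattice -/

theorem isOrd_unique (M : Submodule (WittVector p k) N) (F : N →ₛₗ[τ] N) {n : ℕ} {a b : ℤ}
    (ha : IsOrd M F n a) (hb : IsOrd M F n b) : a = b :=
  le_antisymm (le_of_le_pPow_of_not_le M _ ha.1 hb.2) (le_of_le_pPow_of_not_le M _ hb.1 ha.2)

theorem isOrd_of_latImg_eq (M : Submodule (WittVector p k) N) (hM : M.IsLattice K(p, k))
    (hne : M ≠ ⊥) (F : N →ₛₗ[τ] N) {n : ℕ} {a : ℤ} (h : latImg F n M = pPow a M) :
    IsOrd M F n a := by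
  refine ⟨h.le, fun h' => ?_⟩
  rw [h] at h'
  have := le_of_pPow_le_pPow M hM hne h'
  omega

theorem isFirstSlope_of_latImg_eq (hτ : WAuto τ) (F : N →ₛₗ[τ] N) (hF : Function.Bijective F)
    (M : Submodule (WittVector p k) N) (hM : M.IsLattice K(p, k)) (hne : M ≠ ⊥) {r : ℤ} {s : ℕ}
    (hs : 0 < s) (h : latImg F s M = pPow r M) : IsFirstSlope F ((r : ℝ) / s) := by
  choose o ho using exists_isOrd hτ F hF.injective M hM hne
  obtain ⟨lam, ht⟩ := exists_tendsto_of_isOrd hτ F hF.surjective M hM hne o (fun n _ => ho n)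
  have hsub : Filter.Tendsto (fun q : ℕ => q * s) Filter.atTop Filter.atTop :=
    Filter.tendsto_atTop_mono (fun q => Nat.le_mul_of_pos_right q hs) Filter.tendsto_id
  have h1 := ht.comp hsub
  have h2 : Filter.Tendsto (fun _ : ℕ => (r : ℝ) / s) Filter.atTop (nhds ((r : ℝ) / s)) :=
    tendsto_const_nhds
  have h3 : Filter.Tendsto (fun _ : ℕ => (r : ℝ) / s) Filter.atTop (nhds lam) := by
    refine h1.congr' ?_
    filter_upwards [Filter.eventually_ge_atTop 1] with q hq
    have hoq : o (q * s) = q * r :=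
      isOrd_unique M F (ho (q * s)) (isOrd_of_latImg_eq M hM hne F (latImg_mul_eq hτ F M h q))
    have hq' : (q : ℝ) ≠ 0 := by exact_mod_cast (by omega : q ≠ 0)
    have hs' : (s : ℝ) ≠ 0 := by exact_mod_cast hs.ne'
    simp only [Function.comp_apply, hoq]
    push_cast
    field_simp
  have : lam = (r : ℝ) / s := tendsto_nhds_unique h3 h2
  subst this
  exact ⟨M, hM, o, fun n _ => ho n, ht⟩

end Groth.Agent.Lib.Helper24Isoc
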