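import Mathlib
import Groth.Prelude.Def_Isoc
import Groth.Agent.Lib.Helper24IsocDet

set_option autoImplicit false
set_option linter.unusedSectionVars false
set_option linter.unnecessarySimpa false
open scoped Pointwise Isocrystal
universe u v

namespace Groth.Agent.Lib.Helper24Isoc

variable {p : ℕ} [Fact p.Prime] {k : Type u} [Field k] [CharP k p] [PerfectRing k p]
variable {N : Type v} [AddCommGroup N] [Module (WittVector p k) N] [Module K(p, k) N]
  [IsScalarTower (WittVector p k) K(p, k) N]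
variable {τ : K(p, k) →+* K(p, k)}

open Isoc

/-! ### Nilpotence modulo `p` on a stable lattice -/

theorem exists_pivot' {n : ℕ} (g : Fin n → K(p, k)) (hg : ∃ i, g i ≠ 0) :
    ∃ j, g j ≠ 0 ∧ (∀ i, ∃ w : WittVector p k, g i / g j = algebraMap (WittVector p k) K(p, k) w) ∧
      (∀ i, i < j → ∃ w : WittVector p k,
        g i / g j = (p : K(p, k)) * algebraMap (WittVector p k) K(p, k) w) := by
  obtain ⟨i₀, hi₀⟩ := hg
  obtain ⟨j, hj0, V1, V2⟩ := exists_pivot (fun i => g (Fin.rev i)) ⟨Fin.rev i₀, by simpa using hi₀⟩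
  refine ⟨Fin.rev j, hj0, fun i => ?_, fun i hi => ?_⟩
  · simpa using V1 (Fin.rev i)
  · have := V2 (Fin.rev i) (by rw [Fin.lt_def] at hi ⊢; simp only [Fin.val_rev] at hi ⊢; omega)
    simpa using this

theorem latImg_le_self_of_stab (hτ : WAuto τ) (G : N →ₛₗ[τ] N) (M : Submodule (WittVector p k) N)
    (hst : latImg G 1 M ≤ M) (i : ℕ) : latImg G i M ≤ M := by
  have h0 : latImg G 1 M ≤ pPow 0 M := by simpa using hst
  have := latImg_mul_le hτ G M h0 i
  simpa using this

theorem iterate_mem_pPow (G : N →ₛₗ[τ] N) (M : Submodule (WittVector p k) N)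
    (hst : ∀ i, latImg G i M ≤ M) (r : ℤ) (e : ℕ) {y : N} (hy : y ∈ pPow r M) :
    (⇑G)^[e] y ∈ pPow r M := by
  obtain ⟨z, hz, rfl⟩ := (mem_pPow_iff' _ _ _).1 hy
  rw [iterate_smul_zpow]
  exact smul_mem_pPow r M (hst e (iterate_mem_latImg G e M hz))

theorem iterate_finrank_mem_pPow_one (hτ : WAuto τ) (G : N →ₛₗ[τ] N) [Module.Finite K(p, k) N]
    (M : Submodule (WittVector p k) N) (hst : latImg G 1 M ≤ M) (x : N) (hx : x ∈ M)
    (hn : ∃ n : ℕ, (⇑G)^[n] x ∈ pPow 1 M) :
    (⇑G)^[Module.finrank K(p, k) N] x ∈ pPow 1 M := by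
  classical
  set h₀ := Module.finrank K(p, k) N with hh₀
  have hstab := latImg_le_self_of_stab hτ G M hst
  set n := Nat.find hn with hndef
  have hnmem : (⇑G)^[n] x ∈ pPow 1 M := Nat.find_spec hn
  have hge : ∀ e : ℕ, n ≤ e → (⇑G)^[e] x ∈ pPow 1 M := by
    intro e he
    obtain ⟨t, rfl⟩ := Nat.exists_eq_add_of_le he
    rw [add_comm, Function.iterate_add_apply]
    exact iterate_mem_pPow G M hstab 1 t hnmem
  rcases Nat.lt_or_ge h₀ n with hlt | hle
  swap
  · exact hge h₀ hle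
  exfalso
  -- linear dependence
  let v : Fin (h₀ + 1) → N := fun i => (⇑G)^[i.val] x
  have hdep : ¬ LinearIndependent K(p, k) v := by
    intro hli
    have := hli.fintype_card_le_finrank
    simp at this
    omega
  rw [Fintype.not_linearIndependent_iff] at hdep
  obtain ⟨g, hsum, hg⟩ := hdep
  obtain ⟨j, hj0, V1, V2⟩ := exists_pivot' g hg
  have hjn : j.val + 1 ≤ n := by have := j.isLt; omega
  obtain ⟨t, ht⟩ : ∃ t : ℕ, t + j.val + 1 = n := ⟨n - 1 - j.val, by omega⟩
  have hτt := hτ.pow t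
  have hsum' : ∑ i, ((τ ^ t) (g i / g j)) • (⇑G)^[t + i.val] x = 0 := by
    have h1 := congrArg (iter G t) hsum
    rw [map_sum, map_zero] at h1
    have h2 : ∑ i, ((τ ^ t) (g i)) • (⇑G)^[t + i.val] x = 0 := by
      rw [← h1]
      refine Finset.sum_congr rfl (fun i _ => ?_)
      rw [map_smulₛₗ, iter_apply, ← Function.iterate_add_apply]
    have h3 := congrArg (fun y => ((τ ^ t) (g j))⁻¹ • y) h2
    simp only [Finset.smul_sum, smul_zero, smul_smul] at h3
    rw [← h3]
    refine Finset.sum_congr rfl (fun i _ => ?_)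
    rw [map_div₀, div_eq_inv_mul]
  have hdj : (τ ^ t) (g j / g j) = 1 := by rw [div_self hj0, map_one]
  rw [← Finset.add_sum_erase _ _ (Finset.mem_univ j), hdj, one_smul] at hsum'
  have hFm : (⇑G)^[t + j.val] x =
      -∑ i ∈ Finset.univ.erase j, ((τ ^ t) (g i / g j)) • (⇑G)^[t + i.val] x :=
    eq_neg_of_add_eq_zero_left hsum'
  have hmem : (⇑G)^[t + j.val] x ∈ pPow 1 M := by
    rw [hFm]
    refine Submodule.neg_mem _ (Submodule.sum_mem _ (fun i hi => ?_))
    have hij : i ≠ j := Finset.ne_of_mem_erase hi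
    rcases lt_or_gt_of_ne hij with hlt' | hgt
    · obtain ⟨w, hw⟩ := V2 i hlt'
      obtain ⟨w', hw'⟩ := hτt.map_W w
      rw [hw, map_mul, map_natCast, hw', mul_comm, mul_smul, algebraMap_smul]
      refine Submodule.smul_mem _ _ ?_
      have hz : (⇑G)^[t + i.val] x ∈ M := hstab _ (iterate_mem_latImg G _ M hx)
      have := smul_mem_pPow 1 M hz
      rwa [zpow_one] at this
    · obtain ⟨w, hw⟩ := V1 i
      obtain ⟨w', hw'⟩ := hτt.map_W w
      rw [hw, hw', algebraMap_smul]
      refine Submodule.smul_mem _ _ (hge _ ?_)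
      have : j.val < i.val := hgt
      omega
  exact Nat.find_min hn (show t + j.val < n by omega) hmem


/-! ### Rationality of the first slope -/

theorem bijective_zpow_smul_iter (F : N →ₛₗ[τ] N) (hF : Function.Bijective F) (m : ℤ) (n : ℕ) :
    Function.Bijective (⇑(((p : K(p, k)) ^ m) • iter F n)) := by
  have hinj : Function.Injective (fun x : N => ((p : K(p, k)) ^ m) • x) :=
    smul_right_injective N (zpow_ne_zero' m)
  have hsurj : Function.Surjective (fun x : N => ((p : K(p, k)) ^ m) • x) := by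
    intro y
    refine ⟨((p : K(p, k)) ^ m)⁻¹ • y, ?_⟩
    show ((p : K(p, k)) ^ m) • (((p : K(p, k)) ^ m)⁻¹ • y) = y
    rw [smul_smul, mul_inv_cancel₀ (zpow_ne_zero' m), one_smul]
  have : ⇑(((p : K(p, k)) ^ m) • iter F n) = (fun x : N => ((p : K(p, k)) ^ m) • x) ∘ (⇑F)^[n] := by
    ext x; rfl
  rw [this]
  exact ⟨hinj.comp (hF.injective.iterate n), hsurj.comp (hF.surjective.iterate n)⟩

/-- Effectivity from first slope `≥ -1/(h+1)`. -/
theorem isEffective_of_firstSlope_ge (hτ : WAuto τ) (G : N →ₛₗ[τ] N) [Module.Finite K(p, k) N]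
    {lam : ℝ} (hlam : IsFirstSlope G lam)
    (h0 : -(1 : ℝ) / ((Module.finrank K(p, k) N : ℝ) + 1) ≤ lam) : IsEffective G := by
  set h := Module.finrank K(p, k) N with hh
  have h1 := isFirstSlope_zpow_smul_iter hτ G hlam 1 (h + 1)
  have hpos : (0 : ℝ) < (h : ℝ) + 1 := by positivity
  have h2 : (0 : ℝ) ≤ ((h + 1 : ℕ) : ℝ) * lam + ((1 : ℤ) : ℝ) := by
    rw [div_le_iff₀ hpos] at h0
    push_cast
    nlinarith
  obtain ⟨M₁, hM₁, hst₁⟩ := isEffective_of_firstSlope_nonneg (hτ.pow (h + 1)) _ h1 h2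
  rw [latImg_zpow_smul_iter hτ, pPow_le_iff] at hst₁
  have hst₂ : latImg G (h + 1) M₁ ≤ pPow (-1) M₁ := by simpa using hst₁
  exact isEffective_of_latImg_le hτ G M₁ hM₁ (h + 1) (by omega) hst₂

theorem firstSlope_eq_zero_or_ge (hτ : WAuto τ) (G : N →ₛₗ[τ] N) (hG : Function.Bijective G)
    [Module.Finite K(p, k) N] (M : Submodule (WittVector p k) N) (hM : M.IsLattice K(p, k))
    (hne : M ≠ ⊥) (hst : latImg G 1 M ≤ M) {lam : ℝ} (hlam : IsFirstSlope G lam) :
    (lam = 0 ∧ IsOrd M G 1 0) ∨ (1 : ℝ) / (Module.finrank K(p, k) N : ℝ) ≤ lam := by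
  set h := Module.finrank K(p, k) N with hh
  have hstab := latImg_le_self_of_stab hτ G M hst
  by_cases hcase : ∃ x ∈ M, ∀ n : ℕ, (⇑G)^[n] x ∉ pPow 1 M
  · left
    obtain ⟨x, hx, hxn⟩ := hcase
    have hord : ∀ n : ℕ, IsOrd M G n 0 := by
      intro n
      refine ⟨by simpa using hstab n, fun hle => ?_⟩
      exact hxn n (by simpa using hle (iterate_mem_latImg G n M hx))
    have h0 : IsFirstSlope G 0 := ⟨M, hM, fun _ => 0, fun n _ => hord n, by simp⟩
    exact ⟨isFirstSlope_unique hτ G hlam h0, hord 1⟩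
  · right
    push Not at hcase
    have hhM : latImg G h M ≤ pPow 1 M := by
      intro y hy
      obtain ⟨x, hx, rfl⟩ := (mem_latImg hτ G h M y).1 hy
      exact iterate_finrank_mem_pPow_one hτ G M hst x hx (hcase x hx)
    have hhpos : 0 < h := by
      rcases Nat.eq_zero_or_pos h with h0 | h0
      · exfalso
        rw [h0, latImg_zero] at hhM
        have h1 : pPow 0 M ≤ pPow 1 M := by simpa using hhM
        have := le_of_pPow_le_pPow M hM hne h1
        omega
      · exact h0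
    choose o ho using exists_isOrd hτ G hG.injective M hM hne
    obtain ⟨lam', ht⟩ := exists_tendsto_of_isOrd hτ G hG.surjective M hM hne o (fun n _ => ho n)
    have hlam' : IsFirstSlope G lam' := ⟨M, hM, o, fun n _ => ho n, ht⟩
    have e := isFirstSlope_unique hτ G hlam hlam'
    rw [e]
    have hsub : Filter.Tendsto (fun q : ℕ => q * h) Filter.atTop Filter.atTop :=
      Filter.tendsto_atTop_mono (fun q => Nat.le_mul_of_pos_right q hhpos) Filter.tendsto_id
    have h1 := ht.comp hsub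
    refine ge_of_tendsto h1 ?_
    filter_upwards [Filter.eventually_ge_atTop 1] with q hq
    have hoq : (q : ℤ) ≤ o (q * h) := by
      have := latImg_mul_le hτ G M hhM q
      rw [mul_one] at this
      exact le_of_le_pPow_of_not_le M _ this (ho (q * h)).2
    have hq' : (0 : ℝ) < q := by exact_mod_cast hq
    have hh' : (0 : ℝ) < h := by exact_mod_cast hhpos
    have hoq' : (q : ℝ) ≤ (o (q * h) : ℝ) := by exact_mod_cast hoq
    simp only [Function.comp_apply]
    rw [div_le_div_iff₀ hh' (by push_cast; positivity)]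
    push_cast
    nlinarith

theorem exists_firstSlope_eq_div (hτ : WAuto τ) (F : N →ₛₗ[τ] N) (hF : Function.Bijective F)
    [Module.Finite K(p, k) N] {lam : ℝ} (hlam : IsFirstSlope F lam) :
    ∃ (r : ℤ) (s : ℕ) (M : Submodule (WittVector p k) N), 0 < s ∧ s ≤ Module.finrank K(p, k) N ∧
      lam = (r : ℝ) / s ∧ M.IsLattice K(p, k) ∧ IsOrd M F s r := by
  set h := Module.finrank K(p, k) N with hh
  -- `N` is nontrivial
  obtain ⟨M₀, hM₀, o₀, ho₀, -⟩ := id hlam
  have hne₀ : M₀ ≠ ⊥ := ne_bot_of_isOrd F (ho₀ 1 le_rfl)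
  obtain ⟨x₀, -, hx₀⟩ := (Submodule.ne_bot_iff M₀).1 hne₀
  have hnt : Nontrivial N := ⟨⟨x₀, 0, hx₀⟩⟩
  have hhpos : 0 < h := Module.finrank_pos
  obtain ⟨q, hq, hqden⟩ := Real.exists_rat_abs_sub_le_and_den_le lam hhpos
  set s := q.den with hs
  set r := q.num with hr
  have hspos : 0 < s := q.den_pos
  have hs' : (0 : ℝ) < s := by exact_mod_cast hspos
  have hqcast : (q : ℝ) = (r : ℝ) / s := Rat.cast_def q
  have hh1 : (0 : ℝ) < (h : ℝ) + 1 := by positivity
  -- the twisted iterate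
  set G : N →ₛₗ[τ ^ s] N := ((p : K(p, k)) ^ (-r)) • iter F s with hG
  have hτG := hτ.pow s
  have hGslope := isFirstSlope_zpow_smul_iter hτ F hlam (-r) s
  set lam' : ℝ := (s : ℝ) * lam + ((-r : ℤ) : ℝ) with hlam'
  have habs : |lam'| ≤ 1 / ((h : ℝ) + 1) := by
    have e1 : lam' = (s : ℝ) * (lam - q) := by
      rw [hlam', hqcast]; push_cast; field_simp; ring
    rw [e1, abs_mul, abs_of_pos hs']
    calc (s : ℝ) * |lam - q| ≤ (s : ℝ) * (1 / (((h : ℝ) + 1) * s)) :=
          mul_le_mul_of_nonneg_left hq hs'.le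
      _ = 1 / ((h : ℝ) + 1) := by field_simp
  have hGbij := bijective_zpow_smul_iter F hF (-r) s
  have hlow : -(1 : ℝ) / ((h : ℝ) + 1) ≤ lam' := by
    have := (abs_le.1 habs).1
    rw [neg_div]; exact this
  obtain ⟨M, hM, hst⟩ := isEffective_of_firstSlope_ge hτG G hGslope hlow
  have hne : M ≠ ⊥ := ne_bot_of_isLattice M hM
  rcases firstSlope_eq_zero_or_ge hτG G hGbij M hM hne hst hGslope with ⟨h0, hord⟩ | hge
  · refine ⟨r, s, M, hspos, hqden, ?_, hM, ?_⟩
    · rw [hlam'] at h0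
      push_cast at h0
      rw [eq_div_iff hs'.ne']
      linarith
    · rw [hG, isOrd_zpow_smul_iter hτ] at hord
      simpa using hord
  · exfalso
    have h1 : (1 : ℝ) / (h : ℝ) ≤ 1 / ((h : ℝ) + 1) := hge.trans ((le_abs_self _).trans habs)
    have hh' : (0 : ℝ) < h := by exact_mod_cast hhpos
    rw [div_le_div_iff₀ hh' hh1] at h1
    linarith

end Groth.Agent.Lib.Helper24Isoc
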