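import Mathlib
import Groth.Prelude.Def_Isoc
import Groth.Agent.Lib.Helper24IsocSlope

set_option autoImplicit false
set_option linter.unusedSectionVars false
set_option linter.unnecessarySimpa false
open scoped Pointwise Isocrystal
universe u v

namespace Groth.Agent.Lib.Helper24Isoc

variable {p : ℕ} [Fact p.Prime] {k : Type u} [Field k] [CharP k p] [PerfectRing k p]
variable {N : Type v} [AddCommGroup N] [Module (WittVector p k) N] [Module K(p, k) N]
  [IsScalarTower (WittVector p k) K(p, k) N]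
variable {τ : K(p, k) →+* K(p, k)}

open Isoc

/-! ### Finitely generated `W`-submodules (not necessarily spanning) -/

theorem exists_pow_smul_mem_of_mem_span (L : Submodule (WittVector p k) N) (x : N)
    (hx : x ∈ Submodule.span K(p, k) (L : Set N)) : ∃ n : ℕ, ((p : K(p, k)) ^ n) • x ∈ L := by
  induction hx using Submodule.span_induction with
  | mem x hx => exact ⟨0, by simpa using hx⟩
  | zero => exact ⟨0, by simp⟩
  | add x y _ _ hx hy =>
    obtain ⟨n, hn⟩ := hx
    obtain ⟨m, hm⟩ := hy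
    refine ⟨n + m, ?_⟩
    rw [smul_add]
    refine L.add_mem ?_ ?_
    · rw [pow_add, mul_comm, mul_smul, natCast_smul_eq m]
      exact L.smul_mem _ hn
    · rw [pow_add, mul_smul, natCast_smul_eq n]
      exact L.smul_mem _ hm
  | smul c x _ hx =>
    obtain ⟨n, hn⟩ := hx
    obtain ⟨m, w, hw⟩ := exists_pow_mul_eq_algebraMap (p := p) (k := k) c
    refine ⟨n + m, ?_⟩
    rw [smul_smul, pow_add, mul_assoc, hw, mul_comm, mul_smul, algebraMap_smul]
    exact L.smul_mem _ hn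

theorem exists_le_pPow_neg_of_le_span (L : Submodule (WittVector p k) N)
    (Q : Submodule (WittVector p k) N) (hQ : Q.FG)
    (hle : ∀ x ∈ Q, x ∈ Submodule.span K(p, k) (L : Set N)) :
    ∃ c : ℕ, Q ≤ pPow (-(c : ℤ)) L := by
  induction Q, hQ using Submodule.fg_induction with
  | singleton x =>
    obtain ⟨n, hn⟩ := exists_pow_smul_mem_of_mem_span L x (hle x (Submodule.mem_span_singleton_self x))
    refine ⟨n, ?_⟩
    rw [Submodule.span_singleton_le_iff_mem, mem_pPow_iff]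
    simpa using hn
  | sup M₁ M₂ _ _ h₁ h₂ =>
    obtain ⟨c₁, h₁⟩ := h₁ (fun x hx => hle x (Submodule.mem_sup_left hx))
    obtain ⟨c₂, h₂⟩ := h₂ (fun x hx => hle x (Submodule.mem_sup_right hx))
    refine ⟨max c₁ c₂, sup_le (h₁.trans (pPow_anti ?_ L)) (h₂.trans (pPow_anti ?_ L))⟩
    · simp
    · simp

theorem eq_zero_of_forall_mem_pPow_fg (L : Submodule (WittVector p k) N) (hL : L.FG)
    (x : N) (h : ∀ r : ℕ, x ∈ pPow (r : ℤ) L) : x = 0 := by
  have : Module.Finite (WittVector p k) L := Module.Finite.iff_fg.2 hL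
  have hx : x ∈ L := by simpa using h 0
  have hI : Ideal.span {(p : WittVector p k)} ≠ ⊤ := by
    rw [Ne, Ideal.span_singleton_eq_top]
    exact (WittVector.irreducible p).not_isUnit
  have key := Ideal.iInf_pow_smul_eq_bot_of_isLocalRing (Ideal.span {(p : WittVector p k)}) (M := ↥L) hI
  have hmem : (⟨x, hx⟩ : ↥L) ∈ (⨅ i : ℕ, Ideal.span {(p : WittVector p k)} ^ i • (⊤ : Submodule (WittVector p k) ↥L)) := by
    rw [Submodule.mem_iInf]
    intro i
    obtain ⟨y, hy, hxy⟩ := (mem_pPow_iff' _ _ _).1 (h i)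
    have : (⟨x, hx⟩ : ↥L) = ((p : WittVector p k) ^ i) • (⟨y, hy⟩ : ↥L) := by
      apply Subtype.ext
      rw [Submodule.coe_smul, ← natCast_smul_eq, ← zpow_natCast]
      exact hxy
    rw [this]
    exact Submodule.smul_mem_smul (Ideal.pow_mem_pow (Ideal.mem_span_singleton_self _) i) Submodule.mem_top
  rw [key, Submodule.mem_bot] at hmem
  exact congrArg Subtype.val hmem

theorem le_of_pPow_le_pPow_fg (L : Submodule (WittVector p k) N) (hL : L.FG)
    (hne : L ≠ ⊥) {a b : ℤ} (h : pPow a L ≤ pPow b L) : b ≤ a := by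
  by_contra hlt
  push Not at hlt
  have h1 : L ≤ pPow 1 L := by
    have h2 : pPow a L ≤ pPow (a + 1) L := h.trans (pPow_anti (by omega) L)
    have h4 := pPow_mono (-a) h2
    rw [pPow_pPow, pPow_pPow] at h4
    simpa using h4
  have h3 : ∀ n : ℕ, L ≤ pPow (n : ℤ) L := by
    intro n
    induction n with
    | zero => simp
    | succ n ih =>
      calc L ≤ pPow 1 L := h1
        _ ≤ pPow 1 (pPow (n : ℤ) L) := pPow_mono 1 ih
        _ = pPow ((n + 1 : ℕ) : ℤ) L := by rw [pPow_pPow]; congr 1; push_cast; ring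
  apply hne
  rw [eq_bot_iff]
  intro x hx
  rw [Submodule.mem_bot]
  exact eq_zero_of_forall_mem_pPow_fg L hL x (fun r => h3 r hx)

theorem pPow_mul_le_latImg (hτ : WAuto τ) (F : N →ₛₗ[τ] N) (L : Submodule (WittVector p k) N)
    {s : ℕ} {B : ℤ} (h : pPow B L ≤ latImg F s L) (n : ℕ) :
    pPow (n * B) L ≤ latImg F (n * s) L := by
  induction n with
  | zero => simp
  | succ n ih =>
    calc pPow (((n + 1 : ℕ) : ℤ) * B) L = pPow B (pPow (n * B) L) := by
          rw [pPow_pPow]; congr 1; push_cast; ring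
      _ ≤ pPow B (latImg F (n * s) L) := pPow_mono B ih
      _ = latImg F (n * s) (pPow B L) := (latImg_pPow hτ F _ B L).symm
      _ ≤ latImg F (n * s) (latImg F s L) := latImg_mono F _ h
      _ = latImg F ((n + 1) * s) L := by rw [← latImg_add hτ]; congr 1; ring


/-! ### High/low disjointness -/

theorem inf_eq_bot_of_high_low (hτ : WAuto τ) (F : N →ₛₗ[τ] N) [Module.Finite K(p, k) N]
    (hF : Function.Injective F) (P₁ P₂ : Submodule K(p, k) N)
    (hP₁ : ∀ x ∈ P₁, F x ∈ P₁) (hP₂ : ∀ x ∈ P₂, F x ∈ P₂)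
    (L₁ L₂ : Submodule (WittVector p k) N) (hL₁ : L₁.FG) (hL₂ : L₂.FG)
    (hs₁ : Submodule.span K(p, k) (L₁ : Set N) = P₁) (hs₂ : Submodule.span K(p, k) (L₂ : Set N) = P₂)
    {s : ℕ} {A B : ℤ} (hAB : B < A)
    (h₁ : latImg F s L₁ ≤ pPow A L₁) (h₂ : pPow B L₂ ≤ latImg F s L₂) : P₁ ⊓ P₂ = ⊥ := by
  set Q : Submodule K(p, k) N := P₁ ⊓ P₂ with hQdef
  have hQ : ∀ x ∈ Q, F x ∈ Q := fun x hx => ⟨hP₁ x hx.1, hP₂ x hx.2⟩
  have hQit : ∀ (n : ℕ) (x : N), x ∈ Q → (⇑F)^[n] x ∈ Q := by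
    intro n
    induction n with
    | zero => intro x hx; exact hx
    | succ n ih => intro x hx; rw [Function.iterate_succ_apply']; exact hQ _ (ih x hx)
  set QW : Submodule (WittVector p k) N := Q.restrictScalars (WittVector p k) with hQW
  set L₁' := L₁ ⊓ QW with hL₁'
  set L₂' := L₂ ⊓ QW with hL₂'
  have hfg₁ : L₁'.FG := by
    have hN : IsNoetherian (WittVector p k) L₁ := isNoetherian_of_fg_of_noetherian L₁ hL₁
    exact (isNoetherian_submodule.1 hN) _ inf_le_left
  have hfg₂ : L₂'.FG := by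
    have hN : IsNoetherian (WittVector p k) L₂ := isNoetherian_of_fg_of_noetherian L₂ hL₂
    exact (isNoetherian_submodule.1 hN) _ inf_le_left
  -- (a)
  have ha : latImg F s L₁' ≤ pPow A L₁' := by
    intro y hy
    obtain ⟨x, hx, rfl⟩ := (mem_latImg hτ F s _ y).1 hy
    rw [mem_pPow_iff]
    refine Submodule.mem_inf.2 ⟨?_, ?_⟩
    · rw [← mem_pPow_iff]; exact h₁ (iterate_mem_latImg F s L₁ hx.1)
    · exact Q.smul_mem _ (hQit s x hx.2)
  -- (b)
  have hinjQ : Function.Injective (F.restrict hQ) := by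
    intro x y h
    apply Subtype.ext
    apply hF
    have := congrArg Subtype.val h
    simpa using this
  have hsurjQ : Function.Surjective (F.restrict hQ) := surjective_of_injective hτ.bij _ hinjQ
  have hb : pPow B L₂' ≤ latImg F s L₂' := by
    intro z hz
    obtain ⟨y, hy, rfl⟩ := (mem_pPow_iff' _ _ _).1 hz
    obtain ⟨x, hx, hxy⟩ := (mem_latImg hτ F s L₂ _).1 (h₂ (smul_mem_pPow B L₂ hy.1))
    have hzQ : ((p : K(p, k)) ^ B) • y ∈ Q := Q.smul_mem _ hy.2
    obtain ⟨x', hx'⟩ := (hsurjQ.iterate s) ⟨_, hzQ⟩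
    have h1 : (⇑F)^[s] (x' : N) = ((p : K(p, k)) ^ B) • y := by
      rw [← restrict_iterate F Q hQ, hx']
    have h2 : x = (x' : N) := (hF.iterate s) (hxy.trans h1.symm)
    rw [mem_latImg hτ]
    exact ⟨x, ⟨hx, by rw [h2]; exact x'.2⟩, hxy⟩
  -- (c)
  have hspan : ∀ (L : Submodule (WittVector p k) N) (P : Submodule K(p, k) N),
      Submodule.span K(p, k) (L : Set N) = P → Q ≤ P → ∀ x ∈ Q,
        x ∈ Submodule.span K(p, k) ((L ⊓ QW : Submodule (WittVector p k) N) : Set N) := by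
    intro L P hLP hQP x hx
    obtain ⟨n, hn⟩ := exists_pow_smul_mem_of_mem_span L x (by rw [hLP]; exact hQP hx)
    have h1 : ((p : K(p, k)) ^ n) • x ∈ L ⊓ QW := ⟨hn, Q.smul_mem _ hx⟩
    have h2 : x = ((p : K(p, k)) ^ n)⁻¹ • (((p : K(p, k)) ^ n) • x) := by
      rw [smul_smul, inv_mul_cancel₀ (pow_ne_zero n pK_ne_zero), one_smul]
    rw [h2]
    exact Submodule.smul_mem _ _ (Submodule.subset_span h1)
  have hspan₁ := hspan L₁ P₁ hs₁ inf_le_left
  have hspan₂ := hspan L₂ P₂ hs₂ inf_le_right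
  obtain ⟨c₁, hc₁⟩ := exists_le_pPow_neg_of_le_span L₁' L₂' hfg₂ (fun x hx => hspan₁ x hx.2)
  obtain ⟨c₂, hc₂⟩ := exists_le_pPow_neg_of_le_span L₂' L₁' hfg₁ (fun x hx => hspan₂ x hx.2)
  -- (d)
  have hbot : L₂' = ⊥ := by
    by_contra hne
    set n := c₁ + c₂ + 1 with hn
    have hchain : pPow (n * B) L₂' ≤ pPow (n * A - c₁ - c₂) L₂' := by
      calc pPow (n * B) L₂' ≤ latImg F (n * s) L₂' := pPow_mul_le_latImg hτ F L₂' hb n
        _ ≤ latImg F (n * s) (pPow (-(c₁ : ℤ)) L₁') := latImg_mono F _ hc₁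
        _ = pPow (-(c₁ : ℤ)) (latImg F (n * s) L₁') := latImg_pPow hτ F _ _ _
        _ ≤ pPow (-(c₁ : ℤ)) (pPow (n * A) L₁') := pPow_mono _ (latImg_mul_le hτ F L₁' ha n)
        _ ≤ pPow (-(c₁ : ℤ)) (pPow (n * A) (pPow (-(c₂ : ℤ)) L₂')) :=
            pPow_mono _ (pPow_mono _ hc₂)
        _ = pPow (n * A - c₁ - c₂) L₂' := by rw [pPow_pPow, pPow_pPow]; congr 1; ring
    have h3 := le_of_pPow_le_pPow_fg L₂' hfg₂ hne hchain
    have h4 : (n : ℤ) * (A - B) ≤ c₁ + c₂ := by linarith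
    have h5 : (n : ℤ) ≤ n * (A - B) := by
      have : (1 : ℤ) ≤ A - B := by omega
      nlinarith [Int.natCast_nonneg n]
    have h6 : (n : ℤ) = c₁ + c₂ + 1 := by rw [hn]; push_cast; ring
    omega
  -- (e)
  rw [eq_bot_iff]
  intro x hx
  have := hspan₂ x hx
  rw [← hL₂', hbot] at this
  simpa using this


/-! ### Independence of the slope parts -/

/-- "All slopes of `P` are `< a`" in lattice form. -/
def LowBelow (F : N →ₛₗ[τ] N) (P : Submodule K(p, k) N) (a : ℚ) : Prop :=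
  ∃ L : Submodule (WittVector p k) N, L.FG ∧ Submodule.span K(p, k) (L : Set N) = P ∧
    ∃ (s : ℕ) (B : ℤ), 0 < s ∧ (B : ℚ) / s < a ∧ pPow B L ≤ latImg F s L

theorem lowBelow_bot (F : N →ₛₗ[τ] N) (a : ℚ) : LowBelow F ⊥ a := by
  refine ⟨⊥, Submodule.fg_bot, by simp, 1, ⌊a⌋ - 1, one_pos, ?_, ?_⟩
  · have := Int.floor_le a
    push_cast
    linarith
  · rw [pPow_bot]; exact bot_le

theorem lowBelow_of_isoOn (F : N →ₛₗ[τ] N) {P : Submodule K(p, k) N} {ν a : ℚ}
    (h : IsoOn F P ν) (hν : ν < a) : LowBelow F P a := by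
  obtain ⟨L, hL, hspan, r, s, hs, hrs, hFL⟩ := h
  exact ⟨L, hL, hspan, s, r, hs, by rw [hrs]; exact hν, hFL.ge⟩

theorem lowBelow_sup (hτ : WAuto τ) (F : N →ₛₗ[τ] N) {P₁ P₂ : Submodule K(p, k) N} {a : ℚ}
    (h₁ : LowBelow F P₁ a) (h₂ : LowBelow F P₂ a) : LowBelow F (P₁ ⊔ P₂) a := by
  obtain ⟨L₁, hL₁, hspan₁, s₁, B₁, hs₁, hB₁, hFL₁⟩ := h₁
  obtain ⟨L₂, hL₂, hspan₂, s₂, B₂, hs₂, hB₂, hFL₂⟩ := h₂
  have hs₁' : (0 : ℚ) < s₁ := by exact_mod_cast hs₁
  have hs₂' : (0 : ℚ) < s₂ := by exact_mod_cast hs₂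
  refine ⟨L₁ ⊔ L₂, hL₁.sup hL₂, by rw [span_sup_coe, hspan₁, hspan₂], s₁ * s₂,
    max ((s₂ : ℤ) * B₁) ((s₁ : ℤ) * B₂), Nat.mul_pos hs₁ hs₂, ?_, ?_⟩
  · rcases max_cases ((s₂ : ℤ) * B₁) ((s₁ : ℤ) * B₂) with ⟨h, -⟩ | ⟨h, -⟩
    · rw [h]
      have : (((s₂ : ℤ) * B₁ : ℤ) : ℚ) / ((s₁ * s₂ : ℕ) : ℚ) = (B₁ : ℚ) / s₁ := by
        push_cast; field_simp
      rw [this]; exact hB₁
    · rw [h]
      have : (((s₁ : ℤ) * B₂ : ℤ) : ℚ) / ((s₁ * s₂ : ℕ) : ℚ) = (B₂ : ℚ) / s₂ := by
        push_cast; field_simp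
      rw [this]; exact hB₂
  · rw [pPow_sup]
    apply sup_le
    · calc pPow (max ((s₂ : ℤ) * B₁) ((s₁ : ℤ) * B₂)) L₁ ≤ pPow ((s₂ : ℤ) * B₁) L₁ :=
            pPow_anti (le_max_left _ _) L₁
        _ ≤ latImg F (s₂ * s₁) L₁ := pPow_mul_le_latImg hτ F L₁ hFL₁ s₂
        _ = latImg F (s₁ * s₂) L₁ := by rw [mul_comm]
        _ ≤ latImg F (s₁ * s₂) (L₁ ⊔ L₂) := latImg_mono F _ le_sup_left
    · calc pPow (max ((s₂ : ℤ) * B₁) ((s₁ : ℤ) * B₂)) L₂ ≤ pPow ((s₁ : ℤ) * B₂) L₂ :=
            pPow_anti (le_max_right _ _) L₂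
        _ ≤ latImg F (s₁ * s₂) L₂ := pPow_mul_le_latImg hτ F L₂ hFL₂ s₁
        _ ≤ latImg F (s₁ * s₂) (L₁ ⊔ L₂) := latImg_mono F _ le_sup_right

theorem stable_finset_sup (F : N →ₛₗ[τ] N) {ι : Type*} (t : Finset ι)
    (f : ι → Submodule K(p, k) N) (hf : ∀ i ∈ t, ∀ x ∈ f i, F x ∈ f i) :
    ∀ x ∈ t.sup f, F x ∈ t.sup f := by
  classical
  induction t using Finset.induction with
  | empty =>
    intro x hx
    rw [Finset.sup_empty, Submodule.mem_bot] at hx
    rw [hx, map_zero]; exact Submodule.zero_mem _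
  | insert i t _ ih =>
    intro x hx
    rw [Finset.sup_insert] at hx ⊢
    obtain ⟨a, ha, b, hb, rfl⟩ := Submodule.mem_sup.1 hx
    rw [map_add]
    exact Submodule.add_mem_sup (hf i (by simp) a ha)
      (ih (fun j hj => hf j (by simp [hj])) b hb)

theorem slopePart_supIndep (hτ : WAuto τ) (F : N →ₛₗ[τ] N) [Module.Finite K(p, k) N]
    (hF : Function.Injective F) (t : Finset ℚ) : t.SupIndep (slopePart F) := by
  classical
  induction t using Finset.induction_on_max with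
  | empty => exact Finset.supIndep_empty _
  | insert a t hlt ih =>
    refine Finset.SupIndep.insert ih ?_
    rw [disjoint_iff]
    obtain ⟨hst₁, L₁, hL₁, hspan₁, r, s₁, hs₁, hrs, hFL₁⟩ := slopePart_stable_isoOn hτ F a
    have hst₂ : ∀ x ∈ t.sup (slopePart F), F x ∈ t.sup (slopePart F) :=
      stable_finset_sup F t _ (fun ν _ => (slopePart_stable_isoOn hτ F ν).1)
    have hlow : LowBelow F (t.sup (slopePart F)) a := by
      clear ih
      induction t using Finset.induction with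
      | empty => rw [Finset.sup_empty]; exact lowBelow_bot F a
      | insert ν t _ ih' =>
        rw [Finset.sup_insert]
        refine lowBelow_sup hτ F (lowBelow_of_isoOn F (slopePart_stable_isoOn hτ F ν).2
          (hlt ν (by simp))) (ih' (fun x hx => hlt x (by simp [hx])) ?_)
        exact stable_finset_sup F t _ (fun ν _ => (slopePart_stable_isoOn hτ F ν).1)
    obtain ⟨L₂, hL₂, hspan₂, s₂, B, hs₂, hB, hFL₂⟩ := hlow
    have h₁ : latImg F (s₁ * s₂) L₁ ≤ pPow ((s₂ : ℤ) * r) L₁ := by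
      have := latImg_mul_le hτ F L₁ hFL₁.le s₂
      rwa [mul_comm s₂ s₁] at this
    have h₂ : pPow ((s₁ : ℤ) * B) L₂ ≤ latImg F (s₁ * s₂) L₂ := pPow_mul_le_latImg hτ F L₂ hFL₂ s₁
    have hAB : (s₁ : ℤ) * B < (s₂ : ℤ) * r := by
      have hs₁' : (0 : ℚ) < s₁ := by exact_mod_cast hs₁
      have hs₂' : (0 : ℚ) < s₂ := by exact_mod_cast hs₂
      rw [← hrs, div_lt_div_iff₀ hs₂' hs₁'] at hB
      have : (((s₁ : ℤ) * B : ℤ) : ℚ) < (((s₂ : ℤ) * r : ℤ) : ℚ) := by push_cast; linarith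
      exact_mod_cast this
    exact inf_eq_bot_of_high_low hτ F hF _ _ hst₁ hst₂ L₁ L₂ hL₁ hL₂ hspan₁ hspan₂ hAB h₁ h₂

theorem slopePart_iSupIndep (hτ : WAuto τ) (F : N →ₛₗ[τ] N) [Module.Finite K(p, k) N]
    (hF : Function.Injective F) : iSupIndep (slopePart F) :=
  iSupIndep_iff_supIndep.2 (slopePart_supIndep hτ F hF)


/-! ### `p`-adic completeness of lattices -/

theorem W_complete (c : ℕ → WittVector p k)
    (hc : ∀ n : ℕ, ∃ w : WittVector p k, c (n + 1) - c n = (p : WittVector p k) ^ n * w) :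
    ∃ L : WittVector p k, ∀ n : ℕ, ∃ w : WittVector p k, L - c n = (p : WittVector p k) ^ n * w := by
  have hI : ∀ (m : ℕ) (x : WittVector p k),
      x ∈ (Ideal.span {(p : WittVector p k)} ^ m • (⊤ : Submodule (WittVector p k) (WittVector p k))) ↔
        ∃ w, x = (p : WittVector p k) ^ m * w := by
    intro m x
    rw [smul_eq_mul, Ideal.mul_top, Ideal.span_singleton_pow, Ideal.mem_span_singleton']
    constructor
    · rintro ⟨w, rfl⟩; exact ⟨w, mul_comm _ _⟩
    · rintro ⟨w, rfl⟩; exact ⟨w, mul_comm _ _⟩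
  have htel : ∀ (m t : ℕ), ∃ w : WittVector p k, c (m + t) - c m = (p : WittVector p k) ^ m * w := by
    intro m t
    induction t with
    | zero => exact ⟨0, by simp⟩
    | succ t ih =>
      obtain ⟨w, hw⟩ := ih
      obtain ⟨w', hw'⟩ := hc (m + t)
      refine ⟨w + (p : WittVector p k) ^ t * w', ?_⟩
      have : c (m + (t + 1)) - c m = (c (m + t + 1) - c (m + t)) + (c (m + t) - c m) := by
        rw [← add_assoc]; ring
      rw [this, hw, hw', pow_add]; ring
  have hprec := (WittVector.isAdicCompleteIdealSpanP (p := p) (k := k)).toIsPrecomplete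
  obtain ⟨L, hL⟩ := hprec.prec' c (by
    intro m n hmn
    obtain ⟨t, rfl⟩ := Nat.exists_eq_add_of_le hmn
    apply SModEq.symm
    rw [SModEq.sub_mem, hI]
    exact htel m t)
  refine ⟨L, fun n => ?_⟩
  have := (hL n).symm
  rw [SModEq.sub_mem, hI] at this
  exact this

theorem lattice_complete (M : Submodule (WittVector p k) N) (hM : M.IsLattice K(p, k))
    (f : ℕ → N) (hf : ∀ n, f n ∈ M) (hc : ∀ n : ℕ, f (n + 1) - f n ∈ pPow (n : ℤ) M) :
    ∃ L ∈ M, ∀ n : ℕ, L - f n ∈ pPow (n : ℤ) M := by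
  classical
  have := hM
  let β := Module.Free.chooseBasis (WittVector p k) M
  let g : ℕ → M := fun n => ⟨f n, hf n⟩
  have hg : ∀ n : ℕ, ∃ y : M, g (n + 1) - g n = ((p : WittVector p k) ^ n) • y := by
    intro n
    obtain ⟨y, hy, hxy⟩ := (mem_pPow_iff' _ _ _).1 (hc n)
    refine ⟨⟨y, hy⟩, Subtype.ext ?_⟩
    rw [Submodule.coe_smul, ← natCast_smul_eq, ← zpow_natCast]
    exact hxy
  have hcoord : ∀ i, ∃ L : WittVector p k, ∀ n : ℕ, ∃ w : WittVector p k,
      L - β.repr (g n) i = (p : WittVector p k) ^ n * w := by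
    intro i
    apply W_complete
    intro n
    obtain ⟨y, hy⟩ := hg n
    refine ⟨β.repr y i, ?_⟩
    rw [← Finsupp.sub_apply, ← map_sub, hy, map_smul, Finsupp.smul_apply, smul_eq_mul]
  choose Lc hLc using hcoord
  choose w hw using hLc
  refine ⟨((∑ i, Lc i • β i : M) : N), (∑ i, Lc i • β i : M).2, fun n => ?_⟩
  rw [mem_pPow_iff']
  refine ⟨((∑ i, w i n • β i : M) : N), (∑ i, w i n • β i : M).2, ?_⟩
  have h1 : (∑ i, Lc i • β i : M) - g n = ((p : WittVector p k) ^ n) • (∑ i, w i n • β i : M) := by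
    conv_lhs => rw [← β.sum_repr (g n)]
    rw [← Finset.sum_sub_distrib, Finset.smul_sum]
    refine Finset.sum_congr rfl (fun i _ => ?_)
    rw [← sub_smul, hw i n, mul_smul]
  have h2 := congrArg Subtype.val h1
  rw [Submodule.coe_sub, Submodule.coe_smul, ← natCast_smul_eq, ← zpow_natCast] at h2
  exact h2


/-! ### Stabilisation of kernels and images modulo `p^j` -/

theorem smul_mem_pPow_iff (a b : ℤ) (M : Submodule (WittVector p k) N) (z : N) :
    ((p : K(p, k)) ^ a) • z ∈ pPow b M ↔ z ∈ pPow (b - a) M := by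
  rw [mem_pPow_iff, mem_pPow_iff, smul_smul, ← zpow_add₀ pK_ne_zero]
  rw [show -b + a = -(b - a) by ring]

theorem latImg_anti_of_stab (hτ : WAuto τ) (G : N →ₛₗ[τ] N) (M : Submodule (WittVector p k) N)
    (hst : latImg G 1 M ≤ M) {m n : ℕ} (hmn : m ≤ n) : latImg G n M ≤ latImg G m M := by
  obtain ⟨t, rfl⟩ := Nat.exists_eq_add_of_le hmn
  rw [latImg_add hτ]
  exact latImg_mono G m (latImg_le_self_of_stab hτ G M hst t)

theorem iterate_mul_mem_pPow (hτ : WAuto τ) (G : N →ₛₗ[τ] N) [Module.Finite K(p, k) N]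
    (M : Submodule (WittVector p k) N) (hst : latImg G 1 M ≤ M) (j : ℕ) (x : N) (hx : x ∈ M)
    (hn : ∃ n : ℕ, (⇑G)^[n] x ∈ pPow (j : ℤ) M) :
    (⇑G)^[Module.finrank K(p, k) N * j] x ∈ pPow (j : ℤ) M := by
  set h := Module.finrank K(p, k) N with hh
  have hstab := latImg_le_self_of_stab hτ G M hst
  induction j with
  | zero => simpa using hx
  | succ j ih =>
    obtain ⟨n, hn⟩ := hn
    have h1 : (⇑G)^[h * j] x ∈ pPow (j : ℤ) M :=
      ih ⟨n, pPow_anti (by push_cast; omega) M hn⟩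
    set y := ((p : K(p, k)) ^ (-(j : ℤ))) • (⇑G)^[h * j] x with hy
    have hyM : y ∈ M := (mem_pPow_iff _ _ _).1 h1
    have hyn : (⇑G)^[n] y ∈ pPow 1 M := by
      rw [hy, iterate_smul_zpow, smul_mem_pPow_iff, ← Function.iterate_add_apply, add_comm,
        Function.iterate_add_apply]
      have := iterate_mem_pPow G M hstab _ (h * j) hn
      rw [show (1 : ℤ) - -(j : ℤ) = ((j + 1 : ℕ) : ℤ) by push_cast; ring]
      exact this
    have h2 := iterate_finrank_mem_pPow_one hτ G M hst y hyM ⟨n, hyn⟩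
    rw [hy, iterate_smul_zpow, smul_mem_pPow_iff, ← Function.iterate_add_apply] at h2
    rw [show (1 : ℤ) - -(j : ℤ) = ((j + 1 : ℕ) : ℤ) by push_cast; ring] at h2
    rw [show h * (j + 1) = h + h * j by ring]
    exact h2

theorem iterate_finrank_mem_sup (hτ : WAuto τ) (G : N →ₛₗ[τ] N) [Module.Finite K(p, k) N]
    (M : Submodule (WittVector p k) N) (hst : latImg G 1 M ≤ M) (x : N) (hx : x ∈ M) :
    (⇑G)^[Module.finrank K(p, k) N] x ∈
      latImg G (Module.finrank K(p, k) N + 1) M ⊔ pPow 1 M := by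
  classical
  set h₀ := Module.finrank K(p, k) N with hh₀
  have hstab := latImg_le_self_of_stab hτ G M hst
  let v : Fin (h₀ + 1) → N := fun i => (⇑G)^[i.val] x
  have hdep : ¬ LinearIndependent K(p, k) v := by
    intro hli
    have := hli.fintype_card_le_finrank
    simp at this
    omega
  rw [Fintype.not_linearIndependent_iff] at hdep
  obtain ⟨g, hsum, hg⟩ := hdep
  obtain ⟨j, hj0, V1, V2⟩ := exists_pivot' g hg
  obtain ⟨t, ht⟩ : ∃ t : ℕ, t + j.val = h₀ := ⟨h₀ - j.val, by have := j.isLt; omega⟩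
  have hτt := hτ.pow t
  have hsum' : ∑ i, ((τ ^ t) (g i / g j)) • (⇑G)^[t + i.val] x = 0 := by
    have h1 := congrArg (iter G t) hsum
    rw [map_sum, map_zero] at h1
    have h2 : ∑ i, ((τ ^ t) (g i)) • (⇑G)^[t + i.val] x = 0 := by
      rw [← h1]
      refine Finset.sum_congr rfl (fun i _ => ?_)
      rw [map_smulₛₗ, iter_apply, ← Function.iterate_add_apply]
    have h3 := congrArg (fun y => ((τ ^ t) (g j))⁻¹ • y) h2
    simp only [Finset.smul_sum, smul_zero, smul_smul] at h3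
    rw [← h3]
    refine Finset.sum_congr rfl (fun i _ => ?_)
    rw [map_div₀, div_eq_inv_mul]
  have hdj : (τ ^ t) (g j / g j) = 1 := by rw [div_self hj0, map_one]
  rw [← Finset.add_sum_erase _ _ (Finset.mem_univ j), hdj, one_smul, ht] at hsum'
  have hFm : (⇑G)^[h₀] x =
      -∑ i ∈ Finset.univ.erase j, ((τ ^ t) (g i / g j)) • (⇑G)^[t + i.val] x :=
    eq_neg_of_add_eq_zero_left hsum'
  rw [hFm]
  refine Submodule.neg_mem _ (Submodule.sum_mem _ (fun i hi => ?_))
  have hij : i ≠ j := Finset.ne_of_mem_erase hi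
  rcases lt_or_gt_of_ne hij with hlt' | hgt
  · obtain ⟨w, hw⟩ := V2 i hlt'
    obtain ⟨w', hw'⟩ := hτt.map_W w
    rw [hw, map_mul, map_natCast, hw', mul_comm, mul_smul, algebraMap_smul]
    refine Submodule.smul_mem _ _ (Submodule.mem_sup_right ?_)
    have hz : (⇑G)^[t + i.val] x ∈ M := hstab _ (iterate_mem_latImg G _ M hx)
    have := smul_mem_pPow 1 M hz
    rwa [zpow_one] at this
  · obtain ⟨w, hw⟩ := V1 i
    obtain ⟨w', hw'⟩ := hτt.map_W w
    rw [hw, hw', algebraMap_smul]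
    refine Submodule.smul_mem _ _ (Submodule.mem_sup_left ?_)
    have hji : j.val < i.val := hgt
    have e : t + i.val = (h₀ + 1) + (i.val - j.val - 1) := by omega
    rw [e, Function.iterate_add_apply]
    exact iterate_mem_latImg G _ M (hstab _ (iterate_mem_latImg G _ M hx))

theorem latImg_finrank_le_sup (hτ : WAuto τ) (G : N →ₛₗ[τ] N) [Module.Finite K(p, k) N]
    (M : Submodule (WittVector p k) N) (hst : latImg G 1 M ≤ M) (n : ℕ)
    (hn : Module.finrank K(p, k) N ≤ n) :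
    latImg G (Module.finrank K(p, k) N) M ≤ latImg G n M ⊔ pPow 1 M := by
  set h := Module.finrank K(p, k) N with hh
  have hstab := latImg_le_self_of_stab hτ G M hst
  have hI1 : latImg G h M ≤ latImg G (h + 1) M ⊔ pPow 1 M := by
    intro y hy
    obtain ⟨x, hx, rfl⟩ := (mem_latImg hτ G h M y).1 hy
    exact iterate_finrank_mem_sup hτ G M hst x hx
  induction n, hn using Nat.le_induction with
  | base => exact le_sup_left
  | succ n hn ih =>
    obtain ⟨t, rfl⟩ := Nat.exists_eq_add_of_le hn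
    have h1 : latImg G (h + t) M ≤ latImg G (h + t + 1) M ⊔ pPow 1 M := by
      calc latImg G (h + t) M = latImg G t (latImg G h M) := by rw [add_comm, latImg_add hτ]
        _ ≤ latImg G t (latImg G (h + 1) M ⊔ pPow 1 M) := latImg_mono G t hI1
        _ = latImg G (t + (h + 1)) M ⊔ pPow 1 (latImg G t M) := by
            rw [latImg_sup hτ, ← latImg_add hτ, latImg_pPow hτ]
        _ ≤ latImg G (h + t + 1) M ⊔ pPow 1 M := by
            apply sup_le_sup
            · rw [show t + (h + 1) = h + t + 1 by ring]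
            · exact pPow_mono 1 (hstab t)
    exact ih.trans (sup_le (h1.trans (sup_le le_sup_left le_sup_right)) le_sup_right)

theorem latImg_mul_le_sup (hτ : WAuto τ) (G : N →ₛₗ[τ] N) [Module.Finite K(p, k) N]
    (M : Submodule (WittVector p k) N) (hst : latImg G 1 M ≤ M) (j n : ℕ) :
    latImg G (Module.finrank K(p, k) N * j) M ≤ latImg G n M ⊔ pPow (j : ℤ) M := by
  set h := Module.finrank K(p, k) N with hh
  have hstab := latImg_le_self_of_stab hτ G M hst
  induction j generalizing n with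
  | zero =>
    simp only [Nat.mul_zero, latImg_zero, Nat.cast_zero, pPow_zero]
    exact le_sup_right
  | succ j ih =>
    have h2 := latImg_finrank_le_sup hτ G M hst (max n h) (le_max_right _ _)
    calc latImg G (h * (j + 1)) M = latImg G h (latImg G (h * j) M) := by
          rw [← latImg_add hτ]; congr 1; ring
      _ ≤ latImg G h (latImg G n M ⊔ pPow (j : ℤ) M) := latImg_mono G h (ih n)
      _ = latImg G (h + n) M ⊔ pPow (j : ℤ) (latImg G h M) := by
          rw [latImg_sup hτ, ← latImg_add hτ, latImg_pPow hτ]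
      _ ≤ latImg G n M ⊔ pPow (j : ℤ) (latImg G (max n h) M ⊔ pPow 1 M) :=
          sup_le_sup (latImg_anti_of_stab hτ G M hst (by omega)) (pPow_mono _ h2)
      _ ≤ latImg G n M ⊔ pPow ((j + 1 : ℕ) : ℤ) M := by
          rw [pPow_sup, pPow_pPow]
          refine sup_le le_sup_left (sup_le ?_ ?_)
          · exact ((pPow_nat_le j _).trans
              (latImg_anti_of_stab hτ G M hst (le_max_left _ _))).trans le_sup_left
          · rw [show (j : ℤ) + 1 = ((j + 1 : ℕ) : ℤ) by push_cast; ring]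
            exact le_sup_right


/-! ### The unit-root lattice and the topologically nilpotent subspace -/

/-- `⋂ₙ Gⁿ M`. -/
noncomputable def unitLat (G : N →ₛₗ[τ] N) (M : Submodule (WittVector p k) N) :
    Submodule (WittVector p k) N :=
  ⨅ n : ℕ, latImg G n M

theorem mem_unitLat (G : N →ₛₗ[τ] N) (M : Submodule (WittVector p k) N) (x : N) :
    x ∈ unitLat G M ↔ ∀ n : ℕ, x ∈ latImg G n M := by
  unfold unitLat; rw [Submodule.mem_iInf]

theorem unitLat_le (G : N →ₛₗ[τ] N) (M : Submodule (WittVector p k) N) : unitLat G M ≤ M := by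
  intro x hx
  have := (mem_unitLat G M x).1 hx 0
  simpa using this

/-- Topologically nilpotent vectors. -/
def IsTopNil (G : N →ₛₗ[τ] N) (M : Submodule (WittVector p k) N) (x : N) : Prop :=
  ∀ j : ℕ, ∃ n : ℕ, (⇑G)^[n] x ∈ pPow (j : ℤ) M

/-- The subspace of topologically nilpotent vectors. -/
def nilSub (hτ : WAuto τ) (G : N →ₛₗ[τ] N) (M : Submodule (WittVector p k) N)
    (hst : latImg G 1 M ≤ M) : Submodule K(p, k) N where
  carrier := {x | IsTopNil G M x}
  add_mem' := by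
    intro x y hx hy j
    obtain ⟨n₁, h₁⟩ := hx j
    obtain ⟨n₂, h₂⟩ := hy j
    have hstab := latImg_le_self_of_stab hτ G M hst
    refine ⟨n₁ + n₂, ?_⟩
    rw [show (⇑G)^[n₁ + n₂] (x + y) = (⇑G)^[n₁ + n₂] x + (⇑G)^[n₁ + n₂] y from
      map_add (iter G _) x y]
    refine Submodule.add_mem _ ?_ ?_
    · rw [add_comm, Function.iterate_add_apply]
      exact iterate_mem_pPow G M hstab _ n₂ h₁
    · rw [Function.iterate_add_apply]
      exact iterate_mem_pPow G M hstab _ n₁ h₂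
  zero_mem' := fun j => ⟨0, by simp⟩
  smul_mem' := by
    intro c x hx j
    obtain ⟨m, w, hw⟩ := exists_pow_mul_eq_algebraMap (p := p) (k := k) c
    obtain ⟨n, hn⟩ := hx (j + m)
    refine ⟨n, ?_⟩
    obtain ⟨w', hw'⟩ := (hτ.pow n).map_W w
    have h1 : (τ ^ n) c = (p : K(p, k)) ^ (-(m : ℤ)) * algebraMap (WittVector p k) K(p, k) w' := by
      rw [← hw', ← hw, map_mul, map_pow, map_natCast, zpow_neg, zpow_natCast,
        inv_mul_cancel_left₀ (pow_ne_zero m pK_ne_zero)]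
    rw [show (⇑G)^[n] (c • x) = ((τ ^ n) c) • (⇑G)^[n] x from (iter G n).map_smulₛₗ c x, h1,
      mul_smul, smul_mem_pPow_iff, algebraMap_smul]
    refine Submodule.smul_mem _ _ ?_
    rw [show (j : ℤ) - -(m : ℤ) = ((j + m : ℕ) : ℤ) by push_cast; ring]
    exact hn

theorem mem_nilSub (hτ : WAuto τ) (G : N →ₛₗ[τ] N) (M : Submodule (WittVector p k) N)
    (hst : latImg G 1 M ≤ M) (x : N) : x ∈ nilSub hτ G M hst ↔ IsTopNil G M x := Iff.rfl

theorem exists_unit_add_nil (hτ : WAuto τ) (G : N →ₛₗ[τ] N) (hG : Function.Bijective G)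
    [Module.Finite K(p, k) N] (M : Submodule (WittVector p k) N) (hM : M.IsLattice K(p, k))
    (hst : latImg G 1 M ≤ M) (x : N) (hx : x ∈ M) :
    ∃ u ∈ unitLat G M, IsTopNil G M (x - u) := by
  set h := Module.finrank K(p, k) N with hh
  have hstab := latImg_le_self_of_stab hτ G M hst
  rcases Nat.eq_zero_or_pos h with h0 | hpos
  · have hsub : Subsingleton N := Module.finrank_zero_iff.1 h0
    refine ⟨0, Submodule.zero_mem _, fun j => ⟨0, ?_⟩⟩
    rw [Subsingleton.elim ((⇑G)^[0] (x - 0)) 0]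
    exact Submodule.zero_mem _
  -- (F1)
  have F1 : ∀ j : ℕ, ∃ y ∈ M, (⇑G)^[h * j] (x - (⇑G)^[h * j] y) ∈ pPow (j : ℤ) M := by
    intro j
    have h1 := latImg_mul_le_sup hτ G M hst j (h * j + h * j) (iterate_mem_latImg G (h * j) M hx)
    obtain ⟨a, ha, b, hb, hab⟩ := Submodule.mem_sup.1 h1
    obtain ⟨y, hy, rfl⟩ := (mem_latImg hτ G _ M a).1 ha
    refine ⟨y, hy, ?_⟩
    rw [show (⇑G)^[h * j] (x - (⇑G)^[h * j] y) = (⇑G)^[h * j] x - (⇑G)^[h * j] ((⇑G)^[h * j] y) from
      map_sub (iter G _) _ _, ← Function.iterate_add_apply, ← hab, add_sub_cancel_left]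
    exact hb
  choose y hyM hy using F1
  set u : ℕ → N := fun j => (⇑G)^[h * j] (y j) with hu
  have hu_mem : ∀ j, u j ∈ latImg G (h * j) M := fun j => iterate_mem_latImg G _ M (hyM j)
  have huM : ∀ j, u j ∈ M := fun j => hstab _ (hu_mem j)
  -- Cauchy
  have hcauchy : ∀ j : ℕ, u (j + 1) - u j ∈ pPow (j : ℤ) M := by
    intro j
    have hd : u (j + 1) - u j ∈ latImg G (h * j) M :=
      Submodule.sub_mem _ (latImg_anti_of_stab hτ G M hst (by nlinarith) (hu_mem (j + 1))) (hu_mem j)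
    obtain ⟨y', hy', hyd⟩ := (mem_latImg hτ G _ M _).1 hd
    have h1 : (⇑G)^[h * (j + 1)] (x - u j) ∈ pPow (j : ℤ) M := by
      rw [show h * (j + 1) = h + h * j by ring, Function.iterate_add_apply]
      exact iterate_mem_pPow G M hstab _ h (hy j)
    have h2 : (⇑G)^[h * (j + 1)] (x - u (j + 1)) ∈ pPow (j : ℤ) M :=
      pPow_anti (by push_cast; omega) M (hy (j + 1))
    have h3 : (⇑G)^[h * (j + 1)] (u (j + 1) - u j) ∈ pPow (j : ℤ) M := by
      have : u (j + 1) - u j = (x - u j) - (x - u (j + 1)) := by abel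
      rw [this, show (⇑G)^[h * (j + 1)] ((x - u j) - (x - u (j + 1))) =
        (⇑G)^[h * (j + 1)] (x - u j) - (⇑G)^[h * (j + 1)] (x - u (j + 1)) from
        map_sub (iter G _) _ _]
      exact Submodule.sub_mem _ h1 h2
    rw [← hyd, ← Function.iterate_add_apply] at h3
    have h4 := iterate_mul_mem_pPow hτ G M hst j y' hy' ⟨_, h3⟩
    rw [← hyd]
    exact h4
  obtain ⟨L, hLM, hL⟩ := lattice_complete M hM u huM hcauchy
  refine ⟨L, ?_, ?_⟩
  · rw [mem_unitLat]
    intro n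
    obtain ⟨c, hc⟩ := exists_pPow_le_latImg hτ G hG.surjective M hM
    set j := max (c * n) n with hj
    have h1 : u j ∈ latImg G n M :=
      latImg_anti_of_stab hτ G M hst (by
        have : n ≤ j := le_max_right _ _
        nlinarith) (hu_mem j)
    have h2 : L - u j ∈ latImg G n M := by
      apply hc n
      exact pPow_anti (by exact_mod_cast le_max_left _ _) M (hL j)
    have : L = u j + (L - u j) := by abel
    rw [this]
    exact Submodule.add_mem _ h1 h2
  · intro j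
    refine ⟨h * j, ?_⟩
    have : x - L = (x - u j) - (L - u j) := by abel
    rw [this, show (⇑G)^[h * j] ((x - u j) - (L - u j)) =
      (⇑G)^[h * j] (x - u j) - (⇑G)^[h * j] (L - u j) from map_sub (iter G _) _ _]
    exact Submodule.sub_mem _ (hy j) (iterate_mem_pPow G M hstab _ _ (hL j))

end Groth.Agent.Lib.Helper24Isoc
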