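import Mathlib
import Groth.Prelude.Def_Isoc
import Groth.Agent.Lib.Helper24IsocFitting

set_option autoImplicit false
set_option linter.unusedSectionVars false
set_option linter.unnecessarySimpa false
open scoped Pointwise Isocrystal
universe u v

namespace Groth.Agent.Lib.Helper24Isoc

variable {p : ℕ} [Fact p.Prime] {k : Type u} [Field k] [CharP k p] [PerfectRing k p]
variable {N : Type v} [AddCommGroup N] [Module (WittVector p k) N] [Module K(p, k) N]
  [IsScalarTower (WittVector p k) K(p, k) N]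
variable {τ : K(p, k) →+* K(p, k)}

open Isoc

/-! ### Properties of the unit-root lattice -/

theorem latImg_one_unitLat (hτ : WAuto τ) (G : N →ₛₗ[τ] N) (hG : Function.Injective G)
    (M : Submodule (WittVector p k) N) (hst : latImg G 1 M ≤ M) :
    latImg G 1 (unitLat G M) = unitLat G M := by
  apply le_antisymm
  · intro z hz
    obtain ⟨x, hx, rfl⟩ := (mem_latImg hτ G 1 _ z).1 hz
    rw [mem_unitLat] at hx ⊢
    intro n
    rcases n with _ | m
    · rw [latImg_zero]
      exact hst (iterate_mem_latImg G 1 M (by simpa using hx 0))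
    · rw [show m + 1 = 1 + m by ring, latImg_add hτ]
      exact iterate_mem_latImg G 1 _ (hx m)
  · intro x hx
    rw [mem_unitLat] at hx
    have h1 : ∀ n : ℕ, ∃ y ∈ latImg G n M, G y = x := by
      intro n
      have := hx (1 + n)
      rw [latImg_add hτ] at this
      obtain ⟨y, hy, hyx⟩ := (mem_latImg hτ G 1 _ x).1 this
      exact ⟨y, hy, by simpa using hyx⟩
    choose y hy hyx using h1
    have hy0 : ∀ n, y n = y 0 := fun n => hG ((hyx n).trans (hyx 0).symm)
    rw [mem_latImg hτ]
    refine ⟨y 0, ?_, by simpa using hyx 0⟩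
    rw [mem_unitLat]
    intro n
    rw [← hy0 n]
    exact hy n

theorem unitLat_fg (G : N →ₛₗ[τ] N) (M : Submodule (WittVector p k) N) (hM : M.FG) :
    (unitLat G M).FG := by
  have hN : IsNoetherian (WittVector p k) M := isNoetherian_of_fg_of_noetherian M hM
  exact (isNoetherian_submodule.1 hN) _ (unitLat_le G M)

section Commute

variable (F : N →ₛₗ[τ] N) (m : ℤ) (s : ℕ)

theorem commute_zpow_smul_iter (z : N) :
    (((p : K(p, k)) ^ m) • iter F s) (F z) = F ((((p : K(p, k)) ^ m) • iter F s) z) := by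
  rw [LinearMap.smul_apply, LinearMap.smul_apply, iter_apply, iter_apply, map_smulₛₗ, tau_zpow,
    ← Function.iterate_succ_apply, Function.iterate_succ_apply']

theorem commute_iterate_zpow_smul_iter (n : ℕ) (z : N) :
    (⇑(((p : K(p, k)) ^ m) • iter F s))^[n] (F z) = F ((⇑(((p : K(p, k)) ^ m) • iter F s))^[n] z) := by
  induction n generalizing z with
  | zero => rfl
  | succ n ih =>
    rw [Function.iterate_succ_apply, Function.iterate_succ_apply, commute_zpow_smul_iter, ih]

theorem exists_pow_smul_apply_mem_unitLat (hτ : WAuto τ) (M : Submodule (WittVector p k) N)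
    (hM : M.IsLattice K(p, k)) :
    ∃ c : ℕ, ∀ x ∈ unitLat (((p : K(p, k)) ^ m) • iter F s) M,
      ((p : K(p, k)) ^ c) • F x ∈ unitLat (((p : K(p, k)) ^ m) • iter F s) M := by
  obtain ⟨c, hc⟩ := exists_le_pPow_neg M hM (latImg F 1 M) (latImg_fg hτ F 1 M hM.fg)
  refine ⟨c, fun x hx => ?_⟩
  rw [mem_unitLat] at hx ⊢
  intro n
  obtain ⟨y, hy, rfl⟩ := (mem_latImg (hτ.pow s) _ n M x).1 (hx n)
  rw [← commute_iterate_zpow_smul_iter]
  have h1 : F y ∈ pPow (-(c : ℤ)) M := hc (by
    have := iterate_mem_latImg F 1 M hy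
    simpa using this)
  rw [mem_pPow_iff, neg_neg, zpow_natCast] at h1
  have h2 := iterate_mem_latImg (((p : K(p, k)) ^ m) • iter F s) n M h1
  have h3 := iterate_smul_zpow (((p : K(p, k)) ^ m) • iter F s) n (c : ℤ) (F y)
  rw [zpow_natCast] at h3
  rw [h3] at h2
  exact h2

theorem span_unitLat_stable (hτ : WAuto τ) (M : Submodule (WittVector p k) N)
    (hM : M.IsLattice K(p, k)) :
    ∀ x ∈ Submodule.span K(p, k) ((unitLat (((p : K(p, k)) ^ m) • iter F s) M : Submodule (WittVector p k) N) : Set N),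
      F x ∈ Submodule.span K(p, k) ((unitLat (((p : K(p, k)) ^ m) • iter F s) M : Submodule (WittVector p k) N) : Set N) := by
  obtain ⟨c, hc⟩ := exists_pow_smul_apply_mem_unitLat F m s hτ M hM
  intro x hx
  induction hx using Submodule.span_induction with
  | mem x hx =>
    have h1 := hc x hx
    have h2 : F x = ((p : K(p, k)) ^ c)⁻¹ • (((p : K(p, k)) ^ c) • F x) := by
      rw [smul_smul, inv_mul_cancel₀ (pow_ne_zero c pK_ne_zero), one_smul]
    rw [h2]
    exact Submodule.smul_mem _ _ (Submodule.subset_span h1)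
  | zero => rw [map_zero]; exact Submodule.zero_mem _
  | add x y _ _ hx hy => rw [map_add]; exact Submodule.add_mem _ hx hy
  | smul a x _ hx => rw [map_smulₛₗ]; exact Submodule.smul_mem _ _ hx

theorem isoOn_span_unitLat (hτ : WAuto τ) (hF : Function.Injective F) (r : ℤ) (hs : 0 < s)
    (M : Submodule (WittVector p k) N) (hM : M.IsLattice K(p, k))
    (hst : latImg (((p : K(p, k)) ^ (-r)) • iter F s) 1 M ≤ M) :
    IsoOn F (Submodule.span K(p, k)
      ((unitLat (((p : K(p, k)) ^ (-r)) • iter F s) M : Submodule (WittVector p k) N) : Set N))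
      ((r : ℚ) / s) := by
  refine ⟨unitLat (((p : K(p, k)) ^ (-r)) • iter F s) M, unitLat_fg _ M hM.fg, rfl, r, s, hs, rfl, ?_⟩
  have hGinj : Function.Injective (⇑(((p : K(p, k)) ^ (-r)) • iter F s)) := by
    intro x y hxy
    have h1 : ((p : K(p, k)) ^ (-r)) • (⇑F)^[s] x = ((p : K(p, k)) ^ (-r)) • (⇑F)^[s] y := hxy
    exact (hF.iterate s) (smul_right_injective N (zpow_ne_zero' (-r)) h1)
  have h1 := latImg_one_unitLat (hτ.pow s) _ hGinj M hst
  rw [latImg_zpow_smul_iter hτ] at h1
  have h2 := congrArg (pPow r) h1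
  rw [pPow_pPow] at h2
  simpa using h2

theorem nilSub_stable (hτ : WAuto τ) (M : Submodule (WittVector p k) N) (hM : M.IsLattice K(p, k))
    (hst : latImg (((p : K(p, k)) ^ m) • iter F s) 1 M ≤ M) :
    ∀ x ∈ nilSub (hτ.pow s) (((p : K(p, k)) ^ m) • iter F s) M hst,
      F x ∈ nilSub (hτ.pow s) (((p : K(p, k)) ^ m) • iter F s) M hst := by
  obtain ⟨c, hc⟩ := exists_le_pPow_neg M hM (latImg F 1 M) (latImg_fg hτ F 1 M hM.fg)
  intro x hx j
  obtain ⟨n, hn⟩ := hx (j + c)
  refine ⟨n, ?_⟩
  rw [commute_iterate_zpow_smul_iter]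
  have h1 : F ((⇑(((p : K(p, k)) ^ m) • iter F s))^[n] x) ∈ latImg F 1 (pPow ((j + c : ℕ) : ℤ) M) := by
    have := iterate_mem_latImg F 1 _ hn
    simpa using this
  rw [latImg_pPow hτ] at h1
  have h2 := pPow_mono ((j + c : ℕ) : ℤ) hc h1
  rw [pPow_pPow] at h2
  simpa using h2

end Commute

/-! ### Transport of slope parts from a stable subspace -/

theorem map_slopePart_restrict_le (hτ : WAuto τ) (F : N →ₛₗ[τ] N) (Q : Submodule K(p, k) N)
    (hQ : ∀ x ∈ Q, F x ∈ Q) (μ : ℚ) :
    (slopePart (F.restrict hQ) μ).map Q.subtype ≤ slopePart F μ := by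
  rw [Submodule.map_le_iff_le_comap]
  unfold slopePart
  apply sSup_le
  rintro P' ⟨hP', hiso⟩
  rw [← Submodule.map_le_iff_le_comap]
  apply le_sSup
  have hstab : ∀ x ∈ P'.map Q.subtype, F x ∈ P'.map Q.subtype := by
    rintro _ ⟨y, hy, rfl⟩
    exact ⟨(F.restrict hQ) y, hP' y hy, rfl⟩
  refine ⟨hstab, isIsoclinic_restrict_of_isoOn hτ F _ hstab ?_⟩
  obtain ⟨L', hL'fg, hL'span, r, s, hs, hrs, hFL'⟩ := isoOn_of_isIsoclinic_restrict hτ _ P' hP' hiso
  refine ⟨Submodule.map (Q.subtype.restrictScalars (WittVector p k)) L', hL'fg.map _, ?_, r, s, hs, hrs, ?_⟩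
  · have : ((Submodule.map (Q.subtype.restrictScalars (WittVector p k)) L' : Submodule (WittVector p k) N) : Set N) =
        Q.subtype '' (L' : Set Q) := rfl
    rw [this, ← Submodule.map_span, hL'span]
  · rw [← map_latImg hτ Q.subtype (F.restrict hQ) F (fun _ => rfl), hFL', map_pPow]


/-! ### The slope decomposition -/

theorem exists_lattice [Module.Finite K(p, k) N] :
    ∃ M : Submodule (WittVector p k) N, M.IsLattice K(p, k) := by
  let b := Module.finBasis K(p, k) N
  refine ⟨Submodule.span (WittVector p k) (Set.range b), Submodule.fg_span (Set.finite_range _), ?_⟩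
  rw [eq_top_iff, ← b.span_eq]
  exact Submodule.span_mono Submodule.subset_span

theorem exists_isFirstSlope (hτ : WAuto τ) (F : N →ₛₗ[τ] N) (hF : Function.Bijective F)
    [Module.Finite K(p, k) N] [Nontrivial N] : ∃ lam : ℝ, IsFirstSlope F lam := by
  obtain ⟨M, hM⟩ := exists_lattice (p := p) (k := k) (N := N)
  have hne := ne_bot_of_isLattice M hM
  choose o ho using exists_isOrd hτ F hF.injective M hM hne
  obtain ⟨lam, ht⟩ := exists_tendsto_of_isOrd hτ F hF.surjective M hM hne o (fun n _ => ho n)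
  exact ⟨lam, M, hM, o, fun n _ => ho n, ht⟩

theorem firstSlope_ge_of_latImg_le (hτ : WAuto τ) (G : N →ₛₗ[τ] N) (hG : Function.Bijective G)
    (M : Submodule (WittVector p k) N) (hM : M.IsLattice K(p, k)) (hne : M ≠ ⊥) {h : ℕ}
    (hhpos : 0 < h) (hhM : latImg G h M ≤ pPow 1 M) {lam : ℝ} (hlam : IsFirstSlope G lam) :
    (1 : ℝ) / (h : ℝ) ≤ lam := by
  choose o ho using exists_isOrd hτ G hG.injective M hM hne
  obtain ⟨lam', ht⟩ := exists_tendsto_of_isOrd hτ G hG.surjective M hM hne o (fun n _ => ho n)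
  have hlam' : IsFirstSlope G lam' := ⟨M, hM, o, fun n _ => ho n, ht⟩
  have e := isFirstSlope_unique hτ G hlam hlam'
  rw [e]
  have hsub : Filter.Tendsto (fun q : ℕ => q * h) Filter.atTop Filter.atTop :=
    Filter.tendsto_atTop_mono (fun q => Nat.le_mul_of_pos_right q hhpos) Filter.tendsto_id
  have h1 := ht.comp hsub
  refine ge_of_tendsto h1 ?_
  filter_upwards [Filter.eventually_ge_atTop 1] with q hq
  have hoq : (q : ℤ) ≤ o (q * h) := by
    have := latImg_mul_le hτ G M hhM q
    rw [mul_one] at this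
    exact le_of_le_pPow_of_not_le M _ this (ho (q * h)).2
  have hq' : (0 : ℝ) < q := by exact_mod_cast hq
  have hh' : (0 : ℝ) < h := by exact_mod_cast hhpos
  have hoq' : (q : ℝ) ≤ (o (q * h) : ℝ) := by exact_mod_cast hoq
  simp only [Function.comp_apply]
  rw [div_le_div_iff₀ hh' (by push_cast; positivity)]
  push_cast
  nlinarith

theorem iSup_slopePart_eq_top (hτ : WAuto τ) :
    ∀ (d : ℕ) (N : Type v) [AddCommGroup N] [Module (WittVector p k) N] [Module K(p, k) N]
      [IsScalarTower (WittVector p k) K(p, k) N] (F : N →ₛₗ[τ] N),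
      Function.Bijective F → Module.Finite K(p, k) N → Module.finrank K(p, k) N = d →
      ⨆ μ : ℚ, slopePart F μ = ⊤ := by
  intro d
  induction d using Nat.strong_induction_on with
  | _ d ih =>
  intro N _ _ _ _ F hF hfin hd
  rcases subsingleton_or_nontrivial N with hsub | hnt
  · rw [eq_top_iff]
    intro x _
    rw [Subsingleton.elim x 0]
    exact Submodule.zero_mem _
  obtain ⟨lam, hlam⟩ := exists_isFirstSlope hτ F hF
  obtain ⟨r, s, M, hs, -, hl, hM, hord⟩ := exists_firstSlope_eq_div hτ F hF hlam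
  have hτG := hτ.pow s
  have hst : latImg (((p : K(p, k)) ^ (-r)) • iter F s) 1 M ≤ M := by
    rw [latImg_zpow_smul_iter hτ, pPow_le_iff]
    simpa using hord.1
  have hGslope := isFirstSlope_zpow_smul_iter hτ F hlam (-r) s
  have hGbij := bijective_zpow_smul_iter F hF (-r) s
  have hne : M ≠ ⊥ := ne_bot_of_isLattice M hM
  have hhpos : 0 < Module.finrank K(p, k) N := Module.finrank_pos
  have hs' : (0 : ℝ) < s := by exact_mod_cast hs
  have hslope0 : (s : ℝ) * lam + ((-r : ℤ) : ℝ) = 0 := by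
    rw [hl]; push_cast; field_simp; ring
  rw [hslope0] at hGslope
  -- the nilpotent subspace
  have hQst := nilSub_stable F (-r) s hτ M hM hst
  set Q := nilSub hτG (((p : K(p, k)) ^ (-r)) • iter F s) M hst with hQdef
  have hQne : Q ≠ ⊤ := by
    intro hQtop
    have hhM : latImg (((p : K(p, k)) ^ (-r)) • iter F s) (Module.finrank K(p, k) N) M ≤ pPow 1 M := by
      intro y hy
      obtain ⟨x, hx, rfl⟩ := (mem_latImg hτG _ _ M y).1 hy
      have hxQ : x ∈ Q := by rw [hQtop]; trivial
      obtain ⟨n, hn⟩ := hxQ 1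
      exact iterate_finrank_mem_pPow_one hτG _ M hst x hx ⟨n, by simpa using hn⟩
    have := firstSlope_ge_of_latImg_le hτG _ hGbij M hM hne hhpos hhM hGslope
    have hh' : (0 : ℝ) < (Module.finrank K(p, k) N : ℝ) := by exact_mod_cast hhpos
    have : (0 : ℝ) < 1 / (Module.finrank K(p, k) N : ℝ) := by positivity
    linarith
  have hlt : Module.finrank K(p, k) Q < Module.finrank K(p, k) N :=
    Submodule.finrank_lt hQne
  have hinjQ : Function.Injective (F.restrict hQst) := by
    intro x y h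
    apply Subtype.ext
    apply hF.injective
    have := congrArg Subtype.val h
    simpa using this
  have hbijQ : Function.Bijective (F.restrict hQst) :=
    ⟨hinjQ, surjective_of_injective hτ.bij _ hinjQ⟩
  have IH := ih (Module.finrank K(p, k) Q) (by omega) Q (F.restrict hQst) hbijQ inferInstance rfl
  have hQle : Q ≤ ⨆ μ : ℚ, slopePart F μ := by
    calc Q = (⊤ : Submodule K(p, k) Q).map Q.subtype := (Submodule.map_subtype_top Q).symm
      _ = (⨆ μ : ℚ, slopePart (F.restrict hQst) μ).map Q.subtype := by rw [IH]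
      _ = ⨆ μ : ℚ, (slopePart (F.restrict hQst) μ).map Q.subtype := Submodule.map_iSup _ _
      _ ≤ ⨆ μ : ℚ, slopePart F μ := iSup_mono (fun μ => map_slopePart_restrict_le hτ F Q hQst μ)
  -- the unit-root part
  have hUst := span_unitLat_stable F (-r) s hτ M hM
  have hUiso := isoOn_span_unitLat F s hτ hF.injective r hs M hM hst
  have hUle : Submodule.span K(p, k)
      ((unitLat (((p : K(p, k)) ^ (-r)) • iter F s) M : Submodule (WittVector p k) N) : Set N) ≤
      ⨆ μ : ℚ, slopePart F μ := by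
    refine le_trans ?_ (le_iSup _ ((r : ℚ) / s))
    unfold slopePart
    exact le_sSup ⟨hUst, isIsoclinic_restrict_of_isoOn hτ F _ hUst hUiso⟩
  rw [eq_top_iff]
  intro x _
  obtain ⟨c, hc⟩ := exists_pow_smul_mem M hM x
  obtain ⟨u, hu, hv⟩ := exists_unit_add_nil hτG _ hGbij M hM hst _ hc
  have hx : x = ((p : K(p, k)) ^ c)⁻¹ • (u + (((p : K(p, k)) ^ c) • x - u)) := by
    rw [add_sub_cancel, smul_smul, inv_mul_cancel₀ (pow_ne_zero c pK_ne_zero), one_smul]
  rw [hx]
  refine Submodule.smul_mem _ _ (Submodule.add_mem _ (hUle (Submodule.subset_span hu)) (hQle ?_))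
  exact hv

theorem isInternal_slopePart (hτ : WAuto τ) (F : N →ₛₗ[τ] N) (hF : Function.Bijective F)
    [Module.Finite K(p, k) N] : DirectSum.IsInternal (fun μ : ℚ => slopePart F μ) := by
  classical
  rw [DirectSum.isInternal_submodule_iff_iSupIndep_and_iSup_eq_top]
  exact ⟨slopePart_iSupIndep hτ F hF.injective,
    iSup_slopePart_eq_top hτ _ N F hF inferInstance rfl⟩

end Groth.Agent.Lib.Helper24Isoc
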