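import Mathlib
import Groth.Prelude.Def_Isoc
import Groth.Agent.Lib.Helper24IsocDet

set_option autoImplicit false
set_option linter.unusedSectionVars false
set_option linter.unnecessarySimpa false
open scoped Pointwise Isocrystal
universe u v

namespace Groth.Agent.Lib.Helper24Isoc

variable {p : ℕ} [Fact p.Prime] {k : Type u} [Field k] [CharP k p] [PerfectRing k p]

open Isoc

/-! ### The standard isocrystal -/

section Std

variable (τ : K(p, k) →+* K(p, k)) (d : ℤ) (n : ℕ)

/-- standard basis vector -/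
noncomputable def stdE (i : Fin (n + 1)) : Fin (n + 1) → K(p, k) := Pi.single i 1

theorem stdIsoc_stdE (i : Fin (n + 1)) :
    stdIsoc τ d (n + 1) (stdE n i) =
      (if (finRotate (n + 1) i).val = 0 then (p : K(p, k)) ^ d else 1) • stdE n (finRotate (n + 1) i) := by
  ext l
  rw [stdIsoc_apply, Pi.smul_apply, smul_eq_mul]
  unfold stdE
  by_cases hl : l = finRotate (n + 1) i
  · subst hl
    simp
  · have h1 : (finRotate (n + 1)).symm l ≠ i := by
      intro h; apply hl; rw [← h]; simp
    rw [Pi.single_apply, Pi.single_apply, if_neg h1, if_neg hl]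
    simp

theorem stdIsoc_stdE_of_lt {i : ℕ} (hi : i < n) :
    stdIsoc τ d (n + 1) (stdE n ⟨i, by omega⟩) = stdE (p := p) (k := k) n ⟨i + 1, by omega⟩ := by
  rw [stdIsoc_stdE, finRotate_of_lt hi]
  simp

theorem stdIsoc_stdE_last :
    stdIsoc τ d (n + 1) (stdE n ⟨n, by omega⟩) =
      ((p : K(p, k)) ^ d) • stdE (p := p) (k := k) n ⟨0, by omega⟩ := by
  rw [stdIsoc_stdE, finRotate_last']
  simp

theorem stdIsoc_iterate_stdE (j i : ℕ) (hij : i + j ≤ n) :
    (⇑(stdIsoc τ d (n + 1)))^[j] (stdE n ⟨i, by omega⟩) = stdE (p := p) (k := k) n ⟨i + j, by omega⟩ := by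
  induction j with
  | zero => rfl
  | succ j ih =>
    rw [Function.iterate_succ_apply', ih (by omega), stdIsoc_stdE_of_lt τ d n (by omega)]
    rfl

theorem stdIsoc_iterate_full (i : Fin (n + 1)) :
    (⇑(stdIsoc τ d (n + 1)))^[n + 1] (stdE n i) = ((p : K(p, k)) ^ d) • stdE (p := p) (k := k) n i := by
  obtain ⟨i, hi⟩ := i
  have e : n + 1 = i + (1 + (n - i)) := by omega
  have e' : (⇑(stdIsoc τ d (n + 1)))^[n + 1] = (⇑(stdIsoc τ d (n + 1)))^[i + (1 + (n - i))] :=
    congrArg (fun m => (⇑(stdIsoc τ d (n + 1)))^[m]) e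
  rw [e', Function.iterate_add_apply, Function.iterate_add_apply, Function.iterate_one,
    stdIsoc_iterate_stdE τ d n (n - i) i (by omega)]
  have h1 : (⟨i + (n - i), by omega⟩ : Fin (n + 1)) = ⟨n, by omega⟩ := by
    apply Fin.ext; simp only []; omega
  rw [h1, stdIsoc_stdE_last, iterate_smul_zpow, stdIsoc_iterate_stdE τ d n i 0 (by omega)]
  simp

/-- the standard lattice -/
noncomputable def stdLat : Submodule (WittVector p k) (Fin (n + 1) → K(p, k)) :=
  Submodule.span (WittVector p k) (Set.range (stdE (p := p) (k := k) n))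

theorem stdLat_isLattice : (stdLat (p := p) (k := k) n).IsLattice K(p, k) where
  fg := Submodule.fg_span (Set.finite_range _)
  span_eq_top := by
    rw [eq_top_iff]
    have h1 : Submodule.span K(p, k) (Set.range (stdE (p := p) (k := k) n)) = ⊤ := by
      have := (Pi.basisFun K(p, k) (Fin (n + 1))).span_eq
      rw [← this]
      congr 1
      ext x
      simp [stdE, Pi.basisFun_apply]
    rw [← h1]
    exact Submodule.span_mono Submodule.subset_span

theorem latImg_stdLat (hτ : WAuto τ) :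
    latImg (stdIsoc τ d (n + 1)) (n + 1) (stdLat n) = pPow d (stdLat (p := p) (k := k) n) := by
  unfold stdLat
  rw [latImg_span hτ, pPow_span, ← Set.range_comp, ← Set.range_comp]
  congr 2
  ext i : 1
  exact stdIsoc_iterate_full τ d n i

theorem stdIsoc_injective (hτ : WAuto τ) : Function.Injective (stdIsoc τ d (n + 1)) := by
  intro x y hxy
  ext i
  have h1 := congrFun hxy (finRotate (n + 1) i)
  rw [stdIsoc_apply, stdIsoc_apply] at h1
  simp only [Equiv.symm_apply_apply] at h1
  have hc : (if (finRotate (n + 1) i).val = 0 then (p : K(p, k)) ^ d else 1) ≠ 0 := by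
    split_ifs
    · exact zpow_ne_zero' d
    · exact one_ne_zero
  exact hτ.bij.injective (mul_left_cancel₀ hc h1)

theorem stdIsoc_isIsoclinic (hτ : WAuto τ) :
    IsIsoclinic (stdIsoc τ d (n + 1)) ((d : ℚ) / ((n + 1 : ℕ) : ℚ)) :=
  ⟨stdLat n, stdLat_isLattice n, d, n + 1, Nat.succ_pos n, rfl, latImg_stdLat τ d n hτ⟩

end Std


/-! ### Slope times dimension is an integer -/

section SlopeDim

variable {N : Type v} [AddCommGroup N] [Module (WittVector p k) N] [Module K(p, k) N]
  [IsScalarTower (WittVector p k) K(p, k) N]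
variable {τ : K(p, k) →+* K(p, k)}

theorem exists_int_eq_slope_mul_finrank (hτ : WAuto τ) (F : N →ₛₗ[τ] N) [Module.Finite K(p, k) N]
    {μ : ℚ} (h : IsIsoclinic F μ) :
    ∃ d' : ℤ, μ * (Module.finrank K(p, k) N : ℚ) = d' := by
  obtain ⟨M, hM, r, s, hs, hμ, hFM⟩ := h
  let b := Module.finBasis K(p, k) N
  have h1 := isOrdP_detCoeff_of_latImg_eq hτ b F s r M hM hFM
  obtain ⟨s', rfl⟩ : ∃ s', s = s' + 1 := ⟨s - 1, by omega⟩
  have hne : detCoeff b F ≠ 0 := by
    intro h0
    have := isOrdP_ne_zero h1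
    rw [detCoeff_iter_succ, h0, zero_mul] at this
    exact this rfl
  obtain ⟨d', hd'⟩ := exists_isOrdP hne
  have h2 := isOrdP_detCoeff_iter hτ b F hd' (s' + 1)
  have h3 := isOrdP_unique h1 h2
  refine ⟨d', ?_⟩
  rw [← hμ]
  have hs' : ((s' + 1 : ℕ) : ℚ) ≠ 0 := by positivity
  rw [div_mul_eq_mul_div, div_eq_iff hs']
  have : ((r * (Module.finrank K(p, k) N : ℤ) : ℤ) : ℚ) = (((s' + 1 : ℕ) : ℤ) * d' : ℤ) := by
    rw [h3]
  push_cast at this ⊢
  linarith

end SlopeDim

end Groth.Agent.Lib.Helper24Isoc
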