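import Mathlib
import Groth.Prelude.Def_Isoc
import Groth.Agent.Lib.Helper24IsocDecomp
import Groth.Agent.Lib.Helper24IsocStd

set_option autoImplicit false
set_option linter.unusedSectionVars false
set_option linter.unnecessarySimpa false
open scoped Pointwise Isocrystal
universe u v

namespace Groth.Agent.Lib.Helper24Isoc

variable {p : ℕ} [Fact p.Prime] {k : Type u} [Field k] [CharP k p] [PerfectRing k p]
variable {N : Type v} [AddCommGroup N] [Module (WittVector p k) N] [Module K(p, k) N]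
  [IsScalarTower (WittVector p k) K(p, k) N]
variable {τ : K(p, k) →+* K(p, k)}

open Isoc

/-! ### Additivity of the order of the determinant over a direct sum of two stable subspaces -/

theorem detCoeff_eq_of_sum_repr {ι : Type*} [Fintype ι] [DecidableEq ι] {n : ℕ}
    (B : Module.Basis ι K(p, k) N) (e : ι ≃ Fin n) (F : N →ₛₗ[τ] N) (A : Matrix ι ι K(p, k))
    (h : ∀ j, F (B j) = ∑ x, A x j • B x) : detCoeff (B.reindex e) F = A.det := by
  have hmat : mat (B.reindex e) F = A.submatrix e.symm e.symm := by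
    ext i j
    show (B.reindex e).repr (F ((B.reindex e) j)) i = _
    rw [Module.Basis.reindex_apply, Module.Basis.repr_reindex_apply, h, Module.Basis.repr_sum_self]
    rfl
  rw [detCoeff_eq_det_mat, hmat, Matrix.det_submatrix_equiv_self]

theorem isOrdP_detCoeff_sup (hτ : WAuto τ) (F : N →ₛₗ[τ] N) (P Q : Submodule K(p, k) N)
    (hP : ∀ x ∈ P, F x ∈ P) (hQ : ∀ x ∈ Q, F x ∈ Q) (hPQ : ∀ x ∈ P ⊔ Q, F x ∈ P ⊔ Q)
    (hdisj : P ⊓ Q = ⊥) {a c : ℕ} (bP : Module.Basis (Fin a) K(p, k) P)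
    (bQ : Module.Basis (Fin c) K(p, k) Q) {dP dQ : ℤ}
    (hdP : IsOrdP (detCoeff bP (F.restrict hP)) dP) (hdQ : IsOrdP (detCoeff bQ (F.restrict hQ)) dQ)
    {n : ℕ} (b : Module.Basis (Fin n) K(p, k) (P ⊔ Q : Submodule K(p, k) N)) :
    IsOrdP (detCoeff b (F.restrict hPQ)) (dP + dQ) := by
  classical
  let iP : P →ₗ[K(p, k)] (P ⊔ Q : Submodule K(p, k) N) := Submodule.inclusion le_sup_left
  let iQ : Q →ₗ[K(p, k)] (P ⊔ Q : Submodule K(p, k) N) := Submodule.inclusion le_sup_right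
  have hinj : Function.Injective (iP.coprod iQ) := by
    rw [← LinearMap.ker_eq_bot, LinearMap.ker_eq_bot']
    rintro ⟨x, y⟩ hxy
    have h1 : (x : N) + (y : N) = 0 := by
      have := congrArg Subtype.val hxy
      simpa [iP, iQ] using this
    have hxQ : (x : N) ∈ Q := by
      have : (x : N) = -(y : N) := eq_neg_of_add_eq_zero_left h1
      rw [this]; exact Q.neg_mem y.2
    have hx0 : (x : N) = 0 := by
      have : (x : N) ∈ P ⊓ Q := ⟨x.2, hxQ⟩
      rw [hdisj, Submodule.mem_bot] at this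
      exact this
    have hy0 : (y : N) = 0 := by rw [hx0, zero_add] at h1; exact h1
    exact Prod.ext (Subtype.ext hx0) (Subtype.ext hy0)
  have hsurj : Function.Surjective (iP.coprod iQ) := by
    rintro ⟨z, hz⟩
    obtain ⟨x, hx, y, hy, rfl⟩ := Submodule.mem_sup.1 hz
    exact ⟨(⟨x, hx⟩, ⟨y, hy⟩), Subtype.ext (by simp [iP, iQ])⟩
  let e : (P × Q) ≃ₗ[K(p, k)] (P ⊔ Q : Submodule K(p, k) N) := LinearEquiv.ofBijective (iP.coprod iQ) ⟨hinj, hsurj⟩
  let B : Module.Basis (Fin a ⊕ Fin c) K(p, k) (P ⊔ Q : Submodule K(p, k) N) := (bP.prod bQ).map e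
  have hBl : ∀ i, B (Sum.inl i) = iP (bP i) := by
    intro i
    show e ((bP.prod bQ) (Sum.inl i)) = _
    have : (bP.prod bQ) (Sum.inl i) = (bP i, 0) :=
      Prod.ext (Module.Basis.prod_apply_inl_fst _ _ i) (Module.Basis.prod_apply_inl_snd _ _ i)
    rw [this]
    show (iP.coprod iQ) (bP i, 0) = _
    rw [LinearMap.coprod_apply, map_zero, add_zero]
  have hBr : ∀ i, B (Sum.inr i) = iQ (bQ i) := by
    intro i
    show e ((bP.prod bQ) (Sum.inr i)) = _
    have : (bP.prod bQ) (Sum.inr i) = (0, bQ i) :=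
      Prod.ext (Module.Basis.prod_apply_inr_fst _ _ i) (Module.Basis.prod_apply_inr_snd _ _ i)
    rw [this]
    show (iP.coprod iQ) (0, bQ i) = _
    rw [LinearMap.coprod_apply, map_zero, zero_add]
  set Mblk : Matrix (Fin a ⊕ Fin c) (Fin a ⊕ Fin c) K(p, k) :=
    Matrix.fromBlocks (mat bP (F.restrict hP)) 0 0 (mat bQ (F.restrict hQ)) with hMblk
  have hcol : ∀ j, (F.restrict hPQ) (B j) = ∑ x, Mblk x j • B x := by
    intro j
    rw [Fintype.sum_sum_type]
    rcases j with j | j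
    · simp only [hMblk, Matrix.fromBlocks_apply₁₁, Matrix.fromBlocks_apply₂₁, Matrix.zero_apply,
        zero_smul, Finset.sum_const_zero, add_zero, hBl]
      have h1 : (F.restrict hPQ) (iP (bP j)) = iP ((F.restrict hP) (bP j)) := Subtype.ext rfl
      rw [h1]
      conv_lhs => rw [← bP.sum_repr ((F.restrict hP) (bP j))]
      rw [map_sum]
      refine Finset.sum_congr rfl (fun i _ => ?_)
      rw [map_smul]; rfl
    · simp only [hMblk, Matrix.fromBlocks_apply₁₂, Matrix.fromBlocks_apply₂₂, Matrix.zero_apply,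
        zero_smul, Finset.sum_const_zero, zero_add, hBr]
      have h1 : (F.restrict hPQ) (iQ (bQ j)) = iQ ((F.restrict hQ) (bQ j)) := Subtype.ext rfl
      rw [h1]
      conv_lhs => rw [← bQ.sum_repr ((F.restrict hQ) (bQ j))]
      rw [map_sum]
      refine Finset.sum_congr rfl (fun i _ => ?_)
      rw [map_smul]; rfl
  have hdet := detCoeff_eq_of_sum_repr B finSumFinEquiv (F.restrict hPQ) Mblk hcol
  rw [hMblk, Matrix.det_fromBlocks_zero₂₁] at hdet
  have hord : IsOrdP (detCoeff (B.reindex finSumFinEquiv) (F.restrict hPQ)) (dP + dQ) := by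
    rw [hdet]; exact isOrdP_mul hdP hdQ
  have hn : n = a + c := by
    have h1 := Module.finrank_eq_card_basis b
    have h2 := Module.finrank_eq_card_basis (B.reindex finSumFinEquiv)
    simp at h1 h2
    omega
  subst hn
  exact isOrdP_detCoeff_basis hτ _ b _ hord


/-! ### The order of the determinant on stable subspaces and the end point of the Newton polygon -/

/-- `orddet(F|P) = d`. -/
def OrdDetOn (F : N →ₛₗ[τ] N) (P : Submodule K(p, k) N) (d : ℤ) : Prop :=
  ∃ hP : ∀ x ∈ P, F x ∈ P, ∃ (n : ℕ) (b : Module.Basis (Fin n) K(p, k) P),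
    IsOrdP (detCoeff b (F.restrict hP)) d

theorem ordDetOn_bot (F : N →ₛₗ[τ] N) : OrdDetOn F (⊥ : Submodule K(p, k) N) 0 := by
  refine ⟨fun x hx => by rw [Submodule.mem_bot] at hx; rw [hx, map_zero]; exact Submodule.zero_mem _,
    0, Module.Basis.empty _, ?_⟩
  rw [detCoeff_eq_det_mat, Matrix.det_isEmpty]
  exact isOrdP_one

theorem ordDetOn_sup (hτ : WAuto τ) (F : N →ₛₗ[τ] N) [Module.Finite K(p, k) N]
    {P Q : Submodule K(p, k) N} {dP dQ : ℤ} (hP : OrdDetOn F P dP) (hQ : OrdDetOn F Q dQ)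
    (hdisj : P ⊓ Q = ⊥) : OrdDetOn F (P ⊔ Q) (dP + dQ) := by
  obtain ⟨hPst, a, bP, hdP⟩ := hP
  obtain ⟨hQst, c, bQ, hdQ⟩ := hQ
  have hPQ : ∀ x ∈ P ⊔ Q, F x ∈ P ⊔ Q := by
    intro x hx
    obtain ⟨y, hy, z, hz, rfl⟩ := Submodule.mem_sup.1 hx
    rw [map_add]
    exact Submodule.add_mem_sup (hPst y hy) (hQst z hz)
  exact ⟨hPQ, _, Module.finBasis K(p, k) _,
    isOrdP_detCoeff_sup hτ F P Q hPst hQst hPQ hdisj bP bQ hdP hdQ _⟩

theorem exists_isOrdP_detCoeff_of_isIsoclinic (hτ : WAuto τ) (F : N →ₛₗ[τ] N) {μ : ℚ}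
    (h : IsIsoclinic F μ) {n : ℕ} (b : Module.Basis (Fin n) K(p, k) N) :
    ∃ d' : ℤ, IsOrdP (detCoeff b F) d' ∧ μ * (n : ℚ) = d' := by
  obtain ⟨M, hM, r, s, hs, hμ, hFM⟩ := h
  have h1 := isOrdP_detCoeff_of_latImg_eq hτ b F s r M hM hFM
  obtain ⟨s', rfl⟩ : ∃ s', s = s' + 1 := ⟨s - 1, by omega⟩
  have hne : detCoeff b F ≠ 0 := by
    intro h0
    have := isOrdP_ne_zero h1
    rw [detCoeff_iter_succ, h0, zero_mul] at this
    exact this rfl
  obtain ⟨d', hd'⟩ := exists_isOrdP hne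
  have h2 := isOrdP_detCoeff_iter hτ b F hd' (s' + 1)
  have h3 := isOrdP_unique h1 h2
  refine ⟨d', hd', ?_⟩
  rw [← hμ]
  have hs' : ((s' + 1 : ℕ) : ℚ) ≠ 0 := by positivity
  rw [div_mul_eq_mul_div, div_eq_iff hs']
  have : ((r * (n : ℤ) : ℤ) : ℚ) = (((s' + 1 : ℕ) : ℤ) * d' : ℤ) := by rw [h3]
  push_cast at this ⊢
  linarith

theorem ordDetOn_slopePart (hτ : WAuto τ) (F : N →ₛₗ[τ] N) [Module.Finite K(p, k) N] (μ : ℚ) :
    ∃ d : ℤ, OrdDetOn F (slopePart F μ) d ∧ (d : ℚ) = μ * (newtonMult F μ : ℚ) := by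
  obtain ⟨hst, hiso⟩ := slopePart_stable_isoOn hτ F μ
  have h1 := isIsoclinic_restrict_of_isoOn hτ F _ hst hiso
  obtain ⟨d', hd', he⟩ := exists_isOrdP_detCoeff_of_isIsoclinic hτ _ h1
    (Module.finBasis K(p, k) (slopePart F μ))
  exact ⟨d', ⟨hst, _, _, hd'⟩, he.symm⟩

theorem ordDetOn_finset_sup (hτ : WAuto τ) (F : N →ₛₗ[τ] N) [Module.Finite K(p, k) N]
    (hF : Function.Injective F) (T : Finset ℚ) :
    ∃ d : ℤ, OrdDetOn F (T.sup (slopePart F)) d ∧
      (d : ℚ) = ∑ μ ∈ T, μ * (newtonMult F μ : ℚ) := by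
  classical
  induction T using Finset.induction with
  | empty => exact ⟨0, by rw [Finset.sup_empty]; exact ordDetOn_bot F, by simp⟩
  | insert ν T hν ih =>
    obtain ⟨d₁, hd₁, he₁⟩ := ih
    obtain ⟨d₂, hd₂, he₂⟩ := ordDetOn_slopePart hτ F ν
    have hind := slopePart_supIndep hτ F hF (insert ν T)
    have hdisj : Disjoint (slopePart F ν) (T.sup (slopePart F)) :=
      hind (Finset.subset_insert ν T) (Finset.mem_insert_self ν T) hν
    refine ⟨d₂ + d₁, ?_, ?_⟩
    · rw [Finset.sup_insert]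
      exact ordDetOn_sup hτ F hd₂ hd₁ (disjoint_iff.1 hdisj)
    · rw [Finset.sum_insert hν]; push_cast; rw [he₁, he₂]

theorem finsum_mul_newtonMult (hτ : WAuto τ) (F : N →ₛₗ[τ] N) (hF : Function.Bijective F)
    [Module.Finite K(p, k) N] {n : ℕ} (b : Module.Basis (Fin n) K(p, k) N) {d : ℤ}
    (hd : IsOrdP (detCoeff b F) d) : ∑ᶠ μ : ℚ, μ * (newtonMult F μ : ℚ) = d := by
  classical
  have hint := isInternal_slopePart hτ F hF
  rw [DirectSum.isInternal_submodule_iff_iSupIndep_and_iSup_eq_top] at hint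
  obtain ⟨hind, htop⟩ := hint
  have hfin : {μ : ℚ | slopePart F μ ≠ ⊥}.Finite := WellFoundedGT.finite_ne_bot_of_iSupIndep hind
  set T := hfin.toFinset with hT
  have hsupp : Function.support (fun μ : ℚ => μ * (newtonMult F μ : ℚ)) ⊆ ↑T := by
    intro μ hμ
    rw [Function.mem_support] at hμ
    rw [hT, Set.Finite.coe_toFinset, Set.mem_ofPred_eq]
    intro hbot
    apply hμ
    unfold newtonMult
    rw [hbot]
    simp
  rw [finsum_eq_sum_of_support_subset _ hsupp]
  obtain ⟨d', hd', he⟩ := ordDetOn_finset_sup hτ F hF.injective T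
  rw [← he]
  have hTtop : T.sup (slopePart F) = ⊤ := by
    rw [eq_top_iff, ← htop]
    apply iSup_le
    intro μ
    by_cases hμ : slopePart F μ = ⊥
    · rw [hμ]; exact bot_le
    · exact Finset.le_sup (f := slopePart F) (by rw [hT, Set.Finite.mem_toFinset]; exact hμ)
  rw [hTtop] at hd'
  obtain ⟨htst, n', b', hb'⟩ := hd'
  -- transfer to the basis `b` of `N`
  let e : (⊤ : Submodule K(p, k) N) ≃ₗ[K(p, k)] N := Submodule.topEquiv
  let b'' : Module.Basis (Fin n) K(p, k) (⊤ : Submodule K(p, k) N) := b.map e.symm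
  have hn : n' = n := by
    have h1 := Module.finrank_eq_card_basis b'
    have h2 := Module.finrank_eq_card_basis b''
    simp at h1 h2
    omega
  subst hn
  have h3 := isOrdP_detCoeff_basis hτ b' b'' _ hb'
  have h4 : detCoeff b'' (F.restrict htst) = detCoeff b F := by
    unfold detCoeff
    congr 1
  rw [h4] at h3
  have := isOrdP_unique hd h3
  rw [this]

end Groth.Agent.Lib.Helper24Isoc
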