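import Mathlib
import Groth.Prelude.Def_Isoc
import Groth.Agent.Lib.Helper24IsocNewton

set_option autoImplicit false
set_option linter.unusedSectionVars false
set_option linter.unnecessarySimpa false
open scoped Pointwise Isocrystal
universe u v w

namespace Groth.Agent.Lib.Helper24Isoc

variable {p : ℕ} [Fact p.Prime] {k : Type u} [Field k] [CharP k p] [PerfectRing k p]

open Isoc Polynomial

section MatrixIntegral

variable {Ω : Type w} [Field Ω] [Algebra (WittVector p k) Ω] [Algebra K(p, k) Ω]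
  [IsScalarTower (WittVector p k) K(p, k) Ω]

/-- Eigenvalue integrality: if `c • X^s` is an invertible `W`-matrix then for each eigenvalue `α`
of `X`, `c α^s` is a unit of the integral closure. -/
theorem integral_of_root {h : ℕ} (A : Matrix (Fin h) (Fin h) (WittVector p k)) (hA : IsUnit A.det)
    (c : K(p, k)) (X : Matrix (Fin h) (Fin h) K(p, k)) (s : ℕ)
    (hX : c • X ^ s = A.map (algebraMap (WittVector p k) K(p, k)))
    (α : Ω) (hα : (X.charpoly.map (algebraMap K(p, k) Ω)).IsRoot α) :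
    algebraMap K(p, k) Ω c * α ^ s ≠ 0 ∧
    IsIntegral (WittVector p k) (algebraMap K(p, k) Ω c * α ^ s) ∧
      IsIntegral (WittVector p k) (algebraMap K(p, k) Ω c * α ^ s)⁻¹ := by
  classical
  set β := algebraMap K(p, k) Ω c * α ^ s with hβ
  set XΩ := X.map (algebraMap K(p, k) Ω) with hXΩ
  have h1 : XΩ.charpoly = X.charpoly.map (algebraMap K(p, k) Ω) := Matrix.charpoly_map X _
  have h2 : (Matrix.toLin' XΩ).charpoly = XΩ.charpoly := Matrix.charpoly_toLin' XΩ
  have hev : Module.End.HasEigenvalue (Matrix.toLin' XΩ) α := by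
    rw [Module.End.hasEigenvalue_iff_isRoot_charpoly, h2, h1]; exact hα
  obtain ⟨v, hv⟩ := hev.exists_hasEigenvector
  have hv0 : v ≠ 0 := hv.2
  have hfv : Matrix.toLin' XΩ v = α • v := hv.apply_eq_smul
  have hfs : ∀ n : ℕ, Matrix.toLin' (XΩ ^ n) v = α ^ n • v := by
    intro n
    induction n with
    | zero => simp
    | succ n ih =>
      rw [pow_succ, Matrix.toLin'_mul, LinearMap.comp_apply, hfv, map_smul, ih, smul_smul, pow_succ,
        mul_comm]
  set YΩ := (A.map (algebraMap (WittVector p k) K(p, k))).map (algebraMap K(p, k) Ω) with hYΩ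
  have hY : YΩ = algebraMap K(p, k) Ω c • XΩ ^ s := by
    have e1 : (X ^ s).map (algebraMap K(p, k) Ω) = XΩ ^ s := by
      have := map_pow ((algebraMap K(p, k) Ω).mapMatrix) X s
      simpa [RingHom.mapMatrix_apply] using this
    rw [hYΩ, ← hX, ← e1]
    ext i j
    simp only [Matrix.map_apply, Matrix.smul_apply, smul_eq_mul, map_mul]
  have hgv : Matrix.toLin' YΩ v = β • v := by
    rw [hY, map_smul, LinearMap.smul_apply, hfs, smul_smul]
  have hevβ : Module.End.HasEigenvalue (Matrix.toLin' YΩ) β :=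
    Module.End.hasEigenvalue_of_hasEigenvector ⟨Module.End.mem_eigenspace_iff.2 hgv, hv0⟩
  have hrootβ : (A.charpoly.map (algebraMap (WittVector p k) Ω)).IsRoot β := by
    rw [Module.End.hasEigenvalue_iff_isRoot_charpoly, Matrix.charpoly_toLin', hYΩ, Matrix.charpoly_map,
      Matrix.charpoly_map, Polynomial.map_map, ← IsScalarTower.algebraMap_eq] at hevβ
    exact hevβ
  have heval : eval₂ (algebraMap (WittVector p k) Ω) β A.charpoly = 0 := by
    rw [IsRoot.def, eval_map] at hrootβ; exact hrootβ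
  have hβint : IsIntegral (WittVector p k) β := ⟨A.charpoly, Matrix.charpoly_monic A, heval⟩
  -- constant coefficient
  set u := A.charpoly.coeff 0 with hu
  have huu : IsUnit u := by
    have h3 := Matrix.det_eq_sign_charpoly_coeff A
    have h5 : ((-1 : WittVector p k) ^ Fintype.card (Fin h)) * ((-1) ^ Fintype.card (Fin h)) = 1 := by
      rw [← pow_add, ← two_mul, pow_mul]; simp
    have h4 : u = (-1) ^ Fintype.card (Fin h) * A.det := by
      rw [h3, ← mul_assoc, h5, one_mul]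
    rw [h4]
    exact (IsUnit.pow _ isUnit_one.neg).mul hA
  have hsplit : eval₂ (algebraMap (WittVector p k) Ω) β A.charpoly.divX * β +
      algebraMap (WittVector p k) Ω u = 0 := by
    rw [← heval]
    conv_rhs => rw [← Polynomial.divX_mul_X_add A.charpoly]
    rw [eval₂_add, eval₂_mul, eval₂_X, eval₂_C]
  set G := eval₂ (algebraMap (WittVector p k) Ω) β A.charpoly.divX with hG
  have hGint : IsIntegral (WittVector p k) G := by
    rw [hG, ← Polynomial.aeval_def]
    have := (aeval (⟨β, hβint⟩ : integralClosure (WittVector p k) Ω) A.charpoly.divX).2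
    rwa [Polynomial.aeval_subalgebra_coe] at this
  have hunitΩ : algebraMap (WittVector p k) Ω u * algebraMap (WittVector p k) Ω (↑huu.unit⁻¹) = 1 := by
    rw [← map_mul]
    have : u * ↑huu.unit⁻¹ = 1 := by
      have := huu.unit.mul_inv
      rwa [IsUnit.unit_spec] at this
    rw [this, map_one]
  have hβ0 : β ≠ 0 := by
    intro h0
    rw [h0, mul_zero, zero_add] at hsplit
    rw [hsplit, zero_mul] at hunitΩ
    exact zero_ne_one hunitΩ
  refine ⟨hβ0, hβint, ?_⟩
  have hinv : β⁻¹ = -(G * algebraMap (WittVector p k) Ω (↑huu.unit⁻¹)) := by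
    apply inv_eq_of_mul_eq_one_left
    have h6 : G * β = -algebraMap (WittVector p k) Ω u := eq_neg_of_add_eq_zero_left hsplit
    calc -(G * algebraMap (WittVector p k) Ω (↑huu.unit⁻¹)) * β
        = -((G * β) * algebraMap (WittVector p k) Ω (↑huu.unit⁻¹)) := by ring
      _ = algebraMap (WittVector p k) Ω u * algebraMap (WittVector p k) Ω (↑huu.unit⁻¹) := by
          rw [h6]; ring
      _ = 1 := hunitΩ
  rw [hinv]
  exact (hGint.mul isIntegral_algebraMap).neg

end MatrixIntegral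


section Cond

variable {N : Type v} [AddCommGroup N] [Module (WittVector p k) N] [Module K(p, k) N]
  [IsScalarTower (WittVector p k) K(p, k) N]
variable {τ : K(p, k) →+* K(p, k)}
variable {Ω : Type w} [Field Ω] [Algebra (WittVector p k) Ω] [Algebra K(p, k) Ω]
  [IsScalarTower (WittVector p k) K(p, k) Ω]

/-- The eigenvalue condition "`ord α = μ m`". -/
def Cond (m : ℕ) (μ : ℚ) (α : Ω) : Prop :=
  IsIntegral (WittVector p k)
      (α ^ μ.den * (algebraMap K(p, k) Ω (p : K(p, k))) ^ (-(μ.num * (m : ℤ)))) ∧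
    IsIntegral (WittVector p k)
      (α ^ μ.den * (algebraMap K(p, k) Ω (p : K(p, k))) ^ (-(μ.num * (m : ℤ))))⁻¹

theorem rat_div_eq {r : ℤ} {s : ℕ} (hs : 0 < s) {ν : ℚ} (h : (r : ℚ) / s = ν) :
    ∃ t : ℕ, 0 < t ∧ s = ν.den * t ∧ r = ν.num * t := by
  have hs' : (s : ℚ) ≠ 0 := by positivity
  have hden : (ν.den : ℚ) ≠ 0 := by exact_mod_cast ν.den_nz
  have h1 : r * (ν.den : ℤ) = ν.num * (s : ℤ) := by
    have h2 : (r : ℚ) / s = (ν.num : ℚ) / ν.den := by rw [h, Rat.num_div_den]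
    rw [div_eq_div_iff hs' hden] at h2
    exact_mod_cast h2
  have hcop : IsCoprime (ν.den : ℤ) ν.num := by
    rw [Int.isCoprime_iff_gcd_eq_one, Int.gcd_comm]
    exact ν.reduced
  have hdvd : (ν.den : ℤ) ∣ (s : ℤ) := by
    apply hcop.dvd_of_dvd_mul_left
    rw [← h1]; exact Dvd.intro_left _ rfl
  obtain ⟨t, ht⟩ := Int.natCast_dvd_natCast.1 hdvd
  have ht0 : 0 < t := by
    rcases Nat.eq_zero_or_pos t with h0 | h0
    · rw [h0, mul_zero] at ht; omega
    · exact h0
  refine ⟨t, ht0, ht, ?_⟩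
  have hd : (ν.den : ℤ) ≠ 0 := by exact_mod_cast ν.den_nz
  apply mul_right_cancel₀ hd
  rw [h1, ht]; push_cast; ring

theorem cond_of_root_of_isIsoclinic (hτ : WAuto τ) [Module.Finite K(p, k) N] (F : N →ₛₗ[τ] N)
    {ν : ℚ} (h : IsIsoclinic F ν) (m : ℕ) (π : N →ₗ[K(p, k)] N) (hπ : ∀ x, π x = (⇑F)^[m] x)
    (α : Ω) (hα : (π.charpoly.map (algebraMap K(p, k) Ω)).IsRoot α) :
    α ≠ 0 ∧ Cond (p := p) (k := k) m ν α := by
  classical
  obtain ⟨M, hM, r, s, hs, hν, hFM⟩ := h
  have hFM' := latImg_mul_eq hτ F M hFM m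
  obtain ⟨β⟩ := exists_lattice_basis (Module.finBasis K(p, k) N) M hM
  have := hM
  obtain ⟨mf, hmf, hmat⟩ := exists_mat_of_latImg_le F (m * s) ((m : ℤ) * r) M β hFM'.le
  have hspan := (latImg_eq_pPow_iff_span hτ F (m * s) ((m : ℤ) * r) M β mf hmf).1 hFM'
  have hdet := (isUnit_det_iff_span M β mf).2 hspan
  set B := β.extendOfIsLattice K(p, k) with hB
  set X := LinearMap.toMatrix B B π with hX
  have hpow : ∀ x, (π ^ s) x = (⇑F)^[m * s] x := by
    intro x
    rw [Module.End.pow_apply, Function.iterate_mul]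
    have : (⇑π : N → N) = (⇑F)^[m] := funext hπ
    rw [this]
  have hXs : X ^ s = mat B (iter F (m * s)) := by
    rw [hX, LinearMap.toMatrix_pow]
    ext i j
    rw [LinearMap.toMatrix_apply, hpow]
    rfl
  have hc : ((p : K(p, k)) ^ ((m : ℤ) * r))⁻¹ • X ^ s =
      (β.toMatrix mf).map (algebraMap (WittVector p k) K(p, k)) := by
    rw [hXs, hmat, smul_smul, inv_mul_cancel₀ (zpow_ne_zero' _), one_smul]
  have hα' : ((X.charpoly).map (algebraMap K(p, k) Ω)).IsRoot α := by
    rw [hX, LinearMap.charpoly_toMatrix]; exact hα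
  obtain ⟨h0, h1, h2⟩ := integral_of_root (β.toMatrix mf) hdet _ X s hc α hα'
  obtain ⟨t, ht0, hst, hrt⟩ := rat_div_eq hs hν
  set P := algebraMap K(p, k) Ω (p : K(p, k)) with hP
  have hP0 : P ≠ 0 := by
    rw [hP, Ne, map_eq_zero]; exact pK_ne_zero
  have hγ : algebraMap K(p, k) Ω ((p : K(p, k)) ^ ((m : ℤ) * r))⁻¹ * α ^ s =
      (α ^ ν.den * P ^ (-(ν.num * (m : ℤ)))) ^ t := by
    rw [map_inv₀, map_zpow₀, ← hP, mul_pow, ← pow_mul, ← hst, ← zpow_natCast (P ^ _), ← zpow_mul,
      ← zpow_neg, mul_comm]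
    congr 2
    rw [hrt]; ring
  rw [hγ] at h0 h1 h2
  refine ⟨?_, IsIntegral.of_pow ht0 h1, ?_⟩
  · rintro rfl
    apply h0
    rw [zero_pow (by have := ν.den_pos; omega), zero_mul, zero_pow (by omega)]
  · apply IsIntegral.of_pow ht0
    rw [inv_pow]; exact h2


theorem zpow_integral_nonneg {e : ℤ}
    (h : IsIntegral (WittVector p k) ((algebraMap K(p, k) Ω (p : K(p, k))) ^ e)) : 0 ≤ e := by
  rw [← map_zpow₀, isIntegral_algebraMap_iff (algebraMap K(p, k) Ω).injective,
    IsIntegrallyClosed.isIntegral_iff] at h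
  obtain ⟨y, hy⟩ := h
  have h1 : IsOrdP (algebraMap (WittVector p k) K(p, k) y) e := by rw [hy]; exact isOrdP_zpow e
  exact (isOrdP_algebraMap_nonneg h1).1

theorem cond_exp_nonneg {m : ℕ} {μ ν : ℚ} {α : Ω} (hα : α ≠ 0) (hμ : Cond (p := p) (k := k) m μ α)
    (hν : Cond (p := p) (k := k) m ν α) : 0 ≤ (m : ℤ) * (ν.num * μ.den - μ.num * ν.den) := by
  set P := algebraMap K(p, k) Ω (p : K(p, k)) with hP
  have hP0 : P ≠ 0 := by
    rw [hP, Ne, map_eq_zero]; exact pK_ne_zero
  have hgen : ∀ (a b : ℕ) (z z' : Ω), (α ^ a * z) ^ b * ((α ^ b * z')⁻¹) ^ a = z ^ b * (z' ^ a)⁻¹ := by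
    intro a b z z'
    have hα' : α ^ (a * b) ≠ 0 := pow_ne_zero _ hα
    rw [mul_pow, inv_pow, mul_pow, ← pow_mul, ← pow_mul, mul_comm b a, mul_inv]
    field_simp
  have hint : IsIntegral (WittVector p k)
      ((α ^ μ.den * P ^ (-(μ.num * (m : ℤ)))) ^ ν.den *
        ((α ^ ν.den * P ^ (-(ν.num * (m : ℤ))))⁻¹) ^ μ.den) :=
    (hμ.1.pow _).mul (hν.2.pow _)
  rw [hgen, ← zpow_natCast (P ^ _), ← zpow_natCast (P ^ _), ← zpow_mul, ← zpow_mul, ← zpow_neg,
    ← zpow_add₀ hP0] at hint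
  have := zpow_integral_nonneg hint
  linarith

theorem cond_unique {m : ℕ} (hm : 0 < m) {μ ν : ℚ} {α : Ω} (hα : α ≠ 0)
    (hμ : Cond (p := p) (k := k) m μ α) (hν : Cond (p := p) (k := k) m ν α) : μ = ν := by
  have h1 := cond_exp_nonneg hα hμ hν
  have h2 := cond_exp_nonneg hα hν hμ
  have hm' : (0 : ℤ) < m := by exact_mod_cast hm
  have h3 : ν.num * μ.den - μ.num * ν.den = 0 := by
    have h4 : 0 ≤ ν.num * μ.den - μ.num * ν.den := nonneg_of_mul_nonneg_right h1 hm'
    have h5 : 0 ≤ μ.num * ν.den - ν.num * μ.den := nonneg_of_mul_nonneg_right h2 hm'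
    linarith
  rw [Rat.eq_iff_mul_eq_mul]
  linarith

end Cond


section Charpoly

variable {K : Type*} [Field K] {V : Type*} [AddCommGroup V] [Module K V] [Module.Finite K V]

theorem charpoly_restrict_sup (f : V →ₗ[K] V) (P Q : Submodule K V) (hP : ∀ x ∈ P, f x ∈ P)
    (hQ : ∀ x ∈ Q, f x ∈ Q) (hPQ : ∀ x ∈ P ⊔ Q, f x ∈ P ⊔ Q) (hdisj : P ⊓ Q = ⊥) :
    (f.restrict hPQ).charpoly = (f.restrict hP).charpoly * (f.restrict hQ).charpoly := by
  classical
  let iP : P →ₗ[K] (P ⊔ Q : Submodule K V) := Submodule.inclusion le_sup_left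
  let iQ : Q →ₗ[K] (P ⊔ Q : Submodule K V) := Submodule.inclusion le_sup_right
  have hinj : Function.Injective (iP.coprod iQ) := by
    rw [← LinearMap.ker_eq_bot, LinearMap.ker_eq_bot']
    rintro ⟨x, y⟩ hxy
    have h1 : (x : V) + (y : V) = 0 := by
      have := congrArg Subtype.val hxy
      simpa [iP, iQ] using this
    have hxQ : (x : V) ∈ Q := by
      have : (x : V) = -(y : V) := eq_neg_of_add_eq_zero_left h1
      rw [this]; exact Q.neg_mem y.2
    have hx0 : (x : V) = 0 := by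
      have : (x : V) ∈ P ⊓ Q := ⟨x.2, hxQ⟩
      rw [hdisj, Submodule.mem_bot] at this
      exact this
    have hy0 : (y : V) = 0 := by rw [hx0, zero_add] at h1; exact h1
    exact Prod.ext (Subtype.ext hx0) (Subtype.ext hy0)
  have hsurj : Function.Surjective (iP.coprod iQ) := by
    rintro ⟨z, hz⟩
    obtain ⟨x, hx, y, hy, rfl⟩ := Submodule.mem_sup.1 hz
    exact ⟨(⟨x, hx⟩, ⟨y, hy⟩), Subtype.ext (by simp [iP, iQ])⟩
  let e : (P × Q) ≃ₗ[K] (P ⊔ Q : Submodule K V) := LinearEquiv.ofBijective (iP.coprod iQ) ⟨hinj, hsurj⟩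
  rw [← LinearMap.charpoly_prodMap, ← LinearEquiv.charpoly_conj e]
  congr 1
  apply LinearMap.ext
  intro z
  obtain ⟨⟨x, y⟩, rfl⟩ := e.surjective z
  rw [LinearEquiv.conj_apply_apply, LinearEquiv.symm_apply_apply]
  apply Subtype.ext
  show f ((iP.coprod iQ) (x, y) : V) = ((iP.coprod iQ) ((f.restrict hP) x, (f.restrict hQ) y) : V)
  simp [iP, iQ]

theorem charpoly_restrict_bot (f : V →ₗ[K] V) (h : ∀ x ∈ (⊥ : Submodule K V), f x ∈ (⊥ : Submodule K V)) :
    (f.restrict h).charpoly = 1 := by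
  apply Polynomial.eq_one_of_monic_natDegree_zero (LinearMap.charpoly_monic _)
  rw [LinearMap.charpoly_natDegree]
  simp

theorem charpoly_restrict_top (f : V →ₗ[K] V) (h : ∀ x ∈ (⊤ : Submodule K V), f x ∈ (⊤ : Submodule K V)) :
    (f.restrict h).charpoly = f.charpoly := by
  rw [← LinearEquiv.charpoly_conj (Submodule.topEquiv (R := K) (M := V)).symm f]
  congr 1

end Charpoly

section Main

variable {N : Type v} [AddCommGroup N] [Module (WittVector p k) N] [Module K(p, k) N]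
  [IsScalarTower (WittVector p k) K(p, k) N]
variable {τ : K(p, k) →+* K(p, k)}
variable {Ω : Type w} [Field Ω] [IsAlgClosed Ω] [Algebra (WittVector p k) Ω] [Algebra K(p, k) Ω]
  [IsScalarTower (WittVector p k) K(p, k) Ω]

open scoped Classical in
/-- Root count of the charpoly of `π` on a stable subspace. -/
def RootCount (Ω : Type w) [Field Ω] [Algebra (WittVector p k) Ω] [Algebra K(p, k) Ω]
    [Module.Finite K(p, k) N] (π : N →ₗ[K(p, k)] N) (m : ℕ) (P : Submodule K(p, k) N)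
    (c : ℚ → ℕ) : Prop :=
  ∃ hst : ∀ x ∈ P, π x ∈ P, ∀ μ : ℚ,
    Multiset.countP (fun α : Ω => Cond (p := p) (k := k) m μ α)
      (((π.restrict hst).charpoly.map (algebraMap K(p, k) Ω)).roots) = c μ

variable [Module.Finite K(p, k) N]

theorem rootCount_bot (π : N →ₗ[K(p, k)] N) (m : ℕ) :
    RootCount Ω π m (⊥ : Submodule K(p, k) N) (fun _ => 0) := by
  refine ⟨fun x hx => by rw [Submodule.mem_bot] at hx; rw [hx, map_zero]; exact Submodule.zero_mem _,
    fun μ => ?_⟩
  rw [charpoly_restrict_bot]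
  simp

theorem rootCount_sup (π : N →ₗ[K(p, k)] N) (m : ℕ) {P Q : Submodule K(p, k) N} {c c' : ℚ → ℕ}
    (hP : RootCount Ω π m P c) (hQ : RootCount Ω π m Q c') (hdisj : P ⊓ Q = ⊥) :
    RootCount Ω π m (P ⊔ Q) (fun μ => c μ + c' μ) := by
  obtain ⟨hPst, hc⟩ := hP
  obtain ⟨hQst, hc'⟩ := hQ
  have hPQ : ∀ x ∈ P ⊔ Q, π x ∈ P ⊔ Q := by
    intro x hx
    obtain ⟨y, hy, z, hz, rfl⟩ := Submodule.mem_sup.1 hx
    rw [map_add]
    exact Submodule.add_mem_sup (hPst y hy) (hQst z hz)
  refine ⟨hPQ, fun μ => ?_⟩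
  rw [charpoly_restrict_sup π P Q hPst hQst hPQ hdisj, Polynomial.map_mul, Polynomial.roots_mul,
    Multiset.countP_add, hc, hc']
  apply mul_ne_zero
  · exact ((LinearMap.charpoly_monic _).map _).ne_zero
  · exact ((LinearMap.charpoly_monic _).map _).ne_zero

theorem rootCount_slopePart (hτ : WAuto τ) (F : N →ₛₗ[τ] N) {m : ℕ} (hm : 0 < m)
    (π : N →ₗ[K(p, k)] N) (hπ : ∀ x, π x = (⇑F)^[m] x) (ν : ℚ) :
    RootCount Ω π m (slopePart F ν) (fun μ => if μ = ν then newtonMult F ν else 0) := by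
  classical
  obtain ⟨hFst, hiso⟩ := slopePart_stable_isoOn hτ F ν
  have h1 := isIsoclinic_restrict_of_isoOn hτ F _ hFst hiso
  have hit : ∀ (n : ℕ) (x : N), x ∈ slopePart F ν → (⇑F)^[n] x ∈ slopePart F ν := by
    intro n
    induction n with
    | zero => intro x hx; exact hx
    | succ n ih => intro x hx; rw [Function.iterate_succ_apply']; exact hFst _ (ih x hx)
  have hst : ∀ x ∈ slopePart F ν, π x ∈ slopePart F ν := by
    intro x hx; rw [hπ]; exact hit m x hx
  have hπ' : ∀ x : slopePart F ν, (π.restrict hst) x = (⇑(F.restrict hFst))^[m] x := by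
    intro x
    apply Subtype.ext
    rw [restrict_iterate]
    exact hπ x
  have hroots : ∀ α ∈ ((π.restrict hst).charpoly.map (algebraMap K(p, k) Ω)).roots,
      α ≠ 0 ∧ Cond (p := p) (k := k) m ν α := by
    intro α hα
    exact cond_of_root_of_isIsoclinic hτ (F.restrict hFst) h1 m (π.restrict hst) hπ' α
      (Polynomial.isRoot_of_mem_roots hα)
  refine ⟨hst, fun μ => ?_⟩
  beta_reduce
  by_cases hμ : μ = ν
  · rw [if_pos hμ, hμ, Multiset.countP_eq_card.2 (fun α hα => (hroots α hα).2),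
      ← (IsAlgClosed.splits _).natDegree_eq_card_roots, Polynomial.natDegree_map,
      LinearMap.charpoly_natDegree]
    rfl
  · rw [if_neg hμ, Multiset.countP_eq_zero]
    intro α hα hc
    exact hμ (cond_unique hm (hroots α hα).1 hc (hroots α hα).2)

theorem rootCount_finset_sup (hτ : WAuto τ) (F : N →ₛₗ[τ] N) (hF : Function.Injective F) {m : ℕ}
    (hm : 0 < m) (π : N →ₗ[K(p, k)] N) (hπ : ∀ x, π x = (⇑F)^[m] x) (T : Finset ℚ) :
    RootCount Ω π m (T.sup (slopePart F)) (fun μ => if μ ∈ T then newtonMult F μ else 0) := by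
  classical
  induction T using Finset.induction with
  | empty =>
    rw [Finset.sup_empty]
    simpa using rootCount_bot (Ω := Ω) π m
  | insert ν T hν ih =>
    have hind := slopePart_supIndep hτ F hF (insert ν T)
    have hdisj : Disjoint (slopePart F ν) (T.sup (slopePart F)) :=
      hind (Finset.subset_insert ν T) (Finset.mem_insert_self ν T) hν
    have h2 := rootCount_sup π m (rootCount_slopePart (Ω := Ω) hτ F hm π hπ ν) ih (disjoint_iff.1 hdisj)
    rw [Finset.sup_insert]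
    convert h2 using 2 with μ
    by_cases h : μ = ν
    · subst h; simp [hν]
    · simp [h]

open scoped Classical in
theorem newtonMult_eq_countP (hτ : WAuto τ) (F : N →ₛₗ[τ] N) (hF : Function.Bijective F) {m : ℕ}
    (hm : 0 < m) (π : N →ₗ[K(p, k)] N) (hπ : ∀ x, π x = (⇑F)^[m] x) (μ : ℚ) :
    newtonMult F μ =
      Multiset.countP (fun α : Ω => Cond (p := p) (k := k) m μ α)
        ((π.charpoly.map (algebraMap K(p, k) Ω)).roots) := by
  have hint := isInternal_slopePart hτ F hF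
  rw [DirectSum.isInternal_submodule_iff_iSupIndep_and_iSup_eq_top] at hint
  obtain ⟨hind, htop⟩ := hint
  have hfin : {μ : ℚ | slopePart F μ ≠ ⊥}.Finite := WellFoundedGT.finite_ne_bot_of_iSupIndep hind
  set T := hfin.toFinset with hT
  have hTtop : T.sup (slopePart F) = ⊤ := by
    rw [eq_top_iff, ← htop]
    apply iSup_le
    intro μ
    by_cases hμ : slopePart F μ = ⊥
    · rw [hμ]; exact bot_le
    · exact Finset.le_sup (f := slopePart F) (by rw [hT, Set.Finite.mem_toFinset]; exact hμ)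
  obtain ⟨hst, hc⟩ := rootCount_finset_sup (Ω := Ω) hτ F hF.injective hm π hπ T
  have h1 := hc μ
  have h2 : ∀ (Q : Submodule K(p, k) N) (hQ : Q = ⊤) (hst : ∀ x ∈ Q, π x ∈ Q),
      (π.restrict hst).charpoly = π.charpoly := by
    intro Q hQ hst
    subst hQ
    exact charpoly_restrict_top π hst
  rw [h2 _ hTtop hst] at h1
  rw [h1]
  beta_reduce
  by_cases hμ : μ ∈ T
  · rw [if_pos hμ]
  · rw [if_neg hμ]
    rw [hT, Set.Finite.mem_toFinset, Set.mem_ofPred_eq, not_not] at hμ
    unfold newtonMult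
    rw [hμ]
    simp

end Main

end Groth.Agent.Lib.Helper24Isoc
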