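import Mathlib

set_option autoImplicit false
set_option linter.unusedSectionVars false

open Polynomial

namespace Groth.Agent.Lib.Helper24Lang

universe u v

section ModP

variable {k : Type u} [Field k] [IsAlgClosed k] {q : ℕ}
  {ρ : k →+* k}
variable {V : Type v} [AddCommGroup V] [Module k V]

/-- Artin–Schreier. -/
theorem exists_pow_sub_eq (hq : 2 ≤ q) (c : k) : ∃ d : k, d ^ q - d = c := by
  have hdeg : (X ^ q - (X + C c) : k[X]).degree ≠ 0 := by
    have h1 : (X + C c : k[X]).degree < (X ^ q : k[X]).degree := by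
      rw [degree_X_pow]
      calc (X + C c : k[X]).degree ≤ 1 := by
            rw [← degree_X (R := k)]
            exact (degree_add_le _ _).trans (max_le le_rfl (by rw [degree_X]; exact degree_C_le.trans zero_le_one))
        _ < (q : WithBot ℕ) := by exact_mod_cast hq
    rw [degree_sub_eq_left_of_degree_lt h1, degree_X_pow]
    exact_mod_cast (by omega : q ≠ 0)
  obtain ⟨d, hd⟩ := IsAlgClosed.exists_root _ hdeg
  refine ⟨d, ?_⟩
  simp only [IsRoot.def, eval_sub, eval_pow, eval_X, eval_add, eval_C] at hd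
  linear_combination hd

/-- Linear independence of a sequence none of whose members is in the span of the previous ones. -/
theorem li_of_not_mem (u : ℕ → V) (m : ℕ)
    (h : ∀ i < m, u i ∉ Submodule.span k (u '' Set.Iio i)) :
    LinearIndependent k (fun i : Fin m => u i) := by
  induction m with
  | zero => exact linearIndependent_empty_type
  | succ m ih =>
    rw [linearIndependent_finSucc']
    have hinit : Fin.init (fun i : Fin (m + 1) => u i) = fun i : Fin m => u i := by
      funext i; simp [Fin.init]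
    rw [hinit]
    refine ⟨ih (fun i hi => h i (by omega)), ?_⟩
    have hr : Set.range (fun i : Fin m => u i) = u '' Set.Iio m := by
      ext x
      constructor
      · rintro ⟨i, rfl⟩; exact ⟨i, i.2, rfl⟩
      · rintro ⟨i, hi, rfl⟩; exact ⟨⟨i, hi⟩, rfl⟩
    rw [hr]
    exact h m (by omega)


/-- The additive polynomials expressing the coordinates of a fixed vector in a cyclic basis. -/
noncomputable def cpoly (q : ℕ) (a : ℕ → k) : ℕ → k[X]
  | 0 => C (a 0) * X ^ q
  | (i + 1) => (cpoly q a i) ^ q + C (a (i + 1)) * X ^ q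

theorem X_pow_dvd_cpoly (hq : 2 ≤ q) (a : ℕ → k) (i : ℕ) : (X : k[X]) ^ q ∣ cpoly q a i := by
  induction i with
  | zero => exact Dvd.intro_left _ rfl
  | succ i ih =>
    show X ^ q ∣ (cpoly q a i) ^ q + C (a (i + 1)) * X ^ q
    exact dvd_add (ih.trans (dvd_pow_self _ (by omega))) (Dvd.intro_left _ rfl)

theorem cpoly_eq_zero_imp (hq : 2 ≤ q) (a : ℕ → k) (i : ℕ) (h : cpoly q a i = 0) :
    ∀ l ≤ i, a l = 0 := by
  induction i with
  | zero =>
    intro l hl
    obtain rfl : l = 0 := by omega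
    have h' : C (a 0) * X ^ q = (0 : k[X]) := h
    rw [mul_eq_zero] at h'
    rcases h' with h' | h'
    · exact C_eq_zero.1 h'
    · exact absurd h' (pow_ne_zero _ X_ne_zero)
  | succ i ih =>
    have h' : (cpoly q a i) ^ q + C (a (i + 1)) * X ^ q = (0 : k[X]) := h
    by_cases hP : cpoly q a i = 0
    · rw [hP, zero_pow (by omega), zero_add, mul_eq_zero] at h'
      have ha : a (i + 1) = 0 := by
        rcases h' with h' | h'
        · exact C_eq_zero.1 h'
        · exact absurd h' (pow_ne_zero _ X_ne_zero)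
      intro l hl
      rcases Nat.lt_or_ge l (i + 1) with hlt | hge
      · exact ih hP l (by omega)
      · obtain rfl : l = i + 1 := by omega
        exact ha
    · exfalso
      have hdeg : q ≤ (cpoly q a i).natDegree := by
        obtain ⟨H, hH⟩ := X_pow_dvd_cpoly hq a i
        have hH0 : H ≠ 0 := by rintro rfl; rw [mul_zero] at hH; exact hP hH
        rw [hH, natDegree_mul (pow_ne_zero _ X_ne_zero) hH0, natDegree_X_pow]
        omega
      have h1 : (C (a (i + 1)) * X ^ q : k[X]).natDegree < ((cpoly q a i) ^ q).natDegree := by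
        rw [natDegree_pow]
        calc (C (a (i + 1)) * X ^ q : k[X]).natDegree ≤ q := natDegree_C_mul_X_pow_le _ _
          _ < q * q := by nlinarith
          _ ≤ q * (cpoly q a i).natDegree := Nat.mul_le_mul_left _ hdeg
      have h2 := natDegree_add_eq_left_of_natDegree_lt h1
      rw [h', natDegree_zero, natDegree_pow] at h2
      have : 0 < q * (cpoly q a i).natDegree := Nat.mul_pos (by omega) (by omega)
      omega

theorem exists_root_ne_zero (R : k[X]) (h0 : R.coeff 0 = 0) (h1 : R.coeff 1 ≠ 0)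
    (h2 : 2 ≤ R.natDegree) : ∃ t : k, t ≠ 0 ∧ R.eval t = 0 := by
  have hS : R = R.divX * X := by
    conv_lhs => rw [← divX_mul_X_add R, h0, C_0, add_zero]
  have hc : R.divX.coeff 0 = R.coeff 1 := by rw [coeff_divX]
  have hdeg : R.divX.degree ≠ 0 := by
    have hnd : R.divX.natDegree = R.natDegree - 1 := natDegree_divX_eq_natDegree_tsub_one
    have hne : R.divX ≠ 0 := by
      intro h; rw [h, coeff_zero] at hc; exact h1 hc.symm
    rw [degree_eq_natDegree hne, hnd]
    exact_mod_cast (by omega : R.natDegree - 1 ≠ 0)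
  obtain ⟨t, ht⟩ := IsAlgClosed.exists_root _ hdeg
  refine ⟨t, ?_, ?_⟩
  · rintro rfl
    rw [IsRoot.def, ← coeff_zero_eq_eval_zero, hc] at ht
    exact h1 ht
  · rw [hS, eval_mul, ht, zero_mul]

/-- Key solvability: there is `t ≠ 0` with `c_{j}(t) = t`. -/
theorem exists_cpoly_eval_eq (hq : 2 ≤ q) (a : ℕ → k) (j : ℕ) (ha : ∃ l ≤ j, a l ≠ 0) :
    ∃ t : k, t ≠ 0 ∧ (cpoly q a j).eval t = t := by
  have hP : cpoly q a j ≠ 0 := by
    intro h
    obtain ⟨l, hl, hal⟩ := ha
    exact hal (cpoly_eq_zero_imp hq a j h l hl)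
  have hcoeff : ∀ n < q, (cpoly q a j).coeff n = 0 := X_pow_dvd_iff.1 (X_pow_dvd_cpoly hq a j)
  have hdeg : q ≤ (cpoly q a j).natDegree := by
    obtain ⟨H, hH⟩ := X_pow_dvd_cpoly hq a j
    have hH0 : H ≠ 0 := by rintro rfl; rw [mul_zero] at hH; exact hP hH
    rw [hH, natDegree_mul (pow_ne_zero _ X_ne_zero) hH0, natDegree_X_pow]
    omega
  obtain ⟨t, ht0, ht⟩ := exists_root_ne_zero (cpoly q a j - X)
    (by rw [coeff_sub, hcoeff 0 (by omega), coeff_X_zero, sub_zero])
    (by rw [coeff_sub, hcoeff 1 (by omega), coeff_X_one, zero_sub]; exact neg_ne_zero.2 one_ne_zero)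
    (by
      rw [natDegree_sub_eq_left_of_natDegree_lt (by rw [natDegree_X]; omega)]
      omega)
  refine ⟨t, ht0, ?_⟩
  rw [eval_sub, eval_X, sub_eq_zero] at ht
  exact ht


/-- A `q`-semilinear injective endomorphism of a nonzero finite-dimensional space over an
algebraically closed field has a nonzero fixed vector. -/
theorem exists_fixed_ne_zero (hq : 2 ≤ q) (hρ : ∀ x, ρ x = x ^ q) [FiniteDimensional k V]
    [Nontrivial V] (φ : V →ₛₗ[ρ] V) (hφ : Function.Injective φ) :
    ∃ x : V, x ≠ 0 ∧ φ x = x := by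
  classical
  obtain ⟨v, hv⟩ := exists_ne (0 : V)
  set u : ℕ → V := fun i => (⇑φ)^[i] v with hu
  have hu_succ : ∀ i, u (i + 1) = φ (u i) := fun i => Function.iterate_succ_apply' _ _ _
  have hu_ne : ∀ i, u i ≠ 0 := by
    intro i
    induction i with
    | zero => exact hv
    | succ i ih =>
      rw [hu_succ]
      intro h
      exact ih (hφ (by rw [h, map_zero]))
  have hex : ∃ j, u j ∈ Submodule.span k (u '' Set.Iio j) := by
    by_contra hcon
    push Not at hcon
    have hli := li_of_not_mem u (Module.finrank k V + 1) (fun i _ => hcon i)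
    have := hli.fintype_card_le_finrank
    simp at this
  have hj : u (Nat.find hex) ∈ Submodule.span k (u '' Set.Iio (Nat.find hex)) := Nat.find_spec hex
  have hmin : ∀ i < Nat.find hex, u i ∉ Submodule.span k (u '' Set.Iio i) :=
    fun i hi => Nat.find_min hex hi
  generalize Nat.find hex = j at hj hmin
  have hj0 : j ≠ 0 := by
    rintro rfl
    have : Set.Iio (0 : ℕ) = ∅ := by ext x; simp
    rw [this, Set.image_empty, Submodule.span_empty, Submodule.mem_bot] at hj
    exact hu_ne 0 hj
  obtain ⟨j', rfl⟩ : ∃ j', j = j' + 1 := Nat.exists_eq_succ_of_ne_zero hj0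
  have hli : LinearIndependent k (fun i : Fin (j' + 1) => u i) := li_of_not_mem u (j' + 1) hmin
  have hr : u '' Set.Iio (j' + 1) = Set.range (fun i : Fin (j' + 1) => u i) := by
    ext x
    constructor
    · rintro ⟨i, hi, rfl⟩; exact ⟨⟨i, hi⟩, rfl⟩
    · rintro ⟨i, rfl⟩; exact ⟨i, i.2, rfl⟩
  rw [hr, Submodule.mem_span_range_iff_exists_fun] at hj
  obtain ⟨a', ha'⟩ := hj
  set a : ℕ → k := fun i => if h : i < j' + 1 then a' ⟨i, h⟩ else 0 with ha
  have hsum : u (j' + 1) = ∑ i ∈ Finset.range (j' + 1), a i • u i := by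
    rw [Finset.sum_range, ← ha']
    refine Finset.sum_congr rfl (fun i _ => ?_)
    have hi : (i : ℕ) < j' + 1 := i.2
    simp only [ha, dif_pos hi]
  have hane : ∃ l ≤ j', a l ≠ 0 := by
    by_contra hcon
    push Not at hcon
    apply hu_ne (j' + 1)
    rw [hsum]
    apply Finset.sum_eq_zero
    intro i hi
    rw [hcon i (by rw [Finset.mem_range] at hi; omega), zero_smul]
  obtain ⟨t, ht0, ht⟩ := exists_cpoly_eval_eq hq a j' hane
  set c : ℕ → k := fun i => (cpoly q a i).eval t with hc
  have hc0 : c 0 = a 0 * t ^ q := by simp [hc, cpoly]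
  have hcs : ∀ i, c (i + 1) = (c i) ^ q + a (i + 1) * t ^ q := by intro i; simp [hc, cpoly]
  have hct : c j' = t := ht
  refine ⟨∑ i ∈ Finset.range (j' + 1), c i • u i, ?_, ?_⟩
  · intro h0
    rw [Finset.sum_range] at h0
    have := (linearIndependent_iff'.1 hli) Finset.univ (fun i => c i) h0 ⟨j', by omega⟩
      (Finset.mem_univ _)
    exact ht0 (hct ▸ this)
  · rw [map_sum]
    simp only [map_smulₛₗ, hρ, ← hu_succ]
    rw [Finset.sum_range_succ, Finset.sum_range_succ' (fun i => c i • u i)]
    have hsum' : u (j' + 1) = ∑ i ∈ Finset.range j', a (i + 1) • u (i + 1) + a 0 • u 0 := by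
      rw [hsum, Finset.sum_range_succ']
    rw [hsum', hct, hc0]
    simp only [hcs, add_smul, Finset.sum_add_distrib, smul_add, Finset.smul_sum, smul_smul]
    have e1 : ∀ i, (t ^ q * a (i + 1)) • u (i + 1) = (a (i + 1) * t ^ q) • u (i + 1) := by
      intro i; rw [mul_comm]
    simp only [e1]
    rw [mul_comm (t ^ q) (a 0)]
    abel


/-- The span of the fixed vectors. -/
def fixedSpan (φ : V →ₛₗ[ρ] V) : Submodule k V := Submodule.span k {x | φ x = x}

theorem fixedSpan_stable (φ : V →ₛₗ[ρ] V) : ∀ z ∈ fixedSpan φ, φ z ∈ fixedSpan φ := by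
  intro z hz
  unfold fixedSpan at hz ⊢
  induction hz using Submodule.span_induction with
  | mem x hx => rw [hx]; exact Submodule.subset_span hx
  | zero => rw [map_zero]; exact Submodule.zero_mem _
  | add x y _ _ hx hy => rw [map_add]; exact Submodule.add_mem _ hx hy
  | smul c x _ hx => rw [map_smulₛₗ]; exact Submodule.smul_mem _ _ hx

theorem exists_preimage_of_mem_fixedSpan (hρs : Function.Surjective ρ) (φ : V →ₛₗ[ρ] V) :
    ∀ z ∈ fixedSpan φ, ∃ y ∈ fixedSpan φ, φ y = z := by
  intro z hz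
  unfold fixedSpan at hz ⊢
  induction hz using Submodule.span_induction with
  | mem x hx => exact ⟨x, Submodule.subset_span hx, hx⟩
  | zero => exact ⟨0, Submodule.zero_mem _, map_zero _⟩
  | add x y _ _ hx hy =>
    obtain ⟨x', hx', rfl⟩ := hx
    obtain ⟨y', hy', rfl⟩ := hy
    exact ⟨x' + y', Submodule.add_mem _ hx' hy', map_add _ _ _⟩
  | smul c x _ hx =>
    obtain ⟨x', hx', rfl⟩ := hx
    obtain ⟨c', rfl⟩ := hρs c
    exact ⟨c' • x', Submodule.smul_mem _ _ hx', map_smulₛₗ _ _ _⟩

theorem exists_sub_of_mem_fixedSpan (hq : 2 ≤ q) (hρ : ∀ x, ρ x = x ^ q) (φ : V →ₛₗ[ρ] V) :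
    ∀ z ∈ fixedSpan φ, ∃ w ∈ fixedSpan φ, φ w - w = z := by
  intro z hz
  unfold fixedSpan at hz
  rw [Submodule.mem_span_iff_exists_finset_subset] at hz
  obtain ⟨f, t, hts, _, rfl⟩ := hz
  choose d hd using fun e : V => exists_pow_sub_eq hq (f e)
  refine ⟨∑ e ∈ t, d e • e, ?_, ?_⟩
  · apply Submodule.sum_mem
    intro e he
    exact Submodule.smul_mem _ _ (Submodule.subset_span (hts he))
  · rw [map_sum, ← Finset.sum_sub_distrib]
    refine Finset.sum_congr rfl (fun e he => ?_)
    have hfix : φ e = e := hts he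
    rw [map_smulₛₗ, hfix, hρ, ← sub_smul, hd]

theorem fixedSpan_eq_top (hq : 2 ≤ q) (hρ : ∀ x, ρ x = x ^ q) (hρs : Function.Surjective ρ)
    [FiniteDimensional k V] (φ : V →ₛₗ[ρ] V) (hφ : Function.Injective φ) : fixedSpan φ = ⊤ := by
  by_contra hne
  have hnt : Nontrivial (V ⧸ fixedSpan φ) := Submodule.Quotient.nontrivial_iff.2 hne
  have hst : fixedSpan φ ≤ (fixedSpan φ).comap φ := fun z hz => fixedSpan_stable φ z hz
  let φ' : (V ⧸ fixedSpan φ) →ₛₗ[ρ] (V ⧸ fixedSpan φ) := (fixedSpan φ).mapQ (fixedSpan φ) φ hst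
  have hφ' : Function.Injective φ' := by
    rw [injective_iff_map_eq_zero]
    intro x
    induction x using Submodule.Quotient.induction_on with
    | H x =>
      intro h
      have h1 : φ x ∈ fixedSpan φ := by
        rw [← Submodule.Quotient.mk_eq_zero]
        exact h
      obtain ⟨y, hy, hyx⟩ := exists_preimage_of_mem_fixedSpan hρs φ _ h1
      rw [← hφ hyx]
      exact (Submodule.Quotient.mk_eq_zero _).2 hy
  obtain ⟨y', hy0, hyfix⟩ := exists_fixed_ne_zero hq hρ φ' hφ'
  induction y' using Submodule.Quotient.induction_on with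
  | H y =>
    have h1 : φ y - y ∈ fixedSpan φ := by
      rw [← Submodule.Quotient.mk_eq_zero, Submodule.Quotient.mk_sub, sub_eq_zero]
      exact hyfix
    obtain ⟨w, hw, hwy⟩ := exists_sub_of_mem_fixedSpan hq hρ φ _ h1
    have h2 : φ (y - w) = y - w := by
      rw [map_sub]
      have : φ y - φ w = (φ y - y) - (φ w - w) + (y - w) := by abel
      rw [this, hwy, sub_self, zero_add]
    have h3 : y - w ∈ fixedSpan φ := Submodule.subset_span h2
    have h4 : y ∈ fixedSpan φ := by
      have : y = (y - w) + w := by abel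
      rw [this]; exact Submodule.add_mem _ h3 hw
    exact hy0 ((Submodule.Quotient.mk_eq_zero _).2 h4)

/-- `φ - 1` is surjective. -/
theorem exists_sub_eq (hq : 2 ≤ q) (hρ : ∀ x, ρ x = x ^ q) (hρs : Function.Surjective ρ)
    [FiniteDimensional k V] (φ : V →ₛₗ[ρ] V) (hφ : Function.Injective φ) (z : V) :
    ∃ w : V, φ w - w = z := by
  obtain ⟨w, _, hw⟩ := exists_sub_of_mem_fixedSpan hq hρ φ z
    (by rw [fixedSpan_eq_top hq hρ hρs φ hφ]; exact Submodule.mem_top)
  exact ⟨w, hw⟩

/-- A basis of fixed vectors. -/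
theorem exists_basis_fixed (hq : 2 ≤ q) (hρ : ∀ x, ρ x = x ^ q) (hρs : Function.Surjective ρ)
    [FiniteDimensional k V] (φ : V →ₛₗ[ρ] V) (hφ : Function.Injective φ) :
    ∃ b : Module.Basis (Fin (Module.finrank k V)) k V, ∀ i, φ (b i) = b i := by
  classical
  have htop := fixedSpan_eq_top hq hρ hρs φ hφ
  unfold fixedSpan at htop
  obtain ⟨s, hs, hspan, hli⟩ := exists_linearIndependent k {x : V | φ x = x}
  rw [htop] at hspan
  let b0 : Module.Basis s k V := Module.Basis.mk hli (by rw [Subtype.range_coe_subtype]; simpa using hspan.ge)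
  have hfin : Fintype s := FiniteDimensional.fintypeBasisIndex b0
  have hcard : Fintype.card s = Module.finrank k V := (Module.finrank_eq_card_basis b0).symm
  let e : s ≃ Fin (Module.finrank k V) := Fintype.equivFinOfCardEq hcard
  refine ⟨b0.reindex e, fun i => ?_⟩
  rw [Module.Basis.reindex_apply, Module.Basis.mk_apply]
  exact hs (e.symm i).2

end ModP

end Groth.Agent.Lib.Helper24Lang
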