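import Mathlib
import Groth.Prelude.Def_Isoc
import Groth.Agent.Lib.Helper24Lang
import Groth.Agent.Lib.Helper24IsocFitting

set_option autoImplicit false
set_option linter.unusedSectionVars false
set_option linter.unnecessarySimpa false
open scoped Pointwise Isocrystal
universe u v

namespace Groth.Agent.Lib.Helper24Isoc

open Groth.Agent.Lib.Helper24Lang

section WittBasics

variable {p : ℕ} [Fact p.Prime] {k : Type u} [Field k] [CharP k p] [PerfectRing k p]

theorem coeff_zero_p_mul (w : WittVector p k) : ((p : WittVector p k) * w).coeff 0 = 0 := by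
  have h := map_mul (WittVector.constantCoeff (p := p) (R := k)) (p : WittVector p k) w
  rw [map_natCast, CharP.cast_eq_zero k p, zero_mul] at h
  exact h

theorem exists_eq_p_mul_of_coeff_zero (w : WittVector p k) (h : w.coeff 0 = 0) :
    ∃ w' : WittVector p k, w = (p : WittVector p k) * w' := by
  by_cases hw : w = 0
  · exact ⟨0, by rw [hw, mul_zero]⟩
  obtain ⟨m, b, hb, rfl⟩ := WittVector.exists_eq_pow_p_mul w hw
  rcases Nat.eq_zero_or_pos m with rfl | hm
  · rw [pow_zero, one_mul] at h; exact absurd h hb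
  · exact ⟨(p : WittVector p k) ^ (m - 1) * b, by
      rw [← mul_assoc, ← pow_succ', Nat.sub_add_cancel hm]⟩

theorem eq_zero_of_forall_pow_dvd (w : WittVector p k)
    (h : ∀ m : ℕ, ∃ w' : WittVector p k, w = (p : WittVector p k) ^ m * w') : w = 0 := by
  by_contra hw
  obtain ⟨m, b, hb, rfl⟩ := WittVector.exists_eq_pow_p_mul w hw
  obtain ⟨w', hw'⟩ := h (m + 1)
  have hp : (p : WittVector p k) ^ m ≠ 0 := pow_ne_zero _ (WittVector.p_nonzero p k)
  rw [pow_succ, mul_assoc] at hw'
  have := mul_left_cancel₀ hp hw'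
  rw [this, coeff_zero_p_mul] at hb
  exact hb rfl

end WittBasics


section LangMatrix

variable {p : ℕ} [Fact p.Prime] {k : Type u} [Field k] [CharP k p] [IsAlgClosed k]
variable {n : ℕ}

/-- Reduction mod `p` of matrices. -/
noncomputable abbrev redM (X : Matrix (Fin n) (Fin n) (WittVector p k)) : Matrix (Fin n) (Fin n) k :=
  X.map (WittVector.constantCoeff (p := p) (R := k))

theorem exists_lift_matrix (Xb : Matrix (Fin n) (Fin n) k) :
    ∃ X : Matrix (Fin n) (Fin n) (WittVector p k), redM X = Xb :=
  ⟨Xb.map (WittVector.teichmuller p), by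
    ext i j
    simp [redM, WittVector.teichmuller_coeff_zero]⟩

theorem exists_p_smul_of_redM_eq_zero (Z : Matrix (Fin n) (Fin n) (WittVector p k))
    (h : redM Z = 0) : ∃ Y : Matrix (Fin n) (Fin n) (WittVector p k), Z = (p : WittVector p k) • Y := by
  have h1 : ∀ i j, ∃ w' : WittVector p k, Z i j = (p : WittVector p k) * w' := by
    intro i j
    apply exists_eq_p_mul_of_coeff_zero
    have := congrFun (congrFun h i) j
    simpa [redM] using this
  choose Y hY using h1
  exact ⟨Matrix.of Y, by ext i j; simp [hY]⟩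

theorem redM_p_smul (Y : Matrix (Fin n) (Fin n) (WittVector p k)) :
    redM ((p : WittVector p k) • Y) = 0 := by
  ext i j
  simp only [redM, Matrix.map_apply, Matrix.smul_apply, smul_eq_mul, Matrix.zero_apply]
  exact coeff_zero_p_mul _

theorem redM_map (ρW : WittVector p k →+* WittVector p k) (ρ : k →+* k)
    (hρW : ∀ w, (ρW w).coeff 0 = ρ (w.coeff 0)) (X : Matrix (Fin n) (Fin n) (WittVector p k)) :
    redM (X.map ρW) = (redM X).map ρ := by
  ext i j
  simp only [redM, Matrix.map_apply, WittVector.constantCoeff_apply]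
  exact hρW _

/-- Lang's theorem for `GL_n(W(k))` and a positive power of Frobenius. -/
theorem lang_matrix_pos (ρW : WittVector p k →+* WittVector p k) (ρ : k →+* k) {q : ℕ}
    (hq : 2 ≤ q) (hρ : ∀ x, ρ x = x ^ q) (hρs : Function.Surjective ρ)
    (hρW : ∀ w, (ρW w).coeff 0 = ρ (w.coeff 0))
    (A : Matrix (Fin n) (Fin n) (WittVector p k)) (hA : IsUnit A.det) :
    ∃ C : Matrix (Fin n) (Fin n) (WittVector p k), IsUnit C.det ∧ A * C.map ρW = C := by
  classical
  set Ab : Matrix (Fin n) (Fin n) k := redM A with hAb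
  have hAbU : IsUnit Ab := by
    rw [Matrix.isUnit_iff_isUnit_det]
    have : Ab.det = WittVector.constantCoeff A.det := by
      rw [RingHom.map_det]; rfl
    rw [this]
    exact hA.map _
  -- the semilinear map on `k^n`
  let φb : (Fin n → k) →ₛₗ[ρ] (Fin n → k) :=
    { toFun := fun x => Ab.mulVec (fun i => ρ (x i))
      map_add' := by
        intro x y
        rw [← Matrix.mulVec_add]
        congr 1
        funext i
        simp
      map_smul' := by
        intro c x
        rw [← Matrix.mulVec_smul]
        congr 1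
        funext i
        simp }
  have hφb : ∀ x, φb x = Ab.mulVec (fun i => ρ (x i)) := fun _ => rfl
  have hinj : Function.Injective φb := by
    intro x y hxy
    rw [hφb, hφb] at hxy
    have h1 := (Matrix.mulVec_injective_iff_isUnit.2 hAbU) hxy
    funext i
    exact ρ.injective (congrFun h1 i)
  obtain ⟨b, hb⟩ := exists_basis_fixed hq hρ hρs φb hinj
  let b' : Module.Basis (Fin n) k (Fin n → k) := b.reindex (finCongr (Module.finrank_fin_fun k))
  have hb' : ∀ j, φb (b' j) = b' j := by
    intro j
    rw [Module.Basis.reindex_apply]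
    exact hb _
  set Cb : Matrix (Fin n) (Fin n) k := Matrix.of (fun i j => b' j i) with hCb
  have hCbfix : Ab * Cb.map ρ = Cb := by
    ext i j
    have := congrFun (hb' j) i
    rw [hφb] at this
    rw [Matrix.mul_apply]
    simpa [Matrix.mulVec, dotProduct, hCb] using this
  have hCbU : IsUnit Cb := by
    rw [← Matrix.linearIndependent_cols_iff_isUnit]
    have : Cb.col = ⇑b' := by
      funext j i
      rfl
    rw [this]
    exact b'.linearIndependent
  -- Artin–Schreier for matrices
  have hAS : ∀ Yb : Matrix (Fin n) (Fin n) k, ∃ Xb : Matrix (Fin n) (Fin n) k,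
      Ab * Xb.map ρ - Xb = Yb := by
    intro Yb
    have h1 : ∀ j, ∃ x : Fin n → k, φb x - x = fun i => Yb i j := fun j =>
      exists_sub_eq hq hρ hρs φb hinj _
    choose x hx using h1
    refine ⟨Matrix.of (fun i j => x j i), ?_⟩
    ext i j
    have := congrFun (hx j) i
    rw [Pi.sub_apply, hφb] at this
    rw [Matrix.sub_apply, Matrix.mul_apply]
    simpa [Matrix.mulVec, dotProduct] using this
  set E : Matrix (Fin n) (Fin n) (WittVector p k) → Matrix (Fin n) (Fin n) (WittVector p k) :=
    fun C => A * C.map ρW - C with hE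
  have hρWp : ∀ m : ℕ, ρW ((p : WittVector p k) ^ m) = (p : WittVector p k) ^ m := by
    intro m; rw [map_pow, map_natCast]
  have hEadd : ∀ (C X : Matrix (Fin n) (Fin n) (WittVector p k)) (m : ℕ),
      E (C + (p : WittVector p k) ^ m • X) = E C + (p : WittVector p k) ^ m • (A * X.map ρW - X) := by
    intro C X m
    simp only [hE]
    rw [Matrix.map_add ρW (fun _ _ => map_add _ _ _), Matrix.map_smul' ρW _ _ (fun a b => map_mul ρW a b), hρWp, Matrix.mul_add,
      Matrix.mul_smul, smul_sub]
    abel
  have hredE : ∀ X : Matrix (Fin n) (Fin n) (WittVector p k),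
      redM (A * X.map ρW - X) = Ab * (redM X).map ρ - redM X := by
    intro X
    simp only [redM]
    rw [Matrix.map_sub (WittVector.constantCoeff (p := p) (R := k)) (fun _ _ => map_sub _ _ _),
      Matrix.map_mul]
    congr 2
    exact redM_map ρW ρ hρW X
  have hstep : ∀ (m : ℕ) (C : Matrix (Fin n) (Fin n) (WittVector p k)),
      (∃ Y, E C = (p : WittVector p k) ^ (m + 1) • Y) →
        ∃ C' : Matrix (Fin n) (Fin n) (WittVector p k),
        (∃ Y', E C' = (p : WittVector p k) ^ (m + 2) • Y') ∧
          ∃ X, C' = C + (p : WittVector p k) ^ (m + 1) • X := by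
    intro m C hC
    obtain ⟨Y, hY⟩ := hC
    obtain ⟨Xb, hXb⟩ := hAS (-(redM Y))
    obtain ⟨X, rfl⟩ := exists_lift_matrix (p := p) Xb
    refine ⟨C + (p : WittVector p k) ^ (m + 1) • X, ?_, X, rfl⟩
    have hZ : redM (Y + (A * X.map ρW - X)) = 0 := by
      have : redM (Y + (A * X.map ρW - X)) = redM Y + redM (A * X.map ρW - X) :=
        Matrix.map_add _ (fun _ _ => map_add _ _ _) _ _
      rw [this, hredE, hXb, add_neg_cancel]
    obtain ⟨Y', hY'⟩ := exists_p_smul_of_redM_eq_zero _ hZ
    refine ⟨Y', ?_⟩
    rw [hEadd, hY, ← smul_add, hY', smul_smul, ← pow_succ]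
  -- the starting point
  obtain ⟨C₀, hC₀⟩ := exists_lift_matrix (p := p) Cb
  have hE₀ : ∃ Y, E C₀ = (p : WittVector p k) ^ (0 + 1) • Y := by
    have : redM (E C₀) = 0 := by
      simp only [hE]
      rw [hredE, hC₀, hCbfix, sub_self]
    obtain ⟨Y, hY⟩ := exists_p_smul_of_redM_eq_zero _ this
    exact ⟨Y, by rw [hY, zero_add, pow_one]⟩
  choose! nxt hnxt using hstep
  let seq : ℕ → Matrix (Fin n) (Fin n) (WittVector p k) := fun m => Nat.rec C₀ (fun m C => nxt m C) m
  have hseq0 : seq 0 = C₀ := rfl
  have hseqs : ∀ m, seq (m + 1) = nxt m (seq m) := fun m => rfl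
  have hseq : ∀ m, ∃ Y, E (seq m) = (p : WittVector p k) ^ (m + 1) • Y := by
    intro m
    induction m with
    | zero => exact hE₀
    | succ m ih => rw [hseqs]; exact (hnxt m (seq m) ih).1
  have hdiff : ∀ m, ∃ X, seq (m + 1) = seq m + (p : WittVector p k) ^ (m + 1) • X := by
    intro m
    rw [hseqs]; exact (hnxt m (seq m) (hseq m)).2
  -- the limit
  have hlim : ∀ i j, ∃ L : WittVector p k, ∀ m : ℕ, ∃ w : WittVector p k,
      L - seq m i j = (p : WittVector p k) ^ m * w := by
    intro i j
    apply W_complete (fun m => seq m i j)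
    intro m
    obtain ⟨X, hX⟩ := hdiff m
    refine ⟨(p : WittVector p k) * X i j, ?_⟩
    show seq (m + 1) i j - seq m i j = _
    rw [hX, Matrix.add_apply, Matrix.smul_apply, smul_eq_mul, pow_succ]
    ring
  choose Lim hLim using hlim
  set C : Matrix (Fin n) (Fin n) (WittVector p k) := Matrix.of Lim with hC
  have hCdiff : ∀ m, ∃ Z : Matrix (Fin n) (Fin n) (WittVector p k),
      C = seq m + (p : WittVector p k) ^ m • Z := by
    intro m
    have h1 : ∀ i j, ∃ w : WittVector p k, Lim i j - seq m i j = (p : WittVector p k) ^ m * w :=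
      fun i j => hLim i j m
    choose Z hZ using h1
    refine ⟨Matrix.of Z, ?_⟩
    apply Matrix.ext
    intro i j
    simp only [hC, Matrix.of_apply, Matrix.add_apply, Matrix.smul_apply, smul_eq_mul]
    rw [← hZ]; ring
  have hEC : E C = 0 := by
    apply Matrix.ext
    intro i j
    rw [Matrix.zero_apply]
    apply eq_zero_of_forall_pow_dvd
    intro m
    obtain ⟨Z, hZ⟩ := hCdiff m
    obtain ⟨Y, hY⟩ := hseq m
    refine ⟨((p : WittVector p k) • Y + (A * Z.map ρW - Z)) i j, ?_⟩
    rw [hZ, hEadd, hY, pow_succ, ← smul_smul, ← smul_add, Matrix.smul_apply, smul_eq_mul]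
  refine ⟨C, ?_, ?_⟩
  · apply WittVector.isUnit_of_coeff_zero_ne_zero
    have h1 : redM C = Cb := by
      obtain ⟨Z, hZ⟩ := hCdiff 1
      obtain ⟨X, hX⟩ := hdiff 0
      rw [zero_add] at hX
      rw [hZ, hX, hseq0, pow_one]
      have e1 : redM (C₀ + (p : WittVector p k) • X + (p : WittVector p k) • Z) =
          redM C₀ + redM ((p : WittVector p k) • X) + redM ((p : WittVector p k) • Z) := by
        simp only [redM]
        rw [Matrix.map_add _ (fun _ _ => map_add _ _ _), Matrix.map_add _ (fun _ _ => map_add _ _ _)]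
      rw [e1, redM_p_smul, redM_p_smul, add_zero, add_zero, hC₀]
    have h2 : (C.det).coeff 0 = Cb.det := by
      have : WittVector.constantCoeff C.det = (redM C).det := by
        rw [RingHom.map_det]; rfl
      rw [← h1, ← this]; rfl
    rw [h2]
    exact ((Matrix.isUnit_iff_isUnit_det _).1 hCbU).ne_zero
  · have : A * C.map ρW - C = 0 := hEC
    exact sub_eq_zero.1 this

end LangMatrix


section LangSign

variable {p : ℕ} [Fact p.Prime] {k : Type u} [Field k] [CharP k p] [IsAlgClosed k]
variable {n : ℕ}

theorem frobeniusEquiv_pow_apply (m : ℕ) (w : WittVector p k) :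
    ((WittVector.frobeniusEquiv p k ^ m : WittVector p k ≃+* WittVector p k)) w =
      (WittVector.frobenius)^[m] w := by
  induction m generalizing w with
  | zero => rfl
  | succ m ih =>
    rw [pow_succ, RingAut.mul_apply, ih, Function.iterate_succ_apply]
    rfl

theorem frobeniusEquiv_pow_coeff_zero (m : ℕ) (w : WittVector p k) :
    (((WittVector.frobeniusEquiv p k ^ m : WittVector p k ≃+* WittVector p k)) w).coeff 0 =
      iterateFrobenius k p m (w.coeff 0) := by
  rw [frobeniusEquiv_pow_apply, WittVector.iterate_frobenius_coeff, iterateFrobenius_def]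

/-- Lang's theorem for `GL_n(W(k))` and a positive power of the Frobenius automorphism. -/
theorem lang_matrix_nat (m : ℕ) (hm : 0 < m) (A : Matrix (Fin n) (Fin n) (WittVector p k))
    (hA : IsUnit A.det) :
    ∃ C : Matrix (Fin n) (Fin n) (WittVector p k), IsUnit C.det ∧
      A * C.map ((WittVector.frobeniusEquiv p k ^ m : WittVector p k ≃+* WittVector p k)) = C := by
  have hp2 : 2 ≤ p := (Fact.out : p.Prime).two_le
  have hq : 2 ≤ p ^ m := by
    calc 2 ≤ p := hp2
      _ = p ^ 1 := (pow_one p).symm
      _ ≤ p ^ m := Nat.pow_le_pow_right (by omega) hm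
  exact lang_matrix_pos
    ((WittVector.frobeniusEquiv p k ^ m : WittVector p k ≃+* WittVector p k) : WittVector p k →+* WittVector p k)
    (iterateFrobenius k p m) hq (fun x => iterateFrobenius_def _ _ _)
    (bijective_iterateFrobenius k p m).surjective (fun w => frobeniusEquiv_pow_coeff_zero m w) A hA

/-- Lang's theorem for `GL_n(W(k))` and any nonzero power of the Frobenius automorphism. -/
theorem lang_matrix_int (b : ℤ) (hb : b ≠ 0) (A : Matrix (Fin n) (Fin n) (WittVector p k))
    (hA : IsUnit A.det) :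
    ∃ C : Matrix (Fin n) (Fin n) (WittVector p k), IsUnit C.det ∧
      A * C.map ((WittVector.frobeniusEquiv p k ^ b : WittVector p k ≃+* WittVector p k)) = C := by
  classical
  rcases lt_or_gt_of_ne hb with hneg | hpos
  · -- negative exponent
    obtain ⟨m, hm⟩ : ∃ m : ℕ, b = -(m : ℤ) := ⟨(-b).toNat, by omega⟩
    have hm0 : 0 < m := by omega
    set e : WittVector p k ≃+* WittVector p k := WittVector.frobeniusEquiv p k ^ m with he
    have hbe : (WittVector.frobeniusEquiv p k ^ b : WittVector p k ≃+* WittVector p k) = e⁻¹ := by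
      rw [hm, zpow_neg, zpow_natCast]
    rw [hbe]
    have hinv : ∀ w, (e⁻¹ : WittVector p k ≃+* WittVector p k) (e w) = w := fun w => by
      rw [← RingAut.mul_apply, inv_mul_cancel]; rfl
    set A' : Matrix (Fin n) (Fin n) (WittVector p k) := A.map e with hA'
    have hA'det : IsUnit A'.det := by
      have : A'.det = e A.det := by
        have := RingHom.map_det (e : WittVector p k →+* WittVector p k) A
        exact this.symm
      rw [this]
      exact hA.map e
    have hinvdet : IsUnit (A'⁻¹).det := by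
      rw [Matrix.det_nonsing_inv]
      exact (Ring.inverse_unit hA'det.unit ▸ (hA'det.unit⁻¹).isUnit : IsUnit (Ring.inverse A'.det))
    obtain ⟨C, hC, hCA⟩ := lang_matrix_nat m hm0 A'⁻¹ hinvdet
    refine ⟨C, hC, ?_⟩
    have h1 : C.map e = A' * C := by
      have := congrArg (fun X => A' * X) hCA
      simp only [← Matrix.mul_assoc, Matrix.mul_nonsing_inv _ hA'det, Matrix.one_mul] at this
      exact this
    have h2 : (C.map e).map (e⁻¹ : WittVector p k ≃+* WittVector p k) =
        (A' * C).map (e⁻¹ : WittVector p k ≃+* WittVector p k) := by rw [h1]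
    have h3 : ∀ X : Matrix (Fin n) (Fin n) (WittVector p k),
        (X.map e).map (e⁻¹ : WittVector p k ≃+* WittVector p k) = X := by
      intro X; ext i j; simp only [Matrix.map_apply]; rw [hinv]
    have h4 : (A' * C).map (e⁻¹ : WittVector p k ≃+* WittVector p k) =
        A'.map (e⁻¹ : WittVector p k ≃+* WittVector p k) *
          C.map (e⁻¹ : WittVector p k ≃+* WittVector p k) :=
      Matrix.map_mul (f := ((e⁻¹ : WittVector p k ≃+* WittVector p k) : WittVector p k →+* WittVector p k))
    rw [h3, h4, hA', h3] at h2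
    exact h2.symm
  · obtain ⟨m, hm⟩ : ∃ m : ℕ, b = (m : ℤ) := ⟨b.toNat, by omega⟩
    have hm0 : 0 < m := by omega
    rw [hm, zpow_natCast]
    exact lang_matrix_nat m hm0 A hA

end LangSign


section UnitRoot

variable {p : ℕ} [Fact p.Prime] {k : Type u} [Field k] [CharP k p] [PerfectRing k p] [IsAlgClosed k]
variable {N : Type v} [AddCommGroup N] [Module (WittVector p k) N] [Module K(p, k) N]
  [IsScalarTower (WittVector p k) K(p, k) N]
variable {τ : K(p, k) →+* K(p, k)}

open Isoc

/-- A unit-root isocrystal (`Φ M = M`, twist a nonzero power of Frobenius) over an algebraically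
closed field has a basis of `Φ`-fixed vectors. -/
theorem exists_basis_fixed_of_unitRoot [Module.Finite K(p, k) N] (hτ : WAuto τ) (b : ℤ) (hb : b ≠ 0)
    (hτb : ∀ w : WittVector p k, τ (algebraMap (WittVector p k) K(p, k) w) =
      algebraMap (WittVector p k) K(p, k) ((WittVector.frobeniusEquiv p k ^ b) w))
    (Φ : N →ₛₗ[τ] N) (M : Submodule (WittVector p k) N) (hM : M.IsLattice K(p, k))
    (hΦM : latImg Φ 1 M = M) :
    ∃ e : Module.Basis (Fin (Module.finrank K(p, k) N)) K(p, k) N, ∀ i, Φ (e i) = e i := by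
  classical
  obtain ⟨β⟩ := exists_lattice_basis (Module.finBasis K(p, k) N) M hM
  have := hM
  have h0 : pPow 0 M = M := pPow_zero M
  obtain ⟨mf, hmf, _⟩ := exists_mat_of_latImg_le Φ 1 0 M β (by rw [h0, hΦM])
  have hspan := (latImg_eq_pPow_iff_span hτ Φ 1 0 M β mf hmf).1 (by rw [h0, hΦM])
  have hdet := (isUnit_det_iff_span M β mf).2 hspan
  obtain ⟨C, hCdet, hC⟩ := lang_matrix_int b hb (β.toMatrix mf) hdet
  have hΦβ : ∀ i, Φ (β i : N) = (mf i : N) := by
    intro i
    have := hmf i
    rw [zpow_zero, one_smul, Function.iterate_one] at this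
    exact this
  have hΦsmul : ∀ (w : WittVector p k) (x : N),
      Φ (w • x) = ((WittVector.frobeniusEquiv p k ^ b : WittVector p k ≃+* WittVector p k) w) • Φ x := by
    intro w x
    rw [← algebraMap_smul K(p, k) w x, map_smulₛₗ, hτb, algebraMap_smul]
  let e' : Fin (Module.finrank K(p, k) N) → M := fun j => ∑ i, C i j • β i
  have hrepr : β.toMatrix e' = C := by
    apply Matrix.ext
    intro i j
    rw [Module.Basis.toMatrix_apply]
    show β.repr (∑ l, C l j • β l) i = C i j
    rw [Module.Basis.repr_sum_self]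
  have hbasis : LinearIndependent (WittVector p k) e' ∧
      Submodule.span (WittVector p k) (Set.range e') = ⊤ := by
    rw [β.is_basis_iff_det, Module.Basis.det_apply, hrepr]
    exact hCdet
  let eb : Module.Basis (Fin (Module.finrank K(p, k) N)) (WittVector p k) M :=
    Module.Basis.mk hbasis.1 hbasis.2.ge
  refine ⟨eb.extendOfIsLattice K(p, k), fun j => ?_⟩
  rw [Module.Basis.extendOfIsLattice_apply, Module.Basis.mk_apply]
  show Φ ((∑ i, C i j • β i : M) : N) = ((∑ i, C i j • β i : M) : N)
  rw [Submodule.coe_sum, map_sum]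
  simp only [Submodule.coe_smul, hΦsmul, hΦβ]
  have hmfi : ∀ i, (mf i : N) = ∑ l, (β.toMatrix mf) l i • (β l : N) := by
    intro i
    conv_lhs => rw [← β.sum_repr (mf i)]
    rw [Submodule.coe_sum]
    refine Finset.sum_congr rfl (fun l _ => ?_)
    rw [Submodule.coe_smul, Module.Basis.toMatrix_apply]
  simp only [hmfi, Finset.smul_sum, smul_smul]
  rw [Finset.sum_comm]
  refine Finset.sum_congr rfl (fun l _ => ?_)
  rw [← Finset.sum_smul]
  congr 1
  have := congrFun (congrFun hC l) j
  rw [Matrix.mul_apply] at this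
  rw [← this]
  refine Finset.sum_congr rfl (fun i _ => ?_)
  rw [Matrix.map_apply, mul_comm]

end UnitRoot

end Groth.Agent.Lib.Helper24Isoc
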