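import Mathlib
import Groth.Prelude.Def_Isoc
import Groth.Agent.Lib.Helper24IsocLang
import Groth.Agent.Lib.Helper24IsocNewton

set_option autoImplicit false
set_option linter.unusedSectionVars false
set_option linter.unnecessarySimpa false
open scoped Pointwise Isocrystal
universe u v

namespace Groth.Agent.Lib.Helper24Isoc

open Isoc

section BasisCompl

variable {K : Type*} [Field K] {V : Type*} [AddCommGroup V] [Module K V]

/-- Every subspace has a complement spanned by a subset of a given basis. -/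
theorem exists_isCompl_span_image {ι : Type*} (e : Module.Basis ι K V) (P : Submodule K V) :
    ∃ b : Set ι, IsCompl P (Submodule.span K (e '' b)) := by
  classical
  let v : ι → V ⧸ P := fun i => P.mkQ (e i)
  obtain ⟨b, -, -, hspan, hli⟩ := exists_linearIndepOn_extension (K := K) (v := v)
    (s := (∅ : Set ι)) (t := Set.univ) (linearIndepOn_empty K v) (Set.empty_subset _)
  refine ⟨b, ?_⟩
  have hmap : Submodule.map P.mkQ (Submodule.span K (e '' b)) = Submodule.span K (v '' b) := by
    rw [Submodule.map_span, Set.image_image]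
  constructor
  · rw [disjoint_iff, eq_bot_iff]
    rintro x ⟨hxP, hxQ⟩
    rw [SetLike.mem_coe, Finsupp.mem_span_image_iff_linearCombination] at hxQ
    obtain ⟨c, hc, rfl⟩ := hxQ
    have h0 : P.mkQ (Finsupp.linearCombination K e c) = 0 := by
      rw [Submodule.mkQ_apply, Submodule.Quotient.mk_eq_zero]; exact hxP
    have h1 : Finsupp.linearCombination K v c = 0 := by
      rw [← h0, Finsupp.linearCombination_apply, Finsupp.linearCombination_apply, Finsupp.sum, Finsupp.sum,
        map_sum]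
      refine Finset.sum_congr rfl (fun i _ => ?_)
      rw [map_smul]
    have h2 := (linearIndepOn_iff.1 hli) c hc h1
    rw [h2, map_zero]
    exact Submodule.zero_mem _
  · rw [codisjoint_iff, eq_top_iff]
    intro x _
    have h1 : P.mkQ x ∈ Submodule.span K (v '' b) := by
      have hx : x ∈ Submodule.span K (Set.range e) := by rw [e.span_eq]; trivial
      have h2 : P.mkQ x ∈ Submodule.map P.mkQ (Submodule.span K (Set.range e)) :=
        Submodule.mem_map_of_mem hx
      rw [Submodule.map_span, ← Set.range_comp] at h2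
      have h3 : Set.range (⇑P.mkQ ∘ ⇑e) = v '' Set.univ := by
        rw [Set.image_univ]; rfl
      rw [h3] at h2
      exact Submodule.span_le.2 hspan h2
    rw [← hmap] at h1
    obtain ⟨y, hy, hyx⟩ := h1
    have h4 : x - y ∈ P := by
      rw [← Submodule.Quotient.mk_eq_zero, Submodule.Quotient.mk_sub, sub_eq_zero]
      exact hyx.symm
    have : x = (x - y) + y := by abel
    rw [this]
    exact Submodule.add_mem_sup h4 hy

end BasisCompl


section CharZeroW

variable {p : ℕ} [Fact p.Prime] {k : Type u} [Field k] [CharP k p] [PerfectRing k p]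

theorem natCast_W_ne_zero {s : ℕ} (hs : s ≠ 0) : (s : WittVector p k) ≠ 0 := by
  obtain ⟨v, s', hs', rfl⟩ := Nat.exists_eq_pow_mul_and_not_dvd hs p (Fact.out : p.Prime).ne_one
  rw [Nat.cast_mul, Nat.cast_pow]
  apply mul_ne_zero (pow_ne_zero _ (WittVector.p_nonzero p k))
  intro h
  have h1 := congrArg (WittVector.constantCoeff (p := p) (R := k)) h
  rw [map_natCast, map_zero] at h1
  exact hs' ((CharP.cast_eq_zero_iff k p s').1 h1)

theorem natCast_K_ne_zero {s : ℕ} (hs : s ≠ 0) : (s : K(p, k)) ≠ 0 := by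
  have : (s : K(p, k)) = algebraMap (WittVector p k) K(p, k) (s : WittVector p k) := by
    rw [map_natCast]
  rw [this, Ne, map_eq_zero_iff _ (IsFractionRing.injective (WittVector p k) K(p, k))]
  exact natCast_W_ne_zero hs

end CharZeroW

section Maschke

variable {p : ℕ} [Fact p.Prime] {k : Type u} [Field k] [CharP k p] [PerfectRing k p]
variable {N : Type v} [AddCommGroup N] [Module (WittVector p k) N] [Module K(p, k) N]
  [IsScalarTower (WittVector p k) K(p, k) N]
variable {τ : K(p, k) →+* K(p, k)}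

theorem span_image_stable_of_fixed (F : N →ₛₗ[τ] N) {s : ℕ} (r : ℤ) {ι : Type*}
    (e : ι → N) (he : ∀ i, (⇑F)^[s] (e i) = ((p : K(p, k)) ^ r) • e i) (b : Set ι) :
    ∀ x ∈ Submodule.span K(p, k) (e '' b), (⇑F)^[s] x ∈ Submodule.span K(p, k) (e '' b) := by
  intro x hx
  rw [← iter_apply]
  induction hx using Submodule.span_induction with
  | mem x hx =>
    obtain ⟨i, hi, rfl⟩ := hx
    rw [iter_apply, he]
    exact Submodule.smul_mem _ _ (Submodule.subset_span ⟨i, hi, rfl⟩)
  | zero => rw [map_zero]; exact Submodule.zero_mem _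
  | add x y _ _ hx hy => rw [map_add]; exact Submodule.add_mem _ hx hy
  | smul c x _ hx => rw [map_smulₛₗ]; exact Submodule.smul_mem _ _ hx

/-- Maschke-type averaging: if `F^s` has a basis of eigenvectors with eigenvalue `p^r`, every
`F`-stable subspace has an `F`-stable complement. -/
theorem exists_stable_compl_of_fixed_basis (hτ : WAuto τ) [Module.Finite K(p, k) N]
    (F : N →ₛₗ[τ] N) (hF : Function.Bijective F) {s : ℕ} (hs : 0 < s) (r : ℤ) {ι : Type*}
    (e : Module.Basis ι K(p, k) N) (he : ∀ i, (⇑F)^[s] (e i) = ((p : K(p, k)) ^ r) • e i)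
    (P : Submodule K(p, k) N) (hP : ∀ x ∈ P, F x ∈ P) :
    ∃ Q : Submodule K(p, k) N, (∀ x ∈ Q, F x ∈ Q) ∧ IsCompl P Q := by
  classical
  obtain ⟨b, hb⟩ := exists_isCompl_span_image e P
  set Q₀ := Submodule.span K(p, k) (e '' b) with hQ₀
  have hQ₀st := span_image_stable_of_fixed F r e he b
  -- the projection onto `P` along `Q₀`
  let pr : N →ₗ[K(p, k)] N := P.subtype.comp (Submodule.projectionOnto P Q₀ hb)
  have hprP : ∀ x, pr x ∈ P := fun x => (Submodule.projectionOnto P Q₀ hb x).2
  have hprid : ∀ x ∈ P, pr x = x := by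
    intro x hx
    show ((Submodule.projectionOnto P Q₀ hb x : P) : N) = x
    rw [Submodule.projectionOnto_apply_of_mem_left hb hx]
  have hprQ : ∀ x ∈ Q₀, pr x = 0 := by
    intro x hx
    show ((Submodule.projectionOnto P Q₀ hb x : P) : N) = 0
    rw [(Submodule.projectionOnto_apply_eq_zero_iff hb).2 hx]; rfl
  have hPs : ∀ (i : ℕ) (x : N), x ∈ P → (⇑F)^[i] x ∈ P := by
    intro i
    induction i with
    | zero => intro x hx; exact hx
    | succ i ih => intro x hx; rw [Function.iterate_succ_apply']; exact hP _ (ih x hx)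
  have hpreq : ∀ x, (⇑F)^[s] (pr x) = pr ((⇑F)^[s] x) := by
    intro x
    have hdec : x = pr x + (x - pr x) := by abel
    have hq : x - pr x ∈ Q₀ := by
      have : x - pr x ∈ LinearMap.ker (Submodule.projectionOnto P Q₀ hb) := by
        rw [LinearMap.mem_ker, map_sub]
        apply Subtype.ext
        rw [Submodule.coe_sub]
        show pr x - pr (pr x) = 0
        rw [hprid _ (hprP x), sub_self]
      rwa [Submodule.ker_projectionOnto] at this
    conv_rhs => rw [hdec]
    rw [← iter_apply, ← iter_apply, map_add, map_add, iter_apply, iter_apply,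
      hprid _ (hPs s _ (hprP x)), hprQ _ (hQ₀st _ hq), add_zero]
  -- the inverse of `F`
  set G : N → N := Function.surjInv hF.surjective with hG
  have hFG : ∀ x, F (G x) = x := Function.surjInv_eq hF.surjective
  have hGF : ∀ x, G (F x) = x := fun x => hF.injective (hFG _)
  have hFGi : ∀ (i : ℕ) (x : N), (⇑F)^[i] (G^[i] x) = x := fun i =>
    (Function.LeftInverse.iterate (g := ⇑F) (f := G) hFG i)
  have hGFi : ∀ (i : ℕ) (x : N), G^[i] ((⇑F)^[i] x) = x := fun i =>
    (Function.LeftInverse.iterate (g := G) (f := ⇑F) hGF i)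
  have hFi_inj : ∀ i : ℕ, Function.Injective ((⇑F)^[i]) := fun i => hF.injective.iterate i
  have hGadd : ∀ (i : ℕ) (x y : N), G^[i] (x + y) = G^[i] x + G^[i] y := by
    intro i x y
    apply hFi_inj i
    rw [hFGi, ← iter_apply, map_add, iter_apply, iter_apply, hFGi, hFGi]
  have hGsmul : ∀ (i : ℕ) (a : K(p, k)) (x : N), G^[i] (((τ ^ i) a) • x) = a • G^[i] x := by
    intro i a x
    apply hFi_inj i
    rw [hFGi, ← iter_apply, map_smulₛₗ, iter_apply, hFGi]
  have hτi_surj : ∀ i : ℕ, Function.Surjective (τ ^ i) := fun i => ((hτ.pow i).bij).surjective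
  -- the conjugates
  set T : ℕ → N → N := fun i x => (⇑F)^[i] (pr (G^[i] x)) with hT
  have hTadd : ∀ i x y, T i (x + y) = T i x + T i y := by
    intro i x y
    simp only [hT]
    rw [hGadd, map_add]
    exact map_add (iter F i) _ _
  have hTsmul : ∀ i (a : K(p, k)) x, T i (a • x) = a • T i x := by
    intro i a x
    obtain ⟨a', rfl⟩ := hτi_surj i a
    simp only [hT]
    rw [hGsmul, map_smul]
    exact map_smulₛₗ (iter F i) _ _
  have hTP : ∀ i x, T i x ∈ P := fun i x => hPs i _ (hprP _)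
  have hPG : ∀ x ∈ P, G x ∈ P := by
    intro x hx
    have hsurj := surjective_of_injective hτ.bij (F.restrict hP)
      (fun a c hac => Subtype.ext (hF.injective (congrArg Subtype.val hac)))
    obtain ⟨y, hy⟩ := hsurj ⟨x, hx⟩
    have : F (y : N) = x := congrArg Subtype.val hy
    rw [← this, hGF]
    exact y.2
  have hPGi : ∀ (i : ℕ) (x : N), x ∈ P → G^[i] x ∈ P := by
    intro i
    induction i with
    | zero => intro x hx; exact hx
    | succ i ih => intro x hx; rw [Function.iterate_succ_apply']; exact hPG _ (ih x hx)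
  have hTid : ∀ i, ∀ x ∈ P, T i x = x := by
    intro i x hx
    simp only [hT]
    rw [hprid _ (hPGi i x hx), hFGi]
  have hTF : ∀ i x, F (T i x) = T (i + 1) (F x) := by
    intro i x
    simp only [hT]
    rw [Function.iterate_succ_apply' (⇑F), Function.iterate_succ_apply G, hGF]
  have hTs : ∀ x, T s x = T 0 x := by
    intro x
    simp only [hT, Function.iterate_zero, id]
    rw [hpreq, hFGi]
  -- the averaged projection
  set c : K(p, k) := ((s : K(p, k)))⁻¹ with hc
  have hs0 : (s : K(p, k)) ≠ 0 := natCast_K_ne_zero (by omega)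
  have hτc : τ c = c := by rw [hc, map_inv₀, map_natCast]
  let E : N →ₗ[K(p, k)] N :=
    { toFun := fun x => c • ∑ i ∈ Finset.range s, T i x
      map_add' := by
        intro x y
        simp only [hTadd, Finset.sum_add_distrib, smul_add]
      map_smul' := by
        intro a x
        simp only [hTsmul, RingHom.id_apply]
        rw [← Finset.smul_sum, smul_comm] }
  have hE : ∀ x, E x = c • ∑ i ∈ Finset.range s, T i x := fun _ => rfl
  have hEP : ∀ x, E x ∈ P := fun x =>
    Submodule.smul_mem _ _ (Submodule.sum_mem _ (fun i _ => hTP i x))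
  have hEid : ∀ x ∈ P, E x = x := by
    intro x hx
    rw [hE, Finset.sum_congr rfl (fun i _ => hTid i x hx), Finset.sum_const, Finset.card_range,
      ← Nat.cast_smul_eq_nsmul K(p, k), smul_smul, hc, inv_mul_cancel₀ hs0, one_smul]
  have hEF : ∀ x, F (E x) = E (F x) := by
    intro x
    rw [hE, hE, map_smulₛₗ, hτc, map_sum]
    congr 1
    rw [Finset.sum_congr rfl (fun i _ => hTF i x)]
    have h1 := Finset.sum_range_succ' (fun i => T i (F x)) s
    have h2 := Finset.sum_range_succ (fun i => T i (F x)) s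
    rw [h2, hTs] at h1
    exact add_right_cancel h1.symm
  refine ⟨LinearMap.ker E, ?_, ?_⟩
  · intro x hx
    rw [LinearMap.mem_ker] at hx ⊢
    rw [← hEF, hx, map_zero]
  · constructor
    · rw [disjoint_iff, eq_bot_iff]
      rintro x ⟨hxP, hxQ⟩
      rw [SetLike.mem_coe, LinearMap.mem_ker] at hxQ
      rw [Submodule.mem_bot, ← hEid x hxP, hxQ]
    · rw [codisjoint_iff, eq_top_iff]
      intro x _
      have : x = E x + (x - E x) := by abel
      rw [this]
      refine Submodule.add_mem_sup (hEP x) ?_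
      rw [LinearMap.mem_ker, map_sub, hEid _ (hEP x), sub_self]

end Maschke


section Isoclinic

variable {p : ℕ} [Fact p.Prime] {k : Type u} [Field k] [CharP k p] [PerfectRing k p] [IsAlgClosed k]
variable {N : Type v} [AddCommGroup N] [Module (WittVector p k) N] [Module K(p, k) N]
  [IsScalarTower (WittVector p k) K(p, k) N]

theorem frob_pow_algebraMap (a : ℤ) (s : ℕ) (w : WittVector p k) :
    ((Isoc.frob p k a) ^ s) (algebraMap (WittVector p k) K(p, k) w) =
      algebraMap (WittVector p k) K(p, k) ((WittVector.frobeniusEquiv p k ^ (a * (s : ℤ))) w) := by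
  induction s generalizing w with
  | zero => simp
  | succ s ih =>
    rw [pow_succ, RingHom.mul_def, RingHom.comp_apply, frob_algebraMap, ih]
    congr 1
    rw [← RingAut.mul_apply, ← zpow_add]
    congr 2
    push_cast; ring

/-- An isoclinic isocrystal over an algebraically closed field has a basis of eigenvectors of `F^s`
for the eigenvalue `p^r`. -/
theorem exists_fixed_basis_of_isIsoclinic (a : ℤ) (ha : a ≠ 0) [Module.Finite K(p, k) N]
    (F : N →ₛₗ[Isoc.frob p k a] N) {μ : ℚ} (h : IsIsoclinic F μ) :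
    ∃ (r : ℤ) (s : ℕ), 0 < s ∧ (r : ℚ) / s = μ ∧
      ∃ e : Module.Basis (Fin (Module.finrank K(p, k) N)) K(p, k) N,
        ∀ i, (⇑F)^[s] (e i) = ((p : K(p, k)) ^ r) • e i := by
  obtain ⟨M, hM, r, s, hs, hμ, hFM⟩ := h
  refine ⟨r, s, hs, hμ, ?_⟩
  have hτ := WAuto.frob (p := p) (k := k) a
  have h1 : latImg (((p : K(p, k)) ^ (-r)) • iter F s) 1 M = M := by
    rw [latImg_zpow_smul_iter hτ, mul_one, hFM, pPow_pPow]
    simp
  have hb : a * (s : ℤ) ≠ 0 := mul_ne_zero ha (by exact_mod_cast (by omega : s ≠ 0))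
  obtain ⟨e, he⟩ := exists_basis_fixed_of_unitRoot (hτ.pow s) (a * (s : ℤ)) hb
    (frob_pow_algebraMap a s) (((p : K(p, k)) ^ (-r)) • iter F s) M hM h1
  refine ⟨e, fun i => ?_⟩
  have := he i
  rw [LinearMap.smul_apply, iter_apply] at this
  have h2 := congrArg (fun x => ((p : K(p, k)) ^ r) • x) this
  simp only [smul_smul] at h2
  rw [← zpow_add₀ pK_ne_zero, add_neg_cancel, zpow_zero, one_smul] at h2
  exact h2

theorem exists_stable_compl_of_isIsoclinic (a : ℤ) (ha : a ≠ 0) [Module.Finite K(p, k) N]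
    (F : N →ₛₗ[Isoc.frob p k a] N) (hF : Function.Bijective F) {μ : ℚ} (h : IsIsoclinic F μ)
    (P : Submodule K(p, k) N) (hP : ∀ x ∈ P, F x ∈ P) :
    ∃ Q : Submodule K(p, k) N, (∀ x ∈ Q, F x ∈ Q) ∧ IsCompl P Q := by
  obtain ⟨r, s, hs, -, e, he⟩ := exists_fixed_basis_of_isIsoclinic a ha F h
  exact exists_stable_compl_of_fixed_basis (WAuto.frob a) F hF hs r e he P hP

end Isoclinic


section Assembly

variable {p : ℕ} [Fact p.Prime] {k : Type u} [Field k] [CharP k p] [PerfectRing k p] [IsAlgClosed k]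
variable {N : Type v} [AddCommGroup N] [Module (WittVector p k) N] [Module K(p, k) N]
  [IsScalarTower (WittVector p k) K(p, k) N]

theorem inf_sup_eq_bot_of_disjoint {K : Type*} [Field K] {V : Type*} [AddCommGroup V] [Module K V]
    {A B X₁ Y₁ X₂ Y₂ : Submodule K V} (hAB : A ⊓ B = ⊥) (hX₁ : X₁ ≤ A) (hY₁ : Y₁ ≤ A)
    (hX₂ : X₂ ≤ B) (hY₂ : Y₂ ≤ B) (h₁ : X₁ ⊓ Y₁ = ⊥) (h₂ : X₂ ⊓ Y₂ = ⊥) :
    (X₁ ⊔ X₂) ⊓ (Y₁ ⊔ Y₂) = ⊥ := by
  rw [eq_bot_iff]
  rintro z ⟨hzX, hzY⟩
  obtain ⟨x₁, hx₁, x₂, hx₂, rfl⟩ := Submodule.mem_sup.1 hzX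
  obtain ⟨y₁, hy₁, y₂, hy₂, hyz⟩ := Submodule.mem_sup.1 hzY
  have h3 : x₁ - y₁ = y₂ - x₂ := by
    have : y₁ + y₂ = x₁ + x₂ := hyz
    rw [sub_eq_sub_iff_add_eq_add, add_comm x₁ x₂, add_comm y₂ y₁, add_comm x₂ x₁]
    exact this.symm
  have h4 : x₁ - y₁ ∈ A ⊓ B :=
    ⟨A.sub_mem (hX₁ hx₁) (hY₁ hy₁), by rw [h3]; exact B.sub_mem (hY₂ hy₂) (hX₂ hx₂)⟩
  rw [hAB, Submodule.mem_bot, sub_eq_zero] at h4
  have h5 : x₂ = y₂ := by
    rw [h4, sub_self] at h3
    exact (sub_eq_zero.1 h3.symm).symm
  have hx₁0 : x₁ = 0 := by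
    have : x₁ ∈ X₁ ⊓ Y₁ := ⟨hx₁, by rw [h4]; exact hy₁⟩
    rwa [h₁, Submodule.mem_bot] at this
  have hx₂0 : x₂ = 0 := by
    have : x₂ ∈ X₂ ⊓ Y₂ := ⟨hx₂, by rw [h5]; exact hy₂⟩
    rwa [h₂, Submodule.mem_bot] at this
  rw [hx₁0, hx₂0, add_zero]
  exact Submodule.zero_mem _

theorem exists_slope_compl (a : ℤ) (ha : a ≠ 0) [Module.Finite K(p, k) N]
    (F : N →ₛₗ[Isoc.frob p k a] N) (hF : Function.Bijective F)
    (P : Submodule K(p, k) N) (hP : ∀ x ∈ P, F x ∈ P) (μ : ℚ) :
    ∃ Q : Submodule K(p, k) N, Q ≤ slopePart F μ ∧ (∀ x ∈ Q, F x ∈ Q) ∧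
      (P ⊓ slopePart F μ) ⊓ Q = ⊥ ∧ (P ⊓ slopePart F μ) ⊔ Q = slopePart F μ := by
  have hτ := WAuto.frob (p := p) (k := k) a
  obtain ⟨hst, hiso⟩ := slopePart_stable_isoOn hτ F μ
  have h1 : IsIsoclinic (F.restrict hst) μ := isIsoclinic_restrict_of_isoOn hτ F _ hst hiso
  have hinj : Function.Injective (F.restrict hst) :=
    fun x y hxy => Subtype.ext (hF.injective (congrArg Subtype.val hxy))
  have hbij : Function.Bijective (F.restrict hst) :=
    ⟨hinj, surjective_of_injective hτ.bij _ hinj⟩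
  have hP' : ∀ x ∈ P.comap (slopePart F μ).subtype,
      (F.restrict hst) x ∈ P.comap (slopePart F μ).subtype := fun x hx => hP _ hx
  obtain ⟨Q', hQ'st, hQ'c⟩ :=
    exists_stable_compl_of_isIsoclinic a ha (F.restrict hst) hbij h1 _ hP'
  have hmapP : (P.comap (slopePart F μ).subtype).map (slopePart F μ).subtype =
      P ⊓ slopePart F μ := by
    rw [Submodule.map_comap_subtype, inf_comm]
  refine ⟨Q'.map (slopePart F μ).subtype, Submodule.map_subtype_le _ _, ?_, ?_, ?_⟩
  · rintro _ ⟨y, hy, rfl⟩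
    exact ⟨(F.restrict hst) y, hQ'st y hy, rfl⟩
  · rw [← hmapP, ← Submodule.map_inf _ (Submodule.injective_subtype _), hQ'c.inf_eq_bot,
      Submodule.map_bot]
  · rw [← hmapP, ← Submodule.map_sup, hQ'c.sup_eq_top, Submodule.map_subtype_top]

theorem le_iSup_inf_slopePart (a : ℤ) [Module.Finite K(p, k) N]
    (F : N →ₛₗ[Isoc.frob p k a] N) (hF : Function.Bijective F)
    (P : Submodule K(p, k) N) (hP : ∀ x ∈ P, F x ∈ P) :
    P ≤ ⨆ μ : ℚ, P ⊓ slopePart F μ := by
  have hτ := WAuto.frob (p := p) (k := k) a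
  have hinj : Function.Injective (F.restrict hP) :=
    fun x y hxy => Subtype.ext (hF.injective (congrArg Subtype.val hxy))
  have hbij : Function.Bijective (F.restrict hP) :=
    ⟨hinj, surjective_of_injective hτ.bij _ hinj⟩
  have htop := iSup_slopePart_eq_top hτ _ P (F.restrict hP) hbij inferInstance rfl
  calc P = (⊤ : Submodule K(p, k) P).map P.subtype := (Submodule.map_subtype_top P).symm
    _ = ⨆ μ : ℚ, (slopePart (F.restrict hP) μ).map P.subtype := by
        rw [← htop, Submodule.map_iSup]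
    _ ≤ ⨆ μ : ℚ, P ⊓ slopePart F μ :=
        iSup_mono (fun μ => le_inf (Submodule.map_subtype_le _ _)
          (map_slopePart_restrict_le hτ F P hP μ))

/-- Semisimplicity: every `F`-stable subspace of an isocrystal over an algebraically closed field
(with nonzero twist) has an `F`-stable complement. -/
theorem exists_stable_isCompl (a : ℤ) (ha : a ≠ 0) [Module.Finite K(p, k) N]
    (F : N →ₛₗ[Isoc.frob p k a] N) (hF : Function.Bijective F)
    (P : Submodule K(p, k) N) (hP : ∀ x ∈ P, F x ∈ P) :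
    ∃ Q : Submodule K(p, k) N, (∀ x ∈ Q, F x ∈ Q) ∧ IsCompl P Q := by
  classical
  have hτ := WAuto.frob (p := p) (k := k) a
  choose Y hYle hYst hYinf hYsup using exists_slope_compl a ha F hF P hP
  have hint := isInternal_slopePart hτ F hF
  rw [DirectSum.isInternal_submodule_iff_iSupIndep_and_iSup_eq_top] at hint
  obtain ⟨hind, htop⟩ := hint
  have hfin : {μ : ℚ | slopePart F μ ≠ ⊥}.Finite := WellFoundedGT.finite_ne_bot_of_iSupIndep hind
  set T := hfin.toFinset with hT
  have hTmem : ∀ μ, μ ∉ T → slopePart F μ = ⊥ := by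
    intro μ hμ
    rw [hT, Set.Finite.mem_toFinset, Set.mem_ofPred_eq, not_not] at hμ
    exact hμ
  have hTtop : T.sup (slopePart F) = ⊤ := by
    rw [eq_top_iff, ← htop]
    apply iSup_le
    intro μ
    by_cases hμ : μ ∈ T
    · exact Finset.le_sup (f := slopePart F) hμ
    · rw [hTmem μ hμ]; exact bot_le
  set X : ℚ → Submodule K(p, k) N := fun μ => P ⊓ slopePart F μ with hX
  have hPX : T.sup X = P := by
    apply le_antisymm
    · exact Finset.sup_le (fun μ _ => inf_le_left)
    · refine (le_iSup_inf_slopePart a F hF P hP).trans (iSup_le (fun μ => ?_))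
      by_cases hμ : μ ∈ T
      · exact Finset.le_sup (f := X) hμ
      · rw [hTmem μ hμ, inf_bot_eq]; exact bot_le
  have hsupIndep := slopePart_supIndep hτ F hF.injective
  -- inductive disjointness
  have hdisj : ∀ S : Finset ℚ, (S.sup X) ⊓ (S.sup Y) = ⊥ := by
    intro S
    induction S using Finset.induction with
    | empty => simp
    | insert ν S hν ih =>
      rw [Finset.sup_insert, Finset.sup_insert]
      have hd : Disjoint (slopePart F ν) (S.sup (slopePart F)) :=
        hsupIndep (insert ν S) (Finset.subset_insert ν S) (Finset.mem_insert_self ν S) hν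
      exact inf_sup_eq_bot_of_disjoint (disjoint_iff.1 hd) inf_le_right (hYle ν)
        (Finset.sup_mono_fun (fun μ _ => inf_le_right)) (Finset.sup_mono_fun (fun μ _ => hYle μ))
        (hYinf ν) ih
  have hsupXY : T.sup X ⊔ T.sup Y = ⊤ := by
    rw [← Finset.sup_sup, ← hTtop]
    exact Finset.sup_congr rfl (fun μ _ => hYsup μ)
  refine ⟨T.sup Y, ?_, ?_⟩
  · intro x hx
    have hgen : ∀ S : Finset ℚ, ∀ x ∈ S.sup Y, F x ∈ S.sup Y := by
      intro S
      induction S using Finset.induction with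
      | empty =>
        intro x hx
        rw [Finset.sup_empty, Submodule.mem_bot] at hx
        rw [hx, map_zero]; exact Submodule.zero_mem _
      | insert ν S hν ih =>
        intro x hx
        rw [Finset.sup_insert] at hx ⊢
        obtain ⟨y, hy, z, hz, rfl⟩ := Submodule.mem_sup.1 hx
        rw [map_add]
        exact Submodule.add_mem_sup (hYst ν y hy) (ih z hz)
    exact hgen T x hx
  · rw [← hPX]
    exact ⟨disjoint_iff.2 (hdisj T), codisjoint_iff.2 hsupXY⟩

end Assembly

end Groth.Agent.Lib.Helper24Isoc
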