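import Mathlib
import Groth.Prelude.Def_Isoc
import Groth.Agent.Lib.Helper24IsocSemi
import Groth.Agent.Lib.Helper24IsocFF

set_option autoImplicit false
set_option linter.unusedSectionVars false
set_option linter.unnecessarySimpa false
open scoped Pointwise Isocrystal
universe u v

namespace Groth.Agent.Lib.Helper24Isoc

open Isoc

section LowestTerms

variable {p : ℕ} [Fact p.Prime] {k : Type u} [Field k] [CharP k p] [PerfectRing k p]
variable {N : Type v} [AddCommGroup N] [Module (WittVector p k) N] [Module K(p, k) N]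
  [IsScalarTower (WittVector p k) K(p, k) N]
variable {τ : K(p, k) →+* K(p, k)}

theorem latImg_one_sumLat_eq (hτ : WAuto τ) (G : N →ₛₗ[τ] N) (M : Submodule (WittVector p k) N)
    {j : ℕ} (hj : 0 < j) (h : latImg G j M = M) :
    latImg G 1 (sumLat G j M) = sumLat G j M := by
  apply le_antisymm (latImg_one_sumLat_le_of_latImg_le hτ G M hj h.le)
  refine (Finset.sup_le (fun i hi => ?_) :
    (Finset.range j).sup (fun i => latImg G i M) ≤ latImg G 1 (sumLat G j M))
  have hij : i < j := Finset.mem_range.1 hi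
  rcases Nat.eq_zero_or_pos i with rfl | hi0
  · have e1 : latImg G 0 M = latImg G 1 (latImg G (j - 1) M) := by
      rw [← latImg_add hτ, show 1 + (j - 1) = j by omega, h, latImg_zero]
    rw [e1]
    exact latImg_mono G 1 (latImg_le_sumLat G M (by omega))
  · have e1 : latImg G i M = latImg G 1 (latImg G (i - 1) M) := by
      rw [← latImg_add hτ, show 1 + (i - 1) = i by omega]
    rw [e1]
    exact latImg_mono G 1 (latImg_le_sumLat G M (by omega))

/-- An isoclinic isocrystal of slope `μ = d/h` (lowest terms) has a lattice `M` with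
`p^{-d} F^h M = M`. -/
theorem exists_unitRoot_lattice (hτ : WAuto τ) (F : N →ₛₗ[τ] N) {μ : ℚ} (h : IsIsoclinic F μ) :
    ∃ M : Submodule (WittVector p k) N, M.IsLattice K(p, k) ∧
      latImg (((p : K(p, k)) ^ (-μ.num)) • iter F μ.den) 1 M = M := by
  obtain ⟨M, hM, r, s, hs, hμ, hFM⟩ := h
  obtain ⟨t, ht0, hst, hrt⟩ := rat_div_eq hs hμ
  have h1 : latImg (((p : K(p, k)) ^ (-μ.num)) • iter F μ.den) t M = M := by
    rw [latImg_zpow_smul_iter hτ, ← hst, hFM, pPow_pPow, hrt]
    simp
  exact ⟨sumLat _ t M, sumLat_isLattice (hτ.pow μ.den) _ ht0 M hM,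
    latImg_one_sumLat_eq (hτ.pow μ.den) _ M ht0 h1⟩

theorem den_dvd_of_mul_eq_int {μ : ℚ} {m : ℕ} {z : ℤ} (h : μ * (m : ℚ) = z) : μ.den ∣ m := by
  have hden : (μ.den : ℚ) ≠ 0 := by exact_mod_cast μ.den_nz
  have h1 : μ.num * (m : ℤ) = z * (μ.den : ℤ) := by
    have h2 : (μ.num : ℚ) / μ.den * m = z := by rw [Rat.num_div_den]; exact h
    rw [div_mul_eq_mul_div, div_eq_iff hden] at h2
    exact_mod_cast h2
  have hcop : IsCoprime (μ.den : ℤ) μ.num := by
    rw [Int.isCoprime_iff_gcd_eq_one, Int.gcd_comm]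
    exact μ.reduced
  have hdvd : (μ.den : ℤ) ∣ (m : ℤ) := by
    apply hcop.dvd_of_dvd_mul_left
    rw [h1]; exact Dvd.intro_left _ rfl
  exact Int.natCast_dvd_natCast.1 hdvd

end LowestTerms


section Cyclic

variable {p : ℕ} [Fact p.Prime] {k : Type u} [Field k] [CharP k p] [PerfectRing k p]
variable {N : Type v} [AddCommGroup N] [Module (WittVector p k) N] [Module K(p, k) N]
  [IsScalarTower (WittVector p k) K(p, k) N]
variable {τ : K(p, k) →+* K(p, k)}

/-- The span of `x, F x, …, F^{h-1} x` is `F`-stable when `F^h x = c x`. -/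
theorem cyclic_span_stable (F : N →ₛₗ[τ] N) {h : ℕ} (c : K(p, k)) (x : N)
    (hx : (⇑F)^[h] x = c • x) :
    ∀ y ∈ Submodule.span K(p, k) (Set.range (fun i : Fin h => (⇑F)^[i] x)),
      F y ∈ Submodule.span K(p, k) (Set.range (fun i : Fin h => (⇑F)^[i] x)) := by
  intro y hy
  induction hy using Submodule.span_induction with
  | mem y hy =>
    obtain ⟨i, rfl⟩ := hy
    show F ((⇑F)^[i] x) ∈ _
    rw [← Function.iterate_succ_apply' (⇑F)]
    rcases Nat.lt_or_ge (i.val + 1) h with hlt | hge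
    · exact Submodule.subset_span ⟨⟨i.val + 1, hlt⟩, rfl⟩
    · have : i.val.succ = h := by have := i.2; omega
      rw [this, hx]
      exact Submodule.smul_mem _ _ (Submodule.subset_span ⟨⟨0, by omega⟩, rfl⟩)
  | zero => rw [map_zero]; exact Submodule.zero_mem _
  | add x y _ _ hx hy => rw [map_add]; exact Submodule.add_mem _ hx hy
  | smul c x _ hx => rw [map_smulₛₗ]; exact Submodule.smul_mem _ _ hx

/-- In an isoclinic isocrystal of slope `d/h` (lowest terms), a nonzero `x` with `F^h x = p^d x`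
has linearly independent iterates `x, F x, …, F^{h-1} x`. -/
theorem linearIndependent_iterates (hτ : WAuto τ) [Module.Finite K(p, k) N] (F : N →ₛₗ[τ] N)
    (hF : Function.Injective F) {μ : ℚ} (h : IsIsoclinic F μ) (x : N) (hx0 : x ≠ 0)
    (hx : (⇑F)^[μ.den] x = ((p : K(p, k)) ^ μ.num) • x) :
    LinearIndependent K(p, k) (fun i : Fin μ.den => (⇑F)^[i] x) := by
  classical
  set u : Fin μ.den → N := fun i => (⇑F)^[i] x with hu
  set U := Submodule.span K(p, k) (Set.range u) with hU
  have hUst : ∀ y ∈ U, F y ∈ U := cyclic_span_stable F _ x hx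
  have hiso := isIsoclinic_restrict hτ F inferInstance hF h U hUst
  obtain ⟨z, hz⟩ := exists_int_eq_slope_mul_finrank hτ (F.restrict hUst) hiso
  have hdvd : μ.den ∣ Module.finrank K(p, k) U := den_dvd_of_mul_eq_int hz
  have hle : Module.finrank K(p, k) U ≤ μ.den := by
    have := finrank_range_le_card (R := K(p, k)) u
    rw [Fintype.card_fin] at this
    exact this
  have hpos : 0 < Module.finrank K(p, k) U := by
    rw [Module.finrank_pos_iff_exists_ne_zero]
    refine ⟨⟨x, Submodule.subset_span ⟨⟨0, μ.den_pos⟩, rfl⟩⟩, ?_⟩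
    intro h0
    exact hx0 (congrArg Subtype.val h0)
  have heq : Module.finrank K(p, k) U = μ.den := by
    obtain ⟨c, hc⟩ := hdvd
    rcases Nat.eq_zero_or_pos c with rfl | hc0
    · rw [mul_zero] at hc; omega
    · have : μ.den ≤ μ.den * c := Nat.le_mul_of_pos_right _ hc0
      omega
  rw [linearIndependent_iff_card_eq_finrank_span, Fintype.card_fin]
  exact heq.symm

/-- The cyclic subspace spanned by independent iterates `x, F x, …, F^{h-1} x` with
`F^h x = p^d x` is isomorphic to the standard isocrystal `N_{d/h}`. -/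
theorem exists_equiv_stdIsoc_of_cyclic (F : N →ₛₗ[τ] N) {h : ℕ} (hh : 0 < h) (d : ℤ) (x : N)
    (hx : (⇑F)^[h] x = ((p : K(p, k)) ^ d) • x)
    (hli : LinearIndependent K(p, k) (fun i : Fin h => (⇑F)^[i] x))
    (hP : ∀ y ∈ Submodule.span K(p, k) (Set.range (fun i : Fin h => (⇑F)^[i] x)),
      F y ∈ Submodule.span K(p, k) (Set.range (fun i : Fin h => (⇑F)^[i] x))) :
    ∃ e : Submodule.span K(p, k) (Set.range (fun i : Fin h => (⇑F)^[i] x)) ≃ₗ[K(p, k)]
        (Fin h → K(p, k)),
      ∀ y, e (F.restrict hP y) = stdIsoc τ d h (e y) := by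
  classical
  obtain ⟨n, rfl⟩ := Nat.exists_eq_succ_of_ne_zero hh.ne'
  let bP := Module.Basis.span hli
  have hbP : ∀ i, ((bP i : _) : N) = (⇑F)^[i] x := fun i =>
    congrArg Subtype.val (Module.Basis.span_apply hli i)
  refine ⟨bP.equivFun, ?_⟩
  have hE : ∀ i, bP.equivFun (bP i) = stdE n i := by
    intro i
    funext j
    rw [Module.Basis.equivFun_self]
    simp [stdE, Pi.single_apply, eq_comm]
  let E : Submodule.span K(p, k) (Set.range (fun i : Fin (n + 1) => (⇑F)^[i] x)) →ₗ[K(p, k)]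
      (Fin (n + 1) → K(p, k)) := bP.equivFun.toLinearMap
  let G1 : Submodule.span K(p, k) (Set.range (fun i : Fin (n + 1) => (⇑F)^[i] x)) →ₛₗ[τ]
      (Fin (n + 1) → K(p, k)) := E.comp (F.restrict hP)
  let G2 : Submodule.span K(p, k) (Set.range (fun i : Fin (n + 1) => (⇑F)^[i] x)) →ₛₗ[τ]
      (Fin (n + 1) → K(p, k)) := (stdIsoc τ d (n + 1)).comp E
  have hG : G1 = G2 := by
    apply Module.Basis.ext bP
    intro i
    show bP.equivFun (F.restrict hP (bP i)) = stdIsoc τ d (n + 1) (bP.equivFun (bP i))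
    rw [hE]
    obtain ⟨iv, hiv⟩ := i
    rcases Nat.lt_or_ge iv n with hlt | hge
    · have h1 : F.restrict hP (bP ⟨iv, hiv⟩) = bP ⟨iv + 1, by omega⟩ := by
        apply Subtype.ext
        rw [LinearMap.coe_restrict_apply, hbP, hbP, ← Function.iterate_succ_apply' (⇑F)]
      rw [h1, hE, stdIsoc_stdE_of_lt τ d n hlt]
    · have hi : iv = n := by omega
      subst hi
      have h1 : F.restrict hP (bP ⟨iv, hiv⟩) = ((p : K(p, k)) ^ d) • bP ⟨0, by omega⟩ := by
        apply Subtype.ext
        rw [LinearMap.coe_restrict_apply, hbP, Submodule.coe_smul, hbP,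
          ← Function.iterate_succ_apply' (⇑F)]
        exact hx
      rw [h1, map_smul, hE, stdIsoc_stdE_last]
  intro y
  exact congrArg (fun G => G y) hG

end Cyclic


section Eigen

variable {p : ℕ} [Fact p.Prime] {k : Type u} [Field k] [CharP k p] [PerfectRing k p] [IsAlgClosed k]
variable {N : Type v} [AddCommGroup N] [Module (WittVector p k) N] [Module K(p, k) N]
  [IsScalarTower (WittVector p k) K(p, k) N]

/-- A nonzero isoclinic isocrystal of slope `μ = d/h` (lowest terms) over an algebraically closed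
field has a nonzero vector with `F^h x = p^d x`. -/
theorem exists_eigen_of_isIsoclinic (a : ℤ) (ha : a ≠ 0) [Module.Finite K(p, k) N] [Nontrivial N]
    (F : N →ₛₗ[Isoc.frob p k a] N) {μ : ℚ} (h : IsIsoclinic F μ) :
    ∃ x : N, x ≠ 0 ∧ (⇑F)^[μ.den] x = ((p : K(p, k)) ^ μ.num) • x := by
  have hτ := WAuto.frob (p := p) (k := k) a
  obtain ⟨M, hM, h1⟩ := exists_unitRoot_lattice hτ F h
  have hb : a * (μ.den : ℤ) ≠ 0 := mul_ne_zero ha (by exact_mod_cast μ.den_nz)
  obtain ⟨e, he⟩ := exists_basis_fixed_of_unitRoot (hτ.pow μ.den) (a * (μ.den : ℤ)) hb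
    (frob_pow_algebraMap a μ.den) (((p : K(p, k)) ^ (-μ.num)) • iter F μ.den) M hM h1
  have hpos : 0 < Module.finrank K(p, k) N := Module.finrank_pos
  refine ⟨e ⟨0, hpos⟩, e.ne_zero _, ?_⟩
  have := he ⟨0, hpos⟩
  rw [LinearMap.smul_apply, iter_apply] at this
  have h2 := congrArg (fun x => ((p : K(p, k)) ^ μ.num) • x) this
  simp only [smul_smul] at h2
  rw [← zpow_add₀ pK_ne_zero, add_neg_cancel, zpow_zero, one_smul] at h2
  exact h2

end Eigen


section NewtonMult

theorem eq_of_le_of_iSup_eq_top {α : Type*} {ι : Type*} [CompleteLattice α] [IsModularLattice α]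
    {X Y : ι → α} (hX : iSupIndep X) (hYX : ∀ i, Y i ≤ X i) (hY : ⨆ i, Y i = ⊤) (i : ι) :
    Y i = X i := by
  apply le_antisymm (hYX i)
  have h1 : (⨆ (j) (_ : j ≠ i), Y j) ⊓ X i ≤ ⊥ := by
    have h2 : (⨆ (j) (_ : j ≠ i), Y j) ≤ ⨆ (j) (_ : j ≠ i), X j :=
      iSup₂_mono (fun j _ => hYX j)
    calc (⨆ (j) (_ : j ≠ i), Y j) ⊓ X i ≤ (⨆ (j) (_ : j ≠ i), X j) ⊓ X i :=
          inf_le_inf_right _ h2
      _ = X i ⊓ ⨆ (j) (_ : j ≠ i), X j := inf_comm _ _
      _ = ⊥ := (hX i).eq_bot
      _ ≤ ⊥ := le_rfl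
  calc X i = (Y i ⊔ ⨆ (j) (_ : j ≠ i), Y j) ⊓ X i := by
        rw [← iSup_split_single Y i, hY, top_inf_eq]
    _ = Y i ⊔ (⨆ (j) (_ : j ≠ i), Y j) ⊓ X i := sup_inf_assoc_of_le _ (hYX i)
    _ ≤ Y i ⊔ ⊥ := sup_le_sup_left h1 _
    _ = Y i := sup_bot_eq _

variable {p : ℕ} [Fact p.Prime] {k : Type u} [Field k] [CharP k p] [PerfectRing k p]
variable {N : Type v} [AddCommGroup N] [Module (WittVector p k) N] [Module K(p, k) N]
  [IsScalarTower (WittVector p k) K(p, k) N]
variable {τ : K(p, k) →+* K(p, k)}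

theorem restrict_bijective (hτ : WAuto τ) [Module.Finite K(p, k) N] (F : N →ₛₗ[τ] N)
    (hF : Function.Injective F) (P : Submodule K(p, k) N) (hP : ∀ x ∈ P, F x ∈ P) :
    Function.Bijective (F.restrict hP) := by
  have hinj : Function.Injective (F.restrict hP) := by
    intro x y h
    apply Subtype.ext
    apply hF
    exact congrArg Subtype.val h
  exact ⟨hinj, surjective_of_injective hτ.bij _ hinj⟩

/-- The slope-`μ` part of a direct sum of two stable subspaces is the sum of the slope-`μ` parts. -/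
theorem slopePart_eq_sup_of_isCompl (hτ : WAuto τ) [Module.Finite K(p, k) N] (F : N →ₛₗ[τ] N)
    (hF : Function.Injective F) (P Q : Submodule K(p, k) N) (hP : ∀ x ∈ P, F x ∈ P)
    (hQ : ∀ x ∈ Q, F x ∈ Q) (hc : IsCompl P Q) (μ : ℚ) :
    (slopePart (F.restrict hP) μ).map P.subtype ⊔ (slopePart (F.restrict hQ) μ).map Q.subtype =
      slopePart F μ := by
  refine eq_of_le_of_iSup_eq_top
    (Y := fun μ => (slopePart (F.restrict hP) μ).map P.subtype ⊔
      (slopePart (F.restrict hQ) μ).map Q.subtype)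
    (slopePart_iSupIndep hτ F hF) (fun ν => sup_le (map_slopePart_restrict_le hτ F P hP ν)
      (map_slopePart_restrict_le hτ F Q hQ ν)) ?_ μ
  rw [iSup_sup_eq, ← Submodule.map_iSup, ← Submodule.map_iSup,
    iSup_slopePart_eq_top hτ _ P (F.restrict hP) (restrict_bijective hτ F hF P hP) inferInstance rfl,
    iSup_slopePart_eq_top hτ _ Q (F.restrict hQ) (restrict_bijective hτ F hF Q hQ) inferInstance rfl,
    Submodule.map_subtype_top, Submodule.map_subtype_top]
  exact hc.sup_eq_top

theorem newtonMult_add_of_isCompl (hτ : WAuto τ) [Module.Finite K(p, k) N] (F : N →ₛₗ[τ] N)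
    (hF : Function.Injective F) (P Q : Submodule K(p, k) N) (hP : ∀ x ∈ P, F x ∈ P)
    (hQ : ∀ x ∈ Q, F x ∈ Q) (hc : IsCompl P Q) (μ : ℚ) :
    newtonMult F μ = newtonMult (F.restrict hP) μ + newtonMult (F.restrict hQ) μ := by
  unfold newtonMult
  rw [← slopePart_eq_sup_of_isCompl hτ F hF P Q hP hQ hc μ]
  have h1 := Submodule.finrank_sup_add_finrank_inf_eq
    ((slopePart (F.restrict hP) μ).map P.subtype) ((slopePart (F.restrict hQ) μ).map Q.subtype)
  have h2 : (slopePart (F.restrict hP) μ).map P.subtype ⊓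
      (slopePart (F.restrict hQ) μ).map Q.subtype = ⊥ := by
    rw [eq_bot_iff, ← hc.inf_eq_bot]
    refine inf_le_inf ?_ ?_
    · rintro _ ⟨y, -, rfl⟩; exact y.2
    · rintro _ ⟨y, -, rfl⟩; exact y.2
  rw [h2, finrank_bot, add_zero, Submodule.finrank_map_subtype_eq,
    Submodule.finrank_map_subtype_eq] at h1
  exact h1

/-- For an isoclinic isocrystal of slope `lam`, the Newton multiplicity of `μ` is the dimension if
`μ = lam` and zero otherwise. -/
theorem newtonMult_of_isIsoclinic (hτ : WAuto τ) [Module.Finite K(p, k) N] (F : N →ₛₗ[τ] N)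
    (hF : Function.Injective F) {lam : ℚ} (h : IsIsoclinic F lam) (μ : ℚ) :
    newtonMult F μ = if lam = μ then Module.finrank K(p, k) N else 0 := by
  have htop : slopePart F lam = ⊤ := by
    apply top_le_iff.1
    apply le_sSup
    exact ⟨fun x _ => Submodule.mem_top, isIsoclinic_restrict hτ F inferInstance hF h ⊤ _⟩
  unfold newtonMult
  split_ifs with hlm
  · subst hlm
    rw [htop, finrank_top]
  · have hdis : Disjoint (slopePart F μ) (slopePart F lam) :=
      (slopePart_iSupIndep hτ F hF).pairwiseDisjoint (Ne.symm hlm)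
    rw [htop, disjoint_top] at hdis
    rw [hdis, finrank_bot]

end NewtonMult


section Classification

variable {p : ℕ} [Fact p.Prime] {k : Type u} [Field k] [CharP k p] [PerfectRing k p] [IsAlgClosed k]

/-- Fintype-indexed form of the Dieudonné–Manin decomposition. -/
def Classified (a : ℤ) (N : Type v) [AddCommGroup N] [Module (WittVector p k) N]
    [Module K(p, k) N] [IsScalarTower (WittVector p k) K(p, k) N]
    (F : N →ₛₗ[Isoc.frob p k a] N) : Prop :=
  ∃ (ι : Type) (_ : Fintype ι) (d : ι → ℤ) (h : ι → ℕ)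
    (e : N ≃ₗ[K(p, k)] ((i : ι) → (Fin (h i) → K(p, k)))),
    (∀ i, 0 < h i ∧ Int.gcd (d i) (h i) = 1) ∧
    (∀ (x : N) (i : ι), e (F x) i = stdIsoc (Isoc.frob p k a) (d i) (h i) (e x i)) ∧
    ∀ μ : ℚ, newtonMult F μ = ∑ i : ι, (if ((d i : ℚ) / (h i : ℚ)) = μ then h i else 0)

variable {N : Type v} [AddCommGroup N] [Module (WittVector p k) N] [Module K(p, k) N]
  [IsScalarTower (WittVector p k) K(p, k) N]

theorem classified_of_isCompl (a : ℤ) [Module.Finite K(p, k) N] (F : N →ₛₗ[Isoc.frob p k a] N)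
    (hF : Function.Injective F) (P Q : Submodule K(p, k) N) (hP : ∀ x ∈ P, F x ∈ P)
    (hQ : ∀ x ∈ Q, F x ∈ Q) (hc : IsCompl P Q) (d0 : ℤ) (h0 : ℕ) (hh0 : 0 < h0)
    (hgcd : Int.gcd d0 h0 = 1) (eP : P ≃ₗ[K(p, k)] (Fin h0 → K(p, k)))
    (heP : ∀ y, eP (F.restrict hP y) = stdIsoc (Isoc.frob p k a) d0 h0 (eP y))
    (hQc : Classified a Q (F.restrict hQ)) : Classified a N F := by
  classical
  obtain ⟨ι', _, d', h', eQ, hdh, heQ, hnm⟩ := hQc
  have hτ := WAuto.frob (p := p) (k := k) a
  obtain ⟨n, rfl⟩ := Nat.exists_eq_succ_of_ne_zero hh0.ne'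
  have hPiso : IsIsoclinic (F.restrict hP) ((d0 : ℚ) / ((n + 1 : ℕ) : ℚ)) := by
    refine isIsoclinic_of_surjective hτ eP.symm.toLinearMap eP.symm.surjective
      (stdIsoc _ d0 (n + 1)) (F.restrict hP) ?_ (stdIsoc_isIsoclinic _ d0 n hτ)
    intro v
    apply eP.injective
    rw [heP]
    simp
  have hPfin : Module.finrank K(p, k) P = n + 1 := by
    rw [LinearEquiv.finrank_eq eP, Module.finrank_fin_fun]
  have hPnm : ∀ μ, newtonMult (F.restrict hP) μ =
      if (d0 : ℚ) / ((n + 1 : ℕ) : ℚ) = μ then n + 1 else 0 := by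
    intro μ
    rw [newtonMult_of_isIsoclinic hτ (F.restrict hP) (restrict_bijective hτ F hF P hP).1 hPiso μ,
      hPfin]
  let e : N ≃ₗ[K(p, k)] ((o : Option ι') → (Fin (o.elim (n + 1) h') → K(p, k))) :=
    (Submodule.prodEquivOfIsCompl P Q hc).symm ≪≫ₗ (eP.prodCongr eQ) ≪≫ₗ
      (LinearEquiv.piOptionEquivProd (R := K(p, k))
        (M := fun o : Option ι' => Fin (o.elim (n + 1) h') → K(p, k))).symm
  refine ⟨Option ι', inferInstance, fun o => o.elim d0 d', fun o => o.elim (n + 1) h', e, ?_, ?_, ?_⟩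
  · rintro (_ | i)
    · exact ⟨hh0, hgcd⟩
    · exact hdh i
  · intro x o
    have hdec : (Submodule.prodEquivOfIsCompl P Q hc).symm (F x) =
        (F.restrict hP ((Submodule.prodEquivOfIsCompl P Q hc).symm x).1,
          F.restrict hQ ((Submodule.prodEquivOfIsCompl P Q hc).symm x).2) := by
      rw [LinearEquiv.symm_apply_eq, Submodule.coe_prodEquivOfIsCompl' P Q hc]
      simp only [LinearMap.coe_restrict_apply]
      rw [← map_add, ← Submodule.coe_prodEquivOfIsCompl' P Q hc, LinearEquiv.apply_symm_apply]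
    cases o with
    | none =>
      show eP ((Submodule.prodEquivOfIsCompl P Q hc).symm (F x)).1 =
        stdIsoc _ d0 (n + 1) (eP ((Submodule.prodEquivOfIsCompl P Q hc).symm x).1)
      rw [hdec, heP]
    | some i =>
      show eQ ((Submodule.prodEquivOfIsCompl P Q hc).symm (F x)).2 i =
        stdIsoc _ (d' i) (h' i) (eQ ((Submodule.prodEquivOfIsCompl P Q hc).symm x).2 i)
      rw [hdec, heQ]
  · intro μ
    rw [newtonMult_add_of_isCompl hτ F hF P Q hP hQ hc μ, hPnm, hnm, Fintype.sum_option]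
    rfl

theorem classified_aux (a : ℤ) (ha : a ≠ 0) :
    ∀ (n : ℕ) (N : Type v) [AddCommGroup N] [Module (WittVector p k) N] [Module K(p, k) N]
      [IsScalarTower (WittVector p k) K(p, k) N] (F : N →ₛₗ[Isoc.frob p k a] N),
      Function.Bijective F → Module.Finite K(p, k) N → Module.finrank K(p, k) N = n →
      Classified a N F := by
  intro n
  induction n using Nat.strong_induction_on with
  | _ n ih =>
  intro N _ _ _ _ F hF hfin hn
  have hτ := WAuto.frob (p := p) (k := k) a
  rcases subsingleton_or_nontrivial N with hsub | hnt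
  · refine ⟨PEmpty, inferInstance, fun i => i.elim, fun i => i.elim,
      LinearEquiv.ofSubsingleton _ _, fun i => i.elim, fun x i => i.elim, ?_⟩
    intro μ
    show Module.finrank K(p, k) (slopePart F μ) = _
    rw [Module.finrank_zero_of_subsingleton]
    simp
  · have hsup := iSup_slopePart_eq_top hτ _ N F hF hfin rfl
    obtain ⟨μ, hμ⟩ : ∃ μ, slopePart F μ ≠ ⊥ := by
      by_contra hcon
      push Not at hcon
      rw [iSup_eq_bot.2 hcon] at hsup
      exact bot_ne_top hsup
    obtain ⟨hSst, hSiso⟩ := slopePart_stable_isoOn hτ F μ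
    have hFSiso := isIsoclinic_restrict_of_isoOn hτ F _ hSst hSiso
    have : Nontrivial (slopePart F μ) := Submodule.nontrivial_iff_ne_bot.2 hμ
    obtain ⟨x, hx0, hx⟩ := exists_eigen_of_isIsoclinic a ha (F.restrict hSst) hFSiso
    have hli0 := linearIndependent_iterates hτ (F.restrict hSst)
      (restrict_bijective hτ F hF.1 _ hSst).1 hFSiso x hx0 hx
    have hx' : (⇑F)^[μ.den] (x : N) = ((p : K(p, k)) ^ μ.num) • (x : N) := by
      rw [← restrict_iterate F _ hSst, hx]
      rfl
    have hli : LinearIndependent K(p, k) (fun i : Fin μ.den => (⇑F)^[i] (x : N)) := by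
      have := hli0.map' (slopePart F μ).subtype (Submodule.ker_subtype _)
      have hfun : (fun i : Fin μ.den => (⇑F)^[i] (x : N)) =
          (⇑(slopePart F μ).subtype ∘ fun i : Fin μ.den => (⇑(F.restrict hSst))^[i] x) := by
        funext i
        exact (restrict_iterate F _ hSst i x).symm
      rw [hfun]
      exact this
    have hPst := cyclic_span_stable F _ (x : N) hx'
    obtain ⟨eP, heP⟩ := exists_equiv_stdIsoc_of_cyclic F μ.den_pos μ.num (x : N) hx' hli hPst
    obtain ⟨Q, hQst, hc⟩ := exists_stable_isCompl a ha F hF _ hPst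
    have hlt : Module.finrank K(p, k) Q < n := by
      have h1 := Submodule.finrank_add_eq_of_isCompl hc
      have h2 : Module.finrank K(p, k)
          (Submodule.span K(p, k) (Set.range (fun i : Fin μ.den => (⇑F)^[i] (x : N)))) = μ.den := by
        rw [LinearEquiv.finrank_eq eP, Module.finrank_fin_fun]
      have := μ.den_pos
      omega
    have hQc := ih _ hlt Q (F.restrict hQst) (restrict_bijective hτ F hF.1 Q hQst) inferInstance rfl
    exact classified_of_isCompl a F hF.1 _ Q hPst hQst hc μ.num μ.den μ.den_pos μ.reduced eP heP hQc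

/-- Dieudonné–Manin classification (`Fin t`-indexed form). -/
theorem exists_linearEquiv_pi_stdIsoc (a : ℤ) (ha : a ≠ 0) [Module.Finite K(p, k) N]
    (F : N →ₛₗ[Isoc.frob p k a] N) (hF : Function.Bijective F) :
    ∃ (t : ℕ) (d : Fin t → ℤ) (h : Fin t → ℕ)
      (e : N ≃ₗ[K(p, k)] ((i : Fin t) → (Fin (h i) → K(p, k)))),
      (∀ i, 0 < h i ∧ Int.gcd (d i) (h i) = 1) ∧
      (∀ (x : N) (i : Fin t), e (F x) i = stdIsoc (Isoc.frob p k a) (d i) (h i) (e x i)) ∧
      ∀ μ : ℚ, newtonMult F μ = ∑ i : Fin t, (if ((d i : ℚ) / (h i : ℚ)) = μ then h i else 0) := by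
  classical
  obtain ⟨ι, _, d, h, e, hdh, he, hnm⟩ := classified_aux a ha _ N F hF inferInstance rfl
  let σ : ι ≃ Fin (Fintype.card ι) := Fintype.equivFin ι
  refine ⟨Fintype.card ι, fun j => d (σ.symm j), fun j => h (σ.symm j),
    e ≪≫ₗ (LinearEquiv.piCongrLeft' K(p, k) (fun i => Fin (h i) → K(p, k)) σ),
    fun j => hdh _, fun x j => he x _, ?_⟩
  intro μ
  rw [hnm μ]
  exact (Equiv.sum_comp σ.symm (fun i => if ((d i : ℚ) / (h i : ℚ)) = μ then h i else 0)).symm

end Classification

end Groth.Agent.Lib.Helper24Isoc
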