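import Mathlib

/-!
# Kummer torsor normalisation: auxiliary lemmas (S14692)
-/

universe u

namespace Groth.Agent.Lib.Helper24Kummer

open Polynomial

/-- In an integrally closed domain with a primitive `p^n`-th root of unity `ζ`,
`a ^ (φ(p^n) * m) ∣ p` implies `a ^ m ∣ ζ - 1`. -/
theorem dvd_zeta_sub_one {R : Type*} [CommRing R] [IsDomain R] [IsIntegrallyClosed R]
    (p : ℕ) [hp : Fact p.Prime] (n : ℕ) (hn : 0 < n) (ζ : R) (hζ : IsPrimitiveRoot ζ (p ^ n))
    (a : R) (m : ℕ) (h : a ^ (p ^ (n - 1) * (p - 1) * m) ∣ (p : R)) : a ^ m ∣ ζ - 1 := by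
  obtain ⟨k, rfl⟩ : ∃ k, n = k + 1 := ⟨n - 1, by omega⟩
  have hq : 0 < p ^ (k + 1) := pow_pos hp.out.pos _
  have : NeZero (p ^ (k + 1)) := ⟨hq.ne'⟩
  have h1 : (p : R) = ∏ μ ∈ primitiveRoots (p ^ (k + 1)) R, (1 - μ) := by
    have := congrArg (eval 1) (cyclotomic_eq_prod_X_sub_primitiveRoots hζ)
    rw [eval_one_cyclotomic_prime_pow, eval_prod] at this
    simpa using this
  have h2 : (p : R) ∣ (1 - ζ) ^ (p ^ k * (p - 1)) := by
    rw [h1]
    have hcard : (primitiveRoots (p ^ (k + 1)) R).card = p ^ k * (p - 1) := by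
      rw [hζ.card_primitiveRoots, Nat.totient_prime_pow_succ hp.out]
    rw [← hcard, ← Finset.prod_const]
    apply Finset.prod_dvd_prod_of_dvd
    intro μ hμ
    have hμ' : IsPrimitiveRoot μ (p ^ (k + 1)) := (mem_primitiveRoots hq).1 hμ
    obtain ⟨i, _, hi⟩ := hμ'.eq_pow_of_pow_eq_one hζ.pow_eq_one
    rw [← hi]
    simpa using sub_dvd_pow_sub_pow 1 μ i
  have h3 : (a ^ m) ^ (p ^ k * (p - 1)) ∣ (1 - ζ) ^ (p ^ k * (p - 1)) := by
    rw [← pow_mul, mul_comm m]
    simpa using h.trans h2
  have hne : p ^ k * (p - 1) ≠ 0 := by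
    have := hp.out.two_le
    exact Nat.mul_ne_zero (pow_pos hp.out.pos _).ne' (by omega)
  have h4 := (IsIntegrallyClosed.pow_dvd_pow_iff hne).1 h3
  exact (dvd_sub_comm).1 h4

theorem dvd_zeta_pow_sub_one {R : Type*} [CommRing R] [IsDomain R] [IsIntegrallyClosed R]
    (p : ℕ) [hp : Fact p.Prime] (n : ℕ) (hn : 0 < n) (ζ : R) (hζ : IsPrimitiveRoot ζ (p ^ n))
    (a : R) (m : ℕ) (h : a ^ (p ^ (n - 1) * (p - 1) * m) ∣ (p : R)) (i : ℕ) : a ^ m ∣ ζ ^ i - 1 := by
  refine (dvd_zeta_sub_one p n hn ζ hζ a m h).trans ?_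
  simpa using sub_dvd_pow_sub_pow ζ 1 i



/-- Integrally closed: an integral element `b` of a domain `L ⊇ A` with `π^k b ∈ A` lies in `A`. -/
theorem ic {A L : Type*} [CommRing A] [IsDomain A] [IsIntegrallyClosed A] [CommRing L] [IsDomain L]
    [Algebra A L] (hinj : Function.Injective (algebraMap A L)) (π : A) (hπ : π ≠ 0)
    (b : L) (hb : IsIntegral A b) (a : A) (k : ℕ)
    (h : algebraMap A L π ^ k * b = algebraMap A L a) : ∃ a', algebraMap A L a' = b := by
  obtain ⟨m, hm, hmb⟩ := hb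
  set K := FractionRing A
  have h1 : eval a (scaleRoots m (π ^ k)) = 0 := by
    apply hinj
    rw [map_zero, ← eval₂_at_apply, ← h, ← map_pow, scaleRoots_eval₂_mul, hmb, mul_zero]
  have hπK : algebraMap A K (π ^ k) ≠ 0 := by
    rw [Ne, map_eq_zero_iff _ (IsFractionRing.injective A K)]
    exact pow_ne_zero _ hπ
  set x : K := algebraMap A K a / algebraMap A K (π ^ k)
  have hx : algebraMap A K (π ^ k) * x = algebraMap A K a := by
    rw [mul_div_cancel₀ _ hπK]
  have h2 : eval₂ (algebraMap A K) x m = 0 := by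
    have := scaleRoots_eval₂_mul (algebraMap A K) (p := m) (r := x) (s := π ^ k)
    rw [hx, eval₂_at_apply, h1, map_zero] at this
    exact (mul_eq_zero.1 this.symm).resolve_left (pow_ne_zero _ hπK)
  have hxint : IsIntegral A x := ⟨m, hm, h2⟩
  obtain ⟨y, hy⟩ := IsIntegrallyClosed.isIntegral_iff.1 hxint
  have h3 : π ^ k * y = a := by
    apply IsFractionRing.injective A K
    rw [map_mul, hy, hx]
  refine ⟨y, ?_⟩
  have hπL : algebraMap A L π ^ k ≠ 0 := by
    apply pow_ne_zero
    rw [Ne, map_eq_zero_iff _ hinj]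
    exact hπ
  apply mul_left_cancel₀ hπL
  rw [h, ← h3, map_mul, map_pow]

/-- `∏ (x - π y_i) = x^n + π b`. -/
theorem prod_sub_mul {B ι : Type*} [CommRing B] (s : Finset ι) (x π : B) (y : ι → B) :
    ∃ b, ∏ i ∈ s, (x - π * y i) = x ^ s.card + π * b := by
  classical
  induction s using Finset.induction_on with
  | empty => exact ⟨0, by simp⟩
  | insert a s ha ih =>
    obtain ⟨b, hb⟩ := ih
    refine ⟨x * b - y a * x ^ s.card - π * y a * b, ?_⟩
    rw [Finset.prod_insert ha, hb, Finset.card_insert_of_notMem ha]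
    ring

/-- `(-x)^(p^n) = -x^(p^n) + p e`. -/
theorem neg_pow_prime_pow {B : Type*} [CommRing B] (p : ℕ) (hp : p.Prime) (n : ℕ) (x : B) :
    ∃ e, (-x) ^ (p ^ n) = -x ^ (p ^ n) + (p : B) * e := by
  rcases Nat.even_or_odd (p ^ n) with he | ho
  · have hp2 : p = 2 := by
      have hn : n ≠ 0 := by
        rintro rfl
        simp at he
      exact (Nat.Prime.even_iff hp).1 ((Nat.even_pow.1 he).1)
    refine ⟨x ^ (p ^ n), ?_⟩
    rw [he.neg_pow, hp2]
    push_cast
    ring
  · exact ⟨0, by rw [ho.neg_pow]; ring⟩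

/-- Units descend along integral extensions modulo `π`. -/
theorem ud {A B : Type*} [CommRing A] [CommRing B] [Algebra A B]
    (hinj : Function.Injective (algebraMap A B)) (π : A)
    (IC : ∀ (b : B) (a : A), algebraMap A B π * b = algebraMap A B a → ∃ a', algebraMap A B a' = b)
    (a : A) (w b : B) (hw : IsIntegral A w)
    (h : algebraMap A B a * w = 1 + algebraMap A B π * b) : ∃ a' d : A, a * a' = 1 + π * d := by
  obtain ⟨m, hm, hmw⟩ := hw
  have h1 : eval₂ (algebraMap A B) (1 + algebraMap A B π * b) (scaleRoots m a) = 0 := by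
    rw [← h, scaleRoots_eval₂_mul, hmw, mul_zero]
  have h2 : algebraMap A B π ∣ algebraMap A B (eval 1 (scaleRoots m a)) := by
    have := sub_dvd_eval_sub (1 + algebraMap A B π * b) 1 ((scaleRoots m a).map (algebraMap A B))
    rw [eval_map, eval_map, h1, zero_sub, add_sub_cancel_left, dvd_neg] at this
    have h3 : eval₂ (algebraMap A B) 1 (scaleRoots m a) =
        algebraMap A B (eval 1 (scaleRoots m a)) := by
      rw [← eval₂_at_apply, map_one]
    rw [h3] at this
    exact (dvd_mul_right _ _).trans this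
  obtain ⟨b', hb'⟩ := h2
  obtain ⟨d, hd⟩ := IC b' _ hb'.symm
  have h4 : eval 1 (scaleRoots m a) = π * d := by
    apply hinj
    rw [hb', map_mul, hd]
  have h5 : eval 1 (scaleRoots m a) =
      1 + a * ∑ i ∈ Finset.range m.natDegree, m.coeff i * a ^ (m.natDegree - i - 1) := by
    rw [eval_eq_sum_range, natDegree_scaleRoots, Finset.sum_range_succ, coeff_scaleRoots,
      Nat.sub_self, pow_zero, hm.coeff_natDegree, one_pow, mul_one, mul_one, add_comm, Finset.mul_sum]
    congr 1
    refine Finset.sum_congr rfl fun i hi => ?_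
    have hi' := Finset.mem_range.1 hi
    rw [coeff_scaleRoots, one_pow, mul_one]
    have : a ^ (m.natDegree - i) = a ^ (m.natDegree - i - 1) * a := by
      rw [← pow_succ]
      congr 1
      omega
    rw [this]
    ring
  rw [h5] at h4
  refine ⟨-∑ i ∈ Finset.range m.natDegree, m.coeff i * a ^ (m.natDegree - i - 1), -d, ?_⟩
  linear_combination (-1 : A) * h4



theorem prod_formula {A D : Type*} [CommRing A] [CommRing D] [IsDomain D] [Algebra A D]
    (q : ℕ) (hq : 0 < q) (ζ : D) (hζ : IsPrimitiveRoot ζ q) (ϖ t : D) (k : ℕ) (P : A → Prop)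
    (hroots : ∀ i : ℕ, ∃ c : A, P c ∧ ζ ^ i = 1 + ϖ ^ k * algebraMap A D c) :
    ∃ c : D → A, (∀ μ ∈ nthRootsFinset q (1 : D), P (c μ)) ∧
      (1 + ϖ ^ k * t) ^ q - 1 =
        ϖ ^ (k * q) * ∏ μ ∈ nthRootsFinset q (1 : D), (t - algebraMap A D (c μ)) := by
  have : NeZero q := ⟨hq.ne'⟩
  have hμ : ∀ μ ∈ nthRootsFinset q (1 : D), ∃ c, P c ∧ μ = 1 + ϖ ^ k * algebraMap A D c := by
    intro μ hμ
    obtain ⟨i, _, rfl⟩ := hζ.eq_pow_of_pow_eq_one ((mem_nthRootsFinset hq 1).1 hμ)
    exact hroots i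
  choose! c hcP hc using hμ
  refine ⟨c, hcP, ?_⟩
  have h1 := hζ.pow_sub_pow_eq_prod_sub_mul (1 + ϖ ^ k * t) 1 hq
  rw [one_pow] at h1
  rw [h1]
  have h2 : ϖ ^ (k * q) = ∏ _μ ∈ nthRootsFinset q (1 : D), ϖ ^ k := by
    rw [Finset.prod_const, hζ.card_nthRootsFinset, pow_mul]
  rw [h2, ← Finset.prod_mul_distrib]
  refine Finset.prod_congr rfl fun μ hμ => ?_
  rw [mul_one]
  conv_lhs => rw [hc μ hμ]
  ring

theorem core {A L : Type*} [CommRing A] [IsDomain A] [IsIntegrallyClosed A] [CommRing L] [IsDomain L]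
    [Algebra A L] (hinj : Function.Injective (algebraMap A L)) (π : A) (hπ : π ≠ 0)
    (u : L) (hu : algebraMap A L π * u = 1)
    (p : ℕ) [hp : Fact p.Prime] (hpπ : π ∣ (p : A)) (n : ℕ)
    (ζ : A) (hζ : IsPrimitiveRoot ζ (p ^ n)) (j : ℕ)
    (hdv : ∀ i : ℕ, π ^ (j + 1) ∣ ζ ^ i - 1)
    (hlift : ∀ a : A, (∃ a' d : A, a * a' = 1 + π * d) → IsUnit a)
    (f g : Aˣ) (f₀ : A)
    (hfg : (f : A) * (g : A) ^ (p ^ n) = 1 + π ^ (j * p ^ n) * f₀)
    (hmax : ∀ (g' : Aˣ) (c : A), (f : A) * (g' : A) ^ (p ^ n) ≠ 1 + π ^ ((j + 1) * p ^ n) * c)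
    (Z : L) (hZ : Z ^ (p ^ n) = algebraMap A L f)
    (hred : (Ideal.span {algebraMap A (integralClosure A L) π}).IsRadical)
    (g₀ d : A) (hd : f₀ - g₀ ^ (p ^ n) = π * d) : False := by
  classical
  have hq : 0 < p ^ n := pow_pos hp.out.pos _
  generalize hqdef : p ^ n = q at *
  -- Step A
  have hπL : algebraMap A L π ≠ 0 := by
    rw [Ne, map_eq_zero_iff _ hinj]; exact hπ
  set z' : L := Z * algebraMap A L g with hz'def
  have hz'q : z' ^ q = 1 + algebraMap A L π ^ (j * q) * algebraMap A L f₀ := by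
    rw [hz'def, mul_pow, hZ, ← map_pow, ← map_mul, hfg]
    simp
  have hz'int : IsIntegral A z' := by
    refine IsIntegral.of_pow hq ?_
    rw [hz'def, mul_pow, hZ, ← map_pow, ← map_mul]
    exact isIntegral_algebraMap
  set T : L := (z' - 1) * u ^ j with hTdef
  have hT1 : z' = 1 + algebraMap A L π ^ j * T := by
    have : algebraMap A L π ^ j * u ^ j = 1 := by rw [← mul_pow, hu, one_pow]
    rw [hTdef]
    linear_combination (1 - z') * this
  have hζL : IsPrimitiveRoot (algebraMap A L ζ) q := hζ.map_of_injective hinj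
  have hrootsL : ∀ i : ℕ, ∃ c : A, (∃ c', c = π * c') ∧
      (algebraMap A L ζ) ^ i = 1 + algebraMap A L π ^ j * algebraMap A L c := by
    intro i
    obtain ⟨c', hc'⟩ := hdv i
    refine ⟨π * c', ⟨c', rfl⟩, ?_⟩
    rw [← map_pow, ← map_pow, ← map_mul, ← map_one (algebraMap A L), ← map_add]
    congr 1
    linear_combination hc'
  obtain ⟨c, hcP, hform⟩ := prod_formula q hq (algebraMap A L ζ) hζL (algebraMap A L π) T j
    (fun c => ∃ c', c = π * c') hrootsL
  rw [← hT1, hz'q, add_sub_cancel_left] at hform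
  have hstar : algebraMap A L f₀ =
      ∏ μ ∈ nthRootsFinset q (1 : L), (T - algebraMap A L (c μ)) :=
    mul_left_cancel₀ (pow_ne_zero _ hπL) hform
  -- Step B : T integral
  have hTint : IsIntegral A T := by
    have hQm : (∏ μ ∈ nthRootsFinset q (1 : L), (X - C (c μ)) - C f₀ : A[X]).Monic := by
      refine (monic_prod_of_monic _ _ (fun μ _ => monic_X_sub_C (c μ))).sub_of_left ?_
      refine lt_of_le_of_lt degree_C_le ?_
      rw [degree_prod]
      simp only [degree_X_sub_C, Finset.sum_const, hζL.card_nthRootsFinset, nsmul_eq_mul, mul_one]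
      exact_mod_cast hq
    refine ⟨_, hQm, ?_⟩
    rw [eval₂_sub, eval₂_finsetProd, eval₂_C, hstar, sub_eq_zero]
    refine Finset.prod_congr rfl fun μ _ => ?_
    rw [eval₂_sub, eval₂_X, eval₂_C]
  -- Step C : work in B
  have hιBinj : Function.Injective (algebraMap A (integralClosure A L)) := fun a a' h =>
    hinj (congrArg Subtype.val h)
  have hcoe : ∀ a : A, ((algebraMap A (integralClosure A L) a : integralClosure A L) : L) =
      algebraMap A L a := fun a => rfl
  obtain ⟨TB, hTB⟩ : ∃ TB : integralClosure A L, (TB : L) = T := ⟨⟨T, hTint⟩, rfl⟩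
  obtain ⟨z'B, hz'B⟩ : ∃ zB : integralClosure A L, (zB : L) = z' := ⟨⟨z', hz'int⟩, rfl⟩
  have hcP' : ∀ μ ∈ nthRootsFinset q (1 : L), ∃ c', c μ = π * c' := hcP
  choose! c' hc' using hcP'
  have hstarB : ∏ μ ∈ nthRootsFinset q (1 : L),
      (TB - algebraMap A (integralClosure A L) π * algebraMap A (integralClosure A L) (c' μ)) =
      algebraMap A (integralClosure A L) f₀ := by
    apply Subtype.ext
    rw [hcoe, hstar]
    rw [show ((∏ μ ∈ nthRootsFinset q (1 : L), (TB - algebraMap A (integralClosure A L) π *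
        algebraMap A (integralClosure A L) (c' μ)) : integralClosure A L) : L) =
        (integralClosure A L).val (∏ μ ∈ nthRootsFinset q (1 : L),
        (TB - algebraMap A (integralClosure A L) π *
        algebraMap A (integralClosure A L) (c' μ))) from rfl, map_prod]
    refine Finset.prod_congr rfl fun μ hμ => ?_
    rw [map_sub, map_mul, hc' μ hμ, map_mul, ← hTB]
    rfl
  obtain ⟨b₁, hb₁⟩ := prod_sub_mul (nthRootsFinset q (1 : L)) TB
    (algebraMap A (integralClosure A L) π) (fun μ => algebraMap A (integralClosure A L) (c' μ))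
  rw [hstarB, hζL.card_nthRootsFinset] at hb₁
  -- Step D : Frobenius and radicality
  obtain ⟨r, hr⟩ := exists_add_pow_prime_pow_eq hp.out TB
    (-algebraMap A (integralClosure A L) g₀) n
  obtain ⟨e, he⟩ := neg_pow_prime_pow p hp.out n (algebraMap A (integralClosure A L) g₀)
  rw [hqdef] at hr he
  obtain ⟨p', hp'⟩ := hpπ
  have hpB : (p : integralClosure A L) = algebraMap A (integralClosure A L) π *
      algebraMap A (integralClosure A L) p' := by
    rw [← map_mul, ← hp', map_natCast]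
  have hdB : algebraMap A (integralClosure A L) f₀ -
      (algebraMap A (integralClosure A L) g₀) ^ q =
      algebraMap A (integralClosure A L) π * algebraMap A (integralClosure A L) d := by
    rw [← map_pow, ← map_sub, hd, map_mul]
  have hmem : (TB - algebraMap A (integralClosure A L) g₀) ^ q ∈
      Ideal.span {algebraMap A (integralClosure A L) π} := by
    rw [Ideal.mem_span_singleton']
    refine ⟨algebraMap A (integralClosure A L) d - b₁ + algebraMap A (integralClosure A L) p' *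
      (e - TB * algebraMap A (integralClosure A L) g₀ * r), ?_⟩
    rw [sub_eq_add_neg TB, hr, he, hpB]
    linear_combination (-1 : integralClosure A L) * hdB + hb₁
  have hrad : TB - algebraMap A (integralClosure A L) g₀ ∈
      Ideal.span {algebraMap A (integralClosure A L) π} := hred ⟨q, hmem⟩
  obtain ⟨T', hT'⟩ := Ideal.mem_span_singleton'.1 hrad
  -- Step E : g₁ is a unit
  have hz'B1 : z'B = 1 + algebraMap A (integralClosure A L) π ^ j * TB := by
    apply Subtype.ext
    rw [hz'B, hT1, ← hTB]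
    rfl
  set g₁ : A := 1 + π ^ j * g₀ with hg₁def
  have hz'B2 : z'B = algebraMap A (integralClosure A L) g₁ +
      algebraMap A (integralClosure A L) π ^ (j + 1) * T' := by
    rw [hz'B1, hg₁def, map_add, map_one, map_mul, map_pow]
    linear_combination (algebraMap A (integralClosure A L) π) ^ j * hT'.symm
  have hz'Bq : z'B ^ q = algebraMap A (integralClosure A L) ((f * g ^ q : Aˣ) : A) := by
    apply Subtype.ext
    rw [hcoe, Units.val_mul, Units.val_pow_eq_pow_val, hfg]
    rw [show ((z'B ^ q : integralClosure A L) : L) = (z'B : L) ^ q from rfl, hz'B, hz'q]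
    simp
  have hw : z'B * (z'B ^ (q - 1) *
      algebraMap A (integralClosure A L) ((f * g ^ q : Aˣ)⁻¹ : Aˣ)) = 1 := by
    rw [← mul_assoc, ← pow_succ', Nat.sub_add_cancel hq, hz'Bq, ← map_mul, ← Units.val_mul,
      mul_inv_cancel, Units.val_one, map_one]
  set w := z'B ^ (q - 1) * algebraMap A (integralClosure A L) ((f * g ^ q : Aˣ)⁻¹ : Aˣ) with hwdef
  have hg₁w : algebraMap A (integralClosure A L) g₁ * w =
      1 + algebraMap A (integralClosure A L) π *
        (-(algebraMap A (integralClosure A L) π ^ j * T' * w)) := by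
    have : algebraMap A (integralClosure A L) g₁ =
        z'B - algebraMap A (integralClosure A L) π ^ (j + 1) * T' := by rw [hz'B2]; ring
    rw [this]
    linear_combination hw
  have ICB : ∀ (b : integralClosure A L) (a : A) (k : ℕ),
      algebraMap A (integralClosure A L) π ^ k * b = algebraMap A (integralClosure A L) a →
      ∃ a', algebraMap A (integralClosure A L) a' = b := by
    intro b a k hb
    obtain ⟨a', ha'⟩ := ic hinj π hπ (b : L) b.2 a k (congrArg Subtype.val hb)
    exact ⟨a', Subtype.ext ha'⟩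
  obtain ⟨a', d', had⟩ := ud hιBinj π (fun b a hb => ICB b a 1 (by rw [pow_one]; exact hb)) g₁ w _
    (integralClosure.isIntegral w) hg₁w
  obtain ⟨g₁u, hg₁u⟩ := hlift g₁ ⟨a', d', had⟩
  -- Step F : improve the congruence
  have hg₁inv : algebraMap A (integralClosure A L) g₁ *
      algebraMap A (integralClosure A L) ((g₁u⁻¹ : Aˣ) : A) = 1 := by
    rw [← map_mul, ← hg₁u, ← Units.val_mul, mul_inv_cancel, Units.val_one, map_one]
  have hz'' : z'B * algebraMap A (integralClosure A L) ((g₁u⁻¹ : Aˣ) : A) =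
      1 + algebraMap A (integralClosure A L) π ^ (j + 1) *
        (T' * algebraMap A (integralClosure A L) ((g₁u⁻¹ : Aˣ) : A)) := by
    rw [hz'B2]
    linear_combination hg₁inv
  have hz''q : (z'B * algebraMap A (integralClosure A L) ((g₁u⁻¹ : Aˣ) : A)) ^ q =
      algebraMap A (integralClosure A L) ((f : A) * ((g * g₁u⁻¹ : Aˣ) : A) ^ q) := by
    rw [mul_pow, hz'Bq, ← map_pow, ← map_mul]
    congr 1
    simp only [Units.val_mul, Units.val_pow_eq_pow_val]
    ring
  have hζB : IsPrimitiveRoot (algebraMap A (integralClosure A L) ζ) q :=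
    hζ.map_of_injective hιBinj
  have hrootsB : ∀ i : ℕ, ∃ c : A, True ∧
      (algebraMap A (integralClosure A L) ζ) ^ i =
        1 + algebraMap A (integralClosure A L) π ^ (j + 1) *
          algebraMap A (integralClosure A L) c := by
    intro i
    obtain ⟨c₀, hc₀⟩ := hdv i
    refine ⟨c₀, trivial, ?_⟩
    rw [← map_pow, ← map_pow, ← map_mul, ← map_one (algebraMap A (integralClosure A L)),
      ← map_add]
    congr 1
    linear_combination hc₀
  obtain ⟨c₂, -, hform₂⟩ := prod_formula q hq (algebraMap A (integralClosure A L) ζ) hζB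
    (algebraMap A (integralClosure A L) π)
    (T' * algebraMap A (integralClosure A L) ((g₁u⁻¹ : Aˣ) : A)) (j + 1) (fun _ => True) hrootsB
  rw [← hz'', hz''q] at hform₂
  have h1 : algebraMap A (integralClosure A L) π ^ ((j + 1) * q) *
      (∏ μ ∈ nthRootsFinset q (1 : integralClosure A L),
        (T' * algebraMap A (integralClosure A L) ((g₁u⁻¹ : Aˣ) : A) -
          algebraMap A (integralClosure A L) (c₂ μ))) =
      algebraMap A (integralClosure A L) ((f : A) * ((g * g₁u⁻¹ : Aˣ) : A) ^ q - 1) := by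
    rw [← hform₂, map_sub, map_one]
  obtain ⟨cA, hcA⟩ := ICB _ _ _ h1
  rw [← hcA, ← map_pow, ← map_mul] at h1
  have h2 := hιBinj h1
  exact hmax (g * g₁u⁻¹) cA (by linear_combination (-1 : A) * h2)

end Groth.Agent.Lib.Helper24Kummer
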