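import Mathlib
import Groth.Prelude.Def_W4c4cptpiccptjacBI

set_option autoImplicit false
set_option linter.unusedSectionVars false
universe u

namespace Groth.Agent.Lib.Helper24LabGraph

open LabGraph

variable {V E : Type u} [Fintype V] [Fintype E] [DecidableEq V] [DecidableEq E]

theorem sum_twist_eq_zero (ends : E → V × V) (φ : V → ℤ) : ∑ v : V, twist ends φ v = 0 := by
  unfold twist
  rw [Finset.sum_comm]
  apply Finset.sum_eq_zero
  intro e _
  rw [Finset.sum_add_distrib, Finset.sum_ite_eq, Finset.sum_ite_eq]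
  simp

theorem sum_twist_eq (ends : E → V × V) (φ : V → ℤ) (Y : Finset V) :
    ∑ v ∈ Y, twist ends φ v =
      ∑ e : E, ((if (ends e).1 ∈ Y then φ (ends e).2 - φ (ends e).1 else 0) +
        (if (ends e).2 ∈ Y then φ (ends e).1 - φ (ends e).2 else 0)) := by
  unfold twist
  rw [Finset.sum_comm]
  apply Finset.sum_congr rfl
  intro e _
  rw [Finset.sum_add_distrib, Finset.sum_ite_eq, Finset.sum_ite_eq]

theorem cut_eq_sum (ends : E → V × V) (S : Finset V) :
    (cut ends S : ℤ) = ∑ e : E, (if ((ends e).1 ∈ S ∧ (ends e).2 ∉ S) ∨ ((ends e).1 ∉ S ∧ (ends e).2 ∈ S)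
      then (1 : ℤ) else 0) := by
  unfold cut
  rw [Finset.card_filter]
  push_cast
  rfl

theorem canDeg_univ (ends : E → V × V) (w : V → ℕ) :
    canDeg ends w Finset.univ = 2 * genus ends w - 2 := by
  unfold canDeg genus
  rw [Finset.sum_add_distrib, Finset.sum_sub_distrib, ← Finset.mul_sum]
  have h1 : ∑ v : V, (endCount ends Finset.univ v : ℤ) = 2 * (Fintype.card E : ℤ) := by
    unfold endCount
    push_cast
    rw [Finset.sum_comm]
    have : ∀ e : E, ∑ v : V, (((if (ends e).1 = v then (1 : ℤ) else 0)) + (if (ends e).2 = v then (1 : ℤ) else 0)) = 2 := by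
      intro e
      rw [Finset.sum_add_distrib, Finset.sum_ite_eq, Finset.sum_ite_eq]
      simp
    rw [Finset.sum_congr rfl (fun e _ => this e)]
    simp [mul_comm]
  rw [h1]
  simp
  ring


theorem satisfiesBI_add_twist (ends : E → V × V) (w : V → ℕ)
    (hg : 3 ≤ genus ends w) (d : V → ℤ) (hBI : SatisfiesBI ends w d) (Z : Finset V)
    (hZ : 2 * (canDeg ends w Finset.univ * (∑ v ∈ Z, d v) - (∑ v : V, d v) * canDeg ends w Z) =
      (cut ends Z : ℤ) * canDeg ends w Finset.univ) :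
    SatisfiesBI ends w (fun v => d v + twist ends (fun u => if u ∈ Z then 1 else 0) v) := by
  classical
  have hK0 : 0 ≤ canDeg ends w Finset.univ := by rw [canDeg_univ]; linarith
  set K := canDeg ends w Finset.univ with hK
  set φ : V → ℤ := fun u => if u ∈ Z then 1 else 0 with hφ
  have htot : ∑ v : V, twist ends φ v = 0 := sum_twist_eq_zero ends φ
  intro Y
  have hsumY : ∑ v ∈ Y, (d v + twist ends φ v) = ∑ v ∈ Y, d v + ∑ v ∈ Y, twist ends φ v :=
    Finset.sum_add_distrib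
  have hD : ∑ v : V, (d v + twist ends φ v) = ∑ v : V, d v := by
    rw [Finset.sum_add_distrib, htot, add_zero]
  rw [hsumY, hD]
  set ℓ : Finset V → ℤ := fun S => K * ∑ v ∈ S, d v - (∑ v : V, d v) * canDeg ends w S with hℓ
  have hadd : ∀ S T : Finset V, ℓ (S ∪ T) + ℓ (S ∩ T) = ℓ S + ℓ T := by
    intro S T
    simp only [hℓ, canDeg]
    have h1 := Finset.sum_union_inter (s₁ := S) (s₂ := T) (f := d)
    have h2 := Finset.sum_union_inter (s₁ := S) (s₂ := T)
      (f := fun v => (2 * (w v : ℤ) - 2 + (endCount ends Finset.univ v : ℤ)))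
    linear_combination K * h1 - (∑ v : V, d v) * h2
  have hsd : ∀ S T : Finset V, ℓ (S \ T) + ℓ (S ∩ T) = ℓ S := by
    intro S T
    simp only [hℓ, canDeg]
    have h1 := Finset.sum_sdiff (s₁ := S ∩ T) (s₂ := S) (f := d) Finset.inter_subset_left
    have h2 := Finset.sum_sdiff (s₁ := S ∩ T) (s₂ := S)
      (f := fun v => (2 * (w v : ℤ) - 2 + (endCount ends Finset.univ v : ℤ))) Finset.inter_subset_left
    rw [Finset.sdiff_inter_self_left] at h1 h2
    linear_combination K * h1 - (∑ v : V, d v) * h2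
  have hBI' : ∀ S : Finset V, 2 * |ℓ S| ≤ (cut ends S : ℤ) * K := hBI
  have hZ' : 2 * ℓ Z = (cut ends Z : ℤ) * K := hZ
  set zY := ∑ v ∈ Y, twist ends φ v with hzY
  have hzY' := sum_twist_eq ends φ Y
  have hup : (cut ends (Y ∪ Z) : ℤ) - cut ends Z + cut ends (Y ∩ Z) + 2 * zY ≤ cut ends Y := by
    rw [hzY, hzY', cut_eq_sum, cut_eq_sum, cut_eq_sum, cut_eq_sum, Finset.mul_sum,
      ← Finset.sum_sub_distrib, ← Finset.sum_add_distrib, ← Finset.sum_add_distrib]
    apply Finset.sum_le_sum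
    intro e _
    by_cases h1 : (ends e).1 ∈ Y <;> by_cases h2 : (ends e).1 ∈ Z <;>
      by_cases h3 : (ends e).2 ∈ Y <;> by_cases h4 : (ends e).2 ∈ Z <;>
      simp [hφ, Finset.mem_union, Finset.mem_inter, h1, h2, h3, h4]
  have hlo : -(cut ends Y : ℤ) ≤ (cut ends Z : ℤ) - cut ends (Z \ Y) - cut ends (Y \ Z) + 2 * zY := by
    rw [hzY, hzY', cut_eq_sum, cut_eq_sum, cut_eq_sum, cut_eq_sum, Finset.mul_sum,
      ← Finset.sum_sub_distrib, ← Finset.sum_sub_distrib, ← Finset.sum_add_distrib,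
      ← Finset.sum_neg_distrib]
    apply Finset.sum_le_sum
    intro e _
    by_cases h1 : (ends e).1 ∈ Y <;> by_cases h2 : (ends e).1 ∈ Z <;>
      by_cases h3 : (ends e).2 ∈ Y <;> by_cases h4 : (ends e).2 ∈ Z <;>
      simp [hφ, Finset.mem_sdiff, h1, h2, h3, h4]
  have hexp : K * (∑ v ∈ Y, d v + zY) - (∑ v : V, d v) * canDeg ends w Y = ℓ Y + K * zY := by
    simp only [hℓ]; ring
  rw [hexp]
  have hupK := mul_le_mul_of_nonneg_left hup hK0
  have hloK := mul_le_mul_of_nonneg_left hlo hK0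
  have e1 := hadd Y Z
  have e2 := hsd Z Y
  have e3 := hsd Y Z
  rw [Finset.inter_comm Z Y] at e2
  have a1 := abs_le.1 (le_refl |ℓ (Y ∪ Z)|)
  have a2 := abs_le.1 (le_refl |ℓ (Y ∩ Z)|)
  have a3 := abs_le.1 (le_refl |ℓ (Z \ Y)|)
  have a4 := abs_le.1 (le_refl |ℓ (Y \ Z)|)
  have c1 := hBI' (Y ∪ Z)
  have c2 := hBI' (Y ∩ Z)
  have c3 := hBI' (Z \ Y)
  have c4 := hBI' (Y \ Z)
  have key : |ℓ Y + K * zY| ≤ ((cut ends Y : ℤ) * K - |ℓ Y + K * zY|) := by
    rw [abs_le]
    constructor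
    · have := neg_abs_le (ℓ Y + K * zY)
      have h5 : -((cut ends Y : ℤ) * K) ≤ 2 * (ℓ Y + K * zY) := by linarith
      rcases abs_cases (ℓ Y + K * zY) with ⟨h, _⟩ | ⟨h, _⟩ <;> linarith
    · have h5 : 2 * (ℓ Y + K * zY) ≤ (cut ends Y : ℤ) * K := by linarith
      rcases abs_cases (ℓ Y + K * zY) with ⟨h, _⟩ | ⟨h, _⟩ <;> linarith
  linarith

end Groth.Agent.Lib.Helper24LabGraph
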