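import Mathlib
import Groth.Prelude.Def_W4c4cptpiccptjacBI
import Groth.Agent.Lib.Helper24LabGraph

set_option autoImplicit false
set_option linter.unusedSectionVars false
universe u

namespace Groth.Agent.Lib.Helper24LabGraph

open LabGraph

variable {V E : Type u} [Fintype V] [Fintype E] [DecidableEq V] [DecidableEq E]

/-- Dirichlet energy of a vertex labelling. -/
def dirQ (ends : E → V × V) (ψ : V → ℤ) : ℤ := ∑ e : E, (ψ (ends e).1 - ψ (ends e).2) ^ 2

/-- Total variation of a vertex labelling. -/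
def totVar (ends : E → V × V) (ψ : V → ℤ) : ℤ := ∑ e : E, |ψ (ends e).1 - ψ (ends e).2|

/-- Indicator labelling of a vertex set. -/
def ind (Y : Finset V) : V → ℤ := fun u => if u ∈ Y then 1 else 0

theorem dirQ_add_ind (ends : E → V × V) (ψ : V → ℤ) (Y : Finset V) :
    dirQ ends (fun v => ψ v + ind Y v) =
      dirQ ends ψ + cut ends Y - 2 * ∑ v ∈ Y, twist ends ψ v := by
  unfold dirQ
  rw [sum_twist_eq, cut_eq_sum, Finset.mul_sum, ← Finset.sum_add_distrib,
    ← Finset.sum_sub_distrib]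
  apply Finset.sum_congr rfl
  intro e _
  by_cases h1 : (ends e).1 ∈ Y <;> by_cases h2 : (ends e).2 ∈ Y <;>
    simp [ind, h1, h2] <;> ring

theorem dirQ_sub_ind (ends : E → V × V) (ψ : V → ℤ) (Y : Finset V) :
    dirQ ends (fun v => ψ v - ind Y v) =
      dirQ ends ψ + cut ends Y + 2 * ∑ v ∈ Y, twist ends ψ v := by
  unfold dirQ
  rw [sum_twist_eq, cut_eq_sum, Finset.mul_sum, ← Finset.sum_add_distrib,
    ← Finset.sum_add_distrib]
  apply Finset.sum_congr rfl
  intro e _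
  by_cases h1 : (ends e).1 ∈ Y <;> by_cases h2 : (ends e).2 ∈ Y <;>
    simp [ind, h1, h2] <;> ring

theorem sum_ind_mul (Y : Finset V) (y : V → ℤ) : ∑ v : V, ind Y v * y v = ∑ v ∈ Y, y v := by
  unfold ind
  simp [ite_mul, Finset.sum_ite_mem]

theorem abs_sub_le_totVar_of_adj (ends : E → V × V) (ψ : V → ℤ) {u w : V} (h : Adj ends u w) :
    |ψ w - ψ u| ≤ totVar ends ψ := by
  obtain ⟨e, he | he⟩ := h
  · have := Finset.single_le_sum (f := fun e : E => |ψ (ends e).1 - ψ (ends e).2|)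
      (fun _ _ => abs_nonneg _) (Finset.mem_univ e)
    simp only [he] at this
    rw [abs_sub_comm]
    exact this
  · have := Finset.single_le_sum (f := fun e : E => |ψ (ends e).1 - ψ (ends e).2|)
      (fun _ _ => abs_nonneg _) (Finset.mem_univ e)
    simp only [he] at this
    exact this

theorem totVar_nonneg (ends : E → V × V) (ψ : V → ℤ) : 0 ≤ totVar ends ψ :=
  Finset.sum_nonneg (fun _ _ => abs_nonneg _)

theorem exists_path_bound (ends : E → V × V) {v w : V}
    (h : Relation.ReflTransGen (Adj ends) v w) :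
    ∃ n : ℕ, ∀ ψ : V → ℤ, |ψ w - ψ v| ≤ n * totVar ends ψ := by
  induction h with
  | refl => exact ⟨0, fun ψ => by simp⟩
  | tail _ hadj ih =>
    obtain ⟨n, hn⟩ := ih
    refine ⟨n + 1, fun ψ => ?_⟩
    rename_i b c _
    have h1 := hn ψ
    have h2 := abs_sub_le_totVar_of_adj ends ψ hadj
    have h3 : |ψ c - ψ v| ≤ |ψ c - ψ b| + |ψ b - ψ v| := abs_sub_le _ _ _
    push_cast
    linarith

/-- The energy functional. -/
def energy (ends : E → V × V) (K : ℤ) (y : V → ℤ) (ψ : V → ℤ) : ℤ :=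
  K * dirQ ends ψ - 2 * ∑ v : V, ψ v * y v

theorem exists_energy_lower_bound (ends : E → V × V) (hconn : Connected ends) (K : ℤ) (hK : 1 ≤ K)
    (y : V → ℤ) (hy : ∑ v : V, y v = 0) : ∃ B : ℤ, ∀ ψ : V → ℤ, B ≤ energy ends K y ψ := by
  classical
  obtain ⟨⟨v0⟩, hpath⟩ := hconn
  choose n hn using fun w => exists_path_bound ends (hpath v0 w)
  set C : ℤ := ∑ v : V, (n v : ℤ) * |y v| with hC
  have hC0 : 0 ≤ C := Finset.sum_nonneg (fun v _ => mul_nonneg (by positivity) (abs_nonneg _))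
  refine ⟨-((Fintype.card E : ℤ) * C ^ 2), fun ψ => ?_⟩
  have h1 : ∑ v : V, ψ v * y v ≤ C * totVar ends ψ := by
    have e1 : ∑ v : V, ψ v * y v = ∑ v : V, (ψ v - ψ v0) * y v := by
      simp only [sub_mul]
      rw [Finset.sum_sub_distrib, ← Finset.mul_sum, hy, mul_zero, sub_zero]
    rw [e1, hC, Finset.sum_mul]
    apply Finset.sum_le_sum
    intro v _
    calc (ψ v - ψ v0) * y v ≤ |(ψ v - ψ v0) * y v| := le_abs_self _
      _ = |ψ v - ψ v0| * |y v| := abs_mul _ _
      _ ≤ ((n v : ℤ) * totVar ends ψ) * |y v| :=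
          mul_le_mul_of_nonneg_right (hn v ψ) (abs_nonneg _)
      _ = (n v : ℤ) * |y v| * totVar ends ψ := by ring
  have h2 : ∀ x : ℤ, -(C ^ 2) ≤ K * x ^ 2 - 2 * C * |x| := by
    intro x
    have hx : x ^ 2 = |x| ^ 2 := (sq_abs x).symm
    have hx0 : 0 ≤ |x| ^ 2 := sq_nonneg _
    nlinarith [sq_nonneg (|x| - C), mul_nonneg (sub_nonneg.2 hK) hx0]
  have h3 : -((Fintype.card E : ℤ) * C ^ 2) ≤ K * dirQ ends ψ - 2 * C * totVar ends ψ := by
    unfold dirQ totVar
    rw [Finset.mul_sum, Finset.mul_sum, ← Finset.sum_sub_distrib]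
    have : -((Fintype.card E : ℤ) * C ^ 2) = ∑ _e : E, -(C ^ 2) := by
      rw [Finset.sum_const, Finset.card_univ]; simp
    rw [this]
    apply Finset.sum_le_sum
    intro e _
    exact h2 _
  unfold energy
  linarith

theorem exists_energy_min (ends : E → V × V) (hconn : Connected ends) (K : ℤ) (hK : 1 ≤ K)
    (y : V → ℤ) (hy : ∑ v : V, y v = 0) :
    ∃ ψ : V → ℤ, ∀ ψ' : V → ℤ, energy ends K y ψ ≤ energy ends K y ψ' := by
  obtain ⟨B, hB⟩ := exists_energy_lower_bound ends hconn K hK y hy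
  obtain ⟨m, ⟨ψ, hψ⟩, hmin⟩ := Int.exists_least_of_bdd (P := fun z => ∃ ψ, energy ends K y ψ = z)
    ⟨B, fun z ⟨ψ, hψ⟩ => hψ ▸ hB ψ⟩ ⟨_, fun _ => 0, rfl⟩
  exact ⟨ψ, fun ψ' => hψ ▸ hmin _ ⟨ψ', rfl⟩⟩

/-- Abstract existence of balanced representatives: for `y` of total `0` on a connected graph and
`K ≥ 1` there is a twist making every partial sum bounded by `K · cut / 2`. -/
theorem exists_twist_balanced (ends : E → V × V) (hconn : Connected ends) (K : ℤ) (hK : 1 ≤ K)
    (y : V → ℤ) (hy : ∑ v : V, y v = 0) :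
    ∃ ψ : V → ℤ, ∀ Y : Finset V,
      2 * |∑ v ∈ Y, y v + K * ∑ v ∈ Y, twist ends ψ v| ≤ (cut ends Y : ℤ) * K := by
  obtain ⟨ψ, hψ⟩ := exists_energy_min ends hconn K hK y hy
  refine ⟨ψ, fun Y => ?_⟩
  have h1 := hψ (fun v => ψ v + ind Y v)
  have h2 := hψ (fun v => ψ v - ind Y v)
  unfold energy at h1 h2
  rw [dirQ_add_ind] at h1
  rw [dirQ_sub_ind] at h2
  simp only [add_mul, sub_mul, Finset.sum_add_distrib, Finset.sum_sub_distrib, sum_ind_mul] at h1 h2
  have key : |∑ v ∈ Y, y v + K * ∑ v ∈ Y, twist ends ψ v| * 2 ≤ (cut ends Y : ℤ) * K := by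
    rcases abs_cases (∑ v ∈ Y, y v + K * ∑ v ∈ Y, twist ends ψ v) with ⟨h, _⟩ | ⟨h, _⟩ <;>
      rw [h] <;> nlinarith
  linarith

/-- Every degree class contains a representative satisfying the Basic Inequality. -/
theorem exists_twistEquiv_satisfiesBI (ends : E → V × V) (w : V → ℕ) (hconn : Connected ends)
    (hg : 3 ≤ genus ends w) (d : V → ℤ) :
    ∃ d' : V → ℤ, TwistEquiv ends d' d ∧ SatisfiesBI ends w d' := by
  classical
  have hK1 : 1 ≤ canDeg ends w Finset.univ := by rw [canDeg_univ]; linarith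
  set K := canDeg ends w Finset.univ with hK
  set D := ∑ v : V, d v with hD
  set y : V → ℤ := fun v => K * d v - D * (2 * (w v : ℤ) - 2 + (endCount ends Finset.univ v : ℤ))
    with hy
  have hysum : ∀ Y : Finset V, ∑ v ∈ Y, y v = K * ∑ v ∈ Y, d v - D * canDeg ends w Y := by
    intro Y
    simp only [hy, canDeg]
    rw [Finset.sum_sub_distrib, ← Finset.mul_sum, ← Finset.mul_sum]
  have hy0 : ∑ v : V, y v = 0 := by
    rw [hysum Finset.univ, ← hK, ← hD]; ring
  obtain ⟨ψ, hψ⟩ := exists_twist_balanced ends hconn K hK1 y hy0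
  refine ⟨fun v => d v + twist ends ψ v, ⟨ψ, fun v => by simp⟩, ?_⟩
  intro Y
  have hD' : ∑ v : V, (d v + twist ends ψ v) = D := by
    rw [Finset.sum_add_distrib, sum_twist_eq_zero, add_zero]
  rw [hD', Finset.sum_add_distrib, ← hK]
  have := hψ Y
  rw [hysum Y] at this
  have e : K * (∑ v ∈ Y, d v + ∑ v ∈ Y, twist ends ψ v) - D * canDeg ends w Y =
      K * ∑ v ∈ Y, d v - D * canDeg ends w Y + K * ∑ v ∈ Y, twist ends ψ v := by ring
  rw [e]
  exact this

end Groth.Agent.Lib.Helper24LabGraph
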