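import Mathlib
import Groth.Prelude.Def_W4c4cptpiccptjacBI
import Groth.Agent.Lib.Helper24LabGraph

set_option autoImplicit false
set_option linter.unusedSectionVars false
universe u

namespace Groth.Agent.Lib.Helper24LabGraph

open LabGraph

variable {V E : Type u} [Fintype V] [Fintype E] [DecidableEq V] [DecidableEq E]

theorem twist_sub_const (ends : E → V × V) (φ : V → ℤ) (m : ℤ) :
    twist ends (fun u => φ u - m) = twist ends φ := by
  funext v
  unfold twist
  simp

/-- If `d` and `d' = d - twist φ` both satisfy the Basic Inequality then every partial sum of the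
twist is bounded by the cut. -/
theorem abs_sum_twist_le_cut (ends : E → V × V) (w : V → ℕ) (hg : 3 ≤ genus ends w) (d d' : V → ℤ)
    (hBI : SatisfiesBI ends w d) (hBI' : SatisfiesBI ends w d') (φ : V → ℤ)
    (hφ : ∀ v, d v - d' v = twist ends φ v) (Y : Finset V) :
    |∑ v ∈ Y, twist ends φ v| ≤ (cut ends Y : ℤ) := by
  have hK : 0 < canDeg ends w Finset.univ := by rw [canDeg_univ]; linarith
  set K := canDeg ends w Finset.univ with hKdef
  have hD : ∑ v : V, d v = ∑ v : V, d' v := by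
    have h1 : ∑ v : V, (d v - d' v) = 0 := by
      rw [Finset.sum_congr rfl (fun v _ => hφ v)]; exact sum_twist_eq_zero ends φ
    rw [Finset.sum_sub_distrib] at h1
    linarith
  have h1 := hBI Y
  have h2 := hBI' Y
  rw [← hD] at h2
  have h3 : ∑ v ∈ Y, twist ends φ v = ∑ v ∈ Y, d v - ∑ v ∈ Y, d' v := by
    rw [← Finset.sum_sub_distrib]
    exact Finset.sum_congr rfl (fun v _ => (hφ v).symm)
  have h4 : K * |∑ v ∈ Y, twist ends φ v| ≤ K * (cut ends Y : ℤ) := by
    rw [← abs_of_pos hK, ← abs_mul, abs_of_pos hK, h3]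
    have e : K * (∑ v ∈ Y, d v - ∑ v ∈ Y, d' v) =
        (K * ∑ v ∈ Y, d v - (∑ v : V, d v) * canDeg ends w Y) -
          (K * ∑ v ∈ Y, d' v - (∑ v : V, d v) * canDeg ends w Y) := by ring
    rw [e]
    have := abs_sub (K * ∑ v ∈ Y, d v - (∑ v : V, d v) * canDeg ends w Y)
      (K * ∑ v ∈ Y, d' v - (∑ v : V, d v) * canDeg ends w Y)
    linarith
  exact le_of_mul_le_mul_left h4 hK

/-- Edge terms of the twist over a threshold set cancel exactly against the cut. -/
theorem threshold_edge_eq (ends : E → V × V) (φ : V → ℤ)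
    (hcut : ∀ Y : Finset V, |∑ v ∈ Y, twist ends φ v| ≤ (cut ends Y : ℤ)) (t : ℤ) (e : E) :
    ((if t ≤ φ (ends e).1 then φ (ends e).2 - φ (ends e).1 else 0) +
      (if t ≤ φ (ends e).2 then φ (ends e).1 - φ (ends e).2 else 0)) +
      (if (t ≤ φ (ends e).1 ∧ ¬ t ≤ φ (ends e).2) ∨ (¬ t ≤ φ (ends e).1 ∧ t ≤ φ (ends e).2)
        then (1 : ℤ) else 0) = 0 := by
  classical
  set Y : Finset V := Finset.univ.filter (fun v => t ≤ φ v) with hY
  have hmem : ∀ v, v ∈ Y ↔ t ≤ φ v := fun v => by simp [hY]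
  have h1 := hcut Y
  rw [sum_twist_eq, cut_eq_sum] at h1
  have h2 := (abs_le.1 h1).1
  have h3 : 0 ≤ ∑ e : E, (((if t ≤ φ (ends e).1 then φ (ends e).2 - φ (ends e).1 else 0) +
      (if t ≤ φ (ends e).2 then φ (ends e).1 - φ (ends e).2 else 0)) +
      (if (t ≤ φ (ends e).1 ∧ ¬ t ≤ φ (ends e).2) ∨ (¬ t ≤ φ (ends e).1 ∧ t ≤ φ (ends e).2)
        then (1 : ℤ) else 0)) := by
    rw [Finset.sum_add_distrib]
    simp only [hmem] at h2
    linarith
  have h4 : ∀ e ∈ (Finset.univ : Finset E),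
      (((if t ≤ φ (ends e).1 then φ (ends e).2 - φ (ends e).1 else 0) +
      (if t ≤ φ (ends e).2 then φ (ends e).1 - φ (ends e).2 else 0)) +
      (if (t ≤ φ (ends e).1 ∧ ¬ t ≤ φ (ends e).2) ∨ (¬ t ≤ φ (ends e).1 ∧ t ≤ φ (ends e).2)
        then (1 : ℤ) else 0)) ≤ 0 := by
    intro e _
    by_cases a1 : t ≤ φ (ends e).1 <;> by_cases a2 : t ≤ φ (ends e).2 <;> simp [a1, a2] <;> omega
  have h5 := (Finset.sum_eq_zero_iff_of_nonpos h4).1 (le_antisymm (Finset.sum_nonpos h4) h3)
  exact h5 e (Finset.mem_univ e)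

theorem abs_sub_le_one_of_cut (ends : E → V × V) (φ : V → ℤ)
    (hcut : ∀ Y : Finset V, |∑ v ∈ Y, twist ends φ v| ≤ (cut ends Y : ℤ)) (e : E) :
    |φ (ends e).1 - φ (ends e).2| ≤ 1 := by
  rcases lt_trichotomy (φ (ends e).1) (φ (ends e).2) with h | h | h
  · have := threshold_edge_eq ends φ hcut (φ (ends e).2) e
    simp [not_le.2 h] at this
    rw [abs_le]; constructor <;> omega
  · rw [h]; simp
  · have := threshold_edge_eq ends φ hcut (φ (ends e).1) e
    simp [not_le.2 h] at this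
    rw [abs_le]; constructor <;> omega

/-- In a connected graph, every set containing some vertex but not all has a crossing edge. -/
theorem exists_adj_crossing (ends : E → V × V) (hconn : Connected ends) (Y : Set V) {a b : V}
    (ha : a ∈ Y) (hb : b ∉ Y) : ∃ u u', Adj ends u u' ∧ u ∈ Y ∧ u' ∉ Y := by
  have key : ∀ c, Relation.ReflTransGen (Adj ends) a c → c ∉ Y →
      ∃ u u', Adj ends u u' ∧ u ∈ Y ∧ u' ∉ Y := by
    intro c hc
    induction hc with
    | refl => intro h; exact absurd ha h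
    | tail _ hadj ih =>
      rename_i b' c' _
      intro hc'
      by_cases hb' : b' ∈ Y
      · exact ⟨b', c', hadj, hb', hc'⟩
      · exact ih hb'
  exact key b (hconn.2 a b) hb

/-- Normal form of the difference of two twist-equivalent multidegrees satisfying the Basic
Inequality. -/
theorem exists_normal_form (ends : E → V × V) (w : V → ℕ) (hconn : Connected ends)
    (hg : 3 ≤ genus ends w) (d d' : V → ℤ)
    (hBI : SatisfiesBI ends w d) (hBI' : SatisfiesBI ends w d') (heq : TwistEquiv ends d d') :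
    ∃ (q : ℕ) (h : V → ℕ), (∀ v : V, h v ≤ q) ∧ (∀ i : ℕ, i ≤ q → ∃ v : V, h v = i) ∧
      (∀ v : V, d v - d' v = twist ends (fun u => (h u : ℤ)) v) ∧
      (∀ i j : ℕ, i ≤ q → j ≤ q → i ≠ j →
        ((∃ e : E, (h (ends e).1 = i ∧ h (ends e).2 = j) ∨ (h (ends e).1 = j ∧ h (ends e).2 = i)) ↔
          (i + 1 = j ∨ j + 1 = i))) := by
  classical
  obtain ⟨φ, hφ⟩ := heq
  have : Nonempty V := hconn.1
  obtain ⟨vmin, -, hvmin⟩ := Finset.exists_min_image Finset.univ φ Finset.univ_nonempty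
  obtain ⟨m, hm⟩ : ∃ m, m = φ vmin := ⟨_, rfl⟩
  obtain ⟨h, hh⟩ : ∃ h : V → ℕ, h = fun v => (φ v - m).toNat := ⟨_, rfl⟩
  have hcast : ∀ v, (h v : ℤ) = φ v - m := fun v => by
    rw [hh]
    exact Int.toNat_of_nonneg (sub_nonneg.2 (hm ▸ hvmin v (Finset.mem_univ v)))
  have htw : (fun u => (h u : ℤ)) = fun u => φ u - m := funext hcast
  have hcut := abs_sum_twist_le_cut ends w hg d d' hBI hBI' φ hφ
  have hedge : ∀ e, |(h (ends e).1 : ℤ) - (h (ends e).2 : ℤ)| ≤ 1 := by
    intro e
    rw [hcast, hcast]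
    have := abs_sub_le_one_of_cut ends φ hcut e
    have e1 : φ (ends e).1 - m - (φ (ends e).2 - m) = φ (ends e).1 - φ (ends e).2 := by ring
    rw [e1]
    exact this
  have hadj : ∀ u u', Adj ends u u' → |(h u : ℤ) - (h u' : ℤ)| ≤ 1 := by
    rintro u u' ⟨e, he | he⟩
    · have := hedge e
      rw [he] at this
      exact this
    · have := hedge e
      rw [he] at this
      rw [abs_sub_comm]
      exact this
  obtain ⟨vmax, -, hvmax⟩ := Finset.exists_max_image Finset.univ h Finset.univ_nonempty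
  obtain ⟨q, hq⟩ : ∃ q, q = h vmax := ⟨_, rfl⟩
  have h0 : h vmin = 0 := by
    have := hcast vmin
    rw [← hm, sub_self] at this
    exact_mod_cast this
  have hlev : ∀ i, i ≤ q → ∃ v, h v = i := by
    intro i hi
    by_contra hcon
    push Not at hcon
    have ha : vmax ∈ {v | i ≤ h v} := by
      show i ≤ h vmax
      rw [← hq]; exact hi
    have hb : vmin ∉ {v | i ≤ h v} := by
      show ¬ i ≤ h vmin
      rw [h0, not_le]
      rcases Nat.eq_zero_or_pos i with rfl | hpos
      · exact absurd h0 (hcon vmin)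
      · exact hpos
    obtain ⟨u, u', hadj', hu, hu'⟩ := exists_adj_crossing ends hconn _ ha hb
    simp only [Set.mem_ofPred_eq, not_le] at hu hu'
    have h1 := hadj u u' hadj'
    have h2 : h u ≠ i := hcon u
    rw [abs_le] at h1
    omega
  refine ⟨q, h, fun v => hq ▸ hvmax v (Finset.mem_univ v), hlev, ?_, ?_⟩
  · intro v
    rw [htw, twist_sub_const]
    exact hφ v
  · intro i j hi hj hij
    constructor
    · rintro ⟨e, ⟨h1, h2⟩ | ⟨h1, h2⟩⟩
      · have := hedge e
        rw [h1, h2, abs_le] at this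
        omega
      · have := hedge e
        rw [h1, h2, abs_le] at this
        omega
    · have key : ∀ i j : ℕ, i ≤ q → j ≤ q → i + 1 = j →
          ∃ u u', Adj ends u u' ∧ h u = j ∧ h u' = i := by
        intro i j hi hj hij
        obtain ⟨a, ha⟩ := hlev j hj
        obtain ⟨b, hb⟩ := hlev i hi
        have ha' : a ∈ {v | j ≤ h v} := by
          show j ≤ h a
          omega
        have hb' : b ∉ {v | j ≤ h v} := by
          show ¬ j ≤ h b
          omega
        obtain ⟨u, u', hadj', hu, hu'⟩ := exists_adj_crossing ends hconn _ ha' hb'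
        simp only [Set.mem_ofPred_eq, not_le] at hu hu'
        have h1 := hadj u u' hadj'
        rw [abs_le] at h1
        exact ⟨u, u', hadj', by omega, by omega⟩
      rintro (h1 | h1)
      · obtain ⟨u, u', ⟨e, he | he⟩, hu, hu'⟩ := key i j hi hj h1
        · exact ⟨e, Or.inr (by rw [he]; exact ⟨hu, hu'⟩)⟩
        · exact ⟨e, Or.inl (by rw [he]; exact ⟨hu', hu⟩)⟩
      · obtain ⟨u, u', ⟨e, he | he⟩, hu, hu'⟩ := key j i hj hi h1
        · exact ⟨e, Or.inl (by rw [he]; exact ⟨hu, hu'⟩)⟩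
        · exact ⟨e, Or.inr (by rw [he]; exact ⟨hu', hu⟩)⟩

end Groth.Agent.Lib.Helper24LabGraph
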