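import Mathlib

set_option autoImplicit false

namespace Groth.Agent.Lib.Helper24LabSpan

variable {V E : Type*}

/-- adjacency through an edge whose label is divisible by `q`. -/
def AdjQ (ends : E → V × V) (l : E → ℕ) (q : ℕ) (u v : V) : Prop :=
  ∃ e, q ∣ l e ∧ (ends e = (u, v) ∨ ends e = (v, u))

/-- representative of the class for the equivalence generated by `AdjQ`. -/
noncomputable def rep (ends : E → V × V) (l : E → ℕ) (q : ℕ) (v : V) : V :=
  (Quotient.mk (Relation.EqvGen.setoid (AdjQ ends l q)) v).out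

theorem rep_rel (ends : E → V × V) (l : E → ℕ) (q : ℕ) (v : V) :
    Relation.EqvGen (AdjQ ends l q) (rep ends l q v) v := by
  have h := Quotient.exact (Quotient.out_eq (Quotient.mk (Relation.EqvGen.setoid (AdjQ ends l q)) v))
  exact h

theorem rep_eq_of_rel (ends : E → V × V) (l : E → ℕ) (q : ℕ) {u v : V}
    (h : Relation.EqvGen (AdjQ ends l q) u v) : rep ends l q u = rep ends l q v := by
  unfold rep
  congr 1
  exact Quotient.sound h

theorem rep_eq_of_edge (ends : E → V × V) (l : E → ℕ) (q : ℕ) (e : E) (hq : q ∣ l e) :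
    rep ends l q (ends e).1 = rep ends l q (ends e).2 :=
  rep_eq_of_rel ends l q (Relation.EqvGen.rel _ _ ⟨e, hq, Or.inl rfl⟩)

theorem dvd_of_eqvGen (ends : E → V × V) (l : E → ℕ) (q : ℕ) (p : ℤ) (g : V → ℤ)
    (hg : ∀ e, q ∣ l e → p ∣ g (ends e).1 - g (ends e).2) {u v : V}
    (h : Relation.EqvGen (AdjQ ends l q) u v) : p ∣ g u - g v := by
  induction h with
  | rel x y hxy =>
    obtain ⟨e, hq, he | he⟩ := hxy
    · have := hg e hq
      rw [he] at this
      exact this
    · have := hg e hq
      rw [he] at this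
      have h2 : g x - g y = -(g y - g x) := by ring
      rw [h2]
      exact (dvd_neg).mpr this
  | refl x => simp
  | symm x y _ ih =>
    have h2 : g y - g x = -(g x - g y) := by ring
    rw [h2]
    exact (dvd_neg).mpr ih
  | trans x y z _ _ ih1 ih2 =>
    have h2 : g x - g z = (g x - g y) + (g y - g z) := by ring
    rw [h2]
    exact dvd_add ih1 ih2

/-- the successive `p`-adic "quotients" of `f`. -/
noncomputable def hh (ends : E → V × V) (l : E → ℕ) (p : ℕ) (f : V → ℤ) : ℕ → V → ℤ
  | 0 => f
  | j + 1 => fun v => (hh ends l p f j v - hh ends l p f j (rep ends l (p ^ (j + 1)) v)) / (p : ℤ)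

/-- the piecewise-constant parts. -/
noncomputable def phi (ends : E → V × V) (l : E → ℕ) (p : ℕ) (f : V → ℤ) (j : ℕ) (v : V) : ℤ :=
  hh ends l p f j (rep ends l (p ^ (j + 1)) v)

theorem hh_exact (ends : E → V × V) (l : E → ℕ) (p : ℕ) (f : V → ℤ) (j : ℕ)
    (hinv : ∀ e, p ^ (j + 1) ∣ l e →
      (p : ℤ) ∣ hh ends l p f j (ends e).1 - hh ends l p f j (ends e).2) (v : V) :
    (p : ℤ) * hh ends l p f (j + 1) v = hh ends l p f j v - phi ends l p f j v := by
  have h1 : (p : ℤ) ∣ hh ends l p f j v - hh ends l p f j (rep ends l (p ^ (j + 1)) v) := by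
    have := dvd_of_eqvGen ends l (p ^ (j + 1)) (p : ℤ) (hh ends l p f j) hinv
      (rep_rel ends l (p ^ (j + 1)) v)
    have h2 : hh ends l p f j v - hh ends l p f j (rep ends l (p ^ (j + 1)) v)
        = -(hh ends l p f j (rep ends l (p ^ (j + 1)) v) - hh ends l p f j v) := by ring
    rw [h2]
    exact (dvd_neg).mpr this
  show (p : ℤ) * ((hh ends l p f j v - hh ends l p f j (rep ends l (p ^ (j + 1)) v)) / (p : ℤ)) = _
  rw [Int.mul_ediv_cancel' h1]
  rfl

theorem hh_inv (ends : E → V × V) (l : E → ℕ) (p : ℕ) (hp : p ≠ 0) (f : V → ℤ)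
    (hf : ∀ e, (l e : ℤ) ∣ f (ends e).1 - f (ends e).2) :
    ∀ j e t, p ^ (j + t) ∣ l e →
      (p : ℤ) ^ t ∣ hh ends l p f j (ends e).1 - hh ends l p f j (ends e).2 := by
  intro j
  induction j with
  | zero =>
    intro e t ht
    show (p : ℤ) ^ t ∣ f (ends e).1 - f (ends e).2
    refine dvd_trans ?_ (hf e)
    rw [zero_add] at ht
    exact_mod_cast ht
  | succ j ih =>
    intro e t ht
    have hex := hh_exact ends l p f j (fun e he => by
      have := ih e 1 he
      simpa using this)
    have hpe : p ^ (j + 1) ∣ l e := dvd_trans (pow_dvd_pow p (by omega)) ht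
    have hphi : phi ends l p f j (ends e).1 = phi ends l p f j (ends e).2 := by
      unfold phi
      rw [rep_eq_of_edge ends l (p ^ (j + 1)) e hpe]
    have h1 : (p : ℤ) * (hh ends l p f (j + 1) (ends e).1 - hh ends l p f (j + 1) (ends e).2)
        = hh ends l p f j (ends e).1 - hh ends l p f j (ends e).2 := by
      rw [mul_sub, hex, hex, hphi]; ring
    have h2 := ih e (t + 1) (by
      have : j + (t + 1) = j + 1 + t := by ring
      rw [this]; exact ht)
    rw [← h1, pow_succ'] at h2
    exact (mul_dvd_mul_iff_left (by exact_mod_cast hp)).mp h2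

theorem hh_step (ends : E → V × V) (l : E → ℕ) (p : ℕ) (hp : p ≠ 0) (f : V → ℤ)
    (hf : ∀ e, (l e : ℤ) ∣ f (ends e).1 - f (ends e).2) (j : ℕ) (v : V) :
    (p : ℤ) * hh ends l p f (j + 1) v = hh ends l p f j v - phi ends l p f j v :=
  hh_exact ends l p f j (fun e he => by
    have := hh_inv ends l p hp f hf j e 1 he
    simpa using this) v

theorem dvd_ordCompl_mul_pow {p : ℕ} (hp : p.Prime) {l L : ℕ} (hL : L ≠ 0) (hlL : l ∣ L) (j : ℕ)
    (hj : ¬ p ^ (j + 1) ∣ l) : l ∣ (L / p ^ L.factorization p) * p ^ j := by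
  have hl0 : l ≠ 0 := by
    rintro rfl
    exact hL (zero_dvd_iff.mp hlL)
  have ha : l.factorization p ≤ j := by
    by_contra hcon
    push Not at hcon
    exact hj ((hp.pow_dvd_iff_le_factorization hl0).mpr hcon)
  have h1 : l = p ^ l.factorization p * (l / p ^ l.factorization p) :=
    (Nat.ordProj_mul_ordCompl_eq_self l p).symm
  rw [h1, mul_comm (L / p ^ L.factorization p)]
  exact mul_dvd_mul (pow_dvd_pow p ha) (Nat.ordCompl_dvd_ordCompl_of_dvd hlL p)

/-- the set of elementary Cartier functions. -/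
def elem (ends : E → V × V) (l : E → ℕ) : Set (V → ℤ) :=
  {g : V → ℤ | ∃ n : ℕ, 0 < n ∧ (∀ v, (n : ℤ) ∣ g v) ∧
      ∀ e, ¬ (l e ∣ n) → g (ends e).1 = g (ends e).2}

theorem ordCompl_smul_mem (ends : E → V × V) (l : E → ℕ) (L : ℕ) (hL : L ≠ 0)
    (hlL : ∀ e, l e ∣ L) (f : V → ℤ)
    (hf : ∀ e, (l e : ℤ) ∣ f (ends e).1 - f (ends e).2) {p : ℕ} (hp : p.Prime) :
    (fun v => ((L / p ^ L.factorization p : ℕ) : ℤ) * f v) ∈ Submodule.span ℤ (elem ends l) := by
  set L' := L / p ^ L.factorization p with hL'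
  set k := L.factorization p with hk
  have hL'pos : 0 < L' := Nat.ordCompl_pos p hL
  have key : ∀ i j, i + j = k →
      (fun v => ((L' * p ^ j : ℕ) : ℤ) * hh ends l p f j v) ∈ Submodule.span ℤ (elem ends l) := by
    intro i
    induction i with
    | zero =>
      intro j hj
      apply Submodule.subset_span
      refine ⟨L, Nat.pos_of_ne_zero hL, ?_, ?_⟩
      · intro v
        have : L' * p ^ j = L := by
          rw [zero_add] at hj
          rw [hj, mul_comm]
          exact Nat.ordProj_mul_ordCompl_eq_self L p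
        rw [this]
        exact dvd_mul_right _ _
      · intro e he
        exact absurd (hlL e) he
    | succ i ih =>
      intro j hj
      have h1 := ih (j + 1) (by omega)
      have h2 : (fun v => ((L' * p ^ j : ℕ) : ℤ) * phi ends l p f j v)
          ∈ Submodule.span ℤ (elem ends l) := by
        apply Submodule.subset_span
        refine ⟨L' * p ^ j, Nat.mul_pos hL'pos (pow_pos hp.pos j), ?_, ?_⟩
        · intro v
          exact dvd_mul_right _ _
        · intro e he
          have hpe : p ^ (j + 1) ∣ l e := by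
            by_contra hcon
            exact he (dvd_ordCompl_mul_pow hp hL (hlL e) j hcon)
          show _ * phi ends l p f j (ends e).1 = _ * phi ends l p f j (ends e).2
          unfold phi
          rw [rep_eq_of_edge ends l (p ^ (j + 1)) e hpe]
      have h3 : (fun v => ((L' * p ^ j : ℕ) : ℤ) * hh ends l p f j v)
          = (fun v => ((L' * p ^ j : ℕ) : ℤ) * phi ends l p f j v)
            + (fun v => ((L' * p ^ (j + 1) : ℕ) : ℤ) * hh ends l p f (j + 1) v) := by
        funext v
        have := hh_step ends l p hp.ne_zero f hf j v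
        simp only [Pi.add_apply]
        push_cast
        rw [pow_succ]
        linear_combination (-(L' : ℤ) * (p : ℤ) ^ j) * this
      rw [h3]
      exact Submodule.add_mem _ h2 h1
  have := key k 0 (by omega)
  simpa [hh] using this

theorem main (ends : E → V × V) (l : E → ℕ) (L : ℕ) (hL : L ≠ 0)
    (hlL : ∀ e, l e ∣ L) (f : V → ℤ)
    (hf : ∀ e, (l e : ℤ) ∣ f (ends e).1 - f (ends e).2) :
    f ∈ Submodule.span ℤ (elem ends l) := by
  set J : Ideal ℤ := Submodule.comap (LinearMap.toSpanSingleton ℤ (V → ℤ) f)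
    (Submodule.span ℤ (elem ends l)) with hJ
  have hmem : ∀ c : ℤ, c ∈ J ↔ (fun v => c * f v) ∈ Submodule.span ℤ (elem ends l) := by
    intro c
    rw [hJ, Submodule.mem_comap, LinearMap.toSpanSingleton_apply]
    have : c • f = fun v => c * f v := by
      funext v; simp
    rw [this]
  have hq : ∀ q : ℕ, q.Prime → ((L / q ^ L.factorization q : ℕ) : ℤ) ∈ J := by
    intro q hq
    rw [hmem]
    exact ordCompl_smul_mem ends l L hL hlL f hf hq
  have hone : (1 : ℤ) ∈ J := by
    rw [Submodule.IsPrincipal.mem_iff_generator_dvd J]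
    set g := Submodule.IsPrincipal.generator J with hg
    by_cases h1 : g.natAbs = 1
    · exact (Int.isUnit_iff_natAbs_eq.mpr h1).dvd
    · exfalso
      obtain ⟨q, hqp, hqd⟩ := Nat.exists_prime_and_dvd h1
      have h2 : g ∣ ((L / q ^ L.factorization q : ℕ) : ℤ) :=
        (Submodule.IsPrincipal.mem_iff_generator_dvd J).mp (hq q hqp)
      have h3 : (q : ℤ) ∣ g := Int.natCast_dvd.mpr hqd
      have h4 : q ∣ L / q ^ L.factorization q := Int.natCast_dvd_natCast.mp (dvd_trans h3 h2)
      exact Nat.not_dvd_ordCompl hqp hL h4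
  have := (hmem 1).mp hone
  simpa using this

end Groth.Agent.Lib.Helper24LabSpan
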