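import Groth.Agent.Lib.Helper4Lambda

/-!
# λ-rings: Adams operations (helper4)

`adamsSeries P x * λ_{-t}(x) = ε(x) λ_{-t}(x) - t (d/dt) λ_{-t}(x)` characterises the Adams series;
additivity of `ψ^j`; `ψ^j u = u^j` for line elements; compatibility with λ-homomorphisms.
-/

namespace Groth.Agent.Lib.Helper4
open PowerSeries LambdaRing Finset

variable {K : Type*} [CommRing K] [LambdaOps K]

/-- `λ_{-t}(x)`. -/
noncomputable def lamNeg (x : K) : K⟦X⟧ := rescale (-1 : K) (lamSeries x)

theorem lamNeg_add (x y : K) : lamNeg (x + y) = lamNeg x * lamNeg y := by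
  rw [lamNeg, lamSeries_add, map_mul]; rfl

@[simp] theorem constantCoeff_lamNeg (x : K) : constantCoeff (lamNeg x) = 1 := by
  rw [← coeff_zero_eq_constantCoeff_apply, lamNeg, coeff_rescale]
  simp [LambdaOps.lam_zero]

theorem coeff_lamNeg (n : ℕ) (x : K) : coeff n (lamNeg x) = (-1 : K) ^ n * LambdaOps.lam n x := by
  rw [lamNeg, coeff_rescale, coeff_lamSeries]

theorem lamNeg_mul_invOfUnit (x : K) : lamNeg x * (lamNeg x).invOfUnit 1 = 1 :=
  mul_invOfUnit _ _ (by simp)

theorem isUnit_lamNeg (x : K) : IsUnit (lamNeg x) := by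
  rw [PowerSeries.isUnit_iff_constantCoeff]; simp

theorem adamsSeries_mul_lamNeg (P : PosStructure K) (x : K) :
    adamsSeries P x * lamNeg x =
      C (P.aug x : K) * lamNeg x - X * derivative K (lamNeg x) := by
  have h : (rescale (-1 : K) (lamSeries x)).invOfUnit 1 * lamNeg x = 1 := by
    rw [mul_comm]; exact lamNeg_mul_invOfUnit x
  rw [adamsSeries, sub_mul, mul_assoc, h, mul_one]
  rfl

theorem adamsSeries_eq_of_mul (P : PosStructure K) (x : K) (f : K⟦X⟧)
    (h : f * lamNeg x = C (P.aug x : K) * lamNeg x - X * derivative K (lamNeg x)) :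
    adamsSeries P x = f := by
  have := adamsSeries_mul_lamNeg P x
  rw [← h] at this
  exact (isUnit_lamNeg x).mul_left_injective this

theorem adamsSeries_add (P : PosStructure K) (x y : K) :
    adamsSeries P (x + y) = adamsSeries P x + adamsSeries P y := by
  apply adamsSeries_eq_of_mul
  rw [lamNeg_add, Derivation.leibniz, map_add, Int.cast_add, map_add]
  have hx := adamsSeries_mul_lamNeg P x
  have hy := adamsSeries_mul_lamNeg P y
  simp only [smul_eq_mul]
  linear_combination lamNeg y * hx + lamNeg x * hy

theorem adams_add (P : PosStructure K) (j : ℕ) (x y : K) :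
    adams P j (x + y) = adams P j x + adams P j y := by
  rw [adams, adamsSeries_add, map_add]; rfl

/-- `ψ^j` as an additive map. -/
noncomputable def adamsAddHom (P : PosStructure K) (j : ℕ) : K →+ K :=
  AddMonoidHom.mk' (adams P j) (adams_add P j)

@[simp] theorem adamsAddHom_apply (P : PosStructure K) (j : ℕ) (x : K) :
    adamsAddHom P j x = adams P j x := rfl

theorem adams_zero (P : PosStructure K) (j : ℕ) : adams P j (0 : K) = 0 :=
  (adamsAddHom P j).map_zero

theorem adams_neg (P : PosStructure K) (j : ℕ) (x : K) : adams P j (-x) = -adams P j x :=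
  (adamsAddHom P j).map_neg x

theorem adams_sub (P : PosStructure K) (j : ℕ) (x y : K) :
    adams P j (x - y) = adams P j x - adams P j y :=
  (adamsAddHom P j).map_sub x y

theorem adams_sum (P : PosStructure K) (j : ℕ) {ι : Type*} (s : Finset ι) (f : ι → K) :
    adams P j (∑ i ∈ s, f i) = ∑ i ∈ s, adams P j (f i) :=
  map_sum (adamsAddHom P j) f s

theorem adams_multiset_sum (P : PosStructure K) (j : ℕ) (s : Multiset K) :
    adams P j s.sum = (s.map (adams P j)).sum :=
  map_multiset_sum (adamsAddHom P j) s

theorem lam_eq_zero_of_isLine (P : PosStructure K) (u : K) (hu : P.IsLine u) (j : ℕ) (hj : 2 ≤ j) :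
    LambdaOps.lam j u = 0 := by
  apply P.lam_eq_zero u hu.1
  rw [hu.2]
  exact_mod_cast hj

theorem lamNeg_of_isLine (P : PosStructure K) (u : K) (hu : P.IsLine u) :
    lamNeg u = 1 - C u * X := by
  rw [lamNeg, lamSeries_of_lam_eq_zero u (lam_eq_zero_of_isLine P u hu), map_add, map_one, map_mul,
    rescale_X]
  simp only [map_neg, map_one]
  have : (rescale (-1 : K)) (C u) = C u := by
    ext n
    rw [coeff_rescale, coeff_C]
    split_ifs with h
    · subst h; simp
    · simp
  rw [this]
  ring

theorem adamsSeries_of_isLine (P : PosStructure K) (u : K) (hu : P.IsLine u) :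
    adamsSeries P u = PowerSeries.mk fun n => u ^ n := by
  apply adamsSeries_eq_of_mul
  rw [lamNeg_of_isLine P u hu, hu.2]
  have h1 : (PowerSeries.mk fun n => u ^ n) * (1 - C u * X) = 1 := by
    ext n
    rw [mul_sub, mul_one, map_sub, ← mul_assoc]
    rcases n with _ | n
    · simp
    · rw [coeff_succ_mul_X, mul_comm, coeff_C_mul, coeff_mk, coeff_mk, coeff_one, if_neg (by omega)]
      ring
  rw [h1]
  simp only [map_sub, Derivation.leibniz, derivative_C, derivative_X, derivative_one,
    Int.cast_one, map_one]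
  simp only [smul_eq_mul, mul_one, mul_zero, zero_sub, one_mul, add_zero]
  ring

theorem adams_of_isLine (P : PosStructure K) (u : K) (hu : P.IsLine u) (j : ℕ) :
    adams P j u = u ^ j := by
  rw [adams, adamsSeries_of_isLine P u hu, coeff_mk]

end Groth.Agent.Lib.Helper4
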