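import Mathlib
import Groth.Prelude.Def_LambdaRing
import Groth.Agent.Lib.Helper4LambdaAdams
import Groth.Agent.Lib.Helper4LambdaFil
import Groth.Agent.Lib.Helper4LambdaAdamsFil

/-!
# The logarithm of a line element is a `ψ^j`-eigenvector (helper24)
-/

namespace Groth.Agent.Lib.Helper24LamLog

open Polynomial Finset TensorProduct LambdaRing Groth.Agent.Lib.Helper4


/-- If `P(0) = 0` and `X^(d+1) ∣ (1+X) P'` over ℚ then `X^(d+1) ∣ P`. -/
lemma X_pow_dvd_of_deriv (P : ℚ[X]) (d : ℕ) (h0 : P.coeff 0 = 0)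
    (h : (X : ℚ[X]) ^ (d + 1) ∣ (1 + X) * derivative P) : (X : ℚ[X]) ^ (d + 1) ∣ P := by
  have hcop : IsCoprime ((X : ℚ[X]) ^ (d + 1)) (1 + X) := by
    apply IsCoprime.pow_left
    refine ⟨-1, 1, ?_⟩
    ring
  have h' : (X : ℚ[X]) ^ (d + 1) ∣ derivative P := hcop.dvd_of_dvd_mul_left h
  rw [Polynomial.X_pow_dvd_iff] at h' ⊢
  intro n hn
  rcases n with _ | n
  · exact h0
  · have := h' n (by omega)
    rw [coeff_derivative] at this
    have hne : ((n : ℚ) + 1) ≠ 0 := by positivity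
    exact (mul_eq_zero.mp this).resolve_right hne

lemma log_poly_identity (d j : ℕ) :
    (X : ℚ[X]) ^ (d + 1) ∣
      ∑ n ∈ range (d + 1), ((-1 : ℚ) ^ n / ((n : ℚ) + 1)) • (((1 + X) ^ j - 1 : ℚ[X]) ^ (n + 1)) -
        (j : ℚ) • ∑ n ∈ range (d + 1), ((-1 : ℚ) ^ n / ((n : ℚ) + 1)) • ((X : ℚ[X]) ^ (n + 1)) := by
  set Y : ℚ[X] := (1 + X) ^ j - 1 with hY
  apply X_pow_dvd_of_deriv
  · -- constant coefficient
    have hY0 : Y.coeff 0 = 0 := by
      rw [hY, coeff_zero_eq_eval_zero]; simp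
    have h1 : ∀ n : ℕ, (Y ^ (n + 1)).coeff 0 = 0 := by
      intro n
      rw [coeff_zero_eq_eval_zero, eval_pow, ← coeff_zero_eq_eval_zero, hY0]; simp
    simp only [coeff_sub, coeff_smul, finsetSum_coeff, h1, smul_eq_mul, mul_zero, sum_const_zero,
      coeff_X_pow, sub_zero]
    simp
  · have hXY : (X : ℚ[X]) ∣ Y := by
      rw [hY]
      have := mul_geom_sum (1 + X : ℚ[X]) j
      rw [← this]
      exact Dvd.intro (∑ i ∈ range j, (1 + X : ℚ[X]) ^ i) (by ring)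
    have hYd : derivative Y = (j : ℚ[X]) * (1 + X) ^ (j - 1) := by
      rw [hY]
      simp only [derivative_sub, derivative_one, sub_zero, derivative_pow, derivative_add,
        derivative_X, zero_add, mul_one]
      simp
    have hYd' : (1 + X) * derivative Y = (j : ℚ[X]) * (1 + Y) := by
      rw [hYd, hY]
      rcases j with _ | j
      · simp
      · simp only [Nat.add_sub_cancel]; ring
    have hG : ∀ Z : ℚ[X], (1 + Z) * ∑ n ∈ range (d + 1), (-Z) ^ n = 1 - (-Z) ^ (d + 1) := by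
      intro Z
      have := mul_neg_geom_sum (-Z) (d + 1)
      rw [sub_neg_eq_add] at this
      exact this
    have hder : derivative (∑ n ∈ range (d + 1), ((-1 : ℚ) ^ n / ((n : ℚ) + 1)) • (Y ^ (n + 1)) -
        (j : ℚ) • ∑ n ∈ range (d + 1), ((-1 : ℚ) ^ n / ((n : ℚ) + 1)) • ((X : ℚ[X]) ^ (n + 1))) =
        derivative Y * ∑ n ∈ range (d + 1), (-Y) ^ n - (j : ℚ[X]) * ∑ n ∈ range (d + 1), (-X) ^ n := by
      rw [derivative_sub, derivative_smul, derivative_sum, derivative_sum, mul_sum, smul_sum,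
        ← C_eq_natCast, mul_sum]
      congr 1
      · apply sum_congr rfl
        intro n _
        rw [derivative_smul, derivative_pow_succ, smul_eq_C_mul, neg_pow Y]
        have : (C ((-1 : ℚ) ^ n / ((n : ℚ) + 1)) : ℚ[X]) * (C ((n : ℚ) + 1)) = (-1) ^ n := by
          rw [← C_mul]
          have hne : ((n : ℚ) + 1) ≠ 0 := by positivity
          rw [div_mul_cancel₀ _ hne]
          simp
        linear_combination (Y ^ n * derivative Y) * this
      · apply sum_congr rfl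
        intro n _
        rw [derivative_smul, derivative_pow_succ, derivative_X, smul_eq_C_mul, smul_eq_C_mul,
          neg_pow (X : ℚ[X])]
        have : (C ((-1 : ℚ) ^ n / ((n : ℚ) + 1)) : ℚ[X]) * (C ((n : ℚ) + 1)) = (-1) ^ n := by
          rw [← C_mul]
          have hne : ((n : ℚ) + 1) ≠ 0 := by positivity
          rw [div_mul_cancel₀ _ hne]
          simp
        linear_combination (C (j : ℚ) * X ^ n) * this
    rw [hder, mul_sub]
    have e1 : (1 + X) * (derivative Y * ∑ n ∈ range (d + 1), (-Y) ^ n) =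
        (j : ℚ[X]) * (1 - (-Y) ^ (d + 1)) := by
      rw [← mul_assoc, hYd', mul_assoc, hG]
    have e2 : (1 + X) * ((j : ℚ[X]) * ∑ n ∈ range (d + 1), (-X) ^ n) =
        (j : ℚ[X]) * (1 - (-X) ^ (d + 1)) := by
      rw [mul_left_comm, hG]
    rw [e1, e2]
    have : (j : ℚ[X]) * (1 - (-Y) ^ (d + 1)) - (j : ℚ[X]) * (1 - (-X) ^ (d + 1)) =
        (j : ℚ[X]) * (-1) ^ (d + 1) * (X ^ (d + 1) - Y ^ (d + 1)) := by
      rw [neg_pow Y, neg_pow (X : ℚ[X])]; ring
    rw [this]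
    apply Dvd.dvd.mul_left
    exact dvd_sub (dvd_refl _) (pow_dvd_pow_of_dvd hXY _)

section main

variable {K : Type*} [CommRing K] [LambdaOps K]

lemma adams_line_sub_one_pow (P : PosStructure K) (j : ℕ) (u : K) (hu : P.IsLine u) (m : ℕ) :
    adams P j ((u - 1) ^ m) = (u ^ j - 1) ^ m := by
  have hline : ∀ k : ℕ, P.IsLine (u ^ k) := by
    intro k
    induction k with
    | zero =>
      rw [pow_zero]
      refine ⟨?_, by simp⟩
      have := P.natCast_mem 1 Nat.one_pos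
      simpa using this
    | succ k ih =>
      rw [pow_succ]
      exact ⟨P.mul_mem _ _ ih.1 hu.1, by rw [map_mul, ih.2, hu.2]; rfl⟩
  have e1 : (u - 1) ^ m = ∑ k ∈ range (m + 1),
      ((-1 : ℤ) ^ (k + m) * (m.choose k : ℤ)) • u ^ k := by
    rw [sub_pow]
    apply sum_congr rfl
    intro k _
    simp only [one_pow, mul_one, zsmul_eq_mul]
    push_cast
    ring
  have e2 : (u ^ j - 1) ^ m = ∑ k ∈ range (m + 1),
      ((-1 : ℤ) ^ (k + m) * (m.choose k : ℤ)) • (u ^ j) ^ k := by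
    rw [sub_pow]
    apply sum_congr rfl
    intro k _
    simp only [one_pow, mul_one, zsmul_eq_mul]
    push_cast
    ring
  rw [e1, e2, ← adamsAddHom_apply, map_sum]
  apply sum_congr rfl
  intro k _
  rw [map_zsmul, adamsAddHom_apply, adams_of_isLine P _ (hline k), ← pow_mul, ← pow_mul, Nat.mul_comm k j]

theorem main (P : PosStructure K) (d : ℕ)
    (hd : gammaFiltration P (d + 1) = ⊥)
    (j : ℕ) (Ψ : ℚ ⊗[ℤ] K →ₗ[ℚ] ℚ ⊗[ℤ] K)
    (hΨ : ∀ x : K, Ψ (1 ⊗ₜ[ℤ] x) = 1 ⊗ₜ[ℤ] adams P j x)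
    (u : K) (hu : P.IsLine u) :
    (∑ n ∈ range (d + 1), ((-1 : ℚ) ^ n / ((n : ℚ) + 1)) ⊗ₜ[ℤ] ((u - 1) ^ (n + 1))) ∈
        Module.End.eigenspace Ψ (j : ℚ) ∧
      (∑ n ∈ range (d + 1), ((-1 : ℚ) ^ n / ((n : ℚ) + 1)) ⊗ₜ[ℤ] ((u - 1) ^ (n + 1))) -
          (1 : ℚ) ⊗ₜ[ℤ] (u - 1) ∈
        Submodule.span ℚ ((fun x : K => (1 : ℚ) ⊗ₜ[ℤ] x) '' (gammaFiltration P 2 : Set K)) := by
  have haug : P.aug (u - 1) = 0 := by rw [map_sub, hu.2, map_one, sub_self]
  have hw1 : u - 1 ∈ gammaFiltration P 1 := by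
    have := gamma_mem_gammaFiltration P 1 (u - 1) haug
    rwa [gamma_one] at this
  have hwn : ∀ n : ℕ, (u - 1) ^ n ∈ gammaFiltration P n := by
    intro n
    have := pow_mem_gammaFiltration P hw1 n
    rwa [one_mul] at this
  have hw0 : (u - 1) ^ (d + 1) = 0 := by
    have := hwn (d + 1)
    rw [hd] at this
    exact (AddSubgroup.mem_bot).mp this
  have hsm : ∀ (c : ℚ) (x : K), c ⊗ₜ[ℤ] x = c • ((1 : ℚ) ⊗ₜ[ℤ] x) := by
    intro c x
    rw [TensorProduct.smul_tmul', smul_eq_mul, mul_one]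
  constructor
  · rw [Module.End.mem_eigenspace_iff, map_sum]
    -- work in the ℚ-algebra `ℚ ⊗ K`
    let ι : K →+* ℚ ⊗[ℤ] K := (Algebra.TensorProduct.includeRight : K →ₐ[ℤ] ℚ ⊗[ℤ] K).toRingHom
    have hι : ∀ x : K, (1 : ℚ) ⊗ₜ[ℤ] x = ι x := fun x => rfl
    set W : ℚ ⊗[ℤ] K := ι (u - 1) with hW
    have hW0 : W ^ (d + 1) = 0 := by rw [hW, ← map_pow, hw0, map_zero]
    have hterm : ∀ n : ℕ, Ψ (((-1 : ℚ) ^ n / ((n : ℚ) + 1)) ⊗ₜ[ℤ] ((u - 1) ^ (n + 1))) =
        ((-1 : ℚ) ^ n / ((n : ℚ) + 1)) • ((1 + W) ^ j - 1) ^ (n + 1) := by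
      intro n
      rw [hsm, map_smul, hΨ, adams_line_sub_one_pow P j u hu, hι, map_pow, map_sub, map_pow,
        map_one, hW, map_sub, map_one]
      congr 3
      ring
    have hterm2 : ∀ n : ℕ, ((-1 : ℚ) ^ n / ((n : ℚ) + 1)) ⊗ₜ[ℤ] ((u - 1) ^ (n + 1)) =
        ((-1 : ℚ) ^ n / ((n : ℚ) + 1)) • W ^ (n + 1) := by
      intro n
      rw [hsm, hι, map_pow]
    simp_rw [hterm, hterm2]
    obtain ⟨Q, hQ⟩ := log_poly_identity d j
    have := congrArg (Polynomial.aeval W) hQ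
    simp only [map_sub, map_sum, map_smul, map_pow, map_add, map_one, Polynomial.aeval_X,
      map_mul, hW0, zero_mul] at this
    exact sub_eq_zero.mp this
  · rw [sum_range_succ']
    simp only [pow_zero, Nat.cast_zero, zero_add, div_one, pow_one, add_sub_cancel_right]
    apply Submodule.sum_mem
    intro n _
    rw [hsm]
    apply Submodule.smul_mem
    apply Submodule.subset_span
    refine ⟨(u - 1) ^ (n + 1 + 1), ?_, rfl⟩
    exact gammaFiltration_anti P (by omega : 2 ≤ n + 1 + 1) (hwn _)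

end main

end Groth.Agent.Lib.Helper24LamLog
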