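import Mathlib
import Groth.Prelude.Def_GSzH1

/-!
# Lang's theorem for a discrete group with Galois action of a finite field

Helper library for S14195.
-/

namespace Groth.Agent.Lib.Helper24LangDisc

open Polynomial

universe u v

section Field

variable {k : Type u} [Field k] [Finite k]
variable (π : AlgebraicClosure k ≃ₐ[k] AlgebraicClosure k)

theorem pi_pow_apply (hπ : ∀ x : AlgebraicClosure k, π x = x ^ Nat.card k)
    (n : ℕ) (x : AlgebraicClosure k) : (π ^ n) x = x ^ (Nat.card k ^ n) := by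
  induction n generalizing x with
  | zero => simp
  | succ n ih => rw [pow_succ, AlgEquiv.mul_apply, hπ, ih, ← pow_mul, pow_succ, mul_comm]

/-- The fixed field of `π ^ m`. -/
def L (m : ℕ) : IntermediateField k (AlgebraicClosure k) where
  carrier := {x | (π ^ m) x = x}
  mul_mem' := fun {a b} ha hb => by
    simp only [Set.mem_setOf_eq] at *
    rw [map_mul, ha, hb]
  one_mem' := map_one _
  add_mem' := fun {a b} ha hb => by
    simp only [Set.mem_setOf_eq] at *
    rw [map_add, ha, hb]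
  zero_mem' := map_zero _
  algebraMap_mem' := fun r => AlgEquiv.commutes _ r
  inv_mem' := fun x hx => by
    simp only [Set.mem_setOf_eq] at *
    rw [map_inv₀, hx]

theorem mem_L (m : ℕ) (x : AlgebraicClosure k) : x ∈ L π m ↔ (π ^ m) x = x := Iff.rfl

theorem one_lt_q : 1 < Nat.card k := Finite.one_lt_card

theorem L_subset_rootSet (hπ : ∀ x : AlgebraicClosure k, π x = x ^ Nat.card k) (m : ℕ) (hm : 0 < m) :
    (L π m : Set (AlgebraicClosure k)) =
      (X ^ (Nat.card k ^ m) - X : k[X]).rootSet (AlgebraicClosure k) := by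
  ext x
  have hne : (X ^ (Nat.card k ^ m) - X : k[X]) ≠ 0 :=
    FiniteField.X_pow_card_pow_sub_X_ne_zero k hm.ne' one_lt_q
  rw [Polynomial.mem_rootSet_of_ne hne]
  simp only [SetLike.mem_coe, mem_L, pi_pow_apply π hπ, map_sub, map_pow, aeval_X, sub_eq_zero]

theorem L_finite (hπ : ∀ x : AlgebraicClosure k, π x = x ^ Nat.card k) (m : ℕ) (hm : 0 < m) :
    Finite (L π m) := by
  have : (L π m : Set (AlgebraicClosure k)).Finite := by
    rw [L_subset_rootSet π hπ m hm]
    exact Polynomial.rootSet_finite _ _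
  exact this.to_subtype

theorem L_ncard (hπ : ∀ x : AlgebraicClosure k, π x = x ^ Nat.card k) (m : ℕ) (hm : 0 < m) :
    (L π m : Set (AlgebraicClosure k)).ncard = Nat.card k ^ m := by
  obtain ⟨p, hp⟩ := CharP.exists k
  haveI : Fact p.Prime := ⟨CharP.char_is_prime k p⟩
  rw [L_subset_rootSet π hπ m hm]
  have hsep : (X ^ (Nat.card k ^ m) - X : k[X]).Separable := by
    apply galois_poly_separable p
    letI := Fintype.ofFinite k
    have h0 : ((Nat.card k : ℕ) : k) = 0 := by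
      rw [Nat.card_eq_fintype_card]; exact Nat.cast_card_eq_zero k
    have hpq : p ∣ Nat.card k := (CharP.cast_eq_zero_iff k p _).mp h0
    exact dvd_pow hpq hm.ne'
  have := Polynomial.card_rootSet_eq_natDegree (K := AlgebraicClosure k) hsep
    (IsAlgClosed.splits _)
  rw [FiniteField.X_pow_card_pow_sub_X_natDegree_eq k hm.ne' one_lt_q] at this
  rw [← Nat.card_coe_set_eq, Nat.card_eq_fintype_card]
  exact this

theorem smul_mem_L (hπ : ∀ x : AlgebraicClosure k, π x = x ^ Nat.card k) (m : ℕ)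
    (σ : AlgebraicClosure k ≃ₐ[k] AlgebraicClosure k) (x : AlgebraicClosure k) (hx : x ∈ L π m) :
    σ x ∈ L π m := by
  rw [mem_L] at hx ⊢
  rw [pi_pow_apply π hπ, ← map_pow, ← pi_pow_apply π hπ, hx]

theorem exists_pow_agree (hπ : ∀ x : AlgebraicClosure k, π x = x ^ Nat.card k) (m : ℕ) (hm : 0 < m)
    (σ : AlgebraicClosure k ≃ₐ[k] AlgebraicClosure k) :
    ∃ n : ℕ, ∀ x ∈ L π m, σ x = (π ^ n) x := by
  haveI := L_finite π hπ m hm
  let f : L π m →ₐ[k] L π m :=
    ((σ : AlgebraicClosure k →ₐ[k] AlgebraicClosure k).comp (L π m).val).codRestrict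
      (L π m).toSubalgebra (fun x => smul_mem_L π hπ m σ x x.2)
  have fbij : Function.Bijective f :=
    Finite.injective_iff_bijective.mp (f : L π m →+* L π m).injective
  let g : L π m ≃ₐ[k] L π m := AlgEquiv.ofBijective f fbij
  obtain ⟨p, hp⟩ := CharP.exists k
  haveI : Fact p.Prime := ⟨CharP.char_is_prime k p⟩
  obtain ⟨i, hi⟩ := FiniteField.exists_forall_apply_eq_pow k p (L π m) g
  refine ⟨i, fun x hx => ?_⟩
  have := congrArg Subtype.val (hi ⟨x, hx⟩)
  rw [pi_pow_apply π hπ]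
  exact this

theorem L_mono {d m : ℕ} (h : d ∣ m) : L π d ≤ L π m := by
  obtain ⟨r, rfl⟩ := h
  intro x hx
  rw [mem_L] at hx ⊢
  rw [pow_mul]
  induction r with
  | zero => simp
  | succ r ih => rw [pow_succ, AlgEquiv.mul_apply, hx, ih]

theorem fin_le_L (hπ : ∀ x : AlgebraicClosure k, π x = x ^ Nat.card k)
    (E : IntermediateField k (AlgebraicClosure k)) [FiniteDimensional k E] :
    ∃ d : ℕ, 0 < d ∧ E ≤ L π d := by
  haveI : Finite E := Module.finite_of_finite k
  refine ⟨Module.finrank k E, Module.finrank_pos, fun x hx => ?_⟩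
  rw [mem_L, pi_pow_apply π hπ, ← Module.natCard_eq_pow_finrank (K := k) (V := E)]
  letI := Fintype.ofFinite E
  have := congrArg Subtype.val (FiniteField.pow_card (⟨x, hx⟩ : E))
  rw [Nat.card_eq_fintype_card]
  exact this

theorem pow_agree_inj (hπ : ∀ x : AlgebraicClosure k, π x = x ^ Nat.card k) (m : ℕ)
    (n n' : ℕ) (hn : n < m) (hn' : n' < m)
    (h : ∀ x ∈ L π m, (π ^ n) x = (π ^ n') x) : n = n' := by
  have hm : 0 < m := by omega
  wlog hle : n ≤ n' generalizing n n'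
  · exact (this n' n hn' hn (fun x hx => (h x hx).symm) (by omega)).symm
  by_contra hne
  obtain ⟨j, rfl⟩ : ∃ j, n' = n + j := ⟨n' - n, by omega⟩
  have hj : 0 < j := by omega
  have hjm : j < m := by omega
  have h1 : ∀ x ∈ L π m, (π ^ j) x = x := by
    intro x hx
    have := h x hx
    rw [pow_add, AlgEquiv.mul_apply] at this
    exact ((π ^ n).injective this).symm
  have hsub : (L π m : Set (AlgebraicClosure k)) ⊆ (L π j : Set (AlgebraicClosure k)) := h1
  have hfin : (L π j : Set (AlgebraicClosure k)).Finite := by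
    haveI := L_finite π hπ j hj
    exact Set.toFinite _
  have := Set.ncard_le_ncard hsub hfin
  rw [L_ncard π hπ m hm, L_ncard π hπ j hj] at this
  have := Nat.pow_lt_pow_right (one_lt_q (k := k)) hjm
  omega

end Field

section Group

variable {k : Type u} [Field k] [Finite k]
variable (π : AlgebraicClosure k ≃ₐ[k] AlgebraicClosure k)
variable {A : Type v} [Group A]
  [MulDistribMulAction (AlgebraicClosure k ≃ₐ[k] AlgebraicClosure k) A]

/-- Partial norms `a · π(a) ⋯ π^{n-1}(a)`. -/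
noncomputable def c (a : A) : ℕ → A
  | 0 => 1
  | n + 1 => c a n * (π ^ n) • a

omit [Finite k] in
theorem c_add (a : A) (n n' : ℕ) : c π a (n + n') = c π a n * (π ^ n) • c π a n' := by
  induction n' with
  | zero => simp [c]
  | succ n' ih =>
    rw [← add_assoc]
    show c π a (n + n') * (π ^ (n + n')) • a = c π a n * (π ^ n) • (c π a n' * (π ^ n') • a)
    rw [ih, smul_mul', pow_add, mul_smul, mul_assoc]

omit [Finite k] in
theorem c_mem (a : A) (H : Subgroup A)
    (hH : ∀ (σ : AlgebraicClosure k ≃ₐ[k] AlgebraicClosure k) (x : A), x ∈ H → σ • x ∈ H)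
    (ha : a ∈ H) (n : ℕ) : c π a n ∈ H := by
  induction n with
  | zero => exact H.one_mem
  | succ n ih => exact H.mul_mem ih (hH _ _ ha)

omit [Finite k] in
theorem c_mul (a : A) (d : ℕ) (hd : (π ^ d) • c π a d = c π a d) (j : ℕ) :
    c π a (d * j) = (c π a d) ^ j := by
  induction j with
  | zero => simp [c]
  | succ j ih =>
    rw [mul_add, mul_one, c_add, ih, pow_succ]
    congr 1
    rw [pow_mul]
    clear ih
    induction j with
    | zero => simp
    | succ j ih => rw [pow_succ, mul_smul, hd, ih]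

omit [Finite k] in
theorem c_periodic (a : A) (m : ℕ) (hm : c π a m = 1) (n : ℕ) : c π a (n + m) = c π a n := by
  rw [c_add, hm, smul_one, mul_one]

omit [Finite k] in
theorem c_mod (a : A) (m : ℕ) (hm : c π a m = 1) (n : ℕ) : c π a n = c π a (n % m) := by
  conv_lhs => rw [← Nat.mod_add_div n m]
  generalize n / m = t
  induction t with
  | zero => simp
  | succ t ih => rw [mul_add, mul_one, ← add_assoc, c_periodic π a m hm, ih]

theorem pow_mod_apply (m n : ℕ) (x : AlgebraicClosure k) (hx : x ∈ L π m) :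
    (π ^ n) x = (π ^ (n % m)) x := by
  conv_lhs => rw [← Nat.mod_add_div n m, pow_add, AlgEquiv.mul_apply]
  congr 1
  exact L_mono π (dvd_mul_right m (n / m)) hx

theorem c_congr (hπ : ∀ x : AlgebraicClosure k, π x = x ^ Nat.card k) (a : A) (m : ℕ) (hm0 : 0 < m)
    (hm : c π a m = 1) (n n' : ℕ) (h : ∀ x ∈ L π m, (π ^ n) x = (π ^ n') x) :
    c π a n = c π a n' := by
  rw [c_mod π a m hm n, c_mod π a m hm n']
  congr 1
  apply pow_agree_inj π hπ m _ _ (Nat.mod_lt _ hm0) (Nat.mod_lt _ hm0)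
  intro x hx
  rw [← pow_mod_apply π m n x hx, ← pow_mod_apply π m n' x hx]
  exact h x hx

/-- Density of the powers of Frobenius. -/
theorem exists_pow_mem (hπ : ∀ x : AlgebraicClosure k, π x = x ^ Nat.card k)
    (V : Set (AlgebraicClosure k ≃ₐ[k] AlgebraicClosure k)) (hV : IsOpen V)
    (σ : AlgebraicClosure k ≃ₐ[k] AlgebraicClosure k) (hσ : σ ∈ V) : ∃ n : ℕ, π ^ n ∈ V := by
  have h1 : (fun τ => σ * τ) ⁻¹' V ∈ nhds (1 : AlgebraicClosure k ≃ₐ[k] AlgebraicClosure k) := by
    apply (continuous_mul_left σ).continuousAt.preimage_mem_nhds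
    rw [mul_one]
    exact hV.mem_nhds hσ
  rw [krullTopology_mem_nhds_one_iff] at h1
  obtain ⟨E, hE, hEV⟩ := h1
  obtain ⟨d, hd, hEd⟩ := fin_le_L π hπ E
  obtain ⟨n, hn⟩ := exists_pow_agree π hπ d hd σ
  refine ⟨n, ?_⟩
  have : σ⁻¹ * π ^ n ∈ E.fixingSubgroup := by
    rw [IntermediateField.mem_fixingSubgroup_iff]
    intro x hx
    rw [AlgEquiv.mul_apply, ← hn x (hEd hx)]
    exact σ.symm_apply_apply x
  have := hEV this
  simpa using this

omit [Finite k] in
theorem cocycle_one (z : GpH1.OneCocycle (AlgebraicClosure k ≃ₐ[k] AlgebraicClosure k) A) :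
    z.1 1 = 1 := by
  have := z.2 1 1
  rw [mul_one, one_smul] at this
  exact (mul_eq_left.mp this.symm)

omit [Finite k] in
theorem cocycle_pow (z : GpH1.OneCocycle (AlgebraicClosure k ≃ₐ[k] AlgebraicClosure k) A) (n : ℕ) :
    z.1 (π ^ n) = c π (z.1 π) n := by
  induction n with
  | zero => rw [pow_zero]; exact cocycle_one z
  | succ n ih =>
    rw [pow_succ, z.2, ih]
    rfl

theorem inj (hπ : ∀ x : AlgebraicClosure k, π x = x ^ Nat.card k)
    (z z' : GpH1.OneCocycleLC (AlgebraicClosure k ≃ₐ[k] AlgebraicClosure k) A)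
    (h : z.1.1 π = z'.1.1 π) : z = z' := by
  apply Subtype.ext
  apply GpH1.OneCocycle.ext
  intro σ
  have hV : IsOpen ((z.1.1 ⁻¹' {z.1.1 σ}) ∩ (z'.1.1 ⁻¹' {z'.1.1 σ})) :=
    (z.2.isOpen_fiber _).inter (z'.2.isOpen_fiber _)
  obtain ⟨n, hn⟩ := exists_pow_mem π hπ _ hV σ ⟨rfl, rfl⟩
  have h1 : z.1.1 (π ^ n) = z.1.1 σ := hn.1
  have h2 : z'.1.1 (π ^ n) = z'.1.1 σ := hn.2
  show z.1.1 σ = z'.1.1 σ
  rw [← h1, ← h2, cocycle_pow, cocycle_pow, h]

theorem surj (hπ : ∀ x : AlgebraicClosure k, π x = x ^ Nat.card k)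
    (hcont : ∀ a : A, IsOpen {σ : AlgebraicClosure k ≃ₐ[k] AlgebraicClosure k | σ • a = a})
    (hfin : ∀ a : A, ∃ H : Subgroup A, (H : Set A).Finite ∧ a ∈ H ∧
      ∀ (σ : AlgebraicClosure k ≃ₐ[k] AlgebraicClosure k) (x : A), x ∈ H → σ • x ∈ H)
    (a : A) :
    ∃ z : GpH1.OneCocycleLC (AlgebraicClosure k ≃ₐ[k] AlgebraicClosure k) A, z.1.1 π = a := by
  obtain ⟨H, hHfin, haH, hHst⟩ := hfin a
  -- the pointwise stabiliser of H is open
  have hU : IsOpen (⋂ h ∈ (H : Set A),
      {σ : AlgebraicClosure k ≃ₐ[k] AlgebraicClosure k | σ • h = h}) :=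
    hHfin.isOpen_biInter (fun h _ => hcont h)
  have hU1 : (⋂ h ∈ (H : Set A),
      {σ : AlgebraicClosure k ≃ₐ[k] AlgebraicClosure k | σ • h = h}) ∈
      nhds (1 : AlgebraicClosure k ≃ₐ[k] AlgebraicClosure k) := by
    apply hU.mem_nhds
    simp
  rw [krullTopology_mem_nhds_one_iff] at hU1
  obtain ⟨E, hE, hEU⟩ := hU1
  obtain ⟨d, hd, hEd⟩ := fin_le_L π hπ E
  -- K1
  have K1 : ∀ σ τ : AlgebraicClosure k ≃ₐ[k] AlgebraicClosure k,
      (∀ x ∈ L π d, σ x = τ x) → ∀ h ∈ H, σ • h = τ • h := by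
    intro σ τ hστ h hh
    have hmem : τ⁻¹ * σ ∈ E.fixingSubgroup := by
      rw [IntermediateField.mem_fixingSubgroup_iff]
      intro x hx
      rw [AlgEquiv.mul_apply, hστ x (hEd hx)]
      exact τ.symm_apply_apply x
    have := hEU hmem
    simp only [Set.mem_iInter] at this
    have h2 : (τ⁻¹ * σ) • h = h := this h hh
    rw [mul_smul, inv_smul_eq_iff] at h2
    exact h2
  have K2 : ∀ h ∈ H, (π ^ d) • h = h := by
    intro h hh
    have := K1 (π ^ d) 1 (fun x hx => hx) h hh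
    rwa [one_smul] at this
  have hb : c π a d ∈ H := c_mem π a H hHst haH d
  haveI : Finite H := hHfin.to_subtype
  obtain ⟨r, hr, hbr⟩ := (isOfFinOrder_of_finite (⟨c π a d, hb⟩ : H)).exists_pow_eq_one
  have hbr' : (c π a d) ^ r = 1 := by
    have := congrArg Subtype.val hbr
    simpa using this
  have hm0 : 0 < d * r := Nat.mul_pos hd hr
  have hm : c π a (d * r) = 1 := by rw [c_mul π a d (K2 _ hb), hbr']
  have hdm : L π d ≤ L π (d * r) := L_mono π (dvd_mul_right d r)
  -- the exponent function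
  choose n hn using exists_pow_agree π hπ (d * r) hm0
  have hE' : ∀ σ τ : AlgebraicClosure k ≃ₐ[k] AlgebraicClosure k,
      (∀ x ∈ L π (d * r), σ x = τ x) → c π a (n σ) = c π a (n τ) := by
    intro σ τ hστ
    apply c_congr π hπ a (d * r) hm0 hm
    intro x hx
    rw [← hn σ x hx, ← hn τ x hx, hστ x hx]
  have hcoc : GpH1.IsOneCocycle (fun σ => c π a (n σ)) := by
    intro σ τ
    show c π a (n (σ * τ)) = c π a (n σ) * σ • c π a (n τ)
    have h1 : c π a (n (σ * τ)) = c π a (n σ + n τ) := by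
      apply c_congr π hπ a (d * r) hm0 hm
      intro x hx
      rw [← hn (σ * τ) x hx, pow_add, AlgEquiv.mul_apply, AlgEquiv.mul_apply, ← hn τ x hx,
        ← hn σ _ (smul_mem_L π hπ _ τ x hx)]
    rw [h1, c_add]
    congr 1
    exact (K1 σ (π ^ n σ) (fun x hx => hn σ x (hdm hx)) _ (c_mem π a H hHst haH _)).symm
  have hlc : IsLocallyConstant (fun σ => c π a (n σ)) := by
    rw [IsLocallyConstant.iff_exists_open]
    intro σ
    haveI := L_finite π hπ (d * r) hm0
    haveI : FiniteDimensional k (L π (d * r)) := Module.Finite.of_finite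
    refine ⟨(fun τ => σ⁻¹ * τ) ⁻¹' ((L π (d * r)).fixingSubgroup : Set _),
      (continuous_mul_left σ⁻¹).isOpen_preimage _ (L π (d * r)).fixingSubgroup_isOpen, ?_, ?_⟩
    · simp
    · intro τ hτ
      apply hE'
      intro x hx
      have hτ' : σ⁻¹ * τ ∈ (L π (d * r)).fixingSubgroup := hτ
      rw [IntermediateField.mem_fixingSubgroup_iff] at hτ'
      have := hτ' x hx
      rw [AlgEquiv.mul_apply] at this
      have h3 := congrArg σ this
      rw [show σ (σ⁻¹ (τ x)) = τ x from σ.apply_symm_apply _] at h3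
      exact h3
  refine ⟨⟨⟨fun σ => c π a (n σ), hcoc⟩, hlc⟩, ?_⟩
  show c π a (n π) = a
  have h1 : c π a (n π) = c π a 1 := by
    apply c_congr π hπ a (d * r) hm0 hm
    intro x hx
    rw [← hn π x hx, pow_one]
  rw [h1]
  simp [c]

theorem smul_locConst
    (hcont : ∀ a : A, IsOpen {σ : AlgebraicClosure k ≃ₐ[k] AlgebraicClosure k | σ • a = a})
    (g : A) :
    IsLocallyConstant (fun σ : AlgebraicClosure k ≃ₐ[k] AlgebraicClosure k => σ • g) := by
  rw [IsLocallyConstant.iff_exists_open]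
  intro σ
  refine ⟨(fun τ => σ⁻¹ * τ) ⁻¹' {τ | τ • g = g},
    (continuous_mul_left σ⁻¹).isOpen_preimage _ (hcont g), ?_, ?_⟩
  · simp
  · intro τ hτ
    have : (σ⁻¹ * τ) • g = g := hτ
    rw [mul_smul, inv_smul_eq_iff] at this
    exact this

theorem main (hπ : ∀ x : AlgebraicClosure k, π x = x ^ Nat.card k)
    (hcont : ∀ a : A, IsOpen {σ : AlgebraicClosure k ≃ₐ[k] AlgebraicClosure k | σ • a = a})
    (hfin : ∀ a : A, ∃ H : Subgroup A, (H : Set A).Finite ∧ a ∈ H ∧
      ∀ (σ : AlgebraicClosure k ≃ₐ[k] AlgebraicClosure k) (x : A), x ∈ H → σ • x ∈ H) :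
    Function.Bijective
        (fun z : GpH1.OneCocycleLC (AlgebraicClosure k ≃ₐ[k] AlgebraicClosure k) A => z.1 π) ∧
      ∀ z z' : GpH1.OneCocycleLC (AlgebraicClosure k ≃ₐ[k] AlgebraicClosure k) A,
        z.cl = z'.cl ↔ ∃ g : A, z'.1 π = g * z.1 π * (π • g)⁻¹ := by
  refine ⟨⟨fun z z' h => inj π hπ z z' h, fun a => surj π hπ hcont hfin a⟩, ?_⟩
  intro z z'
  rw [GpH1.OneCocycleLC.cl_eq_cl_iff]
  constructor
  · rintro ⟨g, hg⟩
    refine ⟨g, ?_⟩
    rw [hg π]
    group
  · rintro ⟨g, hg⟩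
    have hcoc : GpH1.IsOneCocycle (fun σ => g⁻¹ * z'.1.1 σ * σ • g) := by
      intro σ τ
      show g⁻¹ * z'.1.1 (σ * τ) * (σ * τ) • g = g⁻¹ * z'.1.1 σ * σ • g * σ • (g⁻¹ * z'.1.1 τ * τ • g)
      rw [z'.1.2 σ τ, smul_mul', smul_mul', smul_inv', mul_smul]
      group
    have hlc : IsLocallyConstant (fun σ => g⁻¹ * z'.1.1 σ * σ • g) := by
      have h1 : IsLocallyConstant (fun σ => (z'.1.1 σ, σ • g)) :=
        z'.2.prodMk (smul_locConst hcont g)
      exact h1.comp (fun p : A × A => g⁻¹ * p.1 * p.2)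
    have := inj π hπ ⟨⟨_, hcoc⟩, hlc⟩ z (by
      show g⁻¹ * z'.1.1 π * π • g = z.1.1 π
      have hg' : z'.1.1 π = g * z.1.1 π * (π • g)⁻¹ := hg
      rw [hg']
      group)
    refine ⟨g, fun σ => ?_⟩
    rw [← this]

end Group

end Groth.Agent.Lib.Helper24LangDisc
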