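import Mathlib

/-!
# Index computations for sublattices of `ℤⁿ` cut out by the sum of coordinates
-/

namespace Groth.Agent.Lib.Helper24LatIdx

open Finset

variable {n : ℕ}

/-- The sum of coordinates, as an additive hom. -/
def Sm (n : ℕ) : (Fin n → ℤ) →+ ℤ :=
  (∑ i : Fin n, (LinearMap.proj i : (Fin n → ℤ) →ₗ[ℤ] ℤ)).toAddMonoidHom

/-- multiplication by a diagonal matrix, as an additive hom. -/
def Dm (δ : Fin n → ℤ) : (Fin n → ℤ) →+ (Fin n → ℤ) :=
  (Matrix.mulVecLin (Matrix.diagonal δ)).toAddMonoidHom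

theorem Sm_apply (x : Fin n → ℤ) : Sm n x = ∑ i, x i := by
  simp [Sm, LinearMap.sum_apply]

theorem Dm_apply (δ : Fin n → ℤ) (x : Fin n → ℤ) (i : Fin n) : Dm δ x i = δ i * x i := by
  simp [Dm, Matrix.mulVec_diagonal]

theorem Dm_injective (δ : Fin n → ℤ) (hδ : ∀ i, δ i ≠ 0) : Function.Injective (Dm δ) := by
  intro x y hxy
  funext i
  have := congrFun hxy i
  rw [Dm_apply, Dm_apply] at this
  exact mul_left_cancel₀ (hδ i) this

theorem Sm_surjective (hn : 0 < n) : Function.Surjective (Sm n) := by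
  intro z
  refine ⟨Pi.single ⟨0, hn⟩ z, ?_⟩
  rw [Sm_apply]
  simp

theorem range_Dm (δ : Fin n → ℤ) :
    (Dm δ).range = AddSubgroup.pi Set.univ (fun i => AddSubgroup.zmultiples (δ i)) := by
  ext x
  simp only [AddMonoidHom.mem_range, AddSubgroup.mem_pi, Set.mem_univ, true_implies,
    AddSubgroup.mem_zmultiples_iff]
  constructor
  · rintro ⟨y, rfl⟩ i
    exact ⟨y i, by rw [Dm_apply, smul_eq_mul, mul_comm]⟩
  · intro h
    choose y hy using h
    refine ⟨y, ?_⟩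
    funext i
    rw [Dm_apply, ← hy i, smul_eq_mul, mul_comm]

theorem index_range_Dm (δ : Fin n → ℤ) : (Dm δ).range.index = (∏ i, δ i).natAbs := by
  rw [range_Dm, AddSubgroup.index_pi]
  simp only [Int.index_zmultiples]
  rw [← Int.natAbsHom_apply, map_prod]
  rfl

theorem bezout (δ : Fin n → ℤ) (s : Finset (Fin n)) :
    ∃ c : Fin n → ℤ, s.gcd δ = ∑ i ∈ s, δ i * c i := by
  classical
  induction s using Finset.induction_on with
  | empty => exact ⟨0, by simp⟩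
  | insert a s ha ih =>
    obtain ⟨c, hc⟩ := ih
    rw [Finset.gcd_insert]
    obtain ⟨x, y, hb⟩ : ∃ x y : ℤ, GCDMonoid.gcd (δ a) (s.gcd δ) = δ a * x + s.gcd δ * y := by
      refine ⟨Int.gcdA (δ a) (s.gcd δ), Int.gcdB (δ a) (s.gcd δ), ?_⟩
      rw [← Int.coe_gcd]
      exact Int.gcd_eq_gcd_ab (δ a) (s.gcd δ)
    refine ⟨fun i => if i = a then x else c i * y, ?_⟩
    rw [Finset.sum_insert ha, hb]
    simp only [if_true]
    congr 1
    rw [hc, Finset.sum_mul]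
    apply Finset.sum_congr rfl
    intro i hi
    have : i ≠ a := fun h => ha (h ▸ hi)
    rw [if_neg this, mul_assoc]

theorem map_Sm_range_Dm (δ : Fin n → ℤ) :
    (Dm δ).range.map (Sm n) = AddSubgroup.zmultiples (univ.gcd δ) := by
  ext z
  simp only [AddSubgroup.mem_map, AddMonoidHom.mem_range, exists_exists_eq_and,
    AddSubgroup.mem_zmultiples_iff]
  constructor
  · rintro ⟨y, rfl⟩
    rw [Sm_apply]
    have : univ.gcd δ ∣ ∑ i, Dm δ y i := by
      apply Finset.dvd_sum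
      intro i _
      rw [Dm_apply]
      exact Dvd.dvd.mul_right (Finset.gcd_dvd (Finset.mem_univ i)) _
    obtain ⟨k, hk⟩ := this
    exact ⟨k, by rw [hk, smul_eq_mul, mul_comm]⟩
  · rintro ⟨k, rfl⟩
    obtain ⟨c, hc⟩ := bezout δ univ
    refine ⟨fun i => k * c i, ?_⟩
    rw [Sm_apply, hc, smul_eq_mul, Finset.mul_sum]
    apply Finset.sum_congr rfl
    intro i _
    rw [Dm_apply]
    ring

/-- the key index formula: `[ker S : D ℤⁿ ∩ ker S] * gcd = |det D|`. -/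
theorem relIndex_range_Dm (hn : 0 < n) (δ : Fin n → ℤ) :
    (Dm δ).range.relIndex (Sm n).ker * (univ.gcd δ).natAbs = (∏ i, δ i).natAbs := by
  rw [← index_range_Dm, ← Int.index_zmultiples, ← map_Sm_range_Dm,
    ← AddSubgroup.index_comap_of_surjective _ (Sm_surjective hn), AddSubgroup.comap_map_eq,
    ← AddSubgroup.relIndex_sup_right (K := (Dm δ).range) (H := (Sm n).ker), sup_comm]
  exact AddSubgroup.relIndex_mul_index le_sup_left

theorem map_ker_comp (δ : Fin n → ℤ) :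
    ((Sm n).comp (Dm δ)).ker.map (Dm δ) = (Dm δ).range ⊓ (Sm n).ker := by
  ext x
  simp only [AddSubgroup.mem_map, AddMonoidHom.mem_ker, AddMonoidHom.comp_apply,
    AddSubgroup.mem_inf, AddMonoidHom.mem_range]
  constructor
  · rintro ⟨y, hy, rfl⟩
    exact ⟨⟨y, rfl⟩, hy⟩
  · rintro ⟨⟨y, rfl⟩, hy⟩
    exact ⟨y, hy, rfl⟩

/-- the main index identity, for an arbitrary subgroup `RA` of `ker (S D)`. -/
theorem index_identity (hn : 0 < n) (δ : Fin n → ℤ) (hδ : ∀ i, δ i ≠ 0)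
    (RA : AddSubgroup (Fin n → ℤ)) (hRA : RA ≤ ((Sm n).comp (Dm δ)).ker) :
    RA.relIndex ((Sm n).comp (Dm δ)).ker * (∏ i, δ i).natAbs =
      (univ.gcd δ).natAbs * (RA.map (Dm δ)).relIndex (Sm n).ker := by
  have h1 : RA.map (Dm δ) ≤ ((Sm n).comp (Dm δ)).ker.map (Dm δ) := AddSubgroup.map_mono hRA
  have h2 : ((Sm n).comp (Dm δ)).ker.map (Dm δ) ≤ (Sm n).ker := by
    rw [map_ker_comp]; exact inf_le_right
  rw [← AddSubgroup.relIndex_mul_relIndex _ _ _ h1 h2,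
    AddSubgroup.relIndex_map_map_of_injective _ _ (Dm_injective δ hδ), map_ker_comp,
    AddSubgroup.inf_relIndex_right, ← relIndex_range_Dm hn δ]
  ring

theorem gcd_natAbs (δ : Fin n → ℤ) : ((univ.gcd δ).natAbs : ℤ) = univ.gcd δ := by
  apply Int.natAbs_of_nonneg
  apply Int.nonneg_of_normalize_eq_self
  exact Finset.normalize_gcd

theorem main1 (n : ℕ) (hn : 0 < n) (δ : Fin n → ℤ) (hδ : ∀ i, δ i ≠ 0)
    (A : Matrix (Fin n) (Fin n) ℤ)
    (hSDA : (∑ i : Fin n, (LinearMap.proj i : (Fin n → ℤ) →ₗ[ℤ] ℤ)) ∘ₗ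
        (Matrix.mulVecLin (Matrix.diagonal δ)) ∘ₗ (Matrix.mulVecLin A) = 0) :
    (Nat.card (LinearMap.ker ((∑ i : Fin n, (LinearMap.proj i : (Fin n → ℤ) →ₗ[ℤ] ℤ)) ∘ₗ (Matrix.mulVecLin (Matrix.diagonal δ))) ⧸
          (LinearMap.range (Matrix.mulVecLin A)).comap (LinearMap.ker ((∑ i : Fin n, (LinearMap.proj i : (Fin n → ℤ) →ₗ[ℤ] ℤ)) ∘ₗ (Matrix.mulVecLin (Matrix.diagonal δ)))).subtype) : ℤ) * |∏ i, δ i| =
      (univ.gcd δ) * Nat.card (LinearMap.ker (∑ i : Fin n, (LinearMap.proj i : (Fin n → ℤ) →ₗ[ℤ] ℤ)) ⧸ (LinearMap.range ((Matrix.mulVecLin (Matrix.diagonal δ)) ∘ₗ (Matrix.mulVecLin A))).comap (LinearMap.ker (∑ i : Fin n, (LinearMap.proj i : (Fin n → ℤ) →ₗ[ℤ] ℤ))).subtype) := by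
  have e1 : Nat.card (LinearMap.ker ((∑ i : Fin n, (LinearMap.proj i : (Fin n → ℤ) →ₗ[ℤ] ℤ)) ∘ₗ (Matrix.mulVecLin (Matrix.diagonal δ))) ⧸
          (LinearMap.range (Matrix.mulVecLin A)).comap (LinearMap.ker ((∑ i : Fin n, (LinearMap.proj i : (Fin n → ℤ) →ₗ[ℤ] ℤ)) ∘ₗ (Matrix.mulVecLin (Matrix.diagonal δ)))).subtype) =
      (LinearMap.range (Matrix.mulVecLin A)).toAddSubgroup.relIndex ((Sm n).comp (Dm δ)).ker := rfl
  have e2 : Nat.card (LinearMap.ker (∑ i : Fin n, (LinearMap.proj i : (Fin n → ℤ) →ₗ[ℤ] ℤ)) ⧸ (LinearMap.range ((Matrix.mulVecLin (Matrix.diagonal δ)) ∘ₗ (Matrix.mulVecLin A))).comap (LinearMap.ker (∑ i : Fin n, (LinearMap.proj i : (Fin n → ℤ) →ₗ[ℤ] ℤ))).subtype) =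
      ((LinearMap.range (Matrix.mulVecLin A)).toAddSubgroup.map (Dm δ)).relIndex (Sm n).ker := by
    rw [LinearMap.range_comp]
    rfl
  rw [e1, e2]
  have hRA : (LinearMap.range (Matrix.mulVecLin A)).toAddSubgroup ≤ ((Sm n).comp (Dm δ)).ker := by
    rintro x ⟨y, rfl⟩
    exact LinearMap.congr_fun hSDA y
  have key := index_identity hn δ hδ _ hRA
  rw [← Int.natCast_natAbs, ← gcd_natAbs]
  exact_mod_cast key

/-! ### The second identity -/

theorem finrank_ker_add_rank (A : Matrix (Fin n) (Fin n) ℤ) :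
    Module.finrank ℤ (LinearMap.ker A.mulVecLin) + A.rank = n := by
  have h1 := Submodule.finrank_quotient_add_finrank (LinearMap.ker A.mulVecLin)
  have h2 : Module.finrank ℤ ((Fin n → ℤ) ⧸ LinearMap.ker A.mulVecLin) =
      Module.finrank ℤ (LinearMap.range A.mulVecLin) :=
    (LinearMap.quotKerEquivRange A.mulVecLin).finrank_eq
  rw [h2, Module.finrank_pi] at h1
  simp only [Fintype.card_fin] at h1
  unfold Matrix.rank
  omega

/-- the primitive vector `δ' / gcd δ'`. -/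
def prim (δ' : Fin n → ℤ) : Fin n → ℤ := fun i => δ' i / univ.gcd δ'

theorem prim_mul (δ' : Fin n → ℤ) (i : Fin n) : univ.gcd δ' * prim δ' i = δ' i :=
  Int.mul_ediv_cancel' (Finset.gcd_dvd (Finset.mem_univ i))

theorem gcd_ne_zero (hn : 0 < n) (δ' : Fin n → ℤ) (hδ' : ∀ i, δ' i ≠ 0) : univ.gcd δ' ≠ 0 := by
  intro h
  rw [Finset.gcd_eq_zero_iff] at h
  exact hδ' ⟨0, hn⟩ (h _ (Finset.mem_univ _))

theorem prim_bezout (hn : 0 < n) (δ' : Fin n → ℤ) (hδ' : ∀ i, δ' i ≠ 0) :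
    ∃ c : Fin n → ℤ, ∑ i, prim δ' i * c i = 1 := by
  obtain ⟨c, hc⟩ := bezout δ' univ
  refine ⟨c, ?_⟩
  have hd := gcd_ne_zero hn δ' hδ'
  apply mul_left_cancel₀ hd
  rw [mul_one, Finset.mul_sum]
  conv_rhs => rw [hc]
  apply Finset.sum_congr rfl
  intro i _
  rw [← mul_assoc, prim_mul]

theorem ker_eq_zmultiples (hn : 0 < n) (δ' : Fin n → ℤ) (hδ' : ∀ i, δ' i ≠ 0)
    (A : Matrix (Fin n) (Fin n) ℤ) (hA : A.rank = n - 1) (hAδ : A.mulVecLin δ' = 0) :
    (A.mulVecLin.toAddMonoidHom).ker = AddSubgroup.zmultiples (prim δ') := by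
  have hd := gcd_ne_zero hn δ' hδ'
  have hδv : δ' = univ.gcd δ' • prim δ' := by
    funext i
    rw [Pi.smul_apply, smul_eq_mul, prim_mul]
  have hv : A.mulVecLin (prim δ') = 0 := by
    have : univ.gcd δ' • A.mulVecLin (prim δ') = 0 := by
      rw [← map_smul, ← hδv, hAδ]
    exact (smul_eq_zero.mp this).resolve_left hd
  have hfr : Module.finrank ℤ (LinearMap.ker A.mulVecLin) = 1 := by
    have := finrank_ker_add_rank A
    omega
  ext x
  rw [AddMonoidHom.mem_ker, AddSubgroup.mem_zmultiples_iff]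
  constructor
  · intro hx
    have hx' : x ∈ LinearMap.ker A.mulVecLin := hx
    have hδ'mem : δ' ∈ LinearMap.ker A.mulVecLin := hAδ
    have hdep : ¬ LinearIndependent ℤ ![x, δ'] := by
      intro hli
      let w : Fin 2 → LinearMap.ker A.mulVecLin := ![⟨x, hx'⟩, ⟨δ', hδ'mem⟩]
      have hw : LinearIndependent ℤ w := by
        apply LinearIndependent.of_comp (LinearMap.ker A.mulVecLin).subtype
        have hcomp : (LinearMap.ker A.mulVecLin).subtype ∘ w = ![x, δ'] := by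
          funext j
          fin_cases j <;> rfl
        rw [hcomp]
        exact hli
      have := hw.fintype_card_le_finrank
      rw [hfr] at this
      simp at this
    rw [LinearIndependent.pair_iff] at hdep
    push Not at hdep
    obtain ⟨s, t, hst, hne⟩ := hdep
    have hs : s ≠ 0 := by
      intro hs
      have ht : t ≠ 0 := hne hs
      rw [hs, zero_smul, zero_add] at hst
      have := congrFun hst ⟨0, hn⟩
      rw [Pi.smul_apply, smul_eq_mul, Pi.zero_apply] at this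
      rcases mul_eq_zero.mp this with h | h
      · exact ht h
      · exact hδ' _ h
    -- s x_i = - t d' v_i
    have hcoord : ∀ i, s * x i = -(t * univ.gcd δ') * prim δ' i := by
      intro i
      have := congrFun hst i
      simp only [Pi.add_apply, Pi.smul_apply, smul_eq_mul, Pi.zero_apply] at this
      rw [← prim_mul δ' i] at this
      linear_combination this
    obtain ⟨c, hc⟩ := prim_bezout hn δ' hδ'
    have hdvd : s ∣ -(t * univ.gcd δ') := by
      have : -(t * univ.gcd δ') = ∑ i, (-(t * univ.gcd δ') * prim δ' i) * c i := by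
        simp_rw [mul_assoc]
        rw [← Finset.mul_sum, hc, mul_one]
      rw [this]
      apply Finset.dvd_sum
      intro i _
      rw [← hcoord i, mul_assoc]
      exact dvd_mul_right _ _
    obtain ⟨q, hq⟩ := hdvd
    refine ⟨q, ?_⟩
    funext i
    rw [Pi.smul_apply, smul_eq_mul]
    have := hcoord i
    rw [hq, mul_assoc] at this
    exact (mul_left_cancel₀ hs this).symm
  · rintro ⟨k, rfl⟩
    show A.mulVecLin (k • prim δ') = 0
    rw [map_smul, hv, smul_zero]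

theorem comap_zmultiplesHom_range_Dm (hn : 0 < n) (δ' : Fin n → ℤ) (hδ' : ∀ i, δ' i ≠ 0) :
    (Dm δ').range.comap (zmultiplesHom (Fin n → ℤ) (prim δ')) =
      AddSubgroup.zmultiples (univ.gcd δ') := by
  have hd := gcd_ne_zero hn δ' hδ'
  ext k
  rw [AddSubgroup.mem_comap, AddMonoidHom.mem_range, AddSubgroup.mem_zmultiples_iff]
  constructor
  · rintro ⟨y, hy⟩
    have := congrFun hy ⟨0, hn⟩
    rw [Dm_apply, zmultiplesHom_apply, Pi.smul_apply, smul_eq_mul, ← prim_mul δ' ⟨0, hn⟩] at this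
    have hv0 : prim δ' ⟨0, hn⟩ ≠ 0 := by
      intro h
      have := prim_mul δ' ⟨0, hn⟩
      rw [h, mul_zero] at this
      exact hδ' _ this.symm
    refine ⟨y ⟨0, hn⟩, ?_⟩
    rw [smul_eq_mul]
    apply mul_right_cancel₀ hv0
    linear_combination this
  · rintro ⟨m, rfl⟩
    refine ⟨fun _ => m, ?_⟩
    funext i
    rw [Dm_apply, zmultiplesHom_apply, Pi.smul_apply, smul_eq_mul, smul_eq_mul, ← prim_mul δ' i]
    ring

/-- `[A ℤⁿ : A D' ℤⁿ] * gcd δ' = |det D'|`. -/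
theorem relIndex_map_range (hn : 0 < n) (δ' : Fin n → ℤ) (hδ' : ∀ i, δ' i ≠ 0)
    (A : Matrix (Fin n) (Fin n) ℤ) (hA : A.rank = n - 1) (hAδ : A.mulVecLin δ' = 0) :
    (univ.gcd δ').natAbs * ((Dm δ').range.map A.mulVecLin.toAddMonoidHom).relIndex
      (A.mulVecLin.toAddMonoidHom).range = (∏ i, δ' i).natAbs := by
  have hker := ker_eq_zmultiples hn δ' hδ' A hA hAδ
  have h1 : ((Dm δ').range.map A.mulVecLin.toAddMonoidHom).relIndex
      (A.mulVecLin.toAddMonoidHom).range =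
      ((Dm δ').range ⊔ (A.mulVecLin.toAddMonoidHom).ker).index := by
    rw [AddMonoidHom.range_eq_map A.mulVecLin.toAddMonoidHom, AddSubgroup.relIndex_map_map,
      top_sup_eq, AddSubgroup.relIndex_top_right]
  have h2 : (Dm δ').range.relIndex ((Dm δ').range ⊔ (A.mulVecLin.toAddMonoidHom).ker) =
      (univ.gcd δ').natAbs := by
    rw [AddSubgroup.relIndex_sup_left, hker, ← AddSubgroup.range_zmultiplesHom,
      AddMonoidHom.range_eq_map (zmultiplesHom (Fin n → ℤ) (prim δ')),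
      ← AddSubgroup.relIndex_comap, AddSubgroup.relIndex_top_right,
      comap_zmultiplesHom_range_Dm hn δ' hδ', Int.index_zmultiples]
  rw [h1, ← h2, ← index_range_Dm]
  exact AddSubgroup.relIndex_mul_index le_sup_left

theorem main2 (n : ℕ) (hn : 0 < n) (δ δ' : Fin n → ℤ) (hδ : ∀ i, δ i ≠ 0) (hδ' : ∀ i, δ' i ≠ 0)
    (A : Matrix (Fin n) (Fin n) ℤ) (hA : A.rank = n - 1)
    (hSDA : (∑ i : Fin n, (LinearMap.proj i : (Fin n → ℤ) →ₗ[ℤ] ℤ)) ∘ₗ
        (Matrix.mulVecLin (Matrix.diagonal δ)) ∘ₗ (Matrix.mulVecLin A) = 0)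
    (hADΔ : (Matrix.mulVecLin A) ∘ₗ (Matrix.mulVecLin (Matrix.diagonal δ')) ∘ₗ
        (LinearMap.pi fun _ : Fin n => (LinearMap.id : ℤ →ₗ[ℤ] ℤ)) = 0) :
    (Nat.card (LinearMap.ker ((∑ i : Fin n, (LinearMap.proj i : (Fin n → ℤ) →ₗ[ℤ] ℤ)) ∘ₗ (Matrix.mulVecLin (Matrix.diagonal δ))) ⧸
          (LinearMap.range (Matrix.mulVecLin A)).comap (LinearMap.ker ((∑ i : Fin n, (LinearMap.proj i : (Fin n → ℤ) →ₗ[ℤ] ℤ)) ∘ₗ (Matrix.mulVecLin (Matrix.diagonal δ)))).subtype) : ℤ) * |∏ i, δ i| * |∏ i, δ' i| =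
      (univ.gcd δ) * (univ.gcd δ') * Nat.card (LinearMap.ker (∑ i : Fin n, (LinearMap.proj i : (Fin n → ℤ) →ₗ[ℤ] ℤ)) ⧸
          (LinearMap.range ((Matrix.mulVecLin (Matrix.diagonal δ)) ∘ₗ (Matrix.mulVecLin A) ∘ₗ (Matrix.mulVecLin (Matrix.diagonal δ')))).comap (LinearMap.ker (∑ i : Fin n, (LinearMap.proj i : (Fin n → ℤ) →ₗ[ℤ] ℤ))).subtype) := by
  have e1 : Nat.card (LinearMap.ker ((∑ i : Fin n, (LinearMap.proj i : (Fin n → ℤ) →ₗ[ℤ] ℤ)) ∘ₗ (Matrix.mulVecLin (Matrix.diagonal δ))) ⧸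
          (LinearMap.range (Matrix.mulVecLin A)).comap (LinearMap.ker ((∑ i : Fin n, (LinearMap.proj i : (Fin n → ℤ) →ₗ[ℤ] ℤ)) ∘ₗ (Matrix.mulVecLin (Matrix.diagonal δ)))).subtype) =
      (A.mulVecLin.toAddMonoidHom).range.relIndex ((Sm n).comp (Dm δ)).ker := rfl
  have e2 : Nat.card (LinearMap.ker (∑ i : Fin n, (LinearMap.proj i : (Fin n → ℤ) →ₗ[ℤ] ℤ)) ⧸
          (LinearMap.range ((Matrix.mulVecLin (Matrix.diagonal δ)) ∘ₗ (Matrix.mulVecLin A) ∘ₗ (Matrix.mulVecLin (Matrix.diagonal δ')))).comap (LinearMap.ker (∑ i : Fin n, (LinearMap.proj i : (Fin n → ℤ) →ₗ[ℤ] ℤ))).subtype) =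
      (((Dm δ').range.map A.mulVecLin.toAddMonoidHom).map (Dm δ)).relIndex (Sm n).ker := by
    rw [LinearMap.range_comp, LinearMap.range_comp]
    rfl
  rw [e1, e2]
  have hRA : (A.mulVecLin.toAddMonoidHom).range ≤ ((Sm n).comp (Dm δ)).ker := by
    rintro x ⟨y, rfl⟩
    exact LinearMap.congr_fun hSDA y
  have hRA' : (Dm δ').range.map A.mulVecLin.toAddMonoidHom ≤ (A.mulVecLin.toAddMonoidHom).range := by
    rintro x ⟨y, _, rfl⟩
    exact ⟨y, rfl⟩
  have hAδ : A.mulVecLin δ' = 0 := by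
    have := LinearMap.congr_fun hADΔ 1
    simp only [LinearMap.comp_apply, LinearMap.zero_apply] at this
    convert this using 2
    funext i
    simp [Matrix.mulVec_diagonal]
  have key1 := index_identity hn δ hδ _ (hRA'.trans hRA)
  have key2 := AddSubgroup.relIndex_mul_relIndex _ _ _ hRA' hRA
  have key3 := relIndex_map_range hn δ' hδ' A hA hAδ
  rw [← Int.natCast_natAbs (∏ i, δ i), ← Int.natCast_natAbs (∏ i, δ' i), ← gcd_natAbs δ,
    ← gcd_natAbs δ']
  have : (A.mulVecLin.toAddMonoidHom).range.relIndex ((Sm n).comp (Dm δ)).ker *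
      (∏ i, δ i).natAbs * (∏ i, δ' i).natAbs =
      (univ.gcd δ).natAbs * (univ.gcd δ').natAbs *
      (((Dm δ').range.map A.mulVecLin.toAddMonoidHom).map (Dm δ)).relIndex (Sm n).ker := by
    rw [← key3]
    calc _ = (univ.gcd δ').natAbs * ((((Dm δ').range.map A.mulVecLin.toAddMonoidHom).relIndex
            (A.mulVecLin.toAddMonoidHom).range * (A.mulVecLin.toAddMonoidHom).range.relIndex
            ((Sm n).comp (Dm δ)).ker) * (∏ i, δ i).natAbs) := by ring
      _ = _ := by rw [key2, key1]; ring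
  exact_mod_cast this

end Groth.Agent.Lib.Helper24LatIdx
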