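import Mathlib.LinearAlgebra.BilinearMap
import Mathlib.Algebra.Order.Ring.Int
import Mathlib.Tactic

/-!
An integrality lemma: a self-adjoint endomorphism `c` of a positive definite integral lattice
with `c` and `1 - c` both positive semidefinite is idempotent.
-/

set_option autoImplicit false

namespace Groth.Agent.Lib.Helper24

section

variable {L : Type*} [AddCommGroup L] (β : L →ₗ[ℤ] L →ₗ[ℤ] ℤ) (c : L →ₗ[ℤ] L)

theorem lattice_idem
    (hpos : ∀ v, v ≠ 0 → 0 < β v v)
    (hadj : ∀ v w, β (c v) w = β v (c w))
    (h1 : ∀ v, 0 ≤ β v (c v)) (h2 : ∀ v, 0 ≤ β v (v - c v)) :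
    ∀ v, c (c v) = c v := by
  have hnn : ∀ v, 0 ≤ β v v := by
    intro v
    by_cases hv : v = 0
    · subst hv; simp
    · exact (hpos v hv).le
  -- D v = c v - c (c v)
  have key1 : ∀ v, 0 ≤ β v (c v - c (c v)) := by
    intro v
    have a1 := h2 (c v)
    have a2 := h1 (v - c v)
    simp only [map_sub, LinearMap.sub_apply, hadj] at a1 a2 ⊢
    linarith
  have key2 : ∀ v, 4 * β v (c v - c (c v)) ≤ β v v := by
    intro v
    have a1 := hnn (v - c v - c v)
    simp only [map_sub, LinearMap.sub_apply, hadj] at a1 ⊢
    linarith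
  have key3 : ∀ v, 4 * β (c v - c (c v)) (c v - c (c v)) ≤ β v (c v - c (c v)) := by
    intro v
    have a1 := key1 (v - c v - c v)
    simp only [map_sub, LinearMap.sub_apply, hadj] at a1 ⊢
    linarith
  have key4 : ∀ v, 16 * β (c v - c (c v)) (c v - c (c v)) ≤ β v v := by
    intro v
    have := key2 v
    have := key3 v
    linarith
  have hDadj : ∀ v w, β (c v - c (c v)) w = β v (c w - c (c w)) := by
    intro v w
    simp only [map_sub, LinearMap.sub_apply, hadj]
  have main : ∀ m : ℕ, ∀ v, (β v v).toNat ≤ m → c v - c (c v) = 0 := by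
    intro m
    induction m using Nat.strong_induction_on with
    | _ m ih =>
      intro v hv
      by_cases hv0 : v = 0
      · subst hv0; simp
      · have hvpos := hpos v hv0
        have h16 := key4 v
        have hw := hnn (c v - c (c v))
        have hlt : (β (c v - c (c v)) (c v - c (c v))).toNat < m := by omega
        have hDw := ih _ hlt (c v - c (c v)) le_rfl
        by_contra hne
        have hp := hpos _ hne
        rw [hDadj, hDw] at hp
        simp at hp
  intro v
  have := main _ v le_rfl
  exact (sub_eq_zero.mp this).symm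

end

end Groth.Agent.Lib.Helper24
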