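import Mathlib
import Groth.Prelude.Def_W4c1bouilletffgsL3
import Groth.Agent.Lib.Helper24GB

/-!
# Helper24Lie3: Gröbner basis of the ideals `I`, `J` of the moduli space of based
three-dimensional Lie algebras
-/

namespace Groth.Agent.Lib.Helper24Lie3

open MvPolynomial Finsupp Lie3Mod Groth.Agent.Lib.Helper24GB
open scoped MonomialOrder

/-- first weight: variables `g, e, c` -/
def w1 : Fin 9 → ℕ := ![0,0,1,0,1,0,1,0,0]
/-- second weight: variables `b, a, h` -/
def w2 : Fin 9 → ℕ := ![1,1,0,0,0,0,0,1,0]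

/-- the monomial order -/
noncomputable def ord : MonomialOrder (Fin 9) := wOrder w1 w2

/-- comparison of explicit exponent vectors -/
macro "lie_cmp" : tactic => `(tactic| first
  | (apply wOrder_lt_of_wt1; simp [wt, Finsupp.linearCombination_single, w1]; done)
  | (apply wOrder_lt_of_wt2 <;> simp [wt, Finsupp.linearCombination_single, w1, w2]; done))

variable {A : Type*} [CommRing A]

/-- `-Q1`, leading monomial `b g` -/
noncomputable def G1 : D A := -(Q1 A)
/-- `-Q2`, leading monomial `a e` -/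
noncomputable def G2 : D A := -(Q2 A)
/-- `Q3`, leading monomial `h c` -/
noncomputable def G3 : D A := Q3 A
/-- `-detM`, leading monomial `g e c` -/
noncomputable def G4 : D A := -(detM A)

noncomputable def e1 : Fin 9 →₀ ℕ := single 1 1 + single 6 1
noncomputable def e2 : Fin 9 →₀ ℕ := single 0 1 + single 4 1
noncomputable def e3 : Fin 9 →₀ ℕ := single 7 1 + single 2 1
noncomputable def e4 : Fin 9 →₀ ℕ := single 6 1 + single 4 1 + single 2 1

variable (A)

lemma G1_eq : (G1 : D A) = monomial e1 1 +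
    (monomial (single 5 1 + single 6 1) 1 - monomial (single 0 1 + single 7 1) 1
      - monomial (single 3 1 + single 8 1) 1) := by
  simp only [G1, e1, Lie3Mod.Q1, X, monomial_mul, mul_one]
  ring

lemma G2_eq : (G2 : D A) = monomial e2 1 +
    (monomial (single 5 1 + single 7 1) 1 - monomial (single 8 1 + single 4 1) 1
      - monomial (single 1 1 + single 3 1) 1) := by
  simp only [G2, e2, Lie3Mod.Q2, X, monomial_mul, mul_one]
  ring

lemma G3_eq : (G3 : D A) = monomial e3 1 +
    (monomial (single 3 1 + single 2 1) 1 - monomial (single 0 1 + single 5 1) 1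
      - monomial (single 1 1 + single 8 1) 1) := by
  simp only [G3, e3, Lie3Mod.Q3, X, monomial_mul, mul_one]
  ring

lemma G4_eq : (G4 : D A) = monomial e4 1 +
    (monomial (single 2 1 + single 7 2) 1 - monomial (single 6 1 + single 1 1 + single 5 1) 1
      - monomial (single 4 1 + single 8 2) 1 - monomial (single 7 1 + single 1 1 + single 8 1) 1
      + monomial (single 8 1 + single 7 1 + single 5 1) 1) := by
  simp only [G4, e4, Lie3Mod.detM, X, monomial_mul, monomial_pow, mul_one, one_pow, smul_single,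
    smul_eq_mul]
  ring

variable [Nontrivial A]

lemma G1_spec : ord.Monic (G1 : D A) ∧ ord.degree (G1 : D A) = e1 := by
  refine monic_degree_of_eq (G1_eq A) ?_
  refine deg_sub_lt (deg_sub_lt ?_ ?_) ?_ <;> refine deg_monomial_lt _ ?_ <;> unfold e1 ord <;> lie_cmp

lemma G2_spec : ord.Monic (G2 : D A) ∧ ord.degree (G2 : D A) = e2 := by
  refine monic_degree_of_eq (G2_eq A) ?_
  refine deg_sub_lt (deg_sub_lt ?_ ?_) ?_ <;> refine deg_monomial_lt _ ?_ <;> unfold e2 ord <;> lie_cmp

lemma G3_spec : ord.Monic (G3 : D A) ∧ ord.degree (G3 : D A) = e3 := by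
  refine monic_degree_of_eq (G3_eq A) ?_
  refine deg_sub_lt (deg_sub_lt ?_ ?_) ?_ <;> refine deg_monomial_lt _ ?_ <;> unfold e3 ord <;> lie_cmp

lemma G4_spec : ord.Monic (G4 : D A) ∧ ord.degree (G4 : D A) = e4 := by
  refine monic_degree_of_eq (G4_eq A) ?_
  refine deg_add_lt (deg_sub_lt (deg_sub_lt (deg_sub_lt ?_ ?_) ?_) ?_) ?_ <;>
    refine deg_monomial_lt _ ?_ <;> unfold e4 ord <;> lie_cmp

/-! ### Ideals -/

omit [Nontrivial A] in
lemma idI_eq : idI A = Ideal.span {(G3 : D A), G2, G1} := by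
  unfold idI G1 G2 G3
  apply le_antisymm
  · refine Ideal.span_le.mpr ?_
    rintro x (rfl | rfl | rfl)
    · exact (neg_mem_iff (x := Q1 A)).mp (Ideal.subset_span (by simp))
    · exact (neg_mem_iff (x := Q2 A)).mp (Ideal.subset_span (by simp))
    · exact Ideal.subset_span (by simp)
  · refine Ideal.span_le.mpr ?_
    rintro x (rfl | rfl | rfl)
    · exact Ideal.subset_span (by simp)
    · exact neg_mem (Ideal.subset_span (by simp))
    · exact neg_mem (Ideal.subset_span (by simp))

omit [Nontrivial A] in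
lemma set4_eq {α : Type*} (a b c d : α) : ({a, b, c, d} : Set α) = {a, b, c} ∪ {d} := by
  ext x
  simp only [Set.mem_insert_iff, Set.mem_singleton_iff, Set.union_singleton]
  tauto

omit [Nontrivial A] in
lemma idJ_eq : idJ A = idI A ⊔ Ideal.span {(G4 : D A)} := by
  have h1 : Ideal.span {(G4 : D A)} = Ideal.span {detM A} := by
    unfold G4
    exact Ideal.span_singleton_neg _
  rw [h1]
  unfold idJ idI
  rw [← Ideal.span_union, set4_eq]

omit [Nontrivial A] in
lemma G_mem_idI : ({(G3 : D A), G2, G1} : Set (D A)) ⊆ idI A := by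
  rw [idI_eq]; exact Ideal.subset_span

omit [Nontrivial A] in
lemma idI_le_idJ : idI A ≤ idJ A := by
  rw [idJ_eq]; exact le_sup_left

omit [Nontrivial A] in
lemma G4_mem_idJ : (G4 : D A) ∈ idJ A := by
  rw [idJ_eq]; exact Ideal.mem_sup_right (Ideal.subset_span rfl)

/-! ### Coprimality -/

lemma cop12 : Coprime e1 e2 := by
  intro i; fin_cases i <;> simp [e1, e2]

lemma cop13 : Coprime e1 e3 := by
  intro i; fin_cases i <;> simp [e1, e3]

lemma cop23 : Coprime e2 e3 := by
  intro i; fin_cases i <;> simp [e2, e3]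

/-! ### The Gröbner basis of `I` -/

lemma hasLM1 : HasLM ord {(G1 : D A)} (Ideal.span {(G1 : D A)}) := by
  have := hasLM_sup_of_coprime (m := ord) (G := (∅ : Set (D A))) (I₀ := ⊥) (by simp) (by simp)
    hasLM_bot (isUnit_of_monic (G1_spec A).1) (by simp)
  simpa using this

lemma hasLM2 : HasLM ord {(G2 : D A), G1} (Ideal.span {(G2 : D A), G1}) := by
  rw [Ideal.span_insert, sup_comm]
  refine hasLM_sup_of_coprime (m := ord) ?_ ?_ (hasLM1 A) (isUnit_of_monic (G2_spec A).1) ?_
  · rintro g rfl; exact (isUnit_of_monic (G1_spec A).1)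
  · rintro g rfl; exact Ideal.subset_span rfl
  · rintro g rfl; rw [(G1_spec A).2, (G2_spec A).2]; exact cop12

lemma hasLM3 : HasLM ord {(G3 : D A), G2, G1} (Ideal.span {(G3 : D A), G2, G1}) := by
  rw [Ideal.span_insert, sup_comm]
  refine hasLM_sup_of_coprime (m := ord) ?_ ?_ (hasLM2 A) (isUnit_of_monic (G3_spec A).1) ?_
  · rintro g (rfl | rfl); exacts [(isUnit_of_monic (G2_spec A).1), (isUnit_of_monic (G1_spec A).1)]
  · exact Ideal.subset_span
  · rintro g (rfl | rfl)
    · rw [(G2_spec A).2, (G3_spec A).2]; exact cop23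
    · rw [(G1_spec A).2, (G3_spec A).2]; exact cop13

lemma monic123 : ∀ g ∈ ({(G3 : D A), G2, G1} : Set (D A)), IsUnit (ord.leadingCoeff g) := by
  rintro g (rfl | rfl | rfl)
  exacts [(isUnit_of_monic (G3_spec A).1), (isUnit_of_monic (G2_spec A).1), (isUnit_of_monic (G1_spec A).1)]

lemma hasLM_idI : HasLM ord {(G3 : D A), G2, G1} (idI A) := by
  rw [idI_eq]; exact hasLM3 A

/-! ### Relations between `I`, `J`, `L` -/

omit [Nontrivial A] in
lemma idI_le_idL : idI A ≤ idL A := by
  unfold idI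
  refine Ideal.span_le.mpr ?_
  have h1 : L1 A ∈ idL A := Ideal.subset_span (by simp)
  have h2 : L2 A ∈ idL A := Ideal.subset_span (by simp)
  have h3 : L3 A ∈ idL A := Ideal.subset_span (by simp)
  rintro x (rfl | rfl | rfl)
  · have : Q1 A = vh * L1 A - vg * L2 A + vi * L3 A := by
      simp only [Q1, L1, L2, L3]; ring
    rw [this]
    exact (idL A).add_mem ((idL A).sub_mem ((idL A).mul_mem_left _ h1) ((idL A).mul_mem_left _ h2))
      ((idL A).mul_mem_left _ h3)
  · have : Q2 A = -ve * L1 A - vh * L2 A + vb * L3 A := by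
      simp only [Q2, L1, L2, L3]; ring
    rw [this]
    exact (idL A).add_mem ((idL A).sub_mem ((idL A).mul_mem_left _ h1) ((idL A).mul_mem_left _ h2))
      ((idL A).mul_mem_left _ h3)
  · have : Q3 A = -vf * L1 A - vi * L2 A + vc * L3 A := by
      simp only [Q3, L1, L2, L3]; ring
    rw [this]
    exact (idL A).add_mem ((idL A).sub_mem ((idL A).mul_mem_left _ h1) ((idL A).mul_mem_left _ h2))
      ((idL A).mul_mem_left _ h3)

omit [Nontrivial A] in
lemma idL_mul_detM_le : idL A * Ideal.span {detM A} ≤ idI A := by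
  unfold idL
  rw [Ideal.span_mul_span']
  refine Ideal.span_le.mpr ?_
  have h1 : Q1 A ∈ idI A := Ideal.subset_span (by simp)
  have h2 : Q2 A ∈ idI A := Ideal.subset_span (by simp)
  have h3 : Q3 A ∈ idI A := Ideal.subset_span (by simp)
  rintro _ ⟨s, hs, t, rfl, rfl⟩
  rcases hs with rfl | rfl | rfl
  · have : L1 A * detM A = (vb * vi - vh * vc) * Q1 A + (vg * vc - vi ^ 2) * Q2 A
        + (vi * vh - vg * vb) * Q3 A := by
      simp only [Q1, Q2, Q3, L1, detM]; ring
    show L1 A * detM A ∈ idI A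
    rw [this]
    exact (idI A).add_mem ((idI A).add_mem ((idI A).mul_mem_left _ h1) ((idI A).mul_mem_left _ h2))
      ((idI A).mul_mem_left _ h3)
  · have : L2 A * detM A = (ve * vc - vb * vf) * Q1 A + (vh * vc + vi * vf) * Q2 A
        + (-(vh * vb + vi * ve)) * Q3 A := by
      simp only [Q1, Q2, Q3, L2, detM]; ring
    show L2 A * detM A ∈ idI A
    rw [this]
    exact (idI A).add_mem ((idI A).add_mem ((idI A).mul_mem_left _ h1) ((idI A).mul_mem_left _ h2))
      ((idI A).mul_mem_left _ h3)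
  · have : L3 A * detM A = (ve * vi - vh * vf) * Q1 A + (vh * vi + vg * vf) * Q2 A
        + (-(vh ^ 2) - vg * ve) * Q3 A := by
      simp only [Q1, Q2, Q3, L3, detM]; ring
    show L3 A * detM A ∈ idI A
    rw [this]
    exact (idI A).add_mem ((idI A).add_mem ((idI A).mul_mem_left _ h1) ((idI A).mul_mem_left _ h2))
      ((idI A).mul_mem_left _ h3)

omit [Nontrivial A] in
lemma mul_detM_mem {l : D A} (hl : l ∈ idL A) (q : D A) : l * (q * detM A) ∈ idI A := by
  have : l * (q * detM A) = q * (l * detM A) := by ring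
  rw [this]
  exact (idI A).mul_mem_left _
    (idL_mul_detM_le A (Ideal.mul_mem_mul hl (Ideal.subset_span rfl)))

omit [Nontrivial A] in
/-- `J * L ⊆ I` -/
lemma mul_mem_idI {x l : D A} (hx : x ∈ idJ A) (hl : l ∈ idL A) : x * l ∈ idI A := by
  rw [idJ_eq] at hx
  obtain ⟨y, hy, z, hz, rfl⟩ := Submodule.mem_sup.mp hx
  obtain ⟨q, rfl⟩ := Ideal.mem_span_singleton'.mp hz
  rw [add_mul]
  refine (idI A).add_mem ((idI A).mul_mem_right _ hy) ?_
  have : q * G4 * l = -(l * (q * detM A)) := by unfold G4; ring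
  rw [this]
  exact neg_mem (mul_detM_mem A hl q)

/-! ### The retraction `ρ` onto polynomials in `c, d, e, f, g, i` -/

/-- images of the variables -/
noncomputable def ρv : Fin 9 → D A := ![X 8, -X 5, X 2, X 3, X 4, X 5, X 6, -X 3, X 8]

/-- the retraction `a ↦ i, b ↦ -f, h ↦ -d` -/
noncomputable def ρ : D A →ₐ[A] D A := aeval (ρv A)

omit [Nontrivial A] in
lemma ρ_X (k : Fin 9) : ρ A (X k) = ρv A k := aeval_X _ _

omit [Nontrivial A] in
lemma sub_ρ_mem (q : D A) : q - ρ A q ∈ idL A := by
  have h0 : (X 0 : D A) - X 8 ∈ idL A := Ideal.subset_span (by simp [L1])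
  have h1 : (X 1 : D A) + X 5 ∈ idL A := Ideal.subset_span (by simp [L2])
  have h7 : (X 7 : D A) + X 3 ∈ idL A := by
    rw [add_comm]; exact Ideal.subset_span (by simp [L3])
  have h : (Ideal.Quotient.mkₐ A (idL A)).comp (ρ A) = Ideal.Quotient.mkₐ A (idL A) := by
    apply MvPolynomial.algHom_ext
    intro k
    simp only [AlgHom.comp_apply, Ideal.Quotient.mkₐ_eq_mk, ρ_X]
    rw [eq_comm, Ideal.Quotient.eq]
    fin_cases k <;> simp [ρv, h0, h1, h7]
  have := congrArg (fun φ => φ q) h
  simp only [AlgHom.comp_apply, Ideal.Quotient.mkₐ_eq_mk] at this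
  rw [eq_comm, Ideal.Quotient.eq] at this
  exact this

omit [Nontrivial A] in
lemma ρ_eq_zero {l : D A} (hl : l ∈ idL A) : ρ A l = 0 := by
  have : idL A ≤ RingHom.ker (ρ A : D A →+* D A) := by
    unfold idL
    refine Ideal.span_le.mpr ?_
    rintro x (rfl | rfl | rfl) <;> simp [RingHom.mem_ker, L1, L2, L3, ρ_X, ρv]
  exact this hl

omit [Nontrivial A] in
lemma ρ_G4_eq : ρ A (G4 : D A) = monomial e4 1 +
    (monomial (single 2 1 + single 3 2) 1 + monomial (single 6 1 + single 5 2) 1
      - monomial (single 4 1 + single 8 2) 1 - monomial (single 3 1 + single 5 1 + single 8 1) 1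
      - monomial (single 3 1 + single 5 1 + single 8 1) 1) := by
  have h1 : ρ A (G4 : D A) = X 6 * X 4 * X 2 + (X 2 * X 3 ^ 2 + X 6 * X 5 ^ 2 - X 4 * X 8 ^ 2
      - X 3 * X 5 * X 8 - X 3 * X 5 * X 8) := by
    simp only [G4, detM, map_neg, map_add, map_sub, map_mul, map_pow, ρ_X, ρv]
    simp only [Matrix.cons_val]
    ring
  rw [h1]
  simp only [e4, X, monomial_mul, monomial_pow, mul_one, one_pow, smul_single, smul_eq_mul]

lemma ρ_G4_spec : ord.Monic (ρ A (G4 : D A)) ∧ ord.degree (ρ A (G4 : D A)) = e4 := by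
  refine monic_degree_of_eq (ρ_G4_eq A) ?_
  refine deg_sub_lt (deg_sub_lt (deg_sub_lt (deg_add_lt ?_ ?_) ?_) ?_) ?_ <;>
    refine deg_monomial_lt _ ?_ <;> unfold e4 ord <;> lie_cmp

lemma ρ_mem_supported (q : D A) :
    ρ A q ∈ supported A ({2, 3, 4, 5, 6, 8} : Set (Fin 9)) := by
  have h : (ρ A).range ≤ supported A ({2, 3, 4, 5, 6, 8} : Set (Fin 9)) := by
    unfold ρ
    rw [← Algebra.adjoin_range_eq_range_aeval]
    refine Algebra.adjoin_le ?_
    rintro _ ⟨k, rfl⟩
    fin_cases k <;> simp [ρv, X_mem_supported]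
  exact h (AlgHom.mem_range_self _ q)

lemma ρ_support (q : D A) {c : Fin 9 →₀ ℕ} (hc : c ∈ (ρ A q).support) :
    c 0 = 0 ∧ c 1 = 0 ∧ c 7 = 0 := by
  have h := mem_supported.mp (ρ_mem_supported A q)
  have key : ∀ k : Fin 9, k ∉ ({2, 3, 4, 5, 6, 8} : Set (Fin 9)) → c k = 0 := by
    intro k hk
    by_contra hne
    apply hk
    apply h
    rw [Finset.mem_coe, mem_vars_iff_mem_support]
    exact ⟨c, hc, Finsupp.mem_support_iff.mpr hne⟩
  refine ⟨key 0 (by simp), key 1 (by simp), key 7 (by simp)⟩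

/-! ### The Gröbner basis of `J` -/

lemma hasLM4 : HasLM ord {(G4 : D A), G3, G2, G1} (idJ A) := by
  rw [idJ_eq]
  refine hasLM_sup_of_decomp (hasLM_idI A) (isUnit_of_monic (G4_spec A).1) ?_
  intro x hx
  obtain ⟨y, hy, z, hz, rfl⟩ := Submodule.mem_sup.mp hx
  obtain ⟨q, rfl⟩ := Ideal.mem_span_singleton'.mp hz
  refine ⟨y + (q - ρ A q) * G4, ?_, ρ A q, by ring, ?_⟩
  · refine (idI A).add_mem hy ?_
    have : (q - ρ A q) * G4 = -((q - ρ A q) * (1 * detM A)) := by unfold G4; ring
    rw [this]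
    exact neg_mem (mul_detM_mem A (sub_ρ_mem A q) 1)
  · intro hr0 g hg hle
    obtain ⟨h0, h1, h7⟩ := ρ_support A q (ord.degree_mem_support hr0)
    rw [(G4_spec A).2] at hle
    rcases hg with rfl | rfl | rfl
    · rw [(G3_spec A).2] at hle
      have := hle 7
      simp [e3, e4, h7] at this
    · rw [(G2_spec A).2] at hle
      have := hle 0
      simp [e2, e4, h0] at this
    · rw [(G1_spec A).2] at hle
      have := hle 1
      simp [e1, e4, h1] at this

lemma monic1234 : ∀ g ∈ ({(G4 : D A), G3, G2, G1} : Set (D A)), IsUnit (ord.leadingCoeff g) := by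
  rintro g (rfl | rfl | rfl | rfl)
  exacts [(isUnit_of_monic (G4_spec A).1), (isUnit_of_monic (G3_spec A).1), (isUnit_of_monic (G2_spec A).1), (isUnit_of_monic (G1_spec A).1)]

omit [Nontrivial A] in
lemma G_mem_idJ : ({(G4 : D A), G3, G2, G1} : Set (D A)) ⊆ idJ A := by
  rintro g (rfl | h)
  · exact G4_mem_idJ A
  · exact idI_le_idJ A (G_mem_idI A h)


/-! ### Leading monomials of the linear forms -/

lemma L1_spec : ord.Monic (L1 A) ∧ ord.degree (L1 A) = single 0 1 := by
  have h : L1 A = monomial (single 0 1) 1 + (-(monomial (single 8 1) 1)) := by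
    simp only [L1, X]; ring
  refine monic_degree_of_eq h ?_
  rw [ord.degree_neg]
  refine deg_monomial_lt _ ?_
  unfold ord; lie_cmp

lemma L2_spec : ord.Monic (L2 A) ∧ ord.degree (L2 A) = single 1 1 := by
  have h : L2 A = monomial (single 1 1) 1 + monomial (single 5 1) 1 := by
    simp only [L2, X]
  refine monic_degree_of_eq h ?_
  refine deg_monomial_lt _ ?_
  unfold ord; lie_cmp

lemma L3_spec : ord.Monic (L3 A) ∧ ord.degree (L3 A) = single 7 1 := by
  have h : L3 A = monomial (single 7 1) 1 + monomial (single 3 1) 1 := by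
    simp only [L3, X]; ring
  refine monic_degree_of_eq h ?_
  refine deg_monomial_lt _ ?_
  unfold ord; lie_cmp

/-! ### Main results (nontrivial coefficient ring) -/

lemma eq_zero_of_mul_ρ_G4 {x : D A} (hx : x * ρ A (G4 : D A) = 0) : x = 0 :=
  eq_zero_of_mul_monic (isUnit_of_monic (ρ_G4_spec A).1) hx

/-- if `x * detM ∈ L` then `x ∈ L` -/
lemma mem_idL_of_mul_detM_mem {x : D A} (hx : x * detM A ∈ idL A) : x ∈ idL A := by
  have h1 : ρ A x * ρ A (G4 : D A) = 0 := by
    have := ρ_eq_zero A hx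
    rw [map_mul] at this
    unfold G4
    rw [map_neg, mul_neg, this, neg_zero]
  have h2 := eq_zero_of_mul_ρ_G4 A h1
  have h3 := sub_ρ_mem A x
  rwa [h2, sub_zero] at h3

theorem inter_aux : idI A = idJ A ⊓ idL A := by
  apply le_antisymm
  · exact le_inf (idI_le_idJ A) (idI_le_idL A)
  · rintro x ⟨hxJ, hxL⟩
    have hxJ' : x ∈ idJ A := hxJ
    rw [idJ_eq] at hxJ'
    obtain ⟨y, hy, z, hz, rfl⟩ := Submodule.mem_sup.mp hxJ'
    obtain ⟨q, rfl⟩ := Ideal.mem_span_singleton'.mp hz
    refine (idI A).add_mem hy ?_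
    have hqL : q * detM A ∈ idL A := by
      have h1 : q * G4 ∈ idL A := by
        have := (idL A).sub_mem hxL (idI_le_idL A hy)
        simpa using this
      have : q * detM A = -(q * G4) := by unfold G4; ring
      rw [this]; exact neg_mem h1
    have hq := mem_idL_of_mul_detM_mem A hqL
    have : q * G4 = -(q * (1 * detM A)) := by unfold G4; ring
    rw [this]
    exact neg_mem (mul_detM_mem A hq 1)

theorem colonJ_aux : (idI A).colon (idJ A : Set (D A)) = idL A := by
  apply le_antisymm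
  · intro x hx
    rw [Submodule.mem_colon] at hx
    have h1 := hx (G4 : D A) (G4_mem_idJ A)
    have h2 : x * detM A ∈ idL A := by
      have : x * detM A = -(x • (G4 : D A)) := by unfold G4; rw [smul_eq_mul]; ring
      rw [this]
      exact neg_mem (idI_le_idL A h1)
    exact mem_idL_of_mul_detM_mem A h2
  · intro l hl
    rw [Submodule.mem_colon]
    intro s hs
    rw [smul_eq_mul, mul_comm]
    exact mul_mem_idI A hs hl

theorem colonL_aux : (idI A).colon (idL A : Set (D A)) = idJ A := by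
  apply le_antisymm
  · intro x hx
    rw [Submodule.mem_colon] at hx
    obtain ⟨r, hxr, hr⟩ := exists_reduced (monic1234 A) x
    have hspan : Ideal.span {(G4 : D A), G3, G2, G1} ≤ idJ A := Ideal.span_le.mpr (G_mem_idJ A)
    have hxr' := hspan hxr
    suffices r = 0 by rwa [this, sub_zero] at hxr'
    by_contra hr0
    -- `r * l ∈ I` for `l ∈ L`
    have hrl : ∀ l ∈ idL A, r * l ∈ idI A := by
      intro l hl
      have : r * l = x • l - (x - r) * l := by rw [smul_eq_mul]; ring
      rw [this]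
      exact (idI A).sub_mem (hx l hl) (mul_mem_idI A hxr' hl)
    have hred := hr.degree hr0
    -- generic step
    have step : ∀ (l : D A) (k : Fin 9), l ∈ idL A → IsUnit (ord.leadingCoeff l) → ord.degree l = single k 1 →
        ∃ g ∈ ({(G3 : D A), G2, G1} : Set (D A)), ord.degree g ≤ ord.degree r + single k 1 := by
      intro l k hl hmon hdeg
      have hreg : IsRegular (ord.leadingCoeff l) := hmon.isRegular
      have hd : ord.degree (r * l) = ord.degree r + ord.degree l :=
        ord.degree_mul_of_isRegular_right hr0 hreg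
      have hne : r * l ≠ 0 := by
        intro h0
        exact hr0 (eq_zero_of_mul_monic hmon h0)
      obtain ⟨g, hg, hle⟩ := hasLM_idI A _ (hrl l hl) hne
      rw [hd, hdeg] at hle
      exact ⟨g, hg, hle⟩
    have hr1 : ¬ e1 ≤ ord.degree r := by
      rw [← (G1_spec A).2]; exact hred _ (by simp)
    have hr2 : ¬ e2 ≤ ord.degree r := by
      rw [← (G2_spec A).2]; exact hred _ (by simp)
    have hr3 : ¬ e3 ≤ ord.degree r := by
      rw [← (G3_spec A).2]; exact hred _ (by simp)
    have hr4 : ¬ e4 ≤ ord.degree r := by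
      rw [← (G4_spec A).2]; exact hred _ (by simp)
    have h6 : 1 ≤ ord.degree r 6 := by
      obtain ⟨g, hg, hle⟩ := step (L2 A) 1 (Ideal.subset_span (by simp)) (isUnit_of_monic (L2_spec A).1) (L2_spec A).2
      rcases hg with rfl | rfl | rfl
      · rw [(G3_spec A).2] at hle
        exact absurd (le_of_le_add_of_coprime (by intro i; fin_cases i <;> simp [e3]) hle) hr3
      · rw [(G2_spec A).2] at hle
        exact absurd (le_of_le_add_of_coprime (by intro i; fin_cases i <;> simp [e2]) hle) hr2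
      · rw [(G1_spec A).2] at hle
        have := hle 6
        simpa [e1] using this
    have h4 : 1 ≤ ord.degree r 4 := by
      obtain ⟨g, hg, hle⟩ := step (L1 A) 0 (Ideal.subset_span (by simp)) (isUnit_of_monic (L1_spec A).1) (L1_spec A).2
      rcases hg with rfl | rfl | rfl
      · rw [(G3_spec A).2] at hle
        exact absurd (le_of_le_add_of_coprime (by intro i; fin_cases i <;> simp [e3]) hle) hr3
      · rw [(G2_spec A).2] at hle
        have := hle 4
        simpa [e2] using this
      · rw [(G1_spec A).2] at hle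
        exact absurd (le_of_le_add_of_coprime (by intro i; fin_cases i <;> simp [e1]) hle) hr1
    have h2 : 1 ≤ ord.degree r 2 := by
      obtain ⟨g, hg, hle⟩ := step (L3 A) 7 (Ideal.subset_span (by simp)) (isUnit_of_monic (L3_spec A).1) (L3_spec A).2
      rcases hg with rfl | rfl | rfl
      · rw [(G3_spec A).2] at hle
        have := hle 2
        simpa [e3] using this
      · rw [(G2_spec A).2] at hle
        exact absurd (le_of_le_add_of_coprime (by intro i; fin_cases i <;> simp [e2]) hle) hr2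
      · rw [(G1_spec A).2] at hle
        exact absurd (le_of_le_add_of_coprime (by intro i; fin_cases i <;> simp [e1]) hle) hr1
    apply hr4
    intro i
    fin_cases i <;> simp [e4, h6, h4, h2]
  · intro x hx
    rw [Submodule.mem_colon]
    intro l hl
    rw [smul_eq_mul]
    exact mul_mem_idI A hx hl

/-! ### Flatness and reducedness over `ℤ` -/

theorem flatJ : Module.Flat ℤ (D ℤ ⧸ idJ ℤ) := by
  have : Module.IsTorsionFree ℤ (D ℤ ⧸ idJ ℤ) :=
    isTorsionFree_quotient (m := ord) (monic1234 ℤ) (G_mem_idJ ℤ) (hasLM4 ℤ)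
  infer_instance

theorem flatI : Module.Flat ℤ (D ℤ ⧸ idI ℤ) := by
  have : Module.IsTorsionFree ℤ (D ℤ ⧸ idI ℤ) :=
    isTorsionFree_quotient (m := ord) (monic123 ℤ) (G_mem_idI ℤ) (hasLM_idI ℤ)
  infer_instance

theorem radicalI : (idI ℤ).IsRadical := by
  refine isRadical_of_squarefree (m := ord) (monic123 ℤ) (G_mem_idI ℤ) (hasLM_idI ℤ) ?_
  rintro g (rfl | rfl | rfl) i
  · rw [(G3_spec ℤ).2]; fin_cases i <;> simp [e3]
  · rw [(G2_spec ℤ).2]; fin_cases i <;> simp [e2]
  · rw [(G1_spec ℤ).2]; fin_cases i <;> simp [e1]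

/-! ### `L` is a minimal prime of `I` -/

omit [Nontrivial A] in
lemma idL_eq_ker : idL A = RingHom.ker (ρ A : D A →+* D A) := by
  apply le_antisymm
  · intro l hl
    exact ρ_eq_zero A hl
  · intro x hx
    have h := sub_ρ_mem A x
    have hx' : ρ A x = 0 := hx
    rwa [hx', sub_zero] at h

omit [Nontrivial A] in
theorem idL_minimal [IsDomain A] : idL A ∈ (idI A).minimalPrimes := by
  have hprime : (idL A).IsPrime := by
    rw [idL_eq_ker]
    exact RingHom.ker_isPrime _
  refine ⟨⟨hprime, idI_le_idL A⟩, ?_⟩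
  rintro q ⟨hq, hIq⟩ hqL l hl
  have h1 : (G4 : D A) * l ∈ q := hIq (mul_mem_idI A (G4_mem_idJ A) hl)
  rcases hq.mem_or_mem h1 with h | h
  · exfalso
    have h2 : ρ A (G4 : D A) = 0 := ρ_eq_zero A (hqL h)
    have h3 := (ρ_G4_spec A).1
    rw [h2] at h3
    have : ord.leadingCoeff (0 : D A) = 1 := h3
    rw [ord.leadingCoeff_zero] at this
    exact zero_ne_one this
  · exact h

/-! ### Regular sequences -/

theorem regular_L : RingTheory.Sequence.IsRegular (D A) [L1 A, L2 A, L3 A] := by
  refine isRegular_three (m := ord) (isUnit_of_monic (L1_spec A).1) (isUnit_of_monic (L2_spec A).1) (isUnit_of_monic (L3_spec A).1) ?_ ?_ ?_ ?_ ?_ ?_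
  · rw [(L1_spec A).2, (L2_spec A).2]; intro i; fin_cases i <;> simp
  · rw [(L1_spec A).2, (L3_spec A).2]; intro i; fin_cases i <;> simp
  · rw [(L2_spec A).2, (L3_spec A).2]; intro i; fin_cases i <;> simp
  · rw [(L1_spec A).2]; simp
  · rw [(L2_spec A).2]; simp
  · rw [(L3_spec A).2]; simp


lemma Q1_spec : IsUnit (ord.leadingCoeff (Q1 A)) ∧ ord.degree (Q1 A) = e1 := by
  have h : Q1 A = -(G1 : D A) := by unfold G1; rw [neg_neg]
  rw [h]
  exact ⟨isUnit_neg_of_monic (G1_spec A).1, by rw [ord.degree_neg, (G1_spec A).2]⟩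

lemma Q2_spec : IsUnit (ord.leadingCoeff (Q2 A)) ∧ ord.degree (Q2 A) = e2 := by
  have h : Q2 A = -(G2 : D A) := by unfold G2; rw [neg_neg]
  rw [h]
  exact ⟨isUnit_neg_of_monic (G2_spec A).1, by rw [ord.degree_neg, (G2_spec A).2]⟩

lemma Q3_spec : IsUnit (ord.leadingCoeff (Q3 A)) ∧ ord.degree (Q3 A) = e3 :=
  ⟨isUnit_of_monic (G3_spec A).1, (G3_spec A).2⟩

theorem regular_Q : RingTheory.Sequence.IsRegular (D A) [Q1 A, Q2 A, Q3 A] := by
  refine isRegular_three (m := ord) (Q1_spec A).1 (Q2_spec A).1 (Q3_spec A).1 ?_ ?_ ?_ ?_ ?_ ?_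
  · rw [(Q1_spec A).2, (Q2_spec A).2]; exact cop12
  · rw [(Q1_spec A).2, (Q3_spec A).2]; exact cop13
  · rw [(Q2_spec A).2, (Q3_spec A).2]; exact cop23
  · rw [(Q1_spec A).2]; intro h; have := congrArg (fun c => c 1) h; simp [e1] at this
  · rw [(Q2_spec A).2]; intro h; have := congrArg (fun c => c 0) h; simp [e2] at this
  · rw [(Q3_spec A).2]; intro h; have := congrArg (fun c => c 7) h; simp [e3] at this

end Groth.Agent.Lib.Helper24Lie3

namespace Groth.Agent.Lib.Helper24Lie3

open MvPolynomial Lie3Mod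

/-! ### Statements over arbitrary coefficient rings -/

lemma ideal_eq_of_subsingleton (A : Type*) [CommRing A] [Subsingleton A] (I J : Ideal (D A)) :
    I = J := by
  have : Subsingleton (D A) := Module.subsingleton A (D A)
  ext x
  have : x = 0 := Subsingleton.elim _ _
  simp [this]

theorem inter_main (A : Type*) [CommRing A] : idI A = idJ A ⊓ idL A := by
  rcases subsingleton_or_nontrivial A with h | h
  · exact ideal_eq_of_subsingleton A _ _
  · exact inter_aux A

theorem colonJ_main (A : Type*) [CommRing A] :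
    (idI A).colon (idJ A : Set (D A)) = idL A := by
  rcases subsingleton_or_nontrivial A with h | h
  · exact ideal_eq_of_subsingleton A _ _
  · exact colonJ_aux A

theorem colonL_main (A : Type*) [CommRing A] :
    (idI A).colon (idL A : Set (D A)) = idJ A := by
  rcases subsingleton_or_nontrivial A with h | h
  · exact ideal_eq_of_subsingleton A _ _
  · exact colonL_aux A

end Groth.Agent.Lib.Helper24Lie3
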