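import Mathlib
import Groth.Prelude.Def_W4c1bouilletffgsL3
import Groth.Agent.Lib.Helper24GB
import Groth.Agent.Lib.Helper24Lie3
import Groth.Agent.Lib.Helper24Elim

/-!
# Helper24Lie3Prime: the ideal `J` of the moduli space of based three-dimensional Lie algebras is
prime (over any domain)

`J` is shown to be the kernel of the substitution homomorphism
`ψ : g ↦ (ah+di)/(b+f), e ↦ (bd-fh)/(a-i), c ↦ (af+bi)/(d+h)` into the fraction field of the
polynomial ring; injectivity of `ψ` on reduced polynomials is proved by successive "top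
coefficient" eliminations.
-/

set_option linter.unusedSimpArgs false
set_option linter.unusedSectionVars false

namespace Groth.Agent.Lib.Helper24Lie3Prime

open MvPolynomial Finsupp Lie3Mod Groth.Agent.Lib.Helper24GB Groth.Agent.Lib.Helper24Lie3
  Groth.Agent.Lib.Helper24Elim

variable (A : Type*) [CommRing A] [IsDomain A]

/-- the fraction field of the polynomial ring -/
abbrev K : Type _ := FractionRing (D A)

/-- the inclusion -/
noncomputable def ι : D A →ₐ[A] K A := IsScalarTower.toAlgHom A (D A) (K A)

omit [IsDomain A] in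
lemma ι_injective : Function.Injective (ι A) := IsFractionRing.injective (D A) (K A)

omit [IsDomain A] in
lemma ι_ne_zero {x : D A} (hx : x ≠ 0) : ι A x ≠ 0 :=
  fun h => hx (ι_injective A (by rw [h, map_zero]))

/-- `p1 = a h + d i` -/
noncomputable def p1 : D A := X 0 * X 7 + X 3 * X 8
/-- `p2 = b d - f h` -/
noncomputable def p2 : D A := X 1 * X 3 - X 5 * X 7
/-- `p3 = a f + b i` -/
noncomputable def p3 : D A := X 0 * X 5 + X 1 * X 8

/-- the substitution homomorphism attached to a table of numerators and denominators -/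
noncomputable def Θ (num den : Fin 9 → D A) : D A →ₐ[A] K A :=
  aeval (fun k => ι A (num k) / ι A (den k))

lemma Θ_X (num den : Fin 9 → D A) (k : Fin 9) :
    Θ A num den (X k) = ι A (num k) / ι A (den k) := aeval_X _ _

/-- numerators for `ψ` -/
noncomputable def numψ : Fin 9 → D A := ![X 0, X 1, p3 A, X 3, p2 A, X 5, p1 A, X 7, X 8]
/-- denominators for `ψ` -/
noncomputable def denψ : Fin 9 → D A := ![1, 1, L3 A, 1, L1 A, 1, L2 A, 1, 1]
/-- `ψ : g ↦ p1/L2, e ↦ p2/L1, c ↦ p3/L3` -/
noncomputable def ψ : D A →ₐ[A] K A := Θ A (numψ A) (denψ A)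

/-- numerators for `ψb` (the specialization `L2 = 0`) -/
noncomputable def numb : Fin 9 → D A :=
  ![X 0, -X 5, X 5 * L1 A, X 3, -(X 5 * L3 A), X 5, X 6, X 7, X 8]
/-- denominators for `ψb` -/
noncomputable def denb : Fin 9 → D A := ![1, 1, L3 A, 1, L1 A, 1, 1, 1, 1]
/-- `ψb : b ↦ -f, e ↦ -f L3/L1, c ↦ f L1/L3` -/
noncomputable def ψb : D A →ₐ[A] K A := Θ A (numb A) (denb A)

/-- numerators for `ψt` (the specialization `L1 = 0`) -/
noncomputable def numt : Fin 9 → D A :=
  ![X 8, X 1, X 8 * L2 A, X 3, X 4, X 5, X 6, X 7, X 8]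
/-- denominators for `ψt` -/
noncomputable def dent : Fin 9 → D A := ![1, 1, L3 A, 1, 1, 1, 1, 1, 1]
/-- `ψt : a ↦ i, c ↦ i L2/L3` -/
noncomputable def ψt : D A →ₐ[A] K A := Θ A (numt A) (dent A)

/-- `a ↦ i` -/
noncomputable def ρ1 : D A →ₐ[A] D A := aeval ![X 8, X 1, X 2, X 3, X 4, X 5, X 6, X 7, X 8]
/-- `b ↦ -f` -/
noncomputable def ρ2 : D A →ₐ[A] D A := aeval ![X 0, -X 5, X 2, X 3, X 4, X 5, X 6, X 7, X 8]
/-- `h ↦ -d` -/
noncomputable def ρ3 : D A →ₐ[A] D A := aeval ![X 0, X 1, X 2, X 3, X 4, X 5, X 6, -X 3, X 8]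
/-- `a ↦ i, c ↦ 0` -/
noncomputable def ρ1c : D A →ₐ[A] D A := aeval ![X 8, X 1, 0, X 3, X 4, X 5, X 6, X 7, X 8]

omit [IsDomain A] in
lemma ρ1_X (k : Fin 9) : ρ1 A (X k) = ![X 8, X 1, X 2, X 3, X 4, X 5, X 6, X 7, X 8] k :=
  aeval_X _ _
omit [IsDomain A] in
lemma ρ2_X (k : Fin 9) : ρ2 A (X k) = ![X 0, -X 5, X 2, X 3, X 4, X 5, X 6, X 7, X 8] k :=
  aeval_X _ _
omit [IsDomain A] in
lemma ρ3_X (k : Fin 9) : ρ3 A (X k) = ![X 0, X 1, X 2, X 3, X 4, X 5, X 6, -X 3, X 8] k :=
  aeval_X _ _
omit [IsDomain A] in
lemma ρ1c_X (k : Fin 9) : ρ1c A (X k) = ![X 8, X 1, 0, X 3, X 4, X 5, X 6, X 7, X 8] k :=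
  aeval_X _ _

/-! ### Nonvanishing -/

/-- evaluation point used to show that explicit polynomials are nonzero -/
def pt (s : Finset (Fin 9)) : Fin 9 → A := fun k => if k ∈ s then 1 else 0

omit [IsDomain A] in
lemma ne_zero_of_eval [Nontrivial A] {x : D A} (s : Finset (Fin 9))
    (h : MvPolynomial.eval (pt A s) x ≠ 0) : x ≠ 0 := by
  intro h0; rw [h0, map_zero] at h; exact h rfl

lemma L1_ne : L1 A ≠ 0 := ne_zero_of_eval A {0} (by simp [L1, pt])
lemma L2_ne : L2 A ≠ 0 := ne_zero_of_eval A {1} (by simp [L2, pt])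
lemma L3_ne : L3 A ≠ 0 := ne_zero_of_eval A {3} (by simp [L3, pt])

/-! ### `ψ` kills `J` -/

lemma ιL1 : ι A (X 0) - ι A (X 8) ≠ 0 := by
  have := ι_ne_zero A (L1_ne A)
  simpa [L1] using this

lemma ιL2 : ι A (X 1) + ι A (X 5) ≠ 0 := by
  have := ι_ne_zero A (L2_ne A)
  simpa [L2] using this

lemma ιL3 : ι A (X 3) + ι A (X 7) ≠ 0 := by
  have := ι_ne_zero A (L3_ne A)
  simpa [L3] using this

lemma ψ_Q1 : ψ A (Q1 A) = 0 := by
  have h1 := ιL1 A
  have h2 := ιL2 A
  have h3 := ιL3 A
  simp only [ψ, Q1, map_add, map_sub, map_mul, Θ_X, numψ, denψ]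
  simp only [Matrix.cons_val]
  simp only [p1, p2, p3, L1, L2, L3, map_add, map_sub, map_mul, map_one, div_one]
  field_simp
  ring

lemma ψ_Q2 : ψ A (Q2 A) = 0 := by
  have h1 := ιL1 A
  have h2 := ιL2 A
  have h3 := ιL3 A
  simp only [ψ, Q2, map_add, map_sub, map_mul, Θ_X, numψ, denψ]
  simp only [Matrix.cons_val]
  simp only [p1, p2, p3, L1, L2, L3, map_add, map_sub, map_mul, map_one, div_one]
  field_simp
  ring

lemma ψ_Q3 : ψ A (Q3 A) = 0 := by
  have h1 := ιL1 A
  have h2 := ιL2 A
  have h3 := ιL3 A
  simp only [ψ, Q3, map_add, map_sub, map_mul, Θ_X, numψ, denψ]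
  simp only [Matrix.cons_val]
  simp only [p1, p2, p3, L1, L2, L3, map_add, map_sub, map_mul, map_one, div_one]
  field_simp
  ring

lemma ψ_detM : ψ A (detM A) = 0 := by
  have h1 := ιL1 A
  have h2 := ιL2 A
  have h3 := ιL3 A
  simp only [ψ, detM, map_add, map_sub, map_mul, map_neg, map_pow, Θ_X, numψ, denψ]
  simp only [Matrix.cons_val]
  simp only [p1, p2, p3, L1, L2, L3, map_add, map_sub, map_mul, map_one, div_one]
  field_simp
  ring

lemma idJ_le_ker : idJ A ≤ RingHom.ker (ψ A : D A →+* K A) := by
  unfold idJ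
  refine Ideal.span_le.mpr ?_
  rintro x (rfl | rfl | rfl | rfl)
  · exact ψ_Q1 A
  · exact ψ_Q2 A
  · exact ψ_Q3 A
  · exact ψ_detM A

/-! ### Auxiliary facts about supports -/

/-- polynomials avoiding the listed variables lie in the corresponding `supported` subalgebra -/
lemma mem_supported_of_avoids' {r : D A} {s : Set (Fin 9)}
    (h : ∀ k, k ∉ s → Avoids r (single k 1)) : r ∈ supported A s :=
  mem_supported_of_avoids h

/-- `θ` agrees with `ι` on polynomials in variables that are substituted trivially -/
lemma Θ_eq_ι (num den : Fin 9 → D A) {s : Set (Fin 9)}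
    (h : ∀ k ∈ s, num k = X k ∧ den k = 1) {y : D A} (hy : y ∈ supported A s) :
    Θ A num den y = ι A y := by
  refine algHom_eq_on_supported _ _ ?_ hy
  intro k hk
  rw [Θ_X, (h k hk).1, (h k hk).2, map_one, div_one]

/-! ### The case `L1 = 0`: `ψt` -/

lemma claim3 {r : D A} (hg : Avoids r (single 6 1)) (he : Avoids r (single 4 1))
    (ha : Avoids r (single 0 1)) (hch : Avoids r e3) (h0 : ψt A r = 0) : r = 0 := by
  have hs : ({1, 3, 5, 7, 8} : Set (Fin 9)) ⊆ {k | numt A k = X k ∧ dent A k = 1} := by
    intro k hk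
    simp only [Set.mem_insert_iff, Set.mem_singleton_iff] at hk
    rcases hk with rfl | rfl | rfl | rfl | rfl <;> simp [numt, dent]
  have step := elim_step (ψt A) (ι A) (ρ3 A) 2 (L3 A) (X 8 * L2 A) ?_ ?_ {1, 3, 5, 7, 8}
    ?_ ?_ ?_ ?_ r h0 ?_ ?_
  · rcases step with h | h
    · exact h
    · have hc : Avoids r (single 2 1) := avoids_of_free h
      have hr : r ∈ supported A ({1, 3, 5, 7, 8} : Set (Fin 9)) := by
        refine mem_supported_of_avoids ?_
        intro k hk
        fin_cases k <;> simp at hk <;> assumption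
      have := Θ_eq_ι A (numt A) (dent A) (fun k hk => hs hk) hr
      rw [ψt] at h0
      rw [h0] at this
      exact ι_injective A (by rw [← this, map_zero])
  · -- ha
    simp only [ψt, Θ_X, numt, dent, L3, L2, map_add, map_mul]
    simp only [Matrix.cons_val]
    simp only [L3, L2, map_add, map_mul, map_one, div_one]
    have h3 := ιL3 A
    field_simp
  · -- hρu
    simp [L3, ρ3_X]
  · -- hus
    simp only [L3]
    exact Subalgebra.add_mem _ (X_mem_supported.mpr (by simp)) (X_mem_supported.mpr (by simp))
  · -- hvs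
    simp only [L2]
    exact Subalgebra.mul_mem _ (X_mem_supported.mpr (by simp))
      (Subalgebra.add_mem _ (X_mem_supported.mpr (by simp)) (X_mem_supported.mpr (by simp)))
  · -- hF
    intro y hy hy0
    have := Θ_eq_ι A (numt A) (dent A) (fun k hk => hs hk) hy
    rw [ψt] at hy0
    rw [hy0] at this
    have hy' : y = 0 := ι_injective A (by rw [← this, map_zero])
    rw [hy', map_zero, map_zero]
  · -- hv
    apply ι_ne_zero
    refine ne_zero_of_eval A {8, 1} ?_
    simp [ρ3_X, L2, pt]
  · -- hcoef
    intro α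
    refine mem_supported_of_avoids ?_
    intro k hk
    fin_cases k <;> simp at hk
    · exact avoids_coeff_τ_of_ne (by decide) ha
    · exact avoids_coeff_τ_self 2 r α
    · exact avoids_coeff_τ_of_ne (by decide) he
    · exact avoids_coeff_τ_of_ne (by decide) hg
  · -- hnext
    intro hn hz
    set lc := (τ 2 r).leadingCoeff with hlc
    have hh : Avoids lc (single 7 1) := by
      have := avoids_coeff_τ (k := 2) (α := (τ 2 r).natDegree) hch
        (by simp [e3]; omega)
      simpa [e3, Finsupp.erase_add, Finsupp.erase_single_ne] using this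
    have hfix : ρ3 A lc = lc := by
      have hmem : lc ∈ supported A ({0, 1, 2, 3, 4, 5, 6, 8} : Set (Fin 9)) := by
        refine mem_supported_of_avoids ?_
        intro k hk
        fin_cases k <;> simp at hk
        exact hh
      have := algHom_eq_on_supported (ρ3 A) (AlgHom.id A (D A))
        (s := ({0, 1, 2, 3, 4, 5, 6, 8} : Set (Fin 9))) ?_ hmem
      · simpa using this
      · intro k hk
        simp only [Set.mem_insert_iff, Set.mem_singleton_iff] at hk
        rcases hk with rfl | rfl | rfl | rfl | rfl | rfl | rfl | rfl <;> simp [ρ3_X]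
    rw [hfix] at hz
    exact ι_injective A (by rw [hz, map_zero])

/-! ### The case `L2 = 0`: `ψb` -/

/-- the monomial `e c` -/
noncomputable def eec : Fin 9 →₀ ℕ := single 4 1 + single 2 1

lemma hF_b : ∀ y ∈ supported A ({0, 2, 3, 5, 7, 8} : Set (Fin 9)), ψb A y = 0 →
    ι A (ρ1c A y) = 0 := by
  intro y hy hy0
  have h3 := ιL3 A
  refine eq_zero_of_eq_zero (ι A) (ψb A) (ι_injective A) ((ι A).comp (ρ1c A)) (numb A) (denb A)
    {0, 2, 3, 5, 7, 8} ?_ ?_ ?_ ?_ ?_ hy hy0
  · intro k hk
    simp only [Set.mem_insert_iff, Set.mem_singleton_iff] at hk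
    rcases hk with rfl | rfl | rfl | rfl | rfl | rfl <;>
      simp only [ψb, Θ_X, numb, denb, Matrix.cons_val, L1, L3, map_add, map_sub, map_mul,
        map_one, div_one, one_mul]
    field_simp
  · intro k hk
    simp only [Set.mem_insert_iff, Set.mem_singleton_iff] at hk
    rcases hk with rfl | rfl | rfl | rfl | rfl | rfl <;>
      simp only [ψb, Θ_X, numb, denb, Matrix.cons_val, L1, L3, map_add, map_sub, map_mul,
        map_one, div_one, one_mul]
  · intro k hk
    simp only [Set.mem_insert_iff, Set.mem_singleton_iff] at hk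
    rcases hk with rfl | rfl | rfl | rfl | rfl | rfl <;>
      simp only [ψb, Θ_X, numb, denb, Matrix.cons_val, L1, L3, map_add, map_sub, map_mul,
        map_one, div_one, one_mul]
  · intro k hk
    simp only [Set.mem_insert_iff, Set.mem_singleton_iff] at hk
    rcases hk with rfl | rfl | rfl | rfl | rfl | rfl <;>
      simp [numb, denb, ρ1c_X, L1, L3]
  · intro k hk
    simp only [Set.mem_insert_iff, Set.mem_singleton_iff] at hk
    rcases hk with rfl | rfl | rfl | rfl | rfl | rfl <;>
      simp [numb, denb, ρ1c_X, L1, L3]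
    simpa [L3] using ιL3 A

lemma claim2 {r : D A} (hg : Avoids r (single 6 1)) (hb : Avoids r (single 1 1))
    (hea : Avoids r e2) (hch : Avoids r e3) (hec : Avoids r eec) (h0 : ψb A r = 0) : r = 0 := by
  have hs : ({0, 3, 5, 7, 8} : Set (Fin 9)) ⊆ {k | numb A k = X k ∧ denb A k = 1} := by
    intro k hk
    simp only [Set.mem_insert_iff, Set.mem_singleton_iff] at hk
    rcases hk with rfl | rfl | rfl | rfl | rfl <;> simp [numb, denb]
  have h1 := ιL1 A
  have h3 := ιL3 A
  -- eliminate `e`
  have step1 := elim_step (ψb A) (ι A) (ρ1c A) 4 (L1 A) (-(X 5 * L3 A)) ?_ ?_ {0, 2, 3, 5, 7, 8}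
    ?_ ?_ (hF_b A) ?_ r h0 ?_ ?_
  · rcases step1 with h | h
    · exact h
    have he : Avoids r (single 4 1) := avoids_of_free h
    -- eliminate `c`
    have step2 := elim_step (ψb A) (ι A) (ρ3 A) 2 (L3 A) (X 5 * L1 A) ?_ ?_ {0, 3, 5, 7, 8}
      ?_ ?_ ?_ ?_ r h0 ?_ ?_
    · rcases step2 with h | h
      · exact h
      have hc : Avoids r (single 2 1) := avoids_of_free h
      have hr : r ∈ supported A ({0, 3, 5, 7, 8} : Set (Fin 9)) := by
        refine mem_supported_of_avoids ?_
        intro k hk
        fin_cases k <;> simp at hk <;> assumption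
      have := Θ_eq_ι A (numb A) (denb A) (fun k hk => hs hk) hr
      rw [ψb] at h0
      rw [h0] at this
      exact ι_injective A (by rw [← this, map_zero])
    · -- ha
      simp only [ψb, Θ_X, numb, denb, L3, L1, map_add, map_sub, map_mul]
      simp only [Matrix.cons_val]
      simp only [L3, L1, map_add, map_sub, map_mul, map_one, div_one]
      field_simp
    · simp [L3, ρ3_X]
    · simp only [L3]
      exact Subalgebra.add_mem _ (X_mem_supported.mpr (by simp)) (X_mem_supported.mpr (by simp))
    · simp only [L1]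
      exact Subalgebra.mul_mem _ (X_mem_supported.mpr (by simp))
        (Subalgebra.sub_mem _ (X_mem_supported.mpr (by simp)) (X_mem_supported.mpr (by simp)))
    · intro y hy hy0
      have := Θ_eq_ι A (numb A) (denb A) (fun k hk => hs hk) hy
      rw [ψb] at hy0
      rw [hy0] at this
      have hy' : y = 0 := ι_injective A (by rw [← this, map_zero])
      rw [hy', map_zero, map_zero]
    · apply ι_ne_zero
      refine ne_zero_of_eval A {5, 0} ?_
      simp [ρ3_X, L1, pt]
    · intro α
      refine mem_supported_of_avoids ?_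
      intro k hk
      fin_cases k <;> simp at hk
      · exact avoids_coeff_τ_of_ne (by decide) hb
      · exact avoids_coeff_τ_self 2 r α
      · exact avoids_coeff_τ_of_ne (by decide) he
      · exact avoids_coeff_τ_of_ne (by decide) hg
    · intro hn hz
      set lc := (τ 2 r).leadingCoeff with hlc
      have hh : Avoids lc (single 7 1) := by
        have := avoids_coeff_τ (k := 2) (α := (τ 2 r).natDegree) hch
          (by simp [e3]; omega)
        simpa [e3, Finsupp.erase_add, Finsupp.erase_single_ne] using this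
      have hfix : ρ3 A lc = lc := by
        have hmem : lc ∈ supported A ({0, 1, 2, 3, 4, 5, 6, 8} : Set (Fin 9)) := by
          refine mem_supported_of_avoids ?_
          intro k hk
          fin_cases k <;> simp at hk
          exact hh
        have := algHom_eq_on_supported (ρ3 A) (AlgHom.id A (D A))
          (s := ({0, 1, 2, 3, 4, 5, 6, 8} : Set (Fin 9))) ?_ hmem
        · simpa using this
        · intro k hk
          simp only [Set.mem_insert_iff, Set.mem_singleton_iff] at hk
          rcases hk with rfl | rfl | rfl | rfl | rfl | rfl | rfl | rfl <;> simp [ρ3_X]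
      rw [hfix] at hz
      exact ι_injective A (by rw [hz, map_zero])
  · -- ha
    simp only [ψb, Θ_X, numb, denb, L3, L1, map_add, map_sub, map_mul, map_neg]
    simp only [Matrix.cons_val]
    simp only [L3, L1, map_add, map_sub, map_mul, map_neg, map_one, div_one]
    field_simp
  · simp [L1, ρ1c_X]
  · simp only [L1]
    exact Subalgebra.sub_mem _ (X_mem_supported.mpr (by simp)) (X_mem_supported.mpr (by simp))
  · simp only [L3]
    exact Subalgebra.neg_mem _ (Subalgebra.mul_mem _ (X_mem_supported.mpr (by simp))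
      (Subalgebra.add_mem _ (X_mem_supported.mpr (by simp)) (X_mem_supported.mpr (by simp))))
  · apply ι_ne_zero
    refine ne_zero_of_eval A {5, 3} ?_
    simp [ρ1c_X, L3, pt]
  · intro α
    refine mem_supported_of_avoids ?_
    intro k hk
    fin_cases k <;> simp at hk
    · exact avoids_coeff_τ_of_ne (by decide) hb
    · exact avoids_coeff_τ_self 4 r α
    · exact avoids_coeff_τ_of_ne (by decide) hg
  · intro hn hz
    set lc := (τ 4 r).leadingCoeff with hlc
    have hla : Avoids lc (single 0 1) := by
      have := avoids_coeff_τ (k := 4) (α := (τ 4 r).natDegree) hea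
        (by simp [e2]; omega)
      simpa [e2, Finsupp.erase_add, Finsupp.erase_single_ne] using this
    have hlcc : Avoids lc (single 2 1) := by
      have := avoids_coeff_τ (k := 4) (α := (τ 4 r).natDegree) hec
        (by simp [eec]; omega)
      simpa [eec, Finsupp.erase_add, Finsupp.erase_single_ne] using this
    have hfix : ρ1c A lc = lc := by
      have hmem : lc ∈ supported A ({1, 3, 4, 5, 6, 7, 8} : Set (Fin 9)) := by
        refine mem_supported_of_avoids ?_
        intro k hk
        fin_cases k <;> simp at hk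
        · exact hla
        · exact hlcc
      have := algHom_eq_on_supported (ρ1c A) (AlgHom.id A (D A))
        (s := ({1, 3, 4, 5, 6, 7, 8} : Set (Fin 9))) ?_ hmem
      · simpa using this
      · intro k hk
        simp only [Set.mem_insert_iff, Set.mem_singleton_iff] at hk
        rcases hk with rfl | rfl | rfl | rfl | rfl | rfl | rfl <;> simp [ρ1c_X]
    rw [hfix] at hz
    exact ι_injective A (by rw [hz, map_zero])

/-! ### The main injectivity statement for `ψ` -/

lemma hF_g : ∀ y ∈ supported A ({0, 1, 2, 3, 4, 5, 7, 8} : Set (Fin 9)), ψ A y = 0 →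
    ψb A (ρ2 A y) = 0 := by
  intro y hy hy0
  have h1 := ιL1 A
  have h3 := ιL3 A
  refine eq_zero_of_eq_zero (ι A) (ψ A) (ι_injective A) ((ψb A).comp (ρ2 A)) (numψ A) (denψ A)
    {0, 1, 2, 3, 4, 5, 7, 8} ?_ ?_ ?_ ?_ ?_ hy hy0
  · intro k hk
    simp only [Set.mem_insert_iff, Set.mem_singleton_iff] at hk
    rcases hk with rfl | rfl | rfl | rfl | rfl | rfl | rfl | rfl <;>
      simp only [ψ, Θ_X, numψ, denψ, Matrix.cons_val, L1, L3, p2, p3, map_add, map_sub, map_mul,
        map_one, div_one, one_mul]
    · field_simp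
    · field_simp
  · intro k hk
    simp only [Set.mem_insert_iff, Set.mem_singleton_iff] at hk
    rcases hk with rfl | rfl | rfl | rfl | rfl | rfl | rfl | rfl <;>
      simp only [ψ, Θ_X, numψ, denψ, Matrix.cons_val, L1, L3, p2, p3, map_add, map_sub, map_mul,
        map_one, div_one, one_mul]
  · intro k hk
    simp only [Set.mem_insert_iff, Set.mem_singleton_iff] at hk
    rcases hk with rfl | rfl | rfl | rfl | rfl | rfl | rfl | rfl <;>
      simp only [ψ, Θ_X, numψ, denψ, Matrix.cons_val, L1, L3, p2, p3, map_add, map_sub, map_mul,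
        map_one, div_one, one_mul]
  · intro k hk
    simp only [Set.mem_insert_iff, Set.mem_singleton_iff] at hk
    rcases hk with rfl | rfl | rfl | rfl | rfl | rfl | rfl | rfl <;>
      simp only [AlgHom.comp_apply, numψ, denψ, Matrix.cons_val, L1, L3, p2, p3, map_add, map_sub,
        map_mul, map_neg, map_one, one_mul, ρ2_X, ψb, Θ_X, numb, denb, div_one]
    · field_simp
      ring
    · field_simp
      ring
  · intro k hk
    simp only [Set.mem_insert_iff, Set.mem_singleton_iff] at hk
    rcases hk with rfl | rfl | rfl | rfl | rfl | rfl | rfl | rfl <;>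
      simp only [AlgHom.comp_apply, numψ, denψ, Matrix.cons_val, L1, L3, p2, p3, map_add, map_sub,
        map_mul, map_neg, map_one, one_mul, ρ2_X, ψb, Θ_X, numb, denb, div_one, ne_eq,
        one_ne_zero, not_false_eq_true]
    · exact h3
    · exact h1

lemma hF_e : ∀ y ∈ supported A ({0, 1, 2, 3, 5, 7, 8} : Set (Fin 9)), ψ A y = 0 →
    ψt A (ρ1 A y) = 0 := by
  intro y hy hy0
  have h1 := ιL1 A
  have h3 := ιL3 A
  refine eq_zero_of_eq_zero (ι A) (ψ A) (ι_injective A) ((ψt A).comp (ρ1 A)) (numψ A) (denψ A)
    {0, 1, 2, 3, 5, 7, 8} ?_ ?_ ?_ ?_ ?_ hy hy0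
  · intro k hk
    simp only [Set.mem_insert_iff, Set.mem_singleton_iff] at hk
    rcases hk with rfl | rfl | rfl | rfl | rfl | rfl | rfl <;>
      simp only [ψ, Θ_X, numψ, denψ, Matrix.cons_val, L1, L3, p2, p3, map_add, map_sub, map_mul,
        map_one, div_one, one_mul]
    field_simp
  · intro k hk
    simp only [Set.mem_insert_iff, Set.mem_singleton_iff] at hk
    rcases hk with rfl | rfl | rfl | rfl | rfl | rfl | rfl <;>
      simp only [ψ, Θ_X, numψ, denψ, Matrix.cons_val, L1, L3, p2, p3, map_add, map_sub, map_mul,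
        map_one, div_one, one_mul]
  · intro k hk
    simp only [Set.mem_insert_iff, Set.mem_singleton_iff] at hk
    rcases hk with rfl | rfl | rfl | rfl | rfl | rfl | rfl <;>
      simp only [ψ, Θ_X, numψ, denψ, Matrix.cons_val, L1, L3, p2, p3, map_add, map_sub, map_mul,
        map_one, div_one, one_mul]
  · intro k hk
    simp only [Set.mem_insert_iff, Set.mem_singleton_iff] at hk
    rcases hk with rfl | rfl | rfl | rfl | rfl | rfl | rfl <;>
      simp only [AlgHom.comp_apply, numψ, denψ, Matrix.cons_val, L1, L2, L3, p2, p3, map_add,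
        map_sub, map_mul, map_neg, map_one, one_mul, ρ1_X, ψt, Θ_X, numt, dent, div_one]
    field_simp
    ring
  · intro k hk
    simp only [Set.mem_insert_iff, Set.mem_singleton_iff] at hk
    rcases hk with rfl | rfl | rfl | rfl | rfl | rfl | rfl <;>
      simp only [AlgHom.comp_apply, numψ, denψ, Matrix.cons_val, L1, L2, L3, p2, p3, map_add,
        map_sub, map_mul, map_neg, map_one, one_mul, ρ1_X, ψt, Θ_X, numt, dent, div_one, ne_eq,
        one_ne_zero, not_false_eq_true]
    exact h3

lemma p1_ne : p1 A ≠ 0 := ne_zero_of_eval A {0, 7} (by simp [p1, pt])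
lemma p2_ne : p2 A ≠ 0 := ne_zero_of_eval A {1, 3} (by simp [p2, pt])
lemma p3_ne : p3 A ≠ 0 := ne_zero_of_eval A {0, 5} (by simp [p3, pt])

lemma claim1 {r : D A} (hgb : Avoids r e1) (hea : Avoids r e2) (hch : Avoids r e3)
    (hgec : Avoids r e4) (h0 : ψ A r = 0) : r = 0 := by
  have hs : ({0, 1, 3, 5, 7, 8} : Set (Fin 9)) ⊆ {k | numψ A k = X k ∧ denψ A k = 1} := by
    intro k hk
    simp only [Set.mem_insert_iff, Set.mem_singleton_iff] at hk
    rcases hk with rfl | rfl | rfl | rfl | rfl | rfl <;> simp [numψ, denψ]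
  have h1 := ιL1 A
  have h2 := ιL2 A
  have h3 := ιL3 A
  -- eliminate `g`
  have step1 := elim_step (ψ A) (ψb A) (ρ2 A) 6 (L2 A) (p1 A) ?_ ?_ {0, 1, 2, 3, 4, 5, 7, 8}
    ?_ ?_ (hF_g A) ?_ r h0 ?_ ?_
  · rcases step1 with h | h
    · exact h
    have hg : Avoids r (single 6 1) := avoids_of_free h
    -- eliminate `e`
    have step2 := elim_step (ψ A) (ψt A) (ρ1 A) 4 (L1 A) (p2 A) ?_ ?_ {0, 1, 2, 3, 5, 7, 8}
      ?_ ?_ (hF_e A) ?_ r h0 ?_ ?_
    · rcases step2 with h | h
      · exact h
      have he : Avoids r (single 4 1) := avoids_of_free h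
      -- eliminate `c`
      have step3 := elim_step (ψ A) (ι A) (ρ3 A) 2 (L3 A) (p3 A) ?_ ?_ {0, 1, 3, 5, 7, 8}
        ?_ ?_ ?_ ?_ r h0 ?_ ?_
      · rcases step3 with h | h
        · exact h
        have hc : Avoids r (single 2 1) := avoids_of_free h
        have hr : r ∈ supported A ({0, 1, 3, 5, 7, 8} : Set (Fin 9)) := by
          refine mem_supported_of_avoids ?_
          intro k hk
          fin_cases k <;> simp at hk <;> assumption
        have := Θ_eq_ι A (numψ A) (denψ A) (fun k hk => hs hk) hr
        rw [ψ] at h0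
        rw [h0] at this
        exact ι_injective A (by rw [← this, map_zero])
      · -- ha
        simp only [ψ, Θ_X, numψ, denψ, L3, p3, map_add, map_sub, map_mul]
        simp only [Matrix.cons_val]
        simp only [L3, p3, map_add, map_sub, map_mul, map_one, div_one]
        field_simp
      · simp [L3, ρ3_X]
      · simp only [L3]
        exact Subalgebra.add_mem _ (X_mem_supported.mpr (by simp)) (X_mem_supported.mpr (by simp))
      · simp only [p3]
        exact Subalgebra.add_mem _
          (Subalgebra.mul_mem _ (X_mem_supported.mpr (by simp)) (X_mem_supported.mpr (by simp)))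
          (Subalgebra.mul_mem _ (X_mem_supported.mpr (by simp)) (X_mem_supported.mpr (by simp)))
      · intro y hy hy0
        have := Θ_eq_ι A (numψ A) (denψ A) (fun k hk => hs hk) hy
        rw [ψ] at hy0
        rw [hy0] at this
        have hy' : y = 0 := ι_injective A (by rw [← this, map_zero])
        rw [hy', map_zero, map_zero]
      · apply ι_ne_zero
        refine ne_zero_of_eval A {0, 5} ?_
        simp [ρ3_X, p3, pt]
      · intro α
        refine mem_supported_of_avoids ?_
        intro k hk
        fin_cases k <;> simp at hk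
        · exact avoids_coeff_τ_self 2 r α
        · exact avoids_coeff_τ_of_ne (by decide) he
        · exact avoids_coeff_τ_of_ne (by decide) hg
      · intro hn hz
        set lc := (τ 2 r).leadingCoeff with hlc
        have hh : Avoids lc (single 7 1) := by
          have := avoids_coeff_τ (k := 2) (α := (τ 2 r).natDegree) hch
            (by simp [e3]; omega)
          simpa [e3, Finsupp.erase_add, Finsupp.erase_single_ne] using this
        have hfix : ρ3 A lc = lc := by
          have hmem : lc ∈ supported A ({0, 1, 2, 3, 4, 5, 6, 8} : Set (Fin 9)) := by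
            refine mem_supported_of_avoids ?_
            intro k hk
            fin_cases k <;> simp at hk
            exact hh
          have := algHom_eq_on_supported (ρ3 A) (AlgHom.id A (D A))
            (s := ({0, 1, 2, 3, 4, 5, 6, 8} : Set (Fin 9))) ?_ hmem
          · simpa using this
          · intro k hk
            simp only [Set.mem_insert_iff, Set.mem_singleton_iff] at hk
            rcases hk with rfl | rfl | rfl | rfl | rfl | rfl | rfl | rfl <;> simp [ρ3_X]
        rw [hfix] at hz
        exact ι_injective A (by rw [hz, map_zero])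
    · -- ha (e)
      simp only [ψ, Θ_X, numψ, denψ, L1, p2, map_add, map_sub, map_mul]
      simp only [Matrix.cons_val]
      simp only [L1, p2, map_add, map_sub, map_mul, map_one, div_one]
      field_simp
    · simp [L1, ρ1_X]
    · simp only [L1]
      exact Subalgebra.sub_mem _ (X_mem_supported.mpr (by simp)) (X_mem_supported.mpr (by simp))
    · simp only [p2]
      exact Subalgebra.sub_mem _
        (Subalgebra.mul_mem _ (X_mem_supported.mpr (by simp)) (X_mem_supported.mpr (by simp)))
        (Subalgebra.mul_mem _ (X_mem_supported.mpr (by simp)) (X_mem_supported.mpr (by simp)))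
    · -- hv
      have : ψt A (ρ1 A (p2 A)) = ι A (p2 A) := by
        simp only [p2, map_sub, map_mul, ρ1_X, ψt, Θ_X, numt, dent, Matrix.cons_val, map_one,
          div_one]
      rw [this]
      exact ι_ne_zero A (p2_ne A)
    · intro α
      refine mem_supported_of_avoids ?_
      intro k hk
      fin_cases k <;> simp at hk
      · exact avoids_coeff_τ_self 4 r α
      · exact avoids_coeff_τ_of_ne (by decide) hg
    · intro hn hz
      set lc := (τ 4 r).leadingCoeff with hlc
      have hla : Avoids lc (single 0 1) := by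
        have := avoids_coeff_τ (k := 4) (α := (τ 4 r).natDegree) hea
          (by simp [e2]; omega)
        simpa [e2, Finsupp.erase_add, Finsupp.erase_single_ne] using this
      have hlg : Avoids lc (single 6 1) := avoids_coeff_τ_of_ne (by decide) hg
      have hle : Avoids lc (single 4 1) := avoids_coeff_τ_self 4 r _
      have hlch : Avoids lc e3 := by
        have := avoids_coeff_τ (k := 4) (α := (τ 4 r).natDegree) hch (by simp [e3])
        simpa [e3, Finsupp.erase_add, Finsupp.erase_single_ne] using this
      have hfix : ρ1 A lc = lc := by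
        have hmem : lc ∈ supported A ({1, 2, 3, 4, 5, 6, 7, 8} : Set (Fin 9)) := by
          refine mem_supported_of_avoids ?_
          intro k hk
          fin_cases k <;> simp at hk
          exact hla
        have := algHom_eq_on_supported (ρ1 A) (AlgHom.id A (D A))
          (s := ({1, 2, 3, 4, 5, 6, 7, 8} : Set (Fin 9))) ?_ hmem
        · simpa using this
        · intro k hk
          simp only [Set.mem_insert_iff, Set.mem_singleton_iff] at hk
          rcases hk with rfl | rfl | rfl | rfl | rfl | rfl | rfl | rfl <;> simp [ρ1_X]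
      rw [hfix] at hz
      exact claim3 A hlg hle hla hlch hz
  · -- ha (g)
    simp only [ψ, Θ_X, numψ, denψ, L2, p1, map_add, map_sub, map_mul]
    simp only [Matrix.cons_val]
    simp only [L2, p1, map_add, map_sub, map_mul, map_one, div_one]
    field_simp
  · simp [L2, ρ2_X]
  · simp only [L2]
    exact Subalgebra.add_mem _ (X_mem_supported.mpr (by simp)) (X_mem_supported.mpr (by simp))
  · simp only [p1]
    exact Subalgebra.add_mem _
      (Subalgebra.mul_mem _ (X_mem_supported.mpr (by simp)) (X_mem_supported.mpr (by simp)))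
      (Subalgebra.mul_mem _ (X_mem_supported.mpr (by simp)) (X_mem_supported.mpr (by simp)))
  · -- hv
    have : ψb A (ρ2 A (p1 A)) = ι A (p1 A) := by
      simp only [p1, map_add, map_mul, ρ2_X, ψb, Θ_X, numb, denb, Matrix.cons_val, map_one,
        div_one]
    rw [this]
    exact ι_ne_zero A (p1_ne A)
  · intro α
    refine mem_supported_of_avoids ?_
    intro k hk
    fin_cases k <;> simp at hk
    exact avoids_coeff_τ_self 6 r α
  · intro hn hz
    set lc := (τ 6 r).leadingCoeff with hlc
    have hlb : Avoids lc (single 1 1) := by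
      have := avoids_coeff_τ (k := 6) (α := (τ 6 r).natDegree) hgb
        (by simp [e1]; omega)
      simpa [e1, Finsupp.erase_add, Finsupp.erase_single_ne] using this
    have hlg : Avoids lc (single 6 1) := avoids_coeff_τ_self 6 r _
    have hlea : Avoids lc e2 := by
      have := avoids_coeff_τ (k := 6) (α := (τ 6 r).natDegree) hea (by simp [e2])
      simpa [e2, Finsupp.erase_add, Finsupp.erase_single_ne] using this
    have hlch : Avoids lc e3 := by
      have := avoids_coeff_τ (k := 6) (α := (τ 6 r).natDegree) hch (by simp [e3])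
      simpa [e3, Finsupp.erase_add, Finsupp.erase_single_ne] using this
    have hlec : Avoids lc (eec) := by
      have := avoids_coeff_τ (k := 6) (α := (τ 6 r).natDegree) hgec
        (by simp [e4]; omega)
      simpa [e4, eec, Finsupp.erase_add, Finsupp.erase_single_ne] using this
    have hfix : ρ2 A lc = lc := by
      have hmem : lc ∈ supported A ({0, 2, 3, 4, 5, 6, 7, 8} : Set (Fin 9)) := by
        refine mem_supported_of_avoids ?_
        intro k hk
        fin_cases k <;> simp at hk
        exact hlb
      have := algHom_eq_on_supported (ρ2 A) (AlgHom.id A (D A))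
        (s := ({0, 2, 3, 4, 5, 6, 7, 8} : Set (Fin 9))) ?_ hmem
      · simpa using this
      · intro k hk
        simp only [Set.mem_insert_iff, Set.mem_singleton_iff] at hk
        rcases hk with rfl | rfl | rfl | rfl | rfl | rfl | rfl | rfl <;> simp [ρ2_X]
    rw [hfix] at hz
    exact claim2 A hlg hlb hlea hlch hlec hz

/-! ### `J` is prime -/

theorem ker_ψ_eq : RingHom.ker (ψ A : D A →+* K A) = idJ A := by
  apply le_antisymm
  · intro x hx
    obtain ⟨r, hxr, hr⟩ := exists_reduced (m := ord) (monic1234 A) x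
    have hspan : Ideal.span {(G4 : D A), G3, G2, G1} ≤ idJ A := Ideal.span_le.mpr (G_mem_idJ A)
    have hxr' := hspan hxr
    have hψr : ψ A r = 0 := by
      have h1 : ψ A (x - r) = 0 := idJ_le_ker A hxr'
      have h2 : ψ A x = 0 := hx
      rw [map_sub, h2, zero_sub, neg_eq_zero] at h1
      exact h1
    have hr0 : r = 0 := by
      refine claim1 A ?_ ?_ ?_ ?_ hψr
      · intro c hc; rw [← (G1_spec A).2]; exact hr c hc _ (by simp)
      · intro c hc; rw [← (G2_spec A).2]; exact hr c hc _ (by simp)
      · intro c hc; rw [← (G3_spec A).2]; exact hr c hc _ (by simp)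
      · intro c hc; rw [← (G4_spec A).2]; exact hr c hc _ (by simp)
    rwa [hr0, sub_zero] at hxr'
  · exact idJ_le_ker A

theorem idJ_isPrime : (idJ A).IsPrime := by
  rw [← ker_ψ_eq]
  exact RingHom.ker_isPrime _

theorem idJ_minimal : idJ A ∈ (idI A).minimalPrimes := by
  refine ⟨⟨idJ_isPrime A, idI_le_idJ A⟩, ?_⟩
  rintro q ⟨hq, hIq⟩ hqJ x hx
  -- `x * L1 ∈ I ⊆ q`, and `L1 ∉ q` since `L1 ∉ J`
  have h1 : x * L1 A ∈ q := hIq (mul_mem_idI A hx (Ideal.subset_span (by simp)))
  rcases hq.mem_or_mem h1 with h | h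
  · exact h
  · exfalso
    have hJ : L1 A ∈ idJ A := hqJ h
    obtain ⟨g, hg, hle⟩ := hasLM4 A _ hJ (L1_ne A)
    rw [(L1_spec A).2] at hle
    rcases hg with rfl | rfl | rfl | rfl
    · rw [(G4_spec A).2] at hle
      have := hle 6
      simp [e4] at this
    · rw [(G3_spec A).2] at hle
      have := hle 7
      simp [e3] at this
    · rw [(G2_spec A).2] at hle
      have := hle 4
      simp [e2] at this
    · rw [(G1_spec A).2] at hle
      have := hle 1
      simp [e1] at this

end Groth.Agent.Lib.Helper24Lie3Prime
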