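import Mathlib
import Groth.Prelude.Def_W4c1bouilletffgsL3
import Groth.Agent.Lib.Helper5RLR
import Groth.Agent.Lib.Helper14FTDim

/-!
# A smooth rational point on the variety of three-dimensional Lie algebras (helper24)
-/

set_option linter.unusedSectionVars false

namespace Groth.Agent.Lib.Helper24Lie3Smooth

open MvPolynomial IsLocalRing

universe u

section Point

variable {k : Type u} [Field k] {n : ℕ} (pt : Fin n → k)

/-- the local coordinate `X i - pt i` -/
noncomputable def yv (i : Fin n) : MvPolynomial (Fin n) k := X i - C (pt i)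

/-- the maximal ideal of the rational point `pt` -/
noncomputable def Mpt : Ideal (MvPolynomial (Fin n) k) := Ideal.span (Set.range (yv pt))

lemma yv_mem (i : Fin n) : yv pt i ∈ Mpt pt := Ideal.subset_span ⟨i, rfl⟩

lemma sub_C_eval_mem (f : MvPolynomial (Fin n) k) : f - C (eval pt f) ∈ Mpt pt := by
  induction f using MvPolynomial.induction_on with
  | C a => simp
  | add p q hp hq =>
    have : p + q - C (eval pt (p + q)) = (p - C (eval pt p)) + (q - C (eval pt q)) := by
      rw [map_add, map_add]; ring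
    rw [this]; exact Ideal.add_mem _ hp hq
  | mul_X p i hp =>
    have : p * X i - C (eval pt (p * X i)) =
        (p - C (eval pt p)) * X i + C (eval pt p) * yv pt i := by
      rw [map_mul, eval_X, map_mul, yv]; ring
    rw [this]
    exact Ideal.add_mem _ (Ideal.mul_mem_right _ _ hp) (Ideal.mul_mem_left _ _ (yv_mem pt i))

lemma Mpt_eq_ker : Mpt pt = RingHom.ker (eval pt) := by
  apply le_antisymm
  · rw [Mpt, Ideal.span_le]
    rintro _ ⟨i, rfl⟩
    simp [yv, RingHom.mem_ker]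
  · intro f hf
    rw [RingHom.mem_ker] at hf
    have := sub_C_eval_mem pt f
    rwa [hf, map_zero, sub_zero] at this

instance isMaximal_Mpt : (Mpt pt).IsMaximal := by
  rw [Mpt_eq_ker]
  exact RingHom.ker_isMaximal_of_surjective _ (fun a => ⟨C a, by simp⟩)

lemma mem_Mpt_iff (f : MvPolynomial (Fin n) k) : f ∈ Mpt pt ↔ eval pt f = 0 := by
  rw [Mpt_eq_ker, RingHom.mem_ker]

/-- the local ring at the point -/
abbrev Rpt : Type u := Localization.AtPrime (Mpt pt)

lemma maximalIdeal_Rpt :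
    maximalIdeal (Rpt pt) =
      Ideal.span (Set.range fun i => algebraMap (MvPolynomial (Fin n) k) (Rpt pt) (yv pt i)) := by
  rw [← Localization.AtPrime.map_eq_maximalIdeal (I := Mpt pt)]
  exact (Ideal.map_span _ (Set.range (yv pt))).trans (by rw [← Set.range_comp]; rfl)

lemma dim_Rpt : ringKrullDim (Rpt pt) = n := by
  rw [IsLocalization.AtPrime.ringKrullDim_eq_height (Mpt pt) (Rpt pt),
    Groth.Agent.Lib.Helper14.FTDim.height_of_isMaximal n (Mpt pt)]
  rfl

instance : IsRegularLocalRing (Rpt pt) := inferInstance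

lemma finrank_cot : Module.finrank (ResidueField (Rpt pt)) (CotangentSpace (Rpt pt)) = n := by
  have h := (IsRegularLocalRing.iff_finrank_cotangentSpace (R := Rpt pt)).mp inferInstance
  rw [dim_Rpt] at h
  exact_mod_cast h

lemma algebraMap_yv_mem (i : Fin n) :
    algebraMap (MvPolynomial (Fin n) k) (Rpt pt) (yv pt i) ∈ maximalIdeal (Rpt pt) := by
  rw [maximalIdeal_Rpt]
  exact Ideal.subset_span ⟨i, rfl⟩

/-- the local coordinates as elements of the maximal ideal -/
noncomputable def ym (i : Fin n) : maximalIdeal (Rpt pt) :=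
  ⟨algebraMap (MvPolynomial (Fin n) k) (Rpt pt) (yv pt i), algebraMap_yv_mem pt i⟩

/-- the classes of the local coordinates in the cotangent space -/
noncomputable def ybar (i : Fin n) : CotangentSpace (Rpt pt) :=
  (maximalIdeal (Rpt pt)).toCotangent (ym pt i)

lemma span_ybar : Submodule.span (ResidueField (Rpt pt)) (Set.range (ybar pt)) = ⊤ := by
  have : Set.range (ybar pt) = (maximalIdeal (Rpt pt)).toCotangent '' (Set.range (ym pt)) := by
    rw [← Set.range_comp]; rfl
  rw [this, CotangentSpace.span_image_eq_top_iff]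
  rw [← (Submodule.map_injective_of_injective (Submodule.injective_subtype _)).eq_iff,
    Submodule.map_span, Submodule.map_top, Submodule.range_subtype, ← Set.range_comp]
  exact (maximalIdeal_Rpt pt).symm

lemma ybar_li : LinearIndependent (ResidueField (Rpt pt)) (ybar pt) := by
  apply linearIndependent_of_top_le_span_of_card_eq_finrank
  · rw [span_ybar]
  · rw [finrank_cot, Fintype.card_fin]

/-- the basis of the cotangent space given by the local coordinates -/
noncomputable def cotB : Module.Basis (Fin n) (ResidueField (Rpt pt)) (CotangentSpace (Rpt pt)) :=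
  Module.Basis.mk (ybar_li pt) (span_ybar pt).ge

/-- constants in the residue field -/
noncomputable def kres : k →+* ResidueField (Rpt pt) :=
  (residue (Rpt pt)).comp ((algebraMap (MvPolynomial (Fin n) k) (Rpt pt)).comp C)

/-- the linear form with coefficient vector `c` in the local coordinates -/
noncomputable def linf (c : Fin n → k) : MvPolynomial (Fin n) k := ∑ i, C (c i) * yv pt i

lemma linf_mem (c : Fin n → k) : linf pt c ∈ Mpt pt :=
  Ideal.sum_mem _ (fun i _ => Ideal.mul_mem_left _ _ (yv_mem pt i))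

lemma linf_add (c c' : Fin n → k) : linf pt (c + c') = linf pt c + linf pt c' := by
  simp [linf, add_mul, Finset.sum_add_distrib]

lemma linf_single (i : Fin n) (a : k) : linf pt (Pi.single i a) = C a * yv pt i := by
  unfold linf
  rw [Finset.sum_eq_single i]
  · rw [Pi.single_eq_same]
  · intro j _ hj
    rw [Pi.single_eq_of_ne hj, map_zero, zero_mul]
  · intro h; exact absurd (Finset.mem_univ i) h

lemma algebraMap_mem_maximalIdeal {f : MvPolynomial (Fin n) k} (hf : f ∈ Mpt pt) :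
    algebraMap (MvPolynomial (Fin n) k) (Rpt pt) f ∈ maximalIdeal (Rpt pt) := by
  rw [← Localization.AtPrime.map_eq_maximalIdeal (I := Mpt pt)]
  exact Ideal.mem_map_of_mem _ hf

lemma algebraMap_mem_sq {f : MvPolynomial (Fin n) k} (hf : f ∈ Mpt pt ^ 2) :
    algebraMap (MvPolynomial (Fin n) k) (Rpt pt) f ∈ maximalIdeal (Rpt pt) ^ 2 := by
  rw [← Localization.AtPrime.map_eq_maximalIdeal (I := Mpt pt), ← Ideal.map_pow]
  exact Ideal.mem_map_of_mem _ hf

lemma mul_mem_sq {a b : MvPolynomial (Fin n) k} (ha : eval pt a = 0) (hb : eval pt b = 0) :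
    a * b ∈ Mpt pt ^ 2 := by
  rw [pow_two]
  exact Ideal.mul_mem_mul ((mem_Mpt_iff pt a).2 ha) ((mem_Mpt_iff pt b).2 hb)

lemma toCotangent_linf (c : Fin n → k) :
    (maximalIdeal (Rpt pt)).toCotangent
      ⟨algebraMap (MvPolynomial (Fin n) k) (Rpt pt) (linf pt c),
        algebraMap_mem_maximalIdeal pt (linf_mem pt c)⟩ =
      ∑ i, kres pt (c i) • ybar pt i := by
  have h1 : (⟨algebraMap (MvPolynomial (Fin n) k) (Rpt pt) (linf pt c),
      algebraMap_mem_maximalIdeal pt (linf_mem pt c)⟩ : maximalIdeal (Rpt pt)) =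
      ∑ i, (algebraMap (MvPolynomial (Fin n) k) (Rpt pt) (C (c i))) • ym pt i := by
    apply Subtype.ext
    rw [Submodule.coe_sum]
    simp only [linf, map_sum, map_mul]
    rfl
  rw [h1, map_sum]
  refine Finset.sum_congr rfl fun i _ => ?_
  rw [map_smul]
  show _ = (algebraMap (Rpt pt) (ResidueField (Rpt pt))
    (algebraMap (MvPolynomial (Fin n) k) (Rpt pt) (C (c i)))) • ybar pt i
  rw [algebraMap_smul (ResidueField (Rpt pt))]
  rfl

lemma coord_class (f : MvPolynomial (Fin n) k) (c : Fin n → k)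
    (hf : f - linf pt c ∈ Mpt pt ^ 2)
    (hfm : algebraMap (MvPolynomial (Fin n) k) (Rpt pt) f ∈ maximalIdeal (Rpt pt)) (i : Fin n) :
    (cotB pt).coord i ((maximalIdeal (Rpt pt)).toCotangent
      ⟨algebraMap (MvPolynomial (Fin n) k) (Rpt pt) f, hfm⟩) = kres pt (c i) := by
  classical
  have h1 : (maximalIdeal (Rpt pt)).toCotangent
      ⟨algebraMap (MvPolynomial (Fin n) k) (Rpt pt) f, hfm⟩ =
      (maximalIdeal (Rpt pt)).toCotangent
        ⟨algebraMap (MvPolynomial (Fin n) k) (Rpt pt) (linf pt c),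
          algebraMap_mem_maximalIdeal pt (linf_mem pt c)⟩ := by
    rw [Ideal.toCotangent_eq]
    show algebraMap _ _ f - algebraMap _ _ (linf pt c) ∈ _
    rw [← map_sub]
    exact algebraMap_mem_sq pt hf
  rw [h1, toCotangent_linf, map_sum]
  have h2 : ∀ j, (cotB pt).coord i (kres pt (c j) • ybar pt j) =
      if j = i then kres pt (c j) else 0 := by
    intro j
    rw [map_smul, cotB, Module.Basis.mk_coord_apply]
    split_ifs <;> simp
  simp only [h2]
  simp

/-- linear independence of the classes of polynomials whose linear parts have "diagonal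
pivots" -/
lemma li_of_pivots {r : ℕ} (g : Fin r → MvPolynomial (Fin n) k) (c : Fin r → Fin n → k)
    (σ : Fin r → Fin n)
    (hg : ∀ j, g j - linf pt (c j) ∈ Mpt pt ^ 2)
    (hdiag : ∀ j, c j (σ j) ≠ 0) (hoff : ∀ j j', j' ≠ j → c j' (σ j) = 0)
    (hgm : ∀ j, algebraMap (MvPolynomial (Fin n) k) (Rpt pt) (g j) ∈ maximalIdeal (Rpt pt)) :
    LinearIndependent (ResidueField (Rpt pt))
      (fun j => (maximalIdeal (Rpt pt)).toCotangent
        (⟨algebraMap (MvPolynomial (Fin n) k) (Rpt pt) (g j), hgm j⟩ : maximalIdeal (Rpt pt))) := by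
  rw [Fintype.linearIndependent_iff]
  intro a ha j
  have h := congrArg ((cotB pt).coord (σ j)) ha
  rw [map_sum, map_zero] at h
  simp only [map_smul, coord_class pt _ _ (hg _), smul_eq_mul] at h
  rw [Finset.sum_eq_single j] at h
  · rcases mul_eq_zero.mp h with h | h
    · exact h
    · exact absurd ((map_eq_zero (kres pt)).mp h) (hdiag j)
  · intro j' _ hj'
    rw [hoff j j' hj', map_zero, mul_zero]
  · intro h'; exact absurd (Finset.mem_univ j) h'

/-- local generators of an ideal at the point -/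
lemma map_eq_span_range {r : ℕ} (g : Fin r → MvPolynomial (Fin n) k)
    (T : Set (MvPolynomial (Fin n) k))
    (hg : ∀ j, g j ∈ Ideal.span T)
    (hT : ∀ f ∈ T, ∃ u, eval pt u ≠ 0 ∧ u * f ∈ Ideal.span (Set.range g)) :
    (Ideal.span T).map (algebraMap (MvPolynomial (Fin n) k) (Rpt pt)) =
      Ideal.span (Set.range fun j => algebraMap (MvPolynomial (Fin n) k) (Rpt pt) (g j)) := by
  apply le_antisymm
  · rw [Ideal.map_span, Ideal.span_le]
    rintro _ ⟨f, hf, rfl⟩
    obtain ⟨u, hu, huf⟩ := hT f hf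
    have hu' : u ∈ (Mpt pt).primeCompl := by
      show u ∉ Mpt pt
      rw [mem_Mpt_iff]; exact hu
    have hunit : IsUnit (algebraMap (MvPolynomial (Fin n) k) (Rpt pt) u) :=
      IsLocalization.map_units (Rpt pt) (⟨u, hu'⟩ : (Mpt pt).primeCompl)
    have h2 : algebraMap (MvPolynomial (Fin n) k) (Rpt pt) (u * f) ∈
        Ideal.span (Set.range fun j => algebraMap (MvPolynomial (Fin n) k) (Rpt pt) (g j)) := by
      have := Ideal.mem_map_of_mem (algebraMap (MvPolynomial (Fin n) k) (Rpt pt)) huf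
      rwa [Ideal.map_span, ← Set.range_comp] at this
    rw [map_mul] at h2
    exact (Ideal.unit_mul_mem_iff_mem _ hunit).mp h2
  · rw [Ideal.span_le]
    rintro _ ⟨j, rfl⟩
    exact Ideal.mem_map_of_mem _ (hg j)

end Point

section LocQuot

theorem exists_equiv {R : Type u} [CommRing R] (I : Ideal R) (q : Ideal (R ⧸ I)) [q.IsPrime]
    (p : Ideal R) [p.IsPrime] (hp : q.comap (Ideal.Quotient.mk I) = p) :
    Nonempty (Localization.AtPrime q ≃+*
      Localization.AtPrime p ⧸ I.map (algebraMap R (Localization.AtPrime p))) := by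
  subst hp
  have hM : Algebra.algebraMapSubmonoid (R ⧸ I) (q.comap (Ideal.Quotient.mk I)).primeCompl =
      q.primeCompl := by
    ext y
    constructor
    · rintro ⟨x, hx, rfl⟩
      exact hx
    · intro hy
      obtain ⟨x, rfl⟩ := Ideal.Quotient.mk_surjective y
      exact ⟨x, hy, rfl⟩
  have hloc : IsLocalization (Algebra.algebraMapSubmonoid (R ⧸ I)
      (q.comap (Ideal.Quotient.mk I)).primeCompl)
      (Localization.AtPrime (q.comap (Ideal.Quotient.mk I)) ⧸
        I.map (algebraMap R (Localization.AtPrime (q.comap (Ideal.Quotient.mk I))))) :=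
    inferInstance
  rw [hM] at hloc
  exact ⟨(IsLocalization.algEquiv q.primeCompl (Localization.AtPrime q)
      (Localization.AtPrime (q.comap (Ideal.Quotient.mk I)) ⧸
        I.map (algebraMap R (Localization.AtPrime (q.comap (Ideal.Quotient.mk I)))))).toRingEquiv⟩

end LocQuot

section Lie3

open Lie3Mod

variable {k : Type u} [Field k] (t : k)

/-- the point `[x,y] = y, [x,z] = t z, [y,z] = 0` -/
def pt0 : Fin 9 → k := ![0, 1, 0, 0, 0, t, 0, 0, 0]

lemma span9_eq :
    Ideal.span ({X 0, X 1 - 1, X 2, X 3, X 4, X 5 - C t, X 6, X 7, X 8} : Set (D k)) =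
      Mpt (pt0 t) := by
  apply le_antisymm
  · rw [Ideal.span_le]
    rintro x (rfl | rfl | rfl | rfl | rfl | rfl | rfl | rfl | rfl) <;>
      exact (mem_Mpt_iff _ _).2 (by simp [pt0])
  · rw [show Mpt (pt0 t) = Ideal.span (Set.range (yv (pt0 t))) from rfl, Ideal.span_le]
    rintro _ ⟨i, rfl⟩
    apply Ideal.subset_span
    fin_cases i <;> simp [yv, pt0]

lemma idJ_le : idJ k ≤ Mpt (pt0 t) := by
  rw [idJ, Ideal.span_le]
  rintro x (rfl | rfl | rfl | rfl) <;>
    exact (mem_Mpt_iff _ _).2 (by simp [pt0, Q1, Q2, Q3, detM])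

lemma comap_P (P : Ideal (D k ⧸ idJ k))
    (hP : P = Ideal.map (Ideal.Quotient.mk (idJ k))
      (Ideal.span ({X 0, X 1 - 1, X 2, X 3, X 4, X 5 - C t, X 6, X 7, X 8} : Set (D k)))) :
    P.comap (Ideal.Quotient.mk (idJ k)) = Mpt (pt0 t) := by
  rw [hP, span9_eq, Ideal.comap_map_of_surjective _ Ideal.Quotient.mk_surjective,
    ← RingHom.ker_eq_comap_bot, Ideal.mk_ker, sup_eq_left]
  exact idJ_le t

lemma hQ2 : Q2 k - linf (pt0 t) (Pi.single 3 1 + Pi.single 7 (-t)) ∈ Mpt (pt0 t) ^ 2 := by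
  rw [linf_add, linf_single, linf_single]
  have e : Q2 k - (C 1 * yv (pt0 t) 3 + C (-t) * yv (pt0 t) 7) =
      X 8 * X 4 + (X 1 - 1) * X 3 - (X 5 - C t) * X 7 - X 0 * X 4 := by
    simp [Q2, yv, pt0]; ring
  rw [e]
  refine Ideal.sub_mem _ (Ideal.sub_mem _ (Ideal.add_mem _ ?_ ?_) ?_) ?_ <;>
    exact mul_mem_sq _ (by simp [pt0]) (by simp [pt0])

lemma hQ3 : Q3 k - linf (pt0 t) (Pi.single 0 (-t) + Pi.single 8 (-1)) ∈ Mpt (pt0 t) ^ 2 := by
  rw [linf_add, linf_single, linf_single]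
  have e : Q3 k - (C (-t) * yv (pt0 t) 0 + C (-1) * yv (pt0 t) 8) =
      X 7 * X 2 + X 3 * X 2 - X 0 * (X 5 - C t) - (X 1 - 1) * X 8 := by
    simp [Q3, yv, pt0]; ring
  rw [e]
  refine Ideal.sub_mem _ (Ideal.sub_mem _ (Ideal.add_mem _ ?_ ?_) ?_) ?_ <;>
    exact mul_mem_sq _ (by simp [pt0]) (by simp [pt0])

lemma hQ1 : Q1 k - linf (pt0 t) (Pi.single 6 (-(1 + t))) ∈ Mpt (pt0 t) ^ 2 := by
  rw [linf_single]
  have e : Q1 k - C (-(1 + t)) * yv (pt0 t) 6 =
      X 0 * X 7 + X 3 * X 8 - (X 5 - C t) * X 6 - (X 1 - 1) * X 6 := by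
    simp [Q1, yv, pt0]; ring
  rw [e]
  refine Ideal.sub_mem _ (Ideal.sub_mem _ (Ideal.add_mem _ ?_ ?_) ?_) ?_ <;>
    exact mul_mem_sq _ (by simp [pt0]) (by simp [pt0])

lemma hdet : detM k - linf (pt0 t) (Pi.single 6 t) ∈ Mpt (pt0 t) ^ 2 := by
  rw [linf_single]
  have e : detM k - C t * yv (pt0 t) 6 =
      X 6 * (X 1 * X 5 - C t) - X 2 * (X 7 * X 7) + X 4 * (X 8 * X 8) - X 6 * (X 4 * X 2)
        + X 7 * (X 1 * X 8) - X 8 * (X 7 * X 5) := by
    simp [detM, yv, pt0]; ring
  rw [e]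
  refine Ideal.sub_mem _ (Ideal.add_mem _ (Ideal.sub_mem _ (Ideal.add_mem _
    (Ideal.sub_mem _ ?_ ?_) ?_) ?_) ?_) ?_ <;>
    exact mul_mem_sq _ (by simp [pt0]) (by simp [pt0])

lemma hident : detM k * (X 1 + X 5) =
    (X 4 * X 2 - X 1 * X 5) * Q1 k + (X 7 * X 2 + X 8 * X 5) * Q2 k
      - (X 7 * X 1 + X 8 * X 4) * Q3 k := by
  simp only [detM, Q1, Q2, Q3, va, vb, vc, vd, ve, vf, vg, vh, vi]
  ring

/-- the data of three local generators with diagonal linear parts -/
lemma exists_local_gens :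
    ∃ (g : Fin 3 → D k) (c : Fin 3 → Fin 9 → k) (σ : Fin 3 → Fin 9),
      (∀ j, g j ∈ Ideal.span ({Q1 k, Q2 k, Q3 k, detM k} : Set (D k))) ∧
      (∀ f ∈ ({Q1 k, Q2 k, Q3 k, detM k} : Set (D k)),
        ∃ u, eval (pt0 t) u ≠ 0 ∧ u * f ∈ Ideal.span (Set.range g)) ∧
      (∀ j, g j - linf (pt0 t) (c j) ∈ Mpt (pt0 t) ^ 2) ∧
      (∀ j, c j (σ j) ≠ 0) ∧ (∀ j j', j' ≠ j → c j' (σ j) = 0) := by
  by_cases ht : t = 0
  · refine ⟨![Q2 k, Q3 k, Q1 k],
      ![Pi.single 3 1 + Pi.single 7 (-t), Pi.single 0 (-t) + Pi.single 8 (-1),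
        Pi.single 6 (-(1 + t))], ![3, 8, 6], ?_, ?_, ?_, ?_, ?_⟩
    · intro j
      fin_cases j <;> exact Ideal.subset_span (by simp)
    · rintro f (rfl | rfl | rfl | rfl)
      · exact ⟨1, by simp, by rw [one_mul]; exact Ideal.subset_span ⟨2, rfl⟩⟩
      · exact ⟨1, by simp, by rw [one_mul]; exact Ideal.subset_span ⟨0, rfl⟩⟩
      · exact ⟨1, by simp, by rw [one_mul]; exact Ideal.subset_span ⟨1, rfl⟩⟩
      · refine ⟨X 1 + X 5, by simp [pt0, ht], ?_⟩
        rw [mul_comm, hident]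
        exact Ideal.sub_mem _ (Ideal.add_mem _
          (Ideal.mul_mem_left _ _ (Ideal.subset_span ⟨2, rfl⟩))
          (Ideal.mul_mem_left _ _ (Ideal.subset_span ⟨0, rfl⟩)))
          (Ideal.mul_mem_left _ _ (Ideal.subset_span ⟨1, rfl⟩))
    · intro j
      fin_cases j
      · exact hQ2 t
      · exact hQ3 t
      · exact hQ1 t
    · intro j
      fin_cases j <;> simp [ht]
    · intro j j' hj
      fin_cases j <;> fin_cases j' <;> simp at hj ⊢
  · refine ⟨![Q2 k, Q3 k, detM k],
      ![Pi.single 3 1 + Pi.single 7 (-t), Pi.single 0 (-t) + Pi.single 8 (-1),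
        Pi.single 6 t], ![3, 8, 6], ?_, ?_, ?_, ?_, ?_⟩
    · intro j
      fin_cases j <;> exact Ideal.subset_span (by simp)
    · rintro f (rfl | rfl | rfl | rfl)
      · refine ⟨X 4 * X 2 - X 1 * X 5, by simp [pt0, ht], ?_⟩
        have e : (X 4 * X 2 - X 1 * X 5) * Q1 k =
            (X 1 + X 5) * detM k - (X 7 * X 2 + X 8 * X 5) * Q2 k
              + (X 7 * X 1 + X 8 * X 4) * Q3 k := by
          rw [mul_comm (X 1 + X 5) (detM k), hident]; ring
        rw [e]
        exact Ideal.add_mem _ (Ideal.sub_mem _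
          (Ideal.mul_mem_left _ _ (Ideal.subset_span ⟨2, rfl⟩))
          (Ideal.mul_mem_left _ _ (Ideal.subset_span ⟨0, rfl⟩)))
          (Ideal.mul_mem_left _ _ (Ideal.subset_span ⟨1, rfl⟩))
      · exact ⟨1, by simp, by rw [one_mul]; exact Ideal.subset_span ⟨0, rfl⟩⟩
      · exact ⟨1, by simp, by rw [one_mul]; exact Ideal.subset_span ⟨1, rfl⟩⟩
      · exact ⟨1, by simp, by rw [one_mul]; exact Ideal.subset_span ⟨2, rfl⟩⟩
    · intro j
      fin_cases j
      · exact hQ2 t
      · exact hQ3 t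
      · exact hdet t
    · intro j
      fin_cases j <;> simp [ht]
    · intro j j' hj
      fin_cases j <;> fin_cases j' <;> simp at hj ⊢

theorem local_result :
    IsRegularLocalRing (Rpt (pt0 t) ⧸ (idJ k).map (algebraMap (D k) (Rpt (pt0 t)))) ∧
      ringKrullDim (Rpt (pt0 t) ⧸ (idJ k).map (algebraMap (D k) (Rpt (pt0 t)))) = 6 := by
  obtain ⟨g, c, σ, hgJ, hT, hg, hdiag, hoff⟩ := exists_local_gens t
  have hgM : ∀ j, g j ∈ Mpt (pt0 t) := fun j => by
    have h1 := Ideal.pow_le_self two_ne_zero (hg j)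
    have h2 := Ideal.add_mem _ h1 (linf_mem (pt0 t) (c j))
    simpa using h2
  have hgm := fun j => algebraMap_mem_maximalIdeal (pt0 t) (hgM j)
  let x : Fin 3 → maximalIdeal (Rpt (pt0 t)) := fun j => ⟨algebraMap _ _ (g j), hgm j⟩
  have hli : LinearIndependent (ResidueField (Rpt (pt0 t)))
      (fun j => (maximalIdeal (Rpt (pt0 t))).toCotangent (x j)) :=
    li_of_pivots (pt0 t) g c σ hg hdiag hoff hgm
  have hJ : (idJ k).map (algebraMap (D k) (Rpt (pt0 t))) =
      Ideal.span (Set.range fun j => (x j : Rpt (pt0 t))) :=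
    map_eq_span_range (pt0 t) g _ hgJ hT
  haveI : IsLocalRing (Rpt (pt0 t) ⧸ (idJ k).map (algebraMap (D k) (Rpt (pt0 t)))) := by
    rw [hJ]; exact Groth.Agent.Lib.Helper5.isLocalRing_quotient_span_range x
  obtain ⟨hreg, hdim⟩ :=
    Groth.Agent.Lib.Helper5.isRegularLocalRing_quotient_of_linearIndependent' x hli _ hJ
  refine ⟨hreg, ?_⟩
  rw [dim_Rpt] at hdim
  obtain ⟨d, hd⟩ := Groth.Agent.Lib.Helper5.exists_nat_ringKrullDim_eq
    (Rpt (pt0 t) ⧸ (idJ k).map (algebraMap (D k) (Rpt (pt0 t))))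
  rw [hd] at hdim ⊢
  have h3 : d + 3 = 9 := by exact_mod_cast hdim
  have h6 : d = 6 := by omega
  rw [h6]; rfl

theorem main (P : Ideal (D k ⧸ idJ k)) [P.IsPrime]
    (hP : P = Ideal.map (Ideal.Quotient.mk (idJ k))
      (Ideal.span ({X 0, X 1 - 1, X 2, X 3, X 4, X 5 - C t, X 6, X 7, X 8} : Set (D k)))) :
    IsRegularLocalRing (Localization.AtPrime P) ∧ ringKrullDim (Localization.AtPrime P) = 6 := by
  obtain ⟨e⟩ := exists_equiv (idJ k) P (Mpt (pt0 t)) (comap_P t P hP)
  obtain ⟨hreg, hdim⟩ := local_result t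
  exact ⟨IsRegularLocalRing.of_ringEquiv e.symm, (ringKrullDim_eq_of_ringEquiv e).trans hdim⟩

end Lie3

end Groth.Agent.Lib.Helper24Lie3Smooth
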