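import Mathlib

/-!
# K-linear functors on finite-dimensional vector spaces (helper24)

A `K`-linear functor `L : FGModuleCat K ⥤ ModuleCat K` is isomorphic to `V ↦ L(K) ⊗ V`.
-/

set_option autoImplicit false
universe u
open CategoryTheory MonoidalCategory TensorProduct

namespace Groth.Agent.Lib.Helper24LinFun

section

variable (K : Type u) [Field K]

/-- The underlying linear map of a morphism of `FGModuleCat`, as a linear equivalence. -/
noncomputable def homEquivLin (V W : FGModuleCat.{u} K) : (V ⟶ W) ≃ₗ[K] (V →ₗ[K] W) :=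
  (InducedCategory.homLinearEquiv (X := V) (Y := W)).trans
    (ModuleCat.homLinearEquiv (S := K) (M := V.obj) (N := W.obj))

theorem homEquivLin_apply {V W : FGModuleCat.{u} K} (f : V ⟶ W) :
    homEquivLin K V W f = f.hom.hom := rfl

/-- The morphism `K ⟶ V`, `1 ↦ v`, linear in `v`. -/
noncomputable def fv (V : FGModuleCat.{u} K) : V →ₗ[K] (FGModuleCat.of K K ⟶ V) :=
  ((LinearMap.ringLmapEquivSelf K K V).symm.trans
    (homEquivLin K (FGModuleCat.of K K) V).symm).toLinearMap

theorem fv_hom_apply (V : FGModuleCat.{u} K) (v : V) (c : K) :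
    (fv K V v).hom.hom c = c • v := by
  have h : homEquivLin K (FGModuleCat.of K K) V (fv K V v) =
      (LinearMap.ringLmapEquivSelf K K V).symm v := by
    simp [fv]
  rw [homEquivLin_apply] at h
  rw [h]
  simp [LinearMap.ringLmapEquivSelf]

theorem fv_comp {V W : FGModuleCat.{u} K} (g : V ⟶ W) (v : V) :
    fv K V v ≫ g = fv K W (g.hom.hom v) := by
  apply FGModuleCat.hom_ext
  apply LinearMap.ext_ring
  show g.hom.hom ((fv K V v).hom.hom 1) = (fv K W (g.hom.hom v)).hom.hom 1
  rw [fv_hom_apply, fv_hom_apply, one_smul, one_smul]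

theorem fv_one : fv K (FGModuleCat.of K K) (1 : K) = 𝟙 _ := by
  apply FGModuleCat.hom_ext
  apply LinearMap.ext_ring
  rw [fv_hom_apply, one_smul]
  rfl

variable (L : FGModuleCat.{u} K ⥤ ModuleCat.{u} K) [L.Additive] [Functor.Linear K L]

/-- `v ↦ L(f_v)` as a linear map. -/
noncomputable def psi (V : FGModuleCat.{u} K) :
    V →ₗ[K] (L.obj (FGModuleCat.of K K) →ₗ[K] L.obj V) :=
  (ModuleCat.homLinearEquiv (S := K)).toLinearMap ∘ₗ (L.mapLinearMap K) ∘ₗ fv K V

theorem psi_apply (V : FGModuleCat.{u} K) (v : V) (x : L.obj (FGModuleCat.of K K)) :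
    psi K L V v x = (L.map (fv K V v)).hom x := rfl

theorem psi_comp {V W : FGModuleCat.{u} K} (g : V ⟶ W) (v : V)
    (x : L.obj (FGModuleCat.of K K)) :
    (L.map g).hom (psi K L V v x) = psi K L W (g.hom.hom v) x := by
  rw [psi_apply, psi_apply, ← fv_comp, L.map_comp]
  rfl

theorem psi_self_one (x : L.obj (FGModuleCat.of K K)) :
    psi K L (FGModuleCat.of K K) (1 : K) x = x := by
  rw [psi_apply, fv_one, L.map_id]
  rfl

theorem psi_self (c : K) (x : L.obj (FGModuleCat.of K K)) :
    psi K L (FGModuleCat.of K K) c x = c • x := by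
  calc psi K L (FGModuleCat.of K K) c x
      = psi K L (FGModuleCat.of K K) (c • (1 : K)) x := by rw [smul_eq_mul, mul_one]
    _ = c • psi K L (FGModuleCat.of K K) (1 : K) x := by
        rw [map_smul, LinearMap.smul_apply]
    _ = c • x := by rw [psi_self_one]

/-- The comparison map `L(K) ⊗ V → L(V)`. -/
noncomputable def eta (V : FGModuleCat.{u} K) :
    (L.obj (FGModuleCat.of K K) ⊗[K] V) →ₗ[K] L.obj V :=
  TensorProduct.lift (psi K L V).flip

theorem eta_tmul (V : FGModuleCat.{u} K) (x : L.obj (FGModuleCat.of K K)) (v : V) :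
    eta K L V (x ⊗ₜ[K] v) = psi K L V v x := by
  simp [eta]

/-- The inverse, built from a basis. -/
noncomputable def zeta (V : FGModuleCat.{u} K) :
    L.obj V →ₗ[K] (L.obj (FGModuleCat.of K K) ⊗[K] V) :=
  ∑ i, ((TensorProduct.mk K (L.obj (FGModuleCat.of K K)) V).flip (Module.finBasis K V i)) ∘ₗ
    (L.map ((homEquivLin K V (FGModuleCat.of K K)).symm ((Module.finBasis K V).coord i))).hom

theorem zeta_apply (V : FGModuleCat.{u} K) (y : L.obj V) :
    zeta K L V y = ∑ i, ((L.map ((homEquivLin K V (FGModuleCat.of K K)).symm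
      ((Module.finBasis K V).coord i))).hom y) ⊗ₜ[K] (Module.finBasis K V i) := by
  simp [zeta, LinearMap.sum_apply]

theorem sum_comp_eq_id (V : FGModuleCat.{u} K) :
    ∑ i, ((homEquivLin K V (FGModuleCat.of K K)).symm ((Module.finBasis K V).coord i) ≫
      fv K V (Module.finBasis K V i)) = 𝟙 V := by
  apply (homEquivLin K V V).injective
  rw [map_sum]
  apply LinearMap.ext
  intro v
  rw [LinearMap.sum_apply, homEquivLin_apply]
  have h : ∀ i, homEquivLin K V V ((homEquivLin K V (FGModuleCat.of K K)).symm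
      ((Module.finBasis K V).coord i) ≫ fv K V (Module.finBasis K V i)) v =
      (Module.finBasis K V).coord i v • Module.finBasis K V i := by
    intro i
    rw [homEquivLin_apply]
    show (fv K V (Module.finBasis K V i)).hom.hom
      (((homEquivLin K V (FGModuleCat.of K K)).symm ((Module.finBasis K V).coord i)).hom.hom v) = _
    rw [fv_hom_apply, ← homEquivLin_apply, LinearEquiv.apply_symm_apply]
  rw [Finset.sum_congr rfl (fun i _ => h i)]
  exact (Module.finBasis K V).sum_repr v

theorem eta_zeta (V : FGModuleCat.{u} K) (y : L.obj V) : eta K L V (zeta K L V y) = y := by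
  rw [zeta_apply, map_sum]
  have h : ∀ i, eta K L V (((L.map ((homEquivLin K V (FGModuleCat.of K K)).symm
      ((Module.finBasis K V).coord i))).hom y) ⊗ₜ[K] (Module.finBasis K V i)) =
      (L.map ((homEquivLin K V (FGModuleCat.of K K)).symm ((Module.finBasis K V).coord i) ≫
        fv K V (Module.finBasis K V i))).hom y := by
    intro i
    rw [eta_tmul, psi_apply, L.map_comp]
    rfl
  rw [Finset.sum_congr rfl (fun i _ => h i)]
  have h2 : (L.map (∑ i, ((homEquivLin K V (FGModuleCat.of K K)).symm
      ((Module.finBasis K V).coord i) ≫ fv K V (Module.finBasis K V i)))).hom y = y := by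
    rw [sum_comp_eq_id, L.map_id]
    rfl
  rw [Functor.map_sum, ModuleCat.hom_sum, LinearMap.sum_apply] at h2
  exact h2

theorem zeta_eta (V : FGModuleCat.{u} K) (t : L.obj (FGModuleCat.of K K) ⊗[K] V) :
    zeta K L V (eta K L V t) = t := by
  induction t using TensorProduct.induction_on with
  | zero => rw [map_zero, map_zero]
  | add a b ha hb => rw [map_add, map_add, ha, hb]
  | tmul x v =>
    rw [eta_tmul, zeta_apply]
    have h : ∀ i, ((L.map ((homEquivLin K V (FGModuleCat.of K K)).symm
        ((Module.finBasis K V).coord i))).hom (psi K L V v x)) ⊗ₜ[K] (Module.finBasis K V i) =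
        x ⊗ₜ[K] ((Module.finBasis K V).coord i v • Module.finBasis K V i) := by
      intro i
      rw [psi_comp, ← homEquivLin_apply, LinearEquiv.apply_symm_apply, psi_self,
        TensorProduct.smul_tmul]
    rw [Finset.sum_congr rfl (fun i _ => h i), ← TensorProduct.tmul_sum]
    congr 1
    exact (Module.finBasis K V).sum_repr v

/-- The comparison map is a linear equivalence. -/
noncomputable def etaEquiv (V : FGModuleCat.{u} K) :
    (L.obj (FGModuleCat.of K K) ⊗[K] V) ≃ₗ[K] L.obj V :=
  LinearEquiv.ofLinear (eta K L V) (zeta K L V)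
    (LinearMap.ext (eta_zeta K L V)) (LinearMap.ext (zeta_eta K L V))

end

theorem s12754 (K : Type u) [Field K]
    (L : FGModuleCat.{u} K ⥤ ModuleCat.{u} K) [L.Additive] [Functor.Linear K L] :
    Nonempty (L ≅ (ModuleCat.isFG.{u} K).ι ⋙ MonoidalCategory.tensorLeft (L.obj (FGModuleCat.of K K))) := by
  refine ⟨(NatIso.ofComponents (fun V => (etaEquiv K L V).toModuleIso) ?_).symm⟩
  intro V W g
  apply ModuleCat.hom_ext
  refine TensorProduct.ext' (fun x v => ?_)
  show eta K L W (x ⊗ₜ[K] (g.hom.hom v)) = (L.map g).hom (eta K L V (x ⊗ₜ[K] v))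
  rw [eta_tmul, eta_tmul, psi_comp]

end Groth.Agent.Lib.Helper24LinFun
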