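import Mathlib
import Groth.Agent.Lib.Helper3HenselM

set_option autoImplicit false
universe u

open IsLocalRing TensorProduct Polynomial

namespace Groth.Agent.Lib.Helper24LocEt

theorem exists_local_finite_etale (A : Type u) [CommRing A] [IsLocalRing A] (l : Type u) [Field l]
    [Algebra (ResidueField A) l] [FiniteDimensional (ResidueField A) l]
    [Algebra.IsSeparable (ResidueField A) l] :
    ∃ (E : Type u) (_ : CommRing E) (_ : IsLocalRing E) (_ : Algebra A E)
      (_ : IsLocalHom (algebraMap A E)),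
      Module.Finite A E ∧ Algebra.Etale A E ∧
        Nonempty (ResidueField E ≃ₐ[ResidueField A] l) := by
  obtain ⟨p, hpm, hpe, ⟨e⟩⟩ := Groth.Agent.Lib.Helper3.Hensel.exists_lift_of_separable (R := A) l
  have hfin : Module.Finite A (AdjoinRoot p) := hpm.finite_adjoinRoot
  have hint : Algebra.IsIntegral A (AdjoinRoot p) := Algebra.IsIntegral.of_finite A _
  set E := AdjoinRoot p
  set M : Ideal E := (maximalIdeal A).map (algebraMap A E) with hM
  -- κ ⊗ E is a field
  have hfield : IsField (ResidueField A ⊗[A] E) := e.toMulEquiv.isField (Field.toIsField l)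
  -- E ⧸ M ≃ E ⊗ κ
  have e2 : (E ⧸ M) ≃+* (E ⊗[A] (A ⧸ maximalIdeal A)) :=
    (Algebra.TensorProduct.quotIdealMapEquivTensorQuot E (maximalIdeal A)).toRingEquiv
  have e3 : (E ⊗[A] (A ⧸ maximalIdeal A)) ≃+* (ResidueField A ⊗[A] E) :=
    (Algebra.TensorProduct.comm A E (A ⧸ maximalIdeal A)).toRingEquiv
  have hfieldM : IsField (E ⧸ M) := (e2.trans e3).toMulEquiv.isField hfield
  have hMmax : M.IsMaximal := Ideal.Quotient.maximal_of_isField M hfieldM
  have huniq : ∀ N : Ideal E, N.IsMaximal → N = M := by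
    intro N hN
    have h1 : (N.comap (algebraMap A E)).IsMaximal :=
      Ideal.isMaximal_comap_of_isIntegral_of_isMaximal N
    have h2 : N.comap (algebraMap A E) = maximalIdeal A := IsLocalRing.eq_maximalIdeal h1
    have h3 : M ≤ N := by
      rw [hM, Ideal.map_le_iff_le_comap, h2]
    exact (hMmax.eq_of_le hN.ne_top h3).symm
  have hloc : IsLocalRing E := IsLocalRing.of_unique_max_ideal ⟨M, hMmax, huniq⟩
  have hmaxE : maximalIdeal E = M := huniq _ (maximalIdeal.isMaximal E)
  have hlochom : IsLocalHom (algebraMap A E) := by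
    refine ⟨fun a ha => ?_⟩
    by_contra hna
    have h1 : a ∈ maximalIdeal A := (IsLocalRing.mem_maximalIdeal a).mpr hna
    have h2 : algebraMap A E a ∈ M := Ideal.mem_map_of_mem _ h1
    rw [← hmaxE] at h2
    exact (IsLocalRing.mem_maximalIdeal _).mp h2 ha
  refine ⟨E, inferInstance, hloc, inferInstance, hlochom, hfin, hpe, ?_⟩
  let ψ : ResidueField A ⊗[A] E →ₐ[ResidueField A] ResidueField E :=
    Algebra.TensorProduct.lift (Algebra.ofId (ResidueField A) (ResidueField E))
      (IsScalarTower.toAlgHom A E (ResidueField E)) (fun _ _ => Commute.all _ _)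
  have hψinj : Function.Injective ψ := by
    have h1 : Function.Injective (ψ.comp e.symm.toAlgHom) :=
      (ψ.comp e.symm.toAlgHom).toRingHom.injective
    intro x y hxy
    apply e.injective
    apply h1
    simpa using hxy
  have hψsurj : Function.Surjective ψ := by
    intro y
    obtain ⟨x, rfl⟩ := IsLocalRing.residue_surjective y
    refine ⟨1 ⊗ₜ x, ?_⟩
    simp [ψ]
  exact ⟨(AlgEquiv.ofBijective ψ ⟨hψinj, hψsurj⟩).symm.trans e⟩

end Groth.Agent.Lib.Helper24LocEt
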