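import Mathlib
import Groth.Prelude.Def_DeRham
import Groth.Prelude.Def_LogDiff

set_option autoImplicit false

namespace Groth.Agent.Lib.Helper24LogC

universe u

open MvPolynomial

section Basis

variable {R : Type u} [CommRing R] {n r : ℕ} (hr : r ≤ n)
  {L : Type u} [AddCommGroup L] [Module (MvPolynomial (Fin n) R) L]
  (ι : (Ω[MvPolynomial (Fin n) R⁄R]) →ₗ[MvPolynomial (Fin n) R] L) (dl : Fin r → L)

/-- the candidate basis vectors: `dlog t_ν` for `ν < r`, `d t_ν` for `ν ≥ r` -/
noncomputable def uvec (ν : Fin n) : L :=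
  if h : (ν : ℕ) < r then dl ⟨ν, h⟩
  else ι (KaehlerDifferential.D R (MvPolynomial (Fin n) R) (X ν))

/-- `t_ν` for `ν < r`, `1` otherwise -/
noncomputable def tauL (R : Type u) [CommRing R] {n : ℕ} (r : ℕ) (ν : Fin n) :
    MvPolynomial (Fin n) R :=
  if (ν : ℕ) < r then X ν else 1

/-- `1` for `ν < r`, `t_ν` otherwise -/
noncomputable def tauR (R : Type u) [CommRing R] {n : ℕ} (r : ℕ) (ν : Fin n) :
    MvPolynomial (Fin n) R :=
  if (ν : ℕ) < r then 1 else X ν

variable {ι dl}
variable (hL : LogDiff.IsLog (KaehlerDifferential.D R (MvPolynomial (Fin n) R))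
      (fun i : Fin r => (X (Fin.castLE hr i) : MvPolynomial (Fin n) R)) ι dl)

include hL

theorem tauL_smul_uvec (ν : Fin n) :
    tauL R r ν • uvec ι dl ν = ι (KaehlerDifferential.D R (MvPolynomial (Fin n) R) (X ν)) := by
  unfold tauL uvec
  by_cases h : (ν : ℕ) < r
  · rw [if_pos h, dif_pos h]
    have := hL.1 ⟨ν, h⟩
    have e : Fin.castLE hr ⟨ν, h⟩ = ν := Fin.ext rfl
    simp only [e] at this
    exact this
  · rw [if_neg h, dif_neg h, one_smul]

theorem iota_D_eq (b : MvPolynomial (Fin n) R) :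
    ι (KaehlerDifferential.D R (MvPolynomial (Fin n) R) b) =
      ∑ ν, (pderiv ν b * tauL R r ν) • uvec ι dl ν := by
  have h1 : KaehlerDifferential.D R (MvPolynomial (Fin n) R) b =
      ∑ ν, pderiv ν b • KaehlerDifferential.D R (MvPolynomial (Fin n) R) (X ν) := by
    have := (KaehlerDifferential.mvPolynomialBasis R (Fin n)).sum_repr
      (KaehlerDifferential.D R (MvPolynomial (Fin n) R) b)
    rw [← this]
    refine Finset.sum_congr rfl fun ν _ => ?_
    rw [KaehlerDifferential.mvPolynomialBasis_repr_apply,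
      KaehlerDifferential.mvPolynomialBasis_apply]
  rw [h1, map_sum]
  refine Finset.sum_congr rfl fun ν _ => ?_
  rw [map_smul, ← tauL_smul_uvec hr hL ν, smul_smul]

theorem span_uvec : Submodule.span (MvPolynomial (Fin n) R) (Set.range (uvec ι dl)) = ⊤ := by
  rw [eq_top_iff, ← hL.2.1, Submodule.span_le]
  rintro x (⟨ω, rfl⟩ | ⟨i, rfl⟩)
  · obtain ⟨c, rfl⟩ : ∃ c : Fin n → MvPolynomial (Fin n) R,
        ω = ∑ ν, c ν • KaehlerDifferential.D R (MvPolynomial (Fin n) R) (X ν) := by
      refine ⟨fun ν => (KaehlerDifferential.mvPolynomialBasis R (Fin n)).repr ω ν, ?_⟩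
      have := (KaehlerDifferential.mvPolynomialBasis R (Fin n)).sum_repr ω
      rw [← this]
      refine Finset.sum_congr rfl fun ν _ => ?_
      rw [KaehlerDifferential.mvPolynomialBasis_apply, this]
    rw [map_sum]
    refine Submodule.sum_mem _ fun ν _ => ?_
    rw [map_smul, ← tauL_smul_uvec hr hL ν, smul_smul]
    exact Submodule.smul_mem _ _ (Submodule.subset_span ⟨ν, rfl⟩)
  · refine Submodule.subset_span ⟨Fin.castLE hr i, ?_⟩
    unfold uvec
    have h : ((Fin.castLE hr i : Fin n) : ℕ) < r := i.2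
    rw [dif_pos h]
    congr 1

theorem linearIndependent_uvec : LinearIndependent (MvPolynomial (Fin n) R) (uvec ι dl) := by
  classical
  rw [Fintype.linearIndependent_iff]
  intro c hc ν₀
  set T : MvPolynomial (Fin n) R := ∏ i : Fin r, X (Fin.castLE hr i) with hT
  -- cofactors
  have hcof : ∀ ν : Fin n, ∃ T' : MvPolynomial (Fin n) R, IsRegular T' ∧ T = tauL R r ν * T' := by
    intro ν
    unfold tauL
    by_cases h : (ν : ℕ) < r
    · rw [if_pos h]
      refine ⟨∏ i ∈ Finset.univ.erase (⟨ν, h⟩ : Fin r), X (Fin.castLE hr i), ?_, ?_⟩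
      · exact IsRegular.prod fun _ _ => isRegular_X
      · rw [hT, ← Finset.mul_prod_erase Finset.univ _ (Finset.mem_univ (⟨ν, h⟩ : Fin r))]
        congr 2
    · rw [if_neg h]
      exact ⟨T, IsRegular.prod fun _ _ => isRegular_X, (one_mul T).symm⟩
  choose T' hT'reg hT' using hcof
  have h1 : ι (∑ ν, (c ν * T' ν) • KaehlerDifferential.D R (MvPolynomial (Fin n) R) (X ν)) = 0 := by
    rw [map_sum]
    have : ∀ ν, ι ((c ν * T' ν) • KaehlerDifferential.D R (MvPolynomial (Fin n) R) (X ν)) =
        T • (c ν • uvec ι dl ν) := by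
      intro ν
      rw [map_smul, ← tauL_smul_uvec hr hL ν, smul_smul, smul_smul, hT' ν]
      congr 1; ring
    simp only [this]
    rw [← Finset.smul_sum, hc, smul_zero]
  obtain ⟨k, hk⟩ := (hL.2.2.2 _).mp h1
  have h2 := congrArg (fun ω => (KaehlerDifferential.mvPolynomialBasis R (Fin n)).repr ω ν₀) hk
  simp only [map_smul, map_sum, Finsupp.smul_apply, Finsupp.coe_finset_sum, Finset.sum_apply,
    map_zero, Finsupp.zero_apply, KaehlerDifferential.mvPolynomialBasis_repr_D_X,
    Finsupp.single_apply, smul_eq_mul, mul_ite, mul_one, mul_zero, Finset.sum_ite_eq',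
    Finset.mem_univ, if_true] at h2
  have hreg : IsRegular (T ^ k) := (IsRegular.prod fun _ _ => isRegular_X).pow k
  have h3 : c ν₀ * T' ν₀ = 0 := hreg.left (by
    change T ^ k * (c ν₀ * T' ν₀) = T ^ k * 0
    rw [mul_zero]; exact h2)
  exact (hT'reg ν₀).right (by
    change c ν₀ * T' ν₀ = 0 * T' ν₀
    rw [zero_mul]; exact h3)

/-- the basis of the module of log differentials -/
noncomputable def basisL : Module.Basis (Fin n) (MvPolynomial (Fin n) R) L :=
  Module.Basis.mk (linearIndependent_uvec hr hL) (span_uvec hr hL).ge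

theorem basisL_apply (ν : Fin n) : basisL hr hL ν = uvec ι dl ν := by
  unfold basisL
  rw [Module.Basis.mk_apply]

end Basis

end Groth.Agent.Lib.Helper24LogC
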