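import Mathlib

set_option autoImplicit false

namespace Groth.Agent.Lib.Helper24LogC

universe u v

open ExteriorAlgebra

section Ext

variable {B : Type u} [CommRing B] {L : Type v} [AddCommGroup L] [Module B L] {n : ℕ}
  (bL : Module.Basis (Fin n) B L)

/-- wedge of basis vectors along `f` -/
noncomputable def W {q : ℕ} (f : Fin q → Fin n) : ExteriorAlgebra B L :=
  ExteriorAlgebra.ιMulti B q (fun j => bL (f j))

theorem W_cons {q : ℕ} (ν : Fin n) (f : Fin q → Fin n) :
    W bL (Fin.cons ν f : Fin (q + 1) → Fin n) = ι B (bL ν) * W bL f := by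
  unfold W
  rw [ExteriorAlgebra.ιMulti_succ_apply]
  congr 1

theorem W_zero (f : Fin 0 → Fin n) : W bL f = 1 := by
  unfold W
  rw [ExteriorAlgebra.ιMulti_zero_apply]

theorem ι_mul_W_of_mem {q : ℕ} (ν : Fin n) (f : Fin q → Fin n) (h : ν ∈ Set.range f) :
    ι B (bL ν) * W bL f = 0 := by
  obtain ⟨j, hj⟩ := h
  rw [← W_cons]
  unfold W
  refine AlternatingMap.map_eq_zero_of_eq _ _ (i := 0) (j := j.succ) ?_ (Fin.succ_ne_zero j).symm
  simp only [Fin.cons_zero, Fin.cons_succ, hj]

/-- contraction with the dual basis vector -/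
noncomputable def ctr (ν : Fin n) : ExteriorAlgebra B L →ₗ[B] ExteriorAlgebra B L :=
  CliffordAlgebra.contractLeft (Q := (0 : QuadraticForm B L)) (bL.coord ν)

theorem ctr_ι_mul (ν μ : Fin n) (x : ExteriorAlgebra B L) :
    ctr bL ν (ι B (bL μ) * x) = (if μ = ν then x else 0) - ι B (bL μ) * ctr bL ν x := by
  unfold ctr
  rw [show ι B (bL μ) = CliffordAlgebra.ι (0 : QuadraticForm B L) (bL μ) from rfl,
    CliffordAlgebra.contractLeft_ι_mul]
  congr 1
  rw [Module.Basis.coord_apply, Module.Basis.repr_self, Finsupp.single_apply]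
  split_ifs with h
  · rw [one_smul]
  · rw [zero_smul]

theorem ctr_one (ν : Fin n) : ctr bL ν (1 : ExteriorAlgebra B L) = 0 := by
  unfold ctr
  exact CliffordAlgebra.contractLeft_one (Q := (0 : QuadraticForm B L)) (bL.coord ν)

theorem ctr_W_of_notMem {q : ℕ} (ν : Fin n) (f : Fin q → Fin n) (h : ν ∉ Set.range f) :
    ctr bL ν (W bL f) = 0 := by
  induction q with
  | zero => rw [W_zero, ctr_one]
  | succ q ih =>
    obtain ⟨μ, g, rfl⟩ : ∃ μ g, f = Fin.cons μ g := ⟨f 0, Fin.tail f, (Fin.cons_self_tail f).symm⟩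
    have hμ : μ ≠ ν := by
      intro e
      exact h ⟨0, by rw [Fin.cons_zero, e]⟩
    have hg : ν ∉ Set.range g := by
      rintro ⟨j, hj⟩
      exact h ⟨j.succ, by rw [Fin.cons_succ, hj]⟩
    rw [W_cons, ctr_ι_mul, if_neg hμ, ih g hg, mul_zero, sub_zero]

end Ext

end Groth.Agent.Lib.Helper24LogC
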