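import Mathlib

set_option autoImplicit false

namespace Groth.Agent.Lib.Helper24LogC

universe u

open ExteriorAlgebra

section Tot

variable {R : Type u} [CommRing R] {B : Type u} [CommRing B] [Algebra R B]
  {L : Type u} [AddCommGroup L] [Module B L] [Module R L] [IsScalarTower R B L]
  (d : ∀ q : ℕ, ↥(⋀[B]^q L) →ₗ[R] ↥(⋀[B]^(q + 1) L))

/-- the total differential on the exterior algebra -/
noncomputable def Dtot : ExteriorAlgebra B L →ₗ[R] ExteriorAlgebra B L :=
  (DirectSum.toModule R ℕ (ExteriorAlgebra B L)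
      (fun q => ((⋀[B]^(q + 1) L).subtype.restrictScalars R) ∘ₗ d q)) ∘ₗ
    ((DirectSum.decomposeLinearEquiv (fun q => ⋀[B]^q L)).toLinearMap.restrictScalars R)

theorem Dtot_of_mem {q : ℕ} (x : ExteriorAlgebra B L) (hx : x ∈ ⋀[B]^q L) :
    Dtot d x = (d q ⟨x, hx⟩ : ExteriorAlgebra B L) := by
  unfold Dtot
  rw [LinearMap.comp_apply]
  have h1 : ((DirectSum.decomposeLinearEquiv (fun q => ⋀[B]^q L)).toLinearMap.restrictScalars R) x =
      DirectSum.lof R ℕ (fun q => ↥(⋀[B]^q L)) q ⟨x, hx⟩ :=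
    DirectSum.decompose_of_mem (ℳ := fun q => ⋀[B]^q L) hx
  rw [h1, DirectSum.toModule_lof]
  rfl

theorem Dtot_mem {q : ℕ} (x : ExteriorAlgebra B L) (hx : x ∈ ⋀[B]^q L) :
    Dtot d x ∈ ⋀[B]^(q + 1) L := by
  rw [Dtot_of_mem d x hx]
  exact (d q ⟨x, hx⟩).2

theorem Dtot_sq (hdd : ∀ q, d (q + 1) ∘ₗ d q = 0) (x : ExteriorAlgebra B L) :
    Dtot d (Dtot d x) = 0 := by
  induction x using DirectSum.Decomposition.inductionOn (fun q => ⋀[B]^q L) with
  | zero => simp
  | @homogeneous q m =>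
    rw [Dtot_of_mem d (m : ExteriorAlgebra B L) m.2, Dtot_of_mem d _ (d q ⟨m, m.2⟩).2]
    have := LinearMap.congr_fun (hdd q) ⟨m, m.2⟩
    simp only [LinearMap.comp_apply, LinearMap.zero_apply] at this
    rw [Subtype.coe_eta, this]
    rfl
  | add x y hx hy => rw [map_add, map_add, hx, hy, add_zero]

end Tot

end Groth.Agent.Lib.Helper24LogC
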