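import Mathlib
import Groth.Agent.Lib.Helper24LogCa
import Groth.Agent.Lib.Helper24LogCb
import Groth.Agent.Lib.Helper24LogCc

set_option autoImplicit false

namespace Groth.Agent.Lib.Helper24LogC

universe u

open MvPolynomial ExteriorAlgebra

section Cartan

variable {R : Type u} [CommRing R] {n r : ℕ} (hr : r ≤ n)
  {L : Type u} [AddCommGroup L] [Module (MvPolynomial (Fin n) R) L] [Module R L]
  [IsScalarTower R (MvPolynomial (Fin n) R) L]
  {ι : (Ω[MvPolynomial (Fin n) R⁄R]) →ₗ[MvPolynomial (Fin n) R] L} {dl : Fin r → L}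
  (hL : LogDiff.IsLog (KaehlerDifferential.D R (MvPolynomial (Fin n) R))
      (fun i : Fin r => (X (Fin.castLE hr i) : MvPolynomial (Fin n) R)) ι dl)
  (d : ∀ q : ℕ, ↥(⋀[MvPolynomial (Fin n) R]^q L) →ₗ[R] ↥(⋀[MvPolynomial (Fin n) R]^(q + 1) L))
  (hlog : LogDiff.IsLogRule (KaehlerDifferential.D R (MvPolynomial (Fin n) R)) ι dl d)

/-- `ι ∘ δ` -/
noncomputable def dB (ι : (Ω[MvPolynomial (Fin n) R⁄R]) →ₗ[MvPolynomial (Fin n) R] L)
    (b : MvPolynomial (Fin n) R) : L :=
  ι (KaehlerDifferential.D R (MvPolynomial (Fin n) R) b)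

include hlog in
theorem Dtot_smul_W {q : ℕ} (b : MvPolynomial (Fin n) R) (f : Fin q → Fin n) :
    Dtot d (b • W (basisL hr hL) f) =
      ExteriorAlgebra.ι (MvPolynomial (Fin n) R) (dB ι b) * W (basisL hr hL) f := by
  set e : Fin q → L := fun j => basisL hr hL (f j) with he
  have hW : W (basisL hr hL) f =
      ((exteriorPower.ιMulti (MvPolynomial (Fin n) R) q e :
        ↥(⋀[MvPolynomial (Fin n) R]^q L)) : ExteriorAlgebra (MvPolynomial (Fin n) R) L) := rfl
  have hmem : b • W (basisL hr hL) f ∈ ⋀[MvPolynomial (Fin n) R]^q L := by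
    rw [hW]
    exact Submodule.smul_mem _ _ (Subtype.property _)
  rw [Dtot_of_mem d _ hmem]
  have h1 : (⟨b • W (basisL hr hL) f, hmem⟩ : ↥(⋀[MvPolynomial (Fin n) R]^q L)) =
      b • exteriorPower.ιMulti (MvPolynomial (Fin n) R) q e := Subtype.ext rfl
  rw [h1, hlog q b e ?_]
  · rw [exteriorPower.ιMulti_apply_coe, ExteriorAlgebra.ιMulti_succ_apply]
    rfl
  · intro k
    simp only [he, basisL_apply]
    unfold uvec
    by_cases h : ((f k : Fin n) : ℕ) < r
    · rw [dif_pos h]
      exact Or.inr ⟨_, rfl⟩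
    · rw [dif_neg h]
      exact Or.inl ⟨_, rfl⟩

/-- the `R`-span of the wedges of basis vectors ("constant forms") -/
noncomputable def Const : Submodule R (ExteriorAlgebra (MvPolynomial (Fin n) R) L) :=
  Submodule.span R {x | ∃ (q : ℕ) (f : Fin q → Fin n), x = W (basisL hr hL) f}

include hlog in
theorem Dtot_smul_const (b : MvPolynomial (Fin n) R)
    (y : ExteriorAlgebra (MvPolynomial (Fin n) R) L) (hy : y ∈ Const hr hL) :
    Dtot d (b • y) = ExteriorAlgebra.ι (MvPolynomial (Fin n) R) (dB ι b) * y := by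
  unfold Const at hy
  induction hy using Submodule.span_induction with
  | mem x hx =>
    obtain ⟨q, f, rfl⟩ := hx
    exact Dtot_smul_W hr hL d hlog b f
  | zero => simp
  | add x y _ _ hx hy => rw [smul_add, map_add, hx, hy, mul_add]
  | smul c x _ hx => rw [smul_comm, map_smul, hx, mul_smul_comm]

theorem ι_mul_mem_const (μ : Fin n) (y : ExteriorAlgebra (MvPolynomial (Fin n) R) L)
    (hy : y ∈ Const hr hL) :
    ExteriorAlgebra.ι (MvPolynomial (Fin n) R) (basisL hr hL μ) * y ∈ Const hr hL := by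
  unfold Const at hy ⊢
  induction hy using Submodule.span_induction with
  | mem x hx =>
    obtain ⟨q, f, rfl⟩ := hx
    rw [← W_cons]
    exact Submodule.subset_span ⟨q + 1, _, rfl⟩
  | zero => rw [mul_zero]; exact Submodule.zero_mem _
  | add x y _ _ hx hy => rw [mul_add]; exact Submodule.add_mem _ hx hy
  | smul c x _ hx => rw [mul_smul_comm]; exact Submodule.smul_mem _ _ hx

theorem ctr_smul_R (ν : Fin n) (c : R) (y : ExteriorAlgebra (MvPolynomial (Fin n) R) L) :
    ctr (basisL hr hL) ν (c • y) = c • ctr (basisL hr hL) ν y :=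
  LinearMap.map_smul_of_tower _ c y

theorem ctr_W_mem_const (ν : Fin n) {q : ℕ} (f : Fin q → Fin n) :
    ctr (basisL hr hL) ν (W (basisL hr hL) f) ∈ Const hr hL := by
  induction q with
  | zero => rw [W_zero, ctr_one]; exact Submodule.zero_mem _
  | succ q ih =>
    obtain ⟨μ, g, rfl⟩ : ∃ μ g, f = Fin.cons μ g := ⟨f 0, Fin.tail f, (Fin.cons_self_tail f).symm⟩
    rw [W_cons, ctr_ι_mul]
    refine Submodule.sub_mem _ ?_ (ι_mul_mem_const hr hL μ _ (ih g))
    split_ifs
    · exact Submodule.subset_span ⟨q, g, rfl⟩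
    · exact Submodule.zero_mem _

theorem ctr_mem_const (ν : Fin n) (y : ExteriorAlgebra (MvPolynomial (Fin n) R) L)
    (hy : y ∈ Const hr hL) : ctr (basisL hr hL) ν y ∈ Const hr hL := by
  unfold Const at hy
  induction hy using Submodule.span_induction with
  | mem x hx =>
    obtain ⟨q, f, rfl⟩ := hx
    exact ctr_W_mem_const hr hL ν f
  | zero => rw [map_zero]; exact Submodule.zero_mem _
  | add x y _ _ hx hy => rw [map_add]; exact Submodule.add_mem _ hx hy
  | smul c x _ hx => rw [ctr_smul_R]; exact Submodule.smul_mem _ _ hx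


theorem ctr_ι_mul' (ν : Fin n) (v : L) (x : ExteriorAlgebra (MvPolynomial (Fin n) R) L) :
    ctr (basisL hr hL) ν (ExteriorAlgebra.ι (MvPolynomial (Fin n) R) v * x) =
      (basisL hr hL).coord ν v • x -
        ExteriorAlgebra.ι (MvPolynomial (Fin n) R) v * ctr (basisL hr hL) ν x := by
  unfold ctr
  rw [show ExteriorAlgebra.ι (MvPolynomial (Fin n) R) v =
    CliffordAlgebra.ι (0 : QuadraticForm (MvPolynomial (Fin n) R) L) v from rfl,
    CliffordAlgebra.contractLeft_ι_mul]

theorem coord_dB (ν : Fin n) (b : MvPolynomial (Fin n) R) :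
    (basisL hr hL).coord ν (dB ι b) = pderiv ν b * tauL R r ν := by
  unfold dB
  rw [iota_D_eq hr hL b, map_sum]
  simp only [map_smul, ← basisL_apply hr hL, Module.Basis.coord_apply, Module.Basis.repr_self,
    Finsupp.single_apply, smul_eq_mul, mul_ite, mul_one, mul_zero, Finset.sum_ite_eq',
    Finset.mem_univ, if_true]

theorem tauR_mul_tauL (ν : Fin n) : tauR R r ν * tauL R r ν = X ν := by
  unfold tauR tauL
  split_ifs
  · rw [one_mul]
  · rw [mul_one]

theorem dB_mul (b c : MvPolynomial (Fin n) R) : dB ι (b * c) = b • dB ι c + c • dB ι b := by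
  unfold dB
  rw [Derivation.leibniz, map_add, map_smul, map_smul]

theorem dB_tauR (ν : Fin n) :
    dB ι (tauR R r ν) = if (ν : ℕ) < r then 0 else basisL hr hL ν := by
  unfold dB tauR
  split_ifs with h
  · rw [Derivation.map_one_eq_zero, map_zero]
  · rw [basisL_apply]
    unfold uvec
    rw [dif_neg h]

/-- interior product with the vector field `t_ν ∂_ν` (for `ν < r` read through `dlog t_ν`) -/
noncomputable def Iop (ν : Fin n) : ExteriorAlgebra (MvPolynomial (Fin n) R) L →ₗ[MvPolynomial (Fin n) R]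
    ExteriorAlgebra (MvPolynomial (Fin n) R) L :=
  tauR R r ν • ctr (basisL hr hL) ν

/-- the Lie derivative along `t_ν ∂_ν`, by Cartan's formula -/
noncomputable def Lie (ν : Fin n) : ExteriorAlgebra (MvPolynomial (Fin n) R) L →ₗ[R]
    ExteriorAlgebra (MvPolynomial (Fin n) R) L :=
  Dtot d ∘ₗ (Iop hr hL ν).restrictScalars R + (Iop hr hL ν).restrictScalars R ∘ₗ Dtot d

theorem ι_mul_ctr_W (ν : Fin n) {q : ℕ} (f : Fin q → Fin n) :
    ExteriorAlgebra.ι (MvPolynomial (Fin n) R) (basisL hr hL ν) *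
        ctr (basisL hr hL) ν (W (basisL hr hL) f) =
      if ν ∈ Set.range f then W (basisL hr hL) f else 0 := by
  split_ifs with h
  · have h1 := ctr_ι_mul (basisL hr hL) ν ν (W (basisL hr hL) f)
    rw [ι_mul_W_of_mem _ ν f h, map_zero, if_pos rfl] at h1
    exact (sub_eq_zero.mp h1.symm).symm
  · rw [ctr_W_of_notMem _ ν f h, mul_zero]

include hlog in
theorem Lie_smul_W (ν : Fin n) (b : MvPolynomial (Fin n) R) {q : ℕ} (f : Fin q → Fin n) :
    Lie hr hL d ν (b • W (basisL hr hL) f) =
      (X ν * pderiv ν b + (if r ≤ (ν : ℕ) ∧ ν ∈ Set.range f then b else 0)) •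
        W (basisL hr hL) f := by
  set y := ctr (basisL hr hL) ν (W (basisL hr hL) f) with hy
  have hyc : y ∈ Const hr hL := ctr_W_mem_const hr hL ν f
  unfold Lie
  rw [LinearMap.add_apply, LinearMap.comp_apply, LinearMap.comp_apply,
    LinearMap.restrictScalars_apply, LinearMap.restrictScalars_apply]
  -- first term
  have h1 : Iop hr hL ν (b • W (basisL hr hL) f) = (tauR R r ν * b) • y := by
    unfold Iop
    rw [LinearMap.smul_apply, map_smul, smul_smul]
  rw [h1, Dtot_smul_const hr hL d hlog _ y hyc, dB_mul]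
  -- second term
  rw [Dtot_smul_W hr hL d hlog b f]
  have h2 : Iop hr hL ν (ExteriorAlgebra.ι (MvPolynomial (Fin n) R) (dB ι b) * W (basisL hr hL) f) =
      tauR R r ν • ((pderiv ν b * tauL R r ν) • W (basisL hr hL) f -
        ExteriorAlgebra.ι (MvPolynomial (Fin n) R) (dB ι b) * y) := by
    unfold Iop
    rw [LinearMap.smul_apply, ctr_ι_mul', coord_dB]
  rw [h2, map_add, map_smul, map_smul, add_mul, smul_mul_assoc, smul_mul_assoc, dB_tauR hr hL ν]
  have h3 : tauR R r ν • (pderiv ν b * tauL R r ν) • W (basisL hr hL) f =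
      (X ν * pderiv ν b) • W (basisL hr hL) f := by
    rw [smul_smul, ← tauR_mul_tauL (R := R) (r := r) ν]
    congr 1; ring
  rw [smul_sub, h3, add_smul]
  by_cases hν : (ν : ℕ) < r
  · rw [if_pos hν, map_zero, zero_mul, smul_zero, add_zero, if_neg (by omega), zero_smul, add_zero]
    abel
  · rw [if_neg hν, ι_mul_ctr_W]
    by_cases hf : ν ∈ Set.range f
    · rw [if_pos hf, if_pos ⟨by omega, hf⟩]
      abel
    · rw [if_neg hf, if_neg (fun h => hf h.2), smul_zero, zero_smul]
      abel

end Cartan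

end Groth.Agent.Lib.Helper24LogC
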