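import Mathlib

set_option autoImplicit false

namespace Groth.Agent.Lib.Helper24LogC

section Alg

variable {A : Type*} [Ring A] (D : A) {n : ℕ} (I : Fin n → A) (p : ℕ)

/-- Cartan's formula -/
def Lop (ν : Fin n) : A := D * I ν + I ν * D

variable (hD : D * D = 0)
include hD

theorem D_Lop (ν : Fin n) : D * Lop D I ν = Lop D I ν * D := by
  unfold Lop
  rw [mul_add, add_mul, ← mul_assoc, hD, zero_mul, zero_add, mul_assoc (I ν) D D, hD, mul_zero,
    add_zero, mul_assoc]

theorem D_Lop_pow (ν : Fin n) (k : ℕ) : D * Lop D I ν ^ k = Lop D I ν ^ k * D := by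
  have h : Commute D (Lop D I ν) := D_Lop D I hD ν
  exact (h.pow_right k)

omit hD in
/-- projector onto the kernel of `L_ν` (when `L_ν` has eigenvalues in `𝔽_p`) -/
def piop (ν : Fin n) : A := 1 - Lop D I ν ^ (p - 1)

omit hD in
/-- the homotopy in direction `ν` -/
def Kop (ν : Fin n) : A := I ν * Lop D I ν ^ (p - 2)

theorem one_sub_piop (hp : 2 ≤ p) (ν : Fin n) :
    1 - piop D I p ν = D * Kop D I p ν + Kop D I p ν * D := by
  unfold piop Kop
  rw [sub_sub_cancel]
  have e : p - 1 = (p - 2) + 1 := by omega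
  rw [e, pow_succ']
  conv_lhs => rw [Lop]
  rw [add_mul, mul_assoc, mul_assoc, mul_assoc, ← D_Lop_pow D I hD ν (p - 2)]
  rfl

theorem D_piop (ν : Fin n) : D * piop D I p ν = piop D I p ν * D := by
  unfold piop
  rw [mul_sub, sub_mul, mul_one, one_mul, D_Lop_pow D I hD]

omit hD in
/-- `π_k` for a natural number index (`1` out of range) -/
def piN (k : ℕ) : A := if h : k < n then piop D I p ⟨k, h⟩ else 1

omit hD in
/-- `K_k` for a natural number index (`0` out of range) -/
def KN (k : ℕ) : A := if h : k < n then Kop D I p ⟨k, h⟩ else 0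

theorem D_piN (k : ℕ) : D * piN D I p k = piN D I p k * D := by
  unfold piN
  split_ifs
  · exact D_piop D I p hD _
  · rw [mul_one, one_mul]

theorem one_sub_piN (hp : 2 ≤ p) (k : ℕ) :
    1 - piN D I p k = D * KN D I p k + KN D I p k * D := by
  unfold piN KN
  split_ifs
  · exact one_sub_piop D I p hD hp _
  · rw [sub_self, mul_zero, zero_mul, add_zero]

omit hD in
/-- the product `π_0 ⋯ π_{k-1}` -/
def Pk : ℕ → A
  | 0 => 1
  | k + 1 => Pk k * piN D I p k

omit hD in
/-- the total homotopy up to `k` -/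
def Ktk : ℕ → A
  | 0 => 0
  | k + 1 => Ktk k + Pk D I p k * KN D I p k

theorem D_Pk (k : ℕ) : D * Pk D I p k = Pk D I p k * D := by
  induction k with
  | zero => simp [Pk]
  | succ k ih =>
    simp only [Pk]
    rw [← mul_assoc, ih, mul_assoc, D_piN D I p hD, mul_assoc]

theorem one_sub_Pk (hp : 2 ≤ p) (k : ℕ) :
    1 - Pk D I p k = D * Ktk D I p k + Ktk D I p k * D := by
  induction k with
  | zero => simp [Pk, Ktk]
  | succ k ih =>
    simp only [Pk, Ktk]
    have h1 : 1 - Pk D I p k * piN D I p k =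
        (1 - Pk D I p k) + Pk D I p k * (1 - piN D I p k) := by
      rw [mul_sub, mul_one]; abel
    rw [h1, ih, one_sub_piN D I p hD hp, mul_add, mul_add, add_mul, ← mul_assoc,
      ← mul_assoc, ← mul_assoc, D_Pk D I p hD k]
    rw [mul_assoc (Pk D I p k) (KN D I p k) D]
    abel

end Alg

end Groth.Agent.Lib.Helper24LogC
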