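import Mathlib
import Groth.Agent.Lib.Helper24LogCd
import Groth.Agent.Lib.Helper24LogCe

set_option autoImplicit false

namespace Groth.Agent.Lib.Helper24LogC

universe u

open MvPolynomial ExteriorAlgebra

section Eigen

variable {R : Type u} [CommRing R] {n r : ℕ} (hr : r ≤ n)
  {L : Type u} [AddCommGroup L] [Module (MvPolynomial (Fin n) R) L] [Module R L]
  [IsScalarTower R (MvPolynomial (Fin n) R) L]
  {ι : (Ω[MvPolynomial (Fin n) R⁄R]) →ₗ[MvPolynomial (Fin n) R] L} {dl : Fin r → L}
  (hL : LogDiff.IsLog (KaehlerDifferential.D R (MvPolynomial (Fin n) R))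
      (fun i : Fin r => (X (Fin.castLE hr i) : MvPolynomial (Fin n) R)) ι dl)
  (d : ∀ q : ℕ, ↥(⋀[MvPolynomial (Fin n) R]^q L) →ₗ[R] ↥(⋀[MvPolynomial (Fin n) R]^(q + 1) L))
  (hlog : LogDiff.IsLogRule (KaehlerDifferential.D R (MvPolynomial (Fin n) R)) ι dl d)

theorem X_mul_pderiv_monomial (ν : Fin n) (m : Fin n →₀ ℕ) (c : R) :
    X ν * pderiv ν (monomial m c) = ((m ν : ℕ) : R) • monomial m c := by
  rw [pderiv_monomial, X, monomial_mul, one_mul, smul_monomial, smul_eq_mul]
  by_cases h : m ν = 0
  · rw [h, Nat.cast_zero, mul_zero, zero_mul, monomial_zero, monomial_zero]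
  · have : Finsupp.single ν 1 + (m - Finsupp.single ν 1) = m := by
      apply add_tsub_cancel_of_le
      rw [Finsupp.single_le_iff]
      omega
    rw [this, mul_comm]

/-- the weight of a monomial form in direction `ν` -/
def wt (r : ℕ) (ν : Fin n) (m : Fin n →₀ ℕ) {q : ℕ} (f : Fin q → Fin n) : ℕ :=
  m ν + (if r ≤ (ν : ℕ) ∧ ν ∈ Set.range f then 1 else 0)

include hlog in
theorem Lie_monomial (ν : Fin n) (m : Fin n →₀ ℕ) (c : R) {q : ℕ} (f : Fin q → Fin n) :
    Lie hr hL d ν (monomial m c • W (basisL hr hL) f) =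
      ((wt r ν m f : ℕ) : R) • (monomial m c • W (basisL hr hL) f) := by
  rw [Lie_smul_W hr hL d hlog, X_mul_pderiv_monomial]
  unfold wt
  split_ifs with h
  · rw [Nat.cast_add, Nat.cast_one, add_smul, add_smul (m ν : R) 1, one_smul, smul_assoc]
  · rw [add_zero, add_zero, smul_assoc]


section Ops

variable (p : ℕ) [hp : Fact p.Prime] [CharP R p]

/-- `D` as an element of the endomorphism ring -/
noncomputable def Dm : Module.End R (ExteriorAlgebra (MvPolynomial (Fin n) R) L) := Dtot d

/-- the interior products as elements of the endomorphism ring -/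
noncomputable def Im (ν : Fin n) : Module.End R (ExteriorAlgebra (MvPolynomial (Fin n) R) L) :=
  (Iop hr hL ν).restrictScalars R

theorem Lop_eq_Lie (ν : Fin n) : Lop (Dm d) (Im hr hL) ν = Lie hr hL d ν := rfl

include hlog in
theorem Lop_apply (ν : Fin n) (m : Fin n →₀ ℕ) (c : R) {q : ℕ} (f : Fin q → Fin n) :
    (Lop (Dm d) (Im hr hL) ν) (monomial m c • W (basisL hr hL) f) =
      ((wt r ν m f : ℕ) : R) • (monomial m c • W (basisL hr hL) f) :=
  Lie_monomial hr hL d hlog ν m c f

include hlog in
theorem Lop_pow_apply (ν : Fin n) (k : ℕ) (m : Fin n →₀ ℕ) (c : R) {q : ℕ} (f : Fin q → Fin n) :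
    (Lop (Dm d) (Im hr hL) ν ^ k) (monomial m c • W (basisL hr hL) f) =
      ((wt r ν m f : ℕ) : R) ^ k • (monomial m c • W (basisL hr hL) f) := by
  induction k with
  | zero => simp
  | succ k ih =>
    rw [pow_succ, Module.End.mul_apply, Lop_apply hr hL d hlog, map_smul, ih,
      smul_smul, pow_succ, mul_comm]

omit [IsScalarTower R (MvPolynomial (Fin n) R) L] [Module R L] in
theorem cast_pow_pred (N : ℕ) : ((N : ℕ) : R) ^ (p - 1) = if p ∣ N then 0 else 1 := by
  have hp2 : 2 ≤ p := hp.out.two_le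
  split_ifs with h
  · rw [(CharP.cast_eq_zero_iff R p N).mpr h, zero_pow (by omega)]
  · have h1 : ((N ^ (p - 1) : ℕ) : ZMod p) = ((1 : ℕ) : ZMod p) := by
      push_cast
      apply ZMod.pow_card_sub_one_eq_one
      rwa [Ne, ZMod.natCast_eq_zero_iff]
    have h2 := (ZMod.natCast_eq_natCast_iff _ _ p).mp h1
    have h3 := (CharP.natCast_eq_natCast R p).mpr h2
    rw [← Nat.cast_pow, h3, Nat.cast_one]

include hlog in
theorem piop_apply (ν : Fin n) (m : Fin n →₀ ℕ) (c : R) {q : ℕ} (f : Fin q → Fin n) :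
    (piop (Dm d) (Im hr hL) p ν) (monomial m c • W (basisL hr hL) f) =
      if p ∣ wt r ν m f then monomial m c • W (basisL hr hL) f else 0 := by
  unfold piop
  rw [LinearMap.sub_apply, Module.End.one_apply, Lop_pow_apply hr hL d hlog, cast_pow_pred p]
  split_ifs
  · rw [zero_smul, sub_zero]
  · rw [one_smul, sub_self]

include hlog in
theorem Pk_apply (k : ℕ) (m : Fin n →₀ ℕ) (c : R) {q : ℕ} (f : Fin q → Fin n) :
    (Pk (Dm d) (Im hr hL) p k) (monomial m c • W (basisL hr hL) f) =
      if (∀ ν : Fin n, (ν : ℕ) < k → p ∣ wt r ν m f) then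
        monomial m c • W (basisL hr hL) f else 0 := by
  induction k with
  | zero => simp [Pk]
  | succ k ih =>
    simp only [Pk]
    rw [Module.End.mul_apply]
    unfold piN
    by_cases hk : k < n
    · rw [dif_pos hk, piop_apply hr hL d hlog p]
      by_cases hd : p ∣ wt r ⟨k, hk⟩ m f
      · rw [if_pos hd, ih]
        refine if_congr ⟨fun h ν hν => ?_, fun h ν hν => h ν (by omega)⟩ rfl rfl
        by_cases e : (ν : ℕ) = k
        · have : ν = ⟨k, hk⟩ := Fin.ext e
          rw [this]; exact hd
        · exact h ν (by omega)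
      · rw [if_neg hd, map_zero, if_neg]
        intro h
        exact hd (h ⟨k, hk⟩ (by simp))
    · rw [dif_neg hk, Module.End.one_apply, ih]
      refine if_congr ⟨fun h ν hν => ?_, fun h ν hν => h ν (by omega)⟩ rfl rfl
      exact h ν (by have := ν.2; omega)


/-- the spanning set of monomial forms -/
def betaSet : Set (ExteriorAlgebra (MvPolynomial (Fin n) R) L) :=
  {x | ∃ (m : Fin n →₀ ℕ) (c : R) (q : ℕ) (f : Fin q → Fin n),
    x = monomial m c • W (basisL hr hL) f}

omit hp [CharP R p] in
theorem smul_W_mem_span (b : MvPolynomial (Fin n) R) {q : ℕ} (f : Fin q → Fin n) :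
    b • W (basisL hr hL) f ∈ Submodule.span R (betaSet hr hL) := by
  have h : b • W (basisL hr hL) f =
      ∑ m ∈ b.support, monomial m (coeff m b) • W (basisL hr hL) f := by
    rw [← Finset.sum_smul, ← b.as_sum]
  rw [h]
  exact Submodule.sum_mem _ fun m _ => Submodule.subset_span ⟨m, _, q, f, rfl⟩

omit hp [CharP R p] in
theorem smul_mem_span (b : MvPolynomial (Fin n) R) (x : ExteriorAlgebra (MvPolynomial (Fin n) R) L)
    (hx : x ∈ Submodule.span R (betaSet hr hL)) :
    b • x ∈ Submodule.span R (betaSet hr hL) := by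
  induction hx using Submodule.span_induction with
  | mem x hx =>
    obtain ⟨m, c, q, f, rfl⟩ := hx
    rw [smul_smul]
    exact smul_W_mem_span hr hL _ f
  | zero => rw [smul_zero]; exact Submodule.zero_mem _
  | add x y _ _ hx hy => rw [smul_add]; exact Submodule.add_mem _ hx hy
  | smul c x _ hx => rw [smul_comm]; exact Submodule.smul_mem _ _ hx

omit hp [CharP R p] in
theorem span_betaSet : Submodule.span R (betaSet hr hL) = ⊤ := by
  rw [eq_top_iff]
  suffices key : ∀ x : ExteriorAlgebra (MvPolynomial (Fin n) R) L,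
      x ∈ Submodule.span R (betaSet hr hL) from fun x _ => key x
  intro x
  induction x using DirectSum.Decomposition.inductionOn
    (fun q => ⋀[MvPolynomial (Fin n) R]^q L) with
  | zero => exact Submodule.zero_mem _
  | @homogeneous q y =>
    obtain ⟨y, hy0⟩ := y
    change y ∈ Submodule.span R (betaSet hr hL)
    have hy : y ∈
        Submodule.span (MvPolynomial (Fin n) R)
          (ExteriorAlgebra.ιMulti (MvPolynomial (Fin n) R) q ''
            {a | Set.range a ⊆ Set.range (basisL hr hL)}) := by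
      rw [exteriorPower.ιMulti_span_fixedDegree_of_span_eq_top _ _ _ (basisL hr hL).span_eq]
      exact hy0
    clear hy0
    induction hy using Submodule.span_induction with
    | mem z hz =>
      obtain ⟨a, ha, rfl⟩ := hz
      have : ∀ j, ∃ ν, basisL hr hL ν = a j := fun j => ha ⟨j, rfl⟩
      choose f hf using this
      have : ExteriorAlgebra.ιMulti (MvPolynomial (Fin n) R) q a = W (basisL hr hL) f := by
        unfold W
        congr 1
        funext j
        exact (hf j).symm
      rw [this, ← one_smul (MvPolynomial (Fin n) R) (W (basisL hr hL) f)]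
      exact smul_W_mem_span hr hL 1 f
    | zero => exact Submodule.zero_mem _
    | add x y _ _ hx hy => exact Submodule.add_mem _ hx hy
    | smul c x _ hx => exact smul_mem_span hr hL c x hx
  | add x y hx hy => exact Submodule.add_mem _ hx hy


/-- all weights divisible by `p` -/
def Good (r p : ℕ) (m : Fin n →₀ ℕ) {q : ℕ} (f : Fin q → Fin n) : Prop :=
  ∀ ν : Fin n, p ∣ wt r ν m f

instance (r p : ℕ) (m : Fin n →₀ ℕ) {q : ℕ} (f : Fin q → Fin n) : Decidable (Good r p m f) := by
  unfold Good
  infer_instance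

include hlog in
omit hp in
theorem Dtot_good (m : Fin n →₀ ℕ) (c : R) {q : ℕ} (f : Fin q → Fin n) (h : Good r p m f) :
    Dtot d (monomial m c • W (basisL hr hL) f) = 0 := by
  rw [Dtot_smul_W hr hL d hlog]
  unfold dB
  rw [iota_D_eq hr hL, map_sum, Finset.sum_mul]
  refine Finset.sum_eq_zero fun ν _ => ?_
  rw [map_smul, smul_mul_assoc, ← basisL_apply hr hL]
  by_cases hν : ν ∈ Set.range f
  · rw [ι_mul_W_of_mem _ ν f hν, smul_zero]
  · have h1 := h ν
    unfold wt at h1
    rw [if_neg (fun hh => hν hh.2), add_zero] at h1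
    have h2 : ((m ν : ℕ) : R) = 0 := (CharP.cast_eq_zero_iff R p (m ν)).mpr h1
    rw [pderiv_monomial, h2, mul_zero, monomial_zero, zero_mul, zero_smul]

include hlog in
theorem Pk_n_apply (m : Fin n →₀ ℕ) (c : R) {q : ℕ} (f : Fin q → Fin n) :
    (Pk (Dm d) (Im hr hL) p n) (monomial m c • W (basisL hr hL) f) =
      if Good r p m f then monomial m c • W (basisL hr hL) f else 0 := by
  rw [Pk_apply hr hL d hlog p]
  exact if_congr ⟨fun h ν => h ν ν.2, fun h ν _ => h ν⟩ rfl rfl

include hlog in
theorem Dm_mul_Pk : Dm d * Pk (Dm d) (Im hr hL) p n = 0 := by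
  apply LinearMap.ext_on (span_betaSet hr hL)
  rintro x ⟨m, c, q, f, rfl⟩
  rw [Module.End.mul_apply, Pk_n_apply hr hL d hlog p, LinearMap.zero_apply]
  split_ifs with h
  · exact Dtot_good hr hL d hlog p m c f h
  · exact map_zero _

end Ops

end Eigen

end Groth.Agent.Lib.Helper24LogC
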