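import Mathlib
import Groth.Agent.Lib.Helper24LogCb
import Groth.Agent.Lib.Helper24LogCe

set_option autoImplicit false

namespace Groth.Agent.Lib.Helper24LogC

universe u v

open ExteriorAlgebra

section DegGen

variable {B : Type u} [CommRing B] {L : Type v} [AddCommGroup L] [Module B L] {n : ℕ}
  (bL : Module.Basis (Fin n) B L)

theorem ι_mul_mem {q : ℕ} (v : L) (x : ExteriorAlgebra B L) (hx : x ∈ ⋀[B]^q L) :
    ι B v * x ∈ ⋀[B]^(q + 1) L := by
  unfold ExteriorAlgebra.exteriorPower at hx ⊢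
  rw [pow_succ']
  exact Submodule.mul_mem_mul (LinearMap.mem_range_self _ v) hx

theorem one_mem_zero : (1 : ExteriorAlgebra B L) ∈ ⋀[B]^0 L := by
  unfold ExteriorAlgebra.exteriorPower
  rw [pow_zero]
  exact Submodule.one_le.mp le_rfl

theorem W_mem {q : ℕ} (f : Fin q → Fin n) : W bL f ∈ ⋀[B]^q L :=
  ExteriorAlgebra.ιMulti_range B q ⟨_, rfl⟩

theorem ctr_W_mem (ν : Fin n) {q : ℕ} (f : Fin (q + 1) → Fin n) :
    ctr bL ν (W bL f) ∈ ⋀[B]^q L := by
  induction q with
  | zero =>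
    obtain ⟨μ, g, rfl⟩ : ∃ μ g, f = Fin.cons μ g := ⟨f 0, Fin.tail f, (Fin.cons_self_tail f).symm⟩
    rw [W_cons, ctr_ι_mul, W_zero, ctr_one, mul_zero, sub_zero]
    split_ifs
    · exact one_mem_zero
    · exact Submodule.zero_mem _
  | succ q ih =>
    obtain ⟨μ, g, rfl⟩ : ∃ μ g, f = Fin.cons μ g := ⟨f 0, Fin.tail f, (Fin.cons_self_tail f).symm⟩
    rw [W_cons, ctr_ι_mul]
    refine Submodule.sub_mem _ ?_ (ι_mul_mem _ _ (ih g))
    split_ifs
    · exact W_mem bL g
    · exact Submodule.zero_mem _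

theorem mem_span_W {q : ℕ} (x : ExteriorAlgebra B L) (hx : x ∈ ⋀[B]^q L) :
    x ∈ Submodule.span B {y | ∃ f : Fin q → Fin n, y = W bL f} := by
  rw [← exteriorPower.ιMulti_span_fixedDegree_of_span_eq_top _ _ _ bL.span_eq] at hx
  refine Submodule.span_mono ?_ hx
  rintro _ ⟨a, ha, rfl⟩
  have : ∀ j, ∃ ν, bL ν = a j := fun j => ha ⟨j, rfl⟩
  choose f hf using this
  refine ⟨f, ?_⟩
  unfold W
  congr 1
  funext j
  exact (hf j).symm

theorem ctr_mem (ν : Fin n) {q : ℕ} (x : ExteriorAlgebra B L) (hx : x ∈ ⋀[B]^(q + 1) L) :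
    ctr bL ν x ∈ ⋀[B]^q L := by
  have h := mem_span_W bL x hx
  clear hx
  induction h using Submodule.span_induction with
  | mem y hy =>
    obtain ⟨f, rfl⟩ := hy
    exact ctr_W_mem bL ν f
  | zero => rw [map_zero]; exact Submodule.zero_mem _
  | add x y _ _ hx hy => rw [map_add]; exact Submodule.add_mem _ hx hy
  | smul c x _ hx => rw [map_smul]; exact Submodule.smul_mem _ _ hx

theorem ctr_eq_zero_of_mem_zero (ν : Fin n) (x : ExteriorAlgebra B L) (hx : x ∈ ⋀[B]^0 L) :
    ctr bL ν x = 0 := by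
  have h := mem_span_W bL x hx
  clear hx
  induction h using Submodule.span_induction with
  | mem y hy =>
    obtain ⟨f, rfl⟩ := hy
    rw [W_zero, ctr_one]
  | zero => rw [map_zero]
  | add x y _ _ hx hy => rw [map_add, hx, hy, add_zero]
  | smul c x _ hx => rw [map_smul, hx, smul_zero]

end DegGen

section DegOps

variable {R : Type u} [CommRing R] {B : Type u} [CommRing B] [Algebra R B]
  {L : Type u} [AddCommGroup L] [Module B L] [Module R L] [IsScalarTower R B L]

/-- degree preserving operators -/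
def Pres (T : Module.End R (ExteriorAlgebra B L)) : Prop :=
  ∀ (q : ℕ) (x : ExteriorAlgebra B L), x ∈ ⋀[B]^q L → T x ∈ ⋀[B]^q L

/-- degree lowering operators -/
def Low (T : Module.End R (ExteriorAlgebra B L)) : Prop :=
  (∀ x : ExteriorAlgebra B L, x ∈ ⋀[B]^0 L → T x = 0) ∧
    ∀ (q : ℕ) (x : ExteriorAlgebra B L), x ∈ ⋀[B]^(q + 1) L → T x ∈ ⋀[B]^q L

/-- degree raising operators -/
def Rai (T : Module.End R (ExteriorAlgebra B L)) : Prop :=
  ∀ (q : ℕ) (x : ExteriorAlgebra B L), x ∈ ⋀[B]^q L → T x ∈ ⋀[B]^(q + 1) L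

theorem pres_one : Pres (1 : Module.End R (ExteriorAlgebra B L)) := fun _ _ h => h

theorem Pres.mul {S T : Module.End R (ExteriorAlgebra B L)} (hS : Pres S) (hT : Pres T) :
    Pres (S * T) := fun q x h => hS q _ (hT q x h)

theorem Pres.sub {S T : Module.End R (ExteriorAlgebra B L)} (hS : Pres S) (hT : Pres T) :
    Pres (S - T) := fun q x h => Submodule.sub_mem _ (hS q x h) (hT q x h)

theorem Pres.pow {T : Module.End R (ExteriorAlgebra B L)} (hT : Pres T) (k : ℕ) : Pres (T ^ k) := by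
  induction k with
  | zero => rw [pow_zero]; exact pres_one
  | succ k ih => rw [pow_succ]; exact ih.mul hT

theorem low_zero : Low (0 : Module.End R (ExteriorAlgebra B L)) :=
  ⟨fun _ _ => rfl, fun _ _ _ => Submodule.zero_mem _⟩

theorem Low.add {S T : Module.End R (ExteriorAlgebra B L)} (hS : Low S) (hT : Low T) :
    Low (S + T) :=
  ⟨fun x h => by rw [LinearMap.add_apply, hS.1 x h, hT.1 x h, add_zero],
    fun q x h => Submodule.add_mem _ (hS.2 q x h) (hT.2 q x h)⟩

theorem Low.mul_pres {S T : Module.End R (ExteriorAlgebra B L)} (hS : Low S) (hT : Pres T) :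
    Low (S * T) :=
  ⟨fun x h => hS.1 _ (hT 0 x h), fun q x h => hS.2 q _ (hT (q + 1) x h)⟩

theorem Pres.mul_low {S T : Module.End R (ExteriorAlgebra B L)} (hS : Pres S) (hT : Low T) :
    Low (S * T) :=
  ⟨fun x h => by rw [Module.End.mul_apply, hT.1 x h, map_zero],
    fun q x h => hS q _ (hT.2 q x h)⟩

variable (D : Module.End R (ExteriorAlgebra B L)) {n : ℕ}
  (I : Fin n → Module.End R (ExteriorAlgebra B L)) (p : ℕ)

theorem Lop_pres (hD : Rai D) (hI : ∀ ν, Low (I ν)) (ν : Fin n) : Pres (Lop D I ν) := by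
  intro q x hx
  unfold Lop
  rw [LinearMap.add_apply, Module.End.mul_apply, Module.End.mul_apply]
  cases q with
  | zero =>
    rw [(hI ν).1 x hx, map_zero, zero_add]
    exact (hI ν).2 0 _ (hD 0 x hx)
  | succ q =>
    exact Submodule.add_mem _ (hD q _ ((hI ν).2 q x hx)) ((hI ν).2 (q + 1) _ (hD (q + 1) x hx))

theorem piop_pres (hD : Rai D) (hI : ∀ ν, Low (I ν)) (ν : Fin n) : Pres (piop D I p ν) :=
  pres_one.sub ((Lop_pres D I hD hI ν).pow _)

theorem Kop_low (hD : Rai D) (hI : ∀ ν, Low (I ν)) (ν : Fin n) : Low (Kop D I p ν) :=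
  (hI ν).mul_pres ((Lop_pres D I hD hI ν).pow _)

theorem piN_pres (hD : Rai D) (hI : ∀ ν, Low (I ν)) (k : ℕ) : Pres (piN D I p k) := by
  unfold piN
  split_ifs
  · exact piop_pres D I p hD hI _
  · exact pres_one

theorem KN_low (hD : Rai D) (hI : ∀ ν, Low (I ν)) (k : ℕ) : Low (KN D I p k) := by
  unfold KN
  split_ifs
  · exact Kop_low D I p hD hI _
  · exact low_zero

theorem Pk_pres (hD : Rai D) (hI : ∀ ν, Low (I ν)) (k : ℕ) : Pres (Pk D I p k) := by
  induction k with
  | zero => exact pres_one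
  | succ k ih => exact ih.mul (piN_pres D I p hD hI k)

theorem Ktk_low (hD : Rai D) (hI : ∀ ν, Low (I ν)) (k : ℕ) : Low (Ktk D I p k) := by
  induction k with
  | zero => exact low_zero
  | succ k ih => exact ih.add ((Pk_pres D I p hD hI k).mul_low (KN_low D I p hD hI k))

end DegOps

end Groth.Agent.Lib.Helper24LogC
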