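import Mathlib
import Groth.Agent.Lib.Helper24LogCf
import Groth.Agent.Lib.Helper24LogCg

set_option autoImplicit false

namespace Groth.Agent.Lib.Helper24LogC

universe u

open MvPolynomial ExteriorAlgebra

section Comb

variable {R : Type u} [CommRing R] {n : ℕ} (r p : ℕ)

/-- `1` for `ν < r`, `t_ν^{p-1}` otherwise -/
noncomputable def cw (R : Type u) [CommRing R] {n : ℕ} (r p : ℕ) (ν : Fin n) :
    MvPolynomial (Fin n) R :=
  if (ν : ℕ) < r then 1 else X ν ^ (p - 1)

/-- the exponent vector of `∏_{ν ∈ s} cw ν` -/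
noncomputable def chi (s : Finset (Fin n)) : Fin n →₀ ℕ :=
  ∑ ν ∈ s, if (ν : ℕ) < r then 0 else Finsupp.single ν (p - 1)

theorem chi_apply (s : Finset (Fin n)) (ν : Fin n) :
    chi r p s ν = if ν ∈ s ∧ r ≤ (ν : ℕ) then p - 1 else 0 := by
  classical
  unfold chi
  rw [Finsupp.finset_sum_apply]
  have : ∀ μ ∈ s, (if (μ : ℕ) < r then (0 : Fin n →₀ ℕ) else Finsupp.single μ (p - 1)) ν =
      if μ = ν then (if r ≤ (ν : ℕ) then p - 1 else 0) else 0 := by
    intro μ _
    by_cases hμ : (μ : ℕ) < r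
    · rw [if_pos hμ, Finsupp.zero_apply]
      split_ifs with h1 h2
      · subst h1; omega
      · rfl
      · rfl
    · rw [if_neg hμ, Finsupp.single_apply]
      split_ifs with h1 h2
      · rfl
      · subst h1; omega
      · rfl
  rw [Finset.sum_congr rfl this, Finset.sum_ite_eq']
  split_ifs with h1 h2 h3 h4 <;> first | rfl | (exfalso; tauto)

theorem prod_cw (s : Finset (Fin n)) :
    ∏ ν ∈ s, cw R r p ν = monomial (chi r p s) (1 : R) := by
  classical
  unfold chi
  rw [monomial_sum_index, C_1, one_mul]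
  refine Finset.prod_congr rfl fun ν _ => ?_
  unfold cw
  split_ifs
  · rw [monomial_zero']; rfl
  · rw [X_pow_eq_monomial]

/-- the weight along an ordered enumeration -/
theorem wt_emb (s : Finset (Fin n)) {a : ℕ} (hs : s.card = a) (ν : Fin n) (m : Fin n →₀ ℕ) :
    wt r ν m (fun j => s.orderEmbOfFin hs j) = m ν + if r ≤ (ν : ℕ) ∧ ν ∈ s then 1 else 0 := by
  unfold wt
  have : ν ∈ Set.range (fun j => s.orderEmbOfFin hs j) ↔ ν ∈ s := by
    have h := Finset.range_orderEmbOfFin s hs
    have h2 : Set.range (fun j => s.orderEmbOfFin hs j) = (s : Set (Fin n)) := h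
    rw [h2]
    exact Finset.mem_coe
  congr 1
  exact if_congr (and_congr Iff.rfl this) rfl rfl

theorem good_smul_add_chi (hp : 0 < p) (s : Finset (Fin n)) {a : ℕ} (hs : s.card = a)
    (m' : Fin n →₀ ℕ) :
    Good r p (p • m' + chi r p s) (fun j => s.orderEmbOfFin hs j) := by
  intro ν
  rw [wt_emb, Finsupp.add_apply, Finsupp.smul_apply, chi_apply, smul_eq_mul]
  by_cases h : ν ∈ s ∧ r ≤ (ν : ℕ)
  · rw [if_pos h, if_pos ⟨h.2, h.1⟩]
    have : p * m' ν + (p - 1) + 1 = p * (m' ν + 1) := by
      rw [mul_add, mul_one]; omega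
    rw [this]
    exact dvd_mul_right _ _
  · rw [if_neg h, if_neg (fun hh => h ⟨hh.2, hh.1⟩), add_zero, add_zero]
    exact dvd_mul_right _ _

/-- componentwise division by `p` -/
noncomputable def divp (m : Fin n →₀ ℕ) : Fin n →₀ ℕ :=
  m.mapRange (fun k => k / p) (Nat.zero_div p)

theorem eq_of_good (hp : 0 < p) (s : Finset (Fin n)) {a : ℕ} (hs : s.card = a)
    (m : Fin n →₀ ℕ) (h : Good r p m (fun j => s.orderEmbOfFin hs j)) :
    p • divp p m + chi r p s = m := by
  ext ν
  have h1 := h ν
  rw [wt_emb] at h1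
  rw [Finsupp.add_apply, Finsupp.smul_apply, chi_apply, smul_eq_mul]
  unfold divp
  rw [Finsupp.mapRange_apply]
  by_cases h2 : ν ∈ s ∧ r ≤ (ν : ℕ)
  · rw [if_pos h2]
    rw [if_pos ⟨h2.2, h2.1⟩] at h1
    obtain ⟨k, hk⟩ := h1
    have hk1 : 1 ≤ k := by
      rcases k with _ | k
      · omega
      · omega
    have hm : m ν = p * (k - 1) + (p - 1) := by
      have : p * k = p * (k - 1) + p := by
        conv_lhs => rw [show k = (k - 1) + 1 by omega]
        rw [mul_add, mul_one]
      omega
    rw [hm]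
    have : (p * (k - 1) + (p - 1)) / p = k - 1 := by
      rw [Nat.mul_add_div hp, Nat.div_eq_of_lt (by omega), add_zero]
    rw [this]
  · rw [if_neg h2, add_zero]
    rw [if_neg (fun hh => h2 ⟨hh.2, hh.1⟩), add_zero] at h1
    exact Nat.mul_div_cancel' h1

theorem good_of_mem_support (hp : 0 < p) (s : Finset (Fin n)) {a : ℕ} (hs : s.card = a)
    (g : MvPolynomial (Fin n) R) (m : Fin n →₀ ℕ)
    (hm : m ∈ (expand p g * monomial (chi r p s) (1 : R)).support) :
    Good r p m (fun j => s.orderEmbOfFin hs j) := by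
  rw [mem_support_iff, coeff_mul_monomial'] at hm
  split_ifs at hm with hle
  · rw [mul_one] at hm
    have h1 : ∀ i, p ∣ (m - chi r p s) i := by
      intro i
      by_contra hnd
      exact hm (coeff_expand_of_not_dvd (p := p) g hnd)
    have h2 : m = p • divp p (m - chi r p s) + chi r p s := by
      have : p • divp p (m - chi r p s) = m - chi r p s := by
        ext i
        rw [Finsupp.smul_apply, smul_eq_mul]
        unfold divp
        rw [Finsupp.mapRange_apply]
        exact Nat.mul_div_cancel' (h1 i)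
      rw [this, tsub_add_cancel_of_le hle]
    rw [h2]
    exact good_smul_add_chi r p hp s hs _
  · exact absurd rfl hm

end Comb

end Groth.Agent.Lib.Helper24LogC
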