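import Mathlib
import Groth.Agent.Lib.Helper24LogCh

set_option autoImplicit false

namespace Groth.Agent.Lib.Helper24LogC

universe u

open MvPolynomial ExteriorAlgebra

section Fin1

variable {R : Type u} [CommRing R] {n r : ℕ} (hr : r ≤ n)
  {L : Type u} [AddCommGroup L] [Module (MvPolynomial (Fin n) R) L] [Module R L]
  [IsScalarTower R (MvPolynomial (Fin n) R) L]
  {ι : (Ω[MvPolynomial (Fin n) R⁄R]) →ₗ[MvPolynomial (Fin n) R] L} {dl : Fin r → L}
  (hL : LogDiff.IsLog (KaehlerDifferential.D R (MvPolynomial (Fin n) R))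
      (fun i : Fin r => (X (Fin.castLE hr i) : MvPolynomial (Fin n) R)) ι dl)
  (d : ∀ q : ℕ, ↥(⋀[MvPolynomial (Fin n) R]^q L) →ₗ[R] ↥(⋀[MvPolynomial (Fin n) R]^(q + 1) L))
  (hlog : LogDiff.IsLogRule (KaehlerDifferential.D R (MvPolynomial (Fin n) R)) ι dl d)
  (hdd : ∀ q, d (q + 1) ∘ₗ d q = 0)
  (p : ℕ) [hp : Fact p.Prime] [CharP R p]

omit hp [CharP R p] in
include hdd in
theorem Dm_sq : Dm d * Dm d = 0 :=
  LinearMap.ext fun x => Dtot_sq d hdd x

omit hp [CharP R p] in
theorem Dm_rai : Rai (Dm d) := fun _ x hx => Dtot_mem d x hx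

omit hp [CharP R p] in
theorem Dm_coe {q : ℕ} (y : ↥(⋀[MvPolynomial (Fin n) R]^q L)) :
    Dm d (y : ExteriorAlgebra (MvPolynomial (Fin n) R) L) = (d q y : ExteriorAlgebra _ L) := by
  change Dtot d _ = _
  rw [Dtot_of_mem d _ y.2]

omit hp [CharP R p] in
theorem Im_low (ν : Fin n) : Low (Im hr hL ν) := by
  refine ⟨fun x hx => ?_, fun q x hx => ?_⟩
  · change Iop hr hL ν x = 0
    unfold Iop
    rw [LinearMap.smul_apply, ctr_eq_zero_of_mem_zero _ ν x hx, smul_zero]
  · change Iop hr hL ν x ∈ _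
    unfold Iop
    rw [LinearMap.smul_apply]
    exact Submodule.smul_mem _ _ (ctr_mem _ ν x hx)

/-- the projector -/
noncomputable def Pp : Module.End R (ExteriorAlgebra (MvPolynomial (Fin n) R) L) :=
  Pk (Dm d) (Im hr hL) p n

/-- the homotopy -/
noncomputable def Kk : Module.End R (ExteriorAlgebra (MvPolynomial (Fin n) R) L) :=
  Ktk (Dm d) (Im hr hL) p n

omit hp [CharP R p] in
theorem Pp_pres : Pres (Pp hr hL d p) :=
  Pk_pres _ _ p (Dm_rai d) (Im_low hr hL) n

omit hp [CharP R p] in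
theorem Kk_low : Low (Kk hr hL d p) :=
  Ktk_low _ _ p (Dm_rai d) (Im_low hr hL) n

omit [CharP R p] in
include hdd in
theorem one_sub_Pp :
    1 - Pp hr hL d p = Dm d * Kk hr hL d p + Kk hr hL d p * Dm d :=
  one_sub_Pk _ _ p (Dm_sq d hdd) hp.out.two_le n

include hdd hlog in
theorem Pp_mul_Dm : Pp hr hL d p * Dm d = 0 := by
  unfold Pp
  rw [← D_Pk _ _ p (Dm_sq d hdd) n]
  exact Dm_mul_Pk hr hL d hlog p

/-- the part of a polynomial with good exponents -/
noncomputable def goodPart (r p : ℕ) (b : MvPolynomial (Fin n) R) {q : ℕ} (f : Fin q → Fin n) :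
    MvPolynomial (Fin n) R :=
  ∑ m ∈ b.support.filter (fun m => Good r p m f), monomial m (coeff m b)

include hlog in
theorem Pp_smul_W (b : MvPolynomial (Fin n) R) {q : ℕ} (f : Fin q → Fin n) :
    Pp hr hL d p (b • W (basisL hr hL) f) = goodPart r p b f • W (basisL hr hL) f := by
  have h : b • W (basisL hr hL) f =
      ∑ m ∈ b.support, monomial m (coeff m b) • W (basisL hr hL) f := by
    rw [← Finset.sum_smul, ← b.as_sum]
  rw [h, map_sum]
  unfold goodPart Pp
  rw [Finset.sum_smul, Finset.sum_filter]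
  refine Finset.sum_congr rfl fun m _ => ?_
  rw [Pk_n_apply hr hL d hlog p]

include hlog in
omit hp in
theorem Dm_goodPart (b : MvPolynomial (Fin n) R) {q : ℕ} (f : Fin q → Fin n) :
    Dm d (goodPart r p b f • W (basisL hr hL) f) = 0 := by
  unfold goodPart
  rw [Finset.sum_smul, map_sum]
  refine Finset.sum_eq_zero fun m hm => ?_
  exact Dtot_good hr hL d hlog p m _ f (Finset.mem_filter.mp hm).2

omit [Module R L] [IsScalarTower R (MvPolynomial (Fin n) R) L] hp [CharP R p] in
theorem goodPart_eq_self (b : MvPolynomial (Fin n) R) {q : ℕ} (f : Fin q → Fin n)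
    (h : ∀ m ∈ b.support, Good r p m f) : goodPart r p b f = b := by
  unfold goodPart
  rw [Finset.filter_true_of_mem h]
  exact b.as_sum.symm

include hlog in
theorem Pp_fix (s : Finset (Fin n)) {a : ℕ} (hs : s.card = a) (g : MvPolynomial (Fin n) R) :
    Pp hr hL d p ((expand p g * monomial (chi r p s) (1 : R)) •
        W (basisL hr hL) (fun j => s.orderEmbOfFin hs j)) =
      (expand p g * monomial (chi r p s) (1 : R)) •
        W (basisL hr hL) (fun j => s.orderEmbOfFin hs j) := by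
  rw [Pp_smul_W hr hL d hlog p, goodPart_eq_self]
  intro m hm
  exact good_of_mem_support r p hp.out.pos s hs g m hm

include hlog in
theorem Dm_fix (s : Finset (Fin n)) {a : ℕ} (hs : s.card = a) (g : MvPolynomial (Fin n) R) :
    Dm d ((expand p g * monomial (chi r p s) (1 : R)) •
        W (basisL hr hL) (fun j => s.orderEmbOfFin hs j)) = 0 := by
  have h := goodPart_eq_self (r := r) p (expand p g * monomial (chi r p s) (1 : R))
    (fun j => s.orderEmbOfFin hs j) (fun m hm => good_of_mem_support r p hp.out.pos s hs g m hm)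
  rw [← h]
  exact Dm_goodPart hr hL d hlog p _ _

omit [Module R L] [IsScalarTower R (MvPolynomial (Fin n) R) L] [CharP R p] in
theorem goodPart_emb (s : Finset (Fin n)) {a : ℕ} (hs : s.card = a) (b : MvPolynomial (Fin n) R) :
    ∃ g' : MvPolynomial (Fin n) R,
      goodPart r p b (fun j => s.orderEmbOfFin hs j) =
        expand p g' * monomial (chi r p s) (1 : R) := by
  refine ⟨∑ m ∈ b.support.filter (fun m => Good r p m (fun j => s.orderEmbOfFin hs j)),
    monomial (divp p m) (coeff m b), ?_⟩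
  unfold goodPart
  rw [map_sum, Finset.sum_mul]
  refine Finset.sum_congr rfl fun m hm => ?_
  rw [expand_monomial, monomial_mul, mul_one,
    eq_of_good r p hp.out.pos s hs m (Finset.mem_filter.mp hm).2]

end Fin1

section Fin2

variable {R : Type u} [CommRing R] {n r : ℕ} (hr : r ≤ n)
  {L : Type u} [AddCommGroup L] [Module (MvPolynomial (Fin n) R) L] [Module R L]
  [IsScalarTower R (MvPolynomial (Fin n) R) L]
  {ι : (Ω[MvPolynomial (Fin n) R⁄R]) →ₗ[MvPolynomial (Fin n) R] L} {dl : Fin r → L}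
  (hL : LogDiff.IsLog (KaehlerDifferential.D R (MvPolynomial (Fin n) R))
      (fun i : Fin r => (X (Fin.castLE hr i) : MvPolynomial (Fin n) R)) ι dl)
  (p : ℕ)
  (w : Fin n → L) (hw : ∀ i : Fin r, w (Fin.castLE hr i) = dl i)
  (hw' : ∀ ν : Fin n, r ≤ (ν : ℕ) → w ν = ι (((X ν : MvPolynomial (Fin n) R) ^ (p - 1)) •
      KaehlerDifferential.D R (MvPolynomial (Fin n) R) (X ν)))

include hw hw' in
omit [Module R L] [IsScalarTower R (MvPolynomial (Fin n) R) L] in
theorem w_eq (ν : Fin n) : w ν = cw R r p ν • basisL hr hL ν := by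
  rw [basisL_apply]
  unfold cw uvec
  by_cases h : (ν : ℕ) < r
  · rw [if_pos h, dif_pos h, one_smul]
    have := hw ⟨ν, h⟩
    have e : Fin.castLE hr ⟨ν, h⟩ = ν := Fin.ext rfl
    rw [e] at this
    exact this
  · rw [if_neg h, dif_neg h, hw' ν (by omega), map_smul]

include hw hw' in
omit [Module R L] [IsScalarTower R (MvPolynomial (Fin n) R) L] in
theorem ιMulti_w (s : Finset (Fin n)) {a : ℕ} (hs : s.card = a) :
    ExteriorAlgebra.ιMulti (MvPolynomial (Fin n) R) a (fun j => w (s.orderEmbOfFin hs j)) =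
      monomial (chi r p s) (1 : R) • W (basisL hr hL) (fun j => s.orderEmbOfFin hs j) := by
  have h1 : (fun j => w (s.orderEmbOfFin hs j)) =
      fun j => cw R r p (s.orderEmbOfFin hs j) • basisL hr hL (s.orderEmbOfFin hs j) :=
    funext fun j => w_eq hr hL p w hw hw' _
  have h2 : ∏ j : Fin a, cw R r p (s.orderEmbOfFin hs j) = ∏ ν ∈ s, cw R r p ν := by
    conv_rhs => rw [← Finset.map_orderEmbOfFin_univ s hs]
    rw [Finset.prod_map]
    rfl
  rw [h1]
  have h3 := (ExteriorAlgebra.ιMulti (MvPolynomial (Fin n) R) a (M := L)).toMultilinearMap.map_smul_univ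
    (fun j => cw R r p (s.orderEmbOfFin hs j)) (fun j => basisL hr hL (s.orderEmbOfFin hs j))
  rw [h2, prod_cw] at h3
  exact h3

end Fin2

end Groth.Agent.Lib.Helper24LogC
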