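import Mathlib
import Groth.Agent.Lib.Helper24LogCi

set_option autoImplicit false

namespace Groth.Agent.Lib.Helper24LogC

universe u

open MvPolynomial ExteriorAlgebra

open exteriorPower in
theorem main (p : ℕ) [hp : Fact p.Prime]
    (R : Type u) [CommRing R] [CharP R p] (n r a : ℕ) (hr : r ≤ n)
    (L : Type u) [AddCommGroup L] [Module (MvPolynomial (Fin n) R) L] [Module R L]
    [IsScalarTower R (MvPolynomial (Fin n) R) L]
    (ι : (Ω[MvPolynomial (Fin n) R⁄R]) →ₗ[MvPolynomial (Fin n) R] L) (dl : Fin r → L)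
    (hL : LogDiff.IsLog (KaehlerDifferential.D R (MvPolynomial (Fin n) R))
      (fun i : Fin r => (MvPolynomial.X (Fin.castLE hr i) : MvPolynomial (Fin n) R)) ι dl)
    (d : ∀ q : ℕ, ↥(⋀[MvPolynomial (Fin n) R]^q L) →ₗ[R] ↥(⋀[MvPolynomial (Fin n) R]^(q + 1) L))
    (hd : DeRham.IsDiff (ι.compDer (KaehlerDifferential.D R (MvPolynomial (Fin n) R))) d)
    (hlog : LogDiff.IsLogRule (KaehlerDifferential.D R (MvPolynomial (Fin n) R)) ι dl d)
    (w : Fin n → L) (hw : ∀ i : Fin r, w (Fin.castLE hr i) = dl i)
    (hw' : ∀ ν : Fin n, r ≤ (ν : ℕ) → w ν = ι (((MvPolynomial.X ν : MvPolynomial (Fin n) R) ^ (p - 1)) •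
      KaehlerDifferential.D R (MvPolynomial (Fin n) R) (MvPolynomial.X ν)))
    (e : Finset (Fin n) → ↥(⋀[MvPolynomial (Fin n) R]^a L))
    (he : ∀ (s : Finset (Fin n)) (hs : s.card = a),
      e s = exteriorPower.ιMulti (MvPolynomial (Fin n) R) a (fun j => w (s.orderEmbOfFin hs j))) :
    (∀ ω, ω ∈ DeRham.cocycles d a ↔
      ∃ (g : Finset (Fin n) → MvPolynomial (Fin n) R) (η : ↥(⋀[MvPolynomial (Fin n) R]^a L)),
        η ∈ DeRham.coboundaries d a ∧
          ω = η + ∑ s ∈ Finset.powersetCard a Finset.univ, MvPolynomial.expand p (g s) • e s) ∧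
    (∀ g : Finset (Fin n) → MvPolynomial (Fin n) R,
      (∑ s ∈ Finset.powersetCard a Finset.univ, MvPolynomial.expand p (g s) • e s) ∈ DeRham.coboundaries d a →
        ∀ s ∈ Finset.powersetCard a (Finset.univ : Finset (Fin n)), g s = 0) := by
  classical
  have hdd := hd.2
  set bL := basisL hr hL with hbL
  set Bas := bL.exteriorPower a with hBasdef
  set P := Pp hr hL d p with hPdef
  set K := Kk hr hL d p with hKdef
  have hBas : ∀ i : Set.powersetCard (Fin n) a,
      ((Bas i : ↥(⋀[MvPolynomial (Fin n) R]^a L)) : ExteriorAlgebra (MvPolynomial (Fin n) R) L) =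
        W bL (fun j => i.val.orderEmbOfFin i.prop j) := by
    intro i
    rw [hBasdef, exteriorPower.basis_apply]
    rfl
  have heB : ∀ i : Set.powersetCard (Fin n) a,
      ((e i.val : ↥(⋀[MvPolynomial (Fin n) R]^a L)) : ExteriorAlgebra (MvPolynomial (Fin n) R) L) =
        monomial (chi r p i.val) (1 : R) • W bL (fun j => i.val.orderEmbOfFin i.prop j) := by
    intro i
    rw [he i.val i.prop, exteriorPower.ιMulti_apply_coe]
    exact ιMulti_w hr hL p w hw hw' i.val i.prop
  have hsum : ∀ (f : Finset (Fin n) → ↥(⋀[MvPolynomial (Fin n) R]^a L)),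
      ∑ s ∈ Finset.powersetCard a Finset.univ, f s =
        ∑ i : Set.powersetCard (Fin n) a, f i.val := by
    intro f
    exact Finset.sum_subtype _ (fun x => by simp [Finset.mem_powersetCard]) f
  have hterm : ∀ (g : MvPolynomial (Fin n) R) (i : Set.powersetCard (Fin n) a),
      ((expand p g • e i.val : ↥(⋀[MvPolynomial (Fin n) R]^a L)) :
          ExteriorAlgebra (MvPolynomial (Fin n) R) L) =
        (expand p g * monomial (chi r p i.val) (1 : R)) •
          W bL (fun j => i.val.orderEmbOfFin i.prop j) := by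
    intro g i
    rw [Submodule.coe_smul, heB, smul_smul]
  refine ⟨fun ω => ⟨fun hω => ?_, ?_⟩, ?_⟩
  · -- (A)
    have hclosed : Dm d (ω : ExteriorAlgebra (MvPolynomial (Fin n) R) L) = 0 := by
      rw [Dm_coe, show d a ω = 0 from hω]
      rfl
    have hdec : (ω : ExteriorAlgebra (MvPolynomial (Fin n) R) L) =
        ∑ i, (Bas.repr ω i) • W bL (fun j => i.val.orderEmbOfFin i.prop j) := by
      conv_lhs => rw [← Bas.sum_repr ω]
      rw [Submodule.coe_sum]
      refine Finset.sum_congr rfl fun i _ => ?_
      rw [Submodule.coe_smul, hBas]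
    have hg : ∀ i : Set.powersetCard (Fin n) a, ∃ g' : MvPolynomial (Fin n) R,
        goodPart r p (Bas.repr ω i) (fun j => i.val.orderEmbOfFin i.prop j) =
          expand p g' * monomial (chi r p i.val) (1 : R) :=
      fun i => goodPart_emb p i.val i.prop _
    choose g' hg' using hg
    have hP : P (ω : ExteriorAlgebra (MvPolynomial (Fin n) R) L) =
        ∑ i, (expand p (g' i) * monomial (chi r p i.val) (1 : R)) •
          W bL (fun j => i.val.orderEmbOfFin i.prop j) := by
      rw [hdec, map_sum]
      refine Finset.sum_congr rfl fun i _ => ?_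
      rw [hPdef, Pp_smul_W hr hL d hlog p, hg']
    have hhom : (ω : ExteriorAlgebra (MvPolynomial (Fin n) R) L) - P ω = Dm d (K ω) := by
      have := LinearMap.congr_fun (one_sub_Pp hr hL d hdd p)
        (ω : ExteriorAlgebra (MvPolynomial (Fin n) R) L)
      simp only [LinearMap.sub_apply, LinearMap.add_apply, Module.End.mul_apply,
        Module.End.one_apply] at this
      rw [this, hclosed, map_zero, add_zero]
    obtain ⟨η, hη1, hη2⟩ : ∃ η : ↥(⋀[MvPolynomial (Fin n) R]^a L),
        η ∈ DeRham.coboundaries d a ∧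
          (η : ExteriorAlgebra (MvPolynomial (Fin n) R) L) = Dm d (K ω) := by
      clear hsum hterm heB he hBas hdec hP hhom hg' hclosed hω
      cases a with
      | zero =>
        refine ⟨0, Submodule.zero_mem _, ?_⟩
        rw [hKdef, (Kk_low hr hL d p).1 _ ω.2, map_zero]
        rfl
      | succ a' =>
        refine ⟨d a' ⟨K ω, (Kk_low hr hL d p).2 a' _ ω.2⟩, ⟨_, rfl⟩, ?_⟩
        rw [← Dm_coe]
    refine ⟨fun s => if hs : s.card = a then g' ⟨s, hs⟩ else 0, η, hη1, ?_⟩
    rw [hsum]
    apply Subtype.ext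
    rw [Submodule.coe_add, Submodule.coe_sum, hη2, ← hhom]
    have : ∑ i : Set.powersetCard (Fin n) a,
        ((expand p (if hs : i.val.card = a then g' ⟨i.val, hs⟩ else 0) • e i.val :
          ↥(⋀[MvPolynomial (Fin n) R]^a L)) : ExteriorAlgebra (MvPolynomial (Fin n) R) L) =
          P ω := by
      rw [hP]
      refine Finset.sum_congr rfl fun i _ => ?_
      have hi : i.val.card = a := i.prop
      rw [dif_pos hi, hterm]
    rw [this]
    abel
  · -- (B)
    rintro ⟨g, η, hη, rfl⟩
    change d a _ = 0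
    apply Subtype.ext
    rw [← Dm_coe, Submodule.coe_add, map_add, hsum, Submodule.coe_sum, map_sum]
    have h1 : Dm d (η : ExteriorAlgebra (MvPolynomial (Fin n) R) L) = 0 := by
      clear hsum hterm heB he hBas
      cases a with
      | zero =>
        have : η = 0 := hη
        rw [this]
        simp
      | succ a' =>
        obtain ⟨ξ, rfl⟩ := hη
        rw [Dm_coe]
        have := LinearMap.congr_fun (hdd a') ξ
        simp only [LinearMap.comp_apply, LinearMap.zero_apply] at this
        rw [this]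
        rfl
    rw [h1, zero_add]
    refine Finset.sum_eq_zero fun i _ => ?_
    rw [hterm]
    exact Dm_fix hr hL d hlog p i.val i.prop _
  · -- (C)
    intro g hX s hs
    have hcoeX : ((∑ s ∈ Finset.powersetCard a Finset.univ, expand p (g s) • e s :
          ↥(⋀[MvPolynomial (Fin n) R]^a L)) : ExteriorAlgebra (MvPolynomial (Fin n) R) L) =
        ∑ i : Set.powersetCard (Fin n) a,
          (expand p (g i.val) * monomial (chi r p i.val) (1 : R)) •
            W bL (fun j => i.val.orderEmbOfFin i.prop j) := by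
      rw [hsum, Submodule.coe_sum]
      exact Finset.sum_congr rfl fun i _ => hterm _ i
    have hPX : P ((∑ s ∈ Finset.powersetCard a Finset.univ, expand p (g s) • e s :
          ↥(⋀[MvPolynomial (Fin n) R]^a L)) : ExteriorAlgebra (MvPolynomial (Fin n) R) L) =
        ((∑ s ∈ Finset.powersetCard a Finset.univ, expand p (g s) • e s :
          ↥(⋀[MvPolynomial (Fin n) R]^a L)) : ExteriorAlgebra (MvPolynomial (Fin n) R) L) := by
      rw [hcoeX, map_sum]
      exact Finset.sum_congr rfl fun i _ => Pp_fix hr hL d hlog p i.val i.prop _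
    obtain ⟨ξ, hξ⟩ : ∃ ξ : ExteriorAlgebra (MvPolynomial (Fin n) R) L,
        ((∑ s ∈ Finset.powersetCard a Finset.univ, expand p (g s) • e s :
          ↥(⋀[MvPolynomial (Fin n) R]^a L)) : ExteriorAlgebra (MvPolynomial (Fin n) R) L) =
          Dm d ξ := by
      clear hPX hcoeX hsum hterm heB he hBas
      cases a with
      | zero =>
        refine ⟨0, ?_⟩
        have h0 : (∑ s ∈ Finset.powersetCard 0 Finset.univ, expand p (g s) • e s) = 0 := hX
        rw [h0, map_zero]
        rfl
      | succ a' =>
        obtain ⟨ξ, hξ⟩ := hX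
        exact ⟨ξ, by rw [Dm_coe, hξ]⟩
    have hX0 : ((∑ s ∈ Finset.powersetCard a Finset.univ, expand p (g s) • e s :
          ↥(⋀[MvPolynomial (Fin n) R]^a L)) : ExteriorAlgebra (MvPolynomial (Fin n) R) L) = 0 := by
      rw [← hPX, hξ]
      exact LinearMap.congr_fun (Pp_mul_Dm hr hL d hlog hdd p) ξ
    have hX0' : ∑ i : Set.powersetCard (Fin n) a,
        (expand p (g i.val) * monomial (chi r p i.val) (1 : R)) • Bas i = 0 := by
      apply Subtype.ext
      rw [Submodule.coe_sum, Submodule.coe_zero, ← hX0, hcoeX]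
      refine Finset.sum_congr rfl fun i _ => ?_
      rw [Submodule.coe_smul, hBas]
    have hs' : s.card = a := (Finset.mem_powersetCard.mp hs).2
    have hc := Fintype.linearIndependent_iff.mp Bas.linearIndependent _ hX0' ⟨s, hs'⟩
    have hreg : IsRegular (monomial (chi r p s) (1 : R)) := by
      rw [← prod_cw]
      refine IsRegular.prod fun ν _ => ?_
      unfold cw
      split_ifs
      · exact isRegular_one
      · exact (isRegular_X).pow _
    have h0 : expand p (g s) = 0 := hreg.right (by
      change _ * _ = 0 * _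
      rw [zero_mul]
      exact hc)
    exact expand_injective hp.out.pos (by rw [h0, map_zero])

end Groth.Agent.Lib.Helper24LogC
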