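import Mathlib

set_option autoImplicit false

namespace Groth.Agent.Lib.Helper24MTT

open Finset

variable {V : Type*} [Fintype V] [DecidableEq V] {R : Type*} [CommRing R]

/-- the indicator row `δ_u`. -/
def dl (u : V) : V → R := fun w => if u = w then 1 else 0

omit [Fintype V] in
theorem dl_apply (u w : V) : (dl u : V → R) w = if u = w then 1 else 0 := rfl

/-- matrix with row `i` equal to `x` and row `v ≠ i` equal to `δ_v - δ_{q v}` -/
def fnMat (q : V → V) (i : V) (x : V → R) : Matrix V V R :=
  fun v u => if v = i then x u else (dl v u - dl (q v) u)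

omit [Fintype V] in
theorem fnMat_apply (q : V → V) (i : V) (x : V → R) (v u : V) :
    fnMat q i x v u = if v = i then x u else (dl v u - dl (q v) u) := rfl

def Acyc (q : V → V) (i : V) : Prop := ∀ v, ∃ k : ℕ, q^[k] v = i

theorem det_fnMat_dl (q : V → V) (i : V) (hq : Acyc q i) :
    (fnMat q i (dl i : V → R)).det = 1 := by
  classical
  rw [Matrix.det_apply']
  rw [Finset.sum_eq_single (1 : Equiv.Perm V)]
  · rw [Equiv.Perm.sign_one]
    simp only [Units.val_one, Int.cast_one, one_mul, Equiv.Perm.coe_one, id_eq]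
    apply Finset.prod_eq_one
    intro v _
    rw [fnMat_apply]
    by_cases hv : v = i
    · rw [if_pos hv, dl_apply, if_pos hv.symm]
    · rw [if_neg hv, dl_apply, dl_apply, if_pos rfl]
      have hne : q v ≠ v := by
        intro h
        obtain ⟨k, hk⟩ := hq v
        rw [Function.iterate_fixed h k] at hk
        exact hv hk
      rw [if_neg hne, sub_zero]
  · intro σ _ hσ
    suffices h : ∃ u, fnMat q i (dl i : V → R) (σ u) u = 0 by
      obtain ⟨u, hu⟩ := h
      rw [Finset.prod_eq_zero (f := fun u => fnMat q i (dl i : V → R) (σ u) u)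
        (Finset.mem_univ u) hu, mul_zero]
    by_contra hne
    push Not at hne
    apply hσ
    have hρ : ∀ y, fnMat q i (dl i : V → R) y (σ.symm y) ≠ 0 := by
      intro y
      have := hne (σ.symm y)
      rwa [Equiv.apply_symm_apply] at this
    have hi : σ.symm i = i := by
      have h1 := hρ i
      rw [fnMat_apply, if_pos rfl, dl_apply] at h1
      by_contra h
      exact h1 (if_neg (fun h' => h h'.symm))
    have hmv : ∀ y, σ.symm y ≠ y → q y = σ.symm y := by
      intro y hy
      have hyi : y ≠ i := by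
        rintro rfl
        exact hy hi
      have h1 := hρ y
      rw [fnMat_apply, if_neg hyi, dl_apply, dl_apply, if_neg (fun h' => hy h'.symm)] at h1
      by_contra h
      rw [if_neg h, sub_zero] at h1
      exact h1 rfl
    have hall : ∀ y, σ.symm y = y := by
      intro y
      by_contra hy
      have key : ∀ k : ℕ, q^[k] y = (σ.symm)^[k] y ∧
          σ.symm ((σ.symm)^[k] y) ≠ (σ.symm)^[k] y := by
        intro k
        induction k with
        | zero => exact ⟨rfl, hy⟩
        | succ k ih =>
          obtain ⟨h1, h2⟩ := ih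
          have h3 : (σ.symm)^[k+1] y = σ.symm ((σ.symm)^[k] y) :=
            Function.iterate_succ_apply' _ _ _
          refine ⟨?_, ?_⟩
          · rw [Function.iterate_succ_apply', h1, h3]
            exact hmv _ h2
          · rw [h3]
            intro h4
            exact h2 (σ.symm.injective h4)
      obtain ⟨k, hk⟩ := hq y
      obtain ⟨h1, h2⟩ := key k
      rw [← h1, hk] at h2
      exact h2 hi
    ext y
    have := hall y
    rw [Equiv.symm_apply_eq] at this
    exact this.symm
  · intro h
    exact absurd (Finset.mem_univ _) h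

omit [Fintype V] in
theorem fnMat_eq_updateRow (q : V → V) (i : V) (x : V → R) :
    fnMat q i x = (fnMat q i (0 : V → R)).updateRow i x := by
  ext v u
  rw [Matrix.updateRow_apply, fnMat_apply, fnMat_apply]
  by_cases hv : v = i
  · rw [if_pos hv, if_pos hv]
  · rw [if_neg hv, if_neg hv, if_neg hv]

theorem det_fnMat_acyc (q : V → V) (i : V) (hqi : q i = i) (hq : Acyc q i) (x : V → R) :
    (fnMat q i x).det = ∑ u, x u := by
  classical
  obtain ⟨M₀, hM₀⟩ : ∃ M₀ : Matrix V V R, M₀ = fnMat q i (0 : V → R) := ⟨_, rfl⟩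
  have hstep : ∀ u, (M₀.updateRow i (dl u)).det = (M₀.updateRow i (dl (q u))).det := by
    intro u
    by_cases hu : u = i
    · rw [hu, hqi]
    · have hrow : (dl u : V → R) = M₀ u + dl (q u) := by
        funext w
        rw [Pi.add_apply, hM₀, fnMat_apply, if_neg hu]
        ring
      rw [hrow, Matrix.det_updateRow_add]
      have hz : (M₀.updateRow i (M₀ u)).det = 0 := by
        apply Matrix.det_zero_of_row_eq (Ne.symm hu)
        rw [Matrix.updateRow_self, Matrix.updateRow_ne hu]
      rw [hz, zero_add]
  have hiter : ∀ (k : ℕ) (u : V),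
      (M₀.updateRow i (dl (q^[k] u))).det = (M₀.updateRow i (dl u)).det := by
    intro k
    induction k with
    | zero => intro u; rfl
    | succ k ih =>
      intro u
      rw [Function.iterate_succ_apply, ih (q u), ← hstep u]
  have hone : ∀ u, (M₀.updateRow i (dl u : V → R)).det = 1 := by
    intro u
    obtain ⟨k, hk⟩ := hq u
    rw [← hiter k u, hk, hM₀, ← fnMat_eq_updateRow]
    exact det_fnMat_dl q i hq
  have hsum : ∀ s : Finset V,
      (M₀.updateRow i (∑ u ∈ s, x u • (dl u : V → R))).det = ∑ u ∈ s, x u := by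
    intro s
    induction s using Finset.induction_on with
    | empty =>
      rw [Finset.sum_empty, Finset.sum_empty]
      exact Matrix.det_eq_zero_of_row_eq_zero i (fun j => by rw [Matrix.updateRow_self]; rfl)
    | insert a s ha ih =>
      rw [Finset.sum_insert ha, Finset.sum_insert ha, Matrix.det_updateRow_add,
        Matrix.det_updateRow_smul, hone, ih, mul_one]
  have hx : x = ∑ u, x u • (dl u : V → R) := pi_eq_sum_univ x
  have h := hsum Finset.univ
  rw [← hx] at h
  rw [fnMat_eq_updateRow, ← hM₀]
  exact h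

theorem det_fnMat_cyc (q : V → V) (i : V) (hq : ¬ Acyc q i) (x : V → R) :
    (fnMat q i x).det = 0 := by
  classical
  unfold Acyc at hq
  push Not at hq
  obtain ⟨v₀, hv₀⟩ := hq
  obtain ⟨a, b, hab, hfab⟩ := Finite.exists_ne_map_eq_of_infinite (fun k : ℕ => q^[k] v₀)
  have hfab' : q^[a] v₀ = q^[b] v₀ := hfab
  have hex : ∃ (y : V) (m : ℕ), 0 < m ∧ q^[m] y = y ∧ ∀ k, q^[k] y ≠ i := by
    rcases Nat.lt_or_gt_of_ne hab with h | h
    · refine ⟨q^[a] v₀, b - a, Nat.sub_pos_of_lt h, ?_, ?_⟩
      · rw [← Function.iterate_add_apply, Nat.sub_add_cancel h.le]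
        exact hfab'.symm
      · intro k
        rw [← Function.iterate_add_apply]
        exact hv₀ _
    · refine ⟨q^[b] v₀, a - b, Nat.sub_pos_of_lt h, ?_, ?_⟩
      · rw [← Function.iterate_add_apply, Nat.sub_add_cancel h.le]
        exact hfab'
      · intro k
        rw [← Function.iterate_add_apply]
        exact hv₀ _
  obtain ⟨y, m, hm, hper, hyi⟩ := hex
  obtain ⟨C, hC⟩ : ∃ C : Finset V, C = Finset.image (fun k => q^[k] y) (Finset.range m) :=
    ⟨_, rfl⟩
  have hmem : ∀ v, v ∈ C ↔ ∃ k, k < m ∧ q^[k] y = v := by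
    intro v
    rw [hC, Finset.mem_image]
    simp only [Finset.mem_range]
  have hyC : y ∈ C := (hmem y).mpr ⟨0, hm, rfl⟩
  have hCi : ∀ v ∈ C, v ≠ i := by
    intro v hv
    obtain ⟨k, -, rfl⟩ := (hmem v).mp hv
    exact hyi k
  have hqC : ∀ v ∈ C, q v ∈ C := by
    intro v hv
    obtain ⟨k, hk, rfl⟩ := (hmem v).mp hv
    rw [← Function.iterate_succ_apply' q k y]
    show q^[k+1] y ∈ C
    by_cases hk1 : k + 1 < m
    · exact (hmem _).mpr ⟨k + 1, hk1, rfl⟩
    · have : k + 1 = m := by omega
      rw [this, hper]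
      exact hyC
  have hperC : ∀ v ∈ C, q^[m] v = v := by
    intro v hv
    obtain ⟨k, -, rfl⟩ := (hmem v).mp hv
    rw [← Function.iterate_add_apply, add_comm, Function.iterate_add_apply, hper]
  have hinj : ∀ u ∈ C, ∀ u' ∈ C, q u = q u' → u = u' := by
    intro u hu u' hu' h
    have h1 : q^[m] u = q^[m] u' := by
      have hm' : m = (m - 1) + 1 := by omega
      rw [hm', Function.iterate_succ_apply, Function.iterate_succ_apply, h]
    rw [hperC u hu, hperC u' hu'] at h1
    exact h1
  have himg : Finset.image q C = C := by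
    apply Finset.eq_of_subset_of_card_le
    · intro v hv
      obtain ⟨u, hu, rfl⟩ := Finset.mem_image.mp hv
      exact hqC u hu
    · rw [Finset.card_image_of_injOn
        (fun a ha b hb h => hinj a (Finset.mem_coe.mp ha) b (Finset.mem_coe.mp hb) h)]
  have hcomb : (∑ k, (if k ∈ C then (1:R) else 0) • (fnMat q i x) k) = 0 := by
    funext u
    rw [Finset.sum_apply]
    simp only [Pi.smul_apply, smul_eq_mul, ite_mul, one_mul, zero_mul, Pi.zero_apply]
    rw [Finset.sum_ite_mem, Finset.univ_inter]
    rw [Finset.sum_congr rfl (fun k hk => by rw [fnMat_apply, if_neg (hCi k hk)] :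
      ∀ k ∈ C, fnMat q i x k u = dl k u - dl (q k) u)]
    rw [Finset.sum_sub_distrib]
    have h2 : ∑ k ∈ C, (dl (q k) : V → R) u = ∑ k ∈ C, (dl k : V → R) u := by
      conv_rhs => rw [← himg]
      rw [Finset.sum_image (fun a ha b hb h => hinj a ha b hb h)]
    rw [h2, sub_self]
  have h3 := Matrix.det_updateRow_sum (fnMat q i x) y (fun k => if k ∈ C then (1:R) else 0)
  beta_reduce at h3
  rw [hcomb] at h3
  rw [if_pos hyC, one_smul] at h3
  rw [← h3]
  exact Matrix.det_eq_zero_of_row_eq_zero y (fun j => by rw [Matrix.updateRow_self]; rfl)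

end Groth.Agent.Lib.Helper24MTT
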