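import Mathlib
import Groth.Agent.Lib.Helper24MTT1

set_option autoImplicit false

namespace Groth.Agent.Lib.Helper24MTT

open Finset

variable {V E : Type*} [Fintype V] [DecidableEq V] [Fintype E] [DecidableEq E]
  {R : Type*} [CommRing R]

def oth (ends : E → V × V) (v : V) (e : E) : V :=
  if (ends e).1 = v then (ends e).2 else (ends e).1

def Inc (ends : E → V × V) (v : V) (e : E) : Prop := (ends e).1 = v ∨ (ends e).2 = v

instance (ends : E → V × V) (v : V) (e : E) : Decidable (Inc ends v e) := by
  unfold Inc; infer_instance

def rowOf (ends : E → V × V) (σ : V → R) (v : V) : Option E → (V → R)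
  | none => σ
  | some e => dl v - dl (oth ends v e)

def cfOf (ends : E → V × V) (w : E → R) (τ : V → R) (v : V) : Option E → R
  | none => τ v
  | some e => if Inc ends v e then w e else 0

def lapMat (ends : E → V × V) (w : E → R) : Matrix V V R :=
  fun v u => ∑ e, (if Inc ends v e then w e else 0) * (dl v u - dl (oth ends v e) u)

def par (ends : E → V × V) (r : V → Option E) (v : V) : V :=
  (r v).elim v (fun e => oth ends v e)

def wt (w : E → R) (r : V → Option E) : R := ∏ v, (r v).elim 1 w

omit [Fintype V] [Fintype E] [DecidableEq E] in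
theorem par_none {ends : E → V × V} {r : V → Option E} {v : V} (h : r v = none) :
    par ends r v = v := by
  unfold par; rw [h]; rfl

omit [Fintype V] [Fintype E] [DecidableEq E] in
theorem par_some {ends : E → V × V} {r : V → Option E} {v : V} {e : E} (h : r v = some e) :
    par ends r v = oth ends v e := by
  unfold par; rw [h]; rfl

def Good (ends : E → V × V) (i : V) (r : V → Option E) : Prop :=
  r i = none ∧ (∀ v, v ≠ i → ∃ e, r v = some e ∧ Inc ends v e) ∧ Acyc (par ends r) i

theorem det_expand (ends : E → V × V) (w : E → R) (τ σ : V → R) :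
    (lapMat ends w + Matrix.of (fun v u => τ v * σ u)).det =
      ∑ r : V → Option E, (∏ v, cfOf ends w τ v (r v)) *
        (Matrix.of (fun v => rowOf ends σ v (r v))).det := by
  classical
  have hrow : (lapMat ends w + Matrix.of (fun v u => τ v * σ u)) =
      (fun v => ∑ c : Option E, cfOf ends w τ v c • rowOf ends σ v c) := by
    funext v u
    rw [Finset.sum_apply, Fintype.sum_option]
    simp only [Matrix.add_apply, Matrix.of_apply, Pi.smul_apply, smul_eq_mul, cfOf, rowOf,
      lapMat, Pi.sub_apply]
    rw [add_comm]
  rw [hrow]
  have h1 := (Matrix.detRowAlternating (n := V) (R := R)).toMultilinearMap.map_sum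
    (fun (v : V) (c : Option E) => cfOf ends w τ v c • rowOf ends σ v c)
  have h2 : Matrix.det (fun v => ∑ c : Option E, cfOf ends w τ v c • rowOf ends σ v c) =
      ∑ r : V → Option E,
        Matrix.det (fun v => cfOf ends w τ v (r v) • rowOf ends σ v (r v)) := h1
  rw [h2]
  refine Finset.sum_congr rfl (fun r _ => ?_)
  exact Matrix.det_mul_column (fun v => cfOf ends w τ v (r v))
    (Matrix.of (fun v => rowOf ends σ v (r v)))

theorem det_rows_two_none (ends : E → V × V) (σ : V → R) (r : V → Option E) (a b : V)
    (hab : a ≠ b) (ha : r a = none) (hb : r b = none) :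
    (Matrix.of (fun v => rowOf ends σ v (r v))).det = 0 := by
  apply Matrix.det_zero_of_row_eq hab
  show rowOf ends σ a (r a) = rowOf ends σ b (r b)
  rw [ha, hb]
  rfl

theorem det_rows_all_some [Nonempty V] (ends : E → V × V) (σ : V → R) (r : V → Option E)
    (h : ∀ v, r v ≠ none) :
    (Matrix.of (fun v => rowOf ends σ v (r v))).det = 0 := by
  classical
  obtain ⟨j⟩ := ‹Nonempty V›
  obtain ⟨M, hM⟩ : ∃ M : Matrix V V R, M = Matrix.of (fun v => rowOf ends σ v (r v)) :=
    ⟨_, rfl⟩
  rw [← hM]
  have hrs : ∀ v, ∑ u, M v u = 0 := by
    intro v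
    obtain ⟨e, he⟩ : ∃ e, r v = some e := by
      cases hr : r v with
      | none => exact absurd hr (h v)
      | some e => exact ⟨e, rfl⟩
    have hMv : M v = dl v - dl (oth ends v e) := by
      rw [hM]
      show rowOf ends σ v (r v) = _
      rw [he]
      rfl
    rw [hMv]
    simp [dl_apply]
  rw [← Matrix.det_transpose]
  have h3 := Matrix.det_updateRow_sum M.transpose j (fun _ => (1:R))
  have hz : (∑ k, (1:R) • M.transpose k) = 0 := by
    funext v
    rw [Finset.sum_apply]
    simp only [one_smul, Matrix.transpose_apply, Pi.zero_apply]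
    exact hrs v
  beta_reduce at h3
  rw [hz, one_smul] at h3
  rw [← h3]
  exact Matrix.det_eq_zero_of_row_eq_zero j (fun u => by rw [Matrix.updateRow_self]; rfl)

omit [Fintype V] [Fintype E] [DecidableEq E] in
theorem rows_single (ends : E → V × V) (σ : V → R) (r : V → Option E) (i : V)
    (hi : r i = none) (hs : ∀ v, v ≠ i → r v ≠ none) :
    Matrix.of (fun v => rowOf ends σ v (r v)) = fnMat (par ends r) i σ := by
  ext v u
  rw [Matrix.of_apply, fnMat_apply]
  by_cases hv : v = i
  · rw [if_pos hv, hv, hi]
    rfl
  · rw [if_neg hv]
    obtain ⟨e, he⟩ : ∃ e, r v = some e := by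
      cases hr : r v with
      | none => exact absurd hr (hs v hv)
      | some e => exact ⟨e, rfl⟩
    rw [par_some he, he]
    rfl

open Classical in
theorem term_eq [Nonempty V] (ends : E → V × V) (w : E → R) (τ σ : V → R)
    (r : V → Option E) :
    (∏ v, cfOf ends w τ v (r v)) * (Matrix.of (fun v => rowOf ends σ v (r v))).det =
      ∑ i, if Good ends i r then τ i * (∑ u, σ u) * wt w r else 0 := by
  by_cases hA : ∀ v, r v ≠ none
  · rw [det_rows_all_some ends σ r hA, mul_zero]
    symm
    apply Finset.sum_eq_zero
    intro i _
    rw [if_neg]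
    rintro ⟨h1, -, -⟩
    exact hA i h1
  · push Not at hA
    obtain ⟨a, ha⟩ := hA
    by_cases hB : ∃ b, b ≠ a ∧ r b = none
    · obtain ⟨b, hba, hb⟩ := hB
      rw [det_rows_two_none ends σ r a b (Ne.symm hba) ha hb, mul_zero]
      symm
      apply Finset.sum_eq_zero
      intro i _
      rw [if_neg]
      rintro ⟨h1, h2, -⟩
      by_cases hia : a = i
      · obtain ⟨e, he, -⟩ := h2 b (by rw [← hia]; exact hba)
        rw [hb] at he
        cases he
      · obtain ⟨e, he, -⟩ := h2 a hia
        rw [ha] at he
        cases he
    · push Not at hB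
      rw [Finset.sum_eq_single a]
      · rw [rows_single ends σ r a ha hB]
        by_cases hG : Good ends a r
        · rw [if_pos hG]
          obtain ⟨-, h2, h3⟩ := hG
          rw [det_fnMat_acyc (par ends r) a (par_none ha) h3 σ]
          have h1 : (∏ v, if v = a then τ a else (1:R)) = τ a := by
            rw [Finset.prod_ite_eq' Finset.univ a (fun _ => τ a)]
            simp
          have hprod : ∏ v, cfOf ends w τ v (r v) = τ a * wt w r := by
            unfold wt
            rw [← h1, ← Finset.prod_mul_distrib]
            apply Finset.prod_congr rfl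
            intro v _
            by_cases hv : v = a
            · rw [hv, ha, if_pos rfl]
              show τ a = τ a * 1
              rw [mul_one]
            · obtain ⟨e, he, hinc⟩ := h2 v hv
              rw [he, if_neg hv, one_mul]
              show (if Inc ends v e then w e else 0) = w e
              rw [if_pos hinc]
          rw [hprod]
          ring
        · rw [if_neg hG]
          by_cases hadm : ∀ v, v ≠ a → ∃ e, r v = some e ∧ Inc ends v e
          · have hac : ¬ Acyc (par ends r) a := fun h => hG ⟨ha, hadm, h⟩
            rw [det_fnMat_cyc _ _ hac, mul_zero]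
          · push Not at hadm
            obtain ⟨v, hva, hv⟩ := hadm
            obtain ⟨e, he⟩ : ∃ e, r v = some e := by
              cases hr : r v with
              | none => exact absurd hr (hB v hva)
              | some e => exact ⟨e, rfl⟩
            have hz : cfOf ends w τ v (r v) = 0 := by
              rw [he]
              show (if Inc ends v e then w e else 0) = 0
              rw [if_neg (hv e he)]
            rw [Finset.prod_eq_zero (Finset.mem_univ v) hz, zero_mul]
      · intro i _ hia
        rw [if_neg]
        rintro ⟨h1, -, -⟩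
        exact hB i hia h1
      · intro h
        exact absurd (Finset.mem_univ _) h

open Classical in
theorem det_eq_sum_good [Nonempty V] (ends : E → V × V) (w : E → R) (τ σ : V → R) :
    (lapMat ends w + Matrix.of (fun v u => τ v * σ u)).det =
      ∑ i, τ i * (∑ u, σ u) *
        ∑ r ∈ Finset.univ.filter (fun r : V → Option E => Good ends i r), wt w r := by
  rw [det_expand]
  rw [Finset.sum_congr rfl (fun r _ => term_eq ends w τ σ r)]
  rw [Finset.sum_comm]
  refine Finset.sum_congr rfl (fun i _ => ?_)
  rw [Finset.sum_filter]
  have hterm : ∀ r : V → Option E,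
      (if Good ends i r then τ i * (∑ u, σ u) * wt w r else 0) =
        τ i * (∑ u, σ u) * (if Good ends i r then wt w r else 0) := by
    intro r
    split_ifs
    · rfl
    · rw [mul_zero]
  rw [Finset.sum_congr rfl (fun r _ => hterm r), ← Finset.mul_sum]

end Groth.Agent.Lib.Helper24MTT
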