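import Mathlib
import Groth.Prelude.Def_W4c2conddiscmodels
import Groth.Agent.Lib.Helper24Circuit1

set_option autoImplicit false
universe u

namespace Groth.Agent.Lib.Helper24SpTree

open LabGraph DualGr Groth.Agent.Lib.Helper24Circuit

variable {V E : Type u} [Fintype V] [Fintype E] [DecidableEq V] [DecidableEq E]

omit [Fintype V] [Fintype E] [DecidableEq V] [DecidableEq E] in
theorem adj_sub_iff (ends : E → V × V) (T : Finset E) (u w : V) :
    Adj (fun e : T => ends e.1) u w ↔ AdjIn ends T u w := by
  constructor
  · rintro ⟨⟨e, he⟩, h⟩; exact ⟨e, he, h⟩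
  · rintro ⟨e, he, h⟩; exact ⟨⟨e, he⟩, h⟩

omit [Fintype V] [Fintype E] [DecidableEq V] [DecidableEq E] in
theorem connected_sub_iff (ends : E → V × V) (T : Finset E) :
    Connected (fun e : T => ends e.1) ↔
      Nonempty V ∧ ∀ u w, Relation.ReflTransGen (AdjIn ends T) u w := by
  unfold Connected
  have : Adj (fun e : T => ends e.1) = AdjIn ends T := by
    funext u w; exact propext (adj_sub_iff ends T u w)
  rw [this]

omit [Fintype V] [Fintype E] [DecidableEq E] in
theorem endCount_sub (ends : E → V × V) (T : Finset E) (C' : Finset T) (v : V) :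
    endCount (fun e : T => ends e.1) C' v =
      endCount ends (C'.map (Function.Embedding.subtype _)) v := by
  unfold endCount
  rw [Finset.sum_map]
  rfl

omit [Fintype V] [Fintype E] in
theorem isCircuit_sub_iff (ends : E → V × V) (T : Finset E) (C' : Finset T) :
    IsCircuit (fun e : T => ends e.1) C' ↔
      IsCircuit ends (C'.map (Function.Embedding.subtype _)) := by
  unfold IsCircuit
  constructor
  · rintro ⟨hne, hev, hmin⟩
    refine ⟨hne.map, fun v => by rw [← endCount_sub]; exact hev v, ?_⟩
    intro C'' hss hne''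
    have hsubT : ∀ x ∈ C'', x ∈ T := by
      intro x hx
      have := hss.subset hx
      rw [Finset.mem_map] at this
      obtain ⟨y, -, rfl⟩ := this
      exact y.2
    have hmap : (C''.subtype (· ∈ T)).map (Function.Embedding.subtype _) = C'' :=
      Finset.subtype_map_of_mem hsubT
    have hss' : C''.subtype (· ∈ T) ⊂ C' := by
      rw [← Finset.map_ssubset_map (f := Function.Embedding.subtype _), hmap]
      exact hss
    have hne3 : (C''.subtype (· ∈ T)).Nonempty := by
      rw [← Finset.map_nonempty (f := Function.Embedding.subtype _), hmap]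
      exact hne''
    obtain ⟨v, hv⟩ := hmin _ hss' hne3
    refine ⟨v, ?_⟩
    rw [endCount_sub, hmap] at hv
    exact hv
  · rintro ⟨hne, hev, hmin⟩
    refine ⟨Finset.map_nonempty.mp hne, fun v => by rw [endCount_sub]; exact hev v, ?_⟩
    intro C'' hss hne''
    obtain ⟨v, hv⟩ := hmin (C''.map (Function.Embedding.subtype _))
      (Finset.map_ssubset_map.mpr hss) hne''.map
    exact ⟨v, by rw [endCount_sub]; exact hv⟩

omit [Fintype V] [Fintype E] in
theorem isSpanningTree_iff (ends : E → V × V) (T : Finset E) :
    IsSpanningTree ends T ↔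
      (Nonempty V ∧ ∀ u w, Relation.ReflTransGen (AdjIn ends T) u w) ∧
        ∀ C : Finset E, C ⊆ T → ¬ IsCircuit ends C := by
  unfold IsSpanningTree IsTree IsForest
  rw [connected_sub_iff]
  refine and_congr Iff.rfl ?_
  constructor
  · intro h C hCT hC
    have hmap : (C.subtype (· ∈ T)).map (Function.Embedding.subtype _) = C :=
      Finset.subtype_map_of_mem (fun x hx => hCT hx)
    apply h (C.subtype (· ∈ T))
    rw [isCircuit_sub_iff, hmap]
    exact hC
  · intro h C' hC'
    rw [isCircuit_sub_iff] at hC'
    refine h _ ?_ hC'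
    intro x hx
    rw [Finset.mem_map] at hx
    obtain ⟨y, -, rfl⟩ := hx
    exact y.2

/-- removing an edge of an even subset keeps connectivity. -/
theorem erase_connected (ends : E → V × V) (F C : Finset E) (hCF : C ⊆ F) (hC : IsEven ends C)
    (e : E) (he : e ∈ C) (hF : ∀ u w, Relation.ReflTransGen (AdjIn ends F) u w) :
    ∀ u w, Relation.ReflTransGen (AdjIn ends (F.erase e)) u w := by
  have hdet : Relation.ReflTransGen (AdjIn ends (F.erase e)) (ends e).1 (ends e).2 :=
    reach_mono (Finset.erase_subset_erase e hCF) (reach_of_even ends hC he)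
  intro u w
  induction hF u w with
  | refl => exact Relation.ReflTransGen.refl
  | tail _ hbc ih =>
    obtain ⟨e', he', h1⟩ := hbc
    by_cases hee : e' = e
    · rw [hee] at h1
      rcases h1 with h1 | h1
      · rw [h1] at hdet
        exact ih.trans hdet
      · rw [h1] at hdet
        exact ih.trans (reach_symm hdet)
    · exact Relation.ReflTransGen.tail ih ⟨e', Finset.mem_erase.mpr ⟨hee, he'⟩, h1⟩

/-- a connected edge set contains a connected circuit-free edge set. -/
theorem exists_tree_subset (ends : E → V × V) (F : Finset E)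
    (hF : ∀ u w, Relation.ReflTransGen (AdjIn ends F) u w) :
    ∃ T ⊆ F, (∀ u w, Relation.ReflTransGen (AdjIn ends T) u w) ∧
      ∀ C : Finset E, C ⊆ T → ¬ IsCircuit ends C := by
  induction F using Finset.strongInduction with
  | H F ih =>
    by_cases h : ∀ C : Finset E, C ⊆ F → ¬ IsCircuit ends C
    · exact ⟨F, subset_rfl, hF, h⟩
    · push Not at h
      obtain ⟨C, hCF, hC⟩ := h
      obtain ⟨e, he⟩ := hC.1
      have hlt : F.erase e ⊂ F := Finset.erase_ssubset (hCF he)
      obtain ⟨T, hT, h1, h2⟩ := ih (F.erase e) hlt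
        (erase_connected ends F C hCF hC.2.1 e he hF)
      exact ⟨T, hT.trans hlt.subset, h1, h2⟩

theorem s14804 (ends : E → V × V) (hG : Connected ends) (v : V) :
    (∃ C : Finset E, IsCircuit ends C ∧ endCount ends C v ≠ 0) ↔
      ∃ T : Finset E, IsSpanningTree ends T ∧
        ∃ e : E, e ∉ T ∧ ((ends e).1 = v ∨ (ends e).2 = v) := by
  have huniv : ∀ u w, Relation.ReflTransGen (AdjIn ends Finset.univ) u w := by
    intro u w
    have hmono : ∀ a b, Adj ends a b → AdjIn ends Finset.univ a b := by
      rintro a b ⟨e, h⟩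
      exact ⟨e, Finset.mem_univ _, h⟩
    exact Relation.ReflTransGen.mono hmono u w (hG.2 u w)
  constructor
  · rintro ⟨C, hC, hv⟩
    unfold endCount at hv
    obtain ⟨e₀, he₀, hne⟩ := Finset.exists_ne_zero_of_sum_ne_zero hv
    have hend : (ends e₀).1 = v ∨ (ends e₀).2 = v := by
      by_contra hcon
      push Not at hcon
      apply hne
      simp [hcon.1, hcon.2]
    have hconn := erase_connected ends Finset.univ C (Finset.subset_univ _) hC.2.1 e₀ he₀ huniv
    obtain ⟨T, hT, h1, h2⟩ := exists_tree_subset ends _ hconn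
    refine ⟨T, (isSpanningTree_iff ends T).mpr ⟨⟨hG.1, h1⟩, h2⟩, e₀, ?_, hend⟩
    intro h
    exact Finset.notMem_erase e₀ _ (hT h)
  · rintro ⟨T, hT, e, heT, hend⟩
    rw [isSpanningTree_iff] at hT
    obtain ⟨⟨-, hreach⟩, hforest⟩ := hT
    obtain ⟨χ₀, h0, hb⟩ := exists_chain_of_reach ends T (hreach (ends e).1 (ends e).2)
    set γ : E → ℤ := Pi.single e 1 + (-1 : ℤ) • χ₀ with hγ
    have hγb : ∀ v', boundary ends γ v' = 0 := by
      intro v'
      rw [hγ, boundary_add, boundary_smul, hb, boundary_single]
      ring
    have hγe : γ e = 1 := by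
      simp [hγ, h0 e heT]
    have hγoff : ∀ e', e' ∉ T → e' ≠ e → γ e' = 0 := by
      intro e' h1 h2
      simp [hγ, h0 e' h1, Pi.single_eq_of_ne h2]
    have hev := isEven_odd_support ends γ hγb
    have heD : e ∈ Finset.univ.filter (fun e' => Odd (γ e')) := by
      rw [Finset.mem_filter]
      refine ⟨Finset.mem_univ _, ?_⟩
      rw [hγe]
      exact odd_one
    obtain ⟨C, hCD, hC⟩ := exists_circuit_subset ends _ ⟨e, heD⟩ hev
    have heC : e ∈ C := by
      by_contra heC
      apply hforest C _ hC
      intro e' he'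
      by_contra he'T
      have hne : e' ≠ e := fun h => heC (h ▸ he')
      have := (Finset.mem_filter.mp (hCD he')).2
      rw [hγoff e' he'T hne] at this
      exact absurd this (by decide)
    refine ⟨C, hC, ?_⟩
    have hle : ((if (ends e).1 = v then 1 else 0) + (if (ends e).2 = v then 1 else 0) : ℕ) ≤
        endCount ends C v := by
      unfold endCount
      exact Finset.single_le_sum (f := fun e' => ((if (ends e').1 = v then 1 else 0) +
        (if (ends e').2 = v then 1 else 0) : ℕ)) (fun _ _ => Nat.zero_le _) heC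
    have hpos : 0 < ((if (ends e).1 = v then 1 else 0) + (if (ends e).2 = v then 1 else 0) : ℕ) := by
      rcases hend with h | h
      · rw [if_pos h]; omega
      · rw [if_pos h]; omega
    omega

end Groth.Agent.Lib.Helper24SpTree
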