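import Mathlib
import Groth.Prelude.Def_W4c2conddiscmodels
import Groth.Agent.Lib.Helper24Circuit1
import Groth.Agent.Lib.Helper24SpTree
import Groth.Agent.Lib.Helper24MTT2

set_option autoImplicit false
universe u

namespace Groth.Agent.Lib.Helper24MTT

open LabGraph DualGr Groth.Agent.Lib.Helper24Circuit Groth.Agent.Lib.Helper24SpTree Finset

variable {V E : Type u} [Fintype V] [Fintype E] [DecidableEq V] [DecidableEq E]

def treeOf (r : V → Option E) : Finset E := Finset.univ.filter (fun e => ∃ v, r v = some e)

omit [DecidableEq V] in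
theorem mem_treeOf (r : V → Option E) (e : E) : e ∈ treeOf r ↔ ∃ v, r v = some e := by
  unfold treeOf
  rw [Finset.mem_filter]
  exact ⟨fun h => h.2, fun h => ⟨Finset.mem_univ _, h⟩⟩

omit [Fintype V] [Fintype E] [DecidableEq E] in
theorem inc_ends {ends : E → V × V} {v : V} {e : E} (h : Inc ends v e) :
    ends e = (v, oth ends v e) ∨ ends e = (oth ends v e, v) := by
  unfold oth
  by_cases h1 : (ends e).1 = v
  · left
    rw [if_pos h1]
    exact Prod.ext h1 rfl
  · right
    rw [if_neg h1]
    rcases h with h | h
    · exact absurd h h1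
    · exact Prod.ext rfl h

section good

variable {ends : E → V × V} {i : V} {r : V → Option E}

omit [Fintype V] [Fintype E] [DecidableEq E] in
theorem Good.ne_root (hG : Good ends i r) {v : V} {e : E} (h : r v = some e) : v ≠ i := by
  rintro rfl
  rw [hG.1] at h
  cases h

omit [Fintype V] [Fintype E] [DecidableEq E] in
theorem Good.par_ne (hG : Good ends i r) {v : V} {e : E} (h : r v = some e) :
    par ends r v ≠ v := by
  intro hfix
  obtain ⟨k, hk⟩ := hG.2.2 v
  rw [Function.iterate_fixed hfix k] at hk
  exact hG.ne_root h hk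

omit [Fintype V] [Fintype E] [DecidableEq E] in
theorem Good.inc (hG : Good ends i r) {v : V} {e : E} (h : r v = some e) : Inc ends v e := by
  obtain ⟨e', he', hinc⟩ := hG.2.1 v (hG.ne_root h)
  rw [h] at he'
  cases he'
  exact hinc

noncomputable def ht (hG : Good ends i r) (v : V) : ℕ := Nat.find (hG.2.2 v)

omit [Fintype V] [Fintype E] [DecidableEq E] in
theorem ht_succ (hG : Good ends i r) {v : V} {e : E} (h : r v = some e) :
    ht hG v = ht hG (par ends r v) + 1 := by
  unfold ht
  rw [Nat.find_eq_iff]
  constructor
  · rw [Function.iterate_succ_apply]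
    exact Nat.find_spec (hG.2.2 (par ends r v))
  · intro m hm hmi
    cases m with
    | zero => exact hG.ne_root h hmi
    | succ m =>
      rw [Function.iterate_succ_apply] at hmi
      exact Nat.find_min (hG.2.2 (par ends r v)) (by omega) hmi

omit [Fintype V] [Fintype E] [DecidableEq E] in
theorem Good.some_inj (hG : Good ends i r) {u v : V} {e : E} (hu : r u = some e)
    (hv : r v = some e) : u = v := by
  by_contra hne
  have hincu := hG.inc hu
  have hincv := hG.inc hv
  have h1 : oth ends u e = v := by
    rcases inc_ends hincu with h | h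
    · rcases hincv with h' | h'
      · rw [h] at h'
        exact absurd h' hne
      · rw [h] at h'
        exact h'
    · rcases hincv with h' | h'
      · rw [h] at h'
        exact h'
      · rw [h] at h'
        exact absurd h' hne
  have h2 : oth ends v e = u := by
    rcases inc_ends hincv with h | h
    · rcases hincu with h' | h'
      · rw [h] at h'
        exact absurd h'.symm hne
      · rw [h] at h'
        exact h'
    · rcases hincu with h' | h'
      · rw [h] at h'
        exact h'
      · rw [h] at h'
        exact absurd h'.symm hne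
  have hpu : par ends r u = v := by rw [par_some hu, h1]
  have hpv : par ends r v = u := by rw [par_some hv, h2]
  have hall : ∀ k : ℕ, (par ends r)^[k] u = u ∨ (par ends r)^[k] u = v := by
    intro k
    induction k with
    | zero => left; rfl
    | succ k ih =>
      rw [Function.iterate_succ_apply']
      rcases ih with h | h
      · right; rw [h, hpu]
      · left; rw [h, hpv]
  obtain ⟨k, hk⟩ := hG.2.2 u
  rcases hall k with h | h
  · rw [h] at hk
    exact hG.ne_root hu hk
  · rw [h] at hk
    exact hG.ne_root hv hk

theorem treeOf_spanning (hG : Good ends i r) : IsSpanningTree ends (treeOf r) := by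
  classical
  rw [isSpanningTree_iff]
  have hadj : ∀ v e, r v = some e → AdjIn ends (treeOf r) v (par ends r v) := by
    intro v e h
    refine ⟨e, (mem_treeOf r e).mpr ⟨v, h⟩, ?_⟩
    rw [par_some h]
    exact inc_ends (hG.inc h)
  have hreach : ∀ (k : ℕ) (v : V), (par ends r)^[k] v = i →
      Relation.ReflTransGen (AdjIn ends (treeOf r)) v i := by
    intro k
    induction k with
    | zero =>
      intro v hv
      have hv' : v = i := hv
      rw [hv']
    | succ k ih =>
      intro v hv
      rw [Function.iterate_succ_apply] at hv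
      cases hr : r v with
      | none =>
        rw [par_none hr] at hv
        exact ih v hv
      | some e => exact Relation.ReflTransGen.head (hadj v e hr) (ih _ hv)
  refine ⟨⟨⟨i⟩, fun u w => ?_⟩, ?_⟩
  · obtain ⟨k, hk⟩ := hG.2.2 u
    obtain ⟨k', hk'⟩ := hG.2.2 w
    exact (hreach k u hk).trans (reach_symm (hreach k' w hk'))
  · intro C hCT hC
    obtain ⟨hne, hev, -⟩ := hC
    obtain ⟨S, hS⟩ : ∃ S : Finset V, S = Finset.univ.filter (fun v => ∃ e ∈ C, r v = some e) :=
      ⟨_, rfl⟩
    have hmemS : ∀ v, v ∈ S ↔ ∃ e ∈ C, r v = some e := by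
      intro v
      rw [hS, Finset.mem_filter]
      exact ⟨fun h => h.2, fun h => ⟨Finset.mem_univ _, h⟩⟩
    have hSne : S.Nonempty := by
      obtain ⟨e, he⟩ := hne
      obtain ⟨v, hv⟩ := (mem_treeOf r e).mp (hCT he)
      exact ⟨v, (hmemS v).mpr ⟨e, he, hv⟩⟩
    obtain ⟨vm, hvm, hmax⟩ := Finset.exists_max_image S (ht hG) hSne
    obtain ⟨em, hemC, hem⟩ := (hmemS vm).mp hvm
    have hcount : endCount ends C vm = 1 := by
      unfold endCount
      rw [Finset.sum_eq_single em]
      · have hpne := hG.par_ne hem
        rw [par_some hem] at hpne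
        rcases inc_ends (hG.inc hem) with h | h
        · have h1 : (ends em).1 = vm := by rw [h]
          have h2 : (ends em).2 = oth ends vm em := by rw [h]
          rw [h1, h2, if_pos rfl, if_neg hpne]
        · have h1 : (ends em).1 = oth ends vm em := by rw [h]
          have h2 : (ends em).2 = vm := by rw [h]
          rw [h1, h2, if_pos rfl, if_neg hpne]
      · intro e heC hne'
        obtain ⟨u, hu⟩ := (mem_treeOf r e).mp (hCT heC)
        have huS : u ∈ S := (hmemS u).mpr ⟨e, heC, hu⟩
        have hune : u ≠ vm := by
          rintro rfl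
          rw [hu] at hem
          exact hne' (Option.some.inj hem)
        have hpar : oth ends u e ≠ vm := by
          intro hp
          have h3 := hmax u huS
          rw [ht_succ hG hu, par_some hu, hp] at h3
          omega
        rcases inc_ends (hG.inc hu) with h | h
        · have h1 : (ends e).1 = u := by rw [h]
          have h2 : (ends e).2 = oth ends u e := by rw [h]
          rw [h1, h2, if_neg hune, if_neg hpar, add_zero]
        · have h1 : (ends e).1 = oth ends u e := by rw [h]
          have h2 : (ends e).2 = u := by rw [h]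
          rw [h1, h2, if_neg hune, if_neg hpar, add_zero]
      · intro h
        exact absurd hemC h
    have h4 := hev vm
    rw [hcount] at h4
    exact Nat.not_even_one h4

theorem good_injective (hG : Good ends i r) : Function.Injective r := by
  intro u v huv
  cases hu : r u with
  | none =>
    have hv : r v = none := by rw [← huv, hu]
    have h1 : u = i := by
      by_contra h
      obtain ⟨e, he, -⟩ := hG.2.1 u h
      rw [hu] at he
      cases he
    have h2 : v = i := by
      by_contra h
      obtain ⟨e, he, -⟩ := hG.2.1 v h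
      rw [hv] at he
      cases he
    rw [h1, h2]
  | some e =>
    have hv : r v = some e := by rw [← huv, hu]
    exact hG.some_inj hu hv

theorem wt_eq_prod {R : Type*} [CommRing R] (hG : Good ends i r) (w : E → R) :
    wt w r = ∏ e ∈ treeOf r, w e := by
  classical
  unfold wt
  have himg : Finset.univ.image r = insert none ((treeOf r).image some) := by
    ext c
    rw [Finset.mem_image, Finset.mem_insert, Finset.mem_image]
    constructor
    · rintro ⟨v, -, rfl⟩
      cases hr : r v with
      | none => left; rfl
      | some e => right; exact ⟨e, (mem_treeOf r e).mpr ⟨v, hr⟩, rfl⟩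
    · rintro (rfl | ⟨e, he, rfl⟩)
      · exact ⟨i, Finset.mem_univ _, hG.1⟩
      · obtain ⟨v, hv⟩ := (mem_treeOf r e).mp he
        exact ⟨v, Finset.mem_univ _, hv⟩
  have h1 : ∏ v, (r v).elim 1 w = ∏ c ∈ Finset.univ.image r, c.elim 1 w := by
    rw [Finset.prod_image (fun a _ b _ h => good_injective hG h)]
  rw [h1, himg, Finset.prod_insert, Finset.prod_image (fun a _ b _ h => Option.some.inj h)]
  · simp only [Option.elim_none, Option.elim_some, one_mul]
  · rw [Finset.mem_image]
    rintro ⟨e, -, he⟩
    cases he

theorem good_inj {r' : V → Option E} (hG : Good ends i r) (hG' : Good ends i r')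
    (hT : treeOf r = treeOf r') : r = r' := by
  classical
  by_contra hne
  have hex : ∃ v, r v ≠ r' v := by
    by_contra h
    push Not at h
    exact hne (funext h)
  have hstep : ∀ v, r v ≠ r' v → r (par ends r v) ≠ r' (par ends r v) := by
    intro v hv
    have hvi : v ≠ i := by
      rintro rfl
      rw [hG.1, hG'.1] at hv
      exact hv rfl
    obtain ⟨e, he, hinc⟩ := hG.2.1 v hvi
    obtain ⟨e', he', -⟩ := hG'.2.1 v hvi
    have hee : e ≠ e' := by
      rintro rfl
      rw [he, he'] at hv
      exact hv rfl
    have hmem : e ∈ treeOf r' := by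
      rw [← hT]
      exact (mem_treeOf r e).mpr ⟨v, he⟩
    obtain ⟨u, hu⟩ := (mem_treeOf r' e).mp hmem
    have huv : u ≠ v := by
      rintro rfl
      rw [he'] at hu
      exact hee (Option.some.inj hu).symm
    have hincu := hG'.inc hu
    have hpu : par ends r v = u := by
      rw [par_some he]
      rcases inc_ends hinc with h | h
      · rcases hincu with h'' | h''
        · rw [h] at h''
          exact absurd h''.symm huv
        · rw [h] at h''
          exact h''
      · rcases hincu with h'' | h''
        · rw [h] at h''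
          exact h''
        · rw [h] at h''
          exact absurd h''.symm huv
    rw [hpu, hu]
    intro h
    exact huv (hG.some_inj h he)
  obtain ⟨v, hv⟩ := hex
  have hall : ∀ k : ℕ, r ((par ends r)^[k] v) ≠ r' ((par ends r)^[k] v) := by
    intro k
    induction k with
    | zero => exact hv
    | succ k ih =>
      rw [Function.iterate_succ_apply']
      exact hstep _ ih
  obtain ⟨k, hk⟩ := hG.2.2 v
  have h5 := hall k
  rw [hk, hG.1, hG'.1] at h5
  exact h5 rfl

end good

inductive ReachN (ends : E → V × V) (T : Finset E) (i : V) : ℕ → V → Prop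
  | zero : ReachN ends T i 0 i
  | succ {k : ℕ} {v u : V} : AdjIn ends T v u → ReachN ends T i k u → ReachN ends T i (k+1) v

theorem exists_good_of_tree (ends : E → V × V) (i : V) (T : Finset E)
    (hT : IsSpanningTree ends T) : ∃ r : V → Option E, Good ends i r ∧ treeOf r = T := by
  classical
  have hT' := (isSpanningTree_iff ends T).mp hT
  obtain ⟨⟨-, hconn⟩, hfor⟩ := hT'
  have ex : ∀ v, ∃ k, ReachN ends T i k v := by
    intro v
    have h := hconn v i
    induction h using Relation.ReflTransGen.head_induction_on with
    | refl => exact ⟨0, ReachN.zero⟩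
    | head h' _ ih =>
      obtain ⟨k, hk⟩ := ih
      exact ⟨k + 1, ReachN.succ h' hk⟩
  have key : ∀ n v, ReachN ends T i n v → v ≠ i →
      ∃ u e, e ∈ T ∧ (ends e = (v, u) ∨ ends e = (u, v)) ∧
        ∃ m, m < n ∧ ReachN ends T i m u := by
    intro n v h hv
    cases h with
    | zero => exact absurd rfl hv
    | succ hadj hr =>
      obtain ⟨e, he, h⟩ := hadj
      exact ⟨_, e, he, h, _, Nat.lt_succ_self _, hr⟩
  have key2 : ∀ v, v ≠ i → ∃ u e, e ∈ T ∧ (ends e = (v, u) ∨ ends e = (u, v)) ∧
      Nat.find (ex u) < Nat.find (ex v) := by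
    intro v hv
    obtain ⟨u, e, he, h, m, hm, hr⟩ := key _ v (Nat.find_spec (ex v)) hv
    exact ⟨u, e, he, h, lt_of_le_of_lt (Nat.find_le hr) hm⟩
  choose U F hF using key2
  obtain ⟨r, hr⟩ : ∃ r : V → Option E, r = fun v => if h : v = i then none else some (F v h) :=
    ⟨_, rfl⟩
  have hri : r i = none := by rw [hr]; exact dif_pos rfl
  have hrv : ∀ v (h : v ≠ i), r v = some (F v h) := by
    intro v h
    rw [hr]
    exact dif_neg h
  have hothv : ∀ v (h : v ≠ i), oth ends v (F v h) = U v h := by
    intro v h
    obtain ⟨-, h2, h3⟩ := hF v h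
    unfold oth
    rcases h2 with h2 | h2
    · rw [h2, if_pos rfl]
    · have hne : U v h ≠ v := by
        intro heq
        rw [heq] at h3
        exact lt_irrefl _ h3
      rw [h2, if_neg hne]
  have hpar : ∀ v (h : v ≠ i), par ends r v = U v h := by
    intro v h
    rw [par_some (hrv v h), hothv v h]
  have hacyc : ∀ n : ℕ, ∀ v, Nat.find (ex v) ≤ n → ∃ k : ℕ, (par ends r)^[k] v = i := by
    intro n
    induction n with
    | zero =>
      intro v hv
      by_cases hvi : v = i
      · exact ⟨0, hvi⟩
      · have := (hF v hvi).2.2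
        omega
    | succ n ih =>
      intro v hv
      by_cases hvi : v = i
      · exact ⟨0, hvi⟩
      · have h3 := (hF v hvi).2.2
        obtain ⟨k, hk⟩ := ih (U v hvi) (by omega)
        refine ⟨k + 1, ?_⟩
        rw [Function.iterate_succ_apply, hpar v hvi]
        exact hk
  have hG : Good ends i r := by
    refine ⟨hri, ?_, fun v => hacyc _ v le_rfl⟩
    intro v hv
    refine ⟨F v hv, hrv v hv, ?_⟩
    obtain ⟨-, h2, -⟩ := hF v hv
    rcases h2 with h2 | h2
    · left; rw [h2]
    · right; rw [h2]
  refine ⟨r, hG, ?_⟩
  have hsub : treeOf r ⊆ T := by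
    intro e he
    obtain ⟨v, hv⟩ := (mem_treeOf r e).mp he
    have hvi : v ≠ i := hG.ne_root hv
    rw [hrv v hvi] at hv
    rw [← Option.some.inj hv]
    exact (hF v hvi).1
  apply Finset.Subset.antisymm hsub
  intro e heT
  by_contra heN
  have hsp := (isSpanningTree_iff ends (treeOf r)).mp (treeOf_spanning hG)
  obtain ⟨⟨-, hconn'⟩, -⟩ := hsp
  obtain ⟨χ₀, h0, hb⟩ := exists_chain_of_reach ends (treeOf r) (hconn' (ends e).1 (ends e).2)
  obtain ⟨γ, hγdef⟩ : ∃ γ : E → ℤ, γ = χ₀ + (-1 : ℤ) • Pi.single e 1 := ⟨_, rfl⟩
  have hγb : ∀ v, boundary ends γ v = 0 := by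
    intro v
    rw [hγdef, boundary_add, boundary_smul, boundary_single, hb]
    ring
  have hγe : γ e = -1 := by
    rw [hγdef, Pi.add_apply, Pi.smul_apply, Pi.single_eq_same, h0 e heN]
    norm_num
  have hγne : γ ≠ 0 := by
    intro h
    rw [h] at hγe
    norm_num at hγe
  obtain ⟨C, hC, hCs⟩ := exists_circuit_in_support ends γ hγb hγne
  apply hfor C _ hC
  intro e' he'
  have h1 := hCs e' he'
  by_cases hee : e' = e
  · rw [hee]; exact heT
  · apply hsub
    by_contra hn
    apply h1
    rw [hγdef, Pi.add_apply, Pi.smul_apply, Pi.single_eq_of_ne hee, h0 e' hn]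
    norm_num

open Classical in
theorem sum_good_eq {R : Type*} [CommRing R] (ends : E → V × V) (i : V) (w : E → R) :
    ∑ r ∈ Finset.univ.filter (fun r : V → Option E => Good ends i r), wt w r =
      ∑ T ∈ Finset.univ.powerset.filter (fun T : Finset E => IsSpanningTree ends T),
        ∏ e ∈ T, w e := by
  apply Finset.sum_bij (fun r _ => treeOf r)
  · intro r hr
    exact Finset.mem_filter.mpr ⟨Finset.mem_powerset.mpr (Finset.subset_univ _),
      treeOf_spanning (Finset.mem_filter.mp hr).2⟩
  · intro r hr r' hr' h
    exact good_inj (Finset.mem_filter.mp hr).2 (Finset.mem_filter.mp hr').2 h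
  · intro T hT
    obtain ⟨r, hG, rfl⟩ := exists_good_of_tree ends i T (Finset.mem_filter.mp hT).2
    exact ⟨r, Finset.mem_filter.mpr ⟨Finset.mem_univ _, hG⟩, rfl⟩
  · intro r hr
    exact wt_eq_prod (Finset.mem_filter.mp hr).2 w

open Classical in
theorem det_lap_rankone {R : Type*} [CommRing R] [Nonempty V] (ends : E → V × V) (w : E → R)
    (τ σ : V → R) :
    (lapMat ends w + Matrix.of (fun v u => τ v * σ u)).det =
      (∑ i, τ i) * (∑ u, σ u) *
        ∑ T ∈ Finset.univ.powerset.filter (fun T : Finset E => IsSpanningTree ends T),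
          ∏ e ∈ T, w e := by
  rw [det_eq_sum_good]
  rw [Finset.sum_congr rfl (fun i _ => by rw [sum_good_eq ends i w])]
  rw [← Finset.sum_mul, ← Finset.sum_mul]

end Groth.Agent.Lib.Helper24MTT
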