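import Mathlib
import Groth.Prelude.Def_W4c2conddiscmodels

set_option autoImplicit false
universe u

namespace Groth.Agent.Lib.Helper24MTT

open LabGraph Finset

variable {V E : Type u} [Fintype V] [Fintype E] [DecidableEq V] [DecidableEq E]

theorem mf_diag (ends : E → V × V) (β : V → ℤ) (hβ : IsMultFn ends β) (v : V) :
    mfMatrix ends β v v * β v =
      -(∑ u ∈ Finset.univ.erase v, β u * (edgeMult ends v u : ℤ)) := by
  have h1 : mfMatrix ends β v v =
      -(∑ u ∈ Finset.univ.erase v, β u * (edgeMult ends v u : ℤ)) / β v := if_pos rfl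
  rw [h1]
  exact Int.ediv_mul_cancel ((dvd_neg).mpr (hβ v).2)

theorem mf_off (ends : E → V × V) (β : V → ℤ) (v w : V) (h : v ≠ w) :
    mfMatrix ends β v w = (edgeMult ends v w : ℤ) := if_neg h

theorem edgeMult_comm (ends : E → V × V) (v w : V) : edgeMult ends v w = edgeMult ends w v := by
  unfold edgeMult
  congr 1
  apply Finset.filter_congr
  intro e _
  exact or_comm

theorem mf_symm (ends : E → V × V) (β : V → ℤ) (v w : V) :
    mfMatrix ends β v w = mfMatrix ends β w v := by
  by_cases h : v = w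
  · rw [h]
  · rw [mf_off ends β v w h, mf_off ends β w v (Ne.symm h), edgeMult_comm]

theorem mf_mulVec_beta (ends : E → V × V) (β : V → ℤ) (hβ : IsMultFn ends β) :
    (mfMatrix ends β).mulVec β = 0 := by
  funext v
  simp only [Matrix.mulVec, dotProduct, Pi.zero_apply]
  rw [← Finset.add_sum_erase Finset.univ _ (Finset.mem_univ v), mf_diag ends β hβ v]
  have hoff : ∑ w ∈ Finset.univ.erase v, mfMatrix ends β v w * β w =
      ∑ u ∈ Finset.univ.erase v, β u * (edgeMult ends v u : ℤ) := by
    apply Finset.sum_congr rfl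
    intro w hw
    rw [mf_off ends β v w (Finset.ne_of_mem_erase hw).symm, mul_comm]
  rw [hoff]
  ring

theorem mf_vecMul_beta (ends : E → V × V) (β : V → ℤ) (hβ : IsMultFn ends β) :
    Matrix.vecMul β (mfMatrix ends β) = 0 := by
  funext w
  have h := congrFun (mf_mulVec_beta ends β hβ) w
  simp only [Matrix.mulVec, dotProduct, Pi.zero_apply] at h
  simp only [Matrix.vecMul, dotProduct, Pi.zero_apply]
  rw [← h]
  apply Finset.sum_congr rfl
  intro v _
  rw [mf_symm ends β v w, mul_comm]

theorem card_quot_aux (β : V → ℤ) (α : Matrix V V ℤ)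
    (hαβ : α.mulVec β = 0) (hβα : Matrix.vecMul β α = 0)
    (t rr : V → ℤ) (g : ℤ) (hg : g ≠ 0) (hr : ∀ v, β v = g * rr v) (ht : ∑ v, t v * β v = g)
    (hdet : (-α + Matrix.of (fun v u => t v * t u)).det ≠ 0) :
    Nat.card ((LinearMap.ker (betaHom β)) ⧸
      (LinearMap.range (Matrix.mulVecLin α)).comap (LinearMap.ker (betaHom β)).subtype) =
      ((-α + Matrix.of (fun v u => t v * t u)).det).natAbs := by
  classical
  obtain ⟨Ψ, hΨ⟩ : ∃ Ψ : Matrix V V ℤ, Ψ = -α + Matrix.of (fun v u => t v * t u) := ⟨_, rfl⟩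
  rw [← hΨ] at hdet ⊢
  have hbd : ∀ x : V → ℤ, betaHom β x = ∑ v, x v * β v := by
    intro x
    unfold betaHom
    rw [Fintype.linearCombination_apply]
    simp only [smul_eq_mul]
  have hΨx : ∀ x : V → ℤ, Ψ.mulVec x = -(α.mulVec x) + (∑ u, t u * x u) • t := by
    intro x
    rw [hΨ, Matrix.add_mulVec, Matrix.neg_mulVec]
    congr 1
    funext v
    simp only [Matrix.mulVec, dotProduct, Matrix.of_apply, Pi.smul_apply, smul_eq_mul]
    rw [Finset.sum_mul]
    apply Finset.sum_congr rfl
    intro u _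
    ring
  have hαrr : α.mulVec rr = 0 := by
    have hβeq : β = g • rr := by
      funext v
      rw [Pi.smul_apply, smul_eq_mul]
      exact hr v
    rw [hβeq, Matrix.mulVec_smul] at hαβ
    rcases smul_eq_zero.mp hαβ with h | h
    · exact absurd h hg
    · exact h
  have htrr : ∑ u, t u * rr u = 1 := by
    have h1 : g * ∑ u, t u * rr u = g * 1 := by
      calc g * ∑ u, t u * rr u = ∑ u, t u * β u := by
            rw [Finset.mul_sum]
            apply Finset.sum_congr rfl
            intro u _
            rw [hr u]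
            ring
        _ = g := ht
        _ = g * 1 := (mul_one g).symm
    exact mul_left_cancel₀ hg h1
  have hbdα : ∀ x : V → ℤ, ∑ v, (α.mulVec x) v * β v = 0 := by
    intro x
    have h1 : ∑ v, (α.mulVec x) v * β v = dotProduct (Matrix.vecMul β α) x := by
      rw [← Matrix.dotProduct_mulVec]
      simp only [dotProduct]
      apply Finset.sum_congr rfl
      intro v _
      ring
    rw [h1, hβα, zero_dotProduct]
  have hbdrr : ∀ z : V → ℤ, ∑ v, z v * β v = g * ∑ v, rr v * z v := by
    intro z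
    rw [Finset.mul_sum]
    apply Finset.sum_congr rfl
    intro v _
    rw [hr v]
    ring
  obtain ⟨N, hN⟩ : ∃ N : Submodule ℤ (V → ℤ), N = LinearMap.range (Matrix.mulVecLin Ψ) :=
    ⟨_, rfl⟩
  have hmemN : ∀ x, x ∈ N ↔ ∃ y, Ψ.mulVec y = x := by
    intro x
    rw [hN, LinearMap.mem_range]
    simp only [Matrix.mulVecLin_apply]
  let Q : (LinearMap.ker (betaHom β)) →ₗ[ℤ] ((V → ℤ) ⧸ N) :=
    N.mkQ ∘ₗ (LinearMap.ker (betaHom β)).subtype
  have hQapply : ∀ x, Q x = Submodule.Quotient.mk (x : V → ℤ) := fun x => rfl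
  have hQsurj : Function.Surjective Q := by
    intro q
    obtain ⟨z, rfl⟩ := Submodule.Quotient.mk_surjective N q
    obtain ⟨c, hc⟩ : ∃ c : ℤ, c = ∑ v, rr v * z v := ⟨_, rfl⟩
    have hz : z - c • t ∈ LinearMap.ker (betaHom β) := by
      rw [LinearMap.mem_ker, hbd]
      have e1 : ∑ v, (z - c • t) v * β v = ∑ v, z v * β v - c * ∑ v, t v * β v := by
        rw [Finset.mul_sum, ← Finset.sum_sub_distrib]
        apply Finset.sum_congr rfl
        intro v _
        simp only [Pi.sub_apply, Pi.smul_apply, smul_eq_mul]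
        ring
      rw [e1, ht, hbdrr z, ← hc]
      ring
    refine ⟨⟨_, hz⟩, ?_⟩
    rw [hQapply]
    show Submodule.Quotient.mk (z - c • t) = Submodule.Quotient.mk z
    rw [Submodule.Quotient.eq, hmemN]
    refine ⟨-(c • rr), ?_⟩
    rw [Matrix.mulVec_neg, Matrix.mulVec_smul, hΨx rr, hαrr, htrr]
    simp only [neg_zero, zero_add, one_smul]
    abel
  have hQker : LinearMap.ker Q =
      (LinearMap.range (Matrix.mulVecLin α)).comap (LinearMap.ker (betaHom β)).subtype := by
    ext x
    rw [LinearMap.mem_ker, hQapply, Submodule.Quotient.mk_eq_zero, Submodule.mem_comap,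
      LinearMap.mem_range, hmemN]
    simp only [Submodule.subtype_apply, Matrix.mulVecLin_apply]
    have hx : ∑ v, (x : V → ℤ) v * β v = 0 := by
      rw [← hbd]
      exact x.2
    constructor
    · rintro ⟨y, hy⟩
      have h1 : (∑ u, t u * y u) * g = 0 := by
        have h2 := hx
        rw [← hy, hΨx y] at h2
        have e1 : ∑ v, (-(α.mulVec y) + (∑ u, t u * y u) • t) v * β v =
            -(∑ v, (α.mulVec y) v * β v) + (∑ u, t u * y u) * ∑ v, t v * β v := by
          rw [Finset.mul_sum, ← Finset.sum_neg_distrib, ← Finset.sum_add_distrib]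
          apply Finset.sum_congr rfl
          intro v _
          simp only [Pi.add_apply, Pi.neg_apply, Pi.smul_apply, smul_eq_mul]
          ring
        rw [e1, hbdα y, ht] at h2
        linarith
      have h3 : ∑ u, t u * y u = 0 := by
        rcases mul_eq_zero.mp h1 with h | h
        · exact h
        · exact absurd h hg
      refine ⟨-y, ?_⟩
      rw [Matrix.mulVec_neg, ← hy, hΨx y, h3, zero_smul, add_zero]
    · rintro ⟨y, hy⟩
      refine ⟨-y + (∑ u, t u * y u) • rr, ?_⟩
      have h4 : ∑ u, t u * (-y + (∑ u, t u * y u) • rr) u = 0 := by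
        have e2 : ∑ u, t u * (-y + (∑ u, t u * y u) • rr) u =
            -(∑ u, t u * y u) + (∑ u, t u * y u) * ∑ u, t u * rr u := by
          rw [Finset.mul_sum, ← Finset.sum_neg_distrib, ← Finset.sum_add_distrib]
          apply Finset.sum_congr rfl
          intro u _
          simp only [Pi.add_apply, Pi.neg_apply, Pi.smul_apply, smul_eq_mul]
          ring
        rw [e2, htrr]
        ring
      rw [hΨx, h4, Matrix.mulVec_add, Matrix.mulVec_neg, Matrix.mulVec_smul, hαrr, smul_zero,
        add_zero, neg_neg, hy, zero_smul, add_zero]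
  have hcard1 : Nat.card (↥(LinearMap.ker (betaHom β)) ⧸
      (LinearMap.range (Matrix.mulVecLin α)).comap (LinearMap.ker (betaHom β)).subtype) =
      Nat.card ((V → ℤ) ⧸ N) := by
    rw [← hQker]
    exact Nat.card_congr (Q.quotKerEquivOfSurjective hQsurj).toEquiv
  have hinj : Function.Injective (Matrix.mulVecLin Ψ) := by
    rw [← LinearMap.ker_eq_bot, LinearMap.ker_eq_bot']
    intro x hx
    rw [Matrix.mulVecLin_apply] at hx
    exact Matrix.eq_zero_of_mulVec_eq_zero hdet hx
  have h5 := Submodule.natAbs_det_equiv (LinearMap.range (Matrix.mulVecLin Ψ))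
    (LinearEquiv.ofInjective (Matrix.mulVecLin Ψ) hinj)
  have hdetL : ∀ L : (V → ℤ) →ₗ[ℤ] (V → ℤ), (∀ x, L x = Ψ.mulVec x) →
      LinearMap.det L = Ψ.det := by
    intro L hL
    have hLe : L = Matrix.toLin' Ψ := by
      apply LinearMap.ext
      intro x
      rw [hL, Matrix.toLin'_apply]
    rw [hLe, LinearMap.det_toLin']
  rw [hdetL _ (fun x => rfl)] at h5
  rw [hcard1, hN]
  exact h5.symm

end Groth.Agent.Lib.Helper24MTT
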