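import Mathlib
import Groth.Prelude.Def_W4c2conddiscmodels
import Groth.Agent.Lib.Helper24Circuit1
import Groth.Agent.Lib.Helper24SpTree
import Groth.Agent.Lib.Helper24MTT3
import Groth.Agent.Lib.Helper24MTT4

set_option autoImplicit false
universe u

namespace Groth.Agent.Lib.Helper24MTT

open LabGraph DualGr Groth.Agent.Lib.Helper24Circuit Groth.Agent.Lib.Helper24SpTree Finset

variable {V E : Type u} [Fintype V] [Fintype E] [DecidableEq V] [DecidableEq E]

theorem lapMat_row_sum {R : Type*} [CommRing R] (ends : E → V × V) (w : E → R) (v : V) :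
    ∑ u, lapMat ends w v u = 0 := by
  simp only [lapMat]
  rw [Finset.sum_comm]
  apply Finset.sum_eq_zero
  intro e _
  rw [← Finset.mul_sum]
  have h : ∑ u, ((dl v : V → R) u - (dl (oth ends v e) : V → R) u) = 0 := by
    simp [dl_apply]
  rw [h, mul_zero]

theorem lapMat_offdiag (ends : E → V × V) (β : V → ℤ) (v u : V) (hvu : v ≠ u) :
    lapMat ends (fun e => β (ends e).1 * β (ends e).2) v u =
      -(β v * (edgeMult ends v u : ℤ) * β u) := by
  simp only [lapMat, edgeMult]
  rw [Finset.card_filter]
  push_cast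
  rw [Finset.mul_sum, Finset.sum_mul, ← Finset.sum_neg_distrib]
  apply Finset.sum_congr rfl
  intro e _
  rw [dl_apply, if_neg hvu, dl_apply]
  by_cases h : ends e = (v, u) ∨ ends e = (u, v)
  · have hinc : Inc ends v e := by
      rcases h with h | h
      · left; rw [h]
      · right; rw [h]
    have hoth : oth ends v e = u := by
      unfold oth
      rcases h with h | h
      · rw [h]; exact if_pos rfl
      · rw [h]; exact if_neg (Ne.symm hvu)
    have hw : β (ends e).1 * β (ends e).2 = β v * β u := by
      rcases h with h | h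
      · rw [h]
      · rw [h]; exact mul_comm _ _
    rw [if_pos h, if_pos hinc, hoth, if_pos rfl, hw]
    ring
  · rw [if_neg h]
    by_cases hinc : Inc ends v e
    · have hoth : oth ends v e ≠ u := by
        intro ho
        apply h
        rcases inc_ends hinc with h' | h'
        · left; rw [h', ho]
        · right; rw [h', ho]
      rw [if_pos hinc, if_neg hoth]
      ring
    · rw [if_neg hinc]
      ring

theorem lapMat_eq (ends : E → V × V) (β : V → ℤ) (hβ : IsMultFn ends β) (v u : V) :
    lapMat ends (fun e => β (ends e).1 * β (ends e).2) v u =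
      -(β v * mfMatrix ends β v u * β u) := by
  by_cases hvu : v = u
  · subst hvu
    have hrow := lapMat_row_sum ends (fun e => β (ends e).1 * β (ends e).2) v
    rw [← Finset.add_sum_erase Finset.univ _ (Finset.mem_univ v)] at hrow
    have hoff : ∑ x ∈ Finset.univ.erase v,
        lapMat ends (fun e => β (ends e).1 * β (ends e).2) v x =
        -(β v * ∑ x ∈ Finset.univ.erase v, β x * (edgeMult ends v x : ℤ)) := by
      rw [Finset.mul_sum, ← Finset.sum_neg_distrib]
      apply Finset.sum_congr rfl
      intro x hx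
      rw [lapMat_offdiag ends β v x (Finset.ne_of_mem_erase hx).symm]
      ring
    rw [hoff] at hrow
    have hd := mf_diag ends β hβ v
    have h3 : β v * mfMatrix ends β v v * β v = β v * (mfMatrix ends β v v * β v) := by ring
    rw [h3, hd]
    linarith
  · rw [lapMat_offdiag ends β v u hvu, mf_off ends β v u hvu]

theorem diag_conj_eq (ends : E → V × V) (β : V → ℤ) (hβ : IsMultFn ends β) (t : V → ℤ) :
    Matrix.diagonal β * (-(mfMatrix ends β) + Matrix.of (fun v u => t v * t u)) *
        Matrix.diagonal β =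
      lapMat ends (fun e => β (ends e).1 * β (ends e).2) +
        Matrix.of (fun v u => (β v * t v) * (β u * t u)) := by
  ext v u
  simp only [Matrix.mul_diagonal, Matrix.diagonal_mul, Matrix.add_apply, Matrix.neg_apply,
    Matrix.of_apply, lapMat_eq ends β hβ v u]
  ring

theorem prod_edge_eq (ends : E → V × V) (β : V → ℤ) (T : Finset E) :
    ∏ e ∈ T, (β (ends e).1 * β (ends e).2) = ∏ v, β v ^ endCount ends T v := by
  have h1 : ∀ v, β v ^ endCount ends T v = ∏ e ∈ T,
      β v ^ ((if (ends e).1 = v then 1 else 0) + (if (ends e).2 = v then 1 else 0)) := by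
    intro v
    unfold endCount
    rw [Finset.prod_pow_eq_pow_sum]
  rw [Finset.prod_congr rfl (fun v _ => h1 v), Finset.prod_comm]
  apply Finset.prod_congr rfl
  intro e _
  simp only [pow_add]
  rw [Finset.prod_mul_distrib, Finset.prod_pow_boole, Finset.prod_pow_boole]
  simp

theorem endCount_eq_nbrCount (ends : E → V × V) (T : Finset E) (hT : IsSpanningTree ends T)
    (v : V) : endCount ends T v = nbrCount ends T v := by
  classical
  obtain ⟨-, hfor⟩ := (isSpanningTree_iff ends T).mp hT
  have hloop : ∀ e ∈ T, (ends e).1 ≠ (ends e).2 := by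
    intro e he hl
    have hev : IsEven ends {e} := by
      intro x
      unfold endCount
      rw [Finset.sum_singleton, hl]
      by_cases hx : (ends e).2 = x
      · rw [if_pos hx]
        exact ⟨1, rfl⟩
      · rw [if_neg hx]
        exact ⟨0, rfl⟩
    obtain ⟨C, hC, hcirc⟩ := exists_circuit_subset ends {e} (Finset.singleton_nonempty e) hev
    exact hfor C (hC.trans (Finset.singleton_subset_iff.mpr he)) hcirc
  have hpar : ∀ e ∈ T, ∀ e' ∈ T, ∀ a b, (ends e = (a, b) ∨ ends e = (b, a)) →
      (ends e' = (a, b) ∨ ends e' = (b, a)) → e = e' := by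
    intro e he e' he' a b h h'
    by_contra hne
    have hev : IsEven ends {e, e'} := by
      intro x
      unfold endCount
      rw [Finset.sum_pair hne]
      rcases h with h | h <;> rcases h' with h' | h' <;> rw [h, h'] <;> dsimp only <;>
        split_ifs <;> decide
    obtain ⟨C, hC, hcirc⟩ := exists_circuit_subset ends {e, e'} (Finset.insert_nonempty _ _) hev
    refine hfor C (hC.trans ?_) hcirc
    intro x hx
    rw [Finset.mem_insert, Finset.mem_singleton] at hx
    rcases hx with rfl | rfl
    · exact he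
    · exact he'
  have h1 : endCount ends T v = (T.filter (fun e => Inc ends v e)).card := by
    unfold endCount
    rw [Finset.card_filter]
    apply Finset.sum_congr rfl
    intro e he
    have hl := hloop e he
    by_cases h1 : (ends e).1 = v <;> by_cases h2 : (ends e).2 = v
    · exact absurd (h1.trans h2.symm) hl
    · simp [Inc, h1, h2]
    · simp [Inc, h1, h2]
    · simp [Inc, h1, h2]
  have h2 : (T.filter (fun e => Inc ends v e)).card = nbrCount ends T v := by
    unfold nbrCount
    apply Finset.card_bij (fun e _ => oth ends v e)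
    · intro e he
      rw [Finset.mem_filter] at he ⊢
      obtain ⟨heT, hinc⟩ := he
      refine ⟨Finset.mem_univ _, ?_, e, heT, inc_ends hinc⟩
      intro ho
      rcases inc_ends hinc with h | h
      · exact hloop e heT (by rw [h]; exact ho.symm)
      · exact hloop e heT (by rw [h]; exact ho)
    · intro e he e' he' hoo
      rw [Finset.mem_filter] at he he'
      exact hpar e he.1 e' he'.1 v (oth ends v e) (inc_ends he.2)
        (by rw [hoo]; exact inc_ends he'.2)
    · intro w hw
      rw [Finset.mem_filter] at hw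
      obtain ⟨-, hwv, e, heT, hends⟩ := hw
      have hinc : Inc ends v e := by
        rcases hends with h | h
        · left; rw [h]
        · right; rw [h]
      refine ⟨e, Finset.mem_filter.mpr ⟨heT, hinc⟩, ?_⟩
      unfold oth
      rcases hends with h | h
      · rw [h]; exact if_pos rfl
      · rw [h]; exact if_neg hwv
  rw [h1, h2]

open Classical in
theorem s14803 (ends : E → V × V) (β : V → ℤ) (hβ : IsMultFn ends β) (hG : Connected ends) :
    (Nat.card (CompGrp ends β) : ℚ) =
      ((Finset.univ.gcd β : ℤ) : ℚ) ^ 2 *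
        ∑ T ∈ Finset.univ.powerset.filter (fun T : Finset E => IsSpanningTree ends T),
          ∏ v : V, ((β v : ℚ) ^ ((nbrCount ends T v : ℤ) - 2)) := by
  have hne : Nonempty V := hG.1
  obtain ⟨g, hgdef⟩ : ∃ g : ℤ, g = Finset.univ.gcd β := ⟨_, rfl⟩
  rw [← hgdef]
  have hβpos : ∀ v, 0 < β v := fun v => (hβ v).1
  have hgne : g ≠ 0 := by
    rw [hgdef]
    intro h
    rw [Finset.gcd_eq_zero_iff] at h
    obtain ⟨v⟩ := ‹Nonempty V›
    exact (hβpos v).ne' (h v (Finset.mem_univ v))
  have hgdvd : ∀ v, g ∣ β v := fun v => by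
    rw [hgdef]
    exact Finset.gcd_dvd (Finset.mem_univ v)
  obtain ⟨t0, ht0⟩ := Finset.gcd_eq_sum_mul Finset.univ β
  have ht : ∑ v, t0 v * β v = g := by
    rw [hgdef, ht0]
    apply Finset.sum_congr rfl
    intro v _
    ring
  have hr : ∀ v, β v = g * (β v / g) := fun v => (Int.mul_ediv_cancel' (hgdvd v)).symm
  have hαβ := mf_mulVec_beta ends β hβ
  have hβα := mf_vecMul_beta ends β hβ
  obtain ⟨S, hS⟩ : ∃ S : ℤ, S = ∑ T ∈ Finset.univ.powerset.filter
      (fun T : Finset E => IsSpanningTree ends T), ∏ e ∈ T, (β (ends e).1 * β (ends e).2) :=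
    ⟨_, rfl⟩
  obtain ⟨P, hP⟩ : ∃ P : ℤ, P = ∏ v, β v := ⟨_, rfl⟩
  have hPpos : 0 < P := by
    rw [hP]
    exact Finset.prod_pos (fun v _ => hβpos v)
  have hex : ∃ T : Finset E, IsSpanningTree ends T := by
    have huniv : ∀ u w, Relation.ReflTransGen (AdjIn ends Finset.univ) u w := by
      intro u w
      have hmono : ∀ a b, Adj ends a b → AdjIn ends Finset.univ a b := by
        rintro a b ⟨e, h⟩
        exact ⟨e, Finset.mem_univ _, h⟩
      exact Relation.ReflTransGen.mono hmono u w (hG.2 u w)
    obtain ⟨T, -, h1, h2⟩ := exists_tree_subset ends Finset.univ huniv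
    exact ⟨T, (isSpanningTree_iff ends T).mpr ⟨⟨hG.1, h1⟩, h2⟩⟩
  have hSpos : 0 < S := by
    rw [hS]
    apply Finset.sum_pos
    · intro T _
      exact Finset.prod_pos (fun e _ => mul_pos (hβpos _) (hβpos _))
    · obtain ⟨T, hT⟩ := hex
      exact ⟨T, Finset.mem_filter.mpr ⟨Finset.mem_powerset.mpr (Finset.subset_univ _), hT⟩⟩
  have hB := det_lap_rankone ends (fun e => β (ends e).1 * β (ends e).2)
    (fun v => β v * t0 v) (fun v => β v * t0 v)
  have hτ : ∑ v, β v * t0 v = g := by
    rw [← ht]
    apply Finset.sum_congr rfl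
    intro v _
    ring
  rw [← diag_conj_eq ends β hβ t0, Matrix.det_mul, Matrix.det_mul, Matrix.det_diagonal, hτ,
    ← hS, ← hP] at hB
  obtain ⟨D, hD⟩ : ∃ D : ℤ,
      D = (-(mfMatrix ends β) + Matrix.of (fun v u => t0 v * t0 u)).det := ⟨_, rfl⟩
  rw [← hD] at hB
  have hDpos : 0 < D := by
    have h1 : 0 < P * D * P := by
      rw [hB]
      exact mul_pos (mul_self_pos.mpr hgne) hSpos
    by_contra h
    push Not at h
    have h2 : P * D * P ≤ 0 := by
      have h3 := mul_nonneg (neg_nonneg.mpr h) (mul_pos hPpos hPpos).le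
      nlinarith
    linarith
  have hcard := card_quot_aux β (mfMatrix ends β) hαβ hβα t0 (fun v => β v / g) g hgne hr ht
    (by rw [← hD]; exact hDpos.ne')
  have hcard' : Nat.card (CompGrp ends β) = D.natAbs := by
    rw [hD]
    exact hcard
  rw [hcard']
  have hDq : ((D.natAbs : ℕ) : ℚ) = (D : ℚ) := by
    rw [Nat.cast_natAbs, abs_of_pos hDpos]
  rw [hDq]
  have hterm : ∀ T ∈ Finset.univ.powerset.filter (fun T : Finset E => IsSpanningTree ends T),
      ∏ v : V, ((β v : ℚ) ^ ((nbrCount ends T v : ℤ) - 2)) =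
        ((∏ e ∈ T, (β (ends e).1 * β (ends e).2) : ℤ) : ℚ) / (P : ℚ) ^ 2 := by
    intro T hT
    have hTs := (Finset.mem_filter.mp hT).2
    rw [prod_edge_eq ends β T, hP]
    push_cast
    rw [← Finset.prod_pow, ← Finset.prod_div_distrib]
    apply Finset.prod_congr rfl
    intro v _
    have hne : (β v : ℚ) ≠ 0 := by exact_mod_cast (hβpos v).ne'
    rw [zpow_sub₀ hne, zpow_natCast, endCount_eq_nbrCount ends T hTs v, zpow_ofNat]
  rw [Finset.sum_congr rfl hterm, ← Finset.sum_div]
  have hSq : (∑ T ∈ Finset.univ.powerset.filter (fun T : Finset E => IsSpanningTree ends T),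
      ((∏ e ∈ T, (β (ends e).1 * β (ends e).2) : ℤ) : ℚ)) = (S : ℚ) := by
    rw [hS, Int.cast_sum]
  rw [hSq]
  have hBq : (P : ℚ) * D * P = g * g * S := by exact_mod_cast hB
  have hPq : (P : ℚ) ≠ 0 := by exact_mod_cast hPpos.ne'
  field_simp
  linarith

end Groth.Agent.Lib.Helper24MTT
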