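import Mathlib
import Groth.Prelude.Def_W4c3perfectstacksMV

set_option autoImplicit false
set_option linter.unusedSectionVars false
set_option linter.style.haveILetI false
universe v u

open CategoryTheory CategoryTheory.Limits CategoryTheory.Pretriangulated

namespace Groth.Agent.Lib.Helper24MVSq

section LemmaL

variable {T U : Type u} [Category.{v} T] [Category.{v} U] [Preadditive T] [Preadditive U]
  [HasZeroObject T] [HasZeroObject U] [HasShift T ℤ] [HasShift U ℤ]
  [∀ n : ℤ, (shiftFunctor T n).Additive] [∀ n : ℤ, (shiftFunctor U n).Additive]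
  [Pretriangulated T] [Pretriangulated U]
  (L : T ⥤ U) (Rr : U ⥤ T) (adj : L ⊣ Rr) [L.CommShift ℤ]

include adj in
/-- A map from an object killed by `L` to (an object isomorphic to) a value of the right adjoint of
`L` vanishes. -/
theorem eq_zero_of_isZero_left {X J : T} (hX : IsZero (L.obj X)) {Y : U} (i : J ≅ Rr.obj Y)
    (u : X ⟶ J) : u = 0 := by
  have h : u ≫ i.hom = (0 : X ⟶ J) ≫ i.hom := by
    apply (adj.homEquiv X Y).symm.injective
    exact hX.eq_of_src _ _
  exact (cancel_mono i.hom).1 h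

theorem isZero_shift_obj {X : T} (hX : IsZero (L.obj X)) (n : ℤ) :
    IsZero (L.obj ((shiftFunctor T n).obj X)) := by
  have e : L.obj ((shiftFunctor T n).obj X) ≅ (shiftFunctor U n).obj (L.obj X) :=
    (L.commShiftIso n).app X
  exact IsZero.of_iso ((shiftFunctor U n).map_isZero hX) e

include adj in
/-- For a distinguished triangle `A ⟶ B ⟶ J ⟶ A⟦1⟧` whose third vertex is (isomorphic to) a value of
the right adjoint of `L`, and `K` killed by `L`: composition with `A ⟶ B` is bijective on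
`Hom(K, -)`. -/
theorem bijective_comp_mor₁ (T' : Triangle T) (hT' : T' ∈ distTriang T) {Y : U}
    (i : T'.obj₃ ≅ Rr.obj Y) {K : T} (hK : IsZero (L.obj K)) :
    Function.Bijective (fun g : K ⟶ T'.obj₁ => g ≫ T'.mor₁) := by
  constructor
  · intro g₁ g₂ h
    have h' : (g₁ - g₂) ≫ T'.mor₁ = 0 := by
      rw [Preadditive.sub_comp]; exact sub_eq_zero.2 h
    have h1 : (g₁ - g₂)⟦(1 : ℤ)⟧' ≫ T'.mor₁⟦(1 : ℤ)⟧' = 0 := by
      rw [← Functor.map_comp, h', Functor.map_zero]
    obtain ⟨u, hu⟩ := Triangle.coyoneda_exact₁ T' hT' _ h1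
    have hu0 : u = 0 := eq_zero_of_isZero_left L Rr adj (isZero_shift_obj L hK 1) i u
    rw [hu0, zero_comp] at hu
    have h2 : g₁ - g₂ = 0 := (shiftFunctor T (1 : ℤ)).map_injective (by rw [hu, Functor.map_zero])
    exact sub_eq_zero.1 h2
  · intro g
    have h0 : g ≫ T'.mor₂ = 0 := eq_zero_of_isZero_left L Rr adj hK i _
    obtain ⟨g', hg'⟩ := Triangle.coyoneda_exact₂ T' hT' g h0
    exact ⟨g', hg'.symm⟩

end LemmaL

section Main

variable {S S' R R' : Type u} [Category.{v} S] [Category.{v} S'] [Category.{v} R] [Category.{v} R']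
  [Preadditive S] [Preadditive S'] [Preadditive R] [Preadditive R']
  [HasZeroObject S] [HasZeroObject S'] [HasZeroObject R] [HasZeroObject R']
  [HasShift S ℤ] [HasShift S' ℤ] [HasShift R ℤ] [HasShift R' ℤ]
  [∀ n : ℤ, (shiftFunctor S n).Additive] [∀ n : ℤ, (shiftFunctor S' n).Additive]
  [∀ n : ℤ, (shiftFunctor R n).Additive] [∀ n : ℤ, (shiftFunctor R' n).Additive]
  [Pretriangulated S] [Pretriangulated S'] [Pretriangulated R] [Pretriangulated R']
  (q : W4c3perfectstacks.MVSq S S' R R')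
  [q.jst.CommShift ℤ] [q.fst.CommShift ℤ] [q.jpst.CommShift ℤ] [q.gst.CommShift ℤ]
  [q.jst.IsTriangulated] [q.fst.IsTriangulated] [q.jpst.IsTriangulated] [q.gst.IsTriangulated]

/-- `f^*` is bijective on `Hom(K, N')` when the unit of `f` at `N'` is an isomorphism. -/
theorem bijective_map_of_isIso_unit (K N' : S) [IsIso (q.adjF.unit.app N')] :
    Function.Bijective (fun g : K ⟶ N' => q.fst.map g) := by
  have key : ∀ g : K ⟶ N', q.adjF.homEquiv K (q.fst.obj N') (q.fst.map g) =
      g ≫ q.adjF.unit.app N' := by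
    intro g
    rw [Adjunction.homEquiv_unit]
    exact (q.adjF.unit.naturality g).symm
  constructor
  · intro g₁ g₂ h
    have h1 : g₁ ≫ q.adjF.unit.app N' = g₂ ≫ q.adjF.unit.app N' := by
      rw [← key, ← key]
      exact congrArg _ h
    exact (cancel_mono _).1 h1
  · intro h
    refine ⟨q.adjF.homEquiv K (q.fst.obj N') h ≫ inv (q.adjF.unit.app N'), ?_⟩
    apply (q.adjF.homEquiv K (q.fst.obj N')).injective
    show q.adjF.homEquiv K (q.fst.obj N') (q.fst.map _) = _
    rw [key, Category.assoc, IsIso.inv_hom_id, Category.comp_id]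

theorem map_bijective_of_isZero_pullback (hq : q.IsMV) (M : S') (hM : IsZero (q.jpst.obj M))
    (N : S) : Function.Bijective (fun g : q.fls.obj M ⟶ N => q.fst.map g) := by
  have hK : IsZero (q.jst.obj (q.fls.obj M)) := by
    haveI := hq.isIso_bcApp M
    haveI := q.adjG.isRightAdjoint
    have h1 : IsZero (q.gls.obj (q.jpst.obj M)) := q.gls.map_isZero hM
    exact IsZero.of_iso h1 (asIso (q.bcApp M))
  obtain ⟨N', a, c, hT⟩ := distinguished_cocone_triangle₁ (q.adjJ.unit.app N)
  have hN' : IsZero (q.jst.obj N') := by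
    have hT2 := q.jst.map_distinguished _ hT
    have hiso : IsIso (q.jst.map (q.adjJ.unit.app N)) := by
      haveI := hq.isIso_counitJ
      have h1 : q.jst.map (q.adjJ.unit.app N) ≫ q.adjJ.counit.app (q.jst.obj N) = 𝟙 _ :=
        q.adjJ.left_triangle_components N
      haveI : IsIso (q.jst.map (q.adjJ.unit.app N) ≫ q.adjJ.counit.app (q.jst.obj N)) := by
        rw [h1]; infer_instance
      exact IsIso.of_isIso_comp_right _ (q.adjJ.counit.app (q.jst.obj N))
    exact (Triangle.isZero₁_iff_isIso₂ _ hT2).2 hiso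
  have hbijA : Function.Bijective (fun g : q.fls.obj M ⟶ N' => g ≫ a) :=
    bijective_comp_mor₁ q.jst q.jls q.adjJ (Triangle.mk a (q.adjJ.unit.app N) c) hT
      (Iso.refl _) hK
  have hK' : IsZero (q.jpst.obj (q.fst.obj (q.fls.obj M))) :=
    IsZero.of_iso (q.gst.map_isZero hK) (q.e.app (q.fls.obj M)).symm
  haveI := hq.isIso_bc2App (q.jst.obj N)
  have i3 : q.fst.obj (q.jls.obj (q.jst.obj N)) ≅ q.jpls.obj (q.gst.obj (q.jst.obj N)) :=
    asIso (q.bc2App (q.jst.obj N))
  have hbijB : Function.Bijective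
      (fun g : q.fst.obj (q.fls.obj M) ⟶ q.fst.obj N' => g ≫ q.fst.map a) :=
    bijective_comp_mor₁ q.jpst q.jpls q.adjJp
      (q.fst.mapTriangle.obj (Triangle.mk a (q.adjJ.unit.app N) c)) (q.fst.map_distinguished _ hT)
      i3 hK'
  haveI := hq.isIso_unitF N' hN'
  have hbijC := bijective_map_of_isIso_unit q (q.fls.obj M) N'
  constructor
  · intro g₁ g₂ h
    obtain ⟨g₁', rfl⟩ := hbijA.2 g₁
    obtain ⟨g₂', rfl⟩ := hbijA.2 g₂
    have h1 : q.fst.map g₁' ≫ q.fst.map a = q.fst.map g₂' ≫ q.fst.map a := by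
      rw [← Functor.map_comp, ← Functor.map_comp]; exact h
    have h2 : q.fst.map g₁' = q.fst.map g₂' := hbijB.1 h1
    have h3 : g₁' = g₂' := hbijC.1 h2
    rw [h3]
  · intro h
    obtain ⟨h', hh'⟩ := hbijB.2 h
    obtain ⟨g', hg'⟩ := hbijC.2 h'
    refine ⟨g' ≫ a, ?_⟩
    show q.fst.map (g' ≫ a) = h
    rw [Functor.map_comp, ← hh']
    show _ = h' ≫ q.fst.map a
    rw [← hg']

end Main

end Groth.Agent.Lib.Helper24MVSq
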