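import Mathlib
import Groth.Agent.Lib.Helper23DerLES

/-!
# Long exact sequence of right derived functors for a short exact sequence of functors (on injectives),
biproducts of functors, and the abstract relative Mayer–Vietoris sequence (helper9)
-/

set_option autoImplicit false

open CategoryTheory CategoryTheory.Limits

namespace Groth.Agent.Lib.Helper9.DerMV

universe v v' u u'

variable {C : Type u} [Category.{v} C] [Abelian C]
  {D : Type u'} [Category.{v'} D] [Abelian D]

open Groth.Agent.Lib.Helper23DerLES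

section LES

variable {T' T T'' : C ⥤ D} [T'.Additive] [T.Additive] [T''.Additive]
  (α : T' ⟶ T) (β : T ⟶ T'') (w : α ≫ β = 0)
  (hex : ∀ Q : C, Injective Q → (ShortComplex.mk (α.app Q) (β.app Q) (by
    rw [← NatTrans.comp_app, w]; rfl)).ShortExact)
  [HasInjectiveResolutions C]

lemma rd_app_eq {F G : C ⥤ D} [F.Additive] [G.Additive] (θ : F ⟶ G) {X : C}
    (I : InjectiveResolution X) (n : ℕ) :
    (NatTrans.rightDerived θ n).app X =
      (I.isoRightDerivedObj F n).hom ≫
        HomologicalComplex.homologyMap ((NatTrans.mapHomologicalComplex θ _).app I.cocomplex) n ≫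
        (I.isoRightDerivedObj G n).inv :=
  InjectiveResolution.rightDerived_app_eq θ I n

lemma exact_of_isos {𝒞 : Type*} [Category 𝒞] [Abelian 𝒞] {A B E A' B' E' : 𝒞}
    (f : A ⟶ B) (g : B ⟶ E) (f' : A' ⟶ B') (g' : B' ⟶ E') (zero' : f' ≫ g' = 0)
    (hS : (ShortComplex.mk f' g' zero').Exact)
    (a : A ≅ A') (b : B ≅ B') (e : E ≅ E') (hf : f = a.hom ≫ f' ≫ b.inv)
    (hg : g = b.hom ≫ g' ≫ e.inv) :
    ∃ zero : f ≫ g = 0, (ShortComplex.mk f g zero).Exact := by
  have zero : f ≫ g = 0 := by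
    rw [hf, hg]; simp [reassoc_of% zero']
  refine ⟨zero, ?_⟩
  refine ShortComplex.exact_of_iso (ShortComplex.isoMk a b e ?_ ?_).symm hS
  · dsimp; rw [hf]; simp
  · dsimp; rw [hg]; simp

include w hex in
theorem exact₂ (X : C) (n : ℕ) :
    ∃ zero : (NatTrans.rightDerived α n).app X ≫ (NatTrans.rightDerived β n).app X = 0,
      (ShortComplex.mk _ _ zero).Exact := by
  let I := injectiveResolution X
  have hS := shortExact_of_resolution α β w hex I
  exact exact_of_isos _ _ _ _ _ (hS.homology_exact₂ n) (I.isoRightDerivedObj T' n)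
    (I.isoRightDerivedObj T n) (I.isoRightDerivedObj T'' n) (rd_app_eq α I n) (rd_app_eq β I n)

theorem exact₃ (X : C) (n : ℕ) :
    ∃ zero : (NatTrans.rightDerived β n).app X ≫ (δ α β w hex n).app X = 0,
      (ShortComplex.mk _ _ zero).Exact := by
  let I := injectiveResolution X
  have hS := shortExact_of_resolution α β w hex I
  exact exact_of_isos _ _ _ _ _ (hS.homology_exact₃ n (n + 1) (by simp)) (I.isoRightDerivedObj T n)
    (I.isoRightDerivedObj T'' n) (I.isoRightDerivedObj T' (n + 1)) (rd_app_eq β I n) rfl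

theorem exact₁ (X : C) (n : ℕ) :
    ∃ zero : (δ α β w hex n).app X ≫ (NatTrans.rightDerived α (n + 1)).app X = 0,
      (ShortComplex.mk _ _ zero).Exact := by
  let I := injectiveResolution X
  have hS := shortExact_of_resolution α β w hex I
  exact exact_of_isos _ _ _ _ _ (hS.homology_exact₁ n (n + 1) (by simp)) (I.isoRightDerivedObj T'' n)
    (I.isoRightDerivedObj T' (n + 1)) (I.isoRightDerivedObj T (n + 1)) rfl (rd_app_eq α I (n + 1))

include w hex in
theorem mono₀ (X : C) : Mono ((NatTrans.rightDerived α 0).app X) := by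
  let I := injectiveResolution X
  have hS := shortExact_of_resolution α β w hex I
  rw [rd_app_eq α I 0]
  haveI : Mono (scObj α β w I.cocomplex).f := hS.mono_f
  haveI : Mono ((scObj α β w I.cocomplex).f.f 0) := inferInstance
  haveI h1 : Mono (HomologicalComplex.cyclesMap (scObj α β w I.cocomplex).f 0) := inferInstance
  have h2 : HomologicalComplex.homologyMap (scObj α β w I.cocomplex).f 0 =
      (CochainComplex.isoHomologyπ₀ _).inv ≫
        HomologicalComplex.cyclesMap (scObj α β w I.cocomplex).f 0 ≫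
          (CochainComplex.isoHomologyπ₀ _).hom := by
    rw [← cancel_epi (CochainComplex.isoHomologyπ₀ _).hom, Iso.hom_inv_id_assoc]
    exact HomologicalComplex.homologyπ_naturality _ 0
  haveI : Mono (HomologicalComplex.homologyMap
      ((NatTrans.mapHomologicalComplex α (ComplexShape.up ℕ)).app I.cocomplex) 0) := by
    change Mono (HomologicalComplex.homologyMap (scObj α β w I.cocomplex).f 0)
    rw [h2]
    infer_instance
  have hA : Mono (I.isoRightDerivedObj T' 0).hom := IsIso.mono_of_iso _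
  have hB : Mono (I.isoRightDerivedObj T 0).inv := IsIso.mono_of_iso _
  exact mono_comp' hA (mono_comp' this hB)

end LES

section Add

variable [HasInjectiveResolutions C] {F G : C ⥤ D} [F.Additive] [G.Additive]

lemma mapHC_add (θ θ' : F ⟶ G) (K : CochainComplex C ℕ) :
    (NatTrans.mapHomologicalComplex (θ + θ') (ComplexShape.up ℕ)).app K =
      (NatTrans.mapHomologicalComplex θ (ComplexShape.up ℕ)).app K +
        (NatTrans.mapHomologicalComplex θ' (ComplexShape.up ℕ)).app K := by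
  ext n
  simp
  rfl

lemma comp_add_comp {𝒞 : Type*} [Category 𝒞] [Preadditive 𝒞] {P Q R S : 𝒞} (a : P ⟶ Q) (m m' : Q ⟶ R)
    (b : R ⟶ S) : a ≫ (m + m') ≫ b = a ≫ m ≫ b + a ≫ m' ≫ b := by
  rw [Preadditive.add_comp, Preadditive.comp_add]

lemma rightDerived_add (θ θ' : F ⟶ G) (n : ℕ) :
    NatTrans.rightDerived (θ + θ') n = NatTrans.rightDerived θ n + NatTrans.rightDerived θ' n := by
  ext X
  rw [NatTrans.app_add, rd_app_eq _ (injectiveResolution X), rd_app_eq θ (injectiveResolution X),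
    rd_app_eq θ' (injectiveResolution X), mapHC_add, HomologicalComplex.homologyMap_add]
  exact comp_add_comp _ _ _ _

lemma rightDerived_zero (n : ℕ) : NatTrans.rightDerived (0 : F ⟶ G) n = 0 := by
  have h := rightDerived_add (0 : F ⟶ G) 0 n
  rw [add_zero] at h
  exact left_eq_add.mp h

lemma rightDerived_neg (θ : F ⟶ G) (n : ℕ) :
    NatTrans.rightDerived (-θ) n = -NatTrans.rightDerived θ n := by
  have h := rightDerived_add (-θ) θ n
  rw [neg_add_cancel, rightDerived_zero] at h
  exact eq_neg_of_add_eq_zero_left h.symm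

end Add

section Biprod

variable (G₁ G₂ : C ⥤ D)

/-- pointwise biproduct of two functors -/
@[simps]
noncomputable def biprodF : C ⥤ D where
  obj X := G₁.obj X ⊞ G₂.obj X
  map f := biprod.map (G₁.map f) (G₂.map f)
  map_id X := by ext <;> simp
  map_comp f g := by ext <;> simp

lemma biprod_map_add {𝒞 : Type*} [Category 𝒞] [Preadditive 𝒞] [HasBinaryBiproducts 𝒞] {A B A' B' : 𝒞}
    (f f' : A ⟶ A') (g g' : B ⟶ B') :
    biprod.map (f + f') (g + g') = biprod.map f g + biprod.map f' g' := by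
  ext <;> simp [Preadditive.add_comp, Preadditive.comp_add]

instance [G₁.Additive] [G₂.Additive] : (biprodF G₁ G₂).Additive where
  map_add {X Y f g} :=
    (congrArg₂ biprod.map G₁.map_add G₂.map_add).trans (biprod_map_add _ _ _ _)

@[simps] noncomputable def fstF : biprodF G₁ G₂ ⟶ G₁ where
  app X := biprod.fst
  naturality X Y f := biprod.map_fst _ _
@[simps] noncomputable def sndF : biprodF G₁ G₂ ⟶ G₂ where
  app X := biprod.snd
  naturality X Y f := biprod.map_snd _ _
@[simps] noncomputable def inlF : G₁ ⟶ biprodF G₁ G₂ where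
  app X := biprod.inl
  naturality X Y f := (biprod.inl_map _ _).symm
@[simps] noncomputable def inrF : G₂ ⟶ biprodF G₁ G₂ where
  app X := biprod.inr
  naturality X Y f := (biprod.inr_map _ _).symm

variable {G₁ G₂}

@[simps] noncomputable def liftF {T' : C ⥤ D} (a₁ : T' ⟶ G₁) (a₂ : T' ⟶ G₂) : T' ⟶ biprodF G₁ G₂ where
  app X := biprod.lift (a₁.app X) (a₂.app X)
  naturality X Y f := by
    change _ ≫ biprod.lift _ _ = biprod.lift _ _ ≫ biprod.map _ _
    ext <;> simp

@[simps] noncomputable def descF {T'' : C ⥤ D} (b₁ : G₁ ⟶ T'') (b₂ : G₂ ⟶ T'') : biprodF G₁ G₂ ⟶ T'' where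
  app X := biprod.desc (b₁.app X) (b₂.app X)
  naturality X Y f := by
    change biprod.map _ _ ≫ biprod.desc _ _ = biprod.desc _ _ ≫ _
    ext <;> simp

@[reassoc (attr := simp)]
lemma liftF_fstF {T' : C ⥤ D} (a₁ : T' ⟶ G₁) (a₂ : T' ⟶ G₂) : liftF a₁ a₂ ≫ fstF G₁ G₂ = a₁ := by
  ext X; exact biprod.lift_fst _ _
@[reassoc (attr := simp)]
lemma liftF_sndF {T' : C ⥤ D} (a₁ : T' ⟶ G₁) (a₂ : T' ⟶ G₂) : liftF a₁ a₂ ≫ sndF G₁ G₂ = a₂ := by
  ext X; exact biprod.lift_snd _ _
@[reassoc (attr := simp)]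
lemma inlF_descF {T'' : C ⥤ D} (b₁ : G₁ ⟶ T'') (b₂ : G₂ ⟶ T'') : inlF G₁ G₂ ≫ descF b₁ b₂ = b₁ := by
  ext X; exact biprod.inl_desc _ _
@[reassoc (attr := simp)]
lemma inrF_descF {T'' : C ⥤ D} (b₁ : G₁ ⟶ T'') (b₂ : G₂ ⟶ T'') : inrF G₁ G₂ ≫ descF b₁ b₂ = b₂ := by
  ext X; exact biprod.inr_desc _ _

variable (G₁ G₂)

lemma inlF_fstF : inlF G₁ G₂ ≫ fstF G₁ G₂ = 𝟙 _ := by ext X; exact biprod.inl_fst
lemma inlF_sndF : inlF G₁ G₂ ≫ sndF G₁ G₂ = 0 := by ext X; exact biprod.inl_snd
lemma inrF_fstF : inrF G₁ G₂ ≫ fstF G₁ G₂ = 0 := by ext X; exact biprod.inr_fst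
lemma inrF_sndF : inrF G₁ G₂ ≫ sndF G₁ G₂ = 𝟙 _ := by ext X; exact biprod.inr_snd
lemma totalF : fstF G₁ G₂ ≫ inlF G₁ G₂ + sndF G₁ G₂ ≫ inrF G₁ G₂ = 𝟙 _ := by
  ext X
  rw [NatTrans.app_add]
  exact biprod.total

variable [HasInjectiveResolutions C] [G₁.Additive] [G₂.Additive]

/-- right derived functors of a biproduct of functors -/
noncomputable def rdBiprodIso (n : ℕ) (X : C) :
    ((biprodF G₁ G₂).rightDerived n).obj X ≅ (G₁.rightDerived n).obj X ⊞ (G₂.rightDerived n).obj X where
  hom := biprod.lift ((NatTrans.rightDerived (fstF G₁ G₂) n).app X)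
    ((NatTrans.rightDerived (sndF G₁ G₂) n).app X)
  inv := biprod.desc ((NatTrans.rightDerived (inlF G₁ G₂) n).app X)
    ((NatTrans.rightDerived (inrF G₁ G₂) n).app X)
  hom_inv_id := by
    rw [biprod.lift_desc, ← NatTrans.comp_app, ← NatTrans.comp_app, ← NatTrans.rightDerived_comp,
      ← NatTrans.rightDerived_comp, ← NatTrans.app_add, ← rightDerived_add, totalF,
      NatTrans.rightDerived_id]
    rfl
  inv_hom_id := by
    have h1 : (NatTrans.rightDerived (inlF G₁ G₂) n).app X ≫ (NatTrans.rightDerived (fstF G₁ G₂) n).app X =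
        𝟙 _ := by
      rw [← NatTrans.comp_app, ← NatTrans.rightDerived_comp, inlF_fstF, NatTrans.rightDerived_id]; rfl
    have h2 : (NatTrans.rightDerived (inlF G₁ G₂) n).app X ≫ (NatTrans.rightDerived (sndF G₁ G₂) n).app X =
        0 := by
      rw [← NatTrans.comp_app, ← NatTrans.rightDerived_comp, inlF_sndF, rightDerived_zero]; rfl
    have h3 : (NatTrans.rightDerived (inrF G₁ G₂) n).app X ≫ (NatTrans.rightDerived (fstF G₁ G₂) n).app X =
        0 := by
      rw [← NatTrans.comp_app, ← NatTrans.rightDerived_comp, inrF_fstF, rightDerived_zero]; rfl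
    have h4 : (NatTrans.rightDerived (inrF G₁ G₂) n).app X ≫ (NatTrans.rightDerived (sndF G₁ G₂) n).app X =
        𝟙 _ := by
      rw [← NatTrans.comp_app, ← NatTrans.rightDerived_comp, inrF_sndF, NatTrans.rightDerived_id]; rfl
    ext
    · simp only [Category.assoc, biprod.inl_desc_assoc, biprod.lift_fst, Category.comp_id, biprod.inl_fst, h1]
    · simp only [Category.assoc, biprod.inl_desc_assoc, biprod.lift_snd, Category.comp_id, biprod.inl_snd, h2]
    · simp only [Category.assoc, biprod.inr_desc_assoc, biprod.lift_fst, Category.comp_id, biprod.inr_fst, h3]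
    · simp only [Category.assoc, biprod.inr_desc_assoc, biprod.lift_snd, Category.comp_id, biprod.inr_snd, h4]

end Biprod

section MV

variable [HasInjectiveResolutions C] {T' G₁ G₂ T'' : C ⥤ D} [T'.Additive] [G₁.Additive] [G₂.Additive]
  [T''.Additive] (a₁ : T' ⟶ G₁) (a₂ : T' ⟶ G₂) (b₁ : G₁ ⟶ T'') (b₂ : G₂ ⟶ T'')
  (hcomm : a₁ ≫ b₁ = a₂ ≫ b₂)

include hcomm in
lemma mv_w : liftF a₁ a₂ ≫ descF b₁ (-b₂) = 0 := by
  ext X
  have h : a₁.app X ≫ b₁.app X = a₂.app X ≫ b₂.app X := by
    rw [← NatTrans.comp_app, hcomm, NatTrans.comp_app]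
  change biprod.lift (a₁.app X) (a₂.app X) ≫ biprod.desc (b₁.app X) (-(b₂.app X)) = 0
  rw [biprod.lift_desc, Preadditive.comp_neg, h, add_neg_cancel]

lemma lift_eq (n : ℕ) (X : C) :
    biprod.lift ((NatTrans.rightDerived a₁ n).app X) ((NatTrans.rightDerived a₂ n).app X) =
      (NatTrans.rightDerived (liftF a₁ a₂) n).app X ≫ (rdBiprodIso G₁ G₂ n X).hom := by
  change _ = _ ≫ biprod.lift _ _
  ext
  · rw [biprod.lift_fst, Category.assoc, biprod.lift_fst, ← NatTrans.comp_app,
      ← NatTrans.rightDerived_comp, liftF_fstF]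
  · rw [biprod.lift_snd, Category.assoc, biprod.lift_snd, ← NatTrans.comp_app,
      ← NatTrans.rightDerived_comp, liftF_sndF]

lemma desc_eq (n : ℕ) (X : C) :
    biprod.desc ((NatTrans.rightDerived b₁ n).app X) (-((NatTrans.rightDerived b₂ n).app X)) =
      (rdBiprodIso G₁ G₂ n X).inv ≫ (NatTrans.rightDerived (descF b₁ (-b₂)) n).app X := by
  change _ = biprod.desc _ _ ≫ _
  ext
  · rw [biprod.inl_desc, biprod.inl_desc_assoc, ← NatTrans.comp_app,
      ← NatTrans.rightDerived_comp, inlF_descF]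
  · rw [biprod.inr_desc, biprod.inr_desc_assoc, ← NatTrans.comp_app,
      ← NatTrans.rightDerived_comp, inrF_descF, rightDerived_neg, NatTrans.app_neg]

variable (hex : ∀ Q : C, Injective Q →
  (ShortComplex.mk (biprod.lift (a₁.app Q) (a₂.app Q)) (biprod.desc (b₁.app Q) (-(b₂.app Q)))
    (by
      have h : a₁.app Q ≫ b₁.app Q = a₂.app Q ≫ b₂.app Q := by
        rw [← NatTrans.comp_app, hcomm, NatTrans.comp_app]
      rw [biprod.lift_desc, Preadditive.comp_neg, h, add_neg_cancel])).ShortExact)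

include hex in
/-- The abstract relative Mayer–Vietoris sequence. -/
theorem mv (X : C) :
    ∃ δ : ∀ n : ℕ, (T''.rightDerived n).obj X ⟶ (T'.rightDerived (n + 1)).obj X,
      Mono (biprod.lift ((NatTrans.rightDerived a₁ 0).app X) ((NatTrans.rightDerived a₂ 0).app X)) ∧
      ∀ n : ℕ,
        (ComposableArrows.mk₂
          (biprod.lift ((NatTrans.rightDerived a₁ n).app X) ((NatTrans.rightDerived a₂ n).app X))
          (biprod.desc ((NatTrans.rightDerived b₁ n).app X)
            (-((NatTrans.rightDerived b₂ n).app X)))).Exact ∧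
        (ComposableArrows.mk₂
          (biprod.desc ((NatTrans.rightDerived b₁ n).app X) (-((NatTrans.rightDerived b₂ n).app X)))
          (δ n)).Exact ∧
        (ComposableArrows.mk₂ (δ n)
          (biprod.lift ((NatTrans.rightDerived a₁ (n + 1)).app X)
            ((NatTrans.rightDerived a₂ (n + 1)).app X))).Exact := by
  have w := mv_w a₁ a₂ b₁ b₂ hcomm
  have hex' : ∀ Q : C, Injective Q → (ShortComplex.mk ((liftF a₁ a₂).app Q) ((descF b₁ (-b₂)).app Q) (by
      rw [← NatTrans.comp_app, w]; rfl)).ShortExact := fun Q hQ => hex Q hQ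
  refine ⟨fun n => (δ (liftF a₁ a₂) (descF b₁ (-b₂)) w hex' n).app X, ?_, fun n => ⟨?_, ?_, ?_⟩⟩
  · rw [lift_eq]
    haveI := mono₀ (liftF a₁ a₂) (descF b₁ (-b₂)) w hex' X
    exact mono_comp _ _
  · obtain ⟨z, hz⟩ := exact₂ (liftF a₁ a₂) (descF b₁ (-b₂)) w hex' X n
    obtain ⟨z', hz'⟩ := exact_of_isos
      (biprod.lift ((NatTrans.rightDerived a₁ n).app X) ((NatTrans.rightDerived a₂ n).app X))
      (biprod.desc ((NatTrans.rightDerived b₁ n).app X) (-((NatTrans.rightDerived b₂ n).app X)))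
      _ _ z hz (Iso.refl _) (rdBiprodIso G₁ G₂ n X).symm (Iso.refl _)
      ((lift_eq a₁ a₂ n X).trans (by simp)) ((desc_eq b₁ b₂ n X).trans (by simp))
    exact hz'.exact_toComposableArrows
  · obtain ⟨z, hz⟩ := exact₃ (liftF a₁ a₂) (descF b₁ (-b₂)) w hex' X n
    obtain ⟨z', hz'⟩ := exact_of_isos
      (biprod.desc ((NatTrans.rightDerived b₁ n).app X) (-((NatTrans.rightDerived b₂ n).app X)))
      ((δ (liftF a₁ a₂) (descF b₁ (-b₂)) w hex' n).app X)
      _ _ z hz (rdBiprodIso G₁ G₂ n X).symm (Iso.refl _) (Iso.refl _)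
      ((desc_eq b₁ b₂ n X).trans (by simp)) (by simp)
    exact hz'.exact_toComposableArrows
  · obtain ⟨z, hz⟩ := exact₁ (liftF a₁ a₂) (descF b₁ (-b₂)) w hex' X n
    obtain ⟨z', hz'⟩ := exact_of_isos
      ((δ (liftF a₁ a₂) (descF b₁ (-b₂)) w hex' n).app X)
      (biprod.lift ((NatTrans.rightDerived a₁ (n + 1)).app X) ((NatTrans.rightDerived a₂ (n + 1)).app X))
      _ _ z hz (Iso.refl _) (Iso.refl _) (rdBiprodIso G₁ G₂ (n + 1) X).symm
      (by simp) ((lift_eq a₁ a₂ (n + 1) X).trans (by simp))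
    exact hz'.exact_toComposableArrows

end MV

end Groth.Agent.Lib.Helper9.DerMV
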