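import Mathlib
import Groth.Prelude.Def_CohCx
import Groth.Agent.Lib.Helper9DerMV
import Groth.Agent.Lib.Helper16Flasque

/-!
# Relative Mayer–Vietoris for abelian sheaves on topological spaces (helper9)
-/

set_option autoImplicit false

open CategoryTheory CategoryTheory.Limits TopologicalSpace Opposite

namespace Groth.Agent.Lib.Helper9.TopMV

universe u

section Ab

lemma biprod_ext_elem {B₁ B₂ : AddCommGrpCat.{u}} (z z' : ↑(B₁ ⊞ B₂))
    (h1 : (biprod.fst : B₁ ⊞ B₂ ⟶ B₁) z = (biprod.fst : B₁ ⊞ B₂ ⟶ B₁) z')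
    (h2 : (biprod.snd : B₁ ⊞ B₂ ⟶ B₂) z = (biprod.snd : B₁ ⊞ B₂ ⟶ B₂) z') : z = z' := by
  have key : ∀ w : ↑(B₁ ⊞ B₂), w = (biprod.inl : B₁ ⟶ B₁ ⊞ B₂) ((biprod.fst : B₁ ⊞ B₂ ⟶ B₁) w) +
      (biprod.inr : B₂ ⟶ B₁ ⊞ B₂) ((biprod.snd : B₁ ⊞ B₂ ⟶ B₂) w) := by
    intro w
    have := ConcreteCategory.congr_hom (biprod.total (X := B₁) (Y := B₂)) w
    rw [AddCommGrpCat.hom_add_apply] at this
    exact this.symm
  rw [key z, key z', h1, h2]

lemma ab_shortExact_lift_desc {A B₁ B₂ E : AddCommGrpCat.{u}} (a₁ : A ⟶ B₁) (a₂ : A ⟶ B₂)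
    (b₁ : B₁ ⟶ E) (b₂ : B₂ ⟶ E) (zero : biprod.lift a₁ a₂ ≫ biprod.desc b₁ (-b₂) = 0)
    (hinj : ∀ x, a₁ x = 0 → a₂ x = 0 → x = 0)
    (hglue : ∀ y₁ y₂, b₁ y₁ = b₂ y₂ → ∃ x, a₁ x = y₁ ∧ a₂ x = y₂)
    (hsurj : Function.Surjective b₁) :
    (ShortComplex.mk _ _ zero).ShortExact := by
  have hfst : ∀ x, (biprod.fst : B₁ ⊞ B₂ ⟶ B₁) (biprod.lift a₁ a₂ x) = a₁ x := fun x =>
    ConcreteCategory.congr_hom (biprod.lift_fst a₁ a₂) x
  have hsnd : ∀ x, (biprod.snd : B₁ ⊞ B₂ ⟶ B₂) (biprod.lift a₁ a₂ x) = a₂ x := fun x =>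
    ConcreteCategory.congr_hom (biprod.lift_snd a₁ a₂) x
  have hdesc : ∀ z : ↑(B₁ ⊞ B₂), biprod.desc b₁ (-b₂) z =
      b₁ ((biprod.fst : B₁ ⊞ B₂ ⟶ B₁) z) - b₂ ((biprod.snd : B₁ ⊞ B₂ ⟶ B₂) z) := by
    intro z
    have h : biprod.desc b₁ (-b₂) = biprod.fst ≫ b₁ - biprod.snd ≫ b₂ := by
      apply biprod.hom_ext' <;> simp [Preadditive.comp_sub]
    rw [h]
    rfl
  refine ShortComplex.ShortExact.mk' ?_ ?_ ?_
  · rw [ShortComplex.ab_exact_iff]
    intro z hz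
    change biprod.desc b₁ (-b₂) z = 0 at hz
    rw [hdesc, sub_eq_zero] at hz
    obtain ⟨x, hx1, hx2⟩ := hglue _ _ hz
    refine ⟨x, biprod_ext_elem _ _ ?_ ?_⟩
    · exact (hfst x).trans hx1
    · exact (hsnd x).trans hx2
  · change Mono (biprod.lift a₁ a₂)
    rw [AddCommGrpCat.mono_iff_injective, injective_iff_map_eq_zero]
    intro x hx
    refine hinj x ?_ ?_
    · rw [← hfst, hx, map_zero]
    · rw [← hsnd, hx, map_zero]
  · change Epi (biprod.desc b₁ (-b₂))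
    rw [AddCommGrpCat.epi_iff_surjective]
    intro e
    obtain ⟨y, rfl⟩ := hsurj e
    exact ⟨(biprod.inl : B₁ ⟶ B₁ ⊞ B₂) y, ConcreteCategory.congr_hom (biprod.inl_desc b₁ (-b₂)) y⟩

end Ab

section SheafSES

variable {Y : TopCat.{u}}

/-- A short complex of abelian sheaves which is short exact on sections over every open is short exact. -/
lemma shortExact_of_sections (S : ShortComplex (CohTop.Ab Y))
    (h : ∀ W : (Opens Y)ᵒᵖ, (S.map (sheafToPresheaf (Opens.grothendieckTopology Y) AddCommGrpCat.{u} ⋙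
      (evaluation _ _).obj W)).ShortExact) : S.ShortExact := by
  let J := Opens.grothendieckTopology Y
  let P := S.map (sheafToPresheaf J AddCommGrpCat.{u})
  have hP : P.Exact := by
    rw [ShortComplex.exact_iff_isZero_homology]
    apply Functor.isZero
    intro W
    have e := P.mapHomologyIso ((evaluation _ _).obj W)
    have hW : (P.map ((evaluation _ _).obj W)).Exact := (h W).exact
    rw [ShortComplex.exact_iff_isZero_homology] at hW
    exact hW.of_iso e.symm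
  have hS : ((P.map (presheafToSheaf J AddCommGrpCat.{u}))).Exact := hP.map _
  have e : P.map (presheafToSheaf J AddCommGrpCat.{u}) ≅ S :=
    (S.mapNatIso (sheafificationNatIso J AddCommGrpCat.{u})).symm
  refine ShortComplex.ShortExact.mk' (ShortComplex.exact_of_iso e hS) ?_ ?_
  · haveI : ∀ W, Mono (S.f.hom.app W) := fun W => (h W).mono_f
    haveI : Mono S.f.hom := NatTrans.mono_of_mono_app _
    exact Sheaf.Hom.mono_of_presheaf_mono _ _ _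
  · haveI : ∀ W, Epi (S.g.hom.app W) := fun W => (h W).epi_g
    haveI : Epi S.g.hom := NatTrans.epi_of_epi_app _
    exact Sheaf.Hom.epi_of_presheaf_epi _ _ _

/-- Short exactness of `A ⟶ B₁ ⊞ B₂ ⟶ E` for abelian sheaves from conditions on sections. -/
lemma shortExact_lift_desc {A B₁ B₂ E : CohTop.Ab Y} (a₁ : A ⟶ B₁) (a₂ : A ⟶ B₂)
    (b₁ : B₁ ⟶ E) (b₂ : B₂ ⟶ E) (zero : biprod.lift a₁ a₂ ≫ biprod.desc b₁ (-b₂) = 0)
    (hinj : ∀ (W : (Opens Y)ᵒᵖ) (x : A.obj.obj W), a₁.hom.app W x = 0 → a₂.hom.app W x = 0 → x = 0)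
    (hglue : ∀ (W : (Opens Y)ᵒᵖ) (y₁ : B₁.obj.obj W) (y₂ : B₂.obj.obj W),
      b₁.hom.app W y₁ = b₂.hom.app W y₂ → ∃ x, a₁.hom.app W x = y₁ ∧ a₂.hom.app W x = y₂)
    (hsurj : ∀ W : (Opens Y)ᵒᵖ, Function.Surjective (b₁.hom.app W)) :
    (ShortComplex.mk _ _ zero).ShortExact := by
  apply shortExact_of_sections
  intro W
  let F := sheafToPresheaf (Opens.grothendieckTopology Y) AddCommGrpCat.{u} ⋙ (evaluation _ _).obj W
  haveI : PreservesBinaryBiproducts F := preservesBinaryBiproducts_of_preservesBiproducts _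
  have zero' : biprod.lift (F.map a₁) (F.map a₂) ≫ biprod.desc (F.map b₁) (-(F.map b₂)) = 0 := by
    rw [← biprod.map_lift_mapBiprod, ← Functor.map_neg, ← biprod.mapBiprod_inv_map_desc, Category.assoc,
      Iso.hom_inv_id_assoc, ← F.map_comp, zero, F.map_zero]
  have h := ab_shortExact_lift_desc (F.map a₁) (F.map a₂) (F.map b₁) (F.map b₂) zero'
    (hinj W) (hglue W) (hsurj W)
  let e : ShortComplex.mk _ _ zero' ≅ (ShortComplex.mk _ _ zero).map F :=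
    ShortComplex.isoMk (Iso.refl _) (F.mapBiprod B₁ B₂).symm (Iso.refl _) (by
      change 𝟙 _ ≫ F.map (biprod.lift a₁ a₂) = biprod.lift (F.map a₁) (F.map a₂) ≫ (F.mapBiprod B₁ B₂).inv
      rw [Category.id_comp, ← biprod.map_lift_mapBiprod, Category.assoc, Iso.hom_inv_id,
        Category.comp_id]) (by
      change (F.mapBiprod B₁ B₂).inv ≫ F.map (biprod.desc b₁ (-b₂)) =
        biprod.desc (F.map b₁) (-F.map b₂) ≫ 𝟙 _
      rw [Category.comp_id, ← Functor.map_neg, biprod.mapBiprod_inv_map_desc])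
  exact ShortComplex.shortExact_of_iso e h

end SheafSES

section Sections

variable {X : TopCat.{u}} (Q : CohTop.Ab X)

lemma sec_inj {O O₁ O₂ : Opens X} (h₁ : O₁ ≤ O) (h₂ : O₂ ≤ O) (hc : O ≤ O₁ ⊔ O₂)
    (x : Q.obj.obj (op O)) (e₁ : Q.obj.map (homOfLE h₁).op x = 0)
    (e₂ : Q.obj.map (homOfLE h₂).op x = 0) : x = 0 := by
  refine TopCat.Sheaf.eq_of_locally_eq₂ (F := Q) (homOfLE h₁) (homOfLE h₂) hc x 0 ?_ ?_
  · rw [e₁, map_zero]
  · rw [e₂, map_zero]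

/-- Gluing two sections of a sheaf of abelian groups (after helper6). -/
theorem exists_glue₂ {U₁ U₂ V W : Opens X} (i₁ : U₁ ⟶ V) (i₂ : U₂ ⟶ V)
    (hcover : V ≤ U₁ ⊔ U₂) (j₁ : W ⟶ U₁) (j₂ : W ⟶ U₂) (hW : U₁ ⊓ U₂ ≤ W)
    (s₁ : Q.1.obj (op U₁)) (s₂ : Q.1.obj (op U₂))
    (h : Q.1.map j₁.op s₁ = Q.1.map j₂.op s₂) :
    ∃ s : Q.1.obj (op V), Q.1.map i₁.op s = s₁ ∧ Q.1.map i₂.op s = s₂ := by
  let U : Bool → Opens X := fun b => Bool.rec U₂ U₁ b
  let sf : ∀ b : Bool, ToType (Q.1.obj (op (U b))) := fun b =>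
    Bool.rec (motive := fun b => ToType (Q.1.obj (op (U b)))) s₂ s₁ b
  have hcompat : TopCat.Presheaf.IsCompatible Q.1 U sf := by
    have key : Q.1.map (homOfLE (inf_le_left : U₁ ⊓ U₂ ≤ U₁)).op s₁ =
        Q.1.map (homOfLE (inf_le_right : U₁ ⊓ U₂ ≤ U₂)).op s₂ := by
      have e₁ : (homOfLE (inf_le_left : U₁ ⊓ U₂ ≤ U₁)) = homOfLE hW ≫ j₁ := Subsingleton.elim _ _
      have e₂ : (homOfLE (inf_le_right : U₁ ⊓ U₂ ≤ U₂)) = homOfLE hW ≫ j₂ := Subsingleton.elim _ _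
      rw [e₁, e₂, op_comp, op_comp, Q.1.map_comp, Q.1.map_comp, ConcreteCategory.comp_apply,
        ConcreteCategory.comp_apply, h]
    rintro (_ | _) (_ | _)
    · rfl
    · change Q.1.map (homOfLE (inf_le_left : U₂ ⊓ U₁ ≤ U₂)).op s₂ =
        Q.1.map (homOfLE (inf_le_right : U₂ ⊓ U₁ ≤ U₁)).op s₁
      have e₁ : (homOfLE (inf_le_left : U₂ ⊓ U₁ ≤ U₂)) =
          homOfLE (le_of_eq (inf_comm U₂ U₁)) ≫ homOfLE (inf_le_right : U₁ ⊓ U₂ ≤ U₂) :=
        Subsingleton.elim _ _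
      have e₂ : (homOfLE (inf_le_right : U₂ ⊓ U₁ ≤ U₁)) =
          homOfLE (le_of_eq (inf_comm U₂ U₁)) ≫ homOfLE (inf_le_left : U₁ ⊓ U₂ ≤ U₁) :=
        Subsingleton.elim _ _
      rw [e₁, e₂, op_comp, op_comp, Q.1.map_comp, Q.1.map_comp, ConcreteCategory.comp_apply,
        ConcreteCategory.comp_apply, key]
    · exact key
    · rfl
  have hcov : V ≤ iSup U := by
    refine hcover.trans (sup_le ?_ ?_)
    · exact le_iSup U true
    · exact le_iSup U false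
  obtain ⟨s, hs, -⟩ := TopCat.Sheaf.existsUnique_gluing' Q U V
    (fun b => Bool.rec (motive := fun b => U b ⟶ V) i₂ i₁ b) hcov sf hcompat
  exact ⟨s, hs true, hs false⟩

lemma sec_glue {O O₁ O₂ O₁₂ : Opens X} (h₁ : O₁ ≤ O) (h₂ : O₂ ≤ O) (hc : O ≤ O₁ ⊔ O₂)
    (k₁ : O₁₂ ≤ O₁) (k₂ : O₁₂ ≤ O₂) (hi : O₁ ⊓ O₂ ≤ O₁₂)
    (y₁ : Q.obj.obj (op O₁)) (y₂ : Q.obj.obj (op O₂))
    (h : Q.obj.map (homOfLE k₁).op y₁ = Q.obj.map (homOfLE k₂).op y₂) :
    ∃ x : Q.obj.obj (op O), Q.obj.map (homOfLE h₁).op x = y₁ ∧ Q.obj.map (homOfLE h₂).op x = y₂ :=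
  exists_glue₂ Q (homOfLE h₁) (homOfLE h₂) hc (homOfLE k₁) (homOfLE k₂) hi y₁ y₂ h

lemma sec_surj [TopCat.Sheaf.IsFlasque Q] {O O' : Opens X} (h : O' ≤ O) :
    Function.Surjective (Q.obj.map (homOfLE h).op) := by
  rw [← AddCommGrpCat.epi_iff_surjective]
  exact TopCat.Presheaf.IsFlasque.epi _

end Sections

section MVTop

variable {X Y : TopCat.{u}} (f : X ⟶ Y) (U V : Opens X)

lemma hcomm : CohCx.pushToRestrPush f U ≫ CohCx.restrPushToRestrPush f (inf_le_left : U ⊓ V ≤ U) =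
    CohCx.pushToRestrPush f V ≫ CohCx.restrPushToRestrPush f (inf_le_right : U ⊓ V ≤ V) := by
  ext F : 3
  ext W : 2
  change F.obj.map _ ≫ F.obj.map _ = F.obj.map _ ≫ F.obj.map _
  rw [← F.obj.map_comp, ← F.obj.map_comp]
  rfl

theorem hex (hUV : U ⊔ V = ⊤) (Q : CohTop.Ab X) [Injective Q] :
    (ShortComplex.mk
      (biprod.lift ((CohCx.pushToRestrPush f U).app Q) ((CohCx.pushToRestrPush f V).app Q))
      (biprod.desc ((CohCx.restrPushToRestrPush f (inf_le_left : U ⊓ V ≤ U)).app Q)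
        (-((CohCx.restrPushToRestrPush f (inf_le_right : U ⊓ V ≤ V)).app Q)))
      (by
        have h : (CohCx.pushToRestrPush f U).app Q ≫
            (CohCx.restrPushToRestrPush f (inf_le_left : U ⊓ V ≤ U)).app Q =
            (CohCx.pushToRestrPush f V).app Q ≫
              (CohCx.restrPushToRestrPush f (inf_le_right : U ⊓ V ≤ V)).app Q := by
          rw [← NatTrans.comp_app, hcomm, NatTrans.comp_app]
        rw [biprod.lift_desc, Preadditive.comp_neg, h, add_neg_cancel])).ShortExact := by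
  haveI : TopCat.Sheaf.IsFlasque Q := Groth.Agent.Lib.Helper16.Flasque.injective_isFlasque Q
  apply shortExact_lift_desc
  · intro W x e₁ e₂
    refine sec_inj Q _ _ ?_ x e₁ e₂
    intro p hp
    have : p ∈ U ⊔ V := by rw [hUV]; trivial
    rcases this with hpU | hpV
    · exact Or.inl ⟨⟨p, hpU⟩, hp, rfl⟩
    · exact Or.inr ⟨⟨p, hpV⟩, hp, rfl⟩
  · intro W y₁ y₂ h
    refine sec_glue Q _ _ ?_ _ _ ?_ y₁ y₂ h
    · intro p hp
      have : p ∈ U ⊔ V := by rw [hUV]; trivial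
      rcases this with hpU | hpV
      · exact Or.inl ⟨⟨p, hpU⟩, hp, rfl⟩
      · exact Or.inr ⟨⟨p, hpV⟩, hp, rfl⟩
    · rintro p ⟨⟨a, ha, rfl⟩, ⟨b, hb, hab⟩⟩
      have hab' : (b : X) = (a : X) := hab
      exact ⟨⟨a.1, ⟨a.2, hab' ▸ b.2⟩⟩, ha, rfl⟩
  · intro W
    exact sec_surj Q _

end MVTop

end Groth.Agent.Lib.Helper9.TopMV
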