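import Mathlib
import Groth.Prelude.Def_LocCohZ
import Groth.Agent.Lib.Helper9TopMV

set_option autoImplicit false
universe u
open CategoryTheory CategoryTheory.Limits TopologicalSpace Opposite

namespace Groth.Agent.Lib.Helper24MV

open LocCohZ

universe v' u'
section Abstract

variable {C : Type u'} [Category.{v'} C] [Abelian C] [EnoughInjectives C]

/-- Short exactness can be tested on maps into injective objects. -/
theorem shortExact_of_injectives (S : ShortComplex C)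
    (h1 : ∀ (I : C) [Injective I] (t : S.X₁ ⟶ I), ∃ s : S.X₂ ⟶ I, S.f ≫ s = t)
    (h2 : ∀ (I : C) [Injective I] (s : S.X₂ ⟶ I), S.f ≫ s = 0 → ∃ r : S.X₃ ⟶ I, S.g ≫ r = s)
    (h3 : ∀ (I : C) [Injective I] (r : S.X₃ ⟶ I), S.g ≫ r = 0 → r = 0) :
    S.ShortExact := by
  have hmono : Mono S.f := by
    obtain ⟨s, hs⟩ := h1 (Injective.under S.X₁) (Injective.ι S.X₁)
    exact mono_of_mono_fac hs
  have hepi : Epi S.g := by
    rw [Preadditive.epi_iff_cancel_zero]
    intro Z r hr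
    have := h3 (Injective.under Z) (r ≫ Injective.ι Z) (by rw [reassoc_of% hr, zero_comp])
    exact (cancel_mono (Injective.ι Z)).1 (by rw [this, zero_comp])
  have hex : S.Exact := by
    rw [S.exact_iff_kernel_ι_comp_cokernel_π_zero]
    -- show `kernel.ι g ≫ cokernel.π f = 0` by mapping into an injective
    apply (cancel_mono (Injective.ι (cokernel S.f))).1
    rw [zero_comp, Category.assoc]
    obtain ⟨r, hr⟩ := h2 (Injective.under (cokernel S.f)) (cokernel.π S.f ≫ Injective.ι _)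
      (by rw [cokernel.condition_assoc, zero_comp])
    rw [← hr, kernel.condition_assoc, zero_comp]
  exact { exact := hex, mono_f := hmono, epi_g := hepi }

end Abstract

section Sections

variable {X : TopCat.{u}}

local notation "J" => Opens.grothendieckTopology X

/-- The global section attached to a map out of `ℤ_X/ℤ_W`. -/
noncomputable def sig {W : Opens X} (F : CohTop.Ab X) (t : zq (le_top : W ≤ ⊤) ⟶ F) :
    F.obj.obj (op (⊤ : Opens X)) :=
  CohFree.evalGen J ⊤ F (cokernel.π (CohCx.freeSheafMap J (homOfLE (le_top : W ≤ ⊤))) ≫ t)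

theorem sig_add {W : Opens X} (F : CohTop.Ab X) (t t' : zq (le_top : W ≤ ⊤) ⟶ F) :
    sig F (t + t') = sig F t + sig F t' := by
  unfold sig
  rw [Preadditive.comp_add, map_add]

theorem sig_neg {W : Opens X} (F : CohTop.Ab X) (t : zq (le_top : W ≤ ⊤) ⟶ F) :
    sig F (-t) = - sig F t := by
  unfold sig
  rw [Preadditive.comp_neg, map_neg]

theorem sig_zero {W : Opens X} (F : CohTop.Ab X) :
    sig F (0 : zq (le_top : W ≤ ⊤) ⟶ F) = 0 := by
  unfold sig
  rw [comp_zero, map_zero]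

theorem sig_res {W : Opens X} (F : CohTop.Ab X) (t : zq (le_top : W ≤ ⊤) ⟶ F) :
    (F.obj.map (homOfLE (le_top : W ≤ ⊤)).op).hom (sig F t) = 0 := by
  unfold sig
  rw [← CohFree.evalGen_freeSheafMap_comp, cokernel.condition_assoc, zero_comp, map_zero]

theorem sig_injective {W : Opens X} (F : CohTop.Ab X) {t t' : zq (le_top : W ≤ ⊤) ⟶ F}
    (h : sig F t = sig F t') : t = t' := by
  apply (cancel_epi (cokernel.π (CohCx.freeSheafMap J (homOfLE (le_top : W ≤ ⊤))))).1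
  rw [← CohFree.ofSect_evalGen J ⊤ F (cokernel.π _ ≫ t), ← CohFree.ofSect_evalGen J ⊤ F (cokernel.π _ ≫ t')]
  exact congrArg _ h

theorem exists_sig {W : Opens X} (F : CohTop.Ab X) (s : F.obj.obj (op (⊤ : Opens X)))
    (hs : (F.obj.map (homOfLE (le_top : W ≤ ⊤)).op).hom s = 0) :
    ∃ t : zq (le_top : W ≤ ⊤) ⟶ F, sig F t = s := by
  refine ⟨cokernel.desc _ (CohFree.ofSect J ⊤ F s) ?_, ?_⟩
  · rw [← CohFree.ofSect_evalGen J W F (_ ≫ _), CohFree.evalGen_freeSheafMap_comp,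
      CohFree.evalGen_ofSect, hs, ← (CohFree.evalGen J W F).map_zero, CohFree.ofSect_evalGen]
  · unfold sig
    rw [cokernel.π_desc, CohFree.evalGen_ofSect]

theorem sig_zqMap {W W' : Opens X} (hW : W' ≤ W) (F : CohTop.Ab X) (t : zq (le_top : W ≤ ⊤) ⟶ F) :
    sig F (zqMap (le_top : W ≤ ⊤) (le_top : W' ≤ ⊤) hW le_rfl ≫ t) = sig F t := by
  unfold sig zqMap
  rw [cokernel.π_desc_assoc]
  have : CohCx.freeSheafMap J (homOfLE (le_rfl : (⊤ : Opens X) ≤ ⊤)) = 𝟙 _ :=
    CohFree.freeSheafMap_id J _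
  rw [Category.assoc, this, Category.id_comp]

end Sections


section Restrict

variable {X : TopCat.{u}} (F : CohTop.Ab X)

/-- restriction of sections -/
noncomputable abbrev rs {O O' : Opens X} (h : O' ≤ O) (x : F.obj.obj (op O)) : F.obj.obj (op O') :=
  F.obj.map (homOfLE h).op x

theorem rs_rs {O O' O'' : Opens X} (h : O' ≤ O) (h' : O'' ≤ O') (x : F.obj.obj (op O)) :
    rs F h' (rs F h x) = rs F (h'.trans h) x := by
  unfold rs
  rw [← ConcreteCategory.comp_apply, ← F.obj.map_comp]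
  rfl

end Restrict

section SES

variable {X : TopCat.{u}} (U U' : Opens X)

noncomputable abbrev qa : zq (le_top : U ⊓ U' ≤ ⊤) ⟶ zq (le_top : U ≤ ⊤) :=
  zqMap le_top le_top inf_le_left le_rfl
noncomputable abbrev qa' : zq (le_top : U ⊓ U' ≤ ⊤) ⟶ zq (le_top : U' ≤ ⊤) :=
  zqMap le_top le_top inf_le_right le_rfl
noncomputable abbrev qb : zq (le_top : U ≤ ⊤) ⟶ zq (le_top : U ⊔ U' ≤ ⊤) :=
  zqMap le_top le_top le_sup_left le_rfl
noncomputable abbrev qb' : zq (le_top : U' ≤ ⊤) ⟶ zq (le_top : U ⊔ U' ≤ ⊤) :=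
  zqMap le_top le_top le_sup_right le_rfl

theorem qa_qb : qa U U' ≫ qb U U' = qa' U U' ≫ qb' U U' := by
  apply (cancel_epi (cokernel.π _)).1
  simp [zqMap]

theorem mv_zero : biprod.lift (qa U U') (-(qa' U U')) ≫ biprod.desc (qb U U') (qb' U U') = 0 := by
  rw [biprod.lift_desc, Preadditive.neg_comp, qa_qb, add_neg_cancel]

/-- The Mayer–Vietoris short complex of the sheaves `ℤ_X/ℤ_W`. -/
noncomputable def mvSeq : ShortComplex (CohTop.Ab X) :=
  ShortComplex.mk _ _ (mv_zero U U')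



open Groth.Agent.Lib.Helper9.TopMV in
theorem mvSeq_shortExact : (mvSeq U U').ShortExact := by
  apply shortExact_of_injectives
  · -- surjectivity on maps into injectives
    intro I _ t
    haveI : TopCat.Sheaf.IsFlasque I := Groth.Agent.Lib.Helper16.Flasque.injective_isFlasque I
    change zq (le_top : U ⊓ U' ≤ ⊤) ⟶ I at t
    set τ := sig I t with hτ
    have hτ0 : rs I (le_top : U ⊓ U' ≤ ⊤) τ = 0 := sig_res I t
    -- glue `0` on `U` with `τ` on `U'`
    obtain ⟨ρ, hρ1, hρ2⟩ := sec_glue I (le_sup_left : U ≤ U ⊔ U') (le_sup_right : U' ≤ U ⊔ U')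
      le_rfl (inf_le_left : U ⊓ U' ≤ U) (inf_le_right : U ⊓ U' ≤ U') le_rfl
      (0 : I.obj.obj (op U)) (rs I (le_top : U' ≤ ⊤) τ) (by
        rw [map_zero]
        exact ((rs_rs I (le_top : U' ≤ ⊤) (inf_le_right : U ⊓ U' ≤ U') τ).trans hτ0).symm)
    obtain ⟨σ₁, hσ₁⟩ := sec_surj I (le_top : U ⊔ U' ≤ ⊤) ρ
    have h1 : rs I (le_top : U ≤ ⊤) σ₁ = 0 := by
      rw [← rs_rs I (le_top : U ⊔ U' ≤ ⊤) (le_sup_left : U ≤ U ⊔ U') σ₁]
      change rs I _ (I.obj.map (homOfLE (le_top : U ⊔ U' ≤ ⊤)).op σ₁) = 0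
      rw [hσ₁]
      exact hρ1
    have h2 : rs I (le_top : U' ≤ ⊤) σ₁ = rs I (le_top : U' ≤ ⊤) τ := by
      rw [← rs_rs I (le_top : U ⊔ U' ≤ ⊤) (le_sup_right : U' ≤ U ⊔ U') σ₁]
      change rs I _ (I.obj.map (homOfLE (le_top : U ⊔ U' ≤ ⊤)).op σ₁) = _
      rw [hσ₁]
      exact hρ2
    obtain ⟨s₁, hs₁⟩ := exists_sig (W := U) I σ₁ h1
    obtain ⟨s₂, hs₂⟩ := exists_sig (W := U') I (σ₁ - τ) (by
      change rs I (le_top : U' ≤ ⊤) (σ₁ - τ) = 0
      unfold rs
      rw [map_sub]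
      exact sub_eq_zero.mpr h2)
    refine ⟨biprod.desc s₁ s₂, ?_⟩
    change biprod.lift (qa U U') (-(qa' U U')) ≫ biprod.desc s₁ s₂ = t
    rw [biprod.lift_desc, Preadditive.neg_comp]
    apply sig_injective
    rw [sig_add, sig_neg, sig_zqMap, sig_zqMap, hs₁, hs₂, ← hτ]
    abel
  · -- exactness in the middle
    intro I _ s hs
    change zq (le_top : U ≤ ⊤) ⊞ zq (le_top : U' ≤ ⊤) ⟶ I at s
    change biprod.lift (qa U U') (-(qa' U U')) ≫ s = 0 at hs
    set s₁ := biprod.inl ≫ s with hs₁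
    set s₂ := biprod.inr ≫ s with hs₂
    have hs' : qa U U' ≫ s₁ = qa' U U' ≫ s₂ := by
      have : biprod.lift (qa U U') (-(qa' U U')) ≫ s = qa U U' ≫ s₁ - qa' U U' ≫ s₂ := by
        have e : biprod.lift (qa U U') (-(qa' U U')) =
            qa U U' ≫ biprod.inl + (-(qa' U U')) ≫ biprod.inr := by
          apply biprod.hom_ext <;> simp
        rw [e, Preadditive.add_comp, Category.assoc, Category.assoc, Preadditive.neg_comp,
          ← sub_eq_add_neg]
      rw [this, sub_eq_zero] at hs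
      exact hs
    have hsig : sig I s₁ = sig I s₂ := by
      rw [← sig_zqMap (inf_le_left : U ⊓ U' ≤ U) I s₁, ← sig_zqMap (inf_le_right : U ⊓ U' ≤ U') I s₂]
      exact congrArg _ hs'
    set τ := sig I s₁ with hτ
    have hτU : rs I (le_top : U ≤ ⊤) τ = 0 := sig_res I s₁
    have hτU' : rs I (le_top : U' ≤ ⊤) τ = 0 := by rw [hsig]; exact sig_res I s₂
    have hτ0 : rs I (le_top : U ⊔ U' ≤ ⊤) τ = 0 := by
      apply sec_inj I (le_sup_left : U ≤ U ⊔ U') (le_sup_right : U' ≤ U ⊔ U') le_rfl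
      · exact (rs_rs I _ _ τ).trans hτU
      · exact (rs_rs I _ _ τ).trans hτU'
    obtain ⟨r, hr⟩ := exists_sig (W := U ⊔ U') I τ hτ0
    refine ⟨r, ?_⟩
    change biprod.desc (qb U U') (qb' U U') ≫ r = s
    apply biprod.hom_ext'
    · rw [biprod.inl_desc_assoc]
      apply sig_injective
      rw [sig_zqMap, hr]
    · rw [biprod.inr_desc_assoc]
      apply sig_injective
      rw [sig_zqMap, hr]
      exact hsig
  · -- injectivity
    intro I _ r hr
    change zq (le_top : U ⊔ U' ≤ ⊤) ⟶ I at r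
    change biprod.desc (qb U U') (qb' U U') ≫ r = 0 at hr
    have h1 : qb U U' ≫ r = 0 := by
      have := congrArg (fun k => biprod.inl ≫ k) hr
      simpa using this
    apply sig_injective
    rw [← sig_zqMap (le_sup_left : U ≤ U ⊔ U') I r]
    change sig I (qb U U' ≫ r) = sig I (0 : zq (le_top : U ⊔ U' ≤ ⊤) ⟶ I)
    rw [h1, sig_zero, sig_zero]

end SES



section AbstractMV


universe w

open Abelian

variable {C : Type u'} [Category.{v'} C] [Abelian C] [HasExt.{w} C]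
variable {A B B' D : C} (a : A ⟶ B) (a' : A ⟶ B') (b : B ⟶ D) (b' : B' ⟶ D)
variable (F : C)

theorem lift_eq : biprod.lift a (-a') = a ≫ biprod.inl - a' ≫ biprod.inr := by
  apply biprod.hom_ext <;> simp [Preadditive.sub_comp]

theorem desc_eq : biprod.desc b b' = biprod.fst ≫ b + biprod.snd ≫ b' := by
  apply biprod.hom_ext' <;> simp [Preadditive.comp_add]

theorem f_comp (i : ℕ) (x₂ : Ext.{w} (B ⊞ B') F i) :
    (Ext.mk₀ (biprod.lift a (-a'))).comp x₂ (zero_add i) =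
      (Ext.mk₀ a).comp ((Ext.mk₀ biprod.inl).comp x₂ (zero_add i)) (zero_add i) -
      (Ext.mk₀ a').comp ((Ext.mk₀ biprod.inr).comp x₂ (zero_add i)) (zero_add i) := by
  rw [lift_eq, sub_eq_add_neg, Ext.mk₀_add, Ext.add_comp, Ext.mk₀_neg, Ext.neg_comp,
    Ext.mk₀_comp_mk₀_assoc, Ext.mk₀_comp_mk₀_assoc, sub_eq_add_neg]

theorem inl_g_comp (i : ℕ) (x : Ext.{w} D F i) :
    (Ext.mk₀ biprod.inl).comp ((Ext.mk₀ (biprod.desc b b')).comp x (zero_add i)) (zero_add i) =
      (Ext.mk₀ b).comp x (zero_add i) := by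
  rw [Ext.mk₀_comp_mk₀_assoc, biprod.inl_desc]

theorem inr_g_comp (i : ℕ) (x : Ext.{w} D F i) :
    (Ext.mk₀ biprod.inr).comp ((Ext.mk₀ (biprod.desc b b')).comp x (zero_add i)) (zero_add i) =
      (Ext.mk₀ b').comp x (zero_add i) := by
  rw [Ext.mk₀_comp_mk₀_assoc, biprod.inr_desc]

/-- an element of `Ext (B ⊞ B')` from its components -/
noncomputable def pairExt (i : ℕ) (y : Ext.{w} B F i) (y' : Ext.{w} B' F i) : Ext.{w} (B ⊞ B') F i :=
  (Ext.mk₀ (biprod.fst : B ⊞ B' ⟶ B)).comp y (zero_add i) +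
    (Ext.mk₀ (biprod.snd : B ⊞ B' ⟶ B')).comp y' (zero_add i)

theorem inl_pairExt (i : ℕ) (y : Ext.{w} B F i) (y' : Ext.{w} B' F i) :
    (Ext.mk₀ biprod.inl).comp (pairExt F i y y') (zero_add i) = y := by
  unfold pairExt
  rw [Ext.comp_add, Ext.mk₀_comp_mk₀_assoc, Ext.mk₀_comp_mk₀_assoc]
  simp

theorem inr_pairExt (i : ℕ) (y : Ext.{w} B F i) (y' : Ext.{w} B' F i) :
    (Ext.mk₀ biprod.inr).comp (pairExt F i y y') (zero_add i) = y' := by
  unfold pairExt
  rw [Ext.comp_add, Ext.mk₀_comp_mk₀_assoc, Ext.mk₀_comp_mk₀_assoc]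
  simp

theorem ext_biprod (i : ℕ) (x y : Ext.{w} (B ⊞ B') F i)
    (h1 : (Ext.mk₀ biprod.inl).comp x (zero_add i) = (Ext.mk₀ biprod.inl).comp y (zero_add i))
    (h2 : (Ext.mk₀ biprod.inr).comp x (zero_add i) = (Ext.mk₀ biprod.inr).comp y (zero_add i)) :
    x = y := by
  have key : ∀ z : Ext.{w} (B ⊞ B') F i,
      z = pairExt F i ((Ext.mk₀ biprod.inl).comp z (zero_add i)) ((Ext.mk₀ biprod.inr).comp z (zero_add i)) := by
    intro z
    unfold pairExt
    rw [Ext.mk₀_comp_mk₀_assoc, Ext.mk₀_comp_mk₀_assoc, ← Ext.add_comp, ← Ext.mk₀_add,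
      biprod.total, Ext.mk₀_id_comp]
  rw [key x, key y, h1, h2]


variable {a a' b b'}

/-- Abstract Mayer–Vietoris for `Ext(-, F)` from a short exact sequence
`0 → A → B ⊞ B' → D → 0`. -/
theorem mv_abstract (w : biprod.lift a (-a') ≫ biprod.desc b b' = 0)
    (hS : (ShortComplex.mk _ _ w).ShortExact) :
    Function.Injective (fun x : Ext.{w} D F 0 =>
      ((Ext.mk₀ b).comp x (zero_add 0), (Ext.mk₀ b').comp x (zero_add 0))) ∧
    ∃ δ : ∀ i : ℕ, Ext.{w} A F i →+ Ext.{w} D F (i + 1),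
      ∀ i : ℕ,
        (∀ y : Ext.{w} B F i × Ext.{w} B' F i,
          (Ext.mk₀ a).comp y.1 (zero_add i) - (Ext.mk₀ a').comp y.2 (zero_add i) = 0 ↔
            ∃ x : Ext.{w} D F i,
              (Ext.mk₀ b).comp x (zero_add i) = y.1 ∧ (Ext.mk₀ b').comp x (zero_add i) = y.2) ∧
        (∀ z : Ext.{w} A F i,
          δ i z = 0 ↔ ∃ y : Ext.{w} B F i × Ext.{w} B' F i,
            (Ext.mk₀ a).comp y.1 (zero_add i) - (Ext.mk₀ a').comp y.2 (zero_add i) = z) ∧
        (∀ x : Ext.{w} D F (i + 1),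
          ((Ext.mk₀ b).comp x (zero_add (i + 1)) = 0 ∧ (Ext.mk₀ b').comp x (zero_add (i + 1)) = 0) ↔
            ∃ z : Ext.{w} A F i, δ i z = x) := by
  have hg : Epi (biprod.desc b b') := hS.epi_g
  refine ⟨?_, fun i => hS.extClass.precomp F (add_comm 1 i), fun i => ⟨?_, ?_, ?_⟩⟩
  · intro x x' hxx
    simp only [Prod.mk.injEq] at hxx
    apply Ext.precomp_mk₀_injective_of_epi F (biprod.desc b b')
    change (Ext.mk₀ (biprod.desc b b')).comp x (zero_add 0) = (Ext.mk₀ (biprod.desc b b')).comp x' (zero_add 0)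
    apply ext_biprod
    · rw [inl_g_comp, inl_g_comp]; exact hxx.1
    · rw [inr_g_comp, inr_g_comp]; exact hxx.2
  · rintro ⟨y, y'⟩
    dsimp only
    constructor
    · intro h
      obtain ⟨x, hx⟩ := Ext.contravariant_sequence_exact₂ hS F (pairExt F i y y') (by
        change (Ext.mk₀ (biprod.lift a (-a'))).comp _ _ = 0
        rw [f_comp, inl_pairExt, inr_pairExt]; exact h)
      change (Ext.mk₀ (biprod.desc b b')).comp x (zero_add i) = _ at hx
      refine ⟨x, ?_, ?_⟩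
      · rw [← inl_g_comp b b', hx, inl_pairExt]
      · rw [← inr_g_comp b b', hx, inr_pairExt]
    · rintro ⟨x, rfl, rfl⟩
      rw [← inl_g_comp b b', ← inr_g_comp b b', ← f_comp]
      rw [Ext.mk₀_comp_mk₀_assoc, w, Ext.mk₀_zero, Ext.zero_comp]
  · intro z
    constructor
    · intro h
      obtain ⟨x₂, hx₂⟩ := Ext.contravariant_sequence_exact₁ hS F z (add_comm 1 i) h
      change (Ext.mk₀ (biprod.lift a (-a'))).comp x₂ _ = _ at hx₂
      refine ⟨((Ext.mk₀ biprod.inl).comp x₂ (zero_add i), (Ext.mk₀ biprod.inr).comp x₂ (zero_add i)), ?_⟩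
      dsimp only
      rw [← f_comp, hx₂]
    · rintro ⟨⟨y, y'⟩, rfl⟩
      dsimp only
      have := hS.extClass_comp_assoc (pairExt F i y y') (h := add_comm 1 i)
      change hS.extClass.comp ((Ext.mk₀ (biprod.lift a (-a'))).comp _ _) _ = 0 at this
      rw [f_comp, inl_pairExt, inr_pairExt] at this
      exact this
  · intro x
    constructor
    · rintro ⟨h1, h2⟩
      apply Ext.contravariant_sequence_exact₃ hS F x _ (add_comm 1 i)
      change (Ext.mk₀ (biprod.desc b b')).comp x _ = 0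
      apply ext_biprod
      · rw [inl_g_comp, h1, Ext.comp_zero]
      · rw [inr_g_comp, h2, Ext.comp_zero]
    · rintro ⟨z, rfl⟩
      have := hS.comp_extClass_assoc z (add_comm 1 i)
      change (Ext.mk₀ (biprod.desc b b')).comp _ _ = 0 at this
      constructor
      · rw [← inl_g_comp b b']
        change (Ext.mk₀ biprod.inl).comp ((Ext.mk₀ (biprod.desc b b')).comp (hS.extClass.comp z (add_comm 1 i)) (zero_add (i+1))) (zero_add (i+1)) = 0
        rw [this, Ext.comp_zero]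
      · rw [← inr_g_comp b b']
        change (Ext.mk₀ biprod.inr).comp ((Ext.mk₀ (biprod.desc b b')).comp (hS.extClass.comp z (add_comm 1 i)) (zero_add (i+1))) (zero_add (i+1)) = 0
        rw [this, Ext.comp_zero]


end AbstractMV

section Final

open Abelian

variable {X : TopCat.{u}} (F : CohTop.Ab X) (U U' : Opens X)

/-- Mayer–Vietoris for local cohomology with closed supports (the S16287 statement). -/
theorem mayer_vietoris_HZc :
    Function.Injective (fun x : LocCohZ.HZc F 0 (U ⊔ U') =>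
      (LocCohZ.resZ F 0 (le_top : U ⊔ U' ≤ ⊤) (le_top : U ≤ ⊤) le_sup_left le_rfl x,
       LocCohZ.resZ F 0 (le_top : U ⊔ U' ≤ ⊤) (le_top : U' ≤ ⊤) le_sup_right le_rfl x)) ∧
    ∃ δ : ∀ i : ℕ, LocCohZ.HZc F i (U ⊓ U') →+ LocCohZ.HZc F (i + 1) (U ⊔ U'),
      ∀ i : ℕ,
        (∀ y : LocCohZ.HZc F i U × LocCohZ.HZc F i U',
          LocCohZ.resZ F i (le_top : U ≤ ⊤) (le_top : U ⊓ U' ≤ ⊤) inf_le_left le_rfl y.1 -
              LocCohZ.resZ F i (le_top : U' ≤ ⊤) (le_top : U ⊓ U' ≤ ⊤) inf_le_right le_rfl y.2 = 0 ↔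
            ∃ x : LocCohZ.HZc F i (U ⊔ U'),
              LocCohZ.resZ F i (le_top : U ⊔ U' ≤ ⊤) (le_top : U ≤ ⊤) le_sup_left le_rfl x = y.1 ∧
              LocCohZ.resZ F i (le_top : U ⊔ U' ≤ ⊤) (le_top : U' ≤ ⊤) le_sup_right le_rfl x = y.2) ∧
        (∀ w : LocCohZ.HZc F i (U ⊓ U'),
          δ i w = 0 ↔ ∃ y : LocCohZ.HZc F i U × LocCohZ.HZc F i U',
            LocCohZ.resZ F i (le_top : U ≤ ⊤) (le_top : U ⊓ U' ≤ ⊤) inf_le_left le_rfl y.1 -
              LocCohZ.resZ F i (le_top : U' ≤ ⊤) (le_top : U ⊓ U' ≤ ⊤) inf_le_right le_rfl y.2 = w) ∧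
        (∀ x : LocCohZ.HZc F (i + 1) (U ⊔ U'),
          (LocCohZ.resZ F (i + 1) (le_top : U ⊔ U' ≤ ⊤) (le_top : U ≤ ⊤) le_sup_left le_rfl x = 0 ∧
            LocCohZ.resZ F (i + 1) (le_top : U ⊔ U' ≤ ⊤) (le_top : U' ≤ ⊤) le_sup_right le_rfl x = 0) ↔
            ∃ w : LocCohZ.HZc F i (U ⊓ U'), δ i w = x) :=
  mv_abstract (a := qa U U') (a' := qa' U U') (b := qb U U') (b' := qb' U U') F (mv_zero U U')
    (mvSeq_shortExact U U')

end Final

end Groth.Agent.Lib.Helper24MV
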