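import Mathlib

/-!
# Automorphisms of matrix algebras over a commutative ring and invertible modules

Helper library for S16199 and S13797.
-/

namespace Groth.Agent.Lib.Helper24MatAut

open Matrix TensorProduct

universe u

variable {A : Type u} [CommRing A] {n : ℕ}

/-- The module of intertwiners `M N = φ(N) M`. -/
def L (φ : Matrix (Fin n) (Fin n) A ≃ₐ[A] Matrix (Fin n) (Fin n) A) :
    Submodule A (Matrix (Fin n) (Fin n) A) where
  carrier := {M | ∀ N, M * N = φ N * M}
  add_mem' := by
    intro a b ha hb N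
    rw [add_mul, mul_add, ha N, hb N]
  zero_mem' := by
    intro N
    simp
  smul_mem' := by
    intro c a ha N
    rw [smul_mul_assoc, mul_smul_comm, ha N]

theorem mem_L {φ : Matrix (Fin n) (Fin n) A ≃ₐ[A] Matrix (Fin n) (Fin n) A}
    {M : Matrix (Fin n) (Fin n) A} : M ∈ L φ ↔ ∀ N, M * N = φ N * M := Iff.rfl

theorem mem_L_of_basis (φ : Matrix (Fin n) (Fin n) A ≃ₐ[A] Matrix (Fin n) (Fin n) A)
    (M : Matrix (Fin n) (Fin n) A)
    (h : ∀ a b, M * single a b (1 : A) = φ (single a b (1 : A)) * M) : M ∈ L φ := by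
  intro N
  have hN : N = ∑ a, ∑ b, N a b • single a b (1 : A) := by
    conv_lhs => rw [matrix_eq_sum_single N]
    apply Finset.sum_congr rfl
    intro a _
    apply Finset.sum_congr rfl
    intro b _
    rw [smul_single, smul_eq_mul, mul_one]
  rw [hN, Finset.mul_sum, map_sum, Finset.sum_mul]
  apply Finset.sum_congr rfl
  intro a _
  rw [Finset.mul_sum, map_sum, Finset.sum_mul]
  apply Finset.sum_congr rfl
  intro b _
  rw [mul_smul_comm, map_smul, smul_mul_assoc, h]

theorem mem_L_symm {φ : Matrix (Fin n) (Fin n) A ≃ₐ[A] Matrix (Fin n) (Fin n) A}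
    {M : Matrix (Fin n) (Fin n) A} : M ∈ L φ.symm ↔ ∀ N, M * φ N = N * M := by
  rw [mem_L]
  constructor
  · intro h N
    rw [h (φ N), AlgEquiv.symm_apply_apply]
  · intro h N
    have := h (φ.symm N)
    rw [AlgEquiv.apply_symm_apply] at this
    exact this

/-- The product of an element of `L φ.symm` and one of `L φ` is a scalar matrix. -/
theorem mul_central (φ : Matrix (Fin n) (Fin n) A ≃ₐ[A] Matrix (Fin n) (Fin n) A)
    (i0 : Fin n) {M M' : Matrix (Fin n) (Fin n) A} (hM : M ∈ L φ) (hM' : M' ∈ L φ.symm) :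
    M' * M = (M' * M) i0 i0 • (1 : Matrix (Fin n) (Fin n) A) := by
  have hcomm : ∀ N, Commute N (M' * M) := by
    intro N
    show N * (M' * M) = M' * M * N
    rw [mul_assoc, hM N, ← mul_assoc, ← mul_assoc, mem_L_symm.mp hM' N]
  obtain ⟨c, hc⟩ := mem_range_scalar_iff_commute_single'.mpr (fun i j => hcomm _)
  rw [← hc]
  ext a b
  simp [Matrix.scalar_apply, Matrix.smul_apply, Matrix.one_apply, Matrix.diagonal_apply]

theorem mul_central' (φ : Matrix (Fin n) (Fin n) A ≃ₐ[A] Matrix (Fin n) (Fin n) A)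
    (i0 : Fin n) {M M' : Matrix (Fin n) (Fin n) A} (hM : M ∈ L φ) (hM' : M' ∈ L φ.symm) :
    M * M' = (M * M') i0 i0 • (1 : Matrix (Fin n) (Fin n) A) := by
  have hM2 : M ∈ L φ.symm.symm := by simpa using hM
  exact mul_central φ.symm i0 hM' hM2

/-- Averaging construction of elements of `L φ`. -/
def MX (φ : Matrix (Fin n) (Fin n) A ≃ₐ[A] Matrix (Fin n) (Fin n) A) (i0 : Fin n)
    (X : Matrix (Fin n) (Fin n) A) : Matrix (Fin n) (Fin n) A :=
  ∑ k, φ (single k i0 (1 : A)) * X * single i0 k (1 : A)

theorem MX_mem (φ : Matrix (Fin n) (Fin n) A ≃ₐ[A] Matrix (Fin n) (Fin n) A) (i0 : Fin n)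
    (X : Matrix (Fin n) (Fin n) A) : MX φ i0 X ∈ L φ := by
  apply mem_L_of_basis
  intro a b
  unfold MX
  rw [Finset.sum_mul, Finset.mul_sum]
  rw [Finset.sum_eq_single a]
  · rw [Finset.sum_eq_single b]
    · rw [mul_assoc, single_mul_single_same, ← mul_assoc, ← mul_assoc, ← map_mul,
        single_mul_single_same, mul_one]
    · intro k _ hk
      rw [← mul_assoc, ← mul_assoc, ← map_mul, single_mul_single_of_ne _ _ _ _ (Ne.symm hk)]
      simp
    · intro h; exact absurd (Finset.mem_univ _) h
  · intro k _ hk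
    rw [mul_assoc, single_mul_single_of_ne _ _ _ _ hk]
    simp
  · intro h; exact absurd (Finset.mem_univ _) h

/-- Averaging construction of elements of `L φ.symm`. -/
def MY (φ : Matrix (Fin n) (Fin n) A ≃ₐ[A] Matrix (Fin n) (Fin n) A) (i0 : Fin n)
    (Y : Matrix (Fin n) (Fin n) A) : Matrix (Fin n) (Fin n) A :=
  ∑ k, single k i0 (1 : A) * Y * φ (single i0 k (1 : A))

theorem mem_L_symm_of_basis (φ : Matrix (Fin n) (Fin n) A ≃ₐ[A] Matrix (Fin n) (Fin n) A)
    (M : Matrix (Fin n) (Fin n) A)
    (h : ∀ a b, M * φ (single a b (1 : A)) = single a b (1 : A) * M) : M ∈ L φ.symm := by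
  rw [mem_L_symm]
  intro N
  have hN : N = ∑ a, ∑ b, N a b • single a b (1 : A) := by
    conv_lhs => rw [matrix_eq_sum_single N]
    apply Finset.sum_congr rfl
    intro a _
    apply Finset.sum_congr rfl
    intro b _
    rw [smul_single, smul_eq_mul, mul_one]
  rw [hN, map_sum, Finset.mul_sum, Finset.sum_mul]
  apply Finset.sum_congr rfl
  intro a _
  rw [map_sum, Finset.mul_sum, Finset.sum_mul]
  apply Finset.sum_congr rfl
  intro b _
  rw [map_smul, mul_smul_comm, smul_mul_assoc, h]

theorem MY_mem (φ : Matrix (Fin n) (Fin n) A ≃ₐ[A] Matrix (Fin n) (Fin n) A) (i0 : Fin n)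
    (Y : Matrix (Fin n) (Fin n) A) : MY φ i0 Y ∈ L φ.symm := by
  apply mem_L_symm_of_basis
  intro a b
  unfold MY
  rw [Finset.sum_mul, Finset.mul_sum]
  rw [Finset.sum_eq_single a]
  · rw [Finset.sum_eq_single b]
    · rw [mul_assoc, ← map_mul, single_mul_single_same, ← mul_assoc, ← mul_assoc,
        single_mul_single_same, mul_one]
    · intro k _ hk
      rw [← mul_assoc, ← mul_assoc, single_mul_single_of_ne _ _ _ _ (Ne.symm hk)]
      simp
    · intro h; exact absurd (Finset.mem_univ _) h
  · intro k _ hk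
    rw [mul_assoc, ← map_mul, single_mul_single_of_ne _ _ _ _ hk]
    simp
  · intro h; exact absurd (Finset.mem_univ _) h

theorem MY_mul_MX (φ : Matrix (Fin n) (Fin n) A ≃ₐ[A] Matrix (Fin n) (Fin n) A) (i0 : Fin n)
    (X Y : Matrix (Fin n) (Fin n) A) :
    MY φ i0 Y * MX φ i0 X =
      (Y * φ (single i0 i0 (1 : A)) * X) i0 i0 • (1 : Matrix (Fin n) (Fin n) A) := by
  unfold MY MX
  rw [Finset.sum_mul]
  have h1 : ∀ k : Fin n, single k i0 (1 : A) * Y * φ (single i0 k (1 : A)) *
      ∑ l, φ (single l i0 (1 : A)) * X * single i0 l (1 : A) =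
      (Y * φ (single i0 i0 (1 : A)) * X) i0 i0 • single k k (1 : A) := by
    intro k
    rw [Finset.mul_sum, Finset.sum_eq_single k]
    · have : single k i0 (1 : A) * Y * φ (single i0 k 1) * (φ (single k i0 1) * X * single i0 k 1) =
          single k i0 (1 : A) * (Y * φ (single i0 i0 (1 : A)) * X) * single i0 k 1 := by
        have h2 : φ (single i0 k (1 : A)) * φ (single k i0 1) = φ (single i0 i0 1) := by
          rw [← map_mul, single_mul_single_same, mul_one]
        calc single k i0 (1 : A) * Y * φ (single i0 k 1) * (φ (single k i0 1) * X * single i0 k 1)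
            = single k i0 (1 : A) * Y * (φ (single i0 k 1) * φ (single k i0 1)) * X *
                single i0 k 1 := by simp only [mul_assoc]
          _ = _ := by rw [h2]; simp only [mul_assoc]
      rw [this, single_mul_mul_single, one_mul, mul_one, smul_single, smul_eq_mul, mul_one]
    · intro l _ hl
      have h2 : φ (single i0 k (1 : A)) * φ (single l i0 1) = 0 := by
        rw [← map_mul, single_mul_single_of_ne _ _ _ _ (Ne.symm hl), map_zero]
      calc single k i0 (1 : A) * Y * φ (single i0 k 1) * (φ (single l i0 1) * X * single i0 l 1)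
          = single k i0 (1 : A) * Y * (φ (single i0 k 1) * φ (single l i0 1)) * X *
              single i0 l 1 := by simp only [mul_assoc]
        _ = 0 := by rw [h2]; simp
    · intro h; exact absurd (Finset.mem_univ _) h
  simp_rw [h1]
  rw [← Finset.smul_sum, Matrix.sum_single_one]

/-- The unit is a sum of products `L φ.symm * L φ`. -/
theorem one_eq_sum (φ : Matrix (Fin n) (Fin n) A ≃ₐ[A] Matrix (Fin n) (Fin n) A) (i0 : Fin n) :
    ∑ i, MY φ i0 (φ (single i i0 (1 : A))) * MX φ i0 (φ (single i0 i (1 : A))) =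
      (1 : Matrix (Fin n) (Fin n) A) := by
  simp_rw [MY_mul_MX, ← map_mul, single_mul_single_same, mul_one]
  rw [← Finset.sum_smul]
  have : ∑ i, (φ (single i i (1 : A))) i0 i0 = 1 := by
    have h1 : ∑ i, single i i (1 : A) = (1 : Matrix (Fin n) (Fin n) A) := Matrix.sum_single_one
    have h2 := congrArg (fun M => (φ M) i0 i0) h1
    simp only [map_sum, map_one, Matrix.sum_apply, Matrix.one_apply_eq] at h2
    exact h2
  rw [this, one_smul]

section Context

variable (L₁ L₂ : Submodule A (Matrix (Fin n) (Fin n) A)) (i0 : Fin n)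

/-- The pairing `m ⊗ m' ↦ (m m')₀₀`. -/
def pairing : L₁ ⊗[A] L₂ →ₗ[A] A :=
  TensorProduct.lift (LinearMap.mk₂ A (fun (m : L₁) (m' : L₂) => (m.1 * m'.1) i0 i0)
    (by intro a b c; simp [add_mul])
    (by intro c a b; simp)
    (by intro a b c; simp [mul_add])
    (by intro c a b; simp))

@[simp] theorem pairing_tmul (m : L₁) (m' : L₂) :
    pairing L₁ L₂ i0 (m ⊗ₜ m') = (m.1 * m'.1) i0 i0 := by
  simp [pairing]

theorem context_equiv
    (hc : ∀ m ∈ L₁, ∀ m' ∈ L₂, m * m' = (m * m') i0 i0 • (1 : Matrix (Fin n) (Fin n) A))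
    (hc' : ∀ m ∈ L₁, ∀ m' ∈ L₂, m' * m = (m' * m) i0 i0 • (1 : Matrix (Fin n) (Fin n) A))
    {ι : Type} [Fintype ι] (a a' : ι → Matrix (Fin n) (Fin n) A)
    (ha : ∀ i, a i ∈ L₁) (ha' : ∀ i, a' i ∈ L₂) (hsum : ∑ i, a i * a' i = 1) :
    Function.Bijective (pairing L₁ L₂ i0) := by
  set τ : L₁ ⊗[A] L₂ := ∑ i, (⟨a i, ha i⟩ : L₁) ⊗ₜ[A] (⟨a' i, ha' i⟩ : L₂) with hτ
  have hντ : pairing L₁ L₂ i0 τ = 1 := by
    rw [hτ, map_sum]
    simp only [pairing_tmul]
    have := congrArg (fun M : Matrix (Fin n) (Fin n) A => M i0 i0) hsum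
    simp only [Matrix.sum_apply, Matrix.one_apply_eq] at this
    exact this
  have key : ∀ x : L₁ ⊗[A] L₂, x = pairing L₁ L₂ i0 x • τ := by
    intro x
    induction x using TensorProduct.induction_on with
    | zero => simp
    | add x y hx hy => rw [map_add, add_smul, ← hx, ← hy]
    | tmul m m' =>
      rw [pairing_tmul]
      set d := (m.1 * m'.1) i0 i0 with hd
      have h1 : m' = ∑ j, ((m'.1 * a j) i0 i0) • (⟨a' j, ha' j⟩ : L₂) := by
        apply Subtype.ext
        rw [Submodule.coe_sum]
        simp only [Submodule.coe_smul]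
        calc m'.1 = m'.1 * ∑ j, a j * a' j := by rw [hsum, mul_one]
          _ = ∑ j, (m'.1 * a j) * a' j := by rw [Finset.mul_sum]; simp only [mul_assoc]
          _ = ∑ j, ((m'.1 * a j) i0 i0) • a' j := by
              apply Finset.sum_congr rfl
              intro j _
              rw [hc' (a j) (ha j) m'.1 m'.2, smul_mul_assoc, one_mul]
              simp
      have h2 : ∀ j, ((m'.1 * a j) i0 i0) • m = d • (⟨a j, ha j⟩ : L₁) := by
        intro j
        apply Subtype.ext
        simp only [Submodule.coe_smul]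
        calc ((m'.1 * a j) i0 i0) • m.1 = m.1 * (((m'.1 * a j) i0 i0) • 1) := by
              rw [mul_smul_comm, mul_one]
          _ = m.1 * (m'.1 * a j) := by rw [← hc' (a j) (ha j) m'.1 m'.2]
          _ = (m.1 * m'.1) * a j := by rw [mul_assoc]
          _ = d • a j := by rw [hc m.1 m.2 m'.1 m'.2, smul_mul_assoc, one_mul]
      conv_lhs => rw [h1]
      rw [TensorProduct.tmul_sum, hτ, Finset.smul_sum]
      apply Finset.sum_congr rfl
      intro j _
      rw [TensorProduct.tmul_smul, TensorProduct.smul_tmul', h2 j, TensorProduct.smul_tmul']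
  constructor
  · intro x y hxy
    rw [key x, key y, hxy]
  · intro c
    exact ⟨c • τ, by rw [map_smul, hντ, smul_eq_mul, mul_one]⟩

end Context

theorem L_invertible (φ : Matrix (Fin n) (Fin n) A ≃ₐ[A] Matrix (Fin n) (Fin n) A) (i0 : Fin n) :
    Module.Invertible A (L φ) := by
  have hsum := one_eq_sum φ.symm i0
  have hb := context_equiv (L φ) (L φ.symm) i0
    (fun m hm m' hm' => mul_central' φ i0 hm hm')
    (fun m hm m' hm' => mul_central φ i0 hm hm')
    (fun i => MY φ.symm i0 (φ.symm (single i i0 (1 : A))))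
    (fun i => MX φ.symm i0 (φ.symm (single i0 i (1 : A))))
    (fun i => by
      have := MY_mem φ.symm i0 (φ.symm (single i i0 (1 : A)))
      simpa using this)
    (fun i => MX_mem φ.symm i0 _) hsum
  exact Module.Invertible.left (LinearEquiv.ofBijective _ hb)

section PowerIso

variable (φ : Matrix (Fin n) (Fin n) A ≃ₐ[A] Matrix (Fin n) (Fin n) A)

/-- The matrix with entries `(φ(E_{kj}) w)_i`. -/
def Gmat (w : Fin n → A) (j : Fin n) : Matrix (Fin n) (Fin n) A :=
  Matrix.of fun i k => (φ (single k j (1 : A)) *ᵥ w) i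

theorem Gmat_mem (w : Fin n → A) (j : Fin n) : Gmat φ w j ∈ L φ := by
  apply mem_L_of_basis
  intro a b
  ext i k
  by_cases hbk : k = b
  · subst hbk
    rw [mul_single_apply_same, mul_one, Matrix.mul_apply]
    simp only [Gmat, Matrix.of_apply]
    have : φ (single a j (1 : A)) = φ (single a k (1 : A)) * φ (single k j (1 : A)) := by
      rw [← map_mul, single_mul_single_same, mul_one]
    rw [this, ← Matrix.mulVec_mulVec]
    rfl
  · rw [mul_single_apply_of_ne _ _ _ _ _ hbk, Matrix.mul_apply]
    simp only [Gmat, Matrix.of_apply]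
    have : φ (single a b (1 : A)) * φ (single k j (1 : A)) = 0 := by
      rw [← map_mul, single_mul_single_of_ne _ _ _ _ (Ne.symm hbk), map_zero]
    have h2 : (φ (single a b (1 : A)) *ᵥ (φ (single k j (1 : A)) *ᵥ w)) i = 0 := by
      rw [Matrix.mulVec_mulVec, this, Matrix.zero_mulVec]
      rfl
    exact h2.symm

/-- The forward map `L^n → A^n`. -/
def Fmap : (Fin n → L φ) →ₗ[A] (Fin n → A) where
  toFun M := fun i => ∑ j, (M j).1 i j
  map_add' M M' := by
    ext i
    simp [Finset.sum_add_distrib]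
  map_smul' c M := by
    ext i
    simp [Finset.mul_sum]

/-- The backward map `A^n → L^n`. -/
def Gmap : (Fin n → A) →ₗ[A] (Fin n → L φ) where
  toFun w := fun j => ⟨Gmat φ w j, Gmat_mem φ w j⟩
  map_add' w w' := by
    ext j i k
    simp [Gmat, Matrix.mulVec_add]
  map_smul' c w := by
    ext j i k
    simp [Gmat, Matrix.mulVec_smul]

theorem Fmap_Gmap (w : Fin n → A) : Fmap φ (Gmap φ w) = w := by
  ext i
  show ∑ j, (Gmat φ w j) i j = w i
  simp only [Gmat, Matrix.of_apply, Matrix.mulVec, dotProduct]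
  rw [Finset.sum_comm]
  have h1 : ∀ c, ∑ j, (φ (single j j (1 : A))) i c * w c = (1 : Matrix (Fin n) (Fin n) A) i c * w c := by
    intro c
    rw [← Finset.sum_mul]
    congr 1
    have h2 : ∑ j, φ (single j j (1 : A)) = 1 := by
      rw [← map_sum, Matrix.sum_single_one, map_one]
    have := congrArg (fun M : Matrix (Fin n) (Fin n) A => M i c) h2
    simpa [Matrix.sum_apply] using this
  simp_rw [h1]
  simp [Matrix.one_apply]

theorem Gmap_Fmap (M : Fin n → L φ) : Gmap φ (Fmap φ M) = M := by
  ext j i k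
  show (φ (single k j (1 : A)) *ᵥ (Fmap φ M)) i = (M j).1 i k
  simp only [Fmap, LinearMap.coe_mk, AddHom.coe_mk, Matrix.mulVec, dotProduct]
  simp_rw [Finset.mul_sum]
  rw [Finset.sum_comm]
  have h1 : ∀ l, ∑ c, (φ (single k j (1 : A))) i c * (M l).1 c l =
      if l = j then (M l).1 i k else 0 := by
    intro l
    have h2 : ∑ c, (φ (single k j (1 : A))) i c * (M l).1 c l =
        (φ (single k j (1 : A)) * (M l).1) i l := (Matrix.mul_apply).symm
    rw [h2, ← (M l).2 (single k j (1 : A))]
    by_cases hl : l = j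
    · subst hl
      rw [mul_single_apply_same, mul_one, if_pos rfl]
    · rw [mul_single_apply_of_ne _ _ _ _ _ hl, if_neg hl]
  simp_rw [h1]
  simp

/-- `L^n ≃ A^n`. -/
def powerEquiv : (Fin n → L φ) ≃ₗ[A] (Fin n → A) :=
  LinearEquiv.ofLinear (Fmap φ) (Gmap φ)
    (LinearMap.ext (Fmap_Gmap φ)) (LinearMap.ext (Gmap_Fmap φ))

end PowerIso

section Act

variable (A n)
variable (N : Type u) [AddCommGroup N] [Module A N]

/-- The action of `n × n` matrices on `N^n`. -/
def act : Matrix (Fin n) (Fin n) A →ₐ[A] Module.End A (Fin n → N) where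
  toFun T :=
    { toFun := fun x i => ∑ j, T i j • x j
      map_add' := by
        intro x y
        ext i
        simp [Finset.sum_add_distrib]
      map_smul' := by
        intro c x
        ext i
        simp only [Pi.smul_apply, RingHom.id_apply, Finset.smul_sum]
        apply Finset.sum_congr rfl
        intro j _
        rw [smul_comm] }
  map_one' := by
    refine LinearMap.ext fun x => funext fun i => ?_
    simp [Matrix.one_apply]
  map_mul' := by
    intro S T
    refine LinearMap.ext fun x => funext fun i => ?_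
    simp only [LinearMap.coe_mk, AddHom.coe_mk, Module.End.mul_apply, Matrix.mul_apply,
      Finset.smul_sum, Finset.sum_smul]
    rw [Finset.sum_comm]
    apply Finset.sum_congr rfl
    intro j _
    apply Finset.sum_congr rfl
    intro k _
    rw [mul_smul]
  map_zero' := by
    refine LinearMap.ext fun x => funext fun i => ?_
    simp
  map_add' := by
    intro S T
    refine LinearMap.ext fun x => funext fun i => ?_
    simp [add_smul, Finset.sum_add_distrib]
  commutes' := by
    intro c
    refine LinearMap.ext fun x => funext fun i => ?_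
    simp [Matrix.algebraMap_matrix_apply, Finset.sum_ite_eq]

theorem act_apply (T : Matrix (Fin n) (Fin n) A) (x : Fin n → N) (i : Fin n) :
    act A n N T x i = ∑ j, T i j • x j := rfl

variable [Module.Invertible A N]

theorem act_bijective : Function.Bijective (act A n N) := by
  constructor
  · rw [injective_iff_map_eq_zero]
    intro T hT
    ext i j
    have h1 : ∀ y : N, T i j • y = 0 := by
      intro y
      have := congrFun (LinearMap.congr_fun hT (Pi.single j y)) i
      rw [act_apply] at this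
      rw [Finset.sum_eq_single j] at this
      · simpa using this
      · intro k _ hk
        simp [Pi.single_eq_of_ne hk]
      · intro h; exact absurd (Finset.mem_univ _) h
    have h2 : T i j • (1 : Module.End A N) = 0 := by
      ext y
      simp [h1 y]
    have hinj := (Module.Invertible.toModuleEnd_bijective A N).1
    have h3 : Module.toModuleEnd A (S := A) N (T i j) = Module.toModuleEnd A (S := A) N 0 := by
      ext y
      simp [h1 y]
    exact hinj h3
  · intro S
    have hsurj := (Module.Invertible.toModuleEnd_bijective A N).2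
    choose t ht using fun (ij : Fin n × Fin n) => hsurj
      ((LinearMap.proj ij.1).comp (S.comp (LinearMap.single A (fun _ : Fin n => N) ij.2)))
    refine ⟨Matrix.of fun i j => t (i, j), ?_⟩
    refine LinearMap.ext fun x => funext fun i => ?_
    rw [act_apply]
    have hx : x = ∑ j, Pi.single j (x j) := by
      ext k
      simp [Finset.sum_apply, Pi.single_apply]
    conv_rhs => rw [hx, map_sum]
    rw [Finset.sum_apply]
    apply Finset.sum_congr rfl
    intro j _
    have := LinearMap.congr_fun (ht (i, j)) (x j)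
    simp only [Module.toModuleEnd_apply, LinearMap.coe_comp, Function.comp_apply,
      LinearMap.proj_apply, LinearMap.coe_single] at this
    simpa using this

/-- The automorphism of the matrix algebra attached to `ψ : N^n ≃ A^n`. -/
noncomputable def autOf (ψ : (Fin n → N) ≃ₗ[A] (Fin n → A)) :
    Matrix (Fin n) (Fin n) A ≃ₐ[A] Matrix (Fin n) (Fin n) A :=
  ((AlgEquiv.ofBijective (act A n N) (act_bijective A n N)).trans (ψ.conjAlgEquiv A)).trans
    LinearMap.toMatrixAlgEquiv'

theorem autOf_mulVec (ψ : (Fin n → N) ≃ₗ[A] (Fin n → A)) (T : Matrix (Fin n) (Fin n) A)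
    (u : Fin n → A) : autOf A n N ψ T *ᵥ u = ψ (act A n N T (ψ.symm u)) := by
  rw [← Matrix.toLinAlgEquiv'_apply]
  unfold autOf
  simp only [AlgEquiv.trans_apply, Matrix.toLinAlgEquiv'_toMatrixAlgEquiv']
  rfl

end Act

section Main

variable (A n)

theorem inner_of_free (i0 : Fin n)
    (φ : Matrix (Fin n) (Fin n) A ≃ₐ[A] Matrix (Fin n) (Fin n) A)
    (hfree : Module.Free A (L φ)) :
    ∃ P : GL (Fin n) A, ∀ T : Matrix (Fin n) (Fin n) A, φ T = P.1 * T * (P⁻¹).1 := by
  haveI := L_invertible φ i0
  obtain ⟨e⟩ := (Module.Invertible.free_iff_linearEquiv (R := A) (M := L φ)).mp hfree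
  set M₀ : L φ := e.symm 1 with hM₀
  have hgen : ∀ M : L φ, M = e M • M₀ := by
    intro M
    apply e.injective
    rw [map_smul, hM₀, e.apply_symm_apply, smul_eq_mul, mul_one]
  have hsurj : Function.Surjective M₀.1.mulVec := by
    intro w
    refine ⟨fun j => e ⟨Gmat φ w j, Gmat_mem φ w j⟩, ?_⟩
    have h1 := Fmap_Gmap φ w
    ext i
    have h2 := congrFun h1 i
    rw [← h2]
    show ∑ j, M₀.1 i j * e ⟨Gmat φ w j, Gmat_mem φ w j⟩ = ∑ j, (Gmat φ w j) i j
    apply Finset.sum_congr rfl
    intro j _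
    have h3 := congrArg (fun M : L φ => M.1 i j) (hgen ⟨Gmat φ w j, Gmat_mem φ w j⟩)
    simp only [Submodule.coe_smul, Matrix.smul_apply, smul_eq_mul] at h3
    rw [h3, mul_comm]
  have hunit : IsUnit M₀.1 := Matrix.mulVec_surjective_iff_isUnit.mp hsurj
  refine ⟨hunit.unit, fun T => ?_⟩
  have h1 : M₀.1 * T = φ T * M₀.1 := M₀.2 T
  have h2 : (hunit.unit : Matrix (Fin n) (Fin n) A) = M₀.1 := hunit.unit_spec
  show φ T = (hunit.unit : Matrix (Fin n) (Fin n) A) * T * ((hunit.unit⁻¹ : (Matrix (Fin n) (Fin n) A)ˣ) : Matrix (Fin n) (Fin n) A)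
  rw [Units.eq_mul_inv_iff_mul_eq, h2, h1]

theorem free_of_inner (i0 : Fin n) (N : Type u) [AddCommGroup N] [Module A N]
    [Module.Invertible A N] (ψ : (Fin n → N) ≃ₗ[A] (Fin n → A))
    (hinner : ∃ P : GL (Fin n) A, ∀ T : Matrix (Fin n) (Fin n) A,
      autOf A n N ψ T = P.1 * T * (P⁻¹).1) : Module.Free A N := by
  obtain ⟨Q, hQ⟩ := hinner
  -- the map g : A → N
  let g : A →ₗ[A] N :=
    (LinearMap.proj i0).comp (ψ.symm.toLinearMap.comp
      ((Matrix.toLin' Q.1).comp (LinearMap.single A (fun _ : Fin n => A) i0)))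
  have hg : ∀ a : A, g a = ψ.symm (Q.1 *ᵥ Pi.single i0 a) i0 := fun a => rfl
  have hsurj : Function.Surjective g := by
    intro x
    set u := ψ (Pi.single i0 x) with hu
    have h1 : autOf A n N ψ (single i0 i0 (1 : A)) *ᵥ u = u := by
      rw [autOf_mulVec, hu, ψ.symm_apply_apply]
      congr 1
      funext i
      rw [act_apply]
      by_cases hi : i = i0
      · subst hi
        rw [Finset.sum_eq_single i]
        · simp
        · intro j _ hj
          simp [Pi.single_eq_of_ne hj]
        · intro h; exact absurd (Finset.mem_univ _) h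
      · rw [Pi.single_eq_of_ne hi]
        apply Finset.sum_eq_zero
        intro j _
        simp [single, hi, Ne.symm hi]
    rw [hQ, ← Matrix.mulVec_mulVec, ← Matrix.mulVec_mulVec] at h1
    have h2 : single i0 i0 (1 : A) *ᵥ ((Q⁻¹).1 *ᵥ u) = (Q⁻¹).1 *ᵥ u := by
      have := congrArg (fun v => (Q⁻¹).1 *ᵥ v) h1
      simp only [Matrix.mulVec_mulVec] at this
      rw [← mul_assoc, ← mul_assoc] at this
      have hQQ : (Q⁻¹).1 * Q.1 = 1 := by
        rw [← Units.val_mul, inv_mul_cancel, Units.val_one]
      rw [hQQ, one_mul] at this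
      rw [Matrix.mulVec_mulVec]
      exact this
    have h3 : (Q⁻¹).1 *ᵥ u = Pi.single i0 (((Q⁻¹).1 *ᵥ u) i0) := by
      conv_lhs => rw [← h2]
      rw [Matrix.single_mulVec, one_mul]
      ext i
      by_cases hi : i = i0
      · subst hi; simp
      · simp [Function.update_of_ne hi, Pi.single_eq_of_ne hi]
    refine ⟨((Q⁻¹).1 *ᵥ u) i0, ?_⟩
    rw [hg, ← h3, Matrix.mulVec_mulVec]
    have hQQ : Q.1 * (Q⁻¹).1 = 1 := by
      rw [← Units.val_mul, mul_inv_cancel, Units.val_one]
    rw [hQQ, Matrix.one_mulVec, hu, ψ.symm_apply_apply]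
    simp
  have hbij := Module.Invertible.bijective_of_surjective hsurj
  exact Module.Free.of_equiv (LinearEquiv.ofBijective g hbij)

theorem main (hn : 1 ≤ n) :
    (∀ φ : Matrix (Fin n) (Fin n) A ≃ₐ[A] Matrix (Fin n) (Fin n) A,
        ∃ P : GL (Fin n) A, ∀ T : Matrix (Fin n) (Fin n) A, φ T = P.1 * T * (P⁻¹).1) ↔
      (∀ (N : Type u) [AddCommGroup N] [Module A N] [Module.Invertible A N],
        Nonempty ((Fin n → N) ≃ₗ[A] (Fin n → A)) → Module.Free A N) := by
  have i0 : Fin n := ⟨0, hn⟩
  constructor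
  · intro h N _ _ _ ⟨ψ⟩
    exact free_of_inner A n i0 N ψ (h _)
  · intro h φ
    haveI := L_invertible φ i0
    exact inner_of_free A n i0 φ (h (L φ) ⟨powerEquiv φ⟩)

end Main

section Torsion

open PiTensorProduct

theorem piTensor_invertible (M : Type u) [AddCommGroup M] [Module A M] [Module.Invertible A M] :
    ∀ m : ℕ, Module.Invertible A (⨂[A] _ : Fin m, M)
  | 0 => Module.Invertible.congr (PiTensorProduct.isEmptyEquiv (Fin 0)).symm
  | m + 1 => by
    haveI := piTensor_invertible M m
    haveI : Module.Invertible A (⨂[A] _ : Fin 1, M) :=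
      Module.Invertible.congr (PiTensorProduct.subsingletonEquiv (0 : Fin 1)).symm
    exact Module.Invertible.congr ((PiTensorProduct.tmulEquiv A M).trans
      (PiTensorProduct.reindex A (fun _ => M) finSumFinEquiv))

variable (φ : Matrix (Fin n) (Fin n) A ≃ₐ[A] Matrix (Fin n) (Fin n) A)

/-- The `j`-th column of an element of `L φ`. -/
def colMap (j : Fin n) : L φ →ₗ[A] (Fin n → A) where
  toFun M := fun i => M.1 i j
  map_add' M M' := by ext i; simp
  map_smul' c M := by ext i; simp

/-- The determinant of the matrix whose `j`-th column is the `j`-th column of `M j`. -/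
def Dmap : MultilinearMap A (fun _ : Fin n => L φ) A :=
  (Matrix.detRowAlternating (R := A) (n := Fin n)).toMultilinearMap.compLinearMap (colMap φ)

theorem Dmap_apply (M : Fin n → L φ) :
    Dmap φ M = Matrix.det (Matrix.of fun j i => (M j).1 i j) := rfl

theorem Dmap_Gmat (w : Fin n → Fin n → A) :
    Dmap φ (fun j => ⟨Gmat φ (w j) j, Gmat_mem φ (w j) j⟩) =
      Matrix.det (Matrix.of fun j i => (φ (single j j (1 : A)) *ᵥ w j) i) := rfl

theorem Dmap_not_mem (i0 : Fin n) (m : Ideal A) [hm : m.IsMaximal] :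
    ∃ M : Fin n → L φ, Dmap φ M ∉ m := by
  letI : Field (A ⧸ m) := Ideal.Quotient.field m
  let π : A →+* A ⧸ m := Ideal.Quotient.mk m
  let ρ : Matrix (Fin n) (Fin n) A →+* Matrix (Fin n) (Fin n) (A ⧸ m) :=
    (RingHom.mapMatrix π).comp (φ : Matrix (Fin n) (Fin n) A →+* Matrix (Fin n) (Fin n) A)
  have hρ : ∀ X, ρ X = (φ X).map π := fun X => rfl
  haveI : Nonempty (Fin n) := ⟨i0⟩
  -- step 1
  have h1 : ∀ j, ρ (single j j (1 : A)) ≠ 0 := by
    intro j hj
    have h00 : ρ (single i0 i0 (1 : A)) = 0 := by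
      have : single i0 i0 (1 : A) = single i0 j 1 * single j j 1 * single j i0 1 := by
        rw [single_mul_single_same, single_mul_single_same]; simp
      rw [this, map_mul, map_mul, hj]; simp
    have hall : ∀ i, ρ (single i i (1 : A)) = 0 := by
      intro i
      have : single i i (1 : A) = single i i0 1 * single i0 i0 1 * single i0 i 1 := by
        rw [single_mul_single_same, single_mul_single_same]; simp
      rw [this, map_mul, map_mul, h00]; simp
    have h10 : (1 : Matrix (Fin n) (Fin n) (A ⧸ m)) = 0 := by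
      rw [← map_one ρ, ← Matrix.sum_single_one, map_sum]
      exact Finset.sum_eq_zero (fun i _ => hall i)
    exact one_ne_zero h10
  -- step 2
  have h2 : ∀ j, ∃ v : Fin n → A ⧸ m, ρ (single j j (1 : A)) *ᵥ v ≠ 0 := by
    intro j
    by_contra hcon
    push Not at hcon
    apply h1 j
    ext a b
    have := congrFun (hcon (Pi.single b 1)) a
    simpa using this
  choose v hv using h2
  -- step 3
  have h3 : ∀ j, ∃ w : Fin n → A, ∀ i, π (w i) = v j i := by
    intro j
    choose w hw using fun i => Ideal.Quotient.mk_surjective (I := m) (v j i)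
    exact ⟨w, hw⟩
  choose w hw using h3
  refine ⟨fun j => ⟨Gmat φ (w j) j, Gmat_mem φ (w j) j⟩, ?_⟩
  rw [Dmap_Gmat, ← Ideal.Quotient.eq_zero_iff_mem]
  change π (Matrix.det (Matrix.of fun j i => (φ (single j j (1 : A)) *ᵥ w j) i)) ≠ 0
  rw [RingHom.map_det]
  have hU : (π.mapMatrix (Matrix.of fun j i => (φ (single j j (1 : A)) *ᵥ w j) i)) =
      Matrix.of fun j i => (ρ (single j j (1 : A)) *ᵥ v j) i := by
    ext j i
    simp only [RingHom.mapMatrix_apply, Matrix.map_apply, Matrix.of_apply]
    rw [hρ]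
    have : v j = fun c => π (w j c) := funext fun c => (hw j c).symm
    rw [this]
    simp only [Matrix.mulVec, dotProduct, map_sum, map_mul, Matrix.map_apply]
  rw [hU]
  -- step 5: linear independence
  set U : Matrix (Fin n) (Fin n) (A ⧸ m) :=
    Matrix.of fun j i => (ρ (single j j (1 : A)) *ᵥ v j) i with hUdef
  have hli : LinearIndependent (A ⧸ m) U.row := by
    rw [Fintype.linearIndependent_iff]
    intro c hc i
    have h4 := congrArg (fun x => ρ (single i i (1 : A)) *ᵥ x) hc
    simp only [Matrix.mulVec_zero] at h4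
    rw [Matrix.mulVec_sum] at h4
    have h5 : ∀ j, ρ (single i i (1 : A)) *ᵥ (c j • U.row j) =
        if j = i then c i • U.row i else 0 := by
      intro j
      rw [Matrix.mulVec_smul]
      have hrow : U.row j = ρ (single j j (1 : A)) *ᵥ v j := rfl
      rw [hrow, Matrix.mulVec_mulVec, ← map_mul]
      by_cases hji : j = i
      · subst hji
        rw [single_mul_single_same, mul_one, if_pos rfl, hrow]
      · rw [single_mul_single_of_ne _ _ _ _ (Ne.symm hji), map_zero, Matrix.zero_mulVec,
          smul_zero, if_neg hji]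
    simp_rw [h5] at h4
    rw [Finset.sum_ite_eq' Finset.univ i, if_pos (Finset.mem_univ _)] at h4
    rcases smul_eq_zero.mp h4 with h | h
    · exact h
    · exact absurd h (hv i)
  have hunit : IsUnit U := Matrix.linearIndependent_rows_iff_isUnit.mp hli
  exact ((Matrix.isUnit_iff_isUnit_det U).mp hunit).ne_zero

theorem Dlift_surjective (i0 : Fin n) :
    Function.Surjective (PiTensorProduct.lift (Dmap φ)) := by
  rw [← LinearMap.range_eq_top]
  by_contra hne
  obtain ⟨m, hm, hle⟩ := Ideal.exists_le_maximal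
    (LinearMap.range (PiTensorProduct.lift (Dmap φ)) : Ideal A) hne
  obtain ⟨M, hM⟩ := Dmap_not_mem φ i0 m
  apply hM
  apply hle
  exact ⟨PiTensorProduct.tprod A M, by rw [PiTensorProduct.lift.tprod]⟩

theorem tensorPow_equiv (i0 : Fin n) : Nonempty ((⨂[A] _ : Fin n, L φ) ≃ₗ[A] A) := by
  haveI := L_invertible φ i0
  haveI := piTensor_invertible (A := A) (L φ) n
  exact ⟨LinearEquiv.ofBijective _
    (Module.Invertible.bijective_of_surjective (Dlift_surjective φ i0))⟩

theorem ker_eq_L :
    LinearMap.ker (LinearMap.mul A (Matrix (Fin n) (Fin n) A) -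
      (LinearMap.lcomp A (Matrix (Fin n) (Fin n) A) φ.toLinearMap).comp
        (LinearMap.mul A (Matrix (Fin n) (Fin n) A)).flip) = L φ := by
  ext M
  rw [LinearMap.mem_ker, mem_L]
  constructor
  · intro h N
    have := LinearMap.congr_fun h N
    simp only [LinearMap.sub_apply, LinearMap.coe_comp, Function.comp_apply,
      LinearMap.lcomp_apply, LinearMap.flip_apply, LinearMap.mul_apply', LinearMap.zero_apply,
      AlgEquiv.toLinearMap_apply, sub_eq_zero] at this
    exact this
  · intro h
    ext N : 1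
    simp only [LinearMap.sub_apply, LinearMap.coe_comp, Function.comp_apply,
      LinearMap.lcomp_apply, LinearMap.flip_apply, LinearMap.mul_apply', LinearMap.zero_apply,
      AlgEquiv.toLinearMap_apply, sub_eq_zero]
    exact h N

theorem main2 (hn : 0 < n) :
    Module.Invertible A
        (LinearMap.ker (LinearMap.mul A (Matrix (Fin n) (Fin n) A) -
          (LinearMap.lcomp A (Matrix (Fin n) (Fin n) A) φ.toLinearMap).comp
            (LinearMap.mul A (Matrix (Fin n) (Fin n) A)).flip)) ∧
      Nonempty ((⨂[A] _ : Fin n,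
          LinearMap.ker (LinearMap.mul A (Matrix (Fin n) (Fin n) A) -
            (LinearMap.lcomp A (Matrix (Fin n) (Fin n) A) φ.toLinearMap).comp
              (LinearMap.mul A (Matrix (Fin n) (Fin n) A)).flip)) ≃ₗ[A] A) := by
  rw [ker_eq_L]
  exact ⟨L_invertible φ ⟨0, hn⟩, tensorPow_equiv φ ⟨0, hn⟩⟩

end Torsion

end Groth.Agent.Lib.Helper24MatAut
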