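import Mathlib

set_option autoImplicit false
universe u

namespace Groth.Agent.Lib.Helper24MinFinite

open TensorProduct

variable {R S : Type u} [CommRing R] [CommRing S] [Algebra R S]

/-- a finite type algebra with finitely many primes over `p` has finite fibre over `p` -/
lemma finite_fiber [Algebra.FiniteType R S] (p : Ideal R) [p.IsPrime]
    (hfin : (p.primesOver S).Finite) : Module.Finite p.ResidueField (p.Fiber S) := by
  rw [Module.finite_iff_isArtinianRing, isArtinianRing_iff_isNoetherianRing_krullDimLE_zero]
  have : IsJacobsonRing (p.Fiber S) := isJacobsonRing_of_finiteType (A := p.ResidueField)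
  have : Finite (PrimeSpectrum (p.Fiber S)) := by
    haveI := hfin.to_subtype
    exact Finite.of_equiv _ (PrimeSpectrum.primesOverOrderIsoFiber R S p).toEquiv
  exact ⟨Algebra.FiniteType.isNoetherianRing p.ResidueField _,
    (PrimeSpectrum.discreteTopology_iff_finite_and_krullDimLE_zero.mp inferInstance).right⟩

lemma map_le_nilradical (p : Ideal R) (hp : p ∈ minimalPrimes R) :
    haveI : p.IsPrime := hp.1.1
    (p.map (algebraMap R S)).map
      (algebraMap S (Localization (Algebra.algebraMapSubmonoid S p.primeCompl))) ≤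
      nilradical (Localization (Algebra.algebraMapSubmonoid S p.primeCompl)) := by
  haveI : p.IsPrime := hp.1.1
  rw [Ideal.map_map, ← IsScalarTower.algebraMap_eq, Ideal.map_le_iff_le_comap]
  intro a ha
  rw [Ideal.mem_comap, mem_nilradical]
  have h3 : IsNilpotent (algebraMap R (Localization.AtPrime p) a) := by
    have h4 := IsLocalization.AtPrime.radical_map_of_mem_minimalPrimes
      (Localization.AtPrime p) p ⊥ hp
    rw [Ideal.map_bot] at h4
    have hmem : algebraMap R (Localization.AtPrime p) a ∈
        p.map (algebraMap R (Localization.AtPrime p)) := Ideal.mem_map_of_mem _ ha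
    rw [← h4] at hmem
    obtain ⟨n, hn⟩ := hmem
    exact ⟨n, by simpa using hn⟩
  rw [IsScalarTower.algebraMap_apply R (Localization.AtPrime p)
    (Localization (Algebra.algebraMapSubmonoid S p.primeCompl))]
  exact h3.map _

lemma exists_smul_isIntegral [Algebra.FiniteType R S] (p : Ideal R) (hp : p ∈ minimalPrimes R)
    (hfin : (p.primesOver S).Finite) (x : S) : ∃ g : R, g ∉ p ∧ IsIntegral R (g • x) := by
  haveI : p.IsPrime := hp.1.1
  haveI := finite_fiber p hfin
  have h1 : IsIntegral p.ResidueField ((1 : p.ResidueField) ⊗ₜ[R] x : p.Fiber S) :=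
    Algebra.IsIntegral.isIntegral _
  haveI : Algebra.IsIntegral (Localization.AtPrime p) p.ResidueField :=
    Algebra.isIntegral_of_surjective IsLocalRing.residue_surjective
  have h2 : IsIntegral (Localization.AtPrime p) ((1 : p.ResidueField) ⊗ₜ[R] x : p.Fiber S) :=
    isIntegral_trans _ h1
  obtain ⟨m, hm⟩ := IsIntegral.exists_multiple_integral_of_isLocalization p.primeCompl
    (Rₘ := Localization.AtPrime p) _ h2
  have e1 : m • ((1 : p.ResidueField) ⊗ₜ[R] x : p.Fiber S) =
      (1 : p.ResidueField) ⊗ₜ[R] ((m : R) • x) := by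
    rw [Submonoid.smul_def, TensorProduct.tmul_smul]
  rw [e1] at hm
  obtain ⟨P, hPm, hP⟩ := hm
  rw [← Polynomial.aeval_def, ← Algebra.TensorProduct.includeRight_apply,
    Polynomial.aeval_algHom_apply, Algebra.TensorProduct.includeRight_apply] at hP
  -- pass to the localization of `S`
  have hz : algebraMap S (Localization (Algebra.algebraMapSubmonoid S p.primeCompl))
      (Polynomial.aeval ((m : R) • x) P) ∈ (p.map (algebraMap R S)).map
        (algebraMap S (Localization (Algebra.algebraMapSubmonoid S p.primeCompl))) := by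
    letI : Algebra S (p.Fiber S) := Algebra.TensorProduct.rightAlgebra
    have h5 := (Ideal.Fiber.algEquivAux₁ (S := S) p).commutes (Polynomial.aeval ((m : R) • x) P)
    have h6 : algebraMap S (p.Fiber S) (Polynomial.aeval ((m : R) • x) P) =
        (1 : p.ResidueField) ⊗ₜ[R] (Polynomial.aeval ((m : R) • x) P) := rfl
    rw [h6, hP, map_zero] at h5
    rw [← Ideal.Quotient.eq_zero_iff_mem]
    exact h5.symm
  obtain ⟨N, hN⟩ := map_le_nilradical (S := S) p hp hz
  have h7 : IsIntegral R (algebraMap S (Localization (Algebra.algebraMapSubmonoid S p.primeCompl))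
      ((m : R) • x)) := by
    refine ⟨P ^ N, hPm.pow N, ?_⟩
    rw [← Polynomial.aeval_def, map_pow, Polynomial.aeval_algebraMap_apply, hN]
  obtain ⟨m', hm', h8⟩ := IsLocalization.exists_isIntegral_smul_of_isIntegral_map p.primeCompl
    (Sₘ := Localization (Algebra.algebraMapSubmonoid S p.primeCompl)) h7
  refine ⟨m' * m, ?_, ?_⟩
  · exact p.primeCompl.mul_mem hm' m.2
  · rw [mul_smul]
    exact h8

end Groth.Agent.Lib.Helper24MinFinite
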