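import Mathlib
import Groth.Agent.Lib.Helper24MinFinite

set_option autoImplicit false
universe u

namespace Groth.Agent.Lib.Helper24MinFinite2

open Groth.Agent.Lib.Helper24MinFinite

theorem s9135 (R S : Type u) [CommRing R] [CommRing S]
    [Algebra R S] [Algebra.FiniteType R S] (p : Ideal R) (hp : p ∈ minimalPrimes R)
    (hfin : (p.primesOver S).Finite) :
    ∃ g : R, g ∉ p ∧ (Localization.awayMap (algebraMap R S) g).Finite := by
  classical
  haveI : p.IsPrime := hp.1.1
  obtain ⟨s, hs⟩ := (Algebra.FiniteType.out : (⊤ : Subalgebra R S).FG)
  have hex : ∀ x : S, ∃ g : R, g ∉ p ∧ IsIntegral R (g • x) := exists_smul_isIntegral p hp hfin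
  choose G hG1 hG2 using hex
  obtain ⟨g, hgdef⟩ : ∃ g : R, g = ∏ x ∈ s, G x := ⟨_, rfl⟩
  have hg : g ∉ p := by
    intro h
    rw [hgdef, Ideal.IsPrime.prod_mem_iff] at h
    obtain ⟨x, _, hxp⟩ := h
    exact hG1 x hxp
  have hgx : ∀ x ∈ s, IsIntegral R (g • x) := by
    intro x hx
    have e : g = (∏ y ∈ s.erase x, G y) * G x := by
      rw [hgdef]
      exact (Finset.prod_erase_mul s G hx).symm
    rw [e, mul_smul]
    exact IsIntegral.smul _ (hG2 x)
  refine ⟨g, hg, RingHom.finite_iff_isIntegral_and_finiteType.mpr ⟨?_, ?_⟩⟩
  · -- integrality
    letI := (Localization.awayMap (algebraMap R S) g).toAlgebra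
    haveI : IsScalarTower R (Localization.Away g) (Localization.Away (algebraMap R S g)) := by
      refine .of_algebraMap_eq' (RingHom.ext fun r => ?_)
      rw [RingHom.comp_apply, RingHom.algebraMap_toAlgebra]
      simp [Localization.awayMap, IsLocalization.Away.map,
        IsScalarTower.algebraMap_apply R S (Localization.Away (algebraMap R S g))]
    have hRB : ∀ r : R, algebraMap S (Localization.Away (algebraMap R S g)) (algebraMap R S r) =
        algebraMap (Localization.Away g) (Localization.Away (algebraMap R S g))
          (algebraMap R (Localization.Away g) r) := by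
      intro r
      rw [← IsScalarTower.algebraMap_apply R S (Localization.Away (algebraMap R S g)),
        IsScalarTower.algebraMap_apply R (Localization.Away g)
          (Localization.Away (algebraMap R S g))]
    have hgen : ∀ x ∈ s, IsIntegral (Localization.Away g)
        (algebraMap S (Localization.Away (algebraMap R S g)) x) := by
      intro x hx
      have h1 : IsIntegral R (algebraMap S (Localization.Away (algebraMap R S g)) (g • x)) :=
        (hgx x hx).map (IsScalarTower.toAlgHom R S (Localization.Away (algebraMap R S g)))
      have h2 : IsIntegral (Localization.Away g)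
          (algebraMap S (Localization.Away (algebraMap R S g)) (g • x)) := h1.tower_top
      have e : algebraMap S (Localization.Away (algebraMap R S g)) x =
          algebraMap S (Localization.Away (algebraMap R S g)) (g • x) *
            algebraMap (Localization.Away g) (Localization.Away (algebraMap R S g))
              (IsLocalization.mk' (Localization.Away g) (1 : R)
                (⟨g, 1, pow_one g⟩ : Submonoid.powers g)) := by
        have h3 : algebraMap R (Localization.Away g) g *
            IsLocalization.mk' (Localization.Away g) (1 : R)
              (⟨g, 1, pow_one g⟩ : Submonoid.powers g) = 1 := by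
          have := IsLocalization.mk'_spec' (Localization.Away g) (1 : R)
            (⟨g, 1, pow_one g⟩ : Submonoid.powers g)
          rw [map_one] at this
          exact this
        rw [Algebra.smul_def, map_mul, hRB g, mul_comm _ (algebraMap S _ x),
          mul_assoc, ← map_mul, h3, map_one, mul_one]
      rw [e]
      exact h2.mul isIntegral_algebraMap
    have hS : ∀ x : S, IsIntegral (Localization.Away g)
        (algebraMap S (Localization.Away (algebraMap R S g)) x) := by
      intro x
      have hx : x ∈ Algebra.adjoin R (s : Set S) := by rw [hs]; trivial
      induction hx using Algebra.adjoin_induction with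
      | mem x hx => exact hgen x hx
      | algebraMap r =>
        rw [hRB r]
        exact isIntegral_algebraMap
      | add x y _ _ hx hy =>
        rw [map_add]
        exact hx.add hy
      | mul x y _ _ hx hy =>
        rw [map_mul]
        exact hx.mul hy
    intro b
    show IsIntegral (Localization.Away g) b
    obtain ⟨x, ⟨_, n, rfl⟩, rfl⟩ := IsLocalization.exists_mk'_eq
      (Submonoid.powers (algebraMap R S g)) b
    have e : IsLocalization.mk' (Localization.Away (algebraMap R S g)) x
        (⟨algebraMap R S g ^ n, n, rfl⟩ : Submonoid.powers (algebraMap R S g)) =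
        algebraMap S (Localization.Away (algebraMap R S g)) x *
          algebraMap (Localization.Away g) (Localization.Away (algebraMap R S g))
            (IsLocalization.mk' (Localization.Away g) (1 : R)
              (⟨g ^ n, n, rfl⟩ : Submonoid.powers g)) := by
      have h3 : IsLocalization.mk' (Localization.Away g) (1 : R)
            (⟨g ^ n, n, rfl⟩ : Submonoid.powers g) * algebraMap R (Localization.Away g) (g ^ n)
             = 1 := by
        have := IsLocalization.mk'_spec (Localization.Away g) (1 : R)
          (⟨g ^ n, n, rfl⟩ : Submonoid.powers g)
        rw [map_one] at this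
        exact this
      rw [IsLocalization.mk'_eq_iff_eq_mul]
      show algebraMap S _ x = _ * algebraMap S _ (algebraMap R S g ^ n)
      have h4 : algebraMap R S g ^ n = algebraMap R S (g ^ n) := (map_pow _ _ _).symm
      rw [h4, hRB (g ^ n), mul_assoc, ← map_mul, h3, map_one, mul_one]
    rw [e]
    exact (hS x).mul isIntegral_algebraMap
  · exact RingHom.localization_away_map_finiteType R S _ _ (algebraMap R S) g
      (RingHom.finiteType_algebraMap.mpr inferInstance)

end Groth.Agent.Lib.Helper24MinFinite2
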