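import Mathlib

/-!
Counting monomials with bounded exponents via generating polynomials (S19487).
-/

set_option autoImplicit false

open Polynomial

namespace Groth.Agent.Lib.Helper24MonoCount

lemma card_fun (k q s : ℕ) (Sset : Fin k → Finset ℕ) (hS : ∀ i, ∀ a ∈ Sset i, a < q) :
    (Finset.univ.filter fun e : Fin k → Fin q =>
        (∀ i, (e i : ℕ) ∈ Sset i) ∧ ∑ i, (e i : ℕ) = s).card
      = (∏ i, ∑ a ∈ Sset i, (X : ℕ[X]) ^ a).coeff s := by
  classical
  have h1 : ∀ i, ∑ a ∈ Sset i, (X : ℕ[X]) ^ a =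
      ∑ a : Fin q, if (a : ℕ) ∈ Sset i then (X : ℕ[X]) ^ (a : ℕ) else 0 := by
    intro i
    have e1 : (∑ a : Fin q, if (a : ℕ) ∈ Sset i then (X : ℕ[X]) ^ (a : ℕ) else 0) =
        ∑ a ∈ Finset.range q, if a ∈ Sset i then (X : ℕ[X]) ^ a else 0 :=
      Fin.sum_univ_eq_sum_range (fun a => if a ∈ Sset i then (X : ℕ[X]) ^ a else 0) q
    rw [e1, Finset.sum_ite_mem]
    congr 1
    ext a
    simp only [Finset.mem_inter, Finset.mem_range]
    exact ⟨fun h => ⟨hS i a h, h⟩, fun h => h.2⟩
  simp only [h1]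
  rw [Finset.prod_univ_sum, Fintype.piFinset_univ, Polynomial.finset_sum_coeff, Finset.card_filter]
  refine Finset.sum_congr rfl fun e _ => ?_
  rw [Finset.prod_ite_zero, Finset.prod_pow_eq_pow_sum]
  by_cases h : ∀ i, (e i : ℕ) ∈ Sset i
  · have h' : ∀ i ∈ Finset.univ, (e i : ℕ) ∈ Sset i := fun i _ => h i
    rw [if_pos h', Polynomial.coeff_X_pow]
    by_cases h2 : ∑ i, (e i : ℕ) = s
    · rw [if_pos ⟨h, h2⟩, if_pos h2.symm]
    · rw [if_neg (fun hh => h2 hh.2), if_neg (fun hh => h2 hh.symm)]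
  · have h' : ¬ ∀ i ∈ Finset.univ, (e i : ℕ) ∈ Sset i :=
      fun hh => h (fun i => hh i (Finset.mem_univ i))
    rw [if_neg h', if_neg (fun hh => h hh.1), Polynomial.coeff_zero]

theorem s19487 (p n s D : ℕ) (hp : Odd p) :
    Fintype.card {e : Fin n → Fin p // (∀ i, 1 ≤ (e i : ℕ)) ∧ ∑ i, (e i : ℕ) = s ∧
        (Finset.univ.filter fun i => 2 * (e i : ℕ) < p).card = D} =
      n.choose D * ∑ j ∈ Finset.range (s + 1),
        Fintype.card {e : Fin D → Fin ((p + 1) / 2) // (∀ i, 1 ≤ (e i : ℕ)) ∧ ∑ i, (e i : ℕ) = j} *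
          Fintype.card {e : Fin (n - D) → Fin ((p + 1) / 2) // (∀ i, 1 ≤ (e i : ℕ)) ∧ ∑ i, (e i : ℕ) = (s - j - (n - D) * ((p - 1) / 2))} := by
  classical
  obtain ⟨m, rfl⟩ := hp
  obtain ⟨gA, hgA⟩ : ∃ gA : ℕ[X], gA = ∑ a ∈ Finset.Icc 1 m, X ^ a := ⟨_, rfl⟩
  have hgB : ∑ a ∈ Finset.Icc (m + 1) (2 * m), (X : ℕ[X]) ^ a = X ^ m * gA := by
    have himg : Finset.Icc (m + 1) (2 * m) = (Finset.Icc 1 m).image (fun b => m + b) := by
      ext a
      simp only [Finset.mem_Icc, Finset.mem_image]
      constructor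
      · intro h
        exact ⟨a - m, by omega, by omega⟩
      · rintro ⟨b, hb, rfl⟩
        omega
    rw [himg, Finset.sum_image (fun x _ y _ h => by omega), hgA, Finset.mul_sum]
    refine Finset.sum_congr rfl fun b _ => ?_
    rw [pow_add]
  have hA0 : gA.coeff 0 = 0 := by
    rw [hgA, Polynomial.finset_sum_coeff]
    refine Finset.sum_eq_zero fun a ha => ?_
    have := (Finset.mem_Icc.mp ha).1
    rw [Polynomial.coeff_X_pow, if_neg (by omega)]
  -- the right-hand cardinalities
  have hR : ∀ (k j : ℕ), Fintype.card {e : Fin k → Fin ((2 * m + 1 + 1) / 2) //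
      (∀ i, 1 ≤ (e i : ℕ)) ∧ ∑ i, (e i : ℕ) = j} = (gA ^ k).coeff j := by
    intro k j
    rw [Fintype.card_subtype]
    have h := card_fun k ((2 * m + 1 + 1) / 2) j (fun _ => Finset.Icc 1 m)
      (by intro i a ha; simp only [Finset.mem_Icc] at ha; omega)
    rw [Finset.prod_const, Finset.card_univ, Fintype.card_fin, ← hgA] at h
    rw [← h]
    congr 1
    ext e
    simp only [Finset.mem_filter, Finset.mem_univ, true_and, Finset.mem_Icc]
    constructor
    · rintro ⟨h1, h2⟩
      exact ⟨fun i => ⟨h1 i, by have := (e i).isLt; omega⟩, h2⟩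
    · rintro ⟨h1, h2⟩
      exact ⟨fun i => (h1 i).1, h2⟩
  -- the left-hand cardinality
  have hL : Fintype.card {e : Fin n → Fin (2 * m + 1) // (∀ i, 1 ≤ (e i : ℕ)) ∧
      ∑ i, (e i : ℕ) = s ∧ (Finset.univ.filter fun i => 2 * (e i : ℕ) < 2 * m + 1).card = D} =
      n.choose D * (gA ^ D * (X ^ ((n - D) * m) * gA ^ (n - D))).coeff s := by
    rw [Fintype.card_subtype]
    have key := Finset.card_eq_sum_card_fiberwise
      (f := fun e : Fin n → Fin (2 * m + 1) => Finset.univ.filter fun i => 2 * (e i : ℕ) < 2 * m + 1)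
      (s := Finset.univ.filter fun e : Fin n → Fin (2 * m + 1) => (∀ i, 1 ≤ (e i : ℕ)) ∧
        ∑ i, (e i : ℕ) = s ∧ (Finset.univ.filter fun i => 2 * (e i : ℕ) < 2 * m + 1).card = D)
      (t := Finset.powersetCard D (Finset.univ : Finset (Fin n)))
      (by
        intro e he
        have he' := (Finset.mem_filter.mp (Finset.mem_coe.mp he)).2
        exact Finset.mem_coe.mpr (Finset.mem_powersetCard.mpr ⟨Finset.subset_univ _, he'.2.2⟩))
    rw [key]
    have hfib : ∀ T ∈ Finset.powersetCard D (Finset.univ : Finset (Fin n)),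
        (Finset.filter (fun e : Fin n → Fin (2 * m + 1) =>
          (Finset.univ.filter fun i => 2 * (e i : ℕ) < 2 * m + 1) = T)
          (Finset.univ.filter fun e : Fin n → Fin (2 * m + 1) => (∀ i, 1 ≤ (e i : ℕ)) ∧
            ∑ i, (e i : ℕ) = s ∧
            (Finset.univ.filter fun i => 2 * (e i : ℕ) < 2 * m + 1).card = D)).card =
        (gA ^ D * (X ^ ((n - D) * m) * gA ^ (n - D))).coeff s := by
      intro T hT
      rw [Finset.mem_powersetCard] at hT
      have h := card_fun n (2 * m + 1) s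
        (fun i => if i ∈ T then Finset.Icc 1 m else Finset.Icc (m + 1) (2 * m))
        (by
          intro i a ha
          by_cases hi : i ∈ T
          · rw [if_pos hi, Finset.mem_Icc] at ha; omega
          · rw [if_neg hi, Finset.mem_Icc] at ha; omega)
      have hprod : ∏ i : Fin n, ∑ a ∈ (if i ∈ T then Finset.Icc 1 m else Finset.Icc (m + 1) (2 * m)),
          (X : ℕ[X]) ^ a = ∏ i : Fin n, (if i ∈ T then gA else X ^ m * gA) := by
        refine Finset.prod_congr rfl fun i _ => ?_
        by_cases hi : i ∈ T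
        · rw [if_pos hi, if_pos hi, hgA]
        · rw [if_neg hi, if_neg hi, hgB]
      have c1 : (Finset.univ.filter fun i : Fin n => i ∈ T) = T := by
        ext i; simp
      have c2 : (Finset.univ.filter fun i : Fin n => ¬ i ∈ T).card = n - D := by
        rw [Finset.filter_not, c1, Finset.card_sdiff_of_subset (Finset.subset_univ _),
          Finset.card_univ, Fintype.card_fin, hT.2]
      rw [hprod, Finset.prod_ite, Finset.prod_const, Finset.prod_const, c1, c2, hT.2, mul_pow,
        ← pow_mul, mul_comm m (n - D)] at h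
      rw [← h]
      congr 1
      ext e
      simp only [Finset.mem_filter, Finset.mem_univ, true_and]
      constructor
      · rintro ⟨⟨hQ, hs, _⟩, hF⟩
        refine ⟨fun i => ?_, hs⟩
        have hlt := (e i).isLt
        have hq := hQ i
        by_cases hi : i ∈ T
        · rw [if_pos hi, Finset.mem_Icc]
          rw [← hF] at hi
          have := (Finset.mem_filter.mp hi).2
          omega
        · rw [if_neg hi, Finset.mem_Icc]
          rw [← hF] at hi
          have : ¬ 2 * (e i : ℕ) < 2 * m + 1 := fun hh =>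
            hi (Finset.mem_filter.mpr ⟨Finset.mem_univ _, hh⟩)
          omega
      · rintro ⟨hmem, hs⟩
        have hF : (Finset.univ.filter fun i => 2 * (e i : ℕ) < 2 * m + 1) = T := by
          ext i
          simp only [Finset.mem_filter, Finset.mem_univ, true_and]
          have hi' := hmem i
          by_cases hi : i ∈ T
          · rw [if_pos hi, Finset.mem_Icc] at hi'
            exact ⟨fun _ => hi, fun _ => by omega⟩
          · rw [if_neg hi, Finset.mem_Icc] at hi'
            exact ⟨fun hh => by omega, fun hh => absurd hh hi⟩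
        refine ⟨⟨fun i => ?_, hs, by rw [hF]; exact hT.2⟩, hF⟩
        have hi' := hmem i
        by_cases hi : i ∈ T
        · rw [if_pos hi, Finset.mem_Icc] at hi'; omega
        · rw [if_neg hi, Finset.mem_Icc] at hi'; omega
    rw [Finset.sum_congr rfl hfib, Finset.sum_const, Finset.card_powersetCard, Finset.card_univ,
      Fintype.card_fin, smul_eq_mul]
  rw [hL]
  simp only [hR]
  have hm : (2 * m + 1 - 1) / 2 = m := by omega
  rw [hm]
  congr 1
  rw [Polynomial.coeff_mul, Finset.Nat.sum_antidiagonal_eq_sum_range_succ_mk]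
  refine Finset.sum_congr rfl fun j _ => ?_
  show (gA ^ D).coeff j * (X ^ ((n - D) * m) * gA ^ (n - D)).coeff (s - j) = _
  rw [Polynomial.coeff_X_pow_mul']
  by_cases h : (n - D) * m ≤ s - j
  · rw [if_pos h]
  · rw [if_neg h]
    have h0 : s - j - (n - D) * m = 0 := Nat.sub_eq_zero_of_le (le_of_lt (not_le.mp h))
    have hk : n - D ≠ 0 := by
      intro hz
      rw [hz, zero_mul] at h
      exact h (Nat.zero_le _)
    have hz : (gA ^ (n - D)).coeff 0 = 0 := by
      rw [Polynomial.coeff_zero_eq_eval_zero, Polynomial.eval_pow,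
        ← Polynomial.coeff_zero_eq_eval_zero, hA0, zero_pow hk]
    rw [h0, hz]

end Groth.Agent.Lib.Helper24MonoCount
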