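import Mathlib
import Groth.Prelude.Def_W4c5qllcourbesmultMultCrv

set_option autoImplicit false
universe u

namespace Groth.Agent.Lib.Helper24MultCrv

open MultCrv Polynomial Module

section General
variable (R : Type u) [CommRing R] [IsDomain R] {A : Type u} [CommRing A] [Algebra R A]
  {N : Type u} [AddCommGroup N] [Module A N] [Module R N] [IsScalarTower R A N]

/-- rank additivity for an `A`-submodule, ranks over `R` -/
theorem finrank_quot_add [Module.Finite R N] (p : Submodule A N) :
    finrank R (N ⧸ p) + finrank R ↥p = finrank R N := by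
  have h := Submodule.finrank_quotient_add_finrank (p.restrictScalars R)
  have e1 : finrank R (N ⧸ p.restrictScalars R) = finrank R (N ⧸ p) :=
    (Submodule.Quotient.restrictScalarsEquiv R p).finrank_eq
  have e2 : finrank R ↥(p.restrictScalars R) = finrank R ↥p :=
    LinearEquiv.finrank_eq
      { toFun := fun x => ⟨x.1, x.2⟩, invFun := fun x => ⟨x.1, x.2⟩, map_add' := fun _ _ => rfl,
        map_smul' := fun _ _ => rfl, left_inv := fun _ => rfl, right_inv := fun _ => rfl }
  omega

theorem finrank_range_add_ker [Module.Finite R N] {N' : Type u} [AddCommGroup N'] [Module A N']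
    [Module R N'] [IsScalarTower R A N'] (f : N →ₗ[A] N') :
    finrank R ↥(LinearMap.range f) + finrank R ↥(LinearMap.ker f) = finrank R N := by
  have h := finrank_quot_add R (LinearMap.ker f)
  have e : finrank R (N ⧸ LinearMap.ker f) = finrank R ↥(LinearMap.range f) :=
    (f.quotKerEquivRange.restrictScalars R).finrank_eq
  omega

end General

section MC
variable (R : Type u) [CommRing R] [IsDomain R] (n : ℕ) (M : Type u) [AddCommGroup M]
  [Module (Rn R n) M] [Module R M] [IsScalarTower R (Rn R n) M]

theorem ker_eq (j : ℕ) :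
    LinearMap.ker ((z R n ^ j) • (LinearMap.id : M →ₗ[Rn R n] M)) = filt2 R n M j := by
  ext x
  simp [filt2, Submodule.mem_torsionBy_iff]

theorem filt_add_filt2 [Module.Finite R M] (j : ℕ) :
    finrank R ↥(filt R n M j) + finrank R ↥(filt2 R n M j) = finrank R M := by
  have h := finrank_range_add_ker R ((z R n ^ j) • (LinearMap.id : M →ₗ[Rn R n] M))
  rw [ker_eq] at h
  exact h

theorem filt_succ_le (i : ℕ) : filt R n M (i + 1) ≤ filt R n M i := by
  rintro x ⟨y, rfl⟩
  refine ⟨z R n • y, ?_⟩
  simp only [LinearMap.smul_apply, LinearMap.id_coe, id_eq]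
  rw [smul_smul, ← pow_succ]

theorem filt2_le_succ (i : ℕ) : filt2 R n M i ≤ filt2 R n M (i + 1) := by
  intro x hx
  rw [filt2, Submodule.mem_torsionBy_iff] at hx ⊢
  rw [pow_succ', mul_smul, hx, smul_zero]

theorem finrank_G1 [IsNoetherianRing R] [Module.Finite R M] (i : ℕ) :
    finrank R (G1 R n M i) + finrank R ↥(filt R n M (i + 1)) = finrank R ↥(filt R n M i) := by
  haveI : IsNoetherian R M := isNoetherian_of_isNoetherianRing_of_finite R M
  haveI : Module.Finite R ↥(filt R n M i) :=
    Module.Finite.of_injective ((filt R n M i).subtype.restrictScalars R)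
      (filt R n M i).injective_subtype
  have h := finrank_quot_add R (Submodule.comap (filt R n M i).subtype (filt R n M (i + 1)))
  have e : finrank R ↥(Submodule.comap (filt R n M i).subtype (filt R n M (i + 1)))
      = finrank R ↥(filt R n M (i + 1)) :=
    ((Submodule.comapSubtypeEquivOfLe (filt_succ_le R n M i)).restrictScalars R).finrank_eq
  rw [e] at h
  exact h

theorem finrank_G2 [IsNoetherianRing R] [Module.Finite R M] (i : ℕ) :
    finrank R (G2 R n M (i + 1)) + finrank R ↥(filt2 R n M i)
      = finrank R ↥(filt2 R n M (i + 1)) := by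
  haveI : IsNoetherian R M := isNoetherian_of_isNoetherianRing_of_finite R M
  haveI : Module.Finite R ↥(filt2 R n M (i + 1)) :=
    Module.Finite.of_injective ((filt2 R n M (i + 1)).subtype.restrictScalars R)
      (filt2 R n M (i + 1)).injective_subtype
  have h := finrank_quot_add R
    (Submodule.comap (filt2 R n M (i + 1)).subtype (filt2 R n M (i + 1 - 1)))
  have e : finrank R ↥(Submodule.comap (filt2 R n M (i + 1)).subtype (filt2 R n M (i + 1 - 1)))
      = finrank R ↥(filt2 R n M i) :=
    ((Submodule.comapSubtypeEquivOfLe (p := filt2 R n M i) (q := filt2 R n M (i + 1))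
      (filt2_le_succ R n M i)).restrictScalars R).finrank_eq
  rw [e] at h
  exact h

end MC

theorem s17943 (R : Type u) [CommRing R] [IsDomain R] [IsDiscreteValuationRing R] (n : ℕ) (hn : 1 ≤ n) (M : Type u) [AddCommGroup M] [Module (MultCrv.Rn R n) M] [Module R M] [IsScalarTower R (MultCrv.Rn R n) M] [Module.Finite (MultCrv.Rn R n) M] (i : ℕ) (hi : i < n) : Module.finrank R (MultCrv.G2 R n M (i + 1)) = Module.finrank R (MultCrv.G1 R n M i) := by
  haveI : Module.Finite R (Rn R n) := (Polynomial.monic_X_pow n).finite_quotient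
  haveI : Module.Finite R M := Module.Finite.trans (Rn R n) M
  have h1 := filt_add_filt2 R n M i
  have h2 := filt_add_filt2 R n M (i + 1)
  have h3 := finrank_G1 R n M i
  have h4 := finrank_G2 R n M i
  omega

end Groth.Agent.Lib.Helper24MultCrv
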