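import Mathlib
import Groth.Agent.Lib.Helper24MultCrv

set_option autoImplicit false
universe u

namespace Groth.Agent.Lib.Helper24MultCrv2

open MultCrv Polynomial Module

section Defs
variable (R : Type u) [CommRing R] (n : ℕ) (M : Type u) [AddCommGroup M] [Module (Rn R n) M]

theorem mem_filt {i : ℕ} {x : M} : x ∈ filt R n M i ↔ ∃ m : M, z R n ^ i • m = x := by
  simp [filt, LinearMap.mem_range]

theorem mem_filt2 {i : ℕ} {x : M} : x ∈ filt2 R n M i ↔ z R n ^ i • x = 0 := by
  simp [filt2, Submodule.mem_torsionBy_iff]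

theorem z_pow_n : z R n ^ n = 0 := by
  unfold z
  rw [← map_pow]
  exact Ideal.Quotient.eq_zero_iff_mem.2 (Ideal.mem_span_singleton_self _)

/-- multiplication by `z` from `z^i M` to `z^(i+1) M`. -/
noncomputable def zUp (i : ℕ) : ↥(filt R n M i) →ₗ[Rn R n] ↥(filt R n M (i + 1)) :=
  ((z R n • (LinearMap.id : M →ₗ[Rn R n] M)).domRestrict (filt R n M i)).codRestrict
    (filt R n M (i + 1))
    (fun u => by
      obtain ⟨m, hm⟩ := (mem_filt R n M).1 u.2
      refine (mem_filt R n M).2 ⟨m, ?_⟩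
      simp only [LinearMap.domRestrict_apply, LinearMap.smul_apply, LinearMap.id_coe, id_eq]
      rw [← hm, pow_succ', mul_smul])

/-- `G_i → G_{i+1}` induced by multiplication by `z`. -/
noncomputable def lamG1 (i : ℕ) : G1 R n M i →ₗ[Rn R n] G1 R n M (i + 1) :=
  Submodule.mapQ _ _ (zUp R n M i) (by
    intro u hu
    have hu' : (u : M) ∈ filt R n M (i + 1) := hu
    obtain ⟨m, hm⟩ := (mem_filt R n M).1 hu'
    change z R n • (u : M) ∈ filt R n M (i + 1 + 1)
    refine (mem_filt R n M).2 ⟨m, ?_⟩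
    rw [← hm, pow_succ', mul_smul])

/-- multiplication by `z^i` from `M` to `z^i M`. -/
noncomputable def zPowTo (i : ℕ) : M →ₗ[Rn R n] ↥(filt R n M i) :=
  ((z R n ^ i) • (LinearMap.id : M →ₗ[Rn R n] M)).codRestrict (filt R n M i)
    (fun m => (mem_filt R n M).2 ⟨m, rfl⟩)

/-- `M^(i+1) → G_i`, `x ↦ [z^i x]`. -/
noncomputable def Phi (i : ℕ) : ↥(filt2 R n M (i + 1)) →ₗ[Rn R n] G1 R n M i :=
  (Submodule.mkQ _).comp ((zPowTo R n M i).comp (filt2 R n M (i + 1)).subtype)

theorem Phi_eq_zero_iff (i : ℕ) (x : ↥(filt2 R n M (i + 1))) :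
    Phi R n M i x = 0 ↔ ∃ m : M, z R n ^ (i + 1) • m = z R n ^ i • (x : M) := by
  unfold Phi
  rw [LinearMap.comp_apply, Submodule.mkQ_apply, Submodule.Quotient.mk_eq_zero,
    Submodule.mem_comap, mem_filt]
  rfl

/-- `G^(i+1) → G_i`. -/
noncomputable def Phi' (i : ℕ) : G2 R n M (i + 1) →ₗ[Rn R n] G1 R n M i :=
  Submodule.liftQ _ (Phi R n M i) (by
    intro x hx
    rw [LinearMap.mem_ker, Phi_eq_zero_iff]
    have hx2 : (x : M) ∈ filt2 R n M i := hx
    have hx' : z R n ^ i • (x : M) = 0 := (mem_filt2 R n M).1 hx2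
    exact ⟨0, by rw [smul_zero, hx']⟩)

theorem range_lamG2_le (i : ℕ) :
    LinearMap.range (lamG2 R n M i) ≤ LinearMap.ker (Phi' R n M i) := by
  rintro _ ⟨g, rfl⟩
  obtain ⟨y, rfl⟩ := Submodule.mkQ_surjective _ g
  rw [LinearMap.mem_ker]
  change Phi R n M i (zDown R n M (i + 1) y) = 0
  rw [Phi_eq_zero_iff]
  refine ⟨(y : M), ?_⟩
  change z R n ^ (i + 1) • (y : M) = z R n ^ i • (z R n • (y : M))
  rw [pow_succ, mul_smul]

/-- `Γ^(i) → G_i`. -/
noncomputable def Psi (i : ℕ) : Gam2 R n M i →ₗ[Rn R n] G1 R n M i :=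
  Submodule.liftQ _ (Phi' R n M i) (range_lamG2_le R n M i)

theorem Psi_injective (i : ℕ) : Function.Injective (Psi R n M i) := by
  rw [← LinearMap.ker_eq_bot]
  unfold Psi
  apply Submodule.ker_liftQ_eq_bot
  intro g hg
  obtain ⟨x, rfl⟩ := Submodule.mkQ_surjective _ g
  rw [LinearMap.mem_ker] at hg
  have hg' : Phi R n M i x = 0 := hg
  rw [Phi_eq_zero_iff] at hg'
  obtain ⟨m, hm⟩ := hg'
  have hx : z R n ^ (i + 1) • (x : M) = 0 := (mem_filt2 R n M).1 x.2
  have hm2 : m ∈ filt2 R n M (i + 1 + 1) := by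
    rw [mem_filt2, pow_succ', mul_smul, hm, ← mul_smul, ← pow_succ', hx]
  rw [LinearMap.mem_range]
  refine ⟨Submodule.Quotient.mk ⟨m, hm2⟩, ?_⟩
  change Submodule.Quotient.mk (zDown R n M (i + 1) ⟨m, hm2⟩) = Submodule.Quotient.mk x
  rw [Submodule.Quotient.eq, Submodule.mem_comap]
  change (z R n • m - (x : M)) ∈ filt2 R n M i
  rw [mem_filt2, smul_sub, ← mul_smul, ← pow_succ, hm, sub_self]

theorem ker_lamG1_le (i : ℕ) :
    LinearMap.ker (lamG1 R n M i) ≤ LinearMap.range (Psi R n M i) := by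
  intro g hg
  obtain ⟨u, rfl⟩ := Submodule.mkQ_surjective _ g
  obtain ⟨m, hm⟩ := (mem_filt R n M).1 u.2
  rw [LinearMap.mem_ker] at hg
  have hg' : Submodule.Quotient.mk (zUp R n M i u) = (0 : G1 R n M (i + 1)) := hg
  rw [Submodule.Quotient.mk_eq_zero, Submodule.mem_comap] at hg'
  obtain ⟨m', hm'⟩ := (mem_filt R n M).1 hg'
  have hm'' : z R n ^ (i + 1 + 1) • m' = z R n • (u : M) := hm'
  have hx : m - z R n • m' ∈ filt2 R n M (i + 1) := by
    rw [mem_filt2, smul_sub, ← mul_smul, ← pow_succ, hm'', ← hm, ← mul_smul, ← pow_succ', sub_self]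
  rw [LinearMap.mem_range]
  refine ⟨Submodule.Quotient.mk (Submodule.Quotient.mk ⟨m - z R n • m', hx⟩), ?_⟩
  change Submodule.Quotient.mk (zPowTo R n M i (m - z R n • m')) = Submodule.Quotient.mk u
  rw [Submodule.Quotient.eq, Submodule.mem_comap]
  refine (mem_filt R n M).2 ⟨-m', ?_⟩
  change z R n ^ (i + 1) • (-m') = z R n ^ i • (m - z R n • m') - (u : M)
  rw [smul_sub, hm, ← mul_smul, ← pow_succ, smul_neg]
  abel

theorem G1_n_eq_zero (g : G1 R n M n) : g = 0 := by
  obtain ⟨u, rfl⟩ := Submodule.mkQ_surjective _ g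
  obtain ⟨m, hm⟩ := (mem_filt R n M).1 u.2
  have hu : u = 0 := by
    apply Subtype.ext
    rw [← hm, z_pow_n]
    exact zero_smul (Rn R n) m
  rw [hu, map_zero]

end Defs

section General
variable (R : Type u) [CommRing R] {A : Type u} [CommRing A] [Algebra R A]
  {N : Type u} [AddCommGroup N] [Module A N] [Module R N] [IsScalarTower R A N]

theorem finite_quot [Module.Finite R N] (p : Submodule A N) : Module.Finite R (N ⧸ p) :=
  Module.Finite.of_surjective ((Submodule.mkQ p).restrictScalars R) (Submodule.mkQ_surjective p)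

end General

section TF
variable (R : Type u) [CommRing R] [IsDomain R] [IsPrincipalIdealRing R] (n : ℕ)
  (M : Type u) [AddCommGroup M] [Module (Rn R n) M] [Module R M] [IsScalarTower R (Rn R n) M]
  [Module.Finite R M]

theorem finite_sub (p : Submodule (Rn R n) M) : Module.Finite R ↥p := by
  haveI : IsNoetherian R M := isNoetherian_of_isNoetherianRing_of_finite R M
  exact Module.Finite.of_injective (p.subtype.restrictScalars R) p.injective_subtype

theorem finite_G1 (i : ℕ) : Module.Finite R (G1 R n M i) := by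
  haveI := finite_sub R n M (filt R n M i)
  exact finite_quot R _

theorem finite_Gam2 (i : ℕ) : Module.Finite R (Gam2 R n M i) := by
  haveI := finite_sub R n M (filt2 R n M (i + 1))
  haveI : Module.Finite R (G2 R n M (i + 1)) := finite_quot R _
  exact finite_quot R _

theorem tf_Gam2_of_tf_G1 (i : ℕ) [Module.IsTorsionFree R (G1 R n M i)] :
    Module.IsTorsionFree R (Gam2 R n M i) :=
  Function.Injective.moduleIsTorsionFree (Psi R n M i) (Psi_injective R n M i)
    (fun r m => (Psi R n M i).map_smul_of_tower r m)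

theorem tf_G1_step (i : ℕ) [Module.IsTorsionFree R (G1 R n M (i + 1))]
    [Module.IsTorsionFree R (Gam2 R n M i)] : Module.IsTorsionFree R (G1 R n M i) := by
  apply Module.IsTorsionFree.of_smul_eq_zero
  intro r g hrg
  by_cases hr : r = 0
  · exact Or.inl hr
  right
  have h1 : r • lamG1 R n M i g = 0 := by
    rw [← (lamG1 R n M i).map_smul_of_tower r g, hrg, map_zero]
  have h2 : lamG1 R n M i g = 0 := (smul_eq_zero_iff_right hr).1 h1
  obtain ⟨γ, rfl⟩ := ker_lamG1_le R n M i (LinearMap.mem_ker.2 h2)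
  have h3 : Psi R n M i (r • γ) = 0 := by
    rw [(Psi R n M i).map_smul_of_tower r γ, hrg]
  have h4 : r • γ = 0 := Psi_injective R n M i (by rw [h3, map_zero])
  have h5 : γ = 0 := (smul_eq_zero_iff_right hr).1 h4
  rw [h5, map_zero]

theorem tf_G1_all (hΓ : ∀ i : ℕ, i < n → Module.IsTorsionFree R (Gam2 R n M i)) :
    ∀ k i : ℕ, i + k = n → Module.IsTorsionFree R (G1 R n M i) := by
  intro k
  induction k with
  | zero =>
    intro i hi
    have hin : i = n := by omega
    subst hin
    apply Module.IsTorsionFree.of_smul_eq_zero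
    intro r g _
    exact Or.inr (G1_n_eq_zero R i M g)
  | succ k ih =>
    intro i hi
    haveI := ih (i + 1) (by omega)
    haveI := hΓ i (by omega)
    exact tf_G1_step R n M i

end TF

theorem s17944 (R : Type u) [CommRing R] [IsDomain R] [IsDiscreteValuationRing R] (n : ℕ) (hn : 1 ≤ n) (M : Type u) [AddCommGroup M] [Module (MultCrv.Rn R n) M] [Module R M] [IsScalarTower R (MultCrv.Rn R n) M] [Module.Finite (MultCrv.Rn R n) M] : (∀ i : ℕ, i < n → Module.Free R (MultCrv.G1 R n M i)) ↔ (∀ i : ℕ, i < n → Module.Free R (MultCrv.Gam2 R n M i)) := by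
  haveI : Module.Finite R (Rn R n) := (Polynomial.monic_X_pow n).finite_quotient
  haveI : Module.Finite R M := Module.Finite.trans (Rn R n) M
  constructor
  · intro h i hi
    haveI := h i hi
    haveI := finite_Gam2 R n M i
    haveI := tf_Gam2_of_tf_G1 R n M i
    exact Module.free_iff_isTorsionFree.2 inferInstance
  · intro h i hi
    haveI := finite_G1 R n M i
    have hΓ : ∀ i : ℕ, i < n → Module.IsTorsionFree R (Gam2 R n M i) := by
      intro j hj
      haveI := h j hj
      infer_instance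
    haveI := tf_G1_all R n M hΓ (n - i) i (by omega)
    exact Module.free_iff_isTorsionFree.2 inferInstance

end Groth.Agent.Lib.Helper24MultCrv2
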