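import Mathlib
import Groth.Agent.Lib.Helper24MultCrv2

set_option autoImplicit false
universe u

namespace Groth.Agent.Lib.Helper24MultCrv3

open MultCrv Polynomial Module
open Groth.Agent.Lib.Helper24MultCrv2 (z_pow_n mem_filt)

section Ann
variable (R : Type u) [CommRing R] [IsDomain R] (n : ℕ)

/-- In `R[X]/(X^n)`, `z^a * x = 0` implies `x ∈ (z^b)` when `a + b = n`. -/
theorem mem_span_of_pow_mul_eq_zero (a b : ℕ) (hab : a + b = n) (x : Rn R n)
    (hx : z R n ^ a * x = 0) : x ∈ Ideal.span {z R n ^ b} := by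
  obtain ⟨f, rfl⟩ := Ideal.Quotient.mk_surjective x
  change Ideal.Quotient.mk (Ideal.span {(X : R[X]) ^ n}) X ^ a *
    Ideal.Quotient.mk (Ideal.span {(X : R[X]) ^ n}) f = 0 at hx
  rw [← map_pow, ← map_mul, Ideal.Quotient.eq_zero_iff_mem, Ideal.mem_span_singleton] at hx
  have hx' : (X : R[X]) ^ a * X ^ b ∣ X ^ a * f := by
    rw [← pow_add, hab]; exact hx
  have h2 : (X : R[X]) ^ b ∣ f := (mul_dvd_mul_iff_left (pow_ne_zero a X_ne_zero)).1 hx'
  obtain ⟨g, rfl⟩ := h2
  change Ideal.Quotient.mk (Ideal.span {(X : R[X]) ^ n}) (X ^ b * g) ∈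
    Ideal.span {Ideal.Quotient.mk (Ideal.span {(X : R[X]) ^ n}) X ^ b}
  rw [map_mul, map_pow]
  exact Ideal.mul_mem_right _ _ (Ideal.mem_span_singleton_self _)

/-- multiplication by `z^a` as a map onto the ideal `(z^a)`. -/
noncomputable def mulPow (a : ℕ) : Rn R n →ₗ[Rn R n] ↥(Ideal.span {z R n ^ a}) :=
  LinearMap.codRestrict (Ideal.span {z R n ^ a}) (LinearMap.mulLeft (Rn R n) (z R n ^ a))
    (fun x => Ideal.mul_mem_right _ _ (Ideal.mem_span_singleton_self _))

theorem mulPow_surjective (a : ℕ) : Function.Surjective (mulPow R n a) := by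
  rintro ⟨y, hy⟩
  obtain ⟨c, rfl⟩ := Ideal.mem_span_singleton'.1 hy
  exact ⟨c, Subtype.ext (mul_comm _ _)⟩

theorem ker_mulPow (a b : ℕ) (hab : a + b = n) :
    LinearMap.ker (mulPow R n a) = Ideal.span {z R n ^ b} := by
  ext x
  rw [LinearMap.mem_ker]
  constructor
  · intro h
    exact mem_span_of_pow_mul_eq_zero R n a b hab x (congrArg Subtype.val h)
  · intro h
    obtain ⟨c, rfl⟩ := Ideal.mem_span_singleton'.1 h
    apply Subtype.ext
    change z R n ^ a * (c * z R n ^ b) = 0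
    rw [mul_left_comm, ← pow_add, hab, z_pow_n, mul_zero]

noncomputable def spanEquiv (a b : ℕ) (hab : a + b = n) :
    Oi R n b ≃ₗ[Rn R n] ↥(Ideal.span {z R n ^ a}) :=
  (Submodule.quotEquivOfEq _ _ (ker_mulPow R n a b hab).symm).trans
    (LinearMap.quotKerEquivOfSurjective (mulPow R n a) (mulPow_surjective R n a))

end Ann

section Main
variable (R : Type u) [CommRing R] [IsDomain R] (n : ℕ) (m : Fin n → ℕ)

abbrev Pm : Type u := (i : Fin n) → (Fin (m i) → Rn R n)
abbrev Qm : Type u := (i : Fin n) → (Fin (m i) → Oi R n (i.1 + 1))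
abbrev Km : Type u := (i : Fin n) → (Fin (m i) → ↥(Ideal.span {z R n ^ (i.1 + 1)}))

noncomputable def piQ : Pm R n m →ₗ[Rn R n] Qm R n m :=
  LinearMap.pi fun i => LinearMap.pi fun k =>
    (Submodule.mkQ (Ideal.span {z R n ^ (i.1 + 1)})) ∘ₗ (LinearMap.proj k) ∘ₗ (LinearMap.proj i)

theorem piQ_surjective : Function.Surjective (piQ R n m) := by
  intro q
  refine ⟨fun i k => (Submodule.mkQ_surjective _ (q i k)).choose, ?_⟩
  funext i k
  exact (Submodule.mkQ_surjective _ (q i k)).choose_spec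

theorem piQ_mem_ker (p : Pm R n m) (hp : p ∈ LinearMap.ker (piQ R n m)) (i : Fin n)
    (k : Fin (m i)) : p i k ∈ Ideal.span {z R n ^ (i.1 + 1)} := by
  have h := congrFun (congrFun (LinearMap.mem_ker.1 hp) i) k
  exact (Submodule.Quotient.mk_eq_zero _).1 h

noncomputable def kerEquiv : ↥(LinearMap.ker (piQ R n m)) ≃ₗ[Rn R n] Km R n m where
  toFun x := fun i k => ⟨x.1 i k, piQ_mem_ker R n m x.1 x.2 i k⟩
  invFun y := ⟨fun i k => (y i k).1, by
    rw [LinearMap.mem_ker]
    funext i k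
    exact (Submodule.Quotient.mk_eq_zero _).2 (y i k).2⟩
  map_add' _ _ := rfl
  map_smul' _ _ := rfl
  left_inv _ := rfl
  right_inv _ := rfl

theorem ker_piQ_le : LinearMap.ker (piQ R n m) ≤
    (Ideal.span {z R n}) • (⊤ : Submodule (Rn R n) (Pm R n m)) := by
  intro p hp
  have hc : ∀ (i : Fin n) (k : Fin (m i)), ∃ c : Rn R n, c * z R n ^ (i.1 + 1) = p i k := by
    intro i k
    exact Ideal.mem_span_singleton'.1 (piQ_mem_ker R n m p hp i k)
  choose c hc using hc
  have hp' : p = z R n • (fun i k => c i k * z R n ^ i.1 : Pm R n m) := by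
    funext i k
    simp only [Pi.smul_apply, smul_eq_mul]
    rw [← hc i k, pow_succ]
    ring
  rw [hp']
  exact Submodule.smul_mem_smul (Ideal.mem_span_singleton_self _) Submodule.mem_top

theorem reindex : Nonempty (Km R n m ≃ₗ[Rn R n] QFModel R n (revType n m)) := by
  obtain ⟨σf, hσf⟩ : ∃ σf : Fin n → Fin n, σf =
      fun i => if h : i.1 + 1 < n then ⟨n - 2 - i.1, by omega⟩ else i := ⟨_, rfl⟩
  have hpos : ∀ i : Fin n, i.1 + 1 < n → (σf i).1 = n - 2 - i.1 := by
    intro i h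
    rw [hσf]
    simp only [dif_pos h]
  have hneg : ∀ i : Fin n, ¬ (i.1 + 1 < n) → σf i = i := by
    intro i h
    rw [hσf]
    simp only [dif_neg h]
  have hσ : Function.Involutive σf := by
    intro i
    by_cases h : i.1 + 1 < n
    · have v1 := hpos i h
      have h' : (σf i).1 + 1 < n := by omega
      have v2 := hpos (σf i) h'
      apply Fin.ext
      omega
    · rw [hneg i h, hneg i h]
  obtain ⟨σ, hσe⟩ : ∃ σ : Equiv.Perm (Fin n), ∀ i, σ i = σf i := ⟨hσ.toPerm, fun _ => rfl⟩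
  have factor : ∀ i : Fin n, Nonempty ((Fin (revType n m i) → Oi R n (i.1 + 1)) ≃ₗ[Rn R n]
      (Fin (m (σ i)) → ↥(Ideal.span {z R n ^ ((σ i).1 + 1)}))) := by
    intro i
    by_cases h : i.1 + 1 < n
    · have v1 : (σ i).1 = n - 2 - i.1 := by rw [hσe]; exact hpos i h
      have hm : revType n m i = m (σ i) := by
        have e1 : σ i = ⟨n - 2 - i.1, by omega⟩ := Fin.ext v1
        rw [e1]
        exact dif_pos h
      have hsum : ((σ i).1 + 1) + (i.1 + 1) = n := by omega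
      exact ⟨(LinearEquiv.funCongrLeft (Rn R n) (Oi R n (i.1 + 1)) (finCongr hm.symm)).trans
        (LinearEquiv.piCongrRight fun _ => spanEquiv R n ((σ i).1 + 1) (i.1 + 1) hsum)⟩
    · have e1 : σ i = i := by rw [hσe]; exact hneg i h
      have h0 : revType n m i = 0 := dif_neg h
      haveI : IsEmpty (Fin (revType n m i)) := by rw [h0]; infer_instance
      haveI : Subsingleton ↥(Ideal.span {z R n ^ ((σ i).1 + 1)}) := by
        rw [Submodule.subsingleton_iff_eq_bot]
        have hn' : (σ i).1 + 1 = n := by rw [e1]; omega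
        rw [hn', z_pow_n]
        exact Ideal.span_singleton_eq_bot.2 rfl
      exact ⟨LinearEquiv.ofSubsingleton _ _⟩
  have e4 : ((i : Fin n) → (Fin (revType n m i) → Oi R n (i.1 + 1))) ≃ₗ[Rn R n]
      ((i : Fin n) → (Fin (m (σ i)) → ↥(Ideal.span {z R n ^ ((σ i).1 + 1)}))) :=
    LinearEquiv.piCongrRight fun i => (factor i).some
  have e5 : ((i : Fin n) → (Fin (m (σ i)) → ↥(Ideal.span {z R n ^ ((σ i).1 + 1)})))
      ≃ₗ[Rn R n] Km R n m :=
    LinearEquiv.piCongrLeft (Rn R n)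
      (fun j : Fin n => (Fin (m j) → ↥(Ideal.span {z R n ^ (j.1 + 1)}))) σ
  exact ⟨((QFModel.equivPi R n (revType n m)).trans (e4.trans e5)).symm⟩

end Main

theorem s17940 (R : Type u) [CommRing R] [IsDomain R] [IsDiscreteValuationRing R] (n : ℕ) (hn : 1 ≤ n) (m : Fin n → ℕ) (M : Type u) [AddCommGroup M] [Module (MultCrv.Rn R n) M] (hM : MultCrv.IsQuasiFreeOfType R n M m) (r : ℕ) (φ : (Fin r → MultCrv.Rn R n) →ₗ[MultCrv.Rn R n] M) (hφ : Function.Surjective φ) (hφz : ∀ f : Fin r → MultCrv.Rn R n, φ f ∈ MultCrv.filt R n M 1 → f ∈ MultCrv.filt R n (Fin r → MultCrv.Rn R n) 1) : MultCrv.IsQuasiFreeOfType R n ↥(LinearMap.ker φ) (MultCrv.revType n m) := by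
  obtain ⟨e⟩ := hM
  have e' : M ≃ₗ[Rn R n] Qm R n m := e.trans (QFModel.equivPi R n m)
  obtain ⟨φ', hφ'app⟩ : ∃ φ' : (Fin r → Rn R n) →ₗ[Rn R n] Qm R n m, ∀ f, φ' f = e' (φ f) :=
    ⟨e'.toLinearMap ∘ₗ φ, fun _ => rfl⟩
  have hφ' : Function.Surjective φ' := by
    intro q
    obtain ⟨x, hx⟩ := e'.surjective q
    obtain ⟨f, hf⟩ := hφ x
    exact ⟨f, by rw [hφ'app, hf, hx]⟩
  obtain ⟨α, hα⟩ := Module.projective_lifting_property (piQ R n m) φ' (piQ_surjective R n m)
  obtain ⟨β, hβ⟩ := Module.projective_lifting_property φ' (piQ R n m) hφ'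
  have hαapp : ∀ f, piQ R n m (α f) = φ' f := fun f => LinearMap.congr_fun hα f
  have hβapp : ∀ p, φ' (β p) = piQ R n m p := fun p => LinearMap.congr_fun hβ p
  have hI : Ideal.span {z R n} ≤ Ideal.jacobson (⊥ : Ideal (Rn R n)) := by
    rw [Ideal.span_singleton_le_iff_mem]
    apply Ideal.radical_le_jacobson
    exact ⟨n, by rw [z_pow_n]; exact Ideal.zero_mem _⟩
  have hkerφ' : LinearMap.ker φ' ≤
      (Ideal.span {z R n}) • (⊤ : Submodule (Rn R n) (Fin r → Rn R n)) := by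
    intro f hf
    have h1 : φ f = 0 := by
      have h : e' (φ f) = 0 := by rw [← hφ'app]; exact LinearMap.mem_ker.1 hf
      exact e'.map_eq_zero_iff.1 h
    have h2 : f ∈ filt R n (Fin r → Rn R n) 1 := hφz f (by rw [h1]; exact zero_mem _)
    obtain ⟨f', hf'⟩ := (mem_filt R n _).1 h2
    rw [← hf', pow_one]
    exact Submodule.smul_mem_smul (Ideal.mem_span_singleton_self _) Submodule.mem_top
  have hαsurj : Function.Surjective α := by
    rw [← LinearMap.range_eq_top, eq_top_iff]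
    apply Submodule.le_of_le_smul_of_le_jacobson_bot Module.Finite.fg_top hI
    intro p _
    obtain ⟨f, hf⟩ := hφ' (piQ R n m p)
    have hk : p - α f ∈ LinearMap.ker (piQ R n m) := by
      rw [LinearMap.mem_ker, map_sub]
      have heq : piQ R n m p = piQ R n m (α f) := by rw [hαapp, hf]
      exact sub_eq_zero_of_eq heq
    exact Submodule.mem_sup.2 ⟨α f, ⟨f, rfl⟩, p - α f, ker_piQ_le R n m hk, by abel⟩
  have hγsurj : Function.Surjective (β ∘ₗ α) := by
    rw [← LinearMap.range_eq_top, eq_top_iff]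
    apply Submodule.le_of_le_smul_of_le_jacobson_bot Module.Finite.fg_top hI
    intro f _
    have hk : f - (β ∘ₗ α) f ∈ LinearMap.ker φ' := by
      rw [LinearMap.mem_ker, map_sub]
      have heq : φ' f = φ' ((β ∘ₗ α) f) := by rw [LinearMap.comp_apply, hβapp, hαapp]
      exact sub_eq_zero_of_eq heq
    exact Submodule.mem_sup.2 ⟨(β ∘ₗ α) f, ⟨f, rfl⟩, f - (β ∘ₗ α) f, hkerφ' hk, by abel⟩
  have hγinj : Function.Injective (β ∘ₗ α) :=
    OrzechProperty.injective_of_surjective_endomorphism _ hγsurj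
  have hαinj : Function.Injective α := by
    rw [LinearMap.coe_comp] at hγinj
    exact Function.Injective.of_comp hγinj
  obtain ⟨eα, heα⟩ : ∃ eα : (Fin r → Rn R n) ≃ₗ[Rn R n] Pm R n m, ∀ f, eα f = α f :=
    ⟨LinearEquiv.ofBijective α ⟨hαinj, hαsurj⟩, fun f => rfl⟩
  have hmap : (LinearMap.ker φ).map (eα : (Fin r → Rn R n) →ₗ[Rn R n] Pm R n m)
      = LinearMap.ker (piQ R n m) := by
    ext p
    rw [Submodule.mem_map]
    constructor
    · rintro ⟨f, hf, rfl⟩
      rw [LinearMap.mem_ker] at hf ⊢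
      rw [LinearEquiv.coe_coe, heα, hαapp, hφ'app, hf, map_zero]
    · intro hp
      refine ⟨eα.symm p, ?_, eα.apply_symm_apply p⟩
      rw [LinearMap.mem_ker] at hp ⊢
      have h3 : α (eα.symm p) = p := by rw [← heα]; exact eα.apply_symm_apply p
      have h2 := hαapp (eα.symm p)
      rw [h3, hp, hφ'app] at h2
      exact e'.map_eq_zero_iff.1 h2.symm
  have e1 : ↥(LinearMap.ker φ) ≃ₗ[Rn R n] ↥(LinearMap.ker (piQ R n m)) :=
    LinearEquiv.ofSubmodules eα _ _ hmap
  obtain ⟨e3⟩ := reindex R n m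
  exact ⟨(e1.trans (kerEquiv R n m)).trans e3⟩

end Groth.Agent.Lib.Helper24MultCrv3
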