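import Mathlib
import Groth.Agent.Lib.Helper4TensorDim

/-!
# Noether normalization over a discrete valuation ring (helper24)

For a DVR `A` with maximal ideal `m` and a flat `A`-algebra `B` with `B/mB` of finite type and
dimension `d` over `A/m`, lift a Noether normalization of `B/mB` to an injective
`A[T_1..T_d] → B`.
-/

open MvPolynomial

universe u

namespace Helper24NNDvr

variable (A : Type u) [CommRing A] [IsDomain A] [IsDiscreteValuationRing A]
  (B : Type u) [CommRing B] [Algebra A B]

local notation "mA" => IsLocalRing.maximalIdeal A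
local notation "JB" => Ideal.map (algebraMap A B) (IsLocalRing.maximalIdeal A)

/-- the reduction map `A/m → B/mB`. -/
noncomputable abbrev qmap : A ⧸ mA →+* B ⧸ JB :=
  Ideal.quotientMap JB (algebraMap A B) Ideal.le_comap_map

variable {A B}

/-- the reduction of `φ`. -/
noncomputable abbrev Ebar {d : ℕ} (φ : MvPolynomial (Fin d) A →ₐ[A] B) :
    MvPolynomial (Fin d) (A ⧸ mA) →+* B ⧸ JB :=
  MvPolynomial.eval₂Hom (qmap A B) (fun i => Ideal.Quotient.mk JB (φ (MvPolynomial.X i)))

theorem Ebar_map {d : ℕ} (φ : MvPolynomial (Fin d) A →ₐ[A] B) (f : MvPolynomial (Fin d) A) :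
    Ebar φ (MvPolynomial.map (Ideal.Quotient.mk mA) f) = Ideal.Quotient.mk JB (φ f) := by
  have h : (Ebar φ).comp (MvPolynomial.map (Ideal.Quotient.mk mA)) =
      (Ideal.Quotient.mk JB).comp φ.toRingHom := by
    apply MvPolynomial.ringHom_ext
    · intro a
      simp [Ebar, qmap]
    · intro i
      simp [Ebar]
  exact RingHom.congr_fun h f

variable [Module.Flat A B]

/-- one division step. -/
theorem div_step {d : ℕ} (φ : MvPolynomial (Fin d) A →ₐ[A] B)
    (hE : Function.Injective (Ebar φ)) (t : A) (ht : Irreducible t)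
    (f : MvPolynomial (Fin d) A) (hf : φ f = 0) :
    ∃ f₁ : MvPolynomial (Fin d) A, φ f₁ = 0 ∧ f = C t * f₁ := by
  have hm : mA = Ideal.span {t} := ht.maximalIdeal_eq
  have h1 : MvPolynomial.map (Ideal.Quotient.mk mA) f = 0 := by
    apply hE
    rw [Ebar_map, hf, map_zero, map_zero]
  have h2 : ∀ ν, ∃ c : A, coeff ν f = t * c := by
    intro ν
    have := congrArg (coeff ν) h1
    rw [coeff_map, coeff_zero, Ideal.Quotient.eq_zero_iff_mem, hm, Ideal.mem_span_singleton'] at this
    obtain ⟨a, ha⟩ := this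
    exact ⟨a, by rw [← ha, mul_comm]⟩
  choose c hc using h2
  refine ⟨∑ ν ∈ f.support, monomial ν (c ν), ?_, ?_⟩
  swap
  · rw [Finset.mul_sum]
    conv_lhs => rw [← MvPolynomial.support_sum_monomial_coeff f]
    apply Finset.sum_congr rfl
    intro ν _
    rw [C_mul_monomial, hc]
  · have h3 : f = C t * ∑ ν ∈ f.support, monomial ν (c ν) := by
      rw [Finset.mul_sum]
      conv_lhs => rw [← MvPolynomial.support_sum_monomial_coeff f]
      apply Finset.sum_congr rfl
      intro ν _
      rw [C_mul_monomial, hc]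
    have h4 : t • φ (∑ ν ∈ f.support, monomial ν (c ν)) = 0 := by
      rw [← map_smul, MvPolynomial.smul_eq_C_mul, ← h3, hf]
    have hreg : IsSMulRegular B t :=
      Module.Flat.isSMulRegular_of_nonZeroDivisors (mem_nonZeroDivisors_of_ne_zero ht.ne_zero)
    exact hreg (by
      change t • φ (∑ ν ∈ f.support, monomial ν (c ν)) = t • (0 : B)
      rw [h4, smul_zero])

theorem injective_of_reduction {d : ℕ} (φ : MvPolynomial (Fin d) A →ₐ[A] B)
    (hE : Function.Injective (Ebar φ)) : Function.Injective φ := by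
  obtain ⟨t, ht⟩ := IsDiscreteValuationRing.exists_irreducible A
  have hm : mA = Ideal.span {t} := ht.maximalIdeal_eq
  rw [injective_iff_map_eq_zero]
  intro f hf
  have key : ∀ n : ℕ, ∀ f : MvPolynomial (Fin d) A, φ f = 0 →
      ∃ f' : MvPolynomial (Fin d) A, φ f' = 0 ∧ f = C (t ^ n) * f' := by
    intro n
    induction n with
    | zero =>
      intro f hf
      exact ⟨f, hf, by simp⟩
    | succ n ih =>
      intro f hf
      obtain ⟨f', hf', e⟩ := ih f hf
      obtain ⟨f'', hf'', e'⟩ := div_step φ hE t ht f' hf'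
      refine ⟨f'', hf'', ?_⟩
      rw [e, e', pow_succ, C_mul, mul_assoc]
  ext ν
  rw [coeff_zero]
  have hmem : coeff ν f ∈ (⨅ n : ℕ, (mA) ^ n : Ideal A) := by
    rw [Ideal.mem_iInf]
    intro n
    obtain ⟨f', _, e⟩ := key n f hf
    rw [e, coeff_C_mul, hm, Ideal.span_singleton_pow]
    exact Ideal.mul_mem_right _ _ (Ideal.mem_span_singleton_self _)
  rw [Ideal.iInf_pow_eq_bot_of_isLocalRing _ (IsLocalRing.maximalIdeal.isMaximal A).ne_top] at hmem
  exact hmem

set_option maxHeartbeats 400000 in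
theorem main (d : ℕ)
    [Algebra.FiniteType A (B ⧸ JB)]
    (hd : ringKrullDim (B ⧸ JB) = d) :
    ∃ φ : MvPolynomial (Fin d) A →ₐ[A] B, Function.Injective φ ∧
      (Function.Injective (Ebar φ) ∧ (Ebar φ).Finite) := by
  letI : Field (A ⧸ mA) := Ideal.Quotient.field mA
  letI alg : Algebra (A ⧸ mA) (B ⧸ JB) := (qmap A B).toAlgebra
  haveI : IsScalarTower A (A ⧸ mA) (B ⧸ JB) := IsScalarTower.of_algebraMap_eq (fun a => rfl)
  haveI : Algebra.FiniteType (A ⧸ mA) (B ⧸ JB) :=
    Algebra.FiniteType.of_restrictScalars_finiteType A (A ⧸ mA) (B ⧸ JB)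
  haveI : Nontrivial (B ⧸ JB) := by
    by_contra h
    rw [not_nontrivial_iff_subsingleton] at h
    rw [ringKrullDim_eq_bot_of_subsingleton] at hd
    exact WithBot.bot_ne_coe hd
  obtain ⟨s, g, hinj, hint⟩ := exists_integral_inj_algHom_of_fg (A ⧸ mA) (B ⧸ JB)
  have hfin : g.Finite := by
    have h : algebraMap (A ⧸ mA) (B ⧸ JB) =
        g.toRingHom.comp (algebraMap (A ⧸ mA) (MvPolynomial (Fin s) (A ⧸ mA))) := by
      ext a
      simp
    exact hint.to_finite
      (h ▸ RingHom.finiteType_algebraMap.mpr inferInstance).of_comp_finiteType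
  have hs : s = d := by
    have h1 := Groth.Agent.Lib.Helper4.TensorDim.ringKrullDim_eq_of_integral_injective
      (A ⧸ mA) (B ⧸ JB) s g hinj hint
    rw [hd] at h1
    exact_mod_cast h1.symm
  subst hs
  have hlift : ∀ i, ∃ b : B, Ideal.Quotient.mk JB b = g (X i) :=
    fun i => Ideal.Quotient.mk_surjective _
  choose b hb using hlift
  let φ : MvPolynomial (Fin s) A →ₐ[A] B := MvPolynomial.aeval b
  have hE : ∀ p, Ebar φ p = g p := by
    intro p
    have h1 : g = MvPolynomial.aeval (fun i => g (X i)) := MvPolynomial.aeval_unique g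
    conv_rhs => rw [h1]
    rw [MvPolynomial.aeval_def]
    change MvPolynomial.eval₂ (qmap A B) _ p = MvPolynomial.eval₂ (algebraMap (A ⧸ mA) (B ⧸ JB)) _ p
    congr 1
    funext i
    change Ideal.Quotient.mk JB (MvPolynomial.aeval b (X i)) = _
    rw [MvPolynomial.aeval_X, hb]
  have hEinj : Function.Injective (Ebar φ) := by
    intro p p' h
    apply hinj
    rw [← hE, ← hE, h]
  refine ⟨φ, injective_of_reduction φ hEinj, hEinj, ?_⟩
  have : Ebar φ = g.toRingHom := RingHom.ext hE
  rw [this]
  exact hfin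

end Helper24NNDvr
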