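import Mathlib
import Groth.Agent.Lib.Helper24EdgeId

set_option autoImplicit false
universe u

namespace Groth.Agent.Lib.Helper24Nest2

open W4c1hilbpn MvPolynomial Groth.Agent.Lib.Helper24TgtPiece Groth.Agent.Lib.Helper24GenV
open Groth.Agent.Lib.Helper24TwoBlk (gen gen_apply gen_le_iff gen_comm)
open Groth.Agent.Lib.Helper24Nest (αd α4 sum_αd sum_α4)
open Groth.Agent.Lib.Helper24EdgeId

variable {σ : Type*} [Fintype σ] [DecidableEq σ] {k : Type*} [Field k]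

/-- configuration: the two variables of the small block, the extra variable of the first block and
the free variable -/
structure Cfg (σ : Type*) where
  b : σ
  b' : σ
  t : σ
  a : σ
  hbb : b ≠ b'
  hbt : b ≠ t
  hba : b ≠ a
  hb't : b' ≠ t
  hb'a : b' ≠ a
  hta : t ≠ a

/-- the middle variables -/
abbrev Mid (C : Cfg σ) : Type _ := {x : σ // x ≠ C.b ∧ x ≠ C.b' ∧ x ≠ C.t ∧ x ≠ C.a}

/-- index type of the generators -/
inductive GI (M : Type*) : Type _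
  | bb : GI M
  | bb' : GI M
  | bt : GI M
  | b'b' : GI M
  | bm (x : M) : GI M
  | b'm (x : M) : GI M
  deriving DecidableEq

/-- first variable of a generator -/
def PI (C : Cfg σ) : GI (Mid C) → σ
  | .bb => C.b | .bb' => C.b | .bt => C.b | .b'b' => C.b' | .bm _ => C.b | .b'm _ => C.b'

/-- second variable of a generator -/
def LI (C : Cfg σ) : GI (Mid C) → σ
  | .bb => C.b | .bb' => C.b' | .bt => C.t | .b'b' => C.b' | .bm x => x.1 | .b'm x => x.1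

/-- exponent vectors of the generators -/
noncomputable def gI (C : Cfg σ) : GI (Mid C) → σ →₀ ℕ := fun i => gen (PI C i) (LI C i)

lemma isQuad (C : Cfg σ) : IsQuad (gI C) := fun i => ⟨PI C i, LI C i, rfl⟩

/-- the kinds of variables -/
inductive Kind : Type
  | kb | kb' | kt | ka | km
  deriving DecidableEq, Fintype

/-- the kind of a variable -/
def kind (C : Cfg σ) (u : σ) : Kind :=
  if u = C.b then .kb else if u = C.b' then .kb' else if u = C.t then .kt else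
    if u = C.a then .ka else .km

/-- adjacency of kinds -/
def adjK : Kind → Kind → Bool
  | .kb, .kb => true
  | .kb, .kb' => true
  | .kb, .kt => true
  | .kb, .km => true
  | .kb', .kb => true
  | .kt, .kb => true
  | .km, .kb => true
  | .kb', .kb' => true
  | .kb', .km => true
  | .km, .kb' => true
  | _, _ => false

section kinds

variable (C : Cfg σ)

lemma kind_b : kind C C.b = .kb := by simp [kind]
lemma kind_b' : kind C C.b' = .kb' := by simp [kind, C.hbb.symm]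
lemma kind_t : kind C C.t = .kt := by simp [kind, C.hbt.symm, C.hb't.symm]
lemma kind_a : kind C C.a = .ka := by simp [kind, C.hba.symm, C.hb'a.symm, C.hta.symm]
lemma kind_mid (j : Mid C) : kind C j.1 = .km := by
  simp [kind, j.2.1, j.2.2.1, j.2.2.2.1, j.2.2.2.2]

lemma kind_cases (u : σ) : (u = C.b ∧ kind C u = .kb) ∨ (u = C.b' ∧ kind C u = .kb') ∨
    (u = C.t ∧ kind C u = .kt) ∨ (u = C.a ∧ kind C u = .ka) ∨
    (∃ j : Mid C, u = j.1 ∧ kind C u = .km) := by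
  by_cases h1 : u = C.b
  · exact Or.inl ⟨h1, by rw [h1, kind_b]⟩
  by_cases h2 : u = C.b'
  · exact Or.inr (Or.inl ⟨h2, by rw [h2, kind_b']⟩)
  by_cases h3 : u = C.t
  · exact Or.inr (Or.inr (Or.inl ⟨h3, by rw [h3, kind_t]⟩))
  by_cases h4 : u = C.a
  · exact Or.inr (Or.inr (Or.inr (Or.inl ⟨h4, by rw [h4, kind_a]⟩)))
  exact Or.inr (Or.inr (Or.inr (Or.inr ⟨⟨u, h1, h2, h3, h4⟩, rfl, kind_mid C ⟨u, h1, h2, h3, h4⟩⟩)))

lemma eq_of_kind {z z' : σ} (h : kind C z = kind C z') (hne : kind C z ≠ .km) : z = z' := by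
  rcases kind_cases C z with ⟨e, hk⟩ | ⟨e, hk⟩ | ⟨e, hk⟩ | ⟨e, hk⟩ | ⟨j, e, hk⟩ <;>
    rcases kind_cases C z' with ⟨e', hk'⟩ | ⟨e', hk'⟩ | ⟨e', hk'⟩ | ⟨e', hk'⟩ | ⟨j', e', hk'⟩ <;>
    rw [hk, hk'] at h <;> first | (exact absurd h (by decide)) | (exact absurd hk hne) | (rw [e, e'])

lemma exists_kind (t0 : Mid C) (K : Kind) : ∃ z, kind C z = K := by
  cases K
  · exact ⟨C.b, kind_b C⟩
  · exact ⟨C.b', kind_b' C⟩
  · exact ⟨C.t, kind_t C⟩
  · exact ⟨C.a, kind_a C⟩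
  · exact ⟨t0.1, kind_mid C t0⟩

lemma adj_iff (u v : σ) : adj (gI C) u v ↔ adjK (kind C u) (kind C v) = true := by
  constructor
  · rintro ⟨i, hi⟩
    unfold gI at hi
    rw [gen_eq_gen_iff] at hi
    rcases hi with ⟨h1, h2⟩ | ⟨h1, h2⟩ <;> cases i <;> simp only [PI, LI] at h1 h2 <;>
      subst h1 <;> subst h2 <;>
      simp only [kind_b, kind_b', kind_t, kind_a, kind_mid] <;> rfl
  · intro h
    rcases kind_cases C u with ⟨e, hk⟩ | ⟨e, hk⟩ | ⟨e, hk⟩ | ⟨e, hk⟩ | ⟨j, e, hk⟩ <;>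
      rcases kind_cases C v with ⟨e', hk'⟩ | ⟨e', hk'⟩ | ⟨e', hk'⟩ | ⟨e', hk'⟩ | ⟨j', e', hk'⟩ <;>
      rw [hk, hk'] at h <;> first | (exact absurd h (by decide)) | skip
    all_goals subst e; subst e'
    · exact ⟨.bb, rfl⟩
    · exact ⟨.bb', rfl⟩
    · exact ⟨.bt, rfl⟩
    · exact ⟨.bm j', rfl⟩
    · exact ⟨.bb', gen_comm _ _⟩
    · exact ⟨.b'b', rfl⟩
    · exact ⟨.b'm j', rfl⟩
    · exact ⟨.bt, gen_comm _ _⟩
    · exact ⟨.bm j, gen_comm _ _⟩
    · exact ⟨.b'm j, gen_comm _ _⟩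

lemma not_adj_iff (u v : σ) : ¬ adj (gI C) u v ↔ adjK (kind C u) (kind C v) = false := by
  rw [adj_iff, Bool.not_eq_true]

end kinds

section typeI

variable (C : Cfg σ)

/-- the dimension count of a piece of multidegree `e_x - e_y`, on the level of kinds -/
theorem finrank_typeI_kind (t0 : Mid C) {x y : σ} (hxy : x ≠ y) {κ : Type*} [Fintype κ]
    (ℓK : Kind → Option κ)
    (ha : ∀ K m, ℓK K = some m → adjK (kind C y) K = true ∧ adjK (kind C x) K = false)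
    (hc : ∀ K, adjK (kind C y) K = true → adjK (kind C x) K = false → ℓK K ≠ none)
    (hb : ∀ K K' m m', ℓK K = some m → ℓK K' = some m' → adjK K K' = false → m = m')
    (hd : ∀ m, ∃ K, ℓK K = some m)
    (he : ∀ K K' m, ℓK K = some m → ℓK K' = some m → (K = K' ∧ K ≠ .km) ∨ adjK K K' = false ∨
      ∃ Kw, ℓK Kw ≠ none ∧ adjK K Kw = false ∧ adjK Kw K' = false) :
    Module.finrank k ↥(V k (gI C) (αd x y)) = Fintype.card κ := by
  apply finrank_V_typeI (isQuad C) hxy (fun z => ℓK (kind C z))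
  · intro z m hm
    obtain ⟨h1, h2⟩ := ha _ m hm
    exact ⟨(adj_iff C y z).mpr h1, (not_adj_iff C x z).mpr h2⟩
  · intro z h1 h2
    exact hc _ ((adj_iff C y z).mp h1) ((not_adj_iff C x z).mp h2)
  · intro z z' m m' h1 h2 h3
    exact hb _ _ m m' h1 h2 ((not_adj_iff C z z').mp h3)
  · intro m
    obtain ⟨K, hK⟩ := hd m
    obtain ⟨z, hz⟩ := exists_kind C t0 K
    exact ⟨z, by rw [hz, hK]⟩
  · intro z z' m hz hz' f hf
    rcases he _ _ m hz hz' with ⟨hK, hne⟩ | h | ⟨Kw, hw, h1, h2⟩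
    · rw [eq_of_kind C hK hne]
    · exact hf z z' (by rw [hz]; simp) (by rw [hz']; simp) ((not_adj_iff C z z').mpr h)
    · obtain ⟨w, hw'⟩ := exists_kind C t0 Kw
      rw [← hw'] at hw h1 h2
      rw [hf z w (by rw [hz]; simp) hw ((not_adj_iff C z w).mpr h1),
        hf w z' hw (by rw [hz']; simp) ((not_adj_iff C w z').mpr h2)]

/-- the table of dimensions -/
def dK : Kind → Kind → ℕ
  | .ka, .kb => 2
  | .kt, .kb => 1
  | .km, .kb => 1
  | .kb', .kb => 1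
  | .ka, .kb' => 3
  | .kt, .kb' => 2
  | .km, .kb' => 1
  | .ka, .km => 2
  | .kt, .km => 1
  | .ka, .kt => 1
  | _, _ => 0

/-- variant with the kinds given by hypotheses and labels in `Fin d` -/
theorem finrank_typeI_fin (t0 : Mid C) {x y : σ} (hxy : x ≠ y) (Kx Ky : Kind)
    (hKx : kind C x = Kx) (hKy : kind C y = Ky) (d : ℕ) (ℓK : Kind → Option (Fin d))
    (ha : ∀ K m, ℓK K = some m → adjK Ky K = true ∧ adjK Kx K = false)
    (hc : ∀ K, adjK Ky K = true → adjK Kx K = false → ℓK K ≠ none)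
    (hb : ∀ K K' m m', ℓK K = some m → ℓK K' = some m' → adjK K K' = false → m = m')
    (hd : ∀ m, ∃ K, ℓK K = some m)
    (he : ∀ K K' m, ℓK K = some m → ℓK K' = some m → (K = K' ∧ K ≠ .km) ∨ adjK K K' = false ∨
      ∃ Kw, ℓK Kw ≠ none ∧ adjK K Kw = false ∧ adjK Kw K' = false) :
    Module.finrank k ↥(V k (gI C) (αd x y)) = d := by
  subst hKx
  subst hKy
  rw [finrank_typeI_kind C t0 hxy ℓK ha hc hb hd he, Fintype.card_fin]

theorem finrank_typeI_zero (t0 : Mid C) {x y : σ} (hxy : x ≠ y) (Kx Ky : Kind)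
    (hKx : kind C x = Kx) (hKy : kind C y = Ky)
    (h : ∀ K, adjK Ky K = true → adjK Kx K = true) :
    Module.finrank k ↥(V k (gI C) (αd x y)) = 0 := by
  apply finrank_typeI_fin C t0 hxy Kx Ky hKx hKy 0 (fun _ => none)
  · intro K m hm
    cases hm
  · intro K h1 h2
    rw [h K h1] at h2
    cases h2
  · intro K K' m m' hm
    cases hm
  · intro m
    exact m.elim0
  · intro K K' m hm
    cases hm

/-- the dimension of the piece of multidegree `e_x - e_y` -/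
theorem finrank_typeI (t0 : Mid C) {x y : σ} (hxy : x ≠ y) :
    Module.finrank k ↥(V k (gI C) (αd x y)) = dK (kind C x) (kind C y) := by
  obtain ⟨Kx, hKx⟩ : ∃ K, kind C x = K := ⟨_, rfl⟩
  obtain ⟨Ky, hKy⟩ : ∃ K, kind C y = K := ⟨_, rfl⟩
  rw [hKx, hKy]
  cases Kx <;> cases Ky
  all_goals first
    | exact absurd (eq_of_kind C (hKx.trans hKy.symm) (by rw [hKx]; decide)) hxy
    | exact finrank_typeI_zero C t0 hxy _ _ hKx hKy (by decide)
    | skip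
  · exact finrank_typeI_fin C t0 hxy _ _ hKx hKy 1
      (fun K => match K with | .kt => some 0 | _ => none)
      (by decide) (by decide) (by decide) (by decide) (by decide)
  · exact finrank_typeI_fin C t0 hxy _ _ hKx hKy 1
      (fun K => match K with | .kb' => some 0 | .kt => some 0 | .km => some 0 | _ => none)
      (by decide) (by decide) (by decide) (by decide) (by decide)
  · exact finrank_typeI_fin C t0 hxy _ _ hKx hKy 2
      (fun K => match K with | .kb' => some 0 | .km => some 1 | _ => none)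
      (by decide) (by decide) (by decide) (by decide) (by decide)
  · exact finrank_typeI_fin C t0 hxy _ _ hKx hKy 1
      (fun K => match K with | .kb' => some 0 | _ => none)
      (by decide) (by decide) (by decide) (by decide) (by decide)
  · exact finrank_typeI_fin C t0 hxy _ _ hKx hKy 2
      (fun K => match K with | .kb => some 0 | .ka => none | _ => some 1)
      (by decide) (by decide) (by decide) (by decide) (by decide)
  · exact finrank_typeI_fin C t0 hxy _ _ hKx hKy 3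
      (fun K => match K with | .kb => some 0 | .kb' => some 1 | .km => some 2 | _ => none)
      (by decide) (by decide) (by decide) (by decide) (by decide)
  · exact finrank_typeI_fin C t0 hxy _ _ hKx hKy 1
      (fun K => match K with | .kb => some 0 | _ => none)
      (by decide) (by decide) (by decide) (by decide) (by decide)
  · exact finrank_typeI_fin C t0 hxy _ _ hKx hKy 2
      (fun K => match K with | .kb => some 0 | .kb' => some 1 | _ => none)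
      (by decide) (by decide) (by decide) (by decide) (by decide)
  · exact finrank_typeI_fin C t0 hxy _ _ hKx hKy 1
      (fun K => match K with | .kt => some 0 | .km => some 0 | _ => none)
      (by decide) (by decide) (by decide) (by decide) (by decide)
  · exact finrank_typeI_fin C t0 hxy _ _ hKx hKy 1
      (fun K => match K with | .km => some 0 | _ => none)
      (by decide) (by decide) (by decide) (by decide) (by decide)

end typeI

section typeII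

variable (C : Cfg σ)

lemma kind_eq_kb {x : σ} (h : kind C x = .kb) : x = C.b :=
  eq_of_kind C (h.trans (kind_b C).symm) (by rw [h]; decide)

lemma kind_eq_kb' {x : σ} (h : kind C x = .kb') : x = C.b' :=
  eq_of_kind C (h.trans (kind_b' C).symm) (by rw [h]; decide)

lemma kind_eq_kt {x : σ} (h : kind C x = .kt) : x = C.t :=
  eq_of_kind C (h.trans (kind_t C).symm) (by rw [h]; decide)

lemma kind_eq_ka {x : σ} (h : kind C x = .ka) : x = C.a :=
  eq_of_kind C (h.trans (kind_a C).symm) (by rw [h]; decide)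

lemma nadj_t {x : σ} (h : x ≠ C.b) : ¬ adj (gI C) x C.t := by
  rw [not_adj_iff, kind_t]
  have hk : kind C x ≠ .kb := fun hk => h (kind_eq_kb C hk)
  revert hk
  generalize kind C x = K
  cases K <;> decide

lemma nadj_m {x : σ} (h : x ≠ C.b) (h' : x ≠ C.b') (j : Mid C) : ¬ adj (gI C) x j.1 := by
  rw [not_adj_iff, kind_mid]
  have hk : kind C x ≠ .kb := fun hk => h (kind_eq_kb C hk)
  have hk' : kind C x ≠ .kb' := fun hk => h' (kind_eq_kb' C hk)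
  revert hk hk'
  generalize kind C x = K
  cases K <;> decide

lemma nadj_of_km {x : σ} (h : x ≠ C.b) (h' : x ≠ C.b') {z : σ} (hz : kind C z = .km) :
    ¬ adj (gI C) x z := by
  rw [not_adj_iff, hz]
  have hk : kind C x ≠ .kb := fun hk => h (kind_eq_kb C hk)
  have hk' : kind C x ≠ .kb' := fun hk => h' (kind_eq_kb' C hk)
  revert hk hk'
  generalize kind C x = K
  cases K <;> decide

lemma nadj_b' {x : σ} (h : x ≠ C.b) (h' : x ≠ C.b') (hm : kind C x ≠ .km) :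
    ¬ adj (gI C) x C.b' := by
  rw [not_adj_iff, kind_b']
  have hk : kind C x ≠ .kb := fun hk => h (kind_eq_kb C hk)
  have hk' : kind C x ≠ .kb' := fun hk => h' (kind_eq_kb' C hk)
  revert hk hk' hm
  generalize kind C x = K
  cases K <;> decide

lemma eq_a_of_nadj_b {x : σ} (h : ¬ adj (gI C) C.b x) : x = C.a := by
  rw [not_adj_iff, kind_b] at h
  apply kind_eq_ka
  revert h
  generalize kind C x = K
  cases K <;> decide

lemma eq_a_of_nadj_b' {x : σ} (h : ¬ adj (gI C) C.b' x) (ht : x ≠ C.t) : x = C.a := by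
  rw [not_adj_iff, kind_b'] at h
  apply kind_eq_ka
  have hk : kind C x ≠ .kt := fun hk => ht (kind_eq_kt C hk)
  revert h hk
  generalize kind C x = K
  cases K <;> decide

lemma α4_swap (x x' y y' : σ) : α4 x x' y y' = α4 x' x y y' := by
  funext u
  unfold α4
  ring

/-- kind-level criterion for the pieces whose multidegree is a quotient of quadratic monomials -/
theorem finrank_typeII_kind {x x' y y' : σ} (h1 : x ≠ y) (h2 : x ≠ y') (h3 : x' ≠ y)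
    (h4 : x' ≠ y') (Kx Kx' Ky Ky' : Kind) (hKx : kind C x = Kx) (hKx' : kind C x' = Kx')
    (hKy : kind C y = Ky) (hKy' : kind C y' = Ky') (hxx : adjK Kx Kx' = false)
    (hyy : adjK Ky Ky' = true)
    (hgood : ∀ Kz, (adjK Ky Kz = true ∧ (Kz ≠ Ky' ∨ Ky' = .km)) ∨
      (adjK Ky' Kz = true ∧ (Kz ≠ Ky ∨ Ky = .km)) → adjK Kx Kz = true ∨ adjK Kx' Kz = true) :
    Module.finrank k ↥(V k (gI C) (α4 x x' y y')) = 1 := by
  subst hKx hKx' hKy hKy'
  apply finrank_V_typeII (isQuad C) h1 h2 h3 h4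
  · rw [not_adj_iff]
    exact hxx
  · rw [adj_iff]
    exact hyy
  · intro z hz
    rw [adj_iff, adj_iff]
    apply hgood (kind C z)
    rcases hz with ⟨ha, hne⟩ | ⟨ha, hne⟩
    · left
      refine ⟨(adj_iff C y z).mp ha, ?_⟩
      by_cases hk : kind C y' = .km
      · exact Or.inr hk
      · left
        intro heq
        exact hne (eq_of_kind C heq.symm hk).symm
    · right
      refine ⟨(adj_iff C y' z).mp ha, ?_⟩
      by_cases hk : kind C y = .km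
      · exact Or.inr hk
      · left
        intro heq
        exact hne (eq_of_kind C heq.symm hk).symm

theorem finrank_F1 : Module.finrank k ↥(V k (gI C) (α4 C.b' C.a C.b C.t)) = 1 :=
  finrank_typeII_kind C C.hbb.symm C.hb't C.hba.symm C.hta.symm _ _ _ _ (kind_b' C) (kind_a C)
    (kind_b C) (kind_t C) (by decide) (by decide) (by decide)

theorem finrank_F2 : Module.finrank k ↥(V k (gI C) (α4 C.b C.a C.b' C.b')) = 1 :=
  finrank_typeII_kind C C.hbb C.hbb C.hb'a.symm C.hb'a.symm _ _ _ _ (kind_b C) (kind_a C)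
    (kind_b' C) (kind_b' C) (by decide) (by decide) (by decide)

theorem finrank_F3 (j : Mid C) : Module.finrank k ↥(V k (gI C) (α4 C.b C.a C.b' j.1)) = 1 :=
  finrank_typeII_kind C C.hbb (Ne.symm j.2.1) C.hb'a.symm (Ne.symm j.2.2.2.2) _ _ _ _ (kind_b C)
    (kind_a C) (kind_b' C) (kind_mid C j) (by decide) (by decide) (by decide)

/-- the quotient-type multidegrees carrying tangent vectors -/
lemma typeII_form (t0 : Mid C) {x x' : σ} {i : GI (Mid C)} (h1 : x ≠ PI C i) (h2 : x ≠ LI C i)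
    (h3 : x' ≠ PI C i) (h4 : x' ≠ LI C i) (hxx : ¬ adj (gI C) x x') {c : GI (Mid C) → k}
    (hc : c ∈ V k (gI C) (α4 x x' (PI C i) (LI C i))) (hne : c i ≠ 0) :
    α4 x x' (PI C i) (LI C i) = α4 C.b' C.a C.b C.t ∨
      α4 x x' (PI C i) (LI C i) = α4 C.b C.a C.b' C.b' ∨
      ∃ j : Mid C, α4 x x' (PI C i) (LI C i) = α4 C.b C.a C.b' j.1 := by
  have hq := isQuad C
  cases i with
  | bb =>
    simp only [PI, LI] at h1 h2 h3 h4 hc ⊢
    exact absurd (V_zero_typeII hq h1 h2 h3 h4 C.t (Or.inl ⟨⟨.bt, rfl⟩, C.hbt.symm⟩)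
      ⟨hxx, nadj_t C h1, nadj_t C h3⟩ hc .bb) hne
  | bb' =>
    simp only [PI, LI] at h1 h2 h3 h4 hc ⊢
    exact absurd (V_zero_typeII hq h1 h2 h3 h4 C.t (Or.inl ⟨⟨.bt, rfl⟩, C.hb't.symm⟩)
      ⟨hxx, nadj_t C h1, nadj_t C h3⟩ hc .bb') hne
  | bm j =>
    simp only [PI, LI] at h1 h2 h3 h4 hc ⊢
    exact absurd (V_zero_typeII hq h1 h2 h3 h4 C.t (Or.inl ⟨⟨.bt, rfl⟩, Ne.symm j.2.2.2.1⟩)
      ⟨hxx, nadj_t C h1, nadj_t C h3⟩ hc (.bm j)) hne
  | bt =>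
    simp only [PI, LI] at h1 h2 h3 h4 hc ⊢
    by_cases e1 : x = C.b'
    · subst e1
      have := eq_a_of_nadj_b' C hxx h4
      subst this
      exact Or.inl rfl
    by_cases e2 : x' = C.b'
    · subst e2
      have := eq_a_of_nadj_b' C (fun h => hxx ((adj_comm _).mp h)) h2
      subst this
      exact Or.inl (α4_swap _ _ _ _)
    exact absurd (V_zero_typeII hq h1 h2 h3 h4 t0.1 (Or.inl ⟨⟨.bm t0, rfl⟩, t0.2.2.2.1⟩)
      ⟨hxx, nadj_m C h1 e1 t0, nadj_m C h3 e2 t0⟩ hc .bt) hne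
  | b'b' =>
    simp only [PI, LI] at h1 h2 h3 h4 hc ⊢
    by_cases e1 : x = C.b
    · subst e1
      have := eq_a_of_nadj_b C hxx
      subst this
      exact Or.inr (Or.inl rfl)
    by_cases e2 : x' = C.b
    · subst e2
      have := eq_a_of_nadj_b C (fun h => hxx ((adj_comm _).mp h))
      subst this
      exact Or.inr (Or.inl (α4_swap _ _ _ _))
    exact absurd (V_zero_typeII hq h1 h2 h3 h4 t0.1 (Or.inl ⟨⟨.b'm t0, rfl⟩, t0.2.2.1⟩)
      ⟨hxx, nadj_m C e1 h1 t0, nadj_m C e2 h3 t0⟩ hc .b'b') hne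
  | b'm j =>
    simp only [PI, LI] at h1 h2 h3 h4 hc ⊢
    by_cases e1 : x = C.b
    · subst e1
      have := eq_a_of_nadj_b C hxx
      subst this
      exact Or.inr (Or.inr ⟨j, rfl⟩)
    by_cases e2 : x' = C.b
    · subst e2
      have := eq_a_of_nadj_b C (fun h => hxx ((adj_comm _).mp h))
      subst this
      exact Or.inr (Or.inr ⟨j, α4_swap _ _ _ _⟩)
    by_cases hxm : kind C x = .km
    · have hadj : adj (gI C) C.b' x := by
        rw [adj_iff, kind_b', hxm]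
        rfl
      exact absurd (V_zero_typeII hq h1 h2 h3 h4 x (Or.inl ⟨hadj, h2⟩)
        ⟨hxx, nadj_of_km C e1 h1 hxm, nadj_of_km C e2 h3 hxm⟩ hc (.b'm j)) hne
    by_cases hxm' : kind C x' = .km
    · have hadj : adj (gI C) C.b' x' := by
        rw [adj_iff, kind_b', hxm']
        rfl
      exact absurd (V_zero_typeII hq h1 h2 h3 h4 x' (Or.inl ⟨hadj, h4⟩)
        ⟨hxx, nadj_of_km C e1 h1 hxm', nadj_of_km C e2 h3 hxm'⟩ hc (.b'm j)) hne
    exact absurd (V_zero_typeII hq h1 h2 h3 h4 C.b' (Or.inl ⟨⟨.b'b', rfl⟩, Ne.symm j.2.2.1⟩)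
      ⟨hxx, nadj_b' C e1 h1 hxm, nadj_b' C e2 h3 hxm'⟩ hc (.b'm j)) hne

end typeII

section Assembly

variable (C : Cfg σ)

/-- index type of the multidegrees carrying tangent vectors -/
abbrev TI (C : Cfg σ) : Type _ :=
  Unit ⊕ Unit ⊕ Mid C ⊕ Unit ⊕ Unit ⊕ Unit ⊕ Mid C ⊕ Mid C ⊕ Mid C ⊕ Unit ⊕ Unit ⊕ Unit ⊕ Mid C

/-- the multidegrees -/
def αOf : TI C → (σ → ℤ)
  | .inl _ => αd C.a C.b
  | .inr (.inl _) => αd C.t C.b
  | .inr (.inr (.inl j)) => αd j.1 C.b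
  | .inr (.inr (.inr (.inl _))) => αd C.b' C.b
  | .inr (.inr (.inr (.inr (.inl _)))) => αd C.a C.b'
  | .inr (.inr (.inr (.inr (.inr (.inl _))))) => αd C.t C.b'
  | .inr (.inr (.inr (.inr (.inr (.inr (.inl j)))))) => αd j.1 C.b'
  | .inr (.inr (.inr (.inr (.inr (.inr (.inr (.inl j))))))) => αd C.a j.1
  | .inr (.inr (.inr (.inr (.inr (.inr (.inr (.inr (.inl j)))))))) => αd C.t j.1
  | .inr (.inr (.inr (.inr (.inr (.inr (.inr (.inr (.inr (.inl _))))))))) => αd C.a C.t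
  | .inr (.inr (.inr (.inr (.inr (.inr (.inr (.inr (.inr (.inr (.inl _)))))))))) => α4 C.b' C.a C.b C.t
  | .inr (.inr (.inr (.inr (.inr (.inr (.inr (.inr (.inr (.inr (.inr (.inl _))))))))))) => α4 C.b C.a C.b' C.b'
  | .inr (.inr (.inr (.inr (.inr (.inr (.inr (.inr (.inr (.inr (.inr (.inr (j)))))))))))) => α4 C.b C.a C.b' j.1

/-- the dimensions -/
def dOf : TI C → ℕ
  | .inl _ => 2
  | .inr (.inl _) => 1
  | .inr (.inr (.inl _)) => 1
  | .inr (.inr (.inr (.inl _))) => 1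
  | .inr (.inr (.inr (.inr (.inl _)))) => 3
  | .inr (.inr (.inr (.inr (.inr (.inl _))))) => 2
  | .inr (.inr (.inr (.inr (.inr (.inr (.inl _)))))) => 1
  | .inr (.inr (.inr (.inr (.inr (.inr (.inr (.inl _))))))) => 2
  | .inr (.inr (.inr (.inr (.inr (.inr (.inr (.inr (.inl _)))))))) => 1
  | .inr (.inr (.inr (.inr (.inr (.inr (.inr (.inr (.inr (.inl _))))))))) => 1
  | .inr (.inr (.inr (.inr (.inr (.inr (.inr (.inr (.inr (.inr (.inl _)))))))))) => 1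
  | .inr (.inr (.inr (.inr (.inr (.inr (.inr (.inr (.inr (.inr (.inr (.inl _))))))))))) => 1
  | .inr (.inr (.inr (.inr (.inr (.inr (.inr (.inr (.inr (.inr (.inr (.inr (_)))))))))))) => 1

/-- values at `b`, `b'`, `t`, `a` -/
def sig : TI C → ℤ × ℤ × ℤ × ℤ
  | .inl _ => (-1, 0, 0, 1)
  | .inr (.inl _) => (-1, 0, 1, 0)
  | .inr (.inr (.inl _)) => (-1, 0, 0, 0)
  | .inr (.inr (.inr (.inl _))) => (-1, 1, 0, 0)
  | .inr (.inr (.inr (.inr (.inl _)))) => (0, -1, 0, 1)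
  | .inr (.inr (.inr (.inr (.inr (.inl _))))) => (0, -1, 1, 0)
  | .inr (.inr (.inr (.inr (.inr (.inr (.inl _)))))) => (0, -1, 0, 0)
  | .inr (.inr (.inr (.inr (.inr (.inr (.inr (.inl _))))))) => (0, 0, 0, 1)
  | .inr (.inr (.inr (.inr (.inr (.inr (.inr (.inr (.inl _)))))))) => (0, 0, 1, 0)
  | .inr (.inr (.inr (.inr (.inr (.inr (.inr (.inr (.inr (.inl _))))))))) => (0, 0, -1, 1)
  | .inr (.inr (.inr (.inr (.inr (.inr (.inr (.inr (.inr (.inr (.inl _)))))))))) => (-1, 1, -1, 1)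
  | .inr (.inr (.inr (.inr (.inr (.inr (.inr (.inr (.inr (.inr (.inr (.inl _))))))))))) => (1, -2, 0, 1)
  | .inr (.inr (.inr (.inr (.inr (.inr (.inr (.inr (.inr (.inr (.inr (.inr (_)))))))))))) => (1, -1, 0, 1)

lemma αOf_b (t : TI C) : αOf C t C.b = (sig C t).1 := by
  rcases t with _ | _ | j | _ | _ | _ | j | j | j | _ | _ | _ | j
  · simp [αOf, sig, αd, α4, C.hbb, C.hbb.symm, C.hbt, C.hbt.symm, C.hba, C.hba.symm, C.hb't, C.hb't.symm, C.hb'a, C.hb'a.symm, C.hta, C.hta.symm]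
  · simp [αOf, sig, αd, α4, C.hbb, C.hbb.symm, C.hbt, C.hbt.symm, C.hba, C.hba.symm, C.hb't, C.hb't.symm, C.hb'a, C.hb'a.symm, C.hta, C.hta.symm]
  · simp [αOf, sig, αd, α4, C.hbb, C.hbb.symm, C.hbt, C.hbt.symm, C.hba, C.hba.symm, C.hb't, C.hb't.symm, C.hb'a, C.hb'a.symm, C.hta, C.hta.symm,
      j.2.1, Ne.symm j.2.1, j.2.2.1, Ne.symm j.2.2.1, j.2.2.2.1, Ne.symm j.2.2.2.1, j.2.2.2.2, Ne.symm j.2.2.2.2]
  · simp [αOf, sig, αd, α4, C.hbb, C.hbb.symm, C.hbt, C.hbt.symm, C.hba, C.hba.symm, C.hb't, C.hb't.symm, C.hb'a, C.hb'a.symm, C.hta, C.hta.symm]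
  · simp [αOf, sig, αd, α4, C.hbb, C.hbb.symm, C.hbt, C.hbt.symm, C.hba, C.hba.symm, C.hb't, C.hb't.symm, C.hb'a, C.hb'a.symm, C.hta, C.hta.symm]
  · simp [αOf, sig, αd, α4, C.hbb, C.hbb.symm, C.hbt, C.hbt.symm, C.hba, C.hba.symm, C.hb't, C.hb't.symm, C.hb'a, C.hb'a.symm, C.hta, C.hta.symm]
  · simp [αOf, sig, αd, α4, C.hbb, C.hbb.symm, C.hbt, C.hbt.symm, C.hba, C.hba.symm, C.hb't, C.hb't.symm, C.hb'a, C.hb'a.symm, C.hta, C.hta.symm,
      j.2.1, Ne.symm j.2.1, j.2.2.1, Ne.symm j.2.2.1, j.2.2.2.1, Ne.symm j.2.2.2.1, j.2.2.2.2, Ne.symm j.2.2.2.2]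
  · simp [αOf, sig, αd, α4, C.hbb, C.hbb.symm, C.hbt, C.hbt.symm, C.hba, C.hba.symm, C.hb't, C.hb't.symm, C.hb'a, C.hb'a.symm, C.hta, C.hta.symm,
      j.2.1, Ne.symm j.2.1, j.2.2.1, Ne.symm j.2.2.1, j.2.2.2.1, Ne.symm j.2.2.2.1, j.2.2.2.2, Ne.symm j.2.2.2.2]
  · simp [αOf, sig, αd, α4, C.hbb, C.hbb.symm, C.hbt, C.hbt.symm, C.hba, C.hba.symm, C.hb't, C.hb't.symm, C.hb'a, C.hb'a.symm, C.hta, C.hta.symm,
      j.2.1, Ne.symm j.2.1, j.2.2.1, Ne.symm j.2.2.1, j.2.2.2.1, Ne.symm j.2.2.2.1, j.2.2.2.2, Ne.symm j.2.2.2.2]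
  · simp [αOf, sig, αd, α4, C.hbb, C.hbb.symm, C.hbt, C.hbt.symm, C.hba, C.hba.symm, C.hb't, C.hb't.symm, C.hb'a, C.hb'a.symm, C.hta, C.hta.symm]
  · simp [αOf, sig, αd, α4, C.hbb, C.hbb.symm, C.hbt, C.hbt.symm, C.hba, C.hba.symm, C.hb't, C.hb't.symm, C.hb'a, C.hb'a.symm, C.hta, C.hta.symm]
  · simp [αOf, sig, αd, α4, C.hbb, C.hbb.symm, C.hbt, C.hbt.symm, C.hba, C.hba.symm, C.hb't, C.hb't.symm, C.hb'a, C.hb'a.symm, C.hta, C.hta.symm]
  · simp [αOf, sig, αd, α4, C.hbb, C.hbb.symm, C.hbt, C.hbt.symm, C.hba, C.hba.symm, C.hb't, C.hb't.symm, C.hb'a, C.hb'a.symm, C.hta, C.hta.symm,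
      j.2.1, Ne.symm j.2.1, j.2.2.1, Ne.symm j.2.2.1, j.2.2.2.1, Ne.symm j.2.2.2.1, j.2.2.2.2, Ne.symm j.2.2.2.2]

lemma αOf_b' (t : TI C) : αOf C t C.b' = (sig C t).2.1 := by
  rcases t with _ | _ | j | _ | _ | _ | j | j | j | _ | _ | _ | j
  · simp [αOf, sig, αd, α4, C.hbb, C.hbb.symm, C.hbt, C.hbt.symm, C.hba, C.hba.symm, C.hb't, C.hb't.symm, C.hb'a, C.hb'a.symm, C.hta, C.hta.symm]
  · simp [αOf, sig, αd, α4, C.hbb, C.hbb.symm, C.hbt, C.hbt.symm, C.hba, C.hba.symm, C.hb't, C.hb't.symm, C.hb'a, C.hb'a.symm, C.hta, C.hta.symm]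
  · simp [αOf, sig, αd, α4, C.hbb, C.hbb.symm, C.hbt, C.hbt.symm, C.hba, C.hba.symm, C.hb't, C.hb't.symm, C.hb'a, C.hb'a.symm, C.hta, C.hta.symm,
      j.2.1, Ne.symm j.2.1, j.2.2.1, Ne.symm j.2.2.1, j.2.2.2.1, Ne.symm j.2.2.2.1, j.2.2.2.2, Ne.symm j.2.2.2.2]
  · simp [αOf, sig, αd, α4, C.hbb, C.hbb.symm, C.hbt, C.hbt.symm, C.hba, C.hba.symm, C.hb't, C.hb't.symm, C.hb'a, C.hb'a.symm, C.hta, C.hta.symm]
  · simp [αOf, sig, αd, α4, C.hbb, C.hbb.symm, C.hbt, C.hbt.symm, C.hba, C.hba.symm, C.hb't, C.hb't.symm, C.hb'a, C.hb'a.symm, C.hta, C.hta.symm]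
  · simp [αOf, sig, αd, α4, C.hbb, C.hbb.symm, C.hbt, C.hbt.symm, C.hba, C.hba.symm, C.hb't, C.hb't.symm, C.hb'a, C.hb'a.symm, C.hta, C.hta.symm]
  · simp [αOf, sig, αd, α4, C.hbb, C.hbb.symm, C.hbt, C.hbt.symm, C.hba, C.hba.symm, C.hb't, C.hb't.symm, C.hb'a, C.hb'a.symm, C.hta, C.hta.symm,
      j.2.1, Ne.symm j.2.1, j.2.2.1, Ne.symm j.2.2.1, j.2.2.2.1, Ne.symm j.2.2.2.1, j.2.2.2.2, Ne.symm j.2.2.2.2]
  · simp [αOf, sig, αd, α4, C.hbb, C.hbb.symm, C.hbt, C.hbt.symm, C.hba, C.hba.symm, C.hb't, C.hb't.symm, C.hb'a, C.hb'a.symm, C.hta, C.hta.symm,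
      j.2.1, Ne.symm j.2.1, j.2.2.1, Ne.symm j.2.2.1, j.2.2.2.1, Ne.symm j.2.2.2.1, j.2.2.2.2, Ne.symm j.2.2.2.2]
  · simp [αOf, sig, αd, α4, C.hbb, C.hbb.symm, C.hbt, C.hbt.symm, C.hba, C.hba.symm, C.hb't, C.hb't.symm, C.hb'a, C.hb'a.symm, C.hta, C.hta.symm,
      j.2.1, Ne.symm j.2.1, j.2.2.1, Ne.symm j.2.2.1, j.2.2.2.1, Ne.symm j.2.2.2.1, j.2.2.2.2, Ne.symm j.2.2.2.2]
  · simp [αOf, sig, αd, α4, C.hbb, C.hbb.symm, C.hbt, C.hbt.symm, C.hba, C.hba.symm, C.hb't, C.hb't.symm, C.hb'a, C.hb'a.symm, C.hta, C.hta.symm]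
  · simp [αOf, sig, αd, α4, C.hbb, C.hbb.symm, C.hbt, C.hbt.symm, C.hba, C.hba.symm, C.hb't, C.hb't.symm, C.hb'a, C.hb'a.symm, C.hta, C.hta.symm]
  · simp [αOf, sig, αd, α4, C.hbb, C.hbb.symm, C.hbt, C.hbt.symm, C.hba, C.hba.symm, C.hb't, C.hb't.symm, C.hb'a, C.hb'a.symm, C.hta, C.hta.symm]
  · simp [αOf, sig, αd, α4, C.hbb, C.hbb.symm, C.hbt, C.hbt.symm, C.hba, C.hba.symm, C.hb't, C.hb't.symm, C.hb'a, C.hb'a.symm, C.hta, C.hta.symm,
      j.2.1, Ne.symm j.2.1, j.2.2.1, Ne.symm j.2.2.1, j.2.2.2.1, Ne.symm j.2.2.2.1, j.2.2.2.2, Ne.symm j.2.2.2.2]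

lemma αOf_t (t : TI C) : αOf C t C.t = (sig C t).2.2.1 := by
  rcases t with _ | _ | j | _ | _ | _ | j | j | j | _ | _ | _ | j
  · simp [αOf, sig, αd, α4, C.hbb, C.hbb.symm, C.hbt, C.hbt.symm, C.hba, C.hba.symm, C.hb't, C.hb't.symm, C.hb'a, C.hb'a.symm, C.hta, C.hta.symm]
  · simp [αOf, sig, αd, α4, C.hbb, C.hbb.symm, C.hbt, C.hbt.symm, C.hba, C.hba.symm, C.hb't, C.hb't.symm, C.hb'a, C.hb'a.symm, C.hta, C.hta.symm]
  · simp [αOf, sig, αd, α4, C.hbb, C.hbb.symm, C.hbt, C.hbt.symm, C.hba, C.hba.symm, C.hb't, C.hb't.symm, C.hb'a, C.hb'a.symm, C.hta, C.hta.symm,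
      j.2.1, Ne.symm j.2.1, j.2.2.1, Ne.symm j.2.2.1, j.2.2.2.1, Ne.symm j.2.2.2.1, j.2.2.2.2, Ne.symm j.2.2.2.2]
  · simp [αOf, sig, αd, α4, C.hbb, C.hbb.symm, C.hbt, C.hbt.symm, C.hba, C.hba.symm, C.hb't, C.hb't.symm, C.hb'a, C.hb'a.symm, C.hta, C.hta.symm]
  · simp [αOf, sig, αd, α4, C.hbb, C.hbb.symm, C.hbt, C.hbt.symm, C.hba, C.hba.symm, C.hb't, C.hb't.symm, C.hb'a, C.hb'a.symm, C.hta, C.hta.symm]
  · simp [αOf, sig, αd, α4, C.hbb, C.hbb.symm, C.hbt, C.hbt.symm, C.hba, C.hba.symm, C.hb't, C.hb't.symm, C.hb'a, C.hb'a.symm, C.hta, C.hta.symm]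
  · simp [αOf, sig, αd, α4, C.hbb, C.hbb.symm, C.hbt, C.hbt.symm, C.hba, C.hba.symm, C.hb't, C.hb't.symm, C.hb'a, C.hb'a.symm, C.hta, C.hta.symm,
      j.2.1, Ne.symm j.2.1, j.2.2.1, Ne.symm j.2.2.1, j.2.2.2.1, Ne.symm j.2.2.2.1, j.2.2.2.2, Ne.symm j.2.2.2.2]
  · simp [αOf, sig, αd, α4, C.hbb, C.hbb.symm, C.hbt, C.hbt.symm, C.hba, C.hba.symm, C.hb't, C.hb't.symm, C.hb'a, C.hb'a.symm, C.hta, C.hta.symm,
      j.2.1, Ne.symm j.2.1, j.2.2.1, Ne.symm j.2.2.1, j.2.2.2.1, Ne.symm j.2.2.2.1, j.2.2.2.2, Ne.symm j.2.2.2.2]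
  · simp [αOf, sig, αd, α4, C.hbb, C.hbb.symm, C.hbt, C.hbt.symm, C.hba, C.hba.symm, C.hb't, C.hb't.symm, C.hb'a, C.hb'a.symm, C.hta, C.hta.symm,
      j.2.1, Ne.symm j.2.1, j.2.2.1, Ne.symm j.2.2.1, j.2.2.2.1, Ne.symm j.2.2.2.1, j.2.2.2.2, Ne.symm j.2.2.2.2]
  · simp [αOf, sig, αd, α4, C.hbb, C.hbb.symm, C.hbt, C.hbt.symm, C.hba, C.hba.symm, C.hb't, C.hb't.symm, C.hb'a, C.hb'a.symm, C.hta, C.hta.symm]
  · simp [αOf, sig, αd, α4, C.hbb, C.hbb.symm, C.hbt, C.hbt.symm, C.hba, C.hba.symm, C.hb't, C.hb't.symm, C.hb'a, C.hb'a.symm, C.hta, C.hta.symm]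
  · simp [αOf, sig, αd, α4, C.hbb, C.hbb.symm, C.hbt, C.hbt.symm, C.hba, C.hba.symm, C.hb't, C.hb't.symm, C.hb'a, C.hb'a.symm, C.hta, C.hta.symm]
  · simp [αOf, sig, αd, α4, C.hbb, C.hbb.symm, C.hbt, C.hbt.symm, C.hba, C.hba.symm, C.hb't, C.hb't.symm, C.hb'a, C.hb'a.symm, C.hta, C.hta.symm,
      j.2.1, Ne.symm j.2.1, j.2.2.1, Ne.symm j.2.2.1, j.2.2.2.1, Ne.symm j.2.2.2.1, j.2.2.2.2, Ne.symm j.2.2.2.2]

lemma αOf_a (t : TI C) : αOf C t C.a = (sig C t).2.2.2 := by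
  rcases t with _ | _ | j | _ | _ | _ | j | j | j | _ | _ | _ | j
  · simp [αOf, sig, αd, α4, C.hbb, C.hbb.symm, C.hbt, C.hbt.symm, C.hba, C.hba.symm, C.hb't, C.hb't.symm, C.hb'a, C.hb'a.symm, C.hta, C.hta.symm]
  · simp [αOf, sig, αd, α4, C.hbb, C.hbb.symm, C.hbt, C.hbt.symm, C.hba, C.hba.symm, C.hb't, C.hb't.symm, C.hb'a, C.hb'a.symm, C.hta, C.hta.symm]
  · simp [αOf, sig, αd, α4, C.hbb, C.hbb.symm, C.hbt, C.hbt.symm, C.hba, C.hba.symm, C.hb't, C.hb't.symm, C.hb'a, C.hb'a.symm, C.hta, C.hta.symm,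
      j.2.1, Ne.symm j.2.1, j.2.2.1, Ne.symm j.2.2.1, j.2.2.2.1, Ne.symm j.2.2.2.1, j.2.2.2.2, Ne.symm j.2.2.2.2]
  · simp [αOf, sig, αd, α4, C.hbb, C.hbb.symm, C.hbt, C.hbt.symm, C.hba, C.hba.symm, C.hb't, C.hb't.symm, C.hb'a, C.hb'a.symm, C.hta, C.hta.symm]
  · simp [αOf, sig, αd, α4, C.hbb, C.hbb.symm, C.hbt, C.hbt.symm, C.hba, C.hba.symm, C.hb't, C.hb't.symm, C.hb'a, C.hb'a.symm, C.hta, C.hta.symm]
  · simp [αOf, sig, αd, α4, C.hbb, C.hbb.symm, C.hbt, C.hbt.symm, C.hba, C.hba.symm, C.hb't, C.hb't.symm, C.hb'a, C.hb'a.symm, C.hta, C.hta.symm]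
  · simp [αOf, sig, αd, α4, C.hbb, C.hbb.symm, C.hbt, C.hbt.symm, C.hba, C.hba.symm, C.hb't, C.hb't.symm, C.hb'a, C.hb'a.symm, C.hta, C.hta.symm,
      j.2.1, Ne.symm j.2.1, j.2.2.1, Ne.symm j.2.2.1, j.2.2.2.1, Ne.symm j.2.2.2.1, j.2.2.2.2, Ne.symm j.2.2.2.2]
  · simp [αOf, sig, αd, α4, C.hbb, C.hbb.symm, C.hbt, C.hbt.symm, C.hba, C.hba.symm, C.hb't, C.hb't.symm, C.hb'a, C.hb'a.symm, C.hta, C.hta.symm,
      j.2.1, Ne.symm j.2.1, j.2.2.1, Ne.symm j.2.2.1, j.2.2.2.1, Ne.symm j.2.2.2.1, j.2.2.2.2, Ne.symm j.2.2.2.2]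
  · simp [αOf, sig, αd, α4, C.hbb, C.hbb.symm, C.hbt, C.hbt.symm, C.hba, C.hba.symm, C.hb't, C.hb't.symm, C.hb'a, C.hb'a.symm, C.hta, C.hta.symm,
      j.2.1, Ne.symm j.2.1, j.2.2.1, Ne.symm j.2.2.1, j.2.2.2.1, Ne.symm j.2.2.2.1, j.2.2.2.2, Ne.symm j.2.2.2.2]
  · simp [αOf, sig, αd, α4, C.hbb, C.hbb.symm, C.hbt, C.hbt.symm, C.hba, C.hba.symm, C.hb't, C.hb't.symm, C.hb'a, C.hb'a.symm, C.hta, C.hta.symm]
  · simp [αOf, sig, αd, α4, C.hbb, C.hbb.symm, C.hbt, C.hbt.symm, C.hba, C.hba.symm, C.hb't, C.hb't.symm, C.hb'a, C.hb'a.symm, C.hta, C.hta.symm]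
  · simp [αOf, sig, αd, α4, C.hbb, C.hbb.symm, C.hbt, C.hbt.symm, C.hba, C.hba.symm, C.hb't, C.hb't.symm, C.hb'a, C.hb'a.symm, C.hta, C.hta.symm]
  · simp [αOf, sig, αd, α4, C.hbb, C.hbb.symm, C.hbt, C.hbt.symm, C.hba, C.hba.symm, C.hb't, C.hb't.symm, C.hb'a, C.hb'a.symm, C.hta, C.hta.symm,
      j.2.1, Ne.symm j.2.1, j.2.2.1, Ne.symm j.2.2.1, j.2.2.2.1, Ne.symm j.2.2.2.1, j.2.2.2.2, Ne.symm j.2.2.2.2]

lemma αOf_injective : Function.Injective (αOf C) := by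
  intro t t' h
  have h1 : (sig C t).1 = (sig C t').1 := by rw [← αOf_b, ← αOf_b, h]
  have h2 : (sig C t).2.1 = (sig C t').2.1 := by rw [← αOf_b', ← αOf_b', h]
  have h3 : (sig C t).2.2.1 = (sig C t').2.2.1 := by rw [← αOf_t, ← αOf_t, h]
  have h4 : (sig C t).2.2.2 = (sig C t').2.2.2 := by rw [← αOf_a, ← αOf_a, h]
  rcases t with _ | _ | j | _ | _ | _ | j | j | j | _ | _ | _ | j <;>
    rcases t' with _ | _ | j' | _ | _ | _ | j' | j' | j' | _ | _ | _ | j' <;>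
    simp only [sig] at h1 h2 h3 h4 <;> try omega
  · rfl
  · rfl
  · have e := congrFun h j.1
    simp [αOf, αd, α4, j.2.1, j.2.2.1, j.2.2.2.1, j.2.2.2.2] at e
    rw [Subtype.ext e]
  · rfl
  · rfl
  · rfl
  · have e := congrFun h j.1
    simp [αOf, αd, α4, j.2.1, j.2.2.1, j.2.2.2.1, j.2.2.2.2] at e
    rw [Subtype.ext e]
  · have e := congrFun h j.1
    simp [αOf, αd, α4, j.2.1, j.2.2.1, j.2.2.2.1, j.2.2.2.2] at e
    rw [Subtype.ext e]
  · have e := congrFun h j.1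
    simp [αOf, αd, α4, j.2.1, j.2.2.1, j.2.2.2.1, j.2.2.2.2] at e
    rw [Subtype.ext e]
  · rfl
  · rfl
  · rfl
  · have e := congrFun h j.1
    simp [αOf, αd, α4, j.2.1, j.2.2.1, j.2.2.2.1, j.2.2.2.2] at e
    rw [Subtype.ext e]

lemma sum_αOf (t : TI C) : ∑ l, αOf C t l = 0 := by
  rcases t with _ | _ | j | _ | _ | _ | j | j | j | _ | _ | _ | j
  all_goals first | exact sum_αd _ _ | exact sum_α4 _ _ _ _

theorem finrank_piece (t0 : Mid C) (t : TI C) :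
    Module.finrank k ↥(tPiece (MI k (gI C)) (αOf C t)) = dOf C t := by
  rw [finrank_tPiece_eq]
  rcases t with _ | _ | j | _ | _ | _ | j | j | j | _ | _ | _ | j
  · show Module.finrank k ↥(V k (gI C) (αd C.a C.b)) = 2
    rw [finrank_typeI C t0 C.hba.symm, kind_a C, kind_b C]
    rfl
  · show Module.finrank k ↥(V k (gI C) (αd C.t C.b)) = 1
    rw [finrank_typeI C t0 C.hbt.symm, kind_t C, kind_b C]
    rfl
  · show Module.finrank k ↥(V k (gI C) (αd j.1 C.b)) = 1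
    rw [finrank_typeI C t0 j.2.1, kind_mid C j, kind_b C]
    rfl
  · show Module.finrank k ↥(V k (gI C) (αd C.b' C.b)) = 1
    rw [finrank_typeI C t0 C.hbb.symm, kind_b' C, kind_b C]
    rfl
  · show Module.finrank k ↥(V k (gI C) (αd C.a C.b')) = 3
    rw [finrank_typeI C t0 C.hb'a.symm, kind_a C, kind_b' C]
    rfl
  · show Module.finrank k ↥(V k (gI C) (αd C.t C.b')) = 2
    rw [finrank_typeI C t0 C.hb't.symm, kind_t C, kind_b' C]
    rfl
  · show Module.finrank k ↥(V k (gI C) (αd j.1 C.b')) = 1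
    rw [finrank_typeI C t0 j.2.2.1, kind_mid C j, kind_b' C]
    rfl
  · show Module.finrank k ↥(V k (gI C) (αd C.a j.1)) = 2
    rw [finrank_typeI C t0 (Ne.symm j.2.2.2.2), kind_a C, kind_mid C j]
    rfl
  · show Module.finrank k ↥(V k (gI C) (αd C.t j.1)) = 1
    rw [finrank_typeI C t0 (Ne.symm j.2.2.2.1), kind_t C, kind_mid C j]
    rfl
  · show Module.finrank k ↥(V k (gI C) (αd C.a C.t)) = 1
    rw [finrank_typeI C t0 C.hta.symm, kind_a C, kind_t C]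
    rfl
  · exact finrank_F1 C
  · exact finrank_F2 C
  · exact finrank_F3 C j

lemma typeI_range {x y : σ}
    (hns : ¬ ∀ K, adjK (kind C y) K = true → adjK (kind C x) K = true) :
    ∃ t : TI C, αOf C t = αd x y := by
  obtain ⟨Kx, hKx⟩ : ∃ K, kind C x = K := ⟨_, rfl⟩
  obtain ⟨Ky, hKy⟩ : ∃ K, kind C y = K := ⟨_, rfl⟩
  rw [hKx, hKy] at hns
  have ex : Kx = .kb → x = C.b := fun h => kind_eq_kb C (hKx.trans h)
  have ex' : Kx = .kb' → x = C.b' := fun h => kind_eq_kb' C (hKx.trans h)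
  have et : Kx = .kt → x = C.t := fun h => kind_eq_kt C (hKx.trans h)
  have ea : Kx = .ka → x = C.a := fun h => kind_eq_ka C (hKx.trans h)
  have ey : Ky = .kb → y = C.b := fun h => kind_eq_kb C (hKy.trans h)
  have ey' : Ky = .kb' → y = C.b' := fun h => kind_eq_kb' C (hKy.trans h)
  have eyt : Ky = .kt → y = C.t := fun h => kind_eq_kt C (hKy.trans h)
  have hmx : Kx = .km → ∃ j : Mid C, x = j.1 := by
    intro h
    rcases kind_cases C x with ⟨_, hk⟩ | ⟨_, hk⟩ | ⟨_, hk⟩ | ⟨_, hk⟩ | ⟨j, e, _⟩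
    · rw [hKx, h] at hk; cases hk
    · rw [hKx, h] at hk; cases hk
    · rw [hKx, h] at hk; cases hk
    · rw [hKx, h] at hk; cases hk
    · exact ⟨j, e⟩
  have hmy : Ky = .km → ∃ j : Mid C, y = j.1 := by
    intro h
    rcases kind_cases C y with ⟨_, hk⟩ | ⟨_, hk⟩ | ⟨_, hk⟩ | ⟨_, hk⟩ | ⟨j, e, _⟩
    · rw [hKy, h] at hk; cases hk
    · rw [hKy, h] at hk; cases hk
    · rw [hKy, h] at hk; cases hk
    · rw [hKy, h] at hk; cases hk
    · exact ⟨j, e⟩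
  cases Kx <;> cases Ky
  all_goals first
    | exact absurd (by decide) hns
    | skip
  · -- (kb', kb)
    rw [ex' rfl, ey rfl]
    exact ⟨Sum.inr (Sum.inr (Sum.inr (Sum.inl ()))), rfl⟩
  · -- (kt, kb)
    rw [et rfl, ey rfl]
    exact ⟨Sum.inr (Sum.inl ()), rfl⟩
  · -- (kt, kb')
    rw [et rfl, ey' rfl]
    exact ⟨Sum.inr (Sum.inr (Sum.inr (Sum.inr (Sum.inr (Sum.inl ()))))), rfl⟩
  · -- (kt, km)
    obtain ⟨j, hj⟩ := hmy rfl
    rw [et rfl, hj]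
    exact ⟨Sum.inr (Sum.inr (Sum.inr (Sum.inr (Sum.inr (Sum.inr (Sum.inr (Sum.inr (Sum.inl j)))))))),
      rfl⟩
  · -- (ka, kb)
    rw [ea rfl, ey rfl]
    exact ⟨Sum.inl (), rfl⟩
  · -- (ka, kb')
    rw [ea rfl, ey' rfl]
    exact ⟨Sum.inr (Sum.inr (Sum.inr (Sum.inr (Sum.inl ())))), rfl⟩
  · -- (ka, kt)
    rw [ea rfl, eyt rfl]
    exact ⟨Sum.inr (Sum.inr (Sum.inr (Sum.inr (Sum.inr (Sum.inr (Sum.inr (Sum.inr (Sum.inr
      (Sum.inl ()))))))))), rfl⟩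
  · -- (ka, km)
    obtain ⟨j, hj⟩ := hmy rfl
    rw [ea rfl, hj]
    exact ⟨Sum.inr (Sum.inr (Sum.inr (Sum.inr (Sum.inr (Sum.inr (Sum.inr (Sum.inl j))))))), rfl⟩
  · -- (km, kb)
    obtain ⟨j, hj⟩ := hmx rfl
    rw [hj, ey rfl]
    exact ⟨Sum.inr (Sum.inr (Sum.inl j)), rfl⟩
  · -- (km, kb')
    obtain ⟨j, hj⟩ := hmx rfl
    rw [hj, ey' rfl]
    exact ⟨Sum.inr (Sum.inr (Sum.inr (Sum.inr (Sum.inr (Sum.inr (Sum.inl j)))))), rfl⟩

theorem classify (t0 : Mid C) {α : σ → ℤ} (hsum : ∑ l, α l = 0) {c : GI (Mid C) → k}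
    (hc : c ∈ V k (gI C) α) {i : GI (Mid C)} (hne : c i ≠ 0) : ∃ t : TI C, αOf C t = α := by
  have hi : gI C i = gen (PI C i) (LI C i) := rfl
  rcases form_of_ne_zero (isQuad C) hsum hc hne hi with
    ⟨x, y, hxy, -, rfl⟩ | ⟨x, x', h1, h2, h3, h4, hxx, rfl⟩
  · apply typeI_range C
    intro hsub
    apply hne
    apply V_zero_typeI (isQuad C) hxy _ hc i
    intro z hz
    rw [adj_iff] at hz ⊢
    exact hsub _ hz
  · rcases typeII_form C t0 h1 h2 h3 h4 hxx hc hne with h | h | ⟨j, h⟩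
    · exact ⟨Sum.inr (Sum.inr (Sum.inr (Sum.inr (Sum.inr (Sum.inr (Sum.inr (Sum.inr (Sum.inr
        (Sum.inr (Sum.inl ())))))))))), h.symm⟩
    · exact ⟨Sum.inr (Sum.inr (Sum.inr (Sum.inr (Sum.inr (Sum.inr (Sum.inr (Sum.inr (Sum.inr
        (Sum.inr (Sum.inr (Sum.inl ()))))))))))), h.symm⟩
    · exact ⟨Sum.inr (Sum.inr (Sum.inr (Sum.inr (Sum.inr (Sum.inr (Sum.inr (Sum.inr (Sum.inr
        (Sum.inr (Sum.inr (Sum.inr j))))))))))), h.symm⟩

theorem tPiece_eq_bot (t0 : Mid C) {α : σ → ℤ} (hsum : ∑ l, α l = 0)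
    (hnot : ¬ ∃ t : TI C, αOf C t = α) : tPiece (MI k (gI C)) α = ⊥ := by
  apply tPiece_eq_bot_of_V (gI C) α
  intro c hc i
  by_contra hne
  exact hnot (classify C t0 hsum hc hne)

lemma sum_dOf : ∑ t, dOf C t = 6 * Fintype.card (Mid C) + 12 := by
  simp only [Fintype.sum_sum_type, dOf, Finset.sum_const, Finset.card_univ, smul_eq_mul,
    Fintype.card_unit]
  ring

lemma card_Mid : Fintype.card (Mid C) = Fintype.card σ - 4 := by
  rw [Fintype.card_subtype]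
  have h : (Finset.univ.filter (fun x : σ => x ≠ C.b ∧ x ≠ C.b' ∧ x ≠ C.t ∧ x ≠ C.a)) =
      Finset.univ \ {C.b, C.b', C.t, C.a} := by
    ext x
    simp [not_or]
  rw [h, Finset.card_sdiff_of_subset (Finset.subset_univ _), Finset.card_univ,
    Finset.card_insert_of_notMem, Finset.card_insert_of_notMem, Finset.card_insert_of_notMem,
    Finset.card_singleton]
  · simp [C.hta]
  · simp [C.hb't, C.hb'a]
  · simp [C.hbb, C.hbt, C.hba]

theorem finrank_degree_zero (t0 : Mid C) :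
    Module.finrank k ↥(⨆ α : {α : σ → ℤ // ∑ l, α l = 0}, tPiece (MI k (gI C)) α.1) =
      6 * Fintype.card (Mid C) + 12 := by
  classical
  have hfr : ∀ α ∈ Finset.univ.image (αOf C), FiniteDimensional k ↥(tPiece (MI k (gI C)) α) := by
    intro α hα
    rw [Finset.mem_image] at hα
    obtain ⟨t, -, rfl⟩ := hα
    apply FiniteDimensional.of_finrank_pos
    rw [finrank_piece C t0 t]
    rcases t with _ | _ | j | _ | _ | _ | j | j | j | _ | _ | _ | j <;> simp [dOf]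
  rw [iSup_subtype_eq_biSup (fun α => ∑ l, α l = 0) (Finset.univ.image (αOf C))]
  · have h := Groth.Agent.Lib.Helper24TwoBlk.finrank_biSup_tPiece' (isMonomial_MI (k := k) (gI C))
      (Finset.univ.image (αOf C)) hfr
    rw [h.2, Finset.sum_image (fun t _ t' _ h => αOf_injective C h),
      Finset.sum_congr rfl (fun t _ => finrank_piece C t0 t), sum_dOf]
  · intro α hα
    rw [Finset.mem_image] at hα
    obtain ⟨t, -, rfl⟩ := hα
    exact sum_αOf C t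
  · intro α hsum hα
    apply tPiece_eq_bot C t0 hsum
    rintro ⟨t, ht⟩
    apply hα
    rw [Finset.mem_image]
    exact ⟨t, Finset.mem_univ _, ht⟩

end Assembly

section Final

theorem s13448 (k : Type u) [Field k] (n : ℕ) (hn : 4 ≤ n) :
    Module.finrank k ↥(⨆ α : {α : Fin (n + 1) → ℤ // ∑ i, α i = 0}, tPiece (Ideal.span ({f : MvPolynomial (Fin (n + 1)) k | ∃ i : Fin (n + 1), i.val + 1 ≤ n ∧ f = MvPolynomial.X 0 * MvPolynomial.X i} ∪ {f : MvPolynomial (Fin (n + 1)) k | ∃ i : Fin (n + 1), 1 ≤ i.val ∧ i.val ≤ n - 2 ∧ f = MvPolynomial.X 1 * MvPolynomial.X i})) α.1) = 6 * n - 6 := by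
  classical
  obtain ⟨m, rfl⟩ : ∃ m, n = m + 4 := ⟨n - 4, by omega⟩
  have hv0 : ((0 : Fin (m + 4 + 1)) : ℕ) = 0 := rfl
  have hv1 : ((1 : Fin (m + 4 + 1)) : ℕ) = 1 := by simp
  have hne : ∀ {x y : Fin (m + 4 + 1)}, x.val ≠ y.val → x ≠ y := fun h e => h (congrArg Fin.val e)
  let C : Cfg (Fin (m + 4 + 1)) := ⟨0, 1, ⟨m + 3, by omega⟩, Fin.last (m + 4),
    hne (by rw [hv0, hv1]; omega), hne (by rw [hv0]; simp), hne (by rw [hv0, Fin.val_last]; omega),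
    hne (by rw [hv1]; simp), hne (by rw [hv1, Fin.val_last]; omega),
    hne (by rw [Fin.val_last]; simp)⟩
  have hCb : C.b = 0 := rfl
  have hCb' : C.b' = 1 := rfl
  have hCt : (C.t : ℕ) = m + 3 := rfl
  have hCa : C.a = Fin.last (m + 4) := rfl
  have mkMid : ∀ i : Fin (m + 4 + 1), 2 ≤ i.val → i.val ≤ m + 2 →
      i ≠ C.b ∧ i ≠ C.b' ∧ i ≠ C.t ∧ i ≠ C.a := by
    intro i h1 h2
    refine ⟨hne ?_, hne ?_, hne ?_, hne ?_⟩
    · rw [hCb, hv0]; omega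
    · rw [hCb', hv1]; omega
    · rw [hCt]; omega
    · rw [hCa, Fin.val_last]; omega
  have midVal : ∀ x : Mid C, 2 ≤ x.1.val ∧ x.1.val ≤ m + 2 := by
    intro x
    have h1 : x.1.val ≠ 0 := fun h => x.2.1 (Fin.ext (h.trans (by rw [hCb, hv0])))
    have h2 : x.1.val ≠ 1 := fun h => x.2.2.1 (Fin.ext (h.trans (by rw [hCb', hv1])))
    have h3 : x.1.val ≠ m + 3 := fun h => x.2.2.2.1 (Fin.ext (h.trans hCt.symm))
    have h4 : x.1.val ≠ m + 4 := fun h => x.2.2.2.2 (Fin.ext (h.trans (by rw [hCa, Fin.val_last])))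
    have := x.1.isLt
    omega
  have t0 : Mid C := ⟨⟨2, by omega⟩, mkMid _ (by simp) (by simp)⟩
  have hmono : ∀ p l : Fin (m + 4 + 1), monomial (gen p l) (1:k) = X p * X l := by
    intro p l
    unfold gen
    rw [X, X, monomial_mul, one_mul]
  have hI : (Ideal.span ({f : MvPolynomial (Fin (m + 4 + 1)) k | ∃ i : Fin (m + 4 + 1), i.val + 1 ≤ m + 4 ∧ f = MvPolynomial.X 0 * MvPolynomial.X i} ∪ {f : MvPolynomial (Fin (m + 4 + 1)) k | ∃ i : Fin (m + 4 + 1), 1 ≤ i.val ∧ i.val ≤ m + 4 - 2 ∧ f = MvPolynomial.X 1 * MvPolynomial.X i})) = MI k (gI C) := by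
    unfold MI
    congr 1
    ext f
    simp only [Set.mem_union, Set.mem_setOf_eq, Set.mem_image, Set.mem_range]
    constructor
    · rintro (⟨i, hi, rfl⟩ | ⟨i, hi1, hi2, rfl⟩)
      · by_cases h0 : i.val = 0
        · have : i = 0 := Fin.ext h0
          subst this
          exact ⟨_, ⟨.bb, rfl⟩, hmono _ _⟩
        by_cases h1 : i.val = 1
        · have : i = 1 := Fin.ext (by rw [hv1]; exact h1)
          subst this
          exact ⟨_, ⟨.bb', rfl⟩, hmono _ _⟩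
        by_cases h3 : i.val = m + 3
        · have : i = C.t := Fin.ext (by rw [hCt]; exact h3)
          subst this
          exact ⟨_, ⟨.bt, rfl⟩, hmono _ _⟩
        exact ⟨_, ⟨.bm ⟨i, mkMid i (by omega) (by omega)⟩, rfl⟩, hmono _ _⟩
      · by_cases h1 : i.val = 1
        · have : i = 1 := Fin.ext (by rw [hv1]; exact h1)
          subst this
          exact ⟨_, ⟨.b'b', rfl⟩, hmono _ _⟩
        exact ⟨_, ⟨.b'm ⟨i, mkMid i (by omega) (by omega)⟩, rfl⟩, hmono _ _⟩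
    · rintro ⟨β, ⟨i, rfl⟩, rfl⟩
      cases i with
      | bb => exact Or.inl ⟨0, by have := hv0; omega, hmono _ _⟩
      | bb' => exact Or.inl ⟨1, by have := hv1; omega, hmono _ _⟩
      | bt => exact Or.inl ⟨C.t, by have := hCt; omega, hmono _ _⟩
      | b'b' => exact Or.inr ⟨1, by have := hv1; omega, by have := hv1; omega, hmono _ _⟩
      | bm x =>
        have := midVal x
        exact Or.inl ⟨x.1, by omega, hmono _ _⟩
      | b'm x =>
        have := midVal x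
        exact Or.inr ⟨x.1, by omega, by omega, hmono _ _⟩
  rw [hI, finrank_degree_zero C t0, card_Mid, Fintype.card_fin]
  omega

end Final

end Groth.Agent.Lib.Helper24Nest2
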