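import Mathlib

/-!
# The no-name lemma (abstract field-theoretic form)

`G` a finite group of `k`-automorphisms of a field `M`, `Lx` a `G`-stable intermediate field on
which `G` acts faithfully, `y` a finite family algebraically independent over `Lx`, generating `M`
over `Lx`, whose `Lx`-span is `G`-stable.  Then `M^G` is purely transcendental over `Lx ∩ M^G`,
generated by `m` algebraically independent elements (Speiser's lemma + Artin's degree count).
-/

open IntermediateField

namespace Helper24NoName1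

variable {k M : Type*} [Field k] [Field M] [Algebra k M]

/-- restriction of an automorphism to a stable intermediate field, as a monoid hom -/
def rs (Lx : IntermediateField k M) (σ : M ≃ₐ[k] M) (h : ∀ a : M, a ∈ Lx → σ a ∈ Lx) : ↥Lx →* ↥Lx where
  toFun a := ⟨σ (a : M), h a a.2⟩
  map_one' := Subtype.ext (map_one σ)
  map_mul' a b := Subtype.ext (map_mul σ (a : M) (b : M))

/-- Speiser's lemma / Galois descent: a `G`-stable `Lx`-subspace of `M` is spanned by its
`G`-invariant vectors (where `G` acts faithfully on the `G`-stable subfield `Lx`). -/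
theorem speiser (G : Subgroup (M ≃ₐ[k] M)) [Finite G] (Lx : IntermediateField k M)
    (hstab : ∀ σ ∈ G, ∀ a ∈ Lx, σ a ∈ Lx)
    (hfaith : ∀ σ ∈ G, (∀ a ∈ Lx, σ a = a) → σ = 1)
    (E : Submodule ↥Lx M) (hE : ∀ σ ∈ G, ∀ e ∈ E, σ e ∈ E) :
    E ≤ Submodule.span ↥Lx ((E : Set M) ∩ (fixedField G : Set M)) := by
  classical
  have := Fintype.ofFinite G
  intro e he
  by_contra hne
  obtain ⟨φ, hφe, hφW⟩ := Submodule.exists_dual_map_eq_bot_of_notMem hne inferInstance
  -- characters
  let χ : ↥G → (↥Lx →* ↥Lx) := fun σ => rs Lx σ.1 (hstab σ.1 σ.2)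
  have hχ : Function.Injective χ := by
    intro σ τ h
    have h1 : ∀ a ∈ Lx, (τ⁻¹ * σ : ↥G).1 a = a := by
      intro a ha
      have := congrArg (fun f => ((f ⟨a, ha⟩ : ↥Lx) : M)) h
      simp only [χ, rs, MonoidHom.coe_mk, OneHom.coe_mk] at this
      simp [AlgEquiv.mul_apply, this]
    have h2 := hfaith _ (τ⁻¹ * σ).2 h1
    have h3 : τ⁻¹ * σ = 1 := Subtype.ext h2
    have : σ = τ := by
      have := congrArg (fun g => τ * g) h3
      simpa using this
    exact this
  have hli := (linearIndependent_monoidHom ↥Lx ↥Lx).comp χ hχ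
  have hsum : ∑ σ : ↥G, φ (σ.1 e) • ((fun f : ↥Lx →* ↥Lx => (f : ↥Lx → ↥Lx)) ∘ χ) σ = 0 := by
    funext l
    simp only [Finset.sum_apply, Pi.smul_apply, Function.comp_apply, smul_eq_mul, Pi.zero_apply]
    -- trace of l • e
    have htr : (∑ σ : ↥G, σ.1 ((l : M) * e)) ∈
        Submodule.span ↥Lx ((E : Set M) ∩ (fixedField G : Set M)) := by
      apply Submodule.subset_span
      refine ⟨?_, ?_⟩
      · apply Submodule.sum_mem
        intro σ _
        apply hE σ.1 σ.2
        have : (l : M) * e = l • e := rfl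
        rw [this]
        exact E.smul_mem l he
      · rw [SetLike.mem_coe, IntermediateField.mem_fixedField_iff]
        intro τ hτ
        rw [map_sum]
        exact Fintype.sum_equiv (Equiv.mulLeft (⟨τ, hτ⟩ : ↥G)) _ _ (fun σ => rfl)
    have h0 : φ (∑ σ : ↥G, σ.1 ((l : M) * e)) = 0 := by
      have : φ (∑ σ : ↥G, σ.1 ((l : M) * e)) ∈ Submodule.map φ
          (Submodule.span ↥Lx ((E : Set M) ∩ (fixedField G : Set M))) :=
        Submodule.mem_map_of_mem htr
      rw [hφW] at this
      exact (Submodule.mem_bot (R := ↥Lx)).1 this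
    rw [map_sum] at h0
    rw [← h0]
    apply Finset.sum_congr rfl
    intro σ _
    have : σ.1 ((l : M) * e) = (χ σ l) • (σ.1 e) := by
      rw [map_mul]; rfl
    rw [this, map_smul, smul_eq_mul, mul_comm]
  have := Fintype.linearIndependent_iff.1 hli _ hsum 1
  exact hφe (by simpa using this)

/-- the restricted action of `G` on a stable intermediate field -/
@[reducible] def actLx (G : Subgroup (M ≃ₐ[k] M)) (Lx : IntermediateField k M)
    (hstab : ∀ σ ∈ G, ∀ a ∈ Lx, σ a ∈ Lx) : MulSemiringAction ↥G ↥Lx where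
  smul σ a := ⟨σ.1 (a : M), hstab σ.1 σ.2 a a.2⟩
  one_smul a := Subtype.ext rfl
  mul_smul σ τ a := Subtype.ext rfl
  smul_zero σ := Subtype.ext (map_zero σ.1)
  smul_add σ a b := Subtype.ext (map_add σ.1 (a : M) (b : M))
  smul_one σ := Subtype.ext (map_one σ.1)
  smul_mul σ a b := Subtype.ext (map_mul σ.1 (a : M) (b : M))

theorem finrank_inf_fixedField (G : Subgroup (M ≃ₐ[k] M)) [Finite G] (Lx : IntermediateField k M)
    (hstab : ∀ σ ∈ G, ∀ a ∈ Lx, σ a ∈ Lx) :
    FiniteDimensional ↥(Lx ⊓ fixedField G)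
      ↥(extendScalars (inf_le_left : Lx ⊓ fixedField G ≤ Lx)) ∧
    Module.finrank ↥(Lx ⊓ fixedField G)
      ↥(extendScalars (inf_le_left : Lx ⊓ fixedField G ≤ Lx)) ≤ Nat.card G := by
  classical
  have := Fintype.ofFinite G
  letI := actLx G Lx hstab
  have hsm : ∀ (σ : ↥G) (a : ↥Lx), ((σ • a : ↥Lx) : M) = σ.1 (a : M) := fun _ _ => rfl
  let i : ↥(FixedPoints.subfield ↥G ↥Lx) ≃+* ↥(Lx ⊓ fixedField G) :=
    { toFun := fun a => ⟨((a : ↥Lx) : M), ⟨(a : ↥Lx).2, by
        rw [SetLike.mem_coe, IntermediateField.mem_fixedField_iff]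
        intro σ hσ
        have := a.2 ⟨σ, hσ⟩
        exact congrArg Subtype.val this⟩⟩
      invFun := fun b => ⟨⟨(b : M), b.2.1⟩, by
        intro σ
        apply Subtype.ext
        have h2 := b.2.2
        rw [SetLike.mem_coe, IntermediateField.mem_fixedField_iff] at h2
        exact h2 σ.1 σ.2⟩
      left_inv := fun a => rfl
      right_inv := fun b => rfl
      map_mul' := fun a b => rfl
      map_add' := fun a b => rfl }
  let j : ↥Lx ≃+* ↥(extendScalars (inf_le_left : Lx ⊓ fixedField G ≤ Lx)) :=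
    { toFun := fun a => ⟨(a : M), a.2⟩
      invFun := fun b => ⟨(b : M), b.2⟩
      left_inv := fun a => rfl
      right_inv := fun b => rfl
      map_mul' := fun a b => rfl
      map_add' := fun a b => rfl }
  have hc : (algebraMap ↥(Lx ⊓ fixedField G)
      ↥(extendScalars (inf_le_left : Lx ⊓ fixedField G ≤ Lx))).comp i.toRingHom =
      j.toRingHom.comp (algebraMap ↥(FixedPoints.subfield ↥G ↥Lx) ↥Lx) := by
    ext a
    rfl
  refine ⟨Module.Finite.of_equiv_equiv i j hc, ?_⟩
  rw [← Algebra.finrank_eq_of_equiv_equiv i j hc, Nat.card_eq_fintype_card]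
  exact FixedPoints.finrank_le_card ↥G ↥Lx

/-- existence of an invariant basis -/
theorem exists_invariant_basis (G : Subgroup (M ≃ₐ[k] M)) [Finite G] (Lx : IntermediateField k M)
    (hstab : ∀ σ ∈ G, ∀ a ∈ Lx, σ a ∈ Lx)
    (hfaith : ∀ σ ∈ G, (∀ a ∈ Lx, σ a = a) → σ = 1)
    {m : ℕ} (y : Fin m → M)
    (hy : ∀ σ ∈ G, ∀ i, σ (y i) ∈ Submodule.span ↥Lx (Set.range y))
    (hyli : LinearIndependent ↥Lx y) :
    ∃ t : Fin m → M, (∀ i, t i ∈ fixedField G) ∧
      Submodule.span ↥Lx (Set.range t) = Submodule.span ↥Lx (Set.range y) ∧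
      LinearIndependent ↥Lx t := by
  classical
  set E : Submodule ↥Lx M := Submodule.span ↥Lx (Set.range y) with hEdef
  have hE : ∀ σ ∈ G, ∀ e ∈ E, σ e ∈ E := by
    intro σ hσ e he
    induction he using Submodule.span_induction with
    | mem x hx =>
      obtain ⟨i, rfl⟩ := hx
      exact hy σ hσ i
    | zero => rw [map_zero]; exact E.zero_mem
    | add a b _ _ ha hb => rw [map_add]; exact E.add_mem ha hb
    | smul c a _ ha =>
      have : σ (c • a) = (⟨σ (c : M), hstab σ hσ c c.2⟩ : ↥Lx) • σ a := by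
        change σ ((c : M) * a) = σ (c : M) * σ a
        rw [map_mul]
      rw [this]
      exact E.smul_mem _ ha
  have hsp := speiser G Lx hstab hfaith E hE
  set S : Set M := (E : Set M) ∩ (fixedField G : Set M) with hS
  have hspan : Submodule.span ↥Lx S = E :=
    le_antisymm (Submodule.span_le.2 Set.inter_subset_left) hsp
  have hfin : Module.Finite ↥Lx ↥(Submodule.span ↥Lx S) := by
    rw [hspan]
    exact FiniteDimensional.span_of_finite _ (Set.finite_range y)
  obtain ⟨f, hfS, hfspan, hfli⟩ := Submodule.exists_fun_fin_finrank_span_eq ↥Lx S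
  have hm : Module.finrank ↥Lx (Submodule.span ↥Lx S) = m := by
    rw [hspan, hEdef, finrank_span_eq_card hyli, Fintype.card_fin]
  refine ⟨f ∘ (finCongr hm.symm), ?_, ?_, ?_⟩
  · intro i
    exact (hfS _).2
  · rw [(finCongr hm.symm).surjective.range_comp, hfspan, hspan]
  · exact hfli.comp _ (finCongr hm.symm).injective

theorem noname (G : Subgroup (M ≃ₐ[k] M)) [Finite G] (Lx : IntermediateField k M)
    (hstab : ∀ σ ∈ G, ∀ a ∈ Lx, σ a ∈ Lx)
    (hfaith : ∀ σ ∈ G, (∀ a ∈ Lx, σ a = a) → σ = 1)
    {m : ℕ} (y : Fin m → M)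
    (hy : ∀ σ ∈ G, ∀ i, σ (y i) ∈ Submodule.span ↥Lx (Set.range y))
    (hyind : AlgebraicIndependent ↥Lx y)
    (htop : IntermediateField.adjoin ↥Lx (Set.range y) = ⊤) :
    ∃ t : Fin m → M, AlgebraicIndependent ↥(Lx ⊓ fixedField G) t ∧
      IntermediateField.restrictScalars k
        (IntermediateField.adjoin ↥(Lx ⊓ fixedField G) (Set.range t)) = fixedField G := by
  classical
  obtain ⟨t, htK, htspan, htli⟩ :=
    exists_invariant_basis G Lx hstab hfaith y hy hyind.linearIndependent
  have hyt : ∀ j, y j ∈ Submodule.span ↥Lx (Set.range t) := fun j =>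
    htspan ▸ Submodule.subset_span ⟨j, rfl⟩
  refine ⟨t, ?_, ?_⟩
  · have htop' : IntermediateField.adjoin ↥Lx (Set.range t) = ⊤ := by
      rw [eq_top_iff, ← htop, adjoin_le_iff]
      rintro _ ⟨j, rfl⟩
      refine Submodule.span_le
        (p := (adjoin ↥Lx (Set.range t)).toSubalgebra.toSubmodule).2 ?_ (hyt j)
      exact subset_adjoin _ _
    have halg : Algebra.IsAlgebraic ↥(Algebra.adjoin ↥Lx (Set.range t)) M := by
      rw [← IntermediateField.isAlgebraic_adjoin_iff_top, htop']
      exact ⟨fun a => isAlgebraic_algebraMap (⟨a, mem_top⟩ : ↥(⊤ : IntermediateField ↥Lx M))⟩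
    have hLx : AlgebraicIndependent ↥Lx t :=
      (Algebra.IsAlgebraic.isTranscendenceBasis_of_lift_le_trdeg_of_finite ↥Lx t
        hyind.lift_cardinalMk_le_trdeg).1
    letI : Algebra ↥(Lx ⊓ fixedField G) ↥Lx :=
      (IntermediateField.inclusion inf_le_left).toRingHom.toAlgebra
    haveI : IsScalarTower ↥(Lx ⊓ fixedField G) ↥Lx M :=
      IsScalarTower.of_algebraMap_eq (fun _ => rfl)
    exact hLx.restrictScalars (algebraMap ↥(Lx ⊓ fixedField G) ↥Lx).injective
  · set F := Lx ⊓ fixedField G with hF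
    set T := IntermediateField.adjoin ↥F (Set.range t) with hT
    have hle : IntermediateField.restrictScalars k T ≤ fixedField G := by
      rw [hT, restrictScalars_adjoin, adjoin_le_iff]
      rintro a (ha | ⟨i, rfl⟩)
      · exact ha.2
      · exact htK i
    set L' := extendScalars (inf_le_left : Lx ⊓ fixedField G ≤ Lx) with hL'
    obtain ⟨hfd, hcard⟩ := finrank_inf_fixedField G Lx hstab
    have halg : Algebra.IsAlgebraic ↥F ↥L' := Algebra.IsAlgebraic.of_finite _ _
    have hrank := adjoin_rank_le_of_isAlgebraic_right (F := ↥F) ↥T (K := M) L'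
    have htop2 : adjoin ↥T (L' : Set M) = ⊤ := by
      rw [eq_top_iff]
      intro a _
      have key : ∀ v ∈ Submodule.span ↥Lx (Set.range t), v ∈ adjoin ↥T (L' : Set M) := by
        intro v h2
        induction h2 using Submodule.span_induction with
        | mem x hx =>
          obtain ⟨i, rfl⟩ := hx
          exact (adjoin ↥T (L' : Set M)).algebraMap_mem
            (⟨t i, subset_adjoin _ _ ⟨i, rfl⟩⟩ : ↥T)
        | zero => exact zero_mem _
        | add a b _ _ ha hb => exact add_mem ha hb
        | smul c a _ ha =>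
          exact mul_mem (subset_adjoin _ _ c.2) ha
      have ha : a ∈ adjoin ↥Lx (Set.range y) := htop ▸ mem_top
      induction ha using IntermediateField.adjoin_induction with
      | mem x hx =>
        obtain ⟨j, rfl⟩ := hx
        exact key _ (hyt j)
      | algebraMap c => exact subset_adjoin _ _ c.2
      | add a b _ _ ha hb => exact add_mem (ha mem_top) (hb mem_top)
      | inv a _ ha => exact inv_mem (ha mem_top)
      | mul a b _ _ ha hb => exact mul_mem (ha mem_top) (hb mem_top)
    rw [htop2, rank_top'] at hrank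
    have hfin : FiniteDimensional ↥T M :=
      IsNoetherian.iff_fg.1 (IsNoetherian.iff_rank_lt_aleph0.2 <|
        hrank.trans_lt (Module.rank_lt_aleph0 ↥F ↥L'))
    have hfr : Module.finrank ↥T M ≤ Nat.card G :=
      (Cardinal.toNat_le_toNat hrank (Module.rank_lt_aleph0 ↥F ↥L')).trans hcard
    have hfin' : FiniteDimensional ↥(IntermediateField.restrictScalars k T) M := hfin
    refine eq_of_le_of_finrank_le' hle ?_
    have hK : Module.finrank ↥(fixedField G) M = Nat.card G := by
      have := Fintype.ofFinite G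
      rw [Nat.card_eq_fintype_card]
      exact FixedPoints.finrank_eq_card G M
    rw [hK]
    exact hfr

end Helper24NoName1
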