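import Mathlib
import Groth.Prelude.Def_W4c2brnrinvarInvFld
import Groth.Agent.Lib.Helper24NoName1

/-!
# The no-name lemma for rational function fields `k(x, y)`

Concrete form of `Helper24NoName1.noname` for `InvFld.Fld (Fin n ⊕ Fin m) k`, in the two symmetric
versions (faithful on the `inl` variables / on the `inr` variables).
-/

open IntermediateField

namespace Helper24NoName2

variable {k : Type*} [Field k] {ι : Type*}

theorem algebraMap_mem_adjoin_X (p : MvPolynomial ι k) :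
    algebraMap (MvPolynomial ι k) (InvFld.Fld ι k) p ∈
      adjoin k (Set.range (InvFld.X : ι → InvFld.Fld ι k)) := by
  induction p using MvPolynomial.induction_on with
  | C a =>
    have : algebraMap (MvPolynomial ι k) (InvFld.Fld ι k) (MvPolynomial.C a) =
        algebraMap k (InvFld.Fld ι k) a := by
      rw [IsScalarTower.algebraMap_apply k (MvPolynomial ι k) (InvFld.Fld ι k)]
      rfl
    rw [this]
    exact IntermediateField.algebraMap_mem _ _
  | add p q hp hq => rw [map_add]; exact add_mem hp hq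
  | mul_X p i hp =>
    rw [map_mul]
    exact mul_mem hp (subset_adjoin _ _ ⟨i, rfl⟩)

theorem adjoin_X_eq_top :
    adjoin k (Set.range (InvFld.X : ι → InvFld.Fld ι k)) = ⊤ := by
  rw [eq_top_iff]
  intro a _
  obtain ⟨p, q, _, rfl⟩ := IsFractionRing.div_surjective (A := MvPolynomial ι k) a
  exact div_mem (algebraMap_mem_adjoin_X p) (algebraMap_mem_adjoin_X q)

theorem algebraicIndependent_X :
    AlgebraicIndependent k (InvFld.X : ι → InvFld.Fld ι k) :=
  (MvPolynomial.algebraicIndependent_X ι k).map'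
    (f := IsScalarTower.toAlgHom k (MvPolynomial ι k) (InvFld.Fld ι k))
    (IsFractionRing.injective (MvPolynomial ι k) (InvFld.Fld ι k))

/-- the `y`-variables are algebraically independent over `k(x)` inside `k(x,y)` -/
theorem algebraicIndependent_inr {α β : Type*} :
    AlgebraicIndependent
      ↥(adjoin k (Set.range fun j : α => (InvFld.X (Sum.inl j) : InvFld.Fld (α ⊕ β) k)))
      (fun j : β => (InvFld.X (Sum.inr j) : InvFld.Fld (α ⊕ β) k)) := by
  rw [IntermediateField.algebraicIndependent_adjoin_iff]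
  have h := (algebraicIndependent_X (k := k) (ι := α ⊕ β)).comp (Equiv.sumComm β α)
    (Equiv.sumComm β α).injective
  have h2 : (InvFld.X : α ⊕ β → InvFld.Fld (α ⊕ β) k) ∘ (Equiv.sumComm β α) =
      Sum.elim (fun j : β => (InvFld.X (Sum.inr j) : InvFld.Fld (α ⊕ β) k))
        (fun j : α => (InvFld.X (Sum.inl j) : InvFld.Fld (α ⊕ β) k)) := by
    funext i
    cases i <;> rfl
  rw [h2] at h
  exact (AlgebraicIndependent.sumElim_iff.1 h).2

theorem algebraicIndependent_inl {α β : Type*} :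
    AlgebraicIndependent
      ↥(adjoin k (Set.range fun j : β => (InvFld.X (Sum.inr j) : InvFld.Fld (α ⊕ β) k)))
      (fun j : α => (InvFld.X (Sum.inl j) : InvFld.Fld (α ⊕ β) k)) := by
  rw [IntermediateField.algebraicIndependent_adjoin_iff]
  have h := (algebraicIndependent_X (k := k) (ι := α ⊕ β))
  have h2 : (InvFld.X : α ⊕ β → InvFld.Fld (α ⊕ β) k) =
      Sum.elim (fun j : α => (InvFld.X (Sum.inl j) : InvFld.Fld (α ⊕ β) k))
        (fun j : β => (InvFld.X (Sum.inr j) : InvFld.Fld (α ⊕ β) k)) := by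
    funext i
    cases i <;> rfl
  rw [h2] at h
  exact (AlgebraicIndependent.sumElim_iff.1 h).2

/-- `k(x)(y) = k(x,y)` -/
theorem adjoin_adjoin_inl_inr {α β : Type*} :
    adjoin ↥(adjoin k (Set.range fun j : α => (InvFld.X (Sum.inl j) : InvFld.Fld (α ⊕ β) k)))
      (Set.range fun j : β => (InvFld.X (Sum.inr j) : InvFld.Fld (α ⊕ β) k)) = ⊤ := by
  rw [eq_top_iff]
  intro a _
  have ha : a ∈ adjoin k (Set.range (InvFld.X : α ⊕ β → InvFld.Fld (α ⊕ β) k)) := by
    rw [adjoin_X_eq_top]; exact mem_top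
  rw [← mem_restrictScalars k, restrictScalars_adjoin]
  refine adjoin.mono k _ _ ?_ ha
  rintro _ ⟨i, rfl⟩
  cases i with
  | inl i => exact Or.inl (subset_adjoin _ _ ⟨i, rfl⟩)
  | inr i => exact Or.inr ⟨i, rfl⟩

theorem adjoin_adjoin_inr_inl {α β : Type*} :
    adjoin ↥(adjoin k (Set.range fun j : β => (InvFld.X (Sum.inr j) : InvFld.Fld (α ⊕ β) k)))
      (Set.range fun j : α => (InvFld.X (Sum.inl j) : InvFld.Fld (α ⊕ β) k)) = ⊤ := by
  rw [eq_top_iff]
  intro a _
  have ha : a ∈ adjoin k (Set.range (InvFld.X : α ⊕ β → InvFld.Fld (α ⊕ β) k)) := by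
    rw [adjoin_X_eq_top]; exact mem_top
  rw [← mem_restrictScalars k, restrictScalars_adjoin]
  refine adjoin.mono k _ _ ?_ ha
  rintro _ ⟨i, rfl⟩
  cases i with
  | inr i => exact Or.inl (subset_adjoin _ _ ⟨i, rfl⟩)
  | inl i => exact Or.inr ⟨i, rfl⟩

theorem stable_adjoin {M : Type*} [Field M] [Algebra k M] (σ : M ≃ₐ[k] M) {ι : Type*} (x : ι → M)
    (h : ∀ i, σ (x i) ∈ Submodule.span k (Set.range x)) :
    ∀ a ∈ adjoin k (Set.range x), σ a ∈ adjoin k (Set.range x) := by
  intro a ha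
  have h1 : σ a ∈ (adjoin k (Set.range x)).map (σ : M →ₐ[k] M) := ⟨a, ha, rfl⟩
  rw [adjoin_map] at h1
  refine adjoin_le_iff.2 ?_ h1
  rintro _ ⟨_, ⟨i, rfl⟩, rfl⟩
  exact Submodule.span_le (p := (adjoin k (Set.range x)).toSubalgebra.toSubmodule).2
    (subset_adjoin _ _) (h i)

theorem span_le_span {M : Type*} [Field M] [Algebra k M] (L : IntermediateField k M)
    (s : Set M) {a : M} (ha : a ∈ Submodule.span k s) : a ∈ Submodule.span ↥L s :=
  Submodule.span_le_restrictScalars k ↥L s ha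

theorem noname_inl (n m : ℕ)
    (G : Subgroup (InvFld.Fld (Fin n ⊕ Fin m) k ≃ₐ[k] InvFld.Fld (Fin n ⊕ Fin m) k)) [Finite G]
    (hx : ∀ σ ∈ G, ∀ i : Fin n, σ (InvFld.X (Sum.inl i)) ∈ Submodule.span k (Set.range fun j : Fin n => (InvFld.X (Sum.inl j) : InvFld.Fld (Fin n ⊕ Fin m) k)))
    (hy : ∀ σ ∈ G, ∀ i : Fin m, σ (InvFld.X (Sum.inr i)) ∈ Submodule.span k (Set.range fun j : Fin m => (InvFld.X (Sum.inr j) : InvFld.Fld (Fin n ⊕ Fin m) k)))
    (hfaith : ∀ σ ∈ G, (∀ i : Fin n, σ (InvFld.X (Sum.inl i)) = InvFld.X (Sum.inl i)) → σ = 1) :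
    ∃ t : Fin m → InvFld.Fld (Fin n ⊕ Fin m) k,
      AlgebraicIndependent (↥(IntermediateField.adjoin k (Set.range fun j : Fin n => (InvFld.X (Sum.inl j) : InvFld.Fld (Fin n ⊕ Fin m) k)) ⊓ IntermediateField.fixedField G)) t ∧
      IntermediateField.restrictScalars k (IntermediateField.adjoin (↥(IntermediateField.adjoin k (Set.range fun j : Fin n => (InvFld.X (Sum.inl j) : InvFld.Fld (Fin n ⊕ Fin m) k)) ⊓ IntermediateField.fixedField G)) (Set.range t)) =
        IntermediateField.fixedField G := by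
  refine Helper24NoName1.noname G _ (fun σ hσ => stable_adjoin σ _ (hx σ hσ)) ?_
    (fun j : Fin m => (InvFld.X (Sum.inr j) : InvFld.Fld (Fin n ⊕ Fin m) k))
    (fun σ hσ i => span_le_span _ _ (hy σ hσ i)) algebraicIndependent_inr adjoin_adjoin_inl_inr
  intro σ hσ h
  exact hfaith σ hσ (fun i => h _ (subset_adjoin _ _ ⟨i, rfl⟩))

theorem noname_inr (n m : ℕ)
    (G : Subgroup (InvFld.Fld (Fin n ⊕ Fin m) k ≃ₐ[k] InvFld.Fld (Fin n ⊕ Fin m) k)) [Finite G]
    (hx : ∀ σ ∈ G, ∀ i : Fin n, σ (InvFld.X (Sum.inl i)) ∈ Submodule.span k (Set.range fun j : Fin n => (InvFld.X (Sum.inl j) : InvFld.Fld (Fin n ⊕ Fin m) k)))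
    (hy : ∀ σ ∈ G, ∀ i : Fin m, σ (InvFld.X (Sum.inr i)) ∈ Submodule.span k (Set.range fun j : Fin m => (InvFld.X (Sum.inr j) : InvFld.Fld (Fin n ⊕ Fin m) k)))
    (hfaith : ∀ σ ∈ G, (∀ i : Fin m, σ (InvFld.X (Sum.inr i)) = InvFld.X (Sum.inr i)) → σ = 1) :
    ∃ t : Fin n → InvFld.Fld (Fin n ⊕ Fin m) k,
      AlgebraicIndependent (↥(IntermediateField.adjoin k (Set.range fun j : Fin m => (InvFld.X (Sum.inr j) : InvFld.Fld (Fin n ⊕ Fin m) k)) ⊓ IntermediateField.fixedField G)) t ∧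
      IntermediateField.restrictScalars k (IntermediateField.adjoin (↥(IntermediateField.adjoin k (Set.range fun j : Fin m => (InvFld.X (Sum.inr j) : InvFld.Fld (Fin n ⊕ Fin m) k)) ⊓ IntermediateField.fixedField G)) (Set.range t)) =
        IntermediateField.fixedField G := by
  refine Helper24NoName1.noname G _ (fun σ hσ => stable_adjoin σ _ (hy σ hσ)) ?_
    (fun j : Fin n => (InvFld.X (Sum.inl j) : InvFld.Fld (Fin n ⊕ Fin m) k))
    (fun σ hσ i => span_le_span _ _ (hx σ hσ i)) algebraicIndependent_inl adjoin_adjoin_inr_inl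
  intro σ hσ h
  exact hfaith σ hσ (fun i => h _ (subset_adjoin _ _ ⟨i, rfl⟩))

end Helper24NoName2
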