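import Mathlib
import Groth.Prelude.Def_W4c2brnrinvarInvFld
import Groth.Agent.Lib.Helper24NoName2

open IntermediateField

namespace Helper24NoName3

variable {k : Type*} [Field k] {ι : Type*}

/-- the `k`-embedding of `k(x_i)` into a field sending the variables to an algebraically
independent family -/
noncomputable def liftZ {L' : Type*} [Field L'] [Algebra k L'] (z : ι → L')
    (hz : AlgebraicIndependent k z) : InvFld.Fld ι k →ₐ[k] L' :=
  IsFractionRing.liftAlgHom (K := InvFld.Fld ι k) (g := MvPolynomial.aeval z)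
    (algebraicIndependent_iff_injective_aeval.1 hz)

theorem liftZ_algebraMap {L' : Type*} [Field L'] [Algebra k L'] (z : ι → L')
    (hz : AlgebraicIndependent k z) (p : MvPolynomial ι k) :
    liftZ z hz (algebraMap (MvPolynomial ι k) (InvFld.Fld ι k) p) = MvPolynomial.aeval z p := by
  exact IsFractionRing.lift_algebraMap (algebraicIndependent_iff_injective_aeval.1 hz) p

@[simp] theorem liftZ_X {L' : Type*} [Field L'] [Algebra k L'] (z : ι → L')
    (hz : AlgebraicIndependent k z) (i : ι) :
    liftZ z hz (InvFld.X i) = z i := by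
  rw [InvFld.X, liftZ_algebraMap, MvPolynomial.aeval_X]

theorem fld_algHom_ext {L' : Type*} [Field L'] [Algebra k L'] (f g : InvFld.Fld ι k →ₐ[k] L')
    (h : ∀ i, f (InvFld.X i) = g (InvFld.X i)) : f = g := by
  have h1 : f.comp (IsScalarTower.toAlgHom k (MvPolynomial ι k) (InvFld.Fld ι k)) =
      g.comp (IsScalarTower.toAlgHom k (MvPolynomial ι k) (InvFld.Fld ι k)) := by
    apply MvPolynomial.algHom_ext
    intro i
    exact h i
  apply AlgHom.coe_ringHom_injective
  apply IsFractionRing.ringHom_ext (A := MvPolynomial ι k)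
  intro p
  exact congrArg (fun φ => φ p) h1

theorem fld_algEquiv_ext (f g : InvFld.Fld ι k ≃ₐ[k] InvFld.Fld ι k)
    (h : ∀ i, f (InvFld.X i) = g (InvFld.X i)) : f = g := by
  have := fld_algHom_ext (f : InvFld.Fld ι k →ₐ[k] InvFld.Fld ι k) g h
  ext a
  exact congrArg (fun φ => φ a) this

theorem liftZ_fieldRange {L' : Type*} [Field L'] [Algebra k L'] (z : ι → L')
    (hz : AlgebraicIndependent k z) :
    (liftZ z hz).fieldRange = adjoin k (Set.range z) := by
  rw [AlgHom.fieldRange_eq_map, ← Helper24NoName2.adjoin_X_eq_top, adjoin_map]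
  congr 1
  ext a
  constructor
  · rintro ⟨_, ⟨i, rfl⟩, rfl⟩
    exact ⟨i, (liftZ_X z hz i).symm⟩
  · rintro ⟨i, rfl⟩
    exact ⟨_, ⟨i, rfl⟩, liftZ_X z hz i⟩

/-- a generating family of the right cardinality in `k(x_1..x_n)` is algebraically independent -/
theorem algebraicIndependent_of_adjoin_eq_top [Finite ι] (z : ι → InvFld.Fld ι k)
    (hz : adjoin k (Set.range z) = ⊤) : AlgebraicIndependent k z := by
  have halg : Algebra.IsAlgebraic ↥(Algebra.adjoin k (Set.range z)) (InvFld.Fld ι k) := by
    rw [← IntermediateField.isAlgebraic_adjoin_iff_top, hz]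
    exact ⟨fun a => isAlgebraic_algebraMap
      (⟨a, mem_top⟩ : ↥(⊤ : IntermediateField k (InvFld.Fld ι k)))⟩
  exact (Algebra.IsAlgebraic.isTranscendenceBasis_of_lift_le_trdeg_of_finite k z
    (Helper24NoName2.algebraicIndependent_X (k := k) (ι := ι)).lift_cardinalMk_le_trdeg).1

/-- the automorphism of `k(x)` sending the variables to a generating family -/
noncomputable def equivZ [Finite ι] (z : ι → InvFld.Fld ι k)
    (hz : adjoin k (Set.range z) = ⊤) : InvFld.Fld ι k ≃ₐ[k] InvFld.Fld ι k :=
  AlgEquiv.ofBijective (liftZ z (algebraicIndependent_of_adjoin_eq_top z hz))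
    (And.intro (liftZ z (algebraicIndependent_of_adjoin_eq_top z hz)).injective (by
      rw [← AlgHom.fieldRange_eq_top, liftZ_fieldRange, hz]))

@[simp] theorem equivZ_X [Finite ι] (z : ι → InvFld.Fld ι k)
    (hz : adjoin k (Set.range z) = ⊤) (i : ι) : equivZ z hz (InvFld.X i) = z i := by
  exact liftZ_X z (algebraicIndependent_of_adjoin_eq_top z hz) i

end Helper24NoName3
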