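import Mathlib
import Groth.Prelude.Def_W4c2brnrinvarInvFld
import Groth.Agent.Lib.Helper24NoName2
import Groth.Agent.Lib.Helper24NoName3a

open IntermediateField

namespace Helper24NoName3

variable {k : Type*} [Field k] {ι : Type*} {α β : Type*}

theorem mem_of_gen {L' : Type*} [Field L'] [Algebra k L'] (f : InvFld.Fld ι k →ₐ[k] L')
    (σ : InvFld.Fld ι k ≃ₐ[k] InvFld.Fld ι k) (Z : IntermediateField k L')
    (h : ∀ i, f (σ (InvFld.X i)) ∈ Z) (a : InvFld.Fld ι k) : f a ∈ Z := by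
  have h1 : adjoin k (Set.range (InvFld.X : ι → InvFld.Fld ι k)) ≤
      Z.comap (f.comp (σ : InvFld.Fld ι k →ₐ[k] InvFld.Fld ι k)) := by
    rw [adjoin_le_iff]
    rintro _ ⟨i, rfl⟩
    exact h i
  have h2 : σ.symm a ∈ adjoin k (Set.range (InvFld.X : ι → InvFld.Fld ι k)) := by
    rw [Helper24NoName2.adjoin_X_eq_top]; exact mem_top
  have h3 := h1 h2
  change f (σ (σ.symm a)) ∈ Z at h3
  rwa [AlgEquiv.apply_symm_apply] at h3

variable (k α β) in
/-- `k(x) → k(x,y)` -/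
noncomputable def inlHom : InvFld.Fld α k →ₐ[k] InvFld.Fld (α ⊕ β) k :=
  liftZ (fun i : α => (InvFld.X (Sum.inl i) : InvFld.Fld (α ⊕ β) k))
    ((Helper24NoName2.algebraicIndependent_X (k := k) (ι := α ⊕ β)).comp _ Sum.inl_injective)

variable (k α β) in
/-- `k(y) → k(x,y)` -/
noncomputable def inrHom : InvFld.Fld β k →ₐ[k] InvFld.Fld (α ⊕ β) k :=
  liftZ (fun i : β => (InvFld.X (Sum.inr i) : InvFld.Fld (α ⊕ β) k))
    ((Helper24NoName2.algebraicIndependent_X (k := k) (ι := α ⊕ β)).comp _ Sum.inr_injective)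

@[simp] theorem inlHom_X (i : α) : inlHom k α β (InvFld.X i) = InvFld.X (Sum.inl i) :=
  liftZ_X _ _ i

@[simp] theorem inrHom_X (i : β) : inrHom k α β (InvFld.X i) = InvFld.X (Sum.inr i) :=
  liftZ_X _ _ i

theorem inlHom_fieldRange : (inlHom k α β).fieldRange =
    adjoin k (Set.range fun j : α => (InvFld.X (Sum.inl j) : InvFld.Fld (α ⊕ β) k)) :=
  liftZ_fieldRange _ _

theorem inrHom_fieldRange : (inrHom k α β).fieldRange =
    adjoin k (Set.range fun j : β => (InvFld.X (Sum.inr j) : InvFld.Fld (α ⊕ β) k)) :=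
  liftZ_fieldRange _ _

/-- the family of images of the variables under a pair of automorphisms -/
noncomputable def diagZ (σ : InvFld.Fld α k ≃ₐ[k] InvFld.Fld α k)
    (τ : InvFld.Fld β k ≃ₐ[k] InvFld.Fld β k) : α ⊕ β → InvFld.Fld (α ⊕ β) k :=
  Sum.elim (fun i => inlHom k α β (σ (InvFld.X i))) (fun j => inrHom k α β (τ (InvFld.X j)))

theorem adjoin_diagZ (σ : InvFld.Fld α k ≃ₐ[k] InvFld.Fld α k)
    (τ : InvFld.Fld β k ≃ₐ[k] InvFld.Fld β k) :
    adjoin k (Set.range (diagZ σ τ)) = ⊤ := by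
  rw [eq_top_iff, ← Helper24NoName2.adjoin_X_eq_top, adjoin_le_iff]
  rintro _ ⟨i, rfl⟩
  cases i with
  | inl i =>
    have := mem_of_gen (inlHom k α β) σ (adjoin k (Set.range (diagZ σ τ)))
      (fun i => subset_adjoin _ _ ⟨Sum.inl i, rfl⟩) (InvFld.X i)
    rwa [inlHom_X] at this
  | inr i =>
    have := mem_of_gen (inrHom k α β) τ (adjoin k (Set.range (diagZ σ τ)))
      (fun i => subset_adjoin _ _ ⟨Sum.inr i, rfl⟩) (InvFld.X i)
    rwa [inrHom_X] at this

/-- the diagonal extension of a pair of automorphisms to `k(x,y)` -/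
noncomputable def diag [Finite α] [Finite β] (σ : InvFld.Fld α k ≃ₐ[k] InvFld.Fld α k)
    (τ : InvFld.Fld β k ≃ₐ[k] InvFld.Fld β k) :
    InvFld.Fld (α ⊕ β) k ≃ₐ[k] InvFld.Fld (α ⊕ β) k :=
  equivZ (diagZ σ τ) (adjoin_diagZ σ τ)

theorem diag_inlHom [Finite α] [Finite β] (σ : InvFld.Fld α k ≃ₐ[k] InvFld.Fld α k)
    (τ : InvFld.Fld β k ≃ₐ[k] InvFld.Fld β k) (a : InvFld.Fld α k) :
    diag σ τ (inlHom k α β a) = inlHom k α β (σ a) := by
  have : ((diag σ τ : InvFld.Fld (α ⊕ β) k →ₐ[k] InvFld.Fld (α ⊕ β) k).comp (inlHom k α β)) =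
      (inlHom k α β).comp (σ : InvFld.Fld α k →ₐ[k] InvFld.Fld α k) := by
    apply fld_algHom_ext
    intro i
    simp [diag, diagZ]
  exact congrArg (fun φ => φ a) this

theorem diag_inrHom [Finite α] [Finite β] (σ : InvFld.Fld α k ≃ₐ[k] InvFld.Fld α k)
    (τ : InvFld.Fld β k ≃ₐ[k] InvFld.Fld β k) (b : InvFld.Fld β k) :
    diag σ τ (inrHom k α β b) = inrHom k α β (τ b) := by
  have : ((diag σ τ : InvFld.Fld (α ⊕ β) k →ₐ[k] InvFld.Fld (α ⊕ β) k).comp (inrHom k α β)) =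
      (inrHom k α β).comp (τ : InvFld.Fld β k →ₐ[k] InvFld.Fld β k) := by
    apply fld_algHom_ext
    intro i
    simp [diag, diagZ]
  exact congrArg (fun φ => φ b) this

end Helper24NoName3
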