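import Mathlib
import Groth.Prelude.Def_W4c2brnrinvarInvFld
import Groth.Agent.Lib.Helper24NoName2
import Groth.Agent.Lib.Helper24NoName3b

open IntermediateField

namespace Helper24NoName3

variable {k : Type*} [Field k] {α β : Type*} {Γ₀ : Type*} [Group Γ₀]

theorem inlHom_injective : Function.Injective (inlHom k α β) :=
  (inlHom k α β).toRingHom.injective

theorem inrHom_injective : Function.Injective (inrHom k α β) :=
  (inrHom k α β).toRingHom.injective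

/-- the diagonal subgroup of `Aut k(x,y)` attached to two actions on `k(x)` and `k(y)` -/
noncomputable def diagSubgroup (ρ₁ : Γ₀ →* (InvFld.Fld α k ≃ₐ[k] InvFld.Fld α k))
    (ρ₂ : Γ₀ →* (InvFld.Fld β k ≃ₐ[k] InvFld.Fld β k)) :
    Subgroup (InvFld.Fld (α ⊕ β) k ≃ₐ[k] InvFld.Fld (α ⊕ β) k) where
  carrier := {γ | ∃ g : Γ₀, (∀ a, γ (inlHom k α β a) = inlHom k α β (ρ₁ g a)) ∧
    (∀ b, γ (inrHom k α β b) = inrHom k α β (ρ₂ g b))}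
  mul_mem' := by
    rintro γ γ' ⟨g, h1, h2⟩ ⟨g', h1', h2'⟩
    refine ⟨g * g', fun a => ?_, fun b => ?_⟩
    · rw [AlgEquiv.mul_apply, h1', h1, map_mul, AlgEquiv.mul_apply]
    · rw [AlgEquiv.mul_apply, h2', h2, map_mul, AlgEquiv.mul_apply]
  one_mem' := ⟨1, fun a => by rw [map_one, AlgEquiv.one_apply, AlgEquiv.one_apply],
    fun b => by rw [map_one, AlgEquiv.one_apply, AlgEquiv.one_apply]⟩
  inv_mem' := by
    rintro γ ⟨g, h1, h2⟩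
    refine ⟨g⁻¹, fun a => ?_, fun b => ?_⟩
    · apply γ.injective
      rw [h1, ← AlgEquiv.mul_apply, ← AlgEquiv.mul_apply, mul_inv_cancel, ← map_mul,
        mul_inv_cancel, map_one, AlgEquiv.one_apply, AlgEquiv.one_apply]
    · apply γ.injective
      rw [h2, ← AlgEquiv.mul_apply, ← AlgEquiv.mul_apply, mul_inv_cancel, ← map_mul,
        mul_inv_cancel, map_one, AlgEquiv.one_apply, AlgEquiv.one_apply]

theorem mem_diagSubgroup {ρ₁ : Γ₀ →* (InvFld.Fld α k ≃ₐ[k] InvFld.Fld α k)}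
    {ρ₂ : Γ₀ →* (InvFld.Fld β k ≃ₐ[k] InvFld.Fld β k)}
    {γ : InvFld.Fld (α ⊕ β) k ≃ₐ[k] InvFld.Fld (α ⊕ β) k} :
    γ ∈ diagSubgroup ρ₁ ρ₂ ↔ ∃ g : Γ₀, (∀ a, γ (inlHom k α β a) = inlHom k α β (ρ₁ g a)) ∧
      (∀ b, γ (inrHom k α β b) = inrHom k α β (ρ₂ g b)) := Iff.rfl

theorem diag_mem [Finite α] [Finite β] (ρ₁ : Γ₀ →* (InvFld.Fld α k ≃ₐ[k] InvFld.Fld α k))
    (ρ₂ : Γ₀ →* (InvFld.Fld β k ≃ₐ[k] InvFld.Fld β k)) (g : Γ₀) :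
    diag (ρ₁ g) (ρ₂ g) ∈ diagSubgroup ρ₁ ρ₂ :=
  ⟨g, diag_inlHom _ _, diag_inrHom _ _⟩

/-- an automorphism of `k(x,y)` is determined by its restrictions to `k(x)` and `k(y)` -/
theorem eq_of_inl_inr (γ γ' : InvFld.Fld (α ⊕ β) k ≃ₐ[k] InvFld.Fld (α ⊕ β) k)
    (h1 : ∀ a, γ (inlHom k α β a) = γ' (inlHom k α β a))
    (h2 : ∀ b, γ (inrHom k α β b) = γ' (inrHom k α β b)) : γ = γ' := by
  apply fld_algEquiv_ext
  intro i
  cases i with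
  | inl i => rw [← inlHom_X]; exact h1 _
  | inr i => rw [← inrHom_X]; exact h2 _

theorem finite_diagSubgroup [Finite α] [Finite β] [Finite Γ₀]
    (ρ₁ : Γ₀ →* (InvFld.Fld α k ≃ₐ[k] InvFld.Fld α k))
    (ρ₂ : Γ₀ →* (InvFld.Fld β k ≃ₐ[k] InvFld.Fld β k)) :
    Finite ↥(diagSubgroup ρ₁ ρ₂) := by
  have : ((diagSubgroup ρ₁ ρ₂ : Subgroup _) : Set (InvFld.Fld (α ⊕ β) k ≃ₐ[k] _)) ⊆
      Set.range (fun g : Γ₀ => diag (ρ₁ g) (ρ₂ g)) := by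
    rintro γ ⟨g, h1, h2⟩
    refine ⟨g, ?_⟩
    apply eq_of_inl_inr
    · intro a; rw [h1, diag_inlHom]
    · intro b; rw [h2, diag_inrHom]
  exact Set.finite_coe_iff.2 ((Set.finite_range _).subset this)

theorem linear_inl (ρ₁ : Γ₀ →* (InvFld.Fld α k ≃ₐ[k] InvFld.Fld α k))
    (ρ₂ : Γ₀ →* (InvFld.Fld β k ≃ₐ[k] InvFld.Fld β k))
    (lin₁ : ∀ g i, ρ₁ g (InvFld.X i) ∈
      Submodule.span k (Set.range (InvFld.X : α → InvFld.Fld α k)))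
    (γ : InvFld.Fld (α ⊕ β) k ≃ₐ[k] InvFld.Fld (α ⊕ β) k) (hγ : γ ∈ diagSubgroup ρ₁ ρ₂) (i : α) :
    γ (InvFld.X (Sum.inl i)) ∈ Submodule.span k
      (Set.range fun j : α => (InvFld.X (Sum.inl j) : InvFld.Fld (α ⊕ β) k)) := by
  obtain ⟨g, h1, -⟩ := hγ
  rw [← inlHom_X, h1]
  have := Submodule.apply_mem_span_image_of_mem_span (inlHom k α β).toLinearMap (lin₁ g i)
  have hset : (inlHom k α β).toLinearMap '' Set.range (InvFld.X : α → InvFld.Fld α k) =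
      Set.range fun j : α => (InvFld.X (Sum.inl j) : InvFld.Fld (α ⊕ β) k) := by
    ext a
    constructor
    · rintro ⟨_, ⟨j, rfl⟩, rfl⟩; exact ⟨j, (inlHom_X j).symm⟩
    · rintro ⟨j, rfl⟩; exact ⟨_, ⟨j, rfl⟩, inlHom_X j⟩
  rw [hset] at this
  exact this

theorem linear_inr (ρ₁ : Γ₀ →* (InvFld.Fld α k ≃ₐ[k] InvFld.Fld α k))
    (ρ₂ : Γ₀ →* (InvFld.Fld β k ≃ₐ[k] InvFld.Fld β k))
    (lin₂ : ∀ g i, ρ₂ g (InvFld.X i) ∈
      Submodule.span k (Set.range (InvFld.X : β → InvFld.Fld β k)))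
    (γ : InvFld.Fld (α ⊕ β) k ≃ₐ[k] InvFld.Fld (α ⊕ β) k) (hγ : γ ∈ diagSubgroup ρ₁ ρ₂) (i : β) :
    γ (InvFld.X (Sum.inr i)) ∈ Submodule.span k
      (Set.range fun j : β => (InvFld.X (Sum.inr j) : InvFld.Fld (α ⊕ β) k)) := by
  obtain ⟨g, -, h2⟩ := hγ
  rw [← inrHom_X, h2]
  have := Submodule.apply_mem_span_image_of_mem_span (inrHom k α β).toLinearMap (lin₂ g i)
  have hset : (inrHom k α β).toLinearMap '' Set.range (InvFld.X : β → InvFld.Fld β k) =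
      Set.range fun j : β => (InvFld.X (Sum.inr j) : InvFld.Fld (α ⊕ β) k) := by
    ext a
    constructor
    · rintro ⟨_, ⟨j, rfl⟩, rfl⟩; exact ⟨j, (inrHom_X j).symm⟩
    · rintro ⟨j, rfl⟩; exact ⟨_, ⟨j, rfl⟩, inrHom_X j⟩
  rw [hset] at this
  exact this

theorem faithful_inl (ρ₁ : Γ₀ →* (InvFld.Fld α k ≃ₐ[k] InvFld.Fld α k))
    (ρ₂ : Γ₀ →* (InvFld.Fld β k ≃ₐ[k] InvFld.Fld β k)) (h₁ : Function.Injective ρ₁)
    (γ : InvFld.Fld (α ⊕ β) k ≃ₐ[k] InvFld.Fld (α ⊕ β) k) (hγ : γ ∈ diagSubgroup ρ₁ ρ₂)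
    (hfix : ∀ i : α, γ (InvFld.X (Sum.inl i)) = InvFld.X (Sum.inl i)) : γ = 1 := by
  obtain ⟨g, h1, h2⟩ := hγ
  have hg : ρ₁ g = 1 := by
    apply fld_algEquiv_ext
    intro i
    apply inlHom_injective (k := k) (α := α) (β := β)
    rw [← h1, inlHom_X, hfix, AlgEquiv.one_apply, inlHom_X]
  have hg1 : g = 1 := h₁ (hg.trans (map_one ρ₁).symm)
  subst hg1
  apply eq_of_inl_inr
  · intro a; rw [h1, map_one, AlgEquiv.one_apply, AlgEquiv.one_apply]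
  · intro b; rw [h2, map_one, AlgEquiv.one_apply, AlgEquiv.one_apply]

theorem faithful_inr (ρ₁ : Γ₀ →* (InvFld.Fld α k ≃ₐ[k] InvFld.Fld α k))
    (ρ₂ : Γ₀ →* (InvFld.Fld β k ≃ₐ[k] InvFld.Fld β k)) (h₂ : Function.Injective ρ₂)
    (γ : InvFld.Fld (α ⊕ β) k ≃ₐ[k] InvFld.Fld (α ⊕ β) k) (hγ : γ ∈ diagSubgroup ρ₁ ρ₂)
    (hfix : ∀ i : β, γ (InvFld.X (Sum.inr i)) = InvFld.X (Sum.inr i)) : γ = 1 := by
  obtain ⟨g, h1, h2⟩ := hγ
  have hg : ρ₂ g = 1 := by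
    apply fld_algEquiv_ext
    intro i
    apply inrHom_injective (k := k) (α := α) (β := β)
    rw [← h2, inrHom_X, hfix, AlgEquiv.one_apply, inrHom_X]
  have hg1 : g = 1 := h₂ (hg.trans (map_one ρ₂).symm)
  subst hg1
  apply eq_of_inl_inr
  · intro a; rw [h1, map_one, AlgEquiv.one_apply, AlgEquiv.one_apply]
  · intro b; rw [h2, map_one, AlgEquiv.one_apply, AlgEquiv.one_apply]

theorem inlHom_mem_fixedField [Finite α] [Finite β]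
    (ρ₁ : Γ₀ →* (InvFld.Fld α k ≃ₐ[k] InvFld.Fld α k))
    (ρ₂ : Γ₀ →* (InvFld.Fld β k ≃ₐ[k] InvFld.Fld β k)) (a : InvFld.Fld α k) :
    inlHom k α β a ∈ fixedField (diagSubgroup ρ₁ ρ₂) ↔ ∀ g, ρ₁ g a = a := by
  rw [IntermediateField.mem_fixedField_iff]
  constructor
  · intro h g
    apply inlHom_injective (k := k) (α := α) (β := β)
    rw [← diag_inlHom (ρ₁ g) (ρ₂ g)]
    exact h _ (diag_mem ρ₁ ρ₂ g)
  · rintro h γ ⟨g, h1, -⟩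
    rw [h1, h g]

theorem inrHom_mem_fixedField [Finite α] [Finite β]
    (ρ₁ : Γ₀ →* (InvFld.Fld α k ≃ₐ[k] InvFld.Fld α k))
    (ρ₂ : Γ₀ →* (InvFld.Fld β k ≃ₐ[k] InvFld.Fld β k)) (b : InvFld.Fld β k) :
    inrHom k α β b ∈ fixedField (diagSubgroup ρ₁ ρ₂) ↔ ∀ g, ρ₂ g b = b := by
  rw [IntermediateField.mem_fixedField_iff]
  constructor
  · intro h g
    apply inrHom_injective (k := k) (α := α) (β := β)
    rw [← diag_inrHom (ρ₁ g) (ρ₂ g)]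
    exact h _ (diag_mem ρ₁ ρ₂ g)
  · rintro h γ ⟨g, -, h2⟩
    rw [h2, h g]

end Helper24NoName3
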