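import Mathlib
import Groth.Prelude.Def_W4c2brnrinvarInvFld
import Groth.Agent.Lib.Helper24NoName2
import Groth.Agent.Lib.Helper24NoName3c

open IntermediateField

namespace Helper24NoName3

variable {k : Type*} [Field k] {α β : Type*} {Γ₀ : Type*} [Group Γ₀]

theorem map_inlHom_eq [Finite α] [Finite β]
    (ρ₁ : Γ₀ →* (InvFld.Fld α k ≃ₐ[k] InvFld.Fld α k))
    (ρ₂ : Γ₀ →* (InvFld.Fld β k ≃ₐ[k] InvFld.Fld β k))
    (K₁ : IntermediateField k (InvFld.Fld α k)) (hK₁ : ∀ a, a ∈ K₁ ↔ ∀ g, ρ₁ g a = a) :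
    K₁.map (inlHom k α β) =
      adjoin k (Set.range fun j : α => (InvFld.X (Sum.inl j) : InvFld.Fld (α ⊕ β) k)) ⊓
        fixedField (diagSubgroup ρ₁ ρ₂) := by
  rw [← inlHom_fieldRange]
  ext b
  rw [IntermediateField.mem_map, IntermediateField.mem_inf, AlgHom.mem_fieldRange]
  constructor
  · rintro ⟨a, ha, rfl⟩
    exact ⟨⟨a, rfl⟩, (inlHom_mem_fixedField ρ₁ ρ₂ a).2 ((hK₁ a).1 ha)⟩
  · rintro ⟨⟨a, rfl⟩, h⟩
    exact ⟨a, (hK₁ a).2 ((inlHom_mem_fixedField ρ₁ ρ₂ a).1 h), rfl⟩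

theorem map_inrHom_eq [Finite α] [Finite β]
    (ρ₁ : Γ₀ →* (InvFld.Fld α k ≃ₐ[k] InvFld.Fld α k))
    (ρ₂ : Γ₀ →* (InvFld.Fld β k ≃ₐ[k] InvFld.Fld β k))
    (K₂ : IntermediateField k (InvFld.Fld β k)) (hK₂ : ∀ a, a ∈ K₂ ↔ ∀ g, ρ₂ g a = a) :
    K₂.map (inrHom k α β) =
      adjoin k (Set.range fun j : β => (InvFld.X (Sum.inr j) : InvFld.Fld (α ⊕ β) k)) ⊓
        fixedField (diagSubgroup ρ₁ ρ₂) := by
  rw [← inrHom_fieldRange]
  ext b
  rw [IntermediateField.mem_map, IntermediateField.mem_inf, AlgHom.mem_fieldRange]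
  constructor
  · rintro ⟨a, ha, rfl⟩
    exact ⟨⟨a, rfl⟩, (inrHom_mem_fixedField ρ₁ ρ₂ a).2 ((hK₂ a).1 ha)⟩
  · rintro ⟨⟨a, rfl⟩, h⟩
    exact ⟨a, (hK₂ a).2 ((inrHom_mem_fixedField ρ₁ ρ₂ a).1 h), rfl⟩

/-- functoriality of `K ↦ K(x_i)` in the coefficient field -/
theorem fld_congr {K₁ K₂ : Type*} [Field K₁] [Field K₂] [Algebra k K₁] [Algebra k K₂]
    (φ : K₁ ≃ₐ[k] K₂) (ι : Type*) :
    Nonempty (InvFld.Fld ι K₁ ≃ₐ[k] InvFld.Fld ι K₂) :=
  ⟨IsFractionRing.algEquivOfAlgEquiv (MvPolynomial.mapAlgEquiv ι φ)⟩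

/-- a purely transcendental extension `F(t) = K` inside `M` is `k`-isomorphic to `F(x)` -/
theorem fld_equiv_of_noname {M : Type*} [Field M] [Algebra k M] (F K : IntermediateField k M)
    {ι : Type*} (t : ι → M) (hind : AlgebraicIndependent ↥F t)
    (h : IntermediateField.restrictScalars k (adjoin ↥F (Set.range t)) = K) :
    Nonempty (InvFld.Fld ι ↥F ≃ₐ[k] ↥K) := by
  have e1 : InvFld.Fld ι ↥F ≃ₐ[k] ↥(adjoin ↥F (Set.range t)) :=
    (hind.aevalEquivField).restrictScalars k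
  have e2 : ↥(adjoin ↥F (Set.range t)) ≃ₐ[k]
      ↥(IntermediateField.restrictScalars k (adjoin ↥F (Set.range t))) :=
    { toFun := fun a => ⟨a.1, a.2⟩
      invFun := fun a => ⟨a.1, a.2⟩
      left_inv := fun a => rfl
      right_inv := fun a => rfl
      map_mul' := fun a b => rfl
      map_add' := fun a b => rfl
      commutes' := fun c => rfl }
  exact ⟨(e1.trans e2).trans (IntermediateField.equivOfEq h)⟩

end Helper24NoName3
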