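import Mathlib
import Groth.Prelude.Def_W4c2brnrinvarInvFld
import Groth.Agent.Lib.Helper24NoName2
import Groth.Agent.Lib.Helper24NoName3d

open IntermediateField

namespace Helper24NoName3

variable {k : Type*} [Field k] {Γ₀ : Type*} [Group Γ₀]

/-- stable equivalence of the invariant fields of two faithful linear actions of a finite group -/
theorem core (n m : ℕ) [Finite Γ₀]
    (ρ₁ : Γ₀ →* (InvFld.Fld (Fin n) k ≃ₐ[k] InvFld.Fld (Fin n) k))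
    (ρ₂ : Γ₀ →* (InvFld.Fld (Fin m) k ≃ₐ[k] InvFld.Fld (Fin m) k))
    (h₁ : Function.Injective ρ₁) (h₂ : Function.Injective ρ₂)
    (lin₁ : ∀ g i, ρ₁ g (InvFld.X i) ∈
      Submodule.span k (Set.range (InvFld.X : Fin n → InvFld.Fld (Fin n) k)))
    (lin₂ : ∀ g i, ρ₂ g (InvFld.X i) ∈
      Submodule.span k (Set.range (InvFld.X : Fin m → InvFld.Fld (Fin m) k)))
    (K₁ : IntermediateField k (InvFld.Fld (Fin n) k)) (hK₁ : ∀ a, a ∈ K₁ ↔ ∀ g, ρ₁ g a = a)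
    (K₂ : IntermediateField k (InvFld.Fld (Fin m) k)) (hK₂ : ∀ a, a ∈ K₂ ↔ ∀ g, ρ₂ g a = a) :
    Nonempty (InvFld.Fld (Fin m) ↥K₁ ≃ₐ[k] InvFld.Fld (Fin n) ↥K₂) := by
  have hfin : Finite ↥(diagSubgroup ρ₁ ρ₂) := finite_diagSubgroup ρ₁ ρ₂
  obtain ⟨t, ht1, ht2⟩ := Helper24NoName2.noname_inl n m (diagSubgroup ρ₁ ρ₂)
    (fun γ hγ i => linear_inl ρ₁ ρ₂ lin₁ γ hγ i) (fun γ hγ i => linear_inr ρ₁ ρ₂ lin₂ γ hγ i)
    (fun γ hγ h => faithful_inl ρ₁ ρ₂ h₁ γ hγ h)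
  obtain ⟨s, hs1, hs2⟩ := Helper24NoName2.noname_inr n m (diagSubgroup ρ₁ ρ₂)
    (fun γ hγ i => linear_inl ρ₁ ρ₂ lin₁ γ hγ i) (fun γ hγ i => linear_inr ρ₁ ρ₂ lin₂ γ hγ i)
    (fun γ hγ h => faithful_inr ρ₁ ρ₂ h₂ γ hγ h)
  obtain ⟨E1⟩ := fld_equiv_of_noname _ _ t ht1 ht2
  obtain ⟨E2⟩ := fld_equiv_of_noname _ _ s hs1 hs2
  have φ₁ := (IntermediateField.equivMap K₁ (inlHom k (Fin n) (Fin m))).trans
    (equivOfEq (map_inlHom_eq ρ₁ ρ₂ K₁ hK₁))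
  have φ₂ := (IntermediateField.equivMap K₂ (inrHom k (Fin n) (Fin m))).trans
    (equivOfEq (map_inrHom_eq ρ₁ ρ₂ K₂ hK₂))
  obtain ⟨C1⟩ := fld_congr φ₁ (Fin m)
  obtain ⟨C2⟩ := fld_congr φ₂ (Fin n)
  exact ⟨(C1.trans E1).trans (E2.symm.trans C2.symm)⟩

end Helper24NoName3
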