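import Mathlib
import Groth.Prelude.Def_W4c2brnrinvarInvFld
import Groth.Agent.Lib.Helper24NoName3e

open IntermediateField

namespace Helper24NoName4

open Helper24NoName3

variable {k : Type*} [Field k] {n : ℕ}

theorem adjoin_X_comp (π : Equiv.Perm (Fin n)) :
    adjoin k (Set.range ((InvFld.X : Fin n → InvFld.Fld (Fin n) k) ∘ π)) = ⊤ := by
  rw [π.surjective.range_comp, Helper24NoName2.adjoin_X_eq_top]

theorem X_injective {ι : Type*} : Function.Injective (InvFld.X : ι → InvFld.Fld ι k) :=
  (Helper24NoName2.algebraicIndependent_X (k := k) (ι := ι)).injective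

variable (k n) in
/-- the permutation representation of `S_n` on `k(x_1, ..., x_n)` -/
noncomputable def permRep : Equiv.Perm (Fin n) →* (InvFld.Fld (Fin n) k ≃ₐ[k] InvFld.Fld (Fin n) k) where
  toFun π := equivZ ((InvFld.X : Fin n → InvFld.Fld (Fin n) k) ∘ π) (adjoin_X_comp π)
  map_one' := by
    apply fld_algEquiv_ext
    intro i
    rw [equivZ_X]
    rfl
  map_mul' π π' := by
    apply fld_algEquiv_ext
    intro i
    rw [equivZ_X, AlgEquiv.mul_apply, equivZ_X]
    change InvFld.X ((π * π') i) = equivZ _ (adjoin_X_comp π) (InvFld.X (π' i))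
    rw [equivZ_X]
    rfl

@[simp] theorem permRep_X (π : Equiv.Perm (Fin n)) (i : Fin n) :
    permRep k n π (InvFld.X i) = InvFld.X (π i) :=
  equivZ_X _ (adjoin_X_comp π) i

theorem permRep_injective : Function.Injective (permRep k n) := by
  intro π π' h
  ext i
  have := congrArg (fun f => f (InvFld.X i)) h
  simp only [permRep_X] at this
  exact congrArg Fin.val (X_injective this)

theorem permRep_algebraMap (π : Equiv.Perm (Fin n)) (p : MvPolynomial (Fin n) k) :
    permRep k n π (algebraMap (MvPolynomial (Fin n) k) (InvFld.Fld (Fin n) k) p) =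
      algebraMap (MvPolynomial (Fin n) k) (InvFld.Fld (Fin n) k) (MvPolynomial.rename π p) := by
  have : ((permRep k n π : InvFld.Fld (Fin n) k →ₐ[k] InvFld.Fld (Fin n) k).comp
      (IsScalarTower.toAlgHom k (MvPolynomial (Fin n) k) (InvFld.Fld (Fin n) k))) =
      (IsScalarTower.toAlgHom k (MvPolynomial (Fin n) k) (InvFld.Fld (Fin n) k)).comp
        (MvPolynomial.rename π) := by
    apply MvPolynomial.algHom_ext
    intro i
    simp only [AlgHom.comp_apply, IsScalarTower.coe_toAlgHom', MvPolynomial.rename_X]
    exact permRep_X π i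
  exact congrArg (fun φ => φ p) this

/-- the elementary symmetric functions in `k(x_1..x_n)` -/
noncomputable def esym (k : Type*) [Field k] (n : ℕ) (i : Fin n) : InvFld.Fld (Fin n) k :=
  algebraMap (MvPolynomial (Fin n) k) (InvFld.Fld (Fin n) k) (MvPolynomial.esymm (Fin n) k (i + 1))

theorem esym_algebraicIndependent : AlgebraicIndependent k (esym k n) := by
  have h1 : AlgebraicIndependent k (fun i : Fin n => MvPolynomial.esymm (Fin n) k (i + 1)) := by
    rw [algebraicIndependent_iff_injective_aeval]
    intro p q hpq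
    apply MvPolynomial.esymmAlgHom_fin_injective k (le_refl n)
    apply Subtype.ext
    rw [MvPolynomial.esymmAlgHom_apply, MvPolynomial.esymmAlgHom_apply]
    exact hpq
  exact h1.map' (f := IsScalarTower.toAlgHom k (MvPolynomial (Fin n) k) (InvFld.Fld (Fin n) k))
    (IsFractionRing.injective (MvPolynomial (Fin n) k) (InvFld.Fld (Fin n) k))

theorem algebraMap_symm_mem (p : MvPolynomial (Fin n) k) (hp : p.IsSymmetric) :
    algebraMap (MvPolynomial (Fin n) k) (InvFld.Fld (Fin n) k) p ∈
      adjoin k (Set.range (esym k n)) := by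
  obtain ⟨q, hq⟩ := (MvPolynomial.esymmAlgHom_fin_bijective k n).2 ⟨p, hp⟩
  have h1 : p = MvPolynomial.aeval (fun i : Fin n => MvPolynomial.esymm (Fin n) k (i + 1)) q := by
    rw [← MvPolynomial.esymmAlgHom_apply, hq]
  have h2 : algebraMap (MvPolynomial (Fin n) k) (InvFld.Fld (Fin n) k) p =
      MvPolynomial.aeval (esym k n) q := by
    rw [h1]
    have := MvPolynomial.comp_aeval_apply
      (fun i : Fin n => MvPolynomial.esymm (Fin n) k (i + 1))
      (IsScalarTower.toAlgHom k (MvPolynomial (Fin n) k) (InvFld.Fld (Fin n) k)) q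
    exact this
  rw [h2]
  have h3 : MvPolynomial.aeval (esym k n) q ∈ Algebra.adjoin k (Set.range (esym k n)) := by
    rw [Algebra.adjoin_range_eq_range_aeval]
    exact ⟨q, rfl⟩
  exact IntermediateField.algebra_adjoin_le_adjoin k _ h3

end Helper24NoName4
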