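import Mathlib
import Groth.Prelude.Def_W4c2brnrinvarInvFld
import Groth.Agent.Lib.Helper24NoName4a

open IntermediateField

namespace Helper24NoName4

open Helper24NoName3

variable {k : Type*} [Field k] {n : ℕ}

theorem esym_fixed (π : Equiv.Perm (Fin n)) (i : Fin n) :
    permRep k n π (esym k n i) = esym k n i := by
  unfold esym
  rw [permRep_algebraMap, MvPolynomial.esymm_isSymmetric (Fin n) k _ π]

/-- the norm of a polynomial under the symmetric group -/
noncomputable def normPoly (q : MvPolynomial (Fin n) k) : MvPolynomial (Fin n) k :=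
  ∏ π : Equiv.Perm (Fin n), MvPolynomial.rename π q

theorem normPoly_isSymmetric (q : MvPolynomial (Fin n) k) : (normPoly q).IsSymmetric := by
  intro π'
  unfold normPoly
  rw [map_prod]
  have : ∀ π : Equiv.Perm (Fin n), MvPolynomial.rename π' (MvPolynomial.rename π q) =
      MvPolynomial.rename (Equiv.mulLeft π' π) q := by
    intro π
    rw [MvPolynomial.rename_rename]
    rfl
  simp_rw [this]
  exact Equiv.prod_comp (Equiv.mulLeft π') (fun π => MvPolynomial.rename π q)

theorem normPoly_ne_zero (q : MvPolynomial (Fin n) k) (hq : q ≠ 0) : normPoly q ≠ 0 := by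
  unfold normPoly
  rw [Finset.prod_ne_zero_iff]
  intro π _
  exact (map_ne_zero_iff _ (MvPolynomial.rename_injective _ π.injective)).2 hq

theorem dvd_normPoly (q : MvPolynomial (Fin n) k) : q ∣ normPoly q := by
  unfold normPoly
  have := Finset.dvd_prod_of_mem (fun π : Equiv.Perm (Fin n) => MvPolynomial.rename π q)
    (Finset.mem_univ (1 : Equiv.Perm (Fin n)))
  simpa using this

theorem mem_adjoin_esym_iff (a : InvFld.Fld (Fin n) k) :
    a ∈ adjoin k (Set.range (esym k n)) ↔ ∀ π, permRep k n π a = a := by
  constructor
  · intro ha π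
    have hle : adjoin k (Set.range (esym k n)) ≤
        fixedField (Subgroup.zpowers (permRep k n π)) := by
      rw [adjoin_le_iff]
      rintro _ ⟨i, rfl⟩
      rw [SetLike.mem_coe, IntermediateField.mem_fixedField_iff]
      intro f hf
      obtain ⟨j, rfl⟩ := Subgroup.mem_zpowers_iff.1 hf
      rw [← map_zpow]
      exact esym_fixed _ i
    have := hle ha
    rw [IntermediateField.mem_fixedField_iff] at this
    exact this _ (Subgroup.mem_zpowers _)
  · intro ha
    obtain ⟨p, q, hq, rfl⟩ := IsFractionRing.div_surjective (A := MvPolynomial (Fin n) k) a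
    have hq0 : q ≠ 0 := nonZeroDivisors.ne_zero hq
    obtain ⟨q', hq'⟩ := dvd_normPoly q
    set A := algebraMap (MvPolynomial (Fin n) k) (InvFld.Fld (Fin n) k) with hA
    have hAq : A q ≠ 0 := (map_ne_zero_iff _ (IsFractionRing.injective _ _)).2 hq0
    have hN0 : A (normPoly q) ≠ 0 :=
      (map_ne_zero_iff _ (IsFractionRing.injective _ _)).2 (normPoly_ne_zero q hq0)
    -- a * A N = A (p * q')
    have h1 : A p / A q * A (normPoly q) = A (p * q') := by
      rw [hq', map_mul, map_mul]
      field_simp
    have hperm : ∀ (π : Equiv.Perm (Fin n)) (r : MvPolynomial (Fin n) k),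
        permRep k n π (A r) = A (MvPolynomial.rename π r) := fun π r => permRep_algebraMap π r
    have hsym : (p * q').IsSymmetric := by
      intro π
      apply IsFractionRing.injective (MvPolynomial (Fin n) k) (InvFld.Fld (Fin n) k)
      change A (MvPolynomial.rename π (p * q')) = A (p * q')
      rw [← hperm, ← h1, map_mul, ha π, hperm, normPoly_isSymmetric q π]
    have h2 : A p / A q = A (p * q') / A (normPoly q) := by
      rw [← h1]
      field_simp
    rw [h2]
    exact div_mem (algebraMap_symm_mem _ hsym) (algebraMap_symm_mem _ (normPoly_isSymmetric q))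

end Helper24NoName4
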