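import Mathlib
import Groth.Prelude.Def_W4c2brnrinvarInvFld
import Groth.Agent.Lib.Helper24NoName4b

open IntermediateField

namespace Helper24NoName4

open Helper24NoName3

variable {k : Type*} [Field k]

/-- `K(y_1..y_m)` is purely transcendental over `k` when `K = k(s_1..s_n)` is -/
theorem pure_of_pure {M : Type*} [Field M] [Algebra k M] {n : ℕ} (m : ℕ) (s : Fin n → M)
    (hs : AlgebraicIndependent k s) :
    ∃ t : Fin (m + n) → InvFld.Fld (Fin m) ↥(adjoin k (Set.range s)),
      AlgebraicIndependent k t ∧ adjoin k (Set.range t) = ⊤ := by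
  set x' : Fin n → ↥(adjoin k (Set.range s)) := fun i => ⟨s i, subset_adjoin _ _ ⟨i, rfl⟩⟩ with hx'def
  have hx' : AlgebraicIndependent k x' :=
    AlgebraicIndependent.of_comp (adjoin k (Set.range s)).val (by exact hs)
  have hx'top : adjoin k (Set.range x') = ⊤ := by
    rw [eq_top_iff]
    intro a _
    have h1 : (adjoin k (Set.range x')).map (adjoin k (Set.range s)).val =
        adjoin k (Set.range s) := by
      rw [adjoin_map]
      congr 1
      ext b
      constructor
      · rintro ⟨_, ⟨i, rfl⟩, rfl⟩; exact ⟨i, rfl⟩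
      · rintro ⟨i, rfl⟩; exact ⟨x' i, ⟨i, rfl⟩, rfl⟩
    have ha : (a : M) ∈ (adjoin k (Set.range x')).map (adjoin k (Set.range s)).val := by
      rw [h1]; exact a.2
    obtain ⟨b, hb, hba⟩ := ha
    have : b = a := Subtype.ext hba
    rw [← this]; exact hb
  have hy : AlgebraicIndependent ↥(adjoin k (Set.range s))
      (InvFld.X : Fin m → InvFld.Fld (Fin m) ↥(adjoin k (Set.range s))) :=
    Helper24NoName2.algebraicIndependent_X
  have hw := hx'.sumElim_comp hy
  set w : Fin m ⊕ Fin n → InvFld.Fld (Fin m) ↥(adjoin k (Set.range s)) :=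
    Sum.elim InvFld.X (algebraMap ↥(adjoin k (Set.range s))
      (InvFld.Fld (Fin m) ↥(adjoin k (Set.range s))) ∘ x') with hwdef
  have hwtop : adjoin k (Set.range w) = ⊤ := by
    have hc : ∀ c : ↥(adjoin k (Set.range s)),
        algebraMap ↥(adjoin k (Set.range s)) (InvFld.Fld (Fin m) ↥(adjoin k (Set.range s))) c ∈
          adjoin k (Set.range w) := by
      intro c
      have h1 : adjoin k (Set.range x') ≤ (adjoin k (Set.range w)).comap
          (IsScalarTower.toAlgHom k ↥(adjoin k (Set.range s))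
            (InvFld.Fld (Fin m) ↥(adjoin k (Set.range s)))) := by
        rw [adjoin_le_iff]
        rintro _ ⟨i, rfl⟩
        exact subset_adjoin k _ ⟨Sum.inr i, rfl⟩
      exact h1 (hx'top ▸ mem_top)
    rw [eq_top_iff]
    intro a _
    have ha : a ∈ adjoin ↥(adjoin k (Set.range s))
        (Set.range (InvFld.X : Fin m → InvFld.Fld (Fin m) ↥(adjoin k (Set.range s)))) := by
      rw [Helper24NoName2.adjoin_X_eq_top]; exact mem_top
    induction ha using IntermediateField.adjoin_induction with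
    | mem x hx =>
      obtain ⟨j, rfl⟩ := hx
      exact subset_adjoin k _ ⟨Sum.inl j, rfl⟩
    | algebraMap c => exact hc c
    | add a b _ _ ha hb => exact add_mem (ha mem_top) (hb mem_top)
    | inv a _ ha => exact inv_mem (ha mem_top)
    | mul a b _ _ ha hb => exact mul_mem (ha mem_top) (hb mem_top)
  refine ⟨w ∘ finSumFinEquiv.symm, hw.comp _ finSumFinEquiv.symm.injective, ?_⟩
  rw [finSumFinEquiv.symm.surjective.range_comp, hwtop]

theorem transport {R₁ R₂ : Type*} [Field R₁] [Field R₂] [Algebra k R₁] [Algebra k R₂]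
    (Ψ : R₁ ≃ₐ[k] R₂) {N : ℕ} (t₂ : Fin N → R₂) (h1 : AlgebraicIndependent k t₂)
    (h2 : adjoin k (Set.range t₂) = ⊤) :
    ∃ t : Fin N → R₁, AlgebraicIndependent k t ∧ adjoin k (Set.range t) = ⊤ := by
  refine ⟨Ψ.symm ∘ t₂, h1.map' (f := (Ψ.symm : R₂ →ₐ[k] R₁)) Ψ.symm.injective, ?_⟩
  rw [eq_top_iff]
  intro a _
  have h3 : Ψ a ∈ adjoin k (Set.range t₂) := h2 ▸ mem_top
  have h4 : Ψ.symm (Ψ a) ∈ (adjoin k (Set.range t₂)).map (Ψ.symm : R₂ →ₐ[k] R₁) :=
    ⟨Ψ a, h3, rfl⟩
  rw [adjoin_map, ← Set.range_comp, AlgEquiv.symm_apply_apply] at h4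
  exact h4

theorem s15698 (n m : ℕ)
    (G : Subgroup (InvFld.Fld (Fin m) k ≃ₐ[k] InvFld.Fld (Fin m) k)) [Finite G]
    (e : G ≃* Equiv.Perm (Fin n))
    (hG : ∀ σ ∈ G, ∀ i : Fin m, σ (InvFld.X i) ∈ Submodule.span k (Set.range fun j : Fin m => (InvFld.X j : InvFld.Fld (Fin m) k))) :
    ∃ (r N : ℕ) (t : Fin N → InvFld.Fld (Fin r) (IntermediateField.fixedField G)),
      AlgebraicIndependent k t ∧ IntermediateField.adjoin k (Set.range t) = ⊤ := by
  obtain ⟨Ψ⟩ := core m n (Γ₀ := ↥G) G.subtype ((permRep k n).comp e.toMonoidHom)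
    Subtype.val_injective (permRep_injective.comp e.injective)
    (fun g i => hG g.1 g.2 i)
    (fun g i => by
      change permRep k n (e g) (InvFld.X i) ∈ _
      rw [permRep_X]
      exact Submodule.subset_span ⟨_, rfl⟩)
    (IntermediateField.fixedField G)
    (fun a => by
      rw [IntermediateField.mem_fixedField_iff]
      exact ⟨fun h g => h g.1 g.2, fun h σ hσ => h ⟨σ, hσ⟩⟩)
    (adjoin k (Set.range (esym k n)))
    (fun a => by
      rw [mem_adjoin_esym_iff]
      refine ⟨fun h g => h (e g), fun h π => ?_⟩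
      have := h (e.symm π)
      simpa using this)
  obtain ⟨t₂, h1, h2⟩ := pure_of_pure m (esym k n) esym_algebraicIndependent
  obtain ⟨t, ht1, ht2⟩ := transport Ψ t₂ h1 h2
  exact ⟨n, m + n, t, ht1, ht2⟩

end Helper24NoName4
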