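import Mathlib
import Groth.Prelude.Def_EGA4b
import Groth.Prelude.Def_AssocGrMod

set_option autoImplicit false
universe u
open DirectSum

namespace Groth.Agent.Lib.Helper24NormFlat

variable {A : Type u} [CommRing A] (I : Ideal A) (M : Type u) [AddCommGroup M] [Module A M]

/-- the pieces in the form used by `EGA4.IsNormallyFlat` -/
abbrev P (n : ℕ) : Type u :=
  ↥(I ^ n • (⊤ : Submodule A M)) ⧸ (I • (⊤ : Submodule A ↥(I ^ n • (⊤ : Submodule A M))))

instance instTowerP (n : ℕ) : IsScalarTower A (A ⧸ I) (P I M n) :=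
  Module.IsTorsionBySet.isScalarTower (Module.isTorsionBySet_quotient_ideal_smul _ I)

theorem mem_smul_top_iff' (n : ℕ) (x : ↥(I ^ n • (⊤ : Submodule A M))) :
    x ∈ I • (⊤ : Submodule A ↥(I ^ n • (⊤ : Submodule A M))) ↔
      (x : M) ∈ (Rees.powFilt I M).N (n + 1) := by
  rw [Submodule.mem_smul_top_iff]
  show (x : M) ∈ I • (I ^ n • (⊤ : Submodule A M)) ↔ (x : M) ∈ I ^ (n + 1) • (⊤ : Submodule A M)
  rw [← Submodule.mul_smul, ← pow_succ']

noncomputable def monomL (n : ℕ) :
    ↥(I ^ n • (⊤ : Submodule A M)) →ₗ[A] AssocGr.ReesM (Rees.powFilt I M) where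
  toFun x := AssocGr.monomM (Rees.powFilt I M) n x
  map_add' x y := by
    show AssocGr.monomM (Rees.powFilt I M) n (x + y) =
      AssocGr.monomM (Rees.powFilt I M) n x + AssocGr.monomM (Rees.powFilt I M) n y
    refine AssocGr.ReesM.ext (Rees.powFilt I M) (fun m => ?_)
    rw [AssocGr.ReesM.coeff_add, AssocGr.ReesM.coeff_monomM, AssocGr.ReesM.coeff_monomM,
      AssocGr.ReesM.coeff_monomM]
    split_ifs
    · rfl
    · rw [add_zero]
  map_smul' a x := by
    show AssocGr.monomM (Rees.powFilt I M) n (a • x) =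
      a • AssocGr.monomM (Rees.powFilt I M) n x
    refine AssocGr.ReesM.ext (Rees.powFilt I M) (fun m => ?_)
    rw [AssocGr.ReesM.coeff_smul_base, AssocGr.ReesM.coeff_monomM, AssocGr.ReesM.coeff_monomM]
    split_ifs
    · rfl
    · rw [smul_zero]

noncomputable def iota0 (n : ℕ) :
    ↥(I ^ n • (⊤ : Submodule A M)) →ₗ[A] AssocGr.GrMod (Rees.powFilt I M) :=
  (AssocGr.mkGM (Rees.powFilt I M)).comp (monomL I M n)

noncomputable def iota (n : ℕ) : P I M n →ₗ[A] AssocGr.GrMod (Rees.powFilt I M) :=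
  Submodule.liftQ _ (iota0 I M n) (by
    intro x hx
    rw [LinearMap.mem_ker]
    show AssocGr.mkGM (Rees.powFilt I M) (AssocGr.monomM (Rees.powFilt I M) n x) = 0
    rw [AssocGr.mkGM_eq_zero_iff]
    intro m
    rw [AssocGr.ReesM.coeff_monomM]
    split_ifs with h
    · subst h
      exact (mem_smul_top_iff' I M n x).mp hx
    · exact Submodule.zero_mem _)

noncomputable def Psi : (⨁ n, P I M n) →ₗ[A] AssocGr.GrMod (Rees.powFilt I M) :=
  DirectSum.toModule A ℕ (AssocGr.GrMod (Rees.powFilt I M)) (fun n => iota I M n)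

theorem Psi_lof (n : ℕ) (p : P I M n) :
    Psi I M (DirectSum.lof A ℕ (P I M) n p) = iota I M n p := by
  rw [Psi, DirectSum.toModule_lof]

theorem Psi_surjective : Function.Surjective (Psi I M) := by
  intro y
  obtain ⟨z, rfl⟩ := AssocGr.mkGM_surjective (Rees.powFilt I M) y
  obtain ⟨s, hs⟩ : ∃ s : Finset ℕ, ∑ n ∈ s, AssocGr.termM (Rees.powFilt I M) z n = z :=
    ⟨_, AssocGr.sum_termM (Rees.powFilt I M) z⟩
  refine ⟨∑ n ∈ s, DirectSum.lof A ℕ (P I M) n
    (Submodule.Quotient.mk ⟨AssocGr.ReesM.coeff (Rees.powFilt I M) z n,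
      AssocGr.ReesM.coeff_mem (Rees.powFilt I M) z n⟩), ?_⟩
  have hz : AssocGr.mkGM (Rees.powFilt I M) z =
      ∑ n ∈ s, AssocGr.mkGM (Rees.powFilt I M) (AssocGr.termM (Rees.powFilt I M) z n) := by
    rw [← map_sum, hs]
  rw [map_sum, hz]
  refine Finset.sum_congr rfl (fun n _ => ?_)
  rw [Psi_lof]
  rfl

theorem Psi_injective : Function.Injective (Psi I M) := by
  classical
  rw [injective_iff_map_eq_zero]
  intro x hx
  have hrep : ∀ n, ∃ r : ↥(I ^ n • (⊤ : Submodule A M)),
      (Submodule.Quotient.mk r : P I M n) = x n :=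
    fun n => Submodule.Quotient.mk_surjective _ (x n)
  choose r hr using hrep
  have hx' : x = ∑ n ∈ DFinsupp.support x,
      DirectSum.lof A ℕ (P I M) n (Submodule.Quotient.mk (r n)) := by
    conv_lhs => rw [← DirectSum.sum_support_of x]
    refine Finset.sum_congr rfl (fun n _ => ?_)
    rw [hr n]
    rfl
  have h1 : Psi I M x = AssocGr.mkGM (Rees.powFilt I M)
      (∑ n ∈ DFinsupp.support x, monomL I M n (r n)) := by
    conv_lhs => rw [hx']
    rw [map_sum, map_sum]
    refine Finset.sum_congr rfl (fun n _ => ?_)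
    rw [Psi_lof]
    rfl
  rw [h1, AssocGr.mkGM_eq_zero_iff] at hx
  have hcoeff : ∀ m, AssocGr.ReesM.coeff (Rees.powFilt I M)
      (∑ n ∈ DFinsupp.support x, monomL I M n (r n)) m =
        if m ∈ DFinsupp.support x then ((r m : ↥(I ^ m • (⊤ : Submodule A M))) : M) else 0 := by
    intro m
    have hc : ∀ n, AssocGr.ReesM.coeff (Rees.powFilt I M) (monomL I M n (r n)) m =
        if n = m then ((r n : ↥(I ^ n • (⊤ : Submodule A M))) : M) else 0 :=
      fun n => AssocGr.ReesM.coeff_monomM (Rees.powFilt I M) n (r n) m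
    rw [← AssocGr.ReesM.coeffHom_apply, map_sum]
    simp only [AssocGr.ReesM.coeffHom_apply, hc]
    exact Finset.sum_ite_eq' _ m (fun n => ((r n : ↥(I ^ n • (⊤ : Submodule A M))) : M))
  have hm : ∀ m, x m = 0 := by
    intro m
    by_cases hms : m ∈ DFinsupp.support x
    · have h2 := (AssocGr.mem_succMod_iff (Rees.powFilt I M) _).mp hx m
      rw [hcoeff m, if_pos hms] at h2
      rw [← hr m]
      exact (Submodule.Quotient.mk_eq_zero _).mpr ((mem_smul_top_iff' I M m (r m)).mpr h2)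
    · exact DFinsupp.notMem_support_iff.mp hms
  exact DFinsupp.ext (fun m => (hm m).trans rfl)

theorem s16455 (A : Type u) [CommRing A] (I : Ideal A) (M : Type u)
    [AddCommGroup M] [Module A M] :
    EGA4.IsNormallyFlat I M ↔ Module.Flat (A ⧸ I) (AssocGr.GrMod (Rees.powFilt I M)) := by
  have hsurj : Function.Surjective (algebraMap A (A ⧸ I)) := by
    rw [Ideal.Quotient.algebraMap_eq]; exact Ideal.Quotient.mk_surjective
  have e : (⨁ n, P I M n) ≃ₗ[A ⧸ I] AssocGr.GrMod (Rees.powFilt I M) :=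
    (LinearEquiv.ofBijective (Psi I M)
      ⟨Psi_injective I M, Psi_surjective I M⟩).extendScalarsOfSurjective hsurj
  rw [← Module.Flat.equiv_iff e, Module.Flat.directSum_iff]
  rfl

end Groth.Agent.Lib.Helper24NormFlat
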