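import Mathlib

set_option autoImplicit false
universe u

namespace Groth.Agent.Lib.Helper24NormZero

open scoped BigOperators

theorem det_blockDiagonal'_aux {α : Type*} [Fintype α] [DecidableEq α] {m' : α → Type*}
    [∀ i, Fintype (m' i)] [∀ i, DecidableEq (m' i)] {R : Type*} [CommRing R]
    (d : ∀ i, Matrix (m' i) (m' i) R) :
    (Matrix.blockDiagonal' d).det = ∏ i, (d i).det := by
  classical
  letI : LinearOrder α := LinearOrder.lift' (Fintype.equivFin α) (Fintype.equivFin α).injective
  rw [(Matrix.blockTriangular_blockDiagonal' d).det_fintype]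
  refine Finset.prod_congr rfl (fun k _ => ?_)
  have : (Matrix.blockDiagonal' d).toSquareBlock Sigma.fst k =
      (d k).submatrix (Equiv.sigmaSubtype k) (Equiv.sigmaSubtype k) := by
    ext ⟨⟨i, x⟩, hi⟩ ⟨⟨j, y⟩, hj⟩
    dsimp only at hi hj
    subst hi
    subst hj
    simp [Matrix.toSquareBlock_def, Equiv.sigmaSubtype]
  rw [this, Matrix.det_submatrix_equiv_self]

theorem det_pi_dep {R : Type*} [CommRing R] {ι : Type*} [Fintype ι] [DecidableEq ι]
    {M : ι → Type*} [∀ i, AddCommGroup (M i)] [∀ i, Module R (M i)]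
    [∀ i, Module.Free R (M i)] [∀ i, Module.Finite R (M i)] (g : ∀ i, M i →ₗ[R] M i) :
    LinearMap.det (LinearMap.pi (fun i => (g i).comp (LinearMap.proj i))) =
      ∏ i, LinearMap.det (g i) := by
  classical
  let b := fun i => Module.Free.chooseBasis R (M i)
  have key : LinearMap.toMatrix (Pi.basis b) (Pi.basis b)
      (LinearMap.pi (fun i => (g i).comp (LinearMap.proj i))) =
      Matrix.blockDiagonal' (fun i => LinearMap.toMatrix (b i) (b i) (g i)) := by
    ext ⟨i, a⟩ ⟨j, c⟩
    rw [LinearMap.toMatrix_apply, Pi.basis_repr, Pi.basis_apply, Matrix.blockDiagonal'_apply']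
    simp only [LinearMap.pi_apply, LinearMap.coe_comp, Function.comp_apply, LinearMap.coe_proj,
      Function.eval]
    by_cases h : i = j
    · subst h
      simp [LinearMap.toMatrix_apply]
    · rw [dif_neg h, Pi.single_eq_of_ne h, map_zero]; simp
  rw [← LinearMap.det_toMatrix (Pi.basis b), key, det_blockDiagonal'_aux]
  exact Finset.prod_congr rfl (fun i _ => LinearMap.det_toMatrix (b i) (g i))

theorem norm_local (k : Type u) [Field k] (R : Type u) [CommRing R] [Algebra k R]
    [Module.Finite k R] (x : R) (c : k) (hx : IsNilpotent (x - algebraMap k R c)) :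
    Algebra.norm k x = c ^ Module.finrank k R := by
  have hx' : IsNilpotent (algebraMap k R c - x) := by
    have := hx.neg; rwa [neg_sub] at this
  have hN : IsNilpotent (Algebra.lmul k R (algebraMap k R c - x)) := hx'.map (Algebra.lmul k R)
  have h1 := hN.charpoly_eq_X_pow_finrank
  have h2 := LinearMap.eval_charpoly (Algebra.lmul k R (algebraMap k R c - x)) c
  rw [h1, Polynomial.eval_pow, Polynomial.eval_X] at h2
  rw [h2, Algebra.norm_apply]
  congr 1
  rw [map_sub, AlgHom.commutes, sub_sub_cancel]

theorem s13117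
    (k A : Type u) [Field k] [IsAlgClosed k] [CommRing A] [Algebra k A] [Module.Finite k A] (f : A) :
    Algebra.norm k f =
      ∏ᶠ φ : A →ₐ[k] k, φ f ^ Module.finrank k (Localization.AtPrime (Ideal.comap φ ⊥)) := by
  classical
  haveI : IsArtinianRing A := IsArtinianRing.of_finite k A
  haveI : Fintype (PrimeSpectrum A) := Fintype.ofFinite _
  have hfinloc : ∀ p : PrimeSpectrum A, Module.Finite k (Localization p.asIdeal.primeCompl) :=
    fun p => Module.Finite.of_surjective
      (Algebra.algHom k A (Localization p.asIdeal.primeCompl)).toLinearMap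
      (IsArtinianRing.localization_surjective p.asIdeal.primeCompl _)
  haveI := hfinloc
  have h_i : Algebra.norm k f = ∏ p : PrimeSpectrum A,
      Algebra.norm k (algebraMap A (Localization p.asIdeal.primeCompl) f) := by
    let E := PrimeSpectrum.toPiLocalizationEquiv A
    let e : A ≃ₗ[k] (Π p : PrimeSpectrum A, Localization p.asIdeal.primeCompl) :=
      (E.restrictScalars k).toLinearEquiv
    have hconj : (e : A →ₗ[k] _) ∘ₗ (Algebra.lmul k A f) ∘ₗ (e.symm : _ →ₗ[k] A) =
        LinearMap.pi (fun p : PrimeSpectrum A => (Algebra.lmul k (Localization p.asIdeal.primeCompl)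
          (algebraMap A _ f)).comp (LinearMap.proj p)) := by
      apply LinearMap.ext; intro y
      funext p
      have h1 : e (f * e.symm y) = E f * y := by
        show E (f * E.symm y) = E f * y
        rw [map_mul, AlgEquiv.apply_symm_apply]
      show (e (f * e.symm y)) p = algebraMap A _ f * y p
      rw [h1]; rfl
    rw [Algebra.norm_apply, ← LinearMap.det_conj (Algebra.lmul k A f) e, hconj, det_pi_dep]
    rfl
  have h_ii : ∀ φ : A →ₐ[k] k,
      Algebra.norm k (algebraMap A (Localization.AtPrime (Ideal.comap φ ⊥)) f) =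
        φ f ^ Module.finrank k (Localization.AtPrime (Ideal.comap φ ⊥)) := by
    intro φ
    haveI : Module.Finite k (Localization.AtPrime (Ideal.comap φ ⊥)) :=
      hfinloc ⟨Ideal.comap φ ⊥, inferInstance⟩
    apply norm_local
    rw [IsScalarTower.algebraMap_apply k A (Localization.AtPrime (Ideal.comap φ ⊥)), ← map_sub]
    rw [Ring.KrullDimLE.isNilpotent_iff_mem_maximalIdeal,
      IsLocalization.AtPrime.to_map_mem_maximal_iff _ (Ideal.comap φ ⊥)]
    rw [Ideal.mem_comap, Ideal.mem_bot, map_sub, AlgHom.commutes]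
    simp
  let Ψ : (A →ₐ[k] k) → PrimeSpectrum A := fun φ => ⟨Ideal.comap φ ⊥, inferInstance⟩
  have hΨ : Function.Bijective Ψ := by
    constructor
    · intro φ ψ h
      have hker : Ideal.comap φ (⊥ : Ideal k) = Ideal.comap ψ ⊥ :=
        congrArg PrimeSpectrum.asIdeal h
      apply AlgHom.ext; intro a
      have hmem : a - algebraMap k A (φ a) ∈ Ideal.comap φ (⊥ : Ideal k) := by
        rw [Ideal.mem_comap, Ideal.mem_bot, map_sub, AlgHom.commutes]; simp
      rw [hker, Ideal.mem_comap, Ideal.mem_bot, map_sub, AlgHom.commutes] at hmem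
      have := sub_eq_zero.mp hmem
      simpa using this.symm
    · intro p
      haveI : Algebra.IsIntegral k (A ⧸ p.asIdeal) := Algebra.IsIntegral.of_finite k _
      have bij := IsAlgClosed.algebraMap_bijective_of_isIntegral (k := k) (K := A ⧸ p.asIdeal)
      let ε : k ≃ₐ[k] (A ⧸ p.asIdeal) :=
        AlgEquiv.ofBijective (Algebra.ofId k (A ⧸ p.asIdeal)) bij
      refine ⟨(ε.symm : (A ⧸ p.asIdeal) →ₐ[k] k).comp (Ideal.Quotient.mkₐ k p.asIdeal), ?_⟩
      apply PrimeSpectrum.ext
      ext a
      show a ∈ Ideal.comap _ ⊥ ↔ a ∈ p.asIdeal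
      rw [Ideal.mem_comap, Ideal.mem_bot]
      show ε.symm (Ideal.Quotient.mk p.asIdeal a) = 0 ↔ a ∈ p.asIdeal
      rw [map_eq_zero_iff ε.symm ε.symm.injective, Ideal.Quotient.eq_zero_iff_mem]
  calc Algebra.norm k f
      = ∏ p : PrimeSpectrum A,
          Algebra.norm k (algebraMap A (Localization p.asIdeal.primeCompl) f) := h_i
    _ = ∏ᶠ p : PrimeSpectrum A,
          Algebra.norm k (algebraMap A (Localization p.asIdeal.primeCompl) f) :=
        (finprod_eq_prod_of_fintype _).symm
    _ = ∏ᶠ φ : A →ₐ[k] k,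
          Algebra.norm k (algebraMap A (Localization (Ψ φ).asIdeal.primeCompl) f) :=
        (finprod_comp Ψ hΨ).symm
    _ = _ := finprod_congr (fun φ => h_ii φ)

end Groth.Agent.Lib.Helper24NormZero
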