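import Groth.Agent.Lib.LeadAzumayaLocal

/-! # An algebra map from a free Azumaya algebra to a free algebra of the same rank is bijective -/

namespace Groth.Agent.Lib.LeadRG

open TensorProduct Groth.Agent.Lib.LeadAzumaya

theorem algHom_bijective_of_finrank_eq {S : Type*} [CommRing S] {B₁ B₂ : Type*} [Ring B₁] [Ring B₂]
    [Algebra S B₁] [Algebra S B₂] [IsAzumaya S B₁] [Module.Free S B₁] [Module.Finite S B₂]
    [Module.Free S B₂] (h : Module.finrank S B₁ = Module.finrank S B₂) (ψ : B₁ →ₐ[S] B₂) :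
    Function.Bijective ψ := by
  classical
  rcases subsingleton_or_nontrivial S with hS | hS
  · haveI : Subsingleton B₁ := Module.subsingleton S B₁
    haveI : Subsingleton B₂ := Module.subsingleton S B₂
    exact ⟨fun a b _ => Subsingleton.elim a b, fun y => ⟨0, Subsingleton.elim _ _⟩⟩
  let b₁ : Module.Basis (Fin (Module.finrank S B₁)) S B₁ := Module.finBasis S B₁
  let b₂ : Module.Basis (Fin (Module.finrank S B₁)) S B₂ :=
    (Module.finBasis S B₂).reindex (finCongr h.symm)
  have hdet : IsUnit (LinearMap.toMatrix b₁ b₂ ψ.toLinearMap).det := by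
    by_contra hnu
    obtain ⟨P, hP, hmem⟩ := exists_max_ideal_of_mem_nonunits hnu
    haveI := hP
    letI : Field (S ⧸ P) := Ideal.Quotient.field P
    haveI : Nontrivial B₁ := (FaithfulSMul.algebraMap_injective S B₁).nontrivial
    have hpos : 0 < Module.finrank S B₂ := by
      rw [← h]
      exact (Module.finrank_pos_iff_of_free S B₁).mpr inferInstance
    haveI : IsAzumaya (S ⧸ P) ((S ⧸ P) ⊗[S] B₁) := isAzumaya_baseChange (S ⧸ P) B₁
    haveI : IsSimpleRing ((S ⧸ P) ⊗[S] B₁) := isSimpleRing_of_isAzumaya_field (k := S ⧸ P)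
    haveI : Nontrivial ((S ⧸ P) ⊗[S] B₂) := by
      apply Module.nontrivial_of_finrank_pos (R := S ⧸ P)
      rw [Module.finrank_baseChange]
      exact hpos
    let ψκ : (S ⧸ P) ⊗[S] B₁ →ₐ[S ⧸ P] (S ⧸ P) ⊗[S] B₂ :=
      Algebra.TensorProduct.map (AlgHom.id (S ⧸ P) (S ⧸ P)) ψ
    have hinj : Function.Injective ψκ :=
      (IsSimpleRing.injective_ringHom_or_subsingleton_codomain
        (ψκ : (S ⧸ P) ⊗[S] B₁ →+* (S ⧸ P) ⊗[S] B₂)).resolve_right (not_subsingleton _)
    have hfun : ∀ z, (ψ.toLinearMap.baseChange (S ⧸ P)) z = ψκ z := by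
      intro z
      induction z using TensorProduct.induction_on with
      | zero => simp
      | tmul a b => simp [ψκ]
      | add x y hx hy => rw [map_add, map_add, hx, hy]
    have hinj' : Function.Injective (ψ.toLinearMap.baseChange (S ⧸ P)) := by
      intro z w hzw
      rw [hfun, hfun] at hzw
      exact hinj hzw
    have hfr : Module.finrank (S ⧸ P) ((S ⧸ P) ⊗[S] B₁) =
        Module.finrank (S ⧸ P) ((S ⧸ P) ⊗[S] B₂) := by
      rw [Module.finrank_baseChange, Module.finrank_baseChange, h]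
    have hsurj' : Function.Surjective (ψ.toLinearMap.baseChange (S ⧸ P)) :=
      (LinearMap.injective_iff_surjective_of_finrank_eq_finrank hfr).mp hinj'
    let e := LinearEquiv.ofBijective (ψ.toLinearMap.baseChange (S ⧸ P)) ⟨hinj', hsurj'⟩
    have hu := LinearEquiv.isUnit_det e (Algebra.TensorProduct.basis (S ⧸ P) b₁)
      (Algebra.TensorProduct.basis (S ⧸ P) b₂)
    have he : (e : (S ⧸ P) ⊗[S] B₁ →ₗ[S ⧸ P] (S ⧸ P) ⊗[S] B₂) =
        ψ.toLinearMap.baseChange (S ⧸ P) := rfl
    rw [he, LinearMap.toMatrix_baseChange] at hu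
    have h2 : ((LinearMap.toMatrix b₁ b₂ ψ.toLinearMap).map (algebraMap S (S ⧸ P))).det =
        algebraMap S (S ⧸ P) (LinearMap.toMatrix b₁ b₂ ψ.toLinearMap).det :=
      (RingHom.map_det _ _).symm
    rw [h2] at hu
    have h3 : algebraMap S (S ⧸ P) (LinearMap.toMatrix b₁ b₂ ψ.toLinearMap).det = 0 :=
      Ideal.Quotient.eq_zero_iff_mem.mpr hmem
    rw [h3] at hu
    exact not_isUnit_zero hu
  have := (LinearEquiv.ofIsUnitDet hdet).bijective
  have h4 : ∀ z, (LinearEquiv.ofIsUnitDet hdet) z = ψ z := fun z => by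
    rw [LinearEquiv.ofIsUnitDet_apply]; rfl
  constructor
  · intro z w hzw
    apply this.1
    rw [h4, h4, hzw]
  · intro y
    obtain ⟨z, hz⟩ := this.2 y
    exact ⟨z, by rw [← h4, hz]⟩

end Groth.Agent.Lib.LeadRG
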