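import Mathlib
import Groth.Prelude.Def_GSzCSA
import Groth.Agent.Lib.Helper14H90
import Groth.Agent.Lib.LeadRD7
import Groth.Agent.Lib.LeadRN1

/-!
# Galois equivariance and base-change compatibility of the reduced norm; `H¹` of `SL₁(A)`
-/

set_option autoImplicit false
universe u v w w'

open scoped TensorProduct
attribute [local instance] CSAGal.tensorAction GpH1.unitsAction

namespace Groth.Agent.Lib.Helper24NrdGal

open Groth.Agent.Lib.LeadRN Groth.Agent.Lib.LeadCSA Groth.Agent.Lib.LeadRD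

section Transport

variable {K₁ : Type u} {K₂ : Type v} [Field K₁] [Field K₂] (E : K₁ ≃+* K₂)
  {B₁ : Type w} {B₂ : Type w'} [Ring B₁] [Ring B₂] [Algebra K₁ B₁] [Algebra K₂ B₂]
  (f : B₁ ≃+* B₂) (hf : ∀ c : K₁, f (algebraMap K₁ B₁ c) = algebraMap K₂ B₂ (E c))
  {n : ℕ} (φ₂ : B₂ ≃ₐ[K₂] Matrix (Fin n) (Fin n) K₂)

/-- transport of a splitting along a semilinear ring isomorphism -/
noncomputable def transport : B₁ ≃ₐ[K₁] Matrix (Fin n) (Fin n) K₁ :=
  AlgEquiv.ofRingEquiv (f := (f.trans φ₂.toRingEquiv).trans E.symm.mapMatrix) (by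
    intro c
    rw [RingEquiv.trans_apply, RingEquiv.trans_apply, hf]
    have : φ₂.toRingEquiv (algebraMap K₂ B₂ (E c)) = algebraMap K₂ _ (E c) := φ₂.commutes (E c)
    rw [this]
    ext i j
    simp only [RingEquiv.mapMatrix_apply, Matrix.map_apply, Matrix.algebraMap_matrix_apply]
    split_ifs <;> simp)

theorem transport_apply (b : B₁) :
    transport E f hf φ₂ b = (φ₂ (f b)).map E.symm := rfl

theorem det_transport (b : B₁) :
    (transport E f hf φ₂ b).det = E.symm (φ₂ (f b)).det := by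
  rw [transport_apply]
  exact (RingHom.map_det E.symm.toRingHom (φ₂ (f b))).symm

end Transport


section Main

variable (k : Type u) [Field k] (K : Type v) [Field K] [Algebra k K] [FiniteDimensional k K]
  [IsGalois k K] (A : Type w) [Ring A] [Algebra k A] [Algebra.IsCentral k A] [IsSimpleRing A]
  [FiniteDimensional k A]
  (NK : (K ⊗[k] A) →* K) (hNK : CSAGal.IsRedNorm K (K ⊗[k] A) NK)

include hNK in
omit [FiniteDimensional k K] [IsGalois k K] in
/-- the reduced norm of `K ⊗ A` is the determinant in any splitting over `K` -/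
theorem NK_eq_det {n : ℕ} (φ : K ⊗[k] A ≃ₐ[K] Matrix (Fin n) (Fin n) K) (t : K ⊗[k] A) :
    NK t = (φ t).det := by
  haveI : Algebra.IsCentral K (K ⊗[k] A) := isCentral_baseChange K
  haveI : IsSimpleRing (K ⊗[k] A) := isSimpleRing_baseChange K
  rw [eq_nrd_of_isRedNorm NK hNK t]
  have := nrd_spec_fin (k := K) (A := K ⊗[k] A) K n
    ((Algebra.TensorProduct.lid K (K ⊗[k] A)).trans φ) t
  simpa using this

include hNK in
omit [FiniteDimensional k K] [IsGalois k K] in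
/-- Galois equivariance of the reduced norm -/
theorem NK_smul (hA : Curves.Splits k A K) (σ : K ≃ₐ[k] K) (t : K ⊗[k] A) :
    NK (σ • t) = σ (NK t) := by
  obtain ⟨n, hn, ⟨φ⟩⟩ := hA
  let f : (K ⊗[k] A) ≃+* (K ⊗[k] A) :=
    (Algebra.TensorProduct.congr σ (AlgEquiv.refl : A ≃ₐ[k] A)).toRingEquiv
  have hf : ∀ c : K, f (algebraMap K (K ⊗[k] A) c)
      = algebraMap K (K ⊗[k] A) (σ.toRingEquiv c) := by
    intro c
    simp [f, Algebra.TensorProduct.algebraMap_apply]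
  have hfs : ∀ t, f t = σ • t := by
    intro t
    rw [CSAGal.smul_eq_map]
    rfl
  have h1 := NK_eq_det k K A NK hNK (transport σ.toRingEquiv f hf φ) t
  have h2 := NK_eq_det k K A NK hNK φ (σ • t)
  rw [det_transport, hfs, ← h2] at h1
  rw [h1]
  simp

include hNK in
omit [IsGalois k K] in
/-- base-change compatibility of the reduced norm -/
theorem NK_one_tmul [Algebra.IsSeparable k K] (hA : Curves.Splits k A K) (N : A →* k)
    (hN : CSAGal.IsRedNorm k A N) (x : A) :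
    NK ((1 : K) ⊗ₜ[k] x) = algebraMap k K (N x) := by
  obtain ⟨n, hn, ⟨φ⟩⟩ := hA
  obtain ⟨K', _, _, ⟨E⟩⟩ := exists_small_copy k K
  let f : (K' ⊗[k] A) ≃+* (K ⊗[k] A) :=
    (Algebra.TensorProduct.congr E (AlgEquiv.refl : A ≃ₐ[k] A)).toRingEquiv
  have hf : ∀ c : K', f (algebraMap K' (K' ⊗[k] A) c)
      = algebraMap K (K ⊗[k] A) (E.toRingEquiv c) := by
    intro c
    simp [f, Algebra.TensorProduct.algebraMap_apply]
  have hf1 : f ((1 : K') ⊗ₜ[k] x) = (1 : K) ⊗ₜ[k] x := by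
    simp [f]
  have h1 := nrd_spec_fin (k := k) (A := A) K' n (transport E.toRingEquiv f hf φ) x
  rw [det_transport, hf1, ← NK_eq_det k K A NK hNK φ] at h1
  rw [eq_nrd_of_isRedNorm N hN x]
  have h2 := congrArg E h1
  simp only [AlgEquiv.commutes] at h2
  rw [h2]
  simp

end Main


section H1

open Groth.Agent.Lib.Helper23

variable (k : Type u) [Field k] (K : Type v) [Field K] [Algebra k K] [FiniteDimensional k K]
  [IsGalois k K] (A : Type w) [Ring A] [Algebra k A] [Algebra.IsCentral k A] [IsSimpleRing A]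
  [FiniteDimensional k A]
  (hA : Curves.Splits k A K)
  (NK : (K ⊗[k] A) →* K) (hNK : CSAGal.IsRedNorm K (K ⊗[k] A) NK)

include hA hNK in
theorem part_one (a : GpH1.OneCocycle (K ≃ₐ[k] K) (K ⊗[k] A)ˣ)
    (ha : ∀ σ, NK (a σ : K ⊗[k] A) = 1) :
    ∃ (c : kˣ) (b : (K ⊗[k] A)ˣ), NK (b : K ⊗[k] A) = algebraMap k K (c : k) ∧
      ∀ σ : K ≃ₐ[k] K, a σ = b⁻¹ * σ • b := by
  obtain ⟨b, hb⟩ := Groth.Agent.Lib.Helper14H90.main a.1 a.2
  have h3 : NK ((b⁻¹ : (K ⊗[k] A)ˣ) : K ⊗[k] A) * NK (b : K ⊗[k] A) = 1 := by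
    rw [← map_mul, Units.inv_mul, map_one]
  have hne : NK ((b⁻¹ : (K ⊗[k] A)ˣ) : K ⊗[k] A) ≠ 0 := left_ne_zero_of_mul_eq_one h3
  have hfix : ∀ σ : K ≃ₐ[k] K, σ (NK (b : K ⊗[k] A)) = NK (b : K ⊗[k] A) := by
    intro σ
    have h1 := ha σ
    have hb' : a σ = b⁻¹ * σ • b := hb σ
    rw [hb', Units.val_mul, map_mul] at h1
    have h2 : ((σ • b : (K ⊗[k] A)ˣ) : K ⊗[k] A) = σ • (b : K ⊗[k] A) := rfl
    rw [h2, NK_smul k K A NK hNK hA] at h1
    exact mul_left_cancel₀ hne (h1.trans h3.symm)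
  obtain ⟨c₀, hc₀⟩ := (IsGalois.mem_range_algebraMap_iff_fixed (NK (b : K ⊗[k] A))).mpr hfix
  have hc₀ne : c₀ ≠ 0 := by
    rintro rfl
    rw [map_zero] at hc₀
    rw [← hc₀, mul_zero] at h3
    exact zero_ne_one h3
  exact ⟨Units.mk0 c₀ hc₀ne, b, hc₀.symm, hb⟩

include hA hNK in
theorem part_two (N : A →* k) (hN : CSAGal.IsRedNorm k A N) (c c' : kˣ) (b b' : (K ⊗[k] A)ˣ)
    (hb : NK (b : K ⊗[k] A) = algebraMap k K (c : k))
    (hb' : NK (b' : K ⊗[k] A) = algebraMap k K (c' : k)) :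
    (∃ s : (K ⊗[k] A)ˣ, NK (s : K ⊗[k] A) = 1 ∧
        ∀ σ : K ≃ₐ[k] K, b'⁻¹ * σ • b' = s⁻¹ * (b⁻¹ * σ • b) * σ • s) ↔
      ∃ x : Aˣ, (c' : k) = N (x : A) * (c : k) := by
  have hinvN : ∀ u : (K ⊗[k] A)ˣ, NK ((u⁻¹ : (K ⊗[k] A)ˣ) : K ⊗[k] A) = (NK (u : K ⊗[k] A))⁻¹ :=
    fun u => map_units_inv NK u
  constructor
  · rintro ⟨s, hs1, hs⟩
    set y : (K ⊗[k] A)ˣ := b' * s⁻¹ * b⁻¹ with hy
    have hyfix : ∀ σ : K ≃ₐ[k] K, σ • y = y := by
      intro σ
      have hσ : σ • b' = b' * (s⁻¹ * (b⁻¹ * σ • b) * σ • s) := by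
        rw [← hs σ]; group
      rw [hy, smul_mul', smul_mul', smul_inv', smul_inv', hσ]
      group
    have hyfix' : ∀ σ : K ≃ₐ[k] K, σ • (y : K ⊗[k] A) = (y : K ⊗[k] A) := by
      intro σ
      have := congrArg (fun u : (K ⊗[k] A)ˣ => (u : K ⊗[k] A)) (hyfix σ)
      exact this
    have hyifix' : ∀ σ : K ≃ₐ[k] K,
        σ • ((y⁻¹ : (K ⊗[k] A)ˣ) : K ⊗[k] A) = ((y⁻¹ : (K ⊗[k] A)ˣ) : K ⊗[k] A) := by
      intro σ
      have h1 : σ • y⁻¹ = y⁻¹ := by rw [smul_inv', hyfix σ]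
      have := congrArg (fun u : (K ⊗[k] A)ˣ => (u : K ⊗[k] A)) h1
      exact this
    obtain ⟨x₀, hx₀⟩ := exists_one_tmul_eq_of_fixed (k := k) (K := K) (y : K ⊗[k] A) hyfix'
    obtain ⟨x₁, hx₁⟩ := exists_one_tmul_eq_of_fixed (k := k) (K := K)
      ((y⁻¹ : (K ⊗[k] A)ˣ) : K ⊗[k] A) hyifix'
    have h01 : x₀ * x₁ = 1 := by
      apply one_tmul_injective (k := k) (K := K)
      show (1 : K) ⊗ₜ[k] (x₀ * x₁) = (1 : K) ⊗ₜ[k] (1 : A)
      have : (1 : K) ⊗ₜ[k] (x₀ * x₁) = ((1 : K) ⊗ₜ[k] x₀) * ((1 : K) ⊗ₜ[k] x₁) := by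
        rw [Algebra.TensorProduct.tmul_mul_tmul, one_mul]
      rw [this, hx₀, hx₁, Units.mul_inv]
      rfl
    have h10 : x₁ * x₀ = 1 := by
      apply one_tmul_injective (k := k) (K := K)
      show (1 : K) ⊗ₜ[k] (x₁ * x₀) = (1 : K) ⊗ₜ[k] (1 : A)
      have : (1 : K) ⊗ₜ[k] (x₁ * x₀) = ((1 : K) ⊗ₜ[k] x₁) * ((1 : K) ⊗ₜ[k] x₀) := by
        rw [Algebra.TensorProduct.tmul_mul_tmul, one_mul]
      rw [this, hx₀, hx₁, Units.inv_mul]
      rfl
    refine ⟨⟨x₀, x₁, h01, h10⟩, ?_⟩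
    show (c' : k) = N x₀ * (c : k)
    apply (algebraMap k K).injective
    have hb'eq : b' = y * b * s := by rw [hy]; group
    rw [map_mul, ← hb', ← hb, ← NK_one_tmul k K A NK hNK hA N hN x₀, hx₀, hb'eq, Units.val_mul,
      Units.val_mul, map_mul, map_mul, hs1, mul_one]
  · rintro ⟨x, hx⟩
    set y : (K ⊗[k] A)ˣ :=
      Units.map ((Algebra.TensorProduct.includeRight : A →ₐ[k] K ⊗[k] A) : A →* K ⊗[k] A) x
      with hy
    have hyval : (y : K ⊗[k] A) = (1 : K) ⊗ₜ[k] (x : A) := rfl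
    have hyfix : ∀ σ : K ≃ₐ[k] K, σ • y = y := by
      intro σ
      apply Units.ext
      show σ • (y : K ⊗[k] A) = (y : K ⊗[k] A)
      rw [hyval, TensorProduct.smul_tmul', AlgEquiv.smul_def, map_one]
    have hNy : NK (y : K ⊗[k] A) = algebraMap k K (N (x : A)) := by
      rw [hyval]; exact NK_one_tmul k K A NK hNK hA N hN x
    have hNxne : N (x : A) ≠ 0 := by
      have : N (x : A) * N ((x⁻¹ : Aˣ) : A) = 1 := by rw [← map_mul, Units.mul_inv, map_one]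
      exact left_ne_zero_of_mul_eq_one this
    refine ⟨b⁻¹ * y⁻¹ * b', ?_, ?_⟩
    · rw [Units.val_mul, Units.val_mul, map_mul, map_mul, hinvN, hinvN, hb, hNy, hb', hx, map_mul]
      have h1 : algebraMap k K (c : k) ≠ 0 := by
        rw [Ne, map_eq_zero]; exact c.ne_zero
      have h2 : algebraMap k K (N (x : A)) ≠ 0 := by
        rw [Ne, map_eq_zero]; exact hNxne
      field_simp
    · intro σ
      rw [smul_mul', smul_mul', smul_inv', smul_inv', hyfix σ]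
      group

end H1

end Groth.Agent.Lib.Helper24NrdGal
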