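import Mathlib
import Groth.Agent.Lib.Helper15ExtBC
import Groth.Agent.Lib.Helper13QFOmega14

/-!
# Top exterior powers of locally free modules are invertible; the norm of a finite locally free
algebra (helper24)
-/

set_option autoImplicit false
set_option backward.isDefEq.respectTransparency.types false
set_option maxHeartbeats 4000000
set_option synthInstance.maxHeartbeats 400000
set_option linter.style.haveILetI false
set_option linter.unusedSectionVars false
open TensorProduct

namespace Groth.Agent.Lib.Helper24Nrm

universe u

/-- localization at a prime of a finite projective module is free, with the finrank of the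
`LocalizedModule` model. -/
theorem free_tensor_atPrime (A P : Type u) [CommRing A] [AddCommGroup P] [Module A P]
    [Module.Finite A P] [Module.Projective A P] (q : Ideal A) [q.IsPrime] :
    Module.Free (Localization.AtPrime q) (Localization.AtPrime q ⊗[A] P) :=
  Module.free_of_flat_of_isLocalRing

theorem finrank_tensor_atPrime (A P : Type u) [CommRing A] [AddCommGroup P] [Module A P]
    (q : Ideal A) [q.IsPrime] :
    Module.finrank (Localization.AtPrime q) (Localization.AtPrime q ⊗[A] P) =
      Module.finrank (Localization.AtPrime q) (LocalizedModule q.primeCompl P) :=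
  (LocalizedModule.equivTensorProduct q.primeCompl P).finrank_eq.symm

/-- a finite projective module of rank one at every prime is invertible. -/
theorem invertible_of_finrank_one (B M : Type u) [CommRing B] [AddCommGroup M] [Module B M]
    [Module.Finite B M] [Module.Projective B M]
    (h : ∀ q : PrimeSpectrum B, Module.finrank (Localization.AtPrime q.asIdeal)
      (LocalizedModule q.asIdeal.primeCompl M) = 1) : Module.Invertible B M := by
  haveI : Module.FinitePresentation B M := Module.finitePresentation_of_projective B M
  apply Groth.Agent.Helper13QFOmega.invertible_of_forall_prime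
  intro q hq
  haveI := free_tensor_atPrime B M q
  have hr : Module.finrank (Localization.AtPrime q) (Localization.AtPrime q ⊗[B] M) = 1 := by
    rw [finrank_tensor_atPrime]; exact h ⟨q, hq⟩
  exact ⟨LinearEquiv.ofFinrankEq _ _ (by rw [hr, Module.finrank_self])⟩

/-- exterior powers of finite projective modules are projective. -/
theorem projective_extPow (A P : Type u) [CommRing A] [AddCommGroup P] [Module A P]
    [Module.Finite A P] [Module.Projective A P] (n : ℕ) : Module.Projective A (⋀[A]^n P) := by
  obtain ⟨m, f, g, hf, -, hfg⟩ := Module.Finite.exists_comp_eq_id_of_projective A P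
  haveI : Module.Free A (⋀[A]^n (Fin m → A)) := inferInstance
  refine Module.Projective.of_split (exteriorPower.map n g) (exteriorPower.map n f) ?_
  rw [← exteriorPower.map_comp, hfg, exteriorPower.map_id]

/-- the top exterior power of a finite projective module of constant rank `n` is invertible. -/
theorem invertible_extPow (A P : Type u) [CommRing A] [AddCommGroup P] [Module A P]
    [Module.Finite A P] [Module.Projective A P] (n : ℕ)
    (h : ∀ q : PrimeSpectrum A, Module.finrank (Localization.AtPrime q.asIdeal)
      (LocalizedModule q.asIdeal.primeCompl P) = n) : Module.Invertible A (⋀[A]^n P) := by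
  haveI := projective_extPow A P n
  haveI : Module.FinitePresentation A (⋀[A]^n P) := Module.finitePresentation_of_projective A _
  apply Groth.Agent.Helper13QFOmega.invertible_of_forall_prime
  intro q hq
  haveI := free_tensor_atPrime A P q
  have hr : Module.finrank (Localization.AtPrime q) (Localization.AtPrime q ⊗[A] P) = n := by
    rw [finrank_tensor_atPrime]; exact h ⟨q, hq⟩
  have e1 := Groth.Agent.Lib.Helper15ExtBC.bcEquiv A (Localization.AtPrime q) P n
  have hr2 : Module.finrank (Localization.AtPrime q)
      (⋀[Localization.AtPrime q]^n (Localization.AtPrime q ⊗[A] P)) = 1 := by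
    rw [exteriorPower.finrank_eq, hr, Nat.choose_self]
  exact ⟨e1.trans (LinearEquiv.ofFinrankEq _ _ (by rw [hr2, Module.finrank_self]))⟩

section norm

variable (A B : Type u) [CommRing A] [CommRing B] [Algebra A B] (n : ℕ)
  [Module.Invertible A (⋀[A]^n B)]

/-- multiplication by `v` as an `A`-linear endomorphism of `B`. -/
noncomputable def mulEnd (v : B) : B →ₗ[A] B := LinearMap.mulLeft A v

/-- the norm of `v`: the scalar by which `⋀ⁿ(v ·)` acts on the invertible module `⋀ⁿ_A B`. -/
noncomputable def nrm (v : B) : A :=
  (Module.Invertible.toModuleEnd_bijective A (⋀[A]^n B)).2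
    (exteriorPower.map n (mulEnd A B v)) |>.choose

theorem nrm_spec (v : B) (x : ⋀[A]^n B) :
    exteriorPower.map n (mulEnd A B v) x = nrm A B n v • x := by
  have h := ((Module.Invertible.toModuleEnd_bijective A (⋀[A]^n B)).2
    (exteriorPower.map n (mulEnd A B v))).choose_spec
  have := LinearMap.congr_fun h x
  rw [← this]
  rfl

theorem nrm_ιMulti (v : B) (β : Fin n → B) :
    exteriorPower.ιMulti A n (fun i => v * β i) = nrm A B n v • exteriorPower.ιMulti A n β := by
  rw [← nrm_spec, exteriorPower.map_apply_ιMulti]
  rfl

theorem nrm_mul (v w : B) : nrm A B n (v * w) = nrm A B n v * nrm A B n w := by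
  apply (Module.Invertible.toModuleEnd_bijective A (⋀[A]^n B)).1
  apply LinearMap.ext
  intro x
  change nrm A B n (v * w) • x = (nrm A B n v * nrm A B n w) • x
  rw [← nrm_spec, mul_smul, ← nrm_spec A B n w, ← nrm_spec A B n v, ← LinearMap.comp_apply,
    ← exteriorPower.map_comp]
  congr 2
  apply LinearMap.ext
  intro b
  change (v * w) * b = v * (w * b)
  rw [mul_assoc]

end norm

end Groth.Agent.Lib.Helper24Nrm
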