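import Mathlib

/-!
# Local frames of invertible modules over a finite algebra (helper24)

For a finite `A`-algebra `B`, an invertible `B`-module `M` and a prime `p` of `A`, the module `M`
is free of rank one over the semilocal ring `B_p`; clearing denominators gives `B`-linear maps
`θ : B → M`, `ψ : M → B` and `s ∈ A ∖ p` with `ψ ∘ θ = s` and `θ ∘ ψ = s`.
-/

set_option autoImplicit false
set_option backward.isDefEq.respectTransparency.types false
set_option maxHeartbeats 4000000
set_option synthInstance.maxHeartbeats 400000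
set_option linter.style.haveILetI false
set_option linter.unusedSectionVars false
open TensorProduct

namespace Groth.Agent.Lib.Helper24Nrm

universe u

theorem finite_maximalSpectrum_of_finite_local (R' S' : Type*) [CommRing R'] [IsLocalRing R']
    [CommRing S'] [Algebra R' S'] [Module.Finite R' S'] : Finite (MaximalSpectrum S') := by
  haveI : Algebra.IsIntegral R' S' := Algebra.IsIntegral.of_finite R' S'
  have hfin := Algebra.QuasiFinite.finite_primesOver (R := R') (S := S')
    (IsLocalRing.maximalIdeal R')
  haveI := hfin.to_subtype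
  let F : MaximalSpectrum S' → (IsLocalRing.maximalIdeal R').primesOver S' := fun Q =>
    ⟨Q.asIdeal, Q.isMaximal.isPrime, ⟨(IsLocalRing.eq_maximalIdeal
      (Ideal.isMaximal_comap_of_isIntegral_of_isMaximal (R := R') Q.asIdeal)).symm⟩⟩
  refine Finite.of_injective F ?_
  intro Q Q' h
  have := congrArg Subtype.val h
  exact MaximalSpectrum.ext this

theorem exists_frame (A B M : Type u) [CommRing A] [CommRing B] [Algebra A B] [Module.Finite A B]
    [AddCommGroup M] [Module B M] [Module.Invertible B M] (p : Ideal A) [p.IsPrime] :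
    ∃ (θ : B →ₗ[B] M) (ψ : M →ₗ[B] B) (s : A), s ∉ p ∧
      (∀ b, ψ (θ b) = algebraMap A B s * b) ∧ (∀ m, θ (ψ m) = algebraMap A B s • m) := by
  set T := Algebra.algebraMapSubmonoid B p.primeCompl with hT
  haveI : Finite (MaximalSpectrum (Localization T)) :=
    finite_maximalSpectrum_of_finite_local (Localization.AtPrime p) (Localization T)
  haveI : Module.Free (Localization T) (Localization T ⊗[B] M) := inferInstance
  obtain ⟨ε⟩ := (Module.Invertible.free_iff_linearEquiv (R := Localization T)
    (M := Localization T ⊗[B] M)).mp inferInstance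
  set εB : (Localization T ⊗[B] M) ≃ₗ[B] Localization T := ε.restrictScalars B with hεB
  set lM : M →ₗ[B] Localization T ⊗[B] M := TensorProduct.mk B (Localization T) M 1 with hlM
  set lB : B →ₗ[B] Localization T := Algebra.linearMap B (Localization T) with hlB
  haveI : IsLocalizedModule T lM := inferInstance
  haveI : IsLocalizedModule T lB := inferInstance
  haveI : Module.FinitePresentation B M := Module.finitePresentation_of_projective B M
  obtain ⟨ψ₀, t, hψ⟩ := Module.FinitePresentation.exists_lift_of_isLocalizedModule T lB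
    (εB.toLinearMap ∘ₗ lM)
  obtain ⟨θ₀, t', hθ⟩ := Module.FinitePresentation.exists_lift_of_isLocalizedModule T lM
    (εB.symm.toLinearMap ∘ₗ lB)
  have hψ' : ∀ m, lB (ψ₀ m) = (t : B) • εB (lM m) := fun m => by
    have := LinearMap.congr_fun hψ m
    simpa [Submonoid.smul_def] using this
  have hθ' : ∀ b, lM (θ₀ b) = (t' : B) • εB.symm (lB b) := fun b => by
    have := LinearMap.congr_fun hθ b
    simpa [Submonoid.smul_def] using this
  have h1 : lB ∘ₗ (ψ₀ ∘ₗ θ₀) = lB ∘ₗ (((t : B) * (t' : B)) • LinearMap.id) := by
    apply LinearMap.ext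
    intro b
    simp only [LinearMap.comp_apply, LinearMap.smul_apply, LinearMap.id_apply]
    rw [hψ', hθ', map_smul, LinearEquiv.apply_symm_apply, smul_smul, map_smul]
  have h2 : lM ∘ₗ (θ₀ ∘ₗ ψ₀) = lM ∘ₗ (((t : B) * (t' : B)) • LinearMap.id) := by
    apply LinearMap.ext
    intro m
    simp only [LinearMap.comp_apply, LinearMap.smul_apply, LinearMap.id_apply]
    rw [hθ', hψ', map_smul, LinearEquiv.symm_apply_apply, smul_smul, map_smul, mul_comm]
  obtain ⟨t₁, ht₁⟩ := Module.Finite.exists_smul_of_comp_eq_of_isLocalizedModule T lB _ _ h1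
  obtain ⟨t₂, ht₂⟩ := Module.Finite.exists_smul_of_comp_eq_of_isLocalizedModule T lM _ _ h2
  obtain ⟨s, hs, hsσ⟩ : ∃ s ∈ p.primeCompl, algebraMap A B s = (t₁ * t₂ * t * t' : T) :=
    (t₁ * t₂ * t * t').2
  refine ⟨θ₀, ((t₁ : B) * (t₂ : B)) • ψ₀, s, hs, fun b => ?_, fun m => ?_⟩
  · have := LinearMap.congr_fun ht₁ b
    simp only [LinearMap.smul_apply, LinearMap.comp_apply, LinearMap.id_apply,
      Submonoid.smul_def, smul_eq_mul] at this
    rw [LinearMap.smul_apply, hsσ]
    simp only [smul_eq_mul, Submonoid.coe_mul]
    linear_combination (t₂ : B) * this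
  · have := LinearMap.congr_fun ht₂ m
    simp only [LinearMap.smul_apply, LinearMap.comp_apply, LinearMap.id_apply,
      Submonoid.smul_def] at this
    rw [LinearMap.smul_apply, map_smul, hsσ, mul_smul, this, smul_smul,
      smul_smul]
    congr 1
    simp only [Submonoid.coe_mul]
    ring

end Groth.Agent.Lib.Helper24Nrm
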