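import Mathlib
import Groth.Agent.Lib.Helper24NrmA
import Groth.Agent.Lib.Helper24NrmB

/-!
# Gluing isomorphisms of modules along marked families; the norm identity
`⋀ⁿ_A B ⊗ ⋀ⁿ_A (M₁ ⊗_B M₂) ≃ ⋀ⁿ_A M₁ ⊗ ⋀ⁿ_A M₂` (helper24)
-/

set_option autoImplicit false
set_option backward.isDefEq.respectTransparency.types false
set_option maxHeartbeats 4000000
set_option synthInstance.maxHeartbeats 400000
set_option linter.style.haveILetI false
set_option linter.unusedSectionVars false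
open TensorProduct

namespace Groth.Agent.Lib.Helper24Nrm

universe u

section glue

variable {A : Type*} [CommRing A] {X Y : Type*} [AddCommGroup X] [Module A X]
  [AddCommGroup Y] [Module A Y]

/-- a submodule containing, for each maximal ideal `p` and each generator `x`, a multiple `a • x`
with `a ∉ p`, is everything. -/
theorem eq_top_of_local (W : Submodule A X) (G : Set X) (hG : Submodule.span A G = ⊤)
    (h : ∀ p : Ideal A, p.IsMaximal → ∀ x ∈ G, ∃ a : A, a ∉ p ∧ a • x ∈ W) : W = ⊤ := by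
  rw [eq_top_iff, ← hG, Submodule.span_le]
  intro x hx
  by_contra hxW
  let I : Ideal A := W.colon {x}
  have hI : I ≠ ⊤ := by
    intro htop
    have h1 : (1 : A) ∈ I := htop ▸ Submodule.mem_top
    rw [Submodule.mem_colon_singleton] at h1
    rw [one_smul] at h1
    exact hxW h1
  obtain ⟨p, hp, hle⟩ := Ideal.exists_le_maximal I hI
  obtain ⟨a, hap, haW⟩ := h p hp x hx
  exact hap (hle (Submodule.mem_colon_singleton.mpr haW))

theorem exists_linearMap_of_local {T : Type*} (ξ : T → X) (η : T → Y)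
    (h : ∀ p : Ideal A, p.IsMaximal → ∃ a : A, a ∉ p ∧ ∃ φ : X →ₗ[A] Y, ∀ t, φ (ξ t) = a • η t) :
    ∃ φ : X →ₗ[A] Y, ∀ t, φ (ξ t) = η t := by
  let I : Ideal A :=
    { carrier := {a | ∃ φ : X →ₗ[A] Y, ∀ t, φ (ξ t) = a • η t}
      zero_mem' := ⟨0, fun t => by rw [LinearMap.zero_apply, zero_smul]⟩
      add_mem' := by
        rintro a b ⟨φ, hφ⟩ ⟨φ', hφ'⟩
        exact ⟨φ + φ', fun t => by rw [LinearMap.add_apply, hφ, hφ', add_smul]⟩
      smul_mem' := by
        rintro c a ⟨φ, hφ⟩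
        exact ⟨c • φ, fun t => by rw [LinearMap.smul_apply, hφ, smul_smul, smul_eq_mul]⟩ }
  have hI : I = ⊤ := by
    by_contra hne
    obtain ⟨p, hp, hle⟩ := Ideal.exists_le_maximal I hne
    obtain ⟨a, hap, φ, hφ⟩ := h p hp
    exact hap (hle ⟨φ, hφ⟩)
  have h1 : (1 : A) ∈ I := hI ▸ Submodule.mem_top
  obtain ⟨φ, hφ⟩ := h1
  exact ⟨φ, fun t => by rw [hφ, one_smul]⟩

theorem nonempty_equiv_of_local {T : Type*} (ξ : T → X) (η : T → Y)
    (hξ : Submodule.span A (Set.range ξ) = ⊤) (hη : Submodule.span A (Set.range η) = ⊤)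
    (h : ∀ p : Ideal A, p.IsMaximal → ∃ a : A, a ∉ p ∧
      (∃ φ : X →ₗ[A] Y, ∀ t, φ (ξ t) = a • η t) ∧ (∃ φ' : Y →ₗ[A] X, ∀ t, φ' (η t) = a • ξ t)) :
    Nonempty (X ≃ₗ[A] Y) := by
  obtain ⟨φ, hφ⟩ := exists_linearMap_of_local ξ η (fun p hp => by
    obtain ⟨a, ha, h1, -⟩ := h p hp
    exact ⟨a, ha, h1⟩)
  obtain ⟨φ', hφ'⟩ := exists_linearMap_of_local η ξ (fun p hp => by
    obtain ⟨a, ha, -, h2⟩ := h p hp
    exact ⟨a, ha, h2⟩)
  refine ⟨LinearEquiv.ofLinear φ φ' ?_ ?_⟩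
  · apply LinearMap.ext_on_range hη
    intro t
    rw [LinearMap.comp_apply, hφ', hφ, LinearMap.id_apply]
  · apply LinearMap.ext_on_range hξ
    intro t
    rw [LinearMap.comp_apply, hφ, hφ', LinearMap.id_apply]

end glue

end Groth.Agent.Lib.Helper24Nrm
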