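import Mathlib
import Groth.Agent.Lib.Helper24NrmC

/-!
# `⋀ⁿ_A B ⊗ ⋀ⁿ_A (M₁ ⊗_B M₂) ≃ ⋀ⁿ_A M₁ ⊗ ⋀ⁿ_A M₂` for invertible `B`-modules (helper24)
-/

set_option autoImplicit false
set_option backward.isDefEq.respectTransparency.types false
set_option maxHeartbeats 4000000
set_option synthInstance.maxHeartbeats 400000
set_option linter.style.haveILetI false
set_option linter.unusedSectionVars false
open TensorProduct

namespace Groth.Agent.Lib.Helper24Nrm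

universe u

variable (A B : Type u) [CommRing A] [CommRing B] [Algebra A B] (n : ℕ)

section transport

variable [Module.Invertible A (⋀[A]^n B)]
  {M : Type u} [AddCommGroup M] [Module B M] [Module A M] [IsScalarTower A B M]

/-- transport of the norm identity along a `B`-linear map `θ : B → M`. -/
theorem ιMulti_map_mul (θ : B →ₗ[B] M) (v : B) (β : Fin n → B) :
    exteriorPower.ιMulti A n (fun i => θ (v * β i)) =
      nrm A B n v • exteriorPower.ιMulti A n (fun i => θ (β i)) := by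
  have h1 : exteriorPower.ιMulti A n (fun i => θ (v * β i)) =
      exteriorPower.map n (θ.restrictScalars A) (exteriorPower.ιMulti A n (fun i => v * β i)) := by
    rw [exteriorPower.map_apply_ιMulti]; rfl
  have h2 : exteriorPower.ιMulti A n (fun i => θ (β i)) =
      exteriorPower.map n (θ.restrictScalars A) (exteriorPower.ιMulti A n β) := by
    rw [exteriorPower.map_apply_ιMulti]; rfl
  rw [h1, h2, nrm_ιMulti, map_smul]

theorem ιMulti_smul_const (s : A) (x : Fin n → M) :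
    exteriorPower.ιMulti A n (fun i => s • x i) = s ^ n • exteriorPower.ιMulti A n x := by
  have := (exteriorPower.ιMulti A n (M := M)).map_smul_univ (fun _ => s) x
  rw [this, Finset.prod_const, Finset.card_univ, Fintype.card_fin]

end transport

variable (M₁ M₂ : Type u) [AddCommGroup M₁] [Module B M₁] [Module A M₁] [IsScalarTower A B M₁]
  [AddCommGroup M₂] [Module B M₂] [Module A M₂] [IsScalarTower A B M₂]

/-- the marked elements of `⋀ⁿ_A B ⊗ ⋀ⁿ_A (M₁ ⊗_B M₂)`. -/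
noncomputable def ξ (t : (Fin n → B) × (Fin n → B) × M₁ × M₂) :
    (⋀[A]^n B) ⊗[A] (⋀[A]^n (M₁ ⊗[B] M₂)) :=
  exteriorPower.ιMulti A n t.1 ⊗ₜ[A]
    exteriorPower.ιMulti A n (fun i => t.2.1 i • (t.2.2.1 ⊗ₜ[B] t.2.2.2))

/-- the marked elements of `⋀ⁿ_A M₁ ⊗ ⋀ⁿ_A M₂`. -/
noncomputable def η (t : (Fin n → B) × (Fin n → B) × M₁ × M₂) :
    (⋀[A]^n M₁) ⊗[A] (⋀[A]^n M₂) :=
  exteriorPower.ιMulti A n (fun i => t.1 i • t.2.2.1) ⊗ₜ[A]
    exteriorPower.ιMulti A n (fun i => t.2.1 i • t.2.2.2)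

variable {A B M₁ M₂}

/-- the contraction `M₁ ⊗_B M₂ → B` attached to `ψ₁, ψ₂`. -/
noncomputable def μ (ψ₁ : M₁ →ₗ[B] B) (ψ₂ : M₂ →ₗ[B] B) : M₁ ⊗[B] M₂ →ₗ[B] B :=
  LinearMap.mul' B B ∘ₗ TensorProduct.map ψ₁ ψ₂

theorem μ_tmul (ψ₁ : M₁ →ₗ[B] B) (ψ₂ : M₂ →ₗ[B] B) (x : M₁) (y : M₂) :
    μ ψ₁ ψ₂ (x ⊗ₜ[B] y) = ψ₁ x * ψ₂ y := by
  simp [μ]

/-- the map `B → M₁ ⊗_B M₂`, `b ↦ b • (e₁ ⊗ e₂)`. -/
noncomputable def τ (e₁ : M₁) (e₂ : M₂) : B →ₗ[B] M₁ ⊗[B] M₂ :=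
  LinearMap.toSpanSingleton B _ (e₁ ⊗ₜ[B] e₂)

theorem τ_apply (e₁ : M₁) (e₂ : M₂) (b : B) : τ e₁ e₂ b = b • (e₁ ⊗ₜ[B] e₂) := rfl

variable (θ₁ : B →ₗ[B] M₁) (ψ₁ : M₁ →ₗ[B] B) (θ₂ : B →ₗ[B] M₂) (ψ₂ : M₂ →ₗ[B] B) (s : A)
  (h₁ : ∀ m, θ₁ (ψ₁ m) = s • m) (h₂ : ∀ m, θ₂ (ψ₂ m) = s • m)

theorem θ_apply {M : Type u} [AddCommGroup M] [Module B M] (θ : B →ₗ[B] M) (b : B) :
    θ b = b • θ 1 := by
  rw [← map_smul, smul_eq_mul, mul_one]

include h₁ h₂ in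
theorem τ_μ (z : M₁ ⊗[B] M₂) : τ (θ₁ 1) (θ₂ 1) (μ ψ₁ ψ₂ z) = (s * s) • z := by
  induction z using TensorProduct.induction_on with
  | zero => simp
  | add x y hx hy => rw [map_add, map_add, hx, hy, smul_add]
  | tmul x y =>
    rw [μ_tmul, τ_apply, ← TensorProduct.smul_tmul_smul, ← θ_apply, ← θ_apply, h₁, h₂]
    rw [← algebraMap_smul B s x, ← algebraMap_smul B s y, TensorProduct.smul_tmul_smul,
      ← map_mul, algebraMap_smul]

variable (A)

/-- the forward map `X → Y` attached to a frame. -/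
noncomputable def Φ : (⋀[A]^n B) ⊗[A] (⋀[A]^n (M₁ ⊗[B] M₂)) →ₗ[A]
    (⋀[A]^n M₁) ⊗[A] (⋀[A]^n M₂) :=
  TensorProduct.map (exteriorPower.map n (θ₁.restrictScalars A))
      (exteriorPower.map n (θ₂.restrictScalars A)) ∘ₗ
    TensorProduct.map LinearMap.id (exteriorPower.map n ((μ ψ₁ ψ₂).restrictScalars A))

/-- the backward map `Y → X` attached to a frame. -/
noncomputable def Φ' : (⋀[A]^n M₁) ⊗[A] (⋀[A]^n M₂) →ₗ[A]
    (⋀[A]^n B) ⊗[A] (⋀[A]^n (M₁ ⊗[B] M₂)) :=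
  TensorProduct.map LinearMap.id
      (exteriorPower.map n ((τ (θ₁ 1) (θ₂ 1)).restrictScalars A)) ∘ₗ
    TensorProduct.map (exteriorPower.map n (ψ₁.restrictScalars A))
      (exteriorPower.map n (ψ₂.restrictScalars A))

variable [Module.Invertible A (⋀[A]^n B)]

include h₁ h₂ in
theorem Φ_ξ (t : (Fin n → B) × (Fin n → B) × M₁ × M₂) :
    Φ A n θ₁ ψ₁ θ₂ ψ₂ (ξ A B n M₁ M₂ t) = (s ^ n * s ^ n) • η A B n M₁ M₂ t := by
  obtain ⟨β, β', e₁, e₂⟩ := t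
  simp only [Φ, ξ, η, LinearMap.comp_apply, TensorProduct.map_tmul, LinearMap.id_apply,
    exteriorPower.map_apply_ιMulti]
  -- left side
  have hL : exteriorPower.ιMulti A n
      (⇑(θ₂.restrictScalars A) ∘ (⇑((μ ψ₁ ψ₂).restrictScalars A) ∘
        fun i => β' i • (e₁ ⊗ₜ[B] e₂))) =
      (nrm A B n (ψ₁ e₁) * nrm A B n (ψ₂ e₂)) •
        exteriorPower.ιMulti A n (fun i => θ₂ (β' i)) := by
    rw [← nrm_mul, ← ιMulti_map_mul]
    congr 1
    funext i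
    simp only [Function.comp_apply, LinearMap.coe_restrictScalars, map_smul, μ_tmul, smul_eq_mul]
    congr 1
    ring
  have hs1 : s ^ n • exteriorPower.ιMulti A n (fun i => β i • e₁) =
      nrm A B n (ψ₁ e₁) • exteriorPower.ιMulti A n (fun i => θ₁ (β i)) := by
    rw [← ιMulti_smul_const, ← ιMulti_map_mul]
    congr 1
    funext i
    rw [smul_comm, ← h₁, ← map_smul, smul_eq_mul, mul_comm]
  have hs2 : s ^ n • exteriorPower.ιMulti A n (fun i => β' i • e₂) =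
      nrm A B n (ψ₂ e₂) • exteriorPower.ιMulti A n (fun i => θ₂ (β' i)) := by
    rw [← ιMulti_smul_const, ← ιMulti_map_mul]
    congr 1
    funext i
    rw [smul_comm, ← h₂, ← map_smul, smul_eq_mul, mul_comm]
  rw [hL, ← TensorProduct.smul_tmul_smul, hs1, hs2, TensorProduct.smul_tmul_smul,
    TensorProduct.tmul_smul]
  rfl


include h₁ h₂ in
theorem Φ'_η (t : (Fin n → B) × (Fin n → B) × M₁ × M₂) :
    Φ' A n θ₁ ψ₁ θ₂ ψ₂ (η A B n M₁ M₂ t) = (s ^ n * s ^ n) • ξ A B n M₁ M₂ t := by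
  obtain ⟨β, β', e₁, e₂⟩ := t
  simp only [Φ', ξ, η, LinearMap.comp_apply, TensorProduct.map_tmul, LinearMap.id_apply,
    exteriorPower.map_apply_ιMulti]
  have hL1 : exteriorPower.ιMulti A n (⇑(ψ₁.restrictScalars A) ∘ fun i => β i • e₁) =
      nrm A B n (ψ₁ e₁) • exteriorPower.ιMulti A n β := by
    rw [← nrm_ιMulti]
    congr 1
    funext i
    simp only [Function.comp_apply, LinearMap.coe_restrictScalars, map_smul, smul_eq_mul]
    ring
  have hL2 : exteriorPower.ιMulti A n (⇑((τ (θ₁ 1) (θ₂ 1)).restrictScalars A) ∘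
      (⇑(ψ₂.restrictScalars A) ∘ fun i => β' i • e₂)) =
      nrm A B n (ψ₂ e₂) • exteriorPower.ιMulti A n (fun i => τ (θ₁ 1) (θ₂ 1) (β' i)) := by
    rw [← ιMulti_map_mul]
    congr 1
    funext i
    simp only [Function.comp_apply, LinearMap.coe_restrictScalars, map_smul, smul_eq_mul]
    congr 1
    ring
  have hR : (s ^ n * s ^ n) • exteriorPower.ιMulti A n (fun i => β' i • (e₁ ⊗ₜ[B] e₂)) =
      (nrm A B n (ψ₁ e₁) * nrm A B n (ψ₂ e₂)) •
        exteriorPower.ιMulti A n (fun i => τ (θ₁ 1) (θ₂ 1) (β' i)) := by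
    rw [← mul_pow, ← ιMulti_smul_const, ← nrm_mul, ← ιMulti_map_mul]
    congr 1
    funext i
    rw [smul_comm, ← τ_μ θ₁ ψ₁ θ₂ ψ₂ s h₁ h₂, μ_tmul, ← map_smul, smul_eq_mul, mul_comm]
  rw [hL1, hL2, ← TensorProduct.tmul_smul (s ^ n * s ^ n), hR, TensorProduct.smul_tmul_smul,
    TensorProduct.tmul_smul]

end Groth.Agent.Lib.Helper24Nrm
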