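import Mathlib
import Groth.Agent.Lib.Helper24NrmD

/-!
# `⋀ⁿ_A B ⊗ ⋀ⁿ_A (M₁ ⊗_B M₂) ≃ ⋀ⁿ_A M₁ ⊗ ⋀ⁿ_A M₂`: conclusion (helper24)
-/

set_option autoImplicit false
set_option backward.isDefEq.respectTransparency.types false
set_option maxHeartbeats 4000000
set_option synthInstance.maxHeartbeats 400000
set_option linter.style.haveILetI false
set_option linter.unusedSectionVars false
open TensorProduct

namespace Groth.Agent.Lib.Helper24Nrm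

universe u

variable (A B : Type u) [CommRing A] [CommRing B] [Algebra A B] (n : ℕ)
  (M₁ M₂ : Type u) [AddCommGroup M₁] [Module B M₁] [Module A M₁] [IsScalarTower A B M₁]
  [AddCommGroup M₂] [Module B M₂] [Module A M₂] [IsScalarTower A B M₂]

theorem exists_frame₂ [Module.Finite A B] [Module.Invertible B M₁] [Module.Invertible B M₂]
    (p : Ideal A) [p.IsPrime] :
    ∃ (θ₁ : B →ₗ[B] M₁) (ψ₁ : M₁ →ₗ[B] B) (θ₂ : B →ₗ[B] M₂) (ψ₂ : M₂ →ₗ[B] B) (s : A), s ∉ p ∧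
      (∀ m, θ₁ (ψ₁ m) = s • m) ∧ (∀ m, θ₂ (ψ₂ m) = s • m) := by
  obtain ⟨θ₁, ψ₁, s₁, hs₁, -, h₁⟩ := exists_frame A B M₁ p
  obtain ⟨θ₂, ψ₂, s₂, hs₂, -, h₂⟩ := exists_frame A B M₂ p
  refine ⟨θ₁, algebraMap A B s₂ • ψ₁, θ₂, algebraMap A B s₁ • ψ₂, s₁ * s₂, ?_, fun m => ?_,
    fun m => ?_⟩
  · intro h
    rcases (Ideal.IsPrime.mem_or_mem inferInstance h) with h | h
    · exact hs₁ h
    · exact hs₂ h
  · rw [LinearMap.smul_apply, map_smul, h₁, algebraMap_smul, algebraMap_smul, smul_smul, mul_comm]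
  · rw [LinearMap.smul_apply, map_smul, h₂, algebraMap_smul, algebraMap_smul, smul_smul]

theorem span_tmul_ιMulti (P Q : Type u) [AddCommGroup P] [Module A P] [AddCommGroup Q] [Module A Q] :
    Submodule.span A (Set.image2 (fun (a : ⋀[A]^n P) (b : ⋀[A]^n Q) => a ⊗ₜ[A] b)
      (Set.range (exteriorPower.ιMulti A n)) (Set.range (exteriorPower.ιMulti A n))) = ⊤ := by
  have := Submodule.map₂_span_span A (TensorProduct.mk A (⋀[A]^n P) (⋀[A]^n Q))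
    (Set.range (exteriorPower.ιMulti A n)) (Set.range (exteriorPower.ιMulti A n))
  rw [exteriorPower.ιMulti_span, exteriorPower.ιMulti_span,
    TensorProduct.map₂_mk_top_top_eq_top] at this
  rw [this]
  rfl

variable [Module.Finite A B] [Module.Invertible A (⋀[A]^n B)] [Module.Invertible B M₁]
  [Module.Invertible B M₂]

theorem span_η : Submodule.span A (Set.range (η A B n M₁ M₂)) = ⊤ := by
  refine eq_top_of_local (A := A) (X := (⋀[A]^n M₁) ⊗[A] (⋀[A]^n M₂)) _ _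
    (span_tmul_ιMulti A n M₁ M₂) ?_
  rintro p hp _ ⟨_, ⟨a, rfl⟩, _, ⟨b, rfl⟩, rfl⟩
  haveI := hp.isPrime
  obtain ⟨θ₁, ψ₁, θ₂, ψ₂, s, hs, h₁, h₂⟩ := exists_frame₂ A B M₁ M₂ p
  refine ⟨s ^ n * s ^ n, ?_, ?_⟩
  · intro h
    rcases (Ideal.IsPrime.mem_or_mem inferInstance h) with h | h <;>
      exact hs (Ideal.IsPrime.mem_of_pow_mem inferInstance _ h)
  · apply Submodule.subset_span
    refine ⟨(fun i => ψ₁ (a i), fun i => ψ₂ (b i), θ₁ 1, θ₂ 1), ?_⟩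
    simp only [η]
    rw [← TensorProduct.smul_tmul_smul, ← ιMulti_smul_const, ← ιMulti_smul_const]
    congr 2
    · funext i; rw [← θ_apply, h₁]
    · funext i; rw [← θ_apply, h₂]

theorem span_ξ : Submodule.span A (Set.range (ξ A B n M₁ M₂)) = ⊤ := by
  refine eq_top_of_local (A := A) (X := (⋀[A]^n B) ⊗[A] (⋀[A]^n (M₁ ⊗[B] M₂))) _ _
    (span_tmul_ιMulti A n B (M₁ ⊗[B] M₂)) ?_
  rintro p hp _ ⟨_, ⟨β, rfl⟩, _, ⟨z, rfl⟩, rfl⟩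
  haveI := hp.isPrime
  obtain ⟨θ₁, ψ₁, θ₂, ψ₂, s, hs, h₁, h₂⟩ := exists_frame₂ A B M₁ M₂ p
  refine ⟨s ^ n * s ^ n, ?_, ?_⟩
  · intro h
    rcases (Ideal.IsPrime.mem_or_mem inferInstance h) with h | h <;>
      exact hs (Ideal.IsPrime.mem_of_pow_mem inferInstance _ h)
  · apply Submodule.subset_span
    refine ⟨(β, fun i => μ ψ₁ ψ₂ (z i), θ₁ 1, θ₂ 1), ?_⟩
    simp only [ξ]
    rw [← TensorProduct.tmul_smul, ← mul_pow, ← ιMulti_smul_const]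
    congr 2
    funext i
    rw [← τ_apply, τ_μ θ₁ ψ₁ θ₂ ψ₂ s h₁ h₂]

theorem nonempty_equiv :
    Nonempty ((⋀[A]^n B) ⊗[A] (⋀[A]^n (M₁ ⊗[B] M₂)) ≃ₗ[A] (⋀[A]^n M₁) ⊗[A] (⋀[A]^n M₂)) := by
  apply nonempty_equiv_of_local (ξ A B n M₁ M₂) (η A B n M₁ M₂) (span_ξ A B n M₁ M₂)
    (span_η A B n M₁ M₂)
  intro p hp
  haveI := hp.isPrime
  obtain ⟨θ₁, ψ₁, θ₂, ψ₂, s, hs, h₁, h₂⟩ := exists_frame₂ A B M₁ M₂ p
  refine ⟨s ^ n * s ^ n, ?_, ⟨Φ A n θ₁ ψ₁ θ₂ ψ₂, Φ_ξ A n θ₁ ψ₁ θ₂ ψ₂ s h₁ h₂⟩,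
    ⟨Φ' A n θ₁ ψ₁ θ₂ ψ₂, Φ'_η A n θ₁ ψ₁ θ₂ ψ₂ s h₁ h₂⟩⟩
  intro h
  rcases (Ideal.IsPrime.mem_or_mem inferInstance h) with h | h <;>
    exact hs (Ideal.IsPrime.mem_of_pow_mem inferInstance _ h)

end Groth.Agent.Lib.Helper24Nrm
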