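import Mathlib
import Groth.Agent.Lib.Helper25FinHopf

set_option autoImplicit false
universe u v

namespace Groth.Agent.Lib.Helper24OT

open TensorProduct WithConv Coalgebra

section Binom

variable {R : Type u} [CommRing R] {H : Type v} [CommRing H] [Bialgebra R H]

/-- The functional `a ⊗ b ↦ f a * g b` on `H ⊗ H`. -/
noncomputable def P (f g : WithConv (H →ₗ[R] R)) : WithConv (H ⊗[R] H →ₗ[R] R) :=
  toConv (LinearMap.mul' R R ∘ₗ TensorProduct.map f.ofConv g.ofConv)

@[simp] theorem P_tmul (f g : WithConv (H →ₗ[R] R)) (a b : H) :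
    (P f g) (a ⊗ₜ[R] b) = f a * g b := rfl

theorem P_mul (f g f' g' : WithConv (H →ₗ[R] R)) : P f g * P f' g' = P (f * f') (g * g') := by
  apply WithConv.ext
  apply TensorProduct.ext'
  intro a b
  change (P f g * P f' g') (a ⊗ₜ[R] b) = (P (f * f') (g * g')) (a ⊗ₜ[R] b)
  rw [((ℛ R a).tmul (ℛ R b)).convMul_apply, P_tmul, (ℛ R a).convMul_apply, (ℛ R b).convMul_apply,
    Finset.sum_mul_sum]
  simp only [Coalgebra.Repr.tmul_index, Coalgebra.Repr.tmul_left, Coalgebra.Repr.tmul_right, P_tmul]
  rw [Finset.sum_product]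
  refine Finset.sum_congr rfl fun i _ => Finset.sum_congr rfl fun j _ => ?_
  ring

theorem P_one : P (1 : WithConv (H →ₗ[R] R)) 1 = 1 := by
  apply WithConv.ext
  apply TensorProduct.ext'
  intro a b
  change (P 1 1) (a ⊗ₜ[R] b) = (1 : WithConv (H ⊗[R] H →ₗ[R] R)) (a ⊗ₜ[R] b)
  simp [LinearMap.convOne_apply, mul_comm]

theorem P_pow (f g : WithConv (H →ₗ[R] R)) (n : ℕ) : P f g ^ n = P (f ^ n) (g ^ n) := by
  induction n with
  | zero => simp [P_one]
  | succ n ih => rw [pow_succ, ih, P_mul, pow_succ, pow_succ]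

/-- Precomposition with multiplication, as a map of convolution monoids. -/
noncomputable def Phi (f : WithConv (H →ₗ[R] R)) : WithConv (H ⊗[R] H →ₗ[R] R) :=
  toConv (f.ofConv ∘ₗ LinearMap.mul' R H)

@[simp] theorem Phi_tmul (f : WithConv (H →ₗ[R] R)) (a b : H) :
    (Phi f) (a ⊗ₜ[R] b) = f (a * b) := rfl

theorem Phi_mul (f g : WithConv (H →ₗ[R] R)) : Phi (f * g) = Phi f * Phi g := by
  apply WithConv.ext
  have := LinearMap.convMul_comp_coalgHom_distrib f g (Bialgebra.mulCoalgHom R H)
  exact this

theorem Phi_one : Phi (1 : WithConv (H →ₗ[R] R)) = 1 := by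
  apply WithConv.ext
  apply TensorProduct.ext'
  intro a b
  change (Phi 1) (a ⊗ₜ[R] b) = (1 : WithConv (H ⊗[R] H →ₗ[R] R)) (a ⊗ₜ[R] b)
  simp [LinearMap.convOne_apply, mul_comm]

theorem Phi_pow (f : WithConv (H →ₗ[R] R)) (n : ℕ) : Phi (f ^ n) = Phi f ^ n := by
  induction n with
  | zero => simp [Phi_one]
  | succ n ih => rw [pow_succ, Phi_mul, ih, pow_succ]

/-- `d` is an `ε`-derivation. -/
def IsEpsDer (d : WithConv (H →ₗ[R] R)) : Prop :=
  ∀ a b : H, d (a * b) = counit (R := R) a * d b + d a * counit (R := R) b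

theorem Phi_of_isEpsDer {d : WithConv (H →ₗ[R] R)} (hd : IsEpsDer d) :
    Phi d = P 1 d + P d 1 := by
  apply WithConv.ext
  apply TensorProduct.ext'
  intro a b
  change (Phi d) (a ⊗ₜ[R] b) = (P 1 d) (a ⊗ₜ[R] b) + (P d 1) (a ⊗ₜ[R] b)
  simp [hd a b, LinearMap.convOne_apply]

/-- Binomial formula for convolution powers of an `ε`-derivation. -/
theorem pow_mul_apply {d : WithConv (H →ₗ[R] R)} (hd : IsEpsDer d) (j : ℕ) (a b : H) :
    (d ^ j) (a * b) = ∑ s ∈ Finset.range (j + 1), (d ^ s) a * (d ^ (j - s)) b * (j.choose s : R) := by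
  have hcomm : Commute (P d 1) (P 1 d) := by
    change P d 1 * P 1 d = P 1 d * P d 1
    rw [P_mul, P_mul, one_mul, mul_one]
  have h1 : Phi (d ^ j) = ∑ s ∈ Finset.range (j + 1), P (d ^ s) (d ^ (j - s)) * (j.choose s : WithConv (H ⊗[R] H →ₗ[R] R)) := by
    rw [Phi_pow, Phi_of_isEpsDer hd, add_comm, hcomm.add_pow]
    refine Finset.sum_congr rfl fun s _ => ?_
    rw [P_pow, P_pow, P_mul, one_pow, one_pow, mul_one, one_mul]
  have h2 := congrArg (fun F : WithConv (H ⊗[R] H →ₗ[R] R) => F (a ⊗ₜ[R] b)) h1
  simp only [Phi_tmul] at h2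
  rw [h2]
  have hev : ∀ (F : WithConv (H ⊗[R] H →ₗ[R] R)) (n : ℕ) (x : H ⊗[R] H),
      (F * (n : WithConv (H ⊗[R] H →ₗ[R] R))) x = F x * (n : R) := by
    intro F n x
    induction n with
    | zero =>
      rw [Nat.cast_zero, mul_zero, Nat.cast_zero, mul_zero]
      rfl
    | succ n ih =>
      rw [Nat.cast_succ, mul_add, mul_one, Nat.cast_succ, mul_add, mul_one, ← ih]
      rfl
  have hsum : ∀ (s : Finset ℕ) (G : ℕ → WithConv (H ⊗[R] H →ₗ[R] R)) (x : H ⊗[R] H),
      (∑ i ∈ s, G i) x = ∑ i ∈ s, (G i) x := by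
    intro s G x
    change (∑ i ∈ s, G i).ofConv x = ∑ i ∈ s, (G i).ofConv x
    simp
  rw [hsum]
  refine Finset.sum_congr rfl fun s _ => ?_
  rw [hev, P_tmul]

/-- Convolution powers of an `ε`-derivation vanish on high powers of the augmentation ideal. -/
theorem pow_apply_eq_zero {d : WithConv (H →ₗ[R] R)} (hd : IsEpsDer d) :
    ∀ (j i : ℕ), j < i → ∀ x ∈ (RingHom.ker (Bialgebra.counitAlgHom R H)) ^ i, (d ^ j) x = 0 := by
  intro j
  induction j using Nat.strong_induction_on with
  | _ j ih =>
    intro i hi x hx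
    obtain ⟨i', rfl⟩ : ∃ i', i = i' + 1 := ⟨i - 1, by omega⟩
    rw [pow_succ] at hx
    refine Submodule.mul_induction_on hx ?_ ?_
    · intro m hm n hn
      rw [pow_mul_apply hd]
      apply Finset.sum_eq_zero
      intro s hs
      rw [Finset.mem_range] at hs
      rcases Nat.lt_or_ge s j with hsj | hsj
      · rw [ih s hsj i' (by omega) m hm, zero_mul, zero_mul]
      · have : s = j := by omega
        subst this
        rw [Nat.sub_self, pow_zero]
        have : (1 : WithConv (H →ₗ[R] R)) n = 0 := by
          rw [LinearMap.convOne_apply]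
          have : Bialgebra.counitAlgHom R H n = 0 := hn
          simpa using this
        rw [this, mul_zero, zero_mul]
    · intro a b ha hb
      change (d ^ j).ofConv (a + b) = 0
      rw [map_add]
      change (d ^ j) a + (d ^ j) b = 0
      rw [ha, hb, add_zero]

theorem pow_mem_ker_pow {x : H} (hx : Coalgebra.counit (R := R) x = 0) (j : ℕ) :
    x ^ j ∈ (RingHom.ker (Bialgebra.counitAlgHom R H)) ^ j :=
  Ideal.pow_mem_pow (by rw [RingHom.mem_ker]; exact hx) j

theorem pow_apply_pow {d : WithConv (H →ₗ[R] R)} (hd : IsEpsDer d) {x : H}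
    (hx : Coalgebra.counit (R := R) x = 0) (hdx : d x = 1) :
    ∀ j : ℕ, (d ^ j) (x ^ j) = (j.factorial : R) := by
  intro j
  induction j with
  | zero =>
    rw [pow_zero, pow_zero, LinearMap.convOne_apply]
    simp
  | succ j ih =>
    rw [pow_succ x, pow_mul_apply hd]
    rw [Finset.sum_eq_single j]
    · rw [ih, show j + 1 - j = 1 by omega, pow_one, hdx, Nat.choose_succ_self_right,
        Nat.factorial_succ]
      push_cast
      ring
    · intro s hs hsj
      rw [Finset.mem_range] at hs
      rcases Nat.lt_or_ge s j with h | h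
      · rw [pow_apply_eq_zero hd s j h _ (pow_mem_ker_pow hx j), zero_mul, zero_mul]
      · have : s = j + 1 := by omega
        subst this
        rw [Nat.sub_self, pow_zero]
        have : (1 : WithConv (H →ₗ[R] R)) x = 0 := by
          rw [LinearMap.convOne_apply, hx]
          simp
        rw [this, mul_zero, zero_mul]
    · intro h
      exact absurd (Finset.mem_range.mpr (by omega)) h

end Binom

section Indep

variable {K : Type u} [Field K] {H : Type v} [CommRing H] [Bialgebra K H]

/-- Convolution powers `d^0, …, d^(n-1)` of an `ε`-derivation with `d x = 1` (`ε x = 0`) are linearly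
independent when `j!` is invertible for `j < n`. -/
theorem linearIndependent_pow {d : WithConv (H →ₗ[K] K)} (hd : IsEpsDer d) {x : H}
    (hx : Coalgebra.counit (R := K) x = 0) (hdx : d x = 1) (n : ℕ)
    (hn : ∀ j < n, (j.factorial : K) ≠ 0) :
    LinearIndependent K (fun j : Fin n => d ^ (j : ℕ)) := by
  classical
  rw [Fintype.linearIndependent_iff]
  intro c hc
  by_contra hne
  push Not at hne
  let S : Finset (Fin n) := Finset.univ.filter (fun j => c j ≠ 0)
  have hS : S.Nonempty := by
    obtain ⟨j, hj⟩ := hne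
    exact ⟨j, by simp [S, hj]⟩
  set j0 := S.max' hS with hj0
  have hj0S : j0 ∈ S := Finset.max'_mem S hS
  have hcj0 : c j0 ≠ 0 := by
    have := hj0S
    simp only [S, Finset.mem_filter, Finset.mem_univ, true_and] at this
    exact this
  have hev := congrArg (fun F : WithConv (H →ₗ[K] K) => F.ofConv (x ^ (j0 : ℕ))) hc
  simp only [WithConv.ofConv_sum, WithConv.ofConv_smul, LinearMap.sum_apply, LinearMap.smul_apply,
    WithConv.ofConv_zero, LinearMap.zero_apply] at hev
  rw [Finset.sum_eq_single j0] at hev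
  · have h1 : (d ^ (j0 : ℕ)).ofConv (x ^ (j0 : ℕ)) = ((j0 : ℕ).factorial : K) :=
      pow_apply_pow hd hx hdx j0
    rw [h1, smul_eq_mul] at hev
    rcases mul_eq_zero.mp hev with h | h
    · exact hcj0 h
    · exact hn j0 j0.2 h
  · intro j _ hj
    rcases lt_or_gt_of_ne hj with h | h
    · have : (d ^ (j : ℕ)).ofConv (x ^ (j0 : ℕ)) = 0 :=
        pow_apply_eq_zero hd j j0 h _ (pow_mem_ker_pow hx j0)
      rw [this, smul_zero]
    · have hcj : c j = 0 := by
        by_contra hcj
        have hjS : j ∈ S := by simp [S, hcj]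
        have := Finset.le_max' S j hjS
        exact absurd (lt_of_lt_of_le h this) (lt_irrefl _)
      rw [hcj, zero_smul]
  · intro h
    exact absurd (Finset.mem_univ _) h

end Indep

section ExistsDer

variable {K : Type u} [Field K] {H : Type v} [CommRing H] [HopfAlgebra K H] [Module.Finite K H]

open Groth.Agent.Lib.Helper25.FinHopf

/-- In an infinitesimal finite group scheme of order `≠ 1` there are `x` in the augmentation ideal
and an `ε`-derivation `d` with `d x = 1`. -/
theorem exists_epsDer_of_nil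
    (hnil : ∀ x : H, Coalgebra.counit (R := K) x = 0 → IsNilpotent x)
    (hne : Module.finrank K H ≠ 1) :
    ∃ (x : H) (d : WithConv (H →ₗ[K] K)), Coalgebra.counit (R := K) x = 0 ∧ IsEpsDer d ∧ d x = 1 := by
  classical
  set I : Ideal H := RingHom.ker (Bialgebra.counitAlgHom K H) with hI
  haveI : Algebra.FiniteType K H := Module.Finite.finiteType H
  haveI : IsNoetherianRing H := Algebra.FiniteType.isNoetherianRing K H
  have hIne : I ≠ ⊥ := by
    intro h
    apply hne
    apply finrank_eq_one_of_augI_eq_bot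
    intro x hx
    have : x ∈ I := hx
    rw [h] at this
    exact this
  have hIjac : I ≤ Ideal.jacobson ⊥ := by
    intro x hx
    rw [Ideal.mem_jacobson_bot]
    intro y
    have hn : IsNilpotent (x * y) := by
      apply hnil
      have hx0 : Coalgebra.counit (R := K) x = 0 := hx
      rw [Bialgebra.counit_mul, hx0, zero_mul]
    exact hn.isUnit_add_one
  have hnle : ¬ I ≤ I ^ 2 := by
    intro hle
    apply hIne
    refine Submodule.eq_bot_of_le_smul_of_le_jacobson_bot I I (IsNoetherian.noetherian I) ?_ hIjac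
    rw [smul_eq_mul, ← pow_two]
    exact hle
  obtain ⟨x, hxI, hxI2⟩ := Set.not_subset.mp hnle
  have hx0 : Coalgebra.counit (R := K) x = 0 := hxI
  let W : Submodule K H := (I ^ 2).restrictScalars K ⊔ Submodule.span K {(1 : H)}
  have hxW : x ∉ W := by
    intro hx
    obtain ⟨y, hy, z, hz, hyz⟩ := Submodule.mem_sup.mp hx
    obtain ⟨c, rfl⟩ := Submodule.mem_span_singleton.mp hz
    have hy2 : y ∈ I ^ 2 := hy
    have hyI : y ∈ I := Ideal.pow_le_self (by norm_num) hy2
    have hy0 : Coalgebra.counit (R := K) y = 0 := hyI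
    have := congrArg (Coalgebra.counit (R := K)) hyz
    rw [map_add, hy0, zero_add, map_smul, Bialgebra.counit_one, hx0, smul_eq_mul, mul_one] at this
    rw [this, zero_smul, add_zero] at hyz
    exact hxI2 (hyz ▸ hy2)
  obtain ⟨f, hfx, hfW⟩ := Submodule.exists_dual_map_eq_bot_of_notMem hxW inferInstance
  have hfW' : ∀ w ∈ W, f w = 0 := by
    intro w hw
    have : f w ∈ W.map f := Submodule.mem_map_of_mem hw
    rw [hfW] at this
    exact this
  let d : WithConv (H →ₗ[K] K) := toConv ((f x)⁻¹ • f)
  have hd_apply : ∀ a, d a = (f x)⁻¹ * f a := fun a => rfl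
  have hd1 : d 1 = 0 := by
    rw [hd_apply, hfW' 1 (Submodule.mem_sup_right (Submodule.mem_span_singleton_self 1)), mul_zero]
  have hdI2 : ∀ w ∈ I ^ 2, d w = 0 := by
    intro w hw
    rw [hd_apply, hfW' w (Submodule.mem_sup_left hw), mul_zero]
  refine ⟨x, d, hx0, ?_, ?_⟩
  · intro a b
    set a' := a - algebraMap K H (Coalgebra.counit (R := K) a) with ha'
    set b' := b - algebraMap K H (Coalgebra.counit (R := K) b) with hb'
    have ha'I : a' ∈ I := by
      change Bialgebra.counitAlgHom K H a' = 0
      rw [ha', map_sub]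
      simp
    have hb'I : b' ∈ I := by
      change Bialgebra.counitAlgHom K H b' = 0
      rw [hb', map_sub]
      simp
    have hab : a * b = a' * b' + Coalgebra.counit (R := K) a • b' + Coalgebra.counit (R := K) b • a'
        + (Coalgebra.counit (R := K) a * Coalgebra.counit (R := K) b) • (1 : H) := by
      rw [Algebra.smul_def, Algebra.smul_def, Algebra.smul_def, mul_one, map_mul, ha', hb']
      ring
    have hda : d a = d a' := by
      have : a = a' + Coalgebra.counit (R := K) a • (1 : H) := by
        rw [ha', Algebra.algebraMap_eq_smul_one]; ring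
      conv_lhs => rw [this]
      change d.ofConv (a' + _) = _
      rw [map_add, map_smul]
      change d a' + _ • d 1 = _
      rw [hd1, smul_zero, add_zero]
    have hdb : d b = d b' := by
      have : b = b' + Coalgebra.counit (R := K) b • (1 : H) := by
        rw [hb', Algebra.algebraMap_eq_smul_one]; ring
      conv_lhs => rw [this]
      change d.ofConv (b' + _) = _
      rw [map_add, map_smul]
      change d b' + _ • d 1 = _
      rw [hd1, smul_zero, add_zero]
    rw [hab]
    change d.ofConv _ = _
    simp only [map_add, map_smul]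
    change d (a' * b') + _ • d b' + _ • d a' + _ • d 1 = _
    rw [hdI2 _ (by rw [pow_two]; exact Ideal.mul_mem_mul ha'I hb'I), hd1, hda, hdb]
    simp only [smul_eq_mul]
    ring
  · rw [hd_apply]
    exact inv_mul_cancel₀ hfx

end ExistsDer

section FieldCase

variable {K : Type u} [Field K] [IsAlgClosed K] {H : Type v} [CommRing H] [HopfAlgebra K H]
  [Module.Finite K H]

open Groth.Agent.Lib.Helper25.FinHopf Groth.Agent.Lib.Helper25

/-- A group scheme of prime order over an algebraically closed field: either the group of rational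
points is cyclic of order `p`, or the characteristic is `p` and there is an `ε`-derivation. -/
theorem field_case (p : ℕ) [hpr : Fact p.Prime] (hp : Module.finrank K H = p) :
    (∃ g : WithConv (H →ₐ[K] K), orderOf g = p) ∨
    (CharP K p ∧ ∃ (x : H) (d : WithConv (H →ₗ[K] K)),
      Coalgebra.counit (R := K) x = 0 ∧ IsEpsDer d ∧ d x = 1) := by
  classical
  haveI := finite_points (k := K) (A := H)
  have hcq : Module.finrank K H =
      Nat.card (H →ₐ[K] K) * Module.finrank K (H ⧸ unitIdeal K H) := finrank_eq_card_mul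
  rw [hp] at hcq
  have hdvd : Nat.card (H →ₐ[K] K) ∣ p := ⟨_, hcq⟩
  rcases (Nat.dvd_prime hpr.1).mp hdvd with h1 | hpp
  · right
    -- only one point
    have huniq : ∀ g : H →ₐ[K] K, g = Bialgebra.counitAlgHom K H := by
      intro g
      have := (Nat.card_eq_one_iff_unique.mp h1).1
      exact Subsingleton.elim _ _
    have hnil : ∀ x : H, Coalgebra.counit (R := K) x = 0 → IsNilpotent x := by
      intro x hx
      apply isNilpotent_of_mem_ptRad (k := K)
      rw [mem_ptRad]
      intro g
      rw [huniq g]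
      exact hx
    have hne1 : Module.finrank K H ≠ 1 := by rw [hp]; exact hpr.1.ne_one
    obtain ⟨ℓ, hℓ⟩ := CharP.exists K
    rcases CharP.char_is_prime_or_zero K ℓ with hprime | h0
    · haveI := Fact.mk hprime
      obtain ⟨r, hr⟩ := finrank_eq_pow_of_nilpotent ℓ (surjective_frobenius K ℓ) p H hnil hp
      have hr0 : r ≠ 0 := by
        rintro rfl
        rw [pow_zero] at hr
        exact hpr.1.ne_one hr
      have hdvd' : ℓ ∣ p := by rw [hr]; exact dvd_pow_self ℓ hr0
      have hℓp : ℓ = p := ((Nat.dvd_prime hpr.1).mp hdvd').resolve_left hprime.ne_one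
      subst hℓp
      exact ⟨hℓ, exists_epsDer_of_nil hnil hne1⟩
    · subst h0
      exfalso
      haveI : CharZero K := CharP.charP_to_charZero K
      haveI : Algebra.FiniteType K H := Module.Finite.finiteType H
      haveI : IsReduced H := CartH.isReduced_of_charZero_hopf (k := K) (A := H)
      exact hne1 (finrank_eq_one_of_augI_eq_bot fun x hx => (hnil x hx).eq_zero)
  · left
    have hcard : Nat.card (WithConv (H →ₐ[K] K)) = p := by
      rw [Nat.card_congr (WithConv.equiv (H →ₐ[K] K)), hpp]
    haveI := isCyclic_of_prime_card hcard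
    obtain ⟨g, hg⟩ := IsCyclic.exists_generator (α := WithConv (H →ₐ[K] K))
    exact ⟨g, by rw [orderOf_eq_card_of_forall_mem_zpowers hg, hcard]⟩

/-- The dual algebra of a group scheme of prime order over an algebraically closed field is
generated by one element. -/
theorem exists_linearIndependent_pow (p : ℕ) [hpr : Fact p.Prime] (hp : Module.finrank K H = p) :
    ∃ z : WithConv (H →ₗ[K] K), LinearIndependent K (fun j : Fin p => z ^ (j : ℕ)) := by
  rcases field_case p hp with ⟨g, hg⟩ | ⟨hchar, x, d, hx, hd, hdx⟩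
  · refine ⟨toConv g.ofConv.toLinearMap, ?_⟩
    have hinj : Function.Injective (fun j : Fin p => (g ^ (j : ℕ)).ofConv) := by
      intro i j hij
      have h1 : g ^ (i : ℕ) = g ^ (j : ℕ) := WithConv.ofConv_injective hij
      have := pow_injOn_Iio_orderOf (x := g) (by rw [hg]; exact i.2) (by rw [hg]; exact j.2) h1
      exact Fin.ext this
    have h1 := (linearIndependent_toLinearMap K H K).comp _ hinj
    have h2 := h1.map' (WithConv.linearEquiv K (H →ₗ[K] K)).symm.toLinearMap
      (LinearEquiv.ker _)
    have h3 : (fun j : Fin p => (toConv g.ofConv.toLinearMap : WithConv (H →ₗ[K] K)) ^ (j : ℕ)) =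
        (⇑((WithConv.linearEquiv K (H →ₗ[K] K)).symm.toLinearMap) ∘ AlgHom.toLinearMap ∘
          fun j : Fin p => (g ^ (j : ℕ)).ofConv) := by
      funext j
      exact (AlgHom.toLinearMap_convPow g j).symm
    rw [h3]
    exact h2
  · refine ⟨d, linearIndependent_pow hd hx hdx p ?_⟩
    intro j hj h0
    have : (p : ℕ) ∣ j.factorial := (CharP.cast_eq_zero_iff K p _).mp h0
    rw [hpr.1.dvd_factorial] at this
    omega

end FieldCase

end Groth.Agent.Lib.Helper24OT
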