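import Mathlib
import Groth.Agent.Lib.Helper24OTa

set_option autoImplicit false
universe u v w

namespace Groth.Agent.Lib.Helper24OT

open TensorProduct WithConv Coalgebra

section Transfer

variable {R : Type u} [CommRing R] {A : Type v} [CommRing A] [HopfAlgebra R A]
  {L : Type w} [CommRing L] [Algebra R L]

/-- Restriction of a functional on the base change `L ⊗ A` to `A`. -/
noncomputable def rho : WithConv (L ⊗[R] A →ₗ[L] L) →ₗ[L] WithConv (A →ₗ[R] L) where
  toFun F := toConv ((F.ofConv.restrictScalars R) ∘ₗ (TensorProduct.mk R L A 1))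
  map_add' F G := rfl
  map_smul' c F := rfl

theorem rho_apply (F : WithConv (L ⊗[R] A →ₗ[L] L)) (a : A) : rho F a = F ((1 : L) ⊗ₜ[R] a) := rfl

theorem rho_injective : Function.Injective (rho (R := R) (A := A) (L := L)) := by
  intro F G h
  apply WithConv.ext
  apply TensorProduct.AlgebraTensorModule.ext
  intro l a
  have h1 : F ((1 : L) ⊗ₜ[R] a) = G ((1 : L) ⊗ₜ[R] a) := by
    rw [← rho_apply, ← rho_apply, h]
  have h2 : l ⊗ₜ[R] a = l • ((1 : L) ⊗ₜ[R] a) := by
    rw [TensorProduct.smul_tmul', smul_eq_mul, mul_one]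
  change F.ofConv (l ⊗ₜ[R] a) = G.ofConv (l ⊗ₜ[R] a)
  rw [h2, map_smul, map_smul]
  exact congrArg (l • ·) h1

theorem rho_mul (F G : WithConv (L ⊗[R] A →ₗ[L] L)) : rho (F * G) = rho F * rho G := by
  apply WithConv.ext
  apply LinearMap.ext
  intro a
  change (F * G) ((1 : L) ⊗ₜ[R] a) = (rho F * rho G) a
  rw [LinearMap.convMul_apply, LinearMap.convMul_apply, TensorProduct.comul_tmul,
    CommSemiring.comul_apply]
  generalize CoalgebraStruct.comul (R := R) a = z
  induction z using TensorProduct.induction_on with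
  | zero => simp
  | add x y hx hy =>
    rw [TensorProduct.tmul_add, map_add, map_add, map_add, hx, hy, map_add, map_add]
  | tmul x y =>
    rw [TensorProduct.AlgebraTensorModule.tensorTensorTensorComm_tmul, TensorProduct.map_tmul,
      LinearMap.mul'_apply, TensorProduct.map_tmul, LinearMap.mul'_apply]
    rfl

theorem rho_one : rho (1 : WithConv (L ⊗[R] A →ₗ[L] L)) = 1 := by
  apply WithConv.ext
  apply LinearMap.ext
  intro a
  change (1 : WithConv (L ⊗[R] A →ₗ[L] L)) ((1 : L) ⊗ₜ[R] a) = (1 : WithConv (A →ₗ[R] L)) a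
  rw [LinearMap.convOne_apply, LinearMap.convOne_apply, TensorProduct.counit_tmul,
    CommSemiring.counit_apply]
  simp [Algebra.algebraMap_eq_smul_one]

theorem rho_pow (F : WithConv (L ⊗[R] A →ₗ[L] L)) (n : ℕ) : rho (F ^ n) = rho F ^ n := by
  induction n with
  | zero => rw [pow_zero, pow_zero, rho_one]
  | succ n ih => rw [pow_succ, pow_succ, rho_mul, ih]

end Transfer

section Rank

variable {R : Type u} [CommRing R] {A : Type v} [AddCommGroup A] [Module R A]
  [Module.Finite R A] [Module.Projective R A]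

theorem finrank_baseChange_of_rankAtStalk (p : ℕ)
    (hrk : ∀ q : PrimeSpectrum R, Module.rankAtStalk A q = p)
    (S : Type w) [CommRing S] [Nontrivial S] [Algebra R S] [Module.Free S (S ⊗[R] A)] :
    Module.finrank S (S ⊗[R] A) = p := by
  obtain ⟨m, hm⟩ := Ideal.exists_maximal S
  let P : PrimeSpectrum S := ⟨m, hm.isPrime⟩
  have h1 := Module.rankAtStalk_baseChange (R := R) (M := A) (S := S) P
  rw [hrk] at h1
  have h2 := congrFun (Module.rankAtStalk_eq_finrank_of_free (R := S) (M := S ⊗[R] A)) P
  rw [h1] at h2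
  exact h2.symm

end Rank

section Geometric

variable {R : Type u} [CommRing R] {A : Type v} [CommRing A] [HopfAlgebra R A]
  [Module.Finite R A] [Module.Projective R A]

/-- Geometric fibres of a group scheme of prime order have monogenic dual algebra. -/
theorem exists_indep_of_field (p : ℕ) [Fact p.Prime]
    (hrk : ∀ q : PrimeSpectrum R, Module.rankAtStalk A q = p)
    (L : Type w) [Field L] [IsAlgClosed L] [Algebra R L] :
    ∃ zb : WithConv (A →ₗ[R] L), LinearIndependent L (fun j : Fin p => zb ^ (j : ℕ)) := by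
  have hfin : Module.finrank L (L ⊗[R] A) = p := finrank_baseChange_of_rankAtStalk p hrk L
  obtain ⟨z, hz⟩ := exists_linearIndependent_pow (K := L) (H := L ⊗[R] A) p hfin
  refine ⟨rho z, ?_⟩
  have h1 := hz.map' (rho (R := R) (A := A) (L := L)) (LinearMap.ker_eq_bot.mpr rho_injective)
  have h2 : (fun j : Fin p => (rho z) ^ (j : ℕ)) = (⇑(rho (R := R) (A := A) (L := L)) ∘
      fun j : Fin p => z ^ (j : ℕ)) := by
    funext j
    exact (rho_pow z j).symm
  rw [h2]
  exact h1

end Geometric

end Groth.Agent.Lib.Helper24OT
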