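import Mathlib
import Groth.Agent.Lib.Helper24OTb

set_option autoImplicit false
universe u v w

namespace Groth.Agent.Lib.Helper24OT

open TensorProduct WithConv Coalgebra

section Post

variable {R : Type u} [CommRing R] {A : Type v} [CommRing A] [HopfAlgebra R A]
  {S : Type*} [CommRing S] [Algebra R S] {T : Type*} [CommRing T] [Algebra R T]

/-- Post-composition with an algebra map, on convolution algebras. -/
noncomputable def post (h : S →ₐ[R] T) (F : WithConv (A →ₗ[R] S)) : WithConv (A →ₗ[R] T) :=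
  toConv (h.toLinearMap ∘ₗ F.ofConv)

@[simp] theorem post_apply (h : S →ₐ[R] T) (F : WithConv (A →ₗ[R] S)) (a : A) :
    post h F a = h (F a) := rfl

theorem post_mul (h : S →ₐ[R] T) (F G : WithConv (A →ₗ[R] S)) :
    post h (F * G) = post h F * post h G :=
  WithConv.ext (LinearMap.algHom_comp_convMul_distrib h F G)

theorem post_one (h : S →ₐ[R] T) : post h (1 : WithConv (A →ₗ[R] S)) = 1 := by
  apply WithConv.ext
  apply LinearMap.ext
  intro a
  change h ((1 : WithConv (A →ₗ[R] S)) a) = (1 : WithConv (A →ₗ[R] T)) a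
  rw [LinearMap.convOne_apply, LinearMap.convOne_apply, AlgHom.commutes]

theorem post_pow (h : S →ₐ[R] T) (F : WithConv (A →ₗ[R] S)) (n : ℕ) :
    post h (F ^ n) = post h F ^ n := by
  induction n with
  | zero => rw [pow_zero, pow_zero, post_one]
  | succ n ih => rw [pow_succ, pow_succ, post_mul, ih]

end Post

section Lift

variable {R : Type u} [CommRing R] {A : Type v} [AddCommGroup A] [Module R A]
  {Λ : Type*} [CommRing Λ] [Algebra R Λ]
  {S : Type*} [CommRing S] [Algebra R S] [Algebra Λ S] [IsScalarTower R Λ S]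

theorem lift_sum {ι : Type*} (s : Finset ι) (c : ι → S) (G : ι → (A →ₗ[R] S)) (m : Λ ⊗[R] A) :
    LinearMap.liftBaseChange Λ (∑ j ∈ s, c j • G j) m =
      ∑ j ∈ s, c j * LinearMap.liftBaseChange Λ (G j) m := by
  induction m using TensorProduct.induction_on with
  | zero => simp
  | tmul l a =>
    simp only [LinearMap.liftBaseChange_tmul, LinearMap.sum_apply, LinearMap.smul_apply,
      Finset.smul_sum, smul_eq_mul]
    refine Finset.sum_congr rfl fun j _ => ?_
    rw [Algebra.smul_def, Algebra.smul_def]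
    ring
  | add x y hx hy =>
    rw [map_add, hx, hy, ← Finset.sum_add_distrib]
    refine Finset.sum_congr rfl fun j _ => ?_
    rw [map_add, mul_add]

theorem lift_sub (G G' : A →ₗ[R] S) (m : Λ ⊗[R] A) :
    LinearMap.liftBaseChange Λ (G - G') m =
      LinearMap.liftBaseChange Λ G m - LinearMap.liftBaseChange Λ G' m := by
  induction m using TensorProduct.induction_on with
  | zero => simp
  | tmul l a => simp only [LinearMap.liftBaseChange_tmul, LinearMap.sub_apply, smul_sub]
  | add x y hx hy => rw [map_add, hx, hy, map_add, map_add]; ring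

theorem lift_inj {ι : Type*} (b : Module.Basis ι Λ (Λ ⊗[R] A)) (G : A →ₗ[R] S)
    (h : ∀ i, LinearMap.liftBaseChange Λ G (b i) = 0) : G = 0 := by
  have h1 : LinearMap.liftBaseChange Λ G = 0 := b.ext (fun i => by rw [h i]; rfl)
  apply LinearMap.ext
  intro a
  have := congrArg (fun φ : Λ ⊗[R] A →ₗ[Λ] S => φ ((1 : Λ) ⊗ₜ[R] a)) h1
  simpa using this

end Lift

section Local

variable {R : Type u} [CommRing R] {A : Type v} [CommRing A] [HopfAlgebra R A]
  [Module.Finite R A] [Module.Projective R A]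

/-- If `Λ` is local, `π : Λ → L` detects units and `Z ∈ Hom(A, Λ)` has convolution powers which
become linearly independent in `Hom(A, L)`, then `Hom(A, Λ)` is spanned by the powers of `Z`. -/
theorem exists_eq_sum_pow (p : ℕ) (hrk : ∀ q : PrimeSpectrum R, Module.rankAtStalk A q = p)
    {Λ : Type u} [CommRing Λ] [IsLocalRing Λ] [Algebra R Λ]
    {L : Type w} [Field L] [Algebra R L] (π : Λ →ₐ[R] L) (hπ : ∀ x : Λ, π x ≠ 0 → IsUnit x)
    (Z : WithConv (A →ₗ[R] Λ))
    (hZ : LinearIndependent L (fun j : Fin p => (post π Z) ^ (j : ℕ)))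
    (F : WithConv (A →ₗ[R] Λ)) :
    ∃ c : Fin p → Λ, F = ∑ j : Fin p, c j • Z ^ (j : ℕ) := by
  classical
  letI : Algebra Λ L := π.toRingHom.toAlgebra
  haveI : IsScalarTower R Λ L := IsScalarTower.of_algebraMap_eq (fun r => (π.commutes r).symm)
  haveI : Module.Free Λ (Λ ⊗[R] A) := Module.free_of_flat_of_isLocalRing
  have hfin : Module.finrank Λ (Λ ⊗[R] A) = p := finrank_baseChange_of_rankAtStalk p hrk Λ
  let b : Module.Basis (Fin p) Λ (Λ ⊗[R] A) := Module.finBasisOfFinrankEq Λ (Λ ⊗[R] A) hfin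
  -- compatibility of lifts with `π`
  have hcompat : ∀ (G : A →ₗ[R] Λ) (m : Λ ⊗[R] A),
      π (LinearMap.liftBaseChange Λ G m) = LinearMap.liftBaseChange Λ (π.toLinearMap ∘ₗ G) m := by
    intro G m
    induction m using TensorProduct.induction_on with
    | zero => simp
    | tmul l a =>
      simp only [LinearMap.liftBaseChange_tmul, smul_eq_mul, map_mul, LinearMap.comp_apply,
        AlgHom.toLinearMap_apply]
      rw [Algebra.smul_def]
      rfl
    | add x y hx hy => rw [map_add, map_add, hx, hy, map_add]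
  let X : Matrix (Fin p) (Fin p) Λ := fun i j => LinearMap.liftBaseChange Λ (Z ^ (j : ℕ)).ofConv (b i)
  let Y : Matrix (Fin p) (Fin p) L :=
    fun i j => LinearMap.liftBaseChange Λ ((post π Z) ^ (j : ℕ)).ofConv (b i)
  have hXY : π.toRingHom.mapMatrix X = Y := by
    ext i j
    change π (X i j) = Y i j
    change π (LinearMap.liftBaseChange Λ (Z ^ (j : ℕ)).ofConv (b i)) = _
    rw [hcompat]
    change _ = LinearMap.liftBaseChange Λ ((post π Z) ^ (j : ℕ)).ofConv (b i)
    rw [← post_pow]
    rfl
  have hYcol : LinearIndependent L Y.col := by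
    rw [Fintype.linearIndependent_iff]
    intro c hc
    have h0 : (∑ j : Fin p, c j • ((post π Z) ^ (j : ℕ)).ofConv : A →ₗ[R] L) = 0 := by
      apply lift_inj (Λ := Λ) b
      intro i
      rw [lift_sum]
      have := congrFun hc i
      simp only [Finset.sum_apply, Pi.smul_apply, smul_eq_mul, Pi.zero_apply] at this
      exact this
    have h1 : ∑ j : Fin p, c j • (post π Z) ^ (j : ℕ) = 0 := by
      apply WithConv.ofConv_injective
      rw [WithConv.ofConv_sum]
      exact h0
    exact Fintype.linearIndependent_iff.mp hZ c h1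
  have hYunit : IsUnit Y.det := (Matrix.isUnit_iff_isUnit_det Y).mp
    (Matrix.linearIndependent_cols_iff_isUnit.mp hYcol)
  have hXdet : IsUnit X.det := by
    apply hπ
    have : π X.det = Y.det := by
      rw [← hXY]
      exact RingHom.map_det π.toRingHom X
    rw [this]
    exact hYunit.ne_zero
  have hXunit : IsUnit X := (Matrix.isUnit_iff_isUnit_det X).mpr hXdet
  let v : Fin p → Λ := fun i => LinearMap.liftBaseChange Λ F.ofConv (b i)
  let c : Fin p → Λ := X⁻¹.mulVec v
  have hXc : X.mulVec c = v := by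
    change X.mulVec (X⁻¹.mulVec v) = v
    rw [Matrix.mulVec_mulVec, Matrix.mul_nonsing_inv X hXdet, Matrix.one_mulVec]
  refine ⟨c, ?_⟩
  apply WithConv.ofConv_injective
  rw [← sub_eq_zero]
  apply lift_inj (Λ := Λ) (S := Λ) b
  intro i
  rw [lift_sub, WithConv.ofConv_sum]
  have h2 : (∑ j : Fin p, (c j • Z ^ (j : ℕ)).ofConv : A →ₗ[R] Λ) =
      ∑ j : Fin p, c j • (Z ^ (j : ℕ)).ofConv := rfl
  rw [h2, lift_sum]
  have h3 := congrFun hXc i
  change ∑ j : Fin p, X i j * c j = v i at h3
  rw [sub_eq_zero]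
  change v i = ∑ j : Fin p, c j * X i j
  rw [← h3]
  exact Finset.sum_congr rfl fun j _ => mul_comm _ _

/-- Under the hypotheses of `exists_eq_sum_pow`, the convolution algebra `Hom(A, Λ)` is
commutative. -/
theorem comm_of_local (p : ℕ) (hrk : ∀ q : PrimeSpectrum R, Module.rankAtStalk A q = p)
    {Λ : Type u} [CommRing Λ] [IsLocalRing Λ] [Algebra R Λ]
    {L : Type w} [Field L] [Algebra R L] (π : Λ →ₐ[R] L) (hπ : ∀ x : Λ, π x ≠ 0 → IsUnit x)
    (Z : WithConv (A →ₗ[R] Λ))
    (hZ : LinearIndependent L (fun j : Fin p => (post π Z) ^ (j : ℕ)))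
    (F G : WithConv (A →ₗ[R] Λ)) : F * G = G * F := by
  obtain ⟨c, rfl⟩ := exists_eq_sum_pow p hrk π hπ Z hZ F
  obtain ⟨c', rfl⟩ := exists_eq_sum_pow p hrk π hπ Z hZ G
  change Commute _ _
  apply Commute.sum_left
  intro i _
  apply Commute.sum_right
  intro j _
  apply Commute.smul_left
  apply Commute.smul_right
  exact (Commute.refl Z).pow_pow _ _

end Local

end Groth.Agent.Lib.Helper24OT
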