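import Mathlib
import Groth.Agent.Lib.Helper24OTc

set_option autoImplicit false
universe u v w

namespace Groth.Agent.Lib.Helper24OT

open TensorProduct WithConv Coalgebra

section Construct

variable {R : Type u} [CommRing R] {A : Type v} [CommRing A] [HopfAlgebra R A]
  [Module.Finite R A] [Module.Projective R A]

theorem exists_comm_local (p : ℕ) (hrk : ∀ q : PrimeSpectrum R, Module.rankAtStalk A q = p)
    (q : Ideal R) {L : Type w} [Field L] [Algebra R L] (hq : ∀ r ∈ q, algebraMap R L r = 0)
    (zb : WithConv (A →ₗ[R] L)) (hz : LinearIndependent L (fun j : Fin p => zb ^ (j : ℕ))) :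
    ∃ (Λ : Type u) (_ : CommRing Λ) (_ : Algebra R Λ),
      (∀ F G : WithConv (A →ₗ[R] Λ), F * G = G * F) ∧
      ∀ r : R, algebraMap R Λ r = 0 → ∃ t, t ∉ q ∧ t * r = 0 := by
  classical
  obtain ⟨n, f, hf⟩ := Module.Finite.exists_fin' R A
  obtain ⟨s, hs⟩ := Module.projective_lifting_property f LinearMap.id hf
  let c : Fin n → L := fun i => zb (f (Pi.single i 1))
  let φ : MvPolynomial (Fin n) R →ₐ[R] L := MvPolynomial.aeval c
  let P : Ideal (MvPolynomial (Fin n) R) := RingHom.ker φ
  haveI : P.IsPrime := RingHom.ker_isPrime φ
  have hφu : ∀ y : P.primeCompl, IsUnit (φ y) := by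
    intro y
    apply IsUnit.mk0
    intro h0
    exact y.2 h0
  let π : Localization.AtPrime P →ₐ[R] L := IsLocalization.liftAlgHom (M := P.primeCompl) (f := φ) hφu
  have hπalg : ∀ x : MvPolynomial (Fin n) R, π (algebraMap _ (Localization.AtPrime P) x) = φ x := by
    intro x
    exact IsLocalization.lift_eq _ x
  have hπ : ∀ x : Localization.AtPrime P, π x ≠ 0 → IsUnit x := by
    intro x hx
    by_contra hnu
    apply hx
    have hmem : x ∈ IsLocalRing.maximalIdeal (Localization.AtPrime P) := hnu
    rw [← Localization.AtPrime.map_eq_maximalIdeal] at hmem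
    have h1 : π x ∈ Ideal.map π.toRingHom (Ideal.map (algebraMap _ (Localization.AtPrime P)) P) :=
      Ideal.mem_map_of_mem _ hmem
    rw [Ideal.map_map] at h1
    have h2 : Ideal.map (π.toRingHom.comp (algebraMap _ (Localization.AtPrime P))) P = ⊥ := by
      rw [Ideal.map_eq_bot_iff_le_ker]
      intro y hy
      rw [RingHom.mem_ker, RingHom.comp_apply]
      change π _ = 0
      rw [hπalg]
      exact hy
    rw [h2] at h1
    exact h1
  let t : Fin n → Localization.AtPrime P := fun i => algebraMap (MvPolynomial (Fin n) R) (Localization.AtPrime P) (MvPolynomial.X i)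
  let Z : WithConv (A →ₗ[R] Localization.AtPrime P) := toConv (Fintype.linearCombination R t ∘ₗ s)
  have hZ : post π Z = zb := by
    apply WithConv.ext
    apply LinearMap.ext
    intro a
    change π (Fintype.linearCombination R t (s a)) = zb a
    rw [Fintype.linearCombination_apply, map_sum]
    have h1 : ∀ i, π (s a i • t i) = s a i • c i := by
      intro i
      rw [map_smul]
      congr 1
      change π (algebraMap (MvPolynomial (Fin n) R) (Localization.AtPrime P) (MvPolynomial.X i)) = c i
      rw [hπalg]
      exact MvPolynomial.aeval_X c i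
    simp only [h1]
    have h2 : a = f (s a) := by
      have := congrArg (fun g : A →ₗ[R] A => g a) hs
      exact this.symm
    have h3 : s a = ∑ i, s a i • (Pi.single i (1 : R) : Fin n → R) := by
      funext j
      simp [Finset.sum_apply, Pi.single_apply]
    conv_rhs => rw [h2, h3]
    change _ = zb.ofConv (f _)
    rw [map_sum, map_sum]
    refine Finset.sum_congr rfl fun i _ => ?_
    rw [map_smul, map_smul]
  refine ⟨Localization.AtPrime P, inferInstance, inferInstance, ?_, ?_⟩
  · exact comm_of_local p hrk π hπ Z (by rw [hZ]; exact hz)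
  · intro r hr
    have hr' : algebraMap (MvPolynomial (Fin n) R) (Localization.AtPrime P) (MvPolynomial.C r) = 0 := by
      rw [← hr]
      exact (IsScalarTower.algebraMap_apply R (MvPolynomial (Fin n) R) (Localization.AtPrime P) r).symm
    rw [IsLocalization.map_eq_zero_iff P.primeCompl] at hr'
    obtain ⟨m, hm⟩ := hr'
    -- some coefficient of m is outside q
    by_contra hcon
    push Not at hcon
    apply m.2
    change φ m = 0
    rw [MvPolynomial.as_sum (m : MvPolynomial (Fin n) R), map_sum]
    apply Finset.sum_eq_zero
    intro μ _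
    have hcoef : MvPolynomial.coeff μ (m : MvPolynomial (Fin n) R) * r = 0 := by
      have := congrArg (MvPolynomial.coeff μ) hm
      rw [mul_comm, MvPolynomial.coeff_C_mul] at this
      rw [mul_comm]
      simpa using this
    have hmem : MvPolynomial.coeff μ (m : MvPolynomial (Fin n) R) ∈ q := by
      by_contra hnm
      exact hcon _ hnm hcoef
    change (MvPolynomial.aeval c) (MvPolynomial.monomial μ _) = 0
    rw [MvPolynomial.aeval_monomial, hq _ hmem, zero_mul]

end Construct

end Groth.Agent.Lib.Helper24OT
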