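import Mathlib
import Groth.Agent.Lib.Helper24OTd
import Groth.Prelude.Def_CartDual

set_option autoImplicit false
universe u v w

namespace Groth.Agent.Lib.Helper24OT

open TensorProduct WithConv Coalgebra

section Cocomm

variable {R : Type u} [CommRing R] {A : Type v} [CommRing A] [HopfAlgebra R A]
  [Module.Finite R A] [Module.Projective R A]

/-- If the dual algebra is commutative then `A` is cocommutative. -/
theorem isCocomm_of_dual_comm
    (h : ∀ f g : WithConv (A →ₗ[R] R), f * g = g * f) : Coalgebra.IsCocomm R A := by
  constructor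
  apply LinearMap.ext
  intro a
  rw [← sub_eq_zero]
  rw [← Module.forall_dual_apply_eq_zero_iff R]
  intro φ
  obtain ⟨ψ, rfl⟩ := (CartDual.dualTensorEquiv R A A).surjective φ
  induction ψ using TensorProduct.induction_on with
  | zero => simp
  | add x y hx hy => rw [map_add, LinearMap.add_apply, hx, hy, add_zero]
  | tmul f g =>
    have key : ∀ t : A ⊗[R] A, (CartDual.dualTensorEquiv R A A) (f ⊗ₜ[R] g) t =
        LinearMap.mul' R R (TensorProduct.map f g t) := by
      intro t
      induction t using TensorProduct.induction_on with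
      | zero => simp
      | add x y hx hy => rw [map_add, map_add, map_add, hx, hy]
      | tmul x y => simp
    rw [key, map_sub, map_sub, sub_eq_zero]
    have h1 := congrArg (fun F : WithConv (A →ₗ[R] R) => F a) (h (toConv g) (toConv f))
    simp only [LinearMap.convMul_apply] at h1
    change LinearMap.mul' R R (TensorProduct.map f g ((TensorProduct.comm R A A) (comul a))) =
      LinearMap.mul' R R (TensorProduct.map f g (comul a))
    rw [← h1]
    generalize (comul a : A ⊗[R] A) = t
    induction t using TensorProduct.induction_on with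
    | zero => simp
    | add x y hx hy => simp only [map_add, hx, hy]
    | tmul x y => simp [mul_comm]

/-- **A finite locally free group scheme of prime order is commutative.** -/
theorem isCocomm_of_rank_prime (p : ℕ) [Fact p.Prime]
    (hrk : ∀ q : PrimeSpectrum R, Module.rankAtStalk A q = p) : Coalgebra.IsCocomm R A := by
  apply isCocomm_of_dual_comm
  intro f g
  apply WithConv.ext
  apply LinearMap.ext
  intro a
  change (f * g) a = (g * f) a
  rw [← sub_eq_zero]
  set r : R := (f * g) a - (g * f) a with hr
  by_contra hr0
  let I : Ideal R := LinearMap.ker (LinearMap.toSpanSingleton R R r)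
  have hI : I ≠ ⊤ := by
    intro h
    have : (1 : R) ∈ I := by rw [h]; trivial
    rw [LinearMap.mem_ker, LinearMap.toSpanSingleton_apply, one_smul] at this
    exact hr0 this
  obtain ⟨q, hqmax, hIq⟩ := Ideal.exists_le_maximal I hI
  haveI := hqmax
  letI : Field (R ⧸ q) := Ideal.Quotient.field q
  let L := AlgebraicClosure (R ⧸ q)
  have hq : ∀ x ∈ q, algebraMap R L x = 0 := by
    intro x hx
    rw [IsScalarTower.algebraMap_apply R (R ⧸ q) L, Ideal.Quotient.algebraMap_eq,
      Ideal.Quotient.eq_zero_iff_mem.mpr hx, map_zero]
  obtain ⟨zb, hzb⟩ := exists_indep_of_field (R := R) (A := A) p hrk L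
  obtain ⟨Λ, _, _, hcomm, hker⟩ := exists_comm_local p hrk q hq zb hzb
  have h1 : post (Algebra.ofId R Λ) (f * g) = post (Algebra.ofId R Λ) (g * f) := by
    rw [post_mul, post_mul]
    exact hcomm _ _
  have h2 := congrArg (fun F : WithConv (A →ₗ[R] Λ) => F a) h1
  simp only [post_apply] at h2
  have h3 : algebraMap R Λ r = 0 := by
    rw [hr, map_sub, sub_eq_zero]
    exact h2
  obtain ⟨t, htq, htr⟩ := hker r h3
  apply htq
  apply hIq
  rw [LinearMap.mem_ker, LinearMap.toSpanSingleton_apply, smul_eq_mul]
  exact htr

end Cocomm

end Groth.Agent.Lib.Helper24OT
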