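import Mathlib
import Groth.Agent.Lib.Helper24OTe
import Groth.Agent.Lib.Helper18OT4
import Groth.Agent.Lib.Helper14OTEigen

set_option autoImplicit false
universe u

namespace Groth.Agent.Lib.Helper24OT

open TensorProduct WithConv Coalgebra OortTate SGA3b Groth.Agent.Lib.Helper14OTEigen

section General

variable {p : ℕ} [Fact p.Prime] {R : Type u} [CommRing R] {A : Type u} [CommRing A] [HopfAlgebra R A]
  (χ : (ZMod p)ˣ →* Rˣ)

theorem eigenAug_mod' (n : ℕ) : eigenAug R A p χ n = eigenAug R A p χ (n % (p - 1)) := by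
  ext f
  rw [mem_eigenAug_iff, mem_eigenAug_iff]
  simp only [← Groth.Agent.Helper18OT.chi_pow_mod χ _ n]

theorem pow_mem_eigenAug' (f : A) (i n : ℕ) (hn : 1 ≤ n)
    (hf : f ∈ eigenAug R A p χ i) : f ^ n ∈ eigenAug R A p χ (i * n) := by
  rw [mem_eigenAug_iff] at hf ⊢
  refine ⟨?_, fun m => ?_⟩
  · have : counit (R := R) (f ^ n) = (counit (R := R) f) ^ n :=
      map_pow (Bialgebra.counitAlgHom R A) f n
    rw [this, hf.1, zero_pow (by omega)]
  · have h1 : T R A m (f ^ n) = (T R A m f) ^ n := by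
      rw [T_apply, T_apply, map_pow]
    rw [h1, hf.2 m, smul_pow, ← pow_mul]

theorem mul_mem_eigenAug (f g : A) (i j : ℕ)
    (hf : f ∈ eigenAug R A p χ i) (hg : g ∈ eigenAug R A p χ j) :
    f * g ∈ eigenAug R A p χ (i + j) := by
  rw [mem_eigenAug_iff] at hf hg ⊢
  refine ⟨?_, fun m => ?_⟩
  · rw [Bialgebra.counit_mul, hf.1, zero_mul]
  · have h1 : T R A m (f * g) = T R A m f * T R A m g := by
      rw [T_apply, T_apply, T_apply, map_mul]
    rw [h1, hf.2 m, hg.2 m, smul_mul_smul_comm, ← pow_add]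

/-- The projector onto the `i`-th eigenspace of the augmentation ideal. -/
noncomputable def eproj (u : R) (i : ℕ) : A →ₗ[R] A :=
  proj R A p u χ i ∘ₗ (LinearMap.id - Algebra.linearMap R A ∘ₗ (counit (R := R) (A := A)))

theorem eproj_apply (u : R) (i : ℕ) (a : A) :
    eproj χ u i a = proj R A p u χ i (a - algebraMap R A (counit (R := R) a)) := rfl

theorem eproj_mem (hp : (WithConv.toConv (AlgHom.id R A)) ^ p = 1) (u : R) (i : ℕ) (a : A) :
    eproj χ u i a ∈ eigenAug R A p χ i := by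
  rw [eproj_apply]
  apply proj_mem χ hp
  rw [map_sub, Bialgebra.counit_algebraMap, sub_self]

theorem eproj_of_mem (hχ : ∀ m : (ZMod p)ˣ, m ≠ 1 → IsUnit ((χ m : R) - 1))
    (u : R) (hu : u * ((p - 1 : ℕ) : R) = 1) (i : ℕ) (hi : i < p - 1) (f : A)
    (hf : f ∈ eigenAug R A p χ i) : eproj χ u i f = f := by
  rw [eproj_apply]
  have h0 : counit (R := R) f = 0 := ((mem_eigenAug_iff χ i f).mp hf).1
  rw [h0, map_zero, sub_zero, proj_of_mem χ hχ u hu i i hi hi f hf, if_pos rfl]

theorem range_eproj (hp : (WithConv.toConv (AlgHom.id R A)) ^ p = 1)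
    (hχ : ∀ m : (ZMod p)ˣ, m ≠ 1 → IsUnit ((χ m : R) - 1))
    (u : R) (hu : u * ((p - 1 : ℕ) : R) = 1) (i : ℕ) (hi : i < p - 1) :
    LinearMap.range (eproj (A := A) χ u i) = eigenAug R A p χ i := by
  apply le_antisymm
  · rintro _ ⟨a, rfl⟩
    exact eproj_mem χ hp u i a
  · intro f hf
    exact ⟨f, eproj_of_mem χ hχ u hu i hi f hf⟩

end General

section BaseChange

variable {p : ℕ} [Fact p.Prime] {R : Type u} [CommRing R] {A : Type u} [CommRing A] [HopfAlgebra R A]
  (χ : (ZMod p)ˣ →* Rˣ) (S : Type u) [CommRing S] [Algebra R S]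

/-- The base-changed character. -/
noncomputable def chiBC : (ZMod p)ˣ →* Sˣ := (Units.map (algebraMap R S).toMonoidHom).comp χ

@[simp] theorem chiBC_apply (m : (ZMod p)ˣ) : ((chiBC χ S m : Sˣ) : S) = algebraMap R S (χ m : R) := rfl

theorem T_baseChange (m : (ZMod p)ˣ) (t : S) (a : A) :
    T S (S ⊗[R] A) m (t ⊗ₜ[R] a) = t ⊗ₜ[R] T R A m a := by
  rw [T_apply, T_apply]
  exact Groth.Agent.Lib.Helper25.Tors.powConv_baseChange S _ t a

theorem hp_baseChange (hp : (WithConv.toConv (AlgHom.id R A)) ^ p = 1) :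
    (WithConv.toConv (AlgHom.id S (S ⊗[R] A))) ^ p = 1 := by
  apply WithConv.ofConv_injective
  apply Algebra.TensorProduct.ext'
  intro t a
  change powConv S (S ⊗[R] A) p (t ⊗ₜ[R] a) = (1 : WithConv (S ⊗[R] A →ₐ[S] S ⊗[R] A)) (t ⊗ₜ[R] a)
  rw [Groth.Agent.Lib.Helper25.Tors.powConv_baseChange S p t a]
  have h1 : powConv R A p a = algebraMap R A (counit (R := R) a) := by
    unfold powConv
    rw [hp]
    rfl
  rw [h1, AlgHom.convOne_apply, TensorProduct.counit_tmul, CommSemiring.counit_apply,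
    Algebra.TensorProduct.algebraMap_apply, Algebra.algebraMap_eq_smul_one (counit (R := R) a),
    TensorProduct.tmul_smul]
  simp [TensorProduct.smul_tmul', Algebra.algebraMap_eq_smul_one]

theorem proj_baseChange (u : R) (i : ℕ) (t : S) (a : A) :
    proj S (S ⊗[R] A) p (algebraMap R S u) (chiBC χ S) i (t ⊗ₜ[R] a) =
      t ⊗ₜ[R] proj R A p u χ i a := by
  rw [proj_apply, proj_apply, TensorProduct.tmul_smul, TensorProduct.tmul_sum,
    algebraMap_smul]
  congr 1
  refine Finset.sum_congr rfl fun m _ => ?_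
  rw [T_baseChange, TensorProduct.tmul_smul, chiBC_apply, ← map_pow, algebraMap_smul]

theorem eproj_baseChange (u : R) (i : ℕ) :
    eproj (A := S ⊗[R] A) (chiBC χ S) (algebraMap R S u) i = (eproj (A := A) χ u i).baseChange S := by
  apply TensorProduct.AlgebraTensorModule.curry_injective
  apply LinearMap.ext
  intro t
  apply LinearMap.ext
  intro a
  change eproj (chiBC χ S) (algebraMap R S u) i (t ⊗ₜ[R] a) = t ⊗ₜ[R] eproj χ u i a
  rw [eproj_apply, eproj_apply, ← proj_baseChange]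
  congr 1
  rw [TensorProduct.counit_tmul, CommSemiring.counit_apply, Algebra.TensorProduct.algebraMap_apply,
    TensorProduct.tmul_sub]
  congr 1
  rw [Algebra.algebraMap_eq_smul_one (counit (R := R) a), TensorProduct.tmul_smul]
  simp [TensorProduct.smul_tmul', Algebra.algebraMap_eq_smul_one]

theorem hchi_baseChange (hχ : ∀ m : (ZMod p)ˣ, m ≠ 1 → IsUnit ((χ m : R) - 1)) :
    ∀ m : (ZMod p)ˣ, m ≠ 1 → IsUnit ((chiBC χ S m : S) - 1) := by
  intro m hm
  have := (hχ m hm).map (algebraMap R S)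
  rwa [map_sub, map_one] at this

theorem hu_baseChange (u : R) (hu : u * ((p - 1 : ℕ) : R) = 1) :
    algebraMap R S u * ((p - 1 : ℕ) : S) = 1 := by
  rw [← map_natCast (algebraMap R S), ← map_mul, hu, map_one]

theorem hchip_baseChange
    (hχp : ∀ m : (ZMod p)ˣ, ((χ m : Rˣ) : R) - (((m : ZMod p).val : ℕ) : R) ∈
      Ideal.span ({(p : R)} : Set R)) :
    ∀ m : (ZMod p)ˣ, ((chiBC χ S m : Sˣ) : S) - (((m : ZMod p).val : ℕ) : S) ∈
      Ideal.span ({(p : S)} : Set S) := by
  intro m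
  have h2 := Ideal.mem_map_of_mem (algebraMap R S) (hχp m)
  rw [Ideal.map_span, Set.image_singleton, map_natCast, map_sub, map_natCast] at h2
  exact h2

/-- The codomain-restricted projector. -/
noncomputable def eprojR (hp : (WithConv.toConv (AlgHom.id R A)) ^ p = 1) (u : R) (i : ℕ) :
    A →ₗ[R] eigenAug R A p χ i :=
  (eproj χ u i).codRestrict _ (eproj_mem χ hp u i)

theorem subtype_comp_eprojR (hp : (WithConv.toConv (AlgHom.id R A)) ^ p = 1) (u : R) (i : ℕ) :
    (eigenAug R A p χ i).subtype ∘ₗ eprojR χ hp u i = eproj χ u i := rfl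

theorem eprojR_comp_subtype (hp : (WithConv.toConv (AlgHom.id R A)) ^ p = 1)
    (hχ : ∀ m : (ZMod p)ˣ, m ≠ 1 → IsUnit ((χ m : R) - 1))
    (u : R) (hu : u * ((p - 1 : ℕ) : R) = 1) (i : ℕ) (hi : i < p - 1) :
    eprojR χ hp u i ∘ₗ (eigenAug R A p χ i).subtype = LinearMap.id := by
  apply LinearMap.ext
  intro f
  apply Subtype.ext
  rw [LinearMap.comp_apply, LinearMap.id_apply, Submodule.subtype_apply]
  unfold eprojR
  rw [LinearMap.codRestrict_apply]
  have h := eproj_of_mem χ hχ u hu i hi (f : A) f.2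
  exact h

theorem eprojR_surjective (hp : (WithConv.toConv (AlgHom.id R A)) ^ p = 1)
    (hχ : ∀ m : (ZMod p)ˣ, m ≠ 1 → IsUnit ((χ m : R) - 1))
    (u : R) (hu : u * ((p - 1 : ℕ) : R) = 1) (i : ℕ) (hi : i < p - 1) :
    Function.Surjective (eprojR χ hp u i) := by
  intro f
  exact ⟨f, congrArg (fun g => g f) (eprojR_comp_subtype χ hp hχ u hu i hi)⟩

theorem finite_eigenAug [Module.Finite R A] (hp : (WithConv.toConv (AlgHom.id R A)) ^ p = 1)
    (hχ : ∀ m : (ZMod p)ˣ, m ≠ 1 → IsUnit ((χ m : R) - 1))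
    (u : R) (hu : u * ((p - 1 : ℕ) : R) = 1) (i : ℕ) (hi : i < p - 1) :
    Module.Finite R (eigenAug R A p χ i) :=
  Module.Finite.of_surjective _ (eprojR_surjective χ hp hχ u hu i hi)

theorem projective_eigenAug [Module.Projective R A]
    (hp : (WithConv.toConv (AlgHom.id R A)) ^ p = 1)
    (hχ : ∀ m : (ZMod p)ˣ, m ≠ 1 → IsUnit ((χ m : R) - 1))
    (u : R) (hu : u * ((p - 1 : ℕ) : R) = 1) (i : ℕ) (hi : i < p - 1) :
    Module.Projective R (eigenAug R A p χ i) :=
  Module.Projective.of_split _ _ (eprojR_comp_subtype χ hp hχ u hu i hi)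

theorem baseChange_subtype_injective (hp : (WithConv.toConv (AlgHom.id R A)) ^ p = 1)
    (hχ : ∀ m : (ZMod p)ˣ, m ≠ 1 → IsUnit ((χ m : R) - 1))
    (u : R) (hu : u * ((p - 1 : ℕ) : R) = 1) (i : ℕ) (hi : i < p - 1) :
    Function.Injective ((eigenAug R A p χ i).subtype.baseChange S) := by
  have h : (eprojR χ hp u i).baseChange S ∘ₗ (eigenAug R A p χ i).subtype.baseChange S =
      LinearMap.id := by
    rw [← LinearMap.baseChange_comp, eprojR_comp_subtype χ hp hχ u hu i hi, LinearMap.baseChange_id]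
  exact Function.LeftInverse.injective (g := (eprojR χ hp u i).baseChange S)
    (fun x => congrArg (fun g => g x) h)

/-- Base change of the eigenspaces. -/
theorem eigenAug_baseChange (hp : (WithConv.toConv (AlgHom.id R A)) ^ p = 1)
    (hχ : ∀ m : (ZMod p)ˣ, m ≠ 1 → IsUnit ((χ m : R) - 1))
    (u : R) (hu : u * ((p - 1 : ℕ) : R) = 1) (i : ℕ) (hi : i < p - 1) :
    eigenAug S (S ⊗[R] A) p (chiBC χ S) i =
      LinearMap.range ((eigenAug R A p χ i).subtype.baseChange S) := by
  rw [← range_eproj (chiBC χ S) (hp_baseChange S hp) (hchi_baseChange χ S hχ) (algebraMap R S u)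
    (hu_baseChange S u hu) i hi, eproj_baseChange, ← subtype_comp_eprojR χ hp u i,
    LinearMap.baseChange_comp]
  apply LinearMap.range_comp_of_range_eq_top
  rw [LinearMap.range_eq_top]
  exact LinearMap.lTensor_surjective S (eprojR_surjective χ hp hχ u hu i hi)

end BaseChange

end Groth.Agent.Lib.Helper24OT
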