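import Mathlib
import Groth.Agent.Lib.Helper24OTf
import Groth.Agent.S18468

set_option autoImplicit false
universe u

namespace Groth.Agent.Lib.Helper24OT

open TensorProduct WithConv Coalgebra OortTate SGA3b Groth.Agent.Lib.Helper14OTEigen

section FinrankSum

variable {K : Type*} [Field K] {V : Type*} [AddCommGroup V] [Module K V] [FiniteDimensional K V]

theorem finrank_biSup_of_iSupIndep {ι : Type*} [DecidableEq ι] (q : ι → Submodule K V)
    (hq : iSupIndep q) (s : Finset ι) :
    Module.finrank K (⨆ i ∈ s, q i : Submodule K V) = ∑ i ∈ s, Module.finrank K (q i) := by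
  induction s using Finset.induction_on with
  | empty => simp
  | insert a s ha ih =>
    rw [Finset.iSup_insert, Finset.sum_insert ha, ← ih]
    have hdis : Disjoint (q a) (⨆ i ∈ s, q i) := by
      have := hq.disjoint_biSup (x := a) (y := (s : Set ι)) (by simpa using ha)
      simpa using this
    have h := Submodule.finrank_sup_add_finrank_inf_eq (q a) (⨆ i ∈ s, q i)
    rw [hdis.eq_bot, finrank_bot, add_zero] at h
    exact h

end FinrankSum

section Field

variable {p : ℕ} [Fact p.Prime] {K : Type u} [Field K] {H : Type u} [CommRing H] [HopfAlgebra K H]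
  [Module.Finite K H]
  (χ : (ZMod p)ˣ →* Kˣ)

omit [Fact p.Prime] [Module.Finite K H] in
theorem finrank_ker_counit (hfin : Module.finrank K H = p) [Module.Finite K H] :
    Module.finrank K (LinearMap.ker (Bialgebra.counitAlgHom K H).toLinearMap) = p - 1 := by
  have h := LinearMap.finrank_range_add_finrank_ker (Bialgebra.counitAlgHom K H).toLinearMap
  have hsurj : LinearMap.range (Bialgebra.counitAlgHom K H).toLinearMap = ⊤ := by
    rw [LinearMap.range_eq_top]
    intro c
    exact ⟨algebraMap K H c, by simp⟩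
  rw [hsurj, finrank_top, Module.finrank_self, hfin] at h
  omega

/-- From an element `x` of the first eigenspace with nonvanishing powers: all eigenspaces are lines,
spanned by the powers of `x`. -/
theorem eigen_of_exists (hfin : Module.finrank K H = p)
    (hp : (WithConv.toConv (AlgHom.id K H)) ^ p = 1)
    (hχ : ∀ m : (ZMod p)ˣ, m ≠ 1 → IsUnit ((χ m : K) - 1))
    (u : K) (hu : u * ((p - 1 : ℕ) : K) = 1)
    (x : H) (hx : x ∈ eigenAug K H p χ 1) (hxt : ∀ t, 1 ≤ t → t ≤ p - 1 → x ^ t ≠ 0) :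
    (∀ i, i < p - 1 → Module.finrank K (eigenAug K H p χ i) = 1) ∧
    (∀ t, 1 ≤ t → t ≤ p - 1 → eigenAug K H p χ t = Submodule.span K {x ^ t}) := by
  classical
  have hpos : 0 < p - 1 := Groth.Agent.Helper18OT.pred_pos
  obtain ⟨hind, hsup, -⟩ := Groth.Agent.S18468.result p K u hu χ hχ H hp
  have hxmem : ∀ t, 1 ≤ t → x ^ t ∈ eigenAug K H p χ t := by
    intro t ht
    have := pow_mem_eigenAug' χ x 1 t ht hx
    rwa [one_mul] at this
  -- each eigenspace is nonzero
  have hne : ∀ i : Fin (p - 1), 1 ≤ Module.finrank K (eigenAug K H p χ (i : ℕ)) := by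
    intro i
    rw [Nat.one_le_iff_ne_zero, Ne, Submodule.finrank_eq_zero]
    intro hbot
    by_cases hi0 : (i : ℕ) = 0
    · have h1 := hxmem (p - 1) hpos
      rw [eigenAug_mod' χ (p - 1), Nat.mod_self, ← hi0, hbot, Submodule.mem_bot] at h1
      exact hxt (p - 1) hpos le_rfl h1
    · have h1 := hxmem (i : ℕ) (Nat.one_le_iff_ne_zero.mpr hi0)
      rw [hbot, Submodule.mem_bot] at h1
      exact hxt (i : ℕ) (Nat.one_le_iff_ne_zero.mpr hi0) (le_of_lt i.2) h1
  have hsum : ∑ i : Fin (p - 1), Module.finrank K (eigenAug K H p χ (i : ℕ)) = p - 1 := by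
    have h1 := finrank_biSup_of_iSupIndep (fun i : Fin (p - 1) => eigenAug K H p χ (i : ℕ)) hind
      Finset.univ
    have h2 : (⨆ i ∈ (Finset.univ : Finset (Fin (p - 1))), eigenAug K H p χ (i : ℕ)) =
        ⨆ i : Fin (p - 1), eigenAug K H p χ (i : ℕ) := by simp
    rw [h2] at h1
    rw [← h1, hsup]
    exact finrank_ker_counit hfin
  have hone : ∀ i : Fin (p - 1), Module.finrank K (eigenAug K H p χ (i : ℕ)) = 1 := by
    intro i
    by_contra hne1
    have hlt : 1 < Module.finrank K (eigenAug K H p χ (i : ℕ)) := lt_of_le_of_ne (hne i) (Ne.symm hne1)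
    have := Finset.sum_lt_sum (s := Finset.univ) (f := fun _ : Fin (p - 1) => 1)
      (g := fun i : Fin (p - 1) => Module.finrank K (eigenAug K H p χ (i : ℕ)))
      (fun j _ => hne j) ⟨i, Finset.mem_univ _, hlt⟩
    rw [hsum] at this
    simp at this
  refine ⟨fun i hi => hone ⟨i, hi⟩, ?_⟩
  intro t ht1 ht2
  have hfr : Module.finrank K (eigenAug K H p χ t) = 1 := by
    rcases Nat.lt_or_ge t (p - 1) with h | h
    · exact hone ⟨t, h⟩
    · have : t = p - 1 := le_antisymm ht2 h
      rw [this, eigenAug_mod' χ (p - 1), Nat.mod_self]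
      exact hone ⟨0, hpos⟩
  have hnz : (⟨x ^ t, hxmem t ht1⟩ : eigenAug K H p χ t) ≠ 0 := by
    intro h
    exact hxt t ht1 ht2 (congrArg Subtype.val h)
  have hspan := (finrank_eq_one_iff_of_nonzero _ hnz).mp hfr
  apply le_antisymm
  · intro f hf
    have : (⟨f, hf⟩ : eigenAug K H p χ t) ∈ Submodule.span K {(⟨x ^ t, hxmem t ht1⟩ : eigenAug K H p χ t)} := by
      rw [hspan]; trivial
    obtain ⟨c, hc⟩ := Submodule.mem_span_singleton.mp this
    rw [Submodule.mem_span_singleton]
    exact ⟨c, congrArg Subtype.val hc⟩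
  · rw [Submodule.span_le, Set.singleton_subset_iff]
    exact hxmem t ht1

/-- From an element `x` of the first eigenspace with nonvanishing powers: `I_1^t = I_t`. -/
theorem pow_eigen_of_exists (hfin : Module.finrank K H = p)
    (hp : (WithConv.toConv (AlgHom.id K H)) ^ p = 1)
    (hχ : ∀ m : (ZMod p)ˣ, m ≠ 1 → IsUnit ((χ m : K) - 1))
    (u : K) (hu : u * ((p - 1 : ℕ) : K) = 1)
    (x : H) (hx : x ∈ eigenAug K H p χ 1) (hxt : ∀ t, 1 ≤ t → t ≤ p - 1 → x ^ t ≠ 0)
    (t : ℕ) (ht1 : 1 ≤ t) (ht2 : t ≤ p - 1) :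
    eigenAug K H p χ 1 ^ t = eigenAug K H p χ t := by
  have hpos : 0 < p - 1 := Groth.Agent.Helper18OT.pred_pos
  obtain ⟨-, h2⟩ := eigen_of_exists χ hfin hp hχ u hu x hx hxt
  rw [h2 t ht1 ht2, h2 1 le_rfl hpos, pow_one, Submodule.span_pow, Set.singleton_pow]

end Field

end Groth.Agent.Lib.Helper24OT
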