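import Mathlib
import Groth.Agent.Lib.Helper24OTg
import Groth.Prelude.Def_CartDual2

set_option autoImplicit false
universe u

namespace Groth.Agent.Lib.Helper24OT

open TensorProduct WithConv Coalgebra OortTate SGA3b Groth.Agent.Lib.Helper14OTEigen

section Prim

variable {R : Type u} [CommRing R] {A : Type u} [CommRing A] [HopfAlgebra R A]

/-- The power map on a primitive element. -/
theorem powConv_primitive (n : ℕ) {g : A}
    (hg : comul (R := R) g = g ⊗ₜ[R] 1 + 1 ⊗ₜ[R] g) :
    powConv R A n g = n • g := by
  have hε : counit (R := R) g = 0 := by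
    have h1 := congrArg (fun z => TensorProduct.lid R A ((counit (R := R)).rTensor A z)) hg
    simp only [map_add, LinearMap.rTensor_tmul, TensorProduct.lid_tmul, Bialgebra.counit_one,
      one_smul] at h1
    have h2 : TensorProduct.lid R A ((counit (R := R)).rTensor A (comul (R := R) g)) = g := by
      rw [Coalgebra.rTensor_counit_comul]
      simp
    rw [h2] at h1
    have h3 : counit (R := R) g • (1 : A) = 0 := by
      have := h1
      rw [right_eq_add] at this
      exact this
    have h4 := congrArg (counit (R := R)) h3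
    rw [map_smul, Bialgebra.counit_one, smul_eq_mul, mul_one, map_zero] at h4
    exact h4
  unfold powConv
  induction n with
  | zero =>
    rw [pow_zero, zero_smul]
    change algebraMap R A (counit (R := R) g) = 0
    rw [hε, map_zero]
  | succ n ih =>
    rw [pow_succ]
    change ((toConv (AlgHom.id R A) ^ n) * toConv (AlgHom.id R A)) g = _
    rw [AlgHom.convMul_apply, hg, map_add, Algebra.TensorProduct.lift_tmul,
      Algebra.TensorProduct.lift_tmul]
    change (toConv (AlgHom.id R A) ^ n).ofConv g * 1 + (toConv (AlgHom.id R A) ^ n).ofConv 1 * g = _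
    rw [ih, map_one, mul_one, one_mul, succ_nsmul]

theorem powConv_pow_groupLike (n j : ℕ) {g : A} (hg : comul (R := R) g = g ⊗ₜ[R] g)
    (hε : counit (R := R) g = 1) : powConv R A n (g ^ j) = (g ^ j) ^ n :=
  Groth.Agent.Lib.Helper25.Tors.powConv_groupLike n
    (by rw [Bialgebra.comul_pow, hg, Algebra.TensorProduct.tmul_pow])
    (by rw [Bialgebra.counit_pow, hε, one_pow])

theorem counit_pow_groupLike (j : ℕ) {g : A} (hε : counit (R := R) g = 1) :
    counit (R := R) (g ^ j) = 1 := by
  rw [Bialgebra.counit_pow, hε, one_pow]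

end Prim

section Dict

variable {R : Type u} [CommRing R] {A : Type u} [CommRing A] [HopfAlgebra R A]
  [Module.Finite R A] [Module.Projective R A] [Coalgebra.IsCocomm R A]

/-- Evaluation into the double dual as a linear equivalence. -/
noncomputable def evalEquiv : A ≃ₗ[R] CartDual.D R (CartDual.D R A) :=
  LinearEquiv.ofBijective (CartDual.eval R A : A →ₗ[R] CartDual.D R (CartDual.D R A)) (by
    have h := Module.bijective_dual_eval R A
    constructor
    · intro a b hab
      apply h.1
      apply LinearMap.ext
      intro f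
      have := congrArg (fun F : CartDual.D R (CartDual.D R A) => F (toConv f)) hab
      exact this
    · intro F
      obtain ⟨a, ha⟩ := h.2 (F.ofConv ∘ₗ (CartDual.toDual R A).symm.toLinearMap)
      refine ⟨a, ?_⟩
      apply WithConv.ext
      apply LinearMap.ext
      intro f
      have := congrArg (fun G : Module.Dual R (Module.Dual R A) => G f.ofConv) ha
      exact this)

@[simp] theorem evalEquiv_apply (a : A) (f : CartDual.D R A) : evalEquiv (R := R) a f = f a := rfl

theorem evalEquiv_pow (a : A) (n : ℕ) : evalEquiv (R := R) (a ^ n) = evalEquiv (R := R) a ^ n :=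
  map_pow (CartDual.eval R A) a n

theorem evalEquiv_powConv (n : ℕ) (a : A) :
    evalEquiv (R := R) (powConv R A n a) =
      powConv R (CartDual.D R (CartDual.D R A)) n (evalEquiv (R := R) a) := by
  change (CartDual.eval R A) (powConv R A n a) =
    powConv R (CartDual.D R (CartDual.D R A)) n ((CartDual.eval R A) a)
  exact Groth.Agent.Lib.Helper25.Tors.map_powConv (R := R) (A := A)
    (B := CartDual.D R (CartDual.D R A)) (CartDual.eval R A) n a

theorem counit_evalEquiv (a : A) :
    counit (R := R) (evalEquiv (R := R) a) = counit (R := R) a := by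
  have := congrArg (fun φ => φ a) (CartDual.eval R A).counit_comp
  exact this

/-- An `ε`-derivation on the dual is a primitive element of the double dual. -/
theorem comul_of_isEpsDer (d : CartDual.D R (CartDual.D R A)) (hd : IsEpsDer d) :
    comul (R := R) d = d ⊗ₜ[R] 1 + 1 ⊗ₜ[R] d := by
  apply (CartDual.ev₂ R (CartDual.D R A)).injective
  apply TensorProduct.ext'
  intro f f'
  rw [CartDual.comul_def, CartDual.ev₂_comul_tmul, map_add, LinearMap.add_apply,
    CartDual.ev₂_tmul, CartDual.ev₂_tmul, hd f f']
  simp only [LinearMap.convOne_apply, Algebra.algebraMap_self, RingHom.id_apply]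
  ring

/-- An algebra map on the dual is a group-like element of the double dual. -/
theorem isGroupLikeElem_of_algHom (g : CartDual.D R A →ₐ[R] R) :
    IsGroupLikeElem R (toConv g.toLinearMap : CartDual.D R (CartDual.D R A)) := by
  constructor
  · rw [CartDual.counit_def, CartDual.counit_apply]
    exact map_one g
  · apply (CartDual.ev₂ R (CartDual.D R A)).injective
    apply TensorProduct.ext'
    intro f f'
    rw [CartDual.comul_def, CartDual.ev₂_comul_tmul, CartDual.ev₂_tmul]
    exact map_mul g f f'

end Dict

section Closed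

variable {p : ℕ} [hpr : Fact p.Prime] {L : Type u} [Field L] [IsAlgClosed L]
  {H : Type u} [CommRing H] [HopfAlgebra L H] [Module.Finite L H] [Coalgebra.IsCocomm L H]
  (χ : (ZMod p)ˣ →* Lˣ)

omit [IsAlgClosed L] in
/-- The primitive case. -/
theorem exists_x_of_epsDer (hchar : CharP L p)
    (hχp : ∀ m : (ZMod p)ˣ, ((χ m : Lˣ) : L) - (((m : ZMod p).val : ℕ) : L) ∈
      Ideal.span ({(p : L)} : Set L))
    (y : CartDual.D L H) (d : CartDual.D L (CartDual.D L H))
    (hy : counit (R := L) y = 0) (hd : IsEpsDer d) (hdy : d y = 1) :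
    ∃ x ∈ eigenAug L H p χ 1, ∀ t, 1 ≤ t → t ≤ p - 1 → x ^ t ≠ 0 := by
  set w : H := (evalEquiv (R := L) (A := H)).symm d with hw
  have hEw : evalEquiv (R := L) w = d := LinearEquiv.apply_symm_apply _ _
  have hli : LinearIndependent L (fun j : Fin p => d ^ (j : ℕ)) := by
    apply linearIndependent_pow hd hy hdy p
    intro j hj h0
    have : (p : ℕ) ∣ j.factorial := (CharP.cast_eq_zero_iff L p _).mp h0
    rw [hpr.1.dvd_factorial] at this
    omega
  have hprim := comul_of_isEpsDer d hd
  have hTw : ∀ m : (ZMod p)ˣ, T L H m w = ((χ m : L) ^ 1) • w := by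
    intro m
    apply (evalEquiv (R := L) (A := H)).injective
    have e1 : evalEquiv (R := L) (T L H m w) =
        powConv L (CartDual.D L (CartDual.D L H)) (m : ZMod p).val d := by
      rw [T_apply, evalEquiv_powConv, hEw]
    have e2 : powConv L (CartDual.D L (CartDual.D L H)) (m : ZMod p).val d =
        (m : ZMod p).val • d :=
      powConv_primitive (R := L) (A := CartDual.D L (CartDual.D L H)) _ hprim
    rw [e1, e2, map_smul, hEw, pow_one]
    have h1 : ((χ m : Lˣ) : L) = (((m : ZMod p).val : ℕ) : L) := by
      have h2 := hχp m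
      rw [CharP.cast_eq_zero L p, Ideal.span_singleton_eq_bot.mpr rfl, Ideal.mem_bot,
        sub_eq_zero] at h2
      exact h2
    rw [h1, Nat.cast_smul_eq_nsmul]
  have hw0 : counit (R := L) w = 0 := by
    rw [← counit_evalEquiv, hEw, CartDual.counit_def, CartDual.counit_apply]
    have h1 := hd 1 1
    rw [mul_one, Bialgebra.counit_one, one_mul, mul_one] at h1
    have h2 : d 1 = 0 := by
      have := h1
      rw [left_eq_add] at this
      exact this
    exact h2
  refine ⟨w, (mem_eigenAug_iff χ 1 w).mpr ⟨hw0, hTw⟩, ?_⟩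
  intro t _ ht2 h0
  have hlt : t < p := by
    have := hpr.1.one_lt
    omega
  have h1 : d ^ t = 0 := by
    rw [← hEw, ← evalEquiv_pow, h0, map_zero]
  exact hli.ne_zero ⟨t, hlt⟩ h1

omit [IsAlgClosed L] in
/-- The group-like case. -/
theorem exists_x_of_point
    (u : L) (hu : u * ((p - 1 : ℕ) : L) = 1)
    (hχp : ∀ m : (ZMod p)ˣ, ((χ m : Lˣ) : L) - (((m : ZMod p).val : ℕ) : L) ∈
      Ideal.span ({(p : L)} : Set L))
    (g : WithConv (CartDual.D L H →ₐ[L] L)) (hg : orderOf g = p) :
    ∃ x ∈ eigenAug L H p χ 1, ∀ t, 1 ≤ t → t ≤ p - 1 → x ^ t ≠ 0 := by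
  classical
  set G : CartDual.D L (CartDual.D L H) := toConv g.ofConv.toLinearMap with hG
  have hGl : IsGroupLikeElem L G := isGroupLikeElem_of_algHom g.ofConv
  set w : H := (evalEquiv (R := L) (A := H)).symm G with hw
  have hEw : evalEquiv (R := L) w = G := LinearEquiv.apply_symm_apply _ _
  have hGpow : ∀ j : ℕ, G ^ j = toConv (g ^ j).ofConv.toLinearMap :=
    fun j => (AlgHom.toLinearMap_convPow g j).symm
  have hwp : w ^ p = 1 := by
    apply (evalEquiv (R := L) (A := H)).injective
    rw [evalEquiv_pow, hEw, hGpow, ← hg, pow_orderOf_eq_one]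
    exact (map_one (CartDual.eval L H)).symm
  -- linear independence of the powers of `w`
  have hliG : LinearIndependent L (fun j : Fin p => G ^ (j : ℕ)) := by
    have hinj : Function.Injective (fun j : Fin p => (g ^ (j : ℕ)).ofConv) := by
      intro i j hij
      have h1 : g ^ (i : ℕ) = g ^ (j : ℕ) := WithConv.ofConv_injective hij
      have := pow_injOn_Iio_orderOf (x := g) (by rw [hg]; exact i.2) (by rw [hg]; exact j.2) h1
      exact Fin.ext this
    have h1 := (linearIndependent_toLinearMap L (CartDual.D L H) L).comp _ hinj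
    have h2 := h1.map' (WithConv.linearEquiv L (CartDual.D L H →ₗ[L] L)).symm.toLinearMap
      (LinearEquiv.ker _)
    have h3 : (fun j : Fin p => G ^ (j : ℕ)) =
        (⇑((WithConv.linearEquiv L (CartDual.D L H →ₗ[L] L)).symm.toLinearMap) ∘
          AlgHom.toLinearMap ∘ fun j : Fin p => (g ^ (j : ℕ)).ofConv) := by
      funext j
      exact hGpow j
    rw [h3]
    exact h2
  have hliw : LinearIndependent L (fun j : Fin p => w ^ (j : ℕ)) := by
    apply LinearIndependent.of_comp (evalEquiv (R := L) (A := H)).toLinearMap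
    have : (⇑(evalEquiv (R := L) (A := H)).toLinearMap ∘ fun j : Fin p => w ^ (j : ℕ)) =
        fun j : Fin p => G ^ (j : ℕ) := by
      funext j
      change evalEquiv (R := L) (w ^ (j : ℕ)) = _
      rw [evalEquiv_pow, hEw]
    rw [this]
    exact hliG
  -- the monoid hom `j ↦ w ^ j`
  let φw : Multiplicative (ZMod p) →* H :=
    { toFun := fun j => w ^ (Multiplicative.toAdd j).val
      map_one' := by simp
      map_mul' := by
        intro a b
        rw [← pow_add, toAdd_mul, ZMod.val_add, ← pow_eq_pow_mod _ hwp] }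
  let ψ : Groth.Agent.Helper18OT.GA L p →ₐ[L] H := MonoidAlgebra.lift L H (Multiplicative (ZMod p)) φw
  have hψof : ∀ j : Multiplicative (ZMod p),
      ψ (MonoidAlgebra.of L (Multiplicative (ZMod p)) j) = w ^ (Multiplicative.toAdd j).val := by
    intro j
    exact MonoidAlgebra.lift_of φw j
  have hψinj : Function.Injective ψ := by
    have h1 : LinearIndependent L (ψ.toLinearMap ∘ (MonoidAlgebra.basis (Multiplicative (ZMod p)) L)) := by
      have h2 : (ψ.toLinearMap ∘ (MonoidAlgebra.basis (Multiplicative (ZMod p)) L)) =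
          (fun j : Fin p => w ^ (j : ℕ)) ∘
            (fun j : Multiplicative (ZMod p) => (⟨(Multiplicative.toAdd j).val, ZMod.val_lt _⟩ : Fin p)) := by
        funext j
        exact hψof j
      rw [h2]
      apply hliw.comp
      intro a b hab
      have h3 : (Multiplicative.toAdd a).val = (Multiplicative.toAdd b).val := congrArg Fin.val hab
      exact Multiplicative.toAdd.injective (ZMod.val_injective p h3)
    exact LinearMap.injective_of_linearIndependent (f := ψ.toLinearMap)
      (MonoidAlgebra.basis (Multiplicative (ZMod p)) L).span_eq h1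
  -- group-likeness of powers of `G`
  have hTw : ∀ (m : (ZMod p)ˣ) (j : ℕ), T L H m (w ^ j) = (w ^ j) ^ (m : ZMod p).val := by
    intro m j
    apply (evalEquiv (R := L) (A := H)).injective
    have e1 : evalEquiv (R := L) (T L H m (w ^ j)) =
        powConv L (CartDual.D L (CartDual.D L H)) (m : ZMod p).val (G ^ j) := by
      rw [T_apply, evalEquiv_powConv, evalEquiv_pow, hEw]
    have e2 : powConv L (CartDual.D L (CartDual.D L H)) (m : ZMod p).val (G ^ j) =
        (G ^ j) ^ (m : ZMod p).val :=
      powConv_pow_groupLike (R := L)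
        (A := CartDual.D L (CartDual.D L H)) _ j hGl.comul_eq_tmul_self hGl.counit_eq_one
    rw [e1, e2, evalEquiv_pow, evalEquiv_pow, hEw]
  have hcw : ∀ j : ℕ, counit (R := L) (w ^ j) = 1 := by
    intro j
    rw [← counit_evalEquiv, evalEquiv_pow, hEw]
    exact counit_pow_groupLike (R := L) (A := CartDual.D L (CartDual.D L H)) j hGl.counit_eq_one
  have hinter : ∀ (m : (ZMod p)ˣ) (b : Groth.Agent.Helper18OT.GA L p),
      T L H m (ψ b) = ψ (T L (Groth.Agent.Helper18OT.GA L p) m b) := by
    intro m b
    induction b using MonoidAlgebra.induction_linear with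
    | zero => simp
    | add f g hf hg => rw [map_add, map_add, map_add, map_add, hf, hg]
    | single q r =>
      have h1 : MonoidAlgebra.single q r = r • MonoidAlgebra.of L (Multiplicative (ZMod p)) q := by
        rw [MonoidAlgebra.of_apply, MonoidAlgebra.smul_single, smul_eq_mul, mul_one]
      have hgl : IsGroupLikeElem L (MonoidAlgebra.of L (Multiplicative (ZMod p)) q) :=
        MonoidAlgebra.isGroupLikeElem_of q
      rw [h1, map_smul, map_smul, map_smul, map_smul, hψof, hTw, T_apply,
        Groth.Agent.Lib.Helper25.Tors.powConv_groupLike _ hgl.comul_eq_tmul_self hgl.counit_eq_one,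
        map_pow, hψof]
  have hcounit : ∀ b : Groth.Agent.Helper18OT.GA L p, counit (R := L) (ψ b) = counit (R := L) b := by
    intro b
    induction b using MonoidAlgebra.induction_linear with
    | zero => simp
    | add f g hf hg => rw [map_add, map_add, map_add, hf, hg]
    | single q r =>
      have h1 : MonoidAlgebra.single q r = r • MonoidAlgebra.of L (Multiplicative (ZMod p)) q := by
        rw [MonoidAlgebra.of_apply, MonoidAlgebra.smul_single, smul_eq_mul, mul_one]
      have hgl : IsGroupLikeElem L (MonoidAlgebra.of L (Multiplicative (ZMod p)) q) :=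
        MonoidAlgebra.isGroupLikeElem_of q
      rw [h1, map_smul, map_smul, map_smul, hψof, hcw, hgl.counit_eq_one]
  have hy := Groth.Agent.Helper18OT.ygen_mem χ u 1
  rw [mem_eigenAug_iff] at hy
  refine ⟨ψ (ygen L p u χ 1), ?_, ?_⟩
  · rw [mem_eigenAug_iff]
    refine ⟨by rw [hcounit]; exact hy.1, fun m => ?_⟩
    rw [hinter, hy.2 m, map_smul]
  · intro t _ ht2 h0
    rw [← map_pow] at h0
    have h1 : ygen L p u χ 1 ^ t = 0 := hψinj (by rw [h0, map_zero])
    exact Groth.Agent.Helper18OT.pow_ne_zero_field u hu χ hχp t ht2 h1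

/-- Over an algebraically closed field, the first eigenspace contains an element whose powers up
to `p - 1` are nonzero. -/
theorem exists_x_closed (hfin : Module.finrank L H = p)
    (u : L) (hu : u * ((p - 1 : ℕ) : L) = 1)
    (hχp : ∀ m : (ZMod p)ˣ, ((χ m : Lˣ) : L) - (((m : ZMod p).val : ℕ) : L) ∈
      Ideal.span ({(p : L)} : Set L)) :
    ∃ x ∈ eigenAug L H p χ 1, ∀ t, 1 ≤ t → t ≤ p - 1 → x ^ t ≠ 0 := by
  have hfinD : Module.finrank L (CartDual.D L H) = p := by
    rw [(CartDual.toDual L H).finrank_eq, Subspace.dual_finrank_eq, hfin]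
  rcases field_case (K := L) (H := CartDual.D L H) p hfinD with ⟨g, hg⟩ | ⟨hchar, y, d, hy, hd, hdy⟩
  · exact exists_x_of_point χ u hu hχp g hg
  · exact exists_x_of_epsDer χ hchar hχp y d hy hd hdy

end Closed

end Groth.Agent.Lib.Helper24OT
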