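import Mathlib
import Groth.Agent.Lib.Helper24OTh
import Groth.Agent.S15048

set_option autoImplicit false
universe u

namespace Groth.Agent.Lib.Helper24OT

open TensorProduct WithConv Coalgebra OortTate SGA3b Groth.Agent.Lib.Helper14OTEigen

section FieldGeneral

variable {p : ℕ} [hpr : Fact p.Prime] {k : Type u} [Field k]
  {H : Type u} [CommRing H] [HopfAlgebra k H] [Module.Finite k H]
  (χ : (ZMod p)ˣ →* kˣ)

omit hpr in
theorem rankAtStalk_of_finrank (hfin : Module.finrank k H = p) :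
    ∀ q : PrimeSpectrum k, Module.rankAtStalk H q = p := by
  intro q
  have := congrFun (Module.rankAtStalk_eq_finrank_of_free (R := k) (M := H)) q
  rw [this]
  exact hfin

theorem isCocomm_of_finrank (hfin : Module.finrank k H = p) : Coalgebra.IsCocomm k H :=
  isCocomm_of_rank_prime p (rankAtStalk_of_finrank hfin)

theorem hp_of_finrank (hfin : Module.finrank k H = p) :
    (WithConv.toConv (AlgHom.id k H)) ^ p = 1 := by
  haveI := isCocomm_of_finrank (p := p) hfin
  exact Groth.Agent.S15048.result k H p (rankAtStalk_of_finrank hfin)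

/-- Over any field (with the Oort-Tate hypotheses), the first eigenspace contains an element whose
powers up to `p - 1` are nonzero. -/
theorem exists_x_field (hfin : Module.finrank k H = p)
    (hχ : ∀ m : (ZMod p)ˣ, m ≠ 1 → IsUnit ((χ m : k) - 1))
    (u : k) (hu : u * ((p - 1 : ℕ) : k) = 1)
    (hχp : ∀ m : (ZMod p)ˣ, ((χ m : kˣ) : k) - (((m : ZMod p).val : ℕ) : k) ∈
      Ideal.span ({(p : k)} : Set k)) :
    ∃ x ∈ eigenAug k H p χ 1, ∀ t, 1 ≤ t → t ≤ p - 1 → x ^ t ≠ 0 := by
  classical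
  have hpos : 0 < p - 1 := Groth.Agent.Helper18OT.pred_pos
  have hp := hp_of_finrank (p := p) hfin
  let L := AlgebraicClosure k
  have hfinL : Module.finrank L (L ⊗[k] H) = p := by
    rw [Module.finrank_baseChange, hfin]
  haveI : Coalgebra.IsCocomm L (L ⊗[k] H) := isCocomm_of_finrank (p := p) hfinL
  have hpL := hp_baseChange (p := p) L hp
  have hχL := hchi_baseChange χ L hχ
  have huL := hu_baseChange (p := p) L u hu
  have hχpL := hchip_baseChange χ L hχp
  obtain ⟨xL, hxL, hxLt⟩ := exists_x_closed (H := L ⊗[k] H) (chiBC χ L) hfinL (algebraMap k L u) huL hχpL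
  obtain ⟨hdim, hspan⟩ := eigen_of_exists (chiBC χ L) hfinL hpL hχL (algebraMap k L u) huL xL hxL hxLt
  -- work with the index `i0 = 1 % (p - 1)`
  set i0 := 1 % (p - 1) with hi0
  have hi0lt : i0 < p - 1 := Nat.mod_lt _ hpos
  have hE1 : eigenAug k H p χ 1 = eigenAug k H p χ i0 := eigenAug_mod' χ 1
  have hE1L : eigenAug L (L ⊗[k] H) p (chiBC χ L) 1 = eigenAug L (L ⊗[k] H) p (chiBC χ L) i0 :=
    eigenAug_mod' (chiBC χ L) 1
  have hbc := eigenAug_baseChange χ L hp hχ u hu i0 hi0lt
  have hinj := baseChange_subtype_injective χ L hp hχ u hu i0 hi0lt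
  -- dimension of the first eigenspace over `k`
  have hdimk : Module.finrank k (eigenAug k H p χ i0) = 1 := by
    have h1 : Module.finrank L (eigenAug L (L ⊗[k] H) p (chiBC χ L) i0) = 1 := hdim i0 hi0lt
    rw [hbc, LinearMap.finrank_range_of_inj hinj, Module.finrank_baseChange] at h1
    exact h1
  obtain ⟨v, hv0, hv⟩ := finrank_eq_one_iff'.mp hdimk
  refine ⟨(v : H), by rw [hE1]; exact v.2, ?_⟩
  intro t ht1 ht2 h0
  -- `1 ⊗ v` is a nonzero element of the first eigenspace over `L`
  have hmem : (1 : L) ⊗ₜ[k] (v : H) ∈ eigenAug L (L ⊗[k] H) p (chiBC χ L) 1 := by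
    rw [hE1L, hbc]
    exact ⟨(1 : L) ⊗ₜ[k] v, rfl⟩
  have hne : (1 : L) ⊗ₜ[k] (v : H) ≠ 0 := by
    intro h
    apply hv0
    have h1 : ((eigenAug k H p χ i0).subtype.baseChange L) ((1 : L) ⊗ₜ[k] v) = 0 := h
    have h2 : (1 : L) ⊗ₜ[k] v = 0 := hinj (by rw [h1, map_zero])
    have h3 : Function.Injective (TensorProduct.mk k L (eigenAug k H p χ i0) 1) :=
      Module.Flat.tensorProduct_mk_injective (R := k) (S := L) (M := eigenAug k H p χ i0)
    exact h3 (by rw [TensorProduct.mk_apply, h2, map_zero])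
  rw [hspan 1 le_rfl hpos, pow_one, Submodule.mem_span_singleton] at hmem
  obtain ⟨c, hc⟩ := hmem
  have hc0 : c ≠ 0 := by
    rintro rfl
    rw [zero_smul] at hc
    exact hne hc.symm
  have h1 : ((1 : L) ⊗ₜ[k] (v : H)) ^ t = 0 := by
    rw [Algebra.TensorProduct.tmul_pow, one_pow, h0, TensorProduct.tmul_zero]
  rw [← hc, smul_pow] at h1
  rcases smul_eq_zero.mp h1 with h | h
  · exact hc0 (pow_eq_zero_iff (by omega) |>.mp h)
  · exact hxLt t ht1 ht2 h

end FieldGeneral

end Groth.Agent.Lib.Helper24OT
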