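import Mathlib
import Groth.Agent.Lib.Helper24OTi

set_option autoImplicit false
universe u

namespace Groth.Agent.Lib.Helper24OT

open TensorProduct WithConv Coalgebra OortTate SGA3b Groth.Agent.Lib.Helper14OTEigen

section Main

variable {p : ℕ} [hpr : Fact p.Prime] {R : Type u} [CommRing R]
  {A : Type u} [CommRing A] [HopfAlgebra R A] [Module.Finite R A] [Module.Projective R A]
  (χ : (ZMod p)ˣ →* Rˣ)

theorem hp_of_rank (hrk : ∀ q : PrimeSpectrum R, Module.rankAtStalk A q = p) :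
    (WithConv.toConv (AlgHom.id R A)) ^ p = 1 := by
  haveI := isCocomm_of_rank_prime p hrk
  exact Groth.Agent.S15048.result R A p hrk

/-- The eigenspaces of a fibre are lines. -/
theorem fibre_facts (hrk : ∀ q : PrimeSpectrum R, Module.rankAtStalk A q = p)
    (hχ : ∀ m : (ZMod p)ˣ, m ≠ 1 → IsUnit ((χ m : R) - 1))
    (u : R) (hu : u * ((p - 1 : ℕ) : R) = 1)
    (hχp : ∀ m : (ZMod p)ˣ, ((χ m : Rˣ) : R) - (((m : ZMod p).val : ℕ) : R) ∈
      Ideal.span ({(p : R)} : Set R))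
    (κ : Type u) [Field κ] [Algebra R κ] :
    ∃ x ∈ eigenAug κ (κ ⊗[R] A) p (chiBC χ κ) 1,
      (∀ t, 1 ≤ t → t ≤ p - 1 → x ^ t ≠ 0) ∧
      (∀ i, i < p - 1 → Module.finrank κ (eigenAug κ (κ ⊗[R] A) p (chiBC χ κ) i) = 1) ∧
      (∀ t, 1 ≤ t → t ≤ p - 1 →
        eigenAug κ (κ ⊗[R] A) p (chiBC χ κ) t = Submodule.span κ {x ^ t}) := by
  have hfin : Module.finrank κ (κ ⊗[R] A) = p := finrank_baseChange_of_rankAtStalk p hrk κ
  have hχκ := hchi_baseChange χ κ hχ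
  have huκ := hu_baseChange (p := p) κ u hu
  have hχpκ := hchip_baseChange χ κ hχp
  obtain ⟨x, hx, hxt⟩ := exists_x_field (H := κ ⊗[R] A) (chiBC χ κ) hfin hχκ (algebraMap R κ u) huκ hχpκ
  have hpκ := hp_of_finrank (p := p) hfin
  obtain ⟨h1, h2⟩ := eigen_of_exists (chiBC χ κ) hfin hpκ hχκ (algebraMap R κ u) huκ x hx hxt
  exact ⟨x, hx, hxt, h1, h2⟩

theorem rankAtStalk_eigenAug (hrk : ∀ q : PrimeSpectrum R, Module.rankAtStalk A q = p)
    (hχ : ∀ m : (ZMod p)ˣ, m ≠ 1 → IsUnit ((χ m : R) - 1))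
    (u : R) (hu : u * ((p - 1 : ℕ) : R) = 1)
    (hχp : ∀ m : (ZMod p)ˣ, ((χ m : Rˣ) : R) - (((m : ZMod p).val : ℕ) : R) ∈
      Ideal.span ({(p : R)} : Set R))
    (i : ℕ) (hi : i < p - 1) :
    Module.Finite R (eigenAug R A p χ i) ∧ Module.Projective R (eigenAug R A p χ i) ∧
      ∀ q : PrimeSpectrum R, Module.rankAtStalk (eigenAug R A p χ i) q = 1 := by
  have hp := hp_of_rank (p := p) hrk
  haveI hF := finite_eigenAug χ hp hχ u hu i hi
  haveI hP := projective_eigenAug χ hp hχ u hu i hi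
  refine ⟨hF, hP, ?_⟩
  intro q
  rw [Module.rankAtStalk_eq]
  set κ := q.asIdeal.ResidueField with hκ
  obtain ⟨x, -, -, hdim, -⟩ := fibre_facts χ hrk hχ u hu hχp κ
  have h1 := hdim i hi
  rw [eigenAug_baseChange χ κ hp hχ u hu i hi,
    LinearMap.finrank_range_of_inj (baseChange_subtype_injective χ κ hp hχ u hu i hi)] at h1
  exact h1

theorem pow_le_eigenAug (t : ℕ) (ht1 : 1 ≤ t) :
    eigenAug R A p χ 1 ^ t ≤ eigenAug R A p χ t := by
  induction t, ht1 using Nat.le_induction with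
  | base => rw [pow_one]
  | succ n hn ih =>
    rw [pow_succ]
    refine (mul_le_mul' ih le_rfl).trans ?_
    rw [Submodule.mul_le]
    intro a ha b hb
    exact mul_mem_eigenAug χ a b n 1 ha hb

omit [Module.Finite R A] [Module.Projective R A] in
/-- Elements of the eigenspaces of a fibre over a residue field `R ⧸ q` lift. -/
theorem exists_lift_quot (hp : (WithConv.toConv (AlgHom.id R A)) ^ p = 1)
    (hχ : ∀ m : (ZMod p)ˣ, m ≠ 1 → IsUnit ((χ m : R) - 1))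
    (u : R) (hu : u * ((p - 1 : ℕ) : R) = 1) (q : Ideal R) (i : ℕ)
    (y : (R ⧸ q) ⊗[R] A) (hy : y ∈ eigenAug (R ⧸ q) ((R ⧸ q) ⊗[R] A) p (chiBC χ (R ⧸ q)) i) :
    ∃ a ∈ eigenAug R A p χ i, y = (1 : R ⧸ q) ⊗ₜ[R] a := by
  have hpos : 0 < p - 1 := Groth.Agent.Helper18OT.pred_pos
  rw [eigenAug_mod' (chiBC χ (R ⧸ q)) i,
    eigenAug_baseChange χ (R ⧸ q) hp hχ u hu (i % (p - 1)) (Nat.mod_lt _ hpos)] at hy
  obtain ⟨ξ, rfl⟩ := hy
  rw [eigenAug_mod' χ i]
  induction ξ using TensorProduct.induction_on with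
  | zero => exact ⟨0, Submodule.zero_mem _, by simp⟩
  | tmul r a =>
    obtain ⟨r, rfl⟩ := Ideal.Quotient.mk_surjective r
    refine ⟨r • (a : A), Submodule.smul_mem _ _ a.2, ?_⟩
    rw [LinearMap.baseChange_tmul, Submodule.subtype_apply, TensorProduct.tmul_smul,
      TensorProduct.smul_tmul', ← Algebra.algebraMap_eq_smul_one]
    rfl
  | add x y hx hy =>
    obtain ⟨a, ha, hxa⟩ := hx
    obtain ⟨b, hb, hyb⟩ := hy
    exact ⟨a + b, Submodule.add_mem _ ha hb, by rw [map_add, hxa, hyb, TensorProduct.tmul_add]⟩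

/-- **Oort-Tate**: `I_1 ^ t = I_t` for `1 ≤ t ≤ p - 1`. -/
theorem pow_eigenAug_eq (hrk : ∀ q : PrimeSpectrum R, Module.rankAtStalk A q = p)
    (hχ : ∀ m : (ZMod p)ˣ, m ≠ 1 → IsUnit ((χ m : R) - 1))
    (u : R) (hu : u * ((p - 1 : ℕ) : R) = 1)
    (hχp : ∀ m : (ZMod p)ˣ, ((χ m : Rˣ) : R) - (((m : ZMod p).val : ℕ) : R) ∈
      Ideal.span ({(p : R)} : Set R))
    (t : ℕ) (ht1 : 1 ≤ t) (ht2 : t ≤ p - 1) :
    eigenAug R A p χ 1 ^ t = eigenAug R A p χ t := by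
  classical
  have hpos : 0 < p - 1 := Groth.Agent.Helper18OT.pred_pos
  have hp := hp_of_rank (p := p) hrk
  apply le_antisymm (pow_le_eigenAug χ t ht1)
  set N := eigenAug R A p χ 1 ^ t with hN
  set j := t % (p - 1) with hj
  have hjlt : j < p - 1 := Nat.mod_lt _ hpos
  have hMj : eigenAug R A p χ t = eigenAug R A p χ j := eigenAug_mod' χ t
  have hNM : N ≤ eigenAug R A p χ j := hMj ▸ pow_le_eigenAug χ t ht1
  rw [hMj]
  set M := eigenAug R A p χ j with hM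
  haveI hF := finite_eigenAug χ hp hχ u hu j hjlt
  have hMfg : M.FG := (Module.Finite.iff_fg).mp hF
  -- the key inclusion modulo every maximal ideal
  have hstar : ∀ q : Ideal R, q.IsMaximal → M ≤ N ⊔ q • M := by
    intro q hq
    letI : Field (R ⧸ q) := Ideal.Quotient.field q
    obtain ⟨xb, hxb, -, -, hspan⟩ := fibre_facts χ hrk hχ u hu hχp (R ⧸ q)
    obtain ⟨x', hx', rfl⟩ := exists_lift_quot χ hp hχ u hu q 1 xb hxb
    intro f hf
    have hf1 : (1 : R ⧸ q) ⊗ₜ[R] f ∈ eigenAug (R ⧸ q) ((R ⧸ q) ⊗[R] A) p (chiBC χ (R ⧸ q)) t := by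
      rw [eigenAug_mod' (chiBC χ (R ⧸ q)) t, eigenAug_baseChange χ (R ⧸ q) hp hχ u hu j hjlt]
      exact ⟨(1 : R ⧸ q) ⊗ₜ[R] (⟨f, hf⟩ : M), rfl⟩
    rw [hspan t ht1 ht2, Submodule.mem_span_singleton] at hf1
    obtain ⟨cb, hcb⟩ := hf1
    obtain ⟨c, rfl⟩ := Ideal.Quotient.mk_surjective cb
    have h1 : (1 : R ⧸ q) ⊗ₜ[R] (f - c • x' ^ t) = 0 := by
      rw [TensorProduct.tmul_sub, TensorProduct.tmul_smul, ← hcb, Algebra.TensorProduct.tmul_pow,
        one_pow, sub_eq_zero]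
      exact algebraMap_smul (R ⧸ q) c ((1 : R ⧸ q) ⊗ₜ[R] (x' ^ t))
    have hxN : x' ^ t ∈ N := Submodule.pow_mem_pow _ hx' t
    have hgM : f - c • x' ^ t ∈ M := Submodule.sub_mem _ hf (Submodule.smul_mem _ _ (hNM hxN))
    have hgq : f - c • x' ^ t ∈ (q • (⊤ : Submodule R A)) := by
      have h2 := congrArg (TensorProduct.quotTensorEquivQuotSMul A q) h1
      rw [TensorProduct.quotTensorEquivQuotSMul_mk_one_tmul, map_zero,
        Submodule.Quotient.mk_eq_zero] at h2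
      exact h2
    have hgqM : f - c • x' ^ t ∈ q • M := by
      have h3 : eproj χ u j (f - c • x' ^ t) ∈ (q • (⊤ : Submodule R A)).map (eproj χ u j) :=
        Submodule.mem_map_of_mem hgq
      rw [eproj_of_mem χ hχ u hu j hjlt _ hgM, Submodule.map_smul'', Submodule.map_top,
        range_eproj χ hp hχ u hu j hjlt] at h3
      exact h3
    have : f = c • x' ^ t + (f - c • x' ^ t) := by ring
    rw [this]
    exact Submodule.add_mem_sup (Submodule.smul_mem _ _ hxN) hgqM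
  intro f hf
  by_contra hfN
  let J : Ideal R := N.comap (LinearMap.toSpanSingleton R A f)
  have hJ : J ≠ ⊤ := by
    intro h
    have : (1 : R) ∈ J := by rw [h]; trivial
    rw [Submodule.mem_comap, LinearMap.toSpanSingleton_apply, one_smul] at this
    exact hfN this
  obtain ⟨q, hqmax, hJq⟩ := Ideal.exists_le_maximal J hJ
  obtain ⟨r, hr1, hrM⟩ := Submodule.exists_sub_one_mem_and_smul_le_of_fg_of_le_sup hMfg le_rfl
    (hstar q hqmax)
  have hrf : r • f ∈ N := hrM (Submodule.smul_mem_pointwise_smul f r M hf)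
  have hrJ : r ∈ J := by
    rw [Submodule.mem_comap, LinearMap.toSpanSingleton_apply]
    exact hrf
  have h1 : (1 : R) ∈ q := by
    have := q.sub_mem (hJq hrJ) hr1
    simpa using this
  exact hqmax.ne_top ((Ideal.eq_top_iff_one q).mpr h1)

/-- The Oort-Tate lemma: the eigenspaces `I_i` are invertible modules and `I_1 ^ t = I_t`. -/
theorem oortTate_lemma (hrk : ∀ q : PrimeSpectrum R, Module.rankAtStalk A q = p)
    (u : R) (hu : u * ((p - 1 : ℕ) : R) = 1)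
    (hχ : ∀ m : (ZMod p)ˣ, m ≠ 1 → IsUnit ((χ m : R) - 1))
    (hχp : ∀ m : (ZMod p)ˣ, ((χ m : Rˣ) : R) - (((m : ZMod p).val : ℕ) : R) ∈
      Ideal.span ({(p : R)} : Set R)) :
    (∀ i : ℕ, Module.Finite R (eigenAug R A p χ i) ∧
        Module.Projective R (eigenAug R A p χ i) ∧
        ∀ q : PrimeSpectrum R, Module.rankAtStalk (↥(eigenAug R A p χ i)) q = 1) ∧
      ∀ t : ℕ, 1 ≤ t → t ≤ p - 1 → (eigenAug R A p χ 1) ^ t = eigenAug R A p χ t := by
  have hpos : 0 < p - 1 := Groth.Agent.Helper18OT.pred_pos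
  refine ⟨fun i => ?_, fun t ht1 ht2 => pow_eigenAug_eq χ hrk hχ u hu hχp t ht1 ht2⟩
  rw [eigenAug_mod' χ i]
  exact rankAtStalk_eigenAug χ hrk hχ u hu hχp (i % (p - 1)) (Nat.mod_lt _ hpos)

end Main

end Groth.Agent.Lib.Helper24OT
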