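import Mathlib
import Groth.Agent.Lib.Helper24OTj

set_option autoImplicit false
universe u

namespace Groth.Agent.Lib.Helper24OT

open TensorProduct DirectSum

section RankLemmas

variable {R : Type u} [CommRing R]

/-- A surjection between finite projective modules of the same rank is injective. -/
theorem injective_of_surjective_of_rankAtStalk {P Q : Type u} [AddCommGroup P] [Module R P]
    [AddCommGroup Q] [Module R Q] [Module.Finite R P] [Module.Projective R P]
    [Module.Finite R Q] [Module.Projective R Q] (f : P →ₗ[R] Q) (hf : Function.Surjective f)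
    (hr : ∀ q : PrimeSpectrum R, Module.rankAtStalk P q = Module.rankAtStalk Q q) :
    Function.Injective f := by
  obtain ⟨s, hs⟩ := Module.projective_lifting_property f LinearMap.id hf
  have hfs : ∀ y, f (s y) = y := fun y => congrArg (fun g : Q →ₗ[R] Q => g y) hs
  let K := LinearMap.ker f
  let π : P →ₗ[R] K := (LinearMap.id - s ∘ₗ f).codRestrict K (by
    intro x
    rw [LinearMap.mem_ker, LinearMap.sub_apply, map_sub, LinearMap.id_apply, LinearMap.comp_apply,
      hfs, sub_self])
  have hπK : π ∘ₗ K.subtype = LinearMap.id := by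
    apply LinearMap.ext
    intro k
    apply Subtype.ext
    change (k : P) - s (f k) = k
    rw [LinearMap.mem_ker.mp k.2, map_zero, sub_zero]
  haveI : Module.Finite R K := Module.Finite.of_surjective π
    (fun k => ⟨k, congrArg (fun g : K →ₗ[R] K => g k) hπK⟩)
  haveI : Module.Projective R K := Module.Projective.of_split _ _ hπK
  let e : P ≃ₗ[R] Q × K :=
    { toFun := fun x => (f x, π x)
      map_add' := fun x y => by simp
      map_smul' := fun c x => by simp
      invFun := fun yk => s yk.1 + yk.2
      left_inv := fun x => by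
        change s (f x) + (x - s (f x)) = x
        abel
      right_inv := fun yk => by
        apply Prod.ext
        · change f (s yk.1 + yk.2) = yk.1
          rw [map_add, hfs, LinearMap.mem_ker.mp yk.2.2, add_zero]
        · apply Subtype.ext
          change (s yk.1 + (yk.2 : P)) - s (f (s yk.1 + yk.2)) = yk.2
          rw [map_add, hfs, LinearMap.mem_ker.mp yk.2.2, add_zero]
          abel }
  have h1 : Module.rankAtStalk (R := R) K = 0 := by
    funext q
    have h2 := congrFun (Module.rankAtStalk_prod (R := R) Q K) q
    rw [← Module.rankAtStalk_eq_of_equiv e, Pi.add_apply, hr q] at h2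
    simpa using h2
  haveI := Module.rankAtStalk_eq_zero_iff_subsingleton.mp h1
  rw [← LinearMap.ker_eq_bot]
  exact Submodule.eq_bot_of_subsingleton

theorem tpow_facts {P : Type u} [AddCommGroup P] [Module R P] [Module.Finite R P]
    [Module.Projective R P]
    (h1 : ∀ q : PrimeSpectrum R, Module.rankAtStalk P q = 1) (n : ℕ) :
    Module.Finite R (⨂[R]^n P) ∧ Module.Projective R (⨂[R]^n P) ∧
      ∀ q : PrimeSpectrum R, Module.rankAtStalk (⨂[R]^n P) q = 1 := by
  induction n with
  | zero =>
    have e : (⨂[R]^0 P) ≃ₗ[R] R := PiTensorProduct.isEmptyEquiv (Fin 0)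
    refine ⟨Module.Finite.equiv e.symm, Module.Projective.of_equiv e.symm, fun q => ?_⟩
    haveI : Nontrivial R := ⟨⟨0, 1, fun h => q.isPrime.ne_top
      ((Ideal.eq_top_iff_one _).mpr (h ▸ q.asIdeal.zero_mem))⟩⟩
    rw [Module.rankAtStalk_eq_of_equiv e, Module.rankAtStalk_self]
    rfl
  | succ n ih =>
    obtain ⟨hF, hP, hr⟩ := ih
    have e1 : (⨂[R]^1 P) ≃ₗ[R] P := PiTensorProduct.subsingletonEquiv (0 : Fin 1)
    have e : (⨂[R]^n P) ⊗[R] P ≃ₗ[R] (⨂[R]^(n+1) P) :=
      (TensorProduct.congr (LinearEquiv.refl R _) e1.symm) ≪≫ₗ TensorPower.mulEquiv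
    refine ⟨Module.Finite.equiv e, Module.Projective.of_equiv e, fun q => ?_⟩
    rw [← Module.rankAtStalk_eq_of_equiv e, Module.rankAtStalk_tensorProduct, Pi.mul_apply, hr, h1]

end RankLemmas

section Span

variable {R : Type u} [CommRing R] {P : Type u} [AddCommGroup P] [Module R P]

/-- A submodule of the tensor algebra containing all pure products is everything. -/
theorem eq_top_of_tprod_mem (S : Submodule R (TensorAlgebra R P))
    (h : ∀ (n : ℕ) (x : Fin n → P), TensorAlgebra.tprod R P n x ∈ S) : S = ⊤ := by
  rw [eq_top_iff]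
  intro z _
  rw [← TensorAlgebra.ofDirectSum_toDirectSum z]
  generalize TensorAlgebra.toDirectSum z = w
  induction w using DirectSum.induction_on with
  | zero => rw [map_zero]; exact S.zero_mem
  | of n y =>
    induction y using PiTensorProduct.induction_on with
    | smul_tprod r x =>
      have : DirectSum.of (fun n => ⨂[R]^n P) n (r • PiTensorProduct.tprod R x) =
          r • DirectSum.of (fun n => ⨂[R]^n P) n (PiTensorProduct.tprod R x) := by
        rw [← DirectSum.lof_eq_of R, ← DirectSum.lof_eq_of R, map_smul]
      rw [this, map_smul, TensorAlgebra.ofDirectSum_of_tprod]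
      exact S.smul_mem _ (h n x)
    | add a b ha hb =>
      rw [map_add, map_add]
      exact S.add_mem ha hb
  | add a b ha hb =>
    rw [map_add]
    exact S.add_mem ha hb

end Span

end Groth.Agent.Lib.Helper24OT
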