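import Mathlib
import Groth.Agent.Lib.Helper24OTk

set_option autoImplicit false
universe u

namespace Groth.Agent.Lib.Helper24OT

open TensorProduct DirectSum WithConv Coalgebra OortTate SGA3b Groth.Agent.Lib.Helper14OTEigen

section Sym

variable {p : ℕ} [hpr : Fact p.Prime] {R : Type u} [CommRing R]
  {A : Type u} [CommRing A] [HopfAlgebra R A] [Module.Finite R A] [Module.Projective R A]
  (χ : (ZMod p)ˣ →* Rˣ)

omit [Module.Finite R A] [Module.Projective R A] in
/-- A product of `n ≥ 1` elements of `I_1` lies in `I_n`. -/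
theorem prod_mem_eigenAug (n : ℕ) (f : Fin (n + 1) → A) (hf : ∀ i, f i ∈ eigenAug R A p χ 1) :
    ∏ i, f i ∈ eigenAug R A p χ (n + 1) := by
  induction n with
  | zero => simpa using hf 0
  | succ n ih =>
    rw [Fin.prod_univ_castSucc]
    exact mul_mem_eigenAug χ _ _ (n + 1) 1 (ih (fun i => f (Fin.castSucc i)) (fun i => hf _)) (hf _)

omit [Module.Finite R A] [Module.Projective R A] in
/-- A product of `p` elements of `I_1` lies in `I_1`. -/
theorem prod_p_mem_eigenAug (f : Fin p → A) (hf : ∀ i, f i ∈ eigenAug R A p χ 1) :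
    ∏ i, f i ∈ eigenAug R A p χ 1 := by
  have hp2 : 2 ≤ p := hpr.1.two_le
  obtain ⟨n, rfl⟩ : ∃ n, p = n + 1 := ⟨p - 1, by omega⟩
  have h1 := prod_mem_eigenAug χ n f hf
  rw [eigenAug_mod' χ (n + 1)] at h1
  rw [eigenAug_mod' χ 1]
  have : (n + 1) % (n + 1 - 1) = 1 % (n + 1 - 1) := by
    simp
  rw [this] at h1
  exact h1

/-- The relations `x_1 ⋯ x_p = g`. -/
def symRel : Set (TensorAlgebra R (eigenAug R A p χ 1)) :=
  {x | ∃ (f : Fin p → eigenAug R A p χ 1) (g : eigenAug R A p χ 1),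
      (g : A) = ∏ i, (f i : A) ∧
      x = (List.ofFn fun i => TensorAlgebra.ι R (f i)).prod - TensorAlgebra.ι R g}

theorem lift_surjective (hrk : ∀ q : PrimeSpectrum R, Module.rankAtStalk A q = p)
    (u : R) (hu : u * ((p - 1 : ℕ) : R) = 1)
    (hχ : ∀ m : (ZMod p)ˣ, m ≠ 1 → IsUnit ((χ m : R) - 1))
    (hχp : ∀ m : (ZMod p)ˣ, ((χ m : Rˣ) : R) - (((m : ZMod p).val : ℕ) : R) ∈
      Ideal.span ({(p : R)} : Set R)) :
    Function.Surjective (TensorAlgebra.lift R (eigenAug R A p χ 1).subtype) := by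
  have hpos : 0 < p - 1 := Groth.Agent.Helper18OT.pred_pos
  have hp := hp_of_rank (p := p) hrk
  set Lf := TensorAlgebra.lift R (eigenAug R A p χ 1).subtype with hLf
  have h1 : eigenAug R A p χ 1 ≤ Subalgebra.toSubmodule Lf.range := by
    intro a ha
    refine ⟨TensorAlgebra.ι R (⟨a, ha⟩ : eigenAug R A p χ 1), ?_⟩
    change Lf (TensorAlgebra.ι R (⟨a, ha⟩ : eigenAug R A p χ 1)) = a
    rw [hLf, TensorAlgebra.lift_ι_apply]
    rfl
  have hpow : ∀ t, 1 ≤ t → eigenAug R A p χ 1 ^ t ≤ Subalgebra.toSubmodule Lf.range := by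
    intro t ht
    induction t, ht using Nat.le_induction with
    | base => rw [pow_one]; exact h1
    | succ n hn ih =>
      rw [pow_succ, Submodule.mul_le]
      intro a ha b hb
      exact Lf.range.mul_mem (ih ha) (h1 hb)
  have hI : ∀ i : Fin (p - 1), eigenAug R A p χ (i : ℕ) ≤ Subalgebra.toSubmodule Lf.range := by
    intro i
    by_cases hi0 : (i : ℕ) = 0
    · have h2 : eigenAug R A p χ (i : ℕ) = eigenAug R A p χ (p - 1) := by
        rw [eigenAug_mod' χ (p - 1), Nat.mod_self, hi0]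
      rw [h2, ← pow_eigenAug_eq χ hrk hχ u hu hχp (p - 1) hpos le_rfl]
      exact hpow _ hpos
    · rw [← pow_eigenAug_eq χ hrk hχ u hu hχp (i : ℕ) (Nat.one_le_iff_ne_zero.mpr hi0) (le_of_lt i.2)]
      exact hpow _ (Nat.one_le_iff_ne_zero.mpr hi0)
  obtain ⟨-, hsup, -⟩ := Groth.Agent.S18468.result p R u hu χ hχ A hp
  intro a
  have ha : a - algebraMap R A (counit (R := R) a) ∈
      LinearMap.ker (Bialgebra.counitAlgHom R A).toLinearMap := by
    rw [LinearMap.mem_ker]
    change counit (R := R) (a - algebraMap R A (counit (R := R) a)) = 0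
    rw [map_sub, Bialgebra.counit_algebraMap, sub_self]
  rw [← hsup] at ha
  have h3 : a - algebraMap R A (counit (R := R) a) ∈ Subalgebra.toSubmodule Lf.range :=
    (iSup_le hI) ha
  have h4 : a ∈ Lf.range := by
    have := Lf.range.add_mem h3 (Lf.range.algebraMap_mem (counit (R := R) a))
    simpa using this
  exact h4

omit [Module.Finite R A] [Module.Projective R A] in
theorem span_symRel_le_ker :
    Ideal.span (symRel χ) ≤ RingHom.ker (TensorAlgebra.lift R (eigenAug R A p χ 1).subtype) := by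
  rw [Ideal.span_le]
  rintro _ ⟨f, g, hg, rfl⟩
  rw [SetLike.mem_coe, RingHom.mem_ker, map_sub, map_list_prod, List.map_ofFn,
    TensorAlgebra.lift_ι_apply, List.prod_ofFn, Submodule.subtype_apply, hg, sub_eq_zero]
  refine Finset.prod_congr rfl fun i _ => ?_
  rw [Function.comp_apply, TensorAlgebra.lift_ι_apply, Submodule.subtype_apply]

omit [Module.Finite R A] [Module.Projective R A] in
/-- Every pure product is congruent modulo the relations to one of degree `< p`. -/
theorem tprod_mem_range_sup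
    (Ψ : (Π n : Fin p, ⨂[R]^(n : ℕ) (eigenAug R A p χ 1)) →ₗ[R] TensorAlgebra R (eigenAug R A p χ 1))
    (hΨ : ∀ (n : Fin p) (w : ⨂[R]^(n : ℕ) (eigenAug R A p χ 1)),
      Ψ (Pi.single n w) = TensorPower.toTensorAlgebra w) :
    ∀ (n : ℕ) (x : Fin n → eigenAug R A p χ 1),
      TensorAlgebra.tprod R (eigenAug R A p χ 1) n x ∈
        LinearMap.range Ψ ⊔ (Ideal.span (symRel χ)).restrictScalars R := by
  intro n
  induction n using Nat.strong_induction_on with
  | _ n ih =>
    intro x
    rcases Nat.lt_or_ge n p with hn | hn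
    · apply Submodule.mem_sup_left
      refine ⟨Pi.single ⟨n, hn⟩ (PiTensorProduct.tprod R x), ?_⟩
      rw [hΨ, TensorPower.toTensorAlgebra_tprod]
    · obtain ⟨m, rfl⟩ : ∃ m, n = m + p := ⟨n - p, by omega⟩
      have hp2 : 2 ≤ p := hpr.1.two_le
      let a : Fin m → eigenAug R A p χ 1 := fun i => x (Fin.castAdd p i)
      let b : Fin p → eigenAug R A p χ 1 := fun j => x (Fin.natAdd m j)
      let g : eigenAug R A p χ 1 :=
        ⟨∏ j, (b j : A), prod_p_mem_eigenAug χ (fun j => (b j : A)) (fun j => (b j).2)⟩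
      set prodA := (List.ofFn fun i => TensorAlgebra.ι R (a i)).prod with hprodA
      set prodB := (List.ofFn fun j => TensorAlgebra.ι R (b j)).prod with hprodB
      have h1 : TensorAlgebra.tprod R (eigenAug R A p χ 1) (m + p) x = prodA * prodB := by
        rw [TensorAlgebra.tprod_apply, ← List.prod_append, ← List.ofFn_fin_append]
        congr 1
        exact congrArg List.ofFn
          (Fin.append_castAdd_natAdd (f := fun i => TensorAlgebra.ι R (x i))).symm
      have h2 : prodA * TensorAlgebra.ι R g =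
          TensorAlgebra.tprod R (eigenAug R A p χ 1) (m + 1) (Fin.snoc a g) := by
        rw [TensorAlgebra.tprod_apply, List.ofFn_succ', List.concat_eq_append, List.prod_append,
          List.prod_singleton]
        simp only [Fin.snoc_castSucc, Fin.snoc_last]
        rfl
      have h3 : prodA * prodB = prodA * (prodB - TensorAlgebra.ι R g) + prodA * TensorAlgebra.ι R g := by
        rw [mul_sub, sub_add_cancel]
      rw [h1, h3, h2]
      apply Submodule.add_mem
      · apply Submodule.mem_sup_right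
        change prodA * (prodB - TensorAlgebra.ι R g) ∈ Ideal.span (symRel χ)
        exact Ideal.mul_mem_left _ _ (Ideal.subset_span ⟨b, g, rfl, rfl⟩)
      · exact ih (m + 1) (by omega) _

theorem ker_lift_eq (hrk : ∀ q : PrimeSpectrum R, Module.rankAtStalk A q = p)
    (u : R) (hu : u * ((p - 1 : ℕ) : R) = 1)
    (hχ : ∀ m : (ZMod p)ˣ, m ≠ 1 → IsUnit ((χ m : R) - 1))
    (hχp : ∀ m : (ZMod p)ˣ, ((χ m : Rˣ) : R) - (((m : ZMod p).val : ℕ) : R) ∈
      Ideal.span ({(p : R)} : Set R)) :
    RingHom.ker (TensorAlgebra.lift R (eigenAug R A p χ 1).subtype) = Ideal.span (symRel χ) := by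
  classical
  have hpos : 0 < p - 1 := Groth.Agent.Helper18OT.pred_pos
  obtain ⟨hall, -⟩ := oortTate_lemma χ hrk u hu hχ hχp
  obtain ⟨hF1, hP1, hr1⟩ := hall 1
  haveI := hF1
  haveI := hP1
  set Lf := TensorAlgebra.lift R (eigenAug R A p χ 1).subtype with hLf
  apply le_antisymm _ (span_symRel_le_ker χ)
  -- the module of low-degree tensors
  haveI hFn : ∀ n : Fin p, Module.Finite R (⨂[R]^(n : ℕ) (eigenAug R A p χ 1)) :=
    fun n => (tpow_facts hr1 n).1
  haveI hPn : ∀ n : Fin p, Module.Projective R (⨂[R]^(n : ℕ) (eigenAug R A p χ 1)) :=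
    fun n => (tpow_facts hr1 n).2.1
  haveI hPQ : Module.Projective R (Π n : Fin p, ⨂[R]^(n : ℕ) (eigenAug R A p χ 1)) :=
    Module.Projective.of_equiv (DirectSum.linearEquivFunOnFintype R (Fin p)
      (fun n : Fin p => ⨂[R]^(n : ℕ) (eigenAug R A p χ 1)))
  let Ψ : (Π n : Fin p, ⨂[R]^(n : ℕ) (eigenAug R A p χ 1)) →ₗ[R]
      TensorAlgebra R (eigenAug R A p χ 1) :=
    ∑ n : Fin p, TensorPower.toTensorAlgebra ∘ₗ LinearMap.proj n
  have hΨ : ∀ (n : Fin p) (w : ⨂[R]^(n : ℕ) (eigenAug R A p χ 1)),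
      Ψ (Pi.single n w) = TensorPower.toTensorAlgebra w := by
    intro n w
    change (∑ n : Fin p, TensorPower.toTensorAlgebra ∘ₗ LinearMap.proj n) (Pi.single n w) = _
    rw [LinearMap.sum_apply, Finset.sum_eq_single n]
    · simp
    · intro m _ hmn
      simp [Pi.single_eq_of_ne hmn]
    · intro h
      exact absurd (Finset.mem_univ _) h
  have hS : LinearMap.range Ψ ⊔ (Ideal.span (symRel χ)).restrictScalars R = ⊤ :=
    eq_top_of_tprod_mem _ (tprod_mem_range_sup χ Ψ hΨ)
  have hdecomp : ∀ z : TensorAlgebra R (eigenAug R A p χ 1),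
      ∃ y, z - Ψ y ∈ Ideal.span (symRel χ) := by
    intro z
    have hz : z ∈ LinearMap.range Ψ ⊔ (Ideal.span (symRel χ)).restrictScalars R := by
      rw [hS]; trivial
    obtain ⟨_, ⟨y, rfl⟩, w, hw, rfl⟩ := Submodule.mem_sup.mp hz
    exact ⟨y, by rw [add_sub_cancel_left]; exact hw⟩
  have hsurj : Function.Surjective (Lf.toLinearMap ∘ₗ Ψ) := by
    intro a
    obtain ⟨z, rfl⟩ := lift_surjective χ hrk u hu hχ hχp a
    obtain ⟨y, hy⟩ := hdecomp z
    refine ⟨y, ?_⟩
    have := span_symRel_le_ker χ hy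
    rw [RingHom.mem_ker, map_sub, sub_eq_zero] at this
    exact this.symm
  have hrank : ∀ q : PrimeSpectrum R,
      Module.rankAtStalk (Π n : Fin p, ⨂[R]^(n : ℕ) (eigenAug R A p χ 1)) q =
        Module.rankAtStalk A q := by
    intro q
    rw [Module.rankAtStalk_pi, finsum_eq_sum_of_fintype, hrk q]
    simp [(tpow_facts hr1 _).2.2 q]
  have hinj := injective_of_surjective_of_rankAtStalk (Lf.toLinearMap ∘ₗ Ψ) hsurj hrank
  intro z hz
  obtain ⟨y, hy⟩ := hdecomp z
  have h1 : Lf (Ψ y) = 0 := by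
    have := span_symRel_le_ker χ hy
    rw [RingHom.mem_ker, map_sub, sub_eq_zero] at this
    rw [← this]
    exact hz
  have h2 : y = 0 := hinj (by rw [map_zero]; exact h1)
  rw [h2, map_zero, sub_zero] at hy
  exact hy

/-- S18474: `A` is the quotient of the tensor algebra of `I_1` by the relations `x_1 ⋯ x_p = g`. -/
theorem sym_presentation (hrk : ∀ q : PrimeSpectrum R, Module.rankAtStalk A q = p)
    (u : R) (hu : u * ((p - 1 : ℕ) : R) = 1)
    (hχ : ∀ m : (ZMod p)ˣ, m ≠ 1 → IsUnit ((χ m : R) - 1))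
    (hχp : ∀ m : (ZMod p)ˣ, ((χ m : Rˣ) : R) - (((m : ZMod p).val : ℕ) : R) ∈
      Ideal.span ({(p : R)} : Set R)) :
    Function.Surjective (TensorAlgebra.lift R (eigenAug R A p χ 1).subtype) ∧
      RingHom.ker (TensorAlgebra.lift R (eigenAug R A p χ 1).subtype) =
        Ideal.span {x : TensorAlgebra R (eigenAug R A p χ 1) |
          ∃ (f : Fin p → eigenAug R A p χ 1) (g : eigenAug R A p χ 1),
            (g : A) = ∏ i, (f i : A) ∧
            x = (List.ofFn fun i => TensorAlgebra.ι R (f i)).prod - TensorAlgebra.ι R g} :=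
  ⟨lift_surjective χ hrk u hu hχ hχp, ker_lift_eq χ hrk u hu hχ hχp⟩

end Sym

end Groth.Agent.Lib.Helper24OT
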