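import Mathlib

set_option autoImplicit false
universe u

namespace Groth.Agent.Lib.Helper24OT

section RankOne

variable {R : Type u} [CommRing R] {M : Type u} [AddCommGroup M] [Module R M]

/-- An element killed, at every maximal ideal, by some element outside it, is zero. -/
theorem eq_zero_of_forall_maximal (z : M)
    (h : ∀ P : Ideal R, P.IsMaximal → ∃ s : R, s ∉ P ∧ s • z = 0) : z = 0 := by
  let I : Ideal R := (⊥ : Submodule R M).comap (LinearMap.toSpanSingleton R M z)
  by_contra hz
  have hI : I ≠ ⊤ := by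
    intro hI
    have h1 : (1 : R) ∈ I := by rw [hI]; trivial
    rw [Submodule.mem_comap, LinearMap.toSpanSingleton_apply, one_smul, Submodule.mem_bot] at h1
    exact hz h1
  obtain ⟨P, hP, hIP⟩ := Ideal.exists_le_maximal I hI
  obtain ⟨s, hs, hsz⟩ := h P hP
  apply hs
  apply hIP
  rw [Submodule.mem_comap, LinearMap.toSpanSingleton_apply, Submodule.mem_bot]
  exact hsz

variable [Module.Finite R M] [Module.Projective R M]

attribute [local instance] Module.free_of_flat_of_isLocalRing

/-- A finite projective module of rank one is generated, locally at every maximal ideal, by one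
element, which is locally torsion-free. -/
theorem exists_local_gen (hr : ∀ q : PrimeSpectrum R, Module.rankAtStalk M q = 1)
    (P : Ideal R) [hP : P.IsMaximal] :
    ∃ m₀ : M, (∀ x : M, ∃ s : R, s ∉ P ∧ ∃ a : R, s • x = a • m₀) ∧
      ∀ r : R, r • m₀ = 0 → ∃ s : R, s ∉ P ∧ s * r = 0 := by
  have h1 : Module.finrank (Localization.AtPrime P) (LocalizedModule P.primeCompl M) = 1 :=
    hr ⟨P, hP.isPrime⟩
  let b := Module.finBasisOfFinrankEq (Localization.AtPrime P) (LocalizedModule P.primeCompl M) h1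
  have hb : ∃ (m₀ : M) (s₀ : P.primeCompl), b 0 = LocalizedModule.mk m₀ s₀ := by
    induction b 0 using LocalizedModule.induction_on with
    | h m s => exact ⟨m, s, rfl⟩
  obtain ⟨m₀, s₀, hb⟩ := hb
  refine ⟨m₀, ?_, ?_⟩
  · intro x
    have h2 : LocalizedModule.mk x (1 : P.primeCompl) = (b.repr (LocalizedModule.mk x 1) 0) • b 0 := by
      conv_lhs => rw [← b.sum_repr (LocalizedModule.mk x (1 : P.primeCompl))]
      simp
    obtain ⟨a, s, hc⟩ : ∃ (a : R) (s : P.primeCompl), b.repr (LocalizedModule.mk x 1) 0 = Localization.mk a s := by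
      induction b.repr (LocalizedModule.mk x 1) 0 using Localization.induction_on with
      | H y => exact ⟨y.1, y.2, rfl⟩
    rw [hc, hb, LocalizedModule.mk_smul_mk, LocalizedModule.mk_eq] at h2
    obtain ⟨t, ht⟩ := h2
    refine ⟨(t : R) * ((s : R) * (s₀ : R)), ?_, (t : R) * a, ?_⟩
    · exact (t * (s * s₀)).2
    · rw [mul_smul, mul_smul]
      simpa [Submonoid.smul_def, mul_smul] using ht
  · intro r hr0
    have h2 : (algebraMap R (Localization.AtPrime P) r) • b 0 = 0 := by
      rw [hb, algebraMap_smul, LocalizedModule.smul'_mk, hr0, LocalizedModule.zero_mk]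
    have h3 : algebraMap R (Localization.AtPrime P) r = 0 := by
      have h4 := congrArg (fun v => b.repr v 0) h2
      simp only [map_smul, Module.Basis.repr_self, Finsupp.smul_apply, Finsupp.single_eq_same,
        smul_eq_mul, mul_one, map_zero, Finsupp.zero_apply] at h4
      exact h4
    rw [IsLocalization.map_eq_zero_iff P.primeCompl] at h3
    obtain ⟨s, hs⟩ := h3
    exact ⟨s, s.2, hs⟩

/-- In a rank-one projective module, `ψ x • y = ψ y • x`. -/
theorem rank_one_swap (hr : ∀ q : PrimeSpectrum R, Module.rankAtStalk M q = 1)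
    (ψ : M →ₗ[R] R) (x y : M) : ψ x • y = ψ y • x := by
  rw [← sub_eq_zero]
  apply eq_zero_of_forall_maximal (R := R)
  intro P hP
  obtain ⟨m₀, hgen, -⟩ := exists_local_gen hr P
  obtain ⟨s₁, hs₁, a, hx⟩ := hgen x
  obtain ⟨s₂, hs₂, b, hy⟩ := hgen y
  refine ⟨s₁ * s₂, fun h => (hP.isPrime.mem_or_mem h).elim hs₁ hs₂, ?_⟩
  have e1 : (s₁ * s₂) • (ψ x • y) = ψ (s₁ • x) • (s₂ • y) := by
    rw [map_smul, smul_eq_mul, mul_smul, mul_smul]
    rw [smul_comm s₂ (ψ x) y]
  have e2 : (s₁ * s₂) • (ψ y • x) = ψ (s₂ • y) • (s₁ • x) := by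
    rw [map_smul, smul_eq_mul, mul_smul, mul_smul]
    rw [smul_comm s₁ s₂, smul_comm s₁ (ψ y) x]
  rw [smul_sub, e1, e2, hx, hy, map_smul, map_smul, smul_eq_mul, smul_eq_mul, smul_smul, smul_smul,
    sub_eq_zero]
  congr 1
  ring

/-- A rank-one projective module is faithful. -/
theorem rank_one_faithful (hr : ∀ q : PrimeSpectrum R, Module.rankAtStalk M q = 1)
    (r : R) (h : ∀ x : M, r • x = 0) : r = 0 := by
  have : r • (1 : R) = 0 := by
    apply eq_zero_of_forall_maximal (R := R)
    intro P hP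
    obtain ⟨m₀, -, htf⟩ := exists_local_gen hr P
    obtain ⟨s, hs, hsr⟩ := htf r (h m₀)
    exact ⟨s, hs, by rw [smul_eq_mul, smul_eq_mul, mul_one, hsr]⟩
  simpa using this

end RankOne

end Groth.Agent.Lib.Helper24OT
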