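import Mathlib
import Groth.Agent.Lib.Helper24OTj
import Groth.Agent.Lib.Helper24OTm
import Groth.Agent.Lib.Helper14OTDual

set_option autoImplicit false
universe u

namespace Groth.Agent.Lib.Helper24OT

open TensorProduct WithConv Coalgebra OortTate SGA3b CartDual Groth.Agent.Lib.Helper14OTEigen

section Theta

variable {R : Type u} [CommRing R] {A : Type u} [CommRing A] [HopfAlgebra R A]
  [Module.Finite R A] [Module.Projective R A]

/-- Search shortcut (as in the prelude for `D ⊗ D`). -/
instance instRightDistribClassAD : RightDistribClass (A ⊗[R] D R A) := by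
  let _ : Semiring (A ⊗[R] D R A) := inferInstance
  infer_instance

/-- Search shortcut (as in the prelude for `D ⊗ D`). -/
instance instLeftDistribClassAD : LeftDistribClass (A ⊗[R] D R A) := by
  let _ : Semiring (A ⊗[R] D R A) := inferInstance
  infer_instance

theorem zero_mul_AD (y : A ⊗[R] D R A) : 0 * y = 0 := by
  letI : Semiring (A ⊗[R] D R A) := inferInstance
  exact zero_mul y

theorem mul_zero_AD (y : A ⊗[R] D R A) : y * 0 = 0 := by
  letI : Semiring (A ⊗[R] D R A) := inferInstance
  exact mul_zero y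

theorem phi_one {B : Type u} [Semiring B] [Algebra R B] (ϕ : B →ₐ[R] A ⊗[R] D R A) : ϕ 1 = 1 :=
  ϕ.toRingHom.map_one

theorem phi_mul {B : Type u} [Semiring B] [Algebra R B] (ϕ : B →ₐ[R] A ⊗[R] D R A) (x y : B) :
    ϕ (x * y) = ϕ x * ϕ y :=
  ϕ.toRingHom.map_mul x y

theorem phi_pow {B : Type u} [Semiring B] [Algebra R B] (ϕ : B →ₐ[R] A ⊗[R] D R A) (x : B) (n : ℕ) :
    ϕ (x ^ n) = ϕ x ^ n := by
  induction n with
  | zero => rw [pow_zero, pow_zero, phi_one]
  | succ n ih => rw [pow_succ, phi_mul, ih, pow_succ]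

/-- `a ⊗ f ↦ (b ↦ f b • a)`. -/
noncomputable def theta : A ⊗[R] D R A →ₗ[R] (A →ₗ[R] A) :=
  dualTensorHom R A A ∘ₗ (TensorProduct.comm R A (Module.Dual R A)).toLinearMap ∘ₗ
    LinearMap.lTensor A (toDual R A).toLinearMap

@[simp] theorem theta_tmul (a : A) (f : D R A) (b : A) :
    theta (a ⊗ₜ[R] f) b = f b • a := by
  simp [theta, dualTensorHom_apply]

theorem theta_injective : Function.Injective (theta (R := R) (A := A)) := by
  unfold theta
  rw [LinearMap.coe_comp, LinearMap.coe_comp]
  refine (dualTensorHom_bijective (R := R) (M := A) (N := A)).1.comp ?_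
  refine (LinearEquiv.injective _).comp ?_
  have : LinearMap.lTensor A (toDual R A).toLinearMap =
      (TensorProduct.congr (LinearEquiv.refl R A) (toDual R A)).toLinearMap := by
    apply TensorProduct.ext'
    intro a f
    rfl
  rw [this]
  exact LinearEquiv.injective _

theorem theta_mul (x y : A ⊗[R] D R A) :
    toConv (theta (x * y)) = toConv (theta x) * toConv (theta y) := by
  induction x using TensorProduct.induction_on with
  | zero => rw [zero_mul_AD, map_zero, toConv_zero, zero_mul]
  | add x x' hx hx' => rw [add_mul, map_add, toConv_add, hx, hx', map_add, toConv_add, add_mul]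
  | tmul a f =>
    induction y using TensorProduct.induction_on with
    | zero => rw [mul_zero_AD, map_zero, toConv_zero, mul_zero]
    | add y y' hy hy' => rw [mul_add, map_add, toConv_add, hy, hy', map_add, toConv_add, mul_add]
    | tmul a' f' =>
      apply WithConv.ofConv_injective
      apply LinearMap.ext
      intro b
      rw [Algebra.TensorProduct.tmul_mul_tmul]
      change theta ((a * a') ⊗ₜ[R] (f * f')) b = (toConv (theta (a ⊗ₜ[R] f)) * toConv (theta (a' ⊗ₜ[R] f'))) b
      rw [theta_tmul, (ℛ R b).convMul_apply, (ℛ R b).convMul_apply, Finset.sum_smul]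
      refine Finset.sum_congr rfl fun i _ => ?_
      change _ = theta (a ⊗ₜ[R] f) _ * theta (a' ⊗ₜ[R] f') _
      rw [theta_tmul, theta_tmul, smul_mul_smul_comm]

theorem theta_one : toConv (theta (1 : A ⊗[R] D R A)) = 1 := by
  apply WithConv.ofConv_injective
  apply LinearMap.ext
  intro b
  change theta ((1 : A) ⊗ₜ[R] (1 : D R A)) b = (1 : WithConv (A →ₗ[R] A)) b
  rw [theta_tmul, LinearMap.convOne_apply, LinearMap.convOne_apply, Algebra.algebraMap_eq_smul_one,
    Algebra.algebraMap_eq_smul_one, smul_eq_mul, mul_one]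

theorem theta_pow (x : A ⊗[R] D R A) (n : ℕ) :
    toConv (theta (x ^ n)) = toConv (theta x) ^ n := by
  induction n with
  | zero => rw [pow_zero, pow_zero, theta_one]
  | succ n ih => rw [pow_succ, theta_mul, ih, pow_succ]

theorem theta_delta (δ : A ⊗[R] D R A)
    (hδ : ∀ a : A, TensorProduct.rid R A
      (LinearMap.lTensor A ((Module.Dual.eval R A a) ∘ₗ (CartDual.toDual R A).toLinearMap) δ) = a) :
    theta δ = LinearMap.id := by
  apply LinearMap.ext
  intro a
  rw [LinearMap.id_apply]
  conv_rhs => rw [← hδ a]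
  generalize δ = z
  induction z using TensorProduct.induction_on with
  | zero => simp
  | add x y hx hy => rw [map_add, LinearMap.add_apply, hx, hy, map_add, map_add]
  | tmul c f =>
    rw [theta_tmul, LinearMap.lTensor_tmul, TensorProduct.rid_tmul]
    rfl

theorem theta_delta_pow (δ : A ⊗[R] D R A)
    (hδ : ∀ a : A, TensorProduct.rid R A
      (LinearMap.lTensor A ((Module.Dual.eval R A a) ∘ₗ (CartDual.toDual R A).toLinearMap) δ) = a)
    (n : ℕ) : theta (δ ^ n) = (powConv R A n).toLinearMap := by
  have h1 := theta_pow δ n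
  rw [theta_delta δ hδ] at h1
  have h2 := AlgHom.toLinearMap_convPow (toConv (AlgHom.id R A)) n
  have h3 : toConv (theta (δ ^ n)) = toConv (powConv R A n).toLinearMap := by
    rw [h1]
    unfold powConv
    exact h2.symm
  exact WithConv.toConv_injective h3

theorem theta_one' : theta (1 : A ⊗[R] D R A) = Algebra.linearMap R A ∘ₗ counit := by
  have h := theta_one (R := R) (A := A)
  rw [LinearMap.convOne_def] at h
  exact WithConv.toConv_injective h

end Theta

section Main

variable {p : ℕ} [Fact p.Prime] {R : Type u} [CommRing R] {A : Type u} [CommRing A] [HopfAlgebra R A]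
  [Module.Finite R A] [Module.Projective R A] (χ : (ZMod p)ˣ →* Rˣ)

theorem theta_phi_ygen (u : R) (δ : A ⊗[R] D R A)
    (hδ : ∀ a : A, TensorProduct.rid R A
      (LinearMap.lTensor A ((Module.Dual.eval R A a) ∘ₗ (CartDual.toDual R A).toLinearMap) δ) = a)
    (ϕ : MonoidAlgebra R (Multiplicative (ZMod p)) →ₐ[R] A ⊗[R] D R A)
    (hϕ : ϕ (muT R p) = δ) (i : ℕ) :
    theta (ϕ (ygen R p u χ i)) = eproj χ u i := by
  rw [Groth.Agent.Helper18OT.ygen_eq, map_smul, map_smul, map_sum, map_sum]
  apply LinearMap.ext
  intro a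
  rw [eproj_apply, proj_apply, LinearMap.smul_apply, LinearMap.sum_apply]
  congr 1
  refine Finset.sum_congr rfl fun m _ => ?_
  rw [map_smul, map_smul, LinearMap.smul_apply, map_sub, phi_pow, hϕ, phi_one, map_sub,
    theta_delta_pow δ hδ, theta_one', LinearMap.sub_apply, T_apply, map_sub]
  congr 2
  rw [AlgHom.commutes]
  rfl

end Main

end Groth.Agent.Lib.Helper24OT
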