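import Mathlib
import Groth.Agent.Lib.Helper24OTn

set_option autoImplicit false
universe u

namespace Groth.Agent.Lib.Helper24OT

open TensorProduct WithConv Coalgebra OortTate SGA3b CartDual Groth.Agent.Lib.Helper14OTEigen

section DualBasis

variable {R : Type u} [CommRing R] {M : Type u} [AddCommGroup M] [Module R M]
  [Module.Finite R M] [Module.Projective R M]

theorem exists_dual_basis : ∃ (n : ℕ) (a : Fin n → M) (g : Fin n → (M →ₗ[R] R)),
    ∀ x : M, x = ∑ k, g k x • a k := by
  obtain ⟨n, f, g, -, -, hfg⟩ := Module.Finite.exists_comp_eq_id_of_projective R M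
  refine ⟨n, fun k => f (Pi.single k 1), fun k => LinearMap.proj k ∘ₗ g, fun x => ?_⟩
  have h1 : f (g x) = x := congrArg (fun F : M →ₗ[R] M => F x) hfg
  conv_lhs => rw [← h1, LinearMap.pi_apply_eq_sum_univ f (g x)]
  refine Finset.sum_congr rfl fun k _ => ?_
  rw [LinearMap.comp_apply, LinearMap.proj_apply]
  congr 2
  funext j
  simp [Pi.single_apply, eq_comm]

end DualBasis

section Main

variable {p : ℕ} [Fact p.Prime] {R : Type u} [CommRing R] {A : Type u} [CommRing A] [HopfAlgebra R A]
  [Coalgebra.IsCocomm R A] [Module.Finite R A] [Module.Projective R A] (χ : (ZMod p)ˣ →* Rˣ)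

/-- A functional in `I_i(D)` factors through the projector `eproj`. -/
theorem apply_eproj (u : R) (hu : u * ((p - 1 : ℕ) : R) = 1) (i : ℕ) (f : D R A)
    (hf : f ∈ eigenAug R (D R A) p χ i) (b : A) : f (eproj χ u i b) = f b := by
  have h1 : proj R (D R A) p u χ i f = f := Groth.Agent.Lib.Helper14OTDual.proj_self_of_mem u hu χ i f hf
  have h2 : ∀ c : A, f (proj R A p u χ i c) = f c := by
    intro c
    rw [← Groth.Agent.Lib.Helper14OTDual.proj_dual, h1]
  have h3 : f 1 = 0 := by
    have := ((mem_eigenAug_iff χ i f).mp hf).1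
    exact this
  rw [eproj_apply, h2, map_sub, Algebra.algebraMap_eq_smul_one, map_smul, h3, smul_zero, sub_zero]

theorem pairing_main (hrk : ∀ q : PrimeSpectrum R, Module.rankAtStalk A q = p)
    (hχ : ∀ m : (ZMod p)ˣ, m ≠ 1 → IsUnit ((χ m : R) - 1))
    (u : R) (hu : u * ((p - 1 : ℕ) : R) = 1)
    (hχp : ∀ m : (ZMod p)ˣ, ((χ m : Rˣ) : R) - (((m : ZMod p).val : ℕ) : R) ∈
      Ideal.span ({(p : R)} : Set R))
    (i : ℕ) (hi : i < p - 1) (Y : A ⊗[R] D R A) (hY : theta Y = eproj χ u i) :
    Submodule.span R {Y} =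
        LinearMap.range (TensorProduct.map (eigenAug R A p χ i).subtype
          (eigenAug R (D R A) p χ i).subtype) ∧
      ∀ r : R, r • Y = 0 → r = 0 := by
  have hp := hp_of_rank (p := p) hrk
  obtain ⟨hF, hP, hr1⟩ := rankAtStalk_eigenAug χ hrk hχ u hu hχp i hi
  haveI := hF
  haveI := hP
  have hbij := Groth.Agent.Lib.Helper14OTDual.main p R u hu χ hχ A hp i
  have hemem : ∀ b : A, eproj χ u i b ∈ eigenAug R A p χ i := eproj_mem χ hp u i
  refine ⟨le_antisymm ?_ ?_, ?_⟩
  · -- Y is in the range
    rw [Submodule.span_singleton_le_iff_mem]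
    obtain ⟨n, a, g, hag⟩ := exists_dual_basis (R := R) (M := eigenAug R A p χ i)
    choose f hf using fun k => hbij.2 (g k)
    have hfg : ∀ k (x : eigenAug R A p χ i), (f k : D R A) (x : A) = g k x := by
      intro k x
      exact congrArg (fun F : eigenAug R A p χ i →ₗ[R] R => F x) (hf k)
    have hY2 : Y = ∑ k, (a k : A) ⊗ₜ[R] (f k : D R A) := by
      apply theta_injective
      rw [hY, map_sum]
      apply LinearMap.ext
      intro b
      rw [LinearMap.sum_apply]
      have h1 := hag ⟨eproj χ u i b, hemem b⟩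
      have h2 := congrArg (fun x : eigenAug R A p χ i => (x : A)) h1
      simp only [Submodule.coe_sum, Submodule.coe_smul] at h2
      rw [h2]
      refine Finset.sum_congr rfl fun k _ => ?_
      rw [theta_tmul, ← hfg k, apply_eproj χ u hu i _ (f k).2]
    rw [hY2]
    refine Submodule.sum_mem _ fun k _ => ?_
    exact ⟨a k ⊗ₜ[R] f k, rfl⟩
  · -- pure tensors are multiples of Y
    rintro _ ⟨z, rfl⟩
    induction z using TensorProduct.induction_on with
    | zero => rw [map_zero]; exact Submodule.zero_mem _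
    | add x y hx hy => rw [map_add]; exact Submodule.add_mem _ hx hy
    | tmul a f =>
      rw [TensorProduct.map_tmul, Submodule.subtype_apply, Submodule.subtype_apply,
        Submodule.mem_span_singleton]
      refine ⟨(f : D R A) (a : A), ?_⟩
      apply theta_injective
      rw [map_smul, hY]
      apply LinearMap.ext
      intro b
      rw [LinearMap.smul_apply, theta_tmul, ← apply_eproj χ u hu i _ f.2 b]
      let ψ : eigenAug R A p χ i →ₗ[R] R := (toDual R A (f : D R A)).comp (eigenAug R A p χ i).subtype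
      have h1 := rank_one_swap hr1 ψ a ⟨eproj χ u i b, hemem b⟩
      have h2 := congrArg (fun x : eigenAug R A p χ i => (x : A)) h1
      simp only [Submodule.coe_smul] at h2
      exact h2
  · intro r hr
    have h1 : r • eproj (A := A) χ u i = 0 := by
      rw [← hY, ← map_smul, hr, map_zero]
    apply rank_one_faithful hr1 r
    intro x
    apply Subtype.ext
    rw [Submodule.coe_smul, Submodule.coe_zero, ← eproj_of_mem χ hχ u hu i hi (x : A) x.2]
    exact congrArg (fun F : A →ₗ[R] A => F (x : A)) h1

end Main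

end Groth.Agent.Lib.Helper24OT
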