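import Mathlib
import Groth.Agent.Lib.Helper24OTl

set_option autoImplicit false
universe u

namespace Groth.Agent.Lib.Helper24OT

open TensorProduct WithConv Coalgebra OortTate SGA3b Groth.Agent.Lib.Helper14OTEigen

section AlgIso

variable {p : ℕ} [hpr : Fact p.Prime] {R : Type u} [CommRing R]
  {A : Type u} [CommRing A] [HopfAlgebra R A] [Module.Finite R A] [Module.Projective R A]
  (χ : (ZMod p)ˣ →* Rˣ)

/-- Algebra maps out of `A` agreeing on `I_1` are equal. -/
theorem algHom_ext_I1 (hrk : ∀ q : PrimeSpectrum R, Module.rankAtStalk A q = p)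
    (u : R) (hu : u * ((p - 1 : ℕ) : R) = 1)
    (hχ : ∀ m : (ZMod p)ˣ, m ≠ 1 → IsUnit ((χ m : R) - 1))
    (hχp : ∀ m : (ZMod p)ˣ, ((χ m : Rˣ) : R) - (((m : ZMod p).val : ℕ) : R) ∈
      Ideal.span ({(p : R)} : Set R))
    {B : Type u} [Semiring B] [Algebra R B] (G G' : A →ₐ[R] B)
    (h : ∀ a ∈ eigenAug R A p χ 1, G a = G' a) : G = G' := by
  have hs := lift_surjective χ hrk u hu hχ hχp
  have h1 : G.comp (TensorAlgebra.lift R (eigenAug R A p χ 1).subtype) =
      G'.comp (TensorAlgebra.lift R (eigenAug R A p χ 1).subtype) := by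
    apply TensorAlgebra.hom_ext
    apply LinearMap.ext
    intro m
    simp only [LinearMap.comp_apply, AlgHom.toLinearMap_apply, AlgHom.comp_apply,
      TensorAlgebra.lift_ι_apply, Submodule.subtype_apply]
    exact h m m.2
  apply AlgHom.ext
  intro a
  obtain ⟨t, rfl⟩ := hs a
  exact congrArg (fun F : TensorAlgebra R (eigenAug R A p χ 1) →ₐ[R] B => F t) h1

/-- A linear map on `I_1` compatible with `p`-fold products extends to an algebra map. -/
theorem exists_algHom_of_lin (hrk : ∀ q : PrimeSpectrum R, Module.rankAtStalk A q = p)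
    (u : R) (hu : u * ((p - 1 : ℕ) : R) = 1)
    (hχ : ∀ m : (ZMod p)ˣ, m ≠ 1 → IsUnit ((χ m : R) - 1))
    (hχp : ∀ m : (ZMod p)ˣ, ((χ m : Rˣ) : R) - (((m : ZMod p).val : ℕ) : R) ∈
      Ideal.span ({(p : R)} : Set R))
    {B : Type u} [CommRing B] [Algebra R B] (g : eigenAug R A p χ 1 →ₗ[R] B)
    (hg : ∀ (f : Fin p → eigenAug R A p χ 1) (m : eigenAug R A p χ 1),
      (m : A) = ∏ i, (f i : A) → g m = ∏ i, g (f i)) :
    ∃ G : A →ₐ[R] B, ∀ m : eigenAug R A p χ 1, G (m : A) = g m := by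
  obtain ⟨hs, hk⟩ := sym_presentation χ hrk u hu hχ hχp
  set π := TensorAlgebra.lift R (eigenAug R A p χ 1).subtype with hπ
  set G₀ := TensorAlgebra.lift R g with hG₀
  have hker : ∀ t ∈ RingHom.ker π, G₀ t = 0 := by
    intro t ht
    have h1 : RingHom.ker π ≤ RingHom.ker G₀ := by
      rw [hk, Ideal.span_le]
      rintro _ ⟨f, m, hm, rfl⟩
      rw [SetLike.mem_coe, RingHom.mem_ker, map_sub, map_list_prod, List.map_ofFn,
        TensorAlgebra.lift_ι_apply, List.prod_ofFn, hg f m hm, sub_eq_zero]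
      refine Finset.prod_congr rfl fun i _ => ?_
      rw [Function.comp_apply, TensorAlgebra.lift_ι_apply]
    exact h1 ht
  let G : A →ₐ[R] B := (Ideal.Quotient.liftₐ (RingHom.ker π) G₀ hker).comp
    (Ideal.quotientKerAlgEquivOfSurjective hs).symm.toAlgHom
  refine ⟨G, fun m => ?_⟩
  have h2 : (m : A) = π (TensorAlgebra.ι R m) := by
    rw [hπ, TensorAlgebra.lift_ι_apply, Submodule.subtype_apply]
  rw [h2]
  change (Ideal.Quotient.liftₐ (RingHom.ker π) G₀ hker)
    ((Ideal.quotientKerAlgEquivOfSurjective hs).symm (π (TensorAlgebra.ι R m))) = _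
  rw [Ideal.quotientKerAlgEquivOfSurjective_symm_apply]
  change G₀ (TensorAlgebra.ι R m) = _
  rw [hG₀, TensorAlgebra.lift_ι_apply]

/-- A linear isomorphism `I_1(A) ≃ I_1(A')` compatible with `p`-fold products extends to an
algebra isomorphism. -/
theorem exists_algEquiv (hrk : ∀ q : PrimeSpectrum R, Module.rankAtStalk A q = p)
    (u : R) (hu : u * ((p - 1 : ℕ) : R) = 1)
    (hχ : ∀ m : (ZMod p)ˣ, m ≠ 1 → IsUnit ((χ m : R) - 1))
    (hχp : ∀ m : (ZMod p)ˣ, ((χ m : Rˣ) : R) - (((m : ZMod p).val : ℕ) : R) ∈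
      Ideal.span ({(p : R)} : Set R))
    {A' : Type u} [CommRing A'] [HopfAlgebra R A'] [Module.Finite R A'] [Module.Projective R A']
    (hrk' : ∀ q : PrimeSpectrum R, Module.rankAtStalk A' q = p)
    (θ : eigenAug R A p χ 1 ≃ₗ[R] eigenAug R A' p χ 1)
    (hθ : ∀ (f : Fin p → eigenAug R A p χ 1) (g : eigenAug R A p χ 1),
      (g : A) = ∏ i, (f i : A) → ((θ g : eigenAug R A' p χ 1) : A') = ∏ i, ((θ (f i)) : A')) :
    ∃ Ψ : A ≃ₐ[R] A', ∀ m : eigenAug R A p χ 1, Ψ (m : A) = (θ m : A') := by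
  obtain ⟨G, hG⟩ := exists_algHom_of_lin χ hrk u hu hχ hχp
    ((eigenAug R A' p χ 1).subtype ∘ₗ θ.toLinearMap) (fun f m hm => hθ f m hm)
  have hθ' : ∀ (f : Fin p → eigenAug R A' p χ 1) (g : eigenAug R A' p χ 1),
      (g : A') = ∏ i, (f i : A') →
        ((θ.symm g : eigenAug R A p χ 1) : A) = ∏ i, ((θ.symm (f i)) : A) := by
    intro f g hg
    have hmem : ∏ i, ((θ.symm (f i) : eigenAug R A p χ 1) : A) ∈ eigenAug R A p χ 1 :=
      prod_p_mem_eigenAug χ _ (fun i => (θ.symm (f i)).2)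
    have h1 := hθ (fun i => θ.symm (f i)) ⟨_, hmem⟩ rfl
    simp only [LinearEquiv.apply_symm_apply] at h1
    rw [← hg] at h1
    have h2 : θ ⟨_, hmem⟩ = g := Subtype.ext h1
    rw [← h2, LinearEquiv.symm_apply_apply]
  obtain ⟨G', hG'⟩ := exists_algHom_of_lin χ hrk' u hu hχ hχp
    ((eigenAug R A p χ 1).subtype ∘ₗ θ.symm.toLinearMap) (fun f m hm => hθ' f m hm)
  have h1 : G'.comp G = AlgHom.id R A := by
    apply algHom_ext_I1 χ hrk u hu hχ hχp
    intro a ha
    have e1 := hG ⟨a, ha⟩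
    simp only [LinearMap.comp_apply, Submodule.subtype_apply, LinearEquiv.coe_coe] at e1
    have e2 := hG' (θ ⟨a, ha⟩)
    simp only [LinearMap.comp_apply, Submodule.subtype_apply, LinearEquiv.coe_coe,
      LinearEquiv.symm_apply_apply] at e2
    rw [AlgHom.comp_apply, AlgHom.id_apply]
    change G' (G a) = a
    rw [show G a = ((θ ⟨a, ha⟩ : eigenAug R A' p χ 1) : A') from e1, e2]
  have h2 : G.comp G' = AlgHom.id R A' := by
    apply algHom_ext_I1 χ hrk' u hu hχ hχp
    intro a ha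
    have e1 := hG' ⟨a, ha⟩
    simp only [LinearMap.comp_apply, Submodule.subtype_apply, LinearEquiv.coe_coe] at e1
    have e2 := hG (θ.symm ⟨a, ha⟩)
    simp only [LinearMap.comp_apply, Submodule.subtype_apply, LinearEquiv.coe_coe,
      LinearEquiv.apply_symm_apply] at e2
    rw [AlgHom.comp_apply, AlgHom.id_apply]
    change G (G' a) = a
    rw [show G' a = ((θ.symm ⟨a, ha⟩ : eigenAug R A p χ 1) : A) from e1, e2]
  refine ⟨AlgEquiv.ofAlgHom G G' h2 h1, fun m => ?_⟩
  have e1 := hG m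
  simp only [LinearMap.comp_apply, Submodule.subtype_apply, LinearEquiv.coe_coe] at e1
  exact e1

end AlgIso

end Groth.Agent.Lib.Helper24OT
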