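import Mathlib
import Groth.Agent.Lib.Helper24OTo
import Groth.Agent.Lib.Helper24OTp

set_option autoImplicit false
universe u

namespace Groth.Agent.Lib.Helper24OT

open TensorProduct WithConv Coalgebra OortTate SGA3b CartDual Groth.Agent.Lib.Helper14OTEigen

section ZModPow

variable {p : ℕ} [hpr : Fact p.Prime]

/-- The monoid homomorphism `k ↦ g ^ k` out of `ℤ/p` for `g ^ p = 1`. -/
noncomputable def zmodPowHom {G : Type*} [Monoid G] (g : G) (hg : g ^ p = 1) :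
    Multiplicative (ZMod p) →* G where
  toFun k := g ^ (Multiplicative.toAdd k).val
  map_one' := by
    rw [toAdd_one, ZMod.val_zero, pow_zero]
  map_mul' a b := by
    rw [toAdd_mul, ZMod.val_add, ← pow_add, ← pow_eq_pow_mod _ hg]

theorem zmodPowHom_ofAdd_one {G : Type*} [Monoid G] (g : G) (hg : g ^ p = 1) :
    zmodPowHom g hg (Multiplicative.ofAdd (1 : ZMod p)) = g := by
  haveI : Fact (1 < p) := ⟨hpr.1.one_lt⟩
  change g ^ (1 : ZMod p).val = g
  rw [ZMod.val_one, pow_one]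

end ZModPow

section GA

variable {p : ℕ} [hpr : Fact p.Prime] {R : Type u} [CommRing R] {A : Type u} [CommRing A]
  [HopfAlgebra R A] (χ : (ZMod p)ˣ →* Rˣ)

theorem id_pow_p (hp : (WithConv.toConv (AlgHom.id R A)) ^ p = 1) :
    (toConv (LinearMap.id : A →ₗ[R] A)) ^ p = 1 := by
  have h2 := AlgHom.toLinearMap_convPow (toConv (AlgHom.id R A)) p
  rw [hp] at h2
  have h3 : toConv (LinearMap.id : A →ₗ[R] A) ^ p = toConv (1 : WithConv (A →ₐ[R] A)).ofConv.toLinearMap :=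
    h2.symm
  rw [h3]
  rfl

/-- The action of the group algebra of `ℤ/p` on `A` through the power maps, as an algebra map into the
convolution algebra of `R`-linear endomorphisms of `A`. -/
noncomputable def gaHom (hp : (WithConv.toConv (AlgHom.id R A)) ^ p = 1) :
    MonoidAlgebra R (Multiplicative (ZMod p)) →ₐ[R] WithConv (A →ₗ[R] A) :=
  MonoidAlgebra.lift R (WithConv (A →ₗ[R] A)) (Multiplicative (ZMod p))
    (zmodPowHom (toConv (LinearMap.id : A →ₗ[R] A)) (id_pow_p hp))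

theorem gaHom_muT (hp : (WithConv.toConv (AlgHom.id R A)) ^ p = 1) :
    gaHom hp (muT R p) = toConv (LinearMap.id : A →ₗ[R] A) := by
  unfold gaHom muT
  rw [MonoidAlgebra.lift_of, zmodPowHom_ofAdd_one]

theorem gaHom_ygen (hp : (WithConv.toConv (AlgHom.id R A)) ^ p = 1) (u : R) (i : ℕ) :
    gaHom hp (ygen R p u χ i) = toConv (eproj (A := A) χ u i) := by
  rw [Groth.Agent.Helper18OT.ygen_eq, map_smul, map_sum]
  apply WithConv.ofConv_injective
  apply LinearMap.ext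
  intro a
  rw [ofConv_toConv, eproj_apply, proj_apply]
  change u • (∑ m : (ZMod p)ˣ, gaHom hp (((χ m⁻¹ : R) ^ i) • (muT R p ^ (m : ZMod p).val - 1))).ofConv a = _
  rw [WithConv.ofConv_sum, LinearMap.sum_apply]
  congr 1
  refine Finset.sum_congr rfl fun m _ => ?_
  rw [map_smul, map_sub, map_pow, gaHom_muT, map_one, T_apply, map_sub, AlgHom.commutes]
  have h2 := AlgHom.toLinearMap_convPow (toConv (AlgHom.id R A)) (m : ZMod p).val
  have h3 : toConv (LinearMap.id : A →ₗ[R] A) ^ (m : ZMod p).val =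
      toConv (powConv R A (m : ZMod p).val).toLinearMap := h2.symm
  rw [h3]
  rfl

theorem eproj_pow (hp : (WithConv.toConv (AlgHom.id R A)) ^ p = 1) (u : R) (n : ℕ) (w : R)
    (hw : ygen R p u χ 1 ^ n = w • ygen R p u χ n) :
    (toConv (eproj (A := A) χ u 1)) ^ n = w • toConv (eproj (A := A) χ u n) := by
  rw [← gaHom_ygen χ hp u 1, ← map_pow, hw, map_smul, gaHom_ygen]

theorem eproj_mod (u : R) (n : ℕ) : eproj (A := A) χ u n = eproj χ u (n % (p - 1)) := by
  apply LinearMap.ext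
  intro a
  rw [eproj_apply, eproj_apply, proj_apply, proj_apply]
  congr 1
  refine Finset.sum_congr rfl fun m _ => ?_
  rw [Groth.Agent.Helper18OT.chi_pow_mod χ m⁻¹ n]

theorem eproj_of_mem' (hχ : ∀ m : (ZMod p)ˣ, m ≠ 1 → IsUnit ((χ m : R) - 1))
    (u : R) (hu : u * ((p - 1 : ℕ) : R) = 1) (n : ℕ) (f : A)
    (hf : f ∈ eigenAug R A p χ n) : eproj χ u n f = f := by
  have hpos : 0 < p - 1 := Groth.Agent.Helper18OT.pred_pos
  rw [eproj_mod]
  rw [eigenAug_mod' χ n] at hf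
  exact eproj_of_mem χ hχ u hu _ (Nat.mod_lt _ hpos) f hf

end GA

section RankFacts

variable {p : ℕ} [hpr : Fact p.Prime] {R : Type u} [CommRing R] {A : Type u} [CommRing A]
  [HopfAlgebra R A] [Module.Finite R A] [Module.Projective R A] (χ : (ZMod p)ˣ →* Rˣ)

theorem eigen_facts (hrk : ∀ q : PrimeSpectrum R, Module.rankAtStalk A q = p)
    (hχ : ∀ m : (ZMod p)ˣ, m ≠ 1 → IsUnit ((χ m : R) - 1))
    (u : R) (hu : u * ((p - 1 : ℕ) : R) = 1)
    (hχp : ∀ m : (ZMod p)ˣ, ((χ m : Rˣ) : R) - (((m : ZMod p).val : ℕ) : R) ∈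
      Ideal.span ({(p : R)} : Set R))
    (n : ℕ) :
    Module.Finite R (eigenAug R A p χ n) ∧ Module.Projective R (eigenAug R A p χ n) ∧
      ∀ q : PrimeSpectrum R, Module.rankAtStalk (eigenAug R A p χ n) q = 1 := by
  have hpos : 0 < p - 1 := Groth.Agent.Helper18OT.pred_pos
  rw [eigenAug_mod' χ n]
  exact rankAtStalk_eigenAug χ hrk hχ u hu hχp _ (Nat.mod_lt _ hpos)

variable [Coalgebra.IsCocomm R A]

/-- An elementary tensor of `I_n(A) ⊗ I_n(A^D)` is a multiple of the projector. -/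
theorem theta_tmul_eq (hrk : ∀ q : PrimeSpectrum R, Module.rankAtStalk A q = p)
    (hχ : ∀ m : (ZMod p)ˣ, m ≠ 1 → IsUnit ((χ m : R) - 1))
    (u : R) (hu : u * ((p - 1 : ℕ) : R) = 1)
    (hχp : ∀ m : (ZMod p)ˣ, ((χ m : Rˣ) : R) - (((m : ZMod p).val : ℕ) : R) ∈
      Ideal.span ({(p : R)} : Set R))
    (n : ℕ) (c : A) (hc : c ∈ eigenAug R A p χ n) (φ : D R A)
    (hφ : φ ∈ eigenAug R (D R A) p χ n) :
    theta (c ⊗ₜ[R] φ) = φ c • eproj χ u n := by
  have hp := hp_of_rank (p := p) hrk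
  obtain ⟨hF, hP, hr1⟩ := eigen_facts χ hrk hχ u hu hχp n
  haveI := hF
  haveI := hP
  apply LinearMap.ext
  intro b
  rw [LinearMap.smul_apply, theta_tmul, ← apply_eproj χ u hu n φ hφ b]
  let ψ : eigenAug R A p χ n →ₗ[R] R := (toDual R A φ).comp (eigenAug R A p χ n).subtype
  have h1 := rank_one_swap hr1 ψ ⟨c, hc⟩ ⟨eproj χ u n b, eproj_mem χ hp u n b⟩
  have h2 := congrArg (fun x : eigenAug R A p χ n => (x : A)) h1
  simp only [Submodule.coe_smul] at h2
  exact h2.symm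

theorem theta_prod (hrk : ∀ q : PrimeSpectrum R, Module.rankAtStalk A q = p)
    (hχ : ∀ m : (ZMod p)ˣ, m ≠ 1 → IsUnit ((χ m : R) - 1))
    (u : R) (hu : u * ((p - 1 : ℕ) : R) = 1)
    (hχp : ∀ m : (ZMod p)ˣ, ((χ m : Rˣ) : R) - (((m : ZMod p).val : ℕ) : R) ∈
      Ideal.span ({(p : R)} : Set R))
    (n : ℕ) (c : Fin n → A) (hc : ∀ j, c j ∈ eigenAug R A p χ 1) (φ : Fin n → D R A)
    (hφ : ∀ j, φ j ∈ eigenAug R (D R A) p χ 1) :
    toConv (theta ((∏ j, c j) ⊗ₜ[R] (∏ j, φ j))) =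
      (∏ j, φ j (c j)) • (toConv (eproj (A := A) χ u 1)) ^ n := by
  induction n with
  | zero =>
    simp only [Finset.univ_eq_empty, Finset.prod_empty, pow_zero, one_smul]
    exact theta_one
  | succ n ih =>
    rw [Fin.prod_univ_castSucc, Fin.prod_univ_castSucc, Fin.prod_univ_castSucc,
      ← Algebra.TensorProduct.tmul_mul_tmul, theta_mul,
      ih (fun j => c (Fin.castSucc j)) (fun j => hc _) (fun j => φ (Fin.castSucc j)) (fun j => hφ _),
      theta_tmul_eq χ hrk hχ u hu hχp 1 _ (hc _) _ (hφ _), toConv_smul, smul_mul_smul_comm, pow_succ]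

/-- The pairing of products: `(φ_1 ⋯ φ_n)(c_1 ⋯ c_n) = w_n ∏ φ_j(c_j)`. -/
theorem pairing_prod (hrk : ∀ q : PrimeSpectrum R, Module.rankAtStalk A q = p)
    (hχ : ∀ m : (ZMod p)ˣ, m ≠ 1 → IsUnit ((χ m : R) - 1))
    (u : R) (hu : u * ((p - 1 : ℕ) : R) = 1)
    (hχp : ∀ m : (ZMod p)ˣ, ((χ m : Rˣ) : R) - (((m : ZMod p).val : ℕ) : R) ∈
      Ideal.span ({(p : R)} : Set R))
    (n : ℕ) (w : R) (hw : ygen R p u χ 1 ^ (n + 1) = w • ygen R p u χ (n + 1))
    (c : Fin (n + 1) → A) (hc : ∀ j, c j ∈ eigenAug R A p χ 1) (φ : Fin (n + 1) → D R A)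
    (hφ : ∀ j, φ j ∈ eigenAug R (D R A) p χ 1) :
    (∏ j, φ j) (∏ j, c j) = w * ∏ j, φ j (c j) := by
  have hp := hp_of_rank (p := p) hrk
  obtain ⟨hF, hP, hr1⟩ := eigen_facts χ hrk hχ u hu hχp (n + 1)
  haveI := hF
  haveI := hP
  have h1 := theta_prod χ hrk hχ u hu hχp (n + 1) c hc φ hφ
  rw [eproj_pow χ hp u (n + 1) w hw, smul_smul, ← toConv_smul] at h1
  have h2 := WithConv.toConv_injective h1
  have hb₀ : ∏ j, c j ∈ eigenAug R A p χ (n + 1) := prod_mem_eigenAug χ n c hc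
  let ψ : eigenAug R A p χ (n + 1) →ₗ[R] R :=
    (toDual R A (∏ j, φ j)).comp (eigenAug R A p χ (n + 1)).subtype
  have h3 : ψ ⟨_, hb₀⟩ - w * ∏ j, φ j (c j) = 0 := by
    apply rank_one_faithful hr1
    intro b'
    have h4 := congrArg (fun F : A →ₗ[R] A => F (b' : A)) h2
    simp only [theta_tmul, LinearMap.smul_apply] at h4
    rw [eproj_of_mem' χ hχ u hu (n + 1) _ b'.2] at h4
    have h5 := rank_one_swap hr1 ψ b' ⟨_, hb₀⟩
    have h6 := congrArg (fun x : eigenAug R A p χ (n + 1) => (x : A)) h5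
    simp only [Submodule.coe_smul] at h6
    apply Subtype.ext
    rw [sub_smul, Submodule.coe_sub, Submodule.coe_smul, Submodule.coe_smul, Submodule.coe_zero,
      ← h6, sub_eq_zero, mul_comm]
    exact h4
  exact sub_eq_zero.mp h3

end RankFacts

end Groth.Agent.Lib.Helper24OT
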