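import Mathlib
import Groth.Agent.Lib.Helper24OTq

set_option autoImplicit false
universe u

namespace Groth.Agent.Lib.Helper24OT

open TensorProduct WithConv Coalgebra OortTate SGA3b CartDual Groth.Agent.Lib.Helper14OTEigen

section Dual2

variable {p : ℕ} [hpr : Fact p.Prime] {R : Type u} [CommRing R] {A : Type u} [CommRing A]
  [HopfAlgebra R A] [Coalgebra.IsCocomm R A] [Module.Finite R A] [Module.Projective R A]
  (χ : (ZMod p)ˣ →* Rˣ)

omit [Coalgebra.IsCocomm R A] [Module.Finite R A] [Module.Projective R A] in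
theorem proj_mod (u : R) (n : ℕ) : proj R A p u χ n = proj R A p u χ (n % (p - 1)) := by
  apply LinearMap.ext
  intro a
  rw [proj_apply, proj_apply]
  congr 1
  refine Finset.sum_congr rfl fun m _ => ?_
  rw [Groth.Agent.Helper18OT.chi_pow_mod χ m⁻¹ n]

/-- Eigen-functionals of weight `k` vanish on eigen-elements of weight `l ≢ k`. -/
theorem apply_eq_zero_of_ne (hχ : ∀ m : (ZMod p)ˣ, m ≠ 1 → IsUnit ((χ m : R) - 1))
    (u : R) (hu : u * ((p - 1 : ℕ) : R) = 1) (k l : ℕ) (hkl : k % (p - 1) ≠ l % (p - 1))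
    (h : D R A) (hh : h ∈ eigenAug R (D R A) p χ k) (a : A) (ha : a ∈ eigenAug R A p χ l) :
    h a = 0 := by
  have hpos : 0 < p - 1 := Groth.Agent.Helper18OT.pred_pos
  have h1 : proj R (D R A) p u χ k h = h :=
    Groth.Agent.Lib.Helper14OTDual.proj_self_of_mem u hu χ k h hh
  rw [← h1, Groth.Agent.Lib.Helper14OTDual.proj_dual, proj_mod χ u k]
  rw [eigenAug_mod' χ l] at ha
  rw [proj_of_mem χ hχ u hu (l % (p - 1)) (k % (p - 1)) (Nat.mod_lt _ hpos) (Nat.mod_lt _ hpos) a ha,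
    if_neg (Ne.symm hkl)]
  exact map_zero h.ofConv

/-- Eigen-functionals of weight `n` are determined by their values on `I_n(A)`. -/
theorem restrict_injective (hp : (WithConv.toConv (AlgHom.id R A)) ^ p = 1)
    (hχ : ∀ m : (ZMod p)ˣ, m ≠ 1 → IsUnit ((χ m : R) - 1))
    (u : R) (hu : u * ((p - 1 : ℕ) : R) = 1) (n : ℕ) (f g : D R A)
    (hf : f ∈ eigenAug R (D R A) p χ n) (hg : g ∈ eigenAug R (D R A) p χ n)
    (h : ∀ b ∈ eigenAug R A p χ n, f b = g b) : f = g := by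
  have hbij := Groth.Agent.Lib.Helper14OTDual.main p R u hu χ hχ A hp n
  have h1 := @hbij.1 ⟨f, hf⟩ ⟨g, hg⟩ (by
    apply LinearMap.ext
    intro b
    exact h b b.2)
  exact congrArg (fun x : eigenAug R (D R A) p χ n => (x : D R A)) h1

omit [Coalgebra.IsCocomm R A] in
/-- Linear forms agreeing on `n`-fold products of elements of `I_1` agree on `I_n`. -/
theorem ext_on_pow (hrk : ∀ q : PrimeSpectrum R, Module.rankAtStalk A q = p)
    (hχ : ∀ m : (ZMod p)ˣ, m ≠ 1 → IsUnit ((χ m : R) - 1))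
    (u : R) (hu : u * ((p - 1 : ℕ) : R) = 1)
    (hχp : ∀ m : (ZMod p)ˣ, ((χ m : Rˣ) : R) - (((m : ZMod p).val : ℕ) : R) ∈
      Ideal.span ({(p : R)} : Set R))
    (n : ℕ) (hn1 : 1 ≤ n) (hn2 : n ≤ p - 1) (F G : A →ₗ[R] R)
    (h : ∀ c : Fin n → A, (∀ j, c j ∈ eigenAug R A p χ 1) → F (∏ j, c j) = G (∏ j, c j))
    (b : A) (hb : b ∈ eigenAug R A p χ n) : F b = G b := by
  rw [← pow_eigenAug_eq χ hrk hχ u hu hχp n hn1 hn2, Submodule.pow_eq_span_pow_set] at hb
  induction hb using Submodule.span_induction with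
  | mem x hx =>
    obtain ⟨c, hc, rfl⟩ := Set.mem_pow_iff_prod.mp hx
    exact h c hc
  | zero => rw [map_zero, map_zero]
  | add x y _ _ hx hy => rw [map_add, map_add, hx, hy]
  | smul r x _ hx => rw [map_smul, map_smul, hx]

/-- A dual system for `I_1(A)` and `I_1(A^D)`. -/
theorem exists_dual_system (hrk : ∀ q : PrimeSpectrum R, Module.rankAtStalk A q = p)
    (hχ : ∀ m : (ZMod p)ˣ, m ≠ 1 → IsUnit ((χ m : R) - 1))
    (u : R) (hu : u * ((p - 1 : ℕ) : R) = 1)
    (hχp : ∀ m : (ZMod p)ˣ, ((χ m : Rˣ) : R) - (((m : ZMod p).val : ℕ) : R) ∈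
      Ideal.span ({(p : R)} : Set R)) :
    ∃ (m : ℕ) (a : Fin m → A) (f : Fin m → D R A), (∀ k, a k ∈ eigenAug R A p χ 1) ∧
      (∀ k, f k ∈ eigenAug R (D R A) p χ 1) ∧
      ∀ x ∈ eigenAug R A p χ 1, x = ∑ k, f k x • a k := by
  have hp := hp_of_rank (p := p) hrk
  obtain ⟨hF, hP, -⟩ := eigen_facts χ hrk hχ u hu hχp 1
  haveI := hF
  haveI := hP
  have hbij := Groth.Agent.Lib.Helper14OTDual.main p R u hu χ hχ A hp 1
  obtain ⟨m, a, g, hag⟩ := exists_dual_basis (R := R) (M := eigenAug R A p χ 1)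
  choose f hf using fun k => hbij.2 (g k)
  refine ⟨m, fun k => (a k : A), fun k => (f k : D R A), fun k => (a k).2, fun k => (f k).2, ?_⟩
  intro x hx
  have h1 := hag ⟨x, hx⟩
  have h2 := congrArg (fun y : eigenAug R A p χ 1 => (y : A)) h1
  simp only [Submodule.coe_sum, Submodule.coe_smul] at h2
  conv_lhs => rw [h2]
  refine Finset.sum_congr rfl fun k _ => ?_
  congr 1
  exact (congrArg (fun F : eigenAug R A p χ 1 →ₗ[R] R => F ⟨x, hx⟩) (hf k)).symm

/-- Expansion of an eigen-functional of weight `n + 1 ≤ p - 1` in products of elements of a dual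
system. -/
theorem expand_eigen (hrk : ∀ q : PrimeSpectrum R, Module.rankAtStalk A q = p)
    (hχ : ∀ m : (ZMod p)ˣ, m ≠ 1 → IsUnit ((χ m : R) - 1))
    (u : R) (hu : u * ((p - 1 : ℕ) : R) = 1)
    (hχp : ∀ m : (ZMod p)ˣ, ((χ m : Rˣ) : R) - (((m : ZMod p).val : ℕ) : R) ∈
      Ideal.span ({(p : R)} : Set R))
    (n : ℕ) (hn : n + 1 ≤ p - 1) (w : R)
    (hw : ygen R p u χ 1 ^ (n + 1) = w • ygen R p u χ (n + 1))
    (m : ℕ) (a : Fin m → A) (f : Fin m → D R A) (ha : ∀ k, a k ∈ eigenAug R A p χ 1)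
    (hf : ∀ k, f k ∈ eigenAug R (D R A) p χ 1)
    (hsys : ∀ x ∈ eigenAug R A p χ 1, x = ∑ k, f k x • a k)
    (f' : D R A) (hf' : f' ∈ eigenAug R (D R A) p χ (n + 1)) :
    w • f' = ∑ K : Fin (n + 1) → Fin m, f' (∏ j, a (K j)) • ∏ j, f (K j) := by
  have hp := hp_of_rank (p := p) hrk
  apply restrict_injective χ hp hχ u hu (n + 1)
  · exact Submodule.smul_mem _ _ hf'
  · refine Submodule.sum_mem _ fun K _ => Submodule.smul_mem _ _ ?_
    exact prod_mem_eigenAug (A := D R A) χ n (fun j => f (K j)) (fun j => hf _)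
  · intro b hb
    apply ext_on_pow χ hrk hχ u hu hχp (n + 1) (by omega) hn (w • f').ofConv
      (∑ K : Fin (n + 1) → Fin m, f' (∏ j, a (K j)) • ∏ j, f (K j)).ofConv _ b hb
    intro c hc
    rw [WithConv.ofConv_sum, LinearMap.sum_apply, WithConv.ofConv_smul, LinearMap.smul_apply]
    have h1 : ∏ j, c j = ∑ K : Fin (n + 1) → Fin m, (∏ j, f (K j) (c j)) • ∏ j, a (K j) := by
      have h2 : ∏ j, c j = ∏ j, ∑ k, f k (c j) • a k :=
        Finset.prod_congr rfl fun j _ => hsys (c j) (hc j)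
      rw [h2, Finset.prod_univ_sum, Fintype.piFinset_univ]
      refine Finset.sum_congr rfl fun K _ => ?_
      rw [Finset.prod_smul]
    have h3 : f'.ofConv (∏ j, c j) = ∑ K : Fin (n + 1) → Fin m, (∏ j, f (K j) (c j)) * f' (∏ j, a (K j)) := by
      rw [h1, map_sum]
      refine Finset.sum_congr rfl fun K _ => ?_
      rw [map_smul, smul_eq_mul]
    rw [h3, smul_eq_mul, Finset.mul_sum]
    refine Finset.sum_congr rfl fun K _ => ?_
    rw [WithConv.ofConv_smul, LinearMap.smul_apply, smul_eq_mul]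
    have h4 := pairing_prod χ hrk hχ u hu hχp n w hw c hc (fun j => f (K j)) (fun j => hf _)
    change _ = f' (∏ j, a (K j)) * (∏ j, f (K j)) (∏ j, c j)
    rw [h4]
    ring

end Dual2

end Groth.Agent.Lib.Helper24OT
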