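import Mathlib
import Groth.Agent.Lib.Helper24OTr

set_option autoImplicit false
universe u

namespace Groth.Agent.Lib.Helper24OT

open TensorProduct WithConv Coalgebra OortTate SGA3b CartDual Groth.Agent.Lib.Helper14OTEigen

section DualExt

variable {p : ℕ} [hpr : Fact p.Prime] {R : Type u} [CommRing R] {A : Type u} [CommRing A]
  [HopfAlgebra R A] [Coalgebra.IsCocomm R A] [Module.Finite R A] [Module.Projective R A]
  (χ : (ZMod p)ˣ →* Rˣ)

/-- Linear maps out of the dual Hopf algebra agreeing at `1` and on all eigenspaces are equal. -/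
theorem dual_ext (hp : (WithConv.toConv (AlgHom.id R A)) ^ p = 1)
    (hχ : ∀ m : (ZMod p)ˣ, m ≠ 1 → IsUnit ((χ m : R) - 1))
    (u : R) (hu : u * ((p - 1 : ℕ) : R) = 1)
    {V : Type*} [AddCommGroup V] [Module R V] (F G : D R A →ₗ[R] V) (h1 : F 1 = G 1)
    (hmem : ∀ i : ℕ, i < p - 1 → ∀ x ∈ eigenAug R (D R A) p χ i, F x = G x) : F = G := by
  have hpD := Groth.Agent.Lib.Helper14OTDual.hpD (p := p) (R := R) (A := A) hp
  obtain ⟨-, hsup, -⟩ := Groth.Agent.S18468.result p R u hu χ hχ (D R A) hpD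
  apply LinearMap.ext
  intro x
  have hx : x - (counit (R := R) x) • (1 : D R A) ∈
      LinearMap.ker (Bialgebra.counitAlgHom R (D R A)).toLinearMap := by
    rw [LinearMap.mem_ker]
    change counit (R := R) (x - (counit (R := R) x) • (1 : D R A)) = 0
    rw [map_sub, map_smul, Bialgebra.counit_one, smul_eq_mul, mul_one, sub_self]
  rw [← hsup] at hx
  have h2 : F (x - (counit (R := R) x) • (1 : D R A)) = G (x - (counit (R := R) x) • (1 : D R A)) := by
    generalize x - (counit (R := R) x) • (1 : D R A) = y at hx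
    induction hx using Submodule.iSup_induction' with
    | mem i y hy => exact hmem i i.2 y hy
    | zero => rw [map_zero, map_zero]
    | add y z _ _ hy hz => rw [map_add, map_add, hy, hz]
  have h3 : x = (x - (counit (R := R) x) • (1 : D R A)) + (counit (R := R) x) • (1 : D R A) := by
    abel
  rw [h3, map_add, map_add, h2, map_smul, map_smul, h1]

end DualExt

section Transpose

variable {p : ℕ} [hpr : Fact p.Prime] {R : Type u} [CommRing R]
  {A : Type u} [CommRing A] [HopfAlgebra R A] [Coalgebra.IsCocomm R A] [Module.Finite R A]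
  [Module.Projective R A]
  {A' : Type u} [CommRing A'] [HopfAlgebra R A'] [Coalgebra.IsCocomm R A'] [Module.Finite R A']
  [Module.Projective R A']
  (χ : (ZMod p)ˣ →* Rˣ)

/-- The transpose of an algebra map, on the carriers of the duals. -/
noncomputable def trA (Ψ : A →ₐ[R] A') : D R A' →ₗ[R] D R A := transposeLin R Ψ.toLinearMap

omit [Coalgebra.IsCocomm R A] [Module.Finite R A] [Module.Projective R A]
  [Coalgebra.IsCocomm R A'] [Module.Finite R A'] [Module.Projective R A'] in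
@[simp] theorem trA_apply (Ψ : A →ₐ[R] A') (x : D R A') (a : A) : trA Ψ x a = x (Ψ a) := rfl

omit [Coalgebra.IsCocomm R A] [Coalgebra.IsCocomm R A'] [Module.Finite R A'] [Module.Projective R A'] in
theorem counit_comp_of_I1 (hrk : ∀ q : PrimeSpectrum R, Module.rankAtStalk A q = p)
    (hχ : ∀ m : (ZMod p)ˣ, m ≠ 1 → IsUnit ((χ m : R) - 1))
    (u : R) (hu : u * ((p - 1 : ℕ) : R) = 1)
    (hχp : ∀ m : (ZMod p)ˣ, ((χ m : Rˣ) : R) - (((m : ZMod p).val : ℕ) : R) ∈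
      Ideal.span ({(p : R)} : Set R))
    (Ψ : A →ₐ[R] A') (hΨ : ∀ a ∈ eigenAug R A p χ 1, Ψ a ∈ eigenAug R A' p χ 1) :
    (Bialgebra.counitAlgHom R A').comp Ψ = Bialgebra.counitAlgHom R A := by
  apply algHom_ext_I1 χ hrk u hu hχ hχp
  intro a ha
  have h1 := ((mem_eigenAug_iff χ 1 a).mp ha).1
  have h2 := ((mem_eigenAug_iff χ 1 (Ψ a)).mp (hΨ a ha)).1
  rw [AlgHom.comp_apply]
  change counit (R := R) (Ψ a) = counit (R := R) a
  rw [h1, h2]

omit [Coalgebra.IsCocomm R A] [Coalgebra.IsCocomm R A'] [Module.Finite R A'] [Module.Projective R A'] in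
theorem T_comm_of_I1 (hrk : ∀ q : PrimeSpectrum R, Module.rankAtStalk A q = p)
    (hχ : ∀ m : (ZMod p)ˣ, m ≠ 1 → IsUnit ((χ m : R) - 1))
    (u : R) (hu : u * ((p - 1 : ℕ) : R) = 1)
    (hχp : ∀ m : (ZMod p)ˣ, ((χ m : Rˣ) : R) - (((m : ZMod p).val : ℕ) : R) ∈
      Ideal.span ({(p : R)} : Set R))
    (Ψ : A →ₐ[R] A') (hΨ : ∀ a ∈ eigenAug R A p χ 1, Ψ a ∈ eigenAug R A' p χ 1)
    (m : (ZMod p)ˣ) (a : A) : T R A' m (Ψ a) = Ψ (T R A m a) := by
  have h : (powConv R A' (m : ZMod p).val).comp Ψ = Ψ.comp (powConv R A (m : ZMod p).val) := by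
    apply algHom_ext_I1 χ hrk u hu hχ hχp
    intro a ha
    have h1 := ((mem_eigenAug_iff χ 1 a).mp ha).2 m
    have h2 := ((mem_eigenAug_iff χ 1 (Ψ a)).mp (hΨ a ha)).2 m
    rw [T_apply] at h1 h2
    rw [AlgHom.comp_apply, AlgHom.comp_apply, h1, h2, map_smul]
  exact congrArg (fun F : A →ₐ[R] A' => F a) h

/-- The transpose of an algebra map respecting `I_1` maps eigenspaces to eigenspaces. -/
theorem trA_mem (hrk : ∀ q : PrimeSpectrum R, Module.rankAtStalk A q = p)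
    (hχ : ∀ m : (ZMod p)ˣ, m ≠ 1 → IsUnit ((χ m : R) - 1))
    (u : R) (hu : u * ((p - 1 : ℕ) : R) = 1)
    (hχp : ∀ m : (ZMod p)ˣ, ((χ m : Rˣ) : R) - (((m : ZMod p).val : ℕ) : R) ∈
      Ideal.span ({(p : R)} : Set R))
    (Ψ : A →ₐ[R] A') (hΨ : ∀ a ∈ eigenAug R A p χ 1, Ψ a ∈ eigenAug R A' p χ 1)
    (n : ℕ) (φ : D R A') (hφ : φ ∈ eigenAug R (D R A') p χ n) :
    trA Ψ φ ∈ eigenAug R (D R A) p χ n := by
  rw [mem_eigenAug_iff] at hφ ⊢
  refine ⟨?_, fun m => ?_⟩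
  · change trA Ψ φ 1 = 0
    rw [trA_apply, map_one]
    exact hφ.1
  · apply WithConv.ofConv_injective
    apply LinearMap.ext
    intro a
    change (T R (D R A) m (trA Ψ φ)) a = ((χ m : R) ^ n • trA Ψ φ) a
    rw [Groth.Agent.Lib.Helper14OTDual.T_dual, trA_apply,
      ← T_comm_of_I1 χ hrk hχ u hu hχp Ψ hΨ m a, ← Groth.Agent.Lib.Helper14OTDual.T_dual, hφ.2 m]
    rfl

theorem trA_one (hrk : ∀ q : PrimeSpectrum R, Module.rankAtStalk A q = p)
    (hχ : ∀ m : (ZMod p)ˣ, m ≠ 1 → IsUnit ((χ m : R) - 1))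
    (u : R) (hu : u * ((p - 1 : ℕ) : R) = 1)
    (hχp : ∀ m : (ZMod p)ˣ, ((χ m : Rˣ) : R) - (((m : ZMod p).val : ℕ) : R) ∈
      Ideal.span ({(p : R)} : Set R))
    (Ψ : A →ₐ[R] A') (hΨ : ∀ a ∈ eigenAug R A p χ 1, Ψ a ∈ eigenAug R A' p χ 1) :
    trA Ψ (1 : D R A') = 1 := by
  apply WithConv.ofConv_injective
  apply LinearMap.ext
  intro a
  change (1 : D R A') (Ψ a) = (1 : D R A) a
  rw [LinearMap.convOne_apply, LinearMap.convOne_apply]
  have h := congrArg (fun F : A →ₐ[R] R => F a) (counit_comp_of_I1 χ hrk hχ u hu hχp Ψ hΨ)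
  change counit (R := R) (Ψ a) = counit (R := R) a at h
  rw [h]

/-- The transpose is multiplicative on products of at most `p - 1` elements of `I_1(A'^D)`. -/
theorem trA_prod (hrk : ∀ q : PrimeSpectrum R, Module.rankAtStalk A q = p)
    (hrk' : ∀ q : PrimeSpectrum R, Module.rankAtStalk A' q = p)
    (hχ : ∀ m : (ZMod p)ˣ, m ≠ 1 → IsUnit ((χ m : R) - 1))
    (u : R) (hu : u * ((p - 1 : ℕ) : R) = 1)
    (hχp : ∀ m : (ZMod p)ˣ, ((χ m : Rˣ) : R) - (((m : ZMod p).val : ℕ) : R) ∈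
      Ideal.span ({(p : R)} : Set R))
    (Ψ : A →ₐ[R] A') (hΨ : ∀ a ∈ eigenAug R A p χ 1, Ψ a ∈ eigenAug R A' p χ 1)
    (n : ℕ) (hn : n + 1 ≤ p - 1) (w : R)
    (hw : ygen R p u χ 1 ^ (n + 1) = w • ygen R p u χ (n + 1))
    (φ' : Fin (n + 1) → D R A') (hφ' : ∀ j, φ' j ∈ eigenAug R (D R A') p χ 1) :
    trA Ψ (∏ j, φ' j) = ∏ j, trA Ψ (φ' j) := by
  have hp := hp_of_rank (p := p) hrk
  apply restrict_injective χ hp hχ u hu (n + 1)
  · exact trA_mem χ hrk hχ u hu hχp Ψ hΨ (n + 1) _ (prod_mem_eigenAug (A := D R A') χ n φ' hφ')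
  · exact prod_mem_eigenAug (A := D R A) χ n (fun j => trA Ψ (φ' j))
      (fun j => trA_mem χ hrk hχ u hu hχp Ψ hΨ 1 _ (hφ' j))
  · intro b hb
    apply ext_on_pow χ hrk hχ u hu hχp (n + 1) (by omega) hn (trA Ψ (∏ j, φ' j)).ofConv
      (∏ j, trA Ψ (φ' j)).ofConv _ b hb
    intro c hc
    change (∏ j, φ' j) (Ψ (∏ j, c j)) = (∏ j, trA Ψ (φ' j)) (∏ j, c j)
    rw [map_prod, pairing_prod χ hrk' hχ u hu hχp n w hw (fun j => Ψ (c j)) (fun j => hΨ _ (hc j)) φ' hφ',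
      pairing_prod χ hrk hχ u hu hχp n w hw c hc (fun j => trA Ψ (φ' j))
        (fun j => trA_mem χ hrk hχ u hu hχp Ψ hΨ 1 _ (hφ' j))]
    rfl

end Transpose

end Groth.Agent.Lib.Helper24OT
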