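import Mathlib
import Groth.Agent.Lib.Helper24OTs

set_option autoImplicit false
universe u

namespace Groth.Agent.Lib.Helper24OT

open TensorProduct WithConv Coalgebra OortTate SGA3b CartDual Groth.Agent.Lib.Helper14OTEigen

section Arith

theorem mod_ne_of_add_ne {d s t : ℕ} (hd : 1 ≤ d) (hs1 : 1 ≤ s) (hs2 : s ≤ d) (ht1 : 1 ≤ t) (ht2 : t ≤ d)
    (hne : s + t ≠ d + 1) : (s + t) % d ≠ 1 % d := by
  intro h
  have h1 : (s + t) ≡ 1 [MOD d] := h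
  have h2 : d ∣ (s + t) - 1 := (Nat.modEq_iff_dvd' (by omega)).mp h1.symm
  obtain ⟨k, hk⟩ := h2
  have hk1 : 1 ≤ k := by
    rcases Nat.eq_zero_or_pos k with h0 | h0
    · rw [h0, mul_zero] at hk
      omega
    · exact h0
  have hk2 : k < 2 := by
    by_contra hcon
    have : d * 2 ≤ d * k := Nat.mul_le_mul_left d (by omega)
    omega
  have : k = 1 := by omega
  rw [this, mul_one] at hk
  omega

end Arith

section Key

variable {p : ℕ} [hpr : Fact p.Prime] {R : Type u} [CommRing R]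
  {A : Type u} [CommRing A] [HopfAlgebra R A] [Coalgebra.IsCocomm R A] [Module.Finite R A]
  [Module.Projective R A]
  {A' : Type u} [CommRing A'] [HopfAlgebra R A'] [Coalgebra.IsCocomm R A'] [Module.Finite R A']
  [Module.Projective R A']
  (χ : (ZMod p)ˣ →* Rˣ)

omit [Module.Finite R A] [Module.Projective R A] [Coalgebra.IsCocomm R A] in
theorem eigen_index (i : ℕ) (hi : i < p - 1) :
    ∃ s, 1 ≤ s ∧ s ≤ p - 1 ∧ eigenAug R A p χ i = eigenAug R A p χ s := by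
  by_cases h0 : i = 0
  · refine ⟨p - 1, by omega, le_rfl, ?_⟩
    rw [eigenAug_mod' χ (p - 1), Nat.mod_self, h0]
  · exact ⟨i, by omega, by omega, rfl⟩

/-- Evaluation at `a`, as a linear form on the dual. -/
noncomputable def evD (a : A) : D R A →ₗ[R] R :=
  (Module.Dual.eval R A a) ∘ₗ (toDual R A).toLinearMap

omit [Coalgebra.IsCocomm R A] [Module.Finite R A] [Module.Projective R A] in
@[simp] theorem evD_apply (a : A) (x : D R A) : evD a x = x a := rfl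

/-- `(f', g') ↦ (Ψᵀ f' * Ψᵀ g') a`. -/
noncomputable def B1 (Ψ : A →ₐ[R] A') (a : A) : D R A' →ₗ[R] D R A' →ₗ[R] R :=
  ((LinearMap.mul R (D R A)).compl₁₂ (trA Ψ) (trA Ψ)).compr₂ (evD a)

/-- `(f', g') ↦ (f' * g') (Ψ a)`. -/
noncomputable def B2 (Ψ : A →ₐ[R] A') (a : A) : D R A' →ₗ[R] D R A' →ₗ[R] R :=
  (LinearMap.mul R (D R A')).compr₂ (evD (Ψ a))

omit [Module.Finite R A] [Module.Projective R A] [Module.Finite R A'] [Module.Projective R A'] in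
@[simp] theorem B1_apply (Ψ : A →ₐ[R] A') (a : A) (f' g' : D R A') :
    B1 Ψ a f' g' = (trA Ψ f' * trA Ψ g') a := rfl

omit [Module.Finite R A] [Module.Projective R A] [Module.Finite R A'] [Module.Projective R A'] in
@[simp] theorem B2_apply (Ψ : A →ₐ[R] A') (a : A) (f' g' : D R A') :
    B2 Ψ a f' g' = (f' * g') (Ψ a) := rfl

theorem key_case (hrk : ∀ q : PrimeSpectrum R, Module.rankAtStalk A q = p)
    (hrk' : ∀ q : PrimeSpectrum R, Module.rankAtStalk A' q = p)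
    (hχ : ∀ m : (ZMod p)ˣ, m ≠ 1 → IsUnit ((χ m : R) - 1))
    (u : R) (hu : u * ((p - 1 : ℕ) : R) = 1)
    (hχp : ∀ m : (ZMod p)ˣ, ((χ m : Rˣ) : R) - (((m : ZMod p).val : ℕ) : R) ∈
      Ideal.span ({(p : R)} : Set R))
    (Ψ : A →ₐ[R] A') (hΨ : ∀ a ∈ eigenAug R A p χ 1, Ψ a ∈ eigenAug R A' p χ 1)
    (H : ∀ (m n : ℕ), m + n = p → ∀ (φ₁ : Fin m → D R A') (φ₂ : Fin n → D R A'),
      (∀ j, φ₁ j ∈ eigenAug R (D R A') p χ 1) → (∀ j, φ₂ j ∈ eigenAug R (D R A') p χ 1) →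
      ∀ x ∈ eigenAug R A p χ 1,
        ((∏ j, trA Ψ (φ₁ j)) * (∏ j, trA Ψ (φ₂ j))) x = ((∏ j, φ₁ j) * (∏ j, φ₂ j)) (Ψ x))
    (s t : ℕ) (hs1 : 1 ≤ s) (hs2 : s ≤ p - 1) (ht1 : 1 ≤ t) (ht2 : t ≤ p - 1)
    (f' g' : D R A') (hf' : f' ∈ eigenAug R (D R A') p χ s) (hg' : g' ∈ eigenAug R (D R A') p χ t)
    (a : A) (ha : a ∈ eigenAug R A p χ 1) : B1 Ψ a f' g' = B2 Ψ a f' g' := by
  have hp2 : 2 ≤ p := hpr.1.two_le
  by_cases hst : s + t = p
  · obtain ⟨n₁, rfl⟩ : ∃ n₁, s = n₁ + 1 := ⟨s - 1, by omega⟩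
    obtain ⟨n₂, rfl⟩ : ∃ n₂, t = n₂ + 1 := ⟨t - 1, by omega⟩
    obtain ⟨w₁, hw₁⟩ := Groth.Agent.Helper18OT.exists_pow_eq u hu χ hχ (n₁ + 1) (by omega)
    have hu₁ := Groth.Agent.Helper18OT.isUnit_w u hu χ hχp (n₁ + 1) hs2 w₁ hw₁
    obtain ⟨w₂, hw₂⟩ := Groth.Agent.Helper18OT.exists_pow_eq u hu χ hχ (n₂ + 1) (by omega)
    have hu₂ := Groth.Agent.Helper18OT.isUnit_w u hu χ hχp (n₂ + 1) ht2 w₂ hw₂
    obtain ⟨m, a', fd, ha', hfd, hsys⟩ := exists_dual_system (A := A') χ hrk' hχ u hu hχp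
    have e₁ := expand_eigen χ hrk' hχ u hu hχp n₁ hs2 w₁ hw₁ m a' fd ha' hfd hsys f' hf'
    have e₂ := expand_eigen χ hrk' hχ u hu hχp n₂ ht2 w₂ hw₂ m a' fd ha' hfd hsys g' hg'
    have h1 : B1 Ψ a (w₁ • f') (w₂ • g') = B2 Ψ a (w₁ • f') (w₂ • g') := by
      rw [e₁, e₂]
      simp only [map_sum, LinearMap.sum_apply, map_smul, LinearMap.smul_apply]
      refine Finset.sum_congr rfl fun L _ => ?_
      congr 1
      refine Finset.sum_congr rfl fun K _ => ?_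
      congr 1
      rw [B1_apply, B2_apply,
        trA_prod χ hrk hrk' hχ u hu hχp Ψ hΨ _ (by first | exact hs2 | exact ht2) _
          (by first | exact hw₁ | exact hw₂) _ (fun j => hfd _),
        trA_prod χ hrk hrk' hχ u hu hχp Ψ hΨ _ (by first | exact hs2 | exact ht2) _
          (by first | exact hw₁ | exact hw₂) _ (fun j => hfd _)]
      first
        | exact H (n₁ + 1) (n₂ + 1) hst _ _ (fun j => hfd _) (fun j => hfd _) a ha
        | exact H (n₂ + 1) (n₁ + 1) (by omega) _ _ (fun j => hfd _) (fun j => hfd _) a ha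
    have h2 : B1 Ψ a (w₁ • f') (w₂ • g') = w₁ • w₂ • B1 Ψ a f' g' := by
      simp only [map_smul, LinearMap.smul_apply]
      rw [smul_comm]
    have h3 : B2 Ψ a (w₁ • f') (w₂ • g') = w₁ • w₂ • B2 Ψ a f' g' := by
      simp only [map_smul, LinearMap.smul_apply]
      rw [smul_comm]
    rw [h2, h3] at h1
    exact hu₂.smul_left_cancel.mp (hu₁.smul_left_cancel.mp h1)
  · have hne : (s + t) % (p - 1) ≠ 1 % (p - 1) :=
      mod_ne_of_add_ne (by omega) hs1 hs2 ht1 ht2 (by omega)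
    rw [B1_apply, B2_apply,
      apply_eq_zero_of_ne χ hχ u hu (s + t) 1 hne _
        (mul_mem_eigenAug (A := D R A) χ _ _ s t (trA_mem χ hrk hχ u hu hχp Ψ hΨ s _ hf')
          (trA_mem χ hrk hχ u hu hχp Ψ hΨ t _ hg')) a ha,
      apply_eq_zero_of_ne (A := A') χ hχ u hu (s + t) 1 hne _
        (mul_mem_eigenAug (A := D R A') χ _ _ s t hf' hg') (Ψ a) (hΨ a ha)]

/-- The key identity: `(Ψᵀ f' * Ψᵀ g')(a) = (f' * g')(Ψ a)` for all `f', g'` and `a ∈ I_1(A)`. -/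
theorem key_pairing (hrk : ∀ q : PrimeSpectrum R, Module.rankAtStalk A q = p)
    (hrk' : ∀ q : PrimeSpectrum R, Module.rankAtStalk A' q = p)
    (hχ : ∀ m : (ZMod p)ˣ, m ≠ 1 → IsUnit ((χ m : R) - 1))
    (u : R) (hu : u * ((p - 1 : ℕ) : R) = 1)
    (hχp : ∀ m : (ZMod p)ˣ, ((χ m : Rˣ) : R) - (((m : ZMod p).val : ℕ) : R) ∈
      Ideal.span ({(p : R)} : Set R))
    (Ψ : A →ₐ[R] A') (hΨ : ∀ a ∈ eigenAug R A p χ 1, Ψ a ∈ eigenAug R A' p χ 1)
    (H : ∀ (m n : ℕ), m + n = p → ∀ (φ₁ : Fin m → D R A') (φ₂ : Fin n → D R A'),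
      (∀ j, φ₁ j ∈ eigenAug R (D R A') p χ 1) → (∀ j, φ₂ j ∈ eigenAug R (D R A') p χ 1) →
      ∀ x ∈ eigenAug R A p χ 1,
        ((∏ j, trA Ψ (φ₁ j)) * (∏ j, trA Ψ (φ₂ j))) x = ((∏ j, φ₁ j) * (∏ j, φ₂ j)) (Ψ x))
    (a : A) (ha : a ∈ eigenAug R A p χ 1) : B1 Ψ a = B2 Ψ a := by
  have hp' := hp_of_rank (p := p) hrk'
  apply dual_ext (A := A') χ hp' hχ u hu (B1 Ψ a) (B2 Ψ a)
  · apply LinearMap.ext
    intro g'
    rw [B1_apply, B2_apply, trA_one χ hrk hχ u hu hχp Ψ hΨ, one_mul, one_mul, trA_apply]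
  · intro i hi f' hf'
    obtain ⟨s, hs1, hs2, hsi⟩ := eigen_index (A := D R A') χ i hi
    rw [hsi] at hf'
    apply dual_ext (A := A') χ hp' hχ u hu (B1 Ψ a f') (B2 Ψ a f')
    · rw [B1_apply, B2_apply, trA_one χ hrk hχ u hu hχp Ψ hΨ, mul_one, mul_one, trA_apply]
    · intro j hj g' hg'
      obtain ⟨t, ht1, ht2, htj⟩ := eigen_index (A := D R A') χ j hj
      rw [htj] at hg'
      exact key_case χ hrk hrk' hχ u hu hχp Ψ hΨ H s t hs1 hs2 ht1 ht2 f' g' hf' hg' a ha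

end Key

end Groth.Agent.Lib.Helper24OT
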