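import Mathlib
import Groth.Agent.Lib.Helper24OTt

set_option autoImplicit false
universe u

namespace Groth.Agent.Lib.Helper24OT

open TensorProduct WithConv Coalgebra OortTate SGA3b CartDual Groth.Agent.Lib.Helper14OTEigen

section Ev2

variable {R : Type u} [CommRing R] {A : Type u} [CommRing A] [HopfAlgebra R A]
  [Module.Finite R A] [Module.Projective R A]

/-- Elements of `A ⊗ A` are separated by the pairings with `f ⊗ g`. -/
theorem eq_of_ev₂ (z z' : A ⊗[R] A)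
    (h : ∀ f g : D R A, ev₂ R A (f ⊗ₜ[R] g) z = ev₂ R A (f ⊗ₜ[R] g) z') : z = z' := by
  rw [← sub_eq_zero]
  apply (Module.forall_dual_apply_eq_zero_iff R (z - z')).mp
  intro L
  obtain ⟨y, rfl⟩ := (ev₂ R A).surjective L
  rw [map_sub, sub_eq_zero]
  induction y using TensorProduct.induction_on with
  | zero => simp
  | tmul f g => exact h f g
  | add y y' hy hy' => rw [map_add, LinearMap.add_apply, LinearMap.add_apply, hy, hy']

theorem ev₂_comul_apply (x y : D R A) (a : A) :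
    ev₂ R A (x ⊗ₜ[R] y) (comul (R := R) a) = (x * y) a := by
  rw [← Groth.Agent.Lib.Helper14OTDual.mul'_apply, LinearMap.mul'_apply]

end Ev2

section Final

variable {p : ℕ} [hpr : Fact p.Prime] {R : Type u} [CommRing R]
  {A : Type u} [CommRing A] [HopfAlgebra R A] [Coalgebra.IsCocomm R A] [Module.Finite R A]
  [Module.Projective R A]
  {A' : Type u} [CommRing A'] [HopfAlgebra R A'] [Coalgebra.IsCocomm R A'] [Module.Finite R A']
  [Module.Projective R A']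
  (χ : (ZMod p)ˣ →* Rˣ)

omit hpr [Coalgebra.IsCocomm R A] [Coalgebra.IsCocomm R A'] in
theorem ev₂_map_trA (Ψ : A →ₐ[R] A') (f' g' : D R A') (t : A ⊗[R] A) :
    ev₂ R A' (f' ⊗ₜ[R] g') (Algebra.TensorProduct.map Ψ Ψ t) =
      ev₂ R A (trA Ψ f' ⊗ₜ[R] trA Ψ g') t := by
  induction t using TensorProduct.induction_on with
  | zero => simp
  | tmul x y =>
    rw [Algebra.TensorProduct.map_tmul, ev₂_tmul, ev₂_tmul, trA_apply, trA_apply]
  | add t t' ht ht' => rw [map_add, map_add, map_add, ht, ht']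

/-- An algebra isomorphism respecting `I_1` and the pairing identity is a bialgebra isomorphism. -/
theorem bialgEquiv_of_key (hrk : ∀ q : PrimeSpectrum R, Module.rankAtStalk A q = p)
    (hrk' : ∀ q : PrimeSpectrum R, Module.rankAtStalk A' q = p)
    (hχ : ∀ m : (ZMod p)ˣ, m ≠ 1 → IsUnit ((χ m : R) - 1))
    (u : R) (hu : u * ((p - 1 : ℕ) : R) = 1)
    (hχp : ∀ m : (ZMod p)ˣ, ((χ m : Rˣ) : R) - (((m : ZMod p).val : ℕ) : R) ∈
      Ideal.span ({(p : R)} : Set R))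
    (Ψ : A ≃ₐ[R] A')
    (hΨ : ∀ a ∈ eigenAug R A p χ 1, (Ψ : A →ₐ[R] A') a ∈ eigenAug R A' p χ 1)
    (H : ∀ (m n : ℕ), m + n = p → ∀ (φ₁ : Fin m → D R A') (φ₂ : Fin n → D R A'),
      (∀ j, φ₁ j ∈ eigenAug R (D R A') p χ 1) → (∀ j, φ₂ j ∈ eigenAug R (D R A') p χ 1) →
      ∀ x ∈ eigenAug R A p χ 1,
        ((∏ j, trA (Ψ : A →ₐ[R] A') (φ₁ j)) * (∏ j, trA (Ψ : A →ₐ[R] A') (φ₂ j))) x =
          ((∏ j, φ₁ j) * (∏ j, φ₂ j)) ((Ψ : A →ₐ[R] A') x)) :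
    Nonempty (A ≃ₐc[R] A') := by
  refine ⟨BialgEquiv.ofAlgEquiv Ψ (counit_comp_of_I1 χ hrk hχ u hu hχp (Ψ : A →ₐ[R] A') hΨ) ?_⟩
  apply algHom_ext_I1 χ hrk u hu hχ hχp
  intro a ha
  rw [AlgHom.comp_apply, AlgHom.comp_apply]
  apply eq_of_ev₂
  intro f' g'
  change ev₂ R A' (f' ⊗ₜ[R] g') (Algebra.TensorProduct.map (Ψ : A →ₐ[R] A') (Ψ : A →ₐ[R] A')
    (comul (R := R) a)) = ev₂ R A' (f' ⊗ₜ[R] g') (comul (R := R) ((Ψ : A →ₐ[R] A') a))
  rw [ev₂_map_trA, ev₂_comul_apply, ev₂_comul_apply]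
  have h := key_pairing χ hrk hrk' hχ u hu hχp (Ψ : A →ₐ[R] A') hΨ H a ha
  have h2 := congrArg (fun B : D R A' →ₗ[R] D R A' →ₗ[R] R => B f' g') h
  exact h2

/-- Injectivity of the classification map (general, non-free form). -/
theorem classify_injective (hrk : ∀ q : PrimeSpectrum R, Module.rankAtStalk A q = p)
    (hrk' : ∀ q : PrimeSpectrum R, Module.rankAtStalk A' q = p)
    (hχ : ∀ m : (ZMod p)ˣ, m ≠ 1 → IsUnit ((χ m : R) - 1))
    (u : R) (hu : u * ((p - 1 : ℕ) : R) = 1)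
    (hχp : ∀ m : (ZMod p)ˣ, ((χ m : Rˣ) : R) - (((m : ZMod p).val : ℕ) : R) ∈
      Ideal.span ({(p : R)} : Set R))
    (θ : eigenAug R A p χ 1 ≃ₗ[R] eigenAug R A' p χ 1)
    (hθ : ∀ (f : Fin p → eigenAug R A p χ 1) (g : eigenAug R A p χ 1),
      (g : A) = ∏ i, (f i : A) → ((θ g : eigenAug R A' p χ 1) : A') = ∏ i, ((θ (f i)) : A'))
    (hθD : ∀ (φ : Fin p → eigenAug R (D R A) p χ 1)
      (φ' : Fin p → eigenAug R (D R A') p χ 1)
      (ψ : eigenAug R (D R A) p χ 1) (ψ' : eigenAug R (D R A') p χ 1),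
      (∀ i, ∀ x : eigenAug R A p χ 1,
        toDual R A (φ i : D R A) (x : A) =
          toDual R A' (φ' i : D R A') ((θ x : eigenAug R A' p χ 1) : A')) →
      (ψ : D R A) = ∏ i, (φ i : D R A) →
      (ψ' : D R A') = ∏ i, (φ' i : D R A') →
      ∀ x : eigenAug R A p χ 1,
        toDual R A (ψ : D R A) (x : A) =
          toDual R A' (ψ' : D R A') ((θ x : eigenAug R A' p χ 1) : A')) :
    Nonempty (A ≃ₐc[R] A') := by
  obtain ⟨Ψ, hΨθ⟩ := exists_algEquiv χ hrk u hu hχ hχp hrk' θ hθ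
  have hΨ : ∀ a ∈ eigenAug R A p χ 1, (Ψ : A →ₐ[R] A') a ∈ eigenAug R A' p χ 1 := by
    intro a ha
    have := hΨθ ⟨a, ha⟩
    change (Ψ : A →ₐ[R] A') a = _ at this
    rw [this]
    exact (θ ⟨a, ha⟩).2
  apply bialgEquiv_of_key χ hrk hrk' hχ u hu hχp Ψ hΨ
  intro m n hmn φ₁ φ₂ h₁ h₂ x hx
  subst hmn
  have hmem : ∀ i, Fin.append φ₁ φ₂ i ∈ eigenAug R (D R A') (m + n) χ 1 := by
    intro i
    refine Fin.addCases (fun j => ?_) (fun j => ?_) i
    · rw [Fin.append_left]; exact h₁ j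
    · rw [Fin.append_right]; exact h₂ j
  let φ' : Fin (m + n) → eigenAug R (D R A') (m + n) χ 1 := fun i => ⟨Fin.append φ₁ φ₂ i, hmem i⟩
  let φ : Fin (m + n) → eigenAug R (D R A) (m + n) χ 1 := fun i =>
    ⟨trA (Ψ : A →ₐ[R] A') (Fin.append φ₁ φ₂ i),
      trA_mem χ hrk hχ u hu hχp (Ψ : A →ₐ[R] A') hΨ 1 _ (hmem i)⟩
  have hψ : ∏ i, (φ i : D R A) ∈ eigenAug R (D R A) (m + n) χ 1 :=
    prod_p_mem_eigenAug (A := D R A) χ _ (fun i => (φ i).2)
  have hψ' : ∏ i, (φ' i : D R A') ∈ eigenAug R (D R A') (m + n) χ 1 :=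
    prod_p_mem_eigenAug (A := D R A') χ _ (fun i => (φ' i).2)
  have h := hθD φ φ' ⟨_, hψ⟩ ⟨_, hψ'⟩ (by
    intro i y
    change (Fin.append φ₁ φ₂ i) ((Ψ : A →ₐ[R] A') (y : A)) = (Fin.append φ₁ φ₂ i) ((θ y : A'))
    have := hΨθ y
    change (Ψ : A →ₐ[R] A') (y : A) = _ at this
    rw [this]) rfl rfl ⟨x, hx⟩
  have e1 : ∏ i, (φ i : D R A) =
      (∏ j, trA (Ψ : A →ₐ[R] A') (φ₁ j)) * (∏ j, trA (Ψ : A →ₐ[R] A') (φ₂ j)) := by
    rw [Fin.prod_univ_add]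
    congr 1
    · refine Finset.prod_congr rfl fun j _ => ?_
      change trA (Ψ : A →ₐ[R] A') (Fin.append φ₁ φ₂ (Fin.castAdd n j)) = _
      rw [Fin.append_left]
    · refine Finset.prod_congr rfl fun j _ => ?_
      change trA (Ψ : A →ₐ[R] A') (Fin.append φ₁ φ₂ (Fin.natAdd m j)) = _
      rw [Fin.append_right]
  have e2 : ∏ i, (φ' i : D R A') = (∏ j, φ₁ j) * (∏ j, φ₂ j) := by
    rw [Fin.prod_univ_add]
    congr 1
    · refine Finset.prod_congr rfl fun j _ => ?_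
      change Fin.append φ₁ φ₂ (Fin.castAdd n j) = _
      rw [Fin.append_left]
    · refine Finset.prod_congr rfl fun j _ => ?_
      change Fin.append φ₁ φ₂ (Fin.natAdd m j) = _
      rw [Fin.append_right]
  have hx' := hΨθ ⟨x, hx⟩
  change (Ψ : A →ₐ[R] A') x = _ at hx'
  rw [← e1, ← e2, hx']
  exact h

end Final

end Groth.Agent.Lib.Helper24OT
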