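import Mathlib
import Groth.Agent.Lib.Helper24OTu

set_option autoImplicit false
universe u

namespace Groth.Agent.Lib.Helper24OT

open TensorProduct WithConv Coalgebra OortTate SGA3b CartDual Groth.Agent.Lib.Helper14OTEigen

section Free

variable {p : ℕ} [hpr : Fact p.Prime] {R : Type u} [CommRing R]
  {A : Type u} [CommRing A] [HopfAlgebra R A] [Module.Finite R A] [Module.Projective R A]
  (χ : (ZMod p)ˣ →* Rˣ)

/-- A generator of `I_1` is torsion-free. -/
theorem gen_faithful (hrk : ∀ q : PrimeSpectrum R, Module.rankAtStalk A q = p)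
    (hχ : ∀ m : (ZMod p)ˣ, m ≠ 1 → IsUnit ((χ m : R) - 1))
    (u : R) (hu : u * ((p - 1 : ℕ) : R) = 1)
    (hχp : ∀ m : (ZMod p)ˣ, ((χ m : Rˣ) : R) - (((m : ZMod p).val : ℕ) : R) ∈
      Ideal.span ({(p : R)} : Set R))
    (x : A) (hx : Submodule.span R {x} = eigenAug R A p χ 1) (r : R) (h : r • x = 0) : r = 0 := by
  obtain ⟨hF, hP, hr1⟩ := eigen_facts χ hrk hχ u hu hχp 1
  haveI := hF
  haveI := hP
  apply rank_one_faithful hr1 r
  intro y
  apply Subtype.ext
  have hy : (y : A) ∈ Submodule.span R {x} := by rw [hx]; exact y.2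
  obtain ⟨s, hs⟩ := Submodule.mem_span_singleton.mp hy
  rw [Submodule.coe_smul, Submodule.coe_zero, ← hs, smul_comm, h, smul_zero]

/-- The free rank one structure of `I_1` given by a generator. -/
noncomputable def genEquiv (hrk : ∀ q : PrimeSpectrum R, Module.rankAtStalk A q = p)
    (hχ : ∀ m : (ZMod p)ˣ, m ≠ 1 → IsUnit ((χ m : R) - 1))
    (u : R) (hu : u * ((p - 1 : ℕ) : R) = 1)
    (hχp : ∀ m : (ZMod p)ˣ, ((χ m : Rˣ) : R) - (((m : ZMod p).val : ℕ) : R) ∈
      Ideal.span ({(p : R)} : Set R))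
    (x : A) (hx : Submodule.span R {x} = eigenAug R A p χ 1) : R ≃ₗ[R] eigenAug R A p χ 1 :=
  LinearEquiv.ofBijective
    (LinearMap.toSpanSingleton R (eigenAug R A p χ 1)
      ⟨x, hx ▸ Submodule.mem_span_singleton_self x⟩)
    ⟨by
      intro r s hrs
      have h1 := congrArg (fun y : eigenAug R A p χ 1 => (y : A)) hrs
      simp only [LinearMap.toSpanSingleton_apply, Submodule.coe_smul] at h1
      have h2 : (r - s) • x = 0 := by rw [sub_smul, h1, sub_self]
      exact sub_eq_zero.mp (gen_faithful χ hrk hχ u hu hχp x hx _ h2),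
    by
      intro y
      have hy : (y : A) ∈ Submodule.span R {x} := by rw [hx]; exact y.2
      obtain ⟨s, hs⟩ := Submodule.mem_span_singleton.mp hy
      refine ⟨s, Subtype.ext ?_⟩
      simp only [LinearMap.toSpanSingleton_apply, Submodule.coe_smul]
      exact hs⟩

theorem genEquiv_apply (hrk : ∀ q : PrimeSpectrum R, Module.rankAtStalk A q = p)
    (hχ : ∀ m : (ZMod p)ˣ, m ≠ 1 → IsUnit ((χ m : R) - 1))
    (u : R) (hu : u * ((p - 1 : ℕ) : R) = 1)
    (hχp : ∀ m : (ZMod p)ˣ, ((χ m : Rˣ) : R) - (((m : ZMod p).val : ℕ) : R) ∈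
      Ideal.span ({(p : R)} : Set R))
    (x : A) (hx : Submodule.span R {x} = eigenAug R A p χ 1) (r : R) :
    ((genEquiv χ hrk hχ u hu hχp x hx r : eigenAug R A p χ 1) : A) = r • x := rfl

theorem genEquiv_symm_smul (hrk : ∀ q : PrimeSpectrum R, Module.rankAtStalk A q = p)
    (hχ : ∀ m : (ZMod p)ˣ, m ≠ 1 → IsUnit ((χ m : R) - 1))
    (u : R) (hu : u * ((p - 1 : ℕ) : R) = 1)
    (hχp : ∀ m : (ZMod p)ˣ, ((χ m : Rˣ) : R) - (((m : ZMod p).val : ℕ) : R) ∈
      Ideal.span ({(p : R)} : Set R))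
    (x : A) (hx : Submodule.span R {x} = eigenAug R A p χ 1) (y : eigenAug R A p χ 1) :
    ((genEquiv χ hrk hχ u hu hχp x hx).symm y) • x = (y : A) := by
  have h := genEquiv_apply χ hrk hχ u hu hχp x hx ((genEquiv χ hrk hχ u hu hχp x hx).symm y)
  rw [LinearEquiv.apply_symm_apply] at h
  exact h.symm

end Free

section FreeMain

variable {p : ℕ} [hpr : Fact p.Prime] {R : Type u} [CommRing R]
  {A : Type u} [CommRing A] [HopfAlgebra R A] [Coalgebra.IsCocomm R A] [Module.Finite R A]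
  [Module.Projective R A]
  {A' : Type u} [CommRing A'] [HopfAlgebra R A'] [Coalgebra.IsCocomm R A'] [Module.Finite R A']
  [Module.Projective R A']
  (χ : (ZMod p)ˣ →* Rˣ)

omit hpr in
theorem prod_smul_const {B : Type*} [CommRing B] [Algebra R B] (r : Fin p → R) (y : B) :
    ∏ i, (r i • y) = (∏ i, r i) • y ^ p := by
  rw [Finset.prod_smul, Finset.prod_const, Finset.card_univ, Fintype.card_fin]

/-- Injectivity of the classification map in the free case. -/
theorem classify_free (hrk : ∀ q : PrimeSpectrum R, Module.rankAtStalk A q = p)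
    (hrk' : ∀ q : PrimeSpectrum R, Module.rankAtStalk A' q = p)
    (hχ : ∀ m : (ZMod p)ˣ, m ≠ 1 → IsUnit ((χ m : R) - 1))
    (u : R) (hu : u * ((p - 1 : ℕ) : R) = 1)
    (hχp : ∀ m : (ZMod p)ˣ, ((χ m : Rˣ) : R) - (((m : ZMod p).val : ℕ) : R) ∈
      Ideal.span ({(p : R)} : Set R))
    (x : A) (hx : Submodule.span R {x} = eigenAug R A p χ 1)
    (ξ : D R A) (hξ : Submodule.span R {ξ} = eigenAug R (D R A) p χ 1)
    (hxξ : toDual R A ξ x = 1)
    (x' : A') (hx' : Submodule.span R {x'} = eigenAug R A' p χ 1)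
    (ξ' : D R A') (hξ' : Submodule.span R {ξ'} = eigenAug R (D R A') p χ 1)
    (hxξ' : toDual R A' ξ' x' = 1)
    (α β α' β' : R) (hα : x ^ p = α • x) (hβ : ξ ^ p = β • ξ) (hα' : x' ^ p = α' • x')
    (hβ' : ξ' ^ p = β' • ξ')
    (v : Rˣ) (hαv : α' = ((v ^ (p - 1) : Rˣ) : R) * α)
    (hβv : β' = ((v⁻¹ ^ (p - 1) : Rˣ) : R) * β) :
    Nonempty (A ≃ₐc[R] A') := by
  have hp1 : p = (p - 1) + 1 := by have := hpr.1.two_le; omega
  set c : R := ((v⁻¹ : Rˣ) : R) with hc
  have hcv : c * (v : R) = 1 := by rw [hc, Units.inv_mul]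
  have hcu : IsUnit c := (v⁻¹).isUnit
  have hx'' : Submodule.span R {c • x'} = eigenAug R A' p χ 1 := by
    rw [Submodule.span_singleton_smul_eq hcu, hx']
  set e := genEquiv χ hrk hχ u hu hχp x hx with he
  set e'' := genEquiv χ hrk' hχ u hu hχp (c • x') hx'' with he''
  have hαc : α * c = c ^ p * α' := by
    rw [hαv, Units.val_pow_eq_pow_val]
    conv_rhs => rw [hp1, pow_succ]
    calc α * c = (c * (v : R)) ^ (p - 1) * (α * c) := by rw [hcv, one_pow, one_mul]
      _ = c ^ (p - 1) * c * ((v : R) ^ (p - 1) * α) := by rw [mul_pow]; ring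
  have hβc : c ^ p * β = β' * c := by
    rw [hβv, Units.val_pow_eq_pow_val]
    conv_lhs => rw [hp1, pow_succ]
    ring
  have hθy : ∀ y : eigenAug R A p χ 1,
      (((e.symm ≪≫ₗ e'') y : eigenAug R A' p χ 1) : A') = (e.symm y) • c • x' := by
    intro y
    rw [LinearEquiv.trans_apply]
    exact genEquiv_apply χ hrk' hχ u hu hχp (c • x') hx'' (e.symm y)
  have hy : ∀ y : eigenAug R A p χ 1, (y : A) = (e.symm y) • x := fun y =>
    (genEquiv_symm_smul χ hrk hχ u hu hχp x hx y).symm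
  apply classify_injective χ hrk hrk' hχ u hu hχp (e.symm ≪≫ₗ e'')
  · intro f g hg
    have h1 : (e.symm g) • x = ((∏ i, e.symm (f i)) * α) • x := by
      rw [← hy g, hg, mul_smul, ← hα, ← prod_smul_const]
      exact Finset.prod_congr rfl fun i _ => hy (f i)
    have h2 : e.symm g = (∏ i, e.symm (f i)) * α := by
      have h3 : (e.symm g - (∏ i, e.symm (f i)) * α) • x = 0 := by rw [sub_smul, h1, sub_self]
      exact sub_eq_zero.mp (gen_faithful χ hrk hχ u hu hχp x hx _ h3)
    rw [hθy g, h2]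
    have h4 : ∏ i, (((e.symm ≪≫ₗ e'') (f i) : eigenAug R A' p χ 1) : A') =
        ∏ i, ((e.symm (f i)) • (c • x')) := Finset.prod_congr rfl fun i _ => hθy (f i)
    rw [h4, prod_smul_const, smul_pow, hα']
    simp only [smul_smul]
    congr 1
    rw [mul_assoc, hαc]
  · intro φ φ' ψ ψ' hcond hψ hψ' y
    have ht : ∀ i, ∃ t : R, t • ξ = (φ i : D R A) := fun i =>
      Submodule.mem_span_singleton.mp (by rw [hξ]; exact (φ i).2)
    choose t ht using ht
    have ht' : ∀ i, ∃ t : R, t • ξ' = (φ' i : D R A') := fun i =>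
      Submodule.mem_span_singleton.mp (by rw [hξ']; exact (φ' i).2)
    choose t' ht' using ht'
    have hxmem : x ∈ eigenAug R A p χ 1 := hx ▸ Submodule.mem_span_singleton_self x
    have hex : e.symm ⟨x, hxmem⟩ = 1 := by
      apply e.injective
      rw [LinearEquiv.apply_symm_apply]
      apply Subtype.ext
      rw [he, genEquiv_apply, one_smul]
    have htt : ∀ i, t i = t' i * c := by
      intro i
      have h1 : toDual R A (φ i : D R A) x = toDual R A' (φ' i : D R A')
          ((((e.symm ≪≫ₗ e'') ⟨x, hxmem⟩ : eigenAug R A' p χ 1)) : A') := hcond i ⟨x, hxmem⟩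
      have e1 : toDual R A (φ i : D R A) x = t i := by
        rw [← ht i, map_smul, LinearMap.smul_apply, hxξ, smul_eq_mul, mul_one]
      have e2 : toDual R A' (φ' i : D R A')
          ((((e.symm ≪≫ₗ e'') ⟨x, hxmem⟩ : eigenAug R A' p χ 1)) : A') = t' i * c := by
        rw [hθy, hex, one_smul, ← ht' i, map_smul, map_smul, LinearMap.smul_apply, hxξ', smul_eq_mul,
          smul_eq_mul, mul_one, mul_comm]
      rw [e1, e2] at h1
      exact h1
    have hψ2 : (ψ : D R A) = ((∏ i, t i) * β) • ξ := by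
      rw [hψ, mul_smul, ← hβ, ← prod_smul_const]
      exact Finset.prod_congr rfl fun i _ => (ht i).symm
    have hψ2' : (ψ' : D R A') = ((∏ i, t' i) * β') • ξ' := by
      rw [hψ', mul_smul, ← hβ', ← prod_smul_const]
      exact Finset.prod_congr rfl fun i _ => (ht' i).symm
    have hprod : ∏ i, t i = (∏ i, t' i) * c ^ p := by
      rw [Finset.prod_congr rfl fun i _ => htt i, Finset.prod_mul_distrib, Finset.prod_const,
        Finset.card_univ, Fintype.card_fin]
    have eL : toDual R A (ψ : D R A) (y : A) = (∏ i, t i) * β * e.symm y := by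
      rw [hψ2, map_smul, LinearMap.smul_apply]
      conv_lhs => rw [hy y]
      rw [map_smul, hxξ, smul_eq_mul, smul_eq_mul, mul_one]
    have eR : toDual R A' (ψ' : D R A') ((((e.symm ≪≫ₗ e'') y : eigenAug R A' p χ 1)) : A') =
        (∏ i, t' i) * β' * (e.symm y * c) := by
      rw [hθy y, hψ2']
      simp only [map_smul, LinearMap.smul_apply, smul_eq_mul]
      rw [hxξ']
      ring
    rw [eL, eR, hprod]
    calc (∏ i, t' i) * c ^ p * β * (e.symm y) = (∏ i, t' i) * (c ^ p * β) * (e.symm y) := by ring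
      _ = (∏ i, t' i) * (β' * c) * (e.symm y) := by rw [hβc]
      _ = (∏ i, t' i) * β' * ((e.symm y) * c) := by ring

end FreeMain

end Groth.Agent.Lib.Helper24OT
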