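import Mathlib

set_option autoImplicit false
universe u

namespace Groth.Agent.Lib.Helper24OmegaLoc

open TensorProduct

theorem ker_mk_le (P B : Type u) [CommRing P] [CommRing B] [Algebra P B]
    (h : Function.Surjective (algebraMap P B)) (M : Type u) [AddCommGroup M] [Module P M] (m : M)
    (hm : (1 : B) ⊗ₜ[P] m = 0) : m ∈ (RingHom.ker (algebraMap P B)) • (⊤ : Submodule P M) := by
  have hex : Function.Exact ((RingHom.ker (algebraMap P B)).subtype :
      (RingHom.ker (algebraMap P B)) →ₗ[P] P) (Algebra.linearMap P B) := by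
    intro x
    constructor
    · intro hx; exact ⟨⟨x, hx⟩, rfl⟩
    · rintro ⟨y, rfl⟩; exact y.2
  have hex2 := rTensor_exact M hex h
  have h1 : (LinearMap.rTensor M (Algebra.linearMap P B)) ((1 : P) ⊗ₜ[P] m) = 0 := by
    rw [LinearMap.rTensor_tmul, Algebra.linearMap_apply, map_one]; exact hm
  obtain ⟨z, hz⟩ := (hex2 _).mp h1
  have h2 : ∀ z : (RingHom.ker (algebraMap P B)) ⊗[P] M,
      TensorProduct.lid P M (LinearMap.rTensor M (RingHom.ker (algebraMap P B)).subtype z) ∈
        (RingHom.ker (algebraMap P B)) • (⊤ : Submodule P M) := by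
    intro z
    induction z using TensorProduct.induction_on with
    | zero => simp
    | tmul g m' =>
      rw [LinearMap.rTensor_tmul, TensorProduct.lid_tmul]
      exact Submodule.smul_mem_smul g.2 Submodule.mem_top
    | add x y hx hy => rw [map_add, map_add]; exact Submodule.add_mem _ hx hy
  have := h2 z
  rw [hz, TensorProduct.lid_tmul, one_smul] at this
  exact this

theorem ker_map_le (A P B : Type u) [CommRing A] [CommRing P] [CommRing B] [Algebra A P]
    [Algebra A B] [Algebra P B] [IsScalarTower A P B]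
    (h : Function.Surjective (algebraMap P B)) :
    LinearMap.ker (KaehlerDifferential.map A A P B) ≤
      (RingHom.ker (algebraMap P B)) • (⊤ : Submodule P (Ω[P⁄A])) ⊔
        Submodule.span P ((KaehlerDifferential.D A P) ''
          (RingHom.ker (algebraMap P B) : Set P)) := by
  intro m hm
  have h0 : KaehlerDifferential.mapBaseChange A P B ((1 : B) ⊗ₜ m) = 0 := by
    rw [KaehlerDifferential.mapBaseChange_tmul, one_smul]; exact LinearMap.mem_ker.mp hm
  obtain ⟨x, hx⟩ :=
    (KaehlerDifferential.exact_kerCotangentToTensor_mapBaseChange A P B h _).mp h0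
  obtain ⟨g, rfl⟩ := Ideal.toCotangent_surjective _ x
  rw [KaehlerDifferential.kerCotangentToTensor_toCotangent] at hx
  have h3 : (1 : B) ⊗ₜ[P] (m - KaehlerDifferential.D A P g.1) = 0 := by
    rw [TensorProduct.tmul_sub, ← hx, sub_self]
  have h4 := ker_mk_le P B h _ _ h3
  have : m = (m - KaehlerDifferential.D A P g.1) + KaehlerDifferential.D A P g.1 := by abel
  rw [this]
  exact Submodule.add_mem _ (Submodule.mem_sup_left h4)
    (Submodule.mem_sup_right (Submodule.subset_span ⟨g.1, g.2, rfl⟩))

theorem localized_eq_top_iff {P : Type u} [CommRing P] (S : Submonoid P) {M : Type u}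
    [AddCommGroup M] [Module P M] (N : Submodule P M) :
    Submodule.localized' (Localization S) S (LocalizedModule.mkLinearMap S M) N = ⊤ ↔
      ∀ m : M, ∃ s ∈ S, s • m ∈ N := by
  constructor
  · intro H m
    have hm : LocalizedModule.mkLinearMap S M m ∈
        Submodule.localized' (Localization S) S (LocalizedModule.mkLinearMap S M) N := by
      rw [H]; trivial
    obtain ⟨n', hn', s, hs⟩ := hm
    rw [IsLocalizedModule.mk'_eq_iff] at hs
    have hs' : LocalizedModule.mkLinearMap S M n' =
        LocalizedModule.mkLinearMap S M ((s : P) • m) := by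
      rw [hs, map_smul]; rfl
    obtain ⟨u, hu⟩ := (IsLocalizedModule.eq_iff_exists S (LocalizedModule.mkLinearMap S M)).mp hs'
    refine ⟨(u : P) * s, S.mul_mem u.2 s.2, ?_⟩
    rw [mul_smul]
    have : (u : P) • ((s : P) • m) = (u : P) • n' := by
      simpa [Submonoid.smul_def] using hu.symm
    rw [this]; exact N.smul_mem _ hn'
  · intro H
    rw [eq_top_iff]
    rintro x -
    obtain ⟨⟨m, t⟩, rfl⟩ :=
      IsLocalizedModule.mk'_surjective S (LocalizedModule.mkLinearMap S M) x
    obtain ⟨s, hs, hsm⟩ := H m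
    refine ⟨s • m, hsm, ⟨s, hs⟩ * t, ?_⟩
    exact IsLocalizedModule.mk'_cancel_left (f := LocalizedModule.mkLinearMap S M) m ⟨s, hs⟩ t

theorem loc_top_iff {P : Type u} [CommRing P] (𝔮 : Ideal P) [𝔮.IsPrime] {M : Type u}
    [AddCommGroup M] [Module P M] [Module.Finite P M]
    (I : Ideal P) (hI : I ≤ 𝔮) (D' N : Submodule P M) (h1 : D' ≤ N) (h2 : N ≤ I • ⊤ ⊔ D') :
    Submodule.localized' (Localization.AtPrime 𝔮) 𝔮.primeCompl
        (LocalizedModule.mkLinearMap 𝔮.primeCompl M) N = ⊤ ↔
    Submodule.localized' (Localization.AtPrime 𝔮) 𝔮.primeCompl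
        (LocalizedModule.mkLinearMap 𝔮.primeCompl M) D' = ⊤ := by
  have gi := Submodule.localized'gi (Localization.AtPrime 𝔮) 𝔮.primeCompl
    (LocalizedModule.mkLinearMap 𝔮.primeCompl M)
  constructor
  · intro hN
    have h3 : (⊤ : Submodule (Localization.AtPrime 𝔮) (LocalizedModule 𝔮.primeCompl M)) ≤
        Submodule.localized' (Localization.AtPrime 𝔮) 𝔮.primeCompl
          (LocalizedModule.mkLinearMap 𝔮.primeCompl M) D' ⊔
        (Submodule.localized' (Localization.AtPrime 𝔮) 𝔮.primeCompl
          (Algebra.linearMap P (Localization.AtPrime 𝔮)) I) •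
          (⊤ : Submodule (Localization.AtPrime 𝔮) (LocalizedModule 𝔮.primeCompl M)) := by
      refine hN.symm.le.trans ((gi.gc.monotone_l h2).trans ?_)
      rw [gi.gc.l_sup, Submodule.localized'_smul, Submodule.localized'_top, sup_comm]
    have h4 := Submodule.le_of_le_smul_of_le_jacobson_bot (Module.Finite.fg_top) ?_ h3
    · exact top_le_iff.mp h4
    · rw [IsLocalRing.jacobson_eq_maximalIdeal ⊥ bot_ne_top]
      rintro _ ⟨a, ha, s, rfl⟩
      rw [← IsLocalization.mk'_eq_mk', IsLocalization.AtPrime.mk'_mem_maximal_iff _ 𝔮]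
      exact hI ha
  · intro hD
    exact top_le_iff.mp (hD ▸ gi.gc.monotone_l h1)

theorem main_alg (A P B : Type u) [CommRing A] [CommRing P] [CommRing B] [Algebra A P]
    [Algebra A B] [Algebra P B] [IsScalarTower A P B] [Module.Finite P (Ω[P⁄A])]
    (h : Function.Surjective (algebraMap P B)) (q : Ideal B) [q.IsPrime] :
    Subsingleton (LocalizedModule q.primeCompl (Ω[B⁄A])) ↔
      Submodule.span (Localization.AtPrime (q.comap (algebraMap P B)))
        ((LocalizedModule.mkLinearMap (q.comap (algebraMap P B)).primeCompl (Ω[P⁄A])) ''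
          ((KaehlerDifferential.D A P) '' (RingHom.ker (algebraMap P B) : Set P))) = ⊤ := by
  have hI : RingHom.ker (algebraMap P B) ≤ q.comap (algebraMap P B) := fun x hx => by
    show algebraMap P B x ∈ q
    rw [RingHom.mem_ker.mp hx]; exact q.zero_mem
  have h1 : Submodule.span P ((KaehlerDifferential.D A P) ''
      (RingHom.ker (algebraMap P B) : Set P)) ≤ LinearMap.ker (KaehlerDifferential.map A A P B) := by
    rw [Submodule.span_le]
    rintro _ ⟨g, hg, rfl⟩
    show KaehlerDifferential.map A A P B (KaehlerDifferential.D A P g) = 0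
    rw [KaehlerDifferential.map_D, RingHom.mem_ker.mp hg, map_zero]
  have h2 := ker_map_le A P B h
  have hπsurj : Function.Surjective (KaehlerDifferential.map A A P B) :=
    KaehlerDifferential.map_surjective_of_surjective A A P B h
  rw [← Submodule.localized'_span (Localization.AtPrime (q.comap (algebraMap P B)))
    (q.comap (algebraMap P B)).primeCompl
    (LocalizedModule.mkLinearMap (q.comap (algebraMap P B)).primeCompl (Ω[P⁄A])),
    ← loc_top_iff (q.comap (algebraMap P B)) _ hI _ _ h1 h2, localized_eq_top_iff,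
    IsLocalizedModule.subsingleton_iff q.primeCompl
      (LocalizedModule.mkLinearMap q.primeCompl (Ω[B⁄A]))]
  constructor
  · intro H m
    obtain ⟨r, hr, hrm⟩ := H (KaehlerDifferential.map A A P B m)
    obtain ⟨s, rfl⟩ := h r
    refine ⟨s, hr, ?_⟩
    rw [LinearMap.mem_ker, map_smul, ← algebraMap_smul B s]; exact hrm
  · intro H ω
    obtain ⟨m, rfl⟩ := hπsurj ω
    obtain ⟨s, hs, hsm⟩ := H m
    refine ⟨algebraMap P B s, hs, ?_⟩
    rw [algebraMap_smul, ← map_smul]; exact LinearMap.mem_ker.mp hsm

theorem s9568 {A B : Type u} [CommRing A] [CommRing B]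
    [Algebra A B] (n : ℕ) (φ : MvPolynomial (Fin n) A →ₐ[A] B) (hφ : Function.Surjective φ)
    (q : Ideal B) [q.IsPrime] :
    Subsingleton (LocalizedModule q.primeCompl (KaehlerDifferential A B)) ↔
      Submodule.span (Localization.AtPrime (q.comap φ.toRingHom))
        ((LocalizedModule.mkLinearMap (q.comap φ.toRingHom).primeCompl
            (KaehlerDifferential A (MvPolynomial (Fin n) A))) ''
          ((KaehlerDifferential.D A (MvPolynomial (Fin n) A)) '' (RingHom.ker φ.toRingHom : Set (MvPolynomial (Fin n) A)))) = ⊤ := by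
  letI : Algebra (MvPolynomial (Fin n) A) B := φ.toRingHom.toAlgebra
  haveI : IsScalarTower A (MvPolynomial (Fin n) A) B :=
    IsScalarTower.of_algebraMap_eq (fun a => (φ.commutes a).symm)
  exact main_alg A (MvPolynomial (Fin n) A) B hφ q

end Groth.Agent.Lib.Helper24OmegaLoc
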