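import Mathlib

/-!
# The semisimple part lies in the closure of the conjugacy class

Induction on the nilpotency index of `N`: with `W = ker N^m` (where `N^(m+1) = 0`) and an `S`-stable
complement `W'`, the one-parameter family `A_t = P + t (1 - P)` conjugates `S + N` to
`S + N P + t N (1 - P)`, which specialises at `t = 0` to `S + N P`, and `(N P)^m = 0`.
-/

namespace Groth.Agent.Lib.Helper24OrbitSS

open Matrix

variable {k : Type*} [Field k] {n : ℕ}

/-- evaluation of a polynomial in the matrix entries along an affine line is a polynomial. -/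
theorem poly_line [Infinite k] (F : MvPolynomial (Fin n × Fin n) k)
    (M0 M1 : Matrix (Fin n) (Fin n) k)
    (h : ∀ t : k, t ≠ 0 → MvPolynomial.eval (fun p => (M0 + t • M1) p.1 p.2) F = 0) :
    MvPolynomial.eval (fun p => M0 p.1 p.2) F = 0 := by
  classical
  let v : Fin n × Fin n → Polynomial k :=
    fun p => Polynomial.C (M0 p.1 p.2) + Polynomial.X * Polynomial.C (M1 p.1 p.2)
  let g : Polynomial k := MvPolynomial.aeval v F
  have key : ∀ t : k, g.eval t = MvPolynomial.eval (fun p => (M0 + t • M1) p.1 p.2) F := by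
    intro t
    have h1 : ((Polynomial.evalRingHom t).comp
        (MvPolynomial.aeval v : MvPolynomial (Fin n × Fin n) k →ₐ[k] Polynomial k).toRingHom) =
        MvPolynomial.eval (fun p => (M0 + t • M1) p.1 p.2) := by
      apply MvPolynomial.ringHom_ext
      · intro r
        simp
      · intro i
        simp [v]
        exact mul_comm _ _
    exact congrArg (fun φ => φ F) h1
  have hg : g = 0 := by
    apply Polynomial.eq_zero_of_infinite_isRoot
    have : Set.Infinite ({0}ᶜ : Set k) := (Set.finite_singleton (0 : k)).infinite_compl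
    refine this.mono ?_
    intro t ht
    show g.IsRoot t
    rw [Polynomial.IsRoot, key t]
    exact h t ht
  have h0 := key 0
  rw [hg] at h0
  simp only [Polynomial.eval_zero, zero_smul, add_zero] at h0
  exact h0.symm

/-- One step: an idempotent `P` commuting with `S`, with `P N = N` and `N^m P = 0`. -/
theorem step (S N : Matrix (Fin n) (Fin n) k)
    (hS : Module.End.IsSemisimple (Matrix.toLin' S)) (hSN : Commute S N) (m : ℕ)
    (hN : N ^ (m + 1) = 0) :
    ∃ P : Matrix (Fin n) (Fin n) k, P * P = P ∧ Commute P S ∧ P * N = N ∧ N ^ m * P = 0 := by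
  classical
  set f : Module.End k (Fin n → k) := Matrix.toLin' S with hf
  set g : Module.End k (Fin n → k) := Matrix.toLin' N with hg
  have hfg : Commute f g := by
    show f * g = g * f
    rw [hf, hg, Module.End.mul_eq_comp, Module.End.mul_eq_comp, ← Matrix.toLin'_mul,
      ← Matrix.toLin'_mul, hSN.eq]
  have hgpow : ∀ j : ℕ, g ^ j = Matrix.toLin' (N ^ j) := by
    intro j
    induction j with
    | zero => simp [Module.End.one_eq_id]
    | succ j ih => rw [pow_succ, pow_succ, Matrix.toLin'_mul, ih, Module.End.mul_eq_comp]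
  have hgN : g ^ (m + 1) = 0 := by rw [hgpow, hN]; simp
  let W : Submodule k (Fin n → k) := LinearMap.ker (g ^ m)
  have hW : W ∈ Module.End.invtSubmodule f := by
    rw [Module.End.mem_invtSubmodule]
    intro x hx
    rw [Submodule.mem_comap, LinearMap.mem_ker]
    have : (g ^ m) (f x) = f ((g ^ m) x) := by
      have := (hfg.pow_right m).eq
      exact (congrArg (fun φ => φ x) this).symm
    rw [this, LinearMap.mem_ker.mp hx, map_zero]
  obtain ⟨q, hq, hc⟩ := (Module.End.isSemisimple_iff.mp hS) W hW
  set π : Module.End k (Fin n → k) := W.projection q hc with hπ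
  have hidem : IsIdempotentElem π := Submodule.isIdempotentElem_projection hc
  have hcomm : Commute π f := by
    rw [LinearMap.IsIdempotentElem.commute_iff hidem, hπ, Submodule.range_projection,
      Submodule.ker_projection]
    exact ⟨hW, hq⟩
  have hrange : ∀ x, g x ∈ W := by
    intro x
    rw [LinearMap.mem_ker]
    have : (g ^ m) (g x) = (g ^ (m + 1)) x := by
      rw [pow_succ, Module.End.mul_apply]
    rw [this, hgN]; rfl
  have hπg : π * g = g := by
    apply LinearMap.ext
    intro x
    rw [Module.End.mul_apply]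
    exact Submodule.projection_apply_of_mem_left hc (hrange x)
  have hgπ : g ^ m * π = 0 := by
    apply LinearMap.ext
    intro x
    rw [Module.End.mul_apply]
    have : π x ∈ W := Submodule.projection_apply_mem hc x
    exact LinearMap.mem_ker.mp this
  refine ⟨LinearMap.toMatrix' π, ?_, ?_, ?_, ?_⟩
  · apply Matrix.toLin'.injective
    rw [Matrix.toLin'_mul, Matrix.toLin'_toMatrix', ← Module.End.mul_eq_comp]
    exact hidem.eq
  · show _ = _
    apply Matrix.toLin'.injective
    rw [Matrix.toLin'_mul, Matrix.toLin'_mul, Matrix.toLin'_toMatrix', ← Module.End.mul_eq_comp,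
      ← Module.End.mul_eq_comp]
    exact hcomm.eq
  · apply Matrix.toLin'.injective
    rw [Matrix.toLin'_mul, Matrix.toLin'_toMatrix', ← Module.End.mul_eq_comp]
    exact hπg
  · apply Matrix.toLin'.injective
    rw [Matrix.toLin'_mul, Matrix.toLin'_toMatrix', ← Module.End.mul_eq_comp, ← hgpow]
    rw [hgπ]; simp

/-- the algebra of the one-parameter conjugation. -/
theorem conj_id {R : Type*} [Ring R] [Algebra k R] (P S N : R) (t : k) (ht : t ≠ 0)
    (hPP : P * P = P) (hPS : P * S = S * P) (hPN : P * N = N) :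
    (P + t⁻¹ • (1 - P)) * (P + t • (1 - P)) = 1 ∧
    (P + t⁻¹ • (1 - P)) * (S + N) * (P + t • (1 - P)) = S + N * P + t • (N * (1 - P)) := by
  obtain ⟨Q, hQ⟩ : ∃ Q, Q = 1 - P := ⟨_, rfl⟩
  rw [← hQ]
  have hPQ : P * Q = 0 := by rw [hQ, mul_sub, mul_one, hPP, sub_self]
  have hQP : Q * P = 0 := by rw [hQ, sub_mul, one_mul, hPP, sub_self]
  have hQQ : Q * Q = Q := by rw [hQ, mul_sub, mul_one, sub_mul, one_mul, hPP, sub_self, sub_zero]
  have hQN : Q * N = 0 := by rw [hQ, sub_mul, one_mul, hPN, sub_self]
  have hQS : Q * S = S * Q := by rw [hQ, sub_mul, mul_sub, one_mul, mul_one, hPS]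
  have hsum : P + Q = 1 := by rw [hQ]; abel
  have htt : t⁻¹ * t = 1 := inv_mul_cancel₀ ht
  have htt' : t * t⁻¹ = 1 := mul_inv_cancel₀ ht
  constructor
  · rw [add_mul, mul_add, mul_add, hPP, mul_smul_comm, hPQ, smul_zero, add_zero, smul_mul_assoc,
      hQP, smul_zero, zero_add, smul_mul_assoc, mul_smul_comm, hQQ, smul_smul, htt, one_smul, hsum]
  · have h1 : (P + t⁻¹ • Q) * (S + N) = S * P + N + t⁻¹ • (S * Q) := by
      rw [add_mul, mul_add, mul_add, hPS, hPN, smul_mul_assoc, smul_mul_assoc, hQS, hQN, smul_zero,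
        add_zero]
    rw [h1]
    have e1 : (S * P + N + t⁻¹ • (S * Q)) * P = S * P + N * P := by
      rw [add_mul, add_mul, smul_mul_assoc, mul_assoc, hPP, mul_assoc, hQP, mul_zero, smul_zero,
        add_zero]
    have e2 : (S * P + N + t⁻¹ • (S * Q)) * (t • Q) = t • (N * Q) + S * Q := by
      rw [mul_smul_comm, add_mul, add_mul, smul_mul_assoc, mul_assoc S P Q, hPQ, mul_zero, zero_add,
        mul_assoc S Q Q, hQQ, smul_add, smul_smul, htt', one_smul]
    rw [mul_add, e1, e2]
    have : S = S * P + S * Q := by rw [← mul_add, hsum, mul_one]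
    conv_rhs => rw [this]
    abel

theorem main_aux [Infinite k] (S : Matrix (Fin n) (Fin n) k)
    (hS : Module.End.IsSemisimple (Matrix.toLin' S))
    (F : MvPolynomial (Fin n × Fin n) k) :
    ∀ (m : ℕ) (N : Matrix (Fin n) (Fin n) k), N ^ (m + 1) = 0 → Commute S N →
      (∀ A : Matrix (Fin n) (Fin n) k, IsUnit A.det →
        MvPolynomial.eval (fun p => (A * (S + N) * A⁻¹) p.1 p.2) F = 0) →
      MvPolynomial.eval (fun p => S p.1 p.2) F = 0 := by
  intro m
  induction m with
  | zero =>
    intro N hN _ hF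
    have hN0 : N = 0 := by simpa using hN
    have := hF 1 (by simp)
    simpa [hN0] using this
  | succ m ih =>
    intro N hN hSN hF
    obtain ⟨P, hPP, hPS, hPN, hNP⟩ := step S N hS hSN (m + 1) hN
    have hpow : ∀ j : ℕ, (N * P) ^ (j + 1) = N ^ (j + 1) * P := by
      intro j
      induction j with
      | zero => simp
      | succ j ihj =>
        rw [pow_succ, ihj, pow_succ _ (j + 1), mul_assoc, ← mul_assoc P N P, hPN, mul_assoc]
    apply ih (N * P)
    · rw [hpow, hNP]
    · show S * (N * P) = N * P * S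
      rw [← mul_assoc, hSN.eq, mul_assoc, mul_assoc, hPS.eq]
    · intro A hA
      have hline := poly_line F (A * (S + N * P) * A⁻¹) (A * (N * (1 - P)) * A⁻¹) ?_
      · exact hline
      intro t ht
      obtain ⟨hinv, hconj⟩ := conj_id (k := k) P S N t ht hPP hPS.eq hPN
      have hinv' : (P + t • (1 - P)) * (P + t⁻¹ • (1 - P)) = 1 := by
        have := (conj_id (k := k) P S N t⁻¹ (inv_ne_zero ht) hPP hPS.eq hPN).1
        rwa [inv_inv] at this
      have hAA : A * A⁻¹ = 1 := Matrix.mul_nonsing_inv A hA
      have hright : (A * (P + t⁻¹ • (1 - P))) * ((P + t • (1 - P)) * A⁻¹) = 1 := by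
        rw [mul_assoc, ← mul_assoc (P + t⁻¹ • (1 - P)), hinv, one_mul, hAA]
      have hdet : IsUnit (A * (P + t⁻¹ • (1 - P))).det :=
        Matrix.isUnit_det_of_right_inverse hright
      have hinvEq : (A * (P + t⁻¹ • (1 - P)))⁻¹ = (P + t • (1 - P)) * A⁻¹ :=
        Matrix.inv_eq_right_inv hright
      have := hF _ hdet
      rw [hinvEq] at this
      have heq : A * (P + t⁻¹ • (1 - P)) * (S + N) * ((P + t • (1 - P)) * A⁻¹) =
          A * (S + N * P) * A⁻¹ + t • (A * (N * (1 - P)) * A⁻¹) := by
        have : A * (P + t⁻¹ • (1 - P)) * (S + N) * ((P + t • (1 - P)) * A⁻¹) =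
            A * ((P + t⁻¹ • (1 - P)) * (S + N) * (P + t • (1 - P))) * A⁻¹ := by
          simp only [mul_assoc]
        rw [this, hconj]
        simp only [mul_add, add_mul, mul_smul_comm, smul_mul_assoc]
      rw [heq] at this
      exact this

theorem main [IsAlgClosed k] (B S N : Matrix (Fin n) (Fin n) k)
    (hS : Module.End.IsSemisimple (Matrix.toLin' S))
    (hN : IsNilpotent N) (hSN : Commute S N) (hB : B = S + N)
    (F : MvPolynomial (Fin n × Fin n) k)
    (hF : ∀ A : Matrix (Fin n) (Fin n) k, IsUnit A.det →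
      MvPolynomial.eval (fun p => (A * B * A⁻¹) p.1 p.2) F = 0) :
    MvPolynomial.eval (fun p => S p.1 p.2) F = 0 := by
  obtain ⟨m, hm⟩ := hN
  have : Infinite k := IsAlgClosed.instInfinite
  subst hB
  exact main_aux S hS F m N (by rw [pow_succ, hm, zero_mul]) hSN hF

end Groth.Agent.Lib.Helper24OrbitSS
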