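import Mathlib
import Groth.Agent.Lib.Helper24OrbitSS

/-!
# Orbit closures of matrices meet iff the semisimple parts are conjugate

* `exists_equiv_of_charpoly_eq`: semisimple endomorphisms of a finite-dimensional space over an
  algebraically closed field with the same characteristic polynomial are conjugate.
* `charpoly_eq_of_mem_closure`: the characteristic polynomial is constant on the Zariski closure
  of a conjugation orbit.
* `main`: the statement on meeting orbit closures.
-/

namespace Groth.Agent.Lib.Helper24OrbitMeet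

open Matrix Module

section Conj

variable {K V : Type*} [Field K] [IsAlgClosed K] [AddCommGroup V] [Module K V]
  [FiniteDimensional K V]

theorem finrank_eigenspace_of_isSemisimple (f : Module.End K V) (hf : f.IsSemisimple) (μ : K) :
    finrank K (f.eigenspace μ) = f.charpoly.rootMultiplicity μ := by
  rw [← hf.isFinitelySemisimple.maxGenEigenspace_eq_eigenspace,
    LinearMap.finrank_maxGenEigenspace_eq]

/-- Semisimple endomorphisms with the same characteristic polynomial are conjugate. -/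
theorem exists_equiv_of_charpoly_eq (f g : Module.End K V) (hf : f.IsSemisimple)
    (hg : g.IsSemisimple) (h : f.charpoly = g.charpoly) :
    ∃ φ : V ≃ₗ[K] V, ∀ x, φ (f x) = g (φ x) := by
  classical
  let m : K → ℕ := fun μ => f.charpoly.rootMultiplicity μ
  have hfin_f : ∀ μ, finrank K (f.eigenspace μ) = m μ :=
    fun μ => finrank_eigenspace_of_isSemisimple f hf μ
  have hfin_g : ∀ μ, finrank K (g.eigenspace μ) = m μ := by
    intro μ
    rw [finrank_eigenspace_of_isSemisimple g hg μ, ← h]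
  have int_f : DirectSum.IsInternal f.eigenspace :=
    DirectSum.isInternal_submodule_of_iSupIndep_of_iSup_eq_top f.eigenspaces_iSupIndep
      hf.iSup_eigenspace_eq_top
  have int_g : DirectSum.IsInternal g.eigenspace :=
    DirectSum.isInternal_submodule_of_iSupIndep_of_iSup_eq_top g.eigenspaces_iSupIndep
      hg.iSup_eigenspace_eq_top
  let vf : ∀ μ, Basis (Fin (m μ)) K (f.eigenspace μ) :=
    fun μ => Module.finBasisOfFinrankEq K (f.eigenspace μ) (hfin_f μ)
  let vg : ∀ μ, Basis (Fin (m μ)) K (g.eigenspace μ) :=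
    fun μ => Module.finBasisOfFinrankEq K (g.eigenspace μ) (hfin_g μ)
  let bf := int_f.collectedBasis vf
  let bg := int_g.collectedBasis vg
  let φ : V ≃ₗ[K] V := bf.equiv bg (Equiv.refl _)
  refine ⟨φ, ?_⟩
  have key : (φ : V →ₗ[K] V) ∘ₗ f = g ∘ₗ (φ : V →ₗ[K] V) := by
    apply bf.ext
    intro a
    have h1 : f (bf a) = a.1 • bf a :=
      Module.End.mem_eigenspace_iff.1 (int_f.collectedBasis_mem vf a)
    have h2 : g (bg a) = a.1 • bg a :=
      Module.End.mem_eigenspace_iff.1 (int_g.collectedBasis_mem vg a)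
    have h3 : φ (bf a) = bg a := by simp [φ]
    simp only [LinearMap.comp_apply, LinearEquiv.coe_coe]
    rw [h1, map_smul, h3, h2]
  intro x
  exact congrFun (congrArg DFunLike.coe key) x

end Conj

section Mat

variable {k : Type*} [Field k] {n : ℕ}

/-- The generic matrix. -/
noncomputable def genMat (k : Type*) [Field k] (n : ℕ) :
    Matrix (Fin n) (Fin n) (MvPolynomial (Fin n × Fin n) k) :=
  Matrix.of fun i j => MvPolynomial.X (i, j)

theorem genMat_map (M : Matrix (Fin n) (Fin n) k) :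
    (genMat k n).map (MvPolynomial.eval fun p => M p.1 p.2) = M := by
  ext i j
  simp [genMat]

theorem eval_coeff_charpoly (M : Matrix (Fin n) (Fin n) k) (j : ℕ) :
    MvPolynomial.eval (fun p => M p.1 p.2) ((genMat k n).charpoly.coeff j) = M.charpoly.coeff j := by
  conv_rhs => rw [← genMat_map M, Matrix.charpoly_map, Polynomial.coeff_map]

theorem charpoly_conj (A B : Matrix (Fin n) (Fin n) k) (hA : IsUnit A.det) :
    (A * B * A⁻¹).charpoly = B.charpoly := by
  have := Matrix.charpoly_units_conj (Matrix.nonsingInvUnit A hA) B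
  rw [← this]
  congr 1

theorem charpoly_eq_of_mem_closure (B C : Matrix (Fin n) (Fin n) k)
    (hC : ∀ F : MvPolynomial (Fin n × Fin n) k,
      (∀ A : Matrix (Fin n) (Fin n) k, IsUnit A.det →
        MvPolynomial.eval (fun p => (A * B * A⁻¹) p.1 p.2) F = 0) →
      MvPolynomial.eval (fun p => C p.1 p.2) F = 0) :
    C.charpoly = B.charpoly := by
  ext j
  have := hC ((genMat k n).charpoly.coeff j - MvPolynomial.C (B.charpoly.coeff j)) ?_
  · rw [map_sub, eval_coeff_charpoly, MvPolynomial.eval_C, sub_eq_zero] at this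
    exact this
  · intro A hA
    rw [map_sub, eval_coeff_charpoly, MvPolynomial.eval_C, sub_eq_zero, charpoly_conj A B hA]

/-- Transport of a polynomial in the matrix entries along `M ↦ P * M * Q`. -/
noncomputable def transport (P Q : Matrix (Fin n) (Fin n) k) (F : MvPolynomial (Fin n × Fin n) k) :
    MvPolynomial (Fin n × Fin n) k :=
  MvPolynomial.aeval (fun p : Fin n × Fin n =>
    ∑ i, ∑ j, MvPolynomial.C (P p.1 i) * MvPolynomial.X (i, j) * MvPolynomial.C (Q j p.2)) F

theorem eval_transport (P Q M : Matrix (Fin n) (Fin n) k) (F : MvPolynomial (Fin n × Fin n) k) :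
    MvPolynomial.eval (fun p => M p.1 p.2) (transport P Q F) =
      MvPolynomial.eval (fun p => (P * M * Q) p.1 p.2) F := by
  have h1 : ((MvPolynomial.eval (fun p : Fin n × Fin n => M p.1 p.2)).comp
      (MvPolynomial.aeval (fun p : Fin n × Fin n =>
        ∑ i, ∑ j, MvPolynomial.C (P p.1 i) * MvPolynomial.X (i, j) * MvPolynomial.C (Q j p.2)) :
        MvPolynomial (Fin n × Fin n) k →ₐ[k] MvPolynomial (Fin n × Fin n) k).toRingHom) =
      MvPolynomial.eval (fun p => (P * M * Q) p.1 p.2) := by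
    apply MvPolynomial.ringHom_ext
    · intro r
      simp
    · intro p
      simp [Matrix.mul_apply, Finset.sum_mul]
      rw [Finset.sum_comm]
  exact congrArg (fun φ => φ F) h1

theorem main [IsAlgClosed k]
    (B₁ S₁ N₁ B₂ S₂ N₂ : Matrix (Fin n) (Fin n) k)
    (hS₁ : Module.End.IsSemisimple (Matrix.toLin' S₁)) (hN₁ : IsNilpotent N₁) (hc₁ : Commute S₁ N₁)
    (hB₁ : B₁ = S₁ + N₁)
    (hS₂ : Module.End.IsSemisimple (Matrix.toLin' S₂)) (hN₂ : IsNilpotent N₂) (hc₂ : Commute S₂ N₂)
    (hB₂ : B₂ = S₂ + N₂) :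
    (∃ C : Matrix (Fin n) (Fin n) k,
        (∀ F : MvPolynomial (Fin n × Fin n) k,
          (∀ A : Matrix (Fin n) (Fin n) k, IsUnit A.det →
            MvPolynomial.eval (fun p => (A * B₁ * A⁻¹) p.1 p.2) F = 0) →
          MvPolynomial.eval (fun p => C p.1 p.2) F = 0) ∧
        (∀ F : MvPolynomial (Fin n × Fin n) k,
          (∀ A : Matrix (Fin n) (Fin n) k, IsUnit A.det →
            MvPolynomial.eval (fun p => (A * B₂ * A⁻¹) p.1 p.2) F = 0) →
          MvPolynomial.eval (fun p => C p.1 p.2) F = 0)) ↔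
      ∃ A : Matrix (Fin n) (Fin n) k, IsUnit A.det ∧ A * S₁ * A⁻¹ = S₂ := by
  have cl₁ := Groth.Agent.Lib.Helper24OrbitSS.main B₁ S₁ N₁ hS₁ hN₁ hc₁ hB₁
  have cl₂ := Groth.Agent.Lib.Helper24OrbitSS.main B₂ S₂ N₂ hS₂ hN₂ hc₂ hB₂
  constructor
  · rintro ⟨C, hC₁, hC₂⟩
    have e1 : C.charpoly = B₁.charpoly := charpoly_eq_of_mem_closure B₁ C hC₁
    have e2 : C.charpoly = B₂.charpoly := charpoly_eq_of_mem_closure B₂ C hC₂
    have e3 : S₁.charpoly = B₁.charpoly := charpoly_eq_of_mem_closure B₁ S₁ cl₁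
    have e4 : S₂.charpoly = B₂.charpoly := charpoly_eq_of_mem_closure B₂ S₂ cl₂
    have e5 : S₁.charpoly = S₂.charpoly := by rw [e3, e4, ← e1, ← e2]
    obtain ⟨φ, hφ⟩ := exists_equiv_of_charpoly_eq (Matrix.toLin' S₁) (Matrix.toLin' S₂) hS₁ hS₂
      (by rw [Matrix.charpoly_toLin', Matrix.charpoly_toLin', e5])
    let A : Matrix (Fin n) (Fin n) k := LinearMap.toMatrix' (φ : (Fin n → k) →ₗ[k] (Fin n → k))
    let A' : Matrix (Fin n) (Fin n) k :=
      LinearMap.toMatrix' (φ.symm : (Fin n → k) →ₗ[k] (Fin n → k))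
    have hA'A : A' * A = 1 := by
      rw [← LinearMap.toMatrix'_comp]
      have : ((φ.symm : (Fin n → k) →ₗ[k] (Fin n → k)) ∘ₗ (φ : (Fin n → k) →ₗ[k] (Fin n → k))) =
          LinearMap.id := by
        ext x : 1
        simp
      rw [this, LinearMap.toMatrix'_id]
    have hdet : IsUnit A.det := Matrix.isUnit_det_of_left_inverse hA'A
    refine ⟨A, hdet, ?_⟩
    have hcomm : A * S₁ = S₂ * A := by
      have h1 : (φ : (Fin n → k) →ₗ[k] (Fin n → k)) ∘ₗ Matrix.toLin' S₁ =
          Matrix.toLin' S₂ ∘ₗ (φ : (Fin n → k) →ₗ[k] (Fin n → k)) := by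
        apply LinearMap.ext
        intro x
        exact hφ x
      have h2 := congrArg LinearMap.toMatrix' h1
      rw [LinearMap.toMatrix'_comp, LinearMap.toMatrix'_comp, LinearMap.toMatrix'_toLin',
        LinearMap.toMatrix'_toLin'] at h2
      exact h2
    rw [hcomm, Matrix.mul_assoc, Matrix.mul_nonsing_inv A hdet, Matrix.mul_one]
  · rintro ⟨A, hA, hAS⟩
    refine ⟨S₂, ?_, cl₂⟩
    intro F hF
    have h1 : MvPolynomial.eval (fun p => S₁ p.1 p.2) (transport A A⁻¹ F) = 0 := by
      apply cl₁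
      intro A₀ hA₀
      rw [eval_transport]
      have := hF (A * A₀) (by rw [Matrix.det_mul]; exact hA.mul hA₀)
      rw [Matrix.mul_inv_rev] at this
      have e : A * (A₀ * B₁ * A₀⁻¹) * A⁻¹ = A * A₀ * B₁ * (A₀⁻¹ * A⁻¹) := by
        simp only [Matrix.mul_assoc]
      rw [e]
      exact this
    rw [eval_transport, hAS] at h1
    exact h1

end Mat

end Groth.Agent.Lib.Helper24OrbitMeet
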