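import Mathlib

set_option autoImplicit false

namespace Groth.Agent.Lib.Helper24OverCosk

open CategoryTheory Limits Opposite SimplexCategory Simplicial

universe v u

section shape

variable (k : ℕ)

instance finite_truncated : Finite (Truncated k) := by
  apply Finite.of_injective
    (fun a : Truncated k => (⟨a.obj.len, Nat.lt_succ_of_le a.property⟩ : Fin (k + 1)))
  intro a b h
  have h1 : a.obj.len = b.obj.len := congrArg Fin.val h
  obtain ⟨a, ha⟩ := a
  obtain ⟨b, hb⟩ := b
  have h2 : a = b := SimplexCategory.ext h1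
  subst h2
  rfl

instance finite_truncated_hom (a b : Truncated k) : Finite (a ⟶ b) :=
  Finite.of_injective (fun φ : a ⟶ b => φ.hom) (fun _ _ h => ObjectProperty.hom_ext _ h)

instance finite_truncated_op : Finite (Truncated k)ᵒᵖ :=
  Finite.of_injective (fun a : (Truncated k)ᵒᵖ => a.unop) (fun _ _ h => Opposite.unop_injective h)

instance finite_truncated_op_hom (a b : (Truncated k)ᵒᵖ) : Finite (a ⟶ b) :=
  Finite.of_injective (fun φ : a ⟶ b => φ.unop) (fun _ _ h => Quiver.Hom.unop_inj h)

instance finite_simplex_op_hom (a b : SimplexCategoryᵒᵖ) : Finite (a ⟶ b) :=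
  Finite.of_injective (fun φ : a ⟶ b => φ.unop) (fun _ _ h => Quiver.Hom.unop_inj h)

variable (c : SimplexCategoryᵒᵖ)

instance finite_J : Finite (StructuredArrow c (Truncated.inclusion k).op) := by
  apply Finite.of_injective (fun f : StructuredArrow c (Truncated.inclusion k).op =>
    (⟨f.right, f.hom⟩ : Σ Y : (Truncated k)ᵒᵖ, (c ⟶ (Truncated.inclusion k).op.obj Y)))
  intro f g h
  obtain ⟨fl, fr, fh⟩ := f
  obtain ⟨gl, gr, gh⟩ := g
  simp only [Sigma.mk.inj_iff] at h
  obtain ⟨h1, h2⟩ := h
  subst h1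
  have h3 := eq_of_heq h2
  subst h3
  have : fl = gl := Subsingleton.elim _ _
  subst this
  rfl

instance finite_J_hom (f g : StructuredArrow c (Truncated.inclusion k).op) : Finite (f ⟶ g) :=
  Finite.of_injective (fun φ : f ⟶ g => φ.right) (fun _ _ h => StructuredArrow.ext _ _ h)

noncomputable instance finCategory_J : FinCategory (StructuredArrow c (Truncated.inclusion k).op) :=
  letI : Fintype (StructuredArrow c (Truncated.inclusion k).op) := Fintype.ofFinite _
  letI : ∀ a b : StructuredArrow c (Truncated.inclusion k).op, Fintype (a ⟶ b) :=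
    fun a b => Fintype.ofFinite _
  {}

end shape

section connected

variable (k : ℕ) (hk : 1 ≤ k) (m : ℕ)

/-- a vertex of `⦋m⦌` as an object of the comma category -/
def vtx (a : Fin (m + 1)) : StructuredArrow (op ⦋m⦌) (Truncated.inclusion k).op :=
  StructuredArrow.mk (Y := op (⟨⦋0⦌, Nat.zero_le k⟩ : Truncated k))
    (SimplexCategory.const ⦋0⦌ ⦋m⦌ a).op

/-- an edge of `⦋m⦌` as an object of the comma category -/
def edge (a b : Fin (m + 1)) (hab : a ≤ b) :
    StructuredArrow (op ⦋m⦌) (Truncated.inclusion k).op :=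
  StructuredArrow.mk (Y := op (⟨⦋1⦌, hk⟩ : Truncated k)) (SimplexCategory.mkOfLe a b hab).op

def toVtx (f : StructuredArrow (op ⦋m⦌) (Truncated.inclusion k).op) :
    f ⟶ vtx k m (f.hom.unop.toOrderHom 0) :=
  StructuredArrow.homMk
    (ObjectProperty.homMk (SimplexCategory.const ⦋0⦌ f.right.unop.obj 0) :
      (⟨⦋0⦌, Nat.zero_le k⟩ : Truncated k) ⟶ f.right.unop).op (by
    apply Quiver.Hom.unop_inj
    apply SimplexCategory.Hom.ext
    ext i
    rfl)

def edgeToVtx0 (a b : Fin (m + 1)) (hab : a ≤ b) : edge k hk m a b hab ⟶ vtx k m a :=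
  StructuredArrow.homMk
    (ObjectProperty.homMk (SimplexCategory.const ⦋0⦌ ⦋1⦌ 0) :
      (⟨⦋0⦌, Nat.zero_le k⟩ : Truncated k) ⟶ ⟨⦋1⦌, hk⟩).op (by
    apply Quiver.Hom.unop_inj
    apply SimplexCategory.Hom.ext
    ext i
    rfl)

def edgeToVtx1 (a b : Fin (m + 1)) (hab : a ≤ b) : edge k hk m a b hab ⟶ vtx k m b :=
  StructuredArrow.homMk
    (ObjectProperty.homMk (SimplexCategory.const ⦋0⦌ ⦋1⦌ 1) :
      (⟨⦋0⦌, Nat.zero_le k⟩ : Truncated k) ⟶ ⟨⦋1⦌, hk⟩).op (by
    apply Quiver.Hom.unop_inj
    apply SimplexCategory.Hom.ext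
    ext i
    rfl)

include hk in
theorem isConnected_J : IsConnected (StructuredArrow (op ⦋m⦌) (Truncated.inclusion k).op) := by
  haveI : Nonempty (StructuredArrow (op ⦋m⦌) (Truncated.inclusion k).op) := ⟨vtx k m 0⟩
  apply zigzag_isConnected
  have hv : ∀ a b : Fin (m + 1), a ≤ b → Zigzag (vtx k m a) (vtx k m b) := fun a b hab =>
    Zigzag.of_inv_hom (edgeToVtx0 k hk m a b hab) (edgeToVtx1 k hk m a b hab)
  have hv' : ∀ a b : Fin (m + 1), Zigzag (vtx k m a) (vtx k m b) := by
    intro a b
    rcases le_total a b with h | h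
    · exact hv a b h
    · exact (hv b a h).symm
  intro f g
  exact (Zigzag.of_hom (toVtx k m f)).trans ((hv' _ _).trans (Zigzag.of_inv (toVtx k m g)))

end connected

theorem s6813 {C : Type u} [Category.{v} C] [HasFiniteLimits C] (X : C) (k : ℕ) (hk : 1 ≤ k)
    (V : SimplicialObject (Over X)) [V.IsCoskeletal k] :
    SimplicialObject.IsCoskeletal (V ⋙ Over.forget X) k := by
  haveI hconn : ∀ c : SimplexCategoryᵒᵖ,
      IsConnected (StructuredArrow c (Truncated.inclusion k).op) := by
    intro c
    induction c using Opposite.rec with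
    | op a =>
      induction a using SimplexCategory.rec with
      | _ m => exact isConnected_J k hk m
  haveI : (Truncated.inclusion k).op.HasPointwiseRightKanExtension
      ((Truncated.inclusion k).op ⋙ V) := fun c =>
    (inferInstance : HasLimit (StructuredArrow.proj c (Truncated.inclusion k).op ⋙
      ((Truncated.inclusion k).op ⋙ V)))
  have h := Functor.PreservesRightKanExtension.preserves (G := Over.forget X) V
    (𝟙 ((Truncated.inclusion k).op ⋙ V))
  constructor
  have e : (Functor.associator (Truncated.inclusion k).op V (Over.forget X)).inv ≫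
      Functor.whiskerRight (𝟙 ((Truncated.inclusion k).op ⋙ V)) (Over.forget X) =
      𝟙 ((Truncated.inclusion k).op ⋙ V ⋙ Over.forget X) := by
    ext
    simp
  rw [e] at h
  exact h

end Groth.Agent.Lib.Helper24OverCosk
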