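import Mathlib
import Groth.Prelude.Def_W4c1stackycurvesGalP1

set_option autoImplicit false
universe u

namespace Groth.Agent.Lib.Helper24P1Desc

open W4c1stackycurves Matrix

variable {k K : Type u} [Field k] [Field K] [Algebra k K]

theorem mulVec_two (A : Matrix (Fin 2) (Fin 2) K) (v : Fin 2 → K) (i : Fin 2) :
    (A *ᵥ v) i = A i 0 * v 0 + A i 1 * v 1 := by
  simp [Matrix.mulVec, dotProduct, Fin.sum_univ_two]

theorem mk_eq_iff (v w : Fin 2 → K) (hv : v ≠ 0) (hw : w ≠ 0) :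
    Projectivization.mk K v hv = Projectivization.mk K w hw ↔ v 0 * w 1 - v 1 * w 0 = 0 := by
  rw [Projectivization.mk_eq_mk_iff']
  constructor
  · rintro ⟨a, rfl⟩
    simp only [Pi.smul_apply, smul_eq_mul]
    ring
  · intro h
    by_cases h0 : w 0 = 0
    · have h1 : w 1 ≠ 0 := by
        intro h1
        exact hw (funext (Fin.forall_fin_two.mpr ⟨h0, h1⟩))
      have hv0 : v 0 = 0 := by
        rw [h0, mul_zero, sub_zero] at h
        exact (mul_eq_zero.mp h).resolve_right h1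
      refine ⟨v 1 / w 1, funext (Fin.forall_fin_two.mpr ⟨?_, ?_⟩)⟩
      · show v 1 / w 1 * w 0 = v 0
        rw [h0, hv0, mul_zero]
      · show v 1 / w 1 * w 1 = v 1
        exact div_mul_cancel₀ _ h1
    · refine ⟨v 0 / w 0, funext (Fin.forall_fin_two.mpr ⟨?_, ?_⟩)⟩
      · show v 0 / w 0 * w 0 = v 0
        exact div_mul_cancel₀ _ h0
      · show v 0 / w 0 * w 1 = v 1
        field_simp
        linear_combination h

noncomputable def act (M : Matrix.GeneralLinearGroup (Fin 2) K)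
    (p : Projectivization K (Fin 2 → K)) : Projectivization K (Fin 2 → K) :=
  Matrix.GeneralLinearGroup.toLin M • p

theorem act_mul (M N : Matrix.GeneralLinearGroup (Fin 2) K) (p : Projectivization K (Fin 2 → K)) :
    act (M * N) p = act M (act N p) := by
  unfold act; rw [map_mul, mul_smul]

theorem act_one (p : Projectivization K (Fin 2 → K)) :
    act (1 : Matrix.GeneralLinearGroup (Fin 2) K) p = p := by
  unfold act; rw [map_one, one_smul]

theorem act_inv_act (M : Matrix.GeneralLinearGroup (Fin 2) K)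
    (p : Projectivization K (Fin 2 → K)) : act M⁻¹ (act M p) = p := by
  rw [← act_mul, inv_mul_cancel, act_one]

theorem act_mk (M : Matrix.GeneralLinearGroup (Fin 2) K) (v : Fin 2 → K) (hv : v ≠ 0) :
    ∃ h, act M (Projectivization.mk K v hv) = Projectivization.mk K (M.val *ᵥ v) h := by
  have hne : M.val *ᵥ v ≠ 0 := by
    intro h0
    apply hv
    have : M⁻¹.val *ᵥ (M.val *ᵥ v) = v := by
      rw [Matrix.mulVec_mulVec, ← Units.val_mul, inv_mul_cancel, Units.val_one, Matrix.one_mulVec]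
    rw [← this, h0, Matrix.mulVec_zero]
  exact ⟨hne, rfl⟩

theorem galP_mk (σ : K ≃ₐ[k] K) (v : Fin 2 → K) (hv : v ≠ 0) :
    ∃ h, galP σ (Projectivization.mk K v hv) = Projectivization.mk K (fun i => σ (v i)) h :=
  ⟨(map_zero (galVec σ (Fin 2)) ▸ (galVec_injective σ (Fin 2)).ne hv :
      galVec σ (Fin 2) v ≠ 0), rfl⟩

theorem galP_symm_galP (σ : K ≃ₐ[k] K) (p : Projectivization K (Fin 2 → K)) :
    galP σ.symm (galP σ p) = p := by
  induction p using Projectivization.ind with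
  | h v hv =>
    obtain ⟨h1, e1⟩ := galP_mk σ v hv
    obtain ⟨h2, e2⟩ := galP_mk σ.symm _ h1
    rw [e1, e2, Projectivization.mk_eq_mk_iff']
    refine ⟨1, ?_⟩
    rw [one_smul]
    funext i
    exact (σ.symm_apply_apply (v i)).symm

theorem galP_inj (σ : K ≃ₐ[k] K) {p q : Projectivization K (Fin 2 → K)}
    (h : galP σ p = galP σ q) : p = q := by
  have := congrArg (galP σ.symm) h
  rwa [galP_symm_galP, galP_symm_galP] at this

noncomputable def gmap (σ : K ≃ₐ[k] K) :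
    Matrix.GeneralLinearGroup (Fin 2) K →* Matrix.GeneralLinearGroup (Fin 2) K :=
  Matrix.GeneralLinearGroup.map (σ : K →+* K)

theorem gmap_val (σ : K ≃ₐ[k] K) (M : Matrix.GeneralLinearGroup (Fin 2) K) (i j : Fin 2) :
    (gmap σ M).val i j = σ (M.val i j) := rfl

theorem galP_act (σ : K ≃ₐ[k] K) (M : Matrix.GeneralLinearGroup (Fin 2) K)
    (p : Projectivization K (Fin 2 → K)) :
    galP σ (act M p) = act (gmap σ M) (galP σ p) := by
  induction p using Projectivization.ind with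
  | h v hv =>
    obtain ⟨h1, e1⟩ := act_mk M v hv
    obtain ⟨h2, e2⟩ := galP_mk σ _ h1
    obtain ⟨h3, e3⟩ := galP_mk σ v hv
    obtain ⟨h4, e4⟩ := act_mk (gmap σ M) _ h3
    rw [e1, e2, e3, e4, Projectivization.mk_eq_mk_iff']
    refine ⟨1, ?_⟩
    rw [one_smul]
    refine funext (Fin.forall_fin_two.mpr ⟨?_, ?_⟩)
    · show ((gmap σ M).val *ᵥ fun i => σ (v i)) 0 = σ ((M.val *ᵥ v) 0)
      rw [mulVec_two, mulVec_two, gmap_val, gmap_val, map_add, map_mul, map_mul]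
    · show ((gmap σ M).val *ᵥ fun i => σ (v i)) 1 = σ ((M.val *ᵥ v) 1)
      rw [mulVec_two, mulVec_two, gmap_val, gmap_val, map_add, map_mul, map_mul]

theorem v10_ne : (![1, 0] : Fin 2 → K) ≠ 0 := by
  intro h; have := congrFun h 0; simp at this
theorem v01_ne : (![0, 1] : Fin 2 → K) ≠ 0 := by
  intro h; have := congrFun h 1; simp at this
theorem v11_ne : (![1, 1] : Fin 2 → K) ≠ 0 := by
  intro h; have := congrFun h 0; simp at this

variable (K) in
noncomputable def e0 : Projectivization K (Fin 2 → K) := Projectivization.mk K ![1, 0] v10_ne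
variable (K) in
noncomputable def e1 : Projectivization K (Fin 2 → K) := Projectivization.mk K ![0, 1] v01_ne
variable (K) in
noncomputable def e2 : Projectivization K (Fin 2 → K) := Projectivization.mk K ![1, 1] v11_ne

theorem galP_e0 (σ : K ≃ₐ[k] K) : galP σ (e0 K) = e0 K := by
  obtain ⟨h1, e1⟩ := galP_mk σ ![1, 0] v10_ne
  rw [e0, e1, Projectivization.mk_eq_mk_iff']
  refine ⟨1, ?_⟩
  rw [one_smul]
  refine funext (Fin.forall_fin_two.mpr ⟨?_, ?_⟩) <;> simp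

theorem galP_e1 (σ : K ≃ₐ[k] K) : galP σ (e1 K) = e1 K := by
  obtain ⟨h1, e⟩ := galP_mk σ ![0, 1] v01_ne
  rw [e1, e, Projectivization.mk_eq_mk_iff']
  refine ⟨1, ?_⟩
  rw [one_smul]
  refine funext (Fin.forall_fin_two.mpr ⟨?_, ?_⟩) <;> simp

theorem galP_e2 (σ : K ≃ₐ[k] K) : galP σ (e2 K) = e2 K := by
  obtain ⟨h1, e⟩ := galP_mk σ ![1, 1] v11_ne
  rw [e2, e, Projectivization.mk_eq_mk_iff']
  refine ⟨1, ?_⟩
  rw [one_smul]
  refine funext (Fin.forall_fin_two.mpr ⟨?_, ?_⟩) <;> simp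

theorem e0_ne_e1 : e0 K ≠ e1 K := by
  rw [e0, e1, ne_eq, mk_eq_iff]; simp
theorem e0_ne_e2 : e0 K ≠ e2 K := by
  rw [e0, e2, ne_eq, mk_eq_iff]; simp
theorem e1_ne_e2 : e1 K ≠ e2 K := by
  rw [e1, e2, ne_eq, mk_eq_iff]; simp

theorem pick (T : Set (Projectivization K (Fin 2 → K))) (hT : T.Finite) (h2 : T.ncard ≤ 2) :
    ∃ r, (∀ σ : K ≃ₐ[k] K, galP σ r = r) ∧ r ∉ T := by
  classical
  have hE : ({e0 K, e1 K, e2 K} : Finset (Projectivization K (Fin 2 → K))).card = 3 := by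
    rw [Finset.card_eq_three]
    exact ⟨_, _, _, e0_ne_e1, e0_ne_e2, e1_ne_e2, rfl⟩
  have hlt : hT.toFinset.card <
      ({e0 K, e1 K, e2 K} : Finset (Projectivization K (Fin 2 → K))).card := by
    rw [hE, ← Set.ncard_eq_toFinset_card T hT]; omega
  obtain ⟨r, hr, hrT⟩ := Finset.exists_mem_notMem_of_card_lt_card hlt
  refine ⟨r, ?_, fun h => hrT (hT.mem_toFinset.mpr h)⟩
  intro σ
  simp only [Finset.mem_insert, Finset.mem_singleton] at hr
  rcases hr with rfl | rfl | rfl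
  · exact galP_e0 σ
  · exact galP_e1 σ
  · exact galP_e2 σ

theorem fix_frame (B : Matrix.GeneralLinearGroup (Fin 2) K)
    (h0 : act B (e0 K) = e0 K) (h1 : act B (e1 K) = e1 K) (h2 : act B (e2 K) = e2 K) :
    B.val = (B.val 0 0) • (1 : Matrix (Fin 2) (Fin 2) K) := by
  obtain ⟨a0, b0⟩ := act_mk B ![1, 0] v10_ne
  obtain ⟨a1, b1⟩ := act_mk B ![0, 1] v01_ne
  obtain ⟨a2, b2⟩ := act_mk B ![1, 1] v11_ne
  rw [e0, b0, mk_eq_iff, mulVec_two, mulVec_two] at h0
  rw [e1, b1, mk_eq_iff, mulVec_two, mulVec_two] at h1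
  rw [e2, b2, mk_eq_iff, mulVec_two, mulVec_two] at h2
  have h0' : (B.val 0 0 * 1 + B.val 0 1 * 0) * 0 - (B.val 1 0 * 1 + B.val 1 1 * 0) * 1 = 0 := h0
  have h1' : (B.val 0 0 * 0 + B.val 0 1 * 1) * 1 - (B.val 1 0 * 0 + B.val 1 1 * 1) * 0 = 0 := h1
  have h2' : (B.val 0 0 * 1 + B.val 0 1 * 1) * 1 - (B.val 1 0 * 1 + B.val 1 1 * 1) * 1 = 0 := h2
  have hB10 : B.val 1 0 = 0 := by linear_combination -h0'
  have hB01 : B.val 0 1 = 0 := by linear_combination h1'
  have hB11 : B.val 1 1 = B.val 0 0 := by linear_combination -h2' + hB01 - hB10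
  refine Matrix.ext (Fin.forall_fin_two.mpr
    ⟨Fin.forall_fin_two.mpr ⟨?_, ?_⟩, Fin.forall_fin_two.mpr ⟨?_, ?_⟩⟩) <;>
    simp [Matrix.smul_apply, hB10, hB01, hB11]

theorem exists_frame (x : Fin 3 → Projectivization K (Fin 2 → K)) (hx : Function.Injective x) :
    ∃ A : Matrix.GeneralLinearGroup (Fin 2) K,
      act A (e0 K) = x 0 ∧ act A (e1 K) = x 1 ∧ act A (e2 K) = x 2 := by
  obtain ⟨u0, hu0, ex0⟩ : ∃ u, ∃ h : u ≠ 0, x 0 = Projectivization.mk K u h :=
    ⟨_, (x 0).rep_nonzero, (Projectivization.mk_rep _).symm⟩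
  obtain ⟨u1, hu1, ex1⟩ : ∃ u, ∃ h : u ≠ 0, x 1 = Projectivization.mk K u h :=
    ⟨_, (x 1).rep_nonzero, (Projectivization.mk_rep _).symm⟩
  obtain ⟨u2, hu2, ex2⟩ : ∃ u, ∃ h : u ≠ 0, x 2 = Projectivization.mk K u h :=
    ⟨_, (x 2).rep_nonzero, (Projectivization.mk_rep _).symm⟩
  obtain ⟨D01, hD01⟩ : ∃ D, D = u0 0 * u1 1 - u0 1 * u1 0 := ⟨_, rfl⟩
  obtain ⟨D21, hD21⟩ : ∃ D, D = u2 0 * u1 1 - u2 1 * u1 0 := ⟨_, rfl⟩
  obtain ⟨D02, hD02⟩ : ∃ D, D = u0 0 * u2 1 - u0 1 * u2 0 := ⟨_, rfl⟩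
  have d01 : D01 ≠ 0 := by
    intro h
    have h' : x 0 = x 1 := by rw [ex0, ex1, mk_eq_iff, ← hD01]; exact h
    exact absurd (hx h') (by decide)
  have d21 : D21 ≠ 0 := by
    intro h
    have h' : x 2 = x 1 := by rw [ex2, ex1, mk_eq_iff, ← hD21]; exact h
    exact absurd (hx h') (by decide)
  have d02 : D02 ≠ 0 := by
    intro h
    have h' : x 0 = x 2 := by rw [ex0, ex2, mk_eq_iff, ← hD02]; exact h
    exact absurd (hx h') (by decide)
  obtain ⟨A0, hA0⟩ : ∃ A0 : Matrix (Fin 2) (Fin 2) K,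
      A0 = !![D21 * u0 0, D02 * u1 0; D21 * u0 1, D02 * u1 1] := ⟨_, rfl⟩
  have a00 : A0 0 0 = D21 * u0 0 := by rw [hA0]; rfl
  have a01 : A0 0 1 = D02 * u1 0 := by rw [hA0]; rfl
  have a10 : A0 1 0 = D21 * u0 1 := by rw [hA0]; rfl
  have a11 : A0 1 1 = D02 * u1 1 := by rw [hA0]; rfl
  have hdet : A0.det ≠ 0 := by
    rw [Matrix.det_fin_two, a00, a01, a10, a11]
    have e : D21 * u0 0 * (D02 * u1 1) - D02 * u1 0 * (D21 * u0 1) = D21 * D02 * D01 := by
      rw [hD01]; ring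
    rw [e]
    exact mul_ne_zero (mul_ne_zero d21 d02) d01
  refine ⟨Matrix.GeneralLinearGroup.mkOfDetNeZero A0 hdet, ?_, ?_, ?_⟩
  · obtain ⟨a, b⟩ := act_mk (Matrix.GeneralLinearGroup.mkOfDetNeZero A0 hdet) ![1, 0] v10_ne
    rw [e0, b, ex0, mk_eq_iff, mulVec_two, mulVec_two]
    show (A0 0 0 * 1 + A0 0 1 * 0) * u0 1 - (A0 1 0 * 1 + A0 1 1 * 0) * u0 0 = 0
    rw [a00, a01, a10, a11]; ring
  · obtain ⟨a, b⟩ := act_mk (Matrix.GeneralLinearGroup.mkOfDetNeZero A0 hdet) ![0, 1] v01_ne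
    rw [e1, b, ex1, mk_eq_iff, mulVec_two, mulVec_two]
    show (A0 0 0 * 0 + A0 0 1 * 1) * u1 1 - (A0 1 0 * 0 + A0 1 1 * 1) * u1 0 = 0
    rw [a00, a01, a10, a11]; ring
  · obtain ⟨a, b⟩ := act_mk (Matrix.GeneralLinearGroup.mkOfDetNeZero A0 hdet) ![1, 1] v11_ne
    rw [e2, b, ex2, mk_eq_iff, mulVec_two, mulVec_two]
    show (A0 0 0 * 1 + A0 0 1 * 1) * u2 1 - (A0 1 0 * 1 + A0 1 1 * 1) * u2 0 = 0
    rw [a00, a01, a10, a11, hD21, hD02]; ring

theorem unique_up_to_scalar (x y : Fin 3 → Projectivization K (Fin 2 → K))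
    (hx : Function.Injective x) (M M' : Matrix.GeneralLinearGroup (Fin 2) K)
    (hM : ∀ i, act M (x i) = y i) (hM' : ∀ i, act M' (x i) = y i) :
    ∃ c : K, M'.val = c • M.val := by
  obtain ⟨A, hA0, hA1, hA2⟩ := exists_frame x hx
  have key : ∀ p q, act A p = q → (∃ i, q = x i) →
      act (A⁻¹ * (M⁻¹ * M') * A) p = p := by
    rintro p q hpq ⟨i, rfl⟩
    rw [act_mul, act_mul, act_mul, hpq, hM' i, ← hM i, act_inv_act, ← hpq, act_inv_act]
  have hC := fix_frame (A⁻¹ * (M⁻¹ * M') * A) (key _ _ hA0 ⟨0, rfl⟩) (key _ _ hA1 ⟨1, rfl⟩)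
    (key _ _ hA2 ⟨2, rfl⟩)
  obtain ⟨C, hCdef⟩ : ∃ C, C = A⁻¹ * (M⁻¹ * M') * A := ⟨_, rfl⟩
  rw [← hCdef] at hC
  obtain ⟨c, hc⟩ : ∃ c, c = C.val 0 0 := ⟨_, rfl⟩
  rw [← hc] at hC
  have hM'eq : M' = M * (A * C * A⁻¹) := by rw [hCdef]; group
  refine ⟨c, ?_⟩
  rw [hM'eq, Units.val_mul, Units.val_mul, Units.val_mul, hC, Matrix.mul_smul, Matrix.smul_mul,
    mul_one, Units.mul_inv, Matrix.mul_smul, mul_one]

theorem act_eq_of_smul (M M' : Matrix.GeneralLinearGroup (Fin 2) K) (c : K)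
    (h : M.val = c • M'.val) (p : Projectivization K (Fin 2 → K)) : act M p = act M' p := by
  induction p using Projectivization.ind with
  | h v hv =>
    obtain ⟨h1, e1⟩ := act_mk M v hv
    obtain ⟨h2, e2⟩ := act_mk M' v hv
    rw [e1, e2, Projectivization.mk_eq_mk_iff']
    exact ⟨c, by rw [h, Matrix.smul_mulVec]⟩

theorem descent [FiniteDimensional k K] [IsGalois k K] (M : Matrix.GeneralLinearGroup (Fin 2) K)
    (h : ∀ σ : K ≃ₐ[k] K, ∃ c : K, (gmap σ M).val = c • M.val) :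
    ∃ (g : Matrix.GeneralLinearGroup (Fin 2) k) (c₀ : K),
      M.val = c₀ • (Matrix.GeneralLinearGroup.map (algebraMap k K) g).val := by
  obtain ⟨a, b, hab⟩ : ∃ a b, M.val a b ≠ 0 := by
    by_contra hcon
    push Not at hcon
    apply Matrix.GeneralLinearGroup.det_ne_zero M
    rw [Matrix.det_fin_two, hcon 0 0, hcon 0 1, zero_mul, zero_mul, sub_zero]
  obtain ⟨m, hm⟩ : ∃ m, m = M.val a b := ⟨_, rfl⟩
  have hm0 : m ≠ 0 := hm ▸ hab
  have hfix : ∀ i j, ∀ σ : K ≃ₐ[k] K, σ (M.val i j / m) = M.val i j / m := by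
    intro i j σ
    obtain ⟨c, hc⟩ := h σ
    have h1 : σ (M.val i j) = c * M.val i j := by
      have := Matrix.ext_iff.mpr hc i j
      rw [gmap_val] at this
      rw [this, Matrix.smul_apply, smul_eq_mul]
    have h2 : σ m = c * m := by
      have := Matrix.ext_iff.mpr hc a b
      rw [gmap_val] at this
      rw [hm, this, Matrix.smul_apply, smul_eq_mul]
    have hc0 : c ≠ 0 := by
      rintro rfl
      rw [zero_mul] at h2
      exact hm0 ((map_eq_zero σ).mp h2)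
    rw [map_div₀, h1, h2]
    exact mul_div_mul_left _ _ hc0
  have hex : ∀ i j, ∃ t : k, algebraMap k K t = M.val i j / m := by
    intro i j
    exact (IsGalois.mem_range_algebraMap_iff_fixed (F := k) (E := K) _).mpr (hfix i j)
  choose G0 hG0 using hex
  obtain ⟨G, hG⟩ : ∃ G : Matrix (Fin 2) (Fin 2) k, G = Matrix.of G0 := ⟨_, rfl⟩
  have hGe : ∀ i j, algebraMap k K (G i j) = M.val i j / m := by
    intro i j; rw [hG]; exact hG0 i j
  have hMe : ∀ i j, M.val i j = m * algebraMap k K (G i j) := by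
    intro i j; rw [hGe]; field_simp
  have hGdet : G.det ≠ 0 := by
    intro h0
    apply Matrix.GeneralLinearGroup.det_ne_zero M
    rw [Matrix.det_fin_two, hMe 0 0, hMe 0 1, hMe 1 0, hMe 1 1]
    have : algebraMap k K G.det = 0 := by rw [h0, map_zero]
    rw [Matrix.det_fin_two, map_sub, map_mul, map_mul] at this
    linear_combination m ^ 2 * this
  refine ⟨Matrix.GeneralLinearGroup.mkOfDetNeZero G hGdet, m, ?_⟩
  refine Matrix.ext (fun i j => ?_)
  rw [hMe i j]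
  rfl

theorem lemmaA [FiniteDimensional k K] [IsGalois k K]
    (x y : Fin 3 → Projectivization K (Fin 2 → K))
    (hx : Function.Injective x) (hy : Function.Injective y)
    (H : ∀ (σ : K ≃ₐ[k] K) (i : Fin 3), ∃ j, galP σ (x i) = x j ∧ galP σ (y i) = y j) :
    ∃ g : Matrix.GeneralLinearGroup (Fin 2) k, ∀ i,
      act (Matrix.GeneralLinearGroup.map (algebraMap k K) g) (x i) = y i := by
  obtain ⟨Ax, hAx0, hAx1, hAx2⟩ := exists_frame x hx
  obtain ⟨Ay, hAy0, hAy1, hAy2⟩ := exists_frame y hy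
  have hMx : ∀ i, act (Ay * Ax⁻¹) (x i) = y i := by
    intro i
    fin_cases i
    · show act (Ay * Ax⁻¹) (x 0) = y 0
      rw [act_mul, ← hAx0, act_inv_act, hAy0]
    · show act (Ay * Ax⁻¹) (x 1) = y 1
      rw [act_mul, ← hAx1, act_inv_act, hAy1]
    · show act (Ay * Ax⁻¹) (x 2) = y 2
      rw [act_mul, ← hAx2, act_inv_act, hAy2]
  obtain ⟨M, hMdef⟩ : ∃ M, M = Ay * Ax⁻¹ := ⟨_, rfl⟩
  rw [← hMdef] at hMx
  have hσ : ∀ σ : K ≃ₐ[k] K, ∀ j, act (gmap σ M) (x j) = y j := by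
    intro σ
    choose f hf using H σ
    have finj : Function.Injective f := by
      intro i i' hii
      have h1 : galP σ (x i) = galP σ (x i') := by rw [(hf i).1, (hf i').1, hii]
      exact hx (galP_inj σ h1)
    have fsurj : Function.Surjective f := Finite.injective_iff_surjective.mp finj
    intro j
    obtain ⟨i, rfl⟩ := fsurj j
    rw [← (hf i).1, ← galP_act, hMx i, (hf i).2]
  have hsc : ∀ σ : K ≃ₐ[k] K, ∃ c : K, (gmap σ M).val = c • M.val :=
    fun σ => unique_up_to_scalar x y hx M (gmap σ M) hMx (hσ σ)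
  obtain ⟨g, c₀, hg⟩ := descent M hsc
  refine ⟨g, fun i => ?_⟩
  rw [← act_eq_of_smul M _ c₀ hg (x i)]
  exact hMx i

def PP (k K : Type u) [Field k] [Field K] [Algebra k K] (m : ℕ) : Prop :=
  ∀ (S : Set (Projectivization K (Fin 2 → K)))
    (φ : Projectivization K (Fin 2 → K) → Projectivization K (Fin 2 → K)),
    S.Finite → S.ncard = m →
    (∀ (σ : K ≃ₐ[k] K), ∀ p ∈ S, galP σ p ∈ S) →
    Set.InjOn φ S →
    (∀ (σ : K ≃ₐ[k] K), ∀ p ∈ S, φ (galP σ p) = galP σ (φ p)) →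
    ∃ g : Matrix.GeneralLinearGroup (Fin 2) k, ∀ p ∈ S,
      act (Matrix.GeneralLinearGroup.map (algebraMap k K) g) p = φ p

theorem inj3 {α : Type*} (a b c : α) (hab : a ≠ b) (hac : a ≠ c) (hbc : b ≠ c) :
    Function.Injective (![a, b, c] : Fin 3 → α) := by
  intro i j hij
  fin_cases i <;> fin_cases j <;> simp_all

theorem PP3_aux [FiniteDimensional k K] [IsGalois k K]
    (S : Set (Projectivization K (Fin 2 → K)))
    (φ : Projectivization K (Fin 2 → K) → Projectivization K (Fin 2 → K))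
    (x : Fin 3 → Projectivization K (Fin 2 → K)) (hx : Function.Injective x)
    (hxS : ∀ i, x i ∈ S) (hcov : ∀ p ∈ S, ∃ j, x j = p)
    (hst : ∀ (σ : K ≃ₐ[k] K), ∀ p ∈ S, galP σ p ∈ S)
    (hinj : Set.InjOn φ S)
    (heq : ∀ (σ : K ≃ₐ[k] K), ∀ p ∈ S, φ (galP σ p) = galP σ (φ p)) :
    ∃ g : Matrix.GeneralLinearGroup (Fin 2) k, ∀ p ∈ S,
      act (Matrix.GeneralLinearGroup.map (algebraMap k K) g) p = φ p := by
  have hy : Function.Injective (fun i => φ (x i)) :=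
    fun i j hij => hx (hinj (hxS i) (hxS j) hij)
  have H : ∀ (σ : K ≃ₐ[k] K) (i : Fin 3), ∃ j, galP σ (x i) = x j ∧
      galP σ ((fun i => φ (x i)) i) = (fun i => φ (x i)) j := by
    intro σ i
    obtain ⟨j, hj⟩ := hcov _ (hst σ (x i) (hxS i))
    refine ⟨j, hj.symm, ?_⟩
    show galP σ (φ (x i)) = φ (x j)
    rw [← heq σ (x i) (hxS i), hj]
  obtain ⟨g, hg⟩ := lemmaA x (fun i => φ (x i)) hx hy H
  refine ⟨g, fun p hp => ?_⟩
  obtain ⟨j, rfl⟩ := hcov p hp
  exact hg j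

theorem PP3 [FiniteDimensional k K] [IsGalois k K] : PP k K 3 := by
  intro S φ hfin hcard hst hinj heq
  obtain ⟨p0, p1, p2, h01, h02, h12, rfl⟩ := Set.ncard_eq_three.mp hcard
  refine PP3_aux _ φ ![p0, p1, p2] (inj3 p0 p1 p2 h01 h02 h12) ?_ ?_ hst hinj heq
  · intro i; fin_cases i <;> simp
  · intro p hp
    simp only [Set.mem_insert_iff, Set.mem_singleton_iff] at hp
    rcases hp with rfl | rfl | rfl
    · exact ⟨0, rfl⟩
    · exact ⟨1, rfl⟩
    · exact ⟨2, rfl⟩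

theorem step [FiniteDimensional k K] [IsGalois k K] (m : ℕ) (hm : m ≤ 2)
    (Hm : PP k K (m + 1)) : PP k K m := by
  classical
  intro S φ hfin hcard hst hinj heq
  obtain ⟨r, hrfix, hrS⟩ := pick (k := k) S hfin (by omega)
  obtain ⟨r', hr'fix, hr'S⟩ := pick (k := k) (φ '' S) (hfin.image φ)
    (by rw [hinj.ncard_image]; omega)
  have hcard' : (insert r S).ncard = m + 1 := by
    rw [Set.ncard_insert_of_notMem hrS hfin, hcard]
  have hφ' : ∀ p ∈ S, Function.update φ r r' p = φ p := by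
    intro p hp
    have hne : p ≠ r := fun h => hrS (h ▸ hp)
    exact Function.update_of_ne hne _ _
  have hφr : Function.update φ r r' r = r' := Function.update_self _ _ _
  have hst' : ∀ (σ : K ≃ₐ[k] K), ∀ p ∈ insert r S, galP σ p ∈ insert r S := by
    intro σ p hp
    rcases Set.mem_insert_iff.mp hp with h | hp
    · rw [h, hrfix σ]; exact Set.mem_insert _ _
    · exact Set.mem_insert_of_mem _ (hst σ p hp)
  have hinj' : Set.InjOn (Function.update φ r r') (insert r S) := by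
    intro p hp q hq hpq
    rcases Set.mem_insert_iff.mp hp with h | hp <;> rcases Set.mem_insert_iff.mp hq with h' | hq
    · rw [h, h']
    · exfalso
      rw [h, hφr, hφ' q hq] at hpq
      exact hr'S ⟨q, hq, hpq.symm⟩
    · exfalso
      rw [h', hφr, hφ' p hp] at hpq
      exact hr'S ⟨p, hp, hpq⟩
    · rw [hφ' p hp, hφ' q hq] at hpq
      exact hinj hp hq hpq
  have heq' : ∀ (σ : K ≃ₐ[k] K), ∀ p ∈ insert r S,
      Function.update φ r r' (galP σ p) = galP σ (Function.update φ r r' p) := by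
    intro σ p hp
    rcases Set.mem_insert_iff.mp hp with h | hp
    · rw [h, hrfix σ, hφr, hr'fix σ]
    · rw [hφ' _ (hst σ p hp), hφ' p hp, heq σ p hp]
  obtain ⟨g, hg⟩ := Hm (insert r S) (Function.update φ r r') (hfin.insert r) hcard' hst' hinj' heq'
  exact ⟨g, fun p hp => by rw [hg p (Set.mem_insert_of_mem r hp), hφ' p hp]⟩

theorem s13783 (k K : Type u) [Field k] [Field K]
    [Algebra k K] [FiniteDimensional k K] [IsGalois k K]
    (S S' : Set (Projectivization K (Fin 2 → K))) (hfin : S.Finite) (h3 : S.ncard ≤ 3)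
    (hS : ∀ (σ : K ≃ₐ[k] K) (x : Projectivization K (Fin 2 → K)), x ∈ S → W4c1stackycurves.galP σ x ∈ S)
    (b : S ≃ S')
    (hb : ∀ (σ : K ≃ₐ[k] K) (x : S),
      (b ⟨W4c1stackycurves.galP σ x.1, hS σ x.1 x.2⟩ : Projectivization K (Fin 2 → K)) =
        W4c1stackycurves.galP σ (b x).1) :
    ∃ g : Matrix.GeneralLinearGroup (Fin 2) k,
      (fun x => (Matrix.GeneralLinearGroup.toLin ((Matrix.GeneralLinearGroup.map (algebraMap k K)) g)) • x) '' S = S' := by
  classical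
  have P3 := PP3 (k := k) (K := K)
  have P2 := step 2 le_rfl P3
  have P1 := step 1 (by omega) P2
  have P0 := step 0 (by omega) P1
  have Pall : PP k K S.ncard := by
    have : S.ncard = 0 ∨ S.ncard = 1 ∨ S.ncard = 2 ∨ S.ncard = 3 := by omega
    rcases this with h | h | h | h <;> rw [h] <;> assumption
  obtain ⟨φ, hφdef⟩ : ∃ φ : Projectivization K (Fin 2 → K) → Projectivization K (Fin 2 → K),
      φ = fun p => if h : p ∈ S then (b ⟨p, h⟩ : Projectivization K (Fin 2 → K)) else p :=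
    ⟨_, rfl⟩
  have hφ : ∀ p (h : p ∈ S), φ p = (b ⟨p, h⟩).1 := by
    intro p h; rw [hφdef]; exact dif_pos h
  have hinj : Set.InjOn φ S := by
    intro p hp q hq hpq
    rw [hφ p hp, hφ q hq] at hpq
    have := b.injective (Subtype.ext hpq)
    exact congrArg Subtype.val this
  have heq : ∀ (σ : K ≃ₐ[k] K), ∀ p ∈ S, φ (galP σ p) = galP σ (φ p) := by
    intro σ p hp
    rw [hφ _ (hS σ p hp), hφ p hp]
    exact hb σ ⟨p, hp⟩
  obtain ⟨g, hg⟩ := Pall S φ hfin rfl (fun σ p hp => hS σ p hp) hinj heq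
  refine ⟨g, ?_⟩
  ext q
  constructor
  · rintro ⟨p, hp, rfl⟩
    have := hg p hp
    show act (Matrix.GeneralLinearGroup.map (algebraMap k K) g) p ∈ S'
    rw [this, hφ p hp]
    exact (b ⟨p, hp⟩).2
  · intro hq
    refine ⟨(b.symm ⟨q, hq⟩).1, (b.symm ⟨q, hq⟩).2, ?_⟩
    have := hg _ (b.symm ⟨q, hq⟩).2
    show act (Matrix.GeneralLinearGroup.map (algebraMap k K) g) _ = q
    rw [this, hφ _ (b.symm ⟨q, hq⟩).2]
    simp

end Groth.Agent.Lib.Helper24P1Desc
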