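import Mathlib

/-!
# Admissible regular systems of parameters for `p`-group actions

A finite `p`-group acting on a regular local ring of characteristic `p`, trivially on the residue
field, acts unipotently on the cotangent space; a basis adapted to an invariant flag lifts to an
admissible regular system of parameters.
-/

namespace Groth.Agent.Lib.Helper24PGrpParam

universe u v w

section Fixed

variable {p : ℕ} [Fact p.Prime] {G : Type v} [Group G] [Finite G]
variable {k : Type w} [Field k] {V : Type u} [AddCommGroup V] [Module k V]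

/-- A `p`-group acting linearly on a nonzero module killed by `p` has a nonzero fixed vector. -/
lemma exists_fixed (hG : IsPGroup p G) (ρ : G →* (V →ₗ[k] V)) (hp : ∀ v : V, p • v = 0)
    [Nontrivial V] : ∃ v : V, v ≠ 0 ∧ ∀ σ, ρ σ v = v := by
  obtain ⟨w, hw⟩ := exists_ne (0 : V)
  let S : Set V := Set.range fun σ : G => ρ σ w
  let M : AddSubgroup V := AddSubgroup.closure S
  have hstab : ∀ (σ : G) (x : V), x ∈ M → ρ σ x ∈ M := by
    intro σ x hx
    induction hx using AddSubgroup.closure_induction with
    | mem x hx =>
      obtain ⟨τ, rfl⟩ := hx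
      apply AddSubgroup.subset_closure
      refine ⟨σ * τ, ?_⟩
      simp [map_mul]
    | zero => simp [M.zero_mem]
    | add x y _ _ hx hy => rw [map_add]; exact M.add_mem hx hy
    | neg x _ hx => rw [map_neg]; exact M.neg_mem hx
  letI : MulAction G M :=
    { smul := fun σ x => ⟨ρ σ x.1, hstab σ x.1 x.2⟩
      one_smul := fun x => Subtype.ext (by change ρ 1 x.1 = x.1; simp)
      mul_smul := fun σ τ x => Subtype.ext (by
        change ρ (σ * τ) x.1 = ρ σ (ρ τ x.1); simp [map_mul]) }
  have hsmul : ∀ (σ : G) (x : M), ((σ • x : M) : V) = ρ σ x.1 := fun _ _ => rfl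
  haveI : Finite S := Set.finite_range _
  haveI : AddGroup.FG M := AddGroup.closure_finite_fg S
  haveI : Finite M := by
    apply AddCommGroup.finite_of_fg_isAddTorsion
    intro x
    rw [isOfFinAddOrder_iff_nsmul_eq_zero]
    exact ⟨p, (Fact.out : p.Prime).pos, Subtype.ext (by simpa using hp x.1)⟩
  let w' : M := ⟨w, AddSubgroup.subset_closure ⟨1, by simp⟩⟩
  have hw' : w' ≠ 0 := fun h => hw (congrArg Subtype.val h)
  have hpw : p • w' = 0 := Subtype.ext (by simpa using hp w)
  have hdvd : p ∣ Nat.card M := by
    have := addOrderOf_dvd_natCard w'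
    rwa [addOrderOf_eq_prime hpw hw'] at this
  have h0 : (0 : M) ∈ MulAction.fixedPoints G M := by
    intro σ
    apply Subtype.ext
    rw [hsmul]
    simp
  obtain ⟨b, hb, hb0⟩ := hG.exists_fixed_point_of_prime_dvd_card_of_fixed_point M hdvd h0
  refine ⟨b.1, fun h => hb0 (Subtype.ext h.symm), fun σ => ?_⟩
  have := hb σ
  rw [← hsmul, this]

end Fixed

section Flag

variable {p : ℕ} [Fact p.Prime] {G : Type v} [Group G] [Finite G]
variable {k : Type w} [Field k]

/-- A `p`-group acting linearly on a finite-dimensional space killed by `p` admits a family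
`e_1, …, e_n` such that `τ_1 e_1, …, τ_n e_n` spans for every choice of `τ_i`. -/
lemma exists_admissible (hG : IsPGroup p G) :
    ∀ (n : ℕ) (V : Type u) [AddCommGroup V] [Module k V] [FiniteDimensional k V]
      (ρ : G →* (V →ₗ[k] V)) (_ : ∀ v : V, p • v = 0) (_ : Module.finrank k V = n),
      ∃ e : Fin n → V, ∀ τ : Fin n → G,
        Submodule.span k (Set.range fun i => ρ (τ i) (e i)) = ⊤ := by
  intro n
  induction n with
  | zero =>
    intro V _ _ _ ρ _ hn
    haveI : Subsingleton V := Module.finrank_zero_iff.mp hn
    exact ⟨fun i => i.elim0, fun τ => Subsingleton.elim _ _⟩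
  | succ n ih =>
    intro V _ _ _ ρ hp hn
    haveI : Nontrivial V := Module.nontrivial_of_finrank_pos (R := k) (by omega)
    obtain ⟨v, hv0, hv⟩ := exists_fixed hG ρ hp
    let L : Submodule k V := Submodule.span k {v}
    have hL : ∀ σ, L ≤ L.comap (ρ σ) := by
      intro σ
      rw [Submodule.span_le]
      rintro x rfl
      change ρ σ x ∈ L
      rw [hv σ]
      exact Submodule.subset_span rfl
    let ρ' : G →* ((V ⧸ L) →ₗ[k] (V ⧸ L)) :=
      { toFun := fun σ => L.mapQ L (ρ σ) (hL σ)
        map_one' := by
          apply LinearMap.ext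
          intro x
          obtain ⟨x, rfl⟩ := L.mkQ_surjective x
          simp
        map_mul' := by
          intro σ τ
          apply LinearMap.ext
          intro x
          obtain ⟨x, rfl⟩ := L.mkQ_surjective x
          simp [map_mul] }
    have hρ' : ∀ σ x, ρ' σ (L.mkQ x) = L.mkQ (ρ σ x) := fun σ x => rfl
    have hp' : ∀ x : V ⧸ L, p • x = 0 := by
      intro x
      obtain ⟨x, rfl⟩ := L.mkQ_surjective x
      rw [← map_nsmul, hp, map_zero]
    have hn' : Module.finrank k (V ⧸ L) = n := by
      have h1 := Submodule.finrank_quotient_add_finrank L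
      have h2 : Module.finrank k L = 1 := finrank_span_singleton hv0
      omega
    obtain ⟨e', he'⟩ := ih (V ⧸ L) ρ' hp' hn'
    choose ê hê using fun i => L.mkQ_surjective (e' i)
    refine ⟨Fin.cons v ê, fun τ => ?_⟩
    set S := Submodule.span k (Set.range fun i => ρ (τ i) ((Fin.cons v ê : Fin (n + 1) → V) i))
      with hS
    have hvS : L ≤ S := by
      rw [Submodule.span_le]
      rintro x rfl
      apply Submodule.subset_span
      exact ⟨0, by simp [hv]⟩
    have hmap : S.map L.mkQ = ⊤ := by
      rw [eq_top_iff, ← he' (fun i => τ i.succ), Submodule.span_le]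
      rintro _ ⟨i, rfl⟩
      refine ⟨ρ (τ i.succ) (ê i), ?_, ?_⟩
      · apply Submodule.subset_span
        exact ⟨i.succ, by simp⟩
      · change L.mkQ (ρ (τ i.succ) (ê i)) = ρ' (τ i.succ) (e' i)
        rw [← hê i, hρ']
    have := Submodule.comap_map_eq L.mkQ S
    rw [hmap, Submodule.comap_top, Submodule.ker_mkQ, sup_eq_left.mpr hvS] at this
    exact this.symm

end Flag

section Ring

open IsLocalRing

variable (p : ℕ) [Fact p.Prime] (A : Type u) [CommRing A] [IsRegularLocalRing A] [CharP A p]
  (G : Type v) [Group G] [Finite G] [MulSemiringAction G A]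

omit [Fact p.Prime] [IsRegularLocalRing A] [CharP A p] [Finite G] in
variable {A G} in
lemma smul_mem_maximalIdeal [IsLocalRing A] (σ : G) {x : A} (hx : x ∈ maximalIdeal A) :
    σ • x ∈ maximalIdeal A := by
  rw [mem_maximalIdeal, mem_nonunits_iff] at hx ⊢
  intro h
  apply hx
  have := h.map (MulSemiringAction.toRingHom G A σ⁻¹)
  simpa using this

variable {A G} in
/-- The action of `σ` on the cotangent space, as an `A`-linear map. -/
noncomputable def cotAct (hres : ∀ (σ : G) (a : A), σ • a - a ∈ maximalIdeal A) (σ : G) :
    CotangentSpace A →ₗ[A] CotangentSpace A :=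
  Ideal.Cotangent.lift
    ({ toFun := fun x => (maximalIdeal A).toCotangent ⟨σ • x.1, smul_mem_maximalIdeal σ x.2⟩
       map_add' := by
        intro x y
        rw [← map_add]
        congr 1
        apply Subtype.ext
        simp [smul_add]
       map_smul' := by
        intro a x
        simp only [RingHom.id_apply]
        rw [← map_smul, Ideal.toCotangent_eq]
        have : σ • ((a • x : maximalIdeal A) : A) - ((a • (⟨σ • x.1, smul_mem_maximalIdeal σ x.2⟩ :
            maximalIdeal A) : maximalIdeal A) : A) = (σ • a - a) * (σ • x.1) := by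
          simp [smul_mul', sub_mul]
        rw [this, pow_two]
        exact Ideal.mul_mem_mul (hres σ a) (smul_mem_maximalIdeal σ x.2) } :
      maximalIdeal A →ₗ[A] CotangentSpace A)
    (by
      intro x y
      change (maximalIdeal A).toCotangent _ = 0
      rw [Ideal.toCotangent_eq_zero, pow_two]
      change σ • (x.1 * y.1) ∈ _
      rw [smul_mul']
      exact Ideal.mul_mem_mul (smul_mem_maximalIdeal σ x.2) (smul_mem_maximalIdeal σ y.2))

variable {A G} in
lemma cotAct_toCotangent (hres : ∀ (σ : G) (a : A), σ • a - a ∈ maximalIdeal A) (σ : G)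
    (x : maximalIdeal A) :
    cotAct hres σ ((maximalIdeal A).toCotangent x) =
      (maximalIdeal A).toCotangent ⟨σ • x.1, smul_mem_maximalIdeal σ x.2⟩ := rfl

variable {A G} in
/-- The representation of `G` on the cotangent space over the residue field. -/
noncomputable def cotRep (hres : ∀ (σ : G) (a : A), σ • a - a ∈ maximalIdeal A) :
    G →* (CotangentSpace A →ₗ[ResidueField A] CotangentSpace A) where
  toFun σ := (cotAct hres σ).extendScalarsOfSurjective Ideal.Quotient.mk_surjective
  map_one' := by
    apply LinearMap.ext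
    intro x
    obtain ⟨x, rfl⟩ := (maximalIdeal A).toCotangent_surjective x
    change cotAct hres 1 _ = (maximalIdeal A).toCotangent x
    rw [cotAct_toCotangent]
    congr 1
    apply Subtype.ext
    simp
  map_mul' σ τ := by
    apply LinearMap.ext
    intro x
    obtain ⟨x, rfl⟩ := (maximalIdeal A).toCotangent_surjective x
    rw [Module.End.mul_apply]
    change cotAct hres (σ * τ) _ = cotAct hres σ (cotAct hres τ _)
    rw [cotAct_toCotangent, cotAct_toCotangent, cotAct_toCotangent]
    congr 1
    apply Subtype.ext
    simp [mul_smul]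

theorem main (hG : IsPGroup p G)
    (hres : ∀ (σ : G) (a : A), σ • a - a ∈ IsLocalRing.maximalIdeal A)
    (n : ℕ) (hn : ringKrullDim A = n) :
    ∃ u : Fin n → A, ∀ τ : Fin n → G,
      Ideal.span (Set.range fun i => τ i • u i) = IsLocalRing.maximalIdeal A := by
  have hfr : Module.finrank (ResidueField A) (CotangentSpace A) = n := by
    have := (IsRegularLocalRing.iff_finrank_cotangentSpace A).mp inferInstance
    rw [hn] at this
    exact_mod_cast this
  have hp : ∀ v : CotangentSpace A, p • v = 0 := by
    intro v
    obtain ⟨x, rfl⟩ := (maximalIdeal A).toCotangent_surjective v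
    rw [← map_nsmul]
    have : p • x = 0 := by
      apply Subtype.ext
      simp [nsmul_eq_mul, CharP.cast_eq_zero]
    rw [this, map_zero]
  obtain ⟨e, he⟩ := exists_admissible (k := ResidueField A) hG n (CotangentSpace A)
    (cotRep hres) hp hfr
  choose u' hu' using fun i => (maximalIdeal A).toCotangent_surjective (e i)
  refine ⟨fun i => (u' i : A), fun τ => ?_⟩
  have h1 := he τ
  let s : Set (maximalIdeal A) :=
    Set.range fun i => (⟨τ i • (u' i : A), smul_mem_maximalIdeal (τ i) (u' i).2⟩ : maximalIdeal A)
  have h2 : (Set.range fun i => cotRep hres (τ i) (e i)) = (maximalIdeal A).toCotangent '' s := by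
    rw [← Set.range_comp]
    congr 1
    funext i
    change cotAct hres (τ i) (e i) = _
    rw [← hu' i, cotAct_toCotangent]
    rfl
  rw [h2, CotangentSpace.span_image_eq_top_iff] at h1
  have h3 := congrArg (Submodule.map (maximalIdeal A).subtype) h1
  rw [Submodule.map_span, Submodule.map_top, Submodule.range_subtype, ← Set.range_comp] at h3
  exact h3

end Ring

end Groth.Agent.Lib.Helper24PGrpParam
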