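import Mathlib

set_option autoImplicit false

namespace Groth.Agent.Lib.Helper24PSD

universe u

open MvPowerSeries

section Decomp

variable {k : Type u} [Field k] (p : ℕ) [hp : Fact p.Prime] [CharP k p] [PerfectRing k p] {n : ℕ}

/-- exponent vector of a residue pattern -/
noncomputable def av (a : Fin n → Fin p) : Fin n →₀ ℕ :=
  Finsupp.equivFunOnFinite.symm (fun i => (a i : ℕ))

omit hp in
theorem av_apply (a : Fin n → Fin p) (i : Fin n) : av p a i = (a i : ℕ) := rfl

/-- the `p`-th root part of `g` in the residue class `a` -/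
noncomputable def hpart (g : MvPowerSeries (Fin n) k) (a : Fin n → Fin p) :
    MvPowerSeries (Fin n) k :=
  fun β => (frobeniusEquiv k p).symm (coeff (av p a + p • β) g)

theorem coeff_hpart (g : MvPowerSeries (Fin n) k) (a : Fin n → Fin p) (β : Fin n →₀ ℕ) :
    coeff β (hpart p g a) = (frobeniusEquiv k p).symm (coeff (av p a + p • β) g) := rfl

theorem coeff_hpart_pow (g : MvPowerSeries (Fin n) k) (a : Fin n → Fin p) (m : Fin n →₀ ℕ) :
    coeff m ((hpart p g a) ^ p) = if ∀ i, p ∣ m i then coeff (av p a + m) g else 0 := by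
  have hp0 : p ≠ 0 := hp.out.ne_zero
  rw [← map_frobenius_expand p hp0, coeff_map]
  split_ifs with h
  · set β : Fin n →₀ ℕ := m.mapRange (fun x => x / p) (Nat.zero_div p) with hβ
    have hm : m = p • β := by
      ext i
      rw [Finsupp.smul_apply, hβ, Finsupp.mapRange_apply, smul_eq_mul]
      exact (Nat.mul_div_cancel' (h i)).symm
    rw [hm, coeff_expand_smul, coeff_hpart]
    exact frobenius_apply_frobeniusEquiv_symm k p _
  · rw [not_forall] at h
    obtain ⟨i, hi⟩ := h
    rw [coeff_expand_of_not_dvd p hp0 _ hi, map_zero]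

/-- the monomial with exponent `av a` -/
noncomputable def xa (a : Fin n → Fin p) : MvPowerSeries (Fin n) k := monomial (av p a) (1 : k)

/-- the decomposition of a power series over `k[[x^p]]` -/
theorem decomp (g : MvPowerSeries (Fin n) k) :
    g = ∑ a : Fin n → Fin p, xa p a * (hpart p g a) ^ p := by
  have hp0 : 0 < p := hp.out.pos
  ext m
  rw [map_sum]
  set a₀ : Fin n → Fin p := fun i => ⟨m i % p, Nat.mod_lt _ hp0⟩ with ha₀
  rw [Finset.sum_eq_single a₀]
  · unfold xa
    rw [coeff_monomial_mul, one_mul, coeff_hpart_pow]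
    have hle : av p a₀ ≤ m := by
      intro i
      rw [av_apply]
      exact Nat.mod_le _ _
    rw [if_pos hle, if_pos, add_tsub_cancel_of_le hle]
    intro i
    rw [Finsupp.tsub_apply, av_apply]
    exact Nat.dvd_sub_mod _
  · intro a _ hne
    unfold xa
    rw [coeff_monomial_mul, one_mul, coeff_hpart_pow]
    split_ifs with h1 h2
    · exfalso
      apply hne
      funext i
      apply Fin.ext
      have h3 := h2 i
      rw [Finsupp.tsub_apply, av_apply] at h3
      have h4 : (a i : ℕ) ≤ m i := by
        have := h1 i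
        rwa [av_apply] at this
      have h5 : (a i : ℕ) < p := (a i).2
      change (a i : ℕ) = m i % p
      obtain ⟨c, hc⟩ := h3
      have : m i = (a i : ℕ) + p * c := by omega
      rw [this, Nat.add_mul_mod_self_left, Nat.mod_eq_of_lt h5]
    · rfl
    · rfl
  · intro h
    exact absurd (Finset.mem_univ _) h

end Decomp

section DerFormula

variable {k : Type u} [Field k] (p : ℕ) [hp : Fact p.Prime] [CharP k p] [PerfectRing k p] {n : ℕ}
  {M : Type*} [AddCommGroup M] [Module k M] [Module (MvPowerSeries (Fin n) k) M]
  [IsScalarTower k (MvPowerSeries (Fin n) k) M]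
  (D : Derivation k (MvPowerSeries (Fin n) k) M)

/-- the set of power series on which `D` is given by the partial derivatives -/
def goodSub : Subalgebra k (MvPowerSeries (Fin n) k) where
  carrier := {g | D g = ∑ i, pderiv k i g • D (X i)}
  mul_mem' := by
    intro a b ha hb
    simp only [Set.mem_setOf_eq] at ha hb ⊢
    rw [Derivation.leibniz, ha, hb]
    simp only [Derivation.leibniz, smul_eq_mul, add_smul, Finset.sum_add_distrib, Finset.smul_sum,
      smul_smul]
  one_mem' := by
    simp only [Set.mem_setOf_eq]
    simp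
  add_mem' := by
    intro a b ha hb
    simp only [Set.mem_setOf_eq] at ha hb ⊢
    rw [map_add, ha, hb]
    simp only [map_add, add_smul, Finset.sum_add_distrib]
  zero_mem' := by
    simp only [Set.mem_setOf_eq]
    simp
  algebraMap_mem' := by
    intro c
    simp only [Set.mem_setOf_eq]
    rw [Derivation.map_algebraMap]
    simp

omit hp [CharP k p] [PerfectRing k p] in
theorem mem_goodSub (g : MvPowerSeries (Fin n) k) :
    g ∈ goodSub D ↔ D g = ∑ i, pderiv k i g • D (X i) := Iff.rfl

omit hp [CharP k p] [PerfectRing k p] in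
theorem X_mem_goodSub (j : Fin n) : X j ∈ goodSub D := by
  classical
  rw [mem_goodSub]
  rw [Finset.sum_eq_single j]
  · rw [pderiv_X_self, one_smul]
  · intro i _ hne
    rw [pderiv_X_of_ne (Ne.symm hne), zero_smul]
  · intro h
    exact absurd (Finset.mem_univ _) h

omit [PerfectRing k p] in
theorem pow_p_mem_goodSub (h : MvPowerSeries (Fin n) k) : h ^ p ∈ goodSub D := by
  rw [mem_goodSub]
  have hk : ((p : ℕ) : k) = 0 := CharP.cast_eq_zero k p
  have h1 : D (h ^ p) = 0 := by
    rw [Derivation.leibniz_pow, ← Nat.cast_smul_eq_nsmul k, hk, zero_smul]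
  have h2 : ∀ i, pderiv k i (h ^ p) = 0 := by
    intro i
    rw [Derivation.leibniz_pow, ← Nat.cast_smul_eq_nsmul k, hk, zero_smul]
  rw [h1]
  simp only [h2, zero_smul, Finset.sum_const_zero]

theorem xa_mem_goodSub (a : Fin n → Fin p) : xa (k := k) p a ∈ goodSub D := by
  classical
  have : xa (k := k) p a = ∏ i, (X i : MvPowerSeries (Fin n) k) ^ (a i : ℕ) := by
    unfold xa
    have h1 : av p a = ∑ i, Finsupp.single i (a i : ℕ) := by
      ext j
      rw [Finsupp.finsetSum_apply, av_apply]
      simp [Finsupp.single_apply]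
    rw [h1]
    simp only [X_pow_eq]
    rw [prod_monomial, Finset.prod_const_one]
  rw [this]
  exact Subalgebra.prod_mem _ fun i _ => Subalgebra.pow_mem _ (X_mem_goodSub D i) _

include hp in
/-- a `k`-derivation of the power series ring is determined by its values on the variables
(perfect ground field of characteristic `p`) -/
theorem der_formula (g : MvPowerSeries (Fin n) k) :
    D g = ∑ i, pderiv k i g • D (X i) := by
  rw [← mem_goodSub, decomp p g]
  exact Subalgebra.sum_mem _ fun a _ =>
    Subalgebra.mul_mem _ (xa_mem_goodSub p D a) (pow_p_mem_goodSub p D _)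

end DerFormula

end Groth.Agent.Lib.Helper24PSD
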