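import Mathlib

set_option autoImplicit false

namespace Groth.Agent.Lib.Helper24PSD

universe u

open CategoryTheory

section ExtPres

variable {S : Type u} [CommRing S] {n : ℕ} (M : Type u) [AddCommGroup M] [Module S M]
  (v : Fin n → S) (q : (Fin n → S) →ₗ[S] M)

/-- the map `r ↦ r • v` -/
noncomputable def jmap : S →ₗ[S] (Fin n → S) := LinearMap.toSpanSingleton S (Fin n → S) v

theorem jmap_apply (r : S) : jmap v r = r • v := rfl

variable (hq : Function.Surjective q) (hker : LinearMap.ker q = LinearMap.range (jmap v))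
  (hinj : Function.Injective (jmap v))

/-- the short complex of the presentation -/
noncomputable abbrev presSC (hker : LinearMap.ker q = LinearMap.range (jmap v)) :
    ShortComplex (ModuleCat.{u} S) :=
  ShortComplex.mk (ModuleCat.ofHom (jmap v)) (ModuleCat.ofHom q) (by
    rw [← ModuleCat.ofHom_comp]
    have : q ∘ₗ jmap v = 0 := by
      apply LinearMap.ext
      intro x
      have : jmap v x ∈ LinearMap.ker q := by rw [hker]; exact ⟨x, rfl⟩
      exact this
    rw [this]
    rfl)

include hq hinj in
theorem presSC_shortExact : (presSC M v q hker).ShortExact := by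
  refine ShortComplex.ShortExact.mk' ?_ ?_ ?_
  · rw [ShortComplex.moduleCat_exact_iff_range_eq_ker]
    exact hker.symm
  · exact (ModuleCat.mono_iff_injective _).mpr hinj
  · exact (ModuleCat.epi_iff_surjective _).mpr hq

instance : Projective (ModuleCat.of S S) :=
  (IsProjective.iff_projective (R := S) (P := S)).mp inferInstance

instance : Projective (ModuleCat.of S (Fin n → S)) :=
  (IsProjective.iff_projective (R := S) (P := (Fin n → S))).mp inferInstance

include hq hker hinj in
theorem ext_two_subsingleton :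
    Subsingleton (Abelian.Ext (ModuleCat.of S M) (ModuleCat.of S S) 2) := by
  have hS := presSC_shortExact M v q hq hker hinj
  refine subsingleton_of_forall_eq 0 fun x => ?_
  have h2 : (Abelian.Ext.mk₀ (presSC M v q hker).g).comp x (zero_add 2) = 0 := by
    haveI : Projective (presSC M v q hker).X₂ :=
      inferInstanceAs (Projective (ModuleCat.of S (Fin n → S)))
    exact Abelian.Ext.eq_zero_of_projective (n := 1) _
  obtain ⟨x₁, hx₁⟩ := Abelian.Ext.contravariant_sequence_exact₃ hS _ x h2 (show 1 + 1 = 2 from rfl)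
  haveI : Projective (presSC M v q hker).X₁ :=
    inferInstanceAs (Projective (ModuleCat.of S S))
  rw [← hx₁, Abelian.Ext.eq_zero_of_projective (n := 0) x₁, Abelian.Ext.comp_zero]

/-- the extension class in `Ext¹(M, S)` -/
noncomputable def cls : Abelian.Ext (ModuleCat.of S M) (ModuleCat.of S S) 1 :=
  (presSC_shortExact M v q hq hker hinj).extClass

/-- a linear endomorphism of `S` is multiplication by its value at `1` -/
theorem hom_eq_smul_id (φ : ModuleCat.of S S ⟶ ModuleCat.of S S) :
    φ = (φ.hom (1 : S)) • 𝟙 (ModuleCat.of S S) := by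
  apply ModuleCat.hom_ext
  apply LinearMap.ext
  intro y
  have h1 : φ.hom y = y • φ.hom (1 : S) := by
    rw [← map_smul, smul_eq_mul, mul_one]
  rw [h1]
  change y • φ.hom (1 : S) = φ.hom (1 : S) • y
  rw [smul_eq_mul, smul_eq_mul, mul_comm]

theorem smul_cls (r : S) :
    r • cls M v q hq hker hinj =
      (presSC_shortExact M v q hq hker hinj).extClass.comp
        (Abelian.Ext.mk₀ (r • 𝟙 (ModuleCat.of S S))) (add_zero 1) := by
  rw [Abelian.Ext.mk₀_smul, Abelian.Ext.comp_smul, Abelian.Ext.comp_mk₀_id]
  rfl

theorem ext_one_surj :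
    Function.Surjective
      (LinearMap.toSpanSingleton S _ (cls M v q hq hker hinj)) := by
  have hS := presSC_shortExact M v q hq hker hinj
  intro x
  have h2 : (Abelian.Ext.mk₀ (presSC M v q hker).g).comp x (zero_add 1) = 0 := by
    haveI : Projective (presSC M v q hker).X₂ :=
      inferInstanceAs (Projective (ModuleCat.of S (Fin n → S)))
    exact Abelian.Ext.eq_zero_of_projective (n := 0) _
  obtain ⟨x₁, hx₁⟩ := Abelian.Ext.contravariant_sequence_exact₃ hS _ x h2 (show 1 + 0 = 1 from rfl)
  obtain ⟨φ, rfl⟩ := (Abelian.Ext.mk₀_bijective _ _).2 x₁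
  refine ⟨(ModuleCat.Hom.hom φ) (1 : S), ?_⟩
  rw [LinearMap.toSpanSingleton_apply, smul_cls, ← hx₁]
  congr 2
  exact (hom_eq_smul_id φ).symm

theorem ext_one_ker :
    LinearMap.ker (LinearMap.toSpanSingleton S _ (cls M v q hq hker hinj)) =
      Ideal.span (Set.range v) := by
  have hS := presSC_shortExact M v q hq hker hinj
  ext r
  rw [LinearMap.mem_ker, LinearMap.toSpanSingleton_apply, smul_cls]
  constructor
  · intro h
    obtain ⟨x₂, hx₂⟩ := Abelian.Ext.contravariant_sequence_exact₁ hS _ _ (show 1 + 0 = 1 from rfl) h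
    obtain ⟨ψ, rfl⟩ := (Abelian.Ext.mk₀_bijective _ _).2 x₂
    rw [Abelian.Ext.mk₀_comp_mk₀] at hx₂
    have h3 := (Abelian.Ext.mk₀_bijective _ _).1 hx₂
    have h4 : ψ.hom v = r := by
      have := congrArg (fun φ : ModuleCat.of S S ⟶ ModuleCat.of S S => φ.hom (1 : S)) h3
      simp only [ModuleCat.hom_comp, LinearMap.comp_apply, ModuleCat.hom_smul,
        LinearMap.smul_apply, ModuleCat.hom_id, LinearMap.id_apply, smul_eq_mul, mul_one] at this
      have hj : ((presSC M v q hker).f).hom (1 : S) = v := by
        change jmap v 1 = v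
        rw [jmap_apply, one_smul]
      rw [hj] at this
      exact this
    rw [← h4, LinearMap.pi_apply_eq_sum_univ ψ.hom v]
    refine Ideal.sum_mem _ fun i _ => ?_
    rw [smul_eq_mul]
    exact Ideal.mul_mem_right _ _ (Ideal.subset_span ⟨i, rfl⟩)
  · intro h
    obtain ⟨c, hc⟩ := (Ideal.mem_span_range_iff_exists_fun).mp h
    let ψ : (Fin n → S) →ₗ[S] S := ∑ i, c i • LinearMap.proj i
    have h5 : (presSC M v q hker).f ≫ ModuleCat.ofHom ψ = r • 𝟙 (ModuleCat.of S S) := by
      apply ModuleCat.hom_ext
      apply LinearMap.ext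
      intro y
      change ψ (jmap v y) = r • y
      rw [jmap_apply, map_smul]
      have : ψ v = r := by
        rw [← hc]
        simp [ψ]
      rw [this, smul_eq_mul, smul_eq_mul, mul_comm]
    rw [← h5, ← Abelian.Ext.mk₀_comp_mk₀]
    exact hS.extClass_comp_assoc _

include hq hker hinj in
/-- the computation of `Ext¹` from the presentation -/
theorem ext_one_equiv :
    Nonempty (Abelian.Ext (ModuleCat.of S M) (ModuleCat.of S S) 1 ≃ₗ[S]
      S ⧸ Ideal.span (Set.range v)) := by
  have e1 := LinearMap.quotKerEquivOfSurjective _ (ext_one_surj M v q hq hker hinj)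
  have e2 := Submodule.quotEquivOfEq _ _ (ext_one_ker M v q hq hker hinj)
  exact ⟨e1.symm.trans e2⟩

end ExtPres

end Groth.Agent.Lib.Helper24PSD
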