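import Mathlib
import Groth.Agent.Lib.Helper24PSDa
import Groth.Agent.Lib.Helper24PSDc

set_option autoImplicit false

namespace Groth.Agent.Lib.Helper24PSD

universe u

open MvPowerSeries

section Pres

variable {k : Type u} [Field k] (p : ℕ) [hp : Fact p.Prime] [CharP k p] [PerfectRing k p] {n : ℕ}
  (f : MvPowerSeries (Fin n) k)

/-- the classes of the partial derivatives of `f` -/
noncomputable def vv : Fin n → (MvPowerSeries (Fin n) k ⧸ Ideal.span {f}) :=
  fun i => Ideal.Quotient.mk _ (pderiv k i f)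

/-- the differentials of the classes of the variables -/
noncomputable def dX (i : Fin n) : Ω[(MvPowerSeries (Fin n) k ⧸ Ideal.span {f})⁄k] :=
  KaehlerDifferential.D k (MvPowerSeries (Fin n) k ⧸ Ideal.span {f}) (Ideal.Quotient.mk _ (X i))

/-- the presentation map -/
noncomputable def qq : (Fin n → (MvPowerSeries (Fin n) k ⧸ Ideal.span {f})) →ₗ[
    MvPowerSeries (Fin n) k ⧸ Ideal.span {f}] Ω[(MvPowerSeries (Fin n) k ⧸ Ideal.span {f})⁄k] :=
  Fintype.linearCombination (MvPowerSeries (Fin n) k ⧸ Ideal.span {f}) (dX f)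

theorem qq_apply (c : Fin n → (MvPowerSeries (Fin n) k ⧸ Ideal.span {f})) :
    qq f c = ∑ i, c i • dX f i := by
  unfold qq
  rw [Fintype.linearCombination_apply]

include hp in
/-- the differential of a class -/
theorem D_mk (g : MvPowerSeries (Fin n) k) :
    KaehlerDifferential.D k (MvPowerSeries (Fin n) k ⧸ Ideal.span {f}) (Ideal.Quotient.mk _ g) =
      qq f (fun i => Ideal.Quotient.mk _ (pderiv k i g)) := by
  have h := der_formula p
    ((KaehlerDifferential.D k (MvPowerSeries (Fin n) k ⧸ Ideal.span {f})).compAlgebraMap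
      (MvPowerSeries (Fin n) k)) g
  rw [qq_apply]
  simp only [Derivation.compAlgebraMap_apply] at h
  rw [show (algebraMap (MvPowerSeries (Fin n) k) (MvPowerSeries (Fin n) k ⧸ Ideal.span {f}) g) =
    Ideal.Quotient.mk _ g from rfl] at h
  rw [h]
  refine Finset.sum_congr rfl fun i _ => ?_
  rw [← algebraMap_smul (MvPowerSeries (Fin n) k ⧸ Ideal.span {f}) (pderiv k i g)]
  rfl

include hp in
theorem qq_surjective : Function.Surjective (qq f) := by
  rw [← LinearMap.range_eq_top, eq_top_iff,
    ← KaehlerDifferential.span_range_derivation k (MvPowerSeries (Fin n) k ⧸ Ideal.span {f}),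
    Submodule.span_le]
  rintro _ ⟨r, rfl⟩
  obtain ⟨g, rfl⟩ := Ideal.Quotient.mk_surjective r
  rw [D_mk p f g]
  exact ⟨_, rfl⟩

include hp in
theorem qq_vv : qq f (vv f) = 0 := by
  have h := D_mk p f f
  have h0 : Ideal.Quotient.mk (Ideal.span {f}) f = 0 :=
    Ideal.Quotient.eq_zero_iff_mem.mpr (Ideal.subset_span rfl)
  rw [h0, map_zero] at h
  exact h.symm

/-- the vector of classes of the partial derivatives, as a `k`-linear map -/
noncomputable def gradL : MvPowerSeries (Fin n) k →ₗ[k]
    (Fin n → (MvPowerSeries (Fin n) k ⧸ Ideal.span {f})) :=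
  LinearMap.pi (fun i => ((Ideal.Quotient.mkₐ k (Ideal.span {f})).toLinearMap) ∘ₗ
    ((pderiv k i : Derivation k (MvPowerSeries (Fin n) k) (MvPowerSeries (Fin n) k)) :
      MvPowerSeries (Fin n) k →ₗ[k] MvPowerSeries (Fin n) k))

omit hp [CharP k p] [PerfectRing k p] in
theorem gradL_apply (g : MvPowerSeries (Fin n) k) (i : Fin n) :
    gradL f g i = Ideal.Quotient.mk _ (pderiv k i g) := rfl

omit hp [CharP k p] [PerfectRing k p] in
theorem gradL_mul (a b : MvPowerSeries (Fin n) k) :
    gradL f (a * b) = Ideal.Quotient.mk (Ideal.span {f}) a • gradL f b +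
      Ideal.Quotient.mk (Ideal.span {f}) b • gradL f a := by
  funext i
  rw [Pi.add_apply, Pi.smul_apply, Pi.smul_apply, gradL_apply, gradL_apply, gradL_apply,
    Derivation.leibniz, map_add, smul_eq_mul, smul_eq_mul, map_mul, map_mul, smul_eq_mul,
    smul_eq_mul]

omit hp [CharP k p] [PerfectRing k p] in
theorem gradL_mem (g : MvPowerSeries (Fin n) k) (hg : g ∈ Ideal.span {f}) :
    gradL f g ∈ LinearMap.range (jmap (vv f)) := by
  obtain ⟨h, rfl⟩ := Ideal.mem_span_singleton'.mp hg
  have h0 : Ideal.Quotient.mk (Ideal.span {f}) f = 0 :=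
    Ideal.Quotient.eq_zero_iff_mem.mpr (Ideal.subset_span rfl)
  refine ⟨Ideal.Quotient.mk _ h, ?_⟩
  funext i
  rw [jmap_apply, gradL_apply, Pi.smul_apply, Derivation.leibniz, map_add]
  simp only [smul_eq_mul, map_mul, h0, zero_mul, add_zero]
  rfl

/-- the comparison derivation, as a function -/
noncomputable def deltaFun (r : MvPowerSeries (Fin n) k ⧸ Ideal.span {f}) :
    (Fin n → (MvPowerSeries (Fin n) k ⧸ Ideal.span {f})) ⧸ LinearMap.range (jmap (vv f)) :=
  Submodule.Quotient.mk (gradL f (Function.surjInv Ideal.Quotient.mk_surjective r))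

omit hp [CharP k p] [PerfectRing k p] in
theorem deltaFun_mk (g : MvPowerSeries (Fin n) k) :
    deltaFun f (Ideal.Quotient.mk _ g) = Submodule.Quotient.mk (gradL f g) := by
  unfold deltaFun
  rw [Submodule.Quotient.eq, ← map_sub]
  apply gradL_mem
  rw [← Ideal.Quotient.eq]
  exact Function.surjInv_eq _ _

/-- the comparison derivation, as a linear map -/
noncomputable def deltaL : (MvPowerSeries (Fin n) k ⧸ Ideal.span {f}) →ₗ[k]
    ((Fin n → (MvPowerSeries (Fin n) k ⧸ Ideal.span {f})) ⧸ LinearMap.range (jmap (vv f))) where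
  toFun := deltaFun f
  map_add' := by
    intro r s
    obtain ⟨a, rfl⟩ := Ideal.Quotient.mk_surjective r
    obtain ⟨b, rfl⟩ := Ideal.Quotient.mk_surjective s
    rw [← map_add, deltaFun_mk, deltaFun_mk, deltaFun_mk, map_add, Submodule.Quotient.mk_add]
  map_smul' := by
    intro c r
    obtain ⟨a, rfl⟩ := Ideal.Quotient.mk_surjective r
    have : c • Ideal.Quotient.mk (Ideal.span {f}) a = Ideal.Quotient.mk (Ideal.span {f}) (c • a) :=
      (map_smul (Ideal.Quotient.mkₐ k (Ideal.span {f})) c a).symm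
    rw [this, deltaFun_mk, deltaFun_mk, map_smul, Submodule.Quotient.mk_smul, RingHom.id_apply]

omit hp [CharP k p] [PerfectRing k p] in
theorem deltaL_mk (g : MvPowerSeries (Fin n) k) :
    deltaL f (Ideal.Quotient.mk _ g) = Submodule.Quotient.mk (gradL f g) :=
  deltaFun_mk f g

/-- the comparison derivation -/
noncomputable def delta : Derivation k (MvPowerSeries (Fin n) k ⧸ Ideal.span {f})
    ((Fin n → (MvPowerSeries (Fin n) k ⧸ Ideal.span {f})) ⧸ LinearMap.range (jmap (vv f))) :=
  Derivation.mk' (deltaL f)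
    (by
      intro r s
      obtain ⟨a, rfl⟩ := Ideal.Quotient.mk_surjective r
      obtain ⟨b, rfl⟩ := Ideal.Quotient.mk_surjective s
      rw [← map_mul, deltaL_mk, deltaL_mk, deltaL_mk, gradL_mul, Submodule.Quotient.mk_add,
        Submodule.Quotient.mk_smul, Submodule.Quotient.mk_smul])

omit hp [CharP k p] [PerfectRing k p] in
theorem delta_mk (g : MvPowerSeries (Fin n) k) :
    delta f (Ideal.Quotient.mk _ g) = Submodule.Quotient.mk (gradL f g) :=
  deltaL_mk f g

/-- the linear map out of the differentials induced by `delta` -/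
noncomputable def ell : Ω[(MvPowerSeries (Fin n) k ⧸ Ideal.span {f})⁄k] →ₗ[
    MvPowerSeries (Fin n) k ⧸ Ideal.span {f}]
    ((Fin n → (MvPowerSeries (Fin n) k ⧸ Ideal.span {f})) ⧸ LinearMap.range (jmap (vv f))) :=
  (delta f).liftKaehlerDifferential

omit hp [CharP k p] [PerfectRing k p] in
theorem ell_D (r : MvPowerSeries (Fin n) k ⧸ Ideal.span {f}) :
    ell f (KaehlerDifferential.D k _ r) = delta f r :=
  Derivation.liftKaehlerDifferential_comp_D _ _

omit hp [CharP k p] [PerfectRing k p] in
theorem gradL_X (i : Fin n) : gradL f (X i) = Pi.single i 1 := by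
  classical
  funext j
  rw [gradL_apply, Pi.single_apply]
  by_cases h : j = i
  · subst h
    rw [if_pos rfl, pderiv_X_self]
    exact map_one (Ideal.Quotient.mk (Ideal.span {f}))
  · rw [if_neg h, pderiv_X_of_ne (Ne.symm h)]
    exact map_zero (Ideal.Quotient.mk (Ideal.span {f}))

omit hp [CharP k p] [PerfectRing k p] in
theorem ell_qq (c : Fin n → (MvPowerSeries (Fin n) k ⧸ Ideal.span {f})) :
    ell f (qq f c) = Submodule.Quotient.mk c := by
  classical
  rw [qq_apply, map_sum]
  have h1 : ∀ i, ell f (c i • dX f i) = Submodule.Quotient.mk (c i • Pi.single i 1) := by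
    intro i
    rw [map_smul]
    unfold dX
    rw [ell_D, delta_mk, gradL_X, Submodule.Quotient.mk_smul]
  simp only [h1]
  have h2 : ∀ x : Fin n → (MvPowerSeries (Fin n) k ⧸ Ideal.span {f}),
      (Submodule.Quotient.mk x : (Fin n → (MvPowerSeries (Fin n) k ⧸ Ideal.span {f})) ⧸
        LinearMap.range (jmap (vv f))) = Submodule.mkQ _ x := fun _ => rfl
  simp only [h2]
  rw [← map_sum]
  congr 1
  funext j
  rw [Finset.sum_apply]
  simp only [Pi.smul_apply, Pi.single_apply, smul_eq_mul, mul_ite, mul_one, mul_zero]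
  rw [Finset.sum_ite_eq]
  simp

include hp in
theorem qq_ker : LinearMap.ker (qq f) = LinearMap.range (jmap (vv f)) := by
  apply le_antisymm
  · intro c hc
    rw [LinearMap.mem_ker] at hc
    have h := ell_qq f c
    rw [hc, map_zero] at h
    exact (Submodule.Quotient.mk_eq_zero _).mp h.symm
  · rintro _ ⟨r, rfl⟩
    rw [LinearMap.mem_ker, jmap_apply, map_smul, qq_vv p f, smul_zero]

end Pres

end Groth.Agent.Lib.Helper24PSD
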