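import Mathlib
import Groth.Agent.Lib.Helper24PSDb

set_option autoImplicit false

namespace Groth.Agent.Lib.Helper24PSD

universe u

open MvPowerSeries

section Inj

variable {k : Type u} [Field k] {n : ℕ}

theorem X_pow_ne_zero (i : Fin n) (N : ℕ) : (X i : MvPowerSeries (Fin n) k) ^ N ≠ 0 := by
  intro h
  have := congrArg (coeff (Finsupp.single i N)) h
  rw [X_pow_eq, coeff_monomial_same, map_zero] at this
  exact one_ne_zero this

theorem X_mem_maximalIdeal (i : Fin n) :
    (X i : MvPowerSeries (Fin n) k) ∈ IsLocalRing.maximalIdeal (MvPowerSeries (Fin n) k) := by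
  rw [IsLocalRing.mem_maximalIdeal, mem_nonunits_iff, MvPowerSeries.isUnit_iff_constantCoeff]
  rw [constantCoeff_X]
  exact not_isUnit_zero

/-- `X_i^N ∣ a * X_j^N` implies `X_i^N ∣ a` for `i ≠ j` -/
theorem X_pow_dvd_of_dvd_mul {i j : Fin n} (hij : i ≠ j) (N : ℕ) (a : MvPowerSeries (Fin n) k)
    (h : (X i : MvPowerSeries (Fin n) k) ^ N ∣ a * X j ^ N) :
    (X i : MvPowerSeries (Fin n) k) ^ N ∣ a := by
  rw [X_pow_dvd_iff] at h ⊢
  intro m hm
  have h1 := h (m + Finsupp.single j N) (by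
    rw [Finsupp.add_apply, Finsupp.single_apply, if_neg (Ne.symm hij), add_zero]
    exact hm)
  rw [X_pow_eq, coeff_mul_monomial, if_pos (le_add_self), add_tsub_cancel_right, mul_one] at h1
  exact h1

/-- the key cancellation: if `g * 𝔪^N ⊆ (f)` with `f ≠ 0` (two variables at least) then `g ∈ (f)` -/
theorem mem_span_of_mul_pow_mem {i j : Fin n} (hij : i ≠ j) (N : ℕ)
    (f g : MvPowerSeries (Fin n) k) (hf : f ≠ 0)
    (hi : g * X i ^ N ∈ Ideal.span {f}) (hj : g * X j ^ N ∈ Ideal.span {f}) :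
    g ∈ Ideal.span {f} := by
  obtain ⟨a, ha⟩ := Ideal.mem_span_singleton'.mp hi
  obtain ⟨b, hb⟩ := Ideal.mem_span_singleton'.mp hj
  have h1 : f * (a * X j ^ N) = f * (b * X i ^ N) := by
    calc f * (a * X j ^ N) = (a * f) * X j ^ N := by ring
      _ = (g * X i ^ N) * X j ^ N := by rw [ha]
      _ = (g * X j ^ N) * X i ^ N := by ring
      _ = (b * f) * X i ^ N := by rw [hb]
      _ = f * (b * X i ^ N) := by ring
  have h2 : a * X j ^ N = b * X i ^ N := mul_left_cancel₀ hf h1
  have h3 : (X i : MvPowerSeries (Fin n) k) ^ N ∣ a :=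
    X_pow_dvd_of_dvd_mul hij N a ⟨b, by rw [h2]; ring⟩
  obtain ⟨a', rfl⟩ := h3
  have h4 : X i ^ N * g = X i ^ N * (a' * f) := by
    calc X i ^ N * g = g * X i ^ N := by ring
      _ = X i ^ N * a' * f := ha.symm
      _ = X i ^ N * (a' * f) := by ring
  have h5 : g = a' * f := mul_left_cancel₀ (X_pow_ne_zero i N) h4
  rw [h5]
  exact Ideal.mem_span_singleton'.mpr ⟨a', rfl⟩

end Inj

section Final

variable {k : Type u} [Field k] (p : ℕ) [hp : Fact p.Prime] [CharP k p] [PerfectRing k p] {n : ℕ}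
  (f : MvPowerSeries (Fin n) k)

include hp in
/-- the Jacobian ideal is generated by the partial derivatives -/
theorem jac_le :
    Ideal.span {g | ∃ D : Derivation k (MvPowerSeries (Fin n) k) (MvPowerSeries (Fin n) k), g = D f} ≤
      Ideal.span (Set.range fun i => pderiv k i f) := by
  rw [Ideal.span_le]
  rintro _ ⟨D, rfl⟩
  rw [SetLike.mem_coe, der_formula p D f]
  refine Ideal.sum_mem _ fun i _ => ?_
  rw [smul_eq_mul]
  exact Ideal.mul_mem_right _ _ (Ideal.subset_span ⟨i, rfl⟩)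

omit hp [CharP k p] [PerfectRing k p] in
theorem le_jac :
    Ideal.span (Set.range fun i => pderiv k i f) ≤
    Ideal.span {g | ∃ D : Derivation k (MvPowerSeries (Fin n) k) (MvPowerSeries (Fin n) k), g = D f} := by
  rw [Ideal.span_le]
  rintro _ ⟨i, rfl⟩
  exact Ideal.subset_span ⟨pderiv k i, rfl⟩

include hp in
theorem jac_map_eq :
    Ideal.map (Ideal.Quotient.mk (Ideal.span {f}))
      (Ideal.span {g | ∃ D : Derivation k (MvPowerSeries (Fin n) k) (MvPowerSeries (Fin n) k), g = D f}) =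
      Ideal.span (Set.range (vv f)) := by
  rw [le_antisymm (jac_le p f) (le_jac f), Ideal.map_span]
  congr 1
  ext x
  constructor
  · rintro ⟨_, ⟨i, rfl⟩, rfl⟩
    exact ⟨i, rfl⟩
  · rintro ⟨i, rfl⟩
    exact ⟨_, ⟨i, rfl⟩, rfl⟩

include hp in
theorem jmap_vv_injective {i j : Fin n} (hij : i ≠ j)
    (hiso : ∃ N : ℕ, IsLocalRing.maximalIdeal (MvPowerSeries (Fin n) k) ^ N ≤
      Ideal.span {f} ⊔ Ideal.span {g | ∃ D : Derivation k (MvPowerSeries (Fin n) k)
        (MvPowerSeries (Fin n) k), g = D f}) :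
    Function.Injective (jmap (vv f)) := by
  obtain ⟨N, hN⟩ := hiso
  have hN' : IsLocalRing.maximalIdeal (MvPowerSeries (Fin n) k) ^ N ≤
      Ideal.span {f} ⊔ Ideal.span (Set.range fun i => pderiv k i f) :=
    hN.trans (sup_le_sup_left (jac_le p f) _)
  have hf : f ≠ 0 := by
    rintro rfl
    have h1 : (X i : MvPowerSeries (Fin n) k) ^ N ∈
        Ideal.span {(0 : MvPowerSeries (Fin n) k)} ⊔
          Ideal.span (Set.range fun i => pderiv k i (0 : MvPowerSeries (Fin n) k)) :=
      hN' (Ideal.pow_mem_pow (X_mem_maximalIdeal i) N)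
    have h2 : Ideal.span {(0 : MvPowerSeries (Fin n) k)} ⊔
          Ideal.span (Set.range fun i => pderiv k i (0 : MvPowerSeries (Fin n) k)) = ⊥ := by
      rw [eq_bot_iff, sup_le_iff, Ideal.span_le, Ideal.span_le]
      constructor
      · rintro _ rfl
        exact Ideal.zero_mem _
      · rintro _ ⟨i, rfl⟩
        simp only [map_zero]
        exact Ideal.zero_mem _
    rw [h2, Ideal.mem_bot] at h1
    exact X_pow_ne_zero i N h1
  rw [← LinearMap.ker_eq_bot, eq_bot_iff]
  intro r hr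
  rw [LinearMap.mem_ker, jmap_apply] at hr
  obtain ⟨g, rfl⟩ := Ideal.Quotient.mk_surjective r
  rw [Submodule.mem_bot, Ideal.Quotient.eq_zero_iff_mem]
  -- the colon ideal
  have hcol : ∀ y ∈ Ideal.span {f} ⊔ Ideal.span (Set.range fun i => pderiv k i f),
      g * y ∈ Ideal.span {f} := by
    intro y hy
    have hle : Ideal.span {f} ⊔ Ideal.span (Set.range fun i => pderiv k i f) ≤
        Submodule.comap (LinearMap.mulLeft (MvPowerSeries (Fin n) k) g) (Ideal.span {f}) := by
      rw [sup_le_iff, Ideal.span_le, Ideal.span_le]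
      constructor
      · intro y hy
        rw [Set.mem_singleton_iff] at hy
        subst hy
        change g * y ∈ Ideal.span {y}
        exact Ideal.mul_mem_left _ _ (Ideal.subset_span (Set.mem_singleton y))
      · rintro _ ⟨l, rfl⟩
        change g * pderiv k l f ∈ Ideal.span {f}
        have := congrFun hr l
        rw [Pi.smul_apply, Pi.zero_apply] at this
        unfold vv at this
        rw [smul_eq_mul, ← map_mul, Ideal.Quotient.eq_zero_iff_mem] at this
        exact this
    exact hle hy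
  exact mem_span_of_mul_pow_mem hij N f g hf
    (hcol _ (hN' (Ideal.pow_mem_pow (X_mem_maximalIdeal i) N)))
    (hcol _ (hN' (Ideal.pow_mem_pow (X_mem_maximalIdeal j) N)))

end Final

theorem main (k : Type u) [Field k] [IsAlgClosed k]
    (p : ℕ) [Fact p.Prime] [CharP k p]
    (f : MvPowerSeries (Fin 3) k) (_hf : f ∈ IsLocalRing.maximalIdeal (MvPowerSeries (Fin 3) k))
    (hiso : ∃ N : ℕ, IsLocalRing.maximalIdeal (MvPowerSeries (Fin 3) k) ^ N ≤
      Ideal.span {f} ⊔ Ideal.span {g | ∃ D : Derivation k (MvPowerSeries (Fin 3) k) (MvPowerSeries (Fin 3) k), g = D f}) :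
    Subsingleton (CategoryTheory.Abelian.Ext
        (ModuleCat.of (MvPowerSeries (Fin 3) k ⧸ Ideal.span {f})
          (KaehlerDifferential k (MvPowerSeries (Fin 3) k ⧸ Ideal.span {f})))
        (ModuleCat.of (MvPowerSeries (Fin 3) k ⧸ Ideal.span {f}) (MvPowerSeries (Fin 3) k ⧸ Ideal.span {f})) 2) ∧
      Nonempty (CategoryTheory.Abelian.Ext
        (ModuleCat.of (MvPowerSeries (Fin 3) k ⧸ Ideal.span {f})
          (KaehlerDifferential k (MvPowerSeries (Fin 3) k ⧸ Ideal.span {f})))
        (ModuleCat.of (MvPowerSeries (Fin 3) k ⧸ Ideal.span {f}) (MvPowerSeries (Fin 3) k ⧸ Ideal.span {f})) 1 ≃ₗ[MvPowerSeries (Fin 3) k ⧸ Ideal.span {f}]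
        ((MvPowerSeries (Fin 3) k ⧸ Ideal.span {f}) ⧸ Ideal.map (Ideal.Quotient.mk (Ideal.span {f}))
          (Ideal.span {g | ∃ D : Derivation k (MvPowerSeries (Fin 3) k) (MvPowerSeries (Fin 3) k), g = D f}))) := by
  have hq := qq_surjective p f
  have hker := qq_ker p f
  have hinj := jmap_vv_injective p f (i := (0 : Fin 3)) (j := 1) (by decide) hiso
  refine ⟨ext_two_subsingleton _ (vv f) (qq f) hq hker hinj, ?_⟩
  rw [jac_map_eq p f]
  exact ext_one_equiv _ (vv f) (qq f) hq hker hinj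

end Groth.Agent.Lib.Helper24PSD
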