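import Mathlib

/-!
# Ring homomorphisms out of a power series ring into a ring where high monomials vanish (helper24)
-/

noncomputable section

namespace Groth.Agent.Lib.Helper24PSTrunc

open MvPowerSeries

variable {σ : Type*} [Finite σ] {R T : Type*} [CommRing R] [CommRing T] [Algebra R T]

theorem aeval_eq_zero_of_coeff (N : ℕ) (ξ : σ → T)
    (hξ : ∀ m : σ →₀ ℕ, N ≤ m.degree → m.prod (fun i k => ξ i ^ k) = 0)
    (p : MvPolynomial σ R) (hp : ∀ m : σ →₀ ℕ, m.degree < N → p.coeff m = 0) :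
    MvPolynomial.aeval ξ p = 0 := by
  rw [MvPolynomial.aeval_def, MvPolynomial.eval₂_eq]
  apply Finset.sum_eq_zero
  intro d _
  by_cases h : d.degree < N
  · rw [hp d h]; simp
  · have := hξ d (not_lt.mp h)
    rw [Finsupp.prod] at this
    rw [this, mul_zero]

/-- Evaluation of power series at a tuple whose monomials of degree `≥ N` vanish. -/
def truncHom (N : ℕ) (hN : N ≠ 0) (ξ : σ → T)
    (hξ : ∀ m : σ →₀ ℕ, N ≤ m.degree → m.prod (fun i k => ξ i ^ k) = 0) :
    MvPowerSeries σ R →ₐ[R] T :=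
  AlgHom.ofLinearMap ((MvPolynomial.aeval ξ).toLinearMap.comp (truncTotal (R := R) N))
    (by
      simp only [LinearMap.coe_comp, Function.comp_apply, AlgHom.toLinearMap_apply]
      rw [truncTotal_one hN, map_one])
    (by
      intro x y
      simp only [LinearMap.coe_comp, Function.comp_apply, AlgHom.toLinearMap_apply]
      rw [← map_mul, ← sub_eq_zero, ← map_sub]
      apply aeval_eq_zero_of_coeff N ξ hξ
      intro m hm
      rw [MvPolynomial.coeff_sub, coeff_truncTotal _ hm,
        coeff_truncTotal_mul_truncTotal_eq_coeff_mul _ _ hm, sub_self])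

theorem truncHom_apply (N : ℕ) (hN : N ≠ 0) (ξ : σ → T)
    (hξ : ∀ m : σ →₀ ℕ, N ≤ m.degree → m.prod (fun i k => ξ i ^ k) = 0) (s : MvPowerSeries σ R) :
    truncHom N hN ξ hξ s = MvPolynomial.aeval ξ (truncTotal N s) := rfl

theorem truncTotal_X (N : ℕ) (hN : 1 < N) (i : σ) :
    truncTotal N (X i : MvPowerSeries σ R) = MvPolynomial.X i := by
  classical
  ext m
  rw [coeff_truncTotal_eq_ite, MvPowerSeries.coeff_X, MvPolynomial.coeff_X]
  by_cases h : m = Finsupp.single i 1
  · subst h
    simp [hN]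
  · have h' : ¬ (Finsupp.single i 1 = m) := fun h' => h h'.symm
    simp [h, h']

theorem truncHom_X (N : ℕ) (hN : 1 < N) (ξ : σ → T)
    (hξ : ∀ m : σ →₀ ℕ, N ≤ m.degree → m.prod (fun i k => ξ i ^ k) = 0) (i : σ) :
    truncHom (R := R) N (by omega) ξ hξ (X i) = ξ i := by
  rw [truncHom_apply, truncTotal_X N hN, MvPolynomial.aeval_X]

end Groth.Agent.Lib.Helper24PSTrunc
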