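import Mathlib

set_option autoImplicit false

namespace Groth.Agent.Lib.Helper24PSplit

/-- divisibility structure from surjectivity of multiplication -/
@[instance_reducible]
noncomputable def divOfSurj {G : Type*} [AddCommGroup G]
    (H : ∀ n : ℤ, n ≠ 0 → ∀ a : G, ∃ b, n • b = a) : DivisibleBy G ℤ where
  div a n := if hn : n = 0 then 0 else (H n hn a).choose
  div_zero _ := dif_pos rfl
  div_cancel a hn := by
    simp only [dif_neg hn]
    exact (H _ hn a).choose_spec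

variable (P : Set ℕ)

/-- positive integers all of whose prime factors lie in `P` -/
def PNum (n : ℕ) : Prop := 0 < n ∧ ∀ p : ℕ, p.Prime → p ∣ n → p ∈ P

/-- positive integers none of whose prime factors lies in `P` -/
def PNum' (n : ℕ) : Prop := 0 < n ∧ ∀ p : ℕ, p.Prime → p ∣ n → p ∉ P

variable {P}

lemma PNum.mul {a b : ℕ} (ha : PNum P a) (hb : PNum P b) : PNum P (a * b) :=
  ⟨Nat.mul_pos ha.1 hb.1, fun p hp hdvd =>
    (hp.dvd_mul.mp hdvd).elim (ha.2 p hp) (hb.2 p hp)⟩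

lemma PNum'.mul {a b : ℕ} (ha : PNum' P a) (hb : PNum' P b) : PNum' P (a * b) :=
  ⟨Nat.mul_pos ha.1 hb.1, fun p hp hdvd =>
    (hp.dvd_mul.mp hdvd).elim (ha.2 p hp) (hb.2 p hp)⟩

lemma pnum_one : PNum P 1 := ⟨one_pos, fun p hp h => absurd (Nat.dvd_one.mp h) hp.ne_one⟩
lemma pnum'_one : PNum' P 1 := ⟨one_pos, fun p hp h => absurd (Nat.dvd_one.mp h) hp.ne_one⟩

lemma exists_factor (N : ℕ) (hN : 0 < N) : ∃ n m, N = n * m ∧ PNum P n ∧ PNum' P m := by
  classical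
  induction N using Nat.recOnMul with
  | zero => exact absurd hN (lt_irrefl 0)
  | one => exact ⟨1, 1, rfl, pnum_one, pnum'_one⟩
  | prime p hp =>
    by_cases hpP : p ∈ P
    · refine ⟨p, 1, (mul_one p).symm, ⟨hp.pos, fun q hq hqp => ?_⟩, pnum'_one⟩
      rw [(Nat.prime_dvd_prime_iff_eq hq hp).mp hqp]; exact hpP
    · refine ⟨1, p, (one_mul p).symm, pnum_one, ⟨hp.pos, fun q hq hqp => ?_⟩⟩
      rw [(Nat.prime_dvd_prime_iff_eq hq hp).mp hqp]; exact hpP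
  | mul a b iha ihb =>
    have ha : 0 < a := Nat.pos_of_ne_zero (by rintro rfl; simp at hN)
    have hb : 0 < b := Nat.pos_of_ne_zero (by rintro rfl; simp at hN)
    obtain ⟨n₁, m₁, rfl, hn₁, hm₁⟩ := iha ha
    obtain ⟨n₂, m₂, rfl, hn₂, hm₂⟩ := ihb hb
    exact ⟨n₁ * n₂, m₁ * m₂, by ring, hn₁.mul hn₂, hm₁.mul hm₂⟩

lemma coprime_of_pnum {n m : ℕ} (hn : PNum P n) (hm : PNum' P m) : Nat.Coprime n m :=
  Nat.coprime_of_dvd fun k hk hkn hkm => hm.2 k hk hkm (hn.2 k hk hkn)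

lemma exists_smul_of_coprime {G : Type*} [AddCommGroup G] {n m : ℕ} (h : Nat.Coprime n m)
    {x : G} (hx : n • x = 0) : ∃ v : ℤ, m • (v • x) = x := by
  obtain ⟨u, v, huv⟩ := (Nat.isCoprime_iff_coprime.mpr h)
  refine ⟨v, ?_⟩
  have h1 : (u * (n : ℤ) + v * (m : ℤ)) • x = x := by rw [huv, one_smul]
  rw [add_smul, mul_smul, mul_smul, natCast_zsmul, hx, smul_zero, zero_add, natCast_zsmul,
    smul_comm] at h1
  exact h1


theorem main {A T : Type*} [AddCommGroup A] [AddCommGroup T]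
    (π : A →+ T) (hπ : Function.Surjective π) (hT : ∀ t : T, ∃ n : ℕ, 0 < n ∧ n • t = 0)
    (hD : ∀ ℓ ∈ P, ∀ x ∈ π.ker, ∃ y ∈ π.ker, ℓ • y = x)
    (TP T' : AddSubgroup T)
    (hTP : ∀ t, t ∈ TP ↔ ∃ n : ℕ, PNum P n ∧ n • t = 0)
    (hT' : ∀ t, t ∈ T' ↔ ∃ n : ℕ, PNum' P n ∧ n • t = 0) :
    (∀ ℓ ∈ P, ℓ.Prime → ∀ x ∈ T'.comap π, ∃ y ∈ T'.comap π, ℓ • y = x) ∧
    ∃ s : TP →+ A, (∀ t : TP, π (s t) = (t : T)) ∧
      Function.Bijective (fun q : (T'.comap π) × TP => (q.1 : A) + s q.2) := by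
  classical
  -- divisibility of the kernel by `P`-numbers
  have Kdiv : ∀ n, PNum P n → ∀ x ∈ π.ker, ∃ y ∈ π.ker, n • y = x := by
    intro n
    induction n using Nat.recOnMul with
    | zero => intro h; exact absurd h.1 (lt_irrefl 0)
    | one => intro _ x hx; exact ⟨x, hx, one_smul _ x⟩
    | prime p hp => intro h x hx; exact hD p (h.2 p hp dvd_rfl) x hx
    | mul a b iha ihb =>
      intro h x hx
      have ha : PNum P a := ⟨Nat.pos_of_ne_zero (by rintro rfl; simpa using h.1),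
        fun q hq hqa => h.2 q hq (hqa.mul_right b)⟩
      have hb : PNum P b := ⟨Nat.pos_of_ne_zero (by rintro rfl; simpa using h.1),
        fun q hq hqb => h.2 q hq (hqb.mul_left a)⟩
      obtain ⟨y, hy, hyx⟩ := iha ha x hx
      obtain ⟨z, hz, hzy⟩ := ihb hb y hy
      exact ⟨z, hz, by rw [mul_smul, hzy, hyx]⟩
  -- `TP ⊓ T' = ⊥` and `TP ⊔ T' = ⊤`
  have hdisj : ∀ t, t ∈ TP → t ∈ T' → t = 0 := by
    intro t h1 h2
    obtain ⟨n, hn, hnt⟩ := (hTP t).mp h1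
    obtain ⟨m, hm, hmt⟩ := (hT' t).mp h2
    obtain ⟨v, hv⟩ := exists_smul_of_coprime (coprime_of_pnum hn hm) hnt
    rw [← hv, smul_comm, hmt, smul_zero]
  have hsum : ∀ t : T, ∃ t₁ ∈ TP, ∃ t₂ ∈ T', t = t₁ + t₂ := by
    intro t
    obtain ⟨N, hN, hNt⟩ := hT t
    obtain ⟨n, m, rfl, hn, hm⟩ := exists_factor (P := P) N hN
    obtain ⟨u, v, huv⟩ := (Nat.isCoprime_iff_coprime.mpr (coprime_of_pnum hn hm))
    refine ⟨(v * (m : ℤ)) • t, ?_, (u * (n : ℤ)) • t, ?_, ?_⟩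
    · rw [hTP]
      refine ⟨n, hn, ?_⟩
      rw [← natCast_zsmul, smul_smul, show (n : ℤ) * (v * m) = v * ((n * m : ℕ) : ℤ) by push_cast; ring,
        mul_smul, natCast_zsmul, hNt, smul_zero]
    · rw [hT']
      refine ⟨m, hm, ?_⟩
      rw [← natCast_zsmul, smul_smul, show (m : ℤ) * (u * n) = u * ((n * m : ℕ) : ℤ) by push_cast; ring,
        mul_smul, natCast_zsmul, hNt, smul_zero]
    · rw [← add_smul, add_comm, huv, one_smul]
  refine ⟨?_, ?_⟩
  · -- claim 1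
    intro ℓ hℓ hℓp x hx
    have hx' : π x ∈ T' := hx
    obtain ⟨m, hm, hmx⟩ := (hT' _).mp hx'
    have hℓnum : PNum P ℓ := ⟨hℓp.pos, fun q hq hqℓ => by
      rw [(Nat.prime_dvd_prime_iff_eq hq hℓp).mp hqℓ]; exact hℓ⟩
    obtain ⟨v, hv⟩ := exists_smul_of_coprime (coprime_of_pnum hℓnum hm).symm hmx
    obtain ⟨y₀, hy₀⟩ := hπ (v • π x)
    have hker : x - ℓ • y₀ ∈ π.ker := by
      rw [AddMonoidHom.mem_ker, map_sub, map_nsmul, hy₀, hv, sub_self]
    obtain ⟨k, hk, hkx⟩ := hD ℓ hℓ _ hker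
    refine ⟨y₀ + k, ?_, ?_⟩
    · change π (y₀ + k) ∈ T'
      rw [map_add, (AddMonoidHom.mem_ker.mp hk), add_zero, hy₀]
      exact T'.zsmul_mem hx' v
    · rw [smul_add, hkx]; abel
  · -- the `P`-torsion subgroup of `A`
    let AP : AddSubgroup A :=
      { carrier := {a | ∃ n : ℕ, PNum P n ∧ n • a = 0}
        add_mem' := by
          rintro a b ⟨n, hn, hna⟩ ⟨m, hm, hmb⟩
          refine ⟨n * m, hn.mul hm, ?_⟩
          rw [smul_add, mul_smul, smul_comm, hna, smul_zero, mul_comm, mul_smul, smul_comm, hmb,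
            smul_zero, add_zero]
        zero_mem' := ⟨1, pnum_one, smul_zero _⟩
        neg_mem' := by
          rintro a ⟨n, hn, hna⟩
          exact ⟨n, hn, by rw [smul_neg, hna, neg_zero]⟩ }
    have hAP : ∀ a, a ∈ AP ↔ ∃ n : ℕ, PNum P n ∧ n • a = 0 := fun a => Iff.rfl
    let KP : AddSubgroup A := π.ker ⊓ AP
    have hKP : ∀ a, a ∈ KP ↔ a ∈ π.ker ∧ a ∈ AP := fun a => Iff.rfl
    -- `KP` is divisible
    have hdivN : ∀ N : ℕ, 0 < N → ∀ a ∈ KP, ∃ b ∈ KP, N • b = a := by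
      intro N hN a ha
      obtain ⟨hak, N₀, hN₀, hN₀a⟩ := (hKP a).mp ha
      obtain ⟨n₁, m₁, rfl, hn₁, hm₁⟩ := exists_factor (P := P) N hN
      obtain ⟨y, hy, hya⟩ := Kdiv n₁ hn₁ a hak
      have hy0 : (N₀ * n₁) • y = 0 := by rw [mul_smul, hya, hN₀a]
      obtain ⟨v, hv⟩ := exists_smul_of_coprime (coprime_of_pnum (hN₀.mul hn₁) hm₁) hy0
      refine ⟨v • y, ⟨(π.ker).zsmul_mem hy v, ⟨N₀ * n₁, hN₀.mul hn₁, ?_⟩⟩, ?_⟩
      · rw [smul_comm, hy0, smul_zero]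
      · rw [mul_smul, hv, hya]
    have hdivZ : ∀ n : ℤ, n ≠ 0 → ∀ a : KP, ∃ b : KP, n • b = a := by
      intro n hn a
      have hpos : 0 < n.natAbs := Int.natAbs_pos.mpr hn
      obtain ⟨b, hb, hba⟩ := hdivN n.natAbs hpos a.1 a.2
      rcases Int.natAbs_eq n with h | h
      · refine ⟨⟨b, hb⟩, Subtype.ext ?_⟩
        rw [AddSubgroup.coe_zsmul, h, natCast_zsmul]
        exact hba
      · refine ⟨⟨-b, KP.neg_mem hb⟩, Subtype.ext ?_⟩
        rw [AddSubgroup.coe_zsmul, h, neg_smul, natCast_zsmul]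
        change -(n.natAbs • -b) = a.1
        rw [smul_neg, neg_neg]
        exact hba
    let _ : DivisibleBy KP ℤ := divOfSurj hdivZ
    obtain ⟨r, hr⟩ := Module.Baer.extension_property_addMonoidHom
      (Module.Baer.of_divisible (A := KP)) KP.subtype Subtype.val_injective (AddMonoidHom.id KP)
    have hr' : ∀ a (ha : a ∈ KP), r a = ⟨a, ha⟩ := fun a ha =>
      DFunLike.congr_fun hr ⟨a, ha⟩
    -- the restriction of `π` to `AP`
    have hπAP : ∀ a : AP, π a ∈ TP := by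
      rintro ⟨a, n, hn, hna⟩
      rw [hTP]
      exact ⟨n, hn, by rw [← map_nsmul, hna, map_zero]⟩
    let πAP : AP →+ TP := (π.comp AP.subtype).codRestrict TP hπAP
    have hsurj : Function.Surjective πAP := by
      rintro ⟨t, ht⟩
      obtain ⟨n, hn, hnt⟩ := (hTP t).mp ht
      obtain ⟨a, rfl⟩ := hπ t
      have hker : n • a ∈ π.ker := by rw [AddMonoidHom.mem_ker, map_nsmul, hnt]
      obtain ⟨k, hk, hka⟩ := Kdiv n hn _ hker
      have hmem : a - k ∈ AP := ⟨n, hn, by rw [smul_sub, hka, sub_self]⟩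
      refine ⟨⟨a - k, hmem⟩, Subtype.ext ?_⟩
      change π (a - k) = π a
      rw [map_sub, AddMonoidHom.mem_ker.mp hk, sub_zero]
    let φ : AP →+ A := AP.subtype - (KP.subtype.comp (r.comp AP.subtype))
    have hφ : ∀ a : AP, φ a = (a : A) - (r a : A) := fun a => rfl
    have hkerφ : πAP.ker ≤ φ.ker := by
      intro a ha
      have ha' : π (a : A) = 0 := congrArg Subtype.val (AddMonoidHom.mem_ker.mp ha)
      have haK : (a : A) ∈ KP := ⟨AddMonoidHom.mem_ker.mpr ha', a.2⟩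
      rw [AddMonoidHom.mem_ker, hφ, hr' _ haK, sub_self]
    let s : TP →+ A := πAP.liftOfRightInverse (Function.surjInv hsurj)
      (Function.rightInverse_surjInv hsurj) ⟨φ, hkerφ⟩
    have hs : ∀ a : AP, s (πAP a) = φ a := fun a =>
      AddMonoidHom.liftOfRightInverse_comp_apply _ _ _ ⟨φ, hkerφ⟩ a
    have hπs : ∀ t : TP, π (s t) = (t : T) := by
      intro t
      obtain ⟨a, rfl⟩ := hsurj t
      rw [hs, hφ, map_sub]
      have : π (r a : A) = 0 := AddMonoidHom.mem_ker.mp ((hKP _).mp (r a).2).1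
      rw [this, sub_zero]
      rfl
    refine ⟨s, hπs, ?_, ?_⟩
    · rintro ⟨⟨d, hd⟩, t⟩ ⟨⟨d', hd'⟩, t'⟩ h
      have h0 : d + s t = d' + s t' := h
      have h1 := congrArg π h0
      rw [map_add, map_add, hπs, hπs] at h1
      have h2 : (t : T) - t' = π d' - π d := by
        rw [sub_eq_sub_iff_add_eq_add, add_comm, h1, add_comm]
      have h3 : (t : T) - t' = 0 :=
        hdisj _ (TP.sub_mem t.2 t'.2) (by rw [h2]; exact T'.sub_mem hd' hd)
      have h4 : t = t' := Subtype.ext (sub_eq_zero.mp h3)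
      subst h4
      have h5 : d = d' := add_right_cancel h0
      subst h5
      rfl
    · intro a
      obtain ⟨t₁, ht₁, t₂, ht₂, hsum'⟩ := hsum (π a)
      have hd : a - s ⟨t₁, ht₁⟩ ∈ T'.comap π := by
        change π (a - s ⟨t₁, ht₁⟩) ∈ T'
        rw [map_sub, hπs, hsum']
        simpa using ht₂
      refine ⟨(⟨a - s ⟨t₁, ht₁⟩, hd⟩, ⟨t₁, ht₁⟩), ?_⟩
      change a - s ⟨t₁, ht₁⟩ + s ⟨t₁, ht₁⟩ = a
      abel

end Groth.Agent.Lib.Helper24PSplit
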