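import Mathlib

/-!
Support calculus for two-variable integer power series with nonnegative coefficients
(helper library for S8732 / S8736).
-/

set_option autoImplicit false

namespace Groth.Agent.Lib.Helper24PSupp

open MvPowerSeries Finset

abbrev E := Fin 2 →₀ ℕ
abbrev S := MvPowerSeries (Fin 2) ℤ

def NN (φ : S) : Prop := ∀ n : E, 0 ≤ coeff n φ

lemma NN_mul {φ ψ : S} (hφ : NN φ) (hψ : NN ψ) : NN (φ * ψ) := by
  intro n
  rw [coeff_mul]
  exact Finset.sum_nonneg fun p _ => mul_nonneg (hφ _) (hψ _)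

lemma supp_mul {φ ψ : S} (hφ : NN φ) (hψ : NN ψ) (n : E) :
    coeff n (φ * ψ) ≠ 0 ↔ ∃ a b : E, a + b = n ∧ coeff a φ ≠ 0 ∧ coeff b ψ ≠ 0 := by
  rw [coeff_mul]
  constructor
  · intro h
    obtain ⟨p, hp, hne⟩ := Finset.exists_ne_zero_of_sum_ne_zero h
    refine ⟨p.1, p.2, Finset.HasAntidiagonal.mem_antidiagonal.mp hp, ?_, ?_⟩
    · intro h0; apply hne; rw [h0, zero_mul]
    · intro h0; apply hne; rw [h0, mul_zero]
  · rintro ⟨a, b, hab, ha, hb⟩
    have hmem : (a, b) ∈ antidiagonal n := Finset.HasAntidiagonal.mem_antidiagonal.mpr hab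
    have hpos : 0 < coeff a φ * coeff b ψ :=
      mul_pos (lt_of_le_of_ne (hφ a) (Ne.symm ha)) (lt_of_le_of_ne (hψ b) (Ne.symm hb))
    have hle := Finset.single_le_sum (f := fun p : E × E => coeff p.1 φ * coeff p.2 ψ)
      (fun p _ => mul_nonneg (hφ p.1) (hψ p.2)) hmem
    intro h0
    rw [h0] at hle
    exact absurd hpos (not_lt.mpr hle)

lemma NN_add {φ ψ : S} (hφ : NN φ) (hψ : NN ψ) : NN (φ + ψ) := by
  intro n; rw [map_add]; exact add_nonneg (hφ n) (hψ n)

lemma supp_add {φ ψ : S} (hφ : NN φ) (hψ : NN ψ) (n : E) :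
    coeff n (φ + ψ) ≠ 0 ↔ coeff n φ ≠ 0 ∨ coeff n ψ ≠ 0 := by
  rw [map_add]
  have h1 := hφ n
  have h2 := hψ n
  constructor
  · intro h; by_contra hc; push Not at hc; apply h; rw [hc.1, hc.2, add_zero]
  · intro h h0
    have h3 : coeff n φ = 0 ∧ coeff n ψ = 0 := by constructor <;> linarith
    rcases h with h | h
    · exact h h3.1
    · exact h h3.2

lemma NN_one : NN (1 : S) := fun n => by
  rw [coeff_one]; split_ifs <;> norm_num

lemma NN_sum {ι : Type*} (s : Finset ι) (f : ι → S) (h : ∀ i ∈ s, NN (f i)) :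
    NN (∑ i ∈ s, f i) := by
  intro n; rw [map_sum]; exact Finset.sum_nonneg fun i hi => h i hi n

lemma supp_sum {ι : Type*} (s : Finset ι) (f : ι → S) (h : ∀ i ∈ s, NN (f i)) (n : E) :
    coeff n (∑ i ∈ s, f i) ≠ 0 ↔ ∃ i ∈ s, coeff n (f i) ≠ 0 := by
  rw [map_sum, Ne, Finset.sum_eq_zero_iff_of_nonneg (fun i hi => h i hi n)]
  simp only [not_forall, exists_prop]

lemma NN_prod {ι : Type*} (s : Finset ι) (f : ι → S) (h : ∀ i ∈ s, NN (f i)) :
    NN (∏ i ∈ s, f i) := by
  classical
  induction s using Finset.induction_on with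
  | empty => rw [Finset.prod_empty]; exact NN_one
  | insert i s hi ih =>
    rw [Finset.prod_insert hi]
    exact NN_mul (h i (Finset.mem_insert_self i s))
      (ih fun j hj => h j (Finset.mem_insert_of_mem hj))

lemma NN_pow {φ : S} (hφ : NN φ) (m : ℕ) : NN (φ ^ m) := by
  induction m with
  | zero => rw [pow_zero]; exact NN_one
  | succ m ih => rw [pow_succ]; exact NN_mul ih hφ

lemma supp_prod {ι : Type*} [DecidableEq ι] (s : Finset ι) (f : ι → S)
    (h : ∀ i ∈ s, NN (f i)) (n : E) :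
    coeff n (∏ i ∈ s, f i) ≠ 0 ↔
      ∃ c : ι → E, ∑ i ∈ s, c i = n ∧ ∀ i ∈ s, coeff (c i) (f i) ≠ 0 := by
  induction s using Finset.induction_on generalizing n with
  | empty =>
    rw [Finset.prod_empty, coeff_one]
    constructor
    · intro h0
      have hn : n = 0 := by
        by_contra hn; rw [if_neg hn] at h0; exact h0 rfl
      exact ⟨fun _ => 0, by rw [Finset.sum_empty, hn],
        fun i hi => absurd hi (Finset.notMem_empty i)⟩
    · rintro ⟨c, hc, _⟩
      rw [Finset.sum_empty] at hc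
      rw [if_pos hc.symm]; norm_num
  | insert i s hi ih =>
    have hs : ∀ j ∈ s, NN (f j) := fun j hj => h j (Finset.mem_insert_of_mem hj)
    rw [Finset.prod_insert hi, supp_mul (h i (Finset.mem_insert_self i s)) (NN_prod s f hs)]
    constructor
    · rintro ⟨a, b, hab, ha, hb⟩
      obtain ⟨c, hc, hcs⟩ := (ih hs b).mp hb
      refine ⟨Function.update c i a, ?_, ?_⟩
      · rw [Finset.sum_insert hi, Function.update_self]
        have h1 : ∑ j ∈ s, Function.update c i a j = ∑ j ∈ s, c j :=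
          Finset.sum_congr rfl fun j hj => Function.update_of_ne (fun e => hi (by rw [← e]; exact hj)) _ _
        rw [h1, hc, hab]
      · intro j hj
        rcases Finset.mem_insert.mp hj with hji | hjs
        · rw [hji, Function.update_self]; exact ha
        · rw [Function.update_of_ne (fun e => hi (by rw [← e]; exact hjs))]; exact hcs j hjs
    · rintro ⟨c, hc, hcs⟩
      rw [Finset.sum_insert hi] at hc
      exact ⟨c i, ∑ j ∈ s, c j, hc, hcs i (Finset.mem_insert_self i s),
        (ih hs _).mpr ⟨c, rfl, fun j hj => hcs j (Finset.mem_insert_of_mem hj)⟩⟩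

/-! ### exponents in two variables -/

lemma E_ext {m n : E} (h0 : m 0 = n 0) (h1 : m 1 = n 1) : m = n := by
  ext i; fin_cases i
  · exact h0
  · exact h1

noncomputable def mk2 (u v : ℕ) : E := Finsupp.single 0 u + Finsupp.single 1 v

@[simp] lemma mk2_zero (u v : ℕ) : mk2 u v 0 = u := by simp [mk2]
@[simp] lemma mk2_one (u v : ℕ) : mk2 u v 1 = v := by simp [mk2]

lemma mk2_add (u v u' v' : ℕ) : mk2 u v + mk2 u' v' = mk2 (u+u') (v+v') :=
  E_ext (by simp) (by simp)

lemma eq_mk2 (n : E) : n = mk2 (n 0) (n 1) := E_ext (by simp) (by simp)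

lemma mk2_eq_iff (n : E) (u v : ℕ) : n = mk2 u v ↔ n 0 = u ∧ n 1 = v := by
  constructor
  · rintro rfl; simp
  · rintro ⟨rfl, rfl⟩; exact eq_mk2 n

/-! ### the box series -/

noncomputable def box : S := (1 + X 0) * (1 + X 1)

lemma coeff_one_add_X (i : Fin 2) (n : E) :
    coeff n ((1 : S) + X i)
      = (if n = 0 then 1 else 0) + (if n = Finsupp.single i 1 then 1 else 0) := by
  rw [map_add, coeff_one, coeff_X]

lemma NN_one_add_X (i : Fin 2) : NN ((1 : S) + X i) := by
  intro n; rw [coeff_one_add_X]; split_ifs <;> norm_num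

lemma supp_one_add_X (i : Fin 2) (n : E) :
    coeff n ((1 : S) + X i) ≠ 0 ↔ n = 0 ∨ n = Finsupp.single i 1 := by
  rw [coeff_one_add_X]
  constructor
  · intro h
    by_contra hc
    push Not at hc
    rw [if_neg hc.1, if_neg hc.2] at h
    exact h (add_zero 0)
  · rintro (h | h)
    · rw [if_pos h]; split_ifs <;> norm_num
    · rw [if_pos h]; split_ifs <;> norm_num

lemma NN_box : NN box := NN_mul (NN_one_add_X 0) (NN_one_add_X 1)

lemma supp_box (n : E) : coeff n box ≠ 0 ↔ n 0 ≤ 1 ∧ n 1 ≤ 1 := by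
  unfold box
  rw [supp_mul (NN_one_add_X 0) (NN_one_add_X 1)]
  constructor
  · rintro ⟨a, b, rfl, ha, hb⟩
    rw [supp_one_add_X] at ha hb
    rcases ha with rfl | rfl <;> rcases hb with rfl | rfl <;> simp
  · rintro ⟨h0, h1⟩
    refine ⟨Finsupp.single 0 (n 0), Finsupp.single 1 (n 1), ?_, ?_, ?_⟩
    · exact (eq_mk2 n).symm
    · rw [supp_one_add_X]
      rcases Nat.le_one_iff_eq_zero_or_eq_one.mp h0 with h | h
      · left; rw [h, Finsupp.single_zero]
      · right; rw [h]
    · rw [supp_one_add_X]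
      rcases Nat.le_one_iff_eq_zero_or_eq_one.mp h1 with h | h
      · left; rw [h, Finsupp.single_zero]
      · right; rw [h]

lemma supp_box_pow (m : ℕ) (n : E) : coeff n (box ^ m) ≠ 0 ↔ n 0 ≤ m ∧ n 1 ≤ m := by
  induction m generalizing n with
  | zero =>
    rw [pow_zero, coeff_one]
    constructor
    · intro h
      have hn : n = 0 := by
        by_contra hn; rw [if_neg hn] at h; exact h rfl
      rw [hn]; simp
    · rintro ⟨h0, h1⟩
      have hn : n = 0 := E_ext (by simpa using h0) (by simpa using h1)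
      rw [if_pos hn]; norm_num
  | succ m ih =>
    rw [pow_succ, supp_mul (NN_pow NN_box m) NN_box]
    constructor
    · rintro ⟨a, b, rfl, ha, hb⟩
      rw [ih] at ha; rw [supp_box] at hb
      simp only [Finsupp.add_apply]
      omega
    · rintro ⟨h0, h1⟩
      refine ⟨mk2 (min (n 0) m) (min (n 1) m),
        mk2 (n 0 - min (n 0) m) (n 1 - min (n 1) m), ?_, ?_, ?_⟩
      · rw [mk2_add, eq_comm, mk2_eq_iff n]
        constructor <;> omega
      · rw [ih]; simp
      · rw [supp_box]; simp only [mk2_zero, mk2_one]; omega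

end Groth.Agent.Lib.Helper24PSupp
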