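import Mathlib
import Groth.Agent.Lib.Helper24PSupp1

/-!
The hypersurface series `Pser b`, `Nser b`, and the support of the series `H` determined by
`(1 - Pser b) * H = Nser b` (helper library for S8732 / S8736).
-/

set_option autoImplicit false

namespace Groth.Agent.Lib.Helper24PSupp

open MvPowerSeries Finset

noncomputable def Pser (b : ℕ) : S := ∑ u ∈ Finset.range (b + 1), ∑ v ∈ Finset.range (b + 1),
  if 1 ≤ u ∧ 1 ≤ v ∧ u + v ≤ b then
    (b.choose (u + v) : MvPowerSeries (Fin 2) ℤ) * (MvPowerSeries.X 0 : MvPowerSeries (Fin 2) ℤ) ^ u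
      * (MvPowerSeries.X 1 : MvPowerSeries (Fin 2) ℤ) ^ v else 0

noncomputable def Nser (b : ℕ) : S := ∑ u ∈ Finset.range b, ∑ v ∈ Finset.range b,
  if u + v + 1 ≤ b - 1 then
    ((b - 1).choose (u + v + 1) : MvPowerSeries (Fin 2) ℤ)
      * (MvPowerSeries.X 0 : MvPowerSeries (Fin 2) ℤ) ^ u
      * (MvPowerSeries.X 1 : MvPowerSeries (Fin 2) ℤ) ^ v else 0

lemma term_eq (c u v : ℕ) :
    ((c : S) * (X 0 : S) ^ u * (X 1 : S) ^ v) = monomial (mk2 u v) (c : ℤ) := by
  have h : (c : S) = monomial (0 : E) (c : ℤ) := by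
    rw [monomial_zero_eq_C_apply, map_natCast]
  rw [h, X_pow_eq, X_pow_eq, monomial_mul_monomial, monomial_mul_monomial, zero_add, mul_one,
    mul_one]
  rfl

lemma coeff_dsum (U V : ℕ) (w : ℕ → ℕ → ℤ) (n : E) :
    coeff n (∑ u ∈ range U, ∑ v ∈ range V, monomial (mk2 u v) (w u v) : S)
      = if n 0 < U ∧ n 1 < V then w (n 0) (n 1) else 0 := by
  simp only [map_sum, coeff_monomial, mk2_eq_iff]
  split_ifs with h
  · rw [Finset.sum_eq_single (n 0)]
    · rw [Finset.sum_eq_single (n 1)]
      · rw [if_pos ⟨rfl, rfl⟩]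
      · intro v _ hv
        rw [if_neg]; intro hh; exact hv hh.2.symm
      · intro hh; exact absurd (Finset.mem_range.mpr h.2) hh
    · intro u _ hu
      apply Finset.sum_eq_zero; intro v _
      rw [if_neg]; intro hh; exact hu hh.1.symm
    · intro hh; exact absurd (Finset.mem_range.mpr h.1) hh
  · apply Finset.sum_eq_zero; intro u hu
    apply Finset.sum_eq_zero; intro v hv
    rw [if_neg]; rintro ⟨h0, h1⟩
    apply h
    rw [h0, h1]
    exact ⟨Finset.mem_range.mp hu, Finset.mem_range.mp hv⟩

def wP (b u v : ℕ) : ℤ := if 1 ≤ u ∧ 1 ≤ v ∧ u + v ≤ b then (b.choose (u+v) : ℤ) else 0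

def wN (b u v : ℕ) : ℤ := if u + v + 1 ≤ b - 1 then ((b-1).choose (u+v+1) : ℤ) else 0

lemma Pser_eq (b : ℕ) :
    Pser b = ∑ u ∈ range (b+1), ∑ v ∈ range (b+1), monomial (mk2 u v) (wP b u v) := by
  unfold Pser wP
  refine Finset.sum_congr rfl fun u _ => Finset.sum_congr rfl fun v _ => ?_
  split_ifs with h
  · exact term_eq _ u v
  · rw [map_zero]

lemma Nser_eq (b : ℕ) :
    Nser b = ∑ u ∈ range b, ∑ v ∈ range b, monomial (mk2 u v) (wN b u v) := by
  unfold Nser wN
  refine Finset.sum_congr rfl fun u _ => Finset.sum_congr rfl fun v _ => ?_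
  split_ifs with h
  · exact term_eq _ u v
  · rw [map_zero]

lemma coeff_Pser (b : ℕ) (n : E) : coeff n (Pser b) = wP b (n 0) (n 1) := by
  rw [Pser_eq, coeff_dsum]
  split_ifs with h
  · rfl
  · unfold wP; rw [if_neg]; intro hh; apply h; constructor <;> omega

lemma coeff_Nser (b : ℕ) (n : E) : coeff n (Nser b) = wN b (n 0) (n 1) := by
  rw [Nser_eq, coeff_dsum]
  split_ifs with h
  · rfl
  · unfold wN; rw [if_neg]; intro hh; apply h; constructor <;> omega

lemma NN_Pser (b : ℕ) : NN (Pser b) := fun n => by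
  rw [coeff_Pser]; unfold wP; split_ifs
  · exact Nat.cast_nonneg _
  · exact le_refl 0

lemma NN_Nser (b : ℕ) : NN (Nser b) := fun n => by
  rw [coeff_Nser]; unfold wN; split_ifs
  · exact Nat.cast_nonneg _
  · exact le_refl 0

lemma supp_Pser (b : ℕ) (n : E) :
    coeff n (Pser b) ≠ 0 ↔ 1 ≤ n 0 ∧ 1 ≤ n 1 ∧ n 0 + n 1 ≤ b := by
  rw [coeff_Pser]; unfold wP
  constructor
  · intro h; by_contra hc; rw [if_neg hc] at h; exact h rfl
  · intro h; rw [if_pos h]
    have := Nat.choose_pos h.2.2
    exact_mod_cast this.ne'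

lemma supp_Nser (b : ℕ) (n : E) : coeff n (Nser b) ≠ 0 ↔ n 0 + n 1 + 2 ≤ b := by
  rw [coeff_Nser]; unfold wN
  constructor
  · intro h; by_contra hc
    have hc' : ¬ (n 0 + n 1 + 1 ≤ b - 1) := by omega
    rw [if_neg hc'] at h; exact h rfl
  · intro h
    have h' : n 0 + n 1 + 1 ≤ b - 1 := by omega
    rw [if_pos h']
    have := Nat.choose_pos h'
    exact_mod_cast this.ne'

lemma H_eq (b : ℕ) (H : S) (hH : (1 - Pser b) * H = Nser b) : H = Nser b + Pser b * H := by
  rw [← hH]; ring

lemma NN_H (b : ℕ) (H : S) (hH : (1 - Pser b) * H = Nser b) : NN H := by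
  have key : ∀ k : ℕ, ∀ n : E, n 0 + n 1 < k → 0 ≤ coeff n H := by
    intro k
    induction k with
    | zero => intro n hn; omega
    | succ k ih =>
      intro n hn
      rw [H_eq b H hH, map_add, coeff_mul]
      apply add_nonneg (NN_Nser b n)
      apply Finset.sum_nonneg
      intro p hp
      have hp' := Finset.HasAntidiagonal.mem_antidiagonal.mp hp
      by_cases h0 : coeff p.1 (Pser b) = 0
      · rw [h0, zero_mul]
      · have h1 := (supp_Pser b p.1).mp h0
        have e0 : n 0 = p.1 0 + p.2 0 := by rw [← hp', Finsupp.add_apply]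
        have e1 : n 1 = p.1 1 + p.2 1 := by rw [← hp', Finsupp.add_apply]
        exact mul_nonneg (NN_Pser b _) (ih p.2 (by omega))
  intro n; exact key (n 0 + n 1 + 1) n (by omega)

lemma supp_H (b : ℕ) (H : S) (hH : (1 - Pser b) * H = Nser b) :
    ∀ n : E, coeff n H ≠ 0 ↔ n 0 + n 1 + 2 ≤ (min (n 0) (n 1) + 1) * b := by
  have hNN := NN_H b H hH
  have step : ∀ n : E, coeff n H ≠ 0 ↔ (n 0 + n 1 + 2 ≤ b ∨ ∃ a c : E, a + c = n ∧
      (1 ≤ a 0 ∧ 1 ≤ a 1 ∧ a 0 + a 1 ≤ b) ∧ coeff c H ≠ 0) := by
    intro n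
    have h1 : coeff n H = coeff n (Nser b + Pser b * H) := by rw [← H_eq b H hH]
    rw [h1, supp_add (NN_Nser b) (NN_mul (NN_Pser b) hNN), supp_Nser,
      supp_mul (NN_Pser b) hNN]
    simp only [supp_Pser]
  have key : ∀ k : ℕ, ∀ n : E, n 0 + n 1 < k →
      (coeff n H ≠ 0 ↔ n 0 + n 1 + 2 ≤ (min (n 0) (n 1) + 1) * b) := by
    intro k
    induction k with
    | zero => intro n hn; omega
    | succ k ih =>
      intro n hn
      rw [step n]
      constructor
      · rintro (h | ⟨a, c, hac, ⟨ha0, ha1, hab⟩, hc⟩)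
        · calc n 0 + n 1 + 2 ≤ b := h
            _ = 1 * b := (one_mul b).symm
            _ ≤ (min (n 0) (n 1) + 1) * b := Nat.mul_le_mul_right b (by omega)
        · have e0 : n 0 = a 0 + c 0 := by rw [← hac, Finsupp.add_apply]
          have e1 : n 1 = a 1 + c 1 := by rw [← hac, Finsupp.add_apply]
          have hc' := (ih c (by omega)).mp hc
          have hmin : min (c 0) (c 1) + 2 ≤ min (n 0) (n 1) + 1 := by omega
          calc n 0 + n 1 + 2 = (a 0 + a 1) + (c 0 + c 1 + 2) := by omega
            _ ≤ b + (min (c 0) (c 1) + 1) * b := Nat.add_le_add hab hc'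
            _ = (min (c 0) (c 1) + 2) * b := by ring
            _ ≤ (min (n 0) (n 1) + 1) * b := Nat.mul_le_mul_right b hmin
      · intro h
        by_cases hb : n 0 + n 1 + 2 ≤ b
        · exact Or.inl hb
        · right
          push Not at hb
          obtain ⟨m, hm⟩ : ∃ m, m = min (n 0) (n 1) := ⟨_, rfl⟩
          rw [← hm] at h
          obtain ⟨M, hM⟩ : ∃ M, M = m * b := ⟨_, rfl⟩
          have hexp : (m + 1) * b = M + b := by rw [hM]; ring
          rw [hexp] at h
          have hm1 : 1 ≤ m := by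
            by_contra hc
            have hm0 : m = 0 := by omega
            rw [hm0, zero_mul] at hM
            omega
          have hb2 : 2 ≤ b := by
            by_contra hc
            have hb1 : b ≤ 1 := by omega
            have h3 : m * b ≤ m * 1 := Nat.mul_le_mul_left m hb1
            rw [← hM, mul_one] at h3
            omega
          have h2m : 2 * m ≤ M := by
            have h3 : m * 2 ≤ m * b := Nat.mul_le_mul_left m hb2
            rw [← hM] at h3; omega
          rcases Nat.le_total (n 0) (n 1) with h01 | h10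
          · -- m = n 0
            have hmn : m = n 0 := by rw [hm]; exact min_eq_left h01
            obtain ⟨a1, ha1⟩ : ∃ a1, a1 = max 1 (n 1 + m + 1 - M) := ⟨_, rfl⟩
            refine ⟨mk2 1 a1, mk2 (n 0 - 1) (n 1 - a1), ?_, ?_, ?_⟩
            · rw [mk2_add, eq_comm, mk2_eq_iff n]
              constructor <;> omega
            · simp only [mk2_zero, mk2_one]
              omega
            · rw [ih _ (by simp only [mk2_zero, mk2_one]; omega)]
              simp only [mk2_zero, mk2_one]
              have hminc : min (n 0 - 1) (n 1 - a1) + 1 = m := by omega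
              rw [hminc, ← hM]
              omega
          · have hmn : m = n 1 := by rw [hm]; exact min_eq_right h10
            obtain ⟨a0, ha0⟩ : ∃ a0, a0 = max 1 (n 0 + m + 1 - M) := ⟨_, rfl⟩
            refine ⟨mk2 a0 1, mk2 (n 0 - a0) (n 1 - 1), ?_, ?_, ?_⟩
            · rw [mk2_add, eq_comm, mk2_eq_iff n]
              constructor <;> omega
            · simp only [mk2_zero, mk2_one]
              omega
            · rw [ih _ (by simp only [mk2_zero, mk2_one]; omega)]
              simp only [mk2_zero, mk2_one]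
              have hminc : min (n 0 - a0) (n 1 - 1) + 1 = m := by omega
              rw [hminc, ← hM]
              omega
  intro n; exact key (n 0 + n 1 + 1) n (by omega)

end Groth.Agent.Lib.Helper24PSupp
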