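import Mathlib
import Groth.Agent.Lib.Helper24PSupp2

/-!
The total Hodge series of a multidegree: its support, and the nonvanishing criterion
(S8732), plus the Hodge level corollary (S8736).
-/

set_option autoImplicit false

namespace Groth.Agent.Lib.Helper24PSupp

open MvPowerSeries Finset

noncomputable def Htot (d : ℕ) (Hs : Fin d → S) : S :=
  ∑ P ∈ (Finset.univ : Finset (Fin d)).powerset with P.Nonempty,
    box ^ (P.card - 1) * ∏ i ∈ P, Hs i

lemma supp_Htot (d : ℕ) (a : Fin d → ℕ) (Hs : Fin d → S)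
    (hH : ∀ i, (1 - Pser (a i)) * Hs i = Nser (a i)) (n : E) :
    coeff n (Htot d Hs) ≠ 0 ↔ ∃ P : Finset (Fin d), P.Nonempty ∧ ∃ (e : E) (c : Fin d → E),
      e + ∑ i ∈ P, c i = n ∧ e 0 ≤ P.card - 1 ∧ e 1 ≤ P.card - 1 ∧
      ∀ i ∈ P, (c i) 0 + (c i) 1 + 2 ≤ (min ((c i) 0) ((c i) 1) + 1) * a i := by
  have hNNH : ∀ i, NN (Hs i) := fun i => NN_H (a i) (Hs i) (hH i)
  unfold Htot
  rw [supp_sum]
  · constructor
    · rintro ⟨P, hP, hne⟩
      have hPne : P.Nonempty := (Finset.mem_filter.mp hP).2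
      rw [supp_mul (NN_pow NN_box _) (NN_prod P Hs (fun i _ => hNNH i))] at hne
      obtain ⟨e, f, hef, he, hf⟩ := hne
      rw [supp_box_pow] at he
      rw [supp_prod P Hs (fun i _ => hNNH i)] at hf
      obtain ⟨c, hc, hcs⟩ := hf
      refine ⟨P, hPne, e, c, by rw [hc, hef], he.1, he.2, fun i hi => ?_⟩
      exact (supp_H (a i) (Hs i) (hH i) (c i)).mp (hcs i hi)
    · rintro ⟨P, hPne, e, c, hec, he0, he1, hcs⟩
      refine ⟨P, Finset.mem_filter.mpr
        ⟨Finset.mem_powerset.mpr (Finset.subset_univ P), hPne⟩, ?_⟩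
      rw [supp_mul (NN_pow NN_box _) (NN_prod P Hs (fun i _ => hNNH i))]
      refine ⟨e, ∑ i ∈ P, c i, hec, (supp_box_pow _ e).mpr ⟨he0, he1⟩, ?_⟩
      rw [supp_prod P Hs (fun i _ => hNNH i)]
      exact ⟨c, rfl, fun i hi => (supp_H (a i) (Hs i) (hH i) (c i)).mpr (hcs i hi)⟩
  · intro P _
    exact NN_mul (NN_pow NN_box _) (NN_prod P Hs (fun i _ => hNNH i))

lemma sum_univ_split (d : ℕ) (a : Fin d → ℕ) (P : Finset (Fin d)) :
    ∑ i, a i = ∑ i ∈ P, a i + ∑ i ∈ Finset.univ \ P, a i := by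
  rw [← Finset.sum_union Finset.disjoint_sdiff,
    Finset.union_sdiff_of_subset (Finset.subset_univ P)]

lemma card_compl' (d : ℕ) (P : Finset (Fin d)) : (Finset.univ \ P).card = d - P.card := by
  rw [Finset.card_sdiff_of_subset (Finset.subset_univ P), Finset.card_univ, Fintype.card_fin]

lemma nec (d : ℕ) (a : Fin d → ℕ) (ha : ∀ i, 1 ≤ a i) (p q : ℕ)
    (P : Finset (Fin d)) (hP : P.Nonempty) (e : E) (c : Fin d → E)
    (hec : e + ∑ i ∈ P, c i = mk2 p q) (he1 : e 1 ≤ P.card - 1)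
    (hcs : ∀ i ∈ P, (c i) 0 + (c i) 1 + 2 ≤ (min ((c i) 0) ((c i) 1) + 1) * a i) :
    p + q + d < p * Finset.univ.sup a + ∑ i, a i := by
  obtain ⟨A, hA⟩ : ∃ A, A = Finset.univ.sup a := ⟨_, rfl⟩
  rw [← hA]
  have hAle : ∀ i, a i ≤ A := fun i => hA ▸ Finset.le_sup (Finset.mem_univ i)
  have hp : e 0 + ∑ i ∈ P, (c i) 0 = p := by
    have h := congrArg (fun f : E => f 0) hec
    simpa only [Finsupp.add_apply, Finsupp.finset_sum_apply, mk2_zero] using h
  have hq : e 1 + ∑ i ∈ P, (c i) 1 = q := by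
    have h := congrArg (fun f : E => f 1) hec
    simpa only [Finsupp.add_apply, Finsupp.finset_sum_apply, mk2_one] using h
  have h1 : ∀ i ∈ P, (c i) 0 + (c i) 1 + 2 ≤ ((c i) 0) * A + a i := by
    intro i hi
    have h2 := hcs i hi
    have h3 : (min ((c i) 0) ((c i) 1) + 1) * a i ≤ ((c i) 0 + 1) * a i :=
      Nat.mul_le_mul_right _ (by omega)
    have h4 : (c i) 0 * a i ≤ (c i) 0 * A := Nat.mul_le_mul_left _ (hAle i)
    calc (c i) 0 + (c i) 1 + 2 ≤ ((c i) 0 + 1) * a i := le_trans h2 h3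
      _ = (c i) 0 * a i + a i := by ring
      _ ≤ (c i) 0 * A + a i := Nat.add_le_add_right h4 _
  obtain ⟨U, hU⟩ : ∃ U, U = ∑ i ∈ P, (c i) 0 := ⟨_, rfl⟩
  obtain ⟨V, hV⟩ : ∃ V, V = ∑ i ∈ P, (c i) 1 := ⟨_, rfl⟩
  have h5 : U + V + 2 * P.card ≤ U * A + ∑ i ∈ P, a i := by
    calc U + V + 2 * P.card = ∑ i ∈ P, ((c i) 0 + (c i) 1 + 2) := by
          rw [Finset.sum_add_distrib, Finset.sum_add_distrib, Finset.sum_const, smul_eq_mul,
            mul_comm, hU, hV]
      _ ≤ ∑ i ∈ P, ((c i) 0 * A + a i) := Finset.sum_le_sum h1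
      _ = U * A + ∑ i ∈ P, a i := by rw [Finset.sum_add_distrib, ← Finset.sum_mul, hU]
  have h6 : ∑ i ∈ P, a i + (d - P.card) ≤ ∑ i, a i := by
    rw [sum_univ_split d a P]
    apply Nat.add_le_add_left
    calc d - P.card = (Finset.univ \ P).card := (card_compl' d P).symm
      _ = ∑ i ∈ Finset.univ \ P, 1 := by simp
      _ ≤ ∑ i ∈ Finset.univ \ P, a i := Finset.sum_le_sum fun i _ => ha i
  have hcard : 1 ≤ P.card := Finset.card_pos.mpr hP
  have hcardd : P.card ≤ d := by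
    have h := Finset.card_le_univ P; simpa using h
  have hA1 : 1 ≤ A := by
    obtain ⟨i, hi⟩ := hP
    exact le_trans (ha i) (hAle i)
  have h7 : e 0 ≤ e 0 * A := Nat.le_mul_of_pos_right _ hA1
  rw [← hU] at hp; rw [← hV] at hq
  have h8 : p * A = e 0 * A + U * A := by rw [← hp]; ring
  rw [h8]
  omega

lemma distribute {ι : Type*} [DecidableEq ι] (T : Finset ι) (cap : ι → ℕ) :
    ∀ R : ℕ, R ≤ ∑ i ∈ T, cap i →
      ∃ v : ι → ℕ, (∀ i ∈ T, v i ≤ cap i) ∧ ∑ i ∈ T, v i = R := by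
  induction T using Finset.induction_on with
  | empty =>
    intro R hR
    rw [Finset.sum_empty] at hR
    exact ⟨fun _ => 0, fun i hi => absurd hi (Finset.notMem_empty i),
      by rw [Finset.sum_empty]; omega⟩
  | insert j T hj ih =>
    intro R hR
    rw [Finset.sum_insert hj] at hR
    obtain ⟨v, hv, hvs⟩ := ih (R - min R (cap j)) (by omega)
    refine ⟨Function.update v j (min R (cap j)), ?_, ?_⟩
    · intro i hi
      rcases Finset.mem_insert.mp hi with h | h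
      · rw [h, Function.update_self]; exact min_le_right _ _
      · rw [Function.update_of_ne (fun e => hj (by rw [← e]; exact h))]; exact hv i h
    · rw [Finset.sum_insert hj, Function.update_self]
      have h1 : ∑ i ∈ T, Function.update v j (min R (cap j)) i = ∑ i ∈ T, v i :=
        Finset.sum_congr rfl fun i hi =>
          Function.update_of_ne (fun e => hj (by rw [← e]; exact hi)) _ _
      rw [h1, hvs]; omega

lemma sum_mk2_zero {ι : Type*} (T : Finset ι) (v : ι → ℕ) :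
    ∑ i ∈ T, mk2 0 (v i) = mk2 0 (∑ i ∈ T, v i) := by
  apply E_ext
  · simp [Finsupp.finset_sum_apply]
  · simp [Finsupp.finset_sum_apply]

lemma suf (d : ℕ) (a : Fin d → ℕ) (ha : ∀ i, 1 ≤ a i) (p q : ℕ) (hpq : p ≤ q)
    (h : p + q + d < p * Finset.univ.sup a + ∑ i, a i) :
    ∃ P : Finset (Fin d), P.Nonempty ∧ ∃ (e : E) (c : Fin d → E),
      e + ∑ i ∈ P, c i = mk2 p q ∧ e 0 ≤ P.card - 1 ∧ e 1 ≤ P.card - 1 ∧
      ∀ i ∈ P, (c i) 0 + (c i) 1 + 2 ≤ (min ((c i) 0) ((c i) 1) + 1) * a i := by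
  classical
  obtain ⟨Am, hAm⟩ : ∃ Am, Am = Finset.univ.sup a := ⟨_, rfl⟩
  rw [← hAm] at h
  have hAle : ∀ i, a i ≤ Am := fun i => hAm ▸ Finset.le_sup (Finset.mem_univ i)
  obtain ⟨P₀, hP₀⟩ : ∃ P₀ : Finset (Fin d), P₀ = Finset.univ.filter (fun i => 2 ≤ a i) :=
    ⟨_, rfl⟩
  have hmemP : ∀ i, i ∈ P₀ ↔ 2 ≤ a i := fun i => by rw [hP₀]; simp
  have hsum : ∑ i, a i = ∑ i ∈ P₀, a i + (d - P₀.card) := by
    rw [sum_univ_split d a P₀]; congr 1
    have h1 : ∀ i ∈ Finset.univ \ P₀, a i = 1 := by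
      intro i hi
      have h2 : i ∉ P₀ := (Finset.mem_sdiff.mp hi).2
      rw [hmemP] at h2
      have := ha i; omega
    rw [Finset.sum_congr rfl h1, Finset.sum_const, smul_eq_mul, mul_one, card_compl']
  have hcardd : P₀.card ≤ d := by
    have h := Finset.card_le_univ P₀; simpa using h
  have hne : P₀.Nonempty := by
    by_contra hc
    rw [Finset.not_nonempty_iff_eq_empty] at hc
    rw [hsum, hc] at h
    simp only [Finset.sum_empty, Finset.card_empty] at h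
    have hAm1 : Am ≤ 1 := by
      rw [hAm]; apply Finset.sup_le; intro i _
      have h2 : i ∉ P₀ := by rw [hc]; exact Finset.notMem_empty i
      rw [hmemP] at h2; omega
    have h3 : p * Am ≤ p * 1 := Nat.mul_le_mul_left p hAm1
    omega
  have hune : (Finset.univ : Finset (Fin d)).Nonempty := by
    obtain ⟨i, _⟩ := hne; exact ⟨i, Finset.mem_univ i⟩
  obtain ⟨is, _, his⟩ := Finset.exists_mem_eq_sup Finset.univ hune a
  have hAis : a is = Am := by rw [hAm, his]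
  have hisP : is ∈ P₀ := by
    rw [hmemP, hAis]
    obtain ⟨i, hi⟩ := hne
    exact le_trans ((hmemP i).mp hi) (hAle i)
  have hAm2 : 2 ≤ Am := by rw [← hAis]; exact (hmemP is).mp hisP
  obtain ⟨A, hA⟩ : ∃ A, Am = A + 1 := ⟨Am - 1, by omega⟩
  have hA1 : 1 ≤ A := by omega
  obtain ⟨PA, hPA⟩ : ∃ PA, PA = (p + 1) * A := ⟨_, rfl⟩
  have hPA1 : p + 1 ≤ PA := by rw [hPA]; exact Nat.le_mul_of_pos_right _ hA1
  have hPAe : PA = p * A + A := by rw [hPA]; ring
  obtain ⟨vs, hvs⟩ : ∃ vs, vs = min q (PA - 1) := ⟨_, rfl⟩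
  have hvsp : p ≤ vs := by omega
  have hvsq : vs ≤ q := by omega
  obtain ⟨T, hT⟩ : ∃ T : Finset (Fin d), T = P₀.erase is := ⟨_, rfl⟩
  obtain ⟨cap, hcap⟩ : ∃ cap : Fin d → ℕ, cap = fun i => a i - 2 := ⟨_, rfl⟩
  have hcapi : ∀ i, cap i = a i - 2 := fun i => by rw [hcap]
  have hsumP : ∑ i ∈ P₀, a i = Am + ∑ i ∈ T, (cap i + 2) := by
    rw [← Finset.add_sum_erase P₀ a hisP, hAis, hT]
    congr 1
    refine Finset.sum_congr rfl fun i hi => ?_
    have h2 : 2 ≤ a i := (hmemP i).mp (Finset.mem_of_mem_erase hi)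
    rw [hcapi]; omega
  have hTcard : T.card = P₀.card - 1 := by rw [hT]; exact Finset.card_erase_of_mem hisP
  have hcap2 : ∑ i ∈ T, (cap i + 2) = ∑ i ∈ T, cap i + 2 * T.card := by
    rw [Finset.sum_add_distrib, Finset.sum_const, smul_eq_mul, mul_comm]
  have hcardpos : 1 ≤ P₀.card := Finset.card_pos.mpr hne
  have hR : q - vs ≤ (P₀.card - 1) + ∑ i ∈ T, cap i := by
    rw [hsum, hsumP, hcap2, hTcard, hA] at h
    have he1 : p * (A + 1) = p * A + p := by ring
    rw [he1] at h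
    omega
  obtain ⟨e1, hE1, hE1', hrest⟩ : ∃ e1, e1 ≤ P₀.card - 1 ∧ e1 ≤ q - vs ∧
      (q - vs) - e1 ≤ ∑ i ∈ T, cap i :=
    ⟨min (q - vs) (P₀.card - 1), min_le_right _ _, min_le_left _ _, by omega⟩
  obtain ⟨v, hv, hvsum⟩ := distribute T cap ((q - vs) - e1) hrest
  obtain ⟨cf, hcf⟩ : ∃ cf : Fin d → E,
      cf = fun i => if i = is then mk2 p vs else mk2 0 (v i) := ⟨_, rfl⟩
  have hcf_is : cf is = mk2 p vs := by rw [hcf]; simp
  have hcf_ne : ∀ i, i ≠ is → cf i = mk2 0 (v i) := fun i hi => by rw [hcf]; simp [hi]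
  refine ⟨P₀, hne, mk2 0 e1, cf, ?_, ?_, ?_, ?_⟩
  · rw [← Finset.add_sum_erase P₀ cf hisP, hcf_is, ← hT,
      Finset.sum_congr rfl (fun i hi => hcf_ne i (by rw [hT] at hi; exact Finset.ne_of_mem_erase hi)),
      sum_mk2_zero, mk2_add, mk2_add, hvsum]
    have e0 : 0 + (p + 0) = p := by omega
    have e1' : e1 + (vs + (q - vs - e1)) = q := by omega
    rw [e0, e1']
  · rw [mk2_zero]; omega
  · rw [mk2_one]; exact hE1
  · intro i hi
    by_cases hi' : i = is
    · rw [hi', hcf_is, hAis, hA]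
      simp only [mk2_zero, mk2_one]
      rw [min_eq_left hvsp]
      have h9 : (p + 1) * (A + 1) = PA + p + 1 := by rw [hPA]; ring
      rw [h9]; omega
    · rw [hcf_ne i hi']
      simp only [mk2_zero, mk2_one]
      have hvi := hv i (by rw [hT]; exact Finset.mem_erase.mpr ⟨hi', hi⟩)
      rw [hcapi] at hvi
      have h2 : 2 ≤ a i := (hmemP i).mp hi
      have h10 : (min 0 (v i) + 1) * a i = a i := by
        rw [Nat.zero_min, zero_add, one_mul]
      first
        | (rw [h10]; omega)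
        | (have h11 : (0 + 1) * a i = a i := by ring
           rw [h11]; omega)
        | (simp only [zero_add, one_mul]; omega)

theorem s8732 (d : ℕ) (a : Fin d → ℕ) (ha : ∀ i, 1 ≤ a i) (Hs : Fin d → S) (p q : ℕ)
    (hpq : p ≤ q) (hH : ∀ i, (1 - Pser (a i)) * Hs i = Nser (a i)) :
    (coeff (Finsupp.single 0 p + Finsupp.single 1 q) (Htot d Hs) ≠ 0 ↔
      p + q + d < p * Finset.univ.sup a + ∑ i, a i) := by
  show coeff (mk2 p q) (Htot d Hs) ≠ 0 ↔ _
  rw [supp_Htot d a Hs hH]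
  constructor
  · rintro ⟨P, hP, e, c, hec, _, he1, hcs⟩
    exact nec d a ha p q P hP e c hec he1 hcs
  · intro h
    exact suf d a ha p q hpq h

end Groth.Agent.Lib.Helper24PSupp
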