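import Mathlib
import Groth.Agent.Lib.Helper24PSupp3

set_option autoImplicit false

open MvPowerSeries

namespace Groth.Agent.Lib.Helper24PSupp

theorem s8736 (d : ℕ) (hd : 1 ≤ d) (a : Fin d → ℕ) (ha : ∀ i, 1 ≤ a i)
    (i₀ : Fin d) (hi₀ : ∀ i, a i ≤ a i₀)
    (Hs : Fin d → S) (n l : ℕ) (hl : l < n) (hpar : l % 2 = n % 2)
    (hH : ∀ i, (1 - Pser (a i)) * Hs i = Nser (a i)) :
    (∀ p q : ℕ, p + q = n → p ≤ q → l < q - p →
        coeff (Finsupp.single 0 p + Finsupp.single 1 q) (Htot d Hs) = 0) ↔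
      2 * (∑ i ∈ Finset.univ.erase i₀, ((a i : ℤ) - 1)) + ((a i₀ : ℤ) - 2) * ((n : ℤ) - l)
        ≤ 2 * ((l : ℤ) + 1) := by
  have hsup : Finset.univ.sup a = a i₀ :=
    le_antisymm (Finset.sup_le (fun i _ => hi₀ i)) (Finset.le_sup (Finset.mem_univ i₀))
  obtain ⟨s, hs⟩ : ∃ s, n = l + 2 * s + 2 := ⟨(n - l) / 2 - 1, by omega⟩
  obtain ⟨Sg, hSg⟩ : ∃ Sg, Sg = ∑ i, a i := ⟨_, rfl⟩
  have crit : ∀ p q, p ≤ q →
      (coeff (Finsupp.single 0 p + Finsupp.single 1 q) (Htot d Hs) = 0 ↔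
        p * a i₀ + Sg ≤ p + q + d) := by
    intro p q hpq
    have h := s8732 d a ha Hs p q hpq hH
    rw [hsup, ← hSg] at h
    constructor
    · intro h0
      by_contra hc
      exact (h.mpr (by omega)) h0
    · intro h0
      by_contra hc
      have := h.mp hc
      omega
  have hcastsum : ((Sg : ℕ) : ℤ) = ∑ i, (a i : ℤ) := by rw [hSg]; push_cast; rfl
  have hsum : (∑ i ∈ Finset.univ.erase i₀, ((a i : ℤ) - 1)) =
      (Sg : ℤ) - a i₀ - ((d : ℤ) - 1) := by
    rw [Finset.sum_sub_distrib, Finset.sum_const,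
      Finset.card_erase_of_mem (Finset.mem_univ _), Finset.card_univ, Fintype.card_fin, hcastsum]
    have h1 := Finset.add_sum_erase Finset.univ (fun i => (a i : ℤ)) (Finset.mem_univ i₀)
    simp only [nsmul_eq_mul, mul_one]
    rw [Nat.cast_sub hd]
    push_cast
    linarith
  have hn : (n : ℤ) = l + 2 * s + 2 := by rw [hs]; push_cast; ring
  have key : (2 * (∑ i ∈ Finset.univ.erase i₀, ((a i : ℤ) - 1)) +
      ((a i₀ : ℤ) - 2) * ((n : ℤ) - l) ≤ 2 * ((l : ℤ) + 1)) ↔ s * a i₀ + Sg ≤ n + d := by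
    rw [hsum, hn]
    constructor
    · intro h
      have h2 : ((s * a i₀ + Sg : ℕ) : ℤ) ≤ ((n + d : ℕ) : ℤ) := by
        push_cast
        rw [hn]
        nlinarith
      exact_mod_cast h2
    · intro h
      have h2 : ((s * a i₀ + Sg : ℕ) : ℤ) ≤ ((n + d : ℕ) : ℤ) := by exact_mod_cast h
      push_cast at h2
      rw [hn] at h2
      nlinarith
  rw [key]
  constructor
  · intro h
    have h3 := h s (l + s + 2) (by omega) (by omega) (by omega)
    have h4 := (crit s (l + s + 2) (by omega)).mp h3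
    omega
  · intro h p q hpq hle hlt
    rw [crit p q hle]
    have hps : p ≤ s := by omega
    have h5 : p * a i₀ ≤ s * a i₀ := Nat.mul_le_mul_right _ hps
    omega

end Groth.Agent.Lib.Helper24PSupp
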