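import Mathlib
import Groth.Prelude.Def_W4c5modbuncurvesppStab
import Groth.Agent.Lib.Helper24Circuit1

set_option autoImplicit false
universe u

namespace Groth.Agent.Lib.Helper24SideSum

open LabGraph DualGr PhiStab Groth.Agent.Lib.Helper24Circuit

variable {V E : Type u} [Fintype V] [Fintype E] [DecidableEq V] [DecidableEq E]

omit [Fintype V] [Fintype E] [DecidableEq V] [DecidableEq E] in
theorem adj_span_iff (ends : E → V × V) (T : Finset E) (u w : V) :
    Adj (spanEnds ends T) u w ↔ AdjIn ends T u w := by
  constructor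
  · rintro ⟨⟨e, he⟩, h⟩; exact ⟨e, he, h⟩
  · rintro ⟨e, he, h⟩; exact ⟨⟨e, he⟩, h⟩

theorem mem_side (ends : E → V × V) (e : E) (v : V) :
    v ∈ side ends e ↔
      Relation.ReflTransGen (AdjIn ends (Finset.univ.erase e)) (ends e).1 v := by
  have : Adj (spanEnds ends (Finset.univ.erase e)) = AdjIn ends (Finset.univ.erase e) := by
    funext u w; exact propext (adj_span_iff ends _ u w)
  simp only [side, Finset.mem_filter, Finset.mem_univ, true_and, this]

theorem side_fst (ends : E → V × V) (e : E) : (ends e).1 ∈ side ends e :=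
  (mem_side ends e _).mpr Relation.ReflTransGen.refl

theorem side_other (ends : E → V × V) (e e' : E) (hne : e' ≠ e) :
    (ends e').1 ∈ side ends e ↔ (ends e').2 ∈ side ends e := by
  rw [mem_side, mem_side]
  have hmem : e' ∈ Finset.univ.erase e := Finset.mem_erase.mpr ⟨hne, Finset.mem_univ _⟩
  constructor
  · intro h
    exact Relation.ReflTransGen.tail h ⟨e', hmem, Or.inl rfl⟩
  · intro h
    exact Relation.ReflTransGen.tail h ⟨e', hmem, Or.inr rfl⟩

theorem side_snd (ends : E → V × V) (hF : IsForest ends) (e : E) : (ends e).2 ∉ side ends e := by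
  rw [mem_side]
  intro h
  obtain ⟨χ₀, h0, hb⟩ := exists_chain_of_reach ends (Finset.univ.erase e) h
  set γ : E → ℤ := Pi.single e 1 + (-1 : ℤ) • χ₀ with hγ
  have hγb : ∀ v', boundary ends γ v' = 0 := by
    intro v'
    rw [hγ, boundary_add, boundary_smul, hb, boundary_single]
    ring
  have hγe : γ e = 1 := by
    simp [hγ, h0 e (Finset.notMem_erase e _)]
  have hne : γ ≠ 0 := by
    intro h0'
    rw [h0'] at hγe
    simp at hγe
  obtain ⟨C, hC, -⟩ := exists_circuit_in_support ends γ hγb hne
  exact hF C hC

/-- the key indicator identity. -/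
theorem ind_diff (ends : E → V × V) (hF : IsForest ends) (e e' : E) :
    ((if (ends e').1 ∈ side ends e then (1 : ℝ) else 0) -
      (if (ends e').2 ∈ side ends e then (1 : ℝ) else 0)) = if e' = e then 1 else 0 := by
  by_cases h : e' = e
  · rw [h, if_pos (side_fst ends e), if_neg (side_snd ends hF e), if_pos rfl]
    ring
  · rw [if_neg h]
    by_cases h1 : (ends e').1 ∈ side ends e
    · rw [if_pos h1, if_pos ((side_other ends e e' h).mp h1)]; ring
    · rw [if_neg h1, if_neg (fun h2 => h1 ((side_other ends e e' h).mpr h2))]; ring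

omit [DecidableEq E] in
theorem sum_side (S : Finset V) (φ : V → ℝ) :
    ∑ v ∈ S, φ v = ∑ v, (if v ∈ S then (1 : ℝ) else 0) * φ v := by
  rw [← Finset.sum_filter_add_sum_filter_not Finset.univ (fun v => v ∈ S)
    (fun v => (if v ∈ S then (1 : ℝ) else 0) * φ v)]
  have h1 : ∑ v ∈ Finset.univ.filter (fun v => v ∈ S), (if v ∈ S then (1 : ℝ) else 0) * φ v =
      ∑ v ∈ S, φ v := by
    have : Finset.univ.filter (fun v => v ∈ S) = S := by ext v; simp
    rw [this]
    refine Finset.sum_congr rfl (fun v hv => ?_)
    rw [if_pos hv, one_mul]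
  have h2 : ∑ v ∈ Finset.univ.filter (fun v => ¬ v ∈ S), (if v ∈ S then (1 : ℝ) else 0) * φ v = 0 := by
    refine Finset.sum_eq_zero (fun v hv => ?_)
    rw [if_neg (Finset.mem_filter.mp hv).2, zero_mul]
  rw [h1, h2, add_zero]

omit [Fintype V] [Fintype E] [DecidableEq V] [DecidableEq E] in
theorem const_of_edge_const (ends : E → V × V) (hconn : Connected ends) (F : V → ℝ)
    (hF : ∀ e, F (ends e).1 = F (ends e).2) (u w : V) : F u = F w := by
  have := hconn.2 u w
  induction this with
  | refl => rfl
  | tail _ hbc ih =>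
    obtain ⟨e, h | h⟩ := hbc
    · have := hF e
      rw [h] at this
      rw [ih]; exact this
    · have := hF e
      rw [h] at this
      rw [ih]; exact this.symm

theorem s18382 (ends : E → V × V) (hT : IsTree ends) (c : E → ℝ) (c₀ : ℝ) :
    ∃! φ : V → ℝ, (∀ e : E, (∑ v ∈ side ends e, φ v) = c e) ∧ (∑ v : V, φ v) = c₀ := by
  obtain ⟨hconn, hF⟩ := hT
  obtain ⟨v₀⟩ := hconn.1
  -- indicator
  set s : E → V → ℝ := fun e v => if v ∈ side ends e then (1 : ℝ) else 0 with hs
  have hsd : ∀ e e', s e (ends e').1 - s e (ends e').2 = if e' = e then 1 else 0 :=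
    fun e e' => ind_diff ends hF e e'
  -- uniqueness core
  have huniq : ∀ d : V → ℝ, (∀ e, ∑ v ∈ side ends e, d v = 0) → ∑ v, d v = 0 → d = 0 := by
    intro d hd1 hd2
    have hpair : ∀ g : V → ℝ, ∑ v, d v * g v = 0 := by
      intro g
      set h : V → ℝ := fun v => ∑ e, (g (ends e).1 - g (ends e).2) * s e v with hh
      have hedge : ∀ e', (g (ends e').1 - h (ends e').1) = (g (ends e').2 - h (ends e').2) := by
        intro e'
        have : h (ends e').1 - h (ends e').2 = g (ends e').1 - g (ends e').2 := by
          simp only [hh]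
          rw [← Finset.sum_sub_distrib]
          have : ∀ e, (g (ends e).1 - g (ends e).2) * s e (ends e').1 -
              (g (ends e).1 - g (ends e).2) * s e (ends e').2 =
              if e = e' then (g (ends e).1 - g (ends e).2) else 0 := by
            intro e
            rw [← mul_sub, hsd e e']
            by_cases hee : e' = e
            · rw [if_pos hee, if_pos hee.symm, mul_one]
            · rw [if_neg hee, if_neg (fun h' => hee h'.symm), mul_zero]
          simp_rw [this]
          rw [Finset.sum_ite_eq' Finset.univ e']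
          simp
        linarith
      have hconst : ∀ v, g v - h v = g v₀ - h v₀ :=
        fun v => const_of_edge_const ends hconn (fun v => g v - h v) hedge v v₀
      have hg : ∀ v, g v = h v + (g v₀ - h v₀) := fun v => by linarith [hconst v]
      have h1 : ∑ v, d v * h v = 0 := by
        simp only [hh]
        simp_rw [Finset.mul_sum]
        rw [Finset.sum_comm]
        refine Finset.sum_eq_zero (fun e _ => ?_)
        have : ∀ v, d v * ((g (ends e).1 - g (ends e).2) * s e v) =
            (g (ends e).1 - g (ends e).2) * (s e v * d v) := fun v => by ring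
        simp_rw [this]
        rw [← Finset.mul_sum]
        have h2 := sum_side (side ends e) d
        rw [hd1 e] at h2
        rw [← h2, mul_zero]
      calc ∑ v, d v * g v = ∑ v, (d v * h v + (g v₀ - h v₀) * d v) := by
            refine Finset.sum_congr rfl (fun v _ => ?_)
            rw [hg v]; ring
        _ = 0 := by
            rw [Finset.sum_add_distrib, h1, ← Finset.mul_sum, hd2]; ring
    have hsq := hpair d
    have hzero := (Finset.sum_eq_zero_iff_of_nonneg (fun v _ => mul_self_nonneg (d v))).mp hsq
    funext v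
    exact mul_self_eq_zero.mp (hzero v (Finset.mem_univ v))
  -- existence
  set φ : V → ℝ := fun v => c₀ * (if v₀ = v then 1 else 0) +
    ∑ e, (c e - c₀ * s e v₀) * ((if (ends e).1 = v then 1 else 0) - (if (ends e).2 = v then 1 else 0))
    with hφ
  have hgen : ∀ w : V → ℝ, ∑ v, w v * φ v = c₀ * w v₀ +
      ∑ e, (c e - c₀ * s e v₀) * (w (ends e).1 - w (ends e).2) := by
    intro w
    simp only [hφ]
    simp_rw [mul_add, Finset.sum_add_distrib, Finset.mul_sum]
    congr 1
    · simp_rw [mul_ite, mul_one, mul_zero]
      rw [Finset.sum_ite_eq Finset.univ v₀]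
      simp only [Finset.mem_univ, if_true]
      ring
    · rw [Finset.sum_comm]
      refine Finset.sum_congr rfl (fun e _ => ?_)
      have : ∀ v, w v * ((c e - c₀ * s e v₀) *
          ((if (ends e).1 = v then 1 else 0) - (if (ends e).2 = v then 1 else 0))) =
          (c e - c₀ * s e v₀) * ((if (ends e).1 = v then w v else 0) -
            (if (ends e).2 = v then w v else 0)) := by
        intro v
        split_ifs <;> ring
      simp_rw [this]
      rw [← Finset.mul_sum, Finset.sum_sub_distrib, Finset.sum_ite_eq Finset.univ (ends e).1,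
        Finset.sum_ite_eq Finset.univ (ends e).2]
      simp
  have hφ1 : ∀ e', ∑ v ∈ side ends e', φ v = c e' := by
    intro e'
    rw [sum_side, hgen (fun v => if v ∈ side ends e' then (1 : ℝ) else 0)]
    have : ∀ e, (c e - c₀ * s e v₀) * ((if (ends e).1 ∈ side ends e' then (1 : ℝ) else 0) -
        (if (ends e).2 ∈ side ends e' then (1 : ℝ) else 0)) =
        if e = e' then (c e - c₀ * s e v₀) else 0 := by
      intro e
      rw [ind_diff ends hF e' e]
      split_ifs <;> ring
    simp_rw [this]
    rw [Finset.sum_ite_eq' Finset.univ e']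
    simp only [Finset.mem_univ, if_true, hs]
    ring
  have hφ2 : ∑ v, φ v = c₀ := by
    have := hgen (fun _ => (1 : ℝ))
    simp only [one_mul, sub_self, mul_zero, Finset.sum_const_zero, add_zero, mul_one] at this
    exact this
  refine ⟨φ, ⟨hφ1, hφ2⟩, ?_⟩
  rintro φ' ⟨h1, h2⟩
  have := huniq (φ' - φ) (fun e => by
    simp only [Pi.sub_apply, Finset.sum_sub_distrib, h1 e, hφ1 e, sub_self]) (by
    simp only [Pi.sub_apply, Finset.sum_sub_distrib, h2, hφ2, sub_self])
  exact sub_eq_zero.mp this

end Groth.Agent.Lib.Helper24SideSum
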