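import Mathlib
import Groth.Prelude.Def_W4c5modbuncurvesppStab
import Groth.Agent.Lib.Helper24SideSum
import Groth.Agent.Lib.Helper24Elem1

set_option autoImplicit false
universe u

namespace Groth.Agent.Lib.Helper24PT

open LabGraph DualGr PhiStab Groth.Agent.Lib.Helper24Circuit Groth.Agent.Lib.Helper24SideSum
  Groth.Agent.Lib.Helper24BI Groth.Agent.Lib.Helper24Elem

variable {V E : Type u} [Fintype V] [Fintype E] [DecidableEq V] [DecidableEq E]

/-- the key indicator identity, over `ℤ`. -/
theorem ind_diffZ (ends : E → V × V) (hF : IsForest ends) (e e' : E) :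
    ((if (ends e').1 ∈ side ends e then (1 : ℤ) else 0) -
      (if (ends e').2 ∈ side ends e then (1 : ℤ) else 0)) = if e' = e then 1 else 0 := by
  by_cases h : e' = e
  · rw [h, if_pos (side_fst ends e), if_neg (side_snd ends hF e), if_pos rfl]
    ring
  · rw [if_neg h]
    by_cases h1 : (ends e').1 ∈ side ends e
    · rw [if_pos h1, if_pos ((side_other ends e e' h).mp h1)]; ring
    · rw [if_neg h1, if_neg (fun h2 => h1 ((side_other ends e e' h).mpr h2))]; ring

theorem sum_sideZ (S : Finset V) (φ : V → ℤ) :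
    ∑ v ∈ S, φ v = ∑ v, (if v ∈ S then (1 : ℤ) else 0) * φ v := by
  have : ∀ v, (if v ∈ S then (1 : ℤ) else 0) * φ v = if v ∈ S then φ v else 0 := by
    intro v
    by_cases h : v ∈ S
    · rw [if_pos h, if_pos h, one_mul]
    · rw [if_neg h, if_neg h, zero_mul]
  simp_rw [this]
  rw [Finset.sum_ite_mem, Finset.univ_inter]

/-- on a tree, the side-sum system has an integer solution for integer data. -/
theorem int_solution (ends : E → V × V) (hT : IsTree ends) (c : E → ℤ) (c₀ : ℤ) :
    ∃ φ : V → ℤ, (∀ e : E, (∑ v ∈ side ends e, φ v) = c e) ∧ (∑ v : V, φ v) = c₀ := by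
  obtain ⟨hconn, hF⟩ := hT
  obtain ⟨v₀⟩ := hconn.1
  set s : E → V → ℤ := fun e v => if v ∈ side ends e then (1 : ℤ) else 0 with hs
  set φ : V → ℤ := fun v => c₀ * (if v₀ = v then 1 else 0) +
    ∑ e, (c e - c₀ * s e v₀) * ((if (ends e).1 = v then 1 else 0) - (if (ends e).2 = v then 1 else 0))
    with hφ
  have hgen : ∀ w : V → ℤ, ∑ v, w v * φ v = c₀ * w v₀ +
      ∑ e, (c e - c₀ * s e v₀) * (w (ends e).1 - w (ends e).2) := by
    intro w
    simp only [hφ]
    simp_rw [mul_add, Finset.sum_add_distrib, Finset.mul_sum]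
    congr 1
    · simp_rw [mul_ite, mul_one, mul_zero]
      rw [Finset.sum_ite_eq Finset.univ v₀]
      simp only [Finset.mem_univ, if_true]
      ring
    · rw [Finset.sum_comm]
      refine Finset.sum_congr rfl (fun e _ => ?_)
      have : ∀ v, w v * ((c e - c₀ * s e v₀) *
          ((if (ends e).1 = v then 1 else 0) - (if (ends e).2 = v then 1 else 0))) =
          (c e - c₀ * s e v₀) * ((if (ends e).1 = v then w v else 0) -
            (if (ends e).2 = v then w v else 0)) := by
        intro v
        split_ifs <;> ring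
      simp_rw [this]
      rw [← Finset.mul_sum, Finset.sum_sub_distrib, Finset.sum_ite_eq Finset.univ (ends e).1,
        Finset.sum_ite_eq Finset.univ (ends e).2]
      simp
  have hφ1 : ∀ e', ∑ v ∈ side ends e', φ v = c e' := by
    intro e'
    rw [sum_sideZ, hgen (fun v => if v ∈ side ends e' then (1 : ℤ) else 0)]
    have : ∀ e, (c e - c₀ * s e v₀) * ((if (ends e).1 ∈ side ends e' then (1 : ℤ) else 0) -
        (if (ends e).2 ∈ side ends e' then (1 : ℤ) else 0)) =
        if e = e' then (c e - c₀ * s e v₀) else 0 := by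
      intro e
      rw [ind_diffZ ends hF e' e]
      split_ifs <;> ring
    simp_rw [this]
    rw [Finset.sum_ite_eq' Finset.univ e']
    simp only [Finset.mem_univ, if_true, hs]
    ring
  have hφ2 : ∑ v, φ v = c₀ := by
    have := hgen (fun _ => (1 : ℤ))
    simp only [one_mul, sub_self, mul_zero, Finset.sum_const_zero, add_zero, mul_one] at this
    exact this
  exact ⟨φ, hφ1, hφ2⟩

/-- pairing identity on a tree: a sum-zero vertex vector pairs with `w` through its side sums. -/
theorem pairing (ends : E → V × V) (hT : IsTree ends) (d w : V → ℝ) (hd : ∑ v, d v = 0) :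
    ∑ v, d v * w v =
      ∑ e, (w (ends e).1 - w (ends e).2) * (∑ v ∈ side ends e, d v) := by
  obtain ⟨hconn, hF⟩ := hT
  obtain ⟨v₀⟩ := hconn.1
  set s : E → V → ℝ := fun e v => if v ∈ side ends e then (1 : ℝ) else 0 with hs
  have hsd : ∀ e e', s e (ends e').1 - s e (ends e').2 = if e' = e then 1 else 0 :=
    fun e e' => ind_diff ends hF e e'
  set h : V → ℝ := fun v => ∑ e, (w (ends e).1 - w (ends e).2) * s e v with hh
  have hedge : ∀ e', (w (ends e').1 - h (ends e').1) = (w (ends e').2 - h (ends e').2) := by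
    intro e'
    have : h (ends e').1 - h (ends e').2 = w (ends e').1 - w (ends e').2 := by
      simp only [hh]
      rw [← Finset.sum_sub_distrib]
      have : ∀ e, (w (ends e).1 - w (ends e).2) * s e (ends e').1 -
          (w (ends e).1 - w (ends e).2) * s e (ends e').2 =
          if e = e' then (w (ends e).1 - w (ends e).2) else 0 := by
        intro e
        rw [← mul_sub, hsd e e']
        by_cases hee : e' = e
        · rw [if_pos hee, if_pos hee.symm, mul_one]
        · rw [if_neg hee, if_neg (fun h' => hee h'.symm), mul_zero]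
      simp_rw [this]
      rw [Finset.sum_ite_eq' Finset.univ e']
      simp
    linarith
  have hconst : ∀ v, w v - h v = w v₀ - h v₀ :=
    fun v => const_of_edge_const ends hconn (fun v => w v - h v) hedge v v₀
  have hg : ∀ v, w v = h v + (w v₀ - h v₀) := fun v => by linarith [hconst v]
  have h1 : ∑ v, d v * h v =
      ∑ e, (w (ends e).1 - w (ends e).2) * (∑ v ∈ side ends e, d v) := by
    have hR : ∀ e, (w (ends e).1 - w (ends e).2) * (∑ v ∈ side ends e, d v) =
        ∑ v, d v * ((w (ends e).1 - w (ends e).2) * s e v) := by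
      intro e
      rw [sum_side (side ends e) d, Finset.mul_sum]
      refine Finset.sum_congr rfl (fun v _ => ?_)
      simp only [hs]
      ring
    simp only [hh]
    simp_rw [hR, Finset.mul_sum]
    rw [Finset.sum_comm]
  calc ∑ v, d v * w v = ∑ v, (d v * h v + (w v₀ - h v₀) * d v) := by
        refine Finset.sum_congr rfl (fun v _ => ?_)
        have := hg v
        linear_combination (d v) * this
    _ = _ := by
        rw [Finset.sum_add_distrib, h1, ← Finset.mul_sum, hd]; ring

theorem crosses_side_iff (ends : E → V × V) (hF : IsForest ends) (e e' : E) :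
    Crosses ends (side ends e) e' ↔ e' = e := by
  constructor
  · intro hc
    by_contra h
    have := side_other ends e e' h
    rcases hc with ⟨h1, h2⟩ | ⟨h1, h2⟩
    · exact h2 (this.mp h1)
    · exact h1 (this.mpr h2)
  · intro h
    rw [h]
    exact Or.inl ⟨side_fst ends e, side_snd ends hF e⟩

theorem cut_side (ends : E → V × V) (hF : IsForest ends) (e : E) :
    cut ends (side ends e) = 1 := by
  rw [cut_eq]
  have : Finset.univ.filter (Crosses ends (side ends e)) = {e} := by
    ext e'
    simp only [Finset.mem_filter, Finset.mem_univ, true_and, Finset.mem_singleton]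
    exact crosses_side_iff ends hF e e'
  rw [this, Finset.card_singleton]

/-- on a tree, if all side sums of a sum-zero vector lie in `[-1/2, 1/2]` then
`Σ_S d + cut S / 2 ≥ 0` for every vertex set. -/
theorem tree_lower (ends : E → V × V) (hT : IsTree ends) (d : V → ℝ) (hd : ∑ v, d v = 0)
    (hb : ∀ e, -(1 / 2 : ℝ) ≤ ∑ v ∈ side ends e, d v ∧ ∑ v ∈ side ends e, d v ≤ 1 / 2)
    (S : Finset V) :
    0 ≤ ∑ v ∈ S, d v + (cut ends S : ℝ) / 2 := by
  have h1 : ∑ v, d v * (if v ∈ S then (1 : ℝ) else 0) =
      ∑ e, ((if (ends e).1 ∈ S then (1 : ℝ) else 0) - (if (ends e).2 ∈ S then (1 : ℝ) else 0)) *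
        (∑ v ∈ side ends e, d v) :=
    pairing ends hT d (fun v => if v ∈ S then (1 : ℝ) else 0) hd
  have h2 : ∑ v ∈ S, d v = ∑ v, d v * (if v ∈ S then (1 : ℝ) else 0) := by
    rw [sum_side S d]
    exact Finset.sum_congr rfl (fun v _ => mul_comm _ _)
  rw [h2, h1, cut_eq_sum_real, Finset.sum_div, ← Finset.sum_add_distrib]
  refine Finset.sum_nonneg (fun e _ => ?_)
  obtain ⟨hb1, hb2⟩ := hb e
  by_cases s1 : (ends e).1 ∈ S
  · by_cases s2 : (ends e).2 ∈ S
    · have hc : ¬ Crosses ends S e := by unfold Crosses; tauto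
      rw [if_pos s1, if_pos s2, if_neg hc]
      simp
    · have hc : Crosses ends S e := Or.inl ⟨s1, s2⟩
      rw [if_pos s1, if_neg s2, if_pos hc]
      linarith
  · by_cases s2 : (ends e).2 ∈ S
    · have hc : Crosses ends S e := Or.inr ⟨s1, s2⟩
      rw [if_neg s1, if_pos s2, if_pos hc]
      linarith
    · have hc : ¬ Crosses ends S e := by unfold Crosses; tauto
      rw [if_neg s1, if_neg s2, if_neg hc]
      simp

end Groth.Agent.Lib.Helper24PT
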