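import Mathlib
import Groth.Prelude.Def_W4c5modbuncurvesppStab
import Groth.Agent.Lib.Helper24PT1

set_option autoImplicit false
universe u

namespace Groth.Agent.Lib.Helper24PT

open LabGraph DualGr PhiStab Groth.Agent.Lib.Helper24Circuit Groth.Agent.Lib.Helper24SideSum
  Groth.Agent.Lib.Helper24BI Groth.Agent.Lib.Helper24Elem

variable {V E : Type u} [Fintype V] [Fintype E] [DecidableEq V] [DecidableEq E]

/-- the weighting shifted by half the number of non-tree edge-ends. -/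
noncomputable def phiT (ends : E → V × V) (T : Finset E) (φ : V → ℝ) : V → ℝ :=
  fun v => φ v - (endCount ends Tᶜ v : ℝ) / 2

theorem cutT_eq (ends : E → V × V) (T : Finset E) (S : Finset V) :
    (cut (spanEnds ends T) S : ℝ) = ∑ e ∈ T, if Crosses ends S e then (1 : ℝ) else 0 := by
  rw [cut_eq_sum_real, ← Finset.sum_coe_sort T (fun e => if Crosses ends S e then (1 : ℝ) else 0)]
  refine Finset.sum_congr rfl (fun e _ => ?_)
  by_cases h : Crosses ends S e.1
  · rw [if_pos h, if_pos (show Crosses (spanEnds ends T) S e from h)]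
  · rw [if_neg h, if_neg (show ¬ Crosses (spanEnds ends T) S e from h)]

/-- the stability defect of `(m, Tᶜ)` on the full graph is the defect of `(m, ∅)` on the tree
for the shifted weighting. -/
theorem fdef_bridge (ends : E → V × V) (T : Finset E) (φ : V → ℝ) (m : V → ℤ) (S : Finset V) :
    fdef ends φ m Tᶜ S =
      ∑ v ∈ S, ((m v : ℝ) - phiT ends T φ v) + (cut (spanEnds ends T) S : ℝ) / 2 := by
  rw [fdef_eq, cutT_eq]
  have hsplit : ∑ e, (if Crosses ends S e then (1 : ℝ) else 0) =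
      ∑ e ∈ T, (if Crosses ends S e then (1 : ℝ) else 0) +
        ∑ e ∈ Tᶜ, (if Crosses ends S e then (1 : ℝ) else 0) :=
    (Finset.sum_add_sum_compl T _).symm
  have hend : ∑ v ∈ S, (endCount ends Tᶜ v : ℝ) =
      ∑ e ∈ Tᶜ, ((if (ends e).1 ∈ S then (1 : ℝ) else 0) +
        (if (ends e).2 ∈ S then (1 : ℝ) else 0)) := by
    have h0 := sum_endCount ends Tᶜ S
    have h2 : ((∑ v ∈ S, endCount ends Tᶜ v : ℕ) : ℝ) =
        ((∑ e ∈ Tᶜ, ((if (ends e).1 ∈ S then 1 else 0) +
          (if (ends e).2 ∈ S then 1 else 0)) : ℕ) : ℝ) := by rw [h0]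
    push_cast at h2
    exact h2
  have hedge : ∀ e, (if (ends e).1 ∈ S ∧ (ends e).2 ∈ S then (1 : ℝ) else 0) +
      (if Crosses ends S e then (1 : ℝ) else 0) / 2 =
      ((if (ends e).1 ∈ S then (1 : ℝ) else 0) + (if (ends e).2 ∈ S then (1 : ℝ) else 0)) / 2 := by
    intro e
    unfold Crosses
    by_cases s1 : (ends e).1 ∈ S <;> by_cases s2 : (ends e).2 ∈ S <;> simp [s1, s2] <;> norm_num
  unfold phiT
  rw [hsplit]
  have h1 : ∑ v ∈ S, ((m v : ℝ) - (φ v - (endCount ends Tᶜ v : ℝ) / 2)) =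
      ∑ v ∈ S, ((m v : ℝ) - φ v) + (∑ v ∈ S, (endCount ends Tᶜ v : ℝ)) / 2 := by
    rw [Finset.sum_div, ← Finset.sum_add_distrib]
    exact Finset.sum_congr rfl (fun v _ => by ring)
  rw [h1, hend]
  have h3 : ∑ e ∈ Tᶜ, (if (ends e).1 ∈ S ∧ (ends e).2 ∈ S then (1 : ℝ) else 0) +
      (∑ e ∈ Tᶜ, (if Crosses ends S e then (1 : ℝ) else 0)) / 2 =
      (∑ e ∈ Tᶜ, ((if (ends e).1 ∈ S then (1 : ℝ) else 0) +
        (if (ends e).2 ∈ S then (1 : ℝ) else 0))) / 2 := by
    rw [Finset.sum_div, Finset.sum_div, ← Finset.sum_add_distrib]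
    exact Finset.sum_congr rfl (fun e _ => hedge e)
  linarith

theorem sum_phiT (ends : E → V × V) (T : Finset E) (φ : V → ℝ) :
    ∑ v, phiT ends T φ v = ∑ v, φ v - (Tᶜ.card : ℝ) := by
  unfold phiT
  rw [Finset.sum_sub_distrib, ← Finset.sum_div]
  have hN : ∑ v, endCount ends Tᶜ v = 2 * Tᶜ.card := by
    rw [sum_endCount ends Tᶜ Finset.univ]
    simp only [Finset.mem_univ, if_true]
    rw [Finset.sum_const, smul_eq_mul]
    ring
  have h2 : ∑ v, (endCount ends Tᶜ v : ℝ) = 2 * (Tᶜ.card : ℝ) := by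
    rw [← Nat.cast_sum, hN]
    push_cast
    ring
  rw [h2]
  ring

theorem sum_a_zero (ends : E → V × V) (T : Finset E) (b : ℤ) (φ : V → ℝ)
    (hφ : (∑ v : V, φ v) = (b : ℝ)) (m : V → ℤ) (hm : totDeg m Tᶜ = b) :
    ∑ v, ((m v : ℝ) - phiT ends T φ v) = 0 := by
  rw [Finset.sum_sub_distrib, sum_phiT, hφ]
  have : ((totDeg m Tᶜ : ℤ) : ℝ) = (b : ℝ) := by rw [hm]
  unfold totDeg at this
  push_cast at this
  linarith

theorem stable_iff_fdef (ends : E → V × V) (φ : V → ℝ) (m : V → ℤ) (N : Finset E) :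
    IsStable ends φ m N ↔
      ∀ S : Finset V, S.Nonempty → S ≠ Finset.univ → 0 < fdef ends φ m N S := by
  unfold IsStable fdef
  constructor
  · intro h S h1 h2
    have := h S h1 h2
    linarith
  · intro h S h1 h2
    have := h S h1 h2
    linarith

/-- a stable datum of total degree `b` has all tree side sums of `m - φ'` in `(-1/2, 1/2)`. -/
theorem side_window (ends : E → V × V) (T : Finset E) (hT : DualGr.IsTree (spanEnds ends T))
    (b : ℤ) (φ : V → ℝ) (hφ : (∑ v : V, φ v) = (b : ℝ)) (m : V → ℤ) (hm : totDeg m Tᶜ = b)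
    (hst : IsStable ends φ m Tᶜ) (e : {e : E // e ∈ T}) :
    0 < ∑ v ∈ side (spanEnds ends T) e, ((m v : ℝ) - phiT ends T φ v) + 1 / 2 ∧
      ∑ v ∈ side (spanEnds ends T) e, ((m v : ℝ) - phiT ends T φ v) + 1 / 2 < 1 := by
  have hF : IsForest (spanEnds ends T) := hT.2
  have hs0 := sum_a_zero ends T b φ hφ m hm
  have hne : (side (spanEnds ends T) e).Nonempty := ⟨_, side_fst (spanEnds ends T) e⟩
  have hnu : side (spanEnds ends T) e ≠ Finset.univ := by
    intro h
    apply side_snd (spanEnds ends T) hF e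
    rw [h]
    exact Finset.mem_univ _
  have hne' : (side (spanEnds ends T) e)ᶜ.Nonempty :=
    ⟨(spanEnds ends T e).2, Finset.mem_compl.mpr (side_snd (spanEnds ends T) hF e)⟩
  have hnu' : (side (spanEnds ends T) e)ᶜ ≠ Finset.univ := by
    intro h
    have := Finset.mem_univ (spanEnds ends T e).1
    rw [← h, Finset.mem_compl] at this
    exact this (side_fst (spanEnds ends T) e)
  have p1 := (stable_iff_fdef ends φ m Tᶜ).mp hst _ hne hnu
  have p2 := (stable_iff_fdef ends φ m Tᶜ).mp hst _ hne' hnu'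
  rw [fdef_bridge] at p1 p2
  rw [cut_compl, cut_side (spanEnds ends T) hF e] at p2
  rw [cut_side (spanEnds ends T) hF e] at p1
  have hsplit := Finset.sum_add_sum_compl (side (spanEnds ends T) e)
    (fun v => (m v : ℝ) - phiT ends T φ v)
  push_cast at p1 p2
  constructor <;> linarith

theorem s18375 (ends : E → V × V) (T : Finset E)
    (hT : DualGr.IsTree (spanEnds ends T)) (b : ℤ) (φ : V → ℝ) (hφ : (∑ v : V, φ v) = (b : ℝ))
    (hnd : Nondegenerate ends φ) :
    ∃! m : V → ℤ, totDeg m Tᶜ = b ∧ IsStable ends φ m Tᶜ := by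
  -- existence
  obtain ⟨m, hm1, hm2⟩ := int_solution (spanEnds ends T) hT
    (fun e => ⌈(∑ v ∈ side (spanEnds ends T) e, phiT ends T φ v) - 1 / 2⌉) (b - (Tᶜ.card : ℤ))
  have htot : totDeg m Tᶜ = b := by
    unfold totDeg
    rw [hm2]
    ring
  have hs0 := sum_a_zero ends T b φ hφ m htot
  have hsemi : IsSemistable ends φ m Tᶜ := by
    unfold IsSemistable
    intro S _ _
    have hb : ∀ e, -(1 / 2 : ℝ) ≤ ∑ v ∈ side (spanEnds ends T) e, ((m v : ℝ) - phiT ends T φ v) ∧
        ∑ v ∈ side (spanEnds ends T) e, ((m v : ℝ) - phiT ends T φ v) ≤ 1 / 2 := by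
      intro e
      rw [Finset.sum_sub_distrib]
      have h0 : ∑ v ∈ side (spanEnds ends T) e, m v =
          ⌈(∑ v ∈ side (spanEnds ends T) e, phiT ends T φ v) - 1 / 2⌉ := hm1 e
      have h1 : (∑ v ∈ side (spanEnds ends T) e, (m v : ℝ)) =
          ((⌈(∑ v ∈ side (spanEnds ends T) e, phiT ends T φ v) - 1 / 2⌉ : ℤ) : ℝ) := by
        rw [← h0, Int.cast_sum]
      rw [h1]
      have h2 := Int.le_ceil ((∑ v ∈ side (spanEnds ends T) e, phiT ends T φ v) - 1 / 2)
      have h3 := Int.ceil_lt_add_one ((∑ v ∈ side (spanEnds ends T) e, phiT ends T φ v) - 1 / 2)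
      constructor <;> linarith
    have hlow := tree_lower (spanEnds ends T) hT (fun v => (m v : ℝ) - phiT ends T φ v) hs0 hb S
    have hbr := fdef_bridge ends T φ m S
    unfold fdef at hbr
    linarith
  have hst : IsStable ends φ m Tᶜ := hnd m Tᶜ (by rw [hφ, htot]) hsemi
  refine ⟨m, ⟨htot, hst⟩, ?_⟩
  -- uniqueness
  rintro m' ⟨htot', hst'⟩
  have hk := side_window ends T hT b φ hφ m htot hst
  have hk' := side_window ends T hT b φ hφ m' htot' hst'
  have hside : ∀ e, ∑ v ∈ side (spanEnds ends T) e, (m' v : ℝ) =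
      ∑ v ∈ side (spanEnds ends T) e, (m v : ℝ) := by
    intro e
    obtain ⟨a1, a2⟩ := hk e
    obtain ⟨b1, b2⟩ := hk' e
    rw [Finset.sum_sub_distrib] at a1 a2 b1 b2
    have d1 : (-1 : ℝ) < ((∑ v ∈ side (spanEnds ends T) e, m' v : ℤ) : ℝ) -
        ((∑ v ∈ side (spanEnds ends T) e, m v : ℤ) : ℝ) := by
      push_cast
      linarith
    have d2 : ((∑ v ∈ side (spanEnds ends T) e, m' v : ℤ) : ℝ) -
        ((∑ v ∈ side (spanEnds ends T) e, m v : ℤ) : ℝ) < 1 := by
      push_cast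
      linarith
    have d1' : -1 < (∑ v ∈ side (spanEnds ends T) e, m' v) -
        (∑ v ∈ side (spanEnds ends T) e, m v) := by exact_mod_cast d1
    have d2' : (∑ v ∈ side (spanEnds ends T) e, m' v) -
        (∑ v ∈ side (spanEnds ends T) e, m v) < 1 := by exact_mod_cast d2
    have h3 : (∑ v ∈ side (spanEnds ends T) e, m' v) =
        (∑ v ∈ side (spanEnds ends T) e, m v) := by omega
    rw [← Int.cast_sum, ← Int.cast_sum, h3]
  have hsumV : ∑ v, (m' v : ℝ) = ∑ v, (m v : ℝ) := by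
    have : ∑ v, m' v = ∑ v, m v := by
      have h4 := htot'.trans htot.symm
      unfold totDeg at h4
      linarith
    rw [← Int.cast_sum, ← Int.cast_sum, this]
  have hU := s18382 (spanEnds ends T) hT
    (fun e => ∑ v ∈ side (spanEnds ends T) e, (m v : ℝ)) (∑ v, (m v : ℝ))
  have hm'R : (fun v => (m' v : ℝ)) = (fun v => (m v : ℝ)) := by
    apply hU.unique
    · exact ⟨fun e => hside e, hsumV⟩
    · exact ⟨fun e => rfl, rfl⟩
  funext v
  have := congrFun hm'R v
  exact_mod_cast this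

end Groth.Agent.Lib.Helper24PT
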