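import Mathlib
import Groth.Prelude.Def_W4c5modbuncurvesppStab
import Groth.Agent.Lib.Helper24PT2
import Groth.Agent.Lib.Helper24Elem3
import Groth.Agent.Lib.Helper24SpTree

set_option autoImplicit false
universe u

namespace Groth.Agent.Lib.Helper24PT

open LabGraph DualGr PhiStab Groth.Agent.Lib.Helper24Circuit Groth.Agent.Lib.Helper24SideSum
  Groth.Agent.Lib.Helper24BI Groth.Agent.Lib.Helper24Elem Groth.Agent.Lib.Helper24SpTree

variable {V E : Type u} [Fintype V] [Fintype E] [DecidableEq V] [DecidableEq E]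

/-- reachability in an induced subgraph gives reachability through the inner edges. -/
theorem reach_of_ind (ends : E → V × V) (S : Finset V) (a b : {v : V // v ∈ S})
    (h : Relation.ReflTransGen (Adj (indEnds ends S)) a b) :
    Relation.ReflTransGen (AdjIn ends (PhiStab.inner ends S)) a.1 b.1 := by
  induction h with
  | refl => exact Relation.ReflTransGen.refl
  | tail _ hbc ih =>
    obtain ⟨⟨e, he⟩, h | h⟩ := hbc
    · exact ih.tail ⟨e, he, Or.inl (Prod.ext (congrArg (fun p => p.1.1) h)
        (congrArg (fun p => p.2.1) h))⟩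
    · exact ih.tail ⟨e, he, Or.inr (Prod.ext (congrArg (fun p => p.1.1) h)
        (congrArg (fun p => p.2.1) h))⟩

omit [Fintype V] [DecidableEq E] in
theorem mem_inner' (ends : E → V × V) (Q : Finset V) (e : E) (h : e ∈ PhiStab.inner ends Q) :
    (ends e).1 ∈ Q ∧ (ends e).2 ∈ Q := by
  unfold PhiStab.inner at h
  exact (Finset.mem_filter.mp h).2

theorem s18376 (ends : E → V × V)
    (hconn : LabGraph.Connected ends) (b : ℤ) (φ₁ φ₂ : V → ℝ) (h₁ : (∑ v : V, φ₁ v) = (b : ℝ))
    (h₂ : (∑ v : V, φ₂ v) = (b : ℝ)) (hnd : Nondegenerate ends φ₁) :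
    (∀ (m : V → ℤ) (N : Finset E), totDeg m N = b → IsStable ends φ₁ m N →
      IsSemistable ends φ₂ m N) ↔ InClosedPolytope ends φ₁ φ₂ := by
  constructor
  · intro H S hS d hd
    obtain ⟨⟨⟨s0, hs0⟩⟩, hc1⟩ := hS.1
    obtain ⟨⟨⟨t0, ht0⟩⟩, hc2⟩ := hS.2
    have hne : S.Nonempty := ⟨s0, hs0⟩
    have hnu : S ≠ Finset.univ := by
      intro h
      rw [h] at ht0
      simp at ht0
    have hne' : Sᶜ.Nonempty := ⟨t0, ht0⟩
    have hnu' : Sᶜ ≠ Finset.univ := by
      intro h
      have := Finset.mem_univ s0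
      rw [← h, Finset.mem_compl] at this
      exact this hs0
    obtain ⟨e₀, he₀⟩ := exists_cross ends hconn S hne hnu
    obtain ⟨F, hFdef⟩ : ∃ F : Finset E,
      F = PhiStab.inner ends S ∪ PhiStab.inner ends Sᶜ ∪ {e₀} := ⟨_, rfl⟩
    have hmemF : ∀ e, e ∈ F ↔ (e ∈ PhiStab.inner ends S ∨ e ∈ PhiStab.inner ends Sᶜ) ∨ e = e₀ := by
      intro e
      rw [hFdef, Finset.mem_union, Finset.mem_union, Finset.mem_singleton]
    have he₀F : e₀ ∈ F := (hmemF e₀).mpr (Or.inr rfl)
    have hsub1 : PhiStab.inner ends S ⊆ F := fun e he => (hmemF e).mpr (Or.inl (Or.inl he))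
    have hsub2 : PhiStab.inner ends Sᶜ ⊆ F := fun e he => (hmemF e).mpr (Or.inl (Or.inr he))
    have hreachS : ∀ u w, u ∈ S → w ∈ S → Relation.ReflTransGen (AdjIn ends F) u w := by
      intro u w hu hw
      exact reach_mono hsub1 (reach_of_ind ends S ⟨u, hu⟩ ⟨w, hw⟩ (hc1 ⟨u, hu⟩ ⟨w, hw⟩))
    have hreachSc : ∀ u w, u ∈ Sᶜ → w ∈ Sᶜ → Relation.ReflTransGen (AdjIn ends F) u w := by
      intro u w hu hw
      exact reach_mono hsub2 (reach_of_ind ends Sᶜ ⟨u, hu⟩ ⟨w, hw⟩ (hc2 ⟨u, hu⟩ ⟨w, hw⟩))
    obtain ⟨p, q, hp, hq, hpq⟩ : ∃ p q, p ∈ S ∧ q ∉ S ∧ AdjIn ends F p q := by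
      rcases he₀ with ⟨h1, h2⟩ | ⟨h1, h2⟩
      · exact ⟨(ends e₀).1, (ends e₀).2, h1, h2, e₀, he₀F, Or.inl rfl⟩
      · exact ⟨(ends e₀).2, (ends e₀).1, h2, h1, e₀, he₀F, Or.inr rfl⟩
    have hqc : q ∈ Sᶜ := Finset.mem_compl.mpr hq
    have hreach : ∀ u w, Relation.ReflTransGen (AdjIn ends F) u w := by
      intro u w
      by_cases hu : u ∈ S
      · by_cases hw : w ∈ S
        · exact hreachS u w hu hw
        · exact ((hreachS u p hu hp).tail hpq).trans
            (hreachSc q w hqc (Finset.mem_compl.mpr hw))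
      · by_cases hw : w ∈ S
        · exact ((hreachSc u q (Finset.mem_compl.mpr hu) hqc).tail hpq.symm).trans
            (hreachS p w hp hw)
        · exact hreachSc u w (Finset.mem_compl.mpr hu) (Finset.mem_compl.mpr hw)
    obtain ⟨T, hTF, hTreach, hTnc⟩ := exists_tree_subset ends F hreach
    have hT : DualGr.IsTree (spanEnds ends T) :=
      (isSpanningTree_iff ends T).mpr ⟨⟨⟨s0⟩, hTreach⟩, hTnc⟩
    obtain ⟨m, ⟨hm1, hm2⟩, -⟩ := s18375 ends T hT b φ₁ h₁ hnd
    have hsemi := H m Tᶜ hm1 hm2
    -- `e₀ ∈ T`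
    have he₀T : e₀ ∈ T := by
      by_contra hnot
      have hinv : ∀ x, Relation.ReflTransGen (AdjIn ends T) p x → x ∈ S := by
        intro x hx
        induction hx with
        | refl => exact hp
        | tail _ hbc ih =>
          obtain ⟨e, heT, h⟩ := hbc
          have heF := (hmemF e).mp (hTF heT)
          rcases heF with (h1 | h1) | h1
          · have := mem_inner' ends S e h1
            rcases h with h | h <;> rw [h] at this
            · exact this.2
            · exact this.1
          · have := mem_inner' ends Sᶜ e h1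
            rcases h with h | h <;> rw [h] at this
            · exact absurd ih (Finset.mem_compl.mp this.1)
            · exact absurd ih (Finset.mem_compl.mp this.2)
          · exact absurd (h1 ▸ heT) hnot
      exact hq (hinv q (hTreach p q))
    -- exactly one tree edge crosses `S`
    have hcut1 : cut (spanEnds ends T) S = 1 := by
      rw [cut_eq]
      have : Finset.univ.filter (Crosses (spanEnds ends T) S) = {⟨e₀, he₀T⟩} := by
        ext ⟨e, heT⟩
        simp only [Finset.mem_filter, Finset.mem_univ, true_and, Finset.mem_singleton,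
          Subtype.mk.injEq]
        constructor
        · intro hc
          have hc' : Crosses ends S e := hc
          have heF := (hmemF e).mp (hTF heT)
          rcases heF with (h1 | h1) | h1
          · have := mem_inner' ends S e h1
            unfold Crosses at hc'
            tauto
          · have := mem_inner' ends Sᶜ e h1
            rw [Finset.mem_compl, Finset.mem_compl] at this
            unfold Crosses at hc'
            tauto
          · exact h1
        · intro h
          show Crosses ends S e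
          rw [h]
          exact he₀
      rw [this, Finset.card_singleton]
    have p2 := hm2 Sᶜ hne' hnu'
    have q1 := fdef_bridge ends T φ₁ m S
    have q2 := fdef_bridge ends T φ₁ m Sᶜ
    rw [cut_compl, hcut1] at q2
    rw [hcut1] at q1
    unfold fdef at q1 q2
    have hsplit := Finset.sum_add_sum_compl S (fun v => (m v : ℝ) - phiT ends T φ₁ v)
    have hs0 := sum_a_zero ends T b φ₁ h₁ m hm1
    have r := hsemi S hne hnu
    unfold ell at hd ⊢
    push_cast at q1 q2
    have hdD : ((degOn ends m Tᶜ S - 1 : ℤ) : ℝ) < (d : ℝ) := by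
      push_cast
      linarith
    have hdD' : degOn ends m Tᶜ S - 1 < d := by exact_mod_cast hdD
    have hdD'' : (degOn ends m Tᶜ S : ℝ) ≤ (d : ℝ) := by
      have : degOn ends m Tᶜ S ≤ d := by omega
      exact_mod_cast this
    linarith
  · intro hP m N hm hst
    have h374 := (Groth.Agent.Lib.Helper24Elem.s18374 ends hconn φ₂ m N (by rw [h₂, hm])).1
    rw [h374]
    intro S hS
    obtain ⟨⟨⟨s0, hs0⟩⟩, -⟩ := hS.1
    obtain ⟨⟨⟨t0, ht0⟩⟩, -⟩ := hS.2
    have hne : S.Nonempty := ⟨s0, hs0⟩
    have hnu : S ≠ Finset.univ := by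
      intro h
      rw [h] at ht0
      simp at ht0
    have p := hst S hne hnu
    have := hP S hS (degOn ends m N S) (by unfold ell; linarith)
    unfold ell at this
    linarith

end Groth.Agent.Lib.Helper24PT
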