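import Mathlib
import Groth.Agent.Lib.Helper24Gp5e

/-!
# Pfaffian representations of cubic surfaces from five points in general position (helper24)
-/

namespace Groth.Agent.Lib.Helper24Pf5

open MvPolynomial Matrix
open Groth.Agent.Lib.Helper24CubicSec Groth.Agent.Lib.Helper24CubicLines
open Groth.Agent.Lib.Helper24CubicSing Groth.Agent.Lib.Helper24Nodal
open Groth.Agent.Lib.Helper24Gp5

theorem det_pentagon {R : Type*} [CommRing R] (n0 n1 n2 n3 n4 l0 l1 l2 l3 l4 : R) :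
    Matrix.det (!![0, n0, 0, 0, -n4, l0;
                  -n0, 0, n1, 0, 0, l1;
                  0, -n1, 0, n2, 0, l2;
                  0, 0, -n2, 0, n3, l3;
                  n4, 0, 0, -n3, 0, l4;
                  -l0, -l1, -l2, -l3, -l4, 0] : Matrix (Fin 6) (Fin 6) R) =
      (l0 * n1 * n3 + l1 * n2 * n4 + l2 * n3 * n0 + l3 * n4 * n1 + l4 * n0 * n2) ^ 2 := by
  simp [Matrix.det_succ_row_zero, Fin.sum_univ_succ, Fin.succAbove, Matrix.submatrix]
  ring

theorem syz_solution {R : Type*} [CommRing R]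
    (A01 A02 A03 A10 A12 A13 A20 A21 A23 A30 A31 A32 B012 B013 B023 B123 x0 x1 x2 x3 : R) :
    ((- A10 - B012 - A12) * x0 + (- A12) * x1 + (- A21) * x2 + (- A01 - A02 - A03 - A10 - B012
        - B013 - A20 - B023 - A30 - A12 - A13 - A21 - B123 - A23) * x3) * (x0 - x1) * (x2 - x3)
      + ((- A20 - B023 - A30) * x0 + (A01 + A02 + A03 + A10 + B012 + B013 + A20 + B023 + A30
        + A12 + A13) * x1 + (- A23) * x2 + (A01 + A02 + A03 + A10 + B012 + B013 + A20 + B023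
        + A30 + A12 + A13 + A21 + B123 + A31 + A23) * x3) * (x1 - x2) * x3
      + ((A01 + A02 + A10 + B012 + A12) * x0 + (A20 + A21) * x2 + (A01 + A02 + A03 + A10 + B012
        + B013 + A20 + B023 + A12 + A13 + A21 + B123 + A23) * x3) * (x2 - x3) * x0
      + ((A01 + A02 + A03) * x0 + (A01 + A02 + A03 + A10 + B012 + B013 + A20 + B023 + A30) * x1)
        * x3 * (x0 - x1)
      + (A01 * x0 + A10 * x1) * x0 * (x1 - x2) =
      (x0 ^ 2 * x1 * A01 + x0 ^ 2 * x2 * A02 + x0 ^ 2 * x3 * A03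
      + x1 ^ 2 * x0 * A10 + x1 ^ 2 * x2 * A12 + x1 ^ 2 * x3 * A13
      + x2 ^ 2 * x0 * A20 + x2 ^ 2 * x1 * A21 + x2 ^ 2 * x3 * A23
      + x3 ^ 2 * x0 * A30 + x3 ^ 2 * x1 * A31 + x3 ^ 2 * x2 * A32
      + x0 * x1 * x2 * B012 + x0 * x1 * x3 * B013 + x0 * x2 * x3 * B023 + x1 * x2 * x3 * B123)
      - (A01 + A02 + A03 + A10 + A12 + A13 + A20 + A21 + A23 + A30 + A31 + A32
          + B012 + B013 + B023 + B123) * (x2 * x3 ^ 2) := by
  ring

variable {k : Type*} [Field k] [CharZero k]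

theorem polar_add (F : MvPolynomial (Fin 4) k) (u v : Fin 4 → k) :
    polar F (u + v) = polar F u + polar F v := by
  simp [polar, add_smul, Finset.sum_add_distrib]

theorem polar_smul (F : MvPolynomial (Fin 4) k) (c : k) (u : Fin 4 → k) :
    polar F (c • u) = c • polar F u := by
  simp [polar, Finset.smul_sum, smul_smul]

theorem pol_add_poly {n : ℕ} (p q : MvPolynomial (Fin n) k) (u v : Fin n → k) :
    pol (p + q) u v = pol p u v + pol q u v := by
  simp [pol, mul_add, Finset.sum_add_distrib]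

theorem pol_smul_poly {n : ℕ} (c : k) (p : MvPolynomial (Fin n) k) (u v : Fin n → k) :
    pol (c • p) u v = c * pol p u v := by
  simp only [pol, Finset.mul_sum, Derivation.map_smul, smul_eval]
  refine Finset.sum_congr rfl fun i _ => ?_
  ring

theorem eval_polar_pol (F : MvPolynomial (Fin 4) k) (a u : Fin 4 → k) :
    eval u (polar F a) = pol F u a := by
  rw [eval_polar]; rfl

/-- The expansion of a cubic form in a basis. -/
theorem expand4 (F : MvPolynomial (Fin 4) k) (hF : F.IsHomogeneous 3) (q0 q1 q2 q3 : Fin 4 → k)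
    (x0 x1 x2 x3 : k) :
    eval (x0 • q0 + x1 • q1 + x2 • q2 + x3 • q3) F =
      x0 ^ 3 * eval q0 F + x1 ^ 3 * eval q1 F + x2 ^ 3 * eval q2 F + x3 ^ 3 * eval q3 F +
      (x0 ^ 2 * x1 * pol F q0 q1 + x0 ^ 2 * x2 * pol F q0 q2 + x0 ^ 2 * x3 * pol F q0 q3
      + x1 ^ 2 * x0 * pol F q1 q0 + x1 ^ 2 * x2 * pol F q1 q2 + x1 ^ 2 * x3 * pol F q1 q3
      + x2 ^ 2 * x0 * pol F q2 q0 + x2 ^ 2 * x1 * pol F q2 q1 + x2 ^ 2 * x3 * pol F q2 q3
      + x3 ^ 2 * x0 * pol F q3 q0 + x3 ^ 2 * x1 * pol F q3 q1 + x3 ^ 2 * x2 * pol F q3 q2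
      + x0 * x1 * x2 * pol (polar F q2) q0 q1 + x0 * x1 * x3 * pol (polar F q3) q0 q1
      + x0 * x2 * x3 * pol (polar F q0) q2 q3 + x1 * x2 * x3 * pol (polar F q1) q2 q3) := by
  have e : x0 • q0 + x1 • q1 + x2 • q2 + x3 • q3 =
      (1 : k) • (x0 • q0 + x1 • q1) + (1 : k) • (x2 • q2 + x3 • q3) := by
    rw [one_smul, one_smul]; abel
  rw [e, cubic_expand' F hF, cubic_expand' F hF q0 q1, cubic_expand' F hF q2 q3,
    ← eval_polar_pol F (x2 • q2 + x3 • q3) (x0 • q0 + x1 • q1),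
    ← eval_polar_pol F (x0 • q0 + x1 • q1) (x2 • q2 + x3 • q3),
    quadric_expand _ (polar_isHomogeneous F _ hF) q0 q1,
    quadric_expand _ (polar_isHomogeneous F _ hF) q2 q3]
  simp only [eval_polar_pol, polar_add, polar_smul, pol_add_poly, pol_smul_poly, map_add,
    smul_eval]
  ring

/-- The pentagonal alternating matrix. -/
def pentagon {R : Type*} [CommRing R] (n0 n1 n2 n3 n4 l0 l1 l2 l3 l4 : R) :
    Matrix (Fin 6) (Fin 6) R :=
  !![0, n0, 0, 0, -n4, l0;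
     -n0, 0, n1, 0, 0, l1;
     0, -n1, 0, n2, 0, l2;
     0, 0, -n2, 0, n3, l3;
     n4, 0, 0, -n3, 0, l4;
     -l0, -l1, -l2, -l3, -l4, 0]

theorem pentagon_transpose {R : Type*} [CommRing R] (n0 n1 n2 n3 n4 l0 l1 l2 l3 l4 : R) :
    (pentagon n0 n1 n2 n3 n4 l0 l1 l2 l3 l4).transpose =
      -pentagon n0 n1 n2 n3 n4 l0 l1 l2 l3 l4 := by
  ext i j
  fin_cases i <;> fin_cases j <;> simp [pentagon]

theorem pentagon_diag {R : Type*} [CommRing R] (n0 n1 n2 n3 n4 l0 l1 l2 l3 l4 : R) (i : Fin 6) :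
    pentagon n0 n1 n2 n3 n4 l0 l1 l2 l3 l4 i i = 0 := by
  fin_cases i <;> simp [pentagon]

theorem pentagon_isHomogeneous {σ : Type*} (n0 n1 n2 n3 n4 l0 l1 l2 l3 l4 : MvPolynomial σ k)
    (hn0 : n0.IsHomogeneous 1) (hn1 : n1.IsHomogeneous 1) (hn2 : n2.IsHomogeneous 1)
    (hn3 : n3.IsHomogeneous 1) (hn4 : n4.IsHomogeneous 1) (hl0 : l0.IsHomogeneous 1)
    (hl1 : l1.IsHomogeneous 1) (hl2 : l2.IsHomogeneous 1) (hl3 : l3.IsHomogeneous 1)
    (hl4 : l4.IsHomogeneous 1) (i j : Fin 6) :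
    (pentagon n0 n1 n2 n3 n4 l0 l1 l2 l3 l4 i j).IsHomogeneous 1 := by
  have h0 : (0 : MvPolynomial σ k).IsHomogeneous 1 := isHomogeneous_zero _ _ _
  have hn0' := hn0.neg
  have hn1' := hn1.neg
  have hn2' := hn2.neg
  have hn3' := hn3.neg
  have hn4' := hn4.neg
  have hl0' := hl0.neg
  have hl1' := hl1.neg
  have hl2' := hl2.neg
  have hl3' := hl3.neg
  have hl4' := hl4.neg
  fin_cases i <;> fin_cases j <;> simp [pentagon, *]

end Groth.Agent.Lib.Helper24Pf5
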