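import Mathlib
import Groth.Agent.Lib.Helper24Pf5a

/-!
# Pfaffian representations of cubic surfaces from five points in general position (helper24)
-/

namespace Groth.Agent.Lib.Helper24Pf5

open MvPolynomial Matrix
open Groth.Agent.Lib.Helper24CubicSec Groth.Agent.Lib.Helper24CubicLines
open Groth.Agent.Lib.Helper24CubicSing Groth.Agent.Lib.Helper24Nodal
open Groth.Agent.Lib.Helper24Gp5

variable {k : Type*} [Field k] [CharZero k]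

theorem pfaffian_of_five (F : MvPolynomial (Fin 4) k) (hF : F.IsHomogeneous 3)
    (a p1 p2 p3 p4 : Fin 4 → k) (hFa : eval a F = 0) (h1 : eval p1 F = 0) (h2 : eval p2 F = 0)
    (h3 : eval p3 F = 0) (h4 : eval p4 F = 0)
    (l0 : LI4 p1 p2 p3 p4) (l1 : LI4 a p2 p3 p4) (l2 : LI4 a p1 p3 p4) (l3 : LI4 a p1 p2 p4)
    (l4 : LI4 a p1 p2 p3) :
    ∃ M : Matrix (Fin 6) (Fin 6) (MvPolynomial (Fin 4) k), (∀ i j, (M i j).IsHomogeneous 1) ∧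
      M.transpose = -M ∧ (∀ i, M i i = 0) ∧ M.det = F ^ 2 := by
  have hcard : Fintype.card (Fin 4) = Module.finrank k (Fin 4 → k) := by simp
  obtain ⟨bs, hbsdef⟩ : ∃ bs, bs = basisOfLinearIndependentOfCardEqFinrank l0.linearIndependent
    hcard := ⟨_, rfl⟩
  have hbs : ∀ i, bs i = ![p1, p2, p3, p4] i := by
    intro i
    rw [hbsdef, coe_basisOfLinearIndependentOfCardEqFinrank]
  have hsum : ∀ y, y = bs.coord 0 y • p1 + bs.coord 1 y • p2 + bs.coord 2 y • p3 +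
      bs.coord 3 y • p4 := by
    intro y
    have := bs.sum_repr y
    rw [Fin.sum_univ_four] at this
    simp only [hbs] at this
    simpa [Module.Basis.coord_apply] using this.symm
  obtain ⟨c0, c1, c2, c3, hc⟩ : ∃ c0 c1 c2 c3 : k, a = c0 • p1 + c1 • p2 + c2 • p3 + c3 • p4 :=
    ⟨_, _, _, _, hsum a⟩
  have hc0 : c0 ≠ 0 := by
    intro h
    have := l1 1 (-c1) (-c2) (-c3) (by rw [hc, h]; module)
    exact one_ne_zero this.1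
  have hc1 : c1 ≠ 0 := by
    intro h
    have := l2 1 (-c0) (-c2) (-c3) (by rw [hc, h]; module)
    exact one_ne_zero this.1
  have hc2 : c2 ≠ 0 := by
    intro h
    have := l3 1 (-c0) (-c1) (-c3) (by rw [hc, h]; module)
    exact one_ne_zero this.1
  have hc3 : c3 ≠ 0 := by
    intro h
    have := l4 1 (-c0) (-c1) (-c2) (by rw [hc, h]; module)
    exact one_ne_zero this.1
  have hscal : ∀ (c t : k) (p : Fin 4 → k), c ≠ 0 → (c⁻¹ * t) • (c • p) = t • p := by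
    intro c t p hc
    rw [smul_smul]
    congr 1
    field_simp
  obtain ⟨q0, hq0⟩ : ∃ q0, q0 = c0 • p1 := ⟨_, rfl⟩
  obtain ⟨q1, hq1⟩ : ∃ q1, q1 = c1 • p2 := ⟨_, rfl⟩
  obtain ⟨q2, hq2⟩ : ∃ q2, q2 = c2 • p3 := ⟨_, rfl⟩
  obtain ⟨q3, hq3⟩ : ∃ q3, q3 = c3 • p4 := ⟨_, rfl⟩
  obtain ⟨ξ0, hξ0⟩ : ∃ ξ0 : (Fin 4 → k) →ₗ[k] k, ξ0 = c0⁻¹ • bs.coord 0 := ⟨_, rfl⟩
  obtain ⟨ξ1, hξ1⟩ : ∃ ξ1 : (Fin 4 → k) →ₗ[k] k, ξ1 = c1⁻¹ • bs.coord 1 := ⟨_, rfl⟩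
  obtain ⟨ξ2, hξ2⟩ : ∃ ξ2 : (Fin 4 → k) →ₗ[k] k, ξ2 = c2⁻¹ • bs.coord 2 := ⟨_, rfl⟩
  obtain ⟨ξ3, hξ3⟩ : ∃ ξ3 : (Fin 4 → k) →ₗ[k] k, ξ3 = c3⁻¹ • bs.coord 3 := ⟨_, rfl⟩
  have hy : ∀ y, y = ξ0 y • q0 + ξ1 y • q1 + ξ2 y • q2 + ξ3 y • q3 := by
    intro y
    rw [hξ0, hξ1, hξ2, hξ3, hq0, hq1, hq2, hq3]
    simp only [LinearMap.smul_apply, smul_eq_mul]
    rw [hscal _ _ _ hc0, hscal _ _ _ hc1, hscal _ _ _ hc2, hscal _ _ _ hc3]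
    exact hsum y
  have ha' : a = (1 : k) • q0 + (1 : k) • q1 + (1 : k) • q2 + (1 : k) • q3 := by
    rw [hq0, hq1, hq2, hq3, one_smul, one_smul, one_smul, one_smul]
    exact hc
  have hFq0 : eval q0 F = 0 := by rw [hq0, eval_smul_of_isHomogeneous hF, h1, mul_zero]
  have hFq1 : eval q1 F = 0 := by rw [hq1, eval_smul_of_isHomogeneous hF, h2, mul_zero]
  have hFq2 : eval q2 F = 0 := by rw [hq2, eval_smul_of_isHomogeneous hF, h3, mul_zero]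
  have hFq3 : eval q3 F = 0 := by rw [hq3, eval_smul_of_isHomogeneous hF, h4, mul_zero]
  obtain ⟨A01, hA01⟩ : ∃ A, A = pol F q0 q1 := ⟨_, rfl⟩
  obtain ⟨A02, hA02⟩ : ∃ A, A = pol F q0 q2 := ⟨_, rfl⟩
  obtain ⟨A03, hA03⟩ : ∃ A, A = pol F q0 q3 := ⟨_, rfl⟩
  obtain ⟨A10, hA10⟩ : ∃ A, A = pol F q1 q0 := ⟨_, rfl⟩
  obtain ⟨A12, hA12⟩ : ∃ A, A = pol F q1 q2 := ⟨_, rfl⟩
  obtain ⟨A13, hA13⟩ : ∃ A, A = pol F q1 q3 := ⟨_, rfl⟩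
  obtain ⟨A20, hA20⟩ : ∃ A, A = pol F q2 q0 := ⟨_, rfl⟩
  obtain ⟨A21, hA21⟩ : ∃ A, A = pol F q2 q1 := ⟨_, rfl⟩
  obtain ⟨A23, hA23⟩ : ∃ A, A = pol F q2 q3 := ⟨_, rfl⟩
  obtain ⟨A30, hA30⟩ : ∃ A, A = pol F q3 q0 := ⟨_, rfl⟩
  obtain ⟨A31, hA31⟩ : ∃ A, A = pol F q3 q1 := ⟨_, rfl⟩
  obtain ⟨A32, hA32⟩ : ∃ A, A = pol F q3 q2 := ⟨_, rfl⟩
  obtain ⟨B012, hB012⟩ : ∃ A, A = pol (polar F q2) q0 q1 := ⟨_, rfl⟩
  obtain ⟨B013, hB013⟩ : ∃ A, A = pol (polar F q3) q0 q1 := ⟨_, rfl⟩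
  obtain ⟨B023, hB023⟩ : ∃ A, A = pol (polar F q0) q2 q3 := ⟨_, rfl⟩
  obtain ⟨B123, hB123⟩ : ∃ A, A = pol (polar F q1) q2 q3 := ⟨_, rfl⟩
  have hexp : ∀ x0 x1 x2 x3 : k, eval (x0 • q0 + x1 • q1 + x2 • q2 + x3 • q3) F =
      (x0 ^ 2 * x1 * A01 + x0 ^ 2 * x2 * A02 + x0 ^ 2 * x3 * A03
      + x1 ^ 2 * x0 * A10 + x1 ^ 2 * x2 * A12 + x1 ^ 2 * x3 * A13
      + x2 ^ 2 * x0 * A20 + x2 ^ 2 * x1 * A21 + x2 ^ 2 * x3 * A23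
      + x3 ^ 2 * x0 * A30 + x3 ^ 2 * x1 * A31 + x3 ^ 2 * x2 * A32
      + x0 * x1 * x2 * B012 + x0 * x1 * x3 * B013 + x0 * x2 * x3 * B023 + x1 * x2 * x3 * B123) := by
    intro x0 x1 x2 x3
    rw [expand4 F hF, hFq0, hFq1, hFq2, hFq3, hA01, hA02, hA03, hA10, hA12, hA13, hA20, hA21, hA23,
      hA30, hA31, hA32, hB012, hB013, hB023, hB123]
    ring
  have hS : A01 + A02 + A03 + A10 + A12 + A13 + A20 + A21 + A23 + A30 + A31 + A32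
      + B012 + B013 + B023 + B123 = 0 := by
    have h := hexp 1 1 1 1
    rw [← ha', hFa] at h
    linear_combination -h
  -- the linear forms
  obtain ⟨n1, hn1⟩ : ∃ n1 : (Fin 4 → k) →ₗ[k] k, n1 = ξ0 - ξ1 := ⟨_, rfl⟩
  obtain ⟨n2, hn2⟩ : ∃ n2 : (Fin 4 → k) →ₗ[k] k, n2 = ξ1 - ξ2 := ⟨_, rfl⟩
  obtain ⟨n3, hn3⟩ : ∃ n3 : (Fin 4 → k) →ₗ[k] k, n3 = ξ2 - ξ3 := ⟨_, rfl⟩
  obtain ⟨m0, hm0⟩ : ∃ m0 : (Fin 4 → k) →ₗ[k] k, m0 = (- A10 - B012 - A12) • ξ0 + (- A12) • ξ1 +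
      (- A21) • ξ2 + (- A01 - A02 - A03 - A10 - B012 - B013 - A20 - B023 - A30 - A12 - A13 - A21
        - B123 - A23) • ξ3 := ⟨_, rfl⟩
  obtain ⟨m1, hm1⟩ : ∃ m1 : (Fin 4 → k) →ₗ[k] k, m1 = (- A20 - B023 - A30) • ξ0 +
      (A01 + A02 + A03 + A10 + B012 + B013 + A20 + B023 + A30 + A12 + A13) • ξ1 + (- A23) • ξ2 +
      (A01 + A02 + A03 + A10 + B012 + B013 + A20 + B023 + A30 + A12 + A13 + A21 + B123 + A31
        + A23) • ξ3 := ⟨_, rfl⟩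
  obtain ⟨m2, hm2⟩ : ∃ m2 : (Fin 4 → k) →ₗ[k] k, m2 = (A01 + A02 + A10 + B012 + A12) • ξ0 +
      (A20 + A21) • ξ2 + (A01 + A02 + A03 + A10 + B012 + B013 + A20 + B023 + A12 + A13 + A21
        + B123 + A23) • ξ3 := ⟨_, rfl⟩
  obtain ⟨m3, hm3⟩ : ∃ m3 : (Fin 4 → k) →ₗ[k] k, m3 = (A01 + A02 + A03) • ξ0 +
      (A01 + A02 + A03 + A10 + B012 + B013 + A20 + B023 + A30) • ξ1 := ⟨_, rfl⟩
  obtain ⟨m4, hm4⟩ : ∃ m4 : (Fin 4 → k) →ₗ[k] k, m4 = A01 • ξ0 + A10 • ξ1 := ⟨_, rfl⟩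
  refine ⟨pentagon (linForm ξ0) (linForm n1) (linForm n2) (linForm n3) (linForm ξ3)
    (linForm m0) (linForm m1) (linForm m2) (linForm m3) (linForm m4),
    pentagon_isHomogeneous _ _ _ _ _ _ _ _ _ _ (linForm_isHomogeneous _) (linForm_isHomogeneous _)
      (linForm_isHomogeneous _) (linForm_isHomogeneous _) (linForm_isHomogeneous _)
      (linForm_isHomogeneous _) (linForm_isHomogeneous _) (linForm_isHomogeneous _)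
      (linForm_isHomogeneous _) (linForm_isHomogeneous _),
    pentagon_transpose _ _ _ _ _ _ _ _ _ _, pentagon_diag _ _ _ _ _ _ _ _ _ _, ?_⟩
  rw [pentagon, det_pentagon]
  congr 1
  apply MvPolynomial.funext
  intro y
  simp only [map_add, map_mul, eval_linForm]
  conv_rhs => rw [hy y]
  rw [hexp, hn1, hn2, hn3, hm0, hm1, hm2, hm3, hm4]
  simp only [LinearMap.add_apply, LinearMap.sub_apply, LinearMap.smul_apply, smul_eq_mul]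
  have h := syz_solution A01 A02 A03 A10 A12 A13 A20 A21 A23 A30 A31 A32 B012 B013 B023 B123
    (ξ0 y) (ξ1 y) (ξ2 y) (ξ3 y)
  rw [hS, zero_mul, sub_zero] at h
  rw [← h]

theorem s16349 (k : Type*) [Field k] [CharZero k]
    (F : MvPolynomial (Fin 4) k) (hF : F.IsHomogeneous 3)
    (hirr : Irreducible (MvPolynomial.map (algebraMap k (AlgebraicClosure k)) F))
    (hcone : ¬ ∃ v : Fin 4 → k, v ≠ 0 ∧ ∑ i : Fin 4, v i • MvPolynomial.pderiv i F = 0)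
    (a : Fin 4 → k) (ha : a ≠ 0) (hFa : MvPolynomial.eval a F = 0)
    (ℓ : MvPolynomial (Fin 4) (AlgebraicClosure k))
    (hℓ : ℓ = ∑ i : Fin 4, MvPolynomial.C (algebraMap k (AlgebraicClosure k)
      (MvPolynomial.eval a (MvPolynomial.pderiv i F))) * MvPolynomial.X i)
    (hT : ¬ ∃ L₁ L₂ L₃ : MvPolynomial (Fin 4) (AlgebraicClosure k), L₁.IsHomogeneous 1 ∧
      L₂.IsHomogeneous 1 ∧ L₃.IsHomogeneous 1 ∧
      MvPolynomial.map (algebraMap k (AlgebraicClosure k)) F - L₁ * L₂ * L₃ ∈ Ideal.span {ℓ}) :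
    ∃ M : Matrix (Fin 6) (Fin 6) (MvPolynomial (Fin 4) k), (∀ i j, (M i j).IsHomogeneous 1) ∧
      M.transpose = -M ∧ (∀ i, M i i = 0) ∧
      ∃ c : k, c ≠ 0 ∧ M.det = MvPolynomial.C c * F ^ 2 := by
  obtain ⟨p1, p2, p3, p4, h1, h2, h3, h4, l0, l1, l2, l3, l4⟩ :=
    exists_four_points F hF hirr hcone a ha hFa ℓ hℓ hT
  obtain ⟨M, hM1, hM2, hM3, hM4⟩ :=
    pfaffian_of_five F hF a p1 p2 p3 p4 hFa h1 h2 h3 h4 l0 l1 l2 l3 l4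
  exact ⟨M, hM1, hM2, hM3, 1, one_ne_zero, by rw [hM4, C_1, one_mul]⟩

end Groth.Agent.Lib.Helper24Pf5
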