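import Mathlib

set_option autoImplicit false
universe v v' u u'
open CategoryTheory MonoidalCategory

namespace Groth.Agent.Lib.Helper24Picard

variable {C : Type u} [Category.{v} C] [MonoidalCategory C] [IsGroupoid C]
    {D : Type u'} [Category.{v'} D] [MonoidalCategory D] [IsGroupoid D]

/-- key conjugation formula -/
theorem map_conj (F : C ⥤ D) [F.LaxMonoidal] (X : C) (φ : 𝟙_ C ⟶ 𝟙_ C) :
    (Functor.LaxMonoidal.μ F X (𝟙_ C) ≫ F.map (ρ_ X).hom) ≫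
        F.map ((ρ_ X).inv ≫ X ◁ φ ≫ (ρ_ X).hom)
      = (F.obj X ◁ F.map φ) ≫ (Functor.LaxMonoidal.μ F X (𝟙_ C) ≫ F.map (ρ_ X).hom) := by
  rw [Category.assoc, ← F.map_comp, Iso.hom_inv_id_assoc, F.map_comp, ← Category.assoc,
    ← Category.assoc, Functor.LaxMonoidal.μ_natural_right]

/-- every endomorphism of `X` is conjugate to `X ◁ φ`. -/
theorem exists_param (hC : ∀ X : C, (tensorLeft X).IsEquivalence) (X : C) (ψ : X ⟶ X) :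
    ∃ φ : 𝟙_ C ⟶ 𝟙_ C, ψ = (ρ_ X).inv ≫ X ◁ φ ≫ (ρ_ X).hom := by
  haveI := (hC X).full
  obtain ⟨φ, hφ⟩ := (tensorLeft X).map_surjective ((ρ_ X).hom ≫ ψ ≫ (ρ_ X).inv)
  refine ⟨φ, ?_⟩
  have h2 : X ◁ φ = (ρ_ X).hom ≫ ψ ≫ (ρ_ X).inv := hφ
  rw [h2]
  simp

theorem end_inj (hC : ∀ X : C, (tensorLeft X).IsEquivalence)
    (hD : ∀ X : D, (tensorLeft X).IsEquivalence) (F : C ⥤ D) [F.LaxMonoidal]
    (h1 : Function.Injective (fun φ : 𝟙_ C ⟶ 𝟙_ C => F.map φ))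
    (X : C) (ψ₁ ψ₂ : X ⟶ X) (h : F.map ψ₁ = F.map ψ₂) : ψ₁ = ψ₂ := by
  obtain ⟨φ₁, rfl⟩ := exists_param hC X ψ₁
  obtain ⟨φ₂, rfl⟩ := exists_param hC X ψ₂
  have e₁ := map_conj F X φ₁
  have e₂ := map_conj F X φ₂
  rw [h] at e₁
  have e₃ := e₁.symm.trans e₂
  rw [cancel_mono] at e₃
  haveI := (hD (F.obj X)).faithful
  have e₄ : F.map φ₁ = F.map φ₂ := (tensorLeft (F.obj X)).map_injective e₃
  rw [h1 e₄]

theorem end_surj
    (hD : ∀ X : D, (tensorLeft X).IsEquivalence) (F : C ⥤ D) [F.LaxMonoidal]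
    (h1 : Function.Surjective (fun φ : 𝟙_ C ⟶ 𝟙_ C => F.map φ))
    (X : C) (ξ : F.obj X ⟶ F.obj X) : ∃ ψ : X ⟶ X, F.map ψ = ξ := by
  haveI := (hD (F.obj X)).full
  obtain ⟨θ, hθ⟩ : ∃ θ : F.obj X ⊗ F.obj (𝟙_ C) ⟶ F.obj X,
      θ = Functor.LaxMonoidal.μ F X (𝟙_ C) ≫ F.map (ρ_ X).hom := ⟨_, rfl⟩
  obtain ⟨χ, hχ⟩ := (tensorLeft (F.obj X)).map_surjective (θ ≫ ξ ≫ inv θ)
  obtain ⟨φ, hφ⟩ := h1 χ
  refine ⟨(ρ_ X).inv ≫ X ◁ φ ≫ (ρ_ X).hom, ?_⟩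
  have e := map_conj F X φ
  have hφ' : F.map φ = χ := hφ
  have hχ' : F.obj X ◁ χ = θ ≫ ξ ≫ inv θ := hχ
  rw [← hθ] at e
  rw [hφ', hχ'] at e
  have h3 : (θ ≫ ξ ≫ inv θ) ≫ θ = θ ≫ ξ := by simp
  rw [h3] at e
  exact (cancel_epi θ).mp e

theorem main
    (hC : ∀ X : C, (tensorLeft X).IsEquivalence ∧ (tensorRight X).IsEquivalence)
    (hD : ∀ X : D, (tensorLeft X).IsEquivalence ∧ (tensorRight X).IsEquivalence)
    (F : C ⥤ D) [F.LaxMonoidal] [F.EssSurj]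
    (h0 : ∀ X Y : C, Nonempty (F.obj X ≅ F.obj Y) → Nonempty (X ≅ Y))
    (h1 : Function.Bijective (fun φ : 𝟙_ C ⟶ 𝟙_ C => F.map φ)) :
    F.IsEquivalence := by
  have hfaith : F.Faithful := by
    constructor
    intro X Y f g hfg
    have h2 : F.map (f ≫ inv g) = F.map (𝟙 X) := by
      rw [F.map_comp, hfg, ← F.map_comp, IsIso.hom_inv_id]
    have h3 := end_inj (fun X => (hC X).1) (fun X => (hD X).1) F h1.1 X _ _ h2
    have h4 : f = (f ≫ inv g) ≫ g := by simp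
    rw [h4, h3, Category.id_comp]
  have hfull : F.Full := by
    constructor
    intro X Y χ
    obtain ⟨g0⟩ := h0 X Y ⟨asIso χ⟩
    obtain ⟨ψ, hψ⟩ := end_surj (fun X => (hD X).1) F h1.2 X (χ ≫ inv (F.map g0.hom))
    refine ⟨ψ ≫ g0.hom, ?_⟩
    rw [F.map_comp, hψ]
    simp
  exact { faithful := hfaith, full := hfull, essSurj := inferInstance }

end Groth.Agent.Lib.Helper24Picard
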