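import Mathlib

set_option autoImplicit false

namespace Groth.Agent.Lib.Helper24Planar

/-- A configuration of "closed-under-cofaces" cell sets inside a finite staircase region of the
quadrant: vertices, horizontal edges, vertical edges and squares are all indexed by their bottom-left
corner. -/
structure Conf where
  N : ℕ
  Lam : ℕ × ℕ → Prop
  Zv : ℕ × ℕ → Prop
  Zx : ℕ × ℕ → Prop
  Zy : ℕ × ℕ → Prop
  Zq : ℕ × ℕ → Prop
  lam_box : ∀ p, Lam p → p.1 < N ∧ p.2 < N
  lam_x : ∀ a b, Lam (a+1, b) → Lam (a, b)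
  lam_y : ∀ a b, Lam (a, b+1) → Lam (a, b)
  zq_lam : ∀ p, Zq p → Lam p
  zv_zx : ∀ p, Zv p → Zx p
  zv_zy : ∀ p, Zv p → Zy p
  zv_zx' : ∀ a b, Zv (a+1, b) → Zx (a, b)
  zv_zy' : ∀ a b, Zv (a, b+1) → Zy (a, b)
  zx_zq : ∀ p, Zx p → Zq p
  zy_zq : ∀ p, Zy p → Zq p
  zx_zq' : ∀ a b, Zx (a, b+1) → Zq (a, b)
  zy_zq' : ∀ a b, Zy (a+1, b) → Zq (a, b)

namespace Conf

variable (C : Conf)

lemma zx_lam {p : ℕ × ℕ} (h : C.Zx p) : C.Lam p := C.zq_lam p (C.zx_zq p h)
lemma zy_lam {p : ℕ × ℕ} (h : C.Zy p) : C.Lam p := C.zq_lam p (C.zy_zq p h)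
lemma zv_lam {p : ℕ × ℕ} (h : C.Zv p) : C.Lam p := C.zx_lam (C.zv_zx p h)

lemma not_lam_add_x {a b : ℕ} (t : ℕ) (h : ¬ C.Lam (a, b)) : ¬ C.Lam (a + t, b) := by
  induction t with
  | zero => simpa using h
  | succ t ih =>
    intro h1
    exact ih (C.lam_x (a+t) b (by rwa [add_assoc] ))

/-- the box containing everything -/
def box : Finset (ℕ × ℕ) := Finset.range C.N ×ˢ Finset.range C.N

lemma mem_box_of_lam {p : ℕ × ℕ} (h : C.Lam p) : p ∈ C.box := by
  obtain ⟨h1, h2⟩ := C.lam_box p h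
  simp [box, h1, h2]

open Classical in
noncomputable def sv : Finset (ℕ × ℕ) := C.box.filter C.Zv
open Classical in
noncomputable def sx : Finset (ℕ × ℕ) := C.box.filter C.Zx
open Classical in
noncomputable def sy : Finset (ℕ × ℕ) := C.box.filter C.Zy
open Classical in
noncomputable def sq : Finset (ℕ × ℕ) := C.box.filter C.Zq

lemma mem_sv {p : ℕ × ℕ} : p ∈ C.sv ↔ C.Zv p := by
  classical
  simp only [sv, Finset.mem_filter]
  exact ⟨fun h => h.2, fun h => ⟨C.mem_box_of_lam (C.zv_lam h), h⟩⟩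
lemma mem_sx {p : ℕ × ℕ} : p ∈ C.sx ↔ C.Zx p := by
  classical
  simp only [sx, Finset.mem_filter]
  exact ⟨fun h => h.2, fun h => ⟨C.mem_box_of_lam (C.zx_lam h), h⟩⟩
lemma mem_sy {p : ℕ × ℕ} : p ∈ C.sy ↔ C.Zy p := by
  classical
  simp only [sy, Finset.mem_filter]
  exact ⟨fun h => h.2, fun h => ⟨C.mem_box_of_lam (C.zy_lam h), h⟩⟩
lemma mem_sq {p : ℕ × ℕ} : p ∈ C.sq ↔ C.Zq p := by
  classical
  simp only [sq, Finset.mem_filter]
  exact ⟨fun h => h.2, fun h => ⟨C.mem_box_of_lam (C.zq_lam p h), h⟩⟩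

variable (k : Type*) [Field k]

/-- locally constant functions on the complementary (closed) cell set, vanishing outside `Lam` -/
def K : Submodule k (ℕ × ℕ → k) where
  carrier := {c | (∀ p, ¬ (C.Lam p ∧ ¬ C.Zv p) → c p = 0) ∧
    (∀ a b, C.Lam (a, b) → ¬ C.Zx (a, b) → c (a+1, b) = c (a, b)) ∧
    (∀ a b, C.Lam (a, b) → ¬ C.Zy (a, b) → c (a, b+1) = c (a, b))}
  zero_mem' := by
    refine ⟨fun _ _ => rfl, fun _ _ _ _ => rfl, fun _ _ _ _ => rfl⟩
  add_mem' := by
    rintro c c' ⟨h1, h2, h3⟩ ⟨h1', h2', h3'⟩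
    refine ⟨fun p hp => ?_, fun a b h h' => ?_, fun a b h h' => ?_⟩
    · simp [h1 p hp, h1' p hp]
    · simp [h2 a b h h', h2' a b h h']
    · simp [h3 a b h h', h3' a b h h']
  smul_mem' := by
    rintro r c ⟨h1, h2, h3⟩
    refine ⟨fun p hp => ?_, fun a b h h' => ?_, fun a b h h' => ?_⟩
    · simp [h1 p hp]
    · simp [h2 a b h h']
    · simp [h3 a b h h']

/-- locally constant functions on the dual of the open cell set, vanishing on the boundary -/
def K' : Submodule k (ℕ × ℕ → k) where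
  carrier := {u | (∀ p, ¬ C.Zq p → u p = 0) ∧
    (∀ a, C.Zx (a, 0) → u (a, 0) = 0) ∧ (∀ a b, C.Zx (a, b+1) → u (a, b+1) = u (a, b)) ∧
    (∀ b, C.Zy (0, b) → u (0, b) = 0) ∧ (∀ a b, C.Zy (a+1, b) → u (a+1, b) = u (a, b))}
  zero_mem' := by
    refine ⟨fun _ _ => rfl, fun _ _ => rfl, fun _ _ _ => rfl, fun _ _ => rfl, fun _ _ _ => rfl⟩
  add_mem' := by
    rintro c c' ⟨h1, h2, h3, h4, h5⟩ ⟨h1', h2', h3', h4', h5'⟩
    refine ⟨fun p hp => ?_, fun a h => ?_, fun a b h => ?_, fun b h => ?_, fun a b h => ?_⟩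
    · simp [h1 p hp, h1' p hp]
    · simp [h2 a h, h2' a h]
    · simp [h3 a b h, h3' a b h]
    · simp [h4 b h, h4' b h]
    · simp [h5 a b h, h5' a b h]
  smul_mem' := by
    rintro r c ⟨h1, h2, h3, h4, h5⟩
    refine ⟨fun p hp => ?_, fun a h => ?_, fun a b h => ?_, fun b h => ?_, fun a b h => ?_⟩
    · simp [h1 p hp]
    · simp [h2 a h]
    · simp [h3 a b h]
    · simp [h4 b h]
    · simp [h5 a b h]

/-- edge cocycles supported on the open cell set -/
def G : Submodule k ((ℕ × ℕ → k) × (ℕ × ℕ → k)) where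
  carrier := {g | (∀ p, ¬ C.Zx p → g.1 p = 0) ∧ (∀ p, ¬ C.Zy p → g.2 p = 0) ∧
    ∀ a b, C.Zq (a, b) → g.1 (a, b+1) - g.1 (a, b) - g.2 (a+1, b) + g.2 (a, b) = 0}
  zero_mem' := by
    refine ⟨fun _ _ => rfl, fun _ _ => rfl, fun _ _ _ => by simp⟩
  add_mem' := by
    rintro g g' ⟨h1, h2, h3⟩ ⟨h1', h2', h3'⟩
    refine ⟨fun p hp => ?_, fun p hp => ?_, fun a b h => ?_⟩
    · simp [h1 p hp, h1' p hp]
    · simp [h2 p hp, h2' p hp]
    · have e1 := h3 a b h
      have e2 := h3' a b h
      simp only [Prod.fst_add, Prod.snd_add, Pi.add_apply]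
      linear_combination e1 + e2
  smul_mem' := by
    rintro r g ⟨h1, h2, h3⟩
    refine ⟨fun p hp => ?_, fun p hp => ?_, fun a b h => ?_⟩
    · simp [h1 p hp]
    · simp [h2 p hp]
    · have e1 := h3 a b h
      simp only [Prod.smul_fst, Prod.smul_snd, Pi.smul_apply, smul_eq_mul]
      linear_combination r * e1


section A1

variable {k : Type*} [Field k]

lemma extend_of_mem {ι : Type*} (s : Finset ι) (z : ↥s → k) {p : ι} (h : p ∈ s) :
    Function.extend Subtype.val z 0 p = z ⟨p, h⟩ :=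
  Subtype.val_injective.extend_apply z 0 ⟨p, h⟩

lemma extend_of_not_mem {ι : Type*} (s : Finset ι) (z : ↥s → k) {p : ι} (h : p ∉ s) :
    Function.extend Subtype.val z 0 p = 0 := by
  rw [Function.extend_apply']
  · rfl
  · rintro ⟨a, rfl⟩
    exact h a.2

/-- the coboundary of a vertex function -/
def d0 : (ℕ × ℕ → k) →ₗ[k] (ℕ × ℕ → k) × (ℕ × ℕ → k) where
  toFun f := (fun p => f (p.1+1, p.2) - f p, fun p => f (p.1, p.2+1) - f p)
  map_add' f g := by
    ext p
    · simp only [Pi.add_apply, Prod.fst_add]; ring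
    · simp only [Pi.add_apply, Prod.snd_add]; ring
  map_smul' r f := by
    ext p
    · simp only [Pi.smul_apply, smul_eq_mul, RingHom.id_apply, Prod.smul_fst]; ring
    · simp only [Pi.smul_apply, smul_eq_mul, RingHom.id_apply, Prod.smul_snd]; ring

/-- a function with both partial differences zero and support in a box vanishes -/
lemma eq_zero_of_d0 (N : ℕ) (f : ℕ × ℕ → k) (hs : ∀ p : ℕ × ℕ, N ≤ p.1 → f p = 0)
    (hd : ∀ a b, f (a+1, b) = f (a, b)) : f = 0 := by
  funext p
  obtain ⟨a, b⟩ := p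
  have h : ∀ t, f (a + t, b) = f (a, b) := by
    intro t
    induction t with
    | zero => rfl
    | succ t ih => rw [← add_assoc, hd, ih]
  rw [← h N]
  exact hs _ (by simp)

variable (C : Conf)

/-- `(c, z) ↦ c + z` (vertex functions split into their closed and open part) -/
noncomputable def theta0 : ↥(C.K k) × (↥C.sv → k) →ₗ[k] (ℕ × ℕ → k) :=
  (C.K k).subtype.comp (LinearMap.fst k _ _) +
    (Function.ExtendByZero.linearMap k (Subtype.val : ↥C.sv → ℕ × ℕ)).comp (LinearMap.snd k _ _)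

lemma theta0_apply (x : ↥(C.K k) × (↥C.sv → k)) (p : ℕ × ℕ) :
    theta0 C x p = x.1.1 p + Function.extend Subtype.val x.2 0 p := rfl

lemma theta0_of_zv (x : ↥(C.K k) × (↥C.sv → k)) {p : ℕ × ℕ} (h : C.Zv p) :
    theta0 C x p = x.2 ⟨p, C.mem_sv.mpr h⟩ := by
  rw [theta0_apply, extend_of_mem _ _ (C.mem_sv.mpr h), x.1.2.1 p (fun h' => h'.2 h), zero_add]

lemma theta0_of_not_zv (x : ↥(C.K k) × (↥C.sv → k)) {p : ℕ × ℕ} (h : ¬ C.Zv p) :
    theta0 C x p = x.1.1 p := by
  rw [theta0_apply, extend_of_not_mem _ _ (fun h' => h (C.mem_sv.mp h')), add_zero]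

lemma theta0_of_not_lam (x : ↥(C.K k) × (↥C.sv → k)) {p : ℕ × ℕ} (h : ¬ C.Lam p) :
    theta0 C x p = 0 := by
  rw [theta0_of_not_zv C x (fun h' => h (C.zv_lam h')), x.1.2.1 p (fun h' => h h'.1)]

lemma d0_theta0_mem (x : ↥(C.K k) × (↥C.sv → k)) : d0 (theta0 C x) ∈ C.G k := by
  refine ⟨?_, ?_, ?_⟩
  · rintro ⟨a, b⟩ hp
    show theta0 C x (a+1, b) - theta0 C x (a, b) = 0
    by_cases hl : C.Lam (a, b)
    · rw [theta0_of_not_zv C x (fun h => hp (C.zv_zx' a b h)),
        theta0_of_not_zv C x (fun h => hp (C.zv_zx _ h)), x.1.2.2.1 a b hl hp, sub_self]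
    · rw [theta0_of_not_lam C x hl, theta0_of_not_lam C x (fun h => hl (C.lam_x a b h)), sub_self]
  · rintro ⟨a, b⟩ hp
    show theta0 C x (a, b+1) - theta0 C x (a, b) = 0
    by_cases hl : C.Lam (a, b)
    · rw [theta0_of_not_zv C x (fun h => hp (C.zv_zy' a b h)),
        theta0_of_not_zv C x (fun h => hp (C.zv_zy _ h)), x.1.2.2.2 a b hl hp, sub_self]
    · rw [theta0_of_not_lam C x hl, theta0_of_not_lam C x (fun h => hl (C.lam_y a b h)), sub_self]
  · intro a b _
    show (theta0 C x (a+1, b+1) - theta0 C x (a, b+1)) - (theta0 C x (a+1, b) - theta0 C x (a, b))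
      - (theta0 C x (a+1, b+1) - theta0 C x (a+1, b)) + (theta0 C x (a, b+1) - theta0 C x (a, b)) = 0
    ring

/-- the comparison map `K × k^{Zv} → G` -/
noncomputable def theta : ↥(C.K k) × (↥C.sv → k) →ₗ[k] ↥(C.G k) :=
  (d0.comp (theta0 C)).codRestrict (C.G k) (fun x => d0_theta0_mem C x)

lemma theta_injective : Function.Injective (theta (k := k) C) := by
  rw [injective_iff_map_eq_zero]
  intro x hx
  have h0 : d0 (theta0 C x) = 0 := congrArg Subtype.val hx
  have hf : theta0 C x = 0 := by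
    apply eq_zero_of_d0 C.N
    · intro p hp
      apply theta0_of_not_lam
      intro hl
      have := (C.lam_box p hl).1
      omega
    · intro a b
      have := congrFun (congrArg Prod.fst h0) (a, b)
      exact sub_eq_zero.mp this
  apply Prod.ext
  · apply Subtype.ext
    funext p
    by_cases hz : C.Zv p
    · exact x.1.2.1 p (fun h' => h'.2 hz)
    · rw [← theta0_of_not_zv C x hz, hf]; rfl
  · funext e
    have hz : C.Zv e.1 := C.mem_sv.mp e.2
    have := theta0_of_zv C x hz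
    rw [hf] at this
    exact this.symm

lemma theta_surjective : Function.Surjective (theta (k := k) C) := by
  classical
  rintro ⟨g, hg1, hg2, hg3⟩
  -- the cocycle relation holds everywhere
  have hcoc : ∀ a b, g.1 (a, b+1) - g.1 (a, b) - g.2 (a+1, b) + g.2 (a, b) = 0 := by
    intro a b
    by_cases hq : C.Zq (a, b)
    · exact hg3 a b hq
    · rw [hg1 (a, b+1) (fun h => hq (C.zx_zq' a b h)), hg1 (a, b) (fun h => hq (C.zx_zq _ h)),
        hg2 (a+1, b) (fun h => hq (C.zy_zq' a b h)), hg2 (a, b) (fun h => hq (C.zy_zq _ h))]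
      ring
  have hbox1 : ∀ a b, C.N ≤ a → g.1 (a, b) = 0 := by
    intro a b h
    apply hg1
    intro hz
    have := (C.lam_box _ (C.zx_lam hz)).1
    simp only at this
    omega
  have hbox2 : ∀ a b, C.N ≤ a → g.2 (a, b) = 0 := by
    intro a b h
    apply hg2
    intro hz
    have := (C.lam_box _ (C.zy_lam hz)).1
    simp only at this
    omega
  -- the primitive
  let f : ℕ × ℕ → k := fun p => - ∑ t ∈ Finset.range C.N, g.1 (p.1 + t, p.2)
  have hfx : ∀ a b, f (a+1, b) - f (a, b) = g.1 (a, b) := by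
    intro a b
    show - ∑ t ∈ Finset.range C.N, g.1 (a + 1 + t, b) - - ∑ t ∈ Finset.range C.N, g.1 (a + t, b) = _
    have h1 : ∑ t ∈ Finset.range C.N, g.1 (a + 1 + t, b) =
        ∑ t ∈ Finset.range C.N, g.1 (a + (t + 1), b) := by
      apply Finset.sum_congr rfl
      intro t _
      have e : a + 1 + t = a + (t + 1) := by omega
      rw [e]
    have h2 := Finset.sum_range_succ (fun t => g.1 (a + t, b)) C.N
    have h3 := Finset.sum_range_succ' (fun t => g.1 (a + t, b)) C.N
    rw [h1]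
    have h4 : g.1 (a + C.N, b) = 0 := hbox1 _ _ (by omega)
    simp only [add_zero] at h3
    rw [h4] at h2
    linear_combination h3 - h2
  have hfy : ∀ a b, f (a, b+1) - f (a, b) = g.2 (a, b) := by
    intro a b
    show - ∑ t ∈ Finset.range C.N, g.1 (a + t, b + 1) - - ∑ t ∈ Finset.range C.N, g.1 (a + t, b) = _
    have h1 : ∑ t ∈ Finset.range C.N, g.1 (a + t, b + 1) - ∑ t ∈ Finset.range C.N, g.1 (a + t, b)
        = ∑ t ∈ Finset.range C.N, (g.2 (a + (t + 1), b) - g.2 (a + t, b)) := by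
      rw [← Finset.sum_sub_distrib]
      apply Finset.sum_congr rfl
      intro t _
      have := hcoc (a + t) b
      rw [add_assoc] at this
      linear_combination this
    have h2 := Finset.sum_range_succ_sub_sum (fun t => g.2 (a + t, b)) (n := C.N)
    have h3 : ∑ t ∈ Finset.range C.N, (g.2 (a + (t + 1), b) - g.2 (a + t, b)) =
        g.2 (a + C.N, b) - g.2 (a + 0, b) := Finset.sum_range_sub (fun t => g.2 (a + t, b)) C.N
    rw [hbox2 _ _ (by omega), add_zero] at h3
    linear_combination -h1 - h3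
  have hfl : ∀ p, ¬ C.Lam p → f p = 0 := by
    rintro ⟨a, b⟩ hl
    show - ∑ t ∈ Finset.range C.N, g.1 (a + t, b) = 0
    rw [neg_eq_zero]
    apply Finset.sum_eq_zero
    intro t _
    apply hg1
    intro hz
    exact C.not_lam_add_x t hl (C.zx_lam hz)
  -- split f
  have hcK : (fun p => if C.Zv p then 0 else f p) ∈ C.K k := by
    refine ⟨?_, ?_, ?_⟩
    · intro p hp
      by_cases hz : C.Zv p
      · simp [hz]
      · simp only [hz, if_false]
        apply hfl
        intro hl
        exact hp ⟨hl, hz⟩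
    · intro a b hl hx
      have hz1 : ¬ C.Zv (a+1, b) := fun h => hx (C.zv_zx' a b h)
      have hz2 : ¬ C.Zv (a, b) := fun h => hx (C.zv_zx _ h)
      simp only [hz1, hz2, if_false]
      have := hfx a b
      rw [hg1 _ hx] at this
      exact sub_eq_zero.mp this
    · intro a b hl hy
      have hz1 : ¬ C.Zv (a, b+1) := fun h => hy (C.zv_zy' a b h)
      have hz2 : ¬ C.Zv (a, b) := fun h => hy (C.zv_zy _ h)
      simp only [hz1, hz2, if_false]
      have := hfy a b
      rw [hg2 _ hy] at this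
      exact sub_eq_zero.mp this
  refine ⟨(⟨_, hcK⟩, fun e => f e.1), ?_⟩
  apply Subtype.ext
  have hth : theta0 C (⟨_, hcK⟩, fun e : ↥C.sv => f e.1) = f := by
    funext p
    by_cases hz : C.Zv p
    · rw [theta0_of_zv C _ hz]
    · rw [theta0_of_not_zv C _ hz]
      simp [hz]
  show d0 (theta0 C _) = g
  rw [hth]
  apply Prod.ext
  · funext p
    exact hfx p.1 p.2
  · funext p
    exact hfy p.1 p.2

/-- functions with support in a finite set form a finite-dimensional space -/
lemma finite_of_supp {ι : Type*} (W : Submodule k (ι → k)) (s : Finset ι)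
    (h : ∀ f ∈ W, ∀ p, p ∉ s → f p = 0) : Module.Finite k ↥W := by
  have hinj : Function.Injective
      ((LinearMap.funLeft k k (Subtype.val : ↥s → ι)).comp W.subtype) := by
    rw [injective_iff_map_eq_zero]
    intro f hf
    apply Subtype.ext
    funext p
    by_cases hp : p ∈ s
    · exact congrFun hf ⟨p, hp⟩
    · exact h f.1 f.2 p hp
  exact Module.Finite.of_injective _ hinj

instance finite_K : Module.Finite k ↥(C.K k) := by
  apply finite_of_supp _ C.box
  intro f hf p hp
  apply hf.1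
  intro h
  exact hp (C.mem_box_of_lam h.1)

instance finite_K' : Module.Finite k ↥(C.K' k) := by
  apply finite_of_supp _ C.box
  intro f hf p hp
  apply hf.1
  intro h
  exact hp (C.mem_box_of_lam (C.zq_lam _ h))

/-- **A1** -/
theorem finrank_G : Module.finrank k ↥(C.G k) = Module.finrank k ↥(C.K k) + C.sv.card := by
  have e := LinearEquiv.ofBijective (theta (k := k) C) ⟨theta_injective C, theta_surjective C⟩
  rw [← e.finrank_eq, Module.finrank_prod, Module.finrank_fintype_fun_eq_card, Fintype.card_coe]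

end A1


section A2

open Matrix

variable {k : Type*} [Field k]

lemma sum_ind_ext {ι : Type*} [DecidableEq ι] (s : Finset ι) (w : ↥s → k) (p : ι) :
    ∑ e : ↥s, (if e.1 = p then (1:k) else 0) * w e = Function.extend Subtype.val w 0 p := by
  by_cases hp : p ∈ s
  · rw [extend_of_mem s w hp, Finset.sum_eq_single (⟨p, hp⟩ : ↥s)]
    · simp
    · intro e _ he
      rw [if_neg (fun h => he (Subtype.ext h)), zero_mul]
    · intro h; exact absurd (Finset.mem_univ _) h
  · rw [extend_of_not_mem s w hp]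
    apply Finset.sum_eq_zero
    intro e _
    rw [if_neg (fun h : e.1 = p => hp (h ▸ e.2)), zero_mul]

lemma sum_ind_ext' {ι : Type*} [DecidableEq ι] (s : Finset ι) (w : ↥s → k) (p : ι) :
    ∑ e : ↥s, (if p = e.1 then (1:k) else 0) * w e = Function.extend Subtype.val w 0 p := by
  rw [← sum_ind_ext s w p]
  apply Finset.sum_congr rfl
  intro e _
  simp only [eq_comm]

variable (C : Conf)

/-- the coboundary matrix from open edges to open squares -/
noncomputable def D : Matrix (↥C.sq) (↥C.sx ⊕ ↥C.sy) k := fun q e =>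
  match e with
  | Sum.inl e => (if e.1 = (q.1.1, q.1.2+1) then 1 else 0) - (if e.1 = q.1 then 1 else 0)
  | Sum.inr e => (if e.1 = q.1 then 1 else 0) - (if e.1 = (q.1.1+1, q.1.2) then 1 else 0)

/-- extension by zero of an edge function -/
noncomputable def extG : (↥C.sx ⊕ ↥C.sy → k) →ₗ[k] (ℕ × ℕ → k) × (ℕ × ℕ → k) :=
  LinearMap.prod
    ((Function.ExtendByZero.linearMap k (Subtype.val : ↥C.sx → ℕ × ℕ)).comp
      (LinearMap.funLeft k k Sum.inl))
    ((Function.ExtendByZero.linearMap k (Subtype.val : ↥C.sy → ℕ × ℕ)).comp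
      (LinearMap.funLeft k k Sum.inr))

lemma extG_fst (v : ↥C.sx ⊕ ↥C.sy → k) :
    (extG C v).1 = Function.extend Subtype.val (fun e => v (Sum.inl e)) 0 := rfl
lemma extG_snd (v : ↥C.sx ⊕ ↥C.sy → k) :
    (extG C v).2 = Function.extend Subtype.val (fun e => v (Sum.inr e)) 0 := rfl

lemma extG_injective : Function.Injective (extG (k := k) C) := by
  rw [injective_iff_map_eq_zero]
  intro v hv
  funext e
  rcases e with e | e
  · have := congrFun (congrArg Prod.fst hv) e.1
    rw [extG_fst, extend_of_mem _ _ e.2] at this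
    exact this
  · have := congrFun (congrArg Prod.snd hv) e.1
    rw [extG_snd, extend_of_mem _ _ e.2] at this
    exact this

lemma mulVec_D (v : ↥C.sx ⊕ ↥C.sy → k) (q : ↥C.sq) :
    (D C *ᵥ v) q = (extG C v).1 (q.1.1, q.1.2+1) - (extG C v).1 q.1
      - (extG C v).2 (q.1.1+1, q.1.2) + (extG C v).2 q.1 := by
  rw [Matrix.mulVec, dotProduct, Fintype.sum_sum_type]
  simp only [D, sub_mul, Finset.sum_sub_distrib]
  rw [sum_ind_ext, sum_ind_ext, sum_ind_ext, sum_ind_ext, extG_fst, extG_snd]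
  ring

lemma extG_mem_iff (v : ↥C.sx ⊕ ↥C.sy → k) :
    extG C v ∈ C.G k ↔ v ∈ LinearMap.ker (D (k := k) C).mulVecLin := by
  rw [LinearMap.mem_ker, Matrix.mulVecLin_apply]
  constructor
  · rintro ⟨_, _, h3⟩
    funext q
    rw [mulVec_D]
    exact h3 q.1.1 q.1.2 (C.mem_sq.mp q.2)
  · intro h
    refine ⟨?_, ?_, ?_⟩
    · intro p hp
      rw [extG_fst, extend_of_not_mem _ _ (fun h' => hp (C.mem_sx.mp h'))]
    · intro p hp
      rw [extG_snd, extend_of_not_mem _ _ (fun h' => hp (C.mem_sy.mp h'))]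
    · intro a b hq
      have := congrFun h ⟨(a, b), C.mem_sq.mpr hq⟩
      rw [mulVec_D] at this
      exact this

lemma G_eq_map : C.G k = (LinearMap.ker (D (k := k) C).mulVecLin).map (extG C) := by
  apply le_antisymm
  · intro g hg
    refine ⟨Sum.elim (fun e => g.1 e.1) (fun e => g.2 e.1), ?_, ?_⟩
    · have hext : extG C (Sum.elim (fun e : ↥C.sx => g.1 e.1) (fun e : ↥C.sy => g.2 e.1)) = g := by
        apply Prod.ext
        · funext p
          rw [extG_fst]
          by_cases hp : p ∈ C.sx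
          · rw [extend_of_mem _ _ hp]; rfl
          · rw [extend_of_not_mem _ _ hp, hg.1 p (fun h => hp (C.mem_sx.mpr h))]
        · funext p
          rw [extG_snd]
          by_cases hp : p ∈ C.sy
          · rw [extend_of_mem _ _ hp]; rfl
          · rw [extend_of_not_mem _ _ hp, hg.2.1 p (fun h => hp (C.mem_sy.mpr h))]
      rw [SetLike.mem_coe, ← extG_mem_iff, hext]
      exact hg
    · apply Prod.ext
      · funext p
        rw [extG_fst]
        by_cases hp : p ∈ C.sx
        · rw [extend_of_mem _ _ hp]; rfl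
        · rw [extend_of_not_mem _ _ hp, hg.1 p (fun h => hp (C.mem_sx.mpr h))]
      · funext p
        rw [extG_snd]
        by_cases hp : p ∈ C.sy
        · rw [extend_of_mem _ _ hp]; rfl
        · rw [extend_of_not_mem _ _ hp, hg.2.1 p (fun h => hp (C.mem_sy.mpr h))]
  · rintro _ ⟨v, hv, rfl⟩
    exact (extG_mem_iff C v).mpr hv

lemma finrank_G_eq_ker :
    Module.finrank k ↥(C.G k) = Module.finrank k ↥(LinearMap.ker (D (k := k) C).mulVecLin) := by
  rw [G_eq_map]
  exact (Submodule.equivMapOfInjective (extG C) (extG_injective C) _).finrank_eq.symm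

/-- extension by zero of a square function -/
noncomputable def extQ : (↥C.sq → k) →ₗ[k] (ℕ × ℕ → k) :=
  Function.ExtendByZero.linearMap k (Subtype.val : ↥C.sq → ℕ × ℕ)

lemma extQ_apply (w : ↥C.sq → k) : extQ C w = Function.extend Subtype.val w 0 := rfl

lemma extQ_injective : Function.Injective (extQ (k := k) C) := by
  rw [injective_iff_map_eq_zero]
  intro w hw
  funext q
  have := congrFun hw q.1
  rw [extQ_apply, extend_of_mem _ _ q.2] at this
  exact this

lemma sum_shift_y (w : ↥C.sq → k) (a : ℕ) :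
    ∑ q : ↥C.sq, (if (a, 0) = (q.1.1, q.1.2+1) then (1:k) else 0) * w q = 0 := by
  apply Finset.sum_eq_zero
  intro q _
  rw [if_neg, zero_mul]
  intro h
  have := congrArg Prod.snd h
  simp at this

lemma sum_shift_y' (w : ↥C.sq → k) (a b : ℕ) :
    ∑ q : ↥C.sq, (if (a, b+1) = (q.1.1, q.1.2+1) then (1:k) else 0) * w q =
      extQ C w (a, b) := by
  rw [extQ_apply, ← sum_ind_ext' C.sq w (a, b)]
  apply Finset.sum_congr rfl
  intro q _
  congr 1
  have : ((a, b+1) = (q.1.1, q.1.2+1)) ↔ ((a, b) = q.1) := by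
    rw [Prod.ext_iff, Prod.ext_iff]
    simp
  simp only [this]

lemma sum_shift_x (w : ↥C.sq → k) (b : ℕ) :
    ∑ q : ↥C.sq, (if (0, b) = (q.1.1+1, q.1.2) then (1:k) else 0) * w q = 0 := by
  apply Finset.sum_eq_zero
  intro q _
  rw [if_neg, zero_mul]
  intro h
  have := congrArg Prod.fst h
  simp at this

lemma sum_shift_x' (w : ↥C.sq → k) (a b : ℕ) :
    ∑ q : ↥C.sq, (if (a+1, b) = (q.1.1+1, q.1.2) then (1:k) else 0) * w q =
      extQ C w (a, b) := by
  rw [extQ_apply, ← sum_ind_ext' C.sq w (a, b)]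
  apply Finset.sum_congr rfl
  intro q _
  congr 1
  have : ((a+1, b) = (q.1.1+1, q.1.2)) ↔ ((a, b) = q.1) := by
    rw [Prod.ext_iff, Prod.ext_iff]
    simp
  simp only [this]

lemma mulVec_DT_inl (w : ↥C.sq → k) (e : ↥C.sx) :
    ((D C)ᵀ *ᵥ w) (Sum.inl e) =
      ∑ q : ↥C.sq, (if e.1 = (q.1.1, q.1.2+1) then (1:k) else 0) * w q - extQ C w e.1 := by
  rw [Matrix.mulVec, dotProduct]
  simp only [Matrix.transpose_apply, D, sub_mul, Finset.sum_sub_distrib]
  rw [sum_ind_ext', extQ_apply]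

lemma mulVec_DT_inr (w : ↥C.sq → k) (e : ↥C.sy) :
    ((D C)ᵀ *ᵥ w) (Sum.inr e) =
      extQ C w e.1 - ∑ q : ↥C.sq, (if e.1 = (q.1.1+1, q.1.2) then (1:k) else 0) * w q := by
  rw [Matrix.mulVec, dotProduct]
  simp only [Matrix.transpose_apply, D, sub_mul, Finset.sum_sub_distrib]
  rw [sum_ind_ext', extQ_apply]

lemma extQ_mem_iff (w : ↥C.sq → k) :
    extQ C w ∈ C.K' k ↔ w ∈ LinearMap.ker ((D (k := k) C)ᵀ).mulVecLin := by
  rw [LinearMap.mem_ker, Matrix.mulVecLin_apply]
  constructor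
  · rintro ⟨_, h2, h3, h4, h5⟩
    funext e
    rcases e with ⟨⟨a, b⟩, he⟩ | ⟨⟨a, b⟩, he⟩
    · rw [mulVec_DT_inl]
      cases b with
      | zero =>
        rw [sum_shift_y, h2 a (C.mem_sx.mp he)]
        simp
      | succ b =>
        rw [sum_shift_y', h3 a b (C.mem_sx.mp he)]
        simp
    · rw [mulVec_DT_inr]
      cases a with
      | zero =>
        rw [sum_shift_x, h4 b (C.mem_sy.mp he)]
        simp
      | succ a =>
        rw [sum_shift_x', h5 a b (C.mem_sy.mp he)]
        simp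
  · intro h
    refine ⟨?_, ?_, ?_, ?_, ?_⟩
    · intro p hp
      rw [extQ_apply, extend_of_not_mem _ _ (fun h' => hp (C.mem_sq.mp h'))]
    · intro a ha
      have := congrFun h (Sum.inl ⟨(a, 0), C.mem_sx.mpr ha⟩)
      rw [mulVec_DT_inl, sum_shift_y] at this
      simpa using this
    · intro a b ha
      have := congrFun h (Sum.inl ⟨(a, b+1), C.mem_sx.mpr ha⟩)
      rw [mulVec_DT_inl, sum_shift_y'] at this
      exact (sub_eq_zero.mp this).symm
    · intro b hb
      have := congrFun h (Sum.inr ⟨(0, b), C.mem_sy.mpr hb⟩)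
      rw [mulVec_DT_inr, sum_shift_x] at this
      simpa using this
    · intro a b hb
      have := congrFun h (Sum.inr ⟨(a+1, b), C.mem_sy.mpr hb⟩)
      rw [mulVec_DT_inr, sum_shift_x'] at this
      exact sub_eq_zero.mp this

lemma K'_eq_map : C.K' k = (LinearMap.ker ((D (k := k) C)ᵀ).mulVecLin).map (extQ C) := by
  apply le_antisymm
  · intro u hu
    have hext : extQ C (fun q : ↥C.sq => u q.1) = u := by
      funext p
      rw [extQ_apply]
      by_cases hp : p ∈ C.sq
      · rw [extend_of_mem _ _ hp]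
      · rw [extend_of_not_mem _ _ hp, hu.1 p (fun h => hp (C.mem_sq.mpr h))]
    refine ⟨fun q => u q.1, ?_, hext⟩
    rw [SetLike.mem_coe, ← extQ_mem_iff, hext]
    exact hu
  · rintro _ ⟨w, hw, rfl⟩
    exact (extQ_mem_iff C w).mpr hw

lemma finrank_K'_eq_ker :
    Module.finrank k ↥(C.K' k) =
      Module.finrank k ↥(LinearMap.ker ((D (k := k) C)ᵀ).mulVecLin) := by
  rw [K'_eq_map]
  exact (Submodule.equivMapOfInjective (extQ C) (extQ_injective C) _).finrank_eq.symm

/-- **A2** -/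
theorem finrank_K'_add :
    Module.finrank k ↥(C.K' k) + (C.sx.card + C.sy.card) =
      Module.finrank k ↥(C.G k) + C.sq.card := by
  rw [finrank_K'_eq_ker, finrank_G_eq_ker]
  have h1 := LinearMap.finrank_range_add_finrank_ker (D (k := k) C).mulVecLin
  have h2 := LinearMap.finrank_range_add_finrank_ker ((D (k := k) C)ᵀ).mulVecLin
  have h3 : Module.finrank k ↥(LinearMap.range ((D (k := k) C)ᵀ).mulVecLin) =
      Module.finrank k ↥(LinearMap.range (D (k := k) C).mulVecLin) := Matrix.rank_transpose _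
  rw [Module.finrank_fintype_fun_eq_card, Fintype.card_sum, Fintype.card_coe, Fintype.card_coe] at h1
  rw [Module.finrank_fintype_fun_eq_card, Fintype.card_coe] at h2
  omega

/-- **The planar duality count.** -/
theorem finrank_K_add :
    Module.finrank k ↥(C.K k) + C.sv.card + C.sq.card =
      Module.finrank k ↥(C.K' k) + C.sx.card + C.sy.card := by
  have h1 := finrank_G (k := k) C
  have h2 := finrank_K'_add (k := k) C
  omega

end A2

end Conf

end Groth.Agent.Lib.Helper24Planar
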