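import Mathlib
import Groth.Agent.Lib.Helper24Planar

set_option autoImplicit false

namespace Groth.Agent.Lib.Helper24Planar

namespace Conf

variable (C : Conf) {k : Type*} [Field k]

/-- terminal vertices of the closed cell set: closed vertices both of whose outgoing edges are open -/
def Term (p : ℕ × ℕ) : Prop := C.Lam p ∧ ¬ C.Zv p ∧ C.Zx p ∧ C.Zy p

open Classical in
noncomputable def st : Finset (ℕ × ℕ) := C.box.filter C.Term

lemma mem_st {p : ℕ × ℕ} : p ∈ C.st ↔ C.Term p := by
  classical
  simp only [st, Finset.mem_filter]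
  exact ⟨fun h => h.2, fun h => ⟨C.mem_box_of_lam h.1, h⟩⟩

/-- a locally constant function vanishing on the terminal vertices vanishes -/
lemma eq_zero_of_term (c : ℕ × ℕ → k) (hc : c ∈ C.K k) (h : ∀ p, C.Term p → c p = 0) : c = 0 := by
  obtain ⟨hc1, hc2, hc3⟩ := hc
  have key : ∀ n a b, 2 * C.N ≤ a + b + n → c (a, b) = 0 := by
    intro n
    induction n with
    | zero =>
      intro a b hab
      apply hc1
      rintro ⟨hl, _⟩
      have := C.lam_box _ hl
      simp only at this
      omega
    | succ n ih =>
      intro a b hab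
      by_cases hp : C.Lam (a, b) ∧ ¬ C.Zv (a, b)
      · by_cases hx : C.Zx (a, b)
        · by_cases hy : C.Zy (a, b)
          · exact h _ ⟨hp.1, hp.2, hx, hy⟩
          · rw [← hc3 a b hp.1 hy]
            exact ih a (b+1) (by omega)
        · rw [← hc2 a b hp.1 hx]
          exact ih (a+1) b (by omega)
      · exact hc1 _ hp
  funext p
  exact key (2 * C.N) p.1 p.2 (by omega)

/-- **terminal-vertex bound** -/
theorem finrank_K_le : Module.finrank k ↥(C.K k) ≤ C.st.card := by
  have hinj : Function.Injective
      ((LinearMap.funLeft k k (Subtype.val : ↥C.st → ℕ × ℕ)).comp (C.K k).subtype) := by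
    rw [injective_iff_map_eq_zero]
    intro f hf
    apply Subtype.ext
    apply C.eq_zero_of_term f.1 f.2
    intro p hp
    exact congrFun hf ⟨p, C.mem_st.mpr hp⟩
  have := LinearMap.finrank_le_finrank_of_injective hinj
  rwa [Module.finrank_fintype_fun_eq_card, Fintype.card_coe] at this

end Conf

end Groth.Agent.Lib.Helper24Planar
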