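import Mathlib
import Groth.Prelude.Def_W4c3madredgrpAct
import Groth.Agent.Lib.Helper24SimDiag

/-!
# Right translations by points: multiplicativity and local finiteness
-/

namespace Groth.Agent.Lib.Helper24PtAct

open TensorProduct MadRed Coalgebra

variable (k : Type*) [Field k] (A : Type*) [CommRing A] [Bialgebra k A]
  (R : Type*) [CommRing R] [Algebra k R]

theorem translAux_apply (g : A →ₐ[k] R) (a : A) {ι : Type*} (repr : Coalgebra.Repr k a ι) :
    translAux k A R g a = ∑ i ∈ repr.index, g (repr.right i) ⊗ₜ[k] repr.left i := by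
  unfold translAux
  simp only [AlgHom.coe_comp, Function.comp_apply, Bialgebra.comulAlgHom_apply]
  rw [← repr.eq]
  simp [map_sum]

theorem ptAct_tmul (g : A →ₐ[k] R) (r : R) (a : A) {ι : Type*} (repr : Coalgebra.Repr k a ι) :
    ptAct k A R g (r ⊗ₜ[k] a) = ∑ i ∈ repr.index, (r * g (repr.right i)) ⊗ₜ[k] repr.left i := by
  unfold ptAct
  rw [Algebra.TensorProduct.lift_tmul, translAux_apply k A R g a repr, Finset.mul_sum]
  apply Finset.sum_congr rfl
  intro i _
  simp

/-- auxiliary map `x ⊗ (y ⊗ z) ↦ (r * (g y * h z)) ⊗ x`. -/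
noncomputable def Psi (g h : A →ₐ[k] R) (r : R) : A ⊗[k] (A ⊗[k] A) →ₗ[k] R ⊗[k] A :=
  (TensorProduct.comm k A R).toLinearMap ∘ₗ
    TensorProduct.map LinearMap.id
      ((LinearMap.mulLeft k r) ∘ₗ (LinearMap.mul' k R) ∘ₗ
        TensorProduct.map g.toLinearMap h.toLinearMap)

theorem Psi_tmul (g h : A →ₐ[k] R) (r : R) (x y z : A) :
    Psi k A R g h r (x ⊗ₜ[k] (y ⊗ₜ[k] z)) = (r * (g y * h z)) ⊗ₜ[k] x := by
  simp [Psi]

theorem ptAct_comp (g h : A →ₐ[k] R) :
    (ptAct k A R g).comp (ptAct k A R h) =
      ptAct k A R (WithConv.ofConv (WithConv.toConv g * WithConv.toConv h)) := by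
  apply Algebra.TensorProduct.ext'
  intro r a
  rw [AlgHom.comp_apply]
  let repr := Coalgebra.Repr.arbitrary k a
  let a₁ := fun i : A × A => Coalgebra.Repr.arbitrary k (repr.left i)
  let a₂ := fun i : A × A => Coalgebra.Repr.arbitrary k (repr.right i)
  have key := congrArg (Psi k A R g h r) (Coalgebra.sum_tmul_tmul_eq repr a₁ a₂)
  simp only [map_sum, Psi_tmul] at key
  -- left side
  have hL : ptAct k A R g (ptAct k A R h (r ⊗ₜ[k] a)) =
      ∑ i ∈ repr.index, ∑ j ∈ (a₁ i).index,
        (r * (g ((a₁ i).right j) * h (repr.right i))) ⊗ₜ[k] (a₁ i).left j := by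
    rw [ptAct_tmul k A R h r a repr, map_sum]
    apply Finset.sum_congr rfl
    intro i _
    rw [ptAct_tmul k A R g _ _ (a₁ i)]
    apply Finset.sum_congr rfl
    intro j _
    congr 1
    ring
  have hR : ptAct k A R (WithConv.ofConv (WithConv.toConv g * WithConv.toConv h)) (r ⊗ₜ[k] a) =
      ∑ i ∈ repr.index, ∑ j ∈ (a₂ i).index,
        (r * (g ((a₂ i).left j) * h ((a₂ i).right j))) ⊗ₜ[k] repr.left i := by
    rw [ptAct_tmul k A R _ r a repr]
    apply Finset.sum_congr rfl
    intro i _
    have : (WithConv.ofConv (WithConv.toConv g * WithConv.toConv h)) (repr.right i) =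
        ∑ j ∈ (a₂ i).index, g ((a₂ i).left j) * h ((a₂ i).right j) := by
      have h1 := AlgHom.convMul_apply (WithConv.toConv g) (WithConv.toConv h) (repr.right i)
      rw [← (a₂ i).eq, map_sum] at h1
      simpa using h1
    rw [this, Finset.mul_sum, TensorProduct.sum_tmul]
  rw [hL, hR, key]

theorem exists_fin (x : R ⊗[k] A) : ∃ F : Finset A, ∀ p : A →ₐ[k] R,
    ptAct k A R p x ∈ Submodule.span R ((fun c => (1 : R) ⊗ₜ[k] c) '' (F : Set A)) := by
  classical
  induction x using TensorProduct.induction_on with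
  | zero => exact ⟨∅, fun p => by simp⟩
  | tmul r a =>
    let repr := Coalgebra.Repr.arbitrary k a
    refine ⟨repr.index.image repr.left, fun p => ?_⟩
    rw [ptAct_tmul k A R p r a repr]
    apply Submodule.sum_mem
    intro i hi
    have : (r * p (repr.right i)) ⊗ₜ[k] repr.left i =
        (r * p (repr.right i)) • ((1 : R) ⊗ₜ[k] repr.left i) := by
      rw [TensorProduct.smul_tmul', smul_eq_mul, mul_one]
    rw [this]
    apply Submodule.smul_mem
    apply Submodule.subset_span
    exact ⟨repr.left i, Finset.mem_coe.mpr (Finset.mem_image_of_mem _ hi), rfl⟩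
  | add x y hx hy =>
    obtain ⟨F, hF⟩ := hx
    obtain ⟨G, hG⟩ := hy
    refine ⟨F ∪ G, fun p => ?_⟩
    rw [map_add]
    apply Submodule.add_mem
    · exact Submodule.span_mono (Set.image_mono (by simp)) (hF p)
    · exact Submodule.span_mono (Set.image_mono (by simp)) (hG p)

theorem main [IsNoetherianRing R] (H : Set (A →ₐ[k] R))
    (hcomm : ∀ g ∈ H, ∀ h ∈ H,
      WithConv.toConv g * WithConv.toConv h = WithConv.toConv h * WithConv.toConv g)
    (hdiag : ∀ g ∈ H, ⨆ μ : k,
      Module.End.eigenspace (((MadRed.ptAct k A R g).toLinearMap).restrictScalars k) μ = ⊤) :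
    ⨆ χ : H → k, ⨅ g : H,
      Module.End.eigenspace (((MadRed.ptAct k A R g.1).toLinearMap).restrictScalars k) (χ g) = ⊤ := by
  classical
  apply Groth.Agent.Lib.Helper24SimDiag.main k R (R ⊗[k] A) H
    (fun g => (ptAct k A R g.1).toLinearMap)
  · intro g h
    apply LinearMap.ext
    intro x
    have h1 := congrArg (fun φ => φ x) (ptAct_comp k A R g.1 h.1)
    have h2 := congrArg (fun φ => φ x) (ptAct_comp k A R h.1 g.1)
    simp only [AlgHom.comp_apply] at h1 h2
    show ptAct k A R g.1 (ptAct k A R h.1 x) = ptAct k A R h.1 (ptAct k A R g.1 x)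
    rw [h1, h2, hcomm g.1 g.2 h.1 h.2]
  · intro g
    exact hdiag g.1 g.2
  · intro v
    obtain ⟨F, hF⟩ := exists_fin k A R v
    let gens : Set (R ⊗[k] A) := {v} ∪ Set.range (fun p : A →ₐ[k] R => ptAct k A R p v)
    refine ⟨Submodule.span R gens, Submodule.subset_span (Or.inl rfl), ?_, ?_⟩
    · have hT : (Submodule.span R (({v} : Set (R ⊗[k] A)) ∪
          ((fun c => (1 : R) ⊗ₜ[k] c) '' (F : Set A)))).FG := by
        apply Submodule.fg_span
        exact (Set.finite_singleton v).union (F.finite_toSet.image _)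
      apply Submodule.FG.of_le hT
      rw [Submodule.span_le]
      rintro w (hw | ⟨p, rfl⟩)
      · exact Submodule.subset_span (Or.inl hw)
      · exact Submodule.span_mono Set.subset_union_right (hF p)
    · intro g w hw
      show ptAct k A R g.1 w ∈ Submodule.span R gens
      induction hw using Submodule.span_induction with
      | mem w hw =>
        rcases hw with hw | ⟨p, rfl⟩
        · rw [Set.mem_singleton_iff] at hw
          subst hw
          exact Submodule.subset_span (Or.inr ⟨g.1, rfl⟩)
        · have := congrArg (fun φ => φ v) (ptAct_comp k A R g.1 p)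
          simp only [AlgHom.comp_apply] at this
          rw [this]
          exact Submodule.subset_span (Or.inr ⟨_, rfl⟩)
      | zero => rw [map_zero]; exact Submodule.zero_mem _
      | add x y _ _ hx hy => rw [map_add]; exact Submodule.add_mem _ hx hy
      | smul r x _ hx => rw [map_smul]; exact Submodule.smul_mem _ _ hx

end Groth.Agent.Lib.Helper24PtAct
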