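import Mathlib
import Groth.Prelude.Def_CAlgX
import Groth.Prelude.Def_W4stkadequatePure
import Groth.Agent.S8771
import Groth.Agent.S8772

/-!
# Existence of pure injective resolutions
-/

namespace Groth.Agent.Lib.Helper24PureInjRes

open CategoryTheory Category Limits CochainComplex HomologicalComplex MonoidalCategory

universe u

variable (R : Type u) [CommRing R]

/-- double character module as an object of `ModuleCat`. -/
abbrev DD (M : Type u) [AddCommGroup M] [Module R M] : ModuleCat.{u} R :=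
  ModuleCat.of R (CharacterModule (CharacterModule M))

lemma pi_DD (M : Type u) [AddCommGroup M] [Module R M] :
    ∀ ⦃K L : Type u⦄ [AddCommGroup K] [Module R K] [AddCommGroup L] [Module R L] (g : K →ₗ[R] L),
      CAlgX.UniversallyInjective R g → ∀ φ : K →ₗ[R] DD R M, ∃ ψ : L →ₗ[R] DD R M, ψ ∘ₗ g = φ := by
  apply (Groth.Agent.S8771.result R (CharacterModule (CharacterModule M))).mpr
  refine ⟨CharacterModule.dual (PureExt.charEval R (CharacterModule M)), ?_⟩
  ext x χ
  rfl

/-- Lemma Y -/
lemma uexact_of_factor {A B C' C : Type u} [AddCommGroup A] [Module R A] [AddCommGroup B] [Module R B]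
    [AddCommGroup C'] [Module R C'] [AddCommGroup C] [Module R C]
    (a : A →ₗ[R] B) (q : B →ₗ[R] C') (j : C' →ₗ[R] C) (hex : Function.Exact a q)
    (hq : Function.Surjective q) (hj : CAlgX.UniversallyInjective R j)
    (Q : Type u) [AddCommGroup Q] [Module R Q] :
    Function.Exact (a.rTensor Q) ((j ∘ₗ q).rTensor Q) := by
  have h1 : Function.Exact (a.rTensor Q) (q.rTensor Q) := rTensor_exact Q hex hq
  rw [LinearMap.rTensor_comp]
  intro y
  rw [LinearMap.comp_apply]
  constructor
  · intro hy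
    have : q.rTensor Q y = 0 := hj Q (by rw [hy, map_zero])
    exact (h1 y).mp this
  · intro hy
    rw [(h1 y).mpr hy, map_zero]

def nextObj {X₀ X₁ : ModuleCat.{u} R} (f : X₀ ⟶ X₁) : ModuleCat.{u} R :=
  DD R (X₁ ⧸ LinearMap.range f.hom)

def nextD {X₀ X₁ : ModuleCat.{u} R} (f : X₀ ⟶ X₁) : X₁ ⟶ nextObj R f :=
  ModuleCat.ofHom (PureExt.charEval R _ ∘ₗ (LinearMap.range f.hom).mkQ)

lemma comp_nextD {X₀ X₁ : ModuleCat.{u} R} (f : X₀ ⟶ X₁) : f ≫ nextD R f = 0 := by
  ext x
  have : (LinearMap.range f.hom).mkQ (f.hom x) = 0 := by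
    rw [Submodule.mkQ_apply, Submodule.Quotient.mk_eq_zero]; exact ⟨x, rfl⟩
  show (PureExt.charEval R _) ((LinearMap.range f.hom).mkQ (f.hom x)) = 0
  rw [this, map_zero]

lemma uexact_nextD {X₀ X₁ : ModuleCat.{u} R} (f : X₀ ⟶ X₁) (Q : Type u) [AddCommGroup Q] [Module R Q] :
    Function.Exact (f.hom.rTensor Q) ((nextD R f).hom.rTensor Q) := by
  refine uexact_of_factor R f.hom (LinearMap.range f.hom).mkQ (PureExt.charEval R _) ?_
    (Submodule.mkQ_surjective _) (Groth.Agent.S8772.result R _) Q
  exact LinearMap.exact_map_mkQ_range f.hom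

/-- the coaugmentation. -/
def e0 (M : ModuleCat.{u} R) : M ⟶ DD R M := ModuleCat.ofHom (PureExt.charEval R M)

set_option backward.isDefEq.respectTransparency.types false in
noncomputable def cocx (M : ModuleCat.{u} R) : CochainComplex (ModuleCat.{u} R) ℕ :=
  CochainComplex.mk' (DD R M) (nextObj R (e0 R M)) (nextD R (e0 R M))
    (fun f => ⟨nextObj R f, nextD R f, comp_nextD R f⟩)

set_option backward.isDefEq.respectTransparency.types false in
lemma cocx_d_0_1 (M : ModuleCat.{u} R) : (cocx R M).d 0 1 = nextD R (e0 R M) := by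
  simp [cocx]

set_option backward.isDefEq.respectTransparency.types false in
lemma cocx_uexact_succ (M : ModuleCat.{u} R) (n : ℕ) (Q : Type u) [AddCommGroup Q] [Module R Q] :
    Function.Exact (((cocx R M).d n (n + 1)).hom.rTensor Q)
      (((cocx R M).d (n + 1) (n + 1 + 1)).hom.rTensor Q) := by
  simp only [cocx, CochainComplex.mk', CochainComplex.mk, CochainComplex.of_d]
  match n with
  | 0 => exact uexact_nextD R _ Q
  | n + 1 => exact uexact_nextD R _ Q

set_option backward.isDefEq.respectTransparency.types false in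
lemma cocx_pi (M : ModuleCat.{u} R) (n : ℕ) :
    ∀ ⦃K L : Type u⦄ [AddCommGroup K] [Module R K] [AddCommGroup L] [Module R L] (g : K →ₗ[R] L),
      CAlgX.UniversallyInjective R g → ∀ φ : K →ₗ[R] (cocx R M).X n,
        ∃ ψ : L →ₗ[R] (cocx R M).X n, ψ ∘ₗ g = φ := by
  obtain (_ | _ | _ | n) := n <;> apply pi_DD

end Groth.Agent.Lib.Helper24PureInjRes
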