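import Mathlib
import Groth.Prelude.Def_CAlgX
import Groth.Prelude.Def_W4stkadequatePure
import Groth.Agent.Lib.Helper24PureInjRes

/-!
# Existence of pure injective resolutions: the statement
-/

namespace Groth.Agent.Lib.Helper24PureInjRes2

open CategoryTheory Category Limits CochainComplex HomologicalComplex MonoidalCategory
open Groth.Agent.Lib.Helper24PureInjRes

universe u

variable (R : Type u) [CommRing R]

set_option backward.isDefEq.respectTransparency false in
/-- the coaugmentation as a map of complexes. -/
noncomputable def eta (M : ModuleCat.{u} R) :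
    (CochainComplex.single₀ (ModuleCat.{u} R)).obj M ⟶ cocx R M :=
  (CochainComplex.fromSingle₀Equiv _ _).symm ⟨e0 R M, by
    rw [cocx_d_0_1]; exact comp_nextD R (e0 R M)⟩

set_option backward.isDefEq.respectTransparency false in
lemma eta_f_zero (M : ModuleCat.{u} R) : (eta R M).f 0 = e0 R M := by
  simp [eta]

set_option backward.isDefEq.respectTransparency false in
lemma quasiIso_eta (M T : ModuleCat.{u} R) :
    QuasiIso (((tensorRight T).mapHomologicalComplex (ComplexShape.up ℕ)).map (eta R M)) := by
  refine ⟨fun n => ?_⟩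
  cases n with
  | zero =>
    rw [CochainComplex.quasiIsoAt₀_iff, ShortComplex.quasiIso_iff_of_zeros]
    · constructor
      · rw [ShortComplex.moduleCat_exact_iff]
        intro x hx
        have hex := uexact_nextD R (e0 R M) T
        have hx' : ((nextD R (e0 R M)).hom.rTensor T) x = 0 := by
          have h1 : (cocx R M).d 0 1 = nextD R (e0 R M) := cocx_d_0_1 R M
          rw [← h1]
          exact hx
        obtain ⟨y, hy⟩ := (hex x).mp hx'
        refine ⟨y, ?_⟩
        have h2 : (eta R M).f 0 = e0 R M := eta_f_zero R M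
        show (((eta R M).f 0).hom.rTensor T) y = x
        rw [h2]
        exact hy
      · have h2 : (eta R M).f 0 = e0 R M := eta_f_zero R M
        show Mono ((eta R M).f 0 ▷ T)
        rw [h2]
        exact (ModuleCat.mono_iff_injective _).mpr (Groth.Agent.S8772.result R M T)
    · simp
    · simp
    · simp
  | succ n =>
    have hK : (((tensorRight T).mapHomologicalComplex (ComplexShape.up ℕ)).obj
        ((CochainComplex.single₀ (ModuleCat.{u} R)).obj M)).ExactAt (n + 1) := by
      rw [HomologicalComplex.exactAt_iff]
      apply ShortComplex.exact_of_isZero_X₂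
      exact Functor.map_isZero (tensorRight T) (isZero_single_obj_X _ _ _ _ (by simp))
    rw [quasiIsoAt_iff_exactAt _ _ hK]
    rw [HomologicalComplex.exactAt_iff' _ n (n + 1) (n + 1 + 1) (by simp) (by simp)]
    rw [ShortComplex.moduleCat_exact_iff]
    intro x hx
    exact (cocx_uexact_succ R M n T x).mp hx

theorem s8777 (R : Type u) [CommRing R] (M : ModuleCat.{u} R) :
    ∃ (I : CochainComplex (ModuleCat.{u} R) ℕ) (η : (CochainComplex.single₀ (ModuleCat.{u} R)).obj M ⟶ I),
      (∀ n : ℕ, (∀ ⦃K L : Type u⦄ [AddCommGroup K] [Module R K] [AddCommGroup L] [Module R L] (g : K →ₗ[R] L),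
          CAlgX.UniversallyInjective R g → ∀ φ : K →ₗ[R] I.X n, ∃ ψ : L →ₗ[R] I.X n, ψ ∘ₗ g = φ)) ∧
      ∀ T : ModuleCat.{u} R,
      QuasiIso (((MonoidalCategory.tensorRight T).mapHomologicalComplex (ComplexShape.up ℕ)).map η) :=
  ⟨cocx R M, eta R M, cocx_pi R M, quasiIso_eta R M⟩

end Groth.Agent.Lib.Helper24PureInjRes2
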