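import Mathlib
import Groth.Prelude.Def_CAlgX
import Groth.Agent.Lib.Helper13Pure
import Groth.Agent.Lib.Helper24PureInjRes

/-!
# Existence of pure projective resolutions
-/

namespace Groth.Agent.Lib.Helper24PureProjRes

open CategoryTheory Category Limits ChainComplex HomologicalComplex MonoidalCategory
open Groth.Agent.Helper13Pure
open Groth.Agent.Lib.Helper24PureInjRes (uexact_of_factor)

universe u

variable (R : Type u) [CommRing R]

/-- the covering direct sum of finitely presented modules. -/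
noncomputable abbrev covObj (M : Type u) [AddCommGroup M] [Module R M] : ModuleCat.{u} R :=
  ModuleCat.of R (Π₀ i : Idx R M, QQ R M i)

lemma cov_pure (M : Type u) [AddCommGroup M] [Module R M] :
    CAlgX.UniversallyInjective R (LinearMap.ker (cov R M)).subtype :=
  univInj_of_equational _ (Submodule.injective_subtype _) (cov_equational (R := R) (M := M))

lemma covObj_summand (M : Type u) [AddCommGroup M] [Module R M] :
    ∃ (ι : Type u) (Q : ι → Type u) (_ : ∀ i, AddCommGroup (Q i)) (_ : ∀ i, Module R (Q i)),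
        (∀ i, Module.FinitePresentation R (Q i)) ∧
        ∃ (s : covObj R M →ₗ[R] (Π₀ i, Q i)) (r : (Π₀ i, Q i) →ₗ[R] covObj R M), r ∘ₗ s = LinearMap.id :=
  ⟨Idx R M, QQ R M, fun _ => inferInstance, fun _ => inferInstance, QQ_fp R M,
    LinearMap.id, LinearMap.id, rfl⟩

/-- goodness: pure kernel. -/
def Good {A B : ModuleCat.{u} R} (g : A ⟶ B) : Prop :=
  CAlgX.UniversallyInjective R (LinearMap.ker g.hom).subtype

noncomputable def nextObj {X₁ X₀ : ModuleCat.{u} R} (f : X₁ ⟶ X₀) : ModuleCat.{u} R :=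
  covObj R (LinearMap.ker f.hom)

noncomputable def nextD {X₁ X₀ : ModuleCat.{u} R} (f : X₁ ⟶ X₀) : nextObj R f ⟶ X₁ :=
  ModuleCat.ofHom ((LinearMap.ker f.hom).subtype ∘ₗ cov R (LinearMap.ker f.hom))

lemma nextD_comp {X₁ X₀ : ModuleCat.{u} R} (f : X₁ ⟶ X₀) : nextD R f ≫ f = 0 := by
  ext x
  show f.hom ((LinearMap.ker f.hom).subtype (cov R (LinearMap.ker f.hom) x)) = 0
  exact (cov R (LinearMap.ker f.hom) x).2

lemma ker_nextD {X₁ X₀ : ModuleCat.{u} R} (f : X₁ ⟶ X₀) :
    LinearMap.ker (nextD R f).hom = LinearMap.ker (cov R (LinearMap.ker f.hom)) := by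
  show LinearMap.ker ((LinearMap.ker f.hom).subtype ∘ₗ cov R (LinearMap.ker f.hom)) = _
  exact LinearMap.ker_comp_of_ker_eq_bot _ (Submodule.ker_subtype _)

lemma good_nextD {X₁ X₀ : ModuleCat.{u} R} (f : X₁ ⟶ X₀) : Good R (nextD R f) := by
  unfold Good
  rw [ker_nextD]
  exact cov_pure R _

lemma range_nextD {X₁ X₀ : ModuleCat.{u} R} (f : X₁ ⟶ X₀) :
    LinearMap.range (nextD R f).hom = LinearMap.ker f.hom := by
  show LinearMap.range ((LinearMap.ker f.hom).subtype ∘ₗ cov R (LinearMap.ker f.hom)) = _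
  rw [LinearMap.range_comp, LinearMap.range_eq_top.mpr (cov_surjective (R := R)), Submodule.map_top,
    Submodule.range_subtype]

/-- Lemma X'' -/
lemma uexact_next_next {X₁ X₀ : ModuleCat.{u} R} (f : X₁ ⟶ X₀) (hf : Good R f)
    (Q : Type u) [AddCommGroup Q] [Module R Q] :
    Function.Exact ((nextD R (nextD R f)).hom.rTensor Q) ((nextD R f).hom.rTensor Q) := by
  refine uexact_of_factor R (nextD R (nextD R f)).hom (cov R (LinearMap.ker f.hom))
    (LinearMap.ker f.hom).subtype ?_ (cov_surjective (R := R)) hf Q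
  rw [LinearMap.exact_iff, range_nextD, ker_nextD]
  rfl

/-- degree zero: right exactness. -/
lemma uexact_next_surj {X₁ X₀ : ModuleCat.{u} R} (f : X₁ ⟶ X₀) (hf : Function.Surjective f.hom)
    (Q : Type u) [AddCommGroup Q] [Module R Q] :
    Function.Exact ((nextD R f).hom.rTensor Q) (f.hom.rTensor Q) := by
  refine rTensor_exact Q ?_ hf
  rw [LinearMap.exact_iff, range_nextD]

/-- the augmentation. -/
noncomputable def p0 (M : ModuleCat.{u} R) : covObj R M ⟶ M := ModuleCat.ofHom (cov R M)

lemma good_p0 (M : ModuleCat.{u} R) : Good R (p0 R M) := cov_pure R M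

set_option backward.isDefEq.respectTransparency.types false in
noncomputable def cx (M : ModuleCat.{u} R) : ChainComplex (ModuleCat.{u} R) ℕ :=
  ChainComplex.mk' (covObj R M) (nextObj R (p0 R M)) (nextD R (p0 R M))
    (fun f => ⟨nextObj R f, nextD R f, nextD_comp R f⟩)

set_option backward.isDefEq.respectTransparency.types false in
lemma cx_d_1_0 (M : ModuleCat.{u} R) : (cx R M).d 1 0 = nextD R (p0 R M) := by
  simp [cx]

/-- the auxiliary short complexes. -/
noncomputable abbrev aux (M : ModuleCat.{u} R) (n : ℕ) : ShortComplex (ModuleCat.{u} R) :=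
  ChainComplex.mkAux (covObj R M) (nextObj R (p0 R M)) (nextObj R (nextD R (p0 R M)))
    (nextD R (p0 R M)) (nextD R (nextD R (p0 R M))) (nextD_comp R _)
    (fun S => ⟨nextObj R S.f, nextD R S.f, nextD_comp R S.f⟩) n

lemma good_aux_f (M : ModuleCat.{u} R) (n : ℕ) : Good R (aux R M n).f := by
  cases n <;> exact good_nextD R _

set_option backward.isDefEq.respectTransparency.types false in
lemma cx_uexact_succ (M : ModuleCat.{u} R) (n : ℕ) (Q : Type u) [AddCommGroup Q] [Module R Q] :
    Function.Exact (((cx R M).d (n + 1 + 1) (n + 1)).hom.rTensor Q)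
      (((cx R M).d (n + 1) n).hom.rTensor Q) := by
  simp only [cx, ChainComplex.mk', ChainComplex.mk, ChainComplex.of_d]
  match n with
  | 0 => exact uexact_next_next R (p0 R M) (good_p0 R M) Q
  | 1 => exact uexact_next_next R (nextD R (p0 R M)) (good_nextD R _) Q
  | n + 2 => exact uexact_next_next R (aux R M n).f (good_aux_f R M n) Q

set_option backward.isDefEq.respectTransparency.types false in
lemma cx_summand (M : ModuleCat.{u} R) (n : ℕ) :
    ∃ (ι : Type u) (Q : ι → Type u) (_ : ∀ i, AddCommGroup (Q i)) (_ : ∀ i, Module R (Q i)),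
        (∀ i, Module.FinitePresentation R (Q i)) ∧
        ∃ (s : (cx R M).X n →ₗ[R] (Π₀ i, Q i)) (r : (Π₀ i, Q i) →ₗ[R] (cx R M).X n),
          r ∘ₗ s = LinearMap.id := by
  obtain (_ | _ | _ | n) := n <;> apply covObj_summand

end Groth.Agent.Lib.Helper24PureProjRes
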