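import Mathlib
import Groth.Prelude.Def_CAlgX
import Groth.Agent.Lib.Helper24PureProjRes

/-!
# Existence of pure projective resolutions: the statement
-/

namespace Groth.Agent.Lib.Helper24PureProjRes2

open CategoryTheory Category Limits ChainComplex HomologicalComplex MonoidalCategory
open Groth.Agent.Helper13Pure
open Groth.Agent.Lib.Helper24PureProjRes

universe u

variable (R : Type u) [CommRing R]

set_option backward.isDefEq.respectTransparency false in
/-- the augmentation as a map of complexes. -/
noncomputable def aug (M : ModuleCat.{u} R) :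
    cx R M ⟶ (ChainComplex.single₀ (ModuleCat.{u} R)).obj M :=
  (ChainComplex.toSingle₀Equiv _ _).symm ⟨p0 R M, by
    rw [cx_d_1_0]; exact nextD_comp R (p0 R M)⟩

set_option backward.isDefEq.respectTransparency false in
lemma aug_f_zero (M : ModuleCat.{u} R) : (aug R M).f 0 = p0 R M := by
  simp [aug]

set_option backward.isDefEq.respectTransparency false in
lemma quasiIso_aug (M T : ModuleCat.{u} R) :
    QuasiIso (((tensorRight T).mapHomologicalComplex (ComplexShape.down ℕ)).map (aug R M)) := by
  refine ⟨fun n => ?_⟩
  cases n with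
  | zero =>
    rw [ChainComplex.quasiIsoAt₀_iff, ShortComplex.quasiIso_iff_of_zeros']
    · have h2 : (aug R M).f 0 = p0 R M := aug_f_zero R M
      have h1 : (cx R M).d 1 0 = nextD R (p0 R M) := cx_d_1_0 R M
      constructor
      · rw [ShortComplex.moduleCat_exact_iff]
        intro x hx
        have hex := uexact_next_surj R (p0 R M) (cov_surjective (R := R)) T
        have hx' : ((p0 R M).hom.rTensor T) x = 0 := by
          rw [← h2]
          exact hx
        obtain ⟨y, hy⟩ := (hex x).mp hx'
        refine ⟨y, ?_⟩
        show (((cx R M).d 1 0).hom.rTensor T) y = x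
        rw [h1]
        exact hy
      · show Epi ((aug R M).f 0 ▷ T)
        rw [h2]
        exact (ModuleCat.epi_iff_surjective _).mpr
          (LinearMap.rTensor_surjective T (cov_surjective (R := R)))
    · simp
    · simp
    · simp
  | succ n =>
    have hL : (((tensorRight T).mapHomologicalComplex (ComplexShape.down ℕ)).obj
        ((ChainComplex.single₀ (ModuleCat.{u} R)).obj M)).ExactAt (n + 1) := by
      rw [HomologicalComplex.exactAt_iff]
      apply ShortComplex.exact_of_isZero_X₂
      exact Functor.map_isZero (tensorRight T) (isZero_single_obj_X _ _ _ _ (by simp))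
    rw [quasiIsoAt_iff_exactAt' _ _ hL]
    rw [HomologicalComplex.exactAt_iff' _ (n + 1 + 1) (n + 1) n (by simp) (by simp)]
    rw [ShortComplex.moduleCat_exact_iff]
    intro x hx
    exact (cx_uexact_succ R M n T x).mp hx

theorem s8774 (R : Type u) [CommRing R] (M : ModuleCat.{u} R) :
    ∃ (P : ChainComplex (ModuleCat.{u} R) ℕ) (π : P ⟶ (ChainComplex.single₀ (ModuleCat.{u} R)).obj M),
      (∀ n : ℕ, ∃ (ι : Type u) (Q : ι → Type u) (_ : ∀ i, AddCommGroup (Q i)) (_ : ∀ i, Module R (Q i)),
        (∀ i, Module.FinitePresentation R (Q i)) ∧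
        ∃ (s : P.X n →ₗ[R] (Π₀ i, Q i)) (r : (Π₀ i, Q i) →ₗ[R] P.X n), r ∘ₗ s = LinearMap.id) ∧
      ∀ N : ModuleCat.{u} R,
        QuasiIso (((MonoidalCategory.tensorRight N).mapHomologicalComplex (ComplexShape.down ℕ)).map π) :=
  ⟨cx R M, aug R M, cx_summand R M, quasiIso_aug R M⟩

end Groth.Agent.Lib.Helper24PureProjRes2
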