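import Mathlib
import Groth.Prelude.Def_CAlgX

/-!
# Comparison theorem for pure projective resolutions (chain side)
-/

namespace Groth.Agent.Lib.Helper24PureRes

open CategoryTheory Category Limits ChainComplex HomologicalComplex MonoidalCategory

universe u

section general

variable {C : Type*} [Category C] [Abelian C]

lemma chain_exact_succ {K : ChainComplex C ℕ} {X : C} (π : K ⟶ (ChainComplex.single₀ C).obj X)
    [QuasiIso π] (n : ℕ) :
    (ShortComplex.mk _ _ (K.d_comp_d (n + 2) (n + 1) n)).Exact := by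
  have h : K.ExactAt (n + 1) := by
    rw [← quasiIsoAt_iff_exactAt' π (n + 1) (exactAt_succ_single_obj _ _)]
    infer_instance
  exact ((HomologicalComplex.exactAt_iff' _ (n + 2) (n + 1) n)
    (by simp only [ChainComplex.prev]; rfl) (by simp)).1 h

lemma chain_d_comp_f_zero {K : ChainComplex C ℕ} {X : C} (π : K ⟶ (ChainComplex.single₀ C).obj X) :
    K.d 1 0 ≫ π.f 0 = 0 := by
  rw [← π.comm 1 0, single_obj_d, comp_zero]

set_option backward.isDefEq.respectTransparency.types false in
set_option backward.defeqAttrib.useBackward true in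
noncomputable def chainIsColimit {K : ChainComplex C ℕ} {X : C}
    (π : K ⟶ (ChainComplex.single₀ C).obj X) [QuasiIso π] :
    IsColimit (CokernelCofork.ofπ (f := K.d 1 0) (π.f 0) (chain_d_comp_f_zero π)) := by
  refine IsColimit.ofIsoColimit (K.opcyclesIsCokernel 1 0 (by simp)) ?_
  refine Cofork.ext (K.isoHomologyι₀.symm ≪≫ isoOfQuasiIsoAt π 0 ≪≫
    singleObjHomologySelfIso _ _ _) ?_
  rw [← cancel_mono (singleObjHomologySelfIso (ComplexShape.down ℕ) 0 _).inv,
    ← cancel_mono (isoHomologyι₀ _).hom]
  dsimp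
  simp only [isoHomologyι₀_inv_naturality_assoc, p_opcyclesMap_assoc, single₀_obj_zero, assoc,
    Iso.hom_inv_id, comp_id, isoHomologyι_inv_hom_id, singleObjHomologySelfIso_inv_homologyι,
    singleObjOpcyclesSelfIso_hom, single₀ObjXSelf, Iso.refl_inv, id_comp]

lemma chain_exact_zero {K : ChainComplex C ℕ} {X : C} (π : K ⟶ (ChainComplex.single₀ C).obj X)
    [QuasiIso π] :
    (ShortComplex.mk _ _ (chain_d_comp_f_zero π)).Exact :=
  ShortComplex.exact_of_g_is_cokernel _ (chainIsColimit π)

lemma chain_epi_zero {K : ChainComplex C ℕ} {X : C} (π : K ⟶ (ChainComplex.single₀ C).obj X)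
    [QuasiIso π] : Epi (π.f 0) :=
  epi_of_isColimit_cofork (chainIsColimit π)

end general


section modules

variable (R : Type u) [CommRing R]

/-- (copy of the argument of S8773) -/
lemma univInj_range {L M N : Type u} [AddCommGroup L] [Module R L] [AddCommGroup M] [Module R M]
    [AddCommGroup N] [Module R N] (f : L →ₗ[R] M) (g : M →ₗ[R] N)
    (h : ∀ (Q : Type u) [AddCommGroup Q] [Module R Q], Function.Exact (f.rTensor Q) (g.rTensor Q)) :
    CAlgX.UniversallyInjective R (LinearMap.range g).subtype := by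
  intro Q _ _
  have hgf : g ∘ₗ f = 0 := by
    ext l
    have h1 := (h R).apply_apply_eq_zero (l ⊗ₜ[R] (1 : R))
    simp only [LinearMap.rTensor_tmul] at h1
    have h2 := congrArg (TensorProduct.rid R N) h1
    simpa using h2
  have hrf : (LinearMap.rangeRestrict g) ∘ₗ f = 0 := by
    ext l
    have := LinearMap.congr_fun hgf l
    simpa using this
  rw [injective_iff_map_eq_zero]
  intro t ht
  obtain ⟨m, rfl⟩ := LinearMap.rTensor_surjective Q (LinearMap.surjective_rangeRestrict g) t
  rw [← LinearMap.rTensor_comp_apply] at ht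
  have hsub : (LinearMap.range g).subtype ∘ₗ LinearMap.rangeRestrict g = g := by
    ext; simp
  rw [hsub] at ht
  obtain ⟨l, rfl⟩ := (h Q m).mp ht
  rw [← LinearMap.rTensor_comp_apply, hrf]
  simp

/-- exactness with `Q = R` gives plain exactness. -/
lemma exact_of_univ {L M N : Type u} [AddCommGroup L] [Module R L] [AddCommGroup M] [Module R M]
    [AddCommGroup N] [Module R N] (f : L →ₗ[R] M) (g : M →ₗ[R] N)
    (h : Function.Exact (f.rTensor R) (g.rTensor R)) : Function.Exact f g := by
  intro m
  constructor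
  · intro hm
    have h1 : (g.rTensor R) (m ⊗ₜ[R] (1 : R)) = 0 := by simp [hm]
    obtain ⟨t, ht⟩ := (h _).mp h1
    refine ⟨TensorProduct.rid R L t, ?_⟩
    have h2 : ∀ t, f (TensorProduct.rid R L t) = TensorProduct.rid R M (f.rTensor R t) := by
      intro t
      induction t using TensorProduct.induction_on with
      | zero => simp
      | tmul x r => simp
      | add x y hx hy => simp [hx, hy]
    rw [h2, ht]; simp
  · rintro ⟨l, rfl⟩
    have h1 := h.apply_apply_eq_zero (l ⊗ₜ[R] (1 : R))
    simp only [LinearMap.rTensor_tmul] at h1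
    have h2 := congrArg (TensorProduct.rid R N) h1
    simpa using h2

lemma quasiIso_of_univ {K L : ChainComplex (ModuleCat.{u} R) ℕ} (ε : K ⟶ L)
    (h : QuasiIso (((tensorRight (𝟙_ (ModuleCat.{u} R))).mapHomologicalComplex
      (ComplexShape.down ℕ)).map ε)) : QuasiIso ε := by
  haveI : (tensorRight (𝟙_ (ModuleCat.{u} R))).IsEquivalence :=
    Functor.isEquivalence_of_iso (rightUnitorNatIso (ModuleCat.{u} R)).symm
  exact (HomologicalComplex.quasiIso_map_iff_of_preservesHomology ε
    (tensorRight (𝟙_ (ModuleCat.{u} R)))).mp h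

/-- universal exactness in positive degrees. -/
lemma uexact_succ {N' : ChainComplex (ModuleCat.{u} R) ℕ} {N : ModuleCat.{u} R}
    (ε : N' ⟶ (ChainComplex.single₀ (ModuleCat.{u} R)).obj N)
    (hN' : ∀ T : ModuleCat.{u} R,
      QuasiIso (((tensorRight T).mapHomologicalComplex (ComplexShape.down ℕ)).map ε))
    (n : ℕ) (Q : Type u) [AddCommGroup Q] [Module R Q] :
    Function.Exact ((N'.d (n + 2) (n + 1)).hom.rTensor Q) ((N'.d (n + 1) n).hom.rTensor Q) := by
  let T : ModuleCat.{u} R := ModuleCat.of R Q
  haveI := hN' T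
  let F := (tensorRight T).mapHomologicalComplex (ComplexShape.down ℕ)
  have hL : ((F.obj ((ChainComplex.single₀ (ModuleCat.{u} R)).obj N))).ExactAt (n + 1) := by
    rw [HomologicalComplex.exactAt_iff]
    apply ShortComplex.exact_of_isZero_X₂
    exact Functor.map_isZero (tensorRight T) (isZero_single_obj_X _ _ _ _ (by simp))
  have hK : (F.obj N').ExactAt (n + 1) := by
    rw [← quasiIsoAt_iff_exactAt' (F.map ε) (n + 1) hL]
    infer_instance
  have hS := ((HomologicalComplex.exactAt_iff' _ (n + 2) (n + 1) n)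
    (by simp only [ChainComplex.prev]; rfl) (by simp)).1 hK
  exact LinearMap.exact_iff.mpr (hS.moduleCat_range_eq_ker).symm

end modules

end Groth.Agent.Lib.Helper24PureRes
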