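import Mathlib
import Groth.Prelude.Def_CAlgX
import Groth.Agent.Lib.Helper24PureRes

/-!
# Comparison theorem for pure projective resolutions: lifting and homotopy
-/

namespace Groth.Agent.Lib.Helper24PureRes2

open CategoryTheory Category Limits ChainComplex HomologicalComplex MonoidalCategory
open Groth.Agent.Lib.Helper24PureRes

universe u

variable (R : Type u) [CommRing R]

/-- the pure projectivity property used in the statements. -/
def PP (X : ModuleCat.{u} R) : Prop :=
  ∀ ⦃L T : Type u⦄ [AddCommGroup L] [Module R L] [AddCommGroup T] [Module R T] (g : L →ₗ[R] T),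
    Function.Surjective g → CAlgX.UniversallyInjective R (LinearMap.ker g).subtype →
    ∀ φ : X →ₗ[R] T, ∃ ψ : X →ₗ[R] L, g ∘ₗ ψ = φ

variable {R}

lemma lift_of_pp {X : ModuleCat.{u} R} (hX : PP R X) {A B C : ModuleCat.{u} R} (a : A ⟶ B) (b : B ⟶ C)
    (hex : ∀ x : B, b x = 0 → ∃ y : A, a y = x)
    (hpure : CAlgX.UniversallyInjective R (LinearMap.ker a.hom).subtype)
    (h : X ⟶ B) (hh : h ≫ b = 0) : ∃ ψ : X ⟶ A, ψ ≫ a = h := by
  have hmem : ∀ x : X, h.hom x ∈ LinearMap.range a.hom := by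
    intro x
    have h0 : b (h x) = 0 := by
      have := congrArg (fun t => t.hom x) hh
      simpa using this
    obtain ⟨y, hy⟩ := hex _ h0
    exact ⟨y, hy⟩
  let φ : X →ₗ[R] LinearMap.range a.hom := h.hom.codRestrict _ hmem
  have hker : LinearMap.ker a.hom.rangeRestrict = LinearMap.ker a.hom := LinearMap.ker_rangeRestrict _
  have hpure' : CAlgX.UniversallyInjective R (LinearMap.ker a.hom.rangeRestrict).subtype := by
    rw [hker]; exact hpure
  obtain ⟨ψ, hψ⟩ := hX a.hom.rangeRestrict a.hom.surjective_rangeRestrict hpure' φ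
  refine ⟨ModuleCat.ofHom ψ, ?_⟩
  ext x
  have := congrArg (fun t => ((t x : LinearMap.range a.hom) : B)) hψ
  simpa [φ] using this

lemma lift_of_pp_surj {X : ModuleCat.{u} R} (hX : PP R X) {A B : ModuleCat.{u} R} (a : A ⟶ B)
    (hsurj : Function.Surjective a)
    (hpure : CAlgX.UniversallyInjective R (LinearMap.ker a.hom).subtype)
    (h : X ⟶ B) : ∃ ψ : X ⟶ A, ψ ≫ a = h := by
  obtain ⟨ψ, hψ⟩ := hX a.hom hsurj hpure h.hom
  refine ⟨ModuleCat.ofHom ψ, ?_⟩
  ext x
  have := congrArg (fun t => t x) hψ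
  simpa using this

/-- The facts extracted from a universally exact resolution. -/
structure Facts {N' : ChainComplex (ModuleCat.{u} R) ℕ} {N : ModuleCat.{u} R}
    (e0 : N'.X 0 ⟶ N) : Prop where
  surj0 : Function.Surjective e0
  ex0 : ∀ x : N'.X 0, e0 x = 0 → ∃ y : N'.X 1, N'.d 1 0 y = x
  exS : ∀ n, ∀ x : N'.X (n + 1), N'.d (n + 1) n x = 0 → ∃ y : N'.X (n + 2), N'.d (n + 2) (n + 1) y = x
  pure0 : CAlgX.UniversallyInjective R (LinearMap.ker e0.hom).subtype
  pureS : ∀ n, CAlgX.UniversallyInjective R (LinearMap.ker (N'.d (n + 1) n).hom).subtype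

set_option backward.isDefEq.respectTransparency false in
lemma facts {N' : ChainComplex (ModuleCat.{u} R) ℕ} {N : ModuleCat.{u} R}
    (ε : N' ⟶ (ChainComplex.single₀ (ModuleCat.{u} R)).obj N)
    (hN' : ∀ T : ModuleCat.{u} R,
      QuasiIso (((tensorRight T).mapHomologicalComplex (ComplexShape.down ℕ)).map ε)) :
    Facts (N := N) (ε.f 0) := by
  haveI : QuasiIso ε := quasiIso_of_univ R ε (hN' _)
  have hsurj : Function.Surjective (ε.f 0) := by
    haveI := chain_epi_zero ε
    exact (ModuleCat.epi_iff_surjective (ε.f 0)).mp inferInstance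
  have hex0 := (ShortComplex.moduleCat_exact_iff _).mp (chain_exact_zero ε)
  have hexS : ∀ n, ∀ x : N'.X (n + 1), N'.d (n + 1) n x = 0 →
      ∃ y : N'.X (n + 2), N'.d (n + 2) (n + 1) y = x :=
    fun n => (ShortComplex.moduleCat_exact_iff _).mp (chain_exact_succ ε n)
  have hd0 : ∀ y : N'.X 1, (ε.f 0) (N'.d 1 0 y) = 0 := by
    intro y
    have := congrArg (fun t => t.hom y) (chain_d_comp_f_zero ε)
    simpa using this
  have hdd : ∀ n, ∀ y : N'.X (n + 2), N'.d (n + 1) n (N'.d (n + 2) (n + 1) y) = 0 := by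
    intro n y
    exact congrArg (fun t => t.hom y) (N'.d_comp_d (n + 2) (n + 1) n)
  refine ⟨hsurj, hex0, hexS, ?_, ?_⟩
  · have hk : LinearMap.ker (ε.f 0).hom = LinearMap.range (N'.d 1 0).hom := by
      apply le_antisymm
      · intro x hx
        obtain ⟨y, hy⟩ := hex0 x hx
        exact ⟨y, hy⟩
      · rintro _ ⟨y, rfl⟩
        exact hd0 y
    rw [hk]
    exact univInj_range R _ _ (fun Q _ _ => uexact_succ R ε hN' 0 Q)
  · intro n
    have hk : LinearMap.ker (N'.d (n + 1) n).hom = LinearMap.range (N'.d (n + 2) (n + 1)).hom := by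
      apply le_antisymm
      · intro x hx
        obtain ⟨y, hy⟩ := hexS n x hx
        exact ⟨y, hy⟩
      · rintro _ ⟨y, rfl⟩
        exact hdd n y
    rw [hk]
    exact univInj_range R _ _ (fun Q _ _ => uexact_succ R ε hN' (n + 1) Q)

end Groth.Agent.Lib.Helper24PureRes2
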