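import Mathlib
import Groth.Prelude.Def_CAlgX
import Groth.Agent.Lib.Helper24PureRes
import Groth.Agent.Lib.Helper24PureRes2

/-!
# Comparison theorem for pure projective resolutions: the statements
-/

namespace Groth.Agent.Lib.Helper24PureRes3

open CategoryTheory Category Limits ChainComplex HomologicalComplex MonoidalCategory
open Groth.Agent.Lib.Helper24PureRes Groth.Agent.Lib.Helper24PureRes2

universe u

set_option backward.isDefEq.respectTransparency false in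
theorem s8775 (R : Type u) [CommRing R] {M N : ModuleCat.{u} R}
    (f : M ⟶ N) (P N' : ChainComplex (ModuleCat.{u} R) ℕ)
    (π : P ⟶ (ChainComplex.single₀ (ModuleCat.{u} R)).obj M)
    (ε : N' ⟶ (ChainComplex.single₀ (ModuleCat.{u} R)).obj N)
    (hP : ∀ n : ℕ, (∀ ⦃L T : Type u⦄ [AddCommGroup L] [Module R L] [AddCommGroup T] [Module R T] (g : L →ₗ[R] T),
          Function.Surjective g → CAlgX.UniversallyInjective R (LinearMap.ker g).subtype →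
          ∀ φ : P.X n →ₗ[R] T, ∃ ψ : P.X n →ₗ[R] L, g ∘ₗ ψ = φ))
    (hN' : ∀ T : ModuleCat.{u} R,
      QuasiIso (((MonoidalCategory.tensorRight T).mapHomologicalComplex (ComplexShape.down ℕ)).map ε)) :
    ∃ φ : P ⟶ N', φ ≫ ε = π ≫ (ChainComplex.single₀ (ModuleCat.{u} R)).map f := by
  have F := facts ε hN'
  have hPP : ∀ n, PP R (P.X n) := hP
  obtain ⟨φ₀, h₀⟩ := lift_of_pp_surj (hPP 0) (ε.f 0) F.surj0 F.pure0 (π.f 0 ≫ f)
  obtain ⟨φ₁, h₁⟩ := lift_of_pp (hPP 1) (N'.d 1 0) (ε.f 0) F.ex0 (F.pureS 0) (P.d 1 0 ≫ φ₀) (by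
    rw [assoc, h₀, ← assoc, chain_d_comp_f_zero π, zero_comp])
  have succ : ∀ (n : ℕ) (p : Σ' (f : P.X n ⟶ N'.X n) (f' : P.X (n + 1) ⟶ N'.X (n + 1)),
      f' ≫ N'.d (n + 1) n = P.d (n + 1) n ≫ f),
      Σ' f'' : P.X (n + 2) ⟶ N'.X (n + 2), f'' ≫ N'.d (n + 2) (n + 1) = P.d (n + 2) (n + 1) ≫ p.2.1 :=
    fun n p =>
      have h := lift_of_pp (hPP (n + 2)) (N'.d (n + 2) (n + 1)) (N'.d (n + 1) n) (F.exS n)
        (F.pureS (n + 1)) (P.d (n + 2) (n + 1) ≫ p.2.1) (by simp [p.2.2])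
      ⟨h.choose, h.choose_spec⟩
  refine ⟨ChainComplex.mkHom _ _ φ₀ φ₁ h₁ succ, ?_⟩
  ext
  simp [h₀]

/-- a chain map killed by the augmentation is null-homotopic. -/
theorem homotopy_zero (R : Type u) [CommRing R] {N : ModuleCat.{u} R}
    (P N' : ChainComplex (ModuleCat.{u} R) ℕ)
    (ε : N' ⟶ (ChainComplex.single₀ (ModuleCat.{u} R)).obj N)
    (hPP : ∀ n, PP R (P.X n))
    (hN' : ∀ T : ModuleCat.{u} R,
      QuasiIso (((MonoidalCategory.tensorRight T).mapHomologicalComplex (ComplexShape.down ℕ)).map ε))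
    (e : P ⟶ N') (he : e ≫ ε = 0) : Nonempty (Homotopy e 0) := by
  have F := facts ε hN'
  obtain ⟨z, hz⟩ := lift_of_pp (hPP 0) (N'.d 1 0) (ε.f 0) F.ex0 (F.pureS 0) (e.f 0)
    (congr_fun (congr_arg HomologicalComplex.Hom.f he) 0)
  obtain ⟨o, ho⟩ := lift_of_pp (hPP 1) (N'.d 2 1) (N'.d 1 0) (F.exS 0) (F.pureS 1)
    (e.f 1 - P.d 1 0 ≫ z) (by
      rw [Preadditive.sub_comp, assoc, HomologicalComplex.Hom.comm, hz, sub_self])
  have succ : ∀ (n : ℕ) (p : Σ' (f : P.X n ⟶ N'.X (n + 1)) (f' : P.X (n + 1) ⟶ N'.X (n + 2)),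
        e.f (n + 1) = P.d (n + 1) n ≫ f + f' ≫ N'.d (n + 2) (n + 1)),
      Σ' f'' : P.X (n + 2) ⟶ N'.X (n + 3),
        e.f (n + 2) = P.d (n + 2) (n + 1) ≫ p.2.1 + f'' ≫ N'.d (n + 3) (n + 2) :=
    fun n p =>
      have h := lift_of_pp (hPP (n + 2)) (N'.d (n + 3) (n + 2)) (N'.d (n + 2) (n + 1)) (F.exS (n + 1))
        (F.pureS (n + 2)) (e.f (n + 2) - P.d (n + 2) (n + 1) ≫ p.2.1) (by simp [p.2.2])
      ⟨h.choose, by rw [h.choose_spec]; abel⟩
  exact ⟨Homotopy.mkInductive _ z (by rw [hz]) o (by rw [ho]; abel) succ⟩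

theorem s8776 (R : Type u) [CommRing R] {M N : ModuleCat.{u} R}
    (f : M ⟶ N) (P N' : ChainComplex (ModuleCat.{u} R) ℕ)
    (π : P ⟶ (ChainComplex.single₀ (ModuleCat.{u} R)).obj M)
    (ε : N' ⟶ (ChainComplex.single₀ (ModuleCat.{u} R)).obj N)
    (hP : ∀ n : ℕ, (∀ ⦃L T : Type u⦄ [AddCommGroup L] [Module R L] [AddCommGroup T] [Module R T] (g : L →ₗ[R] T),
          Function.Surjective g → CAlgX.UniversallyInjective R (LinearMap.ker g).subtype →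
          ∀ φ : P.X n →ₗ[R] T, ∃ ψ : P.X n →ₗ[R] L, g ∘ₗ ψ = φ))
    (hN' : ∀ T : ModuleCat.{u} R,
      QuasiIso (((MonoidalCategory.tensorRight T).mapHomologicalComplex (ComplexShape.down ℕ)).map ε))
    (α β : P ⟶ N') (hα : α ≫ ε = π ≫ (ChainComplex.single₀ (ModuleCat.{u} R)).map f)
    (hβ : β ≫ ε = π ≫ (ChainComplex.single₀ (ModuleCat.{u} R)).map f) : Nonempty (Homotopy α β) := by
  obtain ⟨h⟩ := homotopy_zero R P N' ε hP hN' (α - β) (by rw [Preadditive.sub_comp, hα, hβ, sub_self])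
  exact ⟨Homotopy.equivSubZero.invFun h⟩

end Groth.Agent.Lib.Helper24PureRes3
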