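import Mathlib
import Groth.Prelude.Def_CAlgX
import Groth.Agent.Lib.Helper24PureRes

/-!
# Comparison theorem for pure injective resolutions (cochain side): exactness facts
-/

namespace Groth.Agent.Lib.Helper24PureRes4

open CategoryTheory Category Limits CochainComplex HomologicalComplex MonoidalCategory
open Groth.Agent.Lib.Helper24PureRes

universe u

section general

variable {C : Type*} [Category C] [Abelian C]

lemma cochain_exact_succ {K : CochainComplex C ℕ} {X : C} (ι : (CochainComplex.single₀ C).obj X ⟶ K)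
    [QuasiIso ι] (n : ℕ) :
    (ShortComplex.mk _ _ (K.d_comp_d n (n + 1) (n + 2))).Exact := by
  have h : K.ExactAt (n + 1) := by
    rw [← quasiIsoAt_iff_exactAt ι (n + 1) (exactAt_succ_single_obj _ _)]
    infer_instance
  exact (HomologicalComplex.exactAt_iff' _ n (n + 1) (n + 2) (by simp)
    (by simp only [CochainComplex.next]; rfl)).1 h

set_option backward.isDefEq.respectTransparency false in
lemma cochain_f_zero_comp_d {K : CochainComplex C ℕ} {X : C} (ι : (CochainComplex.single₀ C).obj X ⟶ K) :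
    ι.f 0 ≫ K.d 0 1 = 0 := by
  simp

set_option backward.defeqAttrib.useBackward true in
set_option backward.isDefEq.respectTransparency false in
noncomputable def cochainIsLimit {K : CochainComplex C ℕ} {X : C}
    (ι : (CochainComplex.single₀ C).obj X ⟶ K) [QuasiIso ι] :
    IsLimit (KernelFork.ofι (f := K.d 0 1) (ι.f 0) (cochain_f_zero_comp_d ι)) := by
  refine IsLimit.ofIsoLimit (K.cyclesIsKernel 0 1 (by simp)) (Iso.symm ?_)
  refine Fork.ext ((singleObjHomologySelfIso _ _ _).symm ≪≫
    isoOfQuasiIsoAt ι 0 ≪≫ K.isoHomologyπ₀.symm) ?_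
  rw [← cancel_epi (singleObjHomologySelfIso (ComplexShape.up ℕ) _ _).hom,
    ← cancel_epi (isoHomologyπ₀ _).hom,
    ← cancel_epi (singleObjCyclesSelfIso (ComplexShape.up ℕ) _ _).inv]
  simp

lemma cochain_exact_zero {K : CochainComplex C ℕ} {X : C} (ι : (CochainComplex.single₀ C).obj X ⟶ K)
    [QuasiIso ι] :
    (ShortComplex.mk _ _ (cochain_f_zero_comp_d ι)).Exact :=
  ShortComplex.exact_of_f_is_kernel _ (cochainIsLimit ι)

lemma cochain_mono_zero {K : CochainComplex C ℕ} {X : C} (ι : (CochainComplex.single₀ C).obj X ⟶ K)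
    [QuasiIso ι] : Mono (ι.f 0) :=
  mono_of_isLimit_fork (cochainIsLimit ι)

end general


section modules

variable {R : Type u} [CommRing R]

/-- the coaugmentation of the tensored complex, from an honest `single₀`. -/
noncomputable def iotaT {M : ModuleCat.{u} R} {M' : CochainComplex (ModuleCat.{u} R) ℕ}
    (η : (CochainComplex.single₀ (ModuleCat.{u} R)).obj M ⟶ M') (T : ModuleCat.{u} R) :
    (CochainComplex.single₀ (ModuleCat.{u} R)).obj ((tensorRight T).obj M) ⟶
      ((tensorRight T).mapHomologicalComplex (ComplexShape.up ℕ)).obj M' :=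
  (HomologicalComplex.singleMapHomologicalComplex (tensorRight T) (ComplexShape.up ℕ) 0).inv.app M ≫
    ((tensorRight T).mapHomologicalComplex (ComplexShape.up ℕ)).map η

lemma quasiIso_iotaT {M : ModuleCat.{u} R} {M' : CochainComplex (ModuleCat.{u} R) ℕ}
    (η : (CochainComplex.single₀ (ModuleCat.{u} R)).obj M ⟶ M') (T : ModuleCat.{u} R)
    (h : QuasiIso (((tensorRight T).mapHomologicalComplex (ComplexShape.up ℕ)).map η)) :
    QuasiIso (iotaT η T) := by
  unfold iotaT
  infer_instance

/-- The facts extracted from a universally exact coresolution. -/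
structure CoFacts {M' : CochainComplex (ModuleCat.{u} R) ℕ} {M : ModuleCat.{u} R}
    (e0 : M ⟶ M'.X 0) : Prop where
  inj0 : CAlgX.UniversallyInjective R e0.hom
  ex0 : ∀ x : M'.X 0, M'.d 0 1 x = 0 → ∃ y : M, e0 y = x
  exS : ∀ n, ∀ x : M'.X (n + 1), M'.d (n + 1) (n + 2) x = 0 → ∃ y : M'.X n, M'.d n (n + 1) y = x
  pure0 : CAlgX.UniversallyInjective R (LinearMap.range (M'.d 0 1).hom).subtype
  pureS : ∀ n, CAlgX.UniversallyInjective R (LinearMap.range (M'.d (n + 1) (n + 2)).hom).subtype

set_option backward.isDefEq.respectTransparency false in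
lemma uexact_succ' {M : ModuleCat.{u} R} {M' : CochainComplex (ModuleCat.{u} R) ℕ}
    (η : (CochainComplex.single₀ (ModuleCat.{u} R)).obj M ⟶ M')
    (hM' : ∀ T : ModuleCat.{u} R,
      QuasiIso (((tensorRight T).mapHomologicalComplex (ComplexShape.up ℕ)).map η))
    (n : ℕ) (Q : Type u) [AddCommGroup Q] [Module R Q] :
    Function.Exact ((M'.d n (n + 1)).hom.rTensor Q) ((M'.d (n + 1) (n + 2)).hom.rTensor Q) := by
  let T : ModuleCat.{u} R := ModuleCat.of R Q
  haveI := quasiIso_iotaT η T (hM' T)
  have hS := cochain_exact_succ (iotaT η T) n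
  exact LinearMap.exact_iff.mpr (hS.moduleCat_range_eq_ker).symm

set_option backward.isDefEq.respectTransparency false in
lemma uinj_zero {M : ModuleCat.{u} R} {M' : CochainComplex (ModuleCat.{u} R) ℕ}
    (η : (CochainComplex.single₀ (ModuleCat.{u} R)).obj M ⟶ M')
    (hM' : ∀ T : ModuleCat.{u} R,
      QuasiIso (((tensorRight T).mapHomologicalComplex (ComplexShape.up ℕ)).map η))
    (Q : Type u) [AddCommGroup Q] [Module R Q] :
    Function.Injective ((η.f 0).hom.rTensor Q) := by
  let T : ModuleCat.{u} R := ModuleCat.of R Q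
  haveI := quasiIso_iotaT η T (hM' T)
  haveI := cochain_mono_zero (iotaT η T)
  let u := ((HomologicalComplex.singleMapHomologicalComplex (tensorRight T)
    (ComplexShape.up ℕ) 0).inv.app M).f 0
  have hfac : (iotaT η T).f 0 = u ≫ (η.f 0 ▷ T) := rfl
  haveI : IsIso u := inferInstance
  have hm : Mono (η.f 0 ▷ T) := by
    have : η.f 0 ▷ T = inv u ≫ (iotaT η T).f 0 := by rw [hfac, IsIso.inv_hom_id_assoc]
    rw [this]
    infer_instance
  exact (ModuleCat.mono_iff_injective _).mp hm

set_option backward.isDefEq.respectTransparency false in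
lemma uexact_zero {M : ModuleCat.{u} R} {M' : CochainComplex (ModuleCat.{u} R) ℕ}
    (η : (CochainComplex.single₀ (ModuleCat.{u} R)).obj M ⟶ M')
    (hM' : ∀ T : ModuleCat.{u} R,
      QuasiIso (((tensorRight T).mapHomologicalComplex (ComplexShape.up ℕ)).map η))
    (Q : Type u) [AddCommGroup Q] [Module R Q] :
    Function.Exact ((η.f 0).hom.rTensor Q) ((M'.d 0 1).hom.rTensor Q) := by
  let T : ModuleCat.{u} R := ModuleCat.of R Q
  haveI := quasiIso_iotaT η T (hM' T)
  have hS := (ShortComplex.moduleCat_exact_iff _).mp (cochain_exact_zero (iotaT η T))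
  let u := ((HomologicalComplex.singleMapHomologicalComplex (tensorRight T)
    (ComplexShape.up ℕ) 0).inv.app M).f 0
  have hfac : (iotaT η T).f 0 = u ≫ (η.f 0 ▷ T) := rfl
  have hgf : (M'.d 0 1).hom ∘ₗ (η.f 0).hom = 0 := by
    have := cochain_f_zero_comp_d η
    ext x
    exact congrArg (fun t => t.hom x) this
  intro y
  constructor
  · intro hy
    obtain ⟨x₁, hx₁⟩ := hS y hy
    refine ⟨u x₁, ?_⟩
    have h2 : ((iotaT η T).f 0) x₁ = y := hx₁
    rw [hfac] at h2
    exact h2
  · rintro ⟨x, rfl⟩
    rw [← LinearMap.comp_apply, ← LinearMap.rTensor_comp, hgf, LinearMap.rTensor_zero]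
    rfl

end modules

end Groth.Agent.Lib.Helper24PureRes4
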