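import Mathlib
import Groth.Prelude.Def_CAlgX
import Groth.Agent.Lib.Helper24PureRes
import Groth.Agent.Lib.Helper24PureRes4

/-!
# Comparison theorem for pure injective resolutions: extension and homotopy
-/

namespace Groth.Agent.Lib.Helper24PureRes5

open CategoryTheory Category Limits CochainComplex HomologicalComplex MonoidalCategory
open Groth.Agent.Lib.Helper24PureRes Groth.Agent.Lib.Helper24PureRes4

universe u

variable (R : Type u) [CommRing R]

/-- the pure injectivity property used in the statements. -/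
def PI (X : ModuleCat.{u} R) : Prop :=
  ∀ ⦃K L : Type u⦄ [AddCommGroup K] [Module R K] [AddCommGroup L] [Module R L] (g : K →ₗ[R] L),
    CAlgX.UniversallyInjective R g → ∀ φ : K →ₗ[R] X, ∃ ψ : L →ₗ[R] X, ψ ∘ₗ g = φ

variable {R}

lemma ext_of_pi_inj {X : ModuleCat.{u} R} (hX : PI R X) {A B : ModuleCat.{u} R} (a : A ⟶ B)
    (hinj : CAlgX.UniversallyInjective R a.hom) (h : A ⟶ X) : ∃ ψ : B ⟶ X, a ≫ ψ = h := by
  obtain ⟨ψ, hψ⟩ := hX a.hom hinj h.hom
  refine ⟨ModuleCat.ofHom ψ, ?_⟩
  ext x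
  have := congrArg (fun t => t x) hψ
  simpa using this

lemma ext_of_pi {X : ModuleCat.{u} R} (hX : PI R X) {A B C : ModuleCat.{u} R} (a : A ⟶ B) (b : B ⟶ C)
    (hex : ∀ x : B, b x = 0 → ∃ y : A, a y = x)
    (hpure : CAlgX.UniversallyInjective R (LinearMap.range b.hom).subtype)
    (h : B ⟶ X) (hh : a ≫ h = 0) : ∃ ψ : C ⟶ X, b ≫ ψ = h := by
  have hker : LinearMap.ker b.hom ≤ LinearMap.ker h.hom := by
    intro x hx
    obtain ⟨y, rfl⟩ := hex x hx
    exact congrArg (fun t => t.hom y) hh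
  let h' : LinearMap.range b.hom →ₗ[R] X :=
    ((LinearMap.ker b.hom).liftQ h.hom hker) ∘ₗ (b.hom.quotKerEquivRange.symm : _ →ₗ[R] _)
  obtain ⟨ψ, hψ⟩ := hX (LinearMap.range b.hom).subtype hpure h'
  refine ⟨ModuleCat.ofHom ψ, ?_⟩
  ext x
  have h1 := congrArg (fun t => t ⟨b.hom x, LinearMap.mem_range_self _ x⟩) hψ
  have h2 : h' ⟨b.hom x, LinearMap.mem_range_self _ x⟩ = h.hom x := by
    simp only [h', LinearMap.comp_apply, LinearEquiv.coe_coe]
    rw [LinearMap.quotKerEquivRange_symm_apply_image]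
    rfl
  simp only [LinearMap.comp_apply, Submodule.subtype_apply] at h1
  rw [h2] at h1
  simpa using h1

set_option backward.isDefEq.respectTransparency false in
lemma cofacts {M : ModuleCat.{u} R} {M' : CochainComplex (ModuleCat.{u} R) ℕ}
    (η : (CochainComplex.single₀ (ModuleCat.{u} R)).obj M ⟶ M')
    (hM' : ∀ T : ModuleCat.{u} R,
      QuasiIso (((tensorRight T).mapHomologicalComplex (ComplexShape.up ℕ)).map η)) :
    CoFacts (M := M) (η.f 0) := by
  have h0 := exact_of_univ R _ _ (uexact_zero η hM' R)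
  have hS := fun n => exact_of_univ R _ _ (uexact_succ' η hM' n R)
  refine ⟨fun Q _ _ => uinj_zero η hM' Q, ?_, ?_, ?_, ?_⟩
  · intro x hx
    exact (h0 x).mp hx
  · intro n x hx
    exact (hS n x).mp hx
  · exact univInj_range R _ _ (fun Q _ _ => uexact_zero η hM' Q)
  · intro n
    exact univInj_range R _ _ (fun Q _ _ => uexact_succ' η hM' n Q)

end Groth.Agent.Lib.Helper24PureRes5
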