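import Mathlib
import Groth.Prelude.Def_CAlgX
import Groth.Agent.Lib.Helper24PureRes
import Groth.Agent.Lib.Helper24PureRes4
import Groth.Agent.Lib.Helper24PureRes5

/-!
# Comparison theorem for pure injective resolutions: the statements
-/

namespace Groth.Agent.Lib.Helper24PureRes6

open CategoryTheory Category Limits CochainComplex HomologicalComplex MonoidalCategory
open Groth.Agent.Lib.Helper24PureRes Groth.Agent.Lib.Helper24PureRes4 Groth.Agent.Lib.Helper24PureRes5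

universe u

set_option backward.isDefEq.respectTransparency false in
theorem s8778 (R : Type u) [CommRing R] {M N : ModuleCat.{u} R}
    (f : M ⟶ N) (M' I : CochainComplex (ModuleCat.{u} R) ℕ)
    (η : (CochainComplex.single₀ (ModuleCat.{u} R)).obj M ⟶ M')
    (ε : (CochainComplex.single₀ (ModuleCat.{u} R)).obj N ⟶ I)
    (hM' : ∀ T : ModuleCat.{u} R,
      QuasiIso (((MonoidalCategory.tensorRight T).mapHomologicalComplex (ComplexShape.up ℕ)).map η))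
    (hI : ∀ n : ℕ, (∀ ⦃K L : Type u⦄ [AddCommGroup K] [Module R K] [AddCommGroup L] [Module R L] (g : K →ₗ[R] L),
          CAlgX.UniversallyInjective R g → ∀ φ : K →ₗ[R] I.X n, ∃ ψ : L →ₗ[R] I.X n, ψ ∘ₗ g = φ)) :
    ∃ φ : M' ⟶ I, η ≫ φ = (CochainComplex.single₀ (ModuleCat.{u} R)).map f ≫ ε := by
  have F := cofacts η hM'
  have hPI : ∀ n, PI R (I.X n) := hI
  obtain ⟨φ₀, h₀⟩ := ext_of_pi_inj (hPI 0) (η.f 0) F.inj0 (f ≫ ε.f 0)
  obtain ⟨φ₁, h₁⟩ := ext_of_pi (hPI 1) (η.f 0) (M'.d 0 1) F.ex0 F.pure0 (φ₀ ≫ I.d 0 1) (by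
    rw [← assoc, h₀, assoc, cochain_f_zero_comp_d ε, comp_zero])
  have succ : ∀ (n : ℕ) (p : Σ' (f : M'.X n ⟶ I.X n) (f' : M'.X (n + 1) ⟶ I.X (n + 1)),
          f ≫ I.d n (n + 1) = M'.d n (n + 1) ≫ f'),
      Σ' f'' : M'.X (n + 2) ⟶ I.X (n + 2), p.2.1 ≫ I.d (n + 1) (n + 2) = M'.d (n + 1) (n + 2) ≫ f'' :=
    fun n p =>
      have h := ext_of_pi (hPI (n + 2)) (M'.d n (n + 1)) (M'.d (n + 1) (n + 2)) (F.exS n) (F.pureS n)
        (p.2.1 ≫ I.d (n + 1) (n + 2)) (by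
          rw [← assoc, ← p.2.2, assoc, I.d_comp_d, comp_zero])
      ⟨h.choose, h.choose_spec.symm⟩
  refine ⟨CochainComplex.mkHom _ _ φ₀ φ₁ h₁.symm succ, ?_⟩
  ext
  simp [h₀]

/-- a cochain map killed by the coaugmentation is null-homotopic. -/
theorem homotopy_zero (R : Type u) [CommRing R] {M : ModuleCat.{u} R}
    (M' I : CochainComplex (ModuleCat.{u} R) ℕ)
    (η : (CochainComplex.single₀ (ModuleCat.{u} R)).obj M ⟶ M')
    (hM' : ∀ T : ModuleCat.{u} R,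
      QuasiIso (((MonoidalCategory.tensorRight T).mapHomologicalComplex (ComplexShape.up ℕ)).map η))
    (hPI : ∀ n, PI R (I.X n))
    (e : M' ⟶ I) (he : η ≫ e = 0) : Nonempty (Homotopy e 0) := by
  have F := cofacts η hM'
  obtain ⟨z, hz⟩ := ext_of_pi (hPI 0) (η.f 0) (M'.d 0 1) F.ex0 F.pure0 (e.f 0)
    (congr_fun (congr_arg HomologicalComplex.Hom.f he) 0)
  obtain ⟨o, ho⟩ := ext_of_pi (hPI 1) (M'.d 0 1) (M'.d 1 2) (F.exS 0) (F.pureS 0)
    (e.f 1 - z ≫ I.d 0 1) (by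
      rw [Preadditive.comp_sub, ← assoc, hz, HomologicalComplex.Hom.comm, sub_self])
  have succ : ∀ (n : ℕ) (p : Σ' (f : M'.X (n + 1) ⟶ I.X n) (f' : M'.X (n + 2) ⟶ I.X (n + 1)),
          e.f (n + 1) = f ≫ I.d n (n + 1) + M'.d (n + 1) (n + 2) ≫ f'),
      Σ' f'' : M'.X (n + 3) ⟶ I.X (n + 2),
        e.f (n + 2) = p.2.1 ≫ I.d (n + 1) (n + 2) + M'.d (n + 2) (n + 3) ≫ f'' :=
    fun n ⟨g, g', w⟩ =>
      have h := ext_of_pi (hPI (n + 2)) (M'.d (n + 1) (n + 2)) (M'.d (n + 2) (n + 3)) (F.exS (n + 1))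
        (F.pureS (n + 1)) (e.f (n + 2) - g' ≫ I.d (n + 1) (n + 2)) (by
          rw [Preadditive.comp_sub, ← HomologicalComplex.Hom.comm, w, Preadditive.add_comp,
            Category.assoc, Category.assoc, HomologicalComplex.d_comp_d, comp_zero,
            zero_add, sub_self])
      ⟨h.choose, by rw [h.choose_spec]; abel⟩
  exact ⟨Homotopy.mkCoinductive _ z (by rw [hz]) o (by rw [ho]; abel) succ⟩

theorem s8779 (R : Type u) [CommRing R] {M N : ModuleCat.{u} R}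
    (f : M ⟶ N) (M' I : CochainComplex (ModuleCat.{u} R) ℕ)
    (η : (CochainComplex.single₀ (ModuleCat.{u} R)).obj M ⟶ M')
    (ε : (CochainComplex.single₀ (ModuleCat.{u} R)).obj N ⟶ I)
    (hM' : ∀ T : ModuleCat.{u} R,
      QuasiIso (((MonoidalCategory.tensorRight T).mapHomologicalComplex (ComplexShape.up ℕ)).map η))
    (hI : ∀ n : ℕ, (∀ ⦃K L : Type u⦄ [AddCommGroup K] [Module R K] [AddCommGroup L] [Module R L] (g : K →ₗ[R] L),
          CAlgX.UniversallyInjective R g → ∀ φ : K →ₗ[R] I.X n, ∃ ψ : L →ₗ[R] I.X n, ψ ∘ₗ g = φ))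
    (α β : M' ⟶ I) (hα : η ≫ α = (CochainComplex.single₀ (ModuleCat.{u} R)).map f ≫ ε)
    (hβ : η ≫ β = (CochainComplex.single₀ (ModuleCat.{u} R)).map f ≫ ε) : Nonempty (Homotopy α β) := by
  obtain ⟨h⟩ := homotopy_zero R M' I η hM' hI (α - β) (by rw [Preadditive.comp_sub, hα, hβ, sub_self])
  exact ⟨Homotopy.equivSubZero.invFun h⟩

end Groth.Agent.Lib.Helper24PureRes6
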