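import Mathlib
import Groth.Agent.Lib.Helper24EdgeId

set_option autoImplicit false
universe u

namespace Groth.Agent.Lib.Helper24QPow

open W4c1hilbpn MvPolynomial Groth.Agent.Lib.Helper24TgtPiece Groth.Agent.Lib.Helper24GenV
open Groth.Agent.Lib.Helper24TwoBlk (gen gen_apply gen_le_iff gen_comm)
open Groth.Agent.Lib.Helper24Nest (Cfg Mid αd α4 nn_αd sum_αd sum_α4 gen_le_iff' shift_cast
  finrank_V_of_isolated zero_of_bad)
open Groth.Agent.Lib.Helper24EdgeId (exists_gen_of_sum_two sum_gen α4_left α4_left' α4_right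
  α4_right' αd_self shift_gen_α4 nn_gen_α4 nn_α4_iff shift_gen_αd gen_right_cancel gen_le_gen)

variable {σ : Type*} [Fintype σ] [DecidableEq σ] {k : Type*} [Field k]

/-- index type of the generators -/
inductive GQ (M : Type*) : Type _
  | bb : GQ M
  | bb' : GQ M
  | bm (x : M) : GQ M
  | Q : GQ M
  deriving DecidableEq

/-- exponent vectors of the generators of `x_b (x_b, x_b', x_m) + (x_b'^q)` -/
noncomputable def gQ (C : Cfg σ) (q : ℕ) : GQ (Mid C) → σ →₀ ℕ
  | .bb => gen C.b C.b
  | .bb' => gen C.b C.b'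
  | .bm x => gen C.b x.1
  | .Q => Finsupp.single C.b' q

section le

variable (C : Cfg σ) (q : ℕ) (γ : σ →₀ ℕ)

lemma le_bb : gQ C q .bb ≤ γ ↔ 2 ≤ γ C.b := by
  show gen C.b C.b ≤ γ ↔ _
  rw [gen_le_iff']
  constructor
  · intro h; exact h.2.2 rfl
  · intro h; exact ⟨by omega, by omega, fun _ => h⟩

lemma le_bb' : gQ C q .bb' ≤ γ ↔ 1 ≤ γ C.b ∧ 1 ≤ γ C.b' := by
  show gen C.b C.b' ≤ γ ↔ _
  rw [gen_le_iff C.hbb]

lemma le_bm (x : Mid C) : gQ C q (.bm x) ≤ γ ↔ 1 ≤ γ C.b ∧ 1 ≤ γ x.1 := by
  show gen C.b x.1 ≤ γ ↔ _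
  rw [gen_le_iff (Ne.symm x.2.1)]

lemma le_Q : gQ C q .Q ≤ γ ↔ q ≤ γ C.b' := by
  show Finsupp.single C.b' q ≤ γ ↔ _
  constructor
  · intro h
    have := h C.b'
    rwa [Finsupp.single_eq_same] at this
  · intro h x
    rw [Finsupp.single_apply]
    split_ifs with hx
    · subst hx; exact h
    · exact Nat.zero_le _

end le

/-- closed form for the standard monomials -/
lemma std_iff' (C : Cfg σ) (q : ℕ) (w : σ →₀ ℕ) : Std (gQ C q) w ↔
    w C.b' < q ∧ (w C.b = 0 ∨ (w C.b = 1 ∧ w C.b' = 0 ∧ ∀ x : Mid C, w x.1 = 0)) := by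
  constructor
  · intro hS
    have h1 := hS .bb
    have h2 := hS .Q
    have h3 := hS .bb'
    rw [le_bb] at h1
    rw [le_Q] at h2
    rw [le_bb'] at h3
    refine ⟨by omega, ?_⟩
    by_cases hz : w C.b = 0
    · exact Or.inl hz
    · right
      refine ⟨by omega, by omega, fun x => ?_⟩
      have h4 := (le_bm C q w x).not.mp (hS _)
      omega
  · rintro ⟨h0, h⟩ i hi
    cases i with
    | bb => rw [le_bb] at hi; omega
    | bb' => rw [le_bb'] at hi; omega
    | Q => rw [le_Q] at hi; omega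
    | bm x =>
      rw [le_bm] at hi
      rcases h with h | ⟨h1, h2, h3⟩
      · omega
      · have := h3 x
        omega

/-- closed form for standardness of a shifted monomial -/
lemma std_shift_iff (C : Cfg σ) (q : ℕ) {γ : σ →₀ ℕ} {α : σ → ℤ} (hn : nn γ α) :
    Std (gQ C q) (shift γ α) ↔
      ((γ C.b' : ℤ) + α C.b' < q ∧ ((γ C.b : ℤ) + α C.b = 0 ∨
        ((γ C.b : ℤ) + α C.b = 1 ∧ (γ C.b' : ℤ) + α C.b' = 0 ∧
          ∀ x : Mid C, (γ x.1 : ℤ) + α x.1 = 0))) := by
  rw [std_iff']
  have eb := shift_cast hn C.b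
  have eb' := shift_cast hn C.b'
  constructor
  · rintro ⟨h0, h⟩
    refine ⟨by omega, ?_⟩
    rcases h with h | ⟨h1, h2, h3⟩
    · left; omega
    · right
      refine ⟨by omega, by omega, fun x => ?_⟩
      have := shift_cast hn x.1
      have := h3 x
      omega
  · rintro ⟨h0, h⟩
    refine ⟨by omega, ?_⟩
    rcases h with h | ⟨h1, h2, h3⟩
    · left; omega
    · right
      refine ⟨by omega, by omega, fun x => ?_⟩
      have := shift_cast hn x.1
      have := h3 x
      omega

section evals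

variable (C : Cfg σ) (q : ℕ)

lemma gQ_b (i : GQ (Mid C)) : gQ C q i C.b =
    match i with | .bb => 2 | .bb' => 1 | .bm _ => 1 | .Q => 0 := by
  cases i with
  | bb => simp [gQ, gen_apply]
  | bb' => simp [gQ, gen_apply, C.hbb.symm]
  | bm x => simp [gQ, gen_apply, x.2.1]
  | Q => simp [gQ, Finsupp.single_apply, C.hbb.symm]

lemma gQ_b' (i : GQ (Mid C)) : gQ C q i C.b' =
    match i with | .bb => 0 | .bb' => 1 | .bm _ => 0 | .Q => q := by
  cases i with
  | bb => simp [gQ, gen_apply, C.hbb]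
  | bb' => simp [gQ, gen_apply, C.hbb]
  | bm x => simp [gQ, gen_apply, x.2.2.1, C.hbb]
  | Q => simp [gQ]

lemma gQ_mid (i : GQ (Mid C)) (x : Mid C) : gQ C q i x.1 =
    match i with | .bm y => if y.1 = x.1 then 1 else 0 | _ => 0 := by
  cases i with
  | bb => simp [gQ, gen_apply, Ne.symm x.2.1]
  | bb' => simp [gQ, gen_apply, Ne.symm x.2.1, Ne.symm x.2.2.1]
  | bm y => simp [gQ, gen_apply, Ne.symm x.2.1]
  | Q => simp [gQ, Finsupp.single_apply, Ne.symm x.2.2.1]

lemma gQ_a (i : GQ (Mid C)) : gQ C q i C.a = 0 := by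
  cases i with
  | bb => simp [gQ, gen_apply, C.hba]
  | bb' => simp [gQ, gen_apply, C.hba, C.hb'a]
  | bm y => simp [gQ, gen_apply, C.hba, y.2.2.2]
  | Q => simp [gQ, Finsupp.single_apply, C.hb'a]

end evals

section PieceXB

variable (C : Cfg σ) (q : ℕ) (hq : 2 ≤ q)

lemma αxb_b {x : σ} (hx : x ≠ C.b) : αd x C.b C.b = -1 := by simp [αd, Ne.symm hx]

lemma αxb_b' {x : σ} : αd x C.b C.b' = if x = C.b' then 1 else 0 := by
  simp [αd, C.hbb.symm, eq_comm]

lemma αxb_mid {x : σ} (m : Mid C) : αd x C.b m.1 = if x = m.1 then 1 else 0 := by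
  simp [αd, m.2.1, eq_comm]

/-- the constraints on a common multiple, multidegree `e_x - e_b` -/
lemma lnkXB {x : σ} (hx : x ≠ C.b) {γ : σ →₀ ℕ} (hn : nn γ (αd x C.b))
    (hS : Std (gQ C q) (shift γ (αd x C.b))) :
    1 ≤ γ C.b ∧ (γ C.b' : ℤ) + (if x = C.b' then 1 else 0) < q ∧
      (γ C.b = 1 ∨ (γ C.b = 2 ∧ x ≠ C.b' ∧ γ C.b' = 0 ∧
        ∀ m : Mid C, x ≠ m.1 ∧ γ m.1 = 0)) := by
  rw [std_shift_iff C q hn, αxb_b C hx, αxb_b'] at hS
  have h1 := (nn_αd γ).mp hn hx
  obtain ⟨h2, h3⟩ := hS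
  refine ⟨h1, h2, ?_⟩
  rcases h3 with h3 | ⟨h3, h4, h5⟩
  · left; omega
  · right
    have hxb' : x ≠ C.b' := by
      intro h
      rw [if_pos h] at h4
      omega
    rw [if_neg hxb'] at h4
    refine ⟨by omega, hxb', by omega, fun m => ?_⟩
    have := h5 m
    rw [αxb_mid] at this
    by_cases hxm : x = m.1
    · rw [if_pos hxm] at this
      omega
    · rw [if_neg hxm] at this
      exact ⟨hxm, by omega⟩

/-- labels for the multidegree `e_a - e_b` -/
def ℓ1 : GQ (Mid C) → Option (Fin 2)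
  | .bb => some 0
  | .bb' => some 1
  | .bm _ => some 1
  | .Q => none

lemma nnXB {x : σ} (hx : x ≠ C.b) (γ : σ →₀ ℕ) : nn γ (αd x C.b) ↔ 1 ≤ γ C.b := by
  rw [nn_αd]
  exact ⟨fun h => h hx, fun h _ => h⟩

/-- standardness of a shift by `e_x - e_b` when `γ_b = 1` -/
lemma stdXB_one {x : σ} (hx : x ≠ C.b) {γ : σ →₀ ℕ} (h1 : γ C.b = 1)
    (h2 : (γ C.b' : ℤ) + (if x = C.b' then 1 else 0) < q) :
    Std (gQ C q) (shift γ (αd x C.b)) := by
  have hn : nn γ (αd x C.b) := (nnXB C hx γ).mpr (by omega)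
  rw [std_shift_iff C q hn, αxb_b C hx, αxb_b']
  refine ⟨h2, Or.inl ?_⟩
  omega

include hq in
theorem finrank_P1 : Module.finrank k ↥(V k (gQ C q) (αd C.a C.b)) = 2 := by
  have hx : C.a ≠ C.b := Ne.symm C.hba
  have hab' : C.a ≠ C.b' := Ne.symm C.hb'a
  have h := finrank_V_eq (k := k) (gQ C q) (αd C.a C.b) (ℓ1 C) ?_ ?_ ?_ ?_ ?_
  · rw [h, Fintype.card_fin]
  · -- active
    intro i m hm
    cases i with
    | Q => simp [ℓ1] at hm
    | bb =>
      have hn : nn (gQ C q .bb) (αd C.a C.b) := (nnXB C hx _).mpr (by simp [gQ_b])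
      refine ⟨hn, ?_⟩
      rw [std_shift_iff C q hn, αxb_b C hx, αxb_b', if_neg hab', gQ_b, gQ_b']
      refine ⟨by push_cast; omega, Or.inr ⟨by norm_num, by norm_num, fun m => ?_⟩⟩
      rw [αxb_mid, if_neg (Ne.symm m.2.2.2), gQ_mid]
      norm_num
    | bb' =>
      have hn : nn (gQ C q .bb') (αd C.a C.b) := (nnXB C hx _).mpr (by simp [gQ_b])
      refine ⟨hn, stdXB_one C q hx (by simp [gQ_b]) ?_⟩
      rw [gQ_b', if_neg hab']
      push_cast
      omega
    | bm y =>
      have hn : nn (gQ C q (.bm y)) (αd C.a C.b) := (nnXB C hx _).mpr (by simp [gQ_b])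
      refine ⟨hn, stdXB_one C q hx (by simp [gQ_b]) ?_⟩
      rw [gQ_b', if_neg hab']
      push_cast
      omega
  · -- closed under links
    intro i j γ m hi hj hn hS hm
    obtain ⟨h1, h2, h3⟩ := lnkXB C q hx hn hS
    rw [if_neg hab'] at h2
    have hQ : ¬ gQ C q .Q ≤ γ := by
      rw [le_Q]
      intro hle
      have : (q : ℤ) ≤ γ C.b' := by exact_mod_cast hle
      omega
    have hall : ∃ m0, ∀ i, gQ C q i ≤ γ → ℓ1 C i = some m0 := by
      rcases h3 with h3 | ⟨h3, -, h4, h5⟩
      · refine ⟨1, fun i hi => ?_⟩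
        cases i with
        | bb =>
          rw [le_bb] at hi
          omega
        | bb' => rfl
        | bm y => rfl
        | Q => exact absurd hi hQ
      · refine ⟨0, fun i hi => ?_⟩
        cases i with
        | bb => rfl
        | bb' =>
          rw [le_bb'] at hi
          omega
        | bm y =>
          rw [le_bm] at hi
          have := (h5 y).2
          omega
        | Q => exact absurd hi hQ
    obtain ⟨m0, hall⟩ := hall
    rw [hall i hi] at hm
    rw [hall j hj, ← hm]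
  · -- unlabelled
    intro i hi c hc
    cases i with
    | Q =>
      apply hc.1
      intro hact
      have := (nnXB C hx _).mp hact.1
      simp [gQ_b] at this
    | bb => simp [ℓ1] at hi
    | bb' => simp [ℓ1] at hi
    | bm y => simp [ℓ1] at hi
  · -- same label
    intro i j m hi hj c hc
    have key : ∀ y : Mid C, c .bb' = c (.bm y) := by
      intro y
      apply hc.2 _ _ (gQ C q .bb' + Finsupp.single y.1 1) le_self_add
      · rw [le_bm]
        simp [gQ_b, gQ_mid, Finsupp.single_apply, y.2.1]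
      · rw [nnXB C hx]
        simp [gQ_b, Finsupp.single_apply, y.2.1]
      · apply stdXB_one C q hx
        · simp [gQ_b, Finsupp.single_apply, y.2.1]
        · rw [if_neg hab']
          simp only [Finsupp.add_apply, gQ_b', Finsupp.single_apply, if_neg y.2.2.1]
          push_cast
          omega
    have key1 : ∀ i, ℓ1 C i = some 1 → c i = c .bb' := by
      intro i hi
      cases i with
      | bb => simp [ℓ1] at hi
      | bb' => rfl
      | bm y => exact (key y).symm
      | Q => simp [ℓ1] at hi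
    have key0 : ∀ i, ℓ1 C i = some 0 → c i = c .bb := by
      intro i hi
      cases i with
      | bb => rfl
      | bb' => simp [ℓ1] at hi
      | bm y => simp [ℓ1] at hi
      | Q => simp [ℓ1] at hi
    fin_cases m
    · rw [key0 i hi, key0 j hj]
    · rw [key1 i hi, key1 j hj]
  · intro m
    fin_cases m
    · exact ⟨.bb, rfl⟩
    · exact ⟨.bb', rfl⟩

/-- labels for the multidegree `e_x - e_b`, `x` a middle variable or `b'` -/
def ℓ2 (x : σ) : GQ (Mid C) → Option (Fin 1)
  | .bb => none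
  | .bb' => if 1 + (if x = C.b' then 1 else 0) < q then some 0 else none
  | .bm _ => some 0
  | .Q => none

include hq in
theorem finrank_P23 (t0 : Mid C) {x : σ} (hx : x ≠ C.b) (hxa : x ≠ C.a) :
    Module.finrank k ↥(V k (gQ C q) (αd x C.b)) = 1 := by
  have he' : (if x = C.b' then (1:ℤ) else 0) ≤ 1 := by split_ifs <;> norm_num
  have he0 : (0:ℤ) ≤ (if x = C.b' then (1:ℤ) else 0) := by split_ifs <;> norm_num
  have hlab : ∀ i m, ℓ2 C q x i = some m → i = .bb' ∧ 1 + (if x = C.b' then 1 else 0) < q ∨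
      ∃ y, i = .bm y := by
    intro i m hm
    cases i with
    | bb => simp [ℓ2] at hm
    | Q => simp [ℓ2] at hm
    | bm y => exact Or.inr ⟨y, rfl⟩
    | bb' =>
      left
      refine ⟨rfl, ?_⟩
      by_contra hlt
      simp only [ℓ2, if_neg hlt] at hm
      cases hm
  have h := finrank_V_eq (k := k) (gQ C q) (αd x C.b) (ℓ2 C q x) ?_ ?_ ?_ ?_ ?_
  · rw [h, Fintype.card_fin]
  · -- active
    intro i m hm
    rcases hlab i m hm with ⟨rfl, hlt⟩ | ⟨y, rfl⟩
    · have hn : nn (gQ C q .bb') (αd x C.b) := (nnXB C hx _).mpr (by simp [gQ_b])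
      refine ⟨hn, stdXB_one C q hx (by simp [gQ_b]) ?_⟩
      rw [gQ_b']
      push_cast
      split_ifs at hlt ⊢ <;> omega
    · have hn : nn (gQ C q (.bm y)) (αd x C.b) := (nnXB C hx _).mpr (by simp [gQ_b])
      refine ⟨hn, stdXB_one C q hx (by simp [gQ_b]) ?_⟩
      rw [gQ_b']
      push_cast
      omega
  · -- closed under links
    intro i j γ m hi hj hn hS hm
    obtain ⟨h1, h2, h3⟩ := lnkXB C q hx hn hS
    have h4 : γ C.b = 1 := by
      rcases h3 with h3 | ⟨-, h5, -, h6⟩
      · exact h3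
      · exfalso
        by_cases hxm : ∃ y : Mid C, x = y.1
        · obtain ⟨y, hy⟩ := hxm
          exact (h6 y).1 hy
        · exact hxm ⟨⟨x, hx, h5, hxa⟩, rfl⟩
    have hm0 : m = 0 := Subsingleton.elim _ _
    subst hm0
    cases j with
    | bb =>
      rw [le_bb] at hj
      omega
    | Q =>
      rw [le_Q] at hj
      have : (q : ℤ) ≤ γ C.b' := by exact_mod_cast hj
      omega
    | bm y => rfl
    | bb' =>
      rw [le_bb'] at hj
      have h5 : 1 + (if x = C.b' then 1 else 0) < q := by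
        have : (1 : ℤ) ≤ γ C.b' := by exact_mod_cast hj.2
        split_ifs at h2 ⊢ <;> omega
      simp only [ℓ2, if_pos h5]
  · -- unlabelled
    intro i hi c hc
    apply hc.1
    intro hact
    have hnb := (nnXB C hx _).mp hact.1
    obtain ⟨h1, h2, h3⟩ := lnkXB C q hx hact.1 hact.2
    cases i with
    | Q => simp [gQ_b] at hnb
    | bm y => simp [ℓ2] at hi
    | bb =>
      have e2 : gQ C q .bb C.b = 2 := by simp [gQ_b]
      rw [e2] at h3
      rcases h3 with h3 | ⟨-, h5, -, h6⟩
      · omega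
      · by_cases hxm : ∃ y : Mid C, x = y.1
        · obtain ⟨y, hy⟩ := hxm
          exact (h6 y).1 hy
        · exact hxm ⟨⟨x, hx, h5, hxa⟩, rfl⟩
    | bb' =>
      have e2 : gQ C q .bb' C.b' = 1 := by simp [gQ_b']
      rw [e2] at h2
      have h5 : 1 + (if x = C.b' then 1 else 0) < q := by
        push_cast at h2
        split_ifs at h2 ⊢ <;> omega
      simp only [ℓ2, if_pos h5] at hi
      cases hi
  · -- same label
    intro i j m hi hj c hc
    have keym : ∀ y : Mid C, c (.bm y) = c (.bm t0) := by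
      intro y
      apply hc.2 _ _ (gQ C q (.bm y) + Finsupp.single t0.1 1) le_self_add
      · rw [le_bm]
        simp [gQ_b, Finsupp.single_apply, t0.2.1]
      · rw [nnXB C hx]
        simp [gQ_b, Finsupp.single_apply, t0.2.1]
      · apply stdXB_one C q hx
        · simp [gQ_b, Finsupp.single_apply, t0.2.1]
        · simp only [Finsupp.add_apply, gQ_b', Finsupp.single_apply, if_neg t0.2.2.1]
          push_cast
          omega
    have keyb : 1 + (if x = C.b' then 1 else 0) < q → c .bb' = c (.bm t0) := by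
      intro hlt
      apply hc.2 _ _ (gQ C q .bb' + Finsupp.single t0.1 1) le_self_add
      · rw [le_bm]
        simp [gQ_b, Finsupp.single_apply, t0.2.1]
      · rw [nnXB C hx]
        simp [gQ_b, Finsupp.single_apply, t0.2.1]
      · apply stdXB_one C q hx
        · simp [gQ_b, Finsupp.single_apply, t0.2.1]
        · simp only [Finsupp.add_apply, gQ_b', Finsupp.single_apply, if_neg t0.2.2.1]
          push_cast
          split_ifs at hlt ⊢ <;> omega
    have key : ∀ i m, ℓ2 C q x i = some m → c i = c (.bm t0) := by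
      intro i m hm
      rcases hlab i m hm with ⟨rfl, hlt⟩ | ⟨y, rfl⟩
      · exact keyb hlt
      · exact keym y
    rw [key i m hi, key j m hj]
  · intro m
    exact ⟨.bm t0, by rw [Subsingleton.elim m 0]; rfl⟩

end PieceXB

section PieceAJ

variable (C : Cfg σ) (q : ℕ) (hq : 2 ≤ q) (j : Mid C)

lemma αaj_b : αd C.a j.1 C.b = 0 := by simp [αd, C.hba, Ne.symm j.2.1]

lemma αaj_b' : αd C.a j.1 C.b' = 0 := by simp [αd, C.hb'a, Ne.symm j.2.2.1]

lemma αaj_mid (m : Mid C) : αd C.a j.1 m.1 = -(if m.1 = j.1 then 1 else 0) := by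
  simp [αd, m.2.2.2]

lemma nnAJ (γ : σ →₀ ℕ) : nn γ (αd C.a j.1) ↔ 1 ≤ γ j.1 := by
  rw [nn_αd]
  exact ⟨fun h => h (Ne.symm j.2.2.2), fun h _ => h⟩

include hq in
theorem finrank_P6 : Module.finrank k ↥(V k (gQ C q) (αd C.a j.1)) = 1 := by
  have h := finrank_V_of_isolated (k := k) (gQ C q) (αd C.a j.1) {GQ.bm j} ?_ ?_ ?_
  · rw [h, Finset.card_singleton]
  · intro i hi
    rw [Finset.mem_singleton] at hi
    subst hi
    have hn : nn (gQ C q (.bm j)) (αd C.a j.1) := (nnAJ C j _).mpr (by simp [gQ_mid])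
    refine ⟨hn, ?_⟩
    rw [std_shift_iff C q hn, αaj_b, αaj_b', gQ_b, gQ_b']
    refine ⟨by push_cast; omega, Or.inr ⟨by norm_num, by norm_num, fun m => ?_⟩⟩
    rw [αaj_mid, gQ_mid]
    have e : (j.1 = m.1) = (m.1 = j.1) := propext eq_comm
    simp only [e]
    split_ifs <;> simp
  · intro i hi j' γ hle hle' hn hS
    rw [Finset.mem_singleton] at hi
    subst hi
    rw [std_shift_iff C q hn, αaj_b, αaj_b'] at hS
    rw [le_bm] at hle
    obtain ⟨h0, h1⟩ := hS
    have h2 : (γ C.b : ℤ) = 1 ∧ (γ C.b' : ℤ) = 0 ∧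
        ∀ m : Mid C, (γ m.1 : ℤ) + αd C.a j.1 m.1 = 0 := by
      rcases h1 with h1 | ⟨h1, h2, h3⟩
      · omega
      · exact ⟨by omega, by omega, h3⟩
    cases j' with
    | bb =>
      rw [le_bb] at hle'
      omega
    | bb' =>
      rw [le_bb'] at hle'
      omega
    | Q =>
      rw [le_Q] at hle'
      omega
    | bm y =>
      rw [le_bm] at hle'
      have h3 := h2.2.2 y
      rw [αaj_mid] at h3
      by_cases hy : y.1 = j.1
      · rw [Subtype.ext hy]
      · rw [if_neg hy] at h3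
        omega
  · intro i hi hact
    apply hi
    rw [Finset.mem_singleton]
    have h1 := (nnAJ C j _).mp hact.1
    rw [gQ_mid] at h1
    cases i with
    | bb => simp at h1
    | bb' => simp at h1
    | Q => simp at h1
    | bm y =>
      by_cases hy : y.1 = j.1
      · rw [Subtype.ext hy]
      · simp [hy] at h1

end PieceAJ

section PieceB

variable (C : Cfg σ) (q : ℕ) (hq : 2 ≤ q)

/-- the multidegree `w - q e_b'` -/
def αB (w : σ →₀ ℕ) : σ → ℤ := fun u => (w u : ℤ) - (if u = C.b' then (q : ℤ) else 0)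

lemma αB_b (w : σ →₀ ℕ) : αB C q w C.b = w C.b := by simp [αB, C.hbb]

lemma αB_b' (w : σ →₀ ℕ) : αB C q w C.b' = (w C.b' : ℤ) - q := by simp [αB]

lemma αB_mid (w : σ →₀ ℕ) (m : Mid C) : αB C q w m.1 = w m.1 := by simp [αB, m.2.2.1]

lemma nnB (w γ : σ →₀ ℕ) : nn γ (αB C q w) ↔ q ≤ γ C.b' + w C.b' := by
  constructor
  · intro h
    have := h C.b'
    rw [αB_b'] at this
    omega
  · intro h u
    unfold αB
    split_ifs with hu
    · subst hu
      have : (q : ℤ) ≤ γ C.b' + w C.b' := by exact_mod_cast h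
      omega
    · have : (0 : ℤ) ≤ γ u := by positivity
      have : (0 : ℤ) ≤ w u := by positivity
      omega

lemma stdB {w γ : σ →₀ ℕ} (hn : nn γ (αB C q w)) : Std (gQ C q) (shift γ (αB C q w)) ↔
    ((γ C.b' : ℤ) + w C.b' - q < q ∧ ((γ C.b : ℤ) + w C.b = 0 ∨
      ((γ C.b : ℤ) + w C.b = 1 ∧ (γ C.b' : ℤ) + w C.b' - q = 0 ∧
        ∀ m : Mid C, (γ m.1 : ℤ) + w m.1 = 0))) := by
  rw [std_shift_iff C q hn, αB_b, αB_b']
  simp only [αB_mid]
  constructor
  · rintro ⟨h1, h2⟩
    refine ⟨by omega, ?_⟩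
    rcases h2 with h2 | ⟨h2, h3, h4⟩
    · exact Or.inl h2
    · exact Or.inr ⟨h2, by omega, h4⟩
  · rintro ⟨h1, h2⟩
    refine ⟨by omega, ?_⟩
    rcases h2 with h2 | ⟨h2, h3, h4⟩
    · exact Or.inl h2
    · exact Or.inr ⟨h2, by omega, h4⟩

open Classical in
/-- the set of active generators for the multidegree `w - q e_b'` -/
noncomputable def sB (w : σ →₀ ℕ) : Finset (GQ (Mid C)) :=
  if w C.b' + 1 = q ∧ ∀ m : Mid C, w m.1 = 0 then {GQ.Q, GQ.bb'} else {GQ.Q}

include hq in
theorem finrank_P4 {w : σ →₀ ℕ} (hwb : w C.b = 0) (hwq : w C.b' < q)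
    (hne : w C.b' ≠ 0 ∨ ∃ m : Mid C, w m.1 ≠ 0) :
    Module.finrank k ↥(V k (gQ C q) (αB C q w)) = (sB C q w).card := by
  classical
  have hmem : ∀ i, i ∈ sB C q w ↔ i = .Q ∨ (i = .bb' ∧ w C.b' + 1 = q ∧ ∀ m : Mid C, w m.1 = 0) := by
    intro i
    unfold sB
    split_ifs with hc
    · rw [Finset.mem_insert, Finset.mem_singleton]
      constructor
      · rintro (h | h)
        · exact Or.inl h
        · exact Or.inr ⟨h, hc⟩
      · rintro (h | ⟨h, -⟩)
        · exact Or.inl h
        · exact Or.inr h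
    · rw [Finset.mem_singleton]
      constructor
      · exact fun h => Or.inl h
      · rintro (h | ⟨-, h⟩)
        · exact h
        · exact absurd h hc
  apply finrank_V_of_isolated (k := k) (gQ C q) (αB C q w) (sB C q w)
  · intro i hi
    rcases (hmem i).mp hi with rfl | ⟨rfl, h1, h2⟩
    · have hn : nn (gQ C q .Q) (αB C q w) := (nnB C q w _).mpr (by simp [gQ_b'])
      refine ⟨hn, (stdB C q hn).mpr ?_⟩
      have e1 : gQ C q .Q C.b' = q := by simp [gQ_b']
      have e2 : gQ C q .Q C.b = 0 := by simp [gQ_b]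
      rw [e1, e2, hwb]
      refine ⟨by push_cast; omega, Or.inl (by norm_num)⟩
    · have e1 : gQ C q .bb' C.b' = 1 := by simp [gQ_b']
      have e2 : gQ C q .bb' C.b = 1 := by simp [gQ_b]
      have hn : nn (gQ C q .bb') (αB C q w) := (nnB C q w _).mpr (by rw [e1]; omega)
      refine ⟨hn, (stdB C q hn).mpr ?_⟩
      rw [e1, e2, hwb]
      refine ⟨by push_cast; omega, Or.inr ⟨by norm_num, by push_cast; omega, fun m => ?_⟩⟩
      rw [gQ_mid, h2 m]
      norm_num
  · intro i hi j γ hle hle' hn hS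
    rw [stdB C q hn, hwb] at hS
    obtain ⟨h0, h1⟩ := hS
    rcases h1 with h1 | ⟨h1, h2, h3⟩
    · have hb0 : γ C.b = 0 := by
        have : (γ C.b : ℤ) = 0 := by simpa using h1
        exact_mod_cast this
      have honly : ∀ i', gQ C q i' ≤ γ → i' = .Q := by
        intro i' hle''
        cases i' with
        | Q => rfl
        | bb => rw [le_bb] at hle''; omega
        | bb' => rw [le_bb'] at hle''; omega
        | bm y => rw [le_bm] at hle''; omega
      rw [honly i hle, honly j hle']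
    · have hb1 : γ C.b = 1 := by
        have : (γ C.b : ℤ) = 1 := by simpa using h1
        exact_mod_cast this
      have hm0 : ∀ m : Mid C, γ m.1 = 0 ∧ w m.1 = 0 := by
        intro m
        have := h3 m
        constructor <;> omega
      have hwb' : w C.b' ≠ 0 := by
        rcases hne with h | ⟨m, hm⟩
        · exact h
        · exact absurd (hm0 m).2 hm
      have honly : ∀ i', gQ C q i' ≤ γ → i' = .bb' := by
        intro i' hle''
        cases i' with
        | bb' => rfl
        | bb => rw [le_bb] at hle''; omega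
        | Q => rw [le_Q] at hle''; omega
        | bm y =>
          rw [le_bm] at hle''
          have := (hm0 y).1
          omega
      rw [honly i hle, honly j hle']
  · intro i hi hact
    apply hi
    rw [hmem]
    have hn := hact.1
    have hS := (stdB C q hn).mp hact.2
    rw [nnB] at hn
    cases i with
    | Q => exact Or.inl rfl
    | bb =>
      have e1 : gQ C q .bb C.b' = 0 := by simp [gQ_b']
      omega
    | bm y =>
      have e1 : gQ C q (.bm y) C.b' = 0 := by simp [gQ_b']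
      omega
    | bb' =>
      right
      have e1 : gQ C q .bb' C.b' = 1 := by simp [gQ_b']
      have e2 : gQ C q .bb' C.b = 1 := by simp [gQ_b]
      rw [e1, e2, hwb] at hS
      rw [e1] at hn
      refine ⟨rfl, by omega, fun m => ?_⟩
      obtain ⟨-, h1⟩ := hS
      rcases h1 with h1 | ⟨-, -, h3⟩
      · norm_num at h1
      · have := h3 m
        rw [gQ_mid] at this
        have h4 : (0 : ℤ) ≤ ((match (GQ.bb' : GQ (Mid C)) with
          | .bm y => if y.1 = m.1 then 1 else 0 | _ => 0 : ℕ) : ℤ) := by positivity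
        omega

include hq in
/-- the exceptional multidegree `e_b + (q-1) e_a - q e_b'` -/
theorem finrank_P5 {w : σ →₀ ℕ} (hwb : w C.b = 1) (hwb' : w C.b' = 0)
    (hwm : ∀ m : Mid C, w m.1 = 0) :
    Module.finrank k ↥(V k (gQ C q) (αB C q w)) = 1 := by
  have h := finrank_V_of_isolated (k := k) (gQ C q) (αB C q w) {GQ.Q} ?_ ?_ ?_
  · rw [h, Finset.card_singleton]
  · intro i hi
    rw [Finset.mem_singleton] at hi
    subst hi
    have e1 : gQ C q .Q C.b' = q := by simp [gQ_b']
    have e2 : gQ C q .Q C.b = 0 := by simp [gQ_b]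
    have hn : nn (gQ C q .Q) (αB C q w) := (nnB C q w _).mpr (by rw [e1]; omega)
    refine ⟨hn, (stdB C q hn).mpr ?_⟩
    rw [e1, e2, hwb, hwb']
    refine ⟨by push_cast; omega, Or.inr ⟨by norm_num, by push_cast; omega, fun m => ?_⟩⟩
    rw [gQ_mid, hwm m]
    norm_num
  · intro i hi j γ hle hle' hn hS
    rw [Finset.mem_singleton] at hi
    subst hi
    rw [stdB C q hn, hwb] at hS
    obtain ⟨-, h1⟩ := hS
    have hb0 : γ C.b = 0 := by
      rcases h1 with h1 | ⟨h1, -, -⟩
      · have : (0 : ℤ) ≤ γ C.b := by positivity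
        omega
      · have : (γ C.b : ℤ) = 0 := by omega
        exact_mod_cast this
    cases j with
    | Q => rfl
    | bb => rw [le_bb] at hle'; omega
    | bb' => rw [le_bb'] at hle'; omega
    | bm y => rw [le_bm] at hle'; omega
  · intro i hi hact
    apply hi
    rw [Finset.mem_singleton]
    have hn := hact.1
    rw [nnB, hwb'] at hn
    cases i with
    | Q => rfl
    | bb =>
      have e1 : gQ C q .bb C.b' = 0 := by simp [gQ_b']
      omega
    | bm y =>
      have e1 : gQ C q (.bm y) C.b' = 0 := by simp [gQ_b']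
      omega
    | bb' =>
      have e1 : gQ C q .bb' C.b' = 1 := by simp [gQ_b']
      omega

end PieceB

section Classify

variable (C : Cfg σ) (q : ℕ) (hq : 2 ≤ q)

/-- an active quadratic generator determines the multidegree -/
lemma act_form' {ι : Type*} {g : ι → σ →₀ ℕ} {α : σ → ℤ} (hsum : ∑ l, α l = 0) {i : ι} {p l : σ}
    (hi : g i = gen p l) (hact : Act g α i) : ∃ x x', Std g (gen x x') ∧ α = α4 x x' p l := by
  obtain ⟨hn, hS⟩ := hact
  have hw : ∑ u, ((shift (g i) α u : ℕ) : ℤ) = 2 := by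
    have : ∑ u, ((shift (g i) α u : ℕ) : ℤ) = ∑ u, ((g i u : ℕ) : ℤ) + ∑ u, α u := by
      rw [← Finset.sum_add_distrib]
      apply Finset.sum_congr rfl
      intro u _
      exact shift_cast hn u
    rw [this, hsum, hi, sum_gen]
    norm_num
  obtain ⟨x, x', hxx⟩ := exists_gen_of_sum_two _ hw
  refine ⟨x, x', ?_, ?_⟩
  · rw [← hxx]
    exact hS
  · funext u
    have h1 := shift_cast hn u
    rw [hxx, hi, gen_apply, gen_apply] at h1
    unfold α4
    have e1 : (u = p) = (p = u) := propext eq_comm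
    have e2 : (u = x) = (x = u) := propext eq_comm
    have e3 : (u = l) = (l = u) := propext eq_comm
    have e4 : (u = x') = (x' = u) := propext eq_comm
    simp only [e1, e2, e3, e4]
    push_cast at h1
    linarith

lemma std_of_b_zero {w : σ →₀ ℕ} (hb : w C.b = 0) (hb' : w C.b' < q) : Std (gQ C q) w :=
  (std_iff' C q w).mpr ⟨hb', Or.inl hb⟩

/-- vanishing through a link with a non-active generator -/
lemma zero_of_link {x x' p l : σ} (h1 : x ≠ p) (h2 : x ≠ l) (h3 : x' ≠ p) (h4 : x' ≠ l)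
    {c : GQ (Mid C) → k} (hc : c ∈ V k (gQ C q) (α4 x x' p l)) (i j : GQ (Mid C))
    (hi : gQ C q i = gen p l) (δ : σ →₀ ℕ) (hj : gQ C q j ≤ gen p l + δ)
    (hS : Std (gQ C q) (gen x x' + δ)) (hj' : ¬ gen p l ≤ gQ C q j) : c i = 0 := by
  apply zero_of_bad (gQ C q) _ hc i j (gen p l + δ) (by rw [hi]; exact le_self_add) hj
  · rw [nn_α4_iff h1 h2 h3 h4]
    exact le_self_add
  · rw [shift_add_of_nonneg _ _ (nn_gen_α4 x x' p l), shift_gen_α4]
    exact hS
  · rw [nn_α4_iff h1 h2 h3 h4]
    exact hj'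

/-- the multidegrees carrying tangent vectors -/
def InL (α : σ → ℤ) : Prop :=
  α = αd C.a C.b ∨ (∃ j : Mid C, α = αd j.1 C.b) ∨ α = αd C.b' C.b ∨
    (∃ w : σ →₀ ℕ, w C.b = 0 ∧ ∑ u, ((w u : ℕ) : ℤ) = q ∧ w C.b' < q ∧
      (w C.b' ≠ 0 ∨ ∃ m : Mid C, w m.1 ≠ 0) ∧ α = αB C q w) ∨
    (∃ w : σ →₀ ℕ, w C.b = 1 ∧ ∑ u, ((w u : ℕ) : ℤ) = q ∧ w C.b' = 0 ∧ (∀ m : Mid C, w m.1 = 0) ∧
      α = αB C q w) ∨
    (∃ j : Mid C, α = αd C.a j.1)

lemma inL_xb {x : σ} (hx : x ≠ C.b) : InL C q (αd x C.b) := by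
  by_cases h1 : x = C.a
  · subst h1
    exact Or.inl rfl
  by_cases h2 : x = C.b'
  · subst h2
    exact Or.inr (Or.inr (Or.inl rfl))
  exact Or.inr (Or.inl ⟨⟨x, hx, h2, h1⟩, rfl⟩)

include hq in
lemma inL_xb' {x : σ} (hx : x ≠ C.b) (hx' : x ≠ C.b') : InL C q (αd x C.b') := by
  refine Or.inr (Or.inr (Or.inr (Or.inl
    ⟨Finsupp.single C.b' (q - 1) + Finsupp.single x 1, ?_, ?_, ?_, ?_, ?_⟩)))
  · simp [Finsupp.single_apply, C.hbb.symm, hx]
  · simp only [Finsupp.add_apply, Nat.cast_add]
    rw [Finset.sum_add_distrib]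
    have e1 : ∑ u, ((Finsupp.single C.b' (q - 1) u : ℕ) : ℤ) = ((q - 1 : ℕ) : ℤ) := by
      rw [Finset.sum_eq_single C.b']
      · rw [Finsupp.single_eq_same]
      · intro u _ hu
        rw [Finsupp.single_apply, if_neg (Ne.symm hu)]
        rfl
      · intro h
        exact absurd (Finset.mem_univ _) h
    have e2 : ∑ u, ((Finsupp.single x 1 u : ℕ) : ℤ) = 1 := by
      simp [Finsupp.single_apply]
    rw [e1, e2]
    omega
  · simp [Finsupp.single_apply, hx']
    omega
  · left
    simp [Finsupp.single_apply, hx']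
    omega
  · funext u
    unfold αd αB
    simp only [Finsupp.add_apply, Finsupp.single_apply]
    have e1 : (C.b' = u) = (u = C.b') := propext eq_comm
    have e2 : (x = u) = (u = x) := propext eq_comm
    simp only [e1, e2]
    split_ifs <;> push_cast <;> omega

include hq in
theorem classify (t0 : Mid C) (hcase : 4 ≤ q ∨ ∀ j : Mid C, ∃ j' : Mid C, j' ≠ j) {α : σ → ℤ}
    (hsum : ∑ l, α l = 0) {c : GQ (Mid C) → k} (hc : c ∈ V k (gQ C q) α) {i : GQ (Mid C)}
    (hne : c i ≠ 0) : InL C q α := by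
  have hact : Act (gQ C q) α i := by
    by_contra h
    exact hne (hc.1 i h)
  have hα0 : α ≠ 0 := by
    intro h0
    subst h0
    have h1 : shift (gQ C q i) (0 : σ → ℤ) = gQ C q i := by
      ext u
      rw [shift_apply]
      simp
    have := hact.2 i
    rw [h1] at this
    exact this le_rfl
  -- the quadratic generators
  have hquad : ∀ p l : σ, gQ C q i = gen p l → p = C.b →
      (l = C.b ∨ l = C.b' ∨ ∃ j : Mid C, l = j.1) →
      (∀ x x', x ≠ p → x ≠ l → x' ≠ p → x' ≠ l → Std (gQ C q) (gen x x') →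
        c ∈ V k (gQ C q) (α4 x x' p l) → c i = 0) → InL C q α := by
    intro p l hi hp hl hdis
    obtain ⟨x, x', hxx, hα⟩ := act_form' hsum hi hact
    -- which variable is cancelled
    have hlcase : ∀ u, u ≠ l → α = αd u l → InL C q α := by
      intro u hul hαu
      rcases hl with rfl | rfl | ⟨j, rfl⟩
      · rw [hαu]
        exact inL_xb C q hul
      · by_cases hub : u = C.b
        · exfalso
          subst hub
          have h2 := hact.2
          rw [hi, hαu, hp, gen_comm, shift_gen_αd] at h2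
          have := ((std_iff' C q _).mp h2).2
          simp [gen_apply] at this
        · rw [hαu]
          exact inL_xb' C q hq hub hul
      · have h2 := hact.2
        rw [hi, hαu, hp, gen_comm, shift_gen_αd] at h2
        have h3 := ((std_iff' C q _).mp h2).2
        have hu : u = C.a := by
          by_contra hua
          rcases h3 with h3 | ⟨h3, h4, h5⟩
          · simp [gen_apply] at h3
          · by_cases hub : u = C.b
            · subst hub
              simp [gen_apply] at h3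
            · by_cases hub' : u = C.b'
              · subst hub'
                simp [gen_apply, C.hbb] at h4
              · have := h5 ⟨u, hub, hub', hua⟩
                simp [gen_apply] at this
        rw [hαu, hu]
        exact Or.inr (Or.inr (Or.inr (Or.inr (Or.inr ⟨j, rfl⟩))))
    by_cases e1 : x = p
    · subst e1
      rw [α4_left] at hα
      apply hlcase x' _ hα
      rintro rfl
      exact hα0 (by rw [hα, αd_self])
    by_cases e2 : x = l
    · subst e2
      rw [α4_left'] at hα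
      have hx'p : x' ≠ p := by
        rintro rfl
        exact hα0 (by rw [hα, αd_self])
      rw [hα, hp]
      exact inL_xb C q (by rwa [hp] at hx'p)
    by_cases e3 : x' = p
    · subst e3
      rw [α4_right] at hα
      exact hlcase x e2 hα
    by_cases e4 : x' = l
    · subst e4
      rw [α4_right'] at hα
      rw [hα, hp]
      exact inL_xb C q (by rwa [hp] at e1)
    exfalso
    apply hne
    apply hdis x x' e1 e2 e3 e4 hxx
    rw [← hα]
    exact hc
  cases i with
  | bb =>
    apply hquad C.b C.b rfl rfl (Or.inl rfl)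
    intro x x' h1 h2 h3 h4 hxx hc'
    apply zero_of_link C q h1 h2 h3 h4 hc' .bb (.bm t0) rfl (Finsupp.single t0.1 1)
    · show gen C.b t0.1 ≤ _
      rw [gen_le_iff (Ne.symm t0.2.1)]
      simp [gen_apply, Finsupp.single_apply, t0.2.1]
    · apply std_of_b_zero
      · simp [gen_apply, Finsupp.single_apply, h1, h3, t0.2.1]
      · have := ((std_iff' C q _).mp hxx).1
        simpa [gen_apply, Finsupp.single_apply, t0.2.2.1] using this
    · show ¬ gen C.b C.b ≤ gen C.b t0.1
      rw [gen_le_iff']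
      simp [gen_apply, t0.2.1]
  | bb' =>
    apply hquad C.b C.b' rfl rfl (Or.inr (Or.inl rfl))
    intro x x' h1 h2 h3 h4 hxx hc'
    apply zero_of_link C q h1 h2 h3 h4 hc' .bb' .Q rfl (Finsupp.single C.b' (q - 1))
    · rw [le_Q]
      simp [gen_apply, C.hbb]
      omega
    · apply std_of_b_zero
      · simp [gen_apply, Finsupp.single_apply, h1, h3, C.hbb.symm]
      · simp [gen_apply, Finsupp.single_apply, h2, h4]
        omega
    · show ¬ gen C.b C.b' ≤ Finsupp.single C.b' q
      rw [gen_le_iff C.hbb]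
      simp [Finsupp.single_apply, C.hbb.symm]
  | bm j =>
    apply hquad C.b j.1 rfl rfl (Or.inr (Or.inr ⟨j, rfl⟩))
    intro x x' h1 h2 h3 h4 hxx hc'
    rcases hcase with h4q | hj'
    · apply zero_of_link C q h1 h2 h3 h4 hc' (.bm j) .bb' rfl (Finsupp.single C.b' 1)
      · rw [le_bb']
        simp [gen_apply, C.hbb]
      · apply std_of_b_zero
        · simp [gen_apply, Finsupp.single_apply, h1, h3, C.hbb.symm]
        · have : (gen x x' + Finsupp.single C.b' 1 : σ →₀ ℕ) C.b' ≤ 3 := by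
            simp only [Finsupp.add_apply, gen_apply, Finsupp.single_apply, if_true]
            split_ifs <;> omega
          omega
      · show ¬ gen C.b j.1 ≤ gen C.b C.b'
        rw [gen_le_iff (Ne.symm j.2.1)]
        simp [gen_apply, Ne.symm j.2.1, Ne.symm j.2.2.1]
    · obtain ⟨j', hjj⟩ := hj' j
      have hjj' : j'.1 ≠ j.1 := fun h => hjj (Subtype.ext h)
      apply zero_of_link C q h1 h2 h3 h4 hc' (.bm j) (.bm j') rfl (Finsupp.single j'.1 1)
      · show gen C.b j'.1 ≤ _
        rw [gen_le_iff (Ne.symm j'.2.1)]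
        simp [gen_apply, Finsupp.single_apply, j'.2.1]
      · apply std_of_b_zero
        · simp [gen_apply, Finsupp.single_apply, h1, h3, j'.2.1]
        · have := ((std_iff' C q _).mp hxx).1
          simpa [gen_apply, Finsupp.single_apply, j'.2.2.1] using this
      · show ¬ gen C.b j.1 ≤ gen C.b j'.1
        rw [gen_le_iff (Ne.symm j.2.1)]
        simp [gen_apply, Ne.symm j.2.1, hjj']
  | Q =>
    obtain ⟨hn, hS⟩ := hact
    set w := shift (gQ C q .Q) α with hw
    have hwu : ∀ u, ((w u : ℕ) : ℤ) = (if u = C.b' then (q : ℤ) else 0) + α u := by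
      intro u
      have := shift_cast hn u
      rw [this]
      show ((Finsupp.single C.b' q u : ℕ) : ℤ) + α u = _
      rw [Finsupp.single_apply]
      have e1 : (C.b' = u) = (u = C.b') := propext eq_comm
      simp only [e1]
      split_ifs <;> simp
    have hαw : α = αB C q w := by
      funext u
      unfold αB
      rw [hwu u]
      ring
    have hwsum : ∑ u, ((w u : ℕ) : ℤ) = q := by
      simp only [hwu]
      rw [Finset.sum_add_distrib, hsum]
      simp
    obtain ⟨hw1, hw2⟩ := (std_iff' C q w).mp hS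
    rcases hw2 with hw2 | ⟨hw2, hw3, hw4⟩
    · refine Or.inr (Or.inr (Or.inr (Or.inl ⟨w, hw2, hwsum, hw1, ?_, hαw⟩)))
      by_contra hcon
      push Not at hcon
      obtain ⟨hcon1, hcon2⟩ := hcon
      apply hne
      rw [hαw] at hc
      have hnw : nn (gQ C q .Q) (αB C q w) := by rw [← hαw]; exact hn
      apply zero_of_bad (gQ C q) _ hc .Q .bb' (gQ C q .Q + Finsupp.single C.b 1) le_self_add
      · rw [le_bb']
        simp [gQ_b, gQ_b', Finsupp.single_apply, C.hbb]
        omega
      · exact nn_of_le le_self_add hnw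
      · rw [shift_add_of_nonneg _ _ hnw, ← hαw, ← hw, std_iff']
        refine ⟨by simp [Finsupp.single_apply, C.hbb, hcon1]; omega, Or.inr ⟨?_, ?_, ?_⟩⟩
        · simp [hw2]
        · simp [Finsupp.single_apply, C.hbb, hcon1]
        · intro m
          simp [Finsupp.single_apply, Ne.symm m.2.1, hcon2 m]
      · rw [nnB]
        simp [gQ_b', hcon1]
        omega
    · exact Or.inr (Or.inr (Or.inr (Or.inr (Or.inl ⟨w, hw2, hwsum, hw3, hw4, hαw⟩))))

end Classify

section Family

variable (C : Cfg σ) (q : ℕ) (hq : 2 ≤ q)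

/-- all variables except `b` -/
def SV : Finset σ := Finset.univ.erase C.b

/-- the exponent vectors `w` of the family `w - q e_b'` -/
noncomputable def BF : Finset (σ →₀ ℕ) :=
  (((SV C).finsuppAntidiag q).erase (Finsupp.single C.b' q)).erase (Finsupp.single C.a q)

lemma cases_u (u : σ) : u = C.b ∨ u = C.b' ∨ u = C.a ∨ ∃ m : Mid C, u = m.1 := by
  by_cases h1 : u = C.b
  · exact Or.inl h1
  by_cases h2 : u = C.b'
  · exact Or.inr (Or.inl h2)
  by_cases h3 : u = C.a
  · exact Or.inr (Or.inr (Or.inl h3))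
  exact Or.inr (Or.inr (Or.inr ⟨⟨u, h1, h2, h3⟩, rfl⟩))

/-- total degree in terms of the coordinates at `b'` and `a` when the others vanish -/
lemma sum_eq_two (w : σ →₀ ℕ) (hb : w C.b = 0) (hm : ∀ m : Mid C, w m.1 = 0) :
    ∑ u, ((w u : ℕ) : ℤ) = w C.b' + w C.a := by
  rw [← Finset.add_sum_erase Finset.univ _ (Finset.mem_univ C.b'),
    ← Finset.add_sum_erase _ _ (Finset.mem_erase.mpr ⟨Ne.symm C.hb'a, Finset.mem_univ C.a⟩)]
  rw [Finset.sum_eq_zero, add_zero]
  intro u hu
  rw [Finset.mem_erase, Finset.mem_erase] at hu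
  rcases cases_u C u with h | h | h | ⟨m, h⟩
  · rw [h, hb]; rfl
  · exact absurd h hu.2.1
  · exact absurd h hu.1
  · rw [h, hm m]; rfl

lemma sum_SV (w : σ →₀ ℕ) (hb : w C.b = 0) :
    (((SV C).sum w : ℕ) : ℤ) = ∑ u, ((w u : ℕ) : ℤ) := by
  unfold SV
  rw [← Finset.add_sum_erase Finset.univ _ (Finset.mem_univ C.b), hb]
  push_cast
  ring

lemma mem_BF_iff (w : σ →₀ ℕ) : w ∈ BF C q ↔
    (w C.b = 0 ∧ ∑ u, ((w u : ℕ) : ℤ) = q ∧ w C.b' < q ∧
      (w C.b' ≠ 0 ∨ ∃ m : Mid C, w m.1 ≠ 0)) := by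
  unfold BF
  rw [Finset.mem_erase, Finset.mem_erase, Finset.mem_finsuppAntidiag]
  constructor
  · rintro ⟨h1, h2, h3, h4⟩
    have hb : w C.b = 0 := by
      by_contra hne
      have : C.b ∈ w.support := Finsupp.mem_support_iff.mpr hne
      have := h4 this
      unfold SV at this
      simp at this
    have hsum : ∑ u, ((w u : ℕ) : ℤ) = q := by
      rw [← sum_SV C w hb, h3]
    have hle : ∀ u, ((w u : ℕ) : ℤ) ≤ q := by
      intro u
      rw [← hsum]
      exact Finset.single_le_sum (f := fun u => ((w u : ℕ) : ℤ)) (fun i _ => by positivity)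
        (Finset.mem_univ u)
    have hzero : ∀ v, w v = q → ∀ u, u ≠ v → w u = 0 := by
      intro v hv u huv
      have h5 := Finset.add_sum_erase Finset.univ (fun u => ((w u : ℕ) : ℤ)) (Finset.mem_univ v)
      rw [hsum] at h5
      simp only [hv] at h5
      have h6 : ∑ x ∈ Finset.univ.erase v, ((w x : ℕ) : ℤ) = 0 := by linarith
      have h7 := (Finset.sum_eq_zero_iff_of_nonneg (fun i _ => by positivity)).mp h6 u
        (Finset.mem_erase.mpr ⟨huv, Finset.mem_univ u⟩)
      exact_mod_cast h7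
    refine ⟨hb, hsum, ?_, ?_⟩
    · have := hle C.b'
      by_contra hge
      have hbq : w C.b' = q := by
        have : (w C.b' : ℤ) ≤ q := hle C.b'
        omega
      apply h2
      ext u
      rw [Finsupp.single_apply]
      split_ifs with hu
      · rw [← hu, hbq]
      · exact hzero C.b' hbq u (Ne.symm hu)
    · by_contra hcon
      push Not at hcon
      obtain ⟨hc1, hc2⟩ := hcon
      have h5 := sum_eq_two C w hb hc2
      rw [hsum, hc1] at h5
      have haq : w C.a = q := by
        push_cast at h5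
        omega
      apply h1
      ext u
      rw [Finsupp.single_apply]
      split_ifs with hu
      · rw [← hu, haq]
      · exact hzero C.a haq u (Ne.symm hu)
  · rintro ⟨hb, hsum, hlt, hne⟩
    refine ⟨?_, ?_, ?_, ?_⟩
    · intro h
      rw [h] at hne
      rcases hne with hne | ⟨m, hne⟩
      · simp [Finsupp.single_apply, C.hb'a.symm] at hne
      · simp [Finsupp.single_apply, Ne.symm m.2.2.2] at hne
    · intro h
      rw [h] at hlt
      simp at hlt
    · have := sum_SV C w hb
      rw [hsum] at this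
      exact_mod_cast this
    · intro u hu
      unfold SV
      rw [Finset.mem_erase]
      refine ⟨?_, Finset.mem_univ _⟩
      rintro rfl
      exact (Finsupp.mem_support_iff.mp hu) hb

include hq in
lemma card_BF : (BF C q).card + 2 = Nat.choose (Fintype.card σ - 1 + q - 1) q := by
  unfold BF
  have hq0 : q ≠ 0 := by omega
  have h1 : Finsupp.single C.b' q ∈ (SV C).finsuppAntidiag q := by
    rw [Finset.mem_finsuppAntidiag]
    constructor
    · rw [Finset.sum_eq_single C.b']
      · simp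
      · intro u _ hu
        simp [Finsupp.single_apply, Ne.symm hu]
      · intro h
        exfalso
        apply h
        unfold SV
        simp [C.hbb.symm]
    · intro u hu
      rw [Finsupp.support_single_ne_zero _ hq0, Finset.mem_singleton] at hu
      subst hu
      unfold SV
      simp [C.hbb.symm]
  have h2 : Finsupp.single C.a q ∈ ((SV C).finsuppAntidiag q).erase (Finsupp.single C.b' q) := by
    rw [Finset.mem_erase, Finset.mem_finsuppAntidiag]
    refine ⟨?_, ?_, ?_⟩
    · intro h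
      have := DFunLike.congr_fun h C.a
      simp [Finsupp.single_apply, C.hb'a] at this
      omega
    · rw [Finset.sum_eq_single C.a]
      · simp
      · intro u _ hu
        simp [Finsupp.single_apply, Ne.symm hu]
      · intro h
        exfalso
        apply h
        unfold SV
        simp [C.hba.symm]
    · intro u hu
      rw [Finsupp.support_single_ne_zero _ hq0, Finset.mem_singleton] at hu
      subst hu
      unfold SV
      simp [C.hba.symm]
  have e1 := Finset.card_erase_add_one h2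
  have e2 := Finset.card_erase_add_one h1
  rw [Finset.card_finsuppAntidiag_nat_eq_choose] at e2
  have e3 : (SV C).card = Fintype.card σ - 1 := by
    unfold SV
    rw [Finset.card_erase_of_mem (Finset.mem_univ _), Finset.card_univ]
  rw [e3] at e2
  omega

end Family

section Assembly

variable (C : Cfg σ) (q : ℕ) (hq : 2 ≤ q)

/-- the exceptional exponent vector `b a^(q-1)` -/
noncomputable def w5 : σ →₀ ℕ := Finsupp.single C.b 1 + Finsupp.single C.a (q - 1)

/-- the exponent vector `b'^(q-1) a` carrying a two-dimensional piece -/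
noncomputable def w0 : σ →₀ ℕ := Finsupp.single C.b' (q - 1) + Finsupp.single C.a 1

/-- index type of the multidegrees carrying tangent vectors -/
abbrev TI (C : Cfg σ) (q : ℕ) : Type _ := Unit ⊕ Mid C ⊕ Unit ⊕ ↥(BF C q) ⊕ Unit ⊕ Mid C

/-- the multidegrees -/
noncomputable def αOf : TI C q → (σ → ℤ)
  | .inl _ => αd C.a C.b
  | .inr (.inl j) => αd j.1 C.b
  | .inr (.inr (.inl _)) => αd C.b' C.b
  | .inr (.inr (.inr (.inl w))) => αB C q w.1
  | .inr (.inr (.inr (.inr (.inl _)))) => αB C q (w5 C q)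
  | .inr (.inr (.inr (.inr (.inr j)))) => αd C.a j.1

/-- the dimensions -/
noncomputable def dOf : TI C q → ℕ
  | .inl _ => 2
  | .inr (.inl _) => 1
  | .inr (.inr (.inl _)) => 1
  | .inr (.inr (.inr (.inl w))) => (sB C q w.1).card
  | .inr (.inr (.inr (.inr (.inl _)))) => 1
  | .inr (.inr (.inr (.inr (.inr _)))) => 1

/-- the class of a multidegree -/
def cls : TI C q → Fin 6
  | .inl _ => 0
  | .inr (.inl _) => 1
  | .inr (.inr (.inl _)) => 2
  | .inr (.inr (.inr (.inl _))) => 3
  | .inr (.inr (.inr (.inr (.inl _)))) => 4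
  | .inr (.inr (.inr (.inr (.inr _)))) => 5

/-- reading off the class from the multidegree -/
def clsOf (α : σ → ℤ) : Fin 6 :=
  if α C.b = -1 then (if α C.b' = 1 then 2 else if α C.a = 1 then 0 else 1)
  else if α C.b = 1 then 4 else if α C.b' < 0 then 3 else 5

lemma w5_b : w5 C q C.b = 1 := by simp [w5, Finsupp.single_apply, C.hba.symm]
lemma w5_b' : w5 C q C.b' = 0 := by simp [w5, Finsupp.single_apply, C.hbb, C.hb'a.symm]
lemma w5_mid (m : Mid C) : w5 C q m.1 = 0 := by
  simp [w5, Finsupp.single_apply, Ne.symm m.2.1, Ne.symm m.2.2.2]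

lemma clsOf_αOf (t : TI C q) : clsOf C (αOf C q t) = cls C q t := by
  rcases t with _ | j | _ | w | _ | j
  · simp [clsOf, αOf, cls, αd, C.hba, C.hba.symm, C.hb'a, C.hbb.symm]
  · simp [clsOf, αOf, cls, αd, Ne.symm j.2.1, Ne.symm j.2.2.1, Ne.symm j.2.2.2, C.hbb.symm,
      C.hba.symm]
  · simp [clsOf, αOf, cls, αd, C.hbb, C.hbb.symm]
  · have hw := (mem_BF_iff C q w.1).mp w.2
    have e1 : αB C q w.1 C.b = 0 := by rw [αB_b, hw.1]; rfl
    have e2 : αB C q w.1 C.b' < 0 := by
      rw [αB_b']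
      have := hw.2.2.1
      omega
    simp [clsOf, αOf, cls, e1, e2]
  · have e1 : αB C q (w5 C q) C.b = 1 := by rw [αB_b, w5_b]; rfl
    simp [clsOf, αOf, cls, e1]
  · simp [clsOf, αOf, cls, αd, C.hba, Ne.symm j.2.1, C.hb'a, Ne.symm j.2.2.1]

lemma αB_injective {w w' : σ →₀ ℕ} (h : αB C q w = αB C q w') : w = w' := by
  ext u
  have := congrFun h u
  unfold αB at this
  have : ((w u : ℕ) : ℤ) = w' u := by linarith
  exact_mod_cast this

lemma αOf_injective : Function.Injective (αOf C q) := by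
  intro t t' h
  have hc : cls C q t = cls C q t' := by
    rw [← clsOf_αOf C q, ← clsOf_αOf C q, h]
  rcases t with _ | j | _ | w | _ | j <;> rcases t' with _ | j' | _ | w' | _ | j' <;>
    simp [cls] at hc
  · rfl
  · have e := congrFun h j.1
    simp [αOf, αd, j.2.1] at e
    rw [Subtype.ext e]
  · rfl
  · have e : w.1 = w'.1 := αB_injective C q h
    rw [Subtype.ext e]
  · rfl
  · have e := congrFun h j.1
    simp [αOf, αd, j.2.2.2] at e
    rw [Subtype.ext e]

lemma sum_αB {w : σ →₀ ℕ} (hw : ∑ u, ((w u : ℕ) : ℤ) = q) : ∑ u, αB C q w u = 0 := by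
  unfold αB
  rw [Finset.sum_sub_distrib, hw]
  simp

include hq in
lemma sum_w5 : ∑ u, ((w5 C q u : ℕ) : ℤ) = q := by
  unfold w5
  simp only [Finsupp.add_apply, Nat.cast_add]
  rw [Finset.sum_add_distrib]
  have e1 : ∑ u, ((Finsupp.single C.b 1 u : ℕ) : ℤ) = 1 := by
    simp [Finsupp.single_apply]
  have e2 : ∑ u, ((Finsupp.single C.a (q - 1) u : ℕ) : ℤ) = ((q - 1 : ℕ) : ℤ) := by
    rw [Finset.sum_eq_single C.a]
    · rw [Finsupp.single_eq_same]
    · intro u _ hu
      rw [Finsupp.single_apply, if_neg (Ne.symm hu)]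
      rfl
    · intro h
      exact absurd (Finset.mem_univ _) h
  rw [e1, e2]
  omega

include hq in
lemma sum_αOf (t : TI C q) : ∑ l, αOf C q t l = 0 := by
  rcases t with _ | j | _ | w | _ | j
  · exact sum_αd _ _
  · exact sum_αd _ _
  · exact sum_αd _ _
  · exact sum_αB C q ((mem_BF_iff C q w.1).mp w.2).2.1
  · exact sum_αB C q (sum_w5 C q hq)
  · exact sum_αd _ _

include hq in
theorem finrank_piece (t0 : Mid C) (t : TI C q) :
    Module.finrank k ↥(tPiece (MI k (gQ C q)) (αOf C q t)) = dOf C q t := by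
  rw [finrank_tPiece_eq]
  rcases t with _ | j | _ | w | _ | j
  · exact finrank_P1 C q hq
  · exact finrank_P23 C q hq t0 j.2.1 j.2.2.2
  · exact finrank_P23 C q hq t0 C.hbb.symm C.hb'a
  · have hw := (mem_BF_iff C q w.1).mp w.2
    exact finrank_P4 C q hq hw.1 hw.2.2.1 hw.2.2.2
  · exact finrank_P5 C q hq (w5_b C q) (w5_b' C q) (w5_mid C q)
  · exact finrank_P6 C q hq j

include hq in
lemma inL_range {α : σ → ℤ} (h : InL C q α) : ∃ t : TI C q, αOf C q t = α := by
  rcases h with rfl | ⟨j, rfl⟩ | rfl | ⟨w, h1, h2, h3, h4, rfl⟩ | ⟨w, h1, h2, h3, h4, rfl⟩ | ⟨j, rfl⟩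
  · exact ⟨.inl (), rfl⟩
  · exact ⟨.inr (.inl j), rfl⟩
  · exact ⟨.inr (.inr (.inl ())), rfl⟩
  · exact ⟨.inr (.inr (.inr (.inl ⟨w, (mem_BF_iff C q w).mpr ⟨h1, h2, h3, h4⟩⟩))), rfl⟩
  · refine ⟨.inr (.inr (.inr (.inr (.inl ())))), ?_⟩
    show αB C q (w5 C q) = αB C q w
    congr 1
    ext u
    rcases cases_u C u with rfl | rfl | rfl | ⟨m, rfl⟩
    · rw [w5_b, h1]
    · rw [w5_b', h3]
    · have e1 : w5 C q C.a = q - 1 := by
        simp [w5, Finsupp.single_apply, C.hba]
      have h5 : ∑ u, ((w u : ℕ) : ℤ) = 1 + w C.a := by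
        rw [← Finset.add_sum_erase Finset.univ _ (Finset.mem_univ C.b),
          ← Finset.add_sum_erase _ _ (Finset.mem_erase.mpr ⟨Ne.symm C.hba, Finset.mem_univ C.a⟩)]
        rw [Finset.sum_eq_zero, add_zero, h1]
        · norm_num
        intro u hu
        rw [Finset.mem_erase, Finset.mem_erase] at hu
        rcases cases_u C u with h | h | h | ⟨m, h⟩
        · exact absurd h hu.2.1
        · rw [h, h3]; rfl
        · exact absurd h hu.1
        · rw [h, h4 m]; rfl
      rw [e1]
      rw [h2] at h5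
      omega
    · rw [w5_mid, h4 m]
  · exact ⟨.inr (.inr (.inr (.inr (.inr j)))), rfl⟩

include hq in
lemma w0_mem : w0 C q ∈ BF C q := by
  rw [mem_BF_iff]
  refine ⟨?_, ?_, ?_, ?_⟩
  · simp [w0, Finsupp.single_apply, C.hbb.symm, C.hba.symm]
  · unfold w0
    simp only [Finsupp.add_apply, Nat.cast_add]
    rw [Finset.sum_add_distrib]
    have e1 : ∑ u, ((Finsupp.single C.b' (q - 1) u : ℕ) : ℤ) = ((q - 1 : ℕ) : ℤ) := by
      rw [Finset.sum_eq_single C.b']
      · rw [Finsupp.single_eq_same]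
      · intro u _ hu
        rw [Finsupp.single_apply, if_neg (Ne.symm hu)]
        rfl
      · intro h
        exact absurd (Finset.mem_univ _) h
    have e2 : ∑ u, ((Finsupp.single C.a 1 u : ℕ) : ℤ) = 1 := by
      simp [Finsupp.single_apply]
    rw [e1, e2]
    omega
  · simp [w0, Finsupp.single_apply, C.hb'a.symm]
    omega
  · left
    simp [w0, Finsupp.single_apply, C.hb'a.symm]
    omega

include hq in
lemma cond_iff {w : σ →₀ ℕ} (hw : w ∈ BF C q) :
    (w C.b' + 1 = q ∧ ∀ m : Mid C, w m.1 = 0) ↔ w = w0 C q := by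
  have hw' := (mem_BF_iff C q w).mp hw
  constructor
  · rintro ⟨h1, h2⟩
    have h3 := sum_eq_two C w hw'.1 h2
    rw [hw'.2.1] at h3
    ext u
    rcases cases_u C u with rfl | rfl | rfl | ⟨m, rfl⟩
    · rw [hw'.1]
      simp [w0, Finsupp.single_apply, C.hbb.symm, C.hba.symm]
    · simp [w0, Finsupp.single_apply, C.hb'a.symm]
      omega
    · simp [w0, Finsupp.single_apply, C.hb'a]
      omega
    · rw [h2 m]
      simp [w0, Finsupp.single_apply, Ne.symm m.2.2.1, Ne.symm m.2.2.2]
  · rintro rfl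
    refine ⟨?_, fun m => ?_⟩
    · simp [w0, Finsupp.single_apply, C.hb'a.symm]
      omega
    · simp [w0, Finsupp.single_apply, Ne.symm m.2.2.1, Ne.symm m.2.2.2]

include hq in
lemma sum_sB : ∑ w : ↥(BF C q), (sB C q w.1).card = (BF C q).card + 1 := by
  classical
  rw [Finset.sum_coe_sort (BF C q) (fun w => (sB C q w).card)]
  have h1 : ∀ w ∈ BF C q, (sB C q w).card = 1 + (if w = w0 C q then 1 else 0) := by
    intro w hw
    unfold sB
    by_cases hc : w C.b' + 1 = q ∧ ∀ m : Mid C, w m.1 = 0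
    · rw [if_pos hc, if_pos ((cond_iff C q hq hw).mp hc)]
      rfl
    · rw [if_neg hc, if_neg (fun h => hc ((cond_iff C q hq hw).mpr h))]
      rfl
  rw [Finset.sum_congr rfl h1, Finset.sum_add_distrib, Finset.sum_const, smul_eq_mul, mul_one,
    Finset.sum_ite_eq' (BF C q) (w0 C q) (fun _ => 1), if_pos (w0_mem C q hq)]

include hq in
lemma sum_dOf : ∑ t, dOf C q t = 2 * Fintype.card (Mid C) + 5 + (BF C q).card := by
  simp only [Fintype.sum_sum_type, dOf, Finset.sum_const, Finset.card_univ, smul_eq_mul,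
    Fintype.card_unit]
  rw [sum_sB C q hq]
  ring

include hq in
theorem finrank_degree_zero (t0 : Mid C)
    (hcase : 4 ≤ q ∨ ∀ j : Mid C, ∃ j' : Mid C, j' ≠ j) :
    Module.finrank k ↥(⨆ α : {α : σ → ℤ // ∑ l, α l = 0}, tPiece (MI k (gQ C q)) α.1) =
      2 * Fintype.card (Mid C) + 5 + (BF C q).card := by
  classical
  have hfr : ∀ α ∈ Finset.univ.image (αOf C q),
      FiniteDimensional k ↥(tPiece (MI k (gQ C q)) α) := by
    intro α hα
    rw [Finset.mem_image] at hα
    obtain ⟨t, -, rfl⟩ := hα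
    apply FiniteDimensional.of_finrank_pos
    rw [finrank_piece C q hq t0 t]
    rcases t with _ | j | _ | w | _ | j
    · simp [dOf]
    · simp [dOf]
    · simp [dOf]
    · show 0 < (sB C q w.1).card
      unfold sB
      split_ifs <;> simp
    · simp [dOf]
    · simp [dOf]
  rw [iSup_subtype_eq_biSup (fun α => ∑ l, α l = 0) (Finset.univ.image (αOf C q))]
  · have h := Groth.Agent.Lib.Helper24TwoBlk.finrank_biSup_tPiece'
      (isMonomial_MI (k := k) (gQ C q)) (Finset.univ.image (αOf C q)) hfr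
    rw [h.2, Finset.sum_image (fun t _ t' _ h => αOf_injective C q h),
      Finset.sum_congr rfl (fun t _ => finrank_piece C q hq t0 t), sum_dOf C q hq]
  · intro α hα
    rw [Finset.mem_image] at hα
    obtain ⟨t, -, rfl⟩ := hα
    exact sum_αOf C q hq t
  · intro α hsum hα
    apply tPiece_eq_bot_of_V (gQ C q) α
    intro c hc i
    by_contra hne
    apply hα
    rw [Finset.mem_image]
    obtain ⟨t, ht⟩ := inL_range C q hq (classify C q hq t0 hcase hsum hc hne)
    exact ⟨t, Finset.mem_univ _, ht⟩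

end Assembly

section Final

theorem s13450 (k : Type u) [Field k] (n q : ℕ)
    (hcase : (n = 3 ∧ 4 ≤ q) ∨ (4 ≤ n ∧ 2 ≤ q)) :
    Module.finrank k ↥(⨆ α : {α : Fin (n + 1) → ℤ // ∑ i, α i = 0},
      tPiece (Ideal.span ({f : MvPolynomial (Fin (n + 1)) k | ∃ i : Fin (n + 1), i.val + 1 ≤ n ∧ f = MvPolynomial.X 0 * MvPolynomial.X i} ∪ {MvPolynomial.X 1 ^ q})) α.1) =
      2 * n - 1 + Nat.choose (n + q - 1) (n - 1) := by
  classical
  have hq : 2 ≤ q := by omega
  have hn3 : 3 ≤ n := by omega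
  obtain ⟨m, rfl⟩ : ∃ m, n = m + 3 := ⟨n - 3, by omega⟩
  have hv0 : ((0 : Fin (m + 3 + 1)) : ℕ) = 0 := rfl
  have hv1 : ((1 : Fin (m + 3 + 1)) : ℕ) = 1 := by simp
  have hne : ∀ {x y : Fin (m + 3 + 1)}, x.val ≠ y.val → x ≠ y := fun h e => h (congrArg Fin.val e)
  let C : Cfg (Fin (m + 3 + 1)) := ⟨0, 1, Fin.last (m + 3), hne (by rw [hv0, hv1]; omega),
    hne (by rw [hv0, Fin.val_last]; omega), hne (by rw [hv1, Fin.val_last]; omega)⟩
  have hCb : C.b = 0 := rfl
  have hCb' : C.b' = 1 := rfl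
  have hCa : C.a = Fin.last (m + 3) := rfl
  have mkMid : ∀ i : Fin (m + 3 + 1), 2 ≤ i.val → i.val ≤ m + 2 →
      i ≠ C.b ∧ i ≠ C.b' ∧ i ≠ C.a := by
    intro i h1 h2
    refine ⟨hne ?_, hne ?_, hne ?_⟩
    · rw [hCb, hv0]; omega
    · rw [hCb', hv1]; omega
    · rw [hCa, Fin.val_last]; omega
  have midVal : ∀ x : Mid C, 2 ≤ x.1.val ∧ x.1.val ≤ m + 2 := by
    intro x
    have h1 : x.1.val ≠ 0 := fun h => x.2.1 (Fin.ext (h.trans (by rw [hCb, hv0])))
    have h2 : x.1.val ≠ 1 := fun h => x.2.2.1 (Fin.ext (h.trans (by rw [hCb', hv1])))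
    have h4 : x.1.val ≠ m + 3 := fun h => x.2.2.2 (Fin.ext (h.trans (by rw [hCa, Fin.val_last])))
    have := x.1.isLt
    omega
  have t0 : Mid C := ⟨⟨2, by omega⟩, mkMid _ (by simp) (by simp)⟩
  have hcase' : 4 ≤ q ∨ ∀ j : Mid C, ∃ j' : Mid C, j' ≠ j := by
    rcases hcase with ⟨-, h⟩ | ⟨h, -⟩
    · exact Or.inl h
    · right
      intro j
      by_cases hj : j.1.val = 2
      · refine ⟨⟨⟨3, by omega⟩, mkMid _ (by simp) (by simp; omega)⟩, ?_⟩
        intro h'
        have := congrArg (fun x : Mid C => x.1.val) h'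
        simp only at this
        omega
      · refine ⟨⟨⟨2, by omega⟩, mkMid _ (by simp) (by simp)⟩, ?_⟩
        intro h'
        have := congrArg (fun x : Mid C => x.1.val) h'
        simp only at this
        omega
  have hmono : ∀ p l : Fin (m + 3 + 1), monomial (gen p l) (1:k) = X p * X l := by
    intro p l
    unfold gen
    rw [X, X, monomial_mul, one_mul]
  have hI : (Ideal.span ({f : MvPolynomial (Fin (m + 3 + 1)) k | ∃ i : Fin (m + 3 + 1), i.val + 1 ≤ m + 3 ∧ f = MvPolynomial.X 0 * MvPolynomial.X i} ∪ {MvPolynomial.X 1 ^ q})) = MI k (gQ C q) := by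
    unfold MI
    congr 1
    ext f
    simp only [Set.mem_union, Set.mem_setOf_eq, Set.mem_image, Set.mem_range, Set.mem_singleton_iff]
    constructor
    · rintro (⟨i, hi, rfl⟩ | rfl)
      · by_cases h0 : i.val = 0
        · have : i = 0 := Fin.ext h0
          subst this
          exact ⟨_, ⟨.bb, rfl⟩, hmono _ _⟩
        by_cases h1 : i.val = 1
        · have : i = 1 := Fin.ext (by rw [hv1]; exact h1)
          subst this
          exact ⟨_, ⟨.bb', rfl⟩, hmono _ _⟩
        exact ⟨_, ⟨.bm ⟨i, mkMid i (by omega) (by omega)⟩, rfl⟩, hmono _ _⟩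
      · exact ⟨_, ⟨.Q, rfl⟩, (X_pow_eq_monomial).symm⟩
    · rintro ⟨β, ⟨i, rfl⟩, rfl⟩
      cases i with
      | bb => exact Or.inl ⟨0, by have := hv0; omega, hmono _ _⟩
      | bb' => exact Or.inl ⟨1, by have := hv1; omega, hmono _ _⟩
      | bm x =>
        have := midVal x
        exact Or.inl ⟨x.1, by omega, hmono _ _⟩
      | Q => exact Or.inr (X_pow_eq_monomial).symm
  rw [hI, finrank_degree_zero C q hq t0 hcase', Groth.Agent.Lib.Helper24Nest.card_Mid,
    Fintype.card_fin]
  have h1 := card_BF C q hq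
  rw [Fintype.card_fin] at h1
  have h2 : Nat.choose (m + 3 + q - 1) (m + 3 - 1) = Nat.choose (m + 3 + 1 - 1 + q - 1) q := by
    have e : m + 3 + 1 - 1 + q - 1 = m + 3 + q - 1 := by omega
    rw [e]
    exact (Nat.choose_symm_of_eq_add (by omega)).symm
  rw [h2]
  omega

end Final

end Groth.Agent.Lib.Helper24QPow
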