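import Mathlib

/-!
Quasisymmetric power series of degree `d` = compatible families of homogeneous polynomials (S17171).
-/

set_option autoImplicit false

open Finsupp

namespace Groth.Agent.Lib.Helper24QSym

/-- restriction of an exponent vector to `Fin n` -/
noncomputable def res (n : ℕ) (e : ℕ →₀ ℕ) : Fin n →₀ ℕ :=
  e.comapDomain Fin.val Fin.val_injective.injOn

lemma res_mapDomain (n : ℕ) (e' : Fin n →₀ ℕ) : res n (mapDomain Fin.val e') = e' :=
  comapDomain_mapDomain Fin.val Fin.val_injective e'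

lemma mapDomain_res (n : ℕ) (e : ℕ →₀ ℕ) (h : ∀ s ∈ e.support, s < n) :
    mapDomain Fin.val (res n e) = e :=
  mapDomain_comapDomain Fin.val Fin.val_injective e
    (fun s hs => ⟨⟨s, h s (Finset.mem_coe.mp hs)⟩, rfl⟩)

lemma support_mapDomain_lt (n : ℕ) (e' : Fin n →₀ ℕ) :
    ∀ s ∈ (mapDomain Fin.val e').support, s < n := by
  classical
  intro s hs
  have h := Finsupp.mapDomain_support hs
  obtain ⟨t, _, rfl⟩ := Finset.mem_image.mp h
  exact t.isLt

lemma degree_mapDomain {α β : Type*} (g : α → β) (e : α →₀ ℕ) :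
    (mapDomain g e).degree = e.degree := by
  rw [mapDomain, map_finsuppSum]
  simp only [degree_single]
  rfl

/-- the least `n` with support of `e` inside `Fin n` -/
noncomputable def N (e : ℕ →₀ ℕ) : ℕ := e.support.sup (fun s => s + 1)

lemma N_le_iff (e : ℕ →₀ ℕ) (n : ℕ) : N e ≤ n ↔ ∀ s ∈ e.support, s < n := by
  unfold N
  rw [Finset.sup_le_iff]
  exact forall₂_congr fun s _ => Nat.succ_le_iff

lemma lt_N (e : ℕ →₀ ℕ) : ∀ s ∈ e.support, s < N e := (N_le_iff e (N e)).mp le_rfl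

section family

variable (f : (n : ℕ) → MvPolynomial (Fin n) ℤ)
  (hcomp : ∀ (n m : ℕ) (φ : Fin n ↪o Fin m) (e : Fin n →₀ ℕ),
    MvPolynomial.coeff e (f n) = MvPolynomial.coeff (Finsupp.mapDomain φ e) (f m))

include hcomp in
lemma key_indep (e : ℕ →₀ ℕ) (n m : ℕ) (hn : ∀ s ∈ e.support, s < n) (hnm : n ≤ m) :
    MvPolynomial.coeff (res n e) (f n) = MvPolynomial.coeff (res m e) (f m) := by
  rw [hcomp n m (Fin.castLEOrderEmb hnm) (res n e)]
  congr 1
  apply mapDomain_injective Fin.val_injective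
  rw [← mapDomain_comp, mapDomain_res m e (fun s hs => lt_of_lt_of_le (hn s hs) hnm)]
  have : (Fin.val ∘ (Fin.castLEOrderEmb hnm : Fin n → Fin m)) = (Fin.val : Fin n → ℕ) := by
    funext x; rfl
  rw [this, mapDomain_res n e hn]

/-- the power series assembled from the family -/
noncomputable def Fser : MvPowerSeries ℕ ℤ :=
  fun e => MvPolynomial.coeff (res (N e) e) (f (N e))

lemma coeff_Fser (e : ℕ →₀ ℕ) :
    MvPowerSeries.coeff e (Fser f) = MvPolynomial.coeff (res (N e) e) (f (N e)) := rfl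

include hcomp in
lemma coeff_Fser_of_lt (e : ℕ →₀ ℕ) (n : ℕ) (hn : ∀ s ∈ e.support, s < n) :
    MvPowerSeries.coeff e (Fser f) = MvPolynomial.coeff (res n e) (f n) := by
  rw [coeff_Fser]
  exact key_indep f hcomp e (N e) n (lt_N e) ((N_le_iff e n).mpr hn)

include hcomp in
lemma coeff_Fser_mapDomain (n : ℕ) (e' : Fin n →₀ ℕ) :
    MvPowerSeries.coeff (mapDomain Fin.val e') (Fser f) = MvPolynomial.coeff e' (f n) := by
  rw [coeff_Fser_of_lt f hcomp _ n (support_mapDomain_lt n e'), res_mapDomain]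

lemma sum_single_eq_mapDomain (ℓ : ℕ) (i : Fin ℓ → ℕ) (a : Fin ℓ → ℕ) :
    ∑ t : Fin ℓ, Finsupp.single (i t) (a t) = mapDomain i (equivFunOnFinite.symm a) := by
  rw [mapDomain, Finsupp.sum_fintype _ _ (fun _ => single_zero _)]
  rfl

include hcomp in
lemma coeff_Fser_sum (ℓ : ℕ) (i : Fin ℓ → ℕ) (a : Fin ℓ → ℕ) (hi : StrictMono i) :
    MvPowerSeries.coeff (∑ t : Fin ℓ, Finsupp.single (i t) (a t)) (Fser f) =
      MvPolynomial.coeff (equivFunOnFinite.symm a) (f ℓ) := by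
  obtain ⟨n, hn⟩ : ∃ n, ∀ t, i t < n :=
    ⟨Finset.univ.sup (fun t => i t + 1), fun t =>
      Nat.lt_of_succ_le (Finset.le_sup (f := fun t => i t + 1) (Finset.mem_univ t))⟩
  have hmono : StrictMono (fun t : Fin ℓ => (⟨i t, hn t⟩ : Fin n)) := fun s t hst => hi hst
  let ι : Fin ℓ ↪o Fin n := OrderEmbedding.ofStrictMono _ hmono
  have hι : (Fin.val ∘ (ι : Fin ℓ → Fin n)) = i := by
    funext t; rfl
  rw [sum_single_eq_mapDomain, ← hι, mapDomain_comp, coeff_Fser_mapDomain f hcomp,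
    ← hcomp ℓ n ι]

lemma degree_Fser (d : ℕ) (hhom : ∀ n, (f n).IsHomogeneous d) (e : ℕ →₀ ℕ)
    (he : MvPowerSeries.coeff e (Fser f) ≠ 0) : e.degree = d := by
  by_contra hd
  apply he
  rw [coeff_Fser]
  apply (hhom (N e)).coeff_eq_zero
  rw [← degree_mapDomain Fin.val (res (N e) e), mapDomain_res (N e) e (lt_N e)]
  exact hd

end family

lemma sum_orderEmb {M : Type*} [AddCommMonoid M] {n : ℕ} (s : Finset (Fin n)) (h : Fin n → M) :
    ∑ x ∈ s, h x = ∑ t : Fin s.card, h (s.orderEmbOfFin rfl t) := by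
  conv_lhs => rw [← Finset.map_orderEmbOfFin_univ s rfl]
  rw [Finset.sum_map]
  rfl

lemma mapDomain_eq_sum {n : ℕ} (e : Fin n →₀ ℕ) (g : Fin n → ℕ) :
    mapDomain g e = ∑ t : Fin e.support.card,
      Finsupp.single (g (e.support.orderEmbOfFin rfl t)) (e (e.support.orderEmbOfFin rfl t)) := by
  rw [mapDomain, Finsupp.sum, sum_orderEmb]

theorem s17171 (d : ℕ) :
    (∀ F : MvPowerSeries ℕ ℤ,
      (∀ (ℓ : ℕ) (i j : Fin ℓ → ℕ) (a : Fin ℓ → ℕ), StrictMono i → StrictMono j → (∀ t, 0 < a t) →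
        MvPowerSeries.coeff (∑ t : Fin ℓ, Finsupp.single (i t) (a t)) F =
          MvPowerSeries.coeff (∑ t : Fin ℓ, Finsupp.single (j t) (a t)) F) →
      (∀ e : ℕ →₀ ℕ, MvPowerSeries.coeff e F ≠ 0 → e.degree = d) →
      ∀ (n m : ℕ) (φ : Fin n ↪o Fin m) (e : Fin n →₀ ℕ),
        MvPowerSeries.coeff (Finsupp.mapDomain Fin.val e) F =
          MvPowerSeries.coeff (Finsupp.mapDomain Fin.val (Finsupp.mapDomain φ e)) F) ∧
    (∀ f : (n : ℕ) → MvPolynomial (Fin n) ℤ,
      (∀ n, (f n).IsHomogeneous d) →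
      (∀ (n m : ℕ) (φ : Fin n ↪o Fin m) (e : Fin n →₀ ℕ),
        MvPolynomial.coeff e (f n) = MvPolynomial.coeff (Finsupp.mapDomain φ e) (f m)) →
      ∃! F : MvPowerSeries ℕ ℤ,
        (∀ (ℓ : ℕ) (i j : Fin ℓ → ℕ) (a : Fin ℓ → ℕ), StrictMono i → StrictMono j → (∀ t, 0 < a t) →
          MvPowerSeries.coeff (∑ t : Fin ℓ, Finsupp.single (i t) (a t)) F =
            MvPowerSeries.coeff (∑ t : Fin ℓ, Finsupp.single (j t) (a t)) F) ∧
        (∀ e : ℕ →₀ ℕ, MvPowerSeries.coeff e F ≠ 0 → e.degree = d) ∧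
        (∀ (n : ℕ) (e : Fin n →₀ ℕ),
          MvPowerSeries.coeff (Finsupp.mapDomain Fin.val e) F = MvPolynomial.coeff e (f n))) := by
  refine ⟨?_, ?_⟩
  · intro F hq _ n m φ e
    rw [← mapDomain_comp, mapDomain_eq_sum e Fin.val, mapDomain_eq_sum e (Fin.val ∘ φ)]
    exact hq e.support.card
      (fun t => Fin.val (e.support.orderEmbOfFin rfl t))
      (fun t => (Fin.val ∘ φ) (e.support.orderEmbOfFin rfl t))
      (fun t => e (e.support.orderEmbOfFin rfl t))
      (Fin.val_strictMono.comp (e.support.orderEmbOfFin rfl).strictMono)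
      (Fin.val_strictMono.comp (φ.strictMono.comp (e.support.orderEmbOfFin rfl).strictMono))
      (fun t => Nat.pos_of_ne_zero
        (Finsupp.mem_support_iff.mp (Finset.orderEmbOfFin_mem e.support rfl t)))
  · intro f hhom hcomp
    refine ⟨Fser f, ⟨?_, ?_, ?_⟩, ?_⟩
    · intro ℓ i j a hi hj _
      rw [coeff_Fser_sum f hcomp ℓ i a hi, coeff_Fser_sum f hcomp ℓ j a hj]
    · intro e he
      exact degree_Fser f d hhom e he
    · intro n e
      exact coeff_Fser_mapDomain f hcomp n e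
    · rintro F' ⟨_, _, h3⟩
      ext e
      rw [coeff_Fser, ← h3 (N e) (res (N e) e), mapDomain_res (N e) e (lt_N e)]

end Groth.Agent.Lib.Helper24QSym
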