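import Mathlib
import Groth.Agent.Lib.Helper24QPow

set_option autoImplicit false
universe u

namespace Groth.Agent.Lib.Helper24QTwo

open W4c1hilbpn MvPolynomial Groth.Agent.Lib.Helper24TgtPiece Groth.Agent.Lib.Helper24GenV
open Groth.Agent.Lib.Helper24TwoBlk (gen gen_apply gen_le_iff gen_comm)
open Groth.Agent.Lib.Helper24Nest (Cfg Mid αd α4 nn_αd sum_αd sum_α4 gen_le_iff' shift_cast
  finrank_V_of_isolated zero_of_bad)
open Groth.Agent.Lib.Helper24EdgeId (exists_gen_of_sum_two sum_gen α4_left α4_left' α4_right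
  α4_right' αd_self shift_gen_α4 nn_gen_α4 nn_α4_iff shift_gen_αd gen_right_cancel gen_le_gen)
open Groth.Agent.Lib.Helper24QPow (act_form' αB αB_b αB_b' αB_mid nnB αB_injective sum_αB
  αxb_b αxb_b' αxb_mid nnXB)

variable {σ : Type*} [Fintype σ] [DecidableEq σ] {k : Type*} [Field k]

section generic

variable {ι κ : Type*} [DecidableEq κ] (g : ι → σ →₀ ℕ) (α : σ → ℤ)

/-- the dimension of `V` is the number of classes containing an active generator, for a class
function constant along links and with connected classes -/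
theorem finrank_V_cls (cl : ι → κ) (S : Finset κ)
    (hlink : ∀ i j γ, g i ≤ γ → g j ≤ γ → nn γ α → Std g (shift γ α) → Act g α i →
      nn (g j) α ∧ cl i = cl j)
    (hconn : ∀ i j, Act g α i → Act g α j → cl i = cl j → ∀ c ∈ V k g α, c i = c j)
    (hS : ∀ m, m ∈ S ↔ ∃ i, Act g α i ∧ cl i = m) :
    Module.finrank k ↥(V k g α) = S.card := by
  classical
  have h := finrank_V_eq (k := k) g α (κ := ↥S)
    (fun i => if h : Act g α i then some ⟨cl i, (hS _).mpr ⟨i, h, rfl⟩⟩ else none) ?_ ?_ ?_ ?_ ?_
  · rw [h, Fintype.card_coe]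
  · intro i m hm
    by_contra hact
    simp only [dif_neg hact] at hm
    cases hm
  · intro i j γ m hi hj hn hS' hm
    have hact : Act g α i := by
      by_contra hact
      simp only [dif_neg hact] at hm
      cases hm
    obtain ⟨hnj, hcl⟩ := hlink i j γ hi hj hn hS' hact
    have hactj : Act g α j := ⟨hnj, std_of_le (shift_le_shift hj) hS'⟩
    simp only [dif_pos hact, Option.some.injEq] at hm
    simp only [dif_pos hactj, Option.some.injEq]
    rw [← hm]
    exact Subtype.ext hcl.symm
  · intro i hi c hc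
    apply hc.1
    intro hact
    simp only [dif_pos hact] at hi
    cases hi
  · intro i j m hi hj c hc
    have hacti : Act g α i := by
      by_contra hact
      simp only [dif_neg hact] at hi
      cases hi
    have hactj : Act g α j := by
      by_contra hact
      simp only [dif_neg hact] at hj
      cases hj
    simp only [dif_pos hacti, Option.some.injEq] at hi
    simp only [dif_pos hactj, Option.some.injEq] at hj
    have : cl i = cl j := by
      have e1 := congrArg Subtype.val hi
      have e2 := congrArg Subtype.val hj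
      simp only at e1 e2
      rw [e1, e2]
    exact hconn i j hacti hactj this c hc
  · intro m
    obtain ⟨i, hact, hcl⟩ := (hS m.1).mp m.2
    refine ⟨i, ?_⟩
    simp only [dif_pos hact, Option.some.injEq]
    exact Subtype.ext hcl

end generic

/-- index type of the generators -/
inductive GT (M M' : Type*) : Type _
  | bb : GT M M'
  | bb' : GT M M'
  | bm (x : M) : GT M M'
  | Q' : GT M M'
  | QM (x : M') : GT M M'

/-- the middle variables of the second block -/
abbrev MidM (C : Cfg σ) (T : Finset σ) : Type _ := {x : Mid C // x.1 ∉ T}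

/-- the middle variables of the first block only -/
abbrev MidT (C : Cfg σ) (T : Finset σ) : Type _ := {x : Mid C // x.1 ∈ T}

/-- exponent vectors of the generators of `x_b (x_b, x_b', x_m, x_t) + x_b'^q (x_b', x_m)` -/
noncomputable def gT (C : Cfg σ) (T : Finset σ) (q : ℕ) : GT (Mid C) (MidM C T) → σ →₀ ℕ
  | .bb => gen C.b C.b
  | .bb' => gen C.b C.b'
  | .bm x => gen C.b x.1
  | .Q' => Finsupp.single C.b' (q + 1)
  | .QM x => Finsupp.single C.b' q + Finsupp.single x.1.1 1

section le

variable (C : Cfg σ) (T : Finset σ) (q : ℕ) (γ : σ →₀ ℕ)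

lemma le_bb : gT C T q .bb ≤ γ ↔ 2 ≤ γ C.b := by
  show gen C.b C.b ≤ γ ↔ _
  rw [gen_le_iff']
  constructor
  · intro h; exact h.2.2 rfl
  · intro h; exact ⟨by omega, by omega, fun _ => h⟩

lemma le_bb' : gT C T q .bb' ≤ γ ↔ 1 ≤ γ C.b ∧ 1 ≤ γ C.b' := by
  show gen C.b C.b' ≤ γ ↔ _
  rw [gen_le_iff C.hbb]

lemma le_bm (x : Mid C) : gT C T q (.bm x) ≤ γ ↔ 1 ≤ γ C.b ∧ 1 ≤ γ x.1 := by
  show gen C.b x.1 ≤ γ ↔ _
  rw [gen_le_iff (Ne.symm x.2.1)]

lemma le_Q' : gT C T q .Q' ≤ γ ↔ q + 1 ≤ γ C.b' := by
  show Finsupp.single C.b' (q + 1) ≤ γ ↔ _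
  constructor
  · intro h
    have := h C.b'
    rwa [Finsupp.single_eq_same] at this
  · intro h x
    rw [Finsupp.single_apply]
    split_ifs with hx
    · subst hx; exact h
    · exact Nat.zero_le _

lemma le_QM (x : MidM C T) : gT C T q (.QM x) ≤ γ ↔ q ≤ γ C.b' ∧ 1 ≤ γ x.1.1 := by
  show Finsupp.single C.b' q + Finsupp.single x.1.1 1 ≤ γ ↔ _
  have hx : x.1.1 ≠ C.b' := x.1.2.2.1
  constructor
  · intro h
    have h1 := h C.b'
    have h2 := h x.1.1
    simp only [Finsupp.add_apply, Finsupp.single_apply, if_true, if_neg hx,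
      if_neg (Ne.symm hx)] at h1 h2
    exact ⟨by omega, by omega⟩
  · rintro ⟨h1, h2⟩ u
    simp only [Finsupp.add_apply, Finsupp.single_apply]
    by_cases hu : C.b' = u
    · subst hu
      rw [if_pos rfl, if_neg hx]
      omega
    · rw [if_neg hu]
      split_ifs with hu'
      · subst hu'
        omega
      · omega

end le

/-- closed form for the standard monomials -/
lemma std_iff' (C : Cfg σ) (T : Finset σ) (q : ℕ) (w : σ →₀ ℕ) : Std (gT C T q) w ↔
    (w C.b = 0 ∨ (w C.b = 1 ∧ w C.b' = 0 ∧ ∀ x : Mid C, w x.1 = 0)) ∧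
      (w C.b' ≤ q ∧ (w C.b' = q → ∀ m : MidM C T, w m.1.1 = 0)) := by
  constructor
  · intro hS
    have h1 := hS .bb
    have h2 := hS .Q'
    have h3 := hS .bb'
    rw [le_bb] at h1
    rw [le_Q'] at h2
    rw [le_bb'] at h3
    refine ⟨?_, by omega, fun hq m => ?_⟩
    · by_cases hz : w C.b = 0
      · exact Or.inl hz
      · right
        refine ⟨by omega, by omega, fun x => ?_⟩
        have h4 := (le_bm C T q w x).not.mp (hS _)
        omega
    · have h4 := (le_QM C T q w m).not.mp (hS _)
      omega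
  · rintro ⟨h, h0, h0'⟩ i hi
    cases i with
    | bb => rw [le_bb] at hi; omega
    | bb' => rw [le_bb'] at hi; omega
    | Q' => rw [le_Q'] at hi; omega
    | bm x =>
      rw [le_bm] at hi
      rcases h with h | ⟨h1, h2, h3⟩
      · omega
      · have := h3 x
        omega
    | QM m =>
      rw [le_QM] at hi
      have := h0' (by omega) m
      omega

/-- closed form for standardness of a shifted monomial -/
lemma std_shift_iff (C : Cfg σ) (T : Finset σ) (q : ℕ) {γ : σ →₀ ℕ} {α : σ → ℤ} (hn : nn γ α) :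
    Std (gT C T q) (shift γ α) ↔
      (((γ C.b : ℤ) + α C.b = 0 ∨ ((γ C.b : ℤ) + α C.b = 1 ∧ (γ C.b' : ℤ) + α C.b' = 0 ∧
          ∀ x : Mid C, (γ x.1 : ℤ) + α x.1 = 0)) ∧
        ((γ C.b' : ℤ) + α C.b' ≤ q ∧ ((γ C.b' : ℤ) + α C.b' = q →
          ∀ m : MidM C T, (γ m.1.1 : ℤ) + α m.1.1 = 0))) := by
  rw [std_iff']
  have eb := shift_cast hn C.b
  have eb' := shift_cast hn C.b'
  constructor
  · rintro ⟨h, h0, h0'⟩
    refine ⟨?_, by omega, fun hq m => ?_⟩
    · rcases h with h | ⟨h1, h2, h3⟩
      · left; omega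
      · right
        refine ⟨by omega, by omega, fun x => ?_⟩
        have := shift_cast hn x.1
        have := h3 x
        omega
    · have := shift_cast hn m.1.1
      have := h0' (by omega) m
      omega
  · rintro ⟨h, h0, h0'⟩
    refine ⟨?_, by omega, fun hq m => ?_⟩
    · rcases h with h | ⟨h1, h2, h3⟩
      · left; omega
      · right
        refine ⟨by omega, by omega, fun x => ?_⟩
        have := shift_cast hn x.1
        have := h3 x
        omega
    · have := shift_cast hn m.1.1
      have := h0' (by omega) m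
      omega

section evals

variable (C : Cfg σ) (T : Finset σ) (q : ℕ)

lemma gT_b (i : GT (Mid C) (MidM C T)) : gT C T q i C.b =
    match i with | .bb => 2 | .bb' => 1 | .bm _ => 1 | .Q' => 0 | .QM _ => 0 := by
  cases i with
  | bb => simp [gT, gen_apply]
  | bb' => simp [gT, gen_apply, C.hbb.symm]
  | bm x => simp [gT, gen_apply, x.2.1]
  | Q' => simp [gT, Finsupp.single_apply, C.hbb.symm]
  | QM x => simp [gT, Finsupp.single_apply, C.hbb.symm, x.1.2.1]

lemma gT_b' (i : GT (Mid C) (MidM C T)) : gT C T q i C.b' =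
    match i with | .bb => 0 | .bb' => 1 | .bm _ => 0 | .Q' => q + 1 | .QM _ => q := by
  cases i with
  | bb => simp [gT, gen_apply, C.hbb]
  | bb' => simp [gT, gen_apply, C.hbb]
  | bm x => simp [gT, gen_apply, x.2.2.1, C.hbb]
  | Q' => simp [gT]
  | QM x => simp [gT, Finsupp.single_apply, x.1.2.2.1]

lemma gT_mid (i : GT (Mid C) (MidM C T)) (x : Mid C) : gT C T q i x.1 =
    match i with
    | .bm y => if y.1 = x.1 then 1 else 0
    | .QM y => if y.1.1 = x.1 then 1 else 0
    | _ => 0 := by
  cases i with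
  | bb => simp [gT, gen_apply, Ne.symm x.2.1]
  | bb' => simp [gT, gen_apply, Ne.symm x.2.1, Ne.symm x.2.2.1]
  | bm y => simp [gT, gen_apply, Ne.symm x.2.1]
  | Q' => simp [gT, Finsupp.single_apply, Ne.symm x.2.2.1]
  | QM y => simp [gT, Finsupp.single_apply, Ne.symm x.2.2.1]

end evals

section PieceA

variable (C : Cfg σ) (T : Finset σ) (q : ℕ) (hq : 1 ≤ q)

lemma midT_ne_midM (t : MidT C T) (m : MidM C T) : t.1.1 ≠ m.1.1 := by
  intro h
  exact m.2 (h ▸ t.2)

/-- adding a variable of the first block only keeps a monomial without `b` standard -/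
lemma std_add_T {w : σ →₀ ℕ} (hS : Std (gT C T q) w) (hb : w C.b = 0) (t0 : MidT C T) :
    Std (gT C T q) (w + Finsupp.single t0.1.1 1) := by
  rw [std_iff'] at hS ⊢
  obtain ⟨-, h1, h2⟩ := hS
  refine ⟨Or.inl ?_, ?_, ?_⟩
  · simp [hb, Finsupp.single_apply, t0.1.2.1]
  · simpa [Finsupp.single_apply, t0.1.2.2.1] using h1
  · intro h m
    have h3 : w C.b' = q := by simpa [Finsupp.single_apply, t0.1.2.2.1] using h
    simp [h2 h3 m, Finsupp.single_apply, midT_ne_midM C T t0 m]

/-- closed form of standardness after a shift by `e_x - e_b` -/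
lemma stdA_iff {x : σ} (hx : x ≠ C.b) {γ : σ →₀ ℕ} (hn : nn γ (αd x C.b)) :
    Std (gT C T q) (shift γ (αd x C.b)) ↔
      ((γ C.b = 1 ∨ (γ C.b = 2 ∧ (γ C.b' : ℤ) + (if x = C.b' then 1 else 0) = 0 ∧
          ∀ y : Mid C, (γ y.1 : ℤ) + (if x = y.1 then 1 else 0) = 0)) ∧
        ((γ C.b' : ℤ) + (if x = C.b' then 1 else 0) ≤ q ∧
          ((γ C.b' : ℤ) + (if x = C.b' then 1 else 0) = q →
            ∀ m : MidM C T, (γ m.1.1 : ℤ) + (if x = m.1.1 then 1 else 0) = 0))) := by
  rw [std_shift_iff C T q hn, αxb_b C hx, αxb_b']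
  simp only [αxb_mid]
  constructor
  · rintro ⟨h1, h2⟩
    refine ⟨?_, h2⟩
    rcases h1 with h1 | ⟨h1, h3, h4⟩
    · left; omega
    · right; exact ⟨by omega, h3, h4⟩
  · rintro ⟨h1, h2⟩
    refine ⟨?_, h2⟩
    rcases h1 with h1 | ⟨h1, h3, h4⟩
    · left; omega
    · right; exact ⟨by omega, h3, h4⟩

/-- class function for the multidegree `e_x - e_b` -/
def clA : GT (Mid C) (MidM C T) → Fin 2
  | .bb => 1
  | _ => 0

include hq in
theorem finrank_A (t0 : MidT C T) {x : σ} (hx : x ≠ C.b) :
    Module.finrank k ↥(V k (gT C T q) (αd x C.b)) = if x = C.a then 2 else 1 := by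
  have he0 : (0:ℤ) ≤ (if x = C.b' then (1:ℤ) else 0) := by split_ifs <;> norm_num
  have he1 : (if x = C.b' then (1:ℤ) else 0) ≤ 1 := by split_ifs <;> norm_num
  have hem0 : ∀ y : σ, (0:ℤ) ≤ (if x = y then (1:ℤ) else 0) := by
    intro y; split_ifs <;> norm_num
  -- active generators contain `b`
  have hcontains : ∀ (j : GT (Mid C) (MidM C T)) (γ : σ →₀ ℕ), gT C T q j ≤ γ →
      nn γ (αd x C.b) → Std (gT C T q) (shift γ (αd x C.b)) → 1 ≤ gT C T q j C.b := by
    intro j γ hj hn hS
    rw [stdA_iff C T q hx hn] at hS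
    obtain ⟨-, h1, h2⟩ := hS
    cases j with
    | bb => simp [gT_b]
    | bb' => simp [gT_b]
    | bm y => simp [gT_b]
    | Q' =>
      rw [le_Q'] at hj
      have : ((q : ℤ) + 1) ≤ γ C.b' := by exact_mod_cast hj
      omega
    | QM m =>
      rw [le_QM] at hj
      have h3 : (q : ℤ) ≤ γ C.b' := by exact_mod_cast hj.1
      have h4 : (1 : ℤ) ≤ γ m.1.1 := by exact_mod_cast hj.2
      have := h2 (by omega) m
      have := hem0 m.1.1
      omega
  have hact_t0 : Act (gT C T q) (αd x C.b) (.bm t0.1) := by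
    have hn : nn (gT C T q (.bm t0.1)) (αd x C.b) := (nnXB C hx _).mpr (by simp [gT_b])
    refine ⟨hn, (stdA_iff C T q hx hn).mpr ⟨Or.inl (by simp [gT_b]), ?_, ?_⟩⟩
    · have : gT C T q (.bm t0.1) C.b' = 0 := by simp [gT_b']
      rw [this]
      push_cast
      omega
    · intro h m
      have e1 : gT C T q (.bm t0.1) C.b' = 0 := by simp [gT_b']
      rw [e1] at h
      have hxb' : x = C.b' := by
        by_contra hne
        rw [if_neg hne] at h
        push_cast at h
        omega
      have e2 : gT C T q (.bm t0.1) m.1.1 = 0 := by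
        rw [gT_mid]
        simp [midT_ne_midM C T t0 m]
      rw [e2, if_neg (by rw [hxb']; exact Ne.symm m.1.2.2.1)]
      norm_num
  have h := finrank_V_cls (k := k) (gT C T q) (αd x C.b) (clA C T)
    (if x = C.a then {0, 1} else {0}) ?_ ?_ ?_
  · rw [h]
    split_ifs <;> rfl
  · -- links
    intro i j γ hi hj hn hS hact
    have hjb := hcontains j γ hj hn hS
    refine ⟨(nnXB C hx _).mpr hjb, ?_⟩
    have hib := (nnXB C hx _).mp hact.1
    rw [stdA_iff C T q hx hn] at hS
    obtain ⟨h1, -, -⟩ := hS
    have hcl : ∀ k, gT C T q k ≤ γ → 1 ≤ gT C T q k C.b →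
        clA C T k = if γ C.b = 1 then 0 else 1 := by
      intro k hk hkb
      cases k with
      | Q' => simp [gT_b] at hkb
      | QM m => simp [gT_b] at hkb
      | bb =>
        rw [le_bb] at hk
        rw [if_neg (by omega)]
        rfl
      | bb' =>
        rw [le_bb'] at hk
        by_cases h2 : γ C.b = 1
        · rw [if_pos h2]
          rfl
        · exfalso
          rcases h1 with h1 | ⟨h1, h3, h4⟩
          · exact h2 h1
          · have : (1 : ℤ) ≤ γ C.b' := by exact_mod_cast hk.2
            omega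
      | bm y =>
        rw [le_bm] at hk
        by_cases h2 : γ C.b = 1
        · rw [if_pos h2]
          rfl
        · exfalso
          rcases h1 with h1 | ⟨h1, h3, h4⟩
          · exact h2 h1
          · have : (1 : ℤ) ≤ γ y.1 := by exact_mod_cast hk.2
            have := h4 y
            have := hem0 y.1
            omega
    rw [hcl i hi hib, hcl j hj hjb]
  · -- connectedness
    intro i j hacti hactj hcl c hc
    have key : ∀ i, Act (gT C T q) (αd x C.b) i → clA C T i = 0 → c i = c (.bm t0.1) := by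
      intro i hact hcl0
      have hib := (nnXB C hx _).mp hact.1
      have hib1 : gT C T q i C.b = 1 := by
        cases i with
        | bb => simp [clA] at hcl0
        | bb' => simp [gT_b]
        | bm y => simp [gT_b]
        | Q' => simp [gT_b] at hib
        | QM m => simp [gT_b] at hib
      apply hc.2 _ _ (gT C T q i + Finsupp.single t0.1.1 1) le_self_add
      · rw [le_bm]
        simp [hib1, Finsupp.single_apply]
      · exact nn_of_le le_self_add hact.1
      · rw [shift_add_of_nonneg _ _ hact.1]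
        apply std_add_T C T q hact.2
        have := shift_cast hact.1 C.b
        rw [αxb_b C hx, hib1] at this
        have h0 : ((shift (gT C T q i) (αd x C.b) C.b : ℕ) : ℤ) = 0 := by rw [this]; norm_num
        exact_mod_cast h0
    have hcases : ∀ i : GT (Mid C) (MidM C T), clA C T i = 0 ∨ i = .bb := by
      intro i
      cases i <;> simp [clA]
    rcases hcases i with h0 | rfl
    · rw [key i hacti h0, key j hactj (by rw [← hcl]; exact h0)]
    · rcases hcases j with h0 | rfl
      · rw [h0] at hcl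
        simp [clA] at hcl
      · rfl
  · -- inhabited classes
    intro m
    have hbb_iff : Act (gT C T q) (αd x C.b) .bb ↔ x = C.a := by
      have hn : nn (gT C T q .bb) (αd x C.b) := (nnXB C hx _).mpr (by simp [gT_b])
      constructor
      · intro hact
        have hS := (stdA_iff C T q hx hn).mp hact.2
        have e1 : gT C T q .bb C.b = 2 := by simp [gT_b]
        rw [e1] at hS
        obtain ⟨h1, -⟩ := hS
        rcases h1 with h1 | ⟨-, h3, h4⟩
        · omega
        · by_contra hxa
          have hxb' : x ≠ C.b' := by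
            intro h
            rw [if_pos h] at h3
            have : (0 : ℤ) ≤ (gT C T q .bb C.b' : ℕ) := by positivity
            omega
          have := h4 ⟨x, hx, hxb', hxa⟩
          rw [if_pos rfl] at this
          have : (0 : ℤ) ≤ (gT C T q .bb x : ℕ) := by positivity
          omega
      · intro hxa
        refine ⟨hn, (stdA_iff C T q hx hn).mpr ?_⟩
        have e1 : gT C T q .bb C.b = 2 := by simp [gT_b]
        have e2 : gT C T q .bb C.b' = 0 := by simp [gT_b']
        have hxb' : x ≠ C.b' := by rw [hxa]; exact Ne.symm C.hb'a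
        rw [e1, e2, if_neg hxb']
        refine ⟨Or.inr ⟨rfl, by norm_num, fun y => ?_⟩, by push_cast; omega, fun h => ?_⟩
        · rw [gT_mid, if_neg (by rw [hxa]; exact Ne.symm y.2.2.2)]
          norm_num
        · push_cast at h
          omega
    constructor
    · intro hm
      by_cases hxa : x = C.a
      · rw [if_pos hxa, Finset.mem_insert, Finset.mem_singleton] at hm
        rcases hm with rfl | rfl
        · exact ⟨.bm t0.1, hact_t0, rfl⟩
        · exact ⟨.bb, hbb_iff.mpr hxa, rfl⟩
      · rw [if_neg hxa, Finset.mem_singleton] at hm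
        subst hm
        exact ⟨.bm t0.1, hact_t0, rfl⟩
    · rintro ⟨i, hact, rfl⟩
      by_cases hxa : x = C.a
      · rw [if_pos hxa]
        have : clA C T i = 0 ∨ clA C T i = 1 := by
          cases i <;> simp [clA]
        rcases this with h | h <;> rw [h] <;> simp
      · rw [if_neg hxa, Finset.mem_singleton]
        cases i with
        | bb => exact absurd (hbb_iff.mp hact) hxa
        | bb' => rfl
        | bm y => rfl
        | Q' => rfl
        | QM m => rfl

end PieceA

section PieceB

variable (C : Cfg σ) (T : Finset σ) (q : ℕ) (hq : 1 ≤ q)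

/-- closed form of standardness after a shift by `w - q e_b'` -/
lemma stdB_iff {w γ : σ →₀ ℕ} (hn : nn γ (αB C q w)) :
    Std (gT C T q) (shift γ (αB C q w)) ↔
      ((((γ C.b : ℤ) + w C.b = 0) ∨ ((γ C.b : ℤ) + w C.b = 1 ∧ (γ C.b' : ℤ) + w C.b' - q = 0 ∧
          ∀ x : Mid C, (γ x.1 : ℤ) + w x.1 = 0)) ∧
        ((γ C.b' : ℤ) + w C.b' - q ≤ q ∧ ((γ C.b' : ℤ) + w C.b' - q = q →
          ∀ m : MidM C T, (γ m.1.1 : ℤ) + w m.1.1 = 0))) := by
  rw [std_shift_iff C T q hn, αB_b, αB_b']
  simp only [αB_mid]
  constructor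
  · rintro ⟨h1, h2, h3⟩
    refine ⟨?_, by omega, fun h => h3 (by omega)⟩
    rcases h1 with h1 | ⟨h1, h4, h5⟩
    · exact Or.inl h1
    · exact Or.inr ⟨h1, by omega, h5⟩
  · rintro ⟨h1, h2, h3⟩
    refine ⟨?_, by omega, fun h => h3 (by omega)⟩
    rcases h1 with h1 | ⟨h1, h4, h5⟩
    · exact Or.inl h1
    · exact Or.inr ⟨h1, by omega, h5⟩

/-- class function for the multidegree `w - q e_b'` -/
def clB (w : σ →₀ ℕ) : GT (Mid C) (MidM C T) → Fin 3
  | .QM _ => 0
  | .Q' => if w C.b' + 1 < q then 0 else 1
  | .bb' => 2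
  | _ => 0

open Classical in
/-- the inhabited classes -/
noncomputable def SB (w : σ →₀ ℕ) : Finset (Fin 3) :=
  {0} ∪ (if w C.b' + 1 = q ∧ ∀ m : MidM C T, w m.1.1 = 0 then {1} else ∅) ∪
    (if w C.b' + 1 = q ∧ ∀ x : Mid C, w x.1 = 0 then {2} else ∅)

include hq in
theorem finrank_B (j0 : MidM C T) {w : σ →₀ ℕ} (hwb : w C.b = 0) (hwq : w C.b' < q) :
    Module.finrank k ↥(V k (gT C T q) (αB C q w)) = (SB C T q w).card := by
  classical
  have eQ'b : gT C T q .Q' C.b = 0 := by simp [gT_b]
  have eQ'b' : gT C T q .Q' C.b' = q + 1 := by simp [gT_b']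
  have eQMb : ∀ m, gT C T q (.QM m) C.b = 0 := fun m => by simp [gT_b]
  have eQMb' : ∀ m, gT C T q (.QM m) C.b' = q := fun m => by simp [gT_b']
  have ebb'b : gT C T q .bb' C.b = 1 := by simp [gT_b]
  have ebb'b' : gT C T q .bb' C.b' = 1 := by simp [gT_b']
  -- activity
  have hactQM : ∀ m, Act (gT C T q) (αB C q w) (.QM m) := by
    intro m
    have hn : nn (gT C T q (.QM m)) (αB C q w) := (nnB C q w _).mpr (by rw [eQMb']; omega)
    refine ⟨hn, (stdB_iff C T q hn).mpr ?_⟩
    rw [eQMb, eQMb', hwb]
    refine ⟨Or.inl (by norm_num), by push_cast; omega, fun h => ?_⟩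
    exfalso
    push_cast at h
    omega
  have hactQ' : Act (gT C T q) (αB C q w) .Q' ↔
      (w C.b' + 1 = q → ∀ m : MidM C T, w m.1.1 = 0) := by
    have hn : nn (gT C T q .Q') (αB C q w) := (nnB C q w _).mpr (by rw [eQ'b']; omega)
    constructor
    · intro hact h m
      have hS := (stdB_iff C T q hn).mp hact.2
      rw [eQ'b'] at hS
      have := hS.2.2 (by push_cast; omega) m
      have h0 : (0 : ℤ) ≤ (gT C T q .Q' m.1.1 : ℕ) := by positivity
      have h1 : (0 : ℤ) ≤ (w m.1.1 : ℕ) := by positivity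
      have : ((w m.1.1 : ℕ) : ℤ) = 0 := by omega
      exact_mod_cast this
    · intro h
      refine ⟨hn, (stdB_iff C T q hn).mpr ?_⟩
      rw [eQ'b, eQ'b', hwb]
      refine ⟨Or.inl (by norm_num), by push_cast; omega, fun h' m => ?_⟩
      have h2 : w C.b' + 1 = q := by
        push_cast at h'
        omega
      rw [h h2 m, gT_mid]
      norm_num
  have hactbb' : Act (gT C T q) (αB C q w) .bb' ↔
      (w C.b' + 1 = q ∧ ∀ x : Mid C, w x.1 = 0) := by
    constructor
    · intro hact
      have hn := hact.1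
      have hS := (stdB_iff C T q hn).mp hact.2
      rw [nnB, ebb'b'] at hn
      rw [ebb'b, ebb'b', hwb] at hS
      refine ⟨by omega, fun x => ?_⟩
      rcases hS.1 with h | ⟨-, -, h⟩
      · norm_num at h
      · have := h x
        have h0 : (0 : ℤ) ≤ (gT C T q .bb' x.1 : ℕ) := by positivity
        have h1 : (0 : ℤ) ≤ (w x.1 : ℕ) := by positivity
        have : ((w x.1 : ℕ) : ℤ) = 0 := by omega
        exact_mod_cast this
    · rintro ⟨h1, h2⟩
      have hn : nn (gT C T q .bb') (αB C q w) := (nnB C q w _).mpr (by rw [ebb'b']; omega)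
      refine ⟨hn, (stdB_iff C T q hn).mpr ?_⟩
      rw [ebb'b, ebb'b', hwb]
      refine ⟨Or.inr ⟨by norm_num, by push_cast; omega, fun x => ?_⟩, by push_cast; omega,
        fun h' => ?_⟩
      · rw [h2 x, gT_mid]
        norm_num
      · exfalso
        push_cast at h'
        omega
  have hnact : ∀ i, Act (gT C T q) (αB C q w) i → i = .bb' ∨ i = .Q' ∨ ∃ m, i = .QM m := by
    intro i hact
    have hn := hact.1
    rw [nnB] at hn
    cases i with
    | bb =>
      have : gT C T q .bb C.b' = 0 := by simp [gT_b']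
      omega
    | bm y =>
      have : gT C T q (.bm y) C.b' = 0 := by simp [gT_b']
      omega
    | bb' => exact Or.inl rfl
    | Q' => exact Or.inr (Or.inl rfl)
    | QM m => exact Or.inr (Or.inr ⟨m, rfl⟩)
  apply finrank_V_cls (k := k) (gT C T q) (αB C q w) (clB C T q w) (SB C T q w)
  · -- links
    intro i j γ hi hj hn hS hact
    have hn' := (nnB C q w γ).mp hn
    rw [stdB_iff C T q hn, hwb] at hS
    obtain ⟨h1, h2, h3⟩ := hS
    rcases h1 with h1 | ⟨h1, h4, h5⟩
    · have hb0 : γ C.b = 0 := by
        have : (γ C.b : ℤ) = 0 := by simpa using h1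
        exact_mod_cast this
      have honly : ∀ i', gT C T q i' ≤ γ → i' = .Q' ∨ ∃ m, i' = .QM m := by
        intro i' hle
        cases i' with
        | Q' => exact Or.inl rfl
        | QM m => exact Or.inr ⟨m, rfl⟩
        | bb => rw [le_bb] at hle; omega
        | bb' => rw [le_bb'] at hle; omega
        | bm y => rw [le_bm] at hle; omega
      have hmix : ∀ m, gT C T q .Q' ≤ γ → gT C T q (.QM m) ≤ γ → w C.b' + 1 < q := by
        intro m hQ' hQM
        rw [le_Q'] at hQ'
        rw [le_QM] at hQM
        by_contra hlt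
        have h6 : (γ C.b' : ℤ) + w C.b' - q = q := by
          have : ((q : ℤ) + 1) ≤ γ C.b' := by exact_mod_cast hQ'
          have : (q : ℤ) ≤ (w C.b' : ℤ) + 1 := by
            have : q ≤ w C.b' + 1 := by omega
            exact_mod_cast this
          omega
        have := h3 h6 m
        have : (1 : ℤ) ≤ γ m.1.1 := by exact_mod_cast hQM.2
        have : (0 : ℤ) ≤ (w m.1.1 : ℕ) := by positivity
        omega
      rcases honly i hi with rfl | ⟨m, rfl⟩ <;> rcases honly j hj with rfl | ⟨m', rfl⟩
      · exact ⟨hact.1, rfl⟩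
      · refine ⟨(hactQM m').1, ?_⟩
        show (if w C.b' + 1 < q then (0 : Fin 3) else 1) = 0
        rw [if_pos (hmix m' hi hj)]
      · refine ⟨(nnB C q w _).mpr (by rw [eQ'b']; omega), ?_⟩
        show (0 : Fin 3) = if w C.b' + 1 < q then (0 : Fin 3) else 1
        rw [if_pos (hmix m hj hi)]
      · exact ⟨(hactQM m').1, rfl⟩
    · have hb1 : γ C.b = 1 := by
        have : (γ C.b : ℤ) = 1 := by simpa using h1
        exact_mod_cast this
      have hm0 : ∀ x : Mid C, γ x.1 = 0 := by
        intro x
        have := h5 x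
        have : (0 : ℤ) ≤ (w x.1 : ℕ) := by positivity
        have : ((γ x.1 : ℕ) : ℤ) = 0 := by omega
        exact_mod_cast this
      have honly : ∀ i', gT C T q i' ≤ γ → i' = .bb' := by
        intro i' hle
        cases i' with
        | bb' => rfl
        | bb => rw [le_bb] at hle; omega
        | bm y =>
          rw [le_bm] at hle
          have := hm0 y
          omega
        | Q' =>
          rw [le_Q'] at hle
          have : ((q : ℤ) + 1) ≤ γ C.b' := by exact_mod_cast hle
          omega
        | QM m =>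
          rw [le_QM] at hle
          have := hm0 m.1
          omega
      rw [honly i hi] at hact ⊢
      rw [honly j hj]
      exact ⟨hact.1, rfl⟩
  · -- connectedness
    intro i j hacti hactj hcl c hc
    have key : ∀ i, Act (gT C T q) (αB C q w) i → clB C T q w i = 0 → c i = c (.QM j0) := by
      intro i hact hcl0
      rcases hnact i hact with rfl | rfl | ⟨m, rfl⟩
      · simp [clB] at hcl0
      · have hlt : w C.b' + 1 < q := by
          by_contra hlt
          simp [clB, hlt] at hcl0
        have hn : nn (gT C T q .Q' + Finsupp.single j0.1.1 1) (αB C q w) :=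
          nn_of_le le_self_add hact.1
        apply hc.2 _ _ (gT C T q .Q' + Finsupp.single j0.1.1 1) le_self_add _ hn
        · rw [stdB_iff C T q hn]
          simp only [Finsupp.add_apply, eQ'b, eQ'b', hwb, Finsupp.single_apply,
            if_neg j0.1.2.1, if_neg j0.1.2.2.1]
          refine ⟨Or.inl (by norm_num), by push_cast; omega, fun h => ?_⟩
          exfalso
          push_cast at h
          omega
        · rw [le_QM]
          simp only [Finsupp.add_apply, eQ'b', Finsupp.single_apply, if_neg j0.1.2.2.1, if_true]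
          omega
      · have hn : nn (gT C T q (.QM m) + Finsupp.single j0.1.1 1) (αB C q w) :=
          nn_of_le le_self_add hact.1
        apply hc.2 _ _ (gT C T q (.QM m) + Finsupp.single j0.1.1 1) le_self_add _ hn
        · rw [stdB_iff C T q hn]
          simp only [Finsupp.add_apply, eQMb, eQMb', hwb, Finsupp.single_apply,
            if_neg j0.1.2.1, if_neg j0.1.2.2.1]
          refine ⟨Or.inl (by norm_num), by push_cast; omega, fun h => ?_⟩
          exfalso
          push_cast at h
          omega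
        · rw [le_QM]
          simp only [Finsupp.add_apply, eQMb', Finsupp.single_apply, if_neg j0.1.2.2.1, if_true]
          omega
    by_cases h0 : clB C T q w i = 0
    · rw [key i hacti h0, key j hactj (by rw [← hcl]; exact h0)]
    · rcases hnact i hacti with rfl | rfl | ⟨m, rfl⟩
      · rcases hnact j hactj with rfl | rfl | ⟨m, rfl⟩
        · rfl
        · exfalso
          simp only [clB] at hcl
          split_ifs at hcl <;> simp at hcl
        · simp [clB] at hcl
      · rcases hnact j hactj with rfl | rfl | ⟨m, rfl⟩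
        · exfalso
          simp only [clB] at hcl
          split_ifs at hcl <;> simp at hcl
        · rfl
        · exfalso
          apply h0
          rw [hcl]
          rfl
      · exact absurd rfl h0
  · -- inhabited classes
    intro m
    unfold SB
    rw [Finset.mem_union, Finset.mem_union, Finset.mem_singleton]
    constructor
    · rintro ((rfl | h) | h)
      · exact ⟨.QM j0, hactQM j0, rfl⟩
      · split_ifs at h with hc
        · rw [Finset.mem_singleton] at h
          subst h
          refine ⟨.Q', hactQ'.mpr (fun _ => hc.2), ?_⟩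
          show (if w C.b' + 1 < q then (0 : Fin 3) else 1) = 1
          rw [if_neg (by omega)]
        · simp at h
      · split_ifs at h with hc
        · rw [Finset.mem_singleton] at h
          subst h
          exact ⟨.bb', hactbb'.mpr hc, rfl⟩
        · simp at h
    · rintro ⟨i, hact, rfl⟩
      rcases hnact i hact with rfl | rfl | ⟨m, rfl⟩
      · right
        rw [if_pos (hactbb'.mp hact), Finset.mem_singleton]
        rfl
      · by_cases hlt : w C.b' + 1 < q
        · left; left
          show (if w C.b' + 1 < q then (0 : Fin 3) else 1) = 0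
          rw [if_pos hlt]
        · left; right
          have heq : w C.b' + 1 = q := by omega
          rw [if_pos ⟨heq, hactQ'.mp hact heq⟩, Finset.mem_singleton]
          show (if w C.b' + 1 < q then (0 : Fin 3) else 1) = 1
          rw [if_neg hlt]
      · left; left
        rfl

end PieceB

section PieceCD

variable (C : Cfg σ) (T : Finset σ) (q : ℕ) (hq : 1 ≤ q)

/-- a generator below `γ` and not containing `y` stays below `γ + e_x - e_y` -/
lemma le_shift_of_not_mem {gk : σ →₀ ℕ} {x y : σ} {γ : σ →₀ ℕ} (hn : nn γ (αd x y))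
    (hk : gk ≤ γ) (hy : gk y = 0) : gk ≤ shift γ (αd x y) := by
  intro u
  have e1 := hk u
  have e2 := shift_cast hn u
  have e3 : αd x y u = (if u = x then 1 else 0) - (if u = y then 1 else 0) := rfl
  rw [e3] at e2
  by_cases hu : u = y
  · subst hu
    rw [hy]
    exact Nat.zero_le _
  · rw [if_neg hu] at e2
    have : (γ u : ℤ) ≤ (shift γ (αd x y) u : ℕ) := by
      rw [e2]
      split_ifs <;> omega
    have : γ u ≤ shift γ (αd x y) u := by exact_mod_cast this
    omega

/-- the generators containing a middle variable -/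
lemma contains_mid (i : GT (Mid C) (MidM C T)) (y : Mid C) (h : 1 ≤ gT C T q i y.1) :
    i = .bm y ∨ ∃ m : MidM C T, m.1 = y ∧ i = .QM m := by
  rw [gT_mid] at h
  cases i with
  | bb => simp at h
  | bb' => simp at h
  | Q' => simp at h
  | bm z =>
    left
    by_cases hz : z.1 = y.1
    · rw [Subtype.ext hz]
    · simp [hz] at h
  | QM m =>
    right
    by_cases hz : m.1.1 = y.1
    · exact ⟨m, Subtype.ext hz, rfl⟩
    · simp [hz] at h

lemma αxy_b {x : σ} (hx : x ≠ C.b) (y : Mid C) : αd x y.1 C.b = 0 := by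
  simp [αd, Ne.symm hx, Ne.symm y.2.1]

lemma αxy_b' {x : σ} (hx : x ≠ C.b') (y : Mid C) : αd x y.1 C.b' = 0 := by
  simp [αd, Ne.symm hx, Ne.symm y.2.2.1]

lemma nnXY {x : σ} (y : Mid C) (hxy : x ≠ y.1) (γ : σ →₀ ℕ) : nn γ (αd x y.1) ↔ 1 ≤ γ y.1 := by
  rw [nn_αd]
  exact ⟨fun h => h hxy, fun h _ => h⟩

/-- closed form of standardness after a shift by `e_x - e_y`, `y` a middle variable -/
lemma stdXY_iff {x : σ} (hxb : x ≠ C.b) (hxb' : x ≠ C.b') (y : Mid C) {γ : σ →₀ ℕ}
    (hn : nn γ (αd x y.1)) :
    Std (gT C T q) (shift γ (αd x y.1)) ↔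
      ((γ C.b = 0 ∨ (γ C.b = 1 ∧ γ C.b' = 0 ∧
          ∀ z : Mid C, (γ z.1 : ℤ) + αd x y.1 z.1 = 0)) ∧
        (γ C.b' ≤ q ∧ (γ C.b' = q → ∀ m : MidM C T, (γ m.1.1 : ℤ) + αd x y.1 m.1.1 = 0))) := by
  rw [std_shift_iff C T q hn, αxy_b C hxb, αxy_b' C hxb']
  constructor
  · rintro ⟨h1, h2, h3⟩
    refine ⟨?_, by omega, fun h => h3 (by omega)⟩
    rcases h1 with h1 | ⟨h1, h4, h5⟩
    · left; omega
    · right; exact ⟨by omega, by omega, h5⟩
  · rintro ⟨h1, h2, h3⟩
    refine ⟨?_, by omega, fun h => h3 (by omega)⟩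
    rcases h1 with h1 | ⟨h1, h4, h5⟩
    · left; omega
    · right; exact ⟨by omega, by omega, h5⟩

/-- class function for the multidegrees `e_x - e_j` -/
def clC : GT (Mid C) (MidM C T) → Fin 2
  | .bm _ => 1
  | _ => 0

include hq in
/-- the pieces `e_x - e_j`, `j` in the second block, `x` the free variable or in the first block
only -/
theorem finrank_C (j : MidM C T) {x : σ} (hx : x = C.a ∨ ∃ t : MidT C T, x = t.1.1) :
    Module.finrank k ↥(V k (gT C T q) (αd x j.1.1)) = if x = C.a then 2 else 1 := by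
  have hxb : x ≠ C.b := by
    rcases hx with rfl | ⟨t, rfl⟩
    · exact Ne.symm C.hba
    · exact t.1.2.1
  have hxb' : x ≠ C.b' := by
    rcases hx with rfl | ⟨t, rfl⟩
    · exact Ne.symm C.hb'a
    · exact t.1.2.2.1
  have hxj : x ≠ j.1.1 := by
    rcases hx with rfl | ⟨t, rfl⟩
    · exact Ne.symm j.1.2.2.2
    · exact midT_ne_midM C T t j
  have hxM : ∀ m : MidM C T, m.1.1 ≠ x := by
    intro m
    rcases hx with rfl | ⟨t, rfl⟩
    · exact m.1.2.2.2
    · exact Ne.symm (midT_ne_midM C T t m)
  have hαm : ∀ m : MidM C T, αd x j.1.1 m.1.1 = -(if m.1.1 = j.1.1 then 1 else 0) := by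
    intro m
    simp [αd, hxM m]
  have hactQM : Act (gT C T q) (αd x j.1.1) (.QM j) := by
    have hn : nn (gT C T q (.QM j)) (αd x j.1.1) := (nnXY C j.1 hxj _).mpr (by
      rw [gT_mid]; simp)
    refine ⟨hn, (stdXY_iff C T q hxb hxb' j.1 hn).mpr ⟨Or.inl (by simp [gT_b]), by simp [gT_b'],
      fun _ m => ?_⟩⟩
    rw [hαm, gT_mid]
    have e : (j.1.1 = m.1.1) = (m.1.1 = j.1.1) := propext eq_comm
    simp only [e]
    split_ifs <;> simp
  have hactbm : Act (gT C T q) (αd x j.1.1) (.bm j.1) ↔ x = C.a := by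
    have hn : nn (gT C T q (.bm j.1)) (αd x j.1.1) := (nnXY C j.1 hxj _).mpr (by
      rw [gT_mid]; simp)
    constructor
    · intro hact
      have hS := (stdXY_iff C T q hxb hxb' j.1 hn).mp hact.2
      have e1 : gT C T q (.bm j.1) C.b = 1 := by simp [gT_b]
      rw [e1] at hS
      rcases hS.1 with h | ⟨-, -, h⟩
      · omega
      · by_contra hxa
        have := h ⟨x, hxb, hxb', hxa⟩
        rw [gT_mid] at this
        simp only [αd, if_true, if_neg hxj] at this
        split_ifs at this <;> omega
    · intro hxa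
      refine ⟨hn, (stdXY_iff C T q hxb hxb' j.1 hn).mpr ⟨Or.inr ⟨by simp [gT_b], by simp [gT_b'],
        fun z => ?_⟩, by simp [gT_b'], fun h => ?_⟩⟩
      · rw [gT_mid]
        have e : (j.1.1 = z.1) = (z.1 = j.1.1) := propext eq_comm
        simp only [αd, e, hxa, if_neg z.2.2.2]
        split_ifs <;> simp
      · exfalso
        have : gT C T q (.bm j.1) C.b' = 0 := by simp [gT_b']
        omega
  have h := finrank_V_cls (k := k) (gT C T q) (αd x j.1.1) (clC C T)
    (if x = C.a then {0, 1} else {0}) ?_ ?_ ?_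
  · rw [h]
    split_ifs <;> rfl
  · -- links
    intro i i' γ hi hi' hn hS hact
    have hcont : ∀ k', gT C T q k' ≤ γ → 1 ≤ gT C T q k' j.1.1 := by
      intro k' hk'
      by_contra hlt
      exact hS k' (le_shift_of_not_mem hn hk' (by omega))
    refine ⟨(nnXY C j.1 hxj _).mpr (hcont i' hi'), ?_⟩
    rw [stdXY_iff C T q hxb hxb' j.1 hn] at hS
    have hnot : ¬ (gT C T q (.bm j.1) ≤ γ ∧ gT C T q (.QM j) ≤ γ) := by
      rintro ⟨h1, h2⟩
      rw [le_bm] at h1
      rw [le_QM] at h2
      rcases hS.1 with h | ⟨-, h, -⟩ <;> omega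
    rcases contains_mid C T q i j.1 (hcont i hi) with rfl | ⟨m, hm, rfl⟩ <;>
      rcases contains_mid C T q i' j.1 (hcont i' hi') with rfl | ⟨m', hm', rfl⟩
    · rfl
    · have : m' = j := Subtype.ext hm'
      subst this
      exact absurd ⟨hi, hi'⟩ hnot
    · have : m = j := Subtype.ext hm
      subst this
      exact absurd ⟨hi', hi⟩ hnot
    · rfl
  · -- connectedness
    intro i i' hacti hacti' hcl c hc
    have h1 := (nnXY C j.1 hxj _).mp hacti.1
    have h2 := (nnXY C j.1 hxj _).mp hacti'.1
    rcases contains_mid C T q i j.1 h1 with rfl | ⟨m, hm, rfl⟩ <;>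
      rcases contains_mid C T q i' j.1 h2 with rfl | ⟨m', hm', rfl⟩
    · rfl
    · simp [clC] at hcl
    · simp [clC] at hcl
    · have e1 : m = j := Subtype.ext hm
      have e2 : m' = j := Subtype.ext hm'
      rw [e1, e2]
  · -- inhabited classes
    intro m
    constructor
    · intro hm
      by_cases hxa : x = C.a
      · rw [if_pos hxa, Finset.mem_insert, Finset.mem_singleton] at hm
        rcases hm with rfl | rfl
        · exact ⟨.QM j, hactQM, rfl⟩
        · exact ⟨.bm j.1, hactbm.mpr hxa, rfl⟩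
      · rw [if_neg hxa, Finset.mem_singleton] at hm
        subst hm
        exact ⟨.QM j, hactQM, rfl⟩
    · rintro ⟨i, hact, rfl⟩
      have h1 := (nnXY C j.1 hxj _).mp hact.1
      rcases contains_mid C T q i j.1 h1 with rfl | ⟨m, hm, rfl⟩
      · have hxa := hactbm.mp hact
        rw [if_pos hxa]
        simp [clC]
      · by_cases hxa : x = C.a
        · rw [if_pos hxa]
          simp [clC]
        · rw [if_neg hxa]
          simp [clC]

include hq in
/-- the pieces `e_a - e_t`, `t` in the first block only -/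
theorem finrank_D (t : MidT C T) :
    Module.finrank k ↥(V k (gT C T q) (αd C.a t.1.1)) = 1 := by
  classical
  have hxb : C.a ≠ C.b := Ne.symm C.hba
  have hxb' : C.a ≠ C.b' := Ne.symm C.hb'a
  have hxt : C.a ≠ t.1.1 := Ne.symm t.1.2.2.2
  have honly : ∀ i, 1 ≤ gT C T q i t.1.1 → i = .bm t.1 := by
    intro i hi
    rcases contains_mid C T q i t.1 hi with rfl | ⟨m, hm, rfl⟩
    · rfl
    · exfalso
      apply m.2
      rw [hm]
      exact t.2
  have h := finrank_V_of_isolated (k := k) (gT C T q) (αd C.a t.1.1) {GT.bm t.1} ?_ ?_ ?_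
  · rw [h, Finset.card_singleton]
  · intro i hi
    rw [Finset.mem_singleton] at hi
    subst hi
    have hn : nn (gT C T q (.bm t.1)) (αd C.a t.1.1) := (nnXY C t.1 hxt _).mpr (by
      rw [gT_mid]; simp)
    refine ⟨hn, (stdXY_iff C T q hxb hxb' t.1 hn).mpr ⟨Or.inr ⟨by simp [gT_b], by simp [gT_b'],
      fun z => ?_⟩, by simp [gT_b'], fun h => ?_⟩⟩
    · rw [gT_mid]
      have e : (t.1.1 = z.1) = (z.1 = t.1.1) := propext eq_comm
      simp only [αd, e, if_neg z.2.2.2]
      split_ifs <;> simp
    · exfalso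
      have : gT C T q (.bm t.1) C.b' = 0 := by simp [gT_b']
      omega
  · intro i hi i' γ hle hle' hn hS
    rw [Finset.mem_singleton] at hi
    subst hi
    apply honly
    by_contra hlt
    exact hS i' (le_shift_of_not_mem hn hle' (by omega))
  · intro i hi hact
    apply hi
    rw [Finset.mem_singleton]
    exact honly i ((nnXY C t.1 hxt _).mp hact.1)

end PieceCD

section PieceE

variable (C : Cfg σ) (T : Finset σ) (q : ℕ) (hq : 1 ≤ q)

/-- the exponent vector `b a^q` -/
noncomputable def w1 : σ →₀ ℕ := Finsupp.single C.b 1 + Finsupp.single C.a q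

lemma w1_b : w1 C q C.b = 1 := by simp [w1, Finsupp.single_apply, C.hba.symm]

lemma w1_b' : w1 C q C.b' = 0 := by simp [w1, Finsupp.single_apply, C.hbb, C.hb'a.symm]

lemma w1_mid (m : Mid C) : w1 C q m.1 = 0 := by
  simp [w1, Finsupp.single_apply, Ne.symm m.2.1, Ne.symm m.2.2.2]

lemma w1_a : w1 C q C.a = q := by simp [w1, Finsupp.single_apply, C.hba]

include hq in
/-- the piece `b a^q - b'^(q+1)` -/
theorem finrank_E1 : Module.finrank k ↥(V k (gT C T q) (αB C (q + 1) (w1 C q))) = 1 := by
  classical
  have h := finrank_V_of_isolated (k := k) (gT C T q) (αB C (q + 1) (w1 C q)) {GT.Q'} ?_ ?_ ?_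
  · rw [h, Finset.card_singleton]
  · intro i hi
    rw [Finset.mem_singleton] at hi
    subst hi
    have e1 : gT C T q .Q' C.b' = q + 1 := by simp [gT_b']
    have e2 : gT C T q .Q' C.b = 0 := by simp [gT_b]
    have hn : nn (gT C T q .Q') (αB C (q + 1) (w1 C q)) :=
      (nnB C (q + 1) _ _).mpr (by rw [e1]; omega)
    refine ⟨hn, (std_shift_iff C T q hn).mpr ?_⟩
    rw [αB_b, αB_b', e1, e2, w1_b, w1_b']
    simp only [αB_mid]
    refine ⟨Or.inr ⟨by norm_num, by push_cast; omega, fun m => ?_⟩, by push_cast; omega,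
      fun h => ?_⟩
    · rw [gT_mid, w1_mid]
      norm_num
    · exfalso
      push_cast at h
      omega
  · intro i hi j γ hle hle' hn hS
    rw [Finset.mem_singleton] at hi
    subst hi
    rw [std_shift_iff C T q hn, αB_b, αB_b', w1_b, w1_b'] at hS
    simp only [αB_mid] at hS
    obtain ⟨h1, -⟩ := hS
    rcases h1 with h1 | ⟨h1, h2, h3⟩
    · exfalso
      have : (0 : ℤ) ≤ γ C.b := by positivity
      push_cast at h1
      omega
    · have hb0 : γ C.b = 0 := by
        have : (γ C.b : ℤ) = 0 := by push_cast at h1; omega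
        exact_mod_cast this
      have hb' : γ C.b' = q + 1 := by
        have : (γ C.b' : ℤ) = q + 1 := by push_cast at h2; omega
        exact_mod_cast this
      have hm0 : ∀ x : Mid C, γ x.1 = 0 := by
        intro x
        have := h3 x
        rw [w1_mid] at this
        have : (γ x.1 : ℤ) = 0 := by simpa using this
        exact_mod_cast this
      cases j with
      | Q' => rfl
      | bb => rw [le_bb] at hle'; omega
      | bb' => rw [le_bb'] at hle'; omega
      | bm y => rw [le_bm] at hle'; omega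
      | QM m =>
        rw [le_QM] at hle'
        have := hm0 m.1
        omega
  · intro i hi hact
    apply hi
    rw [Finset.mem_singleton]
    have hn := hact.1
    rw [nnB, w1_b'] at hn
    cases i with
    | Q' => rfl
    | bb =>
      have e1 : gT C T q .bb C.b' = 0 := by simp [gT_b']
      omega
    | bm y =>
      have e1 : gT C T q (.bm y) C.b' = 0 := by simp [gT_b']
      omega
    | bb' =>
      have e1 : gT C T q .bb' C.b' = 1 := by simp [gT_b']
      omega
    | QM m =>
      have e1 : gT C T q (.QM m) C.b' = q := by simp [gT_b']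
      omega

/-- the multidegree `b a^q - b'^q x_j` -/
noncomputable def αE (j : MidM C T) : σ → ℤ := fun u => αB C q (w1 C q) u - (if u = j.1.1 then 1 else 0)

lemma αE_b (j : MidM C T) : αE C T q j C.b = 1 := by
  simp [αE, αB_b, w1_b, Ne.symm j.1.2.1]

lemma αE_b' (j : MidM C T) : αE C T q j C.b' = -(q : ℤ) := by
  simp [αE, αB_b', w1_b', Ne.symm j.1.2.2.1]

lemma αE_mid (j : MidM C T) (x : Mid C) :
    αE C T q j x.1 = -(if x.1 = j.1.1 then 1 else 0) := by
  simp [αE, αB_mid, w1_mid]

lemma αE_a (j : MidM C T) : αE C T q j C.a = q := by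
  simp [αE, αB, w1_a, C.hb'a.symm, Ne.symm j.1.2.2.2]

lemma nnE (j : MidM C T) (γ : σ →₀ ℕ) : nn γ (αE C T q j) ↔ q ≤ γ C.b' ∧ 1 ≤ γ j.1.1 := by
  constructor
  · intro h
    have h1 := h C.b'
    have h2 := h j.1.1
    rw [αE_b'] at h1
    rw [αE_mid, if_pos rfl] at h2
    omega
  · rintro ⟨h1, h2⟩ u
    rcases Groth.Agent.Lib.Helper24QPow.cases_u C u with rfl | rfl | rfl | ⟨m, rfl⟩
    · rw [αE_b]
      positivity
    · rw [αE_b']
      have : (q : ℤ) ≤ γ C.b' := by exact_mod_cast h1
      omega
    · rw [αE_a]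
      positivity
    · rw [αE_mid]
      split_ifs with hm
      · rw [hm]
        have : (1 : ℤ) ≤ γ j.1.1 := by exact_mod_cast h2
        omega
      · simp

include hq in
/-- the pieces `b a^q - b'^q x_j` -/
theorem finrank_E2 (j : MidM C T) :
    Module.finrank k ↥(V k (gT C T q) (αE C T q j)) = 1 := by
  classical
  have h := finrank_V_of_isolated (k := k) (gT C T q) (αE C T q j) {GT.QM j} ?_ ?_ ?_
  · rw [h, Finset.card_singleton]
  · intro i hi
    rw [Finset.mem_singleton] at hi
    subst hi
    have e1 : gT C T q (.QM j) C.b' = q := by simp [gT_b']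
    have e2 : gT C T q (.QM j) C.b = 0 := by simp [gT_b]
    have e3 : gT C T q (.QM j) j.1.1 = 1 := by rw [gT_mid]; simp
    have hn : nn (gT C T q (.QM j)) (αE C T q j) := (nnE C T q j _).mpr (by rw [e1, e3]; omega)
    refine ⟨hn, (std_shift_iff C T q hn).mpr ?_⟩
    rw [αE_b, αE_b', e1, e2]
    simp only [αE_mid]
    refine ⟨Or.inr ⟨by norm_num, by push_cast; omega, fun m => ?_⟩, by push_cast; omega,
      fun h => ?_⟩
    · rw [gT_mid]
      have e : (j.1.1 = m.1) = (m.1 = j.1.1) := propext eq_comm
      simp only [e]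
      split_ifs <;> simp
    · exfalso
      push_cast at h
      omega
  · intro i hi i' γ hle hle' hn hS
    rw [Finset.mem_singleton] at hi
    subst hi
    rw [std_shift_iff C T q hn, αE_b, αE_b'] at hS
    simp only [αE_mid] at hS
    obtain ⟨h1, -⟩ := hS
    rcases h1 with h1 | ⟨h1, h2, h3⟩
    · exfalso
      have : (0 : ℤ) ≤ γ C.b := by positivity
      omega
    · have hb0 : γ C.b = 0 := by
        have : (γ C.b : ℤ) = 0 := by omega
        exact_mod_cast this
      have hb' : γ C.b' = q := by
        have : (γ C.b' : ℤ) = q := by omega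
        exact_mod_cast this
      cases i' with
      | bb => rw [le_bb] at hle'; omega
      | bb' => rw [le_bb'] at hle'; omega
      | bm y => rw [le_bm] at hle'; omega
      | Q' => rw [le_Q'] at hle'; omega
      | QM m =>
        rw [le_QM] at hle'
        have := h3 m.1
        by_cases hm : m.1.1 = j.1.1
        · rw [Subtype.ext (Subtype.ext hm)]
        · exfalso
          rw [if_neg hm] at this
          have : (1 : ℤ) ≤ γ m.1.1 := by exact_mod_cast hle'.2
          omega
  · intro i hi hact
    apply hi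
    rw [Finset.mem_singleton]
    have hn := (nnE C T q j _).mp hact.1
    rcases contains_mid C T q i j.1 hn.2 with rfl | ⟨m, hm, rfl⟩
    · exfalso
      have e1 : gT C T q (.bm j.1) C.b' = 0 := by simp [gT_b']
      omega
    · rw [Subtype.ext hm]

end PieceE

section Classify

variable (C : Cfg σ) (T : Finset σ) (q : ℕ) (hq : 1 ≤ q)

/-- vanishing through a link with a non-active generator -/
lemma zero_of_link {ι : Type*} (g : ι → σ →₀ ℕ) {x x' p l : σ} (h1 : x ≠ p) (h2 : x ≠ l)
    (h3 : x' ≠ p) (h4 : x' ≠ l) {c : ι → k} (hc : c ∈ V k g (α4 x x' p l)) (i j : ι)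
    (hi : g i = gen p l) (δ : σ →₀ ℕ) (hj : g j ≤ gen p l + δ)
    (hS : Std g (gen x x' + δ)) (hj' : ¬ gen p l ≤ g j) : c i = 0 := by
  classical
  apply zero_of_bad g _ hc i j (gen p l + δ) (by rw [hi]; exact le_self_add) hj
  · rw [nn_α4_iff h1 h2 h3 h4]
    exact le_self_add
  · rw [shift_add_of_nonneg _ _ (nn_gen_α4 x x' p l), shift_gen_α4]
    exact hS
  · rw [nn_α4_iff h1 h2 h3 h4]
    exact hj'

lemma sum_single (x : σ) (n : ℕ) : ∑ u, ((Finsupp.single x n u : ℕ) : ℤ) = n := by
  rw [Finset.sum_eq_single x]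
  · rw [Finsupp.single_eq_same]
  · intro u _ hu
    rw [Finsupp.single_apply, if_neg (Ne.symm hu)]
    rfl
  · intro h
    exact absurd (Finset.mem_univ _) h

lemma sum_add (v w : σ →₀ ℕ) :
    ∑ u, (((v + w) u : ℕ) : ℤ) = ∑ u, ((v u : ℕ) : ℤ) + ∑ u, ((w u : ℕ) : ℤ) := by
  simp only [Finsupp.add_apply, Nat.cast_add]
  rw [Finset.sum_add_distrib]

lemma cast_sub_single (w : σ →₀ ℕ) (x : σ) (n : ℕ) (h : n ≤ w x) (u : σ) :
    (((w - Finsupp.single x n) u : ℕ) : ℤ) = (w u : ℤ) - (if u = x then (n : ℤ) else 0) := by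
  rw [Finsupp.tsub_apply, Finsupp.single_apply]
  have e1 : (x = u) = (u = x) := propext eq_comm
  simp only [e1]
  split_ifs with hu
  · subst hu
    omega
  · simp

lemma sum_sub_single (w : σ →₀ ℕ) (x : σ) (n : ℕ) (h : n ≤ w x) :
    ∑ u, (((w - Finsupp.single x n) u : ℕ) : ℤ) = ∑ u, ((w u : ℕ) : ℤ) - n := by
  simp only [cast_sub_single w x n h]
  rw [Finset.sum_sub_distrib]
  simp

lemma exists_single_of_sum_one (w : σ →₀ ℕ) (h : ∑ u, ((w u : ℕ) : ℤ) = 1) :
    ∃ x, w = Finsupp.single x 1 := by
  have h1 : ∃ x, 1 ≤ w x := by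
    by_contra hh
    push Not at hh
    have : ∑ u, ((w u : ℕ) : ℤ) = 0 := by
      apply Finset.sum_eq_zero
      intro u _
      have := hh u
      have : w u = 0 := by omega
      rw [this]
      rfl
    omega
  obtain ⟨x, hx⟩ := h1
  refine ⟨x, ?_⟩
  have hsx : Finsupp.single x 1 ≤ w := by
    intro u
    rw [Finsupp.single_apply]
    split_ifs with hu
    · subst hu
      exact hx
    · exact Nat.zero_le _
  exact (Groth.Agent.Lib.Helper24EdgeId.eq_of_le_of_sum hsx (by rw [sum_single, h]; rfl)).symm

/-- total degree when only `b` and `a` occur -/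
lemma sum_eq_ba (w : σ →₀ ℕ) (hb' : w C.b' = 0) (hm : ∀ m : Mid C, w m.1 = 0) :
    ∑ u, ((w u : ℕ) : ℤ) = w C.b + w C.a := by
  rw [← Finset.add_sum_erase Finset.univ _ (Finset.mem_univ C.b),
    ← Finset.add_sum_erase _ _ (Finset.mem_erase.mpr ⟨Ne.symm C.hba, Finset.mem_univ C.a⟩)]
  rw [Finset.sum_eq_zero, add_zero]
  intro u hu
  rw [Finset.mem_erase, Finset.mem_erase] at hu
  rcases Groth.Agent.Lib.Helper24QPow.cases_u C u with h | h | h | ⟨m, h⟩
  · exact absurd h hu.2.1
  · rw [h, hb']; rfl
  · exact absurd h hu.1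
  · rw [h, hm m]; rfl

/-- the multidegrees carrying tangent vectors -/
def InL (α : σ → ℤ) : Prop :=
  (∃ x, x ≠ C.b ∧ α = αd x C.b) ∨
  (∃ w : σ →₀ ℕ, w C.b = 0 ∧ ∑ u, ((w u : ℕ) : ℤ) = q ∧ w C.b' < q ∧ α = αB C q w) ∨
  (∃ j : MidM C T, α = αd C.a j.1.1) ∨
  (∃ (t : MidT C T) (j : MidM C T), α = αd t.1.1 j.1.1) ∨
  (∃ t : MidT C T, α = αd C.a t.1.1) ∨
  α = αB C (q + 1) (w1 C q) ∨
  (∃ j : MidM C T, α = αE C T q j)

include hq in
lemma inL_xb' {x : σ} (hx : x ≠ C.b) (hx' : x ≠ C.b') : InL C T q (αd x C.b') := by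
  refine Or.inr (Or.inl ⟨Finsupp.single C.b' (q - 1) + Finsupp.single x 1, ?_, ?_, ?_, ?_⟩)
  · simp [Finsupp.single_apply, C.hbb.symm, hx]
  · rw [sum_add, sum_single, sum_single]
    omega
  · simp [Finsupp.single_apply, hx']
    omega
  · funext u
    unfold αd αB
    simp only [Finsupp.add_apply, Finsupp.single_apply]
    have e1 : (C.b' = u) = (u = C.b') := propext eq_comm
    have e2 : (x = u) = (u = x) := propext eq_comm
    simp only [e1, e2]
    split_ifs <;> push_cast <;> omega

include hq in
theorem classify (j0 : MidM C T) (t0 : MidT C T)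
    (hcase : 3 ≤ q ∨ ∀ t : MidT C T, ∃ t' : MidT C T, t' ≠ t) {α : σ → ℤ}
    (hsum : ∑ l, α l = 0) {c : GT (Mid C) (MidM C T) → k} (hc : c ∈ V k (gT C T q) α)
    {i : GT (Mid C) (MidM C T)} (hne : c i ≠ 0) : InL C T q α := by
  classical
  have hact : Act (gT C T q) α i := by
    by_contra h
    exact hne (hc.1 i h)
  have hα0 : α ≠ 0 := by
    intro h0
    subst h0
    have h1 : shift (gT C T q i) (0 : σ → ℤ) = gT C T q i := by
      ext u
      rw [shift_apply]
      simp
    have := hact.2 i
    rw [h1] at this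
    exact this le_rfl
  -- adding a variable of the first block only to a quadratic monomial without `b`
  have hstd2 : ∀ x x', x ≠ C.b → x' ≠ C.b → Std (gT C T q) (gen x x') →
      ∀ t : MidT C T, Std (gT C T q) (gen x x' + Finsupp.single t.1.1 1) := by
    intro x x' h1 h3 hxx t
    apply std_add_T C T q hxx _ t
    simp [gen_apply, h1, h3]
  -- the quadratic generators
  have hquad : ∀ l : σ, gT C T q i = gen C.b l →
      (l = C.b ∨ l = C.b' ∨ ∃ y : Mid C, l = y.1) →
      (∀ x x', x ≠ C.b → x ≠ l → x' ≠ C.b → x' ≠ l → Std (gT C T q) (gen x x') →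
        c ∈ V k (gT C T q) (α4 x x' C.b l) → c i = 0) → InL C T q α := by
    intro l hi hl hdis
    obtain ⟨x, x', hxx, hα⟩ := act_form' hsum hi hact
    have hA : ∀ u, u ≠ C.b → InL C T q (αd u C.b) := fun u hu => Or.inl ⟨u, hu, rfl⟩
    have hlcase : ∀ u, u ≠ l → α = αd u l → InL C T q α := by
      intro u hul hαu
      rcases hl with rfl | rfl | ⟨y, rfl⟩
      · rw [hαu]
        exact hA u hul
      · by_cases hub : u = C.b
        · exfalso
          subst hub
          have h2 := hact.2
          rw [hi, hαu, gen_comm, shift_gen_αd] at h2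
          have := ((std_iff' C T q _).mp h2).1
          simp [gen_apply] at this
        · rw [hαu]
          exact inL_xb' C T q hq hub hul
      · have h2 := hact.2
        rw [hi, hαu, gen_comm, shift_gen_αd] at h2
        have h3 := ((std_iff' C T q _).mp h2).1
        have hu : u = C.a := by
          by_contra hua
          rcases h3 with h3 | ⟨h3, h4, h5⟩
          · simp [gen_apply] at h3
          · by_cases hub : u = C.b
            · subst hub
              simp [gen_apply] at h3
            · by_cases hub' : u = C.b'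
              · subst hub'
                simp [gen_apply, C.hbb] at h4
              · have := h5 ⟨u, hub, hub', hua⟩
                simp [gen_apply] at this
        rw [hαu, hu]
        by_cases hy : y.1 ∈ T
        · exact Or.inr (Or.inr (Or.inr (Or.inr (Or.inl ⟨⟨y, hy⟩, rfl⟩))))
        · exact Or.inr (Or.inr (Or.inl ⟨⟨y, hy⟩, rfl⟩))
    by_cases e1 : x = C.b
    · subst e1
      rw [α4_left] at hα
      apply hlcase x' _ hα
      rintro rfl
      exact hα0 (by rw [hα, αd_self])
    by_cases e2 : x = l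
    · subst e2
      rw [α4_left'] at hα
      have hx'p : x' ≠ C.b := by
        rintro rfl
        exact hα0 (by rw [hα, αd_self])
      rw [hα]
      exact hA x' hx'p
    by_cases e3 : x' = C.b
    · subst e3
      rw [α4_right] at hα
      exact hlcase x e2 hα
    by_cases e4 : x' = l
    · subst e4
      rw [α4_right'] at hα
      rw [hα]
      exact hA x e1
    exfalso
    apply hne
    apply hdis x x' e1 e2 e3 e4 hxx
    rw [← hα]
    exact hc
  cases i with
  | bb =>
    apply hquad C.b rfl (Or.inl rfl)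
    intro x x' h1 h2 h3 h4 hxx hc'
    apply zero_of_link (gT C T q) h1 h2 h3 h4 hc' .bb (.bm t0.1) rfl (Finsupp.single t0.1.1 1)
    · rw [le_bm]
      simp [gen_apply, Finsupp.single_apply, t0.1.2.1]
    · exact hstd2 x x' h1 h3 hxx t0
    · show ¬ gen C.b C.b ≤ gen C.b t0.1.1
      rw [gen_le_iff']
      simp [gen_apply, t0.1.2.1]
  | bb' =>
    apply hquad C.b' rfl (Or.inr (Or.inl rfl))
    intro x x' h1 h2 h3 h4 hxx hc'
    apply zero_of_link (gT C T q) h1 h2 h3 h4 hc' .bb' (.QM j0) rfl
      (Finsupp.single C.b' (q - 1) + Finsupp.single j0.1.1 1)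
    · rw [le_QM]
      simp [gen_apply, Finsupp.single_apply, C.hbb, j0.1.2.2.1, Ne.symm j0.1.2.1]
      omega
    · rw [std_iff']
      refine ⟨Or.inl ?_, ?_, ?_⟩
      · simp [gen_apply, Finsupp.single_apply, h1, h3, C.hbb.symm, j0.1.2.1]
      · simp [gen_apply, Finsupp.single_apply, h2, h4, j0.1.2.2.1]
      · intro h
        exfalso
        simp [gen_apply, Finsupp.single_apply, h2, h4, j0.1.2.2.1] at h
        omega
    · rw [gen_le_iff C.hbb]
      simp [gT_b]
  | bm y =>
    apply hquad y.1 rfl (Or.inr (Or.inr ⟨y, rfl⟩))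
    intro x x' h1 h2 h3 h4 hxx hc'
    have hlinkT : ∀ t : MidT C T, t.1.1 ≠ y.1 → c (.bm y) = 0 := by
      intro t hty
      apply zero_of_link (gT C T q) h1 h2 h3 h4 hc' (.bm y) (.bm t.1) rfl (Finsupp.single t.1.1 1)
      · rw [le_bm]
        simp [gen_apply, Finsupp.single_apply, t.1.2.1]
      · exact hstd2 x x' h1 h3 hxx t
      · show ¬ gen C.b y.1 ≤ gen C.b t.1.1
        rw [gen_le_iff (Ne.symm y.2.1)]
        simp [gen_apply, Ne.symm y.2.1, hty]
    by_cases hy : y.1 ∈ T
    · rcases hcase with h3q | ht'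
      · apply zero_of_link (gT C T q) h1 h2 h3 h4 hc' (.bm y) .bb' rfl (Finsupp.single C.b' 1)
        · rw [le_bb']
          simp [gen_apply, Finsupp.single_apply, C.hbb]
        · rw [std_iff']
          have hb'le : (gen x x' + Finsupp.single C.b' 1 : σ →₀ ℕ) C.b' ≤ 3 := by
            simp only [Finsupp.add_apply, gen_apply, Finsupp.single_apply, if_true]
            split_ifs <;> omega
          refine ⟨Or.inl ?_, by omega, ?_⟩
          · simp [gen_apply, Finsupp.single_apply, h1, h3, C.hbb.symm]
          · intro h m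
            have hxb' : x = C.b' := by
              by_contra hx
              simp only [Finsupp.add_apply, gen_apply, Finsupp.single_apply, if_true,
                if_neg hx] at h
              split_ifs at h <;> omega
            have hx'b' : x' = C.b' := by
              by_contra hx
              simp only [Finsupp.add_apply, gen_apply, Finsupp.single_apply, if_true,
                if_neg hx] at h
              split_ifs at h <;> omega
            subst hxb'
            rw [hx'b']
            simp [gen_apply, Finsupp.single_apply, Ne.symm m.1.2.2.1]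
        · show ¬ gen C.b y.1 ≤ gen C.b C.b'
          rw [gen_le_iff (Ne.symm y.2.1)]
          simp [gen_apply, Ne.symm y.2.1, Ne.symm y.2.2.1]
      · obtain ⟨t', ht'⟩ := ht' ⟨y, hy⟩
        apply hlinkT t'
        intro h
        exact ht' (Subtype.ext (Subtype.ext h))
    · apply hlinkT t0
      intro h
      exact hy (h ▸ t0.2)
  | Q' =>
    obtain ⟨hn, hS⟩ := hact
    obtain ⟨w, hw⟩ : ∃ w, w = shift (gT C T q .Q') α := ⟨_, rfl⟩
    rw [← hw] at hS
    have hwu : ∀ u, ((w u : ℕ) : ℤ) = (if u = C.b' then ((q : ℤ) + 1) else 0) + α u := by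
      intro u
      rw [hw, shift_cast hn u]
      show ((Finsupp.single C.b' (q + 1) u : ℕ) : ℤ) + α u = _
      rw [Finsupp.single_apply]
      have e1 : (C.b' = u) = (u = C.b') := propext eq_comm
      simp only [e1]
      split_ifs <;> simp
    have hαw : α = αB C (q + 1) w := by
      funext u
      unfold αB
      rw [hwu u]
      push_cast
      ring
    have hwsum : ∑ u, ((w u : ℕ) : ℤ) = q + 1 := by
      simp only [hwu]
      rw [Finset.sum_add_distrib, hsum]
      simp
    have eQb' : gT C T q .Q' C.b' = q + 1 := by simp [gT_b']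
    obtain ⟨hw1, hw2, hw3⟩ := (std_iff' C T q w).mp hS
    rcases hw1 with hw1 | ⟨hw1, hw4, hw5⟩
    · by_cases hwb' : w C.b' = 0
      · exfalso
        apply hne
        apply zero_of_bad (gT C T q) _ hc .Q' (.QM j0)
          (gT C T q .Q' + Finsupp.single j0.1.1 1) le_self_add
        · rw [le_QM]
          simp only [Finsupp.add_apply, eQb', Finsupp.single_apply, if_neg j0.1.2.2.1, if_true]
          omega
        · exact nn_of_le le_self_add hn
        · rw [shift_add_of_nonneg _ _ hn, ← hw, std_iff']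
          refine ⟨Or.inl ?_, ?_, ?_⟩
          · simp [hw1, Finsupp.single_apply, j0.1.2.1]
          · simp [hwb', Finsupp.single_apply, j0.1.2.2.1]
          · intro h
            exfalso
            simp [hwb', Finsupp.single_apply, j0.1.2.2.1] at h
            omega
        · intro h
          have h1 := h C.b'
          have h2 := hwu C.b'
          have e : gT C T q (.QM j0) C.b' = q := by simp [gT_b']
          rw [e] at h1
          rw [hwb', if_pos rfl] at h2
          push_cast at h2
          omega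
      · have hle : 1 ≤ w C.b' := by omega
        refine Or.inr (Or.inl ⟨w - Finsupp.single C.b' 1, ?_, ?_, ?_, ?_⟩)
        · simp [hw1]
        · rw [sum_sub_single w C.b' 1 hle, hwsum]
          push_cast
          ring
        · simp
          omega
        · funext u
          unfold αB
          rw [cast_sub_single w C.b' 1 hle, hwu u]
          split_ifs <;> push_cast <;> ring
    · right; right; right; right; right; left
      rw [hαw]
      congr 1
      have hs := sum_eq_ba C w hw4 hw5
      rw [hwsum, hw1] at hs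
      ext u
      rcases Groth.Agent.Lib.Helper24QPow.cases_u C u with rfl | rfl | rfl | ⟨m, rfl⟩
      · rw [hw1, w1_b]
      · rw [hw4, w1_b']
      · rw [w1_a]
        push_cast at hs
        omega
      · rw [hw5 m, w1_mid]
  | QM j =>
    obtain ⟨hn, hS⟩ := hact
    obtain ⟨w, hw⟩ : ∃ w, w = shift (gT C T q (.QM j)) α := ⟨_, rfl⟩
    rw [← hw] at hS
    have hwu : ∀ u, ((w u : ℕ) : ℤ) =
        (if u = C.b' then (q : ℤ) else 0) + (if u = j.1.1 then 1 else 0) + α u := by
      intro u
      rw [hw, shift_cast hn u]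
      show (((Finsupp.single C.b' q + Finsupp.single j.1.1 1 : σ →₀ ℕ) u : ℕ) : ℤ) + α u = _
      rw [Finsupp.add_apply, Finsupp.single_apply, Finsupp.single_apply]
      have e1 : (C.b' = u) = (u = C.b') := propext eq_comm
      have e2 : (j.1.1 = u) = (u = j.1.1) := propext eq_comm
      simp only [e1, e2]
      split_ifs <;> simp
    have hwsum : ∑ u, ((w u : ℕ) : ℤ) = q + 1 := by
      simp only [hwu]
      rw [Finset.sum_add_distrib, Finset.sum_add_distrib, hsum]
      simp
    have eQMb' : ∀ m, gT C T q (.QM m) C.b' = q := fun m => by simp [gT_b']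
    have hαj : α j.1.1 = (w j.1.1 : ℤ) - 1 := by
      have := hwu j.1.1
      rw [if_neg j.1.2.2.1, if_pos rfl] at this
      omega
    obtain ⟨hw1, hw2, hw3⟩ := (std_iff' C T q w).mp hS
    rcases hw1 with hw1 | ⟨hw1, hw4, hw5⟩
    · by_cases hwj : 1 ≤ w j.1.1
      · have hlt : w C.b' < q := by
          by_contra hge
          have := hw3 (by omega) j
          omega
        refine Or.inr (Or.inl ⟨w - Finsupp.single j.1.1 1, ?_, ?_, ?_, ?_⟩)
        · simp [hw1]
        · rw [sum_sub_single w j.1.1 1 hwj, hwsum]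
          push_cast
          ring
        · simpa [Finsupp.single_apply, j.1.2.2.1] using hlt
        · funext u
          unfold αB
          rw [cast_sub_single w j.1.1 1 hwj, hwu u]
          split_ifs <;> push_cast <;> ring
      · have hwj0 : w j.1.1 = 0 := by omega
        by_cases hwq : w C.b' = q
        · have hM := hw3 hwq
          have hle : q ≤ w C.b' := by omega
          have hs1 := sum_sub_single w C.b' q hle
          rw [hwsum] at hs1
          obtain ⟨x, hx⟩ := exists_single_of_sum_one (w - Finsupp.single C.b' q) (by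
            rw [hs1]; ring)
          have hwx : ∀ u, ((w u : ℕ) : ℤ) =
              (if u = C.b' then (q : ℤ) else 0) + (if u = x then 1 else 0) := by
            intro u
            have h1 := cast_sub_single w C.b' q hle u
            rw [hx, Finsupp.single_apply] at h1
            have e1 : (x = u) = (u = x) := propext eq_comm
            simp only [e1] at h1
            split_ifs at h1 ⊢ <;> push_cast at h1 <;> omega
          have hαx : α = αd x j.1.1 := by
            funext u
            have h1 := hwu u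
            rw [hwx u] at h1
            unfold αd
            linarith
          have hxb : x ≠ C.b := by
            rintro rfl
            have := hwx C.b
            rw [hw1, if_neg C.hbb, if_pos rfl] at this
            norm_num at this
          have hxb' : x ≠ C.b' := by
            rintro rfl
            have := hwx C.b'
            rw [hwq, if_pos rfl] at this
            simp at this
          rw [hαx]
          rcases Groth.Agent.Lib.Helper24QPow.cases_u C x with rfl | rfl | rfl | ⟨y, rfl⟩
          · exact absurd rfl hxb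
          · exact absurd rfl hxb'
          · exact Or.inr (Or.inr (Or.inl ⟨j, rfl⟩))
          · by_cases hy : y.1 ∈ T
            · exact Or.inr (Or.inr (Or.inr (Or.inl ⟨⟨y, hy⟩, j, rfl⟩)))
            · exfalso
              have h1 := hM ⟨y, hy⟩
              have h2 := hwx y.1
              rw [h1, if_neg y.2.2.1, if_pos rfl] at h2
              norm_num at h2
        · have hlt : w C.b' < q := by omega
          exfalso
          apply hne
          by_cases hM : ∀ m : MidM C T, w m.1.1 = 0
          · apply zero_of_bad (gT C T q) _ hc (.QM j) .Q'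
              (gT C T q (.QM j) + Finsupp.single C.b' 1) le_self_add
            · rw [le_Q']
              simp only [Finsupp.add_apply, eQMb', Finsupp.single_apply, if_true]
              omega
            · exact nn_of_le le_self_add hn
            · rw [shift_add_of_nonneg _ _ hn, ← hw, std_iff']
              refine ⟨Or.inl ?_, ?_, ?_⟩
              · simp [hw1, Finsupp.single_apply, C.hbb.symm]
              · simp [Finsupp.single_apply]
                omega
              · intro _ m
                simp [hM m, Finsupp.single_apply, Ne.symm m.1.2.2.1]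
            · intro h
              have h1 := h j.1.1
              have e : gT C T q .Q' j.1.1 = 0 := by rw [gT_mid]
              rw [e, hαj, hwj0] at h1
              norm_num at h1
          · push Not at hM
            obtain ⟨j', hj'⟩ := hM
            have hjj : j'.1.1 ≠ j.1.1 := by
              intro h
              rw [h] at hj'
              exact hj' hwj0
            apply zero_of_bad (gT C T q) _ hc (.QM j) (.QM j')
              (gT C T q (.QM j) + Finsupp.single j'.1.1 1) le_self_add
            · rw [le_QM]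
              simp only [Finsupp.add_apply, eQMb', Finsupp.single_apply, if_neg j'.1.2.2.1,
                if_true]
              omega
            · exact nn_of_le le_self_add hn
            · rw [shift_add_of_nonneg _ _ hn, ← hw, std_iff']
              refine ⟨Or.inl ?_, ?_, ?_⟩
              · simp [hw1, Finsupp.single_apply, j'.1.2.1]
              · simp [Finsupp.single_apply, j'.1.2.2.1]
                omega
              · intro h
                exfalso
                simp [Finsupp.single_apply, j'.1.2.2.1] at h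
                omega
            · intro h
              have h1 := h j.1.1
              have e : gT C T q (.QM j') j.1.1 = 0 := by
                rw [gT_mid]
                simp [hjj]
              rw [e, hαj, hwj0] at h1
              norm_num at h1
    · right; right; right; right; right; right
      refine ⟨j, ?_⟩
      have hs := sum_eq_ba C w hw4 hw5
      rw [hwsum, hw1] at hs
      have hww : w = w1 C q := by
        ext u
        rcases Groth.Agent.Lib.Helper24QPow.cases_u C u with rfl | rfl | rfl | ⟨m, rfl⟩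
        · rw [hw1, w1_b]
        · rw [hw4, w1_b']
        · rw [w1_a]
          push_cast at hs
          omega
        · rw [hw5 m, w1_mid]
      funext u
      unfold αE αB
      rw [← hww]
      have := hwu u
      linarith

end Classify

section Family

open Groth.Agent.Lib.Helper24QPow (SV cases_u sum_SV)

variable (C : Cfg σ) (T : Finset σ) (q : ℕ) (hq : 1 ≤ q)

/-- the exponent vectors `w` of the family `w - q e_b'` -/
noncomputable def BF : Finset (σ →₀ ℕ) :=
  ((SV C).finsuppAntidiag q).erase (Finsupp.single C.b' q)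

lemma mem_BF_iff (w : σ →₀ ℕ) : w ∈ BF C q ↔
    (w C.b = 0 ∧ ∑ u, ((w u : ℕ) : ℤ) = q ∧ w C.b' < q) := by
  unfold BF
  rw [Finset.mem_erase, Finset.mem_finsuppAntidiag]
  constructor
  · rintro ⟨h2, h3, h4⟩
    have hb : w C.b = 0 := by
      by_contra hne
      have : C.b ∈ w.support := Finsupp.mem_support_iff.mpr hne
      have := h4 this
      unfold SV at this
      simp at this
    have hsum : ∑ u, ((w u : ℕ) : ℤ) = q := by
      rw [← sum_SV C w hb, h3]
    have hle : ∀ u, ((w u : ℕ) : ℤ) ≤ q := by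
      intro u
      rw [← hsum]
      exact Finset.single_le_sum (f := fun u => ((w u : ℕ) : ℤ)) (fun i _ => by positivity)
        (Finset.mem_univ u)
    have hzero : ∀ v, w v = q → ∀ u, u ≠ v → w u = 0 := by
      intro v hv u huv
      have h5 := Finset.add_sum_erase Finset.univ (fun u => ((w u : ℕ) : ℤ)) (Finset.mem_univ v)
      rw [hsum] at h5
      simp only [hv] at h5
      have h6 : ∑ x ∈ Finset.univ.erase v, ((w x : ℕ) : ℤ) = 0 := by linarith
      have h7 := (Finset.sum_eq_zero_iff_of_nonneg (fun i _ => by positivity)).mp h6 u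
        (Finset.mem_erase.mpr ⟨huv, Finset.mem_univ u⟩)
      exact_mod_cast h7
    refine ⟨hb, hsum, ?_⟩
    by_contra hge
    have hbq : w C.b' = q := by
      have : (w C.b' : ℤ) ≤ q := hle C.b'
      omega
    apply h2
    ext u
    rw [Finsupp.single_apply]
    split_ifs with hu
    · rw [← hu, hbq]
    · exact hzero C.b' hbq u (Ne.symm hu)
  · rintro ⟨hb, hsum, hlt⟩
    refine ⟨?_, ?_, ?_⟩
    · intro h
      rw [h] at hlt
      simp at hlt
    · have := sum_SV C w hb
      rw [hsum] at this
      exact_mod_cast this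
    · intro u hu
      unfold SV
      rw [Finset.mem_erase]
      refine ⟨?_, Finset.mem_univ _⟩
      rintro rfl
      exact (Finsupp.mem_support_iff.mp hu) hb

include hq in
lemma card_BF : (BF C q).card + 1 = Nat.choose (Fintype.card σ - 1 + q - 1) q := by
  unfold BF
  have hq0 : q ≠ 0 := by omega
  have h1 : Finsupp.single C.b' q ∈ (SV C).finsuppAntidiag q := by
    rw [Finset.mem_finsuppAntidiag]
    constructor
    · rw [Finset.sum_eq_single C.b']
      · simp
      · intro u _ hu
        simp [Finsupp.single_apply, Ne.symm hu]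
      · intro h
        exfalso
        apply h
        unfold SV
        simp [C.hbb.symm]
    · intro u hu
      rw [Finsupp.support_single_ne_zero _ hq0, Finset.mem_singleton] at hu
      subst hu
      unfold SV
      simp [C.hbb.symm]
  have e2 := Finset.card_erase_add_one h1
  rw [Finset.card_finsuppAntidiag_nat_eq_choose] at e2
  have e3 : (SV C).card = Fintype.card σ - 1 := by
    unfold SV
    rw [Finset.card_erase_of_mem (Finset.mem_univ _), Finset.card_univ]
  rw [e3] at e2
  exact e2

/-- the exponent vector `b'^(q-1) x` -/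
noncomputable def wx (x : σ) : σ →₀ ℕ := Finsupp.single C.b' (q - 1) + Finsupp.single x 1

lemma wx_b {x : σ} (hx : x ≠ C.b) : wx C q x C.b = 0 := by
  simp [wx, Finsupp.single_apply, C.hbb.symm, hx]

include hq in
lemma wx_b' {x : σ} (hx : x ≠ C.b') : wx C q x C.b' + 1 = q := by
  simp [wx, Finsupp.single_apply, hx]
  omega

lemma wx_apply {x : σ} {u : σ} (hu : u ≠ C.b') : wx C q x u = if x = u then 1 else 0 := by
  simp [wx, Finsupp.single_apply, Ne.symm hu]

include hq in
lemma wx_mem {x : σ} (hx : x ≠ C.b) (hx' : x ≠ C.b') : wx C q x ∈ BF C q := by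
  rw [mem_BF_iff]
  refine ⟨wx_b C q hx, ?_, ?_⟩
  · unfold wx
    rw [sum_add, sum_single, sum_single]
    omega
  · have := wx_b' C q hq hx'
    omega

lemma wx_inj {x x' : σ} (hx : x ≠ C.b') (h : wx C q x = wx C q x') : x = x' := by
  have h1 := DFunLike.congr_fun h x
  rw [wx_apply C q hx, wx_apply C q hx, if_pos rfl] at h1
  by_contra hne
  rw [if_neg (Ne.symm hne)] at h1
  omega

include hq in
/-- the elements of the family with `b'`-exponent `q - 1` -/
lemma exists_wx {w : σ →₀ ℕ} (hw : w ∈ BF C q) (h : w C.b' + 1 = q) :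
    ∃ x, x ≠ C.b ∧ x ≠ C.b' ∧ w = wx C q x := by
  obtain ⟨hb, hsum, hlt⟩ := (mem_BF_iff C q w).mp hw
  have hle : q - 1 ≤ w C.b' := by omega
  have hs1 := sum_sub_single w C.b' (q - 1) hle
  rw [hsum] at hs1
  obtain ⟨x, hx⟩ := exists_single_of_sum_one (w - Finsupp.single C.b' (q - 1)) (by
    rw [hs1]
    omega)
  have hsle : Finsupp.single C.b' (q - 1) ≤ w := by
    intro u
    rw [Finsupp.single_apply]
    split_ifs with hu
    · subst hu
      exact hle
    · exact Nat.zero_le _
  have hwx : w = wx C q x := by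
    unfold wx
    rw [← hx, add_tsub_cancel_of_le hsle]
  refine ⟨x, ?_, ?_, hwx⟩
  · rintro rfl
    rw [hwx] at hb
    simp [wx, Finsupp.single_apply, C.hbb.symm] at hb
  · rintro rfl
    rw [hwx] at h
    simp [wx, Finsupp.single_apply] at h
    omega

end Family

section Assembly

open Groth.Agent.Lib.Helper24QPow (cases_u)

variable (C : Cfg σ) (T : Finset σ) (q : ℕ) (hq : 1 ≤ q)

/-- index type of the multidegrees carrying tangent vectors -/
abbrev TI (C : Cfg σ) (T : Finset σ) (q : ℕ) : Type _ :=
  Unit ⊕ Mid C ⊕ Unit ⊕ ↥(BF C q) ⊕ MidM C T ⊕ (MidT C T × MidM C T) ⊕ MidT C T ⊕ Unit ⊕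
    MidM C T

/-- the multidegrees -/
noncomputable def αOf : TI C T q → (σ → ℤ)
  | .inl _ => αd C.a C.b
  | .inr (.inl j) => αd j.1 C.b
  | .inr (.inr (.inl _)) => αd C.b' C.b
  | .inr (.inr (.inr (.inl w))) => αB C q w.1
  | .inr (.inr (.inr (.inr (.inl j)))) => αd C.a j.1.1
  | .inr (.inr (.inr (.inr (.inr (.inl tj))))) => αd tj.1.1.1 tj.2.1.1
  | .inr (.inr (.inr (.inr (.inr (.inr (.inl t)))))) => αd C.a t.1.1
  | .inr (.inr (.inr (.inr (.inr (.inr (.inr (.inl _))))))) => αB C (q + 1) (w1 C q)
  | .inr (.inr (.inr (.inr (.inr (.inr (.inr (.inr j))))))) => αE C T q j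

/-- the dimensions -/
noncomputable def dOf : TI C T q → ℕ
  | .inl _ => 2
  | .inr (.inl _) => 1
  | .inr (.inr (.inl _)) => 1
  | .inr (.inr (.inr (.inl w))) => (SB C T q w.1).card
  | .inr (.inr (.inr (.inr (.inl _)))) => 2
  | .inr (.inr (.inr (.inr (.inr (.inl _))))) => 1
  | .inr (.inr (.inr (.inr (.inr (.inr (.inl _)))))) => 1
  | .inr (.inr (.inr (.inr (.inr (.inr (.inr (.inl _))))))) => 1
  | .inr (.inr (.inr (.inr (.inr (.inr (.inr (.inr _))))))) => 1

/-- the class of a multidegree -/
def cls : TI C T q → Fin 9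
  | .inl _ => 0
  | .inr (.inl _) => 1
  | .inr (.inr (.inl _)) => 2
  | .inr (.inr (.inr (.inl _))) => 3
  | .inr (.inr (.inr (.inr (.inl _)))) => 4
  | .inr (.inr (.inr (.inr (.inr (.inl _))))) => 5
  | .inr (.inr (.inr (.inr (.inr (.inr (.inl _)))))) => 6
  | .inr (.inr (.inr (.inr (.inr (.inr (.inr (.inl _))))))) => 7
  | .inr (.inr (.inr (.inr (.inr (.inr (.inr (.inr _))))))) => 8

open Classical in
/-- reading off the class from the multidegree -/
noncomputable def clsOf (α : σ → ℤ) : Fin 9 :=
  if α C.b = -1 then (if α C.b' = 1 then 2 else if α C.a = 1 then 0 else 1)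
  else if α C.b = 1 then (if α C.b' = -(q : ℤ) - 1 then 7 else 8)
  else if α C.b' < 0 then 3
  else if α C.a = 1 then (if ∃ t : MidT C T, α t.1.1 = -1 then 6 else 4) else 5

include hq in
lemma clsOf_αOf (t : TI C T q) : clsOf C T q (αOf C T q t) = cls C T q t := by
  rcases t with _ | j | _ | w | j | ⟨t, j⟩ | t | _ | j
  · simp [clsOf, αOf, cls, αd, C.hba, C.hba.symm, C.hb'a, C.hbb.symm]
  · simp [clsOf, αOf, cls, αd, Ne.symm j.2.1, Ne.symm j.2.2.1, Ne.symm j.2.2.2, C.hbb.symm,
      C.hba.symm]
  · simp [clsOf, αOf, cls, αd, C.hbb, C.hbb.symm]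
  · have hw := (mem_BF_iff C q w.1).mp w.2
    have e1 : αB C q w.1 C.b = 0 := by rw [αB_b, hw.1]; rfl
    have e2 : αB C q w.1 C.b' < 0 := by
      rw [αB_b']
      have := hw.2.2
      omega
    simp [clsOf, αOf, cls, e1, e2]
  · have e : ¬ ∃ t : MidT C T, αd C.a j.1.1 t.1.1 = -1 := by
      rintro ⟨t, ht⟩
      simp [αd, t.1.2.2.2, midT_ne_midM C T t j] at ht
    simp [clsOf, αOf, cls, e]
    simp [αd, C.hba, Ne.symm j.1.2.1, C.hb'a, Ne.symm j.1.2.2.1, Ne.symm j.1.2.2.2]
  · simp [clsOf, αOf, cls]
    simp [αd, Ne.symm t.1.2.1, Ne.symm j.1.2.1, Ne.symm t.1.2.2.1, Ne.symm j.1.2.2.1,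
      Ne.symm t.1.2.2.2, Ne.symm j.1.2.2.2]
  · have e : ∃ t' : MidT C T, αd C.a t.1.1 t'.1.1 = -1 := by
      refine ⟨t, ?_⟩
      simp [αd, t.1.2.2.2]
    simp [clsOf, αOf, cls, e]
    simp [αd, C.hba, Ne.symm t.1.2.1, C.hb'a, Ne.symm t.1.2.2.1, Ne.symm t.1.2.2.2]
  · have e1 : αB C (q + 1) (w1 C q) C.b = 1 := by rw [αB_b, w1_b]; rfl
    have e2 : αB C (q + 1) (w1 C q) C.b' = -(q : ℤ) - 1 := by
      rw [αB_b', w1_b']
      push_cast
      ring
    simp [clsOf, αOf, cls, e1, e2]
  · have e1 := αE_b C T q j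
    have e2 := αE_b' C T q j
    simp [clsOf, αOf, cls, e1, e2]
    omega

include hq in
lemma αOf_injective : Function.Injective (αOf C T q) := by
  intro t t' h
  have hc : cls C T q t = cls C T q t' := by
    rw [← clsOf_αOf C T q hq, ← clsOf_αOf C T q hq, h]
  rcases t with _ | j | _ | w | j | ⟨t, j⟩ | t | _ | j <;>
    rcases t' with _ | j' | _ | w' | j' | ⟨t', j'⟩ | t' | _ | j' <;>
    simp [cls] at hc
  · rfl
  · have e := congrFun h j.1
    simp [αOf, αd, j.2.1] at e
    rw [Subtype.ext e]
  · rfl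
  · have e : w.1 = w'.1 := αB_injective C q h
    rw [Subtype.ext e]
  · have e := congrFun h j.1.1
    simp [αOf, αd, j.1.2.2.2] at e
    rw [Subtype.ext (Subtype.ext e)]
  · have e1 := congrFun h t.1.1
    have e2 := congrFun h j.1.1
    simp [αOf, αd, midT_ne_midM C T t j, midT_ne_midM C T t j'] at e1
    simp [αOf, αd, Ne.symm (midT_ne_midM C T t j), Ne.symm (midT_ne_midM C T t' j)] at e2
    rw [Subtype.ext (Subtype.ext e1), Subtype.ext (Subtype.ext e2)]
  · have e := congrFun h t.1.1
    simp [αOf, αd, t.1.2.2.2] at e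
    rw [Subtype.ext (Subtype.ext e)]
  · rfl
  · have e := congrFun h j.1.1
    simp only [αOf, αE_mid, if_true] at e
    have e' : j.1.1 = j'.1.1 := by
      by_contra hne
      rw [if_neg hne] at e
      norm_num at e
    rw [Subtype.ext (Subtype.ext e')]

lemma sum_w1 : ∑ u, ((w1 C q u : ℕ) : ℤ) = ((q + 1 : ℕ) : ℤ) := by
  unfold w1
  rw [sum_add, sum_single, sum_single]
  push_cast
  ring

lemma sum_αE (j : MidM C T) : ∑ u, αE C T q j u = 0 := by
  unfold αE αB
  rw [Finset.sum_sub_distrib, Finset.sum_sub_distrib, sum_w1]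
  simp

lemma sum_αOf (t : TI C T q) : ∑ l, αOf C T q t l = 0 := by
  rcases t with _ | j | _ | w | j | ⟨t, j⟩ | t | _ | j
  · exact sum_αd _ _
  · exact sum_αd _ _
  · exact sum_αd _ _
  · exact sum_αB C q ((mem_BF_iff C q w.1).mp w.2).2.1
  · exact sum_αd _ _
  · exact sum_αd _ _
  · exact sum_αd _ _
  · exact sum_αB C (q + 1) (sum_w1 C q)
  · exact sum_αE C T q j

include hq in
theorem finrank_piece (j0 : MidM C T) (t0 : MidT C T) (t : TI C T q) :
    Module.finrank k ↥(tPiece (MI k (gT C T q)) (αOf C T q t)) = dOf C T q t := by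
  rw [finrank_tPiece_eq]
  rcases t with _ | j | _ | w | j | ⟨t, j⟩ | t | _ | j
  · have := finrank_A (k := k) C T q hq t0 (x := C.a) (Ne.symm C.hba)
    rw [if_pos rfl] at this
    exact this
  · have := finrank_A (k := k) C T q hq t0 (x := j.1) j.2.1
    rw [if_neg j.2.2.2] at this
    exact this
  · have := finrank_A (k := k) C T q hq t0 (x := C.b') C.hbb.symm
    rw [if_neg C.hb'a] at this
    exact this
  · have hw := (mem_BF_iff C q w.1).mp w.2
    exact finrank_B C T q hq j0 hw.1 hw.2.2
  · have := finrank_C (k := k) C T q hq j (x := C.a) (Or.inl rfl)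
    rw [if_pos rfl] at this
    exact this
  · have := finrank_C (k := k) C T q hq j (x := t.1.1) (Or.inr ⟨t, rfl⟩)
    rw [if_neg t.1.2.2.2] at this
    exact this
  · exact finrank_D C T q hq t
  · exact finrank_E1 C T q hq
  · exact finrank_E2 C T q hq j

lemma inL_range {α : σ → ℤ} (h : InL C T q α) : ∃ t : TI C T q, αOf C T q t = α := by
  rcases h with ⟨x, hx, rfl⟩ | ⟨w, h1, h2, h3, rfl⟩ | ⟨j, rfl⟩ | ⟨t, j, rfl⟩ | ⟨t, rfl⟩ | rfl |
    ⟨j, rfl⟩
  · rcases cases_u C x with rfl | rfl | rfl | ⟨y, rfl⟩
    · exact absurd rfl hx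
    · exact ⟨.inr (.inr (.inl ())), rfl⟩
    · exact ⟨.inl (), rfl⟩
    · exact ⟨.inr (.inl y), rfl⟩
  · exact ⟨.inr (.inr (.inr (.inl ⟨w, (mem_BF_iff C q w).mpr ⟨h1, h2, h3⟩⟩))), rfl⟩
  · exact ⟨.inr (.inr (.inr (.inr (.inl j)))), rfl⟩
  · exact ⟨.inr (.inr (.inr (.inr (.inr (.inl (t, j)))))), rfl⟩
  · exact ⟨.inr (.inr (.inr (.inr (.inr (.inr (.inl t)))))), rfl⟩
  · exact ⟨.inr (.inr (.inr (.inr (.inr (.inr (.inr (.inl ()))))))), rfl⟩
  · exact ⟨.inr (.inr (.inr (.inr (.inr (.inr (.inr (.inr j))))))), rfl⟩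

/-- the exponent vectors with an extra class: free variable or first block only -/
noncomputable def fO : Option (MidT C T) → σ →₀ ℕ
  | none => wx C q C.a
  | some t => wx C q t.1.1

include hq in
lemma filter_c1 [DecidablePred fun w : σ →₀ ℕ => w C.b' + 1 = q ∧ ∀ m : MidM C T, w m.1.1 = 0] :
    ((BF C q).filter (fun w => w C.b' + 1 = q ∧ ∀ m : MidM C T, w m.1.1 = 0)).card =
      Fintype.card (MidT C T) + 1 := by
  classical
  have hinj : Function.Injective (fO C T q) := by
    intro o o' h
    rcases o with _ | t <;> rcases o' with _ | t'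
    · rfl
    · exfalso
      exact t'.1.2.2.2 (wx_inj C q (Ne.symm C.hb'a) h).symm
    · exfalso
      exact t.1.2.2.2 (wx_inj C q t.1.2.2.1 h)
    · have := wx_inj C q t.1.2.2.1 h
      rw [Subtype.ext (Subtype.ext this)]
  have himg : (BF C q).filter (fun w => w C.b' + 1 = q ∧ ∀ m : MidM C T, w m.1.1 = 0) =
      Finset.univ.image (fO C T q) := by
    ext w
    rw [Finset.mem_filter, Finset.mem_image]
    constructor
    · rintro ⟨hw, h1, h2⟩
      obtain ⟨x, hxb, hxb', rfl⟩ := exists_wx C q hq hw h1
      rcases cases_u C x with rfl | rfl | rfl | ⟨y, rfl⟩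
      · exact absurd rfl hxb
      · exact absurd rfl hxb'
      · exact ⟨none, Finset.mem_univ _, rfl⟩
      · by_cases hy : y.1 ∈ T
        · exact ⟨some ⟨y, hy⟩, Finset.mem_univ _, rfl⟩
        · exfalso
          have := h2 ⟨y, hy⟩
          rw [wx_apply C q y.2.2.1, if_pos rfl] at this
          omega
    · rintro ⟨o, -, rfl⟩
      rcases o with _ | t
      · refine ⟨wx_mem C q hq (Ne.symm C.hba) (Ne.symm C.hb'a), wx_b' C q hq (Ne.symm C.hb'a),
          fun m => ?_⟩
        show wx C q C.a m.1.1 = 0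
        rw [wx_apply C q m.1.2.2.1, if_neg (Ne.symm m.1.2.2.2)]
      · refine ⟨wx_mem C q hq t.1.2.1 t.1.2.2.1, wx_b' C q hq t.1.2.2.1, fun m => ?_⟩
        show wx C q t.1.1 m.1.1 = 0
        rw [wx_apply C q m.1.2.2.1, if_neg (midT_ne_midM C T t m)]
  rw [himg, Finset.card_image_of_injective _ hinj, Finset.card_univ, Fintype.card_option]

include hq in
lemma filter_c2 [DecidablePred fun w : σ →₀ ℕ => w C.b' + 1 = q ∧ ∀ x : Mid C, w x.1 = 0] :
    ((BF C q).filter (fun w => w C.b' + 1 = q ∧ ∀ x : Mid C, w x.1 = 0)).card = 1 := by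
  classical
  have himg : (BF C q).filter (fun w => w C.b' + 1 = q ∧ ∀ x : Mid C, w x.1 = 0) =
      {wx C q C.a} := by
    ext w
    rw [Finset.mem_filter, Finset.mem_singleton]
    constructor
    · rintro ⟨hw, h1, h2⟩
      obtain ⟨x, hxb, hxb', rfl⟩ := exists_wx C q hq hw h1
      rcases cases_u C x with rfl | rfl | rfl | ⟨y, rfl⟩
      · exact absurd rfl hxb
      · exact absurd rfl hxb'
      · rfl
      · exfalso
        have := h2 y
        rw [wx_apply C q y.2.2.1, if_pos rfl] at this
        omega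
    · rintro rfl
      refine ⟨wx_mem C q hq (Ne.symm C.hba) (Ne.symm C.hb'a), wx_b' C q hq (Ne.symm C.hb'a),
        fun m => ?_⟩
      rw [wx_apply C q m.2.2.1, if_neg (Ne.symm m.2.2.2)]
  rw [himg, Finset.card_singleton]

include hq in
lemma sum_SB : ∑ w : ↥(BF C q), (SB C T q w.1).card =
    (BF C q).card + Fintype.card (MidT C T) + 2 := by
  classical
  rw [Finset.sum_coe_sort (BF C q) (fun w => (SB C T q w).card)]
  have h1 : ∀ w ∈ BF C q, (SB C T q w).card =
      1 + (if w C.b' + 1 = q ∧ ∀ m : MidM C T, w m.1.1 = 0 then 1 else 0) +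
        (if w C.b' + 1 = q ∧ ∀ x : Mid C, w x.1 = 0 then 1 else 0) := by
    intro w _
    unfold SB
    by_cases hc1 : w C.b' + 1 = q ∧ ∀ m : MidM C T, w m.1.1 = 0 <;>
      by_cases hc2 : w C.b' + 1 = q ∧ ∀ x : Mid C, w x.1 = 0
    · rw [if_pos hc1, if_pos hc2, if_pos hc1, if_pos hc2]
      rfl
    · rw [if_pos hc1, if_neg hc2, if_pos hc1, if_neg hc2]
      rfl
    · rw [if_neg hc1, if_pos hc2, if_neg hc1, if_pos hc2]
      rfl
    · rw [if_neg hc1, if_neg hc2, if_neg hc1, if_neg hc2]
      rfl
  rw [Finset.sum_congr rfl h1, Finset.sum_add_distrib, Finset.sum_add_distrib, Finset.sum_const,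
    smul_eq_mul, mul_one, ← Finset.card_filter, ← Finset.card_filter, filter_c1 C T q hq,
    filter_c2 C q hq]
  ring

include hq in
lemma sum_dOf : ∑ t, dOf C T q t = (BF C q).card + Fintype.card (Mid C) +
    3 * Fintype.card (MidM C T) + 2 * Fintype.card (MidT C T) +
      Fintype.card (MidT C T) * Fintype.card (MidM C T) + 6 := by
  simp only [Fintype.sum_sum_type, dOf, Finset.sum_const, Finset.card_univ, smul_eq_mul,
    Fintype.card_unit, Fintype.card_prod]
  rw [sum_SB C T q hq]
  ring

include hq in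
theorem finrank_degree_zero (j0 : MidM C T) (t0 : MidT C T)
    (hcase : 3 ≤ q ∨ ∀ t : MidT C T, ∃ t' : MidT C T, t' ≠ t) :
    Module.finrank k ↥(⨆ α : {α : σ → ℤ // ∑ l, α l = 0}, tPiece (MI k (gT C T q)) α.1) =
      (BF C q).card + Fintype.card (Mid C) + 3 * Fintype.card (MidM C T) +
        2 * Fintype.card (MidT C T) + Fintype.card (MidT C T) * Fintype.card (MidM C T) + 6 := by
  classical
  have hfr : ∀ α ∈ Finset.univ.image (αOf C T q),
      FiniteDimensional k ↥(tPiece (MI k (gT C T q)) α) := by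
    intro α hα
    rw [Finset.mem_image] at hα
    obtain ⟨t, -, rfl⟩ := hα
    apply FiniteDimensional.of_finrank_pos
    rw [finrank_piece C T q hq j0 t0 t]
    rcases t with _ | j | _ | w | j | ⟨t, j⟩ | t | _ | j
    · simp [dOf]
    · simp [dOf]
    · simp [dOf]
    · show 0 < (SB C T q w.1).card
      unfold SB
      rw [Finset.card_pos]
      exact ⟨0, by simp⟩
    · simp [dOf]
    · simp [dOf]
    · simp [dOf]
    · simp [dOf]
    · simp [dOf]
  rw [iSup_subtype_eq_biSup (fun α => ∑ l, α l = 0) (Finset.univ.image (αOf C T q))]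
  · have h := Groth.Agent.Lib.Helper24TwoBlk.finrank_biSup_tPiece'
      (isMonomial_MI (k := k) (gT C T q)) (Finset.univ.image (αOf C T q)) hfr
    rw [h.2, Finset.sum_image (fun t _ t' _ h => αOf_injective C T q hq h),
      Finset.sum_congr rfl (fun t _ => finrank_piece C T q hq j0 t0 t), sum_dOf C T q hq]
  · intro α hα
    rw [Finset.mem_image] at hα
    obtain ⟨t, -, rfl⟩ := hα
    exact sum_αOf C T q t
  · intro α hsum hα
    apply tPiece_eq_bot_of_V (gT C T q) α
    intro c hc i
    by_contra hne
    apply hα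
    rw [Finset.mem_image]
    obtain ⟨t, ht⟩ := inL_range C T q (classify C T q hq j0 t0 hcase hsum hc hne)
    exact ⟨t, Finset.mem_univ _, ht⟩

end Assembly

section Final

theorem s13447 (k : Type u) [Field k] (n q r : ℕ) (hn : 4 ≤ n)
    (hq : 1 ≤ q) (hr : r + 3 ≤ n) (hcase : 2 ≤ r ∨ (r = 1 ∧ 3 ≤ q)) :
    Module.finrank k ↥(⨆ α : {α : Fin (n + 1) → ℤ // ∑ i, α i = 0}, tPiece (Ideal.span ({f : MvPolynomial (Fin (n + 1)) k | ∃ i : Fin (n + 1), i.val + 1 ≤ n ∧ f = MvPolynomial.X 0 * MvPolynomial.X i} ∪ {f : MvPolynomial (Fin (n + 1)) k | ∃ i : Fin (n + 1), 1 ≤ i.val ∧ i.val ≤ n - r - 1 ∧ f = MvPolynomial.X 1 ^ q * MvPolynomial.X i})) α.1) =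
      3 * n - 1 + (n - r - 2) * (r + 1) + Nat.choose (n + q - 1) (n - 1) := by
  classical
  have hr1 : 1 ≤ r := by omega
  obtain ⟨m, rfl⟩ : ∃ m, n = m + r + 3 := ⟨n - r - 3, by omega⟩
  have hv0 : ((0 : Fin (m + r + 3 + 1)) : ℕ) = 0 := rfl
  have hv1 : ((1 : Fin (m + r + 3 + 1)) : ℕ) = 1 := by simp
  have hne : ∀ {x y : Fin (m + r + 3 + 1)}, x.val ≠ y.val → x ≠ y :=
    fun h e => h (congrArg Fin.val e)
  let C : Cfg (Fin (m + r + 3 + 1)) := ⟨0, 1, Fin.last (m + r + 3), hne (by rw [hv0, hv1]; omega),
    hne (by rw [hv0, Fin.val_last]; omega), hne (by rw [hv1, Fin.val_last]; omega)⟩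
  have hCb : C.b = 0 := rfl
  have hCb' : C.b' = 1 := rfl
  have hCa : C.a = Fin.last (m + r + 3) := rfl
  let T : Finset (Fin (m + r + 3 + 1)) :=
    Finset.univ.filter (fun i => m + 3 ≤ i.val ∧ i.val ≤ m + r + 2)
  have memT : ∀ i : Fin (m + r + 3 + 1), i ∈ T ↔ (m + 3 ≤ i.val ∧ i.val ≤ m + r + 2) := by
    intro i
    simp only [T, Finset.mem_filter, Finset.mem_univ, true_and]
  have mkMid : ∀ i : Fin (m + r + 3 + 1), 2 ≤ i.val → i.val ≤ m + r + 2 →
      i ≠ C.b ∧ i ≠ C.b' ∧ i ≠ C.a := by
    intro i h1 h2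
    refine ⟨hne ?_, hne ?_, hne ?_⟩
    · rw [hCb, hv0]; omega
    · rw [hCb', hv1]; omega
    · rw [hCa, Fin.val_last]; omega
  have midVal : ∀ x : Mid C, 2 ≤ x.1.val ∧ x.1.val ≤ m + r + 2 := by
    intro x
    have h1 : x.1.val ≠ 0 := fun h => x.2.1 (Fin.ext (h.trans (by rw [hCb, hv0])))
    have h2 : x.1.val ≠ 1 := fun h => x.2.2.1 (Fin.ext (h.trans (by rw [hCb', hv1])))
    have h4 : x.1.val ≠ m + r + 3 :=
      fun h => x.2.2.2 (Fin.ext (h.trans (by rw [hCa, Fin.val_last])))
    have := x.1.isLt
    omega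
  have j0 : MidM C T := ⟨⟨⟨2, by omega⟩, mkMid _ (by simp) (by simp)⟩, by
    rw [memT]
    simp⟩
  have t0 : MidT C T := ⟨⟨⟨m + r + 2, by omega⟩, mkMid _ (by simp) (by simp)⟩, by
    rw [memT]
    simp
    omega⟩
  have hcase' : 3 ≤ q ∨ ∀ t : MidT C T, ∃ t' : MidT C T, t' ≠ t := by
    rcases hcase with h | ⟨-, h⟩
    · right
      intro t
      by_cases ht : t.1.1.val = m + r + 2
      · refine ⟨⟨⟨⟨m + r + 1, by omega⟩, mkMid _ (by dsimp only; omega) (by dsimp only; omega)⟩, by
          rw [memT]
          dsimp only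
          omega⟩, ?_⟩
        intro h'
        have := congrArg (fun x : MidT C T => x.1.1.val) h'
        simp only at this
        omega
      · refine ⟨⟨⟨⟨m + r + 2, by omega⟩, mkMid _ (by simp) (by simp)⟩, by
          rw [memT]
          simp
          omega⟩, ?_⟩
        intro h'
        have := congrArg (fun x : MidT C T => x.1.1.val) h'
        simp only at this
        omega
    · exact Or.inl h
  have hmono : ∀ p l : Fin (m + r + 3 + 1), monomial (gen p l) (1:k) = X p * X l := by
    intro p l
    unfold gen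
    rw [X, X, monomial_mul, one_mul]
  have hQ : ∀ i : Fin (m + r + 3 + 1), monomial (Finsupp.single 1 q + Finsupp.single i 1) (1:k) =
      X 1 ^ q * X i := by
    intro i
    rw [X_pow_eq_monomial, X, monomial_mul, one_mul]
  have hI : (Ideal.span ({f : MvPolynomial (Fin (m + r + 3 + 1)) k | ∃ i : Fin (m + r + 3 + 1), i.val + 1 ≤ m + r + 3 ∧ f = MvPolynomial.X 0 * MvPolynomial.X i} ∪ {f : MvPolynomial (Fin (m + r + 3 + 1)) k | ∃ i : Fin (m + r + 3 + 1), 1 ≤ i.val ∧ i.val ≤ m + r + 3 - r - 1 ∧ f = MvPolynomial.X 1 ^ q * MvPolynomial.X i})) = MI k (gT C T q) := by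
    unfold MI
    congr 1
    ext f
    simp only [Set.mem_union, Set.mem_setOf_eq, Set.mem_image, Set.mem_range]
    constructor
    · rintro (⟨i, hi, rfl⟩ | ⟨i, hi1, hi2, rfl⟩)
      · by_cases h0 : i.val = 0
        · have : i = 0 := Fin.ext h0
          subst this
          exact ⟨_, ⟨.bb, rfl⟩, hmono _ _⟩
        by_cases h1 : i.val = 1
        · have : i = 1 := Fin.ext (by rw [hv1]; exact h1)
          subst this
          exact ⟨_, ⟨.bb', rfl⟩, hmono _ _⟩
        exact ⟨_, ⟨.bm ⟨i, mkMid i (by omega) (by omega)⟩, rfl⟩, hmono _ _⟩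
      · by_cases h1 : i.val = 1
        · have : i = 1 := Fin.ext (by rw [hv1]; exact h1)
          subst this
          refine ⟨_, ⟨.Q', rfl⟩, ?_⟩
          rw [← hQ]
          show monomial (Finsupp.single (1 : Fin (m + r + 3 + 1)) (q + 1)) (1:k) = _
          rw [Finsupp.single_add]
        · refine ⟨_, ⟨.QM ⟨⟨i, mkMid i (by omega) (by omega)⟩, by
            rw [memT]
            dsimp only
            omega⟩, rfl⟩, ?_⟩
          exact hQ i
    · rintro ⟨β, ⟨i, rfl⟩, rfl⟩
      cases i with
      | bb => exact Or.inl ⟨0, by have := hv0; omega, hmono _ _⟩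
      | bb' => exact Or.inl ⟨1, by have := hv1; omega, hmono _ _⟩
      | bm x =>
        have := midVal x
        exact Or.inl ⟨x.1, by omega, hmono _ _⟩
      | Q' =>
        refine Or.inr ⟨1, by have := hv1; omega, by have := hv1; omega, ?_⟩
        rw [← hQ]
        show monomial (Finsupp.single (1 : Fin (m + r + 3 + 1)) (q + 1)) (1:k) = _
        rw [Finsupp.single_add]
      | QM x =>
        have h1 := midVal x.1
        have h2 := x.2
        rw [memT] at h2
        exact Or.inr ⟨x.1.1, by omega, by omega, hQ _⟩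
  have eT : MidT C T ≃ Fin r :=
    { toFun := fun t => ⟨t.1.1.val - (m + 3), by
        have := (memT _).mp t.2
        omega⟩
      invFun := fun i => ⟨⟨⟨i.val + (m + 3), by omega⟩, mkMid _ (by simp; omega) (by simp; omega)⟩,
        (memT _).mpr (by simp; omega)⟩
      left_inv := fun t => by
        apply Subtype.ext
        apply Subtype.ext
        apply Fin.ext
        have := (memT _).mp t.2
        simp only
        omega
      right_inv := fun i => by
        apply Fin.ext
        simp }
  have cT : Fintype.card (MidT C T) = r := by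
    rw [Fintype.card_congr eT, Fintype.card_fin]
  have cM : Fintype.card (MidM C T) = Fintype.card (Mid C) - Fintype.card (MidT C T) :=
    Fintype.card_subtype_compl (fun x : Mid C => x.1 ∈ T)
  rw [hI, finrank_degree_zero C T q hq j0 t0 hcase', cM, cT,
    Groth.Agent.Lib.Helper24Nest.card_Mid, Fintype.card_fin]
  have h1 := card_BF C q hq
  rw [Fintype.card_fin] at h1
  have h2 : Nat.choose (m + r + 3 + q - 1) (m + r + 3 - 1) =
      Nat.choose (m + r + 3 + 1 - 1 + q - 1) q := by
    have e : m + r + 3 + 1 - 1 + q - 1 = m + r + 3 + q - 1 := by omega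
    rw [e]
    exact (Nat.choose_symm_of_eq_add (by omega)).symm
  rw [h2]
  have e1 : m + r + 3 + 1 - 3 = m + r + 1 := by omega
  have e2 : m + r + 1 - r = m + 1 := by omega
  have e3 : m + r + 3 - r - 2 = m + 1 := by omega
  have e5 : (m + 1) * (r + 1) = r * (m + 1) + m + 1 := by ring
  rw [e1, e2, e3, e5]
  omega

end Final

end Groth.Agent.Lib.Helper24QTwo
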