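import Mathlib
import Groth.Agent.Lib.Helper24QrtF

/-!
# A reduced plane quartic has at most six singular points
-/

namespace Groth.Agent.Lib.Helper24Qrt

open MvPolynomial
open Groth.Agent.Lib.Helper24CubicSec Groth.Agent.Lib.Helper24CubicLines
  Groth.Agent.Lib.Helper24CubicSing

variable {k : Type*} [Field k] [IsAlgClosed k]

/-- a squarefree quartic has no five singular points in general position -/
theorem no_five_general {f : MvPolynomial (Fin 3) k} (hf : f.IsHomogeneous 4)
    (hsq : Squarefree f) (P : Fin 5 → Fin 3 → k) (hP : ∀ i, IsSing f (P i))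
    (hNP : ∀ i j, i ≠ j → NP (P i) (P j)) (hcol : ¬ Collinear3 P) : False := by
  obtain ⟨c, hc0, hcP⟩ := exists_conic P
  have hQ := conicPoly_isHomogeneous c
  have hQ0 := conicPoly_ne_zero hc0
  have hirr := irreducible_conic hQ hQ0 P hcP hcol
  have hdvd : conicPoly c ∣ f :=
    conic_dvd c hirr P hcP hNP 0 1 (by decide) hf (fun _ => 2)
      (fun i => Or.inr ⟨rfl, hP i⟩) (by simp)
  obtain ⟨g, hg⟩ := hdvd
  have hgh : g.IsHomogeneous 2 := by
    apply isHomogeneous_of_mul hQ hQ0
    rw [mul_comm, ← hg]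
    exact hf
  have hgP : ∀ i, eval (P i) g = 0 := by
    intro i
    have hs := hP i
    rw [hg] at hs
    rcases isSing_mul_cases hs with h | h | h
    · exact h.2
    · exfalso
      obtain ⟨j, hj⟩ : ∃ j : Fin 5, i ≠ j := by
        by_cases h0 : i = 0
        · exact ⟨1, by rw [h0]; decide⟩
        · exact ⟨0, h0⟩
      exact not_isSing_conic hQ hirr (hNP i j hj) (hcP j) h.2
    · exact absurd (hcP i) h.1
  have hdvd2 : conicPoly c ∣ g :=
    conic_dvd c hirr P hcP hNP 0 1 (by decide) hgh (fun _ => 1)
      (fun i => Or.inl ⟨rfl, hgP i⟩) (by simp)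
  obtain ⟨q, hq⟩ := hdvd2
  exact hirr.not_isUnit (hsq _ ⟨q, by rw [hg, hq, mul_assoc]⟩)

/-- a squarefree quartic has at most six singular points -/
theorem singBound_quartic {f : MvPolynomial (Fin 3) k} (hf : f.IsHomogeneous 4)
    (hsq : Squarefree f) : SingBound f 6 := by
  intro ι _ P hP hNP
  by_cases hcol : Collinear3 P
  · exact quartic_bound_of_collinear hf hsq P hP hNP hcol
  · by_contra hcon
    push Not at hcon
    obtain ⟨emb⟩ : Nonempty (Fin 5 ↪ ι) :=
      Function.Embedding.nonempty_of_card_le (by simp; omega)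
    apply no_five_general hf hsq (fun a => P (emb a)) (fun a => hP _)
      (fun a b hab => hNP _ _ (fun h => hab (emb.injective h)))
    rintro ⟨φ, hφ, i, j, l, hij, hil, hjl, h1, h2, h3⟩
    exact hcol ⟨φ, hφ, emb i, emb j, emb l, fun h => hij (emb.injective h),
      fun h => hil (emb.injective h), fun h => hjl (emb.injective h), h1, h2, h3⟩

omit [IsAlgClosed k] in
theorem np_rep {p q : Projectivization k (Fin 3 → k)} (hpq : p ≠ q) : NP p.rep q.rep := by
  intro a b hab
  by_contra hcon
  apply hpq
  have hb : b ≠ 0 := by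
    intro hb
    rw [hb, zero_smul, add_zero] at hab
    rcases smul_eq_zero.mp hab with h | h
    · exact hcon ⟨h, hb⟩
    · exact p.rep_nonzero h
  have ha : a ≠ 0 := by
    intro ha
    rw [ha, zero_smul, zero_add] at hab
    rcases smul_eq_zero.mp hab with h | h
    · exact hb h
    · exact q.rep_nonzero h
  rw [← p.mk_rep, ← q.mk_rep, Projectivization.mk_eq_mk_iff']
  refine ⟨-(b / a), ?_⟩
  have : p.rep = -(b / a) • q.rep := by
    have h1 : a • p.rep = -(b • q.rep) := eq_neg_of_add_eq_zero_left hab
    calc p.rep = a⁻¹ • (a • p.rep) := by rw [smul_smul, inv_mul_cancel₀ ha, one_smul]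
      _ = -(b / a) • q.rep := by rw [h1, smul_neg, smul_smul, neg_smul]; congr 2; field_simp
  exact this.symm

/-- **Main theorem** -/
theorem main (f : MvPolynomial (Fin 3) k) (hf : f.IsHomogeneous 4) (hred : Squarefree f) :
    ∃ s : Finset (Projectivization k (Fin 3 → k)), s.card ≤ 6 ∧
      ∀ p : Projectivization k (Fin 3 → k),
        MvPolynomial.eval p.rep f = 0 →
          (∀ i : Fin 3, MvPolynomial.eval p.rep (MvPolynomial.pderiv i f) = 0) → p ∈ s := by
  classical
  set S : Set (Projectivization k (Fin 3 → k)) :=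
    {p | eval p.rep f = 0 ∧ ∀ i : Fin 3, eval p.rep (pderiv i f) = 0} with hS
  have hle : S.encard ≤ 6 := by
    by_contra hcon
    push Not at hcon
    have h7 : (7 : ℕ∞) ≤ S.encard := by
      have h61 : (6 : ℕ∞) + 1 ≤ S.encard := Order.add_one_le_of_lt hcon
      have h67 : (6 : ℕ∞) + 1 = 7 := by norm_num
      rwa [h67] at h61
    obtain ⟨T, hTS, hT⟩ := Set.exists_subset_encard_eq h7
    have hTfin : T.Finite := Set.finite_of_encard_le_coe (k := 7) (by rw [hT]; rfl)
    have hcard : hTfin.toFinset.card = 7 := by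
      have := hTfin.encard_eq_coe_toFinset_card
      rw [hT] at this
      exact_mod_cast this.symm
    let e := Finset.equivFinOfCardEq hcard
    have hmem : ∀ a : Fin 7, ((e.symm a : hTfin.toFinset) : Projectivization k (Fin 3 → k)) ∈ S :=
      fun a => hTS (hTfin.mem_toFinset.mp (e.symm a).2)
    have := singBound_quartic hf hred (Fin 7) (fun a => (e.symm a).1.rep)
      (fun a => ⟨Projectivization.rep_nonzero _, (hmem a).1, (hmem a).2⟩)
      (fun a b hab => np_rep (fun h => hab (e.symm.injective (Subtype.ext h))))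
    simp at this
  have hfin : S.Finite := Set.finite_of_encard_le_coe hle
  refine ⟨hfin.toFinset, ?_, fun p h1 h2 => hfin.mem_toFinset.mpr ⟨h1, h2⟩⟩
  have := hfin.encard_eq_coe_toFinset_card
  rw [this] at hle
  exact_mod_cast hle

end Groth.Agent.Lib.Helper24Qrt
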