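import Mathlib
import Groth.Agent.Lib.Helper24Bezout1

/-!
# Bidegree (3,3) forms on the quadric surface: coordinates on the sixteen monomials
-/

set_option autoImplicit false

namespace Groth.Agent.Lib.Helper24QuadDiag

open MvPolynomial

variable {k : Type*} [Field k]

/-- exponent vector of the monomial `x0^i x1^(3-i) y0^j y1^(3-j)` -/
noncomputable def dd (i j : Fin 4) : Fin 4 →₀ ℕ :=
  Finsupp.equivFunOnFinite.symm ![(i : ℕ), 3 - i, j, 3 - j]

theorem dd_0 (i j : Fin 4) : dd i j 0 = i := rfl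
theorem dd_1 (i j : Fin 4) : dd i j 1 = 3 - i := rfl
theorem dd_2 (i j : Fin 4) : dd i j 2 = j := rfl
theorem dd_3 (i j : Fin 4) : dd i j 3 = 3 - j := rfl

theorem dd_inj {i j i' j' : Fin 4} (h : dd i j = dd i' j') : i = i' ∧ j = j' := by
  have h0 := DFunLike.congr_fun h 0
  have h2 := DFunLike.congr_fun h 2
  rw [dd_0, dd_0] at h0
  rw [dd_2, dd_2] at h2
  exact ⟨Fin.ext h0, Fin.ext h2⟩

/-- the sixteen monomials of bidegree `(3,3)` -/
noncomputable def mon (i j : Fin 4) : MvPolynomial (Fin 4) k := monomial (dd i j) 1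

theorem mon_eq (i j : Fin 4) : (mon i j : MvPolynomial (Fin 4) k) =
    X 0 ^ (i : ℕ) * X 1 ^ (3 - (i : ℕ)) * X 2 ^ (j : ℕ) * X 3 ^ (3 - (j : ℕ)) := by
  rw [mon, monomial_eq, C_1, one_mul, Finsupp.prod_fintype _ _ (fun _ => pow_zero _),
    Fin.prod_univ_four, dd_0, dd_1, dd_2, dd_3]

/-- the form with coefficient matrix `a` -/
noncomputable def Ψ (a : Fin 4 → Fin 4 → k) : MvPolynomial (Fin 4) k :=
  ∑ i, ∑ j, C (a i j) * mon i j

theorem coeff_Ψ (a : Fin 4 → Fin 4 → k) (i j : Fin 4) : coeff (dd i j) (Ψ a) = a i j := by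
  classical
  simp only [Ψ, coeff_sum, coeff_C_mul, mon, coeff_monomial]
  rw [Finset.sum_eq_single i]
  · rw [Finset.sum_eq_single j]
    · simp
    · intro j' _ hj'
      rw [if_neg (fun h => hj' (dd_inj h).2), mul_zero]
    · intro h; exact absurd (Finset.mem_univ _) h
  · intro i' _ hi'
    apply Finset.sum_eq_zero
    intro j' _
    rw [if_neg (fun h => hi' (dd_inj h).1), mul_zero]
  · intro h; exact absurd (Finset.mem_univ _) h

theorem Ψ_injective {a b : Fin 4 → Fin 4 → k} (h : Ψ a = Ψ b) : a = b := by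
  funext i j
  rw [← coeff_Ψ a i j, ← coeff_Ψ b i j, h]

/-- weights -/
def w1 : Fin 4 → ℕ := ![1, 1, 0, 0]
def w2 : Fin 4 → ℕ := ![0, 0, 1, 1]

theorem weight_w1 (m : Fin 4 →₀ ℕ) : Finsupp.weight w1 m = m 0 + m 1 := by
  rw [Finsupp.weight_apply, Finsupp.sum_fintype _ _ (fun i => zero_smul ℕ (w1 i)), Fin.sum_univ_four]
  simp [w1]

theorem weight_w2 (m : Fin 4 →₀ ℕ) : Finsupp.weight w2 m = m 2 + m 3 := by
  rw [Finsupp.weight_apply, Finsupp.sum_fintype _ _ (fun i => zero_smul ℕ (w2 i)), Fin.sum_univ_four]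
  simp [w2]

theorem eq_dd_of_weights (m : Fin 4 →₀ ℕ) (h1 : m 0 + m 1 = 3) (h2 : m 2 + m 3 = 3) :
    m = dd ⟨m 0, by omega⟩ ⟨m 2, by omega⟩ := by
  ext l
  fin_cases l
  · rfl
  · show m 1 = 3 - m 0; omega
  · rfl
  · show m 3 = 3 - m 2; omega

theorem isWH_Ψ (a : Fin 4 → Fin 4 → k) :
    (Ψ a).IsWeightedHomogeneous w1 3 ∧ (Ψ a).IsWeightedHomogeneous w2 3 := by
  constructor
  · rw [← mem_weightedHomogeneousSubmodule]
    apply Submodule.sum_mem _ fun i _ => Submodule.sum_mem _ fun j _ => ?_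
    rw [mem_weightedHomogeneousSubmodule]
    rw [mon, C_mul_monomial]
    apply isWeightedHomogeneous_monomial
    rw [weight_w1, dd_0, dd_1]; omega
  · rw [← mem_weightedHomogeneousSubmodule]
    apply Submodule.sum_mem _ fun i _ => Submodule.sum_mem _ fun j _ => ?_
    rw [mem_weightedHomogeneousSubmodule]
    rw [mon, C_mul_monomial]
    apply isWeightedHomogeneous_monomial
    rw [weight_w2, dd_2, dd_3]; omega

theorem exists_eq_Ψ (f : MvPolynomial (Fin 4) k) (h1 : f.IsWeightedHomogeneous w1 3)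
    (h2 : f.IsWeightedHomogeneous w2 3) : ∃ a : Fin 4 → Fin 4 → k, f = Ψ a := by
  classical
  refine ⟨fun i j => coeff (dd i j) f, ?_⟩
  ext m
  by_cases hm : coeff m f = 0
  · rw [hm]
    symm
    simp only [Ψ, coeff_sum, coeff_C_mul, mon, coeff_monomial]
    apply Finset.sum_eq_zero
    intro i _
    apply Finset.sum_eq_zero
    intro j _
    split_ifs with h
    · rw [h, hm, zero_mul]
    · rw [mul_zero]
  · have e1 := h1 hm
    have e2 := h2 hm
    rw [weight_w1] at e1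
    rw [weight_w2] at e2
    have := eq_dd_of_weights m e1 e2
    rw [this, coeff_Ψ]


section Maps

open Groth.Agent.Lib.Helper24Bezout

theorem iota_mon (i j : Fin 4) :
    rename (![2, 3, 0, 1] : Fin 4 → Fin 4) (mon i j : MvPolynomial (Fin 4) k) = mon j i := by
  rw [mon_eq, mon_eq]
  simp only [map_mul, map_pow, rename_X]
  simp only [Matrix.cons_val_zero, Matrix.cons_val_one, Matrix.cons_val]
  ring

theorem iota_Ψ (a : Fin 4 → Fin 4 → k) :
    rename (![2, 3, 0, 1] : Fin 4 → Fin 4) (Ψ a) = Ψ (fun i j => a j i) := by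
  simp only [Ψ, map_sum, map_mul, rename_C, iota_mon]
  rw [Finset.sum_comm]

theorem isHomogeneous_Ψ (a : Fin 4 → Fin 4 → k) : (Ψ a).IsHomogeneous 6 := by
  apply IsHomogeneous.sum
  intro i _
  apply IsHomogeneous.sum
  intro j _
  rw [mon, C_mul_monomial]
  apply isHomogeneous_monomial
  rw [Finsupp.degree_eq_sum, Fin.sum_univ_four, dd_0, dd_1, dd_2, dd_3]
  omega

/-- the polynomial cutting out the three doubled diagonal points -/
noncomputable def T : MvPolynomial (Fin 2) k := (X 0 * X 1 * (X 0 - X 1)) ^ 2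

theorem isHomogeneous_T : (T : MvPolynomial (Fin 2) k).IsHomogeneous 6 := by
  have h3 : (X 0 * X 1 * (X 0 - X 1) : MvPolynomial (Fin 2) k).IsHomogeneous 3 := by
    have h01 : (X 0 - X 1 : MvPolynomial (Fin 2) k).IsHomogeneous 1 := by
      rw [← mem_homogeneousSubmodule]
      exact Submodule.sub_mem _ (isHomogeneous_X k 0) (isHomogeneous_X k 1)
    exact ((isHomogeneous_X k 0).mul (isHomogeneous_X k 1)).mul h01
  exact h3.pow 2

theorem exists_eq_C_mul_T (a : Fin 4 → Fin 4 → k)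
    (h : (T : MvPolynomial (Fin 2) k) ∣ rename (![0, 1, 0, 1] : Fin 4 → Fin 2) (Ψ a)) :
    ∃ c : k, rename (![0, 1, 0, 1] : Fin 4 → Fin 2) (Ψ a) = C c * T := by
  classical
  obtain ⟨q, hq⟩ := h
  have hf : (rename (![0, 1, 0, 1] : Fin 4 → Fin 2) (Ψ a)).IsHomogeneous 6 :=
    (isHomogeneous_Ψ a).rename_isHomogeneous
  have h1 := homogeneousComponent_mul_homogeneous q (isHomogeneous_T (k := k)) 0
  rw [zero_add, mul_comm q T, ← hq, homogeneousComponent_eq_self hf,
    homogeneousComponent_zero] at h1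
  exact ⟨_, h1⟩

/-- dehomogenisation of the diagonal restriction -/
theorem aeval_rename_Ψ (a : Fin 4 → Fin 4 → k) :
    aeval (![Polynomial.X, 1] : Fin 2 → Polynomial k)
        (rename (![0, 1, 0, 1] : Fin 4 → Fin 2) (Ψ a))
      = ∑ i : Fin 4, ∑ j : Fin 4, Polynomial.C (a i j) * Polynomial.X ^ ((i : ℕ) + (j : ℕ)) := by
  simp only [Ψ, map_sum, map_mul, rename_C, aeval_C, mon_eq, map_pow, rename_X, aeval_X]
  refine Finset.sum_congr rfl fun i _ => Finset.sum_congr rfl fun j _ => ?_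
  simp only [Matrix.cons_val_zero, Matrix.cons_val_one, Matrix.cons_val, one_pow, mul_one]
  rw [← pow_add, Polynomial.algebraMap_eq]

theorem aeval_T : aeval (![Polynomial.X, 1] : Fin 2 → Polynomial k) (T : MvPolynomial (Fin 2) k)
    = Polynomial.X ^ 4 - 2 * Polynomial.X ^ 3 + Polynomial.X ^ 2 := by
  simp only [T, map_pow, map_mul, map_sub, aeval_X]
  simp only [Matrix.cons_val_zero, Matrix.cons_val_one, Matrix.cons_val]
  ring

/-- the seven linear conditions expressing divisibility by `T` on the diagonal -/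
theorem conditions_of_dvd (a : Fin 4 → Fin 4 → k)
    (h : (T : MvPolynomial (Fin 2) k) ∣ rename (![0, 1, 0, 1] : Fin 4 → Fin 2) (Ψ a)) :
    ∃ c : k, a 0 0 = 0 ∧ a 0 1 + a 1 0 = 0 ∧ a 0 2 + a 1 1 + a 2 0 = c ∧
      a 0 3 + a 1 2 + a 2 1 + a 3 0 = -2 * c ∧ a 1 3 + a 2 2 + a 3 1 = c ∧
      a 2 3 + a 3 2 = 0 ∧ a 3 3 = 0 := by
  obtain ⟨c, hc⟩ := exists_eq_C_mul_T a h
  have h1 := congrArg (aeval (![Polynomial.X, 1] : Fin 2 → Polynomial k)) hc
  rw [aeval_rename_Ψ, map_mul, aeval_C, aeval_T, Polynomial.algebraMap_eq] at h1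
  simp only [Fin.sum_univ_four] at h1
  refine ⟨c, ?_, ?_, ?_, ?_, ?_, ?_, ?_⟩
  · have := congrArg (fun p => Polynomial.coeff p 0) h1
    simpa [Polynomial.coeff_X_pow, Polynomial.coeff_C_mul] using this
  · have := congrArg (fun p => Polynomial.coeff p 1) h1
    simpa [Polynomial.coeff_X_pow, Polynomial.coeff_C_mul] using this
  · have := congrArg (fun p => Polynomial.coeff p 2) h1
    simpa [Polynomial.coeff_X_pow, Polynomial.coeff_C_mul] using this
  · have := congrArg (fun p => Polynomial.coeff p 3) h1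
    rw [mul_comm (-2 : k) c]
    simpa [Polynomial.coeff_X_pow, Polynomial.coeff_C_mul] using this
  · have := congrArg (fun p => Polynomial.coeff p 4) h1
    simpa [Polynomial.coeff_X_pow, Polynomial.coeff_C_mul] using this
  · have := congrArg (fun p => Polynomial.coeff p 5) h1
    simpa [Polynomial.coeff_X_pow, Polynomial.coeff_C_mul] using this
  · have := congrArg (fun p => Polynomial.coeff p 6) h1
    simpa [Polynomial.coeff_X_pow, Polynomial.coeff_C_mul] using this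

end Maps


section Forms

variable (k)

/-- `Ψ` as a linear map -/
noncomputable def ΨL : (Fin 4 → Fin 4 → k) →ₗ[k] MvPolynomial (Fin 4) k where
  toFun := Ψ
  map_add' a b := by
    simp only [Ψ, Pi.add_apply, map_add, add_mul, Finset.sum_add_distrib]
  map_smul' r a := by
    simp only [Ψ, Pi.smul_apply, smul_eq_mul, map_mul, RingHom.id_apply, Finset.smul_sum,
      smul_eq_C_mul, mul_assoc]

theorem ΨL_apply (a : Fin 4 → Fin 4 → k) : ΨL k a = Ψ a := rfl

theorem ker_ΨL : LinearMap.ker (ΨL k) = ⊥ := by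
  rw [LinearMap.ker_eq_bot]
  intro a b h
  exact Ψ_injective h

noncomputable def l : MvPolynomial (Fin 4) k := X 0 * X 3 - X 1 * X 2
noncomputable def h1 : MvPolynomial (Fin 4) k := X 0 * (X 3 - X 2) + X 2 * (X 1 - X 0)
noncomputable def h2 : MvPolynomial (Fin 4) k := X 1 * (X 2 - X 3) + X 3 * (X 0 - X 1)
noncomputable def h3 : MvPolynomial (Fin 4) k := X 0 * X 3 + X 1 * X 2
noncomputable def hh : MvPolynomial (Fin 4) k := h1 k + h2 k + h3 k
noncomputable def h13 : MvPolynomial (Fin 4) k := h1 k - h3 k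
noncomputable def h23 : MvPolynomial (Fin 4) k := h2 k - h3 k
noncomputable def cc : MvPolynomial (Fin 4) k := X 0 * X 1 * (X 0 - X 1) * (X 2 * X 3 * (X 2 - X 3))

def M0 : Fin 4 → Fin 4 → k := ![![0, 0, 0, 0], ![0, 1, -1, 0], ![0, -1, 1, 0], ![0, 0, 0, 0]]
def M1 : Fin 4 → Fin 4 → k := ![![0, 0, -2, 3], ![0, 4, -3, -2], ![-2, -3, 4, 0], ![3, -2, 0, 0]]
def M2 : Fin 4 → Fin 4 → k := ![![0, 0, 0, 0], ![0, 0, 0, -2], ![0, 0, 4, 0], ![0, -2, 0, 0]]
def M3 : Fin 4 → Fin 4 → k := ![![0, 0, -2, 0], ![0, 4, 0, 0], ![-2, 0, 0, 0], ![0, 0, 0, 0]]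
def M4 : Fin 4 → Fin 4 → k :=
  ![![0, -4, 12, -9], ![4, 0, -17, 12], ![-12, 17, 0, -4], ![9, -12, 4, 0]]
def M5 : Fin 4 → Fin 4 → k := ![![0, 0, 0, 0], ![0, 0, -4, 6], ![0, 4, 0, -4], ![0, -6, 4, 0]]
def M6 : Fin 4 → Fin 4 → k := ![![0, -4, 6, 0], ![4, 0, -4, 0], ![-6, 4, 0, 0], ![0, 0, 0, 0]]
def M7 : Fin 4 → Fin 4 → k := ![![0, 0, 0, 0], ![0, 0, 0, 0], ![0, 0, 0, -4], ![0, 0, 4, 0]]
def M8 : Fin 4 → Fin 4 → k := ![![0, -4, 0, 0], ![4, 0, 0, 0], ![0, 0, 0, 0], ![0, 0, 0, 0]]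
def M9 : Fin 4 → Fin 4 → k := ![![0, 0, 0, 0], ![0, 0, -4, 0], ![0, 4, 0, 0], ![0, 0, 0, 0]]

theorem Ψ_expand (a : Fin 4 → Fin 4 → k) : Ψ a =
    C (a 0 0) * (X 1 ^ 3 * X 3 ^ 3) + C (a 0 1) * (X 1 ^ 3 * X 2 * X 3 ^ 2)
    + C (a 0 2) * (X 1 ^ 3 * X 2 ^ 2 * X 3) + C (a 0 3) * (X 1 ^ 3 * X 2 ^ 3)
    + C (a 1 0) * (X 0 * X 1 ^ 2 * X 3 ^ 3) + C (a 1 1) * (X 0 * X 1 ^ 2 * X 2 * X 3 ^ 2)
    + C (a 1 2) * (X 0 * X 1 ^ 2 * X 2 ^ 2 * X 3) + C (a 1 3) * (X 0 * X 1 ^ 2 * X 2 ^ 3)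
    + C (a 2 0) * (X 0 ^ 2 * X 1 * X 3 ^ 3) + C (a 2 1) * (X 0 ^ 2 * X 1 * X 2 * X 3 ^ 2)
    + C (a 2 2) * (X 0 ^ 2 * X 1 * X 2 ^ 2 * X 3) + C (a 2 3) * (X 0 ^ 2 * X 1 * X 2 ^ 3)
    + C (a 3 0) * (X 0 ^ 3 * X 3 ^ 3) + C (a 3 1) * (X 0 ^ 3 * X 2 * X 3 ^ 2)
    + C (a 3 2) * (X 0 ^ 3 * X 2 ^ 2 * X 3) + C (a 3 3) * (X 0 ^ 3 * X 2 ^ 3) := by
  simp only [Ψ, Fin.sum_univ_four, mon_eq]
  have e0 : ((0 : Fin 4) : ℕ) = 0 := rfl
  have e1 : ((1 : Fin 4) : ℕ) = 1 := rfl
  have e2 : ((2 : Fin 4) : ℕ) = 2 := rfl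
  have e3 : ((3 : Fin 4) : ℕ) = 3 := rfl
  simp only [e0, e1, e2, e3, Nat.sub_zero, Nat.sub_self, pow_zero, pow_one, mul_one, one_mul,
    Nat.reduceSub]
  ring

theorem cc_eq : cc k = Ψ (M0 k) := by
  rw [Ψ_expand]
  simp only [M0, cc, Matrix.cons_val_zero, Matrix.cons_val_one, Matrix.cons_val]
  simp only [map_zero, map_one, map_neg, zero_mul, add_zero, zero_add]
  ring

theorem l2h_eq : l k ^ 2 * hh k = Ψ (M1 k) := by
  rw [Ψ_expand]
  simp only [M1, l, hh, h13, h23, h1, h2, h3, Matrix.cons_val_zero, Matrix.cons_val_one,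
    Matrix.cons_val]
  simp only [map_zero, map_one, map_neg, map_ofNat, zero_mul, add_zero, zero_add]
  ring

theorem l2h13_eq : l k ^ 2 * h13 k = Ψ (M2 k) := by
  rw [Ψ_expand]
  simp only [M2, l, hh, h13, h23, h1, h2, h3, Matrix.cons_val_zero, Matrix.cons_val_one,
    Matrix.cons_val]
  simp only [map_zero, map_one, map_neg, map_ofNat, zero_mul, add_zero, zero_add]
  ring

theorem l2h23_eq : l k ^ 2 * h23 k = Ψ (M3 k) := by
  rw [Ψ_expand]
  simp only [M3, l, hh, h13, h23, h1, h2, h3, Matrix.cons_val_zero, Matrix.cons_val_one,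
    Matrix.cons_val]
  simp only [map_zero, map_one, map_neg, map_ofNat, zero_mul, add_zero, zero_add]
  ring

theorem lh2_eq : l k * hh k ^ 2 = Ψ (M4 k) := by
  rw [Ψ_expand]
  simp only [M4, l, hh, h13, h23, h1, h2, h3, Matrix.cons_val_zero, Matrix.cons_val_one,
    Matrix.cons_val]
  simp only [map_zero, map_one, map_neg, map_ofNat, zero_mul, add_zero, zero_add]
  ring

theorem lhh13_eq : l k * hh k * h13 k = Ψ (M5 k) := by
  rw [Ψ_expand]
  simp only [M5, l, hh, h13, h23, h1, h2, h3, Matrix.cons_val_zero, Matrix.cons_val_one,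
    Matrix.cons_val]
  simp only [map_zero, map_one, map_neg, map_ofNat, zero_mul, add_zero, zero_add]
  ring

theorem lhh23_eq : l k * hh k * h23 k = Ψ (M6 k) := by
  rw [Ψ_expand]
  simp only [M6, l, hh, h13, h23, h1, h2, h3, Matrix.cons_val_zero, Matrix.cons_val_one,
    Matrix.cons_val]
  simp only [map_zero, map_one, map_neg, map_ofNat, zero_mul, add_zero, zero_add]
  ring

theorem lh13sq_eq : l k * h13 k ^ 2 = Ψ (M7 k) := by
  rw [Ψ_expand]
  simp only [M7, l, hh, h13, h23, h1, h2, h3, Matrix.cons_val_zero, Matrix.cons_val_one,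
    Matrix.cons_val]
  simp only [map_zero, map_one, map_neg, map_ofNat, zero_mul, add_zero, zero_add]
  ring

theorem lh23sq_eq : l k * h23 k ^ 2 = Ψ (M8 k) := by
  rw [Ψ_expand]
  simp only [M8, l, hh, h13, h23, h1, h2, h3, Matrix.cons_val_zero, Matrix.cons_val_one,
    Matrix.cons_val]
  simp only [map_zero, map_one, map_neg, map_ofNat, zero_mul, add_zero, zero_add]
  ring

theorem lh13h23_eq : l k * h13 k * h23 k = Ψ (M9 k) := by
  rw [Ψ_expand]
  simp only [M9, l, hh, h13, h23, h1, h2, h3, Matrix.cons_val_zero, Matrix.cons_val_one,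
    Matrix.cons_val]
  simp only [map_zero, map_one, map_neg, map_ofNat, zero_mul, add_zero, zero_add]
  ring

end Forms


section Main

variable (k) [CharZero k]

theorem iota_l : rename (![2, 3, 0, 1] : Fin 4 → Fin 4) (l k) = - l k := by
  simp only [l, map_sub, map_mul, rename_X, Matrix.cons_val_zero, Matrix.cons_val_one,
    Matrix.cons_val]
  ring

theorem iota_hh : rename (![2, 3, 0, 1] : Fin 4 → Fin 4) (hh k) = hh k := by
  simp only [hh, h1, h2, h3, map_sub, map_add, map_mul, rename_X, Matrix.cons_val_zero,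
    Matrix.cons_val_one, Matrix.cons_val]
  ring

theorem iota_h13 : rename (![2, 3, 0, 1] : Fin 4 → Fin 4) (h13 k) = h13 k := by
  simp only [h13, h1, h3, map_sub, map_add, map_mul, rename_X, Matrix.cons_val_zero,
    Matrix.cons_val_one, Matrix.cons_val]
  ring

theorem iota_h23 : rename (![2, 3, 0, 1] : Fin 4 → Fin 4) (h23 k) = h23 k := by
  simp only [h23, h2, h3, map_sub, map_add, map_mul, rename_X, Matrix.cons_val_zero,
    Matrix.cons_val_one, Matrix.cons_val]
  ring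

theorem iota_cc : rename (![2, 3, 0, 1] : Fin 4 → Fin 4) (cc k) = cc k := by
  simp only [cc, map_sub, map_mul, rename_X, Matrix.cons_val_zero, Matrix.cons_val_one,
    Matrix.cons_val]
  ring

theorem delta_l : rename (![0, 1, 0, 1] : Fin 4 → Fin 2) (l k) = 0 := by
  simp only [l, map_sub, map_mul, rename_X, Matrix.cons_val_zero, Matrix.cons_val_one,
    Matrix.cons_val]
  ring

theorem delta_cc : rename (![0, 1, 0, 1] : Fin 4 → Fin 2) (cc k) = T := by
  simp only [cc, T, map_sub, map_mul, rename_X, Matrix.cons_val_zero, Matrix.cons_val_one,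
    Matrix.cons_val]
  ring

variable (I : Submodule k (MvPolynomial (Fin 4) k))
  (hI : ∀ f, f ∈ I ↔
      (f.IsWeightedHomogeneous (![1, 1, 0, 0] : Fin 4 → ℕ) 3 ∧
       f.IsWeightedHomogeneous (![0, 0, 1, 1] : Fin 4 → ℕ) 3 ∧
       (X 0 * X 1 * (X 0 - X 1)) ^ 2 ∣ rename (![0, 1, 0, 1] : Fin 4 → Fin 2) f))

include hI in
theorem Ψ_mem_I (a : Fin 4 → Fin 4 → k)
    (h : (T : MvPolynomial (Fin 2) k) ∣ rename (![0, 1, 0, 1] : Fin 4 → Fin 2) (Ψ a)) :
    Ψ a ∈ I :=
  (hI _).mpr ⟨(isWH_Ψ a).1, (isWH_Ψ a).2, h⟩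

include hI in
theorem l_mul_mem_I (a : Fin 4 → Fin 4 → k) (g : MvPolynomial (Fin 4) k) (h : l k * g = Ψ a) :
    l k * g ∈ I := by
  rw [h]
  apply Ψ_mem_I k I hI
  rw [← h, map_mul, delta_l, zero_mul]
  exact dvd_zero _

include hI in
theorem invariant_iff (f : MvPolynomial (Fin 4) k) :
    (f ∈ I ∧ rename (![2, 3, 0, 1] : Fin 4 → Fin 4) f = f) ↔
      f ∈ Submodule.span k ({cc k, l k ^ 2 * hh k, l k ^ 2 * h13 k, l k ^ 2 * h23 k} :
        Set (MvPolynomial (Fin 4) k)) := by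
  constructor
  · rintro ⟨hfI, hinv⟩
    obtain ⟨hw1, hw2, hdvd⟩ := (hI f).mp hfI
    obtain ⟨a, rfl⟩ := exists_eq_Ψ f hw1 hw2
    rw [iota_Ψ] at hinv
    have hsym : ∀ i j, a j i = a i j := fun i j => congr_fun (congr_fun (Ψ_injective hinv) i) j
    obtain ⟨c, c0, c1, c2, c3, c4, c5, c6⟩ := conditions_of_dvd a hdvd
    obtain ⟨α, hα⟩ : ∃ α : k, α = a 0 3 / 3 := ⟨_, rfl⟩
    obtain ⟨β, hβ⟩ : ∃ β : k, β = -a 1 3 / 2 - α := ⟨_, rfl⟩
    obtain ⟨γ, hγ⟩ : ∃ γ : k, γ = -a 0 2 / 2 - α := ⟨_, rfl⟩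
    have ha : a = c • M0 k + α • M1 k + β • M2 k + γ • M3 k := by
      funext i j
      fin_cases i <;> fin_cases j <;>
        simp only [Pi.add_apply, Pi.smul_apply, M0, M1, M2, M3, Matrix.cons_val_zero,
          Matrix.cons_val_one, Matrix.cons_val, smul_eq_mul, Fin.zero_eta, Fin.mk_one,
          Fin.reduceFinMk]
      · linear_combination (1 : k) * c0
      · linear_combination (-1/2 : k) * hsym 0 1 + (1/2 : k) * c1
      · linear_combination (2 : k) * hγ
      · linear_combination (-3 : k) * hα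
      · linear_combination (1/2 : k) * hsym 0 1 + (1/2 : k) * c1
      · linear_combination (-1 : k) * hsym 0 2 + (1 : k) * c2 + (-4 : k) * hγ
      · linear_combination (-1/2 : k) * hsym 0 3 + (-1/2 : k) * hsym 1 2 + (1/2 : k) * c3 + (3 : k) * hα
      · linear_combination (2 : k) * hβ
      · linear_combination (1 : k) * hsym 0 2 + (2 : k) * hγ
      · linear_combination (-1/2 : k) * hsym 0 3 + (1/2 : k) * hsym 1 2 + (1/2 : k) * c3 + (3 : k) * hα
      · linear_combination (-1 : k) * hsym 1 3 + (1 : k) * c4 + (-4 : k) * hβ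
      · linear_combination (-1/2 : k) * hsym 2 3 + (1/2 : k) * c5
      · linear_combination (1 : k) * hsym 0 3 + (-3 : k) * hα
      · linear_combination (1 : k) * hsym 1 3 + (2 : k) * hβ
      · linear_combination (1/2 : k) * hsym 2 3 + (1/2 : k) * c5
      · linear_combination (1 : k) * c6
    have hΨ : Ψ a = c • cc k + α • (l k ^ 2 * hh k) + β • (l k ^ 2 * h13 k)
        + γ • (l k ^ 2 * h23 k) := by
      rw [ha, ← ΨL_apply, map_add, map_add, map_add, map_smul, map_smul, map_smul, map_smul,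
        ΨL_apply, ΨL_apply, ΨL_apply, ΨL_apply, ← cc_eq, ← l2h_eq, ← l2h13_eq, ← l2h23_eq]
    rw [hΨ]
    refine Submodule.add_mem _ (Submodule.add_mem _ (Submodule.add_mem _ ?_ ?_) ?_) ?_ <;>
      exact Submodule.smul_mem _ _ (Submodule.subset_span (by simp))
  · intro hf
    induction hf using Submodule.span_induction with
    | mem x hx =>
      rcases hx with rfl | rfl | rfl | rfl
      · refine ⟨?_, iota_cc k⟩
        rw [cc_eq]
        apply Ψ_mem_I k I hI
        rw [← cc_eq, delta_cc]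
      · refine ⟨?_, by rw [map_mul, map_pow, iota_l, iota_hh]; ring⟩
        rw [pow_two, mul_assoc]
        exact l_mul_mem_I k I hI (M1 k) _ (by rw [← l2h_eq]; ring)
      · refine ⟨?_, by rw [map_mul, map_pow, iota_l, iota_h13]; ring⟩
        rw [pow_two, mul_assoc]
        exact l_mul_mem_I k I hI (M2 k) _ (by rw [← l2h13_eq]; ring)
      · refine ⟨?_, by rw [map_mul, map_pow, iota_l, iota_h23]; ring⟩
        rw [pow_two, mul_assoc]
        exact l_mul_mem_I k I hI (M3 k) _ (by rw [← l2h23_eq]; ring)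
    | zero => exact ⟨I.zero_mem, map_zero _⟩
    | add x y _ _ hx hy => exact ⟨I.add_mem hx.1 hy.1, by rw [map_add, hx.2, hy.2]⟩
    | smul r x _ hx => exact ⟨I.smul_mem r hx.1, by rw [map_smul, hx.2]⟩

include hI in
theorem antiinvariant_iff (f : MvPolynomial (Fin 4) k) :
    (f ∈ I ∧ rename (![2, 3, 0, 1] : Fin 4 → Fin 4) f = -f) ↔
      f ∈ Submodule.span k ({l k * hh k ^ 2, l k * hh k * h13 k, l k * hh k * h23 k,
        l k * h13 k ^ 2, l k * h23 k ^ 2, l k * h13 k * h23 k} :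
          Set (MvPolynomial (Fin 4) k)) := by
  constructor
  · rintro ⟨hfI, hinv⟩
    obtain ⟨hw1, hw2, -⟩ := (hI f).mp hfI
    obtain ⟨a, rfl⟩ := exists_eq_Ψ f hw1 hw2
    rw [iota_Ψ] at hinv
    have hneg : -Ψ a = Ψ (fun i j => -a i j) := by
      rw [← ΨL_apply, ← ΨL_apply, ← map_neg]; rfl
    rw [hneg] at hinv
    have hanti : ∀ i j, a j i = -a i j :=
      fun i j => congr_fun (congr_fun (Ψ_injective hinv) i) j
    obtain ⟨t4, h4⟩ : ∃ t4 : k, t4 = -a 0 3 / 9 := ⟨_, rfl⟩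
    obtain ⟨t5, h5⟩ : ∃ t5 : k, t5 = (a 1 3 - 12 * t4) / 6 := ⟨_, rfl⟩
    obtain ⟨t6, h6⟩ : ∃ t6 : k, t6 = (a 0 2 - 12 * t4) / 6 := ⟨_, rfl⟩
    obtain ⟨t7, h7⟩ : ∃ t7 : k, t7 = -a 2 3 / 4 - t4 - t5 := ⟨_, rfl⟩
    obtain ⟨t8, h8⟩ : ∃ t8 : k, t8 = -a 0 1 / 4 - t4 - t6 := ⟨_, rfl⟩
    obtain ⟨t9, h9⟩ : ∃ t9 : k, t9 = (-a 1 2 - 17 * t4 - 4 * t5 - 4 * t6) / 4 := ⟨_, rfl⟩
    have ha : a = t4 • M4 k + t5 • M5 k + t6 • M6 k + t7 • M7 k + t8 • M8 k + t9 • M9 k := by
      funext i j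
      fin_cases i <;> fin_cases j <;>
        simp only [Pi.add_apply, Pi.smul_apply, M4, M5, M6, M7, M8, M9, Matrix.cons_val_zero,
          Matrix.cons_val_one, Matrix.cons_val, smul_eq_mul, Fin.zero_eta, Fin.mk_one,
          Fin.reduceFinMk]
      · linear_combination (1/2 : k) * hanti 0 0
      · linear_combination (4 : k) * h8
      · linear_combination (-6 : k) * h6
      · linear_combination (9 : k) * h4
      · linear_combination (1 : k) * hanti 0 1 + (-4 : k) * h8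
      · linear_combination (1/2 : k) * hanti 1 1
      · linear_combination (4 : k) * h9
      · linear_combination (-6 : k) * h5
      · linear_combination (1 : k) * hanti 0 2 + (6 : k) * h6
      · linear_combination (1 : k) * hanti 1 2 + (-4 : k) * h9
      · linear_combination (1/2 : k) * hanti 2 2
      · linear_combination (4 : k) * h7
      · linear_combination (1 : k) * hanti 0 3 + (-9 : k) * h4
      · linear_combination (1 : k) * hanti 1 3 + (6 : k) * h5
      · linear_combination (1 : k) * hanti 2 3 + (-4 : k) * h7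
      · linear_combination (1/2 : k) * hanti 3 3
    have hΨ : Ψ a = t4 • (l k * hh k ^ 2) + t5 • (l k * hh k * h13 k)
        + t6 • (l k * hh k * h23 k) + t7 • (l k * h13 k ^ 2) + t8 • (l k * h23 k ^ 2)
        + t9 • (l k * h13 k * h23 k) := by
      rw [ha, ← ΨL_apply]
      simp only [map_add, map_smul, ΨL_apply]
      rw [← lh2_eq, ← lhh13_eq, ← lhh23_eq, ← lh13sq_eq, ← lh23sq_eq, ← lh13h23_eq]
    rw [hΨ]
    refine Submodule.add_mem _ (Submodule.add_mem _ (Submodule.add_mem _ (Submodule.add_mem _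
      (Submodule.add_mem _ ?_ ?_) ?_) ?_) ?_) ?_ <;>
      exact Submodule.smul_mem _ _ (Submodule.subset_span (by simp))
  · intro hf
    induction hf using Submodule.span_induction with
    | mem x hx =>
      rcases hx with rfl | rfl | rfl | rfl | rfl | rfl
      · refine ⟨?_, by rw [map_mul, map_pow, iota_l, iota_hh]; ring⟩
        exact l_mul_mem_I k I hI (M4 k) _ (lh2_eq k)
      · refine ⟨?_, by rw [map_mul, map_mul, iota_l, iota_hh, iota_h13]; ring⟩
        rw [mul_assoc]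
        exact l_mul_mem_I k I hI (M5 k) _ (by rw [← lhh13_eq]; ring)
      · refine ⟨?_, by rw [map_mul, map_mul, iota_l, iota_hh, iota_h23]; ring⟩
        rw [mul_assoc]
        exact l_mul_mem_I k I hI (M6 k) _ (by rw [← lhh23_eq]; ring)
      · refine ⟨?_, by rw [map_mul, map_pow, iota_l, iota_h13]; ring⟩
        exact l_mul_mem_I k I hI (M7 k) _ (lh13sq_eq k)
      · refine ⟨?_, by rw [map_mul, map_pow, iota_l, iota_h23]; ring⟩
        exact l_mul_mem_I k I hI (M8 k) _ (lh23sq_eq k)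
      · refine ⟨?_, by rw [map_mul, map_mul, iota_l, iota_h13, iota_h23]; ring⟩
        rw [mul_assoc]
        exact l_mul_mem_I k I hI (M9 k) _ (by rw [← lh13h23_eq]; ring)
    | zero => exact ⟨I.zero_mem, by rw [map_zero, neg_zero]⟩
    | add x y _ _ hx hy => exact ⟨I.add_mem hx.1 hy.1, by rw [map_add, hx.2, hy.2, neg_add]⟩
    | smul r x _ hx => exact ⟨I.smul_mem r hx.1, by rw [map_smul, hx.2, smul_neg]⟩

theorem linearIndependent_ten :
    LinearIndependent k
      ![cc k, l k ^ 2 * hh k, l k ^ 2 * h13 k, l k ^ 2 * h23 k, l k * hh k ^ 2,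
        l k * hh k * h13 k, l k * hh k * h23 k, l k * h13 k ^ 2, l k * h23 k ^ 2,
        l k * h13 k * h23 k] := by
  rw [Fintype.linearIndependent_iff]
  intro t ht
  simp only [Fin.sum_univ_succ, Fin.sum_univ_zero, add_zero] at ht
  have hM : t 0 • M0 k + t 1 • M1 k + t 2 • M2 k + t 3 • M3 k + t 4 • M4 k + t 5 • M5 k
      + t 6 • M6 k + t 7 • M7 k + t 8 • M8 k + t 9 • M9 k = 0 := by
    apply Ψ_injective
    rw [← ΨL_apply, ← ΨL_apply, map_zero]
    simp only [map_add, map_smul, ΨL_apply]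
    rw [← cc_eq, ← l2h_eq, ← l2h13_eq, ← l2h23_eq, ← lh2_eq, ← lhh13_eq, ← lhh23_eq, ← lh13sq_eq,
      ← lh23sq_eq, ← lh13h23_eq]
    simpa [add_assoc] using ht
  have E01 : (-4 : k) * t 4 + (-4 : k) * t 6 + (-4 : k) * t 8 = 0 := by
    have h := congr_fun (congr_fun hM 0) 1
    simp only [Pi.add_apply, Pi.smul_apply, Pi.zero_apply, M0, M1, M2, M3, M4, M5, M6, M7, M8, M9,
      Matrix.cons_val_zero, Matrix.cons_val_one, Matrix.cons_val, smul_eq_mul] at h
    linear_combination h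
  have E02 : (-2 : k) * t 1 + (-2 : k) * t 3 + (12 : k) * t 4 + (6 : k) * t 6 = 0 := by
    have h := congr_fun (congr_fun hM 0) 2
    simp only [Pi.add_apply, Pi.smul_apply, Pi.zero_apply, M0, M1, M2, M3, M4, M5, M6, M7, M8, M9,
      Matrix.cons_val_zero, Matrix.cons_val_one, Matrix.cons_val, smul_eq_mul] at h
    linear_combination h
  have E03 : (3 : k) * t 1 + (-9 : k) * t 4 = 0 := by
    have h := congr_fun (congr_fun hM 0) 3
    simp only [Pi.add_apply, Pi.smul_apply, Pi.zero_apply, M0, M1, M2, M3, M4, M5, M6, M7, M8, M9,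
      Matrix.cons_val_zero, Matrix.cons_val_one, Matrix.cons_val, smul_eq_mul] at h
    linear_combination h
  have E10 : (4 : k) * t 4 + (4 : k) * t 6 + (4 : k) * t 8 = 0 := by
    have h := congr_fun (congr_fun hM 1) 0
    simp only [Pi.add_apply, Pi.smul_apply, Pi.zero_apply, M0, M1, M2, M3, M4, M5, M6, M7, M8, M9,
      Matrix.cons_val_zero, Matrix.cons_val_one, Matrix.cons_val, smul_eq_mul] at h
    linear_combination h
  have E11 : (1 : k) * t 0 + (4 : k) * t 1 + (4 : k) * t 3 = 0 := by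
    have h := congr_fun (congr_fun hM 1) 1
    simp only [Pi.add_apply, Pi.smul_apply, Pi.zero_apply, M0, M1, M2, M3, M4, M5, M6, M7, M8, M9,
      Matrix.cons_val_zero, Matrix.cons_val_one, Matrix.cons_val, smul_eq_mul] at h
    linear_combination h
  have E12 : (-1 : k) * t 0 + (-3 : k) * t 1 + (-17 : k) * t 4 + (-4 : k) * t 5 + (-4 : k) * t 6 + (-4 : k) * t 9 = 0 := by
    have h := congr_fun (congr_fun hM 1) 2
    simp only [Pi.add_apply, Pi.smul_apply, Pi.zero_apply, M0, M1, M2, M3, M4, M5, M6, M7, M8, M9,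
      Matrix.cons_val_zero, Matrix.cons_val_one, Matrix.cons_val, smul_eq_mul] at h
    linear_combination h
  have E13 : (-2 : k) * t 1 + (-2 : k) * t 2 + (12 : k) * t 4 + (6 : k) * t 5 = 0 := by
    have h := congr_fun (congr_fun hM 1) 3
    simp only [Pi.add_apply, Pi.smul_apply, Pi.zero_apply, M0, M1, M2, M3, M4, M5, M6, M7, M8, M9,
      Matrix.cons_val_zero, Matrix.cons_val_one, Matrix.cons_val, smul_eq_mul] at h
    linear_combination h
  have E20 : (-2 : k) * t 1 + (-2 : k) * t 3 + (-12 : k) * t 4 + (-6 : k) * t 6 = 0 := by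
    have h := congr_fun (congr_fun hM 2) 0
    simp only [Pi.add_apply, Pi.smul_apply, Pi.zero_apply, M0, M1, M2, M3, M4, M5, M6, M7, M8, M9,
      Matrix.cons_val_zero, Matrix.cons_val_one, Matrix.cons_val, smul_eq_mul] at h
    linear_combination h
  have E21 : (-1 : k) * t 0 + (-3 : k) * t 1 + (17 : k) * t 4 + (4 : k) * t 5 + (4 : k) * t 6 + (4 : k) * t 9 = 0 := by
    have h := congr_fun (congr_fun hM 2) 1
    simp only [Pi.add_apply, Pi.smul_apply, Pi.zero_apply, M0, M1, M2, M3, M4, M5, M6, M7, M8, M9,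
      Matrix.cons_val_zero, Matrix.cons_val_one, Matrix.cons_val, smul_eq_mul] at h
    linear_combination h
  have E22 : (1 : k) * t 0 + (4 : k) * t 1 + (4 : k) * t 2 = 0 := by
    have h := congr_fun (congr_fun hM 2) 2
    simp only [Pi.add_apply, Pi.smul_apply, Pi.zero_apply, M0, M1, M2, M3, M4, M5, M6, M7, M8, M9,
      Matrix.cons_val_zero, Matrix.cons_val_one, Matrix.cons_val, smul_eq_mul] at h
    linear_combination h
  have E23 : (-4 : k) * t 4 + (-4 : k) * t 5 + (-4 : k) * t 7 = 0 := by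
    have h := congr_fun (congr_fun hM 2) 3
    simp only [Pi.add_apply, Pi.smul_apply, Pi.zero_apply, M0, M1, M2, M3, M4, M5, M6, M7, M8, M9,
      Matrix.cons_val_zero, Matrix.cons_val_one, Matrix.cons_val, smul_eq_mul] at h
    linear_combination h
  have E30 : (3 : k) * t 1 + (9 : k) * t 4 = 0 := by
    have h := congr_fun (congr_fun hM 3) 0
    simp only [Pi.add_apply, Pi.smul_apply, Pi.zero_apply, M0, M1, M2, M3, M4, M5, M6, M7, M8, M9,
      Matrix.cons_val_zero, Matrix.cons_val_one, Matrix.cons_val, smul_eq_mul] at h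
    linear_combination h
  have E31 : (-2 : k) * t 1 + (-2 : k) * t 2 + (-12 : k) * t 4 + (-6 : k) * t 5 = 0 := by
    have h := congr_fun (congr_fun hM 3) 1
    simp only [Pi.add_apply, Pi.smul_apply, Pi.zero_apply, M0, M1, M2, M3, M4, M5, M6, M7, M8, M9,
      Matrix.cons_val_zero, Matrix.cons_val_one, Matrix.cons_val, smul_eq_mul] at h
    linear_combination h
  have E32 : (4 : k) * t 4 + (4 : k) * t 5 + (4 : k) * t 7 = 0 := by
    have h := congr_fun (congr_fun hM 3) 2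
    simp only [Pi.add_apply, Pi.smul_apply, Pi.zero_apply, M0, M1, M2, M3, M4, M5, M6, M7, M8, M9,
      Matrix.cons_val_zero, Matrix.cons_val_one, Matrix.cons_val, smul_eq_mul] at h
    linear_combination h
  intro i
  fin_cases i
  · show t 0 = 0
    linear_combination (1 : k) * E02 + (1 : k) * E11 + (1 : k) * E20
  · show t 1 = 0
    linear_combination (-1/3 : k) * E02 + (-1/3 : k) * E11 + (-1/6 : k) * E12 + (-1/3 : k) * E20 + (-1/6 : k) * E21
  · show t 2 = 0
    linear_combination (1/12 : k) * E02 + (1/12 : k) * E11 + (1/6 : k) * E12 + (1/12 : k) * E20 + (1/6 : k) * E21 + (1/4 : k) * E22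
  · show t 3 = 0
    linear_combination (1/12 : k) * E02 + (1/3 : k) * E11 + (1/6 : k) * E12 + (1/12 : k) * E20 + (1/6 : k) * E21
  · show t 4 = 0
    linear_combination (-1/9 : k) * E02 + (-1/9 : k) * E03 + (-1/9 : k) * E11 + (-1/18 : k) * E12 + (-1/9 : k) * E20 + (-1/18 : k) * E21
  · show t 5 = 0
    linear_combination (5/36 : k) * E02 + (2/9 : k) * E03 + (5/36 : k) * E11 + (1/9 : k) * E12 + (1/6 : k) * E13 + (5/36 : k) * E20 + (1/9 : k) * E21 + (1/12 : k) * E22
  · show t 6 = 0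
    linear_combination (11/36 : k) * E02 + (2/9 : k) * E03 + (2/9 : k) * E11 + (1/9 : k) * E12 + (5/36 : k) * E20 + (1/9 : k) * E21
  · show t 7 = 0
    linear_combination (-1/36 : k) * E02 + (-1/9 : k) * E03 + (-1/36 : k) * E11 + (-1/18 : k) * E12 + (-1/6 : k) * E13 + (-1/36 : k) * E20 + (-1/18 : k) * E21 + (-1/12 : k) * E22 + (-1/4 : k) * E23
  · show t 8 = 0
    linear_combination (-1/4 : k) * E01 + (-7/36 : k) * E02 + (-1/9 : k) * E03 + (-1/9 : k) * E11 + (-1/18 : k) * E12 + (-1/36 : k) * E20 + (-1/18 : k) * E21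
  · show t 9 = 0
    linear_combination (1/36 : k) * E02 + (1/36 : k) * E03 + (1/9 : k) * E11 + (-1/9 : k) * E12 + (-1/6 : k) * E13 + (7/36 : k) * E20 + (5/36 : k) * E21 + (-1/12 : k) * E22

end Main

end Groth.Agent.Lib.Helper24QuadDiag
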