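import Groth.Prelude.Def_HopfRep
import Groth.Prelude.Def_Hoch
import Mathlib.LinearAlgebra.TensorProduct.Basis
import Mathlib.LinearAlgebra.FreeModule.Basic
import Mathlib.RingTheory.Flat.Basic

/-!
# Comodule toolkit (helper25)

Slice operators `T φ`, the characterisation of subcomodules as subspaces stable under all `T φ`
(for `A` free over `k`), lattice operations, generated subcomodules and local finiteness,
sub- and quotient comodule structures, comodule maps.
-/

set_option autoImplicit false
universe u v w w'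

namespace Groth.Agent.Lib.Helper25

open TensorProduct HopfRep

section Slice

variable {k : Type u} [CommRing k] {A : Type v} [AddCommGroup A] [Module k A]
variable (V : Type w) [AddCommGroup V] [Module k V]

/-- The slice map `V ⊗ A → V`, `v ⊗ a ↦ φ a • v`. -/
noncomputable def slice (φ : A →ₗ[k] k) : V ⊗[k] A →ₗ[k] V :=
  (TensorProduct.rid k V).toLinearMap ∘ₗ LinearMap.lTensor V φ

@[simp] theorem slice_tmul (φ : A →ₗ[k] k) (v : V) (a : A) :
    slice V φ (v ⊗ₜ[k] a) = φ a • v := by
  simp [slice]

theorem slice_add (φ ψ : A →ₗ[k] k) (x : V ⊗[k] A) :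
    slice V (φ + ψ) x = slice V φ x + slice V ψ x := by
  simp [slice, LinearMap.lTensor_add]

theorem slice_smul (c : k) (φ : A →ₗ[k] k) (x : V ⊗[k] A) :
    slice V (c • φ) x = c • slice V φ x := by
  simp [slice, LinearMap.lTensor_smul]

/-- `slice` as a linear map in the functional. -/
noncomputable def sliceL (x : V ⊗[k] A) : (A →ₗ[k] k) →ₗ[k] V where
  toFun φ := slice V φ x
  map_add' φ ψ := slice_add V φ ψ x
  map_smul' c φ := slice_smul V c φ x

@[simp] theorem sliceL_apply (x : V ⊗[k] A) (φ : A →ₗ[k] k) : sliceL V x φ = slice V φ x := rfl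

variable {V}
variable {W : Type w'} [AddCommGroup W] [Module k W]

theorem slice_rTensor (φ : A →ₗ[k] k) (f : V →ₗ[k] W) (x : V ⊗[k] A) :
    slice W φ (f.rTensor A x) = f (slice V φ x) := by
  induction x using TensorProduct.induction_on with
  | zero => simp
  | add x y hx hy => simp [hx, hy]
  | tmul v a => simp

/-- Expansion of an element of `V ⊗ A` along a basis of `A`, with slices as coefficients. -/
theorem eq_sum_slice {ι : Type*} (b : Module.Basis ι k A) (x : V ⊗[k] A) :
    ∃ s : Finset ι, x = ∑ i ∈ s, slice V (b.coord i) x ⊗ₜ[k] b i := by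
  classical
  refine ⟨(TensorProduct.equivFinsuppOfBasisRight b x).support, ?_⟩
  have h := (TensorProduct.equivFinsuppOfBasisRight (M := V) b).symm_apply_apply x
  rw [TensorProduct.equivFinsuppOfBasisRight_symm_apply, Finsupp.sum] at h
  conv_lhs => rw [← h]
  refine Finset.sum_congr rfl (fun i _ => ?_)
  rw [TensorProduct.equivFinsuppOfBasisRight_apply]
  rfl

theorem mem_range_rTensor_iff [Module.Free k A] (W : Submodule k V) (x : V ⊗[k] A) :
    x ∈ LinearMap.range (W.subtype.rTensor A) ↔ ∀ φ : A →ₗ[k] k, slice V φ x ∈ W := by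
  constructor
  · rintro ⟨y, rfl⟩ φ
    rw [slice_rTensor]
    exact (slice W φ y).2
  · intro h
    obtain ⟨s, hs⟩ := eq_sum_slice (Module.Free.chooseBasis k A) x
    rw [hs]
    refine Submodule.sum_mem _ (fun i _ => ?_)
    exact ⟨(⟨_, h ((Module.Free.chooseBasis k A).coord i)⟩ : W) ⊗ₜ[k]
      (Module.Free.chooseBasis k A i), by simp⟩

theorem eq_zero_of_slice_eq_zero [Module.Free k A] (x : V ⊗[k] A)
    (h : ∀ φ : A →ₗ[k] k, slice V φ x = 0) : x = 0 := by
  obtain ⟨s, hs⟩ := eq_sum_slice (Module.Free.chooseBasis k A) x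
  rw [hs]
  exact Finset.sum_eq_zero (fun i _ => by rw [h, TensorProduct.zero_tmul])

theorem eq_of_slice_eq [Module.Free k A] (x y : V ⊗[k] A)
    (h : ∀ φ : A →ₗ[k] k, slice V φ x = slice V φ y) : x = y := by
  rw [← sub_eq_zero]
  exact eq_zero_of_slice_eq_zero _ (fun φ => by rw [map_sub, h, sub_self])

end Slice

section Coalg

variable {k : Type u} [CommRing k] {A : Type v} [AddCommGroup A] [Module k A] [Coalgebra k A]
variable {V : Type w} [AddCommGroup V] [Module k V] [Comod k A V]
variable {W : Type w'} [AddCommGroup W] [Module k W] [Comod k A W]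

/-- The operator `v ↦ Σ φ(v₁) v₀` on a comodule. -/
noncomputable def T (φ : A →ₗ[k] k) : V →ₗ[k] V :=
  slice V φ ∘ₗ Comod.coact (k := k) (A := A)

theorem T_apply (φ : A →ₗ[k] k) (v : V) :
    T φ v = slice V φ (Comod.coact (k := k) (A := A) v) := rfl

/-- Convolution of two functionals: `a ↦ Σ ψ(a₁) φ(a₂)`. -/
noncomputable def conv (ψ φ : A →ₗ[k] k) : A →ₗ[k] k :=
  LinearMap.mul' k k ∘ₗ TensorProduct.map ψ φ ∘ₗ CoalgebraStruct.comul (R := k) (A := A)

omit [Coalgebra k A] [Comod k A V] in
theorem slice_slice_assoc_symm (ψ φ : A →ₗ[k] k) (v : V) (z : A ⊗[k] A) :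
    slice V ψ (slice (V ⊗[k] A) φ ((TensorProduct.assoc k V A A).symm (v ⊗ₜ[k] z))) =
      (LinearMap.mul' k k (TensorProduct.map ψ φ z)) • v := by
  induction z using TensorProduct.induction_on with
  | zero => simp
  | add x y hx hy => simp only [TensorProduct.tmul_add, map_add, hx, hy, add_smul]
  | tmul a b =>
    simp only [TensorProduct.assoc_symm_tmul, slice_tmul, map_smul, TensorProduct.map_tmul,
      LinearMap.mul'_apply, smul_smul]
    rw [mul_comm]

omit [Comod k A V] in
theorem slice_slice_comul (ψ φ : A →ₗ[k] k) (y : V ⊗[k] A) :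
    slice V ψ (slice (V ⊗[k] A) φ ((TensorProduct.assoc k V A A).symm
      ((CoalgebraStruct.comul (R := k) (A := A)).lTensor V y))) = slice V (conv ψ φ) y := by
  induction y using TensorProduct.induction_on with
  | zero => simp
  | add x y hx hy => simp only [map_add, hx, hy]
  | tmul v a =>
    rw [LinearMap.lTensor_tmul, slice_slice_assoc_symm, slice_tmul]
    rfl

theorem coassoc_apply (v : V) :
    (Comod.coact (k := k) (A := A)).rTensor A (Comod.coact (k := k) (A := A) v) =
      (TensorProduct.assoc k V A A).symm ((CoalgebraStruct.comul (R := k) (A := A)).lTensor V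
        (Comod.coact (k := k) (A := A) v)) := by
  have h := LinearMap.congr_fun (Comod.coassoc (k := k) (A := A) (V := V)) v
  simp only [LinearMap.coe_comp, Function.comp_apply, LinearEquiv.coe_coe] at h
  rw [← h, LinearEquiv.symm_apply_apply]

theorem counit_apply (v : V) :
    (CoalgebraStruct.counit (R := k) (A := A)).lTensor V (Comod.coact (k := k) (A := A) v) =
      v ⊗ₜ[k] (1 : k) := by
  have h := LinearMap.congr_fun (Comod.counit_comp (k := k) (A := A) (V := V)) v
  simpa using h

theorem T_T (ψ φ : A →ₗ[k] k) (v : V) : T ψ (T φ v) = T (conv ψ φ) v := by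
  rw [T_apply, T_apply φ, ← slice_rTensor, coassoc_apply, slice_slice_comul]
  rfl

theorem T_counit (v : V) : T (CoalgebraStruct.counit (R := k) (A := A)) v = v := by
  rw [T_apply, slice, LinearMap.comp_apply, counit_apply]
  simp

theorem T_add (φ ψ : A →ₗ[k] k) (v : V) : T (φ + ψ) v = T φ v + T ψ v := slice_add V φ ψ _

theorem T_smul (c : k) (φ : A →ₗ[k] k) (v : V) : T (c • φ) v = c • T φ v := slice_smul V c φ _

/-- A subspace is a subcomodule iff it is stable under all the operators `T φ`. -/
theorem isSubcomod_iff [Module.Free k A] (U : Submodule k V) :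
    IsSubcomod (k := k) (A := A) U ↔ ∀ φ : A →ₗ[k] k, ∀ u ∈ U, T φ u ∈ U := by
  unfold IsSubcomod
  constructor
  · intro h φ u hu
    exact (mem_range_rTensor_iff U _).mp (h u hu) φ
  · intro h u hu
    exact (mem_range_rTensor_iff U _).mpr (fun φ => h φ u hu)

theorem T_mem_of_isSubcomod [Module.Free k A] {U : Submodule k V}
    (hU : IsSubcomod (k := k) (A := A) U) (φ : A →ₗ[k] k) {u : V} (hu : u ∈ U) : T φ u ∈ U :=
  (isSubcomod_iff U).mp hU φ u hu

/-! ### Lattice operations on subcomodules -/

theorem isSubcomod_bot : IsSubcomod (k := k) (A := A) (⊥ : Submodule k V) := by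
  intro w hw
  rw [Submodule.mem_bot] at hw
  subst hw
  rw [map_zero]
  exact Submodule.zero_mem _

theorem isSubcomod_top : IsSubcomod (k := k) (A := A) (⊤ : Submodule k V) := by
  intro w _
  have : Function.Surjective ((⊤ : Submodule k V).subtype.rTensor A) :=
    LinearMap.rTensor_surjective A (fun v => ⟨⟨v, Submodule.mem_top⟩, rfl⟩)
  exact LinearMap.range_eq_top.mpr this ▸ Submodule.mem_top

theorem isSubcomod_inf [Module.Free k A] {U U' : Submodule k V}
    (hU : IsSubcomod (k := k) (A := A) U) (hU' : IsSubcomod (k := k) (A := A) U') :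
    IsSubcomod (k := k) (A := A) (U ⊓ U') := by
  rw [isSubcomod_iff] at *
  exact fun φ u hu => ⟨hU φ u hu.1, hU' φ u hu.2⟩

theorem isSubcomod_sup [Module.Free k A] {U U' : Submodule k V}
    (hU : IsSubcomod (k := k) (A := A) U) (hU' : IsSubcomod (k := k) (A := A) U') :
    IsSubcomod (k := k) (A := A) (U ⊔ U') := by
  rw [isSubcomod_iff] at *
  intro φ u hu
  obtain ⟨a, ha, b, hb, rfl⟩ := Submodule.mem_sup.mp hu
  rw [map_add]
  exact Submodule.add_mem _ (Submodule.mem_sup_left (hU φ a ha)) (Submodule.mem_sup_right (hU' φ b hb))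

theorem isSubcomod_iSup [Module.Free k A] {ι : Sort*} {U : ι → Submodule k V}
    (hU : ∀ i, IsSubcomod (k := k) (A := A) (U i)) :
    IsSubcomod (k := k) (A := A) (⨆ i, U i) := by
  rw [isSubcomod_iff]
  intro φ u hu
  refine Submodule.iSup_induction U (motive := fun u => T φ u ∈ ⨆ i, U i) hu ?_ ?_ ?_
  · intro i x hx
    exact Submodule.mem_iSup_of_mem i (T_mem_of_isSubcomod (hU i) φ hx)
  · simp
  · intro x y hx hy
    rw [map_add]
    exact Submodule.add_mem _ hx hy

theorem isSubcomod_iInf [Module.Free k A] {ι : Sort*} {U : ι → Submodule k V}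
    (hU : ∀ i, IsSubcomod (k := k) (A := A) (U i)) :
    IsSubcomod (k := k) (A := A) (⨅ i, U i) := by
  rw [isSubcomod_iff]
  intro φ u hu
  rw [Submodule.mem_iInf] at hu ⊢
  exact fun i => T_mem_of_isSubcomod (hU i) φ (hu i)

theorem isSubcomod_sSup [Module.Free k A] {S : Set (Submodule k V)}
    (hS : ∀ U ∈ S, IsSubcomod (k := k) (A := A) U) :
    IsSubcomod (k := k) (A := A) (sSup S) := by
  rw [sSup_eq_iSup']
  exact isSubcomod_iSup (fun i => hS i.1 i.2)

theorem isSubcomod_sInf [Module.Free k A] {S : Set (Submodule k V)}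
    (hS : ∀ U ∈ S, IsSubcomod (k := k) (A := A) U) :
    IsSubcomod (k := k) (A := A) (sInf S) := by
  rw [sInf_eq_iInf']
  exact isSubcomod_iInf (fun i => hS i.1 i.2)

/-! ### The subcomodule generated by a vector; local finiteness -/

/-- The subcomodule generated by a vector: all `T φ v`. -/
noncomputable def gen (k : Type u) [CommRing k] (A : Type v) [AddCommGroup A] [Module k A]
    [Coalgebra k A] {V : Type w} [AddCommGroup V] [Module k V] [Comod k A V] (v : V) :
    Submodule k V :=
  LinearMap.range (sliceL V (Comod.coact (k := k) (A := A) v))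

theorem mem_gen_iff (v x : V) : x ∈ gen k A v ↔ ∃ φ : A →ₗ[k] k, T φ v = x := by
  unfold gen
  rw [LinearMap.mem_range]
  rfl

theorem T_mem_gen (φ : A →ₗ[k] k) (v : V) : T φ v ∈ gen k A v := (mem_gen_iff v _).mpr ⟨φ, rfl⟩

theorem self_mem_gen (v : V) : v ∈ gen k A v := (mem_gen_iff v v).mpr ⟨_, T_counit v⟩

theorem isSubcomod_gen [Module.Free k A] (v : V) : IsSubcomod (k := k) (A := A) (gen k A v) := by
  rw [isSubcomod_iff]
  intro ψ u hu
  obtain ⟨φ, rfl⟩ := (mem_gen_iff v u).mp hu
  rw [T_T]
  exact T_mem_gen _ v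

theorem gen_le [Module.Free k A] {U : Submodule k V} (hU : IsSubcomod (k := k) (A := A) U)
    {v : V} (hv : v ∈ U) : gen k A v ≤ U := by
  intro x hx
  obtain ⟨φ, rfl⟩ := (mem_gen_iff v x).mp hx
  exact T_mem_of_isSubcomod hU φ hv

theorem fg_gen [Module.Free k A] (v : V) : (gen k A v).FG := by
  classical
  obtain ⟨s, hs⟩ := eq_sum_slice (Module.Free.chooseBasis k A) (Comod.coact (k := k) (A := A) v)
  set b := Module.Free.chooseBasis k A
  have key : gen k A v = Submodule.span k
      ((s.image (fun i => T (b.coord i) v) : Finset V) : Set V) := by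
    apply le_antisymm
    · intro x hx
      obtain ⟨φ, rfl⟩ := (mem_gen_iff v x).mp hx
      rw [T_apply, hs, map_sum]
      refine Submodule.sum_mem _ (fun i hi => ?_)
      rw [slice_tmul]
      refine Submodule.smul_mem _ _ (Submodule.subset_span ?_)
      rw [Finset.coe_image]
      exact ⟨i, hi, rfl⟩
    · rw [Submodule.span_le]
      intro x hx
      rw [Finset.coe_image] at hx
      obtain ⟨i, _, rfl⟩ := hx
      exact T_mem_gen _ v
  rw [key]
  exact Submodule.fg_span (Finset.finite_toSet _)

/-- Local finiteness: every vector of a comodule lies in a finitely generated subcomodule. -/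
theorem exists_fg_subcomod_mem [Module.Free k A] (v : V) :
    ∃ U : Submodule k V, U.FG ∧ IsSubcomod (k := k) (A := A) U ∧ v ∈ U :=
  ⟨gen k A v, fg_gen v, isSubcomod_gen v, self_mem_gen v⟩

/-- Every finitely generated submodule is contained in a finitely generated subcomodule. -/
theorem exists_fg_subcomod_ge [Module.Free k A] (U : Submodule k V) (hU : U.FG) :
    ∃ U' : Submodule k V, U'.FG ∧ IsSubcomod (k := k) (A := A) U' ∧ U ≤ U' := by
  classical
  obtain ⟨s, rfl⟩ := hU
  refine ⟨⨆ x : s, gen k A (x : V), ?_, isSubcomod_iSup (fun x => isSubcomod_gen _), ?_⟩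
  · rw [← Finset.sup_univ_eq_iSup]
    exact Submodule.fg_finset_sup _ _ (fun x _ => fg_gen _)
  · rw [Submodule.span_le]
    intro x hx
    exact Submodule.mem_iSup_of_mem ⟨x, hx⟩ (self_mem_gen x)

/-- A finitely generated submodule inside a subcomodule is contained in a finitely generated
subcomodule inside it. -/
theorem exists_fg_subcomod_between [Module.Free k A] (U U₀ : Submodule k V) (hU : U.FG)
    (hU₀ : IsSubcomod (k := k) (A := A) U₀) (hle : U ≤ U₀) :
    ∃ U' : Submodule k V, U'.FG ∧ IsSubcomod (k := k) (A := A) U' ∧ U ≤ U' ∧ U' ≤ U₀ := by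
  classical
  obtain ⟨s, rfl⟩ := hU
  refine ⟨⨆ x : s, gen k A (x : V), ?_, isSubcomod_iSup (fun x => isSubcomod_gen _), ?_, ?_⟩
  · rw [← Finset.sup_univ_eq_iSup]
    exact Submodule.fg_finset_sup _ _ (fun x _ => fg_gen _)
  · rw [Submodule.span_le]
    intro x hx
    exact Submodule.mem_iSup_of_mem ⟨x, hx⟩ (self_mem_gen x)
  · exact iSup_le (fun x => gen_le hU₀ (hle (Submodule.subset_span x.2)))

end Coalg

section Transport

variable {k : Type u} [CommRing k] {A : Type v} [AddCommGroup A] [Module k A] [Coalgebra k A]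
variable {V : Type w} [AddCommGroup V] [Module k V]
variable {W : Type w'} [AddCommGroup W] [Module k W]

omit [Coalgebra k A] in
theorem assoc_rTensor_rTensor' (f : V →ₗ[k] W) (x : (V ⊗[k] A) ⊗[k] A) :
    TensorProduct.assoc k W A A ((f.rTensor A).rTensor A x) =
      f.rTensor (A ⊗[k] A) (TensorProduct.assoc k V A A x) := by
  induction x using TensorProduct.induction_on with
  | zero => simp only [map_zero]
  | add x y hx hy => simp only [map_add, hx, hy]
  | tmul y a =>
    induction y using TensorProduct.induction_on with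
    | zero => simp only [TensorProduct.zero_tmul, map_zero]
    | add y z hy hz => simp only [TensorProduct.add_tmul, map_add, hy, hz]
    | tmul v b => simp only [LinearMap.rTensor_tmul, TensorProduct.assoc_tmul]

omit [Coalgebra k A] in
theorem lTensor_rTensor_comm' {B : Type*} [AddCommGroup B] [Module k B] (g : A →ₗ[k] B)
    (f : V →ₗ[k] W) (x : V ⊗[k] A) :
    g.lTensor W (f.rTensor A x) = f.rTensor B (g.lTensor V x) := by
  induction x using TensorProduct.induction_on with
  | zero => simp only [map_zero]
  | add x y hx hy => simp only [map_add, hx, hy]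
  | tmul v a => simp only [LinearMap.rTensor_tmul, LinearMap.lTensor_tmul]

/-- Transport of a comodule structure along a surjective intertwining map. -/
@[reducible] noncomputable def comodOfSurjective (c : Comod k A V) (ρ : W →ₗ[k] W ⊗[k] A)
    (f : V →ₗ[k] W) (hf : Function.Surjective f) (h : ρ ∘ₗ f = f.rTensor A ∘ₗ c.coact) :
    Comod k A W where
  coact := ρ
  coassoc := by
    apply LinearMap.ext
    intro w
    obtain ⟨v, rfl⟩ := hf w
    have hfv : ρ (f v) = f.rTensor A (c.coact v) := LinearMap.congr_fun h v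
    have hc := LinearMap.congr_fun c.coassoc v
    simp only [LinearMap.coe_comp, Function.comp_apply, LinearEquiv.coe_coe] at hc ⊢
    rw [hfv, ← LinearMap.comp_apply (ρ.rTensor A) (f.rTensor A), ← LinearMap.rTensor_comp, h,
      LinearMap.rTensor_comp, LinearMap.comp_apply, assoc_rTensor_rTensor', hc,
      lTensor_rTensor_comm']
  counit_comp := by
    apply LinearMap.ext
    intro w
    obtain ⟨v, rfl⟩ := hf w
    have hfv : ρ (f v) = f.rTensor A (c.coact v) := LinearMap.congr_fun h v
    have hc := LinearMap.congr_fun c.counit_comp v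
    simp only [LinearMap.coe_comp, Function.comp_apply, LinearMap.flip_apply,
      TensorProduct.mk_apply] at hc ⊢
    rw [hfv, lTensor_rTensor_comm', hc, LinearMap.rTensor_tmul]

/-- Transport of a comodule structure along an injective intertwining map. -/
@[reducible] noncomputable def comodOfInjective (c : Comod k A V) (ρ : W →ₗ[k] W ⊗[k] A)
    (f : W →ₗ[k] V) (hf : Function.Injective f)
    (hf2 : Function.Injective (f.rTensor (A ⊗[k] A)))
    (h : f.rTensor A ∘ₗ ρ = c.coact ∘ₗ f) :
    Comod k A W where
  coact := ρ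
  coassoc := by
    apply LinearMap.ext
    intro w
    apply hf2
    have hw : ∀ w, f.rTensor A (ρ w) = c.coact (f w) := fun w => LinearMap.congr_fun h w
    have hc := LinearMap.congr_fun c.coassoc (f w)
    simp only [LinearMap.coe_comp, Function.comp_apply, LinearEquiv.coe_coe] at hc ⊢
    rw [← assoc_rTensor_rTensor', ← LinearMap.comp_apply ((f.rTensor A).rTensor A) (ρ.rTensor A),
      ← LinearMap.rTensor_comp, h, LinearMap.rTensor_comp, LinearMap.comp_apply, hw, hc,
      ← lTensor_rTensor_comm', hw]
  counit_comp := by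
    apply LinearMap.ext
    intro w
    have hw : ∀ w, f.rTensor A (ρ w) = c.coact (f w) := fun w => LinearMap.congr_fun h w
    have hc := LinearMap.congr_fun c.counit_comp (f w)
    simp only [LinearMap.coe_comp, Function.comp_apply, LinearMap.flip_apply,
      TensorProduct.mk_apply] at hc ⊢
    apply (TensorProduct.rid k W).injective
    apply hf
    have e : ∀ y : W ⊗[k] k, f (TensorProduct.rid k W y) = TensorProduct.rid k V (f.rTensor k y) := by
      intro y
      induction y using TensorProduct.induction_on with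
      | zero => simp
      | add x y hx hy => simp only [map_add, hx, hy]
      | tmul v a => simp
    rw [e, ← lTensor_rTensor_comm', hw, hc, e]
    simp

end Transport

section SubQuot

variable {k : Type u} [CommRing k] {A : Type v} [AddCommGroup A] [Module k A] [Coalgebra k A]
variable {V : Type w} [AddCommGroup V] [Module k V] [Comod k A V]

/-- The restricted coaction on a subcomodule (for `A` flat over `k`). -/
noncomputable def subCoact [Module.Flat k A] (U : Submodule k V)
    (hU : IsSubcomod (k := k) (A := A) U) : U →ₗ[k] U ⊗[k] A :=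
  (LinearEquiv.ofInjective (U.subtype.rTensor A)
    (Module.Flat.rTensor_preserves_injective_linearMap _ U.subtype_injective)).symm.toLinearMap ∘ₗ
    LinearMap.codRestrict (LinearMap.range (U.subtype.rTensor A))
      (Comod.coact (k := k) (A := A) ∘ₗ U.subtype) (fun u => hU u u.2)

theorem rTensor_subtype_subCoact [Module.Flat k A] (U : Submodule k V)
    (hU : IsSubcomod (k := k) (A := A) U) (u : U) :
    U.subtype.rTensor A (subCoact U hU u) = Comod.coact (k := k) (A := A) (u : V) := by
  unfold subCoact
  simp only [LinearMap.coe_comp, LinearEquiv.coe_coe, Function.comp_apply]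
  have := LinearEquiv.apply_symm_apply (LinearEquiv.ofInjective (U.subtype.rTensor A)
    (Module.Flat.rTensor_preserves_injective_linearMap _ U.subtype_injective))
    (LinearMap.codRestrict (LinearMap.range (U.subtype.rTensor A))
      (Comod.coact (k := k) (A := A) ∘ₗ U.subtype) (fun u => hU u u.2) u)
  exact congrArg Subtype.val this

/-- The comodule structure on a subcomodule. -/
@[reducible] noncomputable def subComod [Module.Flat k A] (U : Submodule k V)
    (hU : IsSubcomod (k := k) (A := A) U) : Comod k A U :=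
  comodOfInjective (inferInstance : Comod k A V) (subCoact U hU) U.subtype U.subtype_injective
    (Module.Flat.rTensor_preserves_injective_linearMap _ U.subtype_injective)
    (LinearMap.ext (fun u => rTensor_subtype_subCoact U hU u))

theorem isComodHom_subtype [Module.Flat k A] (U : Submodule k V)
    (hU : IsSubcomod (k := k) (A := A) U) :
    @Hoch.IsComodHom k _ A _ _ _ U _ _ (subComod U hU) V _ _ _ U.subtype :=
  (LinearMap.ext (fun u => rTensor_subtype_subCoact U hU u)).symm

/-- The induced coaction on the quotient by a subcomodule. -/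
noncomputable def quotCoact (U : Submodule k V) (hU : IsSubcomod (k := k) (A := A) U) :
    (V ⧸ U) →ₗ[k] (V ⧸ U) ⊗[k] A :=
  U.liftQ (U.mkQ.rTensor A ∘ₗ Comod.coact (k := k) (A := A)) (by
    intro u hu
    obtain ⟨y, hy⟩ := hU u hu
    rw [LinearMap.mem_ker, LinearMap.comp_apply, ← hy, ← LinearMap.comp_apply,
      ← LinearMap.rTensor_comp]
    have : U.mkQ ∘ₗ U.subtype = 0 := by
      ext x
      simp
    rw [this, LinearMap.rTensor_zero, LinearMap.zero_apply])

theorem quotCoact_mk (U : Submodule k V) (hU : IsSubcomod (k := k) (A := A) U) (v : V) :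
    quotCoact U hU (U.mkQ v) = U.mkQ.rTensor A (Comod.coact (k := k) (A := A) v) := by
  unfold quotCoact
  simp

/-- The comodule structure on the quotient by a subcomodule. -/
@[reducible] noncomputable def quotComod (U : Submodule k V)
    (hU : IsSubcomod (k := k) (A := A) U) : Comod k A (V ⧸ U) :=
  comodOfSurjective (inferInstance : Comod k A V) (quotCoact U hU) U.mkQ U.mkQ_surjective
    (LinearMap.ext (fun v => quotCoact_mk U hU v))

theorem isComodHom_mkQ (U : Submodule k V) (hU : IsSubcomod (k := k) (A := A) U) :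
    @Hoch.IsComodHom k _ A _ _ _ V _ _ _ (V ⧸ U) _ _ (quotComod U hU) U.mkQ :=
  LinearMap.ext (fun v => quotCoact_mk U hU v)

end SubQuot

section Hom

variable {k : Type u} [CommRing k] {A : Type v} [AddCommGroup A] [Module k A] [Coalgebra k A]
variable {V : Type w} [AddCommGroup V] [Module k V] [Comod k A V]
variable {W : Type w'} [AddCommGroup W] [Module k W] [Comod k A W]

theorem isComodHom_apply {f : V →ₗ[k] W} (hf : Hoch.IsComodHom A f) (v : V) :
    Comod.coact (k := k) (A := A) (f v) = f.rTensor A (Comod.coact (k := k) (A := A) v) :=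
  LinearMap.congr_fun hf v

theorem map_T_of_isComodHom {f : V →ₗ[k] W} (hf : Hoch.IsComodHom A f) (φ : A →ₗ[k] k) (v : V) :
    f (T φ v) = T φ (f v) := by
  rw [T_apply, T_apply, isComodHom_apply hf, slice_rTensor]

theorem isComodHom_iff [Module.Free k A] (f : V →ₗ[k] W) :
    Hoch.IsComodHom A f ↔ ∀ (φ : A →ₗ[k] k) (v : V), f (T φ v) = T φ (f v) := by
  constructor
  · exact fun hf φ v => map_T_of_isComodHom hf φ v
  · intro h
    apply LinearMap.ext
    intro v
    apply eq_of_slice_eq
    intro φ
    rw [LinearMap.comp_apply, LinearMap.comp_apply, slice_rTensor]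
    exact (h φ v).symm

theorem isSubcomod_ker [Module.Free k A] {f : V →ₗ[k] W} (hf : Hoch.IsComodHom A f) :
    IsSubcomod (k := k) (A := A) (LinearMap.ker f) := by
  rw [isSubcomod_iff]
  intro φ u hu
  rw [LinearMap.mem_ker] at hu ⊢
  rw [map_T_of_isComodHom hf, hu, map_zero]

theorem isSubcomod_map [Module.Free k A] {f : V →ₗ[k] W} (hf : Hoch.IsComodHom A f)
    {U : Submodule k V} (hU : IsSubcomod (k := k) (A := A) U) :
    IsSubcomod (k := k) (A := A) (U.map f) := by
  rw [isSubcomod_iff]
  rintro φ _ ⟨u, hu, rfl⟩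
  rw [← map_T_of_isComodHom hf]
  exact ⟨_, T_mem_of_isSubcomod hU φ hu, rfl⟩

theorem isSubcomod_comap [Module.Free k A] {f : V →ₗ[k] W} (hf : Hoch.IsComodHom A f)
    {U : Submodule k W} (hU : IsSubcomod (k := k) (A := A) U) :
    IsSubcomod (k := k) (A := A) (U.comap f) := by
  rw [isSubcomod_iff]
  intro φ u hu
  rw [Submodule.mem_comap] at hu ⊢
  rw [map_T_of_isComodHom hf]
  exact T_mem_of_isSubcomod hU φ hu

theorem isSubcomod_range [Module.Free k A] {f : V →ₗ[k] W} (hf : Hoch.IsComodHom A f) :
    IsSubcomod (k := k) (A := A) (LinearMap.range f) := by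
  rw [← Submodule.map_top]
  exact isSubcomod_map hf isSubcomod_top

theorem isComodHom_id : Hoch.IsComodHom A (LinearMap.id : V →ₗ[k] V) := by
  unfold Hoch.IsComodHom
  simp

theorem isComodHom_comp {X : Type*} [AddCommGroup X] [Module k X] [Comod k A X]
    {f : V →ₗ[k] W} {g : W →ₗ[k] X} (hf : Hoch.IsComodHom A f) (hg : Hoch.IsComodHom A g) :
    Hoch.IsComodHom A (g ∘ₗ f) := by
  unfold Hoch.IsComodHom at *
  rw [← LinearMap.comp_assoc, hg, LinearMap.comp_assoc, hf, ← LinearMap.comp_assoc,
    LinearMap.rTensor_comp]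

theorem isComodHom_symm (e : V ≃ₗ[k] W) (he : Hoch.IsComodHom A (e : V →ₗ[k] W)) :
    Hoch.IsComodHom A (e.symm : W →ₗ[k] V) := by
  apply LinearMap.ext
  intro w
  have h := isComodHom_apply he (e.symm w)
  simp only [LinearEquiv.coe_coe, LinearEquiv.apply_symm_apply] at h
  have h2 : (e.symm : W →ₗ[k] V) ∘ₗ (e : V →ₗ[k] W) = LinearMap.id := by
    ext v
    simp
  rw [LinearMap.comp_apply, LinearMap.comp_apply, h,
    ← LinearMap.comp_apply (LinearMap.rTensor A _) (LinearMap.rTensor A _),
    ← LinearMap.rTensor_comp, h2, LinearMap.rTensor_id, LinearMap.id_apply]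
  rfl

theorem isComodHom_zero : Hoch.IsComodHom A (0 : V →ₗ[k] W) := by
  unfold Hoch.IsComodHom
  simp

theorem isComodHom_add {f g : V →ₗ[k] W} (hf : Hoch.IsComodHom A f) (hg : Hoch.IsComodHom A g) :
    Hoch.IsComodHom A (f + g) := by
  unfold Hoch.IsComodHom at *
  rw [LinearMap.comp_add, hf, hg, LinearMap.rTensor_add, LinearMap.add_comp]

theorem isComodHom_smul (c : k) {f : V →ₗ[k] W} (hf : Hoch.IsComodHom A f) :
    Hoch.IsComodHom A (c • f) := by
  unfold Hoch.IsComodHom at *
  rw [LinearMap.comp_smul, hf, LinearMap.rTensor_smul, LinearMap.smul_comp]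

theorem isComodHom_neg {f : V →ₗ[k] W} (hf : Hoch.IsComodHom A f) :
    Hoch.IsComodHom A (-f) := by
  have := isComodHom_smul (-1 : k) hf
  simpa using this

theorem isComodHom_sub {f g : V →ₗ[k] W} (hf : Hoch.IsComodHom A f) (hg : Hoch.IsComodHom A g) :
    Hoch.IsComodHom A (f - g) := by
  rw [sub_eq_add_neg]
  exact isComodHom_add hf (isComodHom_neg hg)

end Hom

section Exact

variable {k : Type u} [CommRing k] {A : Type v} [AddCommGroup A] [Module k A] [Coalgebra k A]
variable {V : Type w} [AddCommGroup V] [Module k V] [Comod k A V]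

theorem coact_injective : Function.Injective (Comod.coact (k := k) (A := A) (V := V)) := by
  intro v w h
  rw [← T_counit (k := k) (A := A) v, ← T_counit (k := k) (A := A) w, T_apply, T_apply, h]

/-- The map `V ⊗ (A ⊗ A) → V ⊗ A` applying the counit to the last factor. -/
noncomputable def counitLast (k : Type u) [CommRing k] (A : Type v) [AddCommGroup A] [Module k A]
    [Coalgebra k A] (V : Type w) [AddCommGroup V] [Module k V] : V ⊗[k] (A ⊗[k] A) →ₗ[k] V ⊗[k] A :=
  LinearMap.lTensor V ((TensorProduct.rid k A).toLinearMap ∘ₗ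
    LinearMap.lTensor A (CoalgebraStruct.counit (R := k) (A := A)))

omit [Comod k A V] in
theorem counitLast_lTensor_comul (x : V ⊗[k] A) :
    counitLast k A V ((CoalgebraStruct.comul (R := k) (A := A)).lTensor V x) = x := by
  unfold counitLast
  rw [← LinearMap.comp_apply, ← LinearMap.lTensor_comp, LinearMap.comp_assoc,
    Coalgebra.lTensor_counit_comp_comul]
  have : (TensorProduct.rid k A).toLinearMap ∘ₗ (TensorProduct.mk k A k).flip 1 = LinearMap.id := by
    ext a
    simp
  rw [this, LinearMap.lTensor_id, LinearMap.id_apply]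

omit [Comod k A V] in
theorem counitLast_assoc_tmul (y : V ⊗[k] A) (a : A) :
    counitLast k A V (TensorProduct.assoc k V A A (y ⊗ₜ[k] a)) =
      (CoalgebraStruct.counit (R := k) (A := A) a) • y := by
  induction y using TensorProduct.induction_on with
  | zero => simp
  | add x y hx hy => simp only [TensorProduct.add_tmul, map_add, hx, hy, smul_add]
  | tmul v b =>
    unfold counitLast
    simp only [TensorProduct.assoc_tmul, LinearMap.lTensor_tmul, LinearMap.coe_comp,
      LinearEquiv.coe_coe, Function.comp_apply, TensorProduct.rid_tmul, TensorProduct.tmul_smul]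

theorem counitLast_assoc_rTensor_coact (x : V ⊗[k] A) :
    counitLast k A V (TensorProduct.assoc k V A A
      ((Comod.coact (k := k) (A := A)).rTensor A x)) =
      Comod.coact (k := k) (A := A) (slice V (CoalgebraStruct.counit (R := k) (A := A)) x) := by
  induction x using TensorProduct.induction_on with
  | zero => simp
  | add x y hx hy => simp only [map_add, hx, hy]
  | tmul v a =>
    rw [LinearMap.rTensor_tmul, counitLast_assoc_tmul, slice_tmul, map_smul]

/-- An element of `V ⊗ A` equalised by `ρ ⊗ id` and `id ⊗ Δ` is in the image of the coaction. -/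
theorem coact_slice_counit_of_eq (x : V ⊗[k] A)
    (h : TensorProduct.assoc k V A A ((Comod.coact (k := k) (A := A)).rTensor A x) =
      (CoalgebraStruct.comul (R := k) (A := A)).lTensor V x) :
    Comod.coact (k := k) (A := A) (slice V (CoalgebraStruct.counit (R := k) (A := A)) x) = x := by
  rw [← counitLast_assoc_rTensor_coact, h, counitLast_lTensor_comul]

end Exact

section Along

variable {k : Type u} [CommRing k] {C : Type v} [AddCommGroup C] [Module k C]
    {D : Type*} [AddCommGroup D] [Module k D] {V : Type w} [AddCommGroup V] [Module k V]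

theorem slice_lTensor (i : C →ₗ[k] D) (ψ : D →ₗ[k] k) (x : V ⊗[k] C) :
    slice V ψ (i.lTensor V x) = slice V (ψ ∘ₗ i) x := by
  induction x using TensorProduct.induction_on with
  | zero => simp
  | add x y hx hy => simp only [map_add, hx, hy]
  | tmul v a => simp

theorem assoc_lTensor_map (i : C →ₗ[k] D) (z : V ⊗[k] C) (c : C) :
    (TensorProduct.map i i).lTensor V (TensorProduct.assoc k V C C (z ⊗ₜ[k] c)) =
      TensorProduct.assoc k V D D ((i.lTensor V z) ⊗ₜ[k] i c) := by
  induction z using TensorProduct.induction_on with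
  | zero => simp
  | add x y hx hy => simp only [TensorProduct.add_tmul, map_add, hx, hy]
  | tmul v a => simp

theorem assoc_rTensor_lTensor_map (i : C →ₗ[k] D) (ρC : V →ₗ[k] V ⊗[k] C)
    (ρ : V →ₗ[k] V ⊗[k] D) (h : ∀ v, i.lTensor V (ρC v) = ρ v) (y : V ⊗[k] C) :
    (TensorProduct.map i i).lTensor V (TensorProduct.assoc k V C C (ρC.rTensor C y)) =
      TensorProduct.assoc k V D D (ρ.rTensor D (i.lTensor V y)) := by
  induction y using TensorProduct.induction_on with
  | zero => simp
  | add x y hx hy => simp only [map_add, hx, hy]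
  | tmul v a =>
    rw [LinearMap.rTensor_tmul, assoc_lTensor_map, h, LinearMap.lTensor_tmul,
      LinearMap.rTensor_tmul]

variable [Coalgebra k C] [Coalgebra k D]

/-- Push a comodule structure forward along a coalgebra map. -/
@[reducible] noncomputable def comodAlongCoalg (i : C →ₗc[k] D) (c : Comod k C V) : Comod k D V where
  coact := (i : C →ₗ[k] D).lTensor V ∘ₗ c.coact
  coassoc := by
    apply LinearMap.ext
    intro v
    simp only [LinearMap.coe_comp, Function.comp_apply, LinearEquiv.coe_coe]
    rw [← assoc_rTensor_lTensor_map (i : C →ₗ[k] D) c.coact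
      ((i : C →ₗ[k] D).lTensor V ∘ₗ c.coact) (fun _ => rfl)]
    have hc := LinearMap.congr_fun c.coassoc v
    simp only [LinearMap.coe_comp, Function.comp_apply, LinearEquiv.coe_coe] at hc
    rw [hc, ← LinearMap.comp_apply (LinearMap.lTensor V _) (LinearMap.lTensor V _),
      ← LinearMap.lTensor_comp, CoalgHomClass.map_comp_comul, LinearMap.lTensor_comp,
      LinearMap.comp_apply]
  counit_comp := by
    apply LinearMap.ext
    intro v
    rw [LinearMap.comp_apply, LinearMap.comp_apply,
      ← LinearMap.comp_apply (LinearMap.lTensor V _) (LinearMap.lTensor V _),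
      ← LinearMap.lTensor_comp, CoalgHomClass.counit_comp]
    exact LinearMap.congr_fun c.counit_comp v

theorem isSubcomod_comodAlongCoalg (i : C →ₗc[k] D) (c : Comod k C V) (U : Submodule k V)
    (hU : @IsSubcomod k C _ _ _ _ V _ _ c U) :
    @IsSubcomod k D _ _ _ _ V _ _ (comodAlongCoalg i c) U := by
  intro u hu
  obtain ⟨y, hy⟩ := hU u hu
  refine ⟨(i : C →ₗ[k] D).lTensor U y, ?_⟩
  change _ = (i : C →ₗ[k] D).lTensor V (c.coact u)
  rw [← hy, lTensor_rTensor_comm']

end Along

end Groth.Agent.Lib.Helper25
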