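import Groth.Prelude.Def_GLin
import Groth.Agent.Lib.Helper25Coeff
import Mathlib.RingTheory.Bialgebra.MonoidAlgebra
import Mathlib.RingTheory.MvPolynomial.Homogeneous

/-!
# One-parameter subgroups, limits and the numerical function for linear coactions (helper25)
-/

set_option autoImplicit false
set_option linter.unusedSectionVars false
universe u v w
open TensorProduct LaurentPolynomial Polynomial

namespace Groth.Agent.Lib.Helper25


section Laurent
variable {k : Type u} [CommRing k]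

theorem coeff_toLaurent_natCast (p : k[X]) (n : ℕ) : (toLaurent p).coeff (n : ℤ) = p.coeff n := by
  rw [coeff_toLaurent]
  exact Finsupp.mapDomain_apply Nat.castEmbedding.injective _ _

theorem coeff_toLaurent_of_neg (p : k[X]) (z : ℤ) (hz : z < 0) : (toLaurent p).coeff z = 0 := by
  rw [coeff_toLaurent]
  apply Finsupp.mapDomain_of_notMem_range
  rintro ⟨n, hn⟩
  simp at hn
  omega

theorem coeff_T_mul (m z : ℤ) (f : k[T;T⁻¹]) : (LaurentPolynomial.T m * f).coeff z = f.coeff (z - m) := by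
  unfold LaurentPolynomial.T
  rw [AddMonoidAlgebra.coeff_single_mul_apply, one_mul]
  congr 1
  ring

theorem toLaurent_trunc_of_forall (f : k[T;T⁻¹]) (h : ∀ z : ℤ, z < 0 → f.coeff z = 0) :
    toLaurent (trunc f) = f := by
  ext z
  by_cases hz : z < 0
  · rw [coeff_toLaurent_of_neg _ _ hz, h z hz]
  · push_neg at hz
    lift z to ℕ using hz
    rw [coeff_toLaurent_natCast]
    simp [trunc]

theorem mem_range_toLaurent_iff (f : k[T;T⁻¹]) :
    f ∈ Set.range (toLaurent : k[X] → k[T;T⁻¹]) ↔ ∀ z : ℤ, z < 0 → f.coeff z = 0 := by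
  constructor
  · rintro ⟨p, rfl⟩ z hz
    exact coeff_toLaurent_of_neg p z hz
  · intro h
    exact ⟨trunc f, toLaurent_trunc_of_forall f h⟩

end Laurent


section Lift
variable {k : Type u} [CommRing k] {ι : Type w}

/-- the candidate lift -/
noncomputable def liftPoly (P : ι → k[T;T⁻¹]) : MvPolynomial ι k →ₐ[k] k[X] :=
  MvPolynomial.aeval (fun i => trunc (P i))

theorem toLaurentAlg_comp_liftPoly (P : ι → k[T;T⁻¹]) (hP : ∀ i, ∀ z : ℤ, z < 0 → (P i).coeff z = 0) :
    (Polynomial.toLaurentAlg (R := k)).comp (liftPoly P) = MvPolynomial.aeval P := by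
  apply MvPolynomial.algHom_ext
  intro i
  simp only [AlgHom.comp_apply, liftPoly, MvPolynomial.aeval_X, toLaurentAlg_apply]
  exact toLaurent_trunc_of_forall _ (hP i)

theorem aeval_zero_comp_liftPoly (P : ι → k[T;T⁻¹]) :
    (Polynomial.aeval (0 : k)).comp (liftPoly P) = MvPolynomial.aeval (fun i => (P i).coeff 0) := by
  apply MvPolynomial.algHom_ext
  intro i
  simp only [AlgHom.comp_apply, liftPoly, MvPolynomial.aeval_X]
  rw [Polynomial.coe_aeval_eq_eval, ← Polynomial.coeff_zero_eq_eval_zero]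
  simp [trunc]

theorem eq_liftPoly_of_comp_eq (P : ι → k[T;T⁻¹]) (h : MvPolynomial ι k →ₐ[k] k[X])
    (hh : (Polynomial.toLaurentAlg (R := k)).comp h = MvPolynomial.aeval P) :
    (∀ i, ∀ z : ℤ, z < 0 → (P i).coeff z = 0) ∧ h = liftPoly P := by
  have h1 : ∀ i, toLaurent (h (MvPolynomial.X i)) = P i := by
    intro i
    have := congrArg (fun φ : MvPolynomial ι k →ₐ[k] k[T;T⁻¹] => φ (MvPolynomial.X i)) hh
    simpa using this
  refine ⟨?_, ?_⟩
  · intro i z hz
    rw [← h1 i]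
    exact coeff_toLaurent_of_neg _ _ hz
  · apply MvPolynomial.algHom_ext
    intro i
    simp only [liftPoly, MvPolynomial.aeval_X]
    rw [← h1 i, Polynomial.trunc_toLaurent]

end Lift


section Orbit
variable {k : Type u} [CommRing k] {A : Type v} [CommRing A] [Bialgebra k A]
  {R : Type w} [CommRing R] [Algebra k R] [HopfRep.Comod k A R] [GLin.IsCoactAlg k A R]

theorem orbitHom_eq_coeffMap (x : R →ₐ[k] k) (f : R) :
    GLin.orbitHom k A x f = coeffMap (A := A) x.toLinearMap f := by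
  change (Algebra.TensorProduct.lid k A) ((Algebra.TensorProduct.map x (AlgHom.id k A))
    (HopfRep.Comod.coact (k := k) (A := A) f)) = lslice x.toLinearMap _
  generalize HopfRep.Comod.coact (k := k) (A := A) f = y
  induction y using TensorProduct.induction_on with
  | zero => simp
  | add a b ha hb => simp only [map_add, ha, hb]
  | tmul r a => simp

theorem counit_orbitHom (x : R →ₐ[k] k) (f : R) :
    CoalgebraStruct.counit (R := k) (GLin.orbitHom k A x f) = x f := by
  rw [orbitHom_eq_coeffMap, counit_coeffMap]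
  rfl

theorem counit_lamOrbit (lam : A →ₐc[k] k[T;T⁻¹]) (x : R →ₐ[k] k) (f : R) :
    CoalgebraStruct.counit (R := k) (GLin.lamOrbit k A lam x f) = x f := by
  change CoalgebraStruct.counit (R := k) (lam (GLin.orbitHom k A x f)) = x f
  rw [CoalgHomClass.counit_comp_apply, counit_orbitHom]

end Orbit

section Mu
variable {k : Type u} [CommRing k] {A : Type v} [CommRing A] [Bialgebra k A]
  {ι : Type w} [Fintype ι] [HopfRep.Comod k A (MvPolynomial ι k)] [GLin.IsCoactAlg k A (MvPolynomial ι k)]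

/-- The orbit Laurent polynomials. -/
noncomputable def orbP (lam : A →ₐc[k] k[T;T⁻¹]) (v : ι → k) (i : ι) : k[T;T⁻¹] :=
  GLin.lamOrbit k A lam (GLin.vecPt k ι v) (MvPolynomial.X i)

theorem lamOrbit_eq_aeval (lam : A →ₐc[k] k[T;T⁻¹]) (v : ι → k) :
    GLin.lamOrbit k A lam (GLin.vecPt k ι v) = MvPolynomial.aeval (orbP lam v) := by
  apply MvPolynomial.algHom_ext
  intro i
  simp [orbP]

theorem shiftedOrbit_eq (lam : A →ₐc[k] k[T;T⁻¹]) (v : ι → k) (m : ℤ) :
    GLin.shiftedOrbit k A lam v m = MvPolynomial.aeval (fun i => LaurentPolynomial.T m * orbP lam v i) := rfl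

theorem counit_orbP (lam : A →ₐc[k] k[T;T⁻¹]) (v : ι → k) (i : ι) :
    CoalgebraStruct.counit (R := k) (orbP lam v i) = v i := by
  rw [orbP, counit_lamOrbit]
  simp

theorem hasLimit_iff (lam : A →ₐc[k] k[T;T⁻¹]) (v : ι → k) :
    GLin.HasLimit k A lam (GLin.vecPt k ι v) ↔
      ∀ i, ∀ z : ℤ, z < 0 → (orbP lam v i).coeff z = 0 := by
  unfold GLin.HasLimit
  rw [lamOrbit_eq_aeval]
  constructor
  · rintro ⟨h, hh⟩
    exact (eq_liftPoly_of_comp_eq _ h hh).1
  · intro h
    exact ⟨liftPoly _, toLaurentAlg_comp_liftPoly _ h⟩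

theorem aeval_eq_aeval_zero_iff (c : ι → k) :
    (MvPolynomial.aeval c : MvPolynomial ι k →ₐ[k] k) = MvPolynomial.aeval (fun _ : ι => (0 : k)) ↔
      ∀ i, c i = 0 := by
  constructor
  · intro h i
    have := congrArg (fun φ : MvPolynomial ι k →ₐ[k] k => φ (MvPolynomial.X i)) h
    simpa using this
  · intro h
    have : c = fun _ => 0 := funext h
    rw [this]

theorem isLimit_zero_iff (lam : A →ₐc[k] k[T;T⁻¹]) (v : ι → k) :
    GLin.IsLimit k A lam (GLin.vecPt k ι v) (GLin.vecPt k ι (fun _ => (0 : k))) ↔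
      ∀ i, ∀ z : ℤ, z ≤ 0 → (orbP lam v i).coeff z = 0 := by
  unfold GLin.IsLimit
  rw [lamOrbit_eq_aeval]
  constructor
  · rintro ⟨h, hh, h0⟩
    obtain ⟨h1, rfl⟩ := eq_liftPoly_of_comp_eq _ h hh
    rw [aeval_zero_comp_liftPoly] at h0
    have h2 := (aeval_eq_aeval_zero_iff _).mp h0
    intro i z hz
    rcases hz.lt_or_eq with hz | rfl
    · exact h1 i z hz
    · exact h2 i
  · intro h
    refine ⟨liftPoly _, toLaurentAlg_comp_liftPoly _ (fun i z hz => h i z hz.le), ?_⟩
    rw [aeval_zero_comp_liftPoly]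
    exact (aeval_eq_aeval_zero_iff _).mpr (fun i => h i 0 le_rfl)

theorem isMu_iff (lam : A →ₐc[k] k[T;T⁻¹]) (v : ι → k) (m : ℤ) :
    GLin.IsMu k A lam v m ↔
      (∀ i, ∀ z : ℤ, z < -m → (orbP lam v i).coeff z = 0) ∧ ∃ i, (orbP lam v i).coeff (-m) ≠ 0 := by
  unfold GLin.IsMu
  rw [shiftedOrbit_eq]
  have hc : ∀ i (z : ℤ), (LaurentPolynomial.T m * orbP lam v i).coeff z = (orbP lam v i).coeff (z - m) :=
    fun i z => coeff_T_mul m z _
  constructor
  · rintro ⟨h, hh, h0⟩
    obtain ⟨h1, rfl⟩ := eq_liftPoly_of_comp_eq _ h hh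
    rw [aeval_zero_comp_liftPoly, Ne, aeval_eq_aeval_zero_iff] at h0
    push Not at h0
    obtain ⟨i, hi⟩ := h0
    refine ⟨fun i z hz => ?_, i, ?_⟩
    · have := h1 i (z + m) (by omega)
      rw [hc] at this
      simpa using this
    · rw [hc] at hi
      simpa using hi
  · rintro ⟨h1, i, hi⟩
    refine ⟨liftPoly _, toLaurentAlg_comp_liftPoly _ (fun i z hz => ?_), ?_⟩
    · rw [hc]
      exact h1 i _ (by omega)
    · rw [aeval_zero_comp_liftPoly, Ne, aeval_eq_aeval_zero_iff]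
      push Not
      refine ⟨i, ?_⟩
      rw [hc]
      simpa using hi

end Mu


section Ord
variable {k : Type u} [CommRing k] {ι : Type w}

/-- `z` is the minimal order of the family `P`. -/
def IsOrd (P : ι → k[T;T⁻¹]) (z : ℤ) : Prop :=
  (∀ i, ∀ y : ℤ, y < z → (P i).coeff y = 0) ∧ ∃ i, (P i).coeff z ≠ 0

theorem IsOrd.unique {P : ι → k[T;T⁻¹]} {z z' : ℤ} (h : IsOrd P z) (h' : IsOrd P z') : z = z' := by
  obtain ⟨h1, i, hi⟩ := h
  obtain ⟨h1', i', hi'⟩ := h'
  rcases lt_trichotomy z z' with hlt | heq | hgt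
  · exact absurd (h1' i z hlt) hi
  · exact heq
  · exact absurd (h1 i' z' hgt) hi'

theorem exists_isOrd [Fintype ι] (P : ι → k[T;T⁻¹]) (hP : ∃ i, P i ≠ 0) : ∃ z, IsOrd P z := by
  classical
  set S : Finset ℤ := Finset.univ.biUnion (fun i => (P i).coeff.support) with hS
  have hne : S.Nonempty := by
    obtain ⟨i, hi⟩ := hP
    have : (P i).coeff ≠ 0 := by
      intro h0
      apply hi
      ext z
      rw [h0]
      rfl
    obtain ⟨z, hz⟩ := Finsupp.support_nonempty_iff.mpr this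
    exact ⟨z, Finset.mem_biUnion.mpr ⟨i, Finset.mem_univ _, hz⟩⟩
  refine ⟨S.min' hne, fun i y hy => ?_, ?_⟩
  · by_contra hc
    have : y ∈ S := Finset.mem_biUnion.mpr ⟨i, Finset.mem_univ _, Finsupp.mem_support_iff.mpr hc⟩
    have := Finset.min'_le S y this
    omega
  · have := Finset.min'_mem S hne
    obtain ⟨i, -, hi⟩ := Finset.mem_biUnion.mp this
    exact ⟨i, Finsupp.mem_support_iff.mp hi⟩

end Ord

section Mu2
variable {k : Type u} [CommRing k] {A : Type v} [CommRing A] [Bialgebra k A]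
  {ι : Type w} [Fintype ι] [HopfRep.Comod k A (MvPolynomial ι k)] [GLin.IsCoactAlg k A (MvPolynomial ι k)]

theorem isMu_iff_isOrd (lam : A →ₐc[k] k[T;T⁻¹]) (v : ι → k) (m : ℤ) :
    GLin.IsMu k A lam v m ↔ IsOrd (orbP lam v) (-m) := isMu_iff lam v m

theorem exists_orbP_ne_zero (lam : A →ₐc[k] k[T;T⁻¹]) (v : ι → k) (hv : v ≠ 0) :
    ∃ i, orbP lam v i ≠ 0 := by
  by_contra hc
  push Not at hc
  apply hv
  funext i
  rw [← counit_orbP lam v i, hc i, map_zero]
  rfl

theorem existsUnique_isMu (lam : A →ₐc[k] k[T;T⁻¹]) (v : ι → k) (hv : v ≠ 0) :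
    ∃! m : ℤ, GLin.IsMu k A lam v m := by
  obtain ⟨z, hz⟩ := exists_isOrd (orbP lam v) (exists_orbP_ne_zero lam v hv)
  refine ⟨-z, ?_, ?_⟩
  · show GLin.IsMu k A lam v (-z)
    rw [isMu_iff_isOrd, neg_neg]
    exact hz
  · intro m hm
    rw [isMu_iff_isOrd] at hm
    have := hm.unique hz
    omega

end Mu2


section Mu3
variable {k : Type u} [CommRing k] {A : Type v} [CommRing A] [Bialgebra k A]
  {ι : Type w} [Fintype ι] [HopfRep.Comod k A (MvPolynomial ι k)] [GLin.IsCoactAlg k A (MvPolynomial ι k)]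

theorem hasLimit_iff_of_isOrd {lam : A →ₐc[k] k[T;T⁻¹]} {v : ι → k} {z : ℤ}
    (hz : IsOrd (orbP lam v) z) : GLin.HasLimit k A lam (GLin.vecPt k ι v) ↔ 0 ≤ z := by
  rw [hasLimit_iff]
  constructor
  · intro h
    by_contra hc
    push Not at hc
    obtain ⟨i, hi⟩ := hz.2
    exact hi (h i z hc)
  · intro h i y hy
    exact hz.1 i y (by omega)

theorem isLimit_zero_iff_of_isOrd {lam : A →ₐc[k] k[T;T⁻¹]} {v : ι → k} {z : ℤ}
    (hz : IsOrd (orbP lam v) z) :
    GLin.IsLimit k A lam (GLin.vecPt k ι v) (GLin.vecPt k ι (fun _ => (0 : k))) ↔ 0 < z := by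
  rw [isLimit_zero_iff]
  constructor
  · intro h
    by_contra hc
    push Not at hc
    obtain ⟨i, hi⟩ := hz.2
    exact hi (h i z hc)
  · intro h i y hy
    exact hz.1 i y (by omega)

theorem isMu_trichotomy (lam : A →ₐc[k] k[T;T⁻¹]) (v : ι → k) (hv : v ≠ 0) :
    (¬ GLin.HasLimit k A lam (GLin.vecPt k ι v) ↔ ∃ m : ℤ, GLin.IsMu k A lam v m ∧ 0 < m) ∧
      ((GLin.HasLimit k A lam (GLin.vecPt k ι v) ∧
          ¬ GLin.IsLimit k A lam (GLin.vecPt k ι v) (GLin.vecPt k ι (fun _ => (0 : k)))) ↔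
        GLin.IsMu k A lam v 0) ∧
      (GLin.IsLimit k A lam (GLin.vecPt k ι v) (GLin.vecPt k ι (fun _ => (0 : k))) ↔
        ∃ m : ℤ, GLin.IsMu k A lam v m ∧ m < 0) := by
  obtain ⟨z, hz⟩ := exists_isOrd (orbP lam v) (exists_orbP_ne_zero lam v hv)
  rw [hasLimit_iff_of_isOrd hz, isLimit_zero_iff_of_isOrd hz]
  have key : ∀ m : ℤ, GLin.IsMu k A lam v m ↔ m = -z := by
    intro m
    rw [isMu_iff_isOrd]
    constructor
    · intro h
      have := h.unique hz
      omega
    · rintro rfl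
      rw [neg_neg]
      exact hz
  simp only [key]
  refine ⟨?_, ?_, ?_⟩
  · constructor
    · intro h
      exact ⟨-z, rfl, by omega⟩
    · rintro ⟨m, rfl, hm⟩
      omega
  · constructor
    · intro h
      omega
    · intro h
      omega
  · constructor
    · intro h
      exact ⟨-z, rfl, by omega⟩
    · rintro ⟨m, rfl, hm⟩
      omega

end Mu3



section Lim
variable {k : Type u} [CommRing k] {A : Type v} [CommRing A] [Bialgebra k A]
  {R : Type w} [CommRing R] [Algebra k R] [HopfRep.Comod k A R] [GLin.IsCoactAlg k A R]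

theorem orbitHom_of_mem_invariants (x : R →ₐ[k] k) {F : R} (hF : F ∈ GLin.invariants k A R) :
    GLin.orbitHom k A x F = algebraMap k A (x F) := by
  have hf' : HopfRep.Comod.coact (k := k) (A := A) F = F ⊗ₜ[k] (1 : A) := hF
  rw [orbitHom_eq_coeffMap, coeffMap_apply, hf', lslice_tmul, Algebra.algebraMap_eq_smul_one]
  rfl

/-- Invariant functions take the same value at a point and at its limit along a one-parameter subgroup. -/
theorem eq_of_isLimit_of_mem_invariants {lam : A →ₐc[k] k[T;T⁻¹]} {x y : R →ₐ[k] k}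
    (h : GLin.IsLimit k A lam x y) {F : R} (hF : F ∈ GLin.invariants k A R) : y F = x F := by
  obtain ⟨g, hg, rfl⟩ := h
  have h1 : toLaurent (g F) = GLin.lamOrbit k A lam x F := by
    have := congrArg (fun φ : R →ₐ[k] k[T;T⁻¹] => φ F) hg
    exact this
  have h2 : GLin.lamOrbit k A lam x F = toLaurent (Polynomial.C (x F)) := by
    change lam (GLin.orbitHom k A x F) = _
    rw [orbitHom_of_mem_invariants x hF, Polynomial.toLaurent_C, LaurentPolynomial.C_eq_algebraMap]
    exact AlgHomClass.commutes lam _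
  have h3 : g F = Polynomial.C (x F) := Polynomial.toLaurent_injective (h1.trans h2)
  simp [h3]

end Lim


theorem eval_zero_of_isHomogeneous_pos' {k : Type*} [CommRing k] {ι : Type*}
    {F : MvPolynomial ι k} {d : ℕ} (h : F.IsHomogeneous d) (hd : 0 < d) :
    MvPolynomial.eval (fun _ => (0 : k)) F = 0 := by
  rw [MvPolynomial.eval_zero', MvPolynomial.constantCoeff_eq]
  apply h.coeff_eq_zero
  simp only [map_zero]
  omega

section Diag
variable {k : Type u} [CommRing k] {A : Type v} [CommRing A] [Bialgebra k A]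
  {ι : Type w} [Fintype ι] [HopfRep.Comod k A (MvPolynomial ι k)] [GLin.IsCoactAlg k A (MvPolynomial ι k)]

theorem orbitHom_X_of_diag {g : ι → A}
    (hg : ∀ i : ι, HopfRep.Comod.coact (k := k) (A := A) (MvPolynomial.X i : MvPolynomial ι k) =
      (MvPolynomial.X i : MvPolynomial ι k) ⊗ₜ[k] g i) (v : ι → k) (i : ι) :
    GLin.orbitHom k A (GLin.vecPt k ι v) (MvPolynomial.X i) = v i • g i := by
  rw [orbitHom_eq_coeffMap, coeffMap_apply, hg, lslice_tmul]
  simp

theorem orbP_of_diag {g : ι → A}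
    (hg : ∀ i : ι, HopfRep.Comod.coact (k := k) (A := A) (MvPolynomial.X i : MvPolynomial ι k) =
      (MvPolynomial.X i : MvPolynomial ι k) ⊗ₜ[k] g i) (lam : A →ₐc[k] k[T;T⁻¹]) (v : ι → k) (i : ι) :
    orbP lam v i = v i • lam (g i) := by
  change lam (GLin.orbitHom k A (GLin.vecPt k ι v) (MvPolynomial.X i)) = _
  rw [orbitHom_X_of_diag hg, map_smul]

theorem coact_X_pow_mul_X_pow {g : ι → A}
    (hg : ∀ i : ι, HopfRep.Comod.coact (k := k) (A := A) (MvPolynomial.X i : MvPolynomial ι k) =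
      (MvPolynomial.X i : MvPolynomial ι k) ⊗ₜ[k] g i) (i j : ι) (a b : ℕ) :
    HopfRep.Comod.coact (k := k) (A := A) ((MvPolynomial.X i : MvPolynomial ι k) ^ a * MvPolynomial.X j ^ b) =
      ((MvPolynomial.X i : MvPolynomial ι k) ^ a * MvPolynomial.X j ^ b) ⊗ₜ[k] (g i ^ a * g j ^ b) := by
  rw [← GLin.coactAlgHom_apply, map_mul, map_pow, map_pow, GLin.coactAlgHom_apply, GLin.coactAlgHom_apply,
    hg, hg, Algebra.TensorProduct.tmul_pow, Algebra.TensorProduct.tmul_pow,
    Algebra.TensorProduct.tmul_mul_tmul]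

end Diag

section Gm
variable {k : Type u} [Field k]
  {ι : Type w} [Fintype ι] [HopfRep.Comod k k[T;T⁻¹] (MvPolynomial ι k)]
  [GLin.IsCoactAlg k k[T;T⁻¹] (MvPolynomial ι k)]

theorem gm_isNullform_of_pos {r : ι → ℤ}
    (hr : ∀ i : ι, HopfRep.Comod.coact (k := k) (A := k[T;T⁻¹]) (MvPolynomial.X i : MvPolynomial ι k) =
      (MvPolynomial.X i : MvPolynomial ι k) ⊗ₜ[k] (LaurentPolynomial.T (r i) : k[T;T⁻¹]))
    (v : ι → k) (hpos : ∀ i, v i ≠ 0 → 0 < r i) : GLin.IsNullform k k[T;T⁻¹] v := by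
  have hlim : GLin.IsLimit k k[T;T⁻¹] (BialgHom.id k k[T;T⁻¹]) (GLin.vecPt k ι v)
      (GLin.vecPt k ι (fun _ => (0 : k))) := by
    rw [isLimit_zero_iff]
    intro i z hz
    rw [orbP_of_diag hr]
    by_cases hvi : v i = 0
    · simp [hvi]
    · have := hpos i hvi
      have hne : r i ≠ z := by omega
      simp [hne]
  intro F hF d hd hFd
  have h1 := eq_of_isLimit_of_mem_invariants hlim hF
  have h2 : GLin.vecPt k ι (fun _ => (0 : k)) F = 0 := by
    change MvPolynomial.aeval (fun _ => (0 : k)) F = 0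
    rw [MvPolynomial.aeval_eq_eval]
    exact eval_zero_of_isHomogeneous_pos' hFd hd
  rw [h2] at h1
  change _ = MvPolynomial.aeval v F at h1
  rw [MvPolynomial.aeval_eq_eval] at h1
  exact h1.symm

theorem gm_isNullform_of_neg {r : ι → ℤ}
    (hr : ∀ i : ι, HopfRep.Comod.coact (k := k) (A := k[T;T⁻¹]) (MvPolynomial.X i : MvPolynomial ι k) =
      (MvPolynomial.X i : MvPolynomial ι k) ⊗ₜ[k] (LaurentPolynomial.T (r i) : k[T;T⁻¹]))
    (v : ι → k) (hneg : ∀ i, v i ≠ 0 → r i < 0) : GLin.IsNullform k k[T;T⁻¹] v := by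
  have hlim : GLin.IsLimit k k[T;T⁻¹]
      (AddMonoidAlgebra.mapDomainBialgHom k (-(AddMonoidHom.id ℤ))) (GLin.vecPt k ι v)
      (GLin.vecPt k ι (fun _ => (0 : k))) := by
    rw [isLimit_zero_iff]
    intro i z hz
    rw [orbP_of_diag hr]
    have hT : (AddMonoidAlgebra.mapDomainBialgHom k (-(AddMonoidHom.id ℤ)))
        (LaurentPolynomial.T (r i) : k[T;T⁻¹]) = LaurentPolynomial.T (-(r i)) := by
      unfold LaurentPolynomial.T
      rw [AddMonoidAlgebra.mapDomainBialgHom_single]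
      rfl
    rw [hT]
    by_cases hvi : v i = 0
    · simp [hvi]
    · have := hneg i hvi
      have hne : -(r i) ≠ z := by omega
      simp [hne]
  intro F hF d hd hFd
  have h1 := eq_of_isLimit_of_mem_invariants hlim hF
  have h2 : GLin.vecPt k ι (fun _ => (0 : k)) F = 0 := by
    change MvPolynomial.aeval (fun _ => (0 : k)) F = 0
    rw [MvPolynomial.aeval_eq_eval]
    exact eval_zero_of_isHomogeneous_pos' hFd hd
  rw [h2] at h1
  change _ = MvPolynomial.aeval v F at h1
  rw [MvPolynomial.aeval_eq_eval] at h1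
  exact h1.symm

end Gm


section Lim2
variable {k : Type u} [CommRing k] {A : Type v} [CommRing A] [Bialgebra k A]
  {R : Type w} [CommRing R] [Algebra k R] [HopfRep.Comod k A R] [GLin.IsCoactAlg k A R]

theorem inOrbitClosure_of_isLimit {lam : A →ₐc[k] k[T;T⁻¹]} {x y : R →ₐ[k] k}
    (h : GLin.IsLimit k A lam x y) : GLin.InOrbitClosure k A x y := by
  obtain ⟨g, hg, rfl⟩ := h
  intro F hF
  rw [RingHom.mem_ker] at hF ⊢
  have h1 : toLaurent (g F) = GLin.lamOrbit k A lam x F := by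
    have := congrArg (fun φ : R →ₐ[k] k[T;T⁻¹] => φ F) hg
    exact this
  have h2 : GLin.lamOrbit k A lam x F = 0 := by
    change lam (GLin.orbitHom k A x F) = 0
    rw [hF, map_zero]
  have h3 : g F = 0 := by
    apply Polynomial.toLaurent_injective
    rw [h1, h2, map_zero]
  simp [h3]

theorem not_isClosedOrbit_of_inOrbitClosure {x y : R →ₐ[k] k} [IsDomain k]
    (h : GLin.InOrbitClosure k A x y) (F : R) (hy : y F = 0)
    (hu : IsUnit (GLin.orbitHom k A x F)) : ¬ GLin.IsClosedOrbit k A x := by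
  intro hcl
  unfold GLin.IsClosedOrbit at hcl
  have hprime : (RingHom.ker (y : R →+* k)).IsPrime := RingHom.ker_isPrime _
  have hmem : (⟨RingHom.ker (y : R →+* k), hprime⟩ : PrimeSpectrum R) ∈
      closure (Set.range (PrimeSpectrum.comap (GLin.orbitHom k A x).toRingHom)) := by
    rw [PrimeSpectrum.closure_range_comap, PrimeSpectrum.mem_zeroLocus]
    exact h
  rw [hcl.closure_eq] at hmem
  obtain ⟨q, hq⟩ := hmem
  have hF : F ∈ (PrimeSpectrum.comap (GLin.orbitHom k A x).toRingHom q).asIdeal := by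
    rw [hq]
    exact (RingHom.mem_ker).mpr hy
  have : (GLin.orbitHom k A x F) ∈ q.asIdeal := hF
  exact q.isPrime.ne_top (Ideal.eq_top_of_isUnit_mem _ this hu)

end Lim2


section Mu4
variable {k : Type u} [CommRing k] {A : Type v} [CommRing A] [Bialgebra k A]
  {ι : Type w} [Fintype ι] [HopfRep.Comod k A (MvPolynomial ι k)] [GLin.IsCoactAlg k A (MvPolynomial ι k)]

theorem isLimit_iff (lam : A →ₐc[k] k[T;T⁻¹]) (v w : ι → k) :
    GLin.IsLimit k A lam (GLin.vecPt k ι v) (GLin.vecPt k ι w) ↔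
      (∀ i, ∀ z : ℤ, z < 0 → (orbP lam v i).coeff z = 0) ∧ ∀ i, (orbP lam v i).coeff 0 = w i := by
  unfold GLin.IsLimit
  rw [lamOrbit_eq_aeval]
  constructor
  · rintro ⟨h, hh, h0⟩
    obtain ⟨h1, rfl⟩ := eq_liftPoly_of_comp_eq _ h hh
    rw [aeval_zero_comp_liftPoly] at h0
    refine ⟨h1, fun i => ?_⟩
    have := congrArg (fun φ : MvPolynomial ι k →ₐ[k] k => φ (MvPolynomial.X i)) h0
    simpa using this
  · rintro ⟨h1, h2⟩
    refine ⟨liftPoly _, toLaurentAlg_comp_liftPoly _ h1, ?_⟩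
    rw [aeval_zero_comp_liftPoly]
    have : (fun i => (orbP lam v i).coeff 0) = w := funext h2
    rw [this]

end Mu4

section Gm2
variable {k : Type u} [Field k]
  {ι : Type w} [Fintype ι] [HopfRep.Comod k k[T;T⁻¹] (MvPolynomial ι k)]
  [GLin.IsCoactAlg k k[T;T⁻¹] (MvPolynomial ι k)]

theorem gm_orbitHom_X {r : ι → ℤ}
    (hr : ∀ i : ι, HopfRep.Comod.coact (k := k) (A := k[T;T⁻¹]) (MvPolynomial.X i : MvPolynomial ι k) =
      (MvPolynomial.X i : MvPolynomial ι k) ⊗ₜ[k] (LaurentPolynomial.T (r i) : k[T;T⁻¹]))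
    (v : ι → k) (i : ι) :
    GLin.orbitHom k k[T;T⁻¹] (GLin.vecPt k ι v) (MvPolynomial.X i) = v i • LaurentPolynomial.T (r i) :=
  orbitHom_X_of_diag hr v i

theorem isUnit_smul_T {c : k} (hc : c ≠ 0) (n : ℤ) : IsUnit (c • (LaurentPolynomial.T n : k[T;T⁻¹])) := by
  rw [LaurentPolynomial.smul_eq_C_mul]
  exact ((isUnit_iff_ne_zero.mpr hc).map LaurentPolynomial.C).mul (LaurentPolynomial.isUnit_T n)

/-- if all weights on the support are `≥ 0` and one is `> 0`, the orbit is not closed -/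
theorem gm_not_isClosedOrbit_of_nonneg {r : ι → ℤ}
    (hr : ∀ i : ι, HopfRep.Comod.coact (k := k) (A := k[T;T⁻¹]) (MvPolynomial.X i : MvPolynomial ι k) =
      (MvPolynomial.X i : MvPolynomial ι k) ⊗ₜ[k] (LaurentPolynomial.T (r i) : k[T;T⁻¹]))
    (v : ι → k) (hnn : ∀ i, v i ≠ 0 → 0 ≤ r i) (j : ι) (hj : v j ≠ 0) (hrj : 0 < r j) :
    ¬ GLin.IsClosedOrbit k k[T;T⁻¹] (GLin.vecPt k ι v) := by
  classical
  have hlim : GLin.IsLimit k k[T;T⁻¹] (BialgHom.id k k[T;T⁻¹]) (GLin.vecPt k ι v)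
      (GLin.vecPt k ι (fun i => if r i = 0 then v i else 0)) := by
    rw [isLimit_iff]
    refine ⟨fun i z hz => ?_, fun i => ?_⟩
    · rw [orbP_of_diag hr]
      by_cases hvi : v i = 0
      · simp [hvi]
      · have := hnn i hvi
        have hne : r i ≠ z := by omega
        simp [hne]
    · rw [orbP_of_diag hr]
      simp
  apply not_isClosedOrbit_of_inOrbitClosure (inOrbitClosure_of_isLimit hlim) (MvPolynomial.X j)
  · have : r j ≠ 0 := by omega
    simp [this]
  · rw [gm_orbitHom_X hr]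
    exact isUnit_smul_T hj _

theorem gm_not_isClosedOrbit_of_nonpos {r : ι → ℤ}
    (hr : ∀ i : ι, HopfRep.Comod.coact (k := k) (A := k[T;T⁻¹]) (MvPolynomial.X i : MvPolynomial ι k) =
      (MvPolynomial.X i : MvPolynomial ι k) ⊗ₜ[k] (LaurentPolynomial.T (r i) : k[T;T⁻¹]))
    (v : ι → k) (hnn : ∀ i, v i ≠ 0 → r i ≤ 0) (j : ι) (hj : v j ≠ 0) (hrj : r j < 0) :
    ¬ GLin.IsClosedOrbit k k[T;T⁻¹] (GLin.vecPt k ι v) := by
  classical
  have hlim : GLin.IsLimit k k[T;T⁻¹]
      (AddMonoidAlgebra.mapDomainBialgHom k (-(AddMonoidHom.id ℤ))) (GLin.vecPt k ι v)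
      (GLin.vecPt k ι (fun i => if r i = 0 then v i else 0)) := by
    have hT : ∀ i, (AddMonoidAlgebra.mapDomainBialgHom k (-(AddMonoidHom.id ℤ)))
        (LaurentPolynomial.T (r i) : k[T;T⁻¹]) = LaurentPolynomial.T (-(r i)) := by
      intro i
      unfold LaurentPolynomial.T
      rw [AddMonoidAlgebra.mapDomainBialgHom_single]
      rfl
    rw [isLimit_iff]
    refine ⟨fun i z hz => ?_, fun i => ?_⟩
    · rw [orbP_of_diag hr, hT]
      by_cases hvi : v i = 0
      · simp [hvi]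
      · have := hnn i hvi
        have hne : -(r i) ≠ z := by omega
        simp [hne]
    · rw [orbP_of_diag hr, hT]
      simp
  apply not_isClosedOrbit_of_inOrbitClosure (inOrbitClosure_of_isLimit hlim) (MvPolynomial.X j)
  · have : r j ≠ 0 := by omega
    simp [this]
  · rw [gm_orbitHom_X hr]
    exact isUnit_smul_T hj _

end Gm2


section LaurentInt
variable {k : Type u} [CommRing k] {S : Type v} [CommRing S]

/-- A ring map to the Laurent polynomials is integral as soon as `T` and `T⁻¹` are integral and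
constants are. -/
theorem isIntegral_to_laurent (f : S →+* k[T;T⁻¹])
    (hC : ∀ a : k, f.IsIntegralElem (LaurentPolynomial.C a))
    (h1 : f.IsIntegralElem (LaurentPolynomial.T 1))
    (h2 : f.IsIntegralElem (LaurentPolynomial.T (-1))) : f.IsIntegral := by
  intro y
  induction y using LaurentPolynomial.induction_on with
  | h_C a => exact hC a
  | h_add hp hq => exact RingHom.IsIntegralElem.add f hp hq
  | h_C_mul_T n a h =>
    have : (LaurentPolynomial.C a * LaurentPolynomial.T (n + 1) : k[T;T⁻¹]) =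
        (LaurentPolynomial.C a * LaurentPolynomial.T n) * LaurentPolynomial.T 1 := by
      rw [LaurentPolynomial.T_add, mul_assoc]
    rw [this]
    exact RingHom.IsIntegralElem.mul f h h1
  | h_C_mul_T_Z n a h =>
    have : (LaurentPolynomial.C a * LaurentPolynomial.T (-n - 1) : k[T;T⁻¹]) =
        (LaurentPolynomial.C a * LaurentPolynomial.T (-n)) * LaurentPolynomial.T (-1) := by
      rw [sub_eq_add_neg, LaurentPolynomial.T_add, mul_assoc]
    rw [this]
    exact RingHom.IsIntegralElem.mul f h h2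

theorem isIntegralElem_T_of_pow (f : S →+* k[T;T⁻¹]) (e : ℤ) (n : ℕ) (hn : n ≠ 0) (s : S)
    (hs : f s = LaurentPolynomial.T ((n : ℤ) * e)) : f.IsIntegralElem (LaurentPolynomial.T e) := by
  refine ⟨Polynomial.X ^ n - Polynomial.C s, Polynomial.monic_X_pow_sub_C s hn, ?_⟩
  rw [Polynomial.eval₂_sub, Polynomial.eval₂_pow, Polynomial.eval₂_X, Polynomial.eval₂_C, hs,
    LaurentPolynomial.T_pow, sub_self]

end LaurentInt

section Gm3
variable {k : Type u} [Field k]
  {ι : Type w} [Fintype ι] [HopfRep.Comod k k[T;T⁻¹] (MvPolynomial ι k)]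
  [GLin.IsCoactAlg k k[T;T⁻¹] (MvPolynomial ι k)]

theorem gm_isClosedOrbit_of_neg_pos {r : ι → ℤ}
    (hr : ∀ i : ι, HopfRep.Comod.coact (k := k) (A := k[T;T⁻¹]) (MvPolynomial.X i : MvPolynomial ι k) =
      (MvPolynomial.X i : MvPolynomial ι k) ⊗ₜ[k] (LaurentPolynomial.T (r i) : k[T;T⁻¹]))
    (v : ι → k) (i j : ι) (hi : v i ≠ 0) (hj : v j ≠ 0) (hri : r i < 0) (hrj : 0 < r j) :
    GLin.IsClosedOrbit k k[T;T⁻¹] (GLin.vecPt k ι v) := by
  unfold GLin.IsClosedOrbit
  have hX : ∀ l : ι, v l ≠ 0 → (GLin.orbitHom k k[T;T⁻¹] (GLin.vecPt k ι v)).toRingHom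
      ((v l)⁻¹ • MvPolynomial.X l) = LaurentPolynomial.T (r l) := by
    intro l hl
    change (GLin.orbitHom k k[T;T⁻¹] (GLin.vecPt k ι v)) ((v l)⁻¹ • MvPolynomial.X l) = _
    rw [map_smul, gm_orbitHom_X hr, smul_smul, inv_mul_cancel₀ hl, one_smul]
  have hint : (GLin.orbitHom k k[T;T⁻¹] (GLin.vecPt k ι v)).toRingHom.IsIntegral := by
    apply isIntegral_to_laurent
    · intro a
      have : (LaurentPolynomial.C a : k[T;T⁻¹]) =
          (GLin.orbitHom k k[T;T⁻¹] (GLin.vecPt k ι v)).toRingHom (MvPolynomial.C a) := by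
        change _ = (GLin.orbitHom k k[T;T⁻¹] (GLin.vecPt k ι v)) (MvPolynomial.C a)
        rw [LaurentPolynomial.C_eq_algebraMap, ← MvPolynomial.algebraMap_eq, AlgHom.commutes]
      rw [this]
      exact RingHom.isIntegralElem_map _
    · refine isIntegralElem_T_of_pow _ 1 (r j).toNat (by omega) _ ((hX j hj).trans ?_)
      congr 1
      rw [Int.toNat_of_nonneg hrj.le, mul_one]
    · refine isIntegralElem_T_of_pow _ (-1) (-(r i)).toNat (by omega) _ ((hX i hi).trans ?_)
      congr 1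
      rw [Int.toNat_of_nonneg (by omega)]
      ring
  rw [← Set.image_univ]
  exact PrimeSpectrum.isClosedMap_comap_of_isIntegral _ hint _ isClosed_univ

end Gm3


section LaurentFin
variable {k : Type u} [Field k]

/-- A quotient of the Laurent polynomial ring in which some `T^n`, `n > 0`, becomes `1` is finite. -/
theorem finite_laurent_quotient (I : Ideal k[T;T⁻¹]) (n : ℕ) (hn : 0 < n)
    (h : (LaurentPolynomial.T (n : ℤ) : k[T;T⁻¹]) - 1 ∈ I) : Module.Finite k (k[T;T⁻¹] ⧸ I) := by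
  have hT : Ideal.Quotient.mk I (LaurentPolynomial.T (n : ℤ)) = 1 := by
    rw [← sub_eq_zero, ← map_one (Ideal.Quotient.mk I), ← map_sub]
    exact Ideal.Quotient.eq_zero_iff_mem.mpr h
  have hT' : Ideal.Quotient.mk I (LaurentPolynomial.T (-(n : ℤ))) = 1 := by
    have : Ideal.Quotient.mk I (LaurentPolynomial.T (-(n : ℤ))) *
        Ideal.Quotient.mk I (LaurentPolynomial.T (n : ℤ)) = 1 := by
      rw [← map_mul, ← LaurentPolynomial.T_add, neg_add_cancel, LaurentPolynomial.T_zero, map_one]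
    rwa [hT, mul_one] at this
  have h1 : IsIntegral k (Ideal.Quotient.mk I (LaurentPolynomial.T 1)) := by
    apply IsIntegral.of_pow hn
    rw [← map_pow, LaurentPolynomial.T_pow, mul_one, hT]
    exact isIntegral_one
  have h2 : IsIntegral k (Ideal.Quotient.mk I (LaurentPolynomial.T (-1))) := by
    apply IsIntegral.of_pow hn
    rw [← map_pow, LaurentPolynomial.T_pow, mul_neg, mul_one, hT']
    exact isIntegral_one
  have hall : ∀ y : k[T;T⁻¹], IsIntegral k (Ideal.Quotient.mk I y) := by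
    intro y
    induction y using LaurentPolynomial.induction_on with
    | h_C a =>
      have : Ideal.Quotient.mk I (LaurentPolynomial.C a) = algebraMap k (k[T;T⁻¹] ⧸ I) a := by
        rw [LaurentPolynomial.C_eq_algebraMap]
        rfl
      rw [this]
      exact isIntegral_algebraMap
    | h_add hp hq =>
      rw [map_add]
      exact hp.add hq
    | h_C_mul_T m a h =>
      have : (LaurentPolynomial.C a * LaurentPolynomial.T (m + 1) : k[T;T⁻¹]) =
          (LaurentPolynomial.C a * LaurentPolynomial.T m) * LaurentPolynomial.T 1 := by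
        rw [LaurentPolynomial.T_add, mul_assoc]
      rw [this, map_mul]
      exact h.mul h1
    | h_C_mul_T_Z m a h =>
      have : (LaurentPolynomial.C a * LaurentPolynomial.T (-m - 1) : k[T;T⁻¹]) =
          (LaurentPolynomial.C a * LaurentPolynomial.T (-m)) * LaurentPolynomial.T (-1) := by
        rw [sub_eq_add_neg, LaurentPolynomial.T_add, mul_assoc]
      rw [this, map_mul]
      exact h.mul h2
  haveI : Algebra.IsIntegral k (k[T;T⁻¹] ⧸ I) := ⟨fun q => by
    obtain ⟨y, rfl⟩ := Ideal.Quotient.mk_surjective q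
    exact hall y⟩
  exact Algebra.IsIntegral.finite

theorem not_finite_laurent : ¬ Module.Finite k k[T;T⁻¹] := by
  intro hfin
  have h1 : IsIntegral k (LaurentPolynomial.T 1 : k[T;T⁻¹]) := IsIntegral.of_finite k _
  have h2 : IsAlgebraic k (Polynomial.toLaurentAlg (Polynomial.X : k[X])) := by
    rw [Polynomial.toLaurentAlg_apply, Polynomial.toLaurent_X]
    exact h1.isAlgebraic
  rw [isAlgebraic_algHom_iff _ Polynomial.toLaurent_injective] at h2
  exact Polynomial.transcendental_X k h2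

end LaurentFin


section Gm4
variable {k : Type u} [Field k]
  {ι : Type w} [Fintype ι] [HopfRep.Comod k k[T;T⁻¹] (MvPolynomial ι k)]
  [GLin.IsCoactAlg k k[T;T⁻¹] (MvPolynomial ι k)]

theorem gm_hasFiniteStab_of_pos {r : ι → ℤ}
    (hr : ∀ i : ι, HopfRep.Comod.coact (k := k) (A := k[T;T⁻¹]) (MvPolynomial.X i : MvPolynomial ι k) =
      (MvPolynomial.X i : MvPolynomial ι k) ⊗ₜ[k] (LaurentPolynomial.T (r i) : k[T;T⁻¹]))
    (v : ι → k) (j : ι) (hj : v j ≠ 0) (hrj : 0 < r j) :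
    GLin.HasFiniteStab k k[T;T⁻¹] (GLin.vecPt k ι v) := by
  unfold GLin.HasFiniteStab
  apply finite_laurent_quotient _ (r j).toNat (by omega)
  have h1 : (LaurentPolynomial.T ((r j).toNat : ℤ) : k[T;T⁻¹]) - 1 =
      GLin.orbitHom k k[T;T⁻¹] (GLin.vecPt k ι v) ((v j)⁻¹ • MvPolynomial.X j - 1) := by
    rw [map_sub, map_smul, gm_orbitHom_X hr, smul_smul, inv_mul_cancel₀ hj, one_smul, map_one,
      Int.toNat_of_nonneg hrj.le]
  rw [h1]
  apply Ideal.mem_map_of_mem
  rw [RingHom.mem_ker]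
  simp [inv_mul_cancel₀ hj]

theorem gm_not_hasFiniteStab_of_zero {r : ι → ℤ}
    (hr : ∀ i : ι, HopfRep.Comod.coact (k := k) (A := k[T;T⁻¹]) (MvPolynomial.X i : MvPolynomial ι k) =
      (MvPolynomial.X i : MvPolynomial ι k) ⊗ₜ[k] (LaurentPolynomial.T (r i) : k[T;T⁻¹]))
    (v : ι → k) (h0 : ∀ i, v i ≠ 0 → r i = 0) :
    ¬ GLin.HasFiniteStab k k[T;T⁻¹] (GLin.vecPt k ι v) := by
  have hfix : GLin.orbitHom k k[T;T⁻¹] (GLin.vecPt k ι v) =
      (Algebra.ofId k k[T;T⁻¹]).comp (GLin.vecPt k ι v) := by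
    apply MvPolynomial.algHom_ext
    intro l
    rw [gm_orbitHom_X hr]
    by_cases hl : v l = 0
    · simp [hl]
    · rw [h0 l hl, LaurentPolynomial.T_zero]
      simp [Algebra.ofId_apply, Algebra.algebraMap_eq_smul_one]
  have hbot : GLin.stabIdeal k k[T;T⁻¹] (GLin.vecPt k ι v) = ⊥ := by
    rw [eq_bot_iff]
    unfold GLin.stabIdeal
    rw [Ideal.map_le_iff_le_comap]
    intro F hF
    rw [Ideal.mem_comap, hfix]
    have : (GLin.vecPt k ι v) F = 0 := (RingHom.mem_ker).mp hF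
    rw [AlgHom.comp_apply, this, map_zero]
    exact Ideal.zero_mem _
  intro hfin
  unfold GLin.HasFiniteStab at hfin
  rw [hbot] at hfin
  exact not_finite_laurent (Module.Finite.equiv (AlgEquiv.quotientBot k k[T;T⁻¹]).toLinearEquiv)

theorem gm_isStableVec_iff {r : ι → ℤ}
    (hr : ∀ i : ι, HopfRep.Comod.coact (k := k) (A := k[T;T⁻¹]) (MvPolynomial.X i : MvPolynomial ι k) =
      (MvPolynomial.X i : MvPolynomial ι k) ⊗ₜ[k] (LaurentPolynomial.T (r i) : k[T;T⁻¹]))
    (v : ι → k) :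
    GLin.IsStableVec k k[T;T⁻¹] v ↔ ∃ i j : ι, v i ≠ 0 ∧ v j ≠ 0 ∧ r i < 0 ∧ 0 < r j := by
  constructor
  · rintro ⟨hcl, hfin⟩
    by_contra hc
    push Not at hc
    by_cases hA : ∃ i, v i ≠ 0 ∧ r i < 0
    · obtain ⟨i0, hi0, hri0⟩ := hA
      exact gm_not_isClosedOrbit_of_nonpos hr v (fun j hj => hc i0 j hi0 hj hri0) i0 hi0 hri0 hcl
    · push Not at hA
      by_cases hB : ∃ j, v j ≠ 0 ∧ 0 < r j
      · obtain ⟨j0, hj0, hrj0⟩ := hB
        exact gm_not_isClosedOrbit_of_nonneg hr v hA j0 hj0 hrj0 hcl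
      · push Not at hB
        exact gm_not_hasFiniteStab_of_zero hr v
          (fun i hi => le_antisymm (hB i hi) (hA i hi)) hfin
  · rintro ⟨i, j, hi, hj, hri, hrj⟩
    exact ⟨gm_isClosedOrbit_of_neg_pos hr v i j hi hj hri hrj, gm_hasFiniteStab_of_pos hr v j hj hrj⟩

end Gm4

end Groth.Agent.Lib.Helper25
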