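import Mathlib

namespace Groth.Agent.Lib.Helper24RadoHorn

open Module

variable {K V : Type*} [Field K] [AddCommGroup V] [Module K V] [FiniteDimensional K V]
variable {E : Type*} [DecidableEq E]

set_option linter.unusedSectionVars false

/-- Span of the vectors of elements of `J` that are allowed the colour `c`. -/
def colSpan (K : Type*) [Field K] {V : Type*} [AddCommGroup V] [Module K V] {E : Type*}
    (v : E → V) {k : ℕ} (A : E → Finset (Fin k)) (J : Finset E) (c : Fin k) : Submodule K V :=
  Submodule.span K (v '' {e | e ∈ J ∧ c ∈ A e})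

/-- The rank of `J` in the direct sum of `k` copies of the linear matroid, restricted to allowed
colours. -/
noncomputable def rk (K : Type*) [Field K] {V : Type*} [AddCommGroup V] [Module K V] {E : Type*}
    (v : E → V) {k : ℕ} (A : E → Finset (Fin k)) (J : Finset E) : ℕ :=
  ∑ c : Fin k, finrank K (colSpan K v A J c)

/-- Rado's condition. -/
def Rado (K : Type*) [Field K] {V : Type*} [AddCommGroup V] [Module K V] {E : Type*}
    (v : E → V) {k : ℕ} (A : E → Finset (Fin k)) : Prop :=
  ∀ J : Finset E, J.card ≤ rk K v A J

theorem colSpan_update_of_notMem (v : E → V) {k : ℕ} (A : E → Finset (Fin k)) (J : Finset E)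
    (e0 : E) (s : Finset (Fin k)) (h : e0 ∉ J) (c : Fin k) :
    colSpan K v (Function.update A e0 s) J c = colSpan K v A J c := by
  unfold colSpan
  congr 2
  ext e
  constructor
  · rintro ⟨he, hc⟩
    have : e ≠ e0 := fun h' => h (h' ▸ he)
    rw [Function.update_of_ne this] at hc
    exact ⟨he, hc⟩
  · rintro ⟨he, hc⟩
    have : e ≠ e0 := fun h' => h (h' ▸ he)
    refine ⟨he, ?_⟩
    rw [Function.update_of_ne this]
    exact hc

theorem rk_update_of_notMem (v : E → V) {k : ℕ} (A : E → Finset (Fin k)) (J : Finset E)
    (e0 : E) (s : Finset (Fin k)) (h : e0 ∉ J) :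
    rk K v (Function.update A e0 s) J = rk K v A J := by
  unfold rk
  exact Finset.sum_congr rfl (fun c _ => by rw [colSpan_update_of_notMem v A J e0 s h c])

theorem rado_step (v : E → V) {k : ℕ} (A : E → Finset (Fin k)) (hR : Rado K v A)
    (e0 : E) (c1 c2 : Fin k) (hc : c1 ≠ c2) (h1 : c1 ∈ A e0) (h2 : c2 ∈ A e0) :
    Rado K v (Function.update A e0 ((A e0).erase c1)) ∨
      Rado K v (Function.update A e0 ((A e0).erase c2)) := by
  by_contra hcon
  rw [not_or] at hcon
  obtain ⟨n1, n2⟩ := hcon
  unfold Rado at n1 n2
  push Not at n1 n2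
  obtain ⟨J1, hJ1⟩ := n1
  obtain ⟨J2, hJ2⟩ := n2
  have he1 : e0 ∈ J1 := by
    by_contra h
    rw [rk_update_of_notMem v A J1 e0 _ h] at hJ1
    exact absurd (hR J1) (not_le.2 hJ1)
  have he2 : e0 ∈ J2 := by
    by_contra h
    rw [rk_update_of_notMem v A J2 e0 _ h] at hJ2
    exact absurd (hR J2) (not_le.2 hJ2)
  set A1 := Function.update A e0 ((A e0).erase c1) with hA1
  set A2 := Function.update A e0 ((A e0).erase c2) with hA2
  have key : ∀ c : Fin k, finrank K (colSpan K v A (J1 ∪ J2) c) +
      finrank K (colSpan K v A ((J1 ∩ J2).erase e0) c) ≤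
      finrank K (colSpan K v A1 J1 c) + finrank K (colSpan K v A2 J2 c) := by
    intro c
    refine le_trans ?_ (le_of_eq (Submodule.finrank_sup_add_finrank_inf_eq
      (colSpan K v A1 J1 c) (colSpan K v A2 J2 c)))
    apply add_le_add
    · apply Submodule.finrank_mono
      unfold colSpan
      rw [Submodule.span_le]
      rintro _ ⟨e, ⟨heJ, hce⟩, rfl⟩
      by_cases hee : e = e0
      · subst hee
        by_cases hcc : c = c1
        · apply Submodule.mem_sup_right
          apply Submodule.subset_span
          refine ⟨e, ⟨he2, ?_⟩, rfl⟩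
          rw [hA2, Function.update_self, Finset.mem_erase]
          exact ⟨by rw [hcc]; exact hc, hce⟩
        · apply Submodule.mem_sup_left
          apply Submodule.subset_span
          refine ⟨e, ⟨he1, ?_⟩, rfl⟩
          rw [hA1, Function.update_self, Finset.mem_erase]
          exact ⟨hcc, hce⟩
      · rcases Finset.mem_union.1 heJ with h | h
        · apply Submodule.mem_sup_left
          apply Submodule.subset_span
          refine ⟨e, ⟨h, ?_⟩, rfl⟩
          rw [hA1, Function.update_of_ne hee]
          exact hce
        · apply Submodule.mem_sup_right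
          apply Submodule.subset_span
          refine ⟨e, ⟨h, ?_⟩, rfl⟩
          rw [hA2, Function.update_of_ne hee]
          exact hce
    · apply Submodule.finrank_mono
      unfold colSpan
      rw [Submodule.span_le]
      rintro _ ⟨e, ⟨heJ, hce⟩, rfl⟩
      rw [Finset.mem_erase, Finset.mem_inter] at heJ
      obtain ⟨hee, h1', h2'⟩ := heJ
      refine ⟨?_, ?_⟩
      · apply Submodule.subset_span
        refine ⟨e, ⟨h1', ?_⟩, rfl⟩
        rw [hA1, Function.update_of_ne hee]
        exact hce
      · apply Submodule.subset_span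
        refine ⟨e, ⟨h2', ?_⟩, rfl⟩
        rw [hA2, Function.update_of_ne hee]
        exact hce
  have hsum : rk K v A (J1 ∪ J2) + rk K v A ((J1 ∩ J2).erase e0) ≤
      rk K v A1 J1 + rk K v A2 J2 := by
    unfold rk
    rw [← Finset.sum_add_distrib, ← Finset.sum_add_distrib]
    exact Finset.sum_le_sum (fun c _ => key c)
  have hu := hR (J1 ∪ J2)
  have hi := hR ((J1 ∩ J2).erase e0)
  have hcard := Finset.card_union_add_card_inter J1 J2
  have hmem : e0 ∈ J1 ∩ J2 := Finset.mem_inter.2 ⟨he1, he2⟩
  rw [Finset.card_erase_of_mem hmem] at hi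
  have hpos : 0 < (J1 ∩ J2).card := Finset.card_pos.2 ⟨e0, hmem⟩
  omega


theorem rado_exists [Fintype E] (v : E → V) {k : ℕ} : ∀ (n : ℕ) (A : E → Finset (Fin k)),
    ∑ e, (A e).card = n → Rado K v A →
    ∃ f : E → Fin k, (∀ e, f e ∈ A e) ∧ Rado K v (fun e => {f e}) := by
  intro n
  induction n using Nat.strong_induction_on with
  | _ n ih =>
    intro A hn hR
    by_cases hbig : ∃ e0, 1 < (A e0).card
    · obtain ⟨e0, he0⟩ := hbig
      obtain ⟨c1, h1, c2, h2, hc⟩ := Finset.one_lt_card.1 he0
      have hlt : ∀ c ∈ A e0, ∑ e, (Function.update A e0 ((A e0).erase c) e).card < n := by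
        intro c hcA
        rw [← hn]
        apply Finset.sum_lt_sum
        · intro e _
          by_cases hee : e = e0
          · subst hee
            rw [Function.update_self]
            exact Finset.card_le_card (Finset.erase_subset _ _)
          · rw [Function.update_of_ne hee]
        · refine ⟨e0, Finset.mem_univ _, ?_⟩
          rw [Function.update_self]
          exact Finset.card_erase_lt_of_mem hcA
      have hsub : ∀ c e, Function.update A e0 ((A e0).erase c) e ⊆ A e := by
        intro c e
        by_cases hee : e = e0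
        · subst hee
          rw [Function.update_self]
          exact Finset.erase_subset _ _
        · rw [Function.update_of_ne hee]
      rcases rado_step v A hR e0 c1 c2 hc h1 h2 with h | h
      · obtain ⟨f, hf, hRf⟩ := ih _ (hlt c1 h1) _ rfl h
        exact ⟨f, fun e => hsub c1 e (hf e), hRf⟩
      · obtain ⟨f, hf, hRf⟩ := ih _ (hlt c2 h2) _ rfl h
        exact ⟨f, fun e => hsub c2 e (hf e), hRf⟩
    · push Not at hbig
      have hne : ∀ e, (A e).Nonempty := by
        intro e
        by_contra hemp
        rw [Finset.not_nonempty_iff_eq_empty] at hemp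
        have := hR {e}
        rw [Finset.card_singleton] at this
        unfold rk at this
        have h0 : ∀ c : Fin k, finrank K (colSpan K v A {e} c) = 0 := by
          intro c
          have : colSpan K v A {e} c = ⊥ := by
            unfold colSpan
            rw [Submodule.span_eq_bot]
            rintro _ ⟨e', ⟨he', hc'⟩, rfl⟩
            rw [Finset.mem_singleton] at he'
            subst he'
            rw [hemp] at hc'
            exact absurd hc' (Finset.notMem_empty _)
          rw [this, finrank_bot]
        rw [Finset.sum_eq_zero (fun c _ => h0 c)] at this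
        omega
      have hone : ∀ e, ∃ c, A e = {c} := by
        intro e
        apply Finset.card_eq_one.1
        have h1 := hbig e
        have h2 := Finset.card_pos.2 (hne e)
        omega
      choose f hf using hone
      refine ⟨f, fun e => by rw [hf e]; exact Finset.mem_singleton_self _, ?_⟩
      have : A = fun e => {f e} := funext hf
      rw [← this]
      exact hR

theorem radoHorn [Fintype E] (v : E → V) (k : ℕ)
    (h : ∀ J : Finset E, J.card ≤ k * finrank K (Submodule.span K (v '' (J : Set E)))) :
    ∃ f : E → Fin k, ∀ c, LinearIndependent K (fun e : {e // f e = c} => v e) := by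
  have hR : Rado K v (fun _ : E => (Finset.univ : Finset (Fin k))) := by
    intro J
    unfold rk
    have : ∀ c : Fin k, colSpan K v (fun _ : E => (Finset.univ : Finset (Fin k))) J c =
        Submodule.span K (v '' (J : Set E)) := by
      intro c
      unfold colSpan
      congr 2
      ext e
      simp
    rw [Finset.sum_congr rfl (fun c _ => by rw [this c]), Finset.sum_const, Finset.card_univ,
      Fintype.card_fin, smul_eq_mul]
    exact h J
  obtain ⟨f, -, hRf⟩ := rado_exists v _ _ rfl hR
  refine ⟨f, fun c0 => ?_⟩
  rw [linearIndependent_iff_card_le_finrank_span]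
  have hJ := hRf (Finset.univ.filter (fun e => f e = c0))
  unfold rk at hJ
  rw [Finset.sum_eq_single c0] at hJ
  · rw [Fintype.card_subtype]
    refine le_trans hJ (le_of_eq ?_)
    have hset : v '' {e | e ∈ Finset.univ.filter (fun e => f e = c0) ∧
        c0 ∈ (fun e => ({f e} : Finset (Fin k))) e} =
        Set.range (fun e : {e // f e = c0} => v e) := by
      ext y
      constructor
      · rintro ⟨e, ⟨he, -⟩, rfl⟩
        rw [Finset.mem_filter] at he
        exact ⟨⟨e, he.2⟩, rfl⟩
      · rintro ⟨⟨e, he⟩, rfl⟩
        exact ⟨e, ⟨Finset.mem_filter.2 ⟨Finset.mem_univ _, he⟩,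
          Finset.mem_singleton.2 he.symm⟩, rfl⟩
    unfold colSpan
    rw [Set.finrank, hset]
  · intro c _ hcc
    have : colSpan K v (fun e => ({f e} : Finset (Fin k))) (Finset.univ.filter (fun e => f e = c0)) c = ⊥ := by
      unfold colSpan
      rw [Submodule.span_eq_bot]
      rintro _ ⟨e, ⟨he, hc'⟩, rfl⟩
      rw [Finset.mem_filter] at he
      rw [Finset.mem_singleton] at hc'
      exact absurd (hc'.trans he.2) hcc
    rw [this, finrank_bot]
  · intro h'
    exact absurd (Finset.mem_univ _) h'

end Groth.Agent.Lib.Helper24RadoHorn
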