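import Mathlib
import Groth.Agent.Lib.Helper24RadoHornA

namespace Groth.Agent.Lib.Helper24RadoHorn

open Module

variable {K V : Type*} [Field K] [AddCommGroup V] [Module K V] [FiniteDimensional K V]
variable {ι : Type*} [Fintype ι] [DecidableEq ι]

/-- Weighted Rado–Horn: if every set `A` of indices has total weight at most `M · dim span`, the
indices, taken with multiplicities `w`, can be distributed into `M` independent sets. -/
theorem radoHorn_weighted (x : ι → V) (w : ι → ℕ) (M : ℕ)
    (h : ∀ A : Finset ι, ∑ j ∈ A, w j ≤ M * finrank K (Submodule.span K (x '' (A : Set ι)))) :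
    ∃ S : Fin M → Finset ι, (∀ c, LinearIndependent K (fun j : S c => x j)) ∧
      ∀ j, (Finset.univ.filter (fun c => j ∈ S c)).card = w j := by
  classical
  have hyp : ∀ J' : Finset ((j : ι) × Fin (w j)), J'.card ≤
      M * finrank K (Submodule.span K ((fun p : (j : ι) × Fin (w j) => x p.1) '' (J' : Set _))) := by
    intro J'
    have himg : (fun p : (j : ι) × Fin (w j) => x p.1) '' (J' : Set _) =
        x '' ((J'.image Sigma.fst : Finset ι) : Set ι) := by
      rw [Finset.coe_image, Set.image_image]
    rw [himg]
    refine le_trans ?_ (h (J'.image Sigma.fst))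
    have hsub : J' ⊆ (J'.image Sigma.fst).sigma (fun j => (Finset.univ : Finset (Fin (w j)))) := by
      intro p hp
      rw [Finset.mem_sigma]
      exact ⟨Finset.mem_image_of_mem _ hp, Finset.mem_univ _⟩
    refine le_trans (Finset.card_le_card hsub) (le_of_eq ?_)
    rw [Finset.card_sigma]
    exact Finset.sum_congr rfl (fun j _ => by rw [Finset.card_univ, Fintype.card_fin])
  obtain ⟨f, hf⟩ := radoHorn (K := K) (fun p : (j : ι) × Fin (w j) => x p.1) M hyp
  have hinj : ∀ p p' : (j : ι) × Fin (w j), f p = f p' → p.1 = p'.1 → p = p' := by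
    intro p p' hff h1
    have hb := (hf (f p')).injective
    have : (⟨p, hff⟩ : {e // f e = f p'}) = ⟨p', rfl⟩ := by
      apply hb
      show x p.1 = x p'.1
      rw [h1]
    exact congrArg Subtype.val this
  refine ⟨fun c => (Finset.univ.filter (fun p : (j : ι) × Fin (w j) => f p = c)).image Sigma.fst,
    ?_, ?_⟩
  · intro c
    have hex : ∀ j : ((Finset.univ.filter (fun p : (j : ι) × Fin (w j) => f p = c)).image
        Sigma.fst : Finset ι), ∃ p : {e // f e = c}, p.1.1 = j.1 := by
      rintro ⟨j, hj⟩
      rw [Finset.mem_image] at hj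
      obtain ⟨p, hp, hpj⟩ := hj
      rw [Finset.mem_filter] at hp
      exact ⟨⟨p, hp.2⟩, hpj⟩
    choose g hg using hex
    have hginj : Function.Injective g := by
      intro j j' hjj
      apply Subtype.ext
      rw [← hg j, ← hg j', hjj]
    have := (hf c).comp g hginj
    convert this using 1
    funext j
    show x j.1 = x (g j).1.1
    rw [hg j]
  · intro j
    have hset : (Finset.univ.filter (fun c => j ∈ (Finset.univ.filter
        (fun p : (j : ι) × Fin (w j) => f p = c)).image Sigma.fst)) =
        (Finset.univ : Finset (Fin (w j))).image (fun t => f ⟨j, t⟩) := by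
      ext c
      simp only [Finset.mem_filter, Finset.mem_univ, true_and, Finset.mem_image]
      constructor
      · rintro ⟨⟨j', t⟩, hp, rfl⟩
        exact ⟨t, hp⟩
      · rintro ⟨t, ht⟩
        exact ⟨⟨j, t⟩, ht, rfl⟩
    rw [hset, Finset.card_image_of_injective, Finset.card_univ, Fintype.card_fin]
    intro t t' htt
    have := hinj ⟨j, t⟩ ⟨j, t'⟩ htt rfl
    exact eq_of_heq (Sigma.mk.inj this).2

end Groth.Agent.Lib.Helper24RadoHorn
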