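import Mathlib
import Groth.Agent.Lib.Helper24RadoHornB

namespace Groth.Agent.Lib.Helper24RadoHorn

open Module

theorem sum_card_inter {ι : Type*} [DecidableEq ι] (P : Multiset (Finset ι)) (A : Finset ι) :
    (P.map (fun S => (S ∩ A).card)).sum =
      ∑ j ∈ A, Multiset.card (P.filter (fun S => j ∈ S)) := by
  induction P using Multiset.induction_on with
  | empty => simp
  | cons S P ih =>
    rw [Multiset.map_cons, Multiset.sum_cons, ih]
    have : ∀ j, Multiset.card ((S ::ₘ P).filter (fun S => j ∈ S)) =
        (if j ∈ S then 1 else 0) + Multiset.card (P.filter (fun S => j ∈ S)) := by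
      intro j
      by_cases hj : j ∈ S
      · rw [Multiset.filter_cons_of_pos (p := fun S => j ∈ S) P hj, Multiset.card_cons, if_pos hj,
          add_comm]
      · rw [Multiset.filter_cons_of_neg (p := fun S => j ∈ S) P hj, if_neg hj, zero_add]
    rw [Finset.sum_congr rfl (fun j _ => this j), Finset.sum_add_distrib]
    congr 1
    rw [← Finset.card_filter, Finset.filter_mem_eq_inter, Finset.inter_comm]

theorem sum_ite_add {n : ℕ} (i : Fin n) (N N₀ : ℕ) (h : N₀ ≤ N) :
    ∑ j : Fin n, (if j = i then N - N₀ else N) + N₀ = n * N := by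
  have h1 : ∀ j : Fin n, (if j = i then N - N₀ else N) + (if j = i then N₀ else 0) = N := by
    intro j
    split_ifs <;> omega
  have h2 : ∑ j : Fin n, ((if j = i then N - N₀ else N) + (if j = i then N₀ else 0)) = n * N := by
    rw [Finset.sum_congr rfl (fun j _ => h1 j), Finset.sum_const, Finset.card_univ,
      Fintype.card_fin, smul_eq_mul]
  rw [Finset.sum_add_distrib, Finset.sum_ite_eq' Finset.univ i, if_pos (Finset.mem_univ _)] at h2
  exact h2

theorem config_stable_iff {K : Type*} [Field K] {V : Type*} [AddCommGroup V] [Module K V]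
    [FiniteDimensional K V] (m : ℕ) (x : Fin (m + 1) → V) (hx : ∀ i, x i ≠ 0) :
    (∀ L : Submodule K V, L ≠ ⊥ → L ≠ ⊤ →
        Set.ncard {i : Fin (m + 1) | x i ∈ L} * Module.finrank K V <
          Module.finrank K L * (m + 1)) ↔
      ∃ N N₀ : ℕ, 0 < N₀ ∧ N₀ ≤ N ∧
        ∀ i : Fin (m + 1), ∃ P : Multiset (Finset (Fin (m + 1))), P ≠ 0 ∧
          (∀ S ∈ P, S.card = Module.finrank K V ∧ LinearIndependent K (fun j : S => x j)) ∧
          ∀ j : Fin (m + 1),
            Multiset.card (P.filter (fun S => j ∈ S)) = if j = i then N - N₀ else N := by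
  classical
  constructor
  · intro hst
    have hd : 0 < finrank K V := finrank_pos_iff_exists_ne_zero.2 ⟨x 0, hx 0⟩
    obtain ⟨d, hddef⟩ : ∃ d, d = finrank K V := ⟨_, rfl⟩
    rw [← hddef] at hd hst ⊢
    have hdd : d ≤ 2 * d * d := by nlinarith
    refine ⟨2 * d * d, d, hd, hdd, ?_⟩
    intro i
    obtain ⟨w, hw⟩ : ∃ w : Fin (m + 1) → ℕ, w = fun j => if j = i then 2 * d * d - d else 2 * d * d :=
      ⟨_, rfl⟩
    obtain ⟨M, hM⟩ : ∃ M, M = (m + 1) * 2 * d - 1 := ⟨_, rfl⟩
    have ha : 2 ≤ (m + 1) * 2 * d := by nlinarith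
    have hMd : M * d + d = (m + 1) * (2 * d * d) := by
      have : M + 1 = (m + 1) * 2 * d := by omega
      calc M * d + d = (M + 1) * d := by ring
        _ = (m + 1) * (2 * d * d) := by rw [this]; ring
    have hwsum : ∑ j, w j + d = (m + 1) * (2 * d * d) := by
      rw [hw]
      exact sum_ite_add i (2 * d * d) d hdd
    have hwle : ∀ j, w j ≤ 2 * d * d := by
      intro j
      rw [hw]
      dsimp only
      split_ifs <;> omega
    have hyp : ∀ A : Finset (Fin (m + 1)), ∑ j ∈ A, w j ≤
        M * finrank K (Submodule.span K (x '' (A : Set (Fin (m + 1))))) := by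
      intro A
      rcases A.eq_empty_or_nonempty with rfl | hAne
      · simp
      obtain ⟨L, hL⟩ : ∃ L, L = Submodule.span K (x '' (A : Set (Fin (m + 1)))) := ⟨_, rfl⟩
      rw [← hL]
      have hAL : ∀ j ∈ A, x j ∈ L := by
        intro j hj
        rw [hL]
        exact Submodule.subset_span ⟨j, hj, rfl⟩
      have hL0 : L ≠ ⊥ := by
        obtain ⟨j, hj⟩ := hAne
        intro h0
        have := hAL j hj
        rw [h0, Submodule.mem_bot] at this
        exact hx j this
      by_cases hLtop : L = ⊤
      · rw [hLtop, finrank_top, ← hddef]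
        have hws : ∑ j ∈ A, w j + d ≤ (m + 1) * (2 * d * d) := by
          rw [← hwsum]
          exact Nat.add_le_add_right (Finset.sum_le_sum_of_subset (Finset.subset_univ A)) d
        omega
      · have h1 := hst L hL0 hLtop
        have hA : A.card ≤ Set.ncard {i : Fin (m + 1) | x i ∈ L} := by
          rw [← Set.ncard_coe_finset A]
          exact Set.ncard_le_ncard (fun j hj => hAL j hj) (Set.toFinite _)
        have hr : finrank K L ≤ d := by rw [hddef]; exact Submodule.finrank_le L
        obtain ⟨r, hrdef⟩ : ∃ r, r = finrank K L := ⟨_, rfl⟩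
        rw [← hrdef] at h1 hr ⊢
        obtain ⟨nc, hnc⟩ : ∃ nc, nc = Set.ncard {i : Fin (m + 1) | x i ∈ L} := ⟨_, rfl⟩
        rw [← hnc] at h1 hA
        have h2 : ∑ j ∈ A, w j ≤ A.card * (2 * d * d) := by
          have := Finset.sum_le_card_nsmul A w (2 * d * d) (fun j _ => hwle j)
          rwa [smul_eq_mul] at this
        refine le_trans h2 ?_
        obtain ⟨a, hadef⟩ : ∃ a, a = A.card := ⟨_, rfl⟩
        rw [← hadef] at hA ⊢
        have h3 : a * d + 1 ≤ r * (m + 1) := by
          have : a * d ≤ nc * d := Nat.mul_le_mul_right d hA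
          omega
        apply Nat.le_of_mul_le_mul_left _ hd
        have e1 : d * (a * (2 * d * d)) + 2 * d * d = 2 * d * d * (a * d + 1) := by ring
        have e2 : 2 * d * d * (a * d + 1) ≤ 2 * d * d * (r * (m + 1)) :=
          Nat.mul_le_mul_left _ h3
        have e3 : d * (M * r) + r * d = r * ((m + 1) * (2 * d * d)) := by
          rw [← hMd]; ring
        have e4 : r * d ≤ d * d := Nat.mul_le_mul_right d hr
        have e5 : r * ((m + 1) * (2 * d * d)) = 2 * d * d * (r * (m + 1)) := by ring
        have e6 : d * d ≤ 2 * d * d := by nlinarith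
        omega
    obtain ⟨S, hSli, hScount⟩ := radoHorn_weighted (K := K) x w M hyp
    have hcard_le : ∀ c, (S c).card ≤ d := by
      intro c
      have := (hSli c).fintype_card_le_finrank
      rwa [Fintype.card_coe, ← hddef] at this
    have hsumcard : ∑ c, (S c).card = M * d := by
      have h1 : ∀ c, (S c).card = ∑ j : Fin (m + 1), if j ∈ S c then 1 else 0 := by
        intro c
        rw [← Finset.card_filter, Finset.filter_mem_eq_inter, Finset.univ_inter]
      rw [Finset.sum_congr rfl (fun c _ => h1 c), Finset.sum_comm]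
      have h2 : ∀ j : Fin (m + 1), ∑ c : Fin M, (if j ∈ S c then 1 else 0) = w j := by
        intro j
        rw [← Finset.card_filter]
        exact hScount j
      rw [Finset.sum_congr rfl (fun j _ => h2 j)]
      show ∑ j, w j = M * d
      omega
    refine ⟨(Finset.univ : Finset (Fin M)).val.map S, ?_, ?_, ?_⟩
    · intro h0
      have := congrArg Multiset.card h0
      rw [Multiset.card_map, Multiset.card_zero] at this
      have h' : (Finset.univ : Finset (Fin M)).card = 0 := this
      rw [Finset.card_univ, Fintype.card_fin] at h'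
      omega
    · intro S' hS'
      rw [Multiset.mem_map] at hS'
      obtain ⟨c, -, rfl⟩ := hS'
      refine ⟨?_, hSli c⟩
      by_contra hne
      have hlt : (S c).card < d := lt_of_le_of_ne (hcard_le c) hne
      have := Finset.sum_lt_sum (s := (Finset.univ : Finset (Fin M))) (f := fun c => (S c).card)
        (g := fun _ => d) (fun c _ => hcard_le c) ⟨c, Finset.mem_univ _, hlt⟩
      rw [Finset.sum_const, Finset.card_univ, Fintype.card_fin, smul_eq_mul, hsumcard] at this
      exact lt_irrefl _ this
    · intro j
      rw [Multiset.filter_map, Multiset.card_map]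
      have : Multiset.card (Multiset.filter ((fun S => j ∈ S) ∘ S) (Finset.univ : Finset (Fin M)).val) =
          (Finset.univ.filter (fun c => j ∈ S c)).card := by
        rw [Finset.card_def, Finset.filter_val]
        rfl
      rw [this, hScount j, hw]
  · rintro ⟨N, N₀, hN₀, hle, hP⟩ L hL0 hLtop
    obtain ⟨AL, hAL⟩ : ∃ AL : Finset (Fin (m + 1)), AL = Finset.univ.filter (fun j => x j ∈ L) :=
      ⟨_, rfl⟩
    have hnc : Set.ncard {i : Fin (m + 1) | x i ∈ L} = AL.card := by
      rw [← Set.ncard_coe_finset AL, hAL]
      congr 1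
      ext j
      simp
    rw [hnc]
    have hmemAL : ∀ j ∈ AL, x j ∈ L := by
      intro j hj
      rw [hAL, Finset.mem_filter] at hj
      exact hj.2
    have hl : 0 < finrank K L := by
      rw [Nat.pos_iff_ne_zero]
      intro h0
      exact hL0 (Submodule.finrank_eq_zero.1 h0)
    have hlt : finrank K L < finrank K V := Submodule.finrank_lt hLtop
    by_cases hall : ∀ j, x j ∈ L
    · exfalso
      obtain ⟨P, hP0, hPS, -⟩ := hP 0
      obtain ⟨S, hS⟩ := Multiset.exists_mem_of_ne_zero hP0
      obtain ⟨hc, hli⟩ := hPS S hS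
      have hli' : LinearIndependent K (fun j : S => (⟨x j, hall j⟩ : L)) :=
        LinearIndependent.of_comp L.subtype hli
      have := hli'.fintype_card_le_finrank
      rw [Fintype.card_coe] at this
      omega
    · push Not at hall
      obtain ⟨i, hi⟩ := hall
      obtain ⟨P, hP0, hPS, hPc⟩ := hP i
      have h1 : (P.map (fun S => (S ∩ AL).card)).sum = AL.card * N := by
        rw [sum_card_inter]
        have : ∀ j ∈ AL, Multiset.card (P.filter (fun S => j ∈ S)) = N := by
          intro j hj
          rw [hPc j, if_neg]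
          rintro rfl
          rw [hAL, Finset.mem_filter] at hj
          exact hi hj.2
        rw [Finset.sum_congr rfl this, Finset.sum_const, smul_eq_mul]
      have h2 : (P.map (fun S => (S ∩ AL).card)).sum ≤ Multiset.card P * finrank K L := by
        have := Multiset.sum_le_card_nsmul (P.map (fun S => (S ∩ AL).card)) (finrank K L) ?_
        · rwa [Multiset.card_map, smul_eq_mul] at this
        · intro n hn
          rw [Multiset.mem_map] at hn
          obtain ⟨S, hS, rfl⟩ := hn
          obtain ⟨-, hli⟩ := hPS S hS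
          have hinc : Function.Injective (fun j : ↥(S ∩ AL) =>
              (⟨j.1, (Finset.mem_inter.1 j.2).1⟩ : ↥S)) := by
            intro j j' hjj
            apply Subtype.ext
            have := congrArg Subtype.val hjj
            exact this
          have hli2 := hli.comp _ hinc
          have hmemL : ∀ j : ↥(S ∩ AL), x j.1 ∈ L := fun j =>
            hmemAL j.1 (Finset.mem_inter.1 j.2).2
          have hli3 : LinearIndependent K (fun j : ↥(S ∩ AL) => (⟨x j.1, hmemL j⟩ : L)) :=
            LinearIndependent.of_comp L.subtype hli2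
          have := hli3.fintype_card_le_finrank
          rwa [Fintype.card_coe] at this
      have h3 : Multiset.card P * finrank K V + N₀ = (m + 1) * N := by
        have hs := sum_card_inter P (Finset.univ : Finset (Fin (m + 1)))
        have hc : (P.map (fun S => (S ∩ Finset.univ).card)) =
            Multiset.replicate (Multiset.card P) (finrank K V) := by
          rw [Multiset.eq_replicate]
          refine ⟨by rw [Multiset.card_map], ?_⟩
          intro n hn
          rw [Multiset.mem_map] at hn
          obtain ⟨S, hS, rfl⟩ := hn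
          rw [Finset.inter_univ]
          exact (hPS S hS).1
        rw [hc, Multiset.sum_replicate, smul_eq_mul, Finset.sum_congr rfl (fun j _ => hPc j)] at hs
        rw [hs]
        exact sum_ite_add i N N₀ hle
      obtain ⟨a, hadef⟩ : ∃ a, a = AL.card := ⟨_, rfl⟩
      obtain ⟨l, hldef⟩ : ∃ l, l = finrank K L := ⟨_, rfl⟩
      obtain ⟨d, hddef⟩ : ∃ d, d = finrank K V := ⟨_, rfl⟩
      obtain ⟨Mp, hMp⟩ : ∃ Mp, Mp = Multiset.card P := ⟨_, rfl⟩
      rw [← hadef] at h1
      rw [← hldef, ← hMp] at h2
      rw [← hMp, ← hddef] at h3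
      rw [← hadef, ← hldef, ← hddef]
      rw [← hldef] at hl
      have hN : 0 < N := lt_of_lt_of_le hN₀ hle
      apply Nat.lt_of_mul_lt_mul_left (a := N)
      have e1 : N * (a * d) = (a * N) * d := by ring
      have e2 : (a * N) * d ≤ (Mp * l) * d := Nat.mul_le_mul_right d (h1 ▸ h2)
      have e3 : (Mp * l) * d + l * N₀ = l * ((m + 1) * N) := by rw [← h3]; ring
      have e4 : 0 < l * N₀ := Nat.mul_pos hl hN₀
      have e5 : N * (l * (m + 1)) = l * ((m + 1) * N) := by ring
      omega

end Groth.Agent.Lib.Helper24RadoHorn
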