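import Mathlib
import Groth.Prelude.Def_W4c1limliniiiiRamP1
import Groth.Agent.Lib.Helper24HomFin

namespace Groth.Agent.Lib.Helper24RamFin

open Polynomial Finset

section general
variable {R : Type*} [CommRing R]

/-- Coefficients of the Wronskian. -/
theorem coeff_wronskian (F G : R[X]) (m : ℕ) :
    (wronskian F G).coeff m = ∑ x ∈ antidiagonal (m + 1),
      ((x.2 : R) - (x.1 : R)) * F.coeff x.1 * G.coeff x.2 := by
  have h1 : ∑ x ∈ antidiagonal (m + 1), (x.2 : R) * F.coeff x.1 * G.coeff x.2
      = (F * derivative G).coeff m := by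
    rw [Finset.Nat.sum_antidiagonal_succ', coeff_mul]
    simp only [Nat.cast_zero, zero_mul, zero_add, coeff_derivative]
    refine Finset.sum_congr rfl fun x _ => ?_
    push_cast
    ring
  have h2 : ∑ x ∈ antidiagonal (m + 1), (x.1 : R) * F.coeff x.1 * G.coeff x.2
      = (derivative F * G).coeff m := by
    rw [Finset.Nat.sum_antidiagonal_succ, coeff_mul]
    simp only [Nat.cast_zero, zero_mul, zero_add, coeff_derivative]
    refine Finset.sum_congr rfl fun x _ => ?_
    push_cast
    ring
  rw [wronskian, coeff_sub, ← h1, ← h2, ← Finset.sum_sub_distrib]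
  refine Finset.sum_congr rfl fun x _ => ?_
  ring

theorem wronskian_comb (x y : R[X]) (a b c d : R) :
    wronskian (a • x + b • y) (c • x + d • y) = (a * d - b * c) • wronskian x y := by
  simp only [wronskian, derivative_add, smul_eq_C_mul, map_sub, map_mul,
    derivative_mul, derivative_C]
  ring

theorem wronskian_map {S : Type*} [CommRing S] (f : R →+* S) (F G : R[X]) :
    wronskian (F.map f) (G.map f) = (wronskian F G).map f := by
  simp only [wronskian, Polynomial.map_sub, Polynomial.map_mul, derivative_map]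

/-- A coefficient of a Wronskian to which only one pair of indices contributes. -/
theorem coeff_wronskian_single (s t : R[X]) (u v : ℕ)
    (h : ∀ i j, i + j = u + v → (i, j) ≠ (u, v) → s.coeff i = 0 ∨ t.coeff j = 0)
    (m : ℕ) (hm : m + 1 = u + v) :
    (wronskian s t).coeff m = ((v : R) - (u : R)) * s.coeff u * t.coeff v := by
  rw [coeff_wronskian]
  rw [Finset.sum_eq_single (u, v)]
  · rintro ⟨i, j⟩ hij hne
    rw [HasAntidiagonal.mem_antidiagonal] at hij
    dsimp only at hij ⊢
    rcases h i j (by omega) hne with h0 | h0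
    · rw [h0]; ring
    · rw [h0]; ring
  · intro h
    exfalso; apply h
    rw [HasAntidiagonal.mem_antidiagonal]; exact hm.symm

/-- The lowest possibly non-zero coefficient of a Wronskian. -/
theorem coeff_wronskian_trailing (s t : R[X]) (u v : ℕ)
    (hs : ∀ i < u, s.coeff i = 0) (ht : ∀ j < v, t.coeff j = 0) (m : ℕ) (hm : m + 1 = u + v) :
    (wronskian s t).coeff m = ((v : R) - (u : R)) * s.coeff u * t.coeff v := by
  apply coeff_wronskian_single s t u v _ m hm
  intro i j hij hne
  by_cases hi : i < u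
  · exact Or.inl (hs i hi)
  · by_cases hj : j < v
    · exact Or.inr (ht j hj)
    · exfalso; apply hne
      have : i = u := by omega
      have : j = v := by omega
      subst_vars; rfl

/-- The highest possibly non-zero coefficient of a Wronskian. -/
theorem coeff_wronskian_leading (s t : R[X]) (u v : ℕ)
    (hs : ∀ i, u < i → s.coeff i = 0) (ht : ∀ j, v < j → t.coeff j = 0) (m : ℕ)
    (hm : m + 1 = u + v) :
    (wronskian s t).coeff m = ((v : R) - (u : R)) * s.coeff u * t.coeff v := by
  apply coeff_wronskian_single s t u v _ m hm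
  intro i j hij hne
  by_cases hi : u < i
  · exact Or.inl (hs i hi)
  · by_cases hj : v < j
    · exact Or.inr (ht j hj)
    · exfalso; apply hne
      have : i = u := by omega
      have : j = v := by omega
      subst_vars; rfl

theorem wronskian_sub_C_mul (F G : R[X]) (c : R) :
    wronskian (F - C c * G) G = wronskian F G := by
  simp only [wronskian, derivative_sub, derivative_mul, derivative_C]
  ring

end general


section params
variable {R : Type*} [CommRing R]

/-- `X^N + ∑_{i<D} a_i X^i`. -/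
noncomputable def Npoly (N D : ℕ) (a : Fin D → R) : R[X] :=
  X ^ N + ∑ i : Fin D, C (a i) * X ^ (i : ℕ)

theorem coeff_Npoly (N D : ℕ) (a : Fin D → R) (j : ℕ) :
    (Npoly N D a).coeff j = (if j = N then 1 else 0) + (if h : j < D then a ⟨j, h⟩ else 0) := by
  classical
  rw [Npoly, coeff_add, coeff_X_pow, finset_sum_coeff]
  congr 1
  simp only [coeff_C_mul, coeff_X_pow]
  by_cases h : j < D
  · rw [dif_pos h, Finset.sum_eq_single (⟨j, h⟩ : Fin D)]
    · simp
    · intro i _ hi
      have : j ≠ (i : ℕ) := fun hji => hi (Fin.ext hji.symm)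
      simp [this]
    · intro h'; exact absurd (Finset.mem_univ _) h'
  · rw [dif_neg h]
    apply Finset.sum_eq_zero
    intro i _
    have : j ≠ (i : ℕ) := fun hji => h (hji ▸ i.2)
    simp [this]

theorem coeff_Npoly_lt {N D : ℕ} (hND : D ≤ N) (a : Fin D → R) (i : Fin D) :
    (Npoly N D a).coeff i = a i := by
  rw [coeff_Npoly, if_neg (by have := i.2; omega), dif_pos i.2, zero_add]

theorem coeff_Npoly_top {N D : ℕ} (hND : D ≤ N) (a : Fin D → R) :
    (Npoly N D a).coeff N = 1 := by
  rw [coeff_Npoly, if_pos rfl, dif_neg (by omega), add_zero]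

theorem coeff_Npoly_mid {N D : ℕ} (a : Fin D → R) (j : ℕ) (h1 : D ≤ j) (h2 : j ≠ N) :
    (Npoly N D a).coeff j = 0 := by
  rw [coeff_Npoly, if_neg h2, dif_neg (by omega), add_zero]

theorem Npoly_map {S : Type*} [CommRing S] (f : R →+* S) (N D : ℕ) (a : Fin D → R) :
    (Npoly N D a).map f = Npoly N D (fun i => f (a i)) := by
  simp [Npoly, Polynomial.map_sum]

theorem eq_Npoly {N D : ℕ} (hND : D ≤ N) (Q : R[X]) (h1 : Q.coeff N = 1)
    (h0 : ∀ j, D ≤ j → j ≠ N → Q.coeff j = 0) :
    Q = Npoly N D (fun i => Q.coeff i) := by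
  ext j
  rw [coeff_Npoly]
  by_cases hj : j = N
  · subst hj
    by_cases h : j < D
    · omega
    · rw [if_pos rfl, dif_neg h, add_zero, h1]
  · rw [if_neg hj, zero_add]
    by_cases h : j < D
    · rw [dif_pos h]
    · rw [dif_neg h]; exact h0 j (by omega) hj

end params


section homog
open MvPolynomial

variable {k : Type*} [Field k] {σ : Type*}

theorem isHomogeneous_coeff_wronskian (Q T : (MvPolynomial σ k)[X]) (N M : ℕ)
    (hQ : ∀ j, (Q.coeff j).IsHomogeneous (N - j)) (hQ0 : ∀ j, N < j → Q.coeff j = 0)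
    (hT : ∀ j, (T.coeff j).IsHomogeneous (M - j)) (hT0 : ∀ j, M < j → T.coeff j = 0)
    (m : ℕ) (hm : m + 1 ≤ N + M) :
    ((wronskian Q T).coeff m).IsHomogeneous (N + M - (m + 1)) := by
  rw [coeff_wronskian]
  apply IsHomogeneous.sum
  rintro ⟨i, j⟩ hij
  rw [HasAntidiagonal.mem_antidiagonal] at hij
  dsimp only at hij ⊢
  by_cases hi : N < i
  · rw [hQ0 i hi, mul_zero, zero_mul]; exact isHomogeneous_zero _ _ _
  by_cases hj : M < j
  · rw [hT0 j hj, mul_zero]; exact isHomogeneous_zero _ _ _
  have hc : ((j : MvPolynomial σ k) - (i : MvPolynomial σ k))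
      = MvPolynomial.C ((j : k) - (i : k)) := by
    simp
  rw [hc]
  have := ((isHomogeneous_C σ ((j : k) - (i : k))).mul (hQ i)).mul (hT j)
  have hdeg : 0 + (N - i) + (M - j) = N + M - (m + 1) := by omega
  rw [hdeg] at this
  exact this

theorem isHomogeneous_coeff_Npoly {N D : ℕ} (hND : D ≤ N) (a : Fin D → MvPolynomial σ k)
    (ha : ∀ i : Fin D, (a i).IsHomogeneous (N - i)) (j : ℕ) :
    ((Npoly N D a).coeff j).IsHomogeneous (N - j) := by
  rw [coeff_Npoly]
  by_cases hj : j = N
  · subst hj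
    rw [if_pos rfl, dif_neg (by omega), add_zero, Nat.sub_self]
    exact isHomogeneous_one _ _
  · rw [if_neg hj, zero_add]
    by_cases h : j < D
    · rw [dif_pos h]; exact ha ⟨j, h⟩
    · rw [dif_neg h]; exact isHomogeneous_zero _ _ _

theorem coeff_Npoly_gt {R : Type*} [CommRing R] {N D : ℕ} (hND : D ≤ N) (a : Fin D → R) (j : ℕ)
    (hj : N < j) : (Npoly N D a).coeff j = 0 :=
  coeff_Npoly_mid a j (by omega) (by omega)

end homog


section cone
variable {k : Type*} [Field k]

theorem natCast_sub_ne_zero (p : ℕ) [CharP k p] {N : ℕ} (hp : p = 0 ∨ N < p) {u v : ℕ}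
    (hu : u ≤ N) (hv : v ≤ N) (huv : u ≠ v) : ((v : k) - (u : k)) ≠ 0 := by
  intro h
  have h1 : (v : k) = (u : k) := sub_eq_zero.mp h
  rw [CharP.natCast_eq_natCast k p] at h1
  apply huv
  rcases hp with rfl | hp
  · exact (Nat.modEq_zero_iff.mp h1).symm
  · exact (Nat.ModEq.eq_of_lt_of_lt h1 (by omega) (by omega)).symm

/-- **Cone claim**: if all coefficients below `X^(2D)` of the Wronskian of a normalised pair vanish,
the pair is `(X^(D+1), X^D)`. -/
theorem cone (p : ℕ) [CharP k p] (D : ℕ) (hp : p = 0 ∨ D + 1 < p) (a b : Fin D → k)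
    (h : ∀ m, m < 2 * D → (wronskian (Npoly (D + 1) D a) (Npoly D D b)).coeff m = 0) :
    (∀ i, a i = 0) ∧ (∀ i, b i = 0) := by
  set F := Npoly (D + 1) D a with hF
  set G := Npoly D D b with hG
  have hGD : G.coeff D = 1 := coeff_Npoly_top le_rfl b
  have hG0 : G ≠ 0 := by
    intro h0; rw [h0, coeff_zero] at hGD; exact zero_ne_one hGD
  set v := G.natTrailingDegree with hv
  have hvD : v ≤ D := natTrailingDegree_le_of_ne_zero (by rw [hGD]; exact one_ne_zero)
  have hgv : G.coeff v ≠ 0 := by
    have := (trailingCoeff_nonzero_iff_nonzero (p := G)).mpr hG0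
    exact this
  set c := F.coeff v / G.coeff v with hc
  set F' := F - C c * G with hF'
  have hF'v : F'.coeff v = 0 := by
    rw [hF', coeff_sub, coeff_C_mul, hc, div_mul_cancel₀ _ hgv, sub_self]
  have hF'top : F'.coeff (D + 1) = 1 := by
    rw [hF', coeff_sub, coeff_C_mul, coeff_Npoly_top (Nat.le_succ D) a,
      coeff_Npoly_gt le_rfl b (D + 1) (Nat.lt_succ_self D), mul_zero, sub_zero]
  have hF'0 : F' ≠ 0 := by
    intro h0; rw [h0, coeff_zero] at hF'top; exact zero_ne_one hF'top
  set u := F'.natTrailingDegree with hu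
  have huD : u ≤ D + 1 := natTrailingDegree_le_of_ne_zero (by rw [hF'top]; exact one_ne_zero)
  have hfu : F'.coeff u ≠ 0 := (trailingCoeff_nonzero_iff_nonzero (p := F')).mpr hF'0
  have huv : u ≠ v := by
    intro huv; rw [huv] at hfu; exact hfu hF'v
  have hW : wronskian F' G = wronskian F G := wronskian_sub_C_mul F G c
  have huv1 : 1 ≤ u + v := by omega
  have hcoef := coeff_wronskian_trailing F' G u v
    (fun i hi => coeff_eq_zero_of_lt_natTrailingDegree hi)
    (fun j hj => coeff_eq_zero_of_lt_natTrailingDegree hj) (u + v - 1) (by omega)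
  have hne : (wronskian F G).coeff (u + v - 1) ≠ 0 := by
    rw [← hW, hcoef]
    exact mul_ne_zero (mul_ne_zero
      (natCast_sub_ne_zero p hp huD (by omega) huv) hfu) hgv
  have hge : 2 * D ≤ u + v - 1 := by
    by_contra hlt
    exact hne (h _ (by omega))
  have hvD' : v = D := by omega
  have huD' : u = D + 1 := by omega
  have hb : ∀ i, b i = 0 := by
    intro i
    rw [← coeff_Npoly_lt le_rfl b i]
    exact coeff_eq_zero_of_lt_natTrailingDegree (by rw [← hv, hvD']; exact i.2)
  refine ⟨fun i => ?_, hb⟩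
  have h1 : F'.coeff i = 0 :=
    coeff_eq_zero_of_lt_natTrailingDegree (by rw [← hu, huD']; have := i.2; omega)
  have h2 : G.coeff i = 0 :=
    coeff_eq_zero_of_lt_natTrailingDegree (by rw [← hv, hvD']; exact i.2)
  rw [hF', coeff_sub, coeff_C_mul, h2, mul_zero, sub_zero, coeff_Npoly_lt (Nat.le_succ D) a i] at h1
  exact h1

end cone


section step1
variable {k : Type*} [Field k]
open W4c1limliniiii

theorem linearIndependent_of_wronskian_ne_zero {x y : k[X]} (hw : wronskian x y ≠ 0) :
    LinearIndependent k ![x, y] := by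
  rw [LinearIndependent.pair_iff]
  intro s t hst
  constructor
  · have h := wronskian_comb x y s t 0 1
    rw [hst, wronskian_zero_left, mul_one, mul_zero, sub_zero] at h
    exact (smul_eq_zero.mp h.symm).resolve_right hw
  · have h := wronskian_comb x y 1 0 s t
    rw [hst, wronskian_zero_right, one_mul, zero_mul, sub_zero] at h
    exact (smul_eq_zero.mp h.symm).resolve_right hw

theorem eq_span_pair {V : Submodule k k[X]} (hfr : Module.finrank k V = 2) {x y : k[X]}
    (hx : x ∈ V) (hy : y ∈ V) (hli : LinearIndependent k ![x, y]) :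
    V = Submodule.span k {x, y} := by
  have hle : Submodule.span k {x, y} ≤ V := by
    rw [Submodule.span_le]
    intro z hz
    rcases hz with rfl | hz
    · exact hx
    · rw [Set.mem_singleton_iff] at hz; rw [hz]; exact hy
  haveI : FiniteDimensional k V := FiniteDimensional.of_finrank_pos (by omega)
  symm
  apply Submodule.eq_of_le_of_finrank_eq hle
  rw [hfr]
  have := finrank_span_eq_card hli
  rw [Matrix.range_cons, Matrix.range_cons, Matrix.range_empty, Set.union_empty,
    Set.singleton_union, Fintype.card_fin] at this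
  convert this

theorem pow_pred_dvd_wronskian {s t q : k[X]} {e : ℕ} (h : q ^ e ∣ s) :
    q ^ (e - 1) ∣ wronskian s t := by
  obtain ⟨r, rfl⟩ := h
  cases e with
  | zero => simp
  | succ e' =>
    refine ⟨q * r * derivative t
      - (C ((e' : k) + 1) * derivative q * r + q * derivative r) * t, ?_⟩
    simp only [wronskian, derivative_mul, derivative_pow_succ, Nat.add_sub_cancel]
    push_cast
    ring


/-- **Normal form**: every pencil in `ramMaps (D+1) P e` (with `∑ (e_i - 1) = 2D`) is spanned by a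
normalised pair whose Wronskian is `-∏ (X - P_i)^(e_i - 1)`. -/
theorem exists_normal_form {D n : ℕ} (P : Fin n → k) (hP : Function.Injective P) (e : Fin n → ℕ)
    (hsum : ∑ i, (e i - 1) = 2 * D) (V : Submodule k k[X]) (hV : V ∈ ramMaps (D + 1) P e) :
    ∃ a b : Fin D → k, V = Submodule.span k {Npoly (D + 1) D a, Npoly D D b} ∧
      wronskian (Npoly (D + 1) D a) (Npoly D D b) = - ∏ i, (X - C (P i)) ^ (e i - 1) := by
  obtain ⟨⟨hle, hfr, ⟨s₀, hs₀V, hs₀d⟩, -⟩, ⟨x, hx, y, hy, hw⟩, hram⟩ := hV
  set W₀ : k[X] := ∏ i, (X - C (P i)) ^ (e i - 1) with hW₀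
  have hW₀monic : W₀.Monic := monic_prod_of_monic _ _ (fun i _ => (monic_X_sub_C _).pow _)
  have hW₀deg : W₀.natDegree = 2 * D := by
    rw [hW₀, natDegree_prod_of_monic _ _ (fun i _ => (monic_X_sub_C _).pow _), ← hsum]
    refine Finset.sum_congr rfl fun i _ => ?_
    rw [natDegree_pow, natDegree_X_sub_C, mul_one]
  have hli := linearIndependent_of_wronskian_ne_zero hw
  have hVspan := eq_span_pair hfr hx hy hli
  have hrepr : ∀ z ∈ V, ∃ α β : k, α • x + β • y = z := by
    intro z hz; rw [hVspan] at hz; exact Submodule.mem_span_pair.mp hz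
  have hVdeg : ∀ z ∈ V, ∀ j, D + 1 < j → z.coeff j = 0 := by
    intro z hz j hj
    have := hle hz
    rw [mem_degreeLE] at this
    exact coeff_eq_zero_of_degree_lt (lt_of_le_of_lt this (WithBot.coe_lt_coe.mpr hj))
  -- the element of top degree
  obtain ⟨α₀, β₀, hs₀⟩ := hrepr s₀ hs₀V
  have hs₀ne : s₀ ≠ 0 := by
    intro h0; rw [h0, natDegree_zero] at hs₀d; omega
  set l := s₀.coeff (D + 1) with hl
  have hlne : l ≠ 0 := by
    rw [hl, ← hs₀d, coeff_natDegree]; exact leadingCoeff_ne_zero.mpr hs₀ne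
  set f := x.coeff (D + 1) with hf
  set g := y.coeff (D + 1) with hg
  have hlfg : α₀ * f + β₀ * g = l := by
    rw [hl, ← hs₀, coeff_add, coeff_smul, coeff_smul, smul_eq_mul, smul_eq_mul]
  set g₀ := g • x + (-f) • y with hg₀
  have hg₀V : g₀ ∈ V := V.add_mem (V.smul_mem _ hx) (V.smul_mem _ hy)
  have hg₀top : g₀.coeff (D + 1) = 0 := by
    rw [hg₀, coeff_add, coeff_smul, coeff_smul, smul_eq_mul, smul_eq_mul]; ring
  have hW₁ : wronskian s₀ g₀ = (-l) • wronskian x y := by
    rw [← hs₀, hg₀, wronskian_comb, ← hlfg]; congr 1; ring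
  -- divisibility at each point
  have hdvd_i : ∀ i, (X - C (P i)) ^ (e i - 1) ∣ wronskian x y := by
    intro i
    obtain ⟨⟨s, hsV, hsne, hmult⟩, -⟩ := hram i
    rw [le_rootMultiplicity_iff hsne] at hmult
    obtain ⟨α, β, hs⟩ := hrepr s hsV
    by_cases hα : α = 0
    · have hβ : β ≠ 0 := by
        rintro rfl; apply hsne; rw [← hs, hα]; simp
      have h1 := wronskian_comb x y 1 0 α β
      simp only [one_smul, zero_smul, add_zero, one_mul, zero_mul, sub_zero] at h1
      rw [hs] at h1
      have h2 : wronskian x y = β⁻¹ • wronskian x s := by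
        rw [h1, smul_smul, inv_mul_cancel₀ hβ, one_smul]
      rw [h2, smul_eq_C_mul, ← wronskian_neg_eq s x]
      exact (Dvd.dvd.mul_left ((dvd_neg).mpr (pow_pred_dvd_wronskian hmult)) _)
    · have h1 := wronskian_comb x y α β 0 1
      simp only [one_smul, zero_smul, zero_add, mul_one, mul_zero, sub_zero] at h1
      rw [hs] at h1
      have h2 : wronskian x y = α⁻¹ • wronskian s y := by
        rw [h1, smul_smul, inv_mul_cancel₀ hα, one_smul]
      rw [h2, smul_eq_C_mul]
      exact Dvd.dvd.mul_left (pow_pred_dvd_wronskian hmult) _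
  have hdvd : W₀ ∣ wronskian x y := by
    apply Finset.prod_dvd_of_coprime
    · intro i _ j _ hij
      exact ((pairwise_coprime_X_sub_C hP) hij).pow
    · intro i _; exact hdvd_i i
  have hg₀deg : g₀.natDegree ≤ D := by
    rw [natDegree_le_iff_coeff_eq_zero]
    intro N hN
    rcases Nat.lt_or_ge (D + 1) N with h | h
    · exact hVdeg g₀ hg₀V N h
    · have : N = D + 1 := by omega
      rw [this]; exact hg₀top
  have hW₁ne : wronskian s₀ g₀ ≠ 0 := by
    rw [hW₁]; exact smul_ne_zero (neg_ne_zero.mpr hlne) hw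
  have hlt := natDegree_wronskian_lt_add hW₁ne
  have hW₀dvd₁ : W₀ ∣ wronskian s₀ g₀ := by
    rw [hW₁, smul_eq_C_mul]; exact hdvd.mul_left _
  have hge := natDegree_le_of_dvd hW₀dvd₁ hW₁ne
  have hg₀D : g₀.natDegree = D := by omega
  have hW₁deg : (wronskian s₀ g₀).natDegree = 2 * D := by omega
  obtain ⟨q, hq⟩ := hW₀dvd₁
  have hq0 : q ≠ 0 := by
    rintro rfl; rw [mul_zero] at hq; exact hW₁ne hq
  have hqdeg : q.natDegree = 0 := by
    have := natDegree_mul hW₀monic.ne_zero hq0
    rw [← hq] at this; omega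
  obtain ⟨c, hc⟩ : ∃ c, q = C c := ⟨q.coeff 0, eq_C_of_natDegree_eq_zero hqdeg⟩
  -- normalise
  have hg₀ne : g₀ ≠ 0 := by
    intro h0; rw [h0, wronskian_zero_right] at hW₁ne; exact hW₁ne rfl
  set lg := g₀.coeff D with hlg
  have hlgne : lg ≠ 0 := by
    rw [hlg, ← hg₀D, coeff_natDegree]; exact leadingCoeff_ne_zero.mpr hg₀ne
  set G := lg⁻¹ • g₀ with hG
  set c₁ := l⁻¹ * s₀.coeff D with hc₁
  set F := l⁻¹ • s₀ + (-(c₁ * lg⁻¹)) • g₀ with hF
  have hFV : F ∈ V := V.add_mem (V.smul_mem _ hs₀V) (V.smul_mem _ hg₀V)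
  have hGV : G ∈ V := V.smul_mem _ hg₀V
  have hF_top : F.coeff (D + 1) = 1 := by
    rw [hF, coeff_add, coeff_smul, coeff_smul, hg₀top, ← hl, smul_eq_mul, smul_eq_mul, mul_zero,
      add_zero, inv_mul_cancel₀ hlne]
  have hF_D : F.coeff D = 0 := by
    rw [hF, coeff_add, coeff_smul, coeff_smul, ← hlg, smul_eq_mul, smul_eq_mul, ← hc₁,
      neg_mul, mul_assoc, inv_mul_cancel₀ hlgne, mul_one, add_neg_cancel]
  have hG_top : G.coeff D = 1 := by
    rw [hG, coeff_smul, ← hlg, smul_eq_mul, inv_mul_cancel₀ hlgne]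
  have hG_gt : ∀ j, D < j → G.coeff j = 0 := by
    intro j hj
    rw [hG, coeff_smul, coeff_eq_zero_of_natDegree_lt (by omega), smul_zero]
  have hFeq : F = Npoly (D + 1) D (fun i => F.coeff i) := by
    apply eq_Npoly (Nat.le_succ D) F hF_top
    intro j h1 h2
    rcases Nat.lt_or_ge (D + 1) j with h | h
    · exact hVdeg F hFV j h
    · have : j = D := by omega
      rw [this]; exact hF_D
  have hGeq : G = Npoly D D (fun i => G.coeff i) := by
    apply eq_Npoly le_rfl G hG_top
    intro j h1 h2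
    exact hG_gt j (by omega)
  have hWFG : wronskian F G = (l⁻¹ * lg⁻¹) • wronskian s₀ g₀ := by
    have := wronskian_comb s₀ g₀ l⁻¹ (-(c₁ * lg⁻¹)) 0 lg⁻¹
    simp only [zero_smul, zero_add, mul_zero, sub_zero] at this
    exact this
  have hWFGne : wronskian F G ≠ 0 := by
    rw [hWFG]; exact smul_ne_zero (mul_ne_zero (inv_ne_zero hlne) (inv_ne_zero hlgne)) hW₁ne
  have hWFG' : wronskian F G = C (l⁻¹ * lg⁻¹ * c) * W₀ := by
    rw [hWFG, hq, hc, smul_eq_C_mul, C_mul (a := l⁻¹ * lg⁻¹)]; ring
  have hlead : (wronskian F G).coeff (2 * D) = -1 := by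
    rw [hFeq, hGeq, coeff_wronskian_leading _ _ (D + 1) D
      (fun j hj => coeff_Npoly_gt (Nat.le_succ D) _ j hj)
      (fun j hj => coeff_Npoly_gt le_rfl _ j hj) (2 * D) (by omega),
      coeff_Npoly_top (Nat.le_succ D), coeff_Npoly_top le_rfl]
    push_cast; ring
  have hcm1 : l⁻¹ * lg⁻¹ * c = -1 := by
    have h2 := hlead
    rw [hWFG', coeff_C_mul, ← hW₀deg, hW₀monic.coeff_natDegree, mul_one] at h2
    exact h2
  refine ⟨fun i => F.coeff i, fun i => G.coeff i, ?_, ?_⟩
  · rw [← hFeq, ← hGeq]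
    exact eq_span_pair hfr hFV hGV (linearIndependent_of_wronskian_ne_zero hWFGne)
  · rw [← hFeq, ← hGeq, hWFG', hcm1]
    simp

end step1


section assembly
open W4c1limliniiii

variable (k : Type*) [Field k]

/-- The generic normalised polynomial of degree `D+1`, with weighted parameters. -/
noncomputable def Fgen (D : ℕ) : (MvPolynomial (Fin D ⊕ Fin D) k)[X] :=
  Npoly (D + 1) D (fun i => MvPolynomial.X (Sum.inl i) ^ (D + 1 - (i : ℕ)))

/-- The generic normalised polynomial of degree `D`, with weighted parameters. -/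
noncomputable def Ggen (D : ℕ) : (MvPolynomial (Fin D ⊕ Fin D) k)[X] :=
  Npoly D D (fun i => MvPolynomial.X (Sum.inr i) ^ (D - (i : ℕ)))

/-- The coefficients of the generic Wronskian. -/
noncomputable def Φ (D : ℕ) (m : Fin (2 * D)) : MvPolynomial (Fin D ⊕ Fin D) k :=
  (wronskian (Fgen k D) (Ggen k D)).coeff m

variable {k}

/-- Parameters of `F` attached to a point. -/
def aOf (D : ℕ) (y : Fin D ⊕ Fin D → k) : Fin D → k := fun i => y (Sum.inl i) ^ (D + 1 - (i : ℕ))

/-- Parameters of `G` attached to a point. -/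
def bOf (D : ℕ) (y : Fin D ⊕ Fin D → k) : Fin D → k := fun i => y (Sum.inr i) ^ (D - (i : ℕ))

theorem eval_Φ (D : ℕ) (y : Fin D ⊕ Fin D → k) (m : Fin (2 * D)) :
    MvPolynomial.eval y (Φ k D m)
      = (wronskian (Npoly (D + 1) D (aOf D y)) (Npoly D D (bOf D y))).coeff m := by
  rw [Φ, ← Polynomial.coeff_map, ← wronskian_map, Fgen, Ggen, Npoly_map, Npoly_map]
  simp only [map_pow, MvPolynomial.eval_X]
  rfl

theorem isHomogeneous_Φ (D : ℕ) (m : Fin (2 * D)) :
    (Φ k D m).IsHomogeneous (2 * D - m) := by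
  have := isHomogeneous_coeff_wronskian (Fgen k D) (Ggen k D) (D + 1) D
    (isHomogeneous_coeff_Npoly (Nat.le_succ D) _ (fun i => MvPolynomial.isHomogeneous_X_pow _ _))
    (coeff_Npoly_gt (Nat.le_succ D) _)
    (isHomogeneous_coeff_Npoly le_rfl _ (fun i => MvPolynomial.isHomogeneous_X_pow _ _))
    (coeff_Npoly_gt le_rfl _) m (by have := m.2; omega)
  have hd : D + 1 + D - ((m : ℕ) + 1) = 2 * D - m := by omega
  rw [hd] at this
  exact this

theorem ramMaps_finite [IsAlgClosed k] (p : ℕ) [CharP k p] (D n : ℕ) (P : Fin n → k)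
    (hP : Function.Injective P) (e : Fin n → ℕ) (hsum : ∑ i, (e i - 1) = 2 * D)
    (hp : p = 0 ∨ D + 1 < p) : (ramMaps (D + 1) P e).Finite := by
  set W₀ : k[X] := ∏ i, (X - C (P i)) ^ (e i - 1) with hW₀
  have hfin := Helper24HomFin.finite_solutions (Φ k D) (fun m => 2 * D - m)
    (fun m => by have := m.2; omega) (isHomogeneous_Φ D)
    (by
      intro y hy
      have hc := cone p D hp (aOf D y) (bOf D y)
        (fun m hm => by rw [← eval_Φ D y ⟨m, hm⟩]; exact hy ⟨m, hm⟩)
      funext z
      rcases z with i | i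
      · exact (pow_eq_zero_iff (by omega)).mp (hc.1 i)
      · exact (pow_eq_zero_iff (by have := i.2; omega)).mp (hc.2 i))
    (fun m => (-W₀).coeff m)
  apply (hfin.image
    (fun y => Submodule.span k {Npoly (D + 1) D (aOf D y), Npoly D D (bOf D y)})).subset
  intro V hV
  obtain ⟨a, b, hVspan, hW⟩ := exists_normal_form P hP e hsum V hV
  choose α hα using fun i : Fin D =>
    IsAlgClosed.exists_pow_nat_eq (a i) (show 0 < D + 1 - (i : ℕ) by omega)
  choose β hβ using fun i : Fin D =>
    IsAlgClosed.exists_pow_nat_eq (b i) (show 0 < D - (i : ℕ) by have := i.2; omega)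
  have ha : aOf D (Sum.elim α β) = a := by
    funext i; simp only [aOf, Sum.elim_inl]; exact hα i
  have hb : bOf D (Sum.elim α β) = b := by
    funext i; simp only [bOf, Sum.elim_inr]; exact hβ i
  refine ⟨Sum.elim α β, ?_, ?_⟩
  · intro m
    rw [eval_Φ, ha, hb, hW]
  · show Submodule.span k {Npoly (D + 1) D (aOf D (Sum.elim α β)),
      Npoly D D (bOf D (Sum.elim α β))} = V
    rw [ha, hb]; exact hVspan.symm

end assembly

end Groth.Agent.Lib.Helper24RamFin
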