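import Mathlib
import Groth.Prelude.Def_W4sga3xiixivxvCartan

/-!
# Relative Cartan subalgebras (SGA3 XIV), part A: characteristic polynomials on fibres (helper24)
-/

set_option autoImplicit false
set_option linter.unusedSectionVars false
universe u

namespace Groth.Agent.Lib.Helper24RelCartan

open scoped TensorProduct
open Polynomial

section Charpoly

variable {K : Type*} [CommRing K] [Nontrivial K] {V W : Type*}
  [AddCommGroup V] [Module K V] [Module.Free K V] [Module.Finite K V]
  [AddCommGroup W] [Module K W] [Module.Free K W] [Module.Finite K W]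

/-- characteristic polynomial of `G ∘ φ ∘ F` when `F ∘ G = id`. -/
lemma charpoly_conj_retract (F : V →ₗ[K] W) (G : W →ₗ[K] V) (φ : W →ₗ[K] W)
    (h : F ∘ₗ G = LinearMap.id) :
    X ^ Module.finrank K W * (G ∘ₗ φ ∘ₗ F).charpoly = X ^ Module.finrank K V * φ.charpoly := by
  classical
  let bV := Module.Free.chooseBasis K V
  let bW := Module.Free.chooseBasis K W
  have h1 := Matrix.charpoly_mul_comm' (LinearMap.toMatrix bW bV G)
    (LinearMap.toMatrix bV bW (φ ∘ₗ F))
  rw [← LinearMap.toMatrix_comp, ← LinearMap.toMatrix_comp, LinearMap.comp_assoc, h,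
    LinearMap.comp_id, LinearMap.charpoly_toMatrix, LinearMap.charpoly_toMatrix] at h1
  rw [Module.finrank_eq_card_chooseBasisIndex, Module.finrank_eq_card_chooseBasisIndex]
  exact h1

end Charpoly

section Fibre

variable {A : Type u} [CommRing A] {L : Type u} [LieRing L] [LieAlgebra A L]

/-- the adjoint action of `1 ⊗ a` on a base change is the base change of `ad a`. -/
lemma ad_one_tmul (κ : Type*) [CommRing κ] [Algebra A κ] (a : L) :
    LieAlgebra.ad κ (κ ⊗[A] L) ((1 : κ) ⊗ₜ[A] a) = (LieAlgebra.ad A L a).baseChange κ :=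
  LieModule.toEnd_baseChange (R := A) (A := κ) (L := L) (M := L) a

variable {n : ℕ} (f : (Fin n → A) →ₗ[A] L) (g : L →ₗ[A] (Fin n → A))

/-- the endomorphism `g ∘ ad a ∘ f` of `A^n`. -/
noncomputable def psi (a : L) : (Fin n → A) →ₗ[A] (Fin n → A) :=
  g ∘ₗ (LieAlgebra.ad A L a : L →ₗ[A] L) ∘ₗ f

variable [Module.Finite A L]

lemma charpoly_fibre (hfg : f ∘ₗ g = LinearMap.id) (a : L) (κ : Type*) [Field κ] [Algebra A κ] :
    X ^ Module.finrank κ (κ ⊗[A] L) * (psi f g a).charpoly.map (algebraMap A κ)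
      = X ^ n * (LieAlgebra.ad κ (κ ⊗[A] L) ((1 : κ) ⊗ₜ[A] a)).charpoly := by
  have hA : Nontrivial A := (algebraMap A κ).domain_nontrivial
  have h1 := charpoly_conj_retract (f.baseChange κ) (g.baseChange κ)
    ((LieAlgebra.ad A L a : L →ₗ[A] L).baseChange κ) (by
      rw [← LinearMap.baseChange_comp, hfg, LinearMap.baseChange_id])
  have e : Module.finrank κ (κ ⊗[A] (Fin n → A)) = n := by
    rw [Module.finrank_baseChange, Module.finrank_fin_fun]
  rw [← LinearMap.baseChange_comp, ← LinearMap.baseChange_comp, LinearMap.charpoly_baseChange,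
    e, ← ad_one_tmul] at h1
  exact h1

lemma finrank_fibre_le (hfg : f ∘ₗ g = LinearMap.id) (κ : Type*) [Field κ] [Algebra A κ] :
    Module.finrank κ (κ ⊗[A] L) ≤ n := by
  have hA : Nontrivial A := (algebraMap A κ).domain_nontrivial
  have hinj : Function.Injective (g.baseChange κ) := by
    apply Function.LeftInverse.injective (g := f.baseChange κ)
    intro x
    have : (f.baseChange κ ∘ₗ g.baseChange κ) x = x := by
      rw [← LinearMap.baseChange_comp, hfg, LinearMap.baseChange_id]; rfl
    exact this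
  have e : Module.finrank κ (κ ⊗[A] (Fin n → A)) = n := by
    rw [Module.finrank_baseChange, Module.finrank_fin_fun]
  have := LinearMap.finrank_le_finrank_of_injective hinj
  rwa [e] at this

lemma coeff_charpoly_fibre (hfg : f ∘ₗ g = LinearMap.id) (a : L) (κ : Type*) [Field κ]
    [Algebra A κ] (j : ℕ) :
    (LieAlgebra.ad κ (κ ⊗[A] L) ((1 : κ) ⊗ₜ[A] a)).charpoly.coeff j
      = algebraMap A κ ((psi f g a).charpoly.coeff (j + n - Module.finrank κ (κ ⊗[A] L))) := by
  have h1 := congrArg (fun p => Polynomial.coeff p (j + n)) (charpoly_fibre f g hfg a κ)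
  rw [Polynomial.coeff_X_pow_mul, Polynomial.coeff_X_pow_mul',
    if_pos (by have := finrank_fibre_le f g hfg κ; omega), Polynomial.coeff_map] at h1
  exact h1.symm

/-- regularity on the fibre at `q` in terms of a coefficient of the global polynomial. -/
lemma isRegular_fibre_iff (hfg : f ∘ₗ g = LinearMap.id) (a : L) (q : PrimeSpectrum A) :
    LieAlgebra.IsRegular q.asIdeal.ResidueField ((1 : q.asIdeal.ResidueField) ⊗ₜ[A] a) ↔
      (psi f g a).charpoly.coeff
        (LieAlgebra.rank q.asIdeal.ResidueField (q.asIdeal.ResidueField ⊗[A] L) + n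
          - Module.finrank q.asIdeal.ResidueField (q.asIdeal.ResidueField ⊗[A] L)) ∉ q.asIdeal := by
  rw [LieAlgebra.isRegular_def, coeff_charpoly_fibre f g hfg a, Ne,
    Ideal.algebraMap_residueField_eq_zero]

end Fibre

section Open

variable {A : Type u} [CommRing A] {L : Type u} [LieRing L] [LieAlgebra A L]
  [Module.Finite A L] [Module.Projective A L]

theorem isOpen_regular
    (hC0 : ∀ p : PrimeSpectrum A, ∃ f : A, f ∉ p.asIdeal ∧ ∀ q : PrimeSpectrum A, f ∉ q.asIdeal →
        LieAlgebra.rank q.asIdeal.ResidueField (q.asIdeal.ResidueField ⊗[A] L) =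
          LieAlgebra.rank p.asIdeal.ResidueField (p.asIdeal.ResidueField ⊗[A] L)) (a : L) :
    IsOpen {p : PrimeSpectrum A |
      LieAlgebra.IsRegular p.asIdeal.ResidueField ((1 : p.asIdeal.ResidueField) ⊗ₜ[A] a)} := by
  obtain ⟨n, f, g, -, -, hfg⟩ := Module.Finite.exists_comp_eq_id_of_projective A L
  rw [isOpen_iff_forall_mem_open]
  intro p hp
  obtain ⟨f0, hf0p, hf0⟩ := hC0 p
  have : Module.FinitePresentation A L := Module.finitePresentation_of_projective A L
  have hlc := Module.isLocallyConstant_rankAtStalk (R := A) (M := L)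
  set c := (psi f g a).charpoly.coeff
    (LieAlgebra.rank p.asIdeal.ResidueField (p.asIdeal.ResidueField ⊗[A] L) + n
      - Module.finrank p.asIdeal.ResidueField (p.asIdeal.ResidueField ⊗[A] L)) with hc
  have hd : ∀ q : PrimeSpectrum A, Module.rankAtStalk L q
      = Module.finrank q.asIdeal.ResidueField (q.asIdeal.ResidueField ⊗[A] L) :=
    fun q => Module.rankAtStalk_eq q
  refine ⟨((PrimeSpectrum.basicOpen f0 : Set (PrimeSpectrum A)) ∩
      (Module.rankAtStalk (R := A) L) ⁻¹' {Module.rankAtStalk L p}) ∩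
      (PrimeSpectrum.basicOpen c : Set (PrimeSpectrum A)), ?_, ?_, ?_⟩
  · rintro q ⟨⟨hq1, hq2⟩, hq3⟩
    rw [Set.mem_ofPred_eq, isRegular_fibre_iff f g hfg a q, hf0 q hq1]
    have : Module.rankAtStalk L q = Module.rankAtStalk L p := hq2
    rw [hd, hd] at this
    rw [this]
    exact hq3
  · exact ((PrimeSpectrum.basicOpen f0).2.inter (hlc.isOpen_fiber _)).inter
      (PrimeSpectrum.basicOpen c).2
  · refine ⟨⟨hf0p, rfl⟩, ?_⟩
    have := (isRegular_fibre_iff f g hfg a p).mp hp
    exact this

end Open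

end Groth.Agent.Lib.Helper24RelCartan
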