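import Mathlib
import Groth.Agent.Lib.Helper24RelCartanA

/-!
# Relative Cartan subalgebras (SGA3 XIV), part B: fibrewise criteria for nilpotency and
surjectivity, direct summands (helper24)
-/

set_option autoImplicit false
set_option linter.unusedSectionVars false
universe u

namespace Groth.Agent.Lib.Helper24RelCartan

open scoped TensorProduct
open Polynomial

section Nilp

variable {A : Type u} [CommRing A] {M : Type*} [AddCommGroup M] [Module A M]

/-- an endomorphism of `A^n` which is nilpotent on all fibres is nilpotent. -/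
lemma isNilpotent_of_fibres_free {n : ℕ} (ψ : Module.End A (Fin n → A))
    (h : ∀ p : PrimeSpectrum A, IsNilpotent (ψ.baseChange p.asIdeal.ResidueField)) :
    IsNilpotent ψ := by
  rcases subsingleton_or_nontrivial A with hA | hA
  · exact ⟨1, Subsingleton.elim _ _⟩
  -- the polynomial `charpoly ψ - X^n` is nilpotent
  have hN : IsNilpotent (ψ.charpoly - X ^ n) := by
    rw [Polynomial.isNilpotent_iff]
    intro i
    rw [nilpotent_iff_mem_prime]
    intro J hJ
    have h1 := (LinearMap.isNilpotent_iff_charpoly _).mp (h ⟨J, hJ⟩)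
    rw [LinearMap.charpoly_baseChange, Module.finrank_baseChange, Module.finrank_fin_fun] at h1
    have h2 := congrArg (fun q => Polynomial.coeff q i) h1
    simp only [Polynomial.coeff_map] at h2
    have h3 : algebraMap A (Ideal.ResidueField J) ((ψ.charpoly - X ^ n).coeff i) = 0 := by
      rw [Polynomial.coeff_sub, map_sub, h2, Polynomial.coeff_X_pow, Polynomial.coeff_X_pow]
      split_ifs <;> simp
    exact Ideal.algebraMap_residueField_eq_zero.mp h3
  have h0 : Polynomial.aeval ψ ψ.charpoly = 0 := LinearMap.aeval_self_charpoly ψ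
  have h4 : ψ ^ n = -(Polynomial.aeval ψ (ψ.charpoly - X ^ n)) := by
    rw [map_sub, h0, map_pow, Polynomial.aeval_X]; simp
  have h5 : IsNilpotent (ψ ^ n) := by
    rw [h4]
    exact (hN.map (Polynomial.aeval ψ)).neg
  obtain ⟨k, hk⟩ := h5
  exact ⟨n * k, by rw [pow_mul, hk]⟩

/-- powers of a conjugate through a retraction. -/
lemma pow_conj_retract {R : Type*} [CommRing R] {V W : Type*} [AddCommGroup V] [Module R V]
    [AddCommGroup W] [Module R W] (f : V →ₗ[R] W) (g : W →ₗ[R] V) (hfg : f ∘ₗ g = LinearMap.id)
    (φ : Module.End R W) (k : ℕ) :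
    (g ∘ₗ φ ∘ₗ f : Module.End R V) ^ (k + 1) = g ∘ₗ (φ ^ (k + 1)) ∘ₗ f := by
  have hfg' : ∀ x, f (g x) = x := fun x => by
    have := congrArg (fun F : W →ₗ[R] W => F x) hfg
    exact this
  induction k with
  | zero => rw [zero_add, pow_one, pow_one]
  | succ k ih =>
    rw [pow_succ, ih, pow_succ (n := k + 1)]
    ext x
    simp only [LinearMap.comp_apply, Module.End.mul_apply, hfg']

variable [Module.Finite A M] [Module.Projective A M]

/-- an endomorphism of a finite projective module which is nilpotent on all fibres is nilpotent. -/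
lemma isNilpotent_of_fibres (φ : Module.End A M)
    (h : ∀ p : PrimeSpectrum A, IsNilpotent (φ.baseChange p.asIdeal.ResidueField)) :
    IsNilpotent φ := by
  obtain ⟨n, f, g, -, -, hfg⟩ := Module.Finite.exists_comp_eq_id_of_projective A M
  have hfg' : ∀ x, f (g x) = x := fun x => by
    have := congrArg (fun F : M →ₗ[A] M => F x) hfg
    exact this
  have hψ : IsNilpotent (g ∘ₗ φ ∘ₗ f : Module.End A (Fin n → A)) := by
    apply isNilpotent_of_fibres_free
    intro p
    obtain ⟨m, hm⟩ := h p
    refine ⟨m + 1, ?_⟩
    have e : (g ∘ₗ φ ∘ₗ f).baseChange p.asIdeal.ResidueField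
        = (g.baseChange p.asIdeal.ResidueField) ∘ₗ (φ.baseChange p.asIdeal.ResidueField) ∘ₗ
          (f.baseChange p.asIdeal.ResidueField) := by
      rw [LinearMap.baseChange_comp, LinearMap.baseChange_comp]
    rw [e, pow_conj_retract _ _ (by rw [← LinearMap.baseChange_comp, hfg, LinearMap.baseChange_id]),
      pow_succ, hm]
    ext x
    simp
  obtain ⟨k, hk⟩ := hψ
  refine ⟨k + 1, ?_⟩
  have h1 : (g ∘ₗ φ ∘ₗ f : Module.End A (Fin n → A)) ^ (k + 1) = 0 := by
    rw [pow_succ, hk, zero_mul]
  rw [pow_conj_retract f g hfg] at h1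
  ext x
  have h2 := congrArg (fun F : Module.End A (Fin n → A) => f (F (g x))) h1
  simp only [LinearMap.comp_apply, hfg', LinearMap.zero_apply, map_zero] at h2
  exact h2

end Nilp

section Surj

variable {A : Type u} [CommRing A] {M N : Type*} [AddCommGroup M] [Module A M]
  [AddCommGroup N] [Module A N] [Module.Finite A N]

/-- a linear map into a finite module which is surjective on all fibres is surjective. -/
lemma surjective_of_fibres (φ : M →ₗ[A] N)
    (h : ∀ p : PrimeSpectrum A, Function.Surjective (φ.baseChange p.asIdeal.ResidueField)) :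
    Function.Surjective φ := by
  have hC : Subsingleton (N ⧸ LinearMap.range φ) := by
    rw [← Module.support_eq_empty_iff (R := A), Set.eq_empty_iff_forall_notMem]
    intro p hp
    rw [Module.mem_support_iff_nontrivial_residueField_tensorProduct] at hp
    apply not_subsingleton_iff_nontrivial.mpr hp
    refine ⟨fun y z => ?_⟩
    have key : ∀ w : p.asIdeal.ResidueField ⊗[A] (N ⧸ LinearMap.range φ), w = 0 := by
      intro w
      have hsurj : Function.Surjective
          ((LinearMap.range φ).mkQ.baseChange p.asIdeal.ResidueField) := by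
        rw [LinearMap.baseChange_eq_ltensor]
        exact LinearMap.lTensor_surjective _ (Submodule.mkQ_surjective _)
      obtain ⟨w₁, rfl⟩ := hsurj w
      obtain ⟨w₂, rfl⟩ := h p w₁
      have e : (LinearMap.range φ).mkQ ∘ₗ φ = 0 := by
        ext x
        simp
      have := congrArg (fun F => F w₂) (LinearMap.baseChange_comp (A := p.asIdeal.ResidueField)
        (f := φ) (LinearMap.range φ).mkQ)
      simp only [LinearMap.comp_apply] at this
      rw [← this, e, LinearMap.baseChange_zero]
      rfl
    rw [key y, key z]
  intro y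
  have : (LinearMap.range φ).mkQ y = 0 := Subsingleton.elim _ _
  rw [Submodule.mkQ_apply, Submodule.Quotient.mk_eq_zero] at this
  exact this

end Surj

section Summand

variable {A : Type u} [CommRing A] {M : Type*} [AddCommGroup M] [Module A M]
  (N : Submodule A M) [Module.Projective A (M ⧸ N)]

/-- a submodule with projective quotient has a retraction. -/
lemma exists_retraction : ∃ r : M →ₗ[A] N, ∀ x : N, r x = x := by
  obtain ⟨s, hs⟩ := Module.projective_lifting_property N.mkQ LinearMap.id
    (Submodule.mkQ_surjective N)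
  have hs' : ∀ y, N.mkQ (s y) = y := fun y => by
    have := congrArg (fun F : (M ⧸ N) →ₗ[A] (M ⧸ N) => F y) hs
    exact this
  have hmem : ∀ x : M, ((LinearMap.id : M →ₗ[A] M) - s ∘ₗ N.mkQ) x ∈ N := by
    intro x
    rw [← Submodule.Quotient.mk_eq_zero, LinearMap.sub_apply, Submodule.Quotient.mk_sub,
      LinearMap.id_apply, LinearMap.comp_apply, ← Submodule.mkQ_apply, ← Submodule.mkQ_apply, hs',
      sub_self]
  refine ⟨((LinearMap.id : M →ₗ[A] M) - s ∘ₗ N.mkQ).codRestrict N hmem, ?_⟩
  intro x
  ext
  rw [LinearMap.codRestrict_apply, LinearMap.sub_apply, LinearMap.id_apply, LinearMap.comp_apply]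
  have : N.mkQ (x : M) = 0 := by
    rw [Submodule.mkQ_apply, Submodule.Quotient.mk_eq_zero]
    exact x.2
  rw [this, map_zero, sub_zero]

lemma finite_of_projective_quotient [Module.Finite A M] : Module.Finite A N := by
  obtain ⟨r, hr⟩ := exists_retraction N
  exact Module.Finite.of_surjective r (fun x => ⟨x, hr x⟩)

lemma projective_of_projective_quotient [Module.Projective A M] : Module.Projective A N := by
  obtain ⟨r, hr⟩ := exists_retraction N
  exact Module.Projective.of_split N.subtype r (by ext x; simp [hr])

lemma baseChange_subtype_injective (κ : Type*) [CommRing κ] [Algebra A κ] :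
    Function.Injective (N.subtype.baseChange κ) := by
  obtain ⟨r, hr⟩ := exists_retraction N
  apply Function.LeftInverse.injective (g := r.baseChange κ)
  intro x
  have e : r ∘ₗ N.subtype = LinearMap.id := by ext x; simp [hr]
  have := congrArg (fun F => F x) (LinearMap.baseChange_comp (A := κ) (f := N.subtype) r)
  simp only [LinearMap.comp_apply] at this
  rw [← this, e, LinearMap.baseChange_id]
  rfl

omit [Module.Projective A (M ⧸ N)] in
lemma mem_range_baseChange_subtype_iff (κ : Type*) [CommRing κ] [Algebra A κ]
    (y : κ ⊗[A] M) :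
    y ∈ LinearMap.range (N.subtype.baseChange κ) ↔ N.mkQ.baseChange κ y = 0 := by
  have h := lTensor_exact κ (LinearMap.exact_subtype_mkQ N) (Submodule.mkQ_surjective N)
  have := h y
  rw [LinearMap.mem_range]
  exact this.symm

end Summand

end Groth.Agent.Lib.Helper24RelCartan
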