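import Mathlib
import Groth.Agent.Lib.Helper24RelCartanB

/-!
# Relative Cartan subalgebras (SGA3 XIV), part C: Lie algebras over a field: rank and regular
elements under extension of the base field, nilpotency of the Engel subalgebra of a regular
element (helper24)
-/

set_option autoImplicit false
set_option linter.unusedSectionVars false
universe u

namespace Groth.Agent.Lib.Helper24RelCartan

open scoped TensorProduct
open Polynomial LieSubalgebra

section Poly

lemma natTrailingDegree_map_of_injective {R S : Type*} [Semiring R] [Semiring S] (p : R[X])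
    {f : R →+* S} (hf : Function.Injective f) :
    (p.map f).natTrailingDegree = p.natTrailingDegree := by
  unfold natTrailingDegree trailingDegree
  rw [Polynomial.support_map_of_injective p hf]

end Poly

section BaseField

attribute [local instance 100] LieRing.ofAssociativeRing

variable (K K' : Type*) [Field K] [Field K'] [Algebra K K']
  (M : Type*) [LieRing M] [LieAlgebra K M] [Module.Finite K M]

lemma ad_baseChange_eq :
    ((LieAlgebra.ad K' (K' ⊗[K] M)).toLinearMap : (K' ⊗[K] M) →ₗ[K'] Module.End K' (K' ⊗[K] M))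
      = LinearMap.tensorProduct K K' M M ∘ₗ
          ((LieAlgebra.ad K M).toLinearMap : M →ₗ[K] Module.End K M).baseChange K' := by
  apply TensorProduct.AlgebraTensorModule.ext
  intro a x
  have h1 : (a ⊗ₜ[K] x : K' ⊗[K] M) = a • ((1 : K') ⊗ₜ[K] x) := by
    rw [TensorProduct.smul_tmul', smul_eq_mul, mul_one]
  rw [h1, map_smul, map_smul]
  congr 1
  rw [LinearMap.comp_apply, LinearMap.baseChange_tmul]
  have h2 : ((LieAlgebra.ad K' (K' ⊗[K] M)).toLinearMap ((1 : K') ⊗ₜ[K] x))
      = (LieAlgebra.ad K M x).baseChange K' :=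
    LieModule.toEnd_baseChange (R := K) (A := K') (L := M) (M := M) x
  rw [h2]
  apply LinearMap.ext
  intro y
  simp [LinearMap.tensorProduct]

lemma rank_baseChange : LieAlgebra.rank K' (K' ⊗[K] M) = LieAlgebra.rank K M := by
  classical
  let b := Module.Free.chooseBasis K M
  rw [LieAlgebra.rank_eq_natTrailingDegree K' (K' ⊗[K] M) (Algebra.TensorProduct.basis K' b),
    LieAlgebra.rank_eq_natTrailingDegree K M b, ad_baseChange_eq,
    LinearMap.polyCharpoly_baseChange, natTrailingDegree_map_of_injective]
  exact MvPolynomial.map_injective _ (algebraMap K K').injective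

variable {M} in
lemma ad_one_tmul' (x : M) :
    LieAlgebra.ad K' (K' ⊗[K] M) ((1 : K') ⊗ₜ[K] x) = (LieAlgebra.ad K M x).baseChange K' :=
  LieModule.toEnd_baseChange (R := K) (A := K') (L := M) (M := M) x

variable {M} in
lemma isRegular_baseChange_iff (x : M) :
    LieAlgebra.IsRegular K' ((1 : K') ⊗ₜ[K] x) ↔ LieAlgebra.IsRegular K x := by
  rw [LieAlgebra.isRegular_def, LieAlgebra.isRegular_def, rank_baseChange, ad_one_tmul',
    LinearMap.charpoly_baseChange, Polynomial.coeff_map]
  exact map_ne_zero_iff _ (algebraMap K K').injective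

end BaseField

section Nilpotent

open Cardinal Module LieAlgebra

variable (K : Type*) [Field K] {M : Type*} [LieRing M] [LieAlgebra K M] [Module.Finite K M]

/-- over a large enough field, the Engel subalgebra of a regular element is nilpotent
(this is the argument of `LieAlgebra.exists_isCartanSubalgebra_engel_of_finrank_le_card`). -/
lemma engel_isNilpotent_of_isRegular_of_card (h : finrank K M ≤ #K) (x : M)
    (hx : IsRegular K x) : LieRing.IsNilpotent (engel K x) := by
  apply isNilpotent_of_forall_le_engel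
  intro y hy
  set Ex : {engel K z | z ∈ engel K x} := ⟨engel K x, x, self_mem_engel _ _, rfl⟩
  suffices IsBot Ex from @this ⟨engel K y, y, hy, rfl⟩
  apply engel_isBot_of_isMin h (engel K x) Ex le_rfl
  rintro ⟨_, y, hy, rfl⟩ hyx
  suffices finrank K (engel K x) ≤ finrank K (engel K y) by
    suffices engel K y = engel K x from this.ge
    apply LieSubalgebra.toSubmodule_injective
    exact Submodule.eq_of_le_of_finrank_le hyx this
  rw [(isRegular_iff_finrank_engel_eq_rank K x).mp hx]
  apply rank_le_finrank_engel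

lemma tmul_mem_engel (K' : Type*) [Field K'] [Algebra K K'] (x y : M) (hy : y ∈ engel K x) :
    ((1 : K') ⊗ₜ[K] y : K' ⊗[K] M) ∈ engel K' ((1 : K') ⊗ₜ[K] x) := by
  rw [mem_engel_iff] at hy ⊢
  obtain ⟨n, hn⟩ := hy
  refine ⟨n, ?_⟩
  rw [ad_one_tmul', ← LinearMap.baseChange_pow, LinearMap.baseChange_tmul, hn,
    TensorProduct.tmul_zero]

/-- over any field, the Engel subalgebra of a regular element is contained in the Engel
subalgebra of each of its elements. -/
lemma engel_le_engel_of_isRegular (x : M) (hx : IsRegular K x) (y : M) (hy : y ∈ engel K x) :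
    engel K x ≤ engel K y := by
  let K' := AlgebraicClosure K
  have hx' : IsRegular K' ((1 : K') ⊗ₜ[K] x) := (isRegular_baseChange_iff K K' x).mpr hx
  have hcard : finrank K' (K' ⊗[K] M) ≤ #K' :=
    natCast_le_aleph0.trans (Cardinal.infinite_iff.mp inferInstance)
  have hnil := engel_isNilpotent_of_isRegular_of_card K' hcard _ hx'
  obtain ⟨k, hk⟩ := LieAlgebra.nilpotent_ad_of_nilpotent_algebra K'
    (engel K' ((1 : K') ⊗ₜ[K] x))
  intro z hz
  rw [mem_engel_iff]
  refine ⟨k, ?_⟩
  have h1 := congrArg (fun F => ((F ⟨(1 : K') ⊗ₜ[K] z, tmul_mem_engel K K' x z hz⟩ :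
      engel K' ((1 : K') ⊗ₜ[K] x)) : K' ⊗[K] M))
    (hk ⟨(1 : K') ⊗ₜ[K] y, tmul_mem_engel K K' x y hy⟩)
  simp only [LieSubalgebra.coe_ad_pow, LinearMap.zero_apply, ZeroMemClass.coe_zero] at h1
  rw [ad_one_tmul', ← LinearMap.baseChange_pow, LinearMap.baseChange_tmul] at h1
  have hinj := Module.Flat.tensorProduct_mk_injective K M K'
  apply hinj
  rw [map_zero]
  exact h1

/-- over any field, the Engel subalgebra of a regular element is nilpotent. -/
lemma engel_isNilpotent_of_isRegular (x : M) (hx : IsRegular K x) :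
    LieRing.IsNilpotent (engel K x) := by
  apply isNilpotent_of_forall_le_engel
  intro y hy
  exact engel_le_engel_of_isRegular K x hx y hy

/-- a subspace of nilpotent type of dimension the rank, for a regular element. -/
lemma submodule_eq_engel (x : M) (hx : IsRegular K x) (N : Submodule K M)
    (hN : ∀ y ∈ N, ∃ n : ℕ, ((ad K M x) ^ n) y = 0) (hdim : finrank K N = rank K M) :
    N = (engel K x).toSubmodule := by
  apply Submodule.eq_of_le_of_finrank_eq
  · intro y hy
    exact (mem_engel_iff K x y).mpr (hN y hy)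
  · rw [hdim]
    exact ((isRegular_iff_finrank_engel_eq_rank K x).mp hx).symm

/-- Fitting decomposition for `ad x`. -/
lemma exists_lie_sub_mem_engel (x y : M) : ∃ z : M, ⁅x, z⁆ - y ∈ engel K x := by
  have hc := (ad K M x).isCompl_iSup_ker_pow_iInf_range_pow
  have hy : y ∈ (⨆ n, LinearMap.ker ((ad K M x) ^ n)) ⊔ (⨅ n, LinearMap.range ((ad K M x) ^ n)) := by
    rw [hc.sup_eq_top]; trivial
  obtain ⟨e, he, r, hr, rfl⟩ := Submodule.mem_sup.mp hy
  have he' : e ∈ engel K x := by
    rw [mem_engel_iff]
    have hdir : Directed (· ≤ ·) fun n => LinearMap.ker ((ad K M x) ^ n) := by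
      apply Monotone.directed_le
      intro m n hmn z hz
      rw [LinearMap.mem_ker] at hz ⊢
      exact Module.End.pow_map_zero_of_le hmn hz
    obtain ⟨n, hn⟩ := (Submodule.mem_iSup_of_directed _ hdir).mp he
    exact ⟨n, hn⟩
  have hr1 : r ∈ LinearMap.range ((ad K M x) ^ 1) := (Submodule.mem_iInf _).mp hr 1
  obtain ⟨z, hz⟩ := hr1
  rw [pow_one] at hz
  refine ⟨z, ?_⟩
  have : ⁅x, z⁆ - (e + r) = -e := by
    rw [← hz]
    simp
  rw [this]
  exact neg_mem he'

end Nilpotent

end Groth.Agent.Lib.Helper24RelCartan
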