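import Mathlib
import Groth.Agent.Lib.Helper24RelCartanC

/-!
# Relative Cartan subalgebras (SGA3 XIV), part D: a relative Cartan subalgebra containing a
quasi-regular element is its Engel subalgebra (helper24)
-/

set_option autoImplicit false
set_option linter.unusedSectionVars false
set_option linter.style.haveILetI false
universe u

namespace Groth.Agent.Lib.Helper24RelCartan

open scoped TensorProduct
open Polynomial LieSubalgebra

section Iota

variable {A : Type u} [CommRing A] {L : Type u} [LieRing L] [LieAlgebra A L]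
variable (κ : Type u) [CommRing κ] [Algebra A κ] (E : LieSubalgebra A L)

/-- the map `κ ⊗ E → κ ⊗ L`. -/
noncomputable def iota : κ ⊗[A] E →ₗ[κ] κ ⊗[A] L :=
  (E.toSubmodule.subtype).baseChange κ

lemma iota_tmul (t : κ) (h : E) : iota κ E (t ⊗ₜ[A] h) = t ⊗ₜ[A] (h : L) := rfl

lemma range_iota : LinearMap.range (iota κ E) = (E.toSubmodule).baseChange κ := rfl

lemma iota_ad (x y : κ ⊗[A] E) :
    iota κ E (LieAlgebra.ad κ (κ ⊗[A] E) x y)
      = LieAlgebra.ad κ (κ ⊗[A] L) (iota κ E x) (iota κ E y) :=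
  (LieAlgebra.ExtendScalars.map (AlgHom.id A κ) E.incl).map_lie x y

lemma iota_ad_pow' (x : κ ⊗[A] E) (n : ℕ) (y : κ ⊗[A] E) :
    iota κ E (((LieAlgebra.ad κ (κ ⊗[A] E) x) ^ n) y)
      = ((LieAlgebra.ad κ (κ ⊗[A] L) (iota κ E x)) ^ n) (iota κ E y) := by
  induction n generalizing y with
  | zero => rfl
  | succ n ih =>
    rw [pow_succ, pow_succ, Module.End.mul_apply, Module.End.mul_apply, ih, iota_ad]

lemma iota_ad_pow (a : L) (ha : a ∈ E) (n : ℕ) (y : κ ⊗[A] E) :
    iota κ E (((LieAlgebra.ad κ (κ ⊗[A] E) ((1 : κ) ⊗ₜ[A] (⟨a, ha⟩ : E))) ^ n) y)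
      = ((LieAlgebra.ad κ (κ ⊗[A] L) ((1 : κ) ⊗ₜ[A] a)) ^ n) (iota κ E y) :=
  iota_ad_pow' κ E _ n y

end Iota

section Quot

variable {A : Type u} [CommRing A] {L : Type u} [LieRing L] [LieAlgebra A L]
variable (E : LieSubalgebra A L) (a : L) (ha : a ∈ E)

include ha in
lemma le_comap_ad :
    E.toSubmodule ≤ E.toSubmodule.comap (LieAlgebra.ad A L a : L →ₗ[A] L) := by
  intro h hh
  exact E.lie_mem ha hh

/-- the endomorphism of `L / E` induced by `ad a`. -/
noncomputable def dbar : (L ⧸ E.toSubmodule) →ₗ[A] (L ⧸ E.toSubmodule) :=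
  E.toSubmodule.mapQ E.toSubmodule (LieAlgebra.ad A L a : L →ₗ[A] L) (le_comap_ad E a ha)

lemma dbar_comp_mkQ :
    (dbar E a ha) ∘ₗ E.toSubmodule.mkQ = E.toSubmodule.mkQ ∘ₗ (LieAlgebra.ad A L a : L →ₗ[A] L) :=
  Submodule.mapQ_mkQ _ _ _

lemma dbar_pow_comp_mkQ (n : ℕ) :
    ((dbar E a ha) ^ n) ∘ₗ E.toSubmodule.mkQ
      = E.toSubmodule.mkQ ∘ₗ ((LieAlgebra.ad A L a : L →ₗ[A] L) ^ n) := by
  induction n with
  | zero => rfl
  | succ n ih =>
    rw [pow_succ, pow_succ, Module.End.mul_eq_comp, Module.End.mul_eq_comp, LinearMap.comp_assoc,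
      dbar_comp_mkQ, ← LinearMap.comp_assoc, ih, LinearMap.comp_assoc]

/-- if `ad a` is surjective modulo `E` then the Engel subalgebra of `a` is contained in `E`. -/
lemma engel_le_of_surjective [Module.Finite A L] (hs : Function.Surjective (dbar E a ha)) :
    engel A a ≤ E := by
  have hinj : Function.Injective (dbar E a ha) :=
    OrzechProperty.injective_of_surjective_endomorphism _ hs
  intro x hx
  rw [mem_engel_iff] at hx
  obtain ⟨n, hn⟩ := hx
  have h1 := congrArg (fun F => F x) (dbar_pow_comp_mkQ E a ha n)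
  simp only [LinearMap.comp_apply, hn, map_zero] at h1
  have hinjn : Function.Injective ((dbar E a ha) ^ n) := by
    rw [Module.End.coe_pow]
    exact hinj.iterate n
  have h2 : E.toSubmodule.mkQ x = 0 := hinjn (by rw [h1, map_zero])
  rw [Submodule.mkQ_apply, Submodule.Quotient.mk_eq_zero] at h2
  exact h2

variable (κ : Type u) [Field κ] [Algebra A κ]

lemma dbar_baseChange_comp :
    ((dbar E a ha).baseChange κ) ∘ₗ (E.toSubmodule.mkQ.baseChange κ)
      = (E.toSubmodule.mkQ.baseChange κ) ∘ₗ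
          (LieAlgebra.ad κ (κ ⊗[A] L) ((1 : κ) ⊗ₜ[A] a) : (κ ⊗[A] L) →ₗ[κ] (κ ⊗[A] L)) := by
  rw [ad_one_tmul, ← LinearMap.baseChange_comp, ← LinearMap.baseChange_comp, dbar_comp_mkQ]

lemma dbar_baseChange_pow_comp (n : ℕ) :
    (((dbar E a ha).baseChange κ) ^ n) ∘ₗ (E.toSubmodule.mkQ.baseChange κ)
      = (E.toSubmodule.mkQ.baseChange κ) ∘ₗ
          ((LieAlgebra.ad κ (κ ⊗[A] L) ((1 : κ) ⊗ₜ[A] a) : (κ ⊗[A] L) →ₗ[κ] (κ ⊗[A] L)) ^ n) := by
  rw [ad_one_tmul, ← LinearMap.baseChange_pow, ← LinearMap.baseChange_pow,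
    ← LinearMap.baseChange_comp, ← LinearMap.baseChange_comp, dbar_pow_comp_mkQ]

lemma mkQ_baseChange_surjective :
    Function.Surjective (E.toSubmodule.mkQ.baseChange κ) := by
  rw [LinearMap.baseChange_eq_ltensor]
  exact LinearMap.lTensor_surjective _ (Submodule.mkQ_surjective _)

lemma mem_range_iota_iff (y : κ ⊗[A] L) :
    y ∈ LinearMap.range (iota κ E) ↔ E.toSubmodule.mkQ.baseChange κ y = 0 :=
  mem_range_baseChange_subtype_iff E.toSubmodule κ y

/-- D1: nilpotency of `ad a` on `E` gives `E(κ) ≤ engel`. -/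
lemma pow_ad_eq_zero_of_mem_range_iota (k : ℕ)
    (hk : (LieAlgebra.ad A E (⟨a, ha⟩ : E)) ^ k = 0) (y : κ ⊗[A] L)
    (hy : y ∈ LinearMap.range (iota κ E)) :
    ((LieAlgebra.ad κ (κ ⊗[A] L) ((1 : κ) ⊗ₜ[A] a)) ^ k) y = 0 := by
  obtain ⟨y', rfl⟩ := hy
  rw [← iota_ad_pow κ E a ha k y', ad_one_tmul, ← LinearMap.baseChange_pow, hk,
    LinearMap.baseChange_zero, LinearMap.zero_apply, map_zero]

/-- D2: if the Engel subalgebra of `1 ⊗ a` is contained in `E(κ)` then `ad a` is surjective
modulo `E` on the fibre. -/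
lemma dbar_baseChange_surjective [Module.Finite A L]
    (hsub : ∀ y, y ∈ engel κ ((1 : κ) ⊗ₜ[A] a : κ ⊗[A] L) → y ∈ LinearMap.range (iota κ E)) :
    Function.Surjective ((dbar E a ha).baseChange κ) := by
  intro w
  obtain ⟨y₁, rfl⟩ := mkQ_baseChange_surjective E κ w
  obtain ⟨z, hz⟩ := exists_lie_sub_mem_engel κ ((1 : κ) ⊗ₜ[A] a : κ ⊗[A] L) y₁
  refine ⟨E.toSubmodule.mkQ.baseChange κ z, ?_⟩
  have h1 := congrArg (fun F => F z) (dbar_baseChange_comp E a ha κ)
  simp only [LinearMap.comp_apply] at h1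
  rw [h1]
  have h2 := (mem_range_iota_iff E κ _).mp (hsub _ hz)
  rw [map_sub, sub_eq_zero] at h2
  exact h2

/-- D4: if `ad a` is surjective modulo `E` then the Engel subalgebra of `1 ⊗ a` is contained in
`E(κ)`. -/
lemma mem_range_iota_of_mem_engel [Module.Finite A L]
    (hs : Function.Surjective (dbar E a ha)) (y : κ ⊗[A] L)
    (hy : y ∈ engel κ ((1 : κ) ⊗ₜ[A] a : κ ⊗[A] L)) : y ∈ LinearMap.range (iota κ E) := by
  have hs' : Function.Surjective ((dbar E a ha).baseChange κ) := by
    rw [LinearMap.baseChange_eq_ltensor]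
    exact LinearMap.lTensor_surjective _ hs
  have hinj : Function.Injective ((dbar E a ha).baseChange κ) :=
    LinearMap.injective_iff_surjective.mpr hs'
  rw [mem_engel_iff] at hy
  obtain ⟨n, hn⟩ := hy
  have h1 := congrArg (fun F => F y) (dbar_baseChange_pow_comp E a ha κ n)
  simp only [LinearMap.comp_apply, hn, map_zero] at h1
  have hinjn : Function.Injective (((dbar E a ha).baseChange κ) ^ n) := by
    rw [Module.End.coe_pow]
    exact hinj.iterate n
  rw [mem_range_iota_iff]
  exact hinjn (by rw [h1, map_zero])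

end Quot

section Main

variable {A : Type u} [CommRing A] {L : Type u} [LieRing L] [LieAlgebra A L]
  [Module.Finite A L] [Module.Projective A L]

open SGA3t2b

/-- part 1: a relative Cartan subalgebra containing the quasi-regular element `a` is `engel a`,
and `ad a` is surjective modulo it. -/
theorem eq_engel_of_isCartanRel (a : L) (ha : IsQuasiRegular A L a)
    (H : LieSubalgebra A L) (hH : IsCartanRel H) (haH : a ∈ H) :
    H = engel A a ∧ Function.Surjective (dbar H a haH) := by
  obtain ⟨hproj, hfib⟩ := hH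
  haveI : Module.Projective A (L ⧸ H.toSubmodule) := hproj
  haveI hfinH : Module.Finite A H := finite_of_projective_quotient H.toSubmodule
  haveI hprojH : Module.Projective A H := projective_of_projective_quotient H.toSubmodule
  -- nilpotency of `ad a` on `H`
  have hnil : IsNilpotent (LieAlgebra.ad A H (⟨a, haH⟩ : H) : Module.End A H) := by
    apply isNilpotent_of_fibres
    intro p
    rw [← ad_one_tmul (A := A) (L := H)]
    haveI : LieModule.IsNilpotent (p.asIdeal.ResidueField ⊗[A] H)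
      (p.asIdeal.ResidueField ⊗[A] H) := (hfib p).1
    exact LieModule.isNilpotent_toEnd_of_isNilpotent p.asIdeal.ResidueField
      (p.asIdeal.ResidueField ⊗[A] H) (p.asIdeal.ResidueField ⊗[A] H) _
  obtain ⟨k, hk⟩ := hnil
  have hle : H ≤ engel A a := by
    intro h hh
    rw [mem_engel_iff]
    refine ⟨k, ?_⟩
    have := congrArg (fun F : Module.End A H => ((F ⟨h, hh⟩ : H) : L)) hk
    simp only [LieSubalgebra.coe_ad_pow, LinearMap.zero_apply, ZeroMemClass.coe_zero] at this
    exact this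
  have hs : Function.Surjective (dbar H a haH) := by
    apply surjective_of_fibres
    intro p
    apply dbar_baseChange_surjective H a haH p.asIdeal.ResidueField
    have hN := submodule_eq_engel p.asIdeal.ResidueField
      ((1 : p.asIdeal.ResidueField) ⊗ₜ[A] a : p.asIdeal.ResidueField ⊗[A] L) (ha p)
      (LinearMap.range (iota p.asIdeal.ResidueField H))
      (fun y hy => ⟨k, pow_ad_eq_zero_of_mem_range_iota H a haH p.asIdeal.ResidueField k hk y hy⟩)
      (hfib p).2.2
    intro y hy
    rw [hN]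
    exact hy
  exact ⟨le_antisymm hle (engel_le_of_surjective H a haH hs), hs⟩

/-- a uniform nilpotency exponent for `ad a` on a finitely generated `engel a`. -/
lemma exists_pow_ad_engel_eq_zero (a : L) [Module.Finite A (engel A a)] :
    ∃ k : ℕ, (LieAlgebra.ad A (engel A a) (⟨a, self_mem_engel A a⟩ : engel A a)) ^ k = 0 := by
  obtain ⟨n, s, hs⟩ := Module.Finite.exists_fin (R := A) (M := engel A a)
  have h1 : ∀ i, ∃ k : ℕ, ((LieAlgebra.ad A (engel A a)
      (⟨a, self_mem_engel A a⟩ : engel A a)) ^ k) (s i) = 0 := by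
    intro i
    obtain ⟨k, hk⟩ := (mem_engel_iff A a _).mp (s i).2
    refine ⟨k, ?_⟩
    apply Subtype.ext
    rw [LieSubalgebra.coe_ad_pow]
    exact hk
  choose kf hkf using h1
  refine ⟨Finset.univ.sup kf, ?_⟩
  apply LinearMap.ext_on_range hs
  intro i
  rw [LinearMap.zero_apply]
  exact Module.End.pow_map_zero_of_le (Finset.le_sup (Finset.mem_univ i)) (hkf i)

/-- part 2, converse direction. -/
theorem isCartanRel_engel (a : L) (ha : IsQuasiRegular A L a)
    (hproj : Module.Projective A (L ⧸ (engel A a).toSubmodule))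
    (h3 : ∀ y : L, ∃ z : L, ⁅a, z⁆ - y ∈ engel A a) : IsCartanRel (engel A a) := by
  haveI : Module.Projective A (L ⧸ (engel A a).toSubmodule) := hproj
  haveI hfinH : Module.Finite A (engel A a) := finite_of_projective_quotient (engel A a).toSubmodule
  have haE := self_mem_engel A a
  obtain ⟨k, hk⟩ := exists_pow_ad_engel_eq_zero (A := A) a
  have hs : Function.Surjective (dbar (engel A a) a haE) := by
    intro w
    obtain ⟨y, rfl⟩ := Submodule.mkQ_surjective _ w
    obtain ⟨z, hz⟩ := h3 y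
    refine ⟨(engel A a).toSubmodule.mkQ z, ?_⟩
    have h1 := congrArg (fun F => F z) (dbar_comp_mkQ (engel A a) a haE)
    simp only [LinearMap.comp_apply] at h1
    rw [h1, ← sub_eq_zero, ← map_sub, Submodule.mkQ_apply, Submodule.Quotient.mk_eq_zero]
    exact hz
  refine ⟨hproj, fun p => ?_⟩
  have hEq : LinearMap.range (iota p.asIdeal.ResidueField (engel A a))
      = (engel p.asIdeal.ResidueField
          ((1 : p.asIdeal.ResidueField) ⊗ₜ[A] a : p.asIdeal.ResidueField ⊗[A] L)).toSubmodule := by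
    apply le_antisymm
    · intro y hy
      exact (mem_engel_iff _ _ _).mpr
        ⟨k, pow_ad_eq_zero_of_mem_range_iota (engel A a) a haE p.asIdeal.ResidueField k hk y hy⟩
    · intro y hy
      exact mem_range_iota_of_mem_engel (engel A a) a haE p.asIdeal.ResidueField hs y hy
  have hinj : Function.Injective (iota p.asIdeal.ResidueField (engel A a)) :=
    baseChange_subtype_injective (engel A a).toSubmodule p.asIdeal.ResidueField
  refine ⟨?_, ?_, ?_⟩
  · -- nilpotency
    have hnil := engel_isNilpotent_of_isRegular p.asIdeal.ResidueField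
      ((1 : p.asIdeal.ResidueField) ⊗ₜ[A] a : p.asIdeal.ResidueField ⊗[A] L) (ha p)
    obtain ⟨m, hm⟩ := LieAlgebra.nilpotent_ad_of_nilpotent_algebra p.asIdeal.ResidueField
      (engel p.asIdeal.ResidueField
        ((1 : p.asIdeal.ResidueField) ⊗ₜ[A] a : p.asIdeal.ResidueField ⊗[A] L))
    rw [LieAlgebra.isNilpotent_iff_forall (R := p.asIdeal.ResidueField)]
    intro x
    refine ⟨m, ?_⟩
    apply LinearMap.ext
    intro y
    apply hinj
    rw [iota_ad_pow', LinearMap.zero_apply, map_zero]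
    have hx : iota p.asIdeal.ResidueField (engel A a) x ∈ engel p.asIdeal.ResidueField
        ((1 : p.asIdeal.ResidueField) ⊗ₜ[A] a : p.asIdeal.ResidueField ⊗[A] L) := by
      have : iota p.asIdeal.ResidueField (engel A a) x ∈
          LinearMap.range (iota p.asIdeal.ResidueField (engel A a)) := ⟨x, rfl⟩
      rw [hEq] at this
      exact this
    have hy : iota p.asIdeal.ResidueField (engel A a) y ∈ engel p.asIdeal.ResidueField
        ((1 : p.asIdeal.ResidueField) ⊗ₜ[A] a : p.asIdeal.ResidueField ⊗[A] L) := by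
      have : iota p.asIdeal.ResidueField (engel A a) y ∈
          LinearMap.range (iota p.asIdeal.ResidueField (engel A a)) := ⟨y, rfl⟩
      rw [hEq] at this
      exact this
    have h1 := congrArg (fun F => ((F ⟨_, hy⟩ : engel p.asIdeal.ResidueField
        ((1 : p.asIdeal.ResidueField) ⊗ₜ[A] a : p.asIdeal.ResidueField ⊗[A] L)) :
          p.asIdeal.ResidueField ⊗[A] L)) (hm ⟨_, hx⟩)
    simp only [LieSubalgebra.coe_ad_pow, LinearMap.zero_apply, ZeroMemClass.coe_zero] at h1
    exact h1
  · -- self-normalizing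
    intro x hx
    change x ∈ LinearMap.range (iota p.asIdeal.ResidueField (engel A a))
    rw [hEq]
    have h1 : x ∈ (engel p.asIdeal.ResidueField
        ((1 : p.asIdeal.ResidueField) ⊗ₜ[A] a : p.asIdeal.ResidueField ⊗[A] L)).normalizer := by
      rw [LieSubalgebra.mem_normalizer_iff]
      intro y hy
      have h2 := hx y (by
        change y ∈ LinearMap.range (iota p.asIdeal.ResidueField (engel A a))
        rw [hEq]
        exact hy)
      change ⁅x, y⁆ ∈ LinearMap.range (iota p.asIdeal.ResidueField (engel A a)) at h2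
      rw [hEq] at h2
      exact h2
    rw [normalizer_engel] at h1
    exact h1
  · -- dimension
    change Module.finrank p.asIdeal.ResidueField
      (LinearMap.range (iota p.asIdeal.ResidueField (engel A a))) = _
    rw [hEq]
    exact (LieAlgebra.isRegular_iff_finrank_engel_eq_rank p.asIdeal.ResidueField _).mp (ha p)

theorem main_S8372 (a : L) (ha : IsQuasiRegular A L a) :
    (∀ H : LieSubalgebra A L, IsCartanRel H → a ∈ H → H = engel A a) ∧
    ((∃ H : LieSubalgebra A L, IsCartanRel H ∧ a ∈ H) ↔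
      (Module.Projective A (L ⧸ (engel A a).toSubmodule) ∧
        (∀ z : L, ⁅a, z⁆ ∈ engel A a → z ∈ engel A a) ∧
        (∀ y : L, ∃ z : L, ⁅a, z⁆ - y ∈ engel A a))) := by
  refine ⟨fun H hH haH => (eq_engel_of_isCartanRel a ha H hH haH).1, ?_, ?_⟩
  · rintro ⟨H, hH, haH⟩
    obtain ⟨hEq, hs⟩ := eq_engel_of_isCartanRel a ha H hH haH
    refine ⟨?_, ?_, ?_⟩
    · rw [← hEq]
      exact hH.1
    · intro z hz
      rw [mem_engel_iff] at hz ⊢
      obtain ⟨n, hn⟩ := hz
      exact ⟨n + 1, by rw [pow_succ, Module.End.mul_apply]; exact hn⟩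
    · intro y
      obtain ⟨w, hw⟩ := hs (H.toSubmodule.mkQ y)
      obtain ⟨z, rfl⟩ := Submodule.mkQ_surjective _ w
      refine ⟨z, ?_⟩
      have h1 := congrArg (fun F => F z) (dbar_comp_mkQ H a haH)
      simp only [LinearMap.comp_apply] at h1
      rw [h1, ← sub_eq_zero, ← map_sub, Submodule.mkQ_apply, Submodule.Quotient.mk_eq_zero] at hw
      rw [← hEq]
      exact hw
  · rintro ⟨hproj, -, h3⟩
    exact ⟨engel A a, isCartanRel_engel a ha hproj h3, self_mem_engel A a⟩

end Main

end Groth.Agent.Lib.Helper24RelCartan
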