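import Mathlib
import Groth.Agent.Lib.Helper24RelCartanD

/-!
# Relative Cartan subalgebras (SGA3 XIV), part E: automorphisms (helper24)
-/

set_option autoImplicit false
set_option linter.unusedSectionVars false
set_option linter.style.haveILetI false
universe u

namespace Groth.Agent.Lib.Helper24RelCartan

open scoped TensorProduct
open Polynomial LieSubalgebra

section Aut

variable {A : Type u} [CommRing A] {L : Type u} [LieRing L] [LieAlgebra A L]
variable (u : L ≃ₗ⁅A⁆ L) (a : L)

lemma ad_pow_map (n : ℕ) (y : L) :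
    ((LieAlgebra.ad A L (u a)) ^ n) (u y) = u (((LieAlgebra.ad A L a) ^ n) y) := by
  induction n generalizing y with
  | zero => rfl
  | succ n ih =>
    rw [pow_succ, pow_succ, Module.End.mul_apply, Module.End.mul_apply, LieAlgebra.ad_apply,
      ← LieEquiv.map_lie, ih, LieAlgebra.ad_apply]

lemma map_engel : (engel A a).map u.toLieHom = engel A (u a) := by
  ext x
  rw [LieSubalgebra.mem_map, mem_engel_iff]
  constructor
  · rintro ⟨y, hy, rfl⟩
    obtain ⟨n, hn⟩ := (mem_engel_iff A a y).mp hy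
    refine ⟨n, ?_⟩
    have := ad_pow_map u a n y
    rw [hn, map_zero] at this
    exact this
  · rintro ⟨n, hn⟩
    refine ⟨u.symm x, ?_, u.apply_symm_apply x⟩
    rw [mem_engel_iff]
    refine ⟨n, ?_⟩
    have h1 := ad_pow_map u a n (u.symm x)
    rw [u.apply_symm_apply, hn] at h1
    apply u.injective
    change u (((LieAlgebra.ad A L) a ^ n) (u.symm x)) = u 0
    rw [← h1, map_zero]

variable [Module.Finite A L]

/-- a Lie automorphism preserves quasi-regularity. -/
lemma isQuasiRegular_map (ha : SGA3t2b.IsQuasiRegular A L a) :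
    SGA3t2b.IsQuasiRegular A L (u a) := by
  intro p
  have hp := ha p
  rw [LieAlgebra.isRegular_def] at hp ⊢
  set κ := p.asIdeal.ResidueField
  let U : (κ ⊗[A] L) ≃ₗ[κ] (κ ⊗[A] L) := (u.toLinearEquiv).baseChange A κ L L
  have e : (LieAlgebra.ad κ (κ ⊗[A] L) ((1 : κ) ⊗ₜ[A] (u a)) : Module.End κ (κ ⊗[A] L))
      = U.conj (LieAlgebra.ad κ (κ ⊗[A] L) ((1 : κ) ⊗ₜ[A] a)) := by
    rw [ad_one_tmul, ad_one_tmul]
    apply TensorProduct.AlgebraTensorModule.ext
    intro t x
    rw [LinearEquiv.conj_apply_apply, LinearMap.baseChange_tmul]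
    have h1 : U.symm (t ⊗ₜ[A] x) = t ⊗ₜ[A] (u.symm x) := rfl
    rw [h1, LinearMap.baseChange_tmul]
    have h2 : U (t ⊗ₜ[A] ((LieAlgebra.ad A L a) (u.symm x)))
        = t ⊗ₜ[A] u ((LieAlgebra.ad A L a) (u.symm x)) := rfl
    rw [h2, LieAlgebra.ad_apply, LieAlgebra.ad_apply, LieEquiv.map_lie, u.apply_symm_apply]
  rw [e, LinearEquiv.charpoly_conj]
  exact hp

end Aut

section S8373

variable {A : Type u} [CommRing A] {L : Type u} [LieRing L] [LieAlgebra A L]
  [Module.Finite A L] [Module.Projective A L]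

theorem main_S8373 (H : LieSubalgebra A L) (hH : SGA3t2b.IsCartanRel H) (a : L) (haH : a ∈ H)
    (ha : SGA3t2b.IsQuasiRegular A L a) (u : L ≃ₗ⁅A⁆ L) :
    H.map u.toLieHom = H ↔ u a ∈ H := by
  constructor
  · intro h
    rw [← h, LieSubalgebra.mem_map]
    exact ⟨a, haH, rfl⟩
  · intro hua
    have h1 := (eq_engel_of_isCartanRel a ha H hH haH).1
    have h2 := (eq_engel_of_isCartanRel (u a) (isQuasiRegular_map u a ha) H hH hua).1
    conv_lhs => rw [h1]
    rw [map_engel, ← h2]

end S8373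

end Groth.Agent.Lib.Helper24RelCartan
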