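import Mathlib
import Groth.Agent.Lib.Helper24RelCartanE

/-!
# Relative Cartan subalgebras (SGA3 XIV), part F: transport of rank / regular elements along
Lie-compatible linear equivalences, `cancelBaseChange` is a Lie map, the rank of the fibres only
depends on the prime, (C₁) ⇒ (C₀) (helper24)
-/

set_option autoImplicit false
set_option linter.unusedSectionVars false
set_option linter.style.haveILetI false
universe u

namespace Groth.Agent.Lib.Helper24RelCartan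

open scoped TensorProduct
open Polynomial LieSubalgebra

section Transport

attribute [local instance 100] LieRing.ofAssociativeRing

variable {F : Type*} [Field F] {N N' : Type*} [LieRing N] [LieAlgebra F N] [LieRing N']
  [LieAlgebra F N'] [Module.Finite F N] [Module.Finite F N']

omit [Module.Finite F N] [Module.Finite F N'] in
lemma ad_conj (c : N ≃ₗ[F] N') (hc : ∀ x y, c ⁅x, y⁆ = ⁅c x, c y⁆) (x : N) :
    (LieAlgebra.ad F N' (c x) : Module.End F N') = c.conj (LieAlgebra.ad F N x) := by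
  apply LinearMap.ext
  intro y
  rw [LinearEquiv.conj_apply_apply, LieAlgebra.ad_apply, LieAlgebra.ad_apply, hc,
    LinearEquiv.apply_symm_apply]

lemma charpoly_ad_of_linearEquiv (c : N ≃ₗ[F] N') (hc : ∀ x y, c ⁅x, y⁆ = ⁅c x, c y⁆) (x : N) :
    (LieAlgebra.ad F N' (c x) : Module.End F N').charpoly
      = (LieAlgebra.ad F N x : Module.End F N).charpoly := by
  rw [ad_conj c hc, LinearEquiv.charpoly_conj]

lemma rank_le_of_linearEquiv [Infinite F] (c : N ≃ₗ[F] N')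
    (hc : ∀ x y, c ⁅x, y⁆ = ⁅c x, c y⁆) : LieAlgebra.rank F N' ≤ LieAlgebra.rank F N := by
  obtain ⟨x, hx⟩ := LieAlgebra.exists_isRegular F N
  rw [LieAlgebra.isRegular_iff_natTrailingDegree_charpoly_eq_rank] at hx
  calc LieAlgebra.rank F N' ≤ (LieAlgebra.ad F N' (c x) : Module.End F N').charpoly.natTrailingDegree :=
        LieAlgebra.rank_le_natTrailingDegree_charpoly_ad F (c x)
    _ = LieAlgebra.rank F N := by rw [charpoly_ad_of_linearEquiv c hc, hx]

omit [Module.Finite F N] [Module.Finite F N'] in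
lemma symm_lie (c : N ≃ₗ[F] N') (hc : ∀ x y, c ⁅x, y⁆ = ⁅c x, c y⁆) (x y : N') :
    c.symm ⁅x, y⁆ = ⁅c.symm x, c.symm y⁆ := by
  apply c.injective
  rw [hc, LinearEquiv.apply_symm_apply, LinearEquiv.apply_symm_apply, LinearEquiv.apply_symm_apply]

lemma rank_eq_of_linearEquiv (c : N ≃ₗ[F] N') (hc : ∀ x y, c ⁅x, y⁆ = ⁅c x, c y⁆) :
    LieAlgebra.rank F N = LieAlgebra.rank F N' := by
  let K := AlgebraicClosure F
  rw [← rank_baseChange F K N, ← rank_baseChange F K N']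
  let cL : N →ₗ⁅F⁆ N' := { c.toLinearMap with map_lie' := fun {x y} => hc x y }
  let U : K ⊗[F] N ≃ₗ[K] K ⊗[F] N' := LinearEquiv.baseChange F K N N' c
  have hU : ∀ x y, U ⁅x, y⁆ = ⁅U x, U y⁆ := fun x y =>
    (LieAlgebra.ExtendScalars.map (AlgHom.id F K) cL).map_lie x y
  exact le_antisymm (rank_le_of_linearEquiv U.symm (symm_lie U hU)) (rank_le_of_linearEquiv U hU)

lemma isRegular_iff_of_linearEquiv (c : N ≃ₗ[F] N') (hc : ∀ x y, c ⁅x, y⁆ = ⁅c x, c y⁆) (x : N) :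
    LieAlgebra.IsRegular F (c x) ↔ LieAlgebra.IsRegular F x := by
  rw [LieAlgebra.isRegular_def, LieAlgebra.isRegular_def, charpoly_ad_of_linearEquiv c hc,
    rank_eq_of_linearEquiv c hc]

end Transport


section BracketHelpers

variable {R S M : Type*} [CommRing R] [CommRing S] [Algebra R S] [LieRing M] [LieAlgebra R M]

lemma tp_lie_add (x y z : S ⊗[R] M) : ⁅x, y + z⁆ = ⁅x, y⁆ + ⁅x, z⁆ :=
  lie_add (L := S ⊗[R] M) (M := S ⊗[R] M) x y z

lemma tp_add_lie (x y z : S ⊗[R] M) : ⁅x + y, z⁆ = ⁅x, z⁆ + ⁅y, z⁆ :=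
  add_lie (L := S ⊗[R] M) (M := S ⊗[R] M) x y z

lemma tp_lie_zero (x : S ⊗[R] M) : ⁅x, (0 : S ⊗[R] M)⁆ = 0 :=
  lie_zero (L := S ⊗[R] M) (M := S ⊗[R] M) x

lemma tp_zero_lie (x : S ⊗[R] M) : ⁅(0 : S ⊗[R] M), x⁆ = 0 :=
  zero_lie (L := S ⊗[R] M) (M := S ⊗[R] M) x

end BracketHelpers

section Cancel

variable (A A' F : Type*) [CommRing A] [CommRing A'] [Algebra A A'] [CommRing F] [Algebra A F]
  [Algebra A' F] [IsScalarTower A A' F] (L : Type*) [LieRing L] [LieAlgebra A L]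

/-- `F ⊗[A'] (A' ⊗[A] L) ≃ F ⊗[A] L`. -/
noncomputable abbrev cbc : F ⊗[A'] (A' ⊗[A] L) ≃ₗ[F] F ⊗[A] L :=
  TensorProduct.AlgebraTensorModule.cancelBaseChange A A' F F L

lemma cbc_tmul (s : F) (a : A') (l : L) :
    cbc A A' F L (s ⊗ₜ[A'] (a ⊗ₜ[A] l)) = (a • s) ⊗ₜ[A] l := by
  simp [cbc]

lemma cbc_lie_tmul (s t : F) (m m' : A' ⊗[A] L) :
    cbc A A' F L ⁅s ⊗ₜ[A'] m, t ⊗ₜ[A'] m'⁆ = ⁅cbc A A' F L (s ⊗ₜ[A'] m), cbc A A' F L (t ⊗ₜ[A'] m')⁆ := by
  induction m using TensorProduct.induction_on with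
  | zero =>
    have h1 : (s ⊗ₜ[A'] (0 : A' ⊗[A] L)) = 0 := TensorProduct.tmul_zero _ _
    rw [h1, map_zero]
    have h2 : ⁅(0 : F ⊗[A'] (A' ⊗[A] L)), t ⊗ₜ[A'] m'⁆ = 0 := tp_zero_lie _
    have h3 : ⁅(0 : F ⊗[A] L), cbc A A' F L (t ⊗ₜ[A'] m')⁆ = 0 := tp_zero_lie _
    rw [h2, h3, map_zero]
  | tmul a l =>
    induction m' using TensorProduct.induction_on with
    | zero =>
      have h1 : (t ⊗ₜ[A'] (0 : A' ⊗[A] L)) = 0 := TensorProduct.tmul_zero _ _
      rw [h1, map_zero]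
      have h2 : ⁅s ⊗ₜ[A'] (a ⊗ₜ[A] l), (0 : F ⊗[A'] (A' ⊗[A] L))⁆ = 0 := tp_lie_zero _
      have h3 : ⁅cbc A A' F L (s ⊗ₜ[A'] (a ⊗ₜ[A] l)), (0 : F ⊗[A] L)⁆ = 0 := tp_lie_zero _
      rw [h2, h3, map_zero]
    | tmul b l' =>
      have h1 : ⁅s ⊗ₜ[A'] (a ⊗ₜ[A] l), t ⊗ₜ[A'] (b ⊗ₜ[A] l')⁆
          = (s * t) ⊗ₜ[A'] ((a * b) ⊗ₜ[A] ⁅l, l'⁆) := rfl
      rw [h1, cbc_tmul, cbc_tmul, cbc_tmul]
      have h2 : ⁅(a • s) ⊗ₜ[A] l, (b • t) ⊗ₜ[A] l'⁆ = ((a • s) * (b • t)) ⊗ₜ[A] ⁅l, l'⁆ := rfl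
      rw [h2, smul_mul_smul_comm]
    | add x y hx hy =>
      have h1 : t ⊗ₜ[A'] (x + y) = t ⊗ₜ[A'] x + t ⊗ₜ[A'] y := TensorProduct.tmul_add _ _ _
      have h2 : ⁅s ⊗ₜ[A'] (a ⊗ₜ[A] l), t ⊗ₜ[A'] x + t ⊗ₜ[A'] y⁆
          = ⁅s ⊗ₜ[A'] (a ⊗ₜ[A] l), t ⊗ₜ[A'] x⁆ + ⁅s ⊗ₜ[A'] (a ⊗ₜ[A] l), t ⊗ₜ[A'] y⁆ := tp_lie_add _ _ _
      have h3 : ⁅cbc A A' F L (s ⊗ₜ[A'] (a ⊗ₜ[A] l)),
            cbc A A' F L (t ⊗ₜ[A'] x) + cbc A A' F L (t ⊗ₜ[A'] y)⁆
          = ⁅cbc A A' F L (s ⊗ₜ[A'] (a ⊗ₜ[A] l)), cbc A A' F L (t ⊗ₜ[A'] x)⁆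
            + ⁅cbc A A' F L (s ⊗ₜ[A'] (a ⊗ₜ[A] l)), cbc A A' F L (t ⊗ₜ[A'] y)⁆ := tp_lie_add _ _ _
      rw [h1, h2, map_add, map_add, h3, hx, hy]
  | add x y hx hy =>
    have h1 : s ⊗ₜ[A'] (x + y) = s ⊗ₜ[A'] x + s ⊗ₜ[A'] y := TensorProduct.tmul_add _ _ _
    have h2 : ⁅s ⊗ₜ[A'] x + s ⊗ₜ[A'] y, t ⊗ₜ[A'] m'⁆
        = ⁅s ⊗ₜ[A'] x, t ⊗ₜ[A'] m'⁆ + ⁅s ⊗ₜ[A'] y, t ⊗ₜ[A'] m'⁆ := tp_add_lie _ _ _
    have h3 : ⁅cbc A A' F L (s ⊗ₜ[A'] x) + cbc A A' F L (s ⊗ₜ[A'] y), cbc A A' F L (t ⊗ₜ[A'] m')⁆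
        = ⁅cbc A A' F L (s ⊗ₜ[A'] x), cbc A A' F L (t ⊗ₜ[A'] m')⁆
          + ⁅cbc A A' F L (s ⊗ₜ[A'] y), cbc A A' F L (t ⊗ₜ[A'] m')⁆ := tp_add_lie _ _ _
    rw [h1, h2, map_add, map_add, h3, hx, hy]

lemma cbc_lie (x y : F ⊗[A'] (A' ⊗[A] L)) :
    cbc A A' F L ⁅x, y⁆ = ⁅cbc A A' F L x, cbc A A' F L y⁆ := by
  induction x using TensorProduct.induction_on with
  | zero =>
    have h2 : ⁅(0 : F ⊗[A'] (A' ⊗[A] L)), y⁆ = 0 := tp_zero_lie _
    have h3 : ⁅(0 : F ⊗[A] L), cbc A A' F L y⁆ = 0 := tp_zero_lie _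
    rw [h2, map_zero, h3]
  | tmul s m =>
    induction y using TensorProduct.induction_on with
    | zero =>
      have h2 : ⁅s ⊗ₜ[A'] m, (0 : F ⊗[A'] (A' ⊗[A] L))⁆ = 0 := tp_lie_zero _
      have h3 : ⁅cbc A A' F L (s ⊗ₜ[A'] m), (0 : F ⊗[A] L)⁆ = 0 := tp_lie_zero _
      rw [h2, map_zero, h3]
    | tmul t m' => exact cbc_lie_tmul A A' F L s t m m'
    | add x y hx hy =>
      have h2 : ⁅s ⊗ₜ[A'] m, x + y⁆ = ⁅s ⊗ₜ[A'] m, x⁆ + ⁅s ⊗ₜ[A'] m, y⁆ := tp_lie_add _ _ _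
      have h3 : ⁅cbc A A' F L (s ⊗ₜ[A'] m), cbc A A' F L x + cbc A A' F L y⁆
          = ⁅cbc A A' F L (s ⊗ₜ[A'] m), cbc A A' F L x⁆
            + ⁅cbc A A' F L (s ⊗ₜ[A'] m), cbc A A' F L y⁆ := tp_lie_add _ _ _
      rw [h2, map_add, map_add, h3, hx, hy]
  | add x x' hx hx' =>
    have h2 : ⁅x + x', y⁆ = ⁅x, y⁆ + ⁅x', y⁆ := tp_add_lie _ _ _
    have h3 : ⁅cbc A A' F L x + cbc A A' F L x', cbc A A' F L y⁆
        = ⁅cbc A A' F L x, cbc A A' F L y⁆ + ⁅cbc A A' F L x', cbc A A' F L y⁆ := tp_add_lie _ _ _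
    rw [h2, map_add, map_add, h3, hx, hx']

end Cancel



section Fibre

variable {A : Type*} [CommRing A] (L : Type*) [LieRing L] [LieAlgebra A L] [Module.Finite A L]

lemma rank_cbc (A' F : Type*) [CommRing A'] [Algebra A A'] [Field F] [Algebra A F] [Algebra A' F]
    [IsScalarTower A A' F] :
    LieAlgebra.rank F (F ⊗[A'] (A' ⊗[A] L)) = LieAlgebra.rank F (F ⊗[A] L) :=
  rank_eq_of_linearEquiv (cbc A A' F L) (cbc_lie A A' F L)

lemma isRegular_cbc_iff (A' F : Type*) [CommRing A'] [Algebra A A'] [Field F] [Algebra A F]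
    [Algebra A' F] [IsScalarTower A A' F] (x : F ⊗[A'] (A' ⊗[A] L)) :
    LieAlgebra.IsRegular F (cbc A A' F L x) ↔ LieAlgebra.IsRegular F x :=
  isRegular_iff_of_linearEquiv (cbc A A' F L) (cbc_lie A A' F L) x

lemma rank_fieldExt (F₀ F : Type*) [Field F₀] [Field F] [Algebra A F₀] [Algebra A F] [Algebra F₀ F]
    [IsScalarTower A F₀ F] :
    LieAlgebra.rank F (F ⊗[A] L) = LieAlgebra.rank F₀ (F₀ ⊗[A] L) := by
  rw [← rank_cbc L F₀ F, rank_baseChange]

variable {L} in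
lemma isRegular_fieldExt_iff (F₀ F : Type*) [Field F₀] [Field F] [Algebra A F₀] [Algebra A F]
    [Algebra F₀ F] [IsScalarTower A F₀ F] (a : L) :
    LieAlgebra.IsRegular F ((1 : F) ⊗ₜ[A] a) ↔ LieAlgebra.IsRegular F₀ ((1 : F₀) ⊗ₜ[A] a) := by
  rw [← isRegular_baseChange_iff F₀ F ((1 : F₀) ⊗ₜ[A] a), ← isRegular_cbc_iff L F₀ F, cbc_tmul,
    one_smul]

/-- algebra structure of a field `F` over the residue field of the kernel of `A → F`. -/
@[reducible] noncomputable def residueFieldAlgebra (F : Type*) [Field F] [Algebra A F] (q : PrimeSpectrum A)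
    (hq : q.asIdeal = RingHom.ker (algebraMap A F)) : Algebra q.asIdeal.ResidueField F :=
  (Ideal.ResidueField.lift q.asIdeal (algebraMap A F) hq.le (by
    intro r hr
    rw [Submonoid.mem_comap, IsUnit.mem_submonoid_iff]
    apply IsUnit.mk0
    intro h0
    apply hr
    rw [hq]
    exact RingHom.mem_ker.mpr h0)).toAlgebra

lemma residueFieldAlgebra_isScalarTower (F : Type*) [Field F] [Algebra A F] (q : PrimeSpectrum A)
    (hq : q.asIdeal = RingHom.ker (algebraMap A F)) :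
    @IsScalarTower A q.asIdeal.ResidueField F _ (residueFieldAlgebra F q hq).toSMul _ := by
  letI := residueFieldAlgebra F q hq
  apply IsScalarTower.of_algebraMap_eq
  intro r
  exact (Ideal.ResidueField.lift_algebraMap _ _ _ _ r).symm

lemma rank_residueField (F : Type*) [Field F] [Algebra A F] (q : PrimeSpectrum A)
    (hq : q.asIdeal = RingHom.ker (algebraMap A F)) :
    LieAlgebra.rank F (F ⊗[A] L)
      = LieAlgebra.rank q.asIdeal.ResidueField (q.asIdeal.ResidueField ⊗[A] L) := by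
  letI := residueFieldAlgebra F q hq
  haveI := residueFieldAlgebra_isScalarTower F q hq
  exact rank_fieldExt L q.asIdeal.ResidueField F

variable {L} in
lemma isRegular_residueField_iff (F : Type*) [Field F] [Algebra A F] (q : PrimeSpectrum A)
    (hq : q.asIdeal = RingHom.ker (algebraMap A F)) (a : L) :
    LieAlgebra.IsRegular F ((1 : F) ⊗ₜ[A] a)
      ↔ LieAlgebra.IsRegular q.asIdeal.ResidueField ((1 : q.asIdeal.ResidueField) ⊗ₜ[A] a) := by
  letI := residueFieldAlgebra F q hq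
  haveI := residueFieldAlgebra_isScalarTower F q hq
  exact isRegular_fieldExt_iff q.asIdeal.ResidueField F a

end Fibre



section S8378

open SGA3t2b

variable {A : Type u} [CommRing A] {L : Type u} [LieRing L] [LieAlgebra A L] [Module.Finite A L]
  [Module.Projective A L]

/-- the rank function on `Spec A`. -/
noncomputable def rho (A : Type u) [CommRing A] (L : Type u) [LieRing L] [LieAlgebra A L]
    [Module.Finite A L] (q : PrimeSpectrum A) : ℕ :=
  LieAlgebra.rank q.asIdeal.ResidueField (q.asIdeal.ResidueField ⊗[A] L)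

lemma ker_algebraMap_residueField_comap (A' : Type u) [CommRing A'] [Algebra A A']
    (p' : PrimeSpectrum A') :
    (PrimeSpectrum.comap (algebraMap A A') p').asIdeal
      = RingHom.ker (algebraMap A p'.asIdeal.ResidueField) := by
  ext r
  rw [RingHom.mem_ker, IsScalarTower.algebraMap_apply A A' p'.asIdeal.ResidueField,
    Ideal.algebraMap_residueField_eq_zero]
  rfl

lemma rho_comap (A' : Type u) [CommRing A'] [Algebra A A'] (p' : PrimeSpectrum A') :
    rho A L (PrimeSpectrum.comap (algebraMap A A') p')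
      = LieAlgebra.rank p'.asIdeal.ResidueField
          (p'.asIdeal.ResidueField ⊗[A'] (A' ⊗[A] L)) := by
  rw [rank_cbc L A' p'.asIdeal.ResidueField]
  exact (rank_residueField L p'.asIdeal.ResidueField _
    (ker_algebraMap_residueField_comap A' p')).symm

lemma finrank_fibreSubmodule {A' : Type u} [CommRing A'] {L' : Type u} [LieRing L']
    [LieAlgebra A' L'] [Module.Finite A' L'] [Module.Projective A' L']
    (H : LieSubalgebra A' L') (hH : Module.Projective A' (L' ⧸ H.toSubmodule))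
    (p' : PrimeSpectrum A') :
    Module.finrank p'.asIdeal.ResidueField (fibreSubmodule p' H)
      = Module.rankAtStalk (R := A') H p' := by
  haveI := hH
  haveI : Module.Finite A' H.toSubmodule := finite_of_projective_quotient H.toSubmodule
  haveI : Module.Projective A' H.toSubmodule := projective_of_projective_quotient H.toSubmodule
  have e := LinearEquiv.ofInjective (H.toSubmodule.subtype.baseChange p'.asIdeal.ResidueField)
    (baseChange_subtype_injective H.toSubmodule p'.asIdeal.ResidueField)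
  have h1 : Module.rankAtStalk (R := A') H p'
      = Module.finrank p'.asIdeal.ResidueField (p'.asIdeal.ResidueField ⊗[A'] H.toSubmodule) :=
    Module.rankAtStalk_eq (R := A') (M := H.toSubmodule) p'
  rw [h1, e.finrank_eq]
  rfl

theorem main_S8378 (A' : Type u) [CommRing A'] [Algebra A A'] (hff : Module.FaithfullyFlat A A')
    (H : LieSubalgebra A' (A' ⊗[A] L)) (hH : IsCartanRel H) :
    ∀ p : PrimeSpectrum A, ∃ f : A, f ∉ p.asIdeal ∧ ∀ q : PrimeSpectrum A, f ∉ q.asIdeal →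
      LieAlgebra.rank q.asIdeal.ResidueField (q.asIdeal.ResidueField ⊗[A] L) =
        LieAlgebra.rank p.asIdeal.ResidueField (p.asIdeal.ResidueField ⊗[A] L) := by
  haveI := hH.1
  haveI : Module.Finite A' H.toSubmodule := finite_of_projective_quotient H.toSubmodule
  haveI : Module.Projective A' H.toSubmodule := projective_of_projective_quotient H.toSubmodule
  haveI : Module.FinitePresentation A' H.toSubmodule := Module.finitePresentation_of_projective A' _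
  have hloc' : IsLocallyConstant (Module.rankAtStalk (R := A') H.toSubmodule) :=
    Module.isLocallyConstant_rankAtStalk
  have hcomp : rho A L ∘ PrimeSpectrum.comap (algebraMap A A')
      = Module.rankAtStalk (R := A') H.toSubmodule := by
    funext p'
    rw [Function.comp_apply, rho_comap A' p', ← (hH.2 p').2.2]
    exact finrank_fibreSubmodule H hH.1 p'
  have hq : Topology.IsQuotientMap (PrimeSpectrum.comap (algebraMap A A')) :=
    PrimeSpectrum.isQuotientMap_of_generalizingMap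
      PrimeSpectrum.comap_surjective_of_faithfullyFlat
      (Algebra.HasGoingDown.iff_generalizingMap_primeSpectrumComap.mp inferInstance)
  have hloc : IsLocallyConstant (rho A L) := by
    rw [IsLocallyConstant.iff_continuous, hq.continuous_iff, hcomp,
      ← IsLocallyConstant.iff_continuous]
    exact hloc'
  intro p
  have hopen : IsOpen {q | rho A L q = rho A L p} := hloc.isOpen_fiber _
  obtain ⟨v, ⟨f, rfl⟩, hpv, hv⟩ :=
    PrimeSpectrum.isTopologicalBasis_basic_opens.exists_subset_of_mem_open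
      (show p ∈ {q | rho A L q = rho A L p} from rfl) hopen
  exact ⟨f, hpv, fun q hqf => hv hqf⟩

end S8378

end Groth.Agent.Lib.Helper24RelCartan
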