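import Mathlib
import Groth.Agent.Lib.Helper24RelCartanF

/-!
# Relative Cartan subalgebras (SGA3 XIV), part G: regular elements up to scaling, clearing
denominators in a fibre, (C₂) + regular element at `p` ⇒ Cartan subalgebra over `D(f)` (helper24)
-/

set_option autoImplicit false
set_option linter.unusedSectionVars false
set_option linter.style.haveILetI false
universe u

namespace Groth.Agent.Lib.Helper24RelCartan

open scoped TensorProduct
open Polynomial LieSubalgebra

section Scaling

attribute [local instance 100] LieRing.ofAssociativeRing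

variable {K : Type*} [Field K] {M : Type*} [LieRing M] [LieAlgebra K M] [Module.Finite K M]

omit [Module.Finite K M] in
lemma engel_smul (c : K) (hc : c ≠ 0) (x : M) : engel K (c • x) = engel K x := by
  ext y
  rw [mem_engel_iff, mem_engel_iff]
  have h : ∀ n : ℕ, ((LieAlgebra.ad K M (c • x)) ^ n) y = c ^ n • ((LieAlgebra.ad K M x) ^ n) y := by
    intro n
    rw [map_smul, _root_.smul_pow, LinearMap.smul_apply]
  constructor
  · rintro ⟨n, hn⟩
    refine ⟨n, ?_⟩
    rw [h n] at hn
    exact (smul_eq_zero.mp hn).resolve_left (pow_ne_zero n hc)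
  · rintro ⟨n, hn⟩
    exact ⟨n, by rw [h n, hn, smul_zero]⟩

lemma isRegular_smul_iff (c : K) (hc : c ≠ 0) (x : M) :
    LieAlgebra.IsRegular K (c • x) ↔ LieAlgebra.IsRegular K x := by
  rw [LieAlgebra.isRegular_iff_finrank_engel_eq_rank, LieAlgebra.isRegular_iff_finrank_engel_eq_rank,
    engel_smul c hc]

end Scaling

section Denominators

variable {A : Type*} [CommRing A] (L : Type*) [AddCommGroup L] [Module A L]

lemma exists_smul_eq_one_tmul (p : PrimeSpectrum A) (x : p.asIdeal.ResidueField ⊗[A] L) :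
    ∃ s : A, s ∉ p.asIdeal ∧ ∃ a : L,
      (algebraMap A p.asIdeal.ResidueField s) • x = (1 : p.asIdeal.ResidueField) ⊗ₜ[A] a := by
  induction x using TensorProduct.induction_on with
  | zero => exact ⟨1, fun h => p.2.ne_top ((Ideal.eq_top_iff_one _).mpr h), 0, by simp⟩
  | tmul c l =>
    obtain ⟨y, rfl⟩ := IsLocalRing.residue_surjective (R := Localization.AtPrime p.asIdeal) c
    obtain ⟨⟨m, s⟩, hms⟩ := IsLocalization.surj p.asIdeal.primeCompl y
    refine ⟨s, s.2, m • l, ?_⟩
    rw [TensorProduct.smul_tmul', smul_eq_mul]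
    have h1 : algebraMap A p.asIdeal.ResidueField s * IsLocalRing.residue _ y
        = algebraMap A p.asIdeal.ResidueField m := by
      rw [IsScalarTower.algebraMap_apply A (Localization.AtPrime p.asIdeal) p.asIdeal.ResidueField,
        IsScalarTower.algebraMap_apply A (Localization.AtPrime p.asIdeal) p.asIdeal.ResidueField,
        ← hms, mul_comm]
      rfl
    rw [h1, ← TensorProduct.smul_tmul, Algebra.smul_def, mul_one]
  | add x y hx hy =>
    obtain ⟨s1, hs1, a1, h1⟩ := hx
    obtain ⟨s2, hs2, a2, h2⟩ := hy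
    refine ⟨s1 * s2, fun h => (p.2.mem_or_mem h).elim hs1 hs2, s2 • a1 + s1 • a2, ?_⟩
    have key : ∀ (s : A) (a : L), (algebraMap A p.asIdeal.ResidueField s) •
        ((1 : p.asIdeal.ResidueField) ⊗ₜ[A] a) = (1 : p.asIdeal.ResidueField) ⊗ₜ[A] (s • a) := by
      intro s a
      rw [TensorProduct.smul_tmul', smul_eq_mul, mul_one, ← TensorProduct.smul_tmul,
        Algebra.smul_def, mul_one]
    have e1 : (algebraMap A p.asIdeal.ResidueField) (s1 * s2) • x
        = (algebraMap A p.asIdeal.ResidueField s2) • ((algebraMap A p.asIdeal.ResidueField s1) • x) := by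
      rw [smul_smul, map_mul, mul_comm]
    have e2 : (algebraMap A p.asIdeal.ResidueField) (s1 * s2) • y
        = (algebraMap A p.asIdeal.ResidueField s1) • ((algebraMap A p.asIdeal.ResidueField s2) • y) := by
      rw [smul_smul, map_mul]
    rw [smul_add, e1, e2, h1, h2, key, key, TensorProduct.tmul_add]

end Denominators



section S8376

open SGA3t2b

variable {A : Type u} [CommRing A] {L : Type u} [LieRing L] [LieAlgebra A L] [Module.Finite A L]
  [Module.Projective A L]

lemma isQuasiRegular_of_fibres (A' : Type u) [CommRing A'] [Algebra A A'] (a : L)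
    (h : ∀ P : PrimeSpectrum A',
      LieAlgebra.IsRegular (PrimeSpectrum.comap (algebraMap A A') P).asIdeal.ResidueField
        ((1 : (PrimeSpectrum.comap (algebraMap A A') P).asIdeal.ResidueField) ⊗ₜ[A] a)) :
    IsQuasiRegular A' (A' ⊗[A] L) ((1 : A') ⊗ₜ[A] a) := by
  intro P
  have h1 := isRegular_cbc_iff L A' P.asIdeal.ResidueField
    ((1 : P.asIdeal.ResidueField) ⊗ₜ[A'] ((1 : A') ⊗ₜ[A] a))
  rw [cbc_tmul, one_smul] at h1
  rw [← h1, isRegular_residueField_iff P.asIdeal.ResidueField
    (PrimeSpectrum.comap (algebraMap A A') P) (ker_algebraMap_residueField_comap A' P)]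
  exact h P

theorem main_S8376
    (hC0 : ∀ p : PrimeSpectrum A, ∃ f : A, f ∉ p.asIdeal ∧ ∀ q : PrimeSpectrum A, f ∉ q.asIdeal →
        LieAlgebra.rank q.asIdeal.ResidueField (q.asIdeal.ResidueField ⊗[A] L) =
          LieAlgebra.rank p.asIdeal.ResidueField (p.asIdeal.ResidueField ⊗[A] L))
    (hC2 : ∀ (A' : Type u) [CommRing A'] [Algebra A A'] (a' : A' ⊗[A] L),
        SGA3t2b.IsQuasiRegular A' (A' ⊗[A] L) a' → SGA3t2b.IsRegularRel A' (A' ⊗[A] L) a')
    (p : PrimeSpectrum A)
    (hp : ∃ x : p.asIdeal.ResidueField ⊗[A] L, LieAlgebra.IsRegular p.asIdeal.ResidueField x) :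
    ∃ f : A, f ∉ p.asIdeal ∧
      ∃ H : LieSubalgebra (Localization.Away f) (Localization.Away f ⊗[A] L),
        SGA3t2b.IsCartanRel H := by
  obtain ⟨x, hx⟩ := hp
  obtain ⟨s, hs, a, hsa⟩ := exists_smul_eq_one_tmul L p x
  have hs0 : algebraMap A p.asIdeal.ResidueField s ≠ 0 := by
    rw [Ne, Ideal.algebraMap_residueField_eq_zero]
    exact hs
  have ha : LieAlgebra.IsRegular p.asIdeal.ResidueField ((1 : p.asIdeal.ResidueField) ⊗ₜ[A] a) := by
    rw [← hsa, isRegular_smul_iff _ hs0]
    exact hx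
  obtain ⟨v, ⟨f, rfl⟩, hpv, hv⟩ :=
    PrimeSpectrum.isTopologicalBasis_basic_opens.exists_subset_of_mem_open
      (show p ∈ {q : PrimeSpectrum A | LieAlgebra.IsRegular q.asIdeal.ResidueField
        ((1 : q.asIdeal.ResidueField) ⊗ₜ[A] a)} from ha) (isOpen_regular hC0 a)
  refine ⟨f, hpv, ?_⟩
  have hq : IsQuasiRegular (Localization.Away f) (Localization.Away f ⊗[A] L)
      ((1 : Localization.Away f) ⊗ₜ[A] a) := by
    apply isQuasiRegular_of_fibres
    intro P
    apply hv
    show f ∉ (PrimeSpectrum.comap (algebraMap A (Localization.Away f)) P).asIdeal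
    intro hf
    have hu : IsUnit (algebraMap A (Localization.Away f) f) :=
      IsLocalization.Away.algebraMap_isUnit f
    exact P.2.ne_top (Ideal.eq_top_of_isUnit_mem _ hf hu)
  obtain ⟨-, H, hH, -⟩ := hC2 (Localization.Away f) _ hq
  exact ⟨H, hH⟩

end S8376

end Groth.Agent.Lib.Helper24RelCartan
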