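import Mathlib
import Groth.Agent.Lib.Helper24RelCartanG

/-!
# Relative Cartan subalgebras (SGA3 XIV), part H: (C₂) + regular elements in all fibres ⇒ a
Cartan subalgebra over the étale faithfully flat cover `∏ A_{f_i}` (helper24)
-/

set_option autoImplicit false
set_option linter.unusedSectionVars false
set_option linter.style.haveILetI false
universe u

namespace Groth.Agent.Lib.Helper24RelCartan

open scoped TensorProduct
open Polynomial LieSubalgebra

section S8377

open SGA3t2b

variable {A : Type u} [CommRing A] {L : Type u} [LieRing L] [LieAlgebra A L] [Module.Finite A L]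
  [Module.Projective A L]

/-- a regular element of the fibre at `p` spreads out to a section regular on a basic open. -/
lemma exists_regular_nbhd
    (hC0 : ∀ p : PrimeSpectrum A, ∃ f : A, f ∉ p.asIdeal ∧ ∀ q : PrimeSpectrum A, f ∉ q.asIdeal →
        LieAlgebra.rank q.asIdeal.ResidueField (q.asIdeal.ResidueField ⊗[A] L) =
          LieAlgebra.rank p.asIdeal.ResidueField (p.asIdeal.ResidueField ⊗[A] L))
    (p : PrimeSpectrum A)
    (hp : ∃ x : p.asIdeal.ResidueField ⊗[A] L, LieAlgebra.IsRegular p.asIdeal.ResidueField x) :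
    ∃ f : A, f ∉ p.asIdeal ∧ ∃ a : L, ∀ q : PrimeSpectrum A, f ∉ q.asIdeal →
      LieAlgebra.IsRegular q.asIdeal.ResidueField ((1 : q.asIdeal.ResidueField) ⊗ₜ[A] a) := by
  obtain ⟨x, hx⟩ := hp
  obtain ⟨s, hs, a, hsa⟩ := exists_smul_eq_one_tmul L p x
  have hs0 : algebraMap A p.asIdeal.ResidueField s ≠ 0 := by
    rw [Ne, Ideal.algebraMap_residueField_eq_zero]
    exact hs
  have ha : LieAlgebra.IsRegular p.asIdeal.ResidueField ((1 : p.asIdeal.ResidueField) ⊗ₜ[A] a) := by
    rw [← hsa, isRegular_smul_iff _ hs0]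
    exact hx
  obtain ⟨v, ⟨f, rfl⟩, hpv, hv⟩ :=
    PrimeSpectrum.isTopologicalBasis_basic_opens.exists_subset_of_mem_open
      (show p ∈ {q : PrimeSpectrum A | LieAlgebra.IsRegular q.asIdeal.ResidueField
        ((1 : q.asIdeal.ResidueField) ⊗ₜ[A] a)} from ha) (isOpen_regular hC0 a)
  exact ⟨f, hpv, a, fun q hq => hv hq⟩

end S8377

section PiAway

variable {A : Type u} [CommRing A] {ι : Type u} [Fintype ι] [DecidableEq ι] (f : ι → A)

/-- the product of the localisations `A_{f i}`. -/
abbrev PiAway : Type u := ∀ i, Localization.Away (f i)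

/-- the idempotent `e_i`. -/
noncomputable abbrev idem (i : ι) : PiAway f := Pi.single i 1

lemma sum_idem : ∑ i, idem f i = 1 := by
  funext j
  simp [Finset.sum_apply]

lemma idem_mul_idem_of_ne {i j : ι} (h : i ≠ j) : idem f i * idem f j = 0 := by
  funext k
  simp only [Pi.mul_apply, Pi.zero_apply]
  by_cases h1 : k = i
  · have : k ≠ j := fun h2 => h (h1.symm.trans h2)
    simp [this]
  · simp [h1]

lemma exists_idem_notMem (P : PrimeSpectrum (PiAway f)) : ∃ i, idem f i ∉ P.asIdeal := by
  by_contra h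
  push Not at h
  have : (1 : PiAway f) ∈ P.asIdeal := by
    rw [← sum_idem f]
    exact Ideal.sum_mem _ (fun i _ => h i)
  exact P.2.ne_top ((Ideal.eq_top_iff_one _).mpr this)

lemma idem_mem_of_ne (P : PrimeSpectrum (PiAway f)) {i j : ι} (hi : idem f i ∉ P.asIdeal)
    (h : i ≠ j) : idem f j ∈ P.asIdeal := by
  have : idem f i * idem f j ∈ P.asIdeal := by
    rw [idem_mul_idem_of_ne f h]
    exact zero_mem _
  exact (P.2.mem_or_mem this).resolve_left hi

lemma algebraMap_idem_of_ne (P : PrimeSpectrum (PiAway f)) {i j : ι} (hi : idem f i ∉ P.asIdeal)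
    (h : i ≠ j) : algebraMap (PiAway f) P.asIdeal.ResidueField (idem f j) = 0 := by
  rw [Ideal.algebraMap_residueField_eq_zero]
  exact idem_mem_of_ne f P hi h

lemma algebraMap_idem_self (P : PrimeSpectrum (PiAway f)) {i : ι} (hi : idem f i ∉ P.asIdeal) :
    algebraMap (PiAway f) P.asIdeal.ResidueField (idem f i) = 1 := by
  have h1 : algebraMap (PiAway f) P.asIdeal.ResidueField (∑ j, idem f j) = 1 := by
    rw [sum_idem, map_one]
  rw [map_sum, Finset.sum_eq_single i] at h1
  · exact h1
  · intro j _ hj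
    exact algebraMap_idem_of_ne f P hi (Ne.symm hj)
  · intro h
    exact absurd (Finset.mem_univ i) h

lemma notMem_comap_of_idem_notMem (P : PrimeSpectrum (PiAway f)) {i : ι}
    (hi : idem f i ∉ P.asIdeal) :
    f i ∉ (PrimeSpectrum.comap (algebraMap A (PiAway f)) P).asIdeal := by
  intro hf
  have hf' : algebraMap A (PiAway f) (f i) ∈ P.asIdeal := hf
  apply hi
  have hu : IsUnit (algebraMap A (Localization.Away (f i)) (f i)) :=
    IsLocalization.Away.algebraMap_isUnit (f i)
  obtain ⟨u, hu⟩ := hu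
  have : idem f i = algebraMap A (PiAway f) (f i) * Pi.single i ((u⁻¹ : (Localization.Away (f i))ˣ) :
      Localization.Away (f i)) := by
    funext k
    by_cases hk : k = i
    · subst hk
      simp only [Pi.mul_apply, Pi.single_eq_same, Pi.algebraMap_apply]
      rw [← hu, Units.mul_inv]
    · simp [hk]
  rw [this]
  exact Ideal.mul_mem_right _ _ hf'

lemma comap_surjective (hf : Ideal.span (Set.range f) = ⊤) :
    Function.Surjective (PrimeSpectrum.comap (algebraMap A (PiAway f))) := by
  intro q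
  have : ∃ i, f i ∉ q.asIdeal := by
    by_contra h
    push Not at h
    have : Ideal.span (Set.range f) ≤ q.asIdeal := by
      rw [Ideal.span_le]
      rintro _ ⟨i, rfl⟩
      exact h i
    rw [hf, top_le_iff] at this
    exact q.2.ne_top this
  obtain ⟨i, hi⟩ := this
  have hq : q ∈ Set.range (PrimeSpectrum.comap (algebraMap A (Localization.Away (f i)))) := by
    rw [PrimeSpectrum.localization_away_comap_range (Localization.Away (f i)) (f i)]
    exact hi
  obtain ⟨Q, hQ⟩ := hq
  refine ⟨PrimeSpectrum.comap (Pi.evalRingHom _ i) Q, ?_⟩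
  rw [← hQ]
  rfl

end PiAway



section S8377b

open SGA3t2b

variable {A : Type u} [CommRing A] {L : Type u} [LieRing L] [LieAlgebra A L] [Module.Finite A L]
  [Module.Projective A L]
variable {ι : Type u} [Fintype ι] [DecidableEq ι] (f : ι → A)

lemma isQuasiRegular_sum (a : ι → L)
    (h : ∀ (i : ι) (q : PrimeSpectrum A), f i ∉ q.asIdeal →
      LieAlgebra.IsRegular q.asIdeal.ResidueField ((1 : q.asIdeal.ResidueField) ⊗ₜ[A] a i)) :
    IsQuasiRegular (PiAway f) (PiAway f ⊗[A] L) (∑ i, idem f i ⊗ₜ[A] a i) := by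
  intro P
  obtain ⟨i, hi⟩ := exists_idem_notMem f P
  have h1 := isRegular_cbc_iff L (PiAway f) P.asIdeal.ResidueField
    ((1 : P.asIdeal.ResidueField) ⊗ₜ[PiAway f] (∑ i, idem f i ⊗ₜ[A] a i))
  have h2 : cbc A (PiAway f) P.asIdeal.ResidueField L
      ((1 : P.asIdeal.ResidueField) ⊗ₜ[PiAway f] (∑ i, idem f i ⊗ₜ[A] a i))
      = (1 : P.asIdeal.ResidueField) ⊗ₜ[A] a i := by
    rw [TensorProduct.tmul_sum, map_sum, Finset.sum_eq_single i]
    · rw [cbc_tmul, Algebra.smul_def, mul_one, algebraMap_idem_self f P hi]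
    · intro j _ hj
      rw [cbc_tmul, Algebra.smul_def, mul_one, algebraMap_idem_of_ne f P hi (Ne.symm hj),
        TensorProduct.zero_tmul]
    · intro h
      exact absurd (Finset.mem_univ i) h
  rw [h2] at h1
  rw [← h1, isRegular_residueField_iff P.asIdeal.ResidueField
    (PrimeSpectrum.comap (algebraMap A (PiAway f)) P) (ker_algebraMap_residueField_comap _ P)]
  exact h i _ (notMem_comap_of_idem_notMem f P hi)

theorem main_S8377
    (hC0 : ∀ p : PrimeSpectrum A, ∃ f : A, f ∉ p.asIdeal ∧ ∀ q : PrimeSpectrum A, f ∉ q.asIdeal →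
        LieAlgebra.rank q.asIdeal.ResidueField (q.asIdeal.ResidueField ⊗[A] L) =
          LieAlgebra.rank p.asIdeal.ResidueField (p.asIdeal.ResidueField ⊗[A] L))
    (hC2 : ∀ (A' : Type u) [CommRing A'] [Algebra A A'] (a' : A' ⊗[A] L),
        SGA3t2b.IsQuasiRegular A' (A' ⊗[A] L) a' → SGA3t2b.IsRegularRel A' (A' ⊗[A] L) a')
    (hreg : ∀ p : PrimeSpectrum A, ∃ x : p.asIdeal.ResidueField ⊗[A] L,
      LieAlgebra.IsRegular p.asIdeal.ResidueField x) :
    ∃ (A' : Type u) (_ : CommRing A') (_ : Algebra A A'), Algebra.Etale A A' ∧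
      Module.FaithfullyFlat A A' ∧
        ∃ H : LieSubalgebra A' (A' ⊗[A] L), SGA3t2b.IsCartanRel H := by
  classical
  choose fp hfp ap hap using fun p => exists_regular_nbhd hC0 p (hreg p)
  have hspan : Ideal.span (Set.range fp) = ⊤ := by
    by_contra h
    obtain ⟨m, hm, hle⟩ := Ideal.exists_le_maximal _ h
    exact hfp ⟨m, hm.isPrime⟩ (hle (Ideal.subset_span ⟨_, rfl⟩))
  obtain ⟨s', hs', hs'top⟩ := (Ideal.span_eq_top_iff_finite _).mp hspan
  have hch : ∀ g : s', ∃ p, fp p = g := fun g => hs' g.2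
  choose pg hpg using hch
  let f : s' → A := fun g => g
  have hf : Ideal.span (Set.range f) = ⊤ := by
    rw [show Set.range f = (s' : Set A) from Subtype.range_coe]
    exact hs'top
  haveI : ∀ i, Algebra.Etale A (Localization.Away (f i)) :=
    fun i => Algebra.Etale.of_isLocalizationAway (f i)
  have hq := isQuasiRegular_sum (L := L) f (fun g => ap (pg g)) (by
    intro g q hgq
    apply hap (pg g) q
    rw [hpg g]
    exact hgq)
  obtain ⟨-, H, hH, -⟩ := hC2 (PiAway f) _ hq
  exact ⟨PiAway f, inferInstance, inferInstance, inferInstance,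
    Module.FaithfullyFlat.of_comap_surjective (comap_surjective f hf), H, hH⟩

end S8377b

end Groth.Agent.Lib.Helper24RelCartan
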