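import Mathlib
import Groth.Agent.Lib.Helper24RelCartanH

/-!
# Relative Cartan subalgebras (SGA3 XIV), part I: Fitting decomposition from `T^n = T^(n+1) h(T)`,
the universal matrix of `g ∘ ad b ∘ f`, primewise vanishing of coefficients of its characteristic
polynomial, Cayley-Hamilton through a retraction (helper24)
-/

set_option autoImplicit false
set_option linter.unusedSectionVars false
set_option linter.style.haveILetI false
universe u

namespace Groth.Agent.Lib.Helper24RelCartan

open scoped TensorProduct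
open Polynomial LieSubalgebra

section Fitting

variable {R : Type*} [CommRing R] {M : Type*} [AddCommGroup M] [Module R M]
variable (T H : Module.End R M) (n : ℕ)

lemma pow_eq_pow_add_mul (hcomm : Commute T H) (hT : T ^ n = T ^ (n + 1) * H) (m : ℕ) :
    T ^ n = T ^ (n + m) * H ^ m := by
  induction m with
  | zero => rw [add_zero, pow_zero, mul_one]
  | succ m ih =>
    have hc : Commute (T ^ m) H := hcomm.pow_left m
    calc T ^ n = T ^ (n + m) * H ^ m := ih
      _ = T ^ m * T ^ n * H ^ m := by rw [← pow_add, add_comm]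
      _ = T ^ m * (T ^ (n + 1) * H) * H ^ m := by rw [← hT]
      _ = T ^ (n + (m + 1)) * H ^ (m + 1) := by
        rw [← mul_assoc, ← pow_add, mul_assoc, ← pow_succ']
        congr 2
        omega

lemma ker_pow_le (hcomm : Commute T H) (hT : T ^ n = T ^ (n + 1) * H) (k : ℕ) :
    LinearMap.ker (T ^ k) ≤ LinearMap.ker (T ^ n) := by
  intro y hy
  rw [LinearMap.mem_ker] at hy ⊢
  rw [pow_eq_pow_add_mul T H n hcomm hT k]
  have hc : Commute (T ^ (n + k)) (H ^ k) := (hcomm.pow_left _).pow_right _
  rw [hc.eq, Module.End.mul_apply, pow_add, Module.End.mul_apply, hy, map_zero, map_zero]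

lemma proj_mul_pow (hcomm : Commute T H) (hT : T ^ n = T ^ (n + 1) * H) :
    T ^ n * (T ^ n * H ^ n) = T ^ n := by
  rw [← mul_assoc, ← pow_add]
  exact (pow_eq_pow_add_mul T H n hcomm hT n).symm

lemma proj_idem (hcomm : Commute T H) (hT : T ^ n = T ^ (n + 1) * H) :
    (T ^ n * H ^ n) * (T ^ n * H ^ n) = T ^ n * H ^ n := by
  have hc : Commute (T ^ n) (H ^ n) := (hcomm.pow_left _).pow_right _
  calc (T ^ n * H ^ n) * (T ^ n * H ^ n) = T ^ n * (H ^ n * T ^ n) * H ^ n := by
        simp only [mul_assoc]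
    _ = T ^ n * (T ^ n * H ^ n) * H ^ n := by rw [hc.eq]
    _ = T ^ n * H ^ n := by rw [proj_mul_pow T H n hcomm hT]

lemma ker_proj (hcomm : Commute T H) (hT : T ^ n = T ^ (n + 1) * H) :
    LinearMap.ker (T ^ n * H ^ n) = LinearMap.ker (T ^ n) := by
  have hc : Commute (T ^ n) (H ^ n) := (hcomm.pow_left _).pow_right _
  ext y
  rw [LinearMap.mem_ker, LinearMap.mem_ker]
  constructor
  · intro hy
    rw [← proj_mul_pow T H n hcomm hT, Module.End.mul_apply, hy, map_zero]
  · intro hy
    rw [hc.eq, Module.End.mul_apply, hy, map_zero]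

lemma projective_quot_ker [Module.Projective R M] (hcomm : Commute T H)
    (hT : T ^ n = T ^ (n + 1) * H) : Module.Projective R (M ⧸ LinearMap.ker (T ^ n)) := by
  set π : Module.End R M := T ^ n * H ^ n with hπ
  have hidem : π * π = π := proj_idem T H n hcomm hT
  have hker : LinearMap.ker π = LinearMap.ker (T ^ n) := ker_proj T H n hcomm hT
  rw [← hker]
  have e := LinearMap.quotKerEquivRange π
  have hr : Module.Projective R (LinearMap.range π) := by
    apply Module.Projective.of_split (LinearMap.range π).subtype π.rangeRestrict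
    ext ⟨x, y, rfl⟩
    simp only [LinearMap.comp_apply, Submodule.subtype_apply, LinearMap.id_apply,
      LinearMap.codRestrict_apply]
    exact congrArg (fun F : Module.End R M => F y) hidem
  exact Module.Projective.of_equiv e.symm

lemma apply_sub_mem_ker (hT : T ^ n = T ^ (n + 1) * H) (y : M) :
    T (H y) - y ∈ LinearMap.ker (T ^ n) := by
  rw [LinearMap.mem_ker, map_sub, sub_eq_zero]
  have := congrArg (fun F : Module.End R M => F y) hT
  simp only [Module.End.mul_apply, pow_succ] at this
  exact this.symm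

end Fitting


section BaseSetting

variable {A : Type u} [CommRing A] {L : Type u} [LieRing L] [LieAlgebra A L]
variable {n : ℕ} (f : (Fin n → A) →ₗ[A] L) (g : L →ₗ[A] (Fin n → A))
variable (B : Type u) [CommRing B] [Algebra A B]

/-- `f` over `B`, with source `B^n`. -/
noncomputable def fB : (Fin n → B) →ₗ[B] B ⊗[A] L :=
  f.baseChange B ∘ₗ (TensorProduct.piScalarRight A B B (Fin n)).symm.toLinearMap

/-- `g` over `B`, with target `B^n`. -/
noncomputable def gB : B ⊗[A] L →ₗ[B] (Fin n → B) :=
  (TensorProduct.piScalarRight A B B (Fin n)).toLinearMap ∘ₗ g.baseChange B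

lemma fB_comp_gB (hfg : f ∘ₗ g = LinearMap.id) : fB f B ∘ₗ gB g B = LinearMap.id := by
  apply LinearMap.ext
  intro x
  simp only [fB, gB, LinearMap.comp_apply, LinearEquiv.coe_coe, LinearEquiv.symm_apply_apply,
    LinearMap.id_apply]
  have := congrArg (fun F => F x) (LinearMap.baseChange_comp (A := B) (f := g) f)
  simp only [LinearMap.comp_apply] at this
  rw [← this, hfg, LinearMap.baseChange_id]
  rfl

lemma fB_single (k : Fin n) (t : B) :
    fB f B (Pi.single k t) = t ⊗ₜ[A] f (Pi.single k 1) := by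
  simp only [fB, LinearMap.comp_apply, LinearEquiv.coe_coe,
    TensorProduct.piScalarRight_symm_single, LinearMap.baseChange_tmul]

lemma gB_tmul (t : B) (l : L) (i : Fin n) : gB g B (t ⊗ₜ[A] l) i = g l i • t := by
  simp only [gB, LinearMap.comp_apply, LinearEquiv.coe_coe, LinearMap.baseChange_tmul,
    TensorProduct.piScalarRight_apply, TensorProduct.piScalarRightHom_tmul]

/-- `psi` as a linear map. -/
noncomputable def psiL : L →ₗ[A] Module.End A (Fin n → A) where
  toFun a := psi f g a
  map_add' a a' := by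
    simp only [psi, map_add]
    rw [LinearMap.add_comp, LinearMap.comp_add]
  map_smul' c a := by
    simp only [psi, map_smul, RingHom.id_apply]
    rw [LinearMap.smul_comp, LinearMap.comp_smul]

lemma psiL_apply (a : L) : psiL f g a = psi f g a := rfl

/-- the matrices `M_j` of `psi (f e_j)`. -/
noncomputable def Mj (j : Fin n) : Matrix (Fin n) (Fin n) A :=
  LinearMap.toMatrix' (psi f g (f (Pi.single j 1)))

lemma Mj_apply (j i k : Fin n) :
    Mj f g j i k = g ⁅f (Pi.single j 1), f (Pi.single k 1)⁆ i := by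
  classical
  rw [Mj, LinearMap.toMatrix'_apply]
  rfl

/-- the universal matrix over `A[X_1..X_n]`. -/
noncomputable def univMat : Matrix (Fin n) (Fin n) (MvPolynomial (Fin n) A) :=
  fun i k => ∑ j, MvPolynomial.X j * MvPolynomial.C (Mj f g j i k)

lemma toMatrix'_psiB_tmul (t : B) (j : Fin n) (i k : Fin n) :
    LinearMap.toMatrix' (psi (fB f B) (gB g B) (t ⊗ₜ[A] f (Pi.single j 1))) i k
      = t * algebraMap A B (Mj f g j i k) := by
  classical
  rw [LinearMap.toMatrix'_apply, Mj_apply]
  change gB g B (⁅t ⊗ₜ[A] f (Pi.single j 1), fB f B (Pi.single k 1)⁆) i = _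
  rw [fB_single]
  have : ⁅t ⊗ₜ[A] f (Pi.single j 1), (1 : B) ⊗ₜ[A] f (Pi.single k 1)⁆
      = (t * 1) ⊗ₜ[A] ⁅f (Pi.single j 1), f (Pi.single k 1)⁆ := rfl
  rw [this, gB_tmul, mul_one, Algebra.smul_def, mul_comm]

/-- `psi` over `B` as a linear map. -/
lemma psiB_sum (t : Fin n → B) :
    psi (fB f B) (gB g B) (∑ j, t j ⊗ₜ[A] f (Pi.single j 1))
      = ∑ j, psi (fB f B) (gB g B) (t j ⊗ₜ[A] f (Pi.single j 1)) := by
  rw [← psiL_apply, map_sum]
  rfl

lemma toMatrix'_psiB_sum (t : Fin n → B) :
    LinearMap.toMatrix' (psi (fB f B) (gB g B) (∑ j, t j ⊗ₜ[A] f (Pi.single j 1)))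
      = (univMat f g).map (MvPolynomial.aeval t) := by
  ext i k
  rw [psiB_sum, map_sum, Matrix.sum_apply, Matrix.map_apply, univMat, map_sum]
  apply Finset.sum_congr rfl
  intro j _
  rw [toMatrix'_psiB_tmul, map_mul, MvPolynomial.aeval_X, MvPolynomial.aeval_C]

lemma exists_coords (hfg : f ∘ₗ g = LinearMap.id) (b : B ⊗[A] L) :
    ∃ t : Fin n → B, b = ∑ j, t j ⊗ₜ[A] f (Pi.single j 1) := by
  classical
  refine ⟨gB g B b, ?_⟩
  have h1 : b = fB f B (gB g B b) := by
    have := congrArg (fun F => F b) (fB_comp_gB f g B hfg)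
    exact this.symm
  have h2 : gB g B b = ∑ j, Pi.single j (gB g B b j) := by
    funext i
    simp [Finset.sum_apply, Pi.single_apply]
  conv_lhs => rw [h1, h2]
  rw [map_sum]
  apply Finset.sum_congr rfl
  intro j _
  rw [fB_single]

lemma charpoly_psiB_sum (t : Fin n → B) :
    (psi (fB f B) (gB g B) (∑ j, t j ⊗ₜ[A] f (Pi.single j 1))).charpoly
      = (univMat f g).charpoly.map ((MvPolynomial.aeval t : MvPolynomial (Fin n) A →ₐ[A] B) : MvPolynomial (Fin n) A →+* B) := by
  rw [← Matrix.charpoly_map, ← LinearMap.charpoly_toMatrix _ (Pi.basisFun B (Fin n)),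
    LinearMap.toMatrix_eq_toMatrix']
  congr 1
  exact toMatrix'_psiB_sum f g B t

end BaseSetting



section Primewise

variable {A : Type u} [CommRing A] {L : Type u} [LieRing L] [LieAlgebra A L] [Module.Finite A L]
  [Module.Projective A L]
variable {n : ℕ} (f : (Fin n → A) →ₗ[A] L) (g : L →ₗ[A] (Fin n → A))
  (hfg : f ∘ₗ g = LinearMap.id)
variable (B : Type u) [CommRing B] [Algebra A B]

/-- the exponent function `ρ + n - d` on `Spec A`. -/
noncomputable def expo (A : Type u) [CommRing A] (L : Type u) [LieRing L] [LieAlgebra A L]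
    [Module.Finite A L] (n : ℕ) (q : PrimeSpectrum A) : ℕ :=
  rho A L q + n - Module.rankAtStalk L q

lemma finrank_fibre_comap (P : PrimeSpectrum B) :
    Module.finrank P.asIdeal.ResidueField (P.asIdeal.ResidueField ⊗[B] (B ⊗[A] L))
      = Module.rankAtStalk L (PrimeSpectrum.comap (algebraMap A B) P) := by
  rw [← Module.rankAtStalk_baseChange (R := A) (M := L) (S := B) P]
  exact (Module.rankAtStalk_eq (R := B) (M := B ⊗[A] L) P).symm

include hfg in
lemma coeff_mem_of_lt (b : B ⊗[A] L) (P : PrimeSpectrum B) (i : ℕ)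
    (hi : i < expo A L n (PrimeSpectrum.comap (algebraMap A B) P)) :
    (psi (fB f B) (gB g B) b).charpoly.coeff i ∈ P.asIdeal := by
  have h1 := charpoly_fibre (fB f B) (gB g B) (fB_comp_gB f g B hfg) b P.asIdeal.ResidueField
  have hd := finrank_fibre_comap (A := A) (L := L) B P
  set d' := Module.finrank P.asIdeal.ResidueField (P.asIdeal.ResidueField ⊗[B] (B ⊗[A] L)) with hd'
  have h2 := congrArg (fun p => Polynomial.coeff p (i + d')) h1
  rw [Polynomial.coeff_X_pow_mul, Polynomial.coeff_map, Polynomial.coeff_X_pow_mul'] at h2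
  rw [← Ideal.algebraMap_residueField_eq_zero, h2]
  split_ifs with hn
  · apply Polynomial.coeff_eq_zero_of_lt_natTrailingDegree
    have h3 : i + d' - n < rho A L (PrimeSpectrum.comap (algebraMap A B) P) := by
      unfold expo at hi
      rw [← hd] at hi
      omega
    calc i + d' - n < rho A L (PrimeSpectrum.comap (algebraMap A B) P) := h3
      _ = LieAlgebra.rank P.asIdeal.ResidueField (P.asIdeal.ResidueField ⊗[B] (B ⊗[A] L)) :=
        rho_comap B P
      _ ≤ _ := LieAlgebra.rank_le_natTrailingDegree_charpoly_ad _ _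
  · rfl

include hfg in
lemma coeff_notMem_of_isRegular (b : B ⊗[A] L) (P : PrimeSpectrum B)
    (hreg : LieAlgebra.IsRegular P.asIdeal.ResidueField ((1 : P.asIdeal.ResidueField) ⊗ₜ[B] b)) :
    (psi (fB f B) (gB g B) b).charpoly.coeff
      (expo A L n (PrimeSpectrum.comap (algebraMap A B) P)) ∉ P.asIdeal := by
  have h := (isRegular_fibre_iff (fB f B) (gB g B) (fB_comp_gB f g B hfg) b P).mp hreg
  rw [← rho_comap B P, finrank_fibre_comap] at h
  exact h

include hfg in
lemma expo_le (q : PrimeSpectrum A) : expo A L n q ≤ n := by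
  unfold expo rho
  have h1 : LieAlgebra.rank q.asIdeal.ResidueField (q.asIdeal.ResidueField ⊗[A] L)
      ≤ Module.finrank q.asIdeal.ResidueField (q.asIdeal.ResidueField ⊗[A] L) :=
    LieAlgebra.rank_le_finrank _ _
  rw [Module.rankAtStalk_eq]
  have : Module.finrank q.asIdeal.ResidueField (q.asIdeal.Fiber L)
      = Module.finrank q.asIdeal.ResidueField (q.asIdeal.ResidueField ⊗[A] L) := rfl
  omega

end Primewise


section Alg

variable {R : Type*} [CommRing R] {V W : Type*} [AddCommGroup V] [Module R V]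
  [AddCommGroup W] [Module R W]

lemma aeval_conj_retract (f : V →ₗ[R] W) (g : W →ₗ[R] V) (hfg : f ∘ₗ g = LinearMap.id)
    (φ : Module.End R W) (p : R[X]) :
    f ∘ₗ (Polynomial.aeval (g ∘ₗ φ ∘ₗ f : Module.End R V) p) ∘ₗ g = Polynomial.aeval φ p := by
  have hfg' : ∀ x, f (g x) = x := fun x => by
    have := congrArg (fun F : W →ₗ[R] W => F x) hfg
    exact this
  induction p using Polynomial.induction_on' with
  | add p q hp hq =>
    rw [map_add, map_add, LinearMap.add_comp, LinearMap.comp_add, hp, hq]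
  | monomial k c =>
    rw [Polynomial.aeval_monomial, Polynomial.aeval_monomial]
    cases k with
    | zero =>
      rw [pow_zero, pow_zero, mul_one, mul_one]
      ext x
      simp only [LinearMap.comp_apply, Module.algebraMap_end_apply, map_smul, hfg']
    | succ k =>
      rw [pow_conj_retract f g hfg φ k]
      ext x
      simp only [LinearMap.comp_apply, Module.End.mul_apply, Module.algebraMap_end_apply,
        map_smul, hfg']

lemma aeval_eq_zero_of_retract [Module.Free R V] [Module.Finite R V]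
    (f : V →ₗ[R] W) (g : W →ₗ[R] V) (hfg : f ∘ₗ g = LinearMap.id)
    (φ : Module.End R W) :
    Polynomial.aeval φ (g ∘ₗ φ ∘ₗ f : Module.End R V).charpoly = 0 := by
  rw [← aeval_conj_retract f g hfg φ, LinearMap.aeval_self_charpoly, LinearMap.zero_comp,
    LinearMap.comp_zero]

lemma exists_poly_of_idem {M : Type*} [AddCommGroup M] [Module R M] (T : Module.End R M)
    (χ : R[X]) (hχ : Polynomial.aeval T χ = 0) (ε : R) (hε : IsIdempotentElem ε) (j n : ℕ)
    (hj : j ≤ n) (hlow : ∀ i < j, ε * χ.coeff i = 0)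
    (hunit : ∀ P : PrimeSpectrum R, ε ∉ P.asIdeal → χ.coeff j ∉ P.asIdeal) :
    ∃ h : R[X], ε • T ^ n = T ^ (n + 1) * Polynomial.aeval T h := by
  set c := χ.coeff j with hc
  have hε2 : ε * ε = ε := hε
  have hw : IsUnit (ε * c + (1 - ε)) := by
    by_contra hnu
    obtain ⟨I, hI, hmem⟩ := exists_max_ideal_of_mem_nonunits hnu
    let P : PrimeSpectrum R := ⟨I, hI.isPrime⟩
    by_cases h1 : ε ∈ I
    · have h2 : (1 - ε) ∈ I := by
        have := I.sub_mem hmem (I.mul_mem_right c h1)
        simpa using this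
      have : (1 : R) ∈ I := by
        have := I.add_mem h2 h1
        simpa using this
      exact hI.ne_top ((Ideal.eq_top_iff_one _).mpr this)
    · have h2 : (1 - ε) ∈ I := by
        have : ε * (1 - ε) ∈ I := by
          rw [mul_sub, mul_one, hε2, sub_self]
          exact zero_mem _
        exact (hI.isPrime.mem_or_mem this).resolve_left h1
      have h3 : ε * c ∈ I := by
        have := I.sub_mem hmem h2
        simpa using this
      exact hunit P h1 ((hI.isPrime.mem_or_mem h3).resolve_left h1)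
  obtain ⟨u, hu⟩ := hw
  set v : R := ((u⁻¹ : Rˣ) : R) with hv
  have hwv : (ε * c + (1 - ε)) * v = 1 := by rw [← hu, hv, Units.mul_inv]
  have hεv : ε = (ε * c) * v := by
    have : ε * ((ε * c + (1 - ε)) * v) = (ε * c) * v := by
      have e1 : ε * (ε * c + (1 - ε)) = ε * c := by
        rw [mul_add, ← mul_assoc, hε2, mul_sub, mul_one, hε2, sub_self, add_zero]
      rw [← mul_assoc, e1]
    rw [hwv, mul_one] at this
    exact this
  have hdvd : X ^ (j + 1) ∣ (C ε * χ - C (ε * c) * X ^ j) := by
    rw [Polynomial.X_pow_dvd_iff]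
    intro d hd
    rw [Polynomial.coeff_sub, Polynomial.coeff_C_mul, Polynomial.coeff_C_mul,
      Polynomial.coeff_X_pow]
    rcases Nat.lt_succ_iff_lt_or_eq.mp hd with h1 | h1
    · rw [hlow d h1, if_neg (by omega), mul_zero, sub_zero]
    · rw [h1, if_pos rfl, mul_one, sub_self]
  obtain ⟨Q, hQ⟩ := hdvd
  have h1 : (ε * c) • T ^ j + T ^ (j + 1) * Polynomial.aeval T Q = 0 := by
    have e1 : Polynomial.aeval T (C ε * χ) = 0 := by rw [map_mul (Polynomial.aeval T), hχ, mul_zero]
    have e2 : Polynomial.aeval T (C (ε * c) * X ^ j) = (ε * c) • T ^ j := by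
      rw [map_mul (Polynomial.aeval T), Polynomial.aeval_C, map_pow, Polynomial.aeval_X,
        Algebra.smul_def]
    have e3 : Polynomial.aeval T (X ^ (j + 1) * Q) = T ^ (j + 1) * Polynomial.aeval T Q := by
      rw [map_mul (Polynomial.aeval T), map_pow, Polynomial.aeval_X]
    have := congrArg (Polynomial.aeval T) hQ
    rw [map_sub, e1, e2, e3, zero_sub] at this
    rw [← this, add_neg_cancel]
  have h2 : ε • T ^ j = T ^ (j + 1) * Polynomial.aeval T (C (-v) * Q) := by
    rw [map_mul, Polynomial.aeval_C]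
    have h3 : (ε * c) • T ^ j = - (T ^ (j + 1) * Polynomial.aeval T Q) :=
      eq_neg_of_add_eq_zero_left h1
    conv_lhs => rw [hεv, mul_comm, mul_smul, h3]
    rw [map_neg, neg_mul, mul_neg, smul_neg, Algebra.smul_def]
    congr 1
    rw [← mul_assoc, ← mul_assoc]
    congr 1
    exact (Algebra.commutes v (T ^ (j + 1))).symm ▸ rfl
  refine ⟨C (-v) * Q, ?_⟩
  have h4 : n = (n - j) + j := by omega
  calc ε • T ^ n = T ^ (n - j) * (ε • T ^ j) := by
        rw [mul_smul_comm, ← pow_add, ← h4]
    _ = T ^ (n - j) * (T ^ (j + 1) * Polynomial.aeval T (C (-v) * Q)) := by rw [h2]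
    _ = T ^ (n + 1) * Polynomial.aeval T (C (-v) * Q) := by
        rw [← mul_assoc, ← pow_add]
        congr 2
        omega

end Alg

end Groth.Agent.Lib.Helper24RelCartan
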