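import Mathlib
import Groth.Agent.Lib.Helper24RelCartanI

/-!
# Relative Cartan subalgebras (SGA3 XIV), part J: over a reduced base, locally constant rank
implies that quasi-regular elements are regular ((C₀) ⇒ (C₂)), via the universal characteristic
polynomial over `A[X_1..X_n]` (helper24)
-/

set_option autoImplicit false
set_option linter.unusedSectionVars false
set_option linter.style.haveILetI false
universe u

namespace Groth.Agent.Lib.Helper24RelCartan

open scoped TensorProduct
open Polynomial LieSubalgebra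

section Universal

variable {A : Type u} [CommRing A] {L : Type u} [LieRing L] [LieAlgebra A L] [Module.Finite A L]
  [Module.Projective A L]
variable {n : ℕ} (f : (Fin n → A) →ₗ[A] L) (g : L →ₗ[A] (Fin n → A))
  (hfg : f ∘ₗ g = LinearMap.id)

include hfg in
lemma univ_coeff_vanish [IsReduced A] (ε : A) (i : ℕ)
    (h : ∀ q : PrimeSpectrum A, ε ∉ q.asIdeal → i < expo A L n q) :
    MvPolynomial.C ε * (univMat f g).charpoly.coeff i = 0 := by
  apply IsNilpotent.eq_zero
  rw [nilpotent_iff_mem_prime]
  intro J hJ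
  let P : PrimeSpectrum (MvPolynomial (Fin n) A) := ⟨J, hJ⟩
  by_cases hε : MvPolynomial.C ε ∈ J
  · exact Ideal.mul_mem_right _ _ hε
  · apply Ideal.mul_mem_left
    have hq : ε ∉ (PrimeSpectrum.comap (algebraMap A (MvPolynomial (Fin n) A)) P).asIdeal := hε
    have h1 := coeff_mem_of_lt f g hfg (MvPolynomial (Fin n) A)
      (∑ j, MvPolynomial.X j ⊗ₜ[A] f (Pi.single j 1)) P i (h _ hq)
    rw [charpoly_psiB_sum, MvPolynomial.aeval_X_left] at h1
    have h2 : Polynomial.map ((AlgHom.id A (MvPolynomial (Fin n) A) :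
        MvPolynomial (Fin n) A →ₐ[A] MvPolynomial (Fin n) A) :
          MvPolynomial (Fin n) A →+* MvPolynomial (Fin n) A) (univMat f g).charpoly
        = (univMat f g).charpoly := Polynomial.map_id
    rw [h2] at h1
    exact h1

include hfg in
lemma coeff_vanish [IsReduced A] (ε : A) (i : ℕ)
    (h : ∀ q : PrimeSpectrum A, ε ∉ q.asIdeal → i < expo A L n q)
    (B : Type u) [CommRing B] [Algebra A B] (b : B ⊗[A] L) :
    algebraMap A B ε * (psi (fB f B) (gB g B) b).charpoly.coeff i = 0 := by
  obtain ⟨t, rfl⟩ := exists_coords f g B hfg b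
  rw [charpoly_psiB_sum, Polynomial.coeff_map]
  have := congrArg (MvPolynomial.aeval t) (univ_coeff_vanish f g hfg ε i h)
  rw [map_mul, MvPolynomial.aeval_C, map_zero] at this
  exact this

end Universal



section MainS8379

open SGA3t2b

variable {A : Type u} [CommRing A] {L : Type u} [LieRing L] [LieAlgebra A L] [Module.Finite A L]
  [Module.Projective A L]

lemma commute_aeval {R : Type*} [CommRing R] {M : Type*} [AddCommGroup M] [Module R M]
    (T : Module.End R M) (p : R[X]) : Commute T (Polynomial.aeval T p) := by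
  have h1 : T * Polynomial.aeval T p = Polynomial.aeval T (X * p) := by
    rw [map_mul (Polynomial.aeval T), Polynomial.aeval_X]
  have h2 : Polynomial.aeval T p * T = Polynomial.aeval T (p * X) := by
    rw [map_mul (Polynomial.aeval T), Polynomial.aeval_X]
  change T * _ = _ * T
  rw [h1, h2, mul_comm]

lemma isLocallyConstant_rho
    (hC0 : ∀ p : PrimeSpectrum A, ∃ f : A, f ∉ p.asIdeal ∧ ∀ q : PrimeSpectrum A, f ∉ q.asIdeal →
        LieAlgebra.rank q.asIdeal.ResidueField (q.asIdeal.ResidueField ⊗[A] L) =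
          LieAlgebra.rank p.asIdeal.ResidueField (p.asIdeal.ResidueField ⊗[A] L)) :
    IsLocallyConstant (rho A L) := by
  rw [IsLocallyConstant.iff_exists_open]
  intro p
  obtain ⟨f, hf, h⟩ := hC0 p
  exact ⟨PrimeSpectrum.basicOpen f, (PrimeSpectrum.basicOpen f).2, hf, fun q hq => h q hq⟩

lemma isLocallyConstant_expo
    (hC0 : ∀ p : PrimeSpectrum A, ∃ f : A, f ∉ p.asIdeal ∧ ∀ q : PrimeSpectrum A, f ∉ q.asIdeal →
        LieAlgebra.rank q.asIdeal.ResidueField (q.asIdeal.ResidueField ⊗[A] L) =
          LieAlgebra.rank p.asIdeal.ResidueField (p.asIdeal.ResidueField ⊗[A] L)) (n : ℕ) :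
    IsLocallyConstant (expo A L n) := by
  haveI : Module.FinitePresentation A L := Module.finitePresentation_of_projective A L
  have h1 := isLocallyConstant_rho hC0
  have h2 : IsLocallyConstant (Module.rankAtStalk (R := A) L) :=
    Module.isLocallyConstant_rankAtStalk
  show IsLocallyConstant (fun q => rho A L q + n - Module.rankAtStalk L q)
  exact h1.comp₂ h2 (fun a b => a + n - b)

theorem main_S8379 [IsReduced A]
    (hC0 : ∀ p : PrimeSpectrum A, ∃ f : A, f ∉ p.asIdeal ∧ ∀ q : PrimeSpectrum A, f ∉ q.asIdeal →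
        LieAlgebra.rank q.asIdeal.ResidueField (q.asIdeal.ResidueField ⊗[A] L) =
          LieAlgebra.rank p.asIdeal.ResidueField (p.asIdeal.ResidueField ⊗[A] L))
    (A' : Type u) [CommRing A'] [Algebra A A'] (a' : A' ⊗[A] L)
    (ha' : SGA3t2b.IsQuasiRegular A' (A' ⊗[A] L) a') :
    SGA3t2b.IsRegularRel A' (A' ⊗[A] L) a' := by
  obtain ⟨n, f, g, -, -, hfg⟩ := Module.Finite.exists_comp_eq_id_of_projective A L
  have hloc := isLocallyConstant_expo (L := L) hC0 n
  have hidem : ∀ j : ℕ, ∃ ε : A, IsIdempotentElem ε ∧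
      ∀ q : PrimeSpectrum A, ε ∉ q.asIdeal ↔ expo A L n q = j := by
    intro j
    obtain ⟨ε, hε, hs⟩ := PrimeSpectrum.isClopen_iff.mp (hloc.isClopen_fiber j)
    refine ⟨ε, hε, fun q => ?_⟩
    exact (Set.ext_iff.mp hs q).symm
  choose ε hε hεq using hidem
  set T : Module.End A' (A' ⊗[A] L) := LieAlgebra.ad A' (A' ⊗[A] L) a' with hT
  set χ := (psi (fB f A') (gB g A') a').charpoly with hχ
  have hCH : Polynomial.aeval T χ = 0 :=
    aeval_eq_zero_of_retract (fB f A') (gB g A') (fB_comp_gB f g A' hfg) T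
  have hpoly : ∀ j : Fin (n + 1), ∃ h : A'[X],
      (algebraMap A A' (ε j)) • T ^ n = T ^ (n + 1) * Polynomial.aeval T h := by
    intro j
    apply exists_poly_of_idem T χ hCH (algebraMap A A' (ε j)) ((hε j).map (algebraMap A A')) j n
      (Nat.lt_succ_iff.mp j.2)
    · intro i hi
      apply coeff_vanish f g hfg (ε j) i _ A' a'
      intro q hq
      rw [(hεq j q).mp hq]
      exact hi
    · intro P hP
      have hq : ε j ∉ (PrimeSpectrum.comap (algebraMap A A') P).asIdeal := hP
      have := coeff_notMem_of_isRegular f g hfg A' a' P (ha' P)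
      rw [(hεq j _).mp hq] at this
      exact this
  choose hj hhj using hpoly
  have hspan : Ideal.span (Set.range (fun j : Fin (n + 1) => ε j)) = ⊤ := by
    by_contra hne
    obtain ⟨m, hm, hle⟩ := Ideal.exists_le_maximal _ hne
    let q : PrimeSpectrum A := ⟨m, hm.isPrime⟩
    have hjn : expo A L n q < n + 1 := Nat.lt_succ_of_le (expo_le f g hfg q)
    have : ε (expo A L n q) ∉ q.asIdeal := (hεq _ q).mpr rfl
    exact this (hle (Ideal.subset_span ⟨⟨expo A L n q, hjn⟩, rfl⟩))
  have h1mem : (1 : A) ∈ Ideal.span (Set.range (fun j : Fin (n + 1) => ε j)) := by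
    rw [hspan]
    exact Submodule.mem_top
  obtain ⟨r, hr⟩ := Ideal.mem_span_range_iff_exists_fun.mp h1mem
  set H : Module.End A' (A' ⊗[A] L) :=
    Polynomial.aeval T (∑ j, C (algebraMap A A' (r j)) * hj j) with hH
  have hTn : T ^ n = T ^ (n + 1) * H := by
    have h1 : (1 : A') • T ^ n = T ^ n := one_smul _ _
    rw [← h1, ← map_one (algebraMap A A'), ← hr, map_sum, Finset.sum_smul, hH, map_sum,
      Finset.mul_sum]
    apply Finset.sum_congr rfl
    intro j _
    rw [map_mul, mul_smul, hhj j, map_mul (Polynomial.aeval T), Polynomial.aeval_C,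
      ← mul_assoc, ← Algebra.commutes, mul_assoc, Algebra.smul_def]
  have hcomm : Commute T H := commute_aeval T _
  have hengel : (engel A' a').toSubmodule = LinearMap.ker (T ^ n) := by
    ext y
    rw [LieSubalgebra.mem_toSubmodule, mem_engel_iff, LinearMap.mem_ker]
    constructor
    · rintro ⟨k, hk⟩
      exact ker_pow_le T H n hcomm hTn k (LinearMap.mem_ker.mpr hk)
    · intro hy
      exact ⟨n, hy⟩
  have hproj : Module.Projective A' ((A' ⊗[A] L) ⧸ (engel A' a').toSubmodule) := by
    rw [hengel]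
    exact projective_quot_ker T H n hcomm hTn
  have h3 : ∀ y : A' ⊗[A] L, ∃ z : A' ⊗[A] L, ⁅a', z⁆ - y ∈ engel A' a' := by
    intro y
    refine ⟨H y, ?_⟩
    have := apply_sub_mem_ker T H n hTn y
    rw [← hengel] at this
    exact this
  exact ⟨ha', engel A' a', isCartanRel_engel a' ha' hproj h3, self_mem_engel A' a'⟩

end MainS8379

end Groth.Agent.Lib.Helper24RelCartan
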