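import Mathlib
import Groth.Agent.Lib.Helper24RelCartanJ

/-!
# Relative Cartan subalgebras (SGA3 XIV), part K: a relative Cartan subalgebra has, near a point
with infinite residue field, a regular section `a` with `H = Nil(a)` on a basic open
(determinant trick, Barnes' lemma `engel_isBot_of_isMin`, zero root subalgebra) (helper24)
-/

set_option autoImplicit false
set_option linter.unusedSectionVars false
set_option linter.style.haveILetI false
universe u

namespace Groth.Agent.Lib.Helper24RelCartan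

open scoped TensorProduct
open Polynomial LieSubalgebra

section DetTrick

variable {A : Type u} [CommRing A] {Q : Type*} [AddCommGroup Q] [Module A Q]

/-- the endomorphism `G φ F + (1 - G F)` of `A^n`. -/
noncomputable def bigD {n : ℕ} (F : (Fin n → A) →ₗ[A] Q) (G : Q →ₗ[A] (Fin n → A))
    (φ : Module.End A Q) : Module.End A (Fin n → A) :=
  G ∘ₗ φ ∘ₗ F + (LinearMap.id - G ∘ₗ F)

variable {n : ℕ} (F : (Fin n → A) →ₗ[A] Q) (G : Q →ₗ[A] (Fin n → A))
  (hFG : F ∘ₗ G = LinearMap.id) (φ : Module.End A Q)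

include hFG in
lemma bigD_comp_G : bigD F G φ ∘ₗ G = G ∘ₗ φ := by
  have h : ∀ x, F (G x) = x := fun x => congrArg (fun T : Q →ₗ[A] Q => T x) hFG
  ext x i
  simp only [bigD, LinearMap.comp_apply, LinearMap.add_apply, LinearMap.sub_apply,
    LinearMap.id_apply, h, sub_self, add_zero]

include hFG in
lemma bigD_pow_G (k : ℕ) (w : Q) : ((bigD F G φ) ^ k) (G w) = G ((φ ^ k) w) := by
  induction k generalizing w with
  | zero => rfl
  | succ k ih =>
    rw [pow_succ, pow_succ, Module.End.mul_apply, Module.End.mul_apply]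
    have := congrArg (fun T => T w) (bigD_comp_G F G hFG φ)
    simp only [LinearMap.comp_apply] at this
    rw [this, ih]

include hFG in
lemma bigD_baseChange_surjective (κ : Type*) [Field κ] [Algebra A κ]
    (hs : Function.Surjective (φ.baseChange κ)) :
    Function.Surjective ((bigD F G φ).baseChange κ) := by
  have h : ∀ x, (F.baseChange κ) ((G.baseChange κ) x) = x := by
    intro x
    have := congrArg (fun T => T x) (LinearMap.baseChange_comp (A := κ) (f := G) F)
    simp only [LinearMap.comp_apply] at this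
    rw [← this, hFG, LinearMap.baseChange_id]
    rfl
  have hD : (bigD F G φ).baseChange κ = G.baseChange κ ∘ₗ φ.baseChange κ ∘ₗ F.baseChange κ
      + (LinearMap.id - G.baseChange κ ∘ₗ F.baseChange κ) := by
    rw [bigD, LinearMap.baseChange_add, LinearMap.baseChange_sub, LinearMap.baseChange_comp,
      LinearMap.baseChange_comp, LinearMap.baseChange_comp, LinearMap.baseChange_id]
  intro v
  obtain ⟨w, hw⟩ := hs (F.baseChange κ v)
  refine ⟨G.baseChange κ w + (v - G.baseChange κ (F.baseChange κ v)), ?_⟩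
  rw [hD]
  simp only [LinearMap.add_apply, LinearMap.comp_apply, LinearMap.sub_apply, LinearMap.id_apply,
    map_add, map_sub, h, hw]
  abel

include hFG in
lemma det_bigD_notMem (q : PrimeSpectrum A)
    (hs : Function.Surjective (φ.baseChange q.asIdeal.ResidueField)) :
    LinearMap.det (bigD F G φ) ∉ q.asIdeal := by
  intro hmem
  have h0 : LinearMap.det ((bigD F G φ).baseChange q.asIdeal.ResidueField) = 0 := by
    rw [LinearMap.det_baseChange, Ideal.algebraMap_residueField_eq_zero]
    exact hmem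
  have hsurj := bigD_baseChange_surjective F G hFG φ q.asIdeal.ResidueField hs
  have hinj := (LinearMap.injective_iff_surjective
    (f := (bigD F G φ).baseChange q.asIdeal.ResidueField)).mpr hsurj
  have := LinearMap.bot_lt_ker_of_det_eq_zero h0
  rw [LinearMap.ker_eq_bot.mpr hinj] at this
  exact lt_irrefl _ this

lemma det_pow_smul_eq_zero (D : Module.End A (Fin n → A)) (k : ℕ) (v : Fin n → A)
    (hv : (D ^ k) v = 0) : (LinearMap.det D) ^ k • v = 0 := by
  classical
  have hadj : ∀ u : Fin n → A, (Matrix.toLin' (LinearMap.toMatrix' D).adjugate) (D u)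
      = LinearMap.det D • u := by
    intro u
    have h1 : (LinearMap.toMatrix' D).adjugate * (LinearMap.toMatrix' D)
        = (LinearMap.toMatrix' D).det • (1 : Matrix (Fin n) (Fin n) A) := Matrix.adjugate_mul _
    have h2 := congrArg (fun M => Matrix.toLin' M u) h1
    simp only [Matrix.toLin'_mul, LinearMap.comp_apply, Matrix.toLin'_toMatrix', map_smul,
      Matrix.toLin'_one, LinearMap.smul_apply, LinearMap.id_apply, LinearMap.det_toMatrix'] at h2
    exact h2
  induction k generalizing v with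
  | zero => simpa using hv
  | succ k ih =>
    rw [pow_succ, Module.End.mul_apply] at hv
    have h1 := ih (D v) hv
    have h2 : D ((LinearMap.det D) ^ k • v) = 0 := by rw [map_smul, h1]
    have h3 := hadj ((LinearMap.det D) ^ k • v)
    rw [h2, map_zero] at h3
    rw [pow_succ', mul_smul]
    exact h3.symm

include hFG in
lemma exists_pow_smul_eq_zero_of_fibres_surjective (f : A)
    (hs : ∀ q : PrimeSpectrum A, f ∉ q.asIdeal →
      Function.Surjective (φ.baseChange q.asIdeal.ResidueField))
    (w : Q) (k : ℕ) (hw : (φ ^ k) w = 0) : ∃ m : ℕ, f ^ m • w = 0 := by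
  set δ := LinearMap.det (bigD F G φ) with hδ
  have hle : PrimeSpectrum.basicOpen f ≤ PrimeSpectrum.basicOpen δ := by
    intro q hq
    exact det_bigD_notMem F G hFG φ q (hs q hq)
  rw [PrimeSpectrum.basicOpen_le_basicOpen_iff] at hle
  obtain ⟨m, hm⟩ := hle
  obtain ⟨c, hc⟩ := Ideal.mem_span_singleton'.mp hm
  have h1 : ((bigD F G φ) ^ k) (G w) = 0 := by rw [bigD_pow_G F G hFG φ k w, hw, map_zero]
  have h2 := det_pow_smul_eq_zero (bigD F G φ) k (G w) h1
  have h3 : δ ^ k • w = 0 := by
    have h : ∀ x, F (G x) = x := fun x => congrArg (fun T : Q →ₗ[A] Q => T x) hFG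
    rw [← h w, ← map_smul, h2, map_zero]
  refine ⟨m * k, ?_⟩
  rw [pow_mul, ← hc, mul_pow, mul_smul, h3, smul_zero]

end DetTrick


section FieldCartan

open Module Cardinal

variable (K : Type*) [Field K] [Infinite K] {M : Type*} [LieRing M] [LieAlgebra K M]
  [Module.Finite K M]

lemma le_engel_of_mem_of_isNilpotent (U : LieSubalgebra K M) [LieRing.IsNilpotent U] (y : M)
    (hy : y ∈ U) : U ≤ engel K y := by
  intro u hu
  have := LieAlgebra.le_zeroRootSubalgebra K M U hu
  rw [LieAlgebra.mem_zeroRootSubalgebra] at this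
  obtain ⟨k, hk⟩ := this ⟨y, hy⟩
  exact (mem_engel_iff _ _ _).mpr ⟨k, hk⟩

lemma exists_isRegular_mem_of_cartan (U : LieSubalgebra K M) [hU : U.IsCartanSubalgebra]
    (hrank : Module.finrank K U = LieAlgebra.rank K M) :
    ∃ x ∈ U, LieAlgebra.IsRegular K x ∧ engel K x = U := by
  classical
  have hLK : finrank K M ≤ #K :=
    (natCast_le_aleph0 (n := finrank K M)).trans (Cardinal.infinite_iff.mp ‹Infinite K›)
  have hne : ∃ d, ∃ x ∈ U, finrank K (engel K x) = d := ⟨_, 0, U.zero_mem, rfl⟩
  obtain ⟨x, hxU, hxd⟩ := Nat.find_spec hne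
  have hmin : ∀ y ∈ U, finrank K (engel K x) ≤ finrank K (engel K y) := fun y hy =>
    hxd ▸ Nat.find_min' hne ⟨y, hy, rfl⟩
  have hUle : ∀ y ∈ U, U ≤ engel K y := fun y hy => le_engel_of_mem_of_isNilpotent K U y hy
  set Ex : {engel K z | z ∈ U} := ⟨engel K x, x, hxU, rfl⟩ with hEx
  have hbot : IsBot Ex := by
    apply LieAlgebra.engel_isBot_of_isMin hLK U Ex (hUle x hxU)
    rintro ⟨_, y, hy, rfl⟩ hyx
    have h1 : finrank K (engel K x) ≤ finrank K (engel K y) := hmin y hy
    have heq : engel K y = engel K x :=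
      LieSubalgebra.toSubmodule_injective (Submodule.eq_of_le_of_finrank_le hyx h1)
    exact heq.ge
  have hle : engel K x ≤ U := by
    intro z hz
    have h1 : z ∈ LieAlgebra.zeroRootSubalgebra K M U := by
      rw [LieAlgebra.mem_zeroRootSubalgebra]
      intro y
      have h2 : engel K x ≤ engel K (y : M) := @hbot ⟨engel K (y : M), y, y.2, rfl⟩
      exact (mem_engel_iff _ _ _).mp (h2 hz)
    rw [LieAlgebra.zeroRootSubalgebra_eq_of_is_cartan K M U] at h1
    exact h1
  have heq : engel K x = U := le_antisymm hle (hUle x hxU)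
  refine ⟨x, hxU, ?_, heq⟩
  rw [LieAlgebra.isRegular_iff_finrank_engel_eq_rank, heq]
  exact hrank

end FieldCartan



section S8374

open SGA3t2b

variable {A : Type u} [CommRing A] {L : Type u} [LieRing L] [LieAlgebra A L] [Module.Finite A L]
  [Module.Projective A L]

/-- `κ ⊗ H → κ ⊗ L` as a morphism of Lie algebras over `κ`. -/
noncomputable def iotaLie (κ : Type u) [CommRing κ] [Algebra A κ] (H : LieSubalgebra A L) :
    κ ⊗[A] H →ₗ⁅κ⁆ κ ⊗[A] L :=
  { iota κ H with map_lie' := fun {x y} => iota_ad κ H x y }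

lemma iotaLie_apply (κ : Type u) [CommRing κ] [Algebra A κ] (H : LieSubalgebra A L)
    (x : κ ⊗[A] H) : iotaLie κ H x = iota κ H x := rfl

lemma range_iotaLie_toSubmodule (p : PrimeSpectrum A) (H : LieSubalgebra A L) :
    (iotaLie p.asIdeal.ResidueField H).range.toSubmodule = fibreSubmodule p H := rfl

/-- a relative Cartan subalgebra gives (C₀). -/
lemma C0_of_isCartanRel (H : LieSubalgebra A L) (hH : IsCartanRel H) :
    ∀ p : PrimeSpectrum A, ∃ f : A, f ∉ p.asIdeal ∧ ∀ q : PrimeSpectrum A, f ∉ q.asIdeal →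
      LieAlgebra.rank q.asIdeal.ResidueField (q.asIdeal.ResidueField ⊗[A] L) =
        LieAlgebra.rank p.asIdeal.ResidueField (p.asIdeal.ResidueField ⊗[A] L) := by
  haveI := hH.1
  haveI : Module.Finite A H.toSubmodule := finite_of_projective_quotient H.toSubmodule
  haveI : Module.Projective A H.toSubmodule := projective_of_projective_quotient H.toSubmodule
  haveI : Module.FinitePresentation A H.toSubmodule := Module.finitePresentation_of_projective A _
  have hloc : IsLocallyConstant (Module.rankAtStalk (R := A) H.toSubmodule) :=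
    Module.isLocallyConstant_rankAtStalk
  have hr : ∀ q : PrimeSpectrum A,
      LieAlgebra.rank q.asIdeal.ResidueField (q.asIdeal.ResidueField ⊗[A] L)
        = Module.rankAtStalk (R := A) H.toSubmodule q := by
    intro q
    rw [← (hH.2 q).2.2]
    exact finrank_fibreSubmodule H hH.1 q
  intro p
  have hopen : IsOpen {q | Module.rankAtStalk (R := A) H.toSubmodule q
      = Module.rankAtStalk (R := A) H.toSubmodule p} := hloc.isOpen_fiber _
  obtain ⟨v, ⟨f, rfl⟩, hpv, hv⟩ :=
    PrimeSpectrum.isTopologicalBasis_basic_opens.exists_subset_of_mem_open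
      (show p ∈ {q | Module.rankAtStalk (R := A) H.toSubmodule q
        = Module.rankAtStalk (R := A) H.toSubmodule p} from rfl) hopen
  refine ⟨f, hpv, fun q hqf => ?_⟩
  rw [hr q, hr p]
  exact hv hqf

/-- `ad a` is nilpotent on a relative Cartan subalgebra containing `a`. -/
lemma exists_pow_ad_eq_zero_of_isCartanRel (H : LieSubalgebra A L) (hH : IsCartanRel H) (a : L)
    (haH : a ∈ H) : ∃ k : ℕ, (LieAlgebra.ad A H (⟨a, haH⟩ : H)) ^ k = 0 := by
  obtain ⟨hproj, hfib⟩ := hH
  haveI : Module.Projective A (L ⧸ H.toSubmodule) := hproj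
  haveI hfinH : Module.Finite A H := finite_of_projective_quotient H.toSubmodule
  haveI hprojH : Module.Projective A H := projective_of_projective_quotient H.toSubmodule
  have hnil : IsNilpotent (LieAlgebra.ad A H (⟨a, haH⟩ : H) : Module.End A H) := by
    apply isNilpotent_of_fibres
    intro p
    rw [← ad_one_tmul (A := A) (L := H)]
    haveI : LieModule.IsNilpotent (p.asIdeal.ResidueField ⊗[A] H)
      (p.asIdeal.ResidueField ⊗[A] H) := (hfib p).1
    exact LieModule.isNilpotent_toEnd_of_isNilpotent p.asIdeal.ResidueField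
      (p.asIdeal.ResidueField ⊗[A] H) (p.asIdeal.ResidueField ⊗[A] H) _
  exact hnil

lemma le_engel_of_pow_ad_eq_zero (H : LieSubalgebra A L) (a : L) (haH : a ∈ H) (k : ℕ)
    (hk : (LieAlgebra.ad A H (⟨a, haH⟩ : H)) ^ k = 0) : H ≤ engel A a := by
  intro h hh
  rw [mem_engel_iff]
  refine ⟨k, ?_⟩
  have := congrArg (fun F : Module.End A H => ((F ⟨h, hh⟩ : H) : L)) hk
  simp only [LieSubalgebra.coe_ad_pow, LinearMap.zero_apply, ZeroMemClass.coe_zero] at this
  exact this

/-- existence of a section of `H` regular at `p` when `κ(p)` is infinite. -/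
lemma exists_mem_isRegular_at (H : LieSubalgebra A L) (hH : IsCartanRel H) (p : PrimeSpectrum A)
    (hp : Infinite p.asIdeal.ResidueField) :
    ∃ a : L, a ∈ H ∧
      LieAlgebra.IsRegular p.asIdeal.ResidueField ((1 : p.asIdeal.ResidueField) ⊗ₜ[A] a) := by
  set κ := p.asIdeal.ResidueField with hκ
  obtain ⟨hnil, hnorm, hdim⟩ := hH.2 p
  haveI : LieRing.IsNilpotent (κ ⊗[A] H) := hnil
  set U : LieSubalgebra κ (κ ⊗[A] L) := (iotaLie κ H).range with hU
  haveI hUnil : LieRing.IsNilpotent U := LieHom.isNilpotent_range (iotaLie κ H)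
  have hUmem : ∀ x, x ∈ U ↔ x ∈ fibreSubmodule p H := fun x => Iff.rfl
  haveI hUc : U.IsCartanSubalgebra :=
    { nilpotent := hUnil
      self_normalizing := by
        apply le_antisymm _ U.le_normalizer
        intro x hx
        rw [LieSubalgebra.mem_normalizer_iff] at hx
        exact (hUmem x).mpr (hnorm x (fun y hy => (hUmem _).mp (hx y ((hUmem y).mpr hy)))) }
  have hrank : Module.finrank κ U = LieAlgebra.rank κ (κ ⊗[A] L) := hdim
  obtain ⟨x, hxU, hxreg, -⟩ := exists_isRegular_mem_of_cartan κ U hrank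
  obtain ⟨x', hx'⟩ := (LieHom.mem_range (iotaLie κ H) x).mp hxU
  obtain ⟨s, hs, h, hsh⟩ := exists_smul_eq_one_tmul H p x'
  have hs0 : algebraMap A κ s ≠ 0 := by
    rw [Ne, Ideal.algebraMap_residueField_eq_zero]
    exact hs
  refine ⟨(h : L), h.2, ?_⟩
  have h1 : (algebraMap A κ s) • x = (1 : κ) ⊗ₜ[A] (h : L) := by
    rw [← hx', iotaLie_apply, ← map_smul, hsh, iota_tmul]
  rw [← h1, isRegular_smul_iff _ hs0]
  exact hxreg

theorem main_S8374 (H : LieSubalgebra A L) (hH : IsCartanRel H) (p : PrimeSpectrum A)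
    (hp : Infinite p.asIdeal.ResidueField) :
    ∃ f : A, f ∉ p.asIdeal ∧ ∃ a : L, a ∈ H ∧
      (∀ q : PrimeSpectrum A, f ∉ q.asIdeal →
        LieAlgebra.IsRegular q.asIdeal.ResidueField ((1 : q.asIdeal.ResidueField) ⊗ₜ[A] a)) ∧
      H ≤ LieSubalgebra.engel A a ∧
      ∀ y : L, y ∈ LieSubalgebra.engel A a → ∃ n : ℕ, f ^ n • y ∈ H := by
  have hC0 := C0_of_isCartanRel H hH
  obtain ⟨a, haH, hareg⟩ := exists_mem_isRegular_at H hH p hp
  obtain ⟨v, ⟨f, rfl⟩, hpv, hv⟩ :=
    PrimeSpectrum.isTopologicalBasis_basic_opens.exists_subset_of_mem_open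
      (show p ∈ {q : PrimeSpectrum A | LieAlgebra.IsRegular q.asIdeal.ResidueField
        ((1 : q.asIdeal.ResidueField) ⊗ₜ[A] a)} from hareg) (isOpen_regular hC0 a)
  obtain ⟨k, hk⟩ := exists_pow_ad_eq_zero_of_isCartanRel H hH a haH
  refine ⟨f, hpv, a, haH, fun q hq => hv hq, le_engel_of_pow_ad_eq_zero H a haH k hk, ?_⟩
  haveI : Module.Projective A (L ⧸ H.toSubmodule) := hH.1
  obtain ⟨n, F, G, -, -, hFG⟩ :=
    Module.Finite.exists_comp_eq_id_of_projective A (L ⧸ H.toSubmodule)
  have hs : ∀ q : PrimeSpectrum A, f ∉ q.asIdeal →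
      Function.Surjective ((dbar H a haH).baseChange q.asIdeal.ResidueField) := by
    intro q hq
    apply dbar_baseChange_surjective H a haH q.asIdeal.ResidueField
    have hN := submodule_eq_engel q.asIdeal.ResidueField
      ((1 : q.asIdeal.ResidueField) ⊗ₜ[A] a : q.asIdeal.ResidueField ⊗[A] L) (hv hq)
      (LinearMap.range (iota q.asIdeal.ResidueField H))
      (fun y hy => ⟨k, pow_ad_eq_zero_of_mem_range_iota H a haH q.asIdeal.ResidueField k hk y hy⟩)
      (hH.2 q).2.2
    intro y hy
    rw [hN]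
    exact hy
  intro y hy
  rw [mem_engel_iff] at hy
  obtain ⟨m, hm⟩ := hy
  have h1 : ((dbar H a haH) ^ m) (H.toSubmodule.mkQ y) = 0 := by
    have := congrArg (fun T => T y) (dbar_pow_comp_mkQ H a haH m)
    simp only [LinearMap.comp_apply] at this
    rw [this, hm, map_zero]
  obtain ⟨N, hN⟩ := exists_pow_smul_eq_zero_of_fibres_surjective F G hFG (dbar H a haH) f hs
    (H.toSubmodule.mkQ y) m h1
  refine ⟨N, ?_⟩
  rw [← map_smul, Submodule.mkQ_apply, Submodule.Quotient.mk_eq_zero] at hN
  exact hN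

end S8374

end Groth.Agent.Lib.Helper24RelCartan
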