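import Mathlib

/-!
# Counting pairs of binary forms with nonzero resultant over a finite field

Pairs `(f, g)` with `f` a binary quadratic form and `g` a binary form of degree `n ≥ 2` over `F_q`,
given by coefficient vectors: the number with nonzero Sylvester resultant (sizes `2, n`) is
`q^(n+1) (q-1)^2 (q+1)`.
-/

open Polynomial

namespace Groth.Agent.Lib.Helper24ResCount


open Classical in
/-- number of elements satisfying a predicate, as an indicator sum -/
noncomputable def cnt {α : Type*} [Fintype α] (p : α → Prop) : ℕ := ∑ x, if p x then 1 else 0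

section cnt
variable {α β : Type*} [Fintype α] [Fintype β]

lemma cnt_eq_natCard (p : α → Prop) : cnt p = Nat.card {x // p x} := by
  classical
  rw [Nat.card_eq_fintype_card, Fintype.card_subtype, Finset.card_filter]
  rfl

lemma cnt_congr {p p' : α → Prop} (h : ∀ x, p x ↔ p' x) : cnt p = cnt p' := by
  have : p = p' := funext fun x => propext (h x)
  rw [this]

lemma cnt_prod (p : α × β → Prop) : cnt p = ∑ a, cnt (fun b => p (a, b)) := by
  unfold cnt
  rw [Fintype.sum_prod_type]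

lemma cnt_comp_equiv (e : α ≃ β) (p : β → Prop) : cnt (fun a => p (e a)) = cnt p := by
  classical
  unfold cnt
  exact Equiv.sum_comp e (fun b => if p b then 1 else 0)

lemma cnt_true : cnt (fun _ : α => True) = Fintype.card α := by
  unfold cnt; simp

lemma cnt_zero {p : α → Prop} (h : ∀ x, ¬ p x) : cnt p = 0 := by
  unfold cnt
  apply Finset.sum_eq_zero
  intro x _
  simp [h x]

lemma cnt_split (p s : α → Prop) :
    cnt p = cnt (fun x => s x ∧ p x) + cnt (fun x => ¬ s x ∧ p x) := by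
  classical
  unfold cnt
  rw [← Finset.sum_add_distrib]
  congr 1
  funext x
  by_cases hs : s x <;> by_cases hp : p x <;> simp [hs, hp]

lemma cnt_swap (p : α × β → Prop) : cnt p = cnt (fun x : β × α => p (x.2, x.1)) := by
  rw [← cnt_comp_equiv (Equiv.prodComm β α) p]
  rfl

/-- fibrewise constant count -/
lemma cnt_fiber (p : α → Prop) (r : α → β → Prop) (N : ℕ) (h : ∀ a, p a → cnt (r a) = N) :
    cnt (fun x : α × β => p x.1 ∧ r x.1 x.2) = cnt p * N := by
  classical
  rw [cnt_prod]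
  have : ∀ a, cnt (fun b => p a ∧ r a b) = (if p a then 1 else 0) * N := by
    intro a
    by_cases hp : p a
    · simp only [hp, true_and, if_true, one_mul]
      exact h a hp
    · simp only [hp, false_and, if_false, zero_mul]
      exact cnt_zero fun _ => not_false
  simp_rw [this]
  rw [← Finset.sum_mul]
  rfl

lemma cnt_prod_and (p : α → Prop) (r : β → Prop) :
    cnt (fun x : α × β => p x.1 ∧ r x.2) = cnt p * cnt r :=
  cnt_fiber p (fun _ => r) (cnt r) (fun _ _ => rfl)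

end cnt

section field
variable {F : Type*} [Fintype F]

lemma cnt_eq_one (s : F) : cnt (fun x : F => x = s) = 1 := by
  classical
  rw [cnt_eq_natCard, Nat.card_eq_fintype_card, Fintype.card_subtype_eq]

lemma cnt_ne (s : F) : cnt (fun x : F => x ≠ s) = Fintype.card F - 1 := by
  classical
  rw [cnt_eq_natCard, Nat.card_eq_fintype_card, Fintype.card_subtype_compl, Fintype.card_subtype_eq]

end field


section poly


variable {F : Type*} [Field F]

/-- polynomial from coefficient vector -/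
noncomputable def P {d : ℕ} (a : Fin d → F) : F[X] := ∑ i : Fin d, C (a i) * X ^ (i : ℕ)

lemma P_coeff {d : ℕ} (a : Fin d → F) (j : ℕ) :
    (P a).coeff j = if h : j < d then a ⟨j, h⟩ else 0 := by
  unfold P
  rw [finsetSum_coeff]
  simp only [coeff_C_mul, coeff_X_pow]
  split_ifs with h
  · rw [Finset.sum_eq_single ⟨j, h⟩]
    · simp
    · intro b _ hb
      have : j ≠ (b : ℕ) := fun e => hb (Fin.ext e.symm)
      simp [this]
    · simp
  · apply Finset.sum_eq_zero
    intro b _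
    have : j ≠ (b : ℕ) := by have := b.2; omega
    simp [this]

lemma P_natDegree_lt {d : ℕ} (a : Fin (d + 1) → F) : (P a).natDegree ≤ d := by
  rw [natDegree_le_iff_coeff_eq_zero]
  intro j hj
  rw [P_coeff, dif_neg (by omega)]

lemma P_injective {d : ℕ} : Function.Injective (P : (Fin d → F) → F[X]) := by
  intro a b h
  funext i
  have := congrArg (fun p => p.coeff i) h
  simpa [P_coeff] using this

lemma P_of_coeff {d : ℕ} (x : F[X]) (hx : x.natDegree < d) :
    P (fun i : Fin d => x.coeff i) = x := by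
  ext j
  rw [P_coeff]
  split_ifs with h
  · rfl
  · exact (coeff_eq_zero_of_natDegree_lt (by omega)).symm

lemma P_snoc {d : ℕ} (w : Fin d → F) (c : F) :
    P (Fin.snoc w c : Fin (d + 1) → F) = P w + C c * X ^ d := by
  unfold P
  rw [Fin.sum_univ_castSucc]
  simp

lemma P_cons {d : ℕ} (c : F) (t : Fin d → F) :
    P (Fin.cons c t : Fin (d + 1) → F) = C c + X * P t := by
  unfold P
  rw [Fin.sum_univ_succ, Finset.mul_sum]
  simp [pow_succ]
  congr 1
  funext i
  ring

lemma P_smul {d : ℕ} (c : F) (a : Fin d → F) : P (c • a) = C c * P a := by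
  unfold P
  rw [Finset.mul_sum]
  congr 1
  funext i
  simp [mul_assoc]

/-- resultant nonzero iff coprime, when the first polynomial has exact degree. -/
lemma res_ne_zero_iff (f g : F[X]) (m n : ℕ) (hf : f.natDegree = m) (hf0 : f ≠ 0)
    (hg : g.natDegree ≤ n) : resultant f g m n ≠ 0 ↔ IsCoprime f g := by
  obtain ⟨k, rfl⟩ := Nat.exists_eq_add_of_le hg
  subst hf
  rw [resultant_add_right_deg _ _ _ _ k le_rfl]
  have hlc : f.coeff f.natDegree ≠ 0 := by
    rw [coeff_natDegree]; exact leadingCoeff_ne_zero.mpr hf0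
  have key := resultant_eq_zero_iff (f := f) (g := g)
  rw [mul_ne_zero_iff]
  constructor
  · rintro ⟨_, h⟩
    by_contra hc
    exact h (key.mpr ⟨Or.inl hf0, hc⟩)
  · intro h
    exact ⟨pow_ne_zero _ hlc, fun h' => (key.mp h').2 h⟩


end poly

section counts

variable {F : Type*} [Field F] [Fintype F]

local notation "q" => Fintype.card F

/-- `Fin.snoc` as an equivalence for constant families. -/
def snocE (d : ℕ) : F × (Fin d → F) ≃ (Fin (d + 1) → F) := Fin.snocEquiv (fun _ => F)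

/-- `Fin.cons` as an equivalence for constant families. -/
def consE (d : ℕ) : F × (Fin d → F) ≃ (Fin (d + 1) → F) := Fin.consEquiv (fun _ => F)

omit [Field F] [Fintype F] in
lemma snocE_apply (d : ℕ) (c : F) (w : Fin d → F) : snocE d (c, w) = Fin.snoc w c := rfl

omit [Field F] [Fintype F] in
lemma consE_apply (d : ℕ) (c : F) (t : Fin d → F) : consE d (c, t) = Fin.cons c t := rfl

lemma card_vec (d : ℕ) : Fintype.card (Fin d → F) = q ^ d := by simp

/-- vectors with nonzero last coordinate -/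
lemma cnt_lead (d : ℕ) :
    cnt (fun t : Fin (d + 1) → F => t (Fin.last d) ≠ 0) = (q - 1) * q ^ d := by
  rw [← cnt_comp_equiv (snocE d)]
  have : ∀ x : F × (Fin d → F), (snocE d x) (Fin.last d) ≠ 0 ↔ (x.1 ≠ 0 ∧ True) := by
    rintro ⟨c, w⟩
    simp [snocE_apply]
  rw [cnt_congr this, cnt_prod_and (fun c : F => c ≠ 0) (fun _ : Fin d → F => True), cnt_ne,
    cnt_true, card_vec]

/-- vectors with nonzero last coordinate and nonzero value at `r` -/
lemma cnt_lead_eval (d : ℕ) (r : F) :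
    cnt (fun u : Fin (d + 2) → F => u (Fin.last (d + 1)) ≠ 0 ∧ eval r (P u) ≠ 0) =
      (q - 1) ^ 2 * q ^ d := by
  rw [← cnt_comp_equiv (consE (d + 1)), cnt_swap]
  have : ∀ x : (Fin (d + 1) → F) × F,
      ((consE (d + 1) (x.2, x.1)) (Fin.last (d + 1)) ≠ 0 ∧
        eval r (P (consE (d + 1) (x.2, x.1))) ≠ 0) ↔
      (x.1 (Fin.last d) ≠ 0 ∧ x.2 ≠ - (r * eval r (P x.1))) := by
    rintro ⟨t, c⟩
    simp only [consE_apply, P_cons, eval_add, eval_C, eval_mul, eval_X]
    have h1 : (Fin.cons c t : Fin (d + 2) → F) (Fin.last (d + 1)) = t (Fin.last d) := by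
      rw [← Fin.succ_last, Fin.cons_succ]
    rw [h1]
    constructor
    · rintro ⟨h, h'⟩
      exact ⟨h, fun e => h' (by rw [e]; ring)⟩
    · rintro ⟨h, h'⟩
      exact ⟨h, fun e => h' (eq_neg_of_add_eq_zero_left e)⟩
  rw [cnt_congr this, cnt_fiber (fun t : Fin (d + 1) → F => t (Fin.last d) ≠ 0)
    (fun t c => c ≠ - (r * eval r (P t))) (q - 1) (fun a _ => cnt_ne _), cnt_lead]
  ring

end counts

section coprime

variable {F : Type*} [Field F]

lemma P_two (v : Fin 2 → F) : P v = C (v 0) + C (v 1) * X := by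
  unfold P
  rw [Fin.sum_univ_two]
  simp

lemma P_lead {m : ℕ} (u : Fin (m + 1) → F) (hu : u (Fin.last m) ≠ 0) :
    (P u).natDegree = m ∧ P u ≠ 0 := by
  have hc : (P u).coeff m = u (Fin.last m) := by
    rw [P_coeff, dif_pos (Nat.lt_succ_self m)]
    rfl
  refine ⟨natDegree_eq_of_le_of_coeff_ne_zero (P_natDegree_lt u) (hc ▸ hu), ?_⟩
  intro h0
  rw [h0, coeff_zero] at hc
  exact hu hc.symm

lemma coprime_const (f : F[X]) (hf : 1 ≤ f.natDegree) (c : F) :
    IsCoprime f (C c) ↔ c ≠ 0 := by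
  constructor
  · rintro h rfl
    rw [C_0, isCoprime_zero_right] at h
    have := natDegree_eq_zero_of_isUnit h
    omega
  · intro hc
    exact isCoprime_one_right.of_isCoprime_of_dvd_right
      ((isUnit_C.mpr (isUnit_iff_ne_zero.mpr hc)).dvd)

lemma coprime_lin (f : F[X]) (v0 v1 : F) (hv : v1 ≠ 0) :
    IsCoprime f (C v0 + C v1 * X) ↔ eval (-v0 / v1) f ≠ 0 := by
  have h1 : C v0 + C v1 * X = C v1 * (X - C (-v0 / v1)) := by
    rw [mul_sub, ← C_mul, mul_div_cancel₀ _ hv, C_neg]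
    ring
  rw [h1, isCoprime_mul_unit_left_right (isUnit_C.mpr (isUnit_iff_ne_zero.mpr hv)),
    isCoprime_comm, (irreducible_X_sub_C _).coprime_iff_not_dvd, dvd_iff_isRoot]
  rfl

end coprime

section K

variable {F : Type*} [Field F] [Fintype F]

local notation "q" => Fintype.card F

omit [Field F] in
lemma cnt_vec2 [Field F] : cnt (fun v : Fin 2 → F => v 1 = 0 ∧ v 0 ≠ 0) = q - 1 := by
  rw [← cnt_comp_equiv (snocE 1)]
  have : ∀ x : F × (Fin 1 → F), ((snocE 1 x) 1 = 0 ∧ (snocE 1 x) 0 ≠ 0) ↔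
      (x.1 = 0 ∧ x.2 (Fin.last 0) ≠ 0) := by
    rintro ⟨c, w⟩
    rw [snocE_apply]
    have h1 : (Fin.snoc w c : Fin 2 → F) 1 = c := Fin.snoc_last (α := fun _ => F) c w
    have h0 : (Fin.snoc w c : Fin 2 → F) 0 = w 0 :=
      Fin.snoc_castSucc (α := fun _ => F) c w 0
    rw [h1, h0]
    rfl
  rw [cnt_congr this, cnt_prod_and (fun c : F => c = 0) (fun w : Fin 1 → F => w (Fin.last 0) ≠ 0),
    cnt_eq_one, cnt_lead]
  simp

/-- The number of pairs (`u` of exact degree `d+1`, `v` of degree `≤ 1`) that are coprime. -/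
lemma Kcount (d : ℕ) :
    cnt (fun x : (Fin (d + 2) → F) × (Fin 2 → F) =>
      x.1 (Fin.last (d + 1)) ≠ 0 ∧ IsCoprime (P x.1) (P x.2)) = (q - 1) ^ 2 * q ^ (d + 2) := by
  rw [cnt_swap, cnt_split _ (fun x : (Fin 2 → F) × (Fin (d + 2) → F) => x.1 1 ≠ 0)]
  have e1 : ∀ x : (Fin 2 → F) × (Fin (d + 2) → F),
      (x.1 1 ≠ 0 ∧ (x.2 (Fin.last (d + 1)) ≠ 0 ∧ IsCoprime (P x.2) (P x.1))) ↔
      (x.1 1 ≠ 0 ∧ (x.2 (Fin.last (d + 1)) ≠ 0 ∧ eval (-x.1 0 / x.1 1) (P x.2) ≠ 0)) := by
    rintro ⟨v, u⟩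
    constructor
    · rintro ⟨hv, hu, hc⟩
      refine ⟨hv, hu, ?_⟩
      rwa [P_two v, coprime_lin _ _ _ hv] at hc
    · rintro ⟨hv, hu, hc⟩
      refine ⟨hv, hu, ?_⟩
      rwa [P_two v, coprime_lin _ _ _ hv]
  have e2 : ∀ x : (Fin 2 → F) × (Fin (d + 2) → F),
      (¬ (x.1 1 ≠ 0) ∧ (x.2 (Fin.last (d + 1)) ≠ 0 ∧ IsCoprime (P x.2) (P x.1))) ↔
      ((x.1 1 = 0 ∧ x.1 0 ≠ 0) ∧ x.2 (Fin.last (d + 1)) ≠ 0) := by
    rintro ⟨v, u⟩
    simp only [not_not]
    constructor
    · rintro ⟨hv, hu, hc⟩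
      rw [P_two v, hv, C_0, zero_mul, add_zero,
        coprime_const _ (by rw [(P_lead u hu).1]; omega)] at hc
      exact ⟨⟨hv, hc⟩, hu⟩
    · rintro ⟨⟨hv, hc⟩, hu⟩
      refine ⟨hv, hu, ?_⟩
      rw [P_two v, hv, C_0, zero_mul, add_zero,
        coprime_const _ (by rw [(P_lead u hu).1]; omega)]
      exact hc
  rw [cnt_congr e1, cnt_congr e2,
    cnt_fiber (fun v : Fin 2 → F => v 1 ≠ 0)
      (fun v u => u (Fin.last (d + 1)) ≠ 0 ∧ eval (-v 0 / v 1) (P u) ≠ 0) ((q - 1) ^ 2 * q ^ d)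
      (fun v _ => cnt_lead_eval d _),
    cnt_prod_and (fun v : Fin 2 → F => v 1 = 0 ∧ v 0 ≠ 0)
      (fun u : Fin (d + 2) → F => u (Fin.last (d + 1)) ≠ 0),
    cnt_vec2, cnt_lead (d + 1), show (1 : Fin 2) = Fin.last 1 from rfl, cnt_lead 1]
  obtain ⟨s, hs⟩ : ∃ s, q = s + 1 := ⟨q - 1, by have := Fintype.card_pos (α := F); omega⟩
  rw [hs]
  simp only [Nat.add_sub_cancel]
  ring

end K

section reduction

variable {F : Type*} [Field F] [Fintype F]

local notation "q" => Fintype.card F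

/-- `(h, w) ↦ h + f * w` on coefficient vectors. -/
noncomputable def psi (k : ℕ) (f : F[X]) (x : (Fin 2 → F) × (Fin (k + 1) → F)) :
    Fin (k + 3) → F := fun i => (P x.1 + f * P x.2).coeff i

omit [Fintype F] in
lemma P_psi (k : ℕ) (f : F[X]) (hf : f.natDegree = 2) (x : (Fin 2 → F) × (Fin (k + 1) → F)) :
    P (psi k f x) = P x.1 + f * P x.2 := by
  apply P_of_coeff
  have h1 : (P x.1).natDegree ≤ 1 := P_natDegree_lt x.1
  have h2 : (f * P x.2).natDegree ≤ 2 + k :=
    natDegree_mul_le.trans (by rw [hf]; exact Nat.add_le_add_left (P_natDegree_lt x.2) 2)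
  have := natDegree_add_le (P x.1) (f * P x.2)
  omega

lemma psi_bijective (k : ℕ) (f : F[X]) (hf : f.natDegree = 2) :
    Function.Bijective (psi k f) := by
  rw [Fintype.bijective_iff_injective_and_card]
  refine ⟨?_, by simp [pow_add, pow_succ]; ring⟩
  rintro ⟨h, w⟩ ⟨h', w'⟩ e
  have e' : P h + f * P w = P h' + f * P w' := by
    rw [← P_psi k f hf (h, w), ← P_psi k f hf (h', w'), e]
  have e2 : f * (P w - P w') = P h' - P h := by
    rw [mul_sub]
    linear_combination e'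
  have hf0 : f ≠ 0 := by
    rintro rfl
    simp at hf
  have hw : P w = P w' := by
    by_contra hne
    have hne' : P w - P w' ≠ 0 := sub_ne_zero.mpr hne
    have h1 : (f * (P w - P w')).natDegree = 2 + (P w - P w').natDegree := by
      rw [natDegree_mul hf0 hne', hf]
    have h2 : (P h' - P h).natDegree ≤ 1 :=
      (natDegree_sub_le _ _).trans (max_le (P_natDegree_lt h') (P_natDegree_lt h))
    rw [e2] at h1
    omega
  have hh : P h = P h' := by
    rw [hw] at e'
    exact add_right_cancel e'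
  rw [P_injective hw, P_injective hh]

/-- Reduction modulo a quadratic: counting coprime `g` of degree `≤ k+2`. -/
lemma red2 (k : ℕ) (f : F[X]) (hf : f.natDegree = 2) :
    cnt (fun b : Fin (k + 3) → F => IsCoprime f (P b)) =
      q ^ (k + 1) * cnt (fun h : Fin 2 → F => IsCoprime f (P h)) := by
  rw [← cnt_comp_equiv (Equiv.ofBijective _ (psi_bijective k f hf))]
  have : ∀ x : (Fin 2 → F) × (Fin (k + 1) → F),
      IsCoprime f (P (Equiv.ofBijective _ (psi_bijective k f hf) x)) ↔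
        (IsCoprime f (P x.1) ∧ True) := by
    intro x
    rw [Equiv.ofBijective_apply, P_psi k f hf, IsCoprime.add_mul_left_right_iff, and_true]
  rw [cnt_congr this, cnt_prod_and (fun h : Fin 2 → F => IsCoprime f (P h))
    (fun _ : Fin (k + 1) → F => True), cnt_true, card_vec, mul_comm]

end reduction

section main

variable {F : Type*} [Field F] [Fintype F]

local notation "q" => Fintype.card F

omit [Fintype F] in
/-- Resultant criterion when the quadratic has nonzero leading coefficient. -/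
lemma res_A (n : ℕ) (a : Fin 3 → F) (ha : a (Fin.last 2) ≠ 0) (b : Fin (n + 1) → F) :
    resultant (P a) (P b) 2 n ≠ 0 ↔ IsCoprime (P a) (P b) :=
  res_ne_zero_iff _ _ 2 n (P_lead a ha).1 (P_lead a ha).2 (P_natDegree_lt b)

omit [Fintype F] in
/-- Resultant criterion when the quadratic has zero leading coefficient. -/
lemma res_B (n : ℕ) (hn : 1 ≤ n) (a' : Fin 2 → F) (b : Fin (n + 1) → F) :
    resultant (P a') (P b) 2 n ≠ 0 ↔ (b (Fin.last n) ≠ 0 ∧ IsCoprime (P b) (P a')) := by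
  have hc : (P b).coeff n = b (Fin.last n) := by
    rw [P_coeff, dif_pos (Nat.lt_succ_self n)]
    rfl
  have hs : resultant (P a') (P b) 2 n = _ :=
    resultant_succ_left_deg (P a') (P b) 1 n (P_natDegree_lt a')
  rw [hs, resultant_comm, hc]
  constructor
  · intro h
    have hb : b (Fin.last n) ≠ 0 := by
      rintro hb
      apply h
      rw [hb]
      ring
    refine ⟨hb, ?_⟩
    rw [← res_ne_zero_iff _ _ n 1 (P_lead b hb).1 (P_lead b hb).2 (P_natDegree_lt a')]
    intro h0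
    apply h
    rw [h0]
    ring
  · rintro ⟨hb, hcop⟩
    rw [← res_ne_zero_iff _ _ n 1 (P_lead b hb).1 (P_lead b hb).2 (P_natDegree_lt a')] at hcop
    have : ((-1 : F)) ^ n ≠ 0 := pow_ne_zero _ (by simp)
    have h2 : ((-1 : F)) ^ (1 * n) ≠ 0 := pow_ne_zero _ (by simp)
    exact mul_ne_zero (mul_ne_zero this hb) (mul_ne_zero h2 hcop)

/-- The count of pairs with nonzero resultant, in product form. -/
theorem count_ne_zero (k : ℕ) :
    cnt (fun x : (Fin 3 → F) × (Fin (k + 3) → F) => resultant (P x.1) (P x.2) 2 (k + 2) ≠ 0) =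
      (q - 1) ^ 2 * q ^ (k + 3) * (q + 1) := by
  rw [cnt_split _ (fun x : (Fin 3 → F) × (Fin (k + 3) → F) => x.1 (Fin.last 2) ≠ 0)]
  -- part A
  have hA : cnt (fun x : (Fin 3 → F) × (Fin (k + 3) → F) =>
      x.1 (Fin.last 2) ≠ 0 ∧ resultant (P x.1) (P x.2) 2 (k + 2) ≠ 0) =
      q ^ (k + 1) * ((q - 1) ^ 2 * q ^ 3) := by
    rw [← Kcount 1, cnt_prod, cnt_prod, Finset.mul_sum]
    apply Finset.sum_congr rfl
    intro a _
    by_cases ha : a (Fin.last 2) ≠ 0
    · have e1 : ∀ b : Fin (k + 3) → F,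
          (a (Fin.last 2) ≠ 0 ∧ resultant (P a) (P b) 2 (k + 2) ≠ 0) ↔ IsCoprime (P a) (P b) := by
        intro b
        rw [res_A (k + 2) a ha b]
        exact and_iff_right ha
      have e2 : ∀ h : Fin 2 → F,
          (a (Fin.last (1 + 1)) ≠ 0 ∧ IsCoprime (P a) (P h)) ↔ IsCoprime (P a) (P h) :=
        fun h => and_iff_right ha
      rw [cnt_congr e1, cnt_congr e2, red2 k (P a) (P_lead a ha).1]
    · rw [cnt_zero (fun b h => ha h.1), cnt_zero (fun b h => ha h.1), mul_zero]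
  -- part B
  have hB : cnt (fun x : (Fin 3 → F) × (Fin (k + 3) → F) =>
      ¬ (x.1 (Fin.last 2) ≠ 0) ∧ resultant (P x.1) (P x.2) 2 (k + 2) ≠ 0) =
      (q - 1) ^ 2 * q ^ (k + 3) := by
    rw [← Kcount (k + 1)]
    let E : F × ((Fin 2 → F) × (Fin (k + 3) → F)) ≃ (Fin 3 → F) × (Fin (k + 3) → F) :=
      { toFun := fun x => (Fin.snoc x.2.1 x.1, x.2.2)
        invFun := fun y => (y.1 (Fin.last 2), (Fin.init y.1, y.2))
        left_inv := by
          rintro ⟨c, a', b⟩
          exact Prod.ext (Fin.snoc_last (α := fun _ => F) c a')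
            (Prod.ext (Fin.init_snoc (α := fun _ => F) c a') rfl)
        right_inv := by
          rintro ⟨a, b⟩
          exact Prod.ext (Fin.snoc_init_self (α := fun _ => F) a) rfl }
    rw [← cnt_comp_equiv E]
    have e : ∀ x : F × ((Fin 2 → F) × (Fin (k + 3) → F)),
        (¬ ((E x).1 (Fin.last 2) ≠ 0) ∧ resultant (P (E x).1) (P (E x).2) 2 (k + 2) ≠ 0) ↔
        (x.1 = 0 ∧ (x.2.2 (Fin.last (k + 2)) ≠ 0 ∧ IsCoprime (P x.2.2) (P x.2.1))) := by
      rintro ⟨c, a', b⟩
      change (¬ ((Fin.snoc a' c : Fin 3 → F) (Fin.last 2) ≠ 0) ∧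
        resultant (P (Fin.snoc a' c : Fin 3 → F)) (P b) 2 (k + 2) ≠ 0) ↔ _
      rw [Fin.snoc_last, not_not]
      constructor
      · rintro ⟨rfl, h⟩
        refine ⟨rfl, ?_⟩
        rw [P_snoc, C_0, zero_mul, add_zero, res_B (k + 2) (by omega)] at h
        exact h
      · rintro ⟨rfl, h⟩
        refine ⟨rfl, ?_⟩
        rw [P_snoc, C_0, zero_mul, add_zero, res_B (k + 2) (by omega)]
        exact h
    rw [cnt_congr e, cnt_prod_and (fun c : F => c = 0)
      (fun y : (Fin 2 → F) × (Fin (k + 3) → F) =>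
        y.2 (Fin.last (k + 2)) ≠ 0 ∧ IsCoprime (P y.2) (P y.1)), cnt_eq_one, one_mul, cnt_swap]
  rw [hA, hB]
  ring

end main

section final

variable (F : Type*) [Field F] [Fintype F]

local notation "q" => Fintype.card F

lemma arith (k : ℕ) :
    (q - 1) ^ 2 * q ^ (k + 3) * (q + 1) =
      q ^ (k + 2 + 4) - q ^ (k + 2 + 3) - q ^ (k + 2 + 2) + q ^ (k + 2 + 1) := by
  obtain ⟨s, hs⟩ : ∃ s, q = s + 2 :=
    ⟨q - 2, by have := Fintype.one_lt_card (α := F); omega⟩
  rw [hs]
  simp only [show s + 2 - 1 = s + 1 from rfl]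
  generalize hQ : (s + 2) ^ (k + 3) = Q
  have e6 : (s + 2) ^ (k + 2 + 4) = Q * (s + 2) ^ 3 := by rw [← hQ]; ring
  have e5 : (s + 2) ^ (k + 2 + 3) = Q * (s + 2) ^ 2 := by rw [← hQ]; ring
  have e4 : (s + 2) ^ (k + 2 + 2) = Q * (s + 2) := by rw [← hQ]; ring
  rw [e6, e5, e4]
  have E : (s + 1) ^ 2 * Q * (s + 2 + 1) + Q * (s + 2) ^ 2 + Q * (s + 2) =
      Q * (s + 2) ^ 3 + Q := by ring
  have h1 : Q ≤ Q * (s + 2) := Nat.le_mul_of_pos_right Q (by omega)
  have h2 : Q ≤ (s + 1) ^ 2 * Q * (s + 2 + 1) := by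
    calc Q = 1 * Q * 1 := by ring
      _ ≤ (s + 1) ^ 2 * Q * (s + 2 + 1) :=
        Nat.mul_le_mul (Nat.mul_le_mul (Nat.one_le_pow _ _ (by omega)) le_rfl) (by omega)
  omega

theorem main (n : ℕ) (h2 : 2 ≤ n) :
    Nat.card {p : (Fin 3 → F) × (Fin (n + 1) → F) //
      Polynomial.resultant (∑ i : Fin 3, Polynomial.C (p.1 i) * Polynomial.X ^ (i : ℕ))
        (∑ j : Fin (n + 1), Polynomial.C (p.2 j) * Polynomial.X ^ (j : ℕ)) 2 n ≠ 0} =
      q ^ (n + 4) - q ^ (n + 3) - q ^ (n + 2) + q ^ (n + 1) := by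
  obtain ⟨k, rfl⟩ : ∃ k, n = k + 2 := ⟨n - 2, by omega⟩
  rw [← arith F k, ← count_ne_zero k, cnt_eq_natCard]
  rfl

end final

end Groth.Agent.Lib.Helper24ResCount
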