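import Mathlib
import Groth.Agent.Lib.Helper24ResCount

/-!
# Counting pairs of binary forms with resultant one over a finite field

For `n` odd, scaling `(f, g) ↦ (u f, u^{-l} g)` (`n = 2l+1`) multiplies the resultant (sizes `2, n`)
by `u`, so all nonzero values are taken equally often.
-/

open Polynomial

namespace Groth.Agent.Lib.Helper24ResCountOne

open Groth.Agent.Lib.Helper24ResCount

variable {F : Type*} [Field F] [Fintype F]

local notation "q" => Fintype.card F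

/-- the resultant of a pair of coefficient vectors -/
noncomputable def R (n : ℕ) (x : (Fin 3 → F) × (Fin (n + 1) → F)) : F :=
  resultant (P x.1) (P x.2) 2 n

/-- scaling equivalence -/
def scaleE (n : ℕ) (u s : F) (hu : u ≠ 0) (hs : s ≠ 0) :
    (Fin 3 → F) × (Fin (n + 1) → F) ≃ (Fin 3 → F) × (Fin (n + 1) → F) where
  toFun x := (u • x.1, s • x.2)
  invFun x := (u⁻¹ • x.1, s⁻¹ • x.2)
  left_inv x := by
    ext <;> simp [smul_smul, hu, hs]
  right_inv x := by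
    ext <;> simp [smul_smul, hu, hs]

omit [Fintype F] in
lemma R_scale (n : ℕ) (u s : F) (hu : u ≠ 0) (hs : s ≠ 0) (x) :
    R n (scaleE n u s hu hs x) = u ^ n * (s ^ 2 * R n x) := by
  change resultant (P (u • x.1)) (P (s • x.2)) 2 n = _
  rw [P_smul, P_smul, resultant_C_mul_left, resultant_C_mul_right]
  rfl

lemma fiber_eq (l : ℕ) (u : F) (hu : u ≠ 0) :
    cnt (fun x : (Fin 3 → F) × (Fin (2 * l + 1 + 1) → F) => R (2 * l + 1) x = u) =
      cnt (fun x : (Fin 3 → F) × (Fin (2 * l + 1 + 1) → F) => R (2 * l + 1) x = 1) := by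
  have hs : (u⁻¹) ^ l ≠ 0 := pow_ne_zero _ (inv_ne_zero hu)
  rw [← cnt_comp_equiv (scaleE (2 * l + 1) u ((u⁻¹) ^ l) hu hs)]
  apply cnt_congr
  intro x
  rw [R_scale]
  have : u ^ (2 * l + 1) * (((u⁻¹) ^ l) ^ 2 * R (2 * l + 1) x) = u * R (2 * l + 1) x := by
    have h1 : u ^ (2 * l + 1) * ((u⁻¹) ^ l) ^ 2 = u := by
      rw [← pow_mul, mul_comm l 2, pow_succ, mul_assoc, mul_comm u, ← mul_assoc, ← mul_pow,
        mul_inv_cancel₀ hu, one_pow, one_mul]
    rw [← mul_assoc, h1]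
  rw [this]
  constructor
  · intro h
    exact mul_left_cancel₀ hu (h.trans (mul_one u).symm)
  · intro h
    rw [h, mul_one]

lemma count_ne_zero' (n : ℕ) (hn : 2 ≤ n) :
    cnt (fun x : (Fin 3 → F) × (Fin (n + 1) → F) => R n x ≠ 0) =
      (q - 1) ^ 2 * q ^ (n + 1) * (q + 1) := by
  obtain ⟨k, rfl⟩ : ∃ k, n = k + 2 := ⟨n - 2, by omega⟩
  exact count_ne_zero (F := F) k

theorem count_one (l : ℕ) (hl : 1 ≤ l) :
    cnt (fun x : (Fin 3 → F) × (Fin (2 * l + 1 + 1) → F) => R (2 * l + 1) x = 1) =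
      (q - 1) * q ^ (2 * l + 2) * (q + 1) := by
  have h1 : cnt (fun y : F × ((Fin 3 → F) × (Fin (2 * l + 1 + 1) → F)) =>
      y.1 ≠ 0 ∧ R (2 * l + 1) y.2 = y.1) =
      (q - 1) * cnt (fun x : (Fin 3 → F) × (Fin (2 * l + 1 + 1) → F) => R (2 * l + 1) x = 1) := by
    rw [cnt_fiber (fun u : F => u ≠ 0) (fun u x => R (2 * l + 1) x = u) _
      (fun u hu => fiber_eq l u hu), cnt_ne]
  have h2 : cnt (fun y : F × ((Fin 3 → F) × (Fin (2 * l + 1 + 1) → F)) =>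
      y.1 ≠ 0 ∧ R (2 * l + 1) y.2 = y.1) =
      cnt (fun x : (Fin 3 → F) × (Fin (2 * l + 1 + 1) → F) => R (2 * l + 1) x ≠ 0) := by
    rw [cnt_swap]
    have e : ∀ z : ((Fin 3 → F) × (Fin (2 * l + 1 + 1) → F)) × F,
        (z.2 ≠ 0 ∧ R (2 * l + 1) z.1 = z.2) ↔ (R (2 * l + 1) z.1 ≠ 0 ∧ z.2 = R (2 * l + 1) z.1) := by
      rintro ⟨x, u⟩
      constructor
      · rintro ⟨h, h'⟩
        exact ⟨h' ▸ h, h'.symm⟩
      · rintro ⟨h, h'⟩
        exact ⟨h' ▸ h, h'.symm⟩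
    rw [cnt_congr e, cnt_fiber (fun x : (Fin 3 → F) × (Fin (2 * l + 1 + 1) → F) =>
      R (2 * l + 1) x ≠ 0) (fun x u => u = R (2 * l + 1) x) 1 (fun x _ => cnt_eq_one _), mul_one]
  have h3 : cnt (fun x : (Fin 3 → F) × (Fin (2 * l + 1 + 1) → F) => R (2 * l + 1) x ≠ 0) =
      (q - 1) ^ 2 * q ^ (2 * l + 2) * (q + 1) :=
    count_ne_zero' (2 * l + 1) (by omega)
  have hq : 0 < q - 1 := by have := Fintype.one_lt_card (α := F); omega
  apply Nat.eq_of_mul_eq_mul_left hq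
  rw [← h1, h2, h3]
  ring

theorem main (F : Type*) [Field F] [Fintype F] (n : ℕ) (hn : Odd n) (h3 : 3 ≤ n) :
    Nat.card {p : (Fin 3 → F) × (Fin (n + 1) → F) //
      Polynomial.resultant (∑ i : Fin 3, Polynomial.C (p.1 i) * Polynomial.X ^ (i : ℕ))
        (∑ j : Fin (n + 1), Polynomial.C (p.2 j) * Polynomial.X ^ (j : ℕ)) 2 n = 1} =
      Fintype.card F ^ (n + 3) - Fintype.card F ^ (n + 1) := by
  obtain ⟨l, rfl⟩ := hn
  have hl : 1 ≤ l := by omega
  have := count_one (F := F) l hl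
  rw [cnt_eq_natCard] at this
  have hR : ∀ p : (Fin 3 → F) × (Fin (2 * l + 1 + 1) → F),
      R (2 * l + 1) p = Polynomial.resultant (∑ i : Fin 3, Polynomial.C (p.1 i) * Polynomial.X ^ (i : ℕ))
        (∑ j : Fin (2 * l + 1 + 1), Polynomial.C (p.2 j) * Polynomial.X ^ (j : ℕ)) 2 (2 * l + 1) :=
    fun _ => rfl
  simp only [hR] at this
  rw [this]
  obtain ⟨s, hs⟩ : ∃ s, Fintype.card F = s + 1 :=
    ⟨Fintype.card F - 1, by have := Fintype.card_pos (α := F); omega⟩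
  rw [hs]
  simp only [Nat.add_sub_cancel]
  have e1 : (s + 1) ^ (2 * l + 1 + 3) = (s + 1) ^ (2 * l + 2) * (s + 1) ^ 2 := by ring
  have e2 : (s + 1) ^ (2 * l + 1 + 1) = (s + 1) ^ (2 * l + 2) := by ring
  rw [e1, e2]
  generalize (s + 1) ^ (2 * l + 2) = Q
  have : Q * (s + 1) ^ 2 = s * Q * (s + 1 + 1) + Q := by ring
  omega

end Groth.Agent.Lib.Helper24ResCountOne
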