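import Mathlib

set_option autoImplicit false
universe u

namespace Groth.Agent.Lib.Helper24ResDet

open PowerSeries

variable {R : Type u} [CommRing R]

/-- geometric series for 1/(1+aX) -/
noncomputable def geo (a : R) : PowerSeries R := PowerSeries.mk (fun m => (-a) ^ m)

theorem lin_mul_geo (a : R) : (1 + C a * X) * geo a = 1 := by
  ext m
  rw [add_mul, one_mul, mul_assoc, map_add, coeff_C_mul]
  cases m with
  | zero =>
    have h1 : coeff 0 (geo a) = (-a) ^ 0 := coeff_mk _ _
    rw [coeff_zero_X_mul, mul_zero, add_zero, h1, pow_zero, coeff_zero_one]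
  | succ m =>
    rw [coeff_succ_X_mul]
    have h1 : coeff (m + 1) (geo a) = (-a) ^ (m + 1) := coeff_mk _ _
    have h2 : coeff m (geo a) = (-a) ^ m := coeff_mk _ _
    have h3 : coeff (m + 1) (1 : PowerSeries R) = 0 := by rw [coeff_one]; simp
    rw [h1, h2, h3]; ring

theorem geo_mul_lin (a : R) : geo a * (1 + C a * X) = 1 := by
  rw [mul_comm]; exact lin_mul_geo a

def DegLE (k : ℕ) (f : PowerSeries R) : Prop := ∀ m, k < m → coeff m f = 0

theorem DegLE_one : DegLE 0 (1 : PowerSeries R) := by
  intro m hm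
  rw [coeff_one, if_neg (by omega)]

theorem DegLE.mul_lin {k : ℕ} {f : PowerSeries R} (h : DegLE k f) (a : R) :
    DegLE (k + 1) (f * (1 + C a * X)) := by
  intro m hm
  obtain ⟨m', rfl⟩ : ∃ m', m = m' + 1 := ⟨m - 1, by omega⟩
  rw [mul_add, mul_one, ← mul_assoc, map_add, coeff_succ_mul_X, coeff_mul_C,
    h (m' + 1) (by omega), h m' (by omega), zero_mul, add_zero]

theorem DegLE.mul_prod {ι : Type*} (s : Finset ι) (g : ι → R) {k : ℕ} {f : PowerSeries R}
    (h : DegLE k f) : DegLE (k + s.card) (f * ∏ j ∈ s, (1 + C (g j) * X)) := by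
  classical
  induction s using Finset.induction_on with
  | empty => simpa using h
  | insert j s hj ih =>
    rw [Finset.prod_insert hj, Finset.card_insert_of_notMem hj]
    have e1 : f * ((1 + C (g j) * X) * ∏ j ∈ s, (1 + C (g j) * X)) =
        (f * ∏ j ∈ s, (1 + C (g j) * X)) * (1 + C (g j) * X) := by ring
    rw [e1, ← add_assoc]
    exact ih.mul_lin (g j)

theorem DegLE.X_pow_mul {k : ℕ} {f : PowerSeries R} (h : DegLE k f) (i : ℕ) :
    DegLE (i + k) (X ^ i * f) := by
  intro m hm
  rw [coeff_X_pow_mul', if_pos (by omega)]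
  exact h _ (by omega)

theorem coeff_prod_lin_mul_geo {ι : Type*} (s : Finset ι) (g : ι → R) (a : R) :
    ∀ m, s.card ≤ m → coeff m ((∏ j ∈ s, (1 + C (g j) * X)) * geo a) =
      (-a) ^ (m - s.card) * ∏ j ∈ s, (g j - a) := by
  classical
  induction s using Finset.induction_on with
  | empty =>
    intro m _
    rw [Finset.prod_empty, one_mul, Finset.prod_empty, mul_one, Finset.card_empty, Nat.sub_zero]
    exact coeff_mk _ _
  | insert j s hj ih =>
    intro m hm
    rw [Finset.card_insert_of_notMem hj] at hm ⊢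
    obtain ⟨m', rfl⟩ : ∃ m', m = m' + 1 := ⟨m - 1, by omega⟩
    rw [Finset.prod_insert hj, Finset.prod_insert hj, mul_assoc, add_mul, one_mul, mul_assoc,
      map_add, coeff_C_mul, coeff_succ_X_mul, ih (m' + 1) (by omega), ih m' (by omega)]
    have e1 : m' + 1 - s.card = (m' - s.card) + 1 := by omega
    have e2 : m' + 1 - (s.card + 1) = m' - s.card := by omega
    rw [e1, e2, pow_succ]
    ring

theorem range_sub {a b : ℕ} (h : a ≤ b) : Finset.range a ⊆ Finset.range b := by
  intro x hx
  rw [Finset.mem_range] at hx ⊢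
  omega

theorem sum_coeff_mul (Q A : PowerSeries R) (n e l : ℕ) (hl : l < n) (hA : DegLE l A) :
    ∑ j : Fin n, coeff (e + (j : ℕ)) Q * (if (j : ℕ) ≤ l then coeff (l - (j : ℕ)) A else 0)
      = coeff (e + l) (Q * A) := by
  have e0 : ∑ j : Fin n, coeff (e + (j : ℕ)) Q *
        (if (j : ℕ) ≤ l then coeff (l - (j : ℕ)) A else 0)
      = ∑ j ∈ Finset.range n, coeff (e + j) Q * (if j ≤ l then coeff (l - j) A else 0) :=
    Fin.sum_univ_eq_sum_range
      (fun j => coeff (e + j) Q * (if j ≤ l then coeff (l - j) A else 0)) n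
  have e1 : coeff (e + l) (A * Q) =
      ∑ k ∈ Finset.range (e + l + 1), coeff k A * coeff (e + l - k) Q :=
    (coeff_mul (e + l) A Q).trans
      (Finset.Nat.sum_antidiagonal_eq_sum_range_succ (fun a b => coeff a A * coeff b Q) (e + l))
  have e2 : ∑ k ∈ Finset.range (l + 1), coeff k A * coeff (e + l - k) Q
      = ∑ j ∈ Finset.range (l + 1),
          coeff (l + 1 - 1 - j) A * coeff (e + l - (l + 1 - 1 - j)) Q :=
    (Finset.sum_range_reflect (fun k => coeff k A * coeff (e + l - k) Q) (l + 1)).symm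
  rw [e0, ← Finset.sum_subset (range_sub (show l + 1 ≤ n by omega))]
  · rw [mul_comm Q A, e1,
      ← Finset.sum_subset (range_sub (show l + 1 ≤ e + l + 1 by omega))]
    · rw [e2]
      apply Finset.sum_congr rfl
      intro j hj
      rw [Finset.mem_range] at hj
      have c : j ≤ l := by omega
      rw [if_pos c, show l + 1 - 1 - j = l - j by omega, show e + l - (l - j) = e + j by omega]
      exact mul_comm _ _
    · intro k _ hk
      rw [Finset.mem_range] at hk
      rw [hA k (by omega), zero_mul]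
  · intro j _ hj
    rw [Finset.mem_range] at hj
    rw [if_neg (by omega), mul_zero]

variable (d e : ℕ) (α : Fin d → R) (β : Fin e → R)

noncomputable def bser : PowerSeries R := ∏ j : Fin e, (1 + C (β j) * X)

noncomputable def Pser (i : Fin d) : PowerSeries R :=
  bser e β * ∏ l : Fin d, if l ≤ i then geo (α l) else 1

noncomputable def aser (l : Fin d) : PowerSeries R :=
  ∏ l' : Fin d, if l' < l then (1 + C (α l') * X) else 1

theorem bser_deg : DegLE e (bser e β) := by
  have h := (DegLE_one (R := R)).mul_prod (Finset.univ : Finset (Fin e)) β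
  rw [one_mul, zero_add, Finset.card_univ, Fintype.card_fin] at h
  exact h

theorem aser_deg (l : Fin d) : DegLE (l : ℕ) (aser d α l) := by
  have h := (DegLE_one (R := R)).mul_prod (Finset.Iio l) α
  rw [one_mul, zero_add, Fin.card_Iio] at h
  have e1 : aser d α l = ∏ l' ∈ Finset.Iio l, (1 + C (α l') * X) := by
    rw [aser, ← Finset.prod_subset (Finset.subset_univ (Finset.Iio l))]
    · apply Finset.prod_congr rfl
      intro x hx
      rw [Finset.mem_Iio] at hx
      rw [if_pos hx]
    · intro x _ hx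
      rw [Finset.mem_Iio] at hx
      rw [if_neg hx]
  rw [e1]; exact h

theorem aser_coeff_zero (l : Fin d) : coeff 0 (aser d α l) = 1 := by
  rw [coeff_zero_eq_constantCoeff_apply, aser, map_prod]
  apply Finset.prod_eq_one
  intro x _
  split_ifs
  · simp
  · simp

theorem prod_lt (i l : Fin d) (h : i < l) :
    (∏ l' : Fin d, ((if l' ≤ i then geo (α l') else 1) *
        (if l' < l then (1 + C (α l') * X) else 1)))
      = ∏ l' ∈ Finset.Ioo i l, (1 + C (α l') * X) := by
  rw [← Finset.prod_subset (Finset.subset_univ (Finset.Ioo i l))]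
  · apply Finset.prod_congr rfl
    intro x hx
    rw [Finset.mem_Ioo] at hx
    rw [if_neg (not_le.mpr hx.1), if_pos hx.2, one_mul]
  · intro x _ hx
    rw [Finset.mem_Ioo] at hx
    by_cases h1 : x ≤ i
    · rw [if_pos h1, if_pos (lt_of_le_of_lt h1 h), geo_mul_lin]
    · have h2 : ¬ x < l := fun h2 => hx ⟨not_le.mp h1, h2⟩
      rw [if_neg h1, if_neg h2, one_mul]

theorem prod_eq (i : Fin d) :
    (∏ l' : Fin d, ((if l' ≤ i then geo (α l') else 1) *
        (if l' < i then (1 + C (α l') * X) else 1)))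
      = geo (α i) := by
  rw [← Finset.prod_subset (Finset.subset_univ ({i} : Finset (Fin d)))]
  · rw [Finset.prod_singleton, if_pos (le_refl i), if_neg (lt_irrefl i), mul_one]
  · intro x _ hx
    rw [Finset.mem_singleton] at hx
    by_cases h1 : x < i
    · rw [if_pos h1.le, if_pos h1, geo_mul_lin]
    · have h2 : ¬ x ≤ i := fun h2 => h1 (lt_of_le_of_ne h2 hx)
      rw [if_neg h2, if_neg h1, one_mul]

theorem Pser_mul_aser_lt {i l : Fin d} (h : i < l) :
    Pser d e α β i * aser d α l = bser e β * ∏ l' ∈ Finset.Ioo i l, (1 + C (α l') * X) := by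
  rw [Pser, aser, mul_assoc, ← Finset.prod_mul_distrib, prod_lt d α i l h]

theorem Pser_mul_aser_eq (i : Fin d) :
    Pser d e α β i * aser d α i = bser e β * geo (α i) := by
  rw [Pser, aser, mul_assoc, ← Finset.prod_mul_distrib, prod_eq d α i]

theorem s14505 (R : Type u) [CommRing R] (d e : ℕ)
    (α : Fin d → R) (β : Fin e → R) :
    ∏ i : Fin d, ∏ j : Fin e, (β j - α i) =
      (Matrix.of fun i j : Fin d =>
        if (i : ℕ) ≤ e + (j : ℕ) then
          PowerSeries.coeff (e + (j : ℕ) - (i : ℕ))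
            ((∏ j : Fin e, (1 + PowerSeries.C (β j) * PowerSeries.X)) *
              ∏ l : Fin d, if l ≤ i then PowerSeries.mk (fun m => (-α l) ^ m) else 1)
        else 0).det := by
  obtain ⟨N, hN⟩ : ∃ N : Matrix (Fin d) (Fin d) R, N = Matrix.of fun i j : Fin d =>
        if (i : ℕ) ≤ e + (j : ℕ) then
          PowerSeries.coeff (e + (j : ℕ) - (i : ℕ))
            ((∏ j : Fin e, (1 + PowerSeries.C (β j) * PowerSeries.X)) *
              ∏ l : Fin d, if l ≤ i then PowerSeries.mk (fun m => (-α l) ^ m) else 1)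
        else 0 := ⟨_, rfl⟩
  rw [← hN]
  have hNe : ∀ i j, N i j = coeff (e + (j : ℕ)) (X ^ (i : ℕ) * Pser d e α β i) := by
    intro i j
    (rw [hN, Matrix.of_apply, coeff_X_pow_mul']) <;> rfl
  obtain ⟨U, hU⟩ : ∃ U : Matrix (Fin d) (Fin d) R, U = Matrix.of fun j l : Fin d =>
      if (j : ℕ) ≤ (l : ℕ) then coeff ((l : ℕ) - (j : ℕ)) (aser d α l) else 0 := ⟨_, rfl⟩
  have hUdet : U.det = 1 := by
    have hUtri : U.BlockTriangular id := by
      intro j l hlj
      rw [hU, Matrix.of_apply, if_neg]
      exact not_le.mpr (Fin.lt_def.mp hlj)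
    rw [Matrix.det_of_upperTriangular hUtri]
    apply Finset.prod_eq_one
    intro l _
    rw [hU, Matrix.of_apply, if_pos (le_refl _), Nat.sub_self]
    exact aser_coeff_zero d α l
  have hNU : ∀ i l, (N * U) i l =
      coeff (e + (l : ℕ)) (X ^ (i : ℕ) * Pser d e α β i * aser d α l) := by
    intro i l
    rw [Matrix.mul_apply]
    have := sum_coeff_mul (X ^ (i : ℕ) * Pser d e α β i) (aser d α l) d e (l : ℕ) l.isLt
      (aser_deg d α l)
    rw [← this]
    apply Finset.sum_congr rfl
    intro j _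
    rw [hNe i j, hU, Matrix.of_apply]
  have hupper : ∀ i l : Fin d, i < l → (N * U) i l = 0 := by
    intro i l hil
    rw [hNU, mul_assoc, Pser_mul_aser_lt d e α β hil]
    have hdeg : DegLE ((i : ℕ) + (e + (Finset.Ioo i l).card))
        (X ^ (i : ℕ) * (bser e β * ∏ l' ∈ Finset.Ioo i l, (1 + C (α l') * X))) :=
      ((bser_deg e β).mul_prod (Finset.Ioo i l) α).X_pow_mul (i : ℕ)
    refine hdeg (e + (l : ℕ)) ?_
    rw [Fin.card_Ioo]
    have : (i : ℕ) < (l : ℕ) := Fin.lt_def.mp hil
    omega
  have hdiag : ∀ i : Fin d, (N * U) i i = ∏ j : Fin e, (β j - α i) := by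
    intro i
    rw [hNU, mul_assoc, Pser_mul_aser_eq d e α β i, coeff_X_pow_mul]
    have := coeff_prod_lin_mul_geo (Finset.univ : Finset (Fin e)) β (α i) e (by simp)
    rw [Finset.card_univ, Fintype.card_fin, Nat.sub_self, pow_zero, one_mul] at this
    exact this
  have hdet : (N * U).det = ∏ i : Fin d, (N * U) i i :=
    Matrix.det_of_lowerTriangular (N * U)
      (fun i j hij => hupper i j (OrderDual.toDual_lt_toDual.mp hij))
  rw [Matrix.det_mul, hUdet, mul_one] at hdet
  rw [hdet]
  exact Finset.prod_congr rfl (fun i _ => (hdiag i).symm)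

end Groth.Agent.Lib.Helper24ResDet
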