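import Mathlib

set_option autoImplicit false
universe u

namespace Groth.Agent.Lib.Helper24Roberts

open MvPolynomial

variable {k : Type u} [Field k]

theorem sum_eq_zero (v : Fin 7 → MvPolynomial (Fin 7) k) (f : MvPolynomial (Fin 7) k)
    (hδ : mkDerivation k v f = 0) (E : Fin 7 →₀ ℕ) :
    ∑ d' ∈ f.support, coeff E (mkDerivation k v (monomial d' (coeff d' f))) = 0 := by
  have h1 : mkDerivation k v (∑ d' ∈ f.support, monomial d' (coeff d' f)) = 0 := by
    rw [support_sum_monomial_coeff]; exact hδ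
  rw [map_sum] at h1
  have h2 := congrArg (coeff E) h1
  rw [coeff_sum, coeff_zero] at h2
  exact h2

theorem case_contra (v : Fin 7 → MvPolynomial (Fin 7) k) (f : MvPolynomial (Fin 7) k)
    (hδ : mkDerivation k v f = 0) (d : Fin 7 →₀ ℕ) (hd : d ∈ f.support) (E : Fin 7 →₀ ℕ)
    (a : k) (ha : a ≠ 0)
    (h1 : ∀ c : k, coeff E (mkDerivation k v (monomial d c)) = c * a)
    (h2 : ∀ (d' : Fin 7 →₀ ℕ) (c : k), d' ≠ d →
      coeff E (mkDerivation k v (monomial d' c)) = 0) : False := by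
  have hs := sum_eq_zero v f hδ E
  rw [Finset.sum_eq_single_of_mem d hd (fun d' _ hne => h2 d' _ hne), h1] at hs
  rcases mul_eq_zero.mp hs with h | h
  · exact (mem_support_iff.mp hd) h
  · exact ha h

theorem eq_of_tsub_single_eq {j : Fin 7} {d d' : Fin 7 →₀ ℕ} (hd : d j ≠ 0) (hd' : d' j ≠ 0)
    (h : d' - Finsupp.single j 1 = d - Finsupp.single j 1) : d' = d := by
  ext i
  have hi := DFunLike.congr_fun h i
  rw [Finsupp.tsub_apply, Finsupp.tsub_apply, Finsupp.single_apply] at hi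
  by_cases hij : j = i
  · subst hij; rw [if_pos rfl] at hi; omega
  · rw [if_neg hij] at hi; simpa using hi

theorem term_zero {a E : Fin 7 →₀ ℕ} (r : k) (i : Fin 7) (h : a i ≠ E i) :
    coeff E (monomial a r) = 0 := by
  rw [coeff_monomial, if_neg]
  intro h'; exact h (by rw [h'])

theorem coeffD (m : ℕ) (v : Fin 7 → MvPolynomial (Fin 7) k) (hv0 : v 0 = 0) (hv1 : v 1 = 0)
    (hv2 : v 2 = 0) (hv3 : v 3 = X 0 ^ (m + 1)) (hv4 : v 4 = X 1 ^ (m + 1))
    (hv5 : v 5 = X 2 ^ (m + 1)) (hv6 : v 6 = (X 0 * X 1 * X 2) ^ m) (d' E : Fin 7 →₀ ℕ) (c : k) :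
    coeff E (mkDerivation k v (monomial d' c)) =
      c * (coeff E (monomial (d' - Finsupp.single 3 1 + Finsupp.single 0 (m + 1)) (d' 3 : k))
        + coeff E (monomial (d' - Finsupp.single 4 1 + Finsupp.single 1 (m + 1)) (d' 4 : k))
        + coeff E (monomial (d' - Finsupp.single 5 1 + Finsupp.single 2 (m + 1)) (d' 5 : k))
        + coeff E (monomial (d' - Finsupp.single 6 1 +
            (Finsupp.single 0 m + Finsupp.single 1 m + Finsupp.single 2 m)) (d' 6 : k))) := by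
  have e3 : monomial (d' - Finsupp.single 3 1) (d' 3 : k) * X 0 ^ (m + 1)
      = monomial (d' - Finsupp.single 3 1 + Finsupp.single 0 (m + 1)) (d' 3 : k) := by
    rw [X_pow_eq_monomial, monomial_mul, mul_one]
  have e4 : monomial (d' - Finsupp.single 4 1) (d' 4 : k) * X 1 ^ (m + 1)
      = monomial (d' - Finsupp.single 4 1 + Finsupp.single 1 (m + 1)) (d' 4 : k) := by
    rw [X_pow_eq_monomial, monomial_mul, mul_one]
  have e5 : monomial (d' - Finsupp.single 5 1) (d' 5 : k) * X 2 ^ (m + 1)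
      = monomial (d' - Finsupp.single 5 1 + Finsupp.single 2 (m + 1)) (d' 5 : k) := by
    rw [X_pow_eq_monomial, monomial_mul, mul_one]
  have e6 : monomial (d' - Finsupp.single 6 1) (d' 6 : k) * (X 0 * X 1 * X 2) ^ m
      = monomial (d' - Finsupp.single 6 1 +
          (Finsupp.single 0 m + Finsupp.single 1 m + Finsupp.single 2 m)) (d' 6 : k) := by
    rw [mul_pow, mul_pow, X_pow_eq_monomial, X_pow_eq_monomial, X_pow_eq_monomial, monomial_mul,
      monomial_mul, monomial_mul]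
    simp only [mul_one]
  rw [mkDerivation_monomial, coeff_smul, smul_eq_mul,
    Finsupp.sum_fintype _ _ (fun i => by simp), Fin.sum_univ_seven]
  simp only [hv0, hv1, hv2, hv3, hv4, hv5, hv6, smul_zero, zero_add, smul_eq_mul, e3, e4, e5, e6,
    coeff_add, mul_zero, coeff_zero]

theorem finish [CharZero k] (v : Fin 7 → MvPolynomial (Fin 7) k) (f : MvPolynomial (Fin 7) k)
    (hδ : mkDerivation k v f = 0) (d : Fin 7 →₀ ℕ) (hd : d ∈ f.support) (j : Fin 7)
    (μ : Fin 7 →₀ ℕ) (hj : d j ≠ 0)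
    (hev : ∀ (d' : Fin 7 →₀ ℕ) (c : k),
      coeff (d - Finsupp.single j 1 + μ) (mkDerivation k v (monomial d' c))
        = c * coeff (d - Finsupp.single j 1 + μ)
            (monomial (d' - Finsupp.single j 1 + μ) (d' j : k))) : False := by
  refine case_contra v f hδ d hd (d - Finsupp.single j 1 + μ) (d j : k)
    (Nat.cast_ne_zero.mpr hj) ?_ ?_
  · intro c
    rw [hev, coeff_monomial, if_pos rfl]
  · intro d' c hne
    rw [hev]
    by_cases h : d' j = 0
    · rw [h, Nat.cast_zero, monomial_zero, coeff_zero, mul_zero]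
    · rw [coeff_monomial, if_neg, mul_zero]
      intro heq
      exact hne (eq_of_tsub_single_eq hj h (add_right_cancel heq))

theorem caseA [CharZero k] (m : ℕ) (hm : 2 ≤ m) (v : Fin 7 → MvPolynomial (Fin 7) k)
    (hv0 : v 0 = 0) (hv1 : v 1 = 0)
    (hv2 : v 2 = 0) (hv3 : v 3 = X 0 ^ (m + 1)) (hv4 : v 4 = X 1 ^ (m + 1))
    (hv5 : v 5 = X 2 ^ (m + 1)) (hv6 : v 6 = (X 0 * X 1 * X 2) ^ m)
    (f : MvPolynomial (Fin 7) k) (hδ : mkDerivation k v f = 0) (d : Fin 7 →₀ ℕ)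
    (hd : d ∈ f.support) (h0 : d 0 = 0) (h1 : d 1 = 0) (h2 : d 2 = 0) (hj : d 3 ≠ 0) : False := by
  refine finish v f hδ d hd 3 (Finsupp.single 0 (m + 1)) hj ?_
  intro d' c
  rw [coeffD m v hv0 hv1 hv2 hv3 hv4 hv5 hv6]
  have t2 : coeff (d - Finsupp.single 3 1 + Finsupp.single 0 (m + 1))
      (monomial (d' - Finsupp.single 4 1 + Finsupp.single 1 (m + 1)) (d' 4 : k)) = 0 :=
    term_zero _ 1 (by simp [Finsupp.single_apply, h1] <;> omega)
  have t3 : coeff (d - Finsupp.single 3 1 + Finsupp.single 0 (m + 1))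
      (monomial (d' - Finsupp.single 5 1 + Finsupp.single 2 (m + 1)) (d' 5 : k)) = 0 :=
    term_zero _ 2 (by simp [Finsupp.single_apply, h2] <;> omega)
  have t4 : coeff (d - Finsupp.single 3 1 + Finsupp.single 0 (m + 1))
      (monomial (d' - Finsupp.single 6 1 +
        (Finsupp.single 0 m + Finsupp.single 1 m + Finsupp.single 2 m)) (d' 6 : k)) = 0 :=
    term_zero _ 1 (by simp [Finsupp.single_apply, h1] <;> omega)
  rw [t2, t3, t4, add_zero, add_zero, add_zero]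

theorem caseB [CharZero k] (m : ℕ) (hm : 2 ≤ m) (v : Fin 7 → MvPolynomial (Fin 7) k)
    (hv0 : v 0 = 0) (hv1 : v 1 = 0)
    (hv2 : v 2 = 0) (hv3 : v 3 = X 0 ^ (m + 1)) (hv4 : v 4 = X 1 ^ (m + 1))
    (hv5 : v 5 = X 2 ^ (m + 1)) (hv6 : v 6 = (X 0 * X 1 * X 2) ^ m)
    (f : MvPolynomial (Fin 7) k) (hδ : mkDerivation k v f = 0) (d : Fin 7 →₀ ℕ)
    (hd : d ∈ f.support) (h0 : d 0 = 0) (h1 : d 1 = 0) (h2 : d 2 = 0) (hj : d 4 ≠ 0) : False := by
  refine finish v f hδ d hd 4 (Finsupp.single 1 (m + 1)) hj ?_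
  intro d' c
  rw [coeffD m v hv0 hv1 hv2 hv3 hv4 hv5 hv6]
  have t1 : coeff (d - Finsupp.single 4 1 + Finsupp.single 1 (m + 1))
      (monomial (d' - Finsupp.single 3 1 + Finsupp.single 0 (m + 1)) (d' 3 : k)) = 0 :=
    term_zero _ 0 (by simp [Finsupp.single_apply, h0] <;> omega)
  have t3 : coeff (d - Finsupp.single 4 1 + Finsupp.single 1 (m + 1))
      (monomial (d' - Finsupp.single 5 1 + Finsupp.single 2 (m + 1)) (d' 5 : k)) = 0 :=
    term_zero _ 2 (by simp [Finsupp.single_apply, h2] <;> omega)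
  have t4 : coeff (d - Finsupp.single 4 1 + Finsupp.single 1 (m + 1))
      (monomial (d' - Finsupp.single 6 1 +
        (Finsupp.single 0 m + Finsupp.single 1 m + Finsupp.single 2 m)) (d' 6 : k)) = 0 :=
    term_zero _ 0 (by simp [Finsupp.single_apply, h0] <;> omega)
  rw [t1, t3, t4, zero_add, add_zero, add_zero]

theorem caseC [CharZero k] (m : ℕ) (hm : 2 ≤ m) (v : Fin 7 → MvPolynomial (Fin 7) k)
    (hv0 : v 0 = 0) (hv1 : v 1 = 0)
    (hv2 : v 2 = 0) (hv3 : v 3 = X 0 ^ (m + 1)) (hv4 : v 4 = X 1 ^ (m + 1))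
    (hv5 : v 5 = X 2 ^ (m + 1)) (hv6 : v 6 = (X 0 * X 1 * X 2) ^ m)
    (f : MvPolynomial (Fin 7) k) (hδ : mkDerivation k v f = 0) (d : Fin 7 →₀ ℕ)
    (hd : d ∈ f.support) (h0 : d 0 = 0) (h1 : d 1 = 0) (h2 : d 2 = 0) (hj : d 5 ≠ 0) : False := by
  refine finish v f hδ d hd 5 (Finsupp.single 2 (m + 1)) hj ?_
  intro d' c
  rw [coeffD m v hv0 hv1 hv2 hv3 hv4 hv5 hv6]
  have t1 : coeff (d - Finsupp.single 5 1 + Finsupp.single 2 (m + 1))
      (monomial (d' - Finsupp.single 3 1 + Finsupp.single 0 (m + 1)) (d' 3 : k)) = 0 :=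
    term_zero _ 0 (by simp [Finsupp.single_apply, h0] <;> omega)
  have t2 : coeff (d - Finsupp.single 5 1 + Finsupp.single 2 (m + 1))
      (monomial (d' - Finsupp.single 4 1 + Finsupp.single 1 (m + 1)) (d' 4 : k)) = 0 :=
    term_zero _ 1 (by simp [Finsupp.single_apply, h1] <;> omega)
  have t4 : coeff (d - Finsupp.single 5 1 + Finsupp.single 2 (m + 1))
      (monomial (d' - Finsupp.single 6 1 +
        (Finsupp.single 0 m + Finsupp.single 1 m + Finsupp.single 2 m)) (d' 6 : k)) = 0 :=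
    term_zero _ 0 (by simp [Finsupp.single_apply, h0] <;> omega)
  rw [t1, t2, t4, zero_add, zero_add, add_zero]

theorem caseD [CharZero k] (m : ℕ) (hm : 2 ≤ m) (v : Fin 7 → MvPolynomial (Fin 7) k)
    (hv0 : v 0 = 0) (hv1 : v 1 = 0)
    (hv2 : v 2 = 0) (hv3 : v 3 = X 0 ^ (m + 1)) (hv4 : v 4 = X 1 ^ (m + 1))
    (hv5 : v 5 = X 2 ^ (m + 1)) (hv6 : v 6 = (X 0 * X 1 * X 2) ^ m)
    (f : MvPolynomial (Fin 7) k) (hδ : mkDerivation k v f = 0) (d : Fin 7 →₀ ℕ)
    (hd : d ∈ f.support) (h0 : d 0 = 0) (h1 : d 1 = 0) (h2 : d 2 = 0) (hj : d 6 ≠ 0) : False := by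
  refine finish v f hδ d hd 6
    (Finsupp.single 0 m + Finsupp.single 1 m + Finsupp.single 2 m) hj ?_
  intro d' c
  rw [coeffD m v hv0 hv1 hv2 hv3 hv4 hv5 hv6]
  have t1 : coeff (d - Finsupp.single 6 1 +
        (Finsupp.single 0 m + Finsupp.single 1 m + Finsupp.single 2 m))
      (monomial (d' - Finsupp.single 3 1 + Finsupp.single 0 (m + 1)) (d' 3 : k)) = 0 :=
    term_zero _ 0 (by simp [Finsupp.single_apply, h0] <;> omega)
  have t2 : coeff (d - Finsupp.single 6 1 +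
        (Finsupp.single 0 m + Finsupp.single 1 m + Finsupp.single 2 m))
      (monomial (d' - Finsupp.single 4 1 + Finsupp.single 1 (m + 1)) (d' 4 : k)) = 0 :=
    term_zero _ 1 (by simp [Finsupp.single_apply, h1] <;> omega)
  have t3 : coeff (d - Finsupp.single 6 1 +
        (Finsupp.single 0 m + Finsupp.single 1 m + Finsupp.single 2 m))
      (monomial (d' - Finsupp.single 5 1 + Finsupp.single 2 (m + 1)) (d' 5 : k)) = 0 :=
    term_zero _ 2 (by simp [Finsupp.single_apply, h2] <;> omega)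
  rw [t1, t2, t3, zero_add, zero_add, zero_add]

theorem s11217 (k : Type u) [Field k] [CharZero k] (m : ℕ) (hm : 2 ≤ m) (n : ℕ) (hn : 1 ≤ n)
    (f : MvPolynomial (Fin 7) k)
    (hf : MvPolynomial.IsWeightedHomogeneous (![0, 0, 0, 1, 1, 1, 1] : Fin 7 → ℕ) f n)
    (hδ : MvPolynomial.mkDerivation k
      (![0, 0, 0, MvPolynomial.X 0 ^ (m + 1), MvPolynomial.X 1 ^ (m + 1), MvPolynomial.X 2 ^ (m + 1),
        (MvPolynomial.X 0 * MvPolynomial.X 1 * MvPolynomial.X 2) ^ m] : Fin 7 → MvPolynomial (Fin 7) k) f = 0) :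
    ∀ d ∈ f.support, 0 < d 0 + d 1 + d 2 := by
  intro d hd
  by_contra hcon
  have h0 : d 0 = 0 := by omega
  have h1 : d 1 = 0 := by omega
  have h2 : d 2 = 0 := by omega
  by_cases h3 : d 3 ≠ 0
  · exact caseA m hm _ rfl rfl rfl rfl rfl rfl rfl f hδ d hd h0 h1 h2 h3
  by_cases h4 : d 4 ≠ 0
  · exact caseB m hm _ rfl rfl rfl rfl rfl rfl rfl f hδ d hd h0 h1 h2 h4
  by_cases h5 : d 5 ≠ 0
  · exact caseC m hm _ rfl rfl rfl rfl rfl rfl rfl f hδ d hd h0 h1 h2 h5
  have hw := hf (mem_support_iff.mp hd)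
  rw [Finsupp.weight_eq_sum, Fin.sum_univ_seven] at hw
  simp at hw
  have h6 : d 6 ≠ 0 := by omega
  exact caseD m hm _ rfl rfl rfl rfl rfl rfl rfl f hδ d hd h0 h1 h2 h6

end Groth.Agent.Lib.Helper24Roberts
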