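import Mathlib
import Groth.Agent.Lib.Helper24DynLeaf

/-!
Helper library for S19565: in an irreducible reduced crystallographic finite root system with base
`b` and a partition `I ⊔ A ⊔ B` of the simple roots, some positive root supported on `I ∪ B`, not in
the span of `I`, pairs negatively with a simple coroot of `A`.
-/

set_option autoImplicit false

namespace Groth.Agent.Lib.Helper24RootComb

open Set Function

variable {ι : Type*} [Finite ι] {k : Type*} [Field k] [CharZero k]
  {M N : Type*} [AddCommGroup M] [Module k M] [AddCommGroup N] [Module k N]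
  (P : RootPairing ι k M N) [P.IsCrystallographic] (b : P.Base)

lemma closure_pairing (T : Finset ι) (hT : T ⊆ b.support) (t : ι) (ht : t ∈ b.support) :
    ∀ r ∈ AddSubmonoid.closure (P.root '' (T : Set ι)), ∃ m : ℤ,
      algebraMap ℤ k m = P.toLinearMap r (P.coroot t) ∧ (t ∉ T → m ≤ 0) ∧
      (0 < m → ∃ r' ∈ AddSubmonoid.closure (P.root '' (T : Set ι)), r = P.root t + r') := by
  intro r hr
  induction hr using AddSubmonoid.closure_induction with
  | mem x hx =>
    obtain ⟨s, hs, rfl⟩ := hx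
    have hsT : s ∈ T := hs
    refine ⟨P.pairingIn ℤ s t, ?_, ?_, ?_⟩
    · rw [P.algebraMap_pairingIn ℤ, ← P.root_coroot_eq_pairing]
    · intro htT
      exact b.pairingIn_le_zero_of_ne (by rintro rfl; exact htT hsT) (hT hsT) ht
    · intro hpos
      have hst : s = t := by
        by_contra hne
        have := b.pairingIn_le_zero_of_ne hne (hT hsT) ht
        omega
      subst hst
      exact ⟨0, zero_mem _, by simp⟩
  | zero => exact ⟨0, by simp, fun _ => le_refl _, fun h => absurd h (lt_irrefl _)⟩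
  | add x y hx hy ihx ihy =>
    obtain ⟨m₁, e₁, n₁, p₁⟩ := ihx
    obtain ⟨m₂, e₂, n₂, p₂⟩ := ihy
    refine ⟨m₁ + m₂, ?_, ?_, ?_⟩
    · rw [map_add, e₁, e₂, map_add, LinearMap.add_apply]
    · intro h
      have := n₁ h
      have := n₂ h
      omega
    · intro hpos
      rcases lt_or_ge 0 m₁ with h | h
      · obtain ⟨r', hr', rfl⟩ := p₁ h
        exact ⟨r' + y, add_mem hr' hy, by abel⟩
      · have h2 : 0 < m₂ := by omega
        obtain ⟨r', hr', rfl⟩ := p₂ h2
        exact ⟨x + r', add_mem hx hr', by abel⟩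

theorem s19565 [DecidableEq ι] [P.IsReduced] [P.IsIrreducible]
    (I A B : Finset ι) (hcover : I ∪ A ∪ B = b.support) (hIA : Disjoint I A) (hIB : Disjoint I B)
    (hAB : Disjoint A B) (hA : A.Nonempty) (hB : B.Nonempty) :
    ∃ l ∈ A, ∃ j : ι, P.root j ∈ AddSubmonoid.closure (P.root '' ↑(I ∪ B)) ∧
      P.root j ∉ Submodule.span k (P.root '' ↑I) ∧ P.pairingIn ℤ j l < 0 := by
  classical
  obtain ⟨Cl, hCl⟩ : ∃ Cl : AddSubmonoid M,
      Cl = AddSubmonoid.closure (P.root '' ((I ∪ B : Finset ι) : Set ι)) := ⟨_, rfl⟩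
  rw [← hCl]
  have hIBs : I ∪ B ⊆ b.support := by
    rw [← hcover]; intro x hx
    simp only [Finset.mem_union] at hx ⊢; tauto
  have hIs : I ⊆ b.support := by
    rw [← hcover]; intro x hx
    simp only [Finset.mem_union]; tauto
  have hAs : A ⊆ b.support := by
    rw [← hcover]; intro x hx
    simp only [Finset.mem_union]; tauto
  have hgen : ∀ s ∈ I ∪ B, P.root s ∈ Cl := fun s hs => by
    rw [hCl]; exact AddSubmonoid.subset_closure ⟨s, hs, rfl⟩
  have hnot : ∀ s ∈ B, P.root s ∉ Submodule.span k (P.root '' (I : Set ι)) := by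
    intro s hs
    have hsI : s ∉ I := fun h => (Finset.disjoint_left.mp hIB h hs)
    have hli := b.linearIndepOn_root.linearIndependent
    have hss : s ∈ b.support := hIBs (Finset.mem_union_right _ hs)
    have h1 := hli.notMem_span_image (s := {x : b.support | x.val ∈ I}) (x := ⟨s, hss⟩)
      (by simpa using hsI)
    intro hmem
    refine h1 (Submodule.span_mono ?_ hmem)
    rintro _ ⟨x, hx, rfl⟩
    exact ⟨⟨x, hIs hx⟩, hx, rfl⟩
  by_contra hG
  let p : b.support → Prop := fun s => s.val ∈ I ∪ B ∧ ∃ j : ι, ∃ r ∈ Cl,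
    P.root j = P.root s.val + r ∧ P.root j ∈ Cl ∧
      P.root j ∉ Submodule.span k (P.root '' (I : Set ι))
  obtain ⟨s0, hs0⟩ := hB
  obtain ⟨l0, hl0⟩ := hA
  have hstart : p ⟨s0, hIBs (Finset.mem_union_right _ hs0)⟩ :=
    ⟨Finset.mem_union_right _ hs0, s0, 0, zero_mem _, by simp,
      hgen _ (Finset.mem_union_right _ hs0), hnot s0 hs0⟩
  have hstep : ∀ i j : b.support, p i → b.cartanMatrix j i ≠ 0 → p j := by
    rintro ⟨i, hi⟩ ⟨j, hj⟩ ⟨hiIB, j₀, r, hr, hj₀, hj₀Cl, hj₀I⟩ hadj
    have hadj' : P.pairingIn ℤ j i ≠ 0 := hadj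
    by_cases hji : j = i
    · subst hji; exact ⟨hiIB, j₀, r, hr, hj₀, hj₀Cl, hj₀I⟩
    have haij : P.pairingIn ℤ i j < 0 := by
      have h1 := b.pairingIn_le_zero_of_ne (Ne.symm hji) hi hj
      have h2 : P.pairingIn ℤ i j ≠ 0 := fun h =>
        hadj' (Groth.Agent.Lib.Helper24DynLeaf.pairingIn_zero_symm P i j h)
      omega
    have hr' : r ∈ AddSubmonoid.closure (P.root '' ((I ∪ B : Finset ι) : Set ι)) := hCl ▸ hr
    obtain ⟨m, hm, hmneg, hmpos⟩ := closure_pairing P b (I ∪ B) hIBs j hj r hr'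
    have hpair : P.pairingIn ℤ j₀ j = P.pairingIn ℤ i j + m := by
      apply FaithfulSMul.algebraMap_injective ℤ k
      rw [map_add, P.algebraMap_pairingIn ℤ, P.algebraMap_pairingIn ℤ, hm,
        ← P.root_coroot_eq_pairing, ← P.root_coroot_eq_pairing, hj₀, map_add,
        LinearMap.add_apply]
    have hjcases : j ∈ A ∨ j ∈ I ∪ B := by
      rw [← hcover] at hj; simp only [Finset.mem_union] at hj ⊢; tauto
    rcases hjcases with hjA | hjIB
    · exfalso
      apply hG
      have hjnot : j ∉ I ∪ B := by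
        intro h; rcases Finset.mem_union.mp h with h | h
        · exact Finset.disjoint_left.mp hIA h hjA
        · exact Finset.disjoint_left.mp hAB hjA h
      have := hmneg hjnot
      exact ⟨j, hjA, j₀, hj₀Cl, hj₀I, by omega⟩
    · rcases Finset.mem_union.mp hjIB with hjI | hjB
      · rcases lt_or_ge (P.pairingIn ℤ j₀ j) 0 with hneg | hnn
        · have hne : P.root j₀ ≠ - P.root j := by
            intro h
            apply hj₀I; rw [h]
            exact Submodule.neg_mem _ (Submodule.subset_span ⟨j, hjI, rfl⟩)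
          obtain ⟨j₁, hj₁⟩ := P.root_add_root_mem_of_pairingIn_neg hneg hne
          refine ⟨hjIB, j₁, P.root j₀, hj₀Cl, by rw [hj₁, add_comm], ?_, ?_⟩
          · rw [hj₁]; exact add_mem hj₀Cl (hgen j hjIB)
          · intro h
            apply hj₀I
            have e : P.root j₀ = P.root j₁ - P.root j := by rw [hj₁]; abel
            rw [e]
            exact Submodule.sub_mem _ h (Submodule.subset_span ⟨j, hjI, rfl⟩)
        · have hmp : 0 < m := by omega
          obtain ⟨r'', hr'', rfl⟩ := hmpos hmp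
          refine ⟨hjIB, j₀, P.root i + r'', add_mem (hgen i hiIB) (hCl ▸ hr''),
            by rw [hj₀]; abel, hj₀Cl, hj₀I⟩
      · exact ⟨hjIB, j, 0, zero_mem _, by simp, hgen j hjIB, hnot j hjB⟩
  have hfinal := b.induction_on_cartanMatrix p hstart hstep (j := ⟨l0, hAs hl0⟩)
  rcases Finset.mem_union.mp hfinal.1 with h | h
  · exact Finset.disjoint_left.mp hIA h hl0
  · exact Finset.disjoint_left.mp hAB hl0 h

end Groth.Agent.Lib.Helper24RootComb
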