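import Mathlib

/-!
# Schubert conditions versus vanishing of Plücker minors
-/

open Matrix

namespace Groth.Agent.Lib.Helper24Schubert

variable {K : Type*} [Field K] {n d : ℕ}

/-- `x ᵥ* A` at column `l` is the dot product of `x` with the `l`-th column. -/
lemma vecMul_apply' (A : Matrix (Fin d) (Fin n) K) (x : Fin d → K) (l : Fin n) :
    (x ᵥ* A) l = x ⬝ᵥ Aᵀ l := rfl

lemma vecMul_injective (A : Matrix (Fin d) (Fin n) K)
    (hA : LinearIndependent K (fun i : Fin d => A i)) : Function.Injective A.vecMul :=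
  Matrix.vecMul_injective_iff.mpr hA

lemma mem_span_rows_iff (A : Matrix (Fin d) (Fin n) K) (w : Fin n → K) :
    w ∈ Submodule.span K (Set.range fun i : Fin d => A i) ↔ ∃ x : Fin d → K, x ᵥ* A = w := by
  have := _root_.range_vecMulLinear A
  change _ = Submodule.span K (Set.range fun i : Fin d => A i) at this
  rw [← this]
  rfl

/-- Key vanishing: if `x` is orthogonal to the columns in `b` and the columns in `t` lie in the
span of those in `b`, then `x ᵥ* A` vanishes on `t`. -/
lemma vecMul_eq_zero_of_span (A : Matrix (Fin d) (Fin n) K) (b t : Set (Fin n))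
    (hspan : (fun l => Aᵀ l) '' t ⊆ Submodule.span K ((fun l => Aᵀ l) '' b))
    (x : Fin d → K) (hx : ∀ l ∈ b, x ⬝ᵥ Aᵀ l = 0) (l : Fin n) (hl : l ∈ t) :
    (x ᵥ* A) l = 0 := by
  rw [vecMul_apply']
  have hmem : Aᵀ l ∈ Submodule.span K ((fun l => Aᵀ l) '' b) := hspan ⟨l, hl, rfl⟩
  generalize Aᵀ l = y0 at hmem ⊢
  induction hmem using Submodule.span_induction with
  | mem y hy =>
    obtain ⟨l', hl', rfl⟩ := hy
    exact hx l' hl'
  | zero => exact dotProduct_zero x
  | add y z _ _ hy hz => rw [dotProduct_add, hy, hz, add_zero]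
  | smul a y _ hy => rw [dotProduct_smul, hy, smul_zero]

/-- The orthogonal of the columns in `b`. -/
noncomputable def Psi (A : Matrix (Fin d) (Fin n) K) (b : Set (Fin n)) :
    (Fin d → K) →ₗ[K] (b → K) where
  toFun x := fun l => x ⬝ᵥ Aᵀ l.1
  map_add' x y := by ext l; simp [add_dotProduct]
  map_smul' a x := by ext l; simp [smul_dotProduct]

lemma finrank_ker_Psi_ge (A : Matrix (Fin d) (Fin n) K) (b : Set (Fin n)) [Fintype b] :
    d ≤ Module.finrank K (LinearMap.ker (Psi A b)) + Fintype.card b := by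
  have h1 := LinearMap.finrank_range_add_finrank_ker (Psi A b)
  have h2 : Module.finrank K (LinearMap.range (Psi A b)) ≤ Fintype.card b := by
    have := Submodule.finrank_le (LinearMap.range (Psi A b))
    rwa [Module.finrank_fintype_fun_eq_card] at this
  rw [Module.finrank_fin_fun] at h1
  omega

/-- Step B: lower bound for `finrank (W ⊓ V_D)`. -/
lemma finrank_inf_ge (A : Matrix (Fin d) (Fin n) K)
    (hA : LinearIndependent K (fun i : Fin d => A i))
    (VD : Submodule K (Fin n → K)) (t b : Set (Fin n)) [Fintype b]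
    (hVD : ∀ v, v ∈ VD ↔ ∀ l : Fin n, l ∈ t → v l = 0)
    (hspan : (fun l => Aᵀ l) '' t ⊆ Submodule.span K ((fun l => Aᵀ l) '' b)) :
    d ≤ Module.finrank K ↥(Submodule.span K (Set.range fun i : Fin d => A i) ⊓ VD)
      + Fintype.card b := by
  have h1 := finrank_ker_Psi_ge A b
  -- the injective map `ker Ψ → W ⊓ V_D`
  let Φ : LinearMap.ker (Psi A b) →ₗ[K]
      ↥(Submodule.span K (Set.range fun i : Fin d => A i) ⊓ VD) :=
    LinearMap.codRestrict _ (A.vecMulLinear ∘ₗ (LinearMap.ker (Psi A b)).subtype) (by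
      rintro ⟨x, hx⟩
      refine ⟨(mem_span_rows_iff A _).mpr ⟨x, rfl⟩, (hVD _).mpr fun l hl => ?_⟩
      refine vecMul_eq_zero_of_span A b t hspan x (fun l' hl' => ?_) l hl
      have := congrFun (LinearMap.mem_ker.mp hx) ⟨l', hl'⟩
      exact this)
  have hΦ : Function.Injective Φ := by
    intro x y hxy
    have := congrArg Subtype.val hxy
    exact Subtype.ext (vecMul_injective A hA this)
  have h2 := LinearMap.finrank_le_finrank_of_injective hΦ
  omega

lemma forward (A : Matrix (Fin d) (Fin n) K)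
    (VD : Submodule K (Fin n → K)) (D : ℕ)
    (hVD : ∀ v, v ∈ VD ↔ ∀ l : Fin n, D ≤ (l : ℕ) → v l = 0) (i : Fin d)
    (h : (i : ℕ) + 1 ≤
      Module.finrank K ↥(Submodule.span K (Set.range fun i : Fin d => A i) ⊓ VD))
    (J : Fin d → Fin n) (hJ : StrictMono J) (hD : D ≤ (J i : ℕ)) :
    (A.submatrix id J).det = 0 := by
  by_contra hdet
  let ρ : ↥(Submodule.span K (Set.range fun i : Fin d => A i) ⊓ VD) →ₗ[K] (Fin (i : ℕ) → K) :=
    { toFun := fun w m => w.1 (J ⟨m, lt_trans m.2 i.2⟩)
      map_add' := fun w w' => by ext m; simp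
      map_smul' := fun a w => by ext m; simp }
  have hρ : Function.Injective ρ := by
    rw [← LinearMap.ker_eq_bot, LinearMap.ker_eq_bot']
    intro w hw
    obtain ⟨x, hx⟩ := (mem_span_rows_iff A w.1).mp w.2.1
    have hwV := (hVD w.1).mp w.2.2
    have h0 : x ᵥ* (A.submatrix id J) = 0 := by
      ext m
      have h1 : (x ᵥ* (A.submatrix id J)) m = w.1 (J m) := by
        rw [← hx]
        rfl
      rw [h1]
      by_cases hm : (m : ℕ) < i
      · exact congrFun hw ⟨m, hm⟩
      · apply hwV
        push Not at hm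
        have : J i ≤ J m := hJ.monotone (Fin.le_def.mpr hm)
        have := Fin.le_def.mp this
        omega
    have hx0 := Matrix.eq_zero_of_vecMul_eq_zero hdet h0
    apply Subtype.ext
    rw [← hx, hx0]
    simp
  have := LinearMap.finrank_le_finrank_of_injective hρ
  rw [Module.finrank_fin_fun] at this
  omega

lemma backward (A : Matrix (Fin d) (Fin n) K)
    (hA : LinearIndependent K (fun i : Fin d => A i))
    (VD : Submodule K (Fin n → K)) (D : ℕ)
    (hVD : ∀ v, v ∈ VD ↔ ∀ l : Fin n, D ≤ (l : ℕ) → v l = 0) (i : Fin d)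
    (hP : ∀ J : Fin d → Fin n, StrictMono J → D ≤ (J i : ℕ) → (A.submatrix id J).det = 0) :
    (i : ℕ) + 1 ≤
      Module.finrank K ↥(Submodule.span K (Set.range fun i : Fin d => A i) ⊓ VD) := by
  classical
  by_contra hlt
  push Not at hlt
  obtain ⟨b₀, hb₀t, -, hspan₀, hli₀⟩ := exists_linearIndepOn_extension (K := K)
    (v := fun l : Fin n => Aᵀ l) (s := ∅) (t := {l : Fin n | D ≤ (l : ℕ)})
    (linearIndepOn_empty K _) (Set.empty_subset _)
  obtain ⟨b, -, hb₀b, hspan, hli⟩ := exists_linearIndepOn_extension hli₀ (Set.subset_univ b₀)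
  haveI : Fintype b₀ := Fintype.ofFinite _
  haveI : Fintype b := Fintype.ofFinite _
  have hB0 := finrank_inf_ge A hA VD {l : Fin n | D ≤ (l : ℕ)} b₀ hVD hspan₀
  have hcard_le : Fintype.card b ≤ d := by
    have h1 : LinearIndependent K (fun x : b => Aᵀ x.1) := hli
    have := LinearIndependent.fintype_card_le_finrank h1
    rwa [Module.finrank_fin_fun] at this
  have hcard_ge : d ≤ Fintype.card b := by
    have h1 := finrank_ker_Psi_ge A b
    have hker : LinearMap.ker (Psi A b) = ⊥ := by
      rw [LinearMap.ker_eq_bot']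
      intro x hx
      apply vecMul_injective A hA
      change x ᵥ* A = 0 ᵥ* A
      rw [Matrix.zero_vecMul]
      ext l
      exact vecMul_eq_zero_of_span A b Set.univ hspan x
        (fun l' hl' => congrFun hx ⟨l', hl'⟩) l (Set.mem_univ l)
    rw [hker, finrank_bot] at h1
    omega
  have hcard : b.toFinset.card = d := by
    rw [Set.toFinset_card]
    omega
  set J := b.toFinset.orderEmbOfFin hcard with hJdef
  have hJmem : ∀ m, J m ∈ b := fun m => Set.mem_toFinset.mp (Finset.orderEmbOfFin_mem _ _ m)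
  have hdet : (A.submatrix id J).det ≠ 0 := by
    have h1 : LinearIndependent K (fun x : b => Aᵀ x.1) := hli
    have hinj : Function.Injective (fun m => (⟨J m, hJmem m⟩ : b)) := by
      intro m m' h
      have h' : J m = J m' := by
        have h2 : ((⟨J m, hJmem m⟩ : b) : Fin n) = ((⟨J m', hJmem m'⟩ : b) : Fin n) :=
          congrArg (fun z : b => (z : Fin n)) h
        exact h2
      exact J.injective h'
    have hli' : LinearIndependent K (fun m : Fin d => Aᵀ (J m)) :=
      h1.comp (fun m => (⟨J m, hJmem m⟩ : b)) hinj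
    have hu : IsUnit (A.submatrix id J)ᵀ :=
      Matrix.linearIndependent_rows_iff_isUnit.mp hli'
    rw [Matrix.isUnit_iff_isUnit_det, Matrix.det_transpose] at hu
    exact hu.ne_zero
  have hDJ : D ≤ (J i : ℕ) := by
    by_contra hlt'
    push Not at hlt'
    have hsub : (Finset.Iic i).image J ⊆ b.toFinset \ b₀.toFinset := by
      intro l hl
      obtain ⟨m, hm, rfl⟩ := Finset.mem_image.mp hl
      rw [Finset.mem_sdiff]
      refine ⟨Set.mem_toFinset.mpr (hJmem m), fun h0 => ?_⟩
      have h1 : D ≤ (J m : ℕ) := hb₀t (Set.mem_toFinset.mp h0)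
      have h2 : J m ≤ J i := J.monotone (Finset.mem_Iic.mp hm)
      have := Fin.le_def.mp h2
      omega
    have hc1 := Finset.card_le_card hsub
    rw [Finset.card_image_of_injective _ J.injective, Fin.card_Iic] at hc1
    have hc3 : (b.toFinset \ b₀.toFinset).card = d - Fintype.card b₀ := by
      rw [Finset.card_sdiff_of_subset (Set.toFinset_subset_toFinset.mpr hb₀b), hcard,
        Set.toFinset_card]
    have hc4 : Fintype.card b₀ ≤ d := by
      have := Finset.card_le_card (Set.toFinset_subset_toFinset.mpr hb₀b)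
      rwa [hcard, Set.toFinset_card] at this
    omega
  exact hdet (hP J J.strictMono hDJ)

universe u

theorem main (K : Type u) [Field K] (n d : ℕ)
    (hdn : d ≤ n) (V : ℕ → Submodule K (Fin n → K))
    (hV : ∀ (j : ℕ) (v : Fin n → K), v ∈ V j ↔ ∀ l : Fin n, j ≤ (l : ℕ) → v l = 0)
    (lam : Fin d → ℕ) (hlam : Antitone lam) (A : Matrix (Fin d) (Fin n) K)
    (hA : LinearIndependent K (fun i : Fin d => A i)) :
    (∀ i : Fin d, (i : ℕ) + 1 ≤
        Module.finrank K ↥(Submodule.span K (Set.range fun i : Fin d => A i) ⊓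
          V (n - d + ((i : ℕ) + 1) - lam i))) ↔
      ∀ J : Fin d → Fin n, StrictMono J →
        (∃ i : Fin d, n - d + ((i : ℕ) + 1) - lam i < (J i : ℕ) + 1) →
          (A.submatrix id J).det = 0 := by
  constructor
  · rintro h J hJ ⟨i, hi⟩
    exact forward A _ _ (hV _) i (h i) J hJ (by omega)
  · intro h i
    exact backward A hA _ _ (hV _) i (fun J hJ hD => h J hJ ⟨i, by omega⟩)

end Groth.Agent.Lib.Helper24Schubert
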