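import Mathlib
import Groth.Prelude.Def_GrSeg
import Groth.Prelude.Def_GrLC
import Groth.Agent.Lib.Helper24GrDual

/-!
# Segre products: a generator `x # y` forces `R_d x = M_(n+d)` (helper24)
-/

set_option autoImplicit false
universe u
open scoped TensorProduct
open DirectSum

namespace Groth.Agent.Lib.Helper24Segre

open Groth.Agent.Lib.Helper24GrDual

theorem s19749 (k : Type u) [Field k] (R : Type u) [CommRing R] [Algebra k R] (𝒜 : ℤ → Submodule k R) [GradedAlgebra 𝒜] (hposR : ∀ n : ℤ, n < 0 → 𝒜 n = ⊥) (h0R : 𝒜 0 = Submodule.span k {(1 : R)}) [Algebra.FiniteType k R] (S : Type u) [CommRing S] [Algebra k S] (ℬ : ℤ → Submodule k S) [GradedAlgebra ℬ] (hposS : ∀ n : ℤ, n < 0 → ℬ n = ⊥) (h0S : ℬ 0 = Submodule.span k {(1 : S)}) [Algebra.FiniteType k S] (T : Type u) [CommRing T] [Algebra k T] (𝒯 : ℤ → Submodule k T) [GradedAlgebra 𝒯] (ψ : T →ₐ[k] TensorProduct k R S) (hT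 : GrSeg.IsSegreRing 𝒜 ℬ 𝒯 ψ) (hstdR : Ideal.span (⋃ n ∈ Set.Ioi (0 : ℤ), (𝒜 n : Set R)) = Ideal.span ((𝒜 1 : Submodule k R) : Set R)) (hstdS : Ideal.span (⋃ n ∈ Set.Ioi (0 : ℤ), (ℬ n : Set S)) = Ideal.span ((ℬ 1 : Submodule k S) : Set S)) (hr1 : 1 ≤ ringKrullDim R) (hs1 : 1 ≤ ringKrullDim S) (M : Type u) [AddCommGroup M] [Module R M] [Module k M] [IsScalarTower k R M] (ℳ : ℤ → AddSubgroup M) [DirectSum.Decomposition ℳ] [SetLike.GradedSMul 𝒜 ℳ] (N : Type u) [AddCommGroup N] [Module S N] [Module k N] [IsScalarTower k S N] (𝒩 : ℤ → AddSubgroup N) [DirectSum.Decomposition 𝒩] [SetLike.GradedSMul ℬ 𝒩] (P : Type u) [AddCommGroup P] [Module T P] [Module k P] [IsScalarTower k T P] (𝒬 : ℤ → AddSubgroup P) [DirectSum.Decomposition 𝒬] (φ : P →ₗ[k] TensorProduct k M N) (hP : GrSeg.IsSegreMod ψ ℳ 𝒩 𝒬 φ) (n : ℤ) (hNn : ∀ m : ℤ, n ≤ m → 𝒩 m ≠ ⊥) (x : M) (hx : x ∈ ℳ n) (y : N) (hy :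 y ∈ 𝒩 n) (p : P) (hp : φ p = x ⊗ₜ[k] y) (hgen : Submodule.span T {p} = ⊤) (d : ℤ) (hd : 0 ≤ d) (z : M) (hz : z ∈ ℳ (n + d)) : ∃ r ∈ 𝒜 d, r • x = z := by
  classical
  obtain ⟨_, hT2⟩ := hT
  obtain ⟨w, hw, hw0⟩ : ∃ w ∈ 𝒩 (n + d), w ≠ 0 := by
    by_contra hcon
    push Not at hcon
    exact hNn (n + d) (by omega) (by
      rw [eq_bot_iff]
      intro w hw
      rw [AddSubgroup.mem_bot]
      exact hcon w hw)
  obtain ⟨μ, hμ⟩ : ∃ μ : N →ₗ[k] k, μ w = 1 := by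
    obtain ⟨μ0, hμ0⟩ : ∃ μ0 : Module.Dual k N, μ0 w ≠ 0 := by
      by_contra hcon
      push Not at hcon
      exact hw0 ((Module.forall_dual_apply_eq_zero_iff k w).1 hcon)
    exact ⟨(μ0 w)⁻¹ • μ0, by rw [LinearMap.smul_apply, smul_eq_mul, inv_mul_cancel₀ hμ0]⟩
  obtain ⟨Θ, hΘ⟩ : ∃ Θ : TensorProduct k M N →ₗ[k] M, ∀ (m : M) (n' : N),
      Θ (m ⊗ₜ[k] n') = μ n' • m :=
    ⟨(TensorProduct.rid k M).toLinearMap ∘ₗ (LinearMap.lTensor M μ), fun m n' => by simp⟩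
  have hzw : z ⊗ₜ[k] w ∈ (GrSeg.segrePiece k ℳ 𝒩 (n + d) : Set (TensorProduct k M N)) :=
    Submodule.subset_span ⟨z, hz, w, hw, rfl⟩
  rw [← hP.image_piece (n + d)] at hzw
  obtain ⟨p', _, hp'⟩ := hzw
  have hp'span : p' ∈ Submodule.span T {p} := by rw [hgen]; exact Submodule.mem_top
  obtain ⟨t, ht⟩ := Submodule.mem_span_singleton.1 hp'span
  have key : ∀ t : T, ∃ r ∈ 𝒜 d,
      r • x = Helper24GrDual.P ℳ (n + d) (Θ (GrSeg.act k R S M N (ψ t) (x ⊗ₜ[k] y))) := by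
    intro t
    refine DirectSum.Decomposition.inductionOn 𝒯
      (motive := fun t => ∃ r ∈ 𝒜 d,
        r • x = Helper24GrDual.P ℳ (n + d) (Θ (GrSeg.act k R S M N (ψ t) (x ⊗ₜ[k] y)))) ?_ ?_ ?_ t
    · exact ⟨0, zero_mem _, by simp [P_zero]⟩
    · intro e te
      have hψ : ψ (te : T) ∈ GrSeg.segrePiece k 𝒜 ℬ e := by
        rw [← hT2 e]; exact Submodule.mem_map_of_mem te.2
      have hU : ∀ ξ ∈ GrSeg.segrePiece k 𝒜 ℬ e, ∃ r ∈ 𝒜 e,
          r • x = Θ (GrSeg.act k R S M N ξ (x ⊗ₜ[k] y)) := by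
        intro ξ hξ
        refine Submodule.span_induction (p := fun ξ _ => ∃ r ∈ 𝒜 e,
          r • x = Θ (GrSeg.act k R S M N ξ (x ⊗ₜ[k] y))) ?_ ?_ ?_ ?_ hξ
        · rintro _ ⟨a, ha, b, hb, rfl⟩
          refine ⟨μ (b • y) • a, Submodule.smul_mem _ _ ha, ?_⟩
          rw [GrSeg.act_tmul, hΘ, smul_assoc]
        · exact ⟨0, zero_mem _, by simp⟩
        · rintro ξ ξ' _ _ ⟨r, hr, h⟩ ⟨r', hr', h'⟩
          exact ⟨r + r', add_mem hr hr', by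
            rw [add_smul, h, h']; simp only [map_add, LinearMap.add_apply]⟩
        · rintro c ξ _ ⟨r, hr, h⟩
          exact ⟨c • r, Submodule.smul_mem _ _ hr, by
            rw [smul_assoc, h]; simp only [map_smul, LinearMap.smul_apply]⟩
      obtain ⟨r, hr, hrx⟩ := hU _ hψ
      have hrx_mem : r • x ∈ ℳ (e + n) := by
        have h := SetLike.GradedSMul.smul_mem (A := 𝒜) (B := ℳ) hr hx
        rwa [vadd_eq_add] at h
      by_cases he : e = d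
      · subst he
        refine ⟨r, hr, ?_⟩
        rw [← hrx, P_of_mem_same ℳ (by rw [add_comm]; exact hrx_mem)]
      · refine ⟨0, zero_mem _, ?_⟩
        rw [← hrx, P_of_mem_ne ℳ hrx_mem (by omega), zero_smul]
    · rintro t t' ⟨r, hr, h⟩ ⟨r', hr', h'⟩
      exact ⟨r + r', add_mem hr hr', by
        rw [add_smul, h, h']; simp only [map_add, LinearMap.add_apply, P_add]⟩
  obtain ⟨r, hr, hrx⟩ := key t
  refine ⟨r, hr, ?_⟩
  rw [hrx, ← hp, ← hP.map_smul, ht, hp', hΘ, hμ, one_smul, P_of_mem_same ℳ hz]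

end Groth.Agent.Lib.Helper24Segre
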