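import Mathlib
import Groth.Prelude.Def_GrSeg
import Groth.Prelude.Def_GrLC
import Groth.Agent.Lib.Helper24GrDual

/-!
# Segre products of shifts: number of generators (helper24)
-/

set_option autoImplicit false
universe u
open scoped TensorProduct
open DirectSum

namespace Groth.Agent.Lib.Helper24Segre2

open Groth.Agent.Lib.Helper24GrDual

theorem piece_le_mul {k R : Type u} [Field k] [CommRing R] [Algebra k R]
    (𝒜 : ℤ → Submodule k R) [GradedAlgebra 𝒜]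
    (hstd : Ideal.span (⋃ n ∈ Set.Ioi (0 : ℤ), (𝒜 n : Set R)) =
      Ideal.span ((𝒜 1 : Submodule k R) : Set R))
    (m : ℤ) (hm : 0 ≤ m) : 𝒜 (m + 1) ≤ 𝒜 1 * 𝒜 m := by
  intro u hu
  have hu' : u ∈ Ideal.span ((𝒜 1 : Submodule k R) : Set R) := by
    rw [← hstd]
    exact Ideal.subset_span (Set.mem_iUnion₂.2 ⟨m + 1, (show (0 : ℤ) < m + 1 by omega), hu⟩)
  obtain ⟨N, c, g, hsum⟩ := Submodule.mem_span_set'.1 hu'
  have h2 : GradedRing.proj 𝒜 (m + 1) u ∈ 𝒜 1 * 𝒜 m := by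
    rw [← hsum, map_sum]
    refine Submodule.sum_mem _ (fun i _ => ?_)
    rw [smul_eq_mul, GradedRing.proj_apply,
      DirectSum.coe_decompose_mul_add_of_right_mem 𝒜 (g i).2]
    have h3 := Submodule.mul_mem_mul (M := 𝒜 1) (N := 𝒜 m) (g i).2
      (SetLike.coe_mem (DirectSum.decompose 𝒜 (c i) m))
    rw [mul_comm ((g i : R)) _] at h3
    exact h3
  rw [GradedRing.proj_apply, DirectSum.decompose_of_mem_same 𝒜 hu] at h2
  exact h2

/-- The pieces of `R(a) # S(b)`. -/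
abbrev SP {k R S : Type u} [Field k] [CommRing R] [Algebra k R] [CommRing S] [Algebra k S]
    (𝒜 : ℤ → Submodule k R) (ℬ : ℤ → Submodule k S) (a b : ℤ) (n : ℤ) :
    Submodule k (TensorProduct k R S) :=
  GrSeg.segrePiece k (fun n : ℤ => 𝒜 (n + a)) (fun n : ℤ => ℬ (n + b)) n

theorem s19750 (k : Type u) [Field k] (R : Type u) [CommRing R] [Algebra k R] (𝒜 : ℤ → Submodule k R) [GradedAlgebra 𝒜] (hposR : ∀ n : ℤ, n < 0 → 𝒜 n = ⊥) (h0R : 𝒜 0 = Submodule.span k {(1 : R)}) [Algebra.FiniteType k R] (S : Type u) [CommRing S] [Algebra k S] (ℬ : ℤ → Submodule k S) [GradedAlgebra ℬ] (hposS : ∀ n : ℤ, n < 0 → ℬ n = ⊥) (h0S : ℬ 0 = Submodule.span k {(1 : S)}) [Algebra.FiniteType k S] (T : Type u) [CommRing T] [Algebra k T] (𝒯 : ℤ → Submodule k T) [GradedAlgebra 𝒯] (ψ : T →ₐ[k] TensorProduct k R S) (hT : GrSeg.IsSegreRing 𝒜 ℬ 𝒯 ψ) (hstdR : Ideal.span (⋃ n ∈ Set.Ioi (0 : ℤ), (𝒜 n : Set R)) = Ideal.span ((𝒜 1 : Submodule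 k R) : Set R)) (hstdS : Ideal.span (⋃ n ∈ Set.Ioi (0 : ℤ), (ℬ n : Set S)) = Ideal.span ((ℬ 1 : Submodule k S) : Set S)) (hr1 : 1 ≤ ringKrullDim R) (hs1 : 1 ≤ ringKrullDim S) (mT : HomogeneousIdeal 𝒯) (hmT : mT.toIdeal = Ideal.span (⋃ n ∈ Set.Ioi (0 : ℤ), (𝒯 n : Set T))) (a b : ℤ) (hab : b ≤ a) (P : Type u) [AddCommGroup P] [Module T P] [Module k P] [IsScalarTower k T P] (𝒬 : ℤ → AddSubgroup P) [DirectSum.Decomposition 𝒬] (φ : P →ₗ[k] TensorProduct k R S) (hP : GrSeg.IsSegreMod ψ (fun n : ℤ => 𝒜 (n + a)) (fun n : ℤ => ℬ (n + b)) 𝒬 φ) : Module.finrank k (P ⧸ (mT.toIdeal • (⊤ : Submodule T P))) = Module.finrank k (𝒜 (a - b)) := by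
  classical
  obtain ⟨hψinj, hT2⟩ := hT
  haveI : Nontrivial S := by
    by_contra hS
    rw [not_nontrivial_iff_subsingleton] at hS
    haveI := hS
    have h1 : (1 : WithBot ℕ∞) ≤ ⊥ := by
      rwa [ringKrullDim_eq_bot_of_subsingleton] at hs1
    exact absurd (le_bot_iff.1 h1) (by simp)
  obtain ⟨μ, hμ⟩ : ∃ μ : S →ₗ[k] k, μ 1 = 1 := by
    obtain ⟨μ0, hμ0⟩ : ∃ μ0 : Module.Dual k S, μ0 1 ≠ 0 := by
      by_contra hcon
      push Not at hcon
      exact one_ne_zero ((Module.forall_dual_apply_eq_zero_iff k (1 : S)).1 hcon)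
    exact ⟨(μ0 1)⁻¹ • μ0, by rw [LinearMap.smul_apply, smul_eq_mul, inv_mul_cancel₀ hμ0]⟩
  obtain ⟨ε, hε⟩ : ∃ ε : S →ₗ[k] k, ∀ s, ε s = μ (GradedAlgebra.proj ℬ 0 s) :=
    ⟨μ ∘ₗ GradedAlgebra.proj ℬ 0, fun s => rfl⟩
  have hproj_same : ∀ y ∈ ℬ 0, GradedAlgebra.proj ℬ 0 y = y := fun y hy => by
    rw [GradedAlgebra.proj_apply]; exact DirectSum.decompose_of_mem_same ℬ hy
  have hproj_ne : ∀ (j : ℤ) (y : S), y ∈ ℬ j → j ≠ 0 → GradedAlgebra.proj ℬ 0 y = 0 :=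
    fun j y hy hj => by
      rw [GradedAlgebra.proj_apply]; exact DirectSum.decompose_of_mem_ne ℬ hy hj
  have one0 : (1 : S) ∈ ℬ 0 := SetLike.one_mem_graded ℬ
  have E1 : ε 1 = 1 := by rw [hε, hproj_same 1 one0, hμ]
  have E2 : ∀ (j : ℤ) (y : S), y ∈ ℬ j → j ≠ 0 → ε y = 0 := fun j y hy hj => by
    rw [hε, hproj_ne j y hy hj, map_zero]
  have E3 : ∀ (e : ℤ) (b' : S), b' ∈ ℬ e → 0 < e → ∀ s : S, ε (b' * s) = 0 := by
    intro e b' hb' he s
    refine DirectSum.Decomposition.inductionOn ℬ (motive := fun s => ε (b' * s) = 0) ?_ ?_ ?_ s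
    · rw [mul_zero, map_zero]
    · intro j sj
      by_cases hj : e + j = 0
      · have hj' : j < 0 := by omega
        have hb : ∀ y : S, y ∈ ℬ j → y = 0 := fun y hy => by
          rw [hposS j hj'] at hy; exact (Submodule.mem_bot k).1 hy
        rw [hb _ sj.2, mul_zero, map_zero]
      · exact E2 (e + j) _ (SetLike.mul_mem_graded hb' sj.2) hj
    · intro s s' h h'
      rw [mul_add, map_add, h, h', add_zero]
  obtain ⟨Θ, hΘ⟩ : ∃ Θ : TensorProduct k R S →ₗ[k] R, ∀ (r : R) (s : S),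
      Θ (r ⊗ₜ[k] s) = ε s • r :=
    ⟨(TensorProduct.rid k R).toLinearMap ∘ₗ (LinearMap.lTensor R ε), fun r s => by simp⟩
  obtain ⟨Λ, hΛ⟩ : ∃ Λ : P →ₗ[k] R, ∀ p, Λ p = Θ (φ p) := ⟨Θ ∘ₗ φ, fun p => rfl⟩
  have hK : ∀ (e : ℤ), 0 < e → ∀ ξ ∈ GrSeg.segrePiece k 𝒜 ℬ e, ∀ ζ : TensorProduct k R S,
      Θ (GrSeg.act k R S R S ξ ζ) = 0 := by
    intro e he ξ hξ
    refine Submodule.span_induction (p := fun ξ _ => ∀ ζ : TensorProduct k R S,
      Θ (GrSeg.act k R S R S ξ ζ) = 0) ?_ ?_ ?_ ?_ hξ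
    · rintro _ ⟨a', ha', b', hb', rfl⟩ ζ
      induction ζ using TensorProduct.induction_on with
      | zero => rw [map_zero, map_zero]
      | tmul r s =>
        simp only [GrSeg.act_tmul, hΘ, smul_eq_mul, E3 e b' hb' he s, zero_smul]
      | add ζ ζ' h h' => rw [map_add, map_add, h, h', add_zero]
    · intro ζ; rw [map_zero, LinearMap.zero_apply, map_zero]
    · intro ξ ξ' _ _ h h' ζ
      rw [map_add, LinearMap.add_apply, map_add, h, h', add_zero]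
    · intro c ξ _ h ζ
      rw [map_smul, LinearMap.smul_apply, map_smul, h, smul_zero]
  have hmem_mT : ∀ (e : ℤ), 0 < e → ∀ t ∈ 𝒯 e, t ∈ mT.toIdeal := fun e he t ht => by
    rw [hmT]; exact Ideal.subset_span (Set.mem_iUnion₂.2 ⟨e, he, ht⟩)
  have hΛ_smul : ∀ t ∈ mT.toIdeal, ∀ p' : P, Λ (t • p') = 0 := by
    intro t ht
    rw [hmT] at ht
    refine Submodule.span_induction (p := fun t _ => ∀ p' : P, Λ (t • p') = 0) ?_ ?_ ?_ ?_ ht
    · intro t ht p'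
      obtain ⟨e, he, hte⟩ := Set.mem_iUnion₂.1 ht
      have hψ : ψ t ∈ GrSeg.segrePiece k 𝒜 ℬ e := by
        rw [← hT2 e]; exact Submodule.mem_map_of_mem hte
      rw [hΛ, hP.map_smul]
      exact hK e he _ hψ _
    · intro p'; rw [zero_smul, map_zero]
    · intro t t' _ _ h h' p'; rw [add_smul, map_add, h, h', add_zero]
    · intro c t _ h p'
      rw [smul_eq_mul, mul_comm, mul_smul]
      exact h _
  have hN_ker : ∀ q ∈ mT.toIdeal • (⊤ : Submodule T P), Λ q = 0 := by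
    intro q hq
    refine Submodule.smul_induction_on hq (fun t ht p' _ => hΛ_smul t ht p')
      (fun q q' h h' => by rw [map_add, h, h', add_zero])
  have hφpiece : ∀ (n : ℤ) (p : P), p ∈ 𝒬 n → φ p ∈ SP 𝒜 ℬ a b n := by
    intro n p hp
    have h : φ p ∈ φ '' (𝒬 n : Set P) := ⟨p, hp, rfl⟩
    rw [hP.image_piece n] at h
    exact h
  have hpiece_ex : ∀ (n : ℤ) (ζ : TensorProduct k R S), ζ ∈ SP 𝒜 ℬ a b n →
      ∃ p ∈ 𝒬 n, φ p = ζ := by
    intro n ζ hζ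
    have h : ζ ∈ (GrSeg.segrePiece k (fun n : ℤ => 𝒜 (n + a)) (fun n : ℤ => ℬ (n + b)) n :
        Set (TensorProduct k R S)) := hζ
    rw [← hP.image_piece n] at h
    exact h
  have hZ : ∀ (n : ℤ), n < -b → ∀ p ∈ 𝒬 n, p = 0 := by
    intro n hn p hp
    apply hP.injective
    rw [map_zero]
    have h := hφpiece n p hp
    have hle : SP 𝒜 ℬ a b n ≤ ⊥ := by
      apply Submodule.span_le.2
      rintro _ ⟨x', _, y', hy', rfl⟩
      have hy0 : y' = 0 := by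
        have hy'' : y' ∈ ℬ (n + b) := hy'
        rw [hposS (n + b) (by omega)] at hy''
        exact (Submodule.mem_bot k).1 hy''
      rw [hy0, TensorProduct.tmul_zero]
      exact Submodule.zero_mem _
    exact (Submodule.mem_bot k).1 (hle h)
  have hG : ∀ (n : ℤ), -b < n → ∀ p ∈ 𝒬 n, p ∈ mT.toIdeal • (⊤ : Submodule T P) := by
    intro n hn p hp
    have hx_le : 𝒜 (n + a) ≤ 𝒜 1 * 𝒜 (n - 1 + a) := by
      have h := piece_le_mul 𝒜 hstdR (n - 1 + a) (by omega)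
      rwa [show n - 1 + a + 1 = n + a by ring] at h
    have hy_le : ℬ (n + b) ≤ ℬ 1 * ℬ (n - 1 + b) := by
      have h := piece_le_mul ℬ hstdS (n - 1 + b) (by omega)
      rwa [show n - 1 + b + 1 = n + b by ring] at h
    have hall : ∀ ζ ∈ SP 𝒜 ℬ a b n, ∃ q ∈ mT.toIdeal • (⊤ : Submodule T P), φ q = ζ := by
      intro ζ hζ
      refine Submodule.span_induction (p := fun ζ _ =>
        ∃ q ∈ mT.toIdeal • (⊤ : Submodule T P), φ q = ζ) ?_ ?_ ?_ ?_ hζ
      · rintro _ ⟨x', hx', y', hy', rfl⟩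
        have hx'' : x' ∈ 𝒜 1 * 𝒜 (n - 1 + a) := hx_le hx'
        have hy'' : y' ∈ ℬ 1 * ℬ (n - 1 + b) := hy_le hy'
        refine Submodule.mul_induction_on hx'' ?_ ?_
        · intro a1 ha1 x1 hx1
          refine Submodule.mul_induction_on hy'' ?_ ?_
          · intro b1 hb1 y1 hy1
            have h1 : a1 ⊗ₜ[k] b1 ∈ GrSeg.segrePiece k 𝒜 ℬ 1 :=
              Submodule.subset_span ⟨a1, ha1, b1, hb1, rfl⟩
            rw [← hT2 1] at h1
            obtain ⟨t, ht, hψt⟩ := Submodule.mem_map.1 h1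
            obtain ⟨p1, _, hp1⟩ := hpiece_ex (n - 1) (x1 ⊗ₜ[k] y1)
              (Submodule.subset_span ⟨x1, hx1, y1, hy1, rfl⟩)
            refine ⟨t • p1, Submodule.smul_mem_smul (hmem_mT 1 one_pos t ht)
              Submodule.mem_top, ?_⟩
            have hψt' : ψ t = a1 ⊗ₜ[k] b1 := hψt
            rw [hP.map_smul, hp1, hψt', GrSeg.act_tmul, smul_eq_mul, smul_eq_mul]
          · rintro y1 y2 ⟨q1, hq1, h1⟩ ⟨q2, hq2, h2⟩
            exact ⟨q1 + q2, add_mem hq1 hq2, by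
              rw [map_add, h1, h2, TensorProduct.tmul_add]⟩
        · rintro x1 x2 ⟨q1, hq1, h1⟩ ⟨q2, hq2, h2⟩
          exact ⟨q1 + q2, add_mem hq1 hq2, by
            rw [map_add, h1, h2, TensorProduct.add_tmul]⟩
      · exact ⟨0, zero_mem _, map_zero _⟩
      · rintro ζ ζ' _ _ ⟨q1, hq1, h1⟩ ⟨q2, hq2, h2⟩
        exact ⟨q1 + q2, add_mem hq1 hq2, by rw [map_add, h1, h2]⟩
      · rintro c ζ _ ⟨q, hq, h⟩
        refine ⟨c • q, ?_, by rw [map_smul, h]⟩
        rw [← algebraMap_smul T c q]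
        exact Submodule.smul_mem _ _ hq
    obtain ⟨q, hq, hφq⟩ := hall _ (hφpiece n p hp)
    have hpq : p = q := hP.injective hφq.symm
    rw [hpq]; exact hq
  have hI : ∀ ζ ∈ SP 𝒜 ℬ a b (-b), ζ = Θ ζ ⊗ₜ[k] (1 : S) := by
    intro ζ hζ
    refine Submodule.span_induction (p := fun ζ _ => ζ = Θ ζ ⊗ₜ[k] (1 : S)) ?_ ?_ ?_ ?_ hζ
    · rintro _ ⟨x', _, y', hy', rfl⟩
      have hy'' : y' ∈ ℬ 0 := by
        have h : y' ∈ ℬ (-b + b) := hy'
        rwa [neg_add_cancel] at h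
      rw [h0S] at hy''
      obtain ⟨c, rfl⟩ := Submodule.mem_span_singleton.1 hy''
      rw [hΘ, map_smul, E1, smul_eq_mul, mul_one, TensorProduct.smul_tmul]
    · rw [map_zero, TensorProduct.zero_tmul]
    · intro ζ ζ' _ _ h h'
      rw [map_add, TensorProduct.add_tmul, ← h, ← h']
    · intro c ζ _ h
      rw [map_smul, ← TensorProduct.smul_tmul', ← h]
  have hR1 : ∀ (n : ℤ), ∀ ζ ∈ SP 𝒜 ℬ a b n, Θ ζ ∈ 𝒜 (a - b) := by
    intro n ζ hζ
    refine Submodule.span_induction (p := fun ζ _ => Θ ζ ∈ 𝒜 (a - b)) ?_ ?_ ?_ ?_ hζ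
    · rintro _ ⟨x', hx', y', hy', rfl⟩
      rw [hΘ]
      by_cases hnb : n + b = 0
      · have hx'' : x' ∈ 𝒜 (a - b) := by
          have h : x' ∈ 𝒜 (n + a) := hx'
          rwa [show n + a = a - b by omega] at h
        exact Submodule.smul_mem _ _ hx''
      · rw [E2 (n + b) y' hy' hnb, zero_smul]; exact zero_mem _
    · rw [map_zero]; exact zero_mem _
    · intro ζ ζ' _ _ h h'; rw [map_add]; exact add_mem h h'
    · intro c ζ _ h; rw [map_smul]; exact Submodule.smul_mem _ _ h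
  have hΛmem : ∀ p, Λ p ∈ 𝒜 (a - b) := by
    intro p
    refine DirectSum.Decomposition.inductionOn 𝒬 (motive := fun p => Λ p ∈ 𝒜 (a - b)) ?_ ?_ ?_ p
    · rw [map_zero]; exact zero_mem _
    · intro n pn
      rw [hΛ]; exact hR1 n _ (hφpiece n pn pn.2)
    · intro p p' h h'; rw [map_add]; exact add_mem h h'
  have hsub : ∀ p : P, p - Helper24GrDual.P 𝒬 (-b) p ∈ mT.toIdeal • (⊤ : Submodule T P) := by
    intro p
    refine DirectSum.Decomposition.inductionOn 𝒬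
      (motive := fun p => p - Helper24GrDual.P 𝒬 (-b) p ∈ mT.toIdeal • (⊤ : Submodule T P))
      ?_ ?_ ?_ p
    · rw [P_zero, sub_zero]; exact zero_mem _
    · intro n pn
      rcases lt_trichotomy n (-b) with hn | hn | hn
      · rw [hZ n hn _ pn.2, P_zero, sub_zero]; exact zero_mem _
      · subst hn
        rw [P_of_mem_same 𝒬 pn.2, sub_self]; exact zero_mem _
      · rw [P_of_mem_ne 𝒬 pn.2 (by omega), sub_zero]; exact hG n hn _ pn.2
    · intro p p' h h'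
      rw [P_add, add_sub_add_comm]; exact add_mem h h'
  have hker : ∀ p, Λ p = 0 → p ∈ mT.toIdeal • (⊤ : Submodule T P) := by
    intro p hp0
    have h1 := hsub p
    have h2 : Λ (Helper24GrDual.P 𝒬 (-b) p) = 0 := by
      have h := hN_ker _ h1
      rw [map_sub, hp0, zero_sub, neg_eq_zero] at h
      exact h
    have h3 : Helper24GrDual.P 𝒬 (-b) p = 0 := by
      apply hP.injective
      rw [map_zero, hI _ (hφpiece (-b) _ (P_mem 𝒬 (-b) p)), ← hΛ, h2, TensorProduct.zero_tmul]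
    rw [h3, sub_zero] at h1
    exact h1
  let Λ' : P →ₗ[k] 𝒜 (a - b) := Λ.codRestrict (𝒜 (a - b)) hΛmem
  have hsurj : Function.Surjective Λ' := by
    rintro ⟨x', hx'⟩
    have hx'' : x' ⊗ₜ[k] (1 : S) ∈ SP 𝒜 ℬ a b (-b) :=
      Submodule.subset_span ⟨x', (by
        show x' ∈ 𝒜 (-b + a)
        rwa [show -b + a = a - b by ring]), 1, (by
        show (1 : S) ∈ ℬ (-b + b)
        rw [neg_add_cancel]; exact one0), rfl⟩
    obtain ⟨p, _, hp⟩ := hpiece_ex (-b) _ hx''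
    refine ⟨p, Subtype.ext ?_⟩
    show Λ p = x'
    rw [hΛ, hp, hΘ, E1, one_smul]
  have hkereq : (mT.toIdeal • (⊤ : Submodule T P)).restrictScalars k = LinearMap.ker Λ' := by
    ext p
    rw [Submodule.restrictScalars_mem, LinearMap.mem_ker]
    constructor
    · intro hp; exact Subtype.ext (hN_ker p hp)
    · intro hp; exact hker p (congrArg Subtype.val hp)
  have e1 : (P ⧸ (mT.toIdeal • (⊤ : Submodule T P))) ≃ₗ[k]
      (P ⧸ (mT.toIdeal • (⊤ : Submodule T P)).restrictScalars k) :=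
    (Submodule.Quotient.restrictScalarsEquiv k _).symm
  have e2 := Submodule.quotEquivOfEq _ _ hkereq
  have e3 := Λ'.quotKerEquivOfSurjective hsurj
  exact ((e1.trans e2).trans e3).finrank_eq

end Groth.Agent.Lib.Helper24Segre2
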