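import Mathlib
import Groth.Prelude.Def_GrSeg

/-!
# Diagonal (Reynolds) projection on a tensor product of graded modules (helper24)
-/

set_option autoImplicit false
universe u
open scoped TensorProduct
open DirectSum

namespace Groth.Agent.Lib.Helper24SegreFin

section Gen

variable {k : Type u} [Field k] {M : Type u} [AddCommGroup M] [Module k M]
  {σ : Type u} [SetLike σ M] [AddSubgroupClass σ M] (ℳ : ℤ → σ) [DirectSum.Decomposition ℳ]
  (hℳ : ∀ (i : ℤ) (c : k) (x : M), x ∈ ℳ i → c • x ∈ ℳ i)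

/-- the pieces as `k`-subspaces -/
def subm (i : ℤ) : Submodule k M where
  carrier := {x | x ∈ ℳ i}
  add_mem' := fun ha hb => add_mem ha hb
  zero_mem' := zero_mem _
  smul_mem' := fun c x hx => hℳ i c x hx

theorem mem_subm {i : ℤ} {x : M} : x ∈ subm ℳ hℳ i ↔ x ∈ ℳ i := Iff.rfl

/-- inclusion of pieces -/
def toSubm (i : ℤ) : ℳ i →+ subm ℳ hℳ i where
  toFun y := ⟨y.1, y.2⟩
  map_zero' := rfl
  map_add' _ _ := rfl

/-- decomposition as a `k`-linear map -/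
noncomputable def dec : M →ₗ[k] ⨁ i, subm ℳ hℳ i where
  toFun x := DirectSum.map (toSubm ℳ hℳ) (DirectSum.decompose ℳ x)
  map_add' x y := by rw [DirectSum.decompose_add, map_add]
  map_smul' c x := by
    simp only [RingHom.id_apply]
    induction x using DirectSum.Decomposition.inductionOn ℳ with
    | zero => simp
    | homogeneous x =>
      rename_i i
      have hx : c • (x : M) ∈ ℳ i := hℳ i c x x.2
      rw [DirectSum.decompose_of_mem ℳ hx, DirectSum.decompose_coe, DirectSum.map_of,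
        DirectSum.map_of, ← DirectSum.of_smul]
      rfl
    | add x y hx hy =>
      rw [smul_add, DirectSum.decompose_add, map_add, hx, hy, DirectSum.decompose_add, map_add,
        smul_add]

theorem dec_of_mem {i : ℤ} {x : M} (hx : x ∈ ℳ i) :
    dec ℳ hℳ x = DirectSum.lof k ℤ (fun i => subm ℳ hℳ i) i ⟨x, hx⟩ := by
  show DirectSum.map (toSubm ℳ hℳ) (DirectSum.decompose ℳ x) = _
  rw [DirectSum.decompose_of_mem ℳ hx, DirectSum.map_of, DirectSum.lof_eq_of]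
  rfl

/-- projection onto the `i`-th piece -/
noncomputable def pr (i : ℤ) : M →ₗ[k] M :=
  (subm ℳ hℳ i).subtype ∘ₗ DirectSum.component k ℤ (fun i => subm ℳ hℳ i) i ∘ₗ dec ℳ hℳ

theorem pr_apply (i : ℤ) (x : M) : pr ℳ hℳ i x = (DirectSum.decompose ℳ x i : M) := by
  show (((DirectSum.map (toSubm ℳ hℳ) (DirectSum.decompose ℳ x)) i : subm ℳ hℳ i) : M) = _
  rw [DirectSum.map_apply]
  rfl

theorem pr_mem (i : ℤ) (x : M) : pr ℳ hℳ i x ∈ ℳ i := by
  rw [pr_apply]; exact SetLike.coe_mem _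

theorem pr_of_mem_same {i : ℤ} {x : M} (hx : x ∈ ℳ i) : pr ℳ hℳ i x = x := by
  rw [pr_apply, DirectSum.decompose_of_mem_same ℳ hx]

theorem pr_of_mem_ne {i j : ℤ} {x : M} (hx : x ∈ ℳ i) (hij : i ≠ j) : pr ℳ hℳ j x = 0 := by
  rw [pr_apply, DirectSum.decompose_of_mem_ne ℳ hx hij]

end Gen

section Rho

variable {k : Type u} [Field k] {M : Type u} [AddCommGroup M] [Module k M]
  {σ : Type u} [SetLike σ M] [AddSubgroupClass σ M] (ℳ : ℤ → σ) [DirectSum.Decomposition ℳ]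
  (hℳ : ∀ (i : ℤ) (c : k) (x : M), x ∈ ℳ i → c • x ∈ ℳ i)
  {N : Type u} [AddCommGroup N] [Module k N]
  {τ : Type u} [SetLike τ N] [AddSubgroupClass τ N] (𝒩 : ℤ → τ) [DirectSum.Decomposition 𝒩]
  (h𝒩 : ∀ (i : ℤ) (c : k) (x : N), x ∈ 𝒩 i → c • x ∈ 𝒩 i)

/-- The diagonal projection `m ⊗ n ↦ ∑ m_i ⊗ n_i`. -/
noncomputable def rho : M ⊗[k] N →ₗ[k] M ⊗[k] N :=
  TensorProduct.lift
    ((DirectSum.toModule k ℤ (N →ₗ[k] M ⊗[k] N)
      (fun i => ((TensorProduct.mk k M N).compl₂ (pr 𝒩 h𝒩 i)) ∘ₗ (subm ℳ hℳ i).subtype)) ∘ₗ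
      dec ℳ hℳ)

theorem rho_tmul_of_mem {i : ℤ} {m : M} (hm : m ∈ ℳ i) (n : N) :
    rho ℳ hℳ 𝒩 h𝒩 (m ⊗ₜ[k] n) = m ⊗ₜ[k] pr 𝒩 h𝒩 i n := by
  unfold rho
  rw [TensorProduct.lift.tmul, LinearMap.comp_apply, dec_of_mem ℳ hℳ hm, DirectSum.toModule_lof]
  rfl

theorem rho_of_mem_segrePiece {n : ℤ} {q : M ⊗[k] N} (hq : q ∈ GrSeg.segrePiece k ℳ 𝒩 n) :
    rho ℳ hℳ 𝒩 h𝒩 q = q := by
  unfold GrSeg.segrePiece at hq
  induction hq using Submodule.span_induction with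
  | mem x hx =>
    obtain ⟨a, ha, b, hb, rfl⟩ := hx
    rw [rho_tmul_of_mem ℳ hℳ 𝒩 h𝒩 ha, pr_of_mem_same 𝒩 h𝒩 hb]
  | zero => simp
  | add x y _ _ hx hy => rw [map_add, hx, hy]
  | smul c x _ hx => rw [map_smul, hx]

theorem rho_mem (W : Submodule k (M ⊗[k] N)) (hW : ∀ n, GrSeg.segrePiece k ℳ 𝒩 n ≤ W)
    (q : M ⊗[k] N) : rho ℳ hℳ 𝒩 h𝒩 q ∈ W := by
  induction q using TensorProduct.induction_on with
  | zero => simp
  | add x y hx hy => rw [map_add]; exact add_mem hx hy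
  | tmul m n =>
    induction m using DirectSum.Decomposition.inductionOn ℳ with
    | zero => simp
    | add m m' hm hm' => rw [TensorProduct.add_tmul, map_add]; exact add_mem hm hm'
    | homogeneous m =>
      rename_i i
      rw [rho_tmul_of_mem ℳ hℳ 𝒩 h𝒩 m.2]
      apply hW i
      apply Submodule.subset_span
      exact ⟨m, m.2, _, pr_mem 𝒩 h𝒩 i n, rfl⟩

end Rho

end Groth.Agent.Lib.Helper24SegreFin
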