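import Mathlib
import Groth.Prelude.Def_GrSeg
import Groth.Agent.Lib.Helper24SegreFin

/-!
# Segre product of finite graded modules is finite (helper24)
-/

set_option autoImplicit false
universe u
open scoped TensorProduct
open DirectSum

namespace Groth.Agent.Lib.Helper24SegreFin2

open Groth.Agent.Lib.Helper24SegreFin

section A

variable {k : Type u} [Field k] {R : Type u} [CommRing R] [Algebra k R] (𝒜 : ℤ → Submodule k R)
  [GradedAlgebra 𝒜]
  {M : Type u} [AddCommGroup M] [Module R M] [Module k M] [IsScalarTower k R M]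
  (ℳ : ℤ → AddSubgroup M) [DirectSum.Decomposition ℳ] [SetLike.GradedSMul 𝒜 ℳ]

include 𝒜 in
theorem kstable (i : ℤ) (c : k) (x : M) (hx : x ∈ ℳ i) : c • x ∈ ℳ i := by
  have h1 : algebraMap k R c ∈ 𝒜 0 := SetLike.algebraMap_mem_graded 𝒜 c
  have h2 := SetLike.GradedSMul.smul_mem (A := 𝒜) (B := ℳ) h1 hx
  rw [algebraMap_smul] at h2
  simpa using h2

theorem kstableA (i : ℤ) (c : k) (x : R) (hx : x ∈ 𝒜 i) : c • x ∈ 𝒜 i := (𝒜 i).smul_mem c hx

theorem pr_smul (hℳ : ∀ (i : ℤ) (c : k) (x : M), x ∈ ℳ i → c • x ∈ ℳ i)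
    (i n : ℤ) (r : R) {x : M} (hx : x ∈ ℳ n) :
    pr ℳ hℳ (i + n) (r • x) = (pr (k := k) 𝒜 (kstableA 𝒜) i r) • x := by
  induction r using DirectSum.Decomposition.inductionOn 𝒜 with
  | zero => simp
  | homogeneous r =>
    rename_i j
    have h2 : (r : R) • x ∈ ℳ (j + n) := by
      have := SetLike.GradedSMul.smul_mem (A := 𝒜) (B := ℳ) r.2 hx
      simpa using this
    by_cases hij : j = i
    · subst hij
      rw [pr_of_mem_same ℳ hℳ h2, pr_of_mem_same 𝒜 (kstableA 𝒜) r.2]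
    · rw [pr_of_mem_ne ℳ hℳ h2 (by omega), pr_of_mem_ne 𝒜 (kstableA 𝒜) r.2 hij, zero_smul]
  | add r r' hr hr' => rw [add_smul, map_add, hr, hr', map_add, add_smul]

end A

section B

variable {k : Type u} [Field k] {R : Type u} [CommRing R] [Algebra k R] (𝒜 : ℤ → Submodule k R)
  [GradedAlgebra 𝒜] {S : Type u} [CommRing S] [Algebra k S] (ℬ : ℤ → Submodule k S)
  [GradedAlgebra ℬ]
  {M : Type u} [AddCommGroup M] [Module R M] [Module k M] [IsScalarTower k R M]
  (ℳ : ℤ → AddSubgroup M) [DirectSum.Decomposition ℳ] [SetLike.GradedSMul 𝒜 ℳ]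
  {N : Type u} [AddCommGroup N] [Module S N] [Module k N] [IsScalarTower k S N]
  (𝒩 : ℤ → AddSubgroup N) [DirectSum.Decomposition 𝒩] [SetLike.GradedSMul ℬ 𝒩]

theorem rho_act (hℳ : ∀ (i : ℤ) (c : k) (x : M), x ∈ ℳ i → c • x ∈ ℳ i)
    (h𝒩 : ∀ (i : ℤ) (c : k) (x : N), x ∈ 𝒩 i → c • x ∈ 𝒩 i)
    {n : ℤ} {q : M ⊗[k] N} (hq : q ∈ GrSeg.segrePiece k ℳ 𝒩 n) (b : R ⊗[k] S) :
    rho ℳ hℳ 𝒩 h𝒩 (GrSeg.act k R S M N b q) =
      GrSeg.act k R S M N (rho (k := k) 𝒜 (kstableA 𝒜) ℬ (kstableA ℬ) b) q := by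
  unfold GrSeg.segrePiece at hq
  induction hq using Submodule.span_induction with
  | mem q hq =>
    obtain ⟨a, ha, c, hc, rfl⟩ := hq
    induction b using TensorProduct.induction_on with
    | zero => simp
    | add x y hx hy => rw [map_add, LinearMap.add_apply, map_add, hx, hy, map_add, map_add,
        LinearMap.add_apply]
    | tmul r s =>
      induction r using DirectSum.Decomposition.inductionOn 𝒜 with
      | zero => simp
      | add r r' hr hr' =>
        rw [TensorProduct.add_tmul, map_add, LinearMap.add_apply, map_add, hr, hr', map_add,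
          map_add, LinearMap.add_apply]
      | homogeneous r =>
        rename_i i
        have h2 : (r : R) • a ∈ ℳ (i + n) := by
          have := SetLike.GradedSMul.smul_mem (A := 𝒜) (B := ℳ) r.2 ha
          simpa using this
        rw [GrSeg.act_tmul, rho_tmul_of_mem ℳ hℳ 𝒩 h𝒩 h2,
          rho_tmul_of_mem 𝒜 (kstableA 𝒜) ℬ (kstableA ℬ) r.2, GrSeg.act_tmul,
          pr_smul ℬ 𝒩 h𝒩 i n s hc]
  | zero => simp
  | add x y _ _ hx hy => rw [map_add, map_add, hx, hy, map_add]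
  | smul c x _ hx => rw [map_smul, map_smul, hx, map_smul]

end B

end Groth.Agent.Lib.Helper24SegreFin2
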