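import Mathlib
import Groth.Prelude.Def_GrSeg
import Groth.Agent.Lib.Helper24SegreFin
import Groth.Agent.Lib.Helper24SegreFin2

/-!
# S19747: Segre product of finite graded modules is a finite module (helper24)
-/

set_option autoImplicit false
universe u
open scoped TensorProduct
open DirectSum

namespace Groth.Agent.Lib.Helper24SegreFin3

open Groth.Agent.Lib.Helper24SegreFin Groth.Agent.Lib.Helper24SegreFin2

theorem s19747 (k : Type u) [Field k] (R : Type u) [CommRing R] [Algebra k R] (𝒜 : ℤ → Submodule k R) [GradedAlgebra 𝒜] (hposR : ∀ n : ℤ, n < 0 → 𝒜 n = ⊥) (h0R : 𝒜 0 = Submodule.span k {(1 : R)}) [Algebra.FiniteType k R] (S : Type u) [CommRing S] [Algebra k S] (ℬ : ℤ → Submodule k S) [GradedAlgebra ℬ] (hposS : ∀ n : ℤ, n < 0 → ℬ n = ⊥) (h0S : ℬ 0 = Submodule.span k {(1 : S)}) [Algebra.FiniteType k S] (T : Type u) [CommRing T] [Algebra k T] (𝒯 : ℤ → Submodule k T) [GradedAlgebra 𝒯] (ψ : T →ₐ[k] TensorProduct k R S) (hT : GrSeg.IsSegreRing 𝒜 ℬ 𝒯 ψ) (M : Type u)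 [AddCommGroup M] [Module R M] [Module k M] [IsScalarTower k R M] (ℳ : ℤ → AddSubgroup M) [DirectSum.Decomposition ℳ] [SetLike.GradedSMul 𝒜 ℳ] [Module.Finite R M] (N : Type u) [AddCommGroup N] [Module S N] [Module k N] [IsScalarTower k S N] (𝒩 : ℤ → AddSubgroup N) [DirectSum.Decomposition 𝒩] [SetLike.GradedSMul ℬ 𝒩] [Module.Finite S N] (P : Type u) [AddCommGroup P] [Module T P] [Module k P] [IsScalarTower k T P] (𝒬 : ℤ → AddSubgroup P) [DirectSum.Decomposition 𝒬] (φ : P →ₗ[k] TensorProduct k M N) (hP : GrSeg.IsSegreMod ψ ℳ 𝒩 𝒬 φ) : Module.Finite T P := by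
  classical
  obtain ⟨hψinj, hψpiece⟩ := hT
  have hℳ : ∀ (i : ℤ) (c : k) (x : M), x ∈ ℳ i → c • x ∈ ℳ i := kstable 𝒜 ℳ
  have h𝒩 : ∀ (i : ℤ) (c : k) (x : N), x ∈ 𝒩 i → c • x ∈ 𝒩 i := kstable ℬ 𝒩
  -- (d) the ring Reynolds operator lands in the range of ψ
  have hd : ∀ b : R ⊗[k] S, ∃ t : T, rho (k := k) 𝒜 (kstableA 𝒜) ℬ (kstableA ℬ) b = ψ t := by
    intro b
    have := rho_mem (k := k) 𝒜 (kstableA 𝒜) ℬ (kstableA ℬ) (LinearMap.range ψ.toLinearMap)
      (fun n => by rw [← hψpiece n]; exact LinearMap.map_le_range) b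
    obtain ⟨t, ht⟩ := this
    exact ⟨t, ht.symm⟩
  -- (b) the module Reynolds operator fixes the image of φ
  have hmemP : ∀ (n : ℤ) (p : P), p ∈ 𝒬 n → φ p ∈ GrSeg.segrePiece k ℳ 𝒩 n := by
    intro n p hp
    rw [← SetLike.mem_coe, ← hP.image_piece n]
    exact ⟨p, hp, rfl⟩
  have hb : ∀ p : P, rho ℳ hℳ 𝒩 h𝒩 (φ p) = φ p := by
    intro p
    induction p using DirectSum.Decomposition.inductionOn 𝒬 with
    | zero => simp
    | homogeneous p =>
      rename_i n
      exact rho_of_mem_segrePiece ℳ hℳ 𝒩 h𝒩 (hmemP n p p.2)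
    | add p p' hp hp' => rw [map_add, map_add, hp, hp']
  -- (c) compatibility with the action
  have hc : ∀ (p : P) (b : R ⊗[k] S), rho ℳ hℳ 𝒩 h𝒩 (GrSeg.act k R S M N b (φ p)) =
      GrSeg.act k R S M N (rho (k := k) 𝒜 (kstableA 𝒜) ℬ (kstableA ℬ) b) (φ p) := by
    intro p b
    induction p using DirectSum.Decomposition.inductionOn 𝒬 with
    | zero => simp
    | homogeneous p =>
      rename_i n
      exact rho_act 𝒜 ℬ ℳ 𝒩 hℳ h𝒩 (hmemP n p p.2) b
    | add p p' hp hp' => rw [map_add, map_add, map_add, hp, hp', map_add]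
  -- the module structure of `R ⊗ S` on `M ⊗ N`
  let fR : R →ₐ[k] Module.End k (M ⊗[k] N) :=
    (Module.End.rTensorAlgHom k M N).comp (Algebra.lsmul k k M)
  let fS : S →ₐ[k] Module.End k (M ⊗[k] N) :=
    (Module.End.lTensorAlgHom k N M).comp (Algebra.lsmul k k N)
  have hfR : ∀ (r : R) (m : M) (n : N), fR r (m ⊗ₜ[k] n) = (r • m) ⊗ₜ[k] n := by
    intro r m n
    show (LinearMap.rTensor N (Algebra.lsmul k k M r)) (m ⊗ₜ[k] n) = _
    rw [LinearMap.rTensor_tmul]
    rfl
  have hfS : ∀ (s : S) (m : M) (n : N), fS s (m ⊗ₜ[k] n) = m ⊗ₜ[k] (s • n) := by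
    intro s m n
    show (LinearMap.lTensor M (Algebra.lsmul k k N s)) (m ⊗ₜ[k] n) = _
    rw [LinearMap.lTensor_tmul]
    rfl
  have hcomm : ∀ (r : R) (s : S), Commute (fR r) (fS s) := by
    intro r s
    apply LinearMap.ext
    intro q
    induction q using TensorProduct.induction_on with
    | zero => simp
    | add x y hx hy => rw [map_add, map_add, hx, hy]
    | tmul m n =>
      rw [Module.End.mul_apply, Module.End.mul_apply, hfS, hfR, hfR, hfS]
  let α : R ⊗[k] S →ₐ[k] Module.End k (M ⊗[k] N) := Algebra.TensorProduct.lift fR fS hcomm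
  have hα : ∀ (b : R ⊗[k] S) (q : M ⊗[k] N), α b q = GrSeg.act k R S M N b q := by
    intro b q
    induction b using TensorProduct.induction_on with
    | zero => simp
    | add x y hx hy => rw [map_add, LinearMap.add_apply, hx, hy, map_add, LinearMap.add_apply]
    | tmul r s =>
      induction q using TensorProduct.induction_on with
      | zero => simp
      | add x y hx hy => rw [map_add, map_add, hx, hy]
      | tmul m n =>
        rw [GrSeg.act_tmul]
        show (Algebra.TensorProduct.lift fR fS hcomm (r ⊗ₜ[k] s)) (m ⊗ₜ[k] n) = _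
        rw [Algebra.TensorProduct.lift_tmul, Module.End.mul_apply, hfS, hfR]
  letI modB : Module (R ⊗[k] S) (M ⊗[k] N) := Module.compHom (M ⊗[k] N) α.toRingHom
  have hsmul : ∀ (b : R ⊗[k] S) (q : M ⊗[k] N), b • q = GrSeg.act k R S M N b q :=
    fun b q => hα b q
  -- Noetherianity upstairs
  have h1 : Algebra.FiniteType R (R ⊗[k] S) := inferInstance
  have h2 : Algebra.FiniteType k (R ⊗[k] S) := Algebra.FiniteType.trans (S := R) inferInstance h1
  have hN : IsNoetherianRing (R ⊗[k] S) := Algebra.FiniteType.isNoetherianRing k _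
  obtain ⟨GM, hGM⟩ := (Module.Finite.fg_top : (⊤ : Submodule R M).FG)
  obtain ⟨GN, hGN⟩ := (Module.Finite.fg_top : (⊤ : Submodule S N).FG)
  have hfin : Module.Finite (R ⊗[k] S) (M ⊗[k] N) := by
    refine ⟨(Submodule.fg_def).mpr ⟨Set.image2 (fun m n => m ⊗ₜ[k] n) (GM : Set M) (GN : Set N),
      (GM.finite_toSet.image2 _ GN.finite_toSet), ?_⟩⟩
    rw [eq_top_iff]
    rintro q -
    have key : ∀ m ∈ Submodule.span R (GM : Set M), ∀ n ∈ Submodule.span S (GN : Set N),
        m ⊗ₜ[k] n ∈ Submodule.span (R ⊗[k] S)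
          (Set.image2 (fun m n => m ⊗ₜ[k] n) (GM : Set M) (GN : Set N)) := by
      intro m hm
      induction hm using Submodule.span_induction with
      | mem m0 hm0 =>
        intro n hn
        induction hn using Submodule.span_induction with
        | mem n0 hn0 => exact Submodule.subset_span ⟨m0, hm0, n0, hn0, rfl⟩
        | zero => rw [TensorProduct.tmul_zero]; exact zero_mem _
        | add x y _ _ hx hy => rw [TensorProduct.tmul_add]; exact add_mem hx hy
        | smul s x _ hx =>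
          have : m0 ⊗ₜ[k] (s • x) = ((1 : R) ⊗ₜ[k] s) • (m0 ⊗ₜ[k] x) := by
            rw [hsmul, GrSeg.act_tmul, one_smul]
          rw [this]
          exact Submodule.smul_mem _ _ hx
      | zero => intro n hn; rw [TensorProduct.zero_tmul]; exact zero_mem _
      | add x y _ _ hx hy =>
        intro n hn
        rw [TensorProduct.add_tmul]
        exact add_mem (hx n hn) (hy n hn)
      | smul r x _ hx =>
        intro n hn
        have : (r • x) ⊗ₜ[k] n = (r ⊗ₜ[k] (1 : S)) • (x ⊗ₜ[k] n) := by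
          rw [hsmul, GrSeg.act_tmul, one_smul]
        rw [this]
        exact Submodule.smul_mem _ _ (hx n hn)
    induction q using TensorProduct.induction_on with
    | zero => exact zero_mem _
    | add x y hx hy => exact add_mem hx hy
    | tmul m n => exact key m (hGM ▸ Submodule.mem_top) n (hGN ▸ Submodule.mem_top)
  have hNQ : IsNoetherian (R ⊗[k] S) (M ⊗[k] N) := isNoetherian_of_isNoetherianRing_of_finite _ _
  have hW : WellFoundedGT (Submodule (R ⊗[k] S) (M ⊗[k] N)) := isNoetherian_iff'.mp hNQ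
  -- the key contraction property
  have key : ∀ (P' : Submodule T P) (y : M ⊗[k] N),
      y ∈ Submodule.span (R ⊗[k] S) (φ '' (P' : Set P)) →
      ∀ a : R ⊗[k] S, ∃ p' ∈ P', rho ℳ hℳ 𝒩 h𝒩 (a • y) = φ p' := by
    intro P' y hy
    induction hy using Submodule.span_induction with
    | mem y hy =>
      obtain ⟨p0, hp0, rfl⟩ := hy
      intro a
      obtain ⟨t, ht⟩ := hd a
      refine ⟨t • p0, P'.smul_mem t hp0, ?_⟩
      rw [hsmul, hc, ht, hP.map_smul]
    | zero => intro a; exact ⟨0, P'.zero_mem, by simp⟩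
    | add y y' _ _ hy hy' =>
      intro a
      obtain ⟨p1, hp1, e1⟩ := hy a
      obtain ⟨p2, hp2, e2⟩ := hy' a
      exact ⟨p1 + p2, P'.add_mem hp1 hp2, by rw [smul_add, map_add, e1, e2, map_add]⟩
    | smul b y _ hy =>
      intro a
      obtain ⟨p1, hp1, e1⟩ := hy (a * b)
      exact ⟨p1, hp1, by rw [smul_smul, e1]⟩
  have hmono : StrictMono (fun P' : Submodule T P =>
      Submodule.span (R ⊗[k] S) (φ '' (P' : Set P))) := by
    intro P1 P2 h12
    refine lt_of_le_of_ne (Submodule.span_mono (Set.image_mono h12.le)) ?_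
    intro e
    apply h12.ne
    apply le_antisymm h12.le
    intro p hp
    have hmem : φ p ∈ Submodule.span (R ⊗[k] S) (φ '' (P1 : Set P)) := by
      have : φ p ∈ Submodule.span (R ⊗[k] S) (φ '' (P2 : Set P)) :=
        Submodule.subset_span ⟨p, hp, rfl⟩
      have e' : Submodule.span (R ⊗[k] S) (φ '' (P1 : Set P)) =
        Submodule.span (R ⊗[k] S) (φ '' (P2 : Set P)) := e
      rw [e']
      exact this
    obtain ⟨p', hp', e2⟩ := key P1 _ hmem 1
    rw [one_smul, hb] at e2
    rw [hP.injective e2]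
    exact hp'
  have hW' : WellFoundedGT (Submodule T P) := hmono.wellFoundedGT
  have hNP : IsNoetherian T P := isNoetherian_iff'.mpr hW'
  infer_instance

end Groth.Agent.Lib.Helper24SegreFin3
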