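import Mathlib

set_option autoImplicit false
universe u v w

namespace Groth.Agent.Lib.Helper24Semilin

theorem injective_of_coker_fg
    {k : Type u} {R : Type v} {M : Type w} [Field k] [CommRing R] [IsDomain R] [Algebra k R]
    (hR : ¬ Module.Finite k R)
    [AddCommGroup M] [Module R M] [Module k M] [IsScalarTower k R M]
    [Module.Finite R M] [Module.Free R M]
    (σ : R ≃+* R)
    (φ : M →ₛₗ[(σ : R →+* R)] M)
    (hcoker : ∃ N : Submodule k M, N.FG ∧ ∀ m : M, ∃ n ∈ N, ∃ m' : M, m = n + φ m') :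
    Function.Injective φ := by
  classical
  let b := Module.Free.chooseBasis R M
  let A : Matrix (Module.Free.ChooseBasisIndex R M) (Module.Free.ChooseBasisIndex R M) R :=
    Matrix.of fun i j => b.repr (φ (b j)) i
  by_contra hinj
  rw [injective_iff_map_eq_zero] at hinj
  push Not at hinj
  obtain ⟨m0, hm0, hm0'⟩ := hinj
  have hφ : ∀ m, φ m = ∑ j, σ (b.repr m j) • φ (b j) := by
    intro m
    conv_lhs => rw [← b.sum_repr m]
    rw [map_sum]
    apply Finset.sum_congr rfl
    intro j _
    rw [map_smulₛₗ]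
    rfl
  have hrepr : ∀ m i, b.repr (φ m) i = ∑ j, A i j * σ (b.repr m j) := by
    intro m i
    rw [hφ m, map_sum, Finsupp.coe_finsetSum, Finset.sum_apply]
    apply Finset.sum_congr rfl
    intro j _
    rw [map_smul, Finsupp.smul_apply, smul_eq_mul, mul_comm]
    rfl
  have hv : A.mulVec (fun j => σ (b.repr m0 j)) = 0 := by
    funext i
    have := hrepr m0 i
    rw [hm0, map_zero, Finsupp.zero_apply] at this
    rw [Pi.zero_apply, this]
    rfl
  have hvne : (fun j => σ (b.repr m0 j)) ≠ 0 := by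
    intro h
    apply hm0'
    apply b.repr.injective
    ext j
    have := congrFun h j
    rw [Pi.zero_apply, map_eq_zero_iff σ σ.injective] at this
    rw [this, map_zero, Finsupp.zero_apply]
  have hdet : A.det = 0 := Matrix.exists_mulVec_eq_zero_iff.1 ⟨_, hvne, hv⟩
  obtain ⟨wv, hw, hwA⟩ := Matrix.exists_vecMul_eq_zero_iff.2 hdet
  let ℓ : M →ₗ[R] R := ∑ i, wv i • b.coord i
  have hℓ : ∀ m, ℓ m = ∑ i, wv i * b.repr m i := by
    intro m
    simp only [ℓ, LinearMap.sum_apply, LinearMap.smul_apply, Module.Basis.coord_apply, smul_eq_mul]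
  have hℓφ : ∀ m, ℓ (φ m) = 0 := by
    intro m
    rw [hℓ]
    simp only [hrepr, Finset.mul_sum]
    rw [Finset.sum_comm]
    apply Finset.sum_eq_zero
    intro j _
    have h1 := congrFun hwA j
    simp only [Matrix.vecMul, dotProduct, Pi.zero_apply] at h1
    calc ∑ i, wv i * (A i j * σ (b.repr m j)) = (∑ i, wv i * A i j) * σ (b.repr m j) := by
          rw [Finset.sum_mul]; apply Finset.sum_congr rfl; intro i _; ring
      _ = 0 := by rw [h1, zero_mul]
  obtain ⟨i₀, hi₀⟩ : ∃ i, wv i ≠ 0 := by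
    by_contra h
    push Not at h
    exact hw (funext h)
  obtain ⟨N, hN, hNφ⟩ := hcoker
  let ℓk : M →ₗ[k] R := ℓ.restrictScalars k
  have hℓb : ∀ r : R, ℓ (r • b i₀) = r * wv i₀ := by
    intro r
    rw [hℓ, Finset.sum_eq_single i₀]
    · rw [map_smul, Finsupp.smul_apply, Module.Basis.repr_self, Finsupp.single_eq_same, smul_eq_mul,
        mul_one, mul_comm]
    · intro i _ hi
      rw [map_smul, Finsupp.smul_apply, Module.Basis.repr_self, Finsupp.single_eq_of_ne hi,
        smul_zero, mul_zero]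
    · intro h; exact absurd (Finset.mem_univ _) h
  have hmem : ∀ r : R, LinearMap.mulRight k (wv i₀) r ∈ N.map ℓk := by
    intro r
    obtain ⟨n, hn, m', hm'⟩ := hNφ (r • b i₀)
    refine ⟨n, hn, ?_⟩
    have h1 : ℓ (r • b i₀) = ℓ n + ℓ (φ m') := by rw [hm', map_add]
    rw [hℓφ, add_zero, hℓb] at h1
    rw [LinearMap.mulRight_apply, h1]
    rfl
  have : Module.Finite k (N.map ℓk) := Module.Finite.iff_fg.2 (hN.map ℓk)
  let g : R →ₗ[k] (N.map ℓk) := LinearMap.codRestrict _ (LinearMap.mulRight k (wv i₀)) hmem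
  have hg : Function.Injective g := by
    intro r r' h
    have h1 : r * wv i₀ = r' * wv i₀ := congrArg Subtype.val h
    exact mul_right_cancel₀ hi₀ h1
  exact hR (Module.Finite.of_injective g hg)

end Groth.Agent.Lib.Helper24Semilin
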