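import Mathlib

/-!
# Separable degree and base change of a finite local algebra

For a finite local `k`-algebra `A` with residue field `κ` and a field extension `k'/k`,
`[κ : k]_s = ∑_{m' ∈ MaxSpec (k' ⊗ A)} [κ(m') : k']_s`.  Both sides count `k`-algebra maps
`A → Ω`, `Ω` an algebraic closure of `k'`.
-/

open TensorProduct

namespace Groth.Agent.Lib.Helper24SepDegBC

universe u

section General

variable {K : Type*} [Field K] {B : Type*} [CommRing B] [Algebra K B] [Module.Finite K B]
variable {Ω : Type*} [Field Ω] [Algebra K Ω]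

/-- The kernel of an algebra map from a finite algebra over a field to a field is maximal. -/
lemma ker_isMaximal (h : B →ₐ[K] Ω) : (RingHom.ker h.toRingHom).IsMaximal := by
  haveI : IsArtinianRing B := IsArtinianRing.of_finite K B
  haveI : (RingHom.ker h.toRingHom).IsPrime := RingHom.ker_isPrime h.toRingHom
  exact IsArtinianRing.isMaximal_of_isPrime _

variable (Ω) in
/-- Algebra maps out of `B` with prescribed kernel `m` correspond to algebra maps out of any
quotient field `F = B / m`. -/
noncomputable def fiberEquiv (m : Ideal B) (F : Type*) [Field F] [Algebra K F] [Algebra B F]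
    [IsScalarTower K B F] (hs : Function.Surjective (algebraMap B F))
    (hk : RingHom.ker (algebraMap B F) = m) :
    (F →ₐ[K] Ω) ≃ {h : B →ₐ[K] Ω // RingHom.ker h.toRingHom = m} := by
  let f : B →ₐ[K] F := IsScalarTower.toAlgHom K B F
  have hf : Function.Surjective f := hs
  have hkf : RingHom.ker f.toRingHom = m := hk
  refine Equiv.ofBijective
    (fun φ : F →ₐ[K] Ω => (⟨φ.comp f, ?_⟩ : {h : B →ₐ[K] Ω // RingHom.ker h.toRingHom = m}))
    ⟨?_, ?_⟩
  · rw [← hkf]
    ext b
    simp only [RingHom.mem_ker, AlgHom.toRingHom_eq_coe, RingHom.coe_coe, AlgHom.comp_apply]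
    exact map_eq_zero_iff φ φ.toRingHom.injective
  · intro φ ψ hφψ
    have h1 : φ.comp f = ψ.comp f := congrArg Subtype.val hφψ
    ext x
    obtain ⟨b, rfl⟩ := hf x
    exact DFunLike.congr_fun h1 b
  · rintro ⟨h, hh⟩
    refine ⟨AlgHom.liftOfSurjective f hf h (by rw [hkf, hh]), ?_⟩
    apply Subtype.ext
    exact AlgHom.liftOfSurjective_comp f hf h _

end General

section Local

variable {k : Type*} [Field k] {A : Type*} [CommRing A] [Algebra k A] [Module.Finite k A]
  [IsLocalRing A] (Ω : Type*) [Field Ω] [Algebra k Ω]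

/-- For `A` local, all algebra maps `A → Ω` factor through the residue field. -/
lemma card_local :
    Nat.card (A →ₐ[k] Ω) = Nat.card (IsLocalRing.ResidueField A →ₐ[k] Ω) := by
  rw [Nat.card_congr (fiberEquiv Ω (IsLocalRing.maximalIdeal A) (IsLocalRing.ResidueField A)
    IsLocalRing.residue_surjective IsLocalRing.ker_residue)]
  refine Nat.card_congr (Equiv.subtypeUnivEquiv fun h => ?_).symm
  exact IsLocalRing.eq_maximalIdeal (ker_isMaximal h)

end Local

section BaseChange

variable (k A k' : Type*) [Field k] [CommRing A] [Algebra k A] [Field k'] [Algebra k k']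
  (Ω : Type*) [Field Ω] [Algebra k' Ω] [Algebra k Ω] [IsScalarTower k k' Ω]

/-- Universal property of base change. -/
noncomputable def bcEquiv : (A →ₐ[k] Ω) ≃ (k' ⊗[k] A →ₐ[k'] Ω) where
  toFun g := Algebra.TensorProduct.lift (Algebra.ofId k' Ω) g (fun _ _ => Commute.all _ _)
  invFun h := (h.restrictScalars k).comp Algebra.TensorProduct.includeRight
  left_inv g := by
    ext a
    simp
  right_inv h := by
    apply Algebra.TensorProduct.ext
    · ext
    · ext a
      simp

end BaseChange

section Count

variable {K : Type*} [Field K] {B : Type*} [CommRing B] [Algebra K B] [Module.Finite K B]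
variable (Ω : Type*) [Field Ω] [Algebra K Ω] [IsAlgClosed Ω]

instance (m : MaximalSpectrum B) : m.asIdeal.IsMaximal := m.isMaximal

lemma isAlgebraic_residueField (m : Ideal B) [m.IsMaximal] :
    Algebra.IsAlgebraic K m.ResidueField := by
  haveI : Algebra.IsIntegral K B := Algebra.IsIntegral.of_finite K B
  refine ⟨fun x => ?_⟩
  obtain ⟨b, rfl⟩ := m.algebraMap_residueField_surjective x
  exact ((Algebra.IsIntegral.isIntegral (R := K) b).map
    (IsScalarTower.toAlgHom K B m.ResidueField)).isAlgebraic

/-- Counting algebra maps from a finite algebra to an algebraically closed field. -/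
lemma card_algHom :
    Nat.card (B →ₐ[K] Ω) =
      ∑ᶠ m : MaximalSpectrum B, Field.finSepDegree K
        (IsLocalRing.ResidueField (Localization.AtPrime m.asIdeal)) := by
  haveI : IsArtinianRing B := IsArtinianRing.of_finite K B
  haveI : Fintype (MaximalSpectrum B) := Fintype.ofFinite _
  rw [finsum_eq_sum_of_fintype]
  let E : ∀ m : MaximalSpectrum B, (m.asIdeal.ResidueField →ₐ[K] Ω) ≃
      {h : B →ₐ[K] Ω // RingHom.ker h.toRingHom = m.asIdeal} := fun m =>
    fiberEquiv Ω m.asIdeal m.asIdeal.ResidueField
      m.asIdeal.algebraMap_residueField_surjective m.asIdeal.ker_algebraMap_residueField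
  have key : ∀ m : MaximalSpectrum B,
      Field.finSepDegree K (IsLocalRing.ResidueField (Localization.AtPrime m.asIdeal)) =
        Nat.card {h : B →ₐ[K] Ω // RingHom.ker h.toRingHom = m.asIdeal} := by
    intro m
    haveI := isAlgebraic_residueField (K := K) m.asIdeal
    rw [← Nat.card_congr (E m)]
    exact Field.finSepDegree_eq_of_isAlgClosed K m.asIdeal.ResidueField Ω
  simp_rw [key]
  let p : (B →ₐ[K] Ω) → MaximalSpectrum B := fun h => ⟨RingHom.ker h.toRingHom, ker_isMaximal h⟩
  have e : (B →ₐ[K] Ω) ≃ Σ m : MaximalSpectrum B,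
      {h : B →ₐ[K] Ω // RingHom.ker h.toRingHom = m.asIdeal} :=
    (Equiv.sigmaFiberEquiv p).symm.trans (Equiv.sigmaCongrRight fun m =>
      Equiv.subtypeEquivRight fun h => by
        constructor
        · intro hh; rw [← hh]
        · intro hh; exact MaximalSpectrum.ext hh)
  haveI : ∀ m : MaximalSpectrum B,
      Finite {h : B →ₐ[K] Ω // RingHom.ker h.toRingHom = m.asIdeal} := by
    intro m
    haveI : Module.Finite K m.asIdeal.ResidueField :=
      Module.Finite.trans B m.asIdeal.ResidueField
    haveI : Finite (m.asIdeal.ResidueField →ₐ[K] Ω) := inferInstance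
    exact Finite.of_equiv _ (E m)
  rw [Nat.card_congr e, Nat.card_sigma]

end Count

theorem main (k A k' : Type u) [Field k] [CommRing A] [Algebra k A]
    [Module.Finite k A] [IsLocalRing A] [Field k'] [Algebra k k'] :
    Field.finSepDegree k (IsLocalRing.ResidueField A) =
      ∑ᶠ m : MaximalSpectrum (k' ⊗[k] A),
        Field.finSepDegree k' (IsLocalRing.ResidueField (Localization.AtPrime m.asIdeal)) := by
  let Ω := AlgebraicClosure k'
  haveI : Algebra.IsAlgebraic k (IsLocalRing.ResidueField A) := by
    haveI : Module.Finite k (IsLocalRing.ResidueField A) :=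
      Module.Finite.trans A (IsLocalRing.ResidueField A)
    exact Algebra.IsAlgebraic.of_finite k _
  rw [Field.finSepDegree_eq_of_isAlgClosed k (IsLocalRing.ResidueField A) Ω,
    ← card_local Ω, Nat.card_congr (bcEquiv k A k' Ω), card_algHom Ω]

end Groth.Agent.Lib.Helper24SepDegBC
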