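import Mathlib

/-!
# Serre functors versus representability of the dual Hom functors
-/

universe w v u

open CategoryTheory

namespace Groth.Agent.Lib.Helper24SerreFun

variable {k : Type w} [Field k] {T : Type u} [Category.{v} T] [Preadditive T] [Linear k T]
  [∀ X Y : T, Module.Finite k (X ⟶ Y)]

section Construct

variable (S₀ : T → T) (e : ∀ X Y : T, (Y ⟶ S₀ X) ≃ₗ[k] Module.Dual k (X ⟶ Y))
  (he : ∀ (X Y Y' : T) (g : Y' ⟶ Y) (f : Y ⟶ S₀ X),
    e X Y' (g ≫ f) = (e X Y f) ∘ₗ Linear.rightComp k X g)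

/-- The trace functional. -/
noncomputable def tr (X : T) : Module.Dual k (X ⟶ S₀ X) := e X (S₀ X) (𝟙 _)

include he in
lemma e_apply (X Y : T) (f : Y ⟶ S₀ X) (h : X ⟶ Y) : e X Y f h = tr S₀ e X (h ≫ f) := by
  have := he X (S₀ X) Y f (𝟙 _)
  rw [Category.comp_id] at this
  rw [this]
  rfl

include he in
lemma hom_ext_tr {X Y : T} (f f' : Y ⟶ S₀ X)
    (h : ∀ p : X ⟶ Y, tr S₀ e X (p ≫ f) = tr S₀ e X (p ≫ f')) : f = f' := by
  apply (e X Y).injective
  ext p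
  rw [e_apply S₀ e he, e_apply S₀ e he, h]

/-- `S` on morphisms, as a linear map. -/
noncomputable def SmapLin (X X' : T) : (X ⟶ X') →ₗ[k] (S₀ X ⟶ S₀ X') :=
  (e X' (S₀ X)).symm.toLinearMap ∘ₗ
    { toFun := fun a => tr S₀ e X ∘ₗ Linear.leftComp k (S₀ X) a
      map_add' := fun a a' => by ext h; simp
      map_smul' := fun r a => by ext h; simp }

include he in
lemma tr_Smap {X X' : T} (a : X ⟶ X') (h : X' ⟶ S₀ X) :
    tr S₀ e X' (h ≫ SmapLin S₀ e X X' a) = tr S₀ e X (a ≫ h) := by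
  rw [← e_apply S₀ e he]
  simp [SmapLin]

include he in
/-- The functor `S`. -/
noncomputable def Sfun : T ⥤ T where
  obj := S₀
  map {X X'} a := SmapLin S₀ e X X' a
  map_id X := by
    apply hom_ext_tr S₀ e he
    intro p
    rw [tr_Smap S₀ e he, Category.id_comp, Category.comp_id]
  map_comp {X X' X''} a a' := by
    apply hom_ext_tr S₀ e he
    intro p
    rw [tr_Smap S₀ e he, ← Category.assoc, tr_Smap S₀ e he, ← Category.assoc,
      tr_Smap S₀ e he, Category.assoc]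

instance : (Sfun S₀ e he).Additive where
  map_add {X Y f g} := (SmapLin S₀ e X Y).map_add f g

instance : (Sfun S₀ e he).Linear k where
  map_smul {X Y} f r := (SmapLin S₀ e X Y).map_smul r f

/-- The other side of the perfect pairing. -/
noncomputable def cEquiv (X Y : T) : (X ⟶ Y) ≃ₗ[k] Module.Dual k (Y ⟶ S₀ X) :=
  (Module.evalEquiv k (X ⟶ Y)) ≪≫ₗ (e X Y).dualMap

include he in
lemma cEquiv_apply (X Y : T) (f : X ⟶ Y) (g : Y ⟶ S₀ X) :
    cEquiv S₀ e X Y f g = tr S₀ e X (f ≫ g) := by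
  rw [← e_apply S₀ e he]
  rfl

include he in
lemma Smap_eq (X X' : T) (a : X ⟶ X') :
    SmapLin S₀ e X X' a = (e X' (S₀ X)).symm (cEquiv S₀ e X X' a) := by
  apply hom_ext_tr S₀ e he
  intro p
  rw [tr_Smap S₀ e he,
    ← e_apply S₀ e he X' (S₀ X) ((e X' (S₀ X)).symm (cEquiv S₀ e X X' a)) p,
    LinearEquiv.apply_symm_apply, cEquiv_apply S₀ e he]

include he in
lemma Smap_bijective (X X' : T) : Function.Bijective (SmapLin S₀ e X X') := by
  have : (SmapLin S₀ e X X' : (X ⟶ X') → (S₀ X ⟶ S₀ X'))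
      = (e X' (S₀ X)).symm ∘ (cEquiv S₀ e X X') := by
    funext a
    exact Smap_eq S₀ e he X X' a
  rw [this]
  exact (e X' (S₀ X)).symm.bijective.comp (cEquiv S₀ e X X').bijective

instance : (Sfun S₀ e he).Faithful where
  map_injective {X Y} := (Smap_bijective S₀ e he X Y).1

instance : (Sfun S₀ e he).Full where
  map_surjective {X Y} := (Smap_bijective S₀ e he X Y).2

section EssSurj

variable (R₀ : T → T) (e' : ∀ X Y : T, (R₀ X ⟶ Y) ≃ₗ[k] Module.Dual k (Y ⟶ X))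
  (he' : ∀ (X Y Y' : T) (g : Y ⟶ Y') (f : R₀ X ⟶ Y),
    e' X Y' (f ≫ g) = (e' X Y f) ∘ₗ Linear.leftComp k X g)

/-- The natural bijection `(Y ⟶ S (R X)) ≃ (Y ⟶ X)`. -/
noncomputable def theta (X Y : T) : (Y ⟶ S₀ (R₀ X)) ≃ₗ[k] (Y ⟶ X) :=
  e (R₀ X) Y ≪≫ₗ (e' X Y).dualMap.symm ≪≫ₗ (Module.evalEquiv k (Y ⟶ X)).symm

lemma theta_spec (X Y : T) (f : Y ⟶ S₀ (R₀ X)) (p : R₀ X ⟶ Y) :
    e' X Y p (theta S₀ e R₀ e' X Y f) = e (R₀ X) Y f p := by
  have h1 : Module.evalEquiv k (Y ⟶ X) (theta S₀ e R₀ e' X Y f)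
      = (e' X Y).dualMap.symm (e (R₀ X) Y f) := by
    simp [theta]
  have h2 := congrArg (fun φ => (e' X Y).dualMap φ) h1
  simp only [LinearEquiv.apply_symm_apply] at h2
  have h3 := LinearMap.congr_fun h2 p
  simpa using h3

lemma hom_ext_e' {X Y : T} (u u' : Y ⟶ X) (h : ∀ p : R₀ X ⟶ Y, e' X Y p u = e' X Y p u') :
    u = u' := by
  have h1 : ∀ φ : Module.Dual k (Y ⟶ X), φ u = φ u' := by
    intro φ
    obtain ⟨p, rfl⟩ := (e' X Y).surjective φ
    exact h p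
  by_contra hne
  have hsub : u - u' ≠ 0 := sub_ne_zero.mpr hne
  obtain ⟨φ, hφ⟩ := (Module.forall_dual_apply_eq_zero_iff k (u - u')).not.mpr hsub |> not_forall.mp
  apply hφ
  rw [map_sub, h1 φ, sub_self]

include he he' in
lemma theta_nat (X Y Y' : T) (g : Y' ⟶ Y) (f : Y ⟶ S₀ (R₀ X)) :
    theta S₀ e R₀ e' X Y' (g ≫ f) = g ≫ theta S₀ e R₀ e' X Y f := by
  apply hom_ext_e' R₀ e'
  intro p
  rw [theta_spec, e_apply S₀ e he]
  have h1 := LinearMap.congr_fun (he' X Y' Y g p) (theta S₀ e R₀ e' X Y f)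
  simp only [LinearMap.comp_apply, Linear.leftComp_apply] at h1
  rw [← h1, theta_spec, e_apply S₀ e he, Category.assoc]

include he he' in
/-- `S (R X) ≅ X`. -/
noncomputable def isoSR (X : T) : S₀ (R₀ X) ≅ X where
  hom := theta S₀ e R₀ e' X _ (𝟙 _)
  inv := (theta S₀ e R₀ e' X X).symm (𝟙 _)
  hom_inv_id := by
    apply (theta S₀ e R₀ e' X _).injective
    rw [theta_nat S₀ e he R₀ e' he', LinearEquiv.apply_symm_apply, Category.comp_id]
  inv_hom_id := by
    have := theta_nat S₀ e he R₀ e' he' X _ _ ((theta S₀ e R₀ e' X X).symm (𝟙 _)) (𝟙 _)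
    rw [Category.comp_id, LinearEquiv.apply_symm_apply] at this
    exact this.symm

include he' in
lemma essSurj : (Sfun S₀ e he).EssSurj where
  mem_essImage X := ⟨R₀ X, ⟨isoSR S₀ e he R₀ e' he' X⟩⟩

include he' in
lemma isEquivalence : (Sfun S₀ e he).IsEquivalence := by
  haveI := essSurj S₀ e he R₀ e' he'
  exact { }

end EssSurj

end Construct

/-- Post-composition with an isomorphism as a linear equivalence. -/
noncomputable def rightCompEquiv (Y : T) {A B : T} (ε : A ≅ B) : (Y ⟶ A) ≃ₗ[k] (Y ⟶ B) :=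
  LinearEquiv.ofLinear (Linear.rightComp k Y ε.hom) (Linear.rightComp k Y ε.inv)
    (by ext f; simp) (by ext f; simp)

theorem main :
    (∃ (S : T ≌ T) (_ : S.functor.Additive) (_ : S.functor.Linear k)
        (c : ∀ X Y : T, (X ⟶ Y) ≃ₗ[k] Module.Dual k (Y ⟶ S.functor.obj X)),
        (∀ (X Y Y' : T) (f : X ⟶ Y) (g : Y ⟶ Y'),
          c X Y' (f ≫ g) = (c X Y f) ∘ₗ Linear.leftComp k (S.functor.obj X) g) ∧
        (∀ (X' X Y : T) (a : X' ⟶ X) (f : X ⟶ Y),
          c X' Y (a ≫ f) = (c X Y f) ∘ₗ Linear.rightComp k Y (S.functor.map a))) ↔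
    ((∀ X : T, ∃ (SX : T) (e : ∀ Y : T, (Y ⟶ SX) ≃ₗ[k] Module.Dual k (X ⟶ Y)),
        ∀ (Y Y' : T) (g : Y' ⟶ Y) (f : Y ⟶ SX),
          e Y' (g ≫ f) = (e Y f) ∘ₗ Linear.rightComp k X g) ∧
      (∀ X : T, ∃ (RX : T) (e : ∀ Y : T, (RX ⟶ Y) ≃ₗ[k] Module.Dual k (Y ⟶ X)),
        ∀ (Y Y' : T) (g : Y ⟶ Y') (f : RX ⟶ Y),
          e Y' (f ≫ g) = (e Y f) ∘ₗ Linear.leftComp k X g)) := by
  constructor
  · rintro ⟨S, _, _, c, hc1, hc2⟩
    refine ⟨fun X => ⟨S.functor.obj X,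
      fun Y => (Module.evalEquiv k (Y ⟶ S.functor.obj X)) ≪≫ₗ (c X Y).dualMap, ?_⟩,
      fun X => ⟨S.inverse.obj X,
        fun Y => c (S.inverse.obj X) Y ≪≫ₗ
          (rightCompEquiv (k := k) Y (S.counitIso.app X)).symm.dualMap, ?_⟩⟩
    · intro Y Y' g f
      ext h
      have := LinearMap.congr_fun (hc1 X Y' Y h g) f
      simpa using this.symm
    · intro Y Y' g f
      ext h
      have := LinearMap.congr_fun (hc1 (S.inverse.obj X) Y Y' f g) (h ≫ (S.counitIso.app X).inv)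
      simpa [rightCompEquiv] using this
  · rintro ⟨hA, hB⟩
    choose S₀ e he using hA
    choose R₀ e' he' using hB
    haveI := isEquivalence S₀ e he R₀ e' he'
    refine ⟨(Sfun S₀ e he).asEquivalence, (inferInstance : (Sfun S₀ e he).Additive),
      (inferInstance : (Sfun S₀ e he).Linear k), cEquiv S₀ e, ?_, ?_⟩
    · intro X Y Y' f g
      ext h
      change cEquiv S₀ e X Y' (f ≫ g) h = cEquiv S₀ e X Y f (g ≫ h)
      rw [cEquiv_apply S₀ e he, cEquiv_apply S₀ e he, Category.assoc]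
    · intro X' X Y a f
      ext h
      have key : ∀ h' : Y ⟶ S₀ X',
          cEquiv S₀ e X' Y (a ≫ f) h' = cEquiv S₀ e X Y f (h' ≫ SmapLin S₀ e X' X a) := by
        intro h'
        rw [cEquiv_apply S₀ e he, cEquiv_apply S₀ e he, ← Category.assoc, tr_Smap S₀ e he,
          Category.assoc]
      exact key h

end Groth.Agent.Lib.Helper24SerreFun
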