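import Mathlib

set_option autoImplicit false
set_option linter.unusedSectionVars false

namespace Groth.Agent.Lib.Helper24Sl2

open Module LieModule

lemma three_sum (n : ℤ) (m : ℕ) :
    3 * ∑ i ∈ Finset.range m, (n - 2 * (i : ℤ)) ^ 2 =
      3 * m * n ^ 2 - 6 * n * m * (m - 1) + 2 * m * (m - 1) * (2 * m - 1) := by
  induction m with
  | zero => simp
  | succ m ih =>
    rw [Finset.sum_range_succ, mul_add, ih]
    push_cast
    ring

lemma six_choose (n : ℕ) : 6 * (n + 2).choose 3 = (n + 2) * (n + 1) * n := by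
  have := Nat.descFactorial_eq_factorial_mul_choose (n + 2) 3
  simp [Nat.descFactorial, Nat.factorial] at this
  nlinarith [this]

lemma sum_sq (n : ℕ) :
    ∑ i ∈ Finset.range (n + 1), ((n : ℤ) - 2 * (i : ℤ)) ^ 2 = 2 * ((n + 2).choose 3 : ℤ) := by
  have h1 := three_sum (n : ℤ) (n + 1)
  have h2 : ((6 * (n + 2).choose 3 : ℕ) : ℤ) = (((n + 2) * (n + 1) * n : ℕ) : ℤ) := by
    rw [six_choose]
  push_cast at h1 h2
  have : 3 * ∑ i ∈ Finset.range (n + 1), ((n : ℤ) - 2 * (i : ℤ)) ^ 2 =
      3 * (2 * ((n + 2).choose 3 : ℤ)) := by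
    rw [h1]
    have : 3 * (2 * ((n + 2).choose 3 : ℤ)) = ((n : ℤ) + 2) * (n + 1) * n := by
      rw [← h2]; ring
    rw [this]; ring
  exact mul_left_cancel₀ (by norm_num) this

variable {k : Type*} [Field k] [IsAlgClosed k] [CharZero k]
  {L : Type*} [LieRing L] [LieAlgebra k L] {h e f : L} (t : IsSl2Triple h e f)
  (hspan : t.toLieSubalgebra k = ⊤)

include hspan in
theorem trace_irr {M : Type*} [AddCommGroup M] [Module k M] [LieRingModule L M] [LieModule k L M]
    [FiniteDimensional k M] [LieModule.IsIrreducible k L M] :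
    LinearMap.trace k M ((toEnd k L M h) ^ 2) = 2 * (((finrank k M + 1).choose 3 : ℕ) : k) := by
  classical
  have hnt : Nontrivial M := LieModule.nontrivial_of_isIrreducible k L M
  obtain ⟨μ, m, hm0, P⟩ := t.exists_hasPrimitiveVectorWith (R := k) (M := M)
  obtain ⟨n, hn⟩ := P.exists_nat
  let v : Fin (n + 1) → M := fun i => ((toEnd k L M f) ^ (i : ℕ)) m
  let c : Fin (n + 1) → k := fun i => (n : k) - 2 * ((i : ℕ) : k)
  have hh : ∀ i, ⁅h, v i⁆ = c i • v i := by
    intro i
    have := P.lie_h_pow_toEnd_f (i : ℕ)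
    rw [hn] at this
    exact this
  have hv0 : ∀ i, v i ≠ 0 := fun i =>
    P.pow_toEnd_f_ne_zero_of_eq_nat hn (Nat.lt_succ_iff.mp i.2)
  have hcinj : Function.Injective c := by
    intro i j hij
    have : ((i : ℕ) : k) = ((j : ℕ) : k) := by
      have h2 : (2 : k) ≠ 0 := two_ne_zero
      have : 2 * ((i : ℕ) : k) = 2 * ((j : ℕ) : k) := by
        have := hij
        simp only [c] at this
        linear_combination -this
      exact mul_left_cancel₀ h2 this
    exact Fin.ext (Nat.cast_injective this)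
  have hli : LinearIndependent k v := by
    apply Module.End.eigenvectors_linearIndependent' (toEnd k L M h) c hcinj v
    intro i
    rw [Module.End.hasEigenvector_iff]
    refine ⟨?_, hv0 i⟩
    rw [Module.End.mem_eigenspace_iff]
    exact hh i
  -- the span is a Lie submodule
  let S : Submodule k M := Submodule.span k (Set.range v)
  have hvS : ∀ i, v i ∈ S := fun i => Submodule.subset_span ⟨i, rfl⟩
  have hstab : ∀ (x : L), (∀ i, ⁅x, v i⁆ ∈ S) → ∀ s ∈ S, ⁅x, s⁆ ∈ S := by
    intro x hx s hs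
    induction hs using Submodule.span_induction with
    | mem y hy => obtain ⟨i, rfl⟩ := hy; exact hx i
    | zero => rw [lie_zero]; exact S.zero_mem
    | add y z _ _ hy hz => rw [lie_add]; exact S.add_mem hy hz
    | smul a y _ hy => rw [lie_smul]; exact S.smul_mem a hy
  have hSh : ∀ s ∈ S, ⁅h, s⁆ ∈ S := hstab h (fun i => by rw [hh i]; exact S.smul_mem _ (hvS i))
  have hSf : ∀ s ∈ S, ⁅f, s⁆ ∈ S := by
    apply hstab f
    intro i
    have : ⁅f, v i⁆ = ((toEnd k L M f) ^ ((i : ℕ) + 1)) m := P.lie_f_pow_toEnd_f (i : ℕ)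
    rw [this]
    by_cases hi : (i : ℕ) + 1 < n + 1
    · exact hvS ⟨(i : ℕ) + 1, hi⟩
    · have : (i : ℕ) + 1 = n + 1 := by have := i.2; omega
      rw [this, P.pow_toEnd_f_eq_zero_of_eq_nat hn]
      exact S.zero_mem
  have hSe : ∀ s ∈ S, ⁅e, s⁆ ∈ S := by
    apply hstab e
    intro i
    obtain ⟨i, hi⟩ := i
    cases i with
    | zero =>
      show ⁅e, ((toEnd k L M f) ^ 0) m⁆ ∈ S
      simp only [pow_zero, Module.End.one_apply]
      rw [P.lie_e]; exact S.zero_mem
    | succ j =>
      show ⁅e, ((toEnd k L M f) ^ (j + 1)) m⁆ ∈ S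
      rw [P.lie_e_pow_succ_toEnd_f j]
      exact S.smul_mem _ (hvS ⟨j, by omega⟩)
  let SL : LieSubmodule k L M :=
    { S with
      lie_mem := by
        intro x s hs
        have hx : x ∈ t.toLieSubalgebra k := by rw [hspan]; trivial
        obtain ⟨c₁, c₂, c₃, rfl⟩ := IsSl2Triple.mem_toLieSubalgebra_iff.mp hx
        rw [add_lie, add_lie, smul_lie, smul_lie, smul_lie, t.lie_e_f]
        exact S.add_mem (S.add_mem (S.smul_mem _ (hSe s hs)) (S.smul_mem _ (hSf s hs)))
          (S.smul_mem _ (hSh s hs)) }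
  have hSLtop : SL = ⊤ := by
    rcases IsSimpleOrder.eq_bot_or_eq_top SL with hb | ht
    · exfalso
      have : v 0 ∈ SL := hvS 0
      rw [hb, LieSubmodule.mem_bot] at this
      exact hv0 0 this
    · exact ht
  have hStop : ⊤ ≤ Submodule.span k (Set.range v) := by
    intro x _
    have : x ∈ SL := by rw [hSLtop]; trivial
    exact this
  let b : Basis (Fin (n + 1)) k M := Basis.mk hli hStop
  have hb : ∀ i, b i = v i := fun i => Basis.mk_apply hli hStop i
  have hg : ∀ j, ((toEnd k L M h) ^ 2) (b j) = (c j ^ 2) • b j := by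
    intro j
    rw [pow_two, Module.End.mul_apply, hb j, toEnd_apply_apply, toEnd_apply_apply, hh j, lie_smul,
      hh j, smul_smul, pow_two]
  have hmat : LinearMap.toMatrix b b ((toEnd k L M h) ^ 2) = Matrix.diagonal (fun i => c i ^ 2) := by
    ext i j
    rw [LinearMap.toMatrix_apply, hg j, map_smul, Basis.repr_self, Matrix.diagonal_apply]
    simp only [Finsupp.smul_apply, Finsupp.single_apply, smul_eq_mul]
    by_cases hij : i = j
    · subst hij; simp
    · rw [if_neg (Ne.symm hij), if_neg hij, mul_zero]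
  have hrank : finrank k M = n + 1 := by
    rw [Module.finrank_eq_card_basis b, Fintype.card_fin]
  rw [LinearMap.trace_eq_matrix_trace k b, hmat, Matrix.trace_diagonal, hrank]
  have e1 : ∑ i : Fin (n + 1), c i ^ 2 = ∑ i ∈ Finset.range (n + 1), ((n : k) - 2 * (i : k)) ^ 2 :=
    Fin.sum_univ_eq_sum_range (fun i => ((n : k) - 2 * (i : k)) ^ 2) (n + 1)
  rw [e1]
  have e2 := congrArg (fun z : ℤ => (z : k)) (sum_sq n)
  push_cast at e2
  rw [e2]

include hspan in
theorem main {V : Type*} [AddCommGroup V] [Module k V] [LieRingModule L V] [LieModule k L V]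
    [FiniteDimensional k V]
    {ι : Type} [Fintype ι] [DecidableEq ι] (W : ι → LieSubmodule k L V)
    (hW : DirectSum.IsInternal fun i => (W i).toSubmodule)
    (hirr : ∀ i, LieModule.IsIrreducible k L (W i)) :
    LinearMap.trace k V ((LieModule.toEnd k L V h) ^ 2) =
      2 * ∑ i, (((Module.finrank k (W i) + 1).choose 3 : ℕ) : k) := by
  have hmaps : ∀ i, Set.MapsTo (⇑((toEnd k L V h) ^ 2 : Module.End k V)) ((W i).toSubmodule : Set V)
      ((W i).toSubmodule : Set V) := by
    intro i w hw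
    rw [pow_two, Module.End.mul_apply, toEnd_apply_apply, toEnd_apply_apply]
    exact (W i).lie_mem ((W i).lie_mem hw)
  rw [LinearMap.trace_eq_sum_trace_restrict hW hmaps, Finset.mul_sum]
  refine Finset.sum_congr rfl fun i _ => ?_
  have key : LinearMap.trace k ↥(W i).toSubmodule (((toEnd k L V h) ^ 2).restrict (hmaps i)) =
      LinearMap.trace k ↥(W i) ((toEnd k L (W i) h) ^ 2) := by
    congr 1
  rw [key]
  have := hirr i
  have h2 := trace_irr (M := ↥(W i)) t hspan
  exact h2

end Groth.Agent.Lib.Helper24Sl2
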