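import Mathlib
import Groth.Prelude.Def_W4c1hilbpnTgt
import Groth.Agent.Lib.Helper20Monomial
import Groth.Agent.Lib.Helper24TgtPiece
import Groth.Agent.Lib.Helper24TgtPiece2
import Groth.Agent.Lib.Helper24TgtPiece3
import Groth.Agent.Lib.Helper24TgtPiece4
import Groth.Agent.Lib.Helper24TgtPiece7

set_option autoImplicit false
universe u

namespace Groth.Agent.Lib.Helper24TgtPiece

open W4c1hilbpn MvPolynomial
open Groth.Agent.Lib.Helper20

variable {k : Type*} [Field k]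
variable {I : Ideal (MvPolynomial (Fin 3) k)}

lemma eq_e3 (β : Fin 3 →₀ ℕ) : β = e3 (β 0) (β 1) (β 2) := by
  apply e3_ext
  · rw [e3_zero]
  · rw [e3_one]
  · rw [e3_two]

lemma e3_add_single2 (i j c d : ℕ) : e3 i j (c + d) = e3 i j c + Finsupp.single 2 d := by
  apply e3_ext
  · rw [Finsupp.add_apply, e3_zero, e3_zero, Finsupp.single_eq_of_ne (by decide), add_zero]
  · rw [Finsupp.add_apply, e3_one, e3_one, Finsupp.single_eq_of_ne (by decide), add_zero]
  · rw [Finsupp.add_apply, e3_two, e3_two, Finsupp.single_eq_same]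

lemma e3_add_single0 (i j c d : ℕ) : e3 (i + d) j c = e3 i j c + Finsupp.single 0 d := by
  apply e3_ext
  · rw [Finsupp.add_apply, e3_zero, e3_zero, Finsupp.single_eq_same]
  · rw [Finsupp.add_apply, e3_one, e3_one, Finsupp.single_eq_of_ne (by decide), add_zero]
  · rw [Finsupp.add_apply, e3_two, e3_two, Finsupp.single_eq_of_ne (by decide), add_zero]

lemma e3_add_single1 (i j c d : ℕ) : e3 i (j + d) c = e3 i j c + Finsupp.single 1 d := by
  apply e3_ext
  · rw [Finsupp.add_apply, e3_zero, e3_zero, Finsupp.single_eq_of_ne (by decide), add_zero]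
  · rw [Finsupp.add_apply, e3_one, e3_one, Finsupp.single_eq_same]
  · rw [Finsupp.add_apply, e3_two, e3_two, Finsupp.single_eq_of_ne (by decide), add_zero]

/-- columns of the staircase are initial segments -/
lemma e3_notMem_iff (hI : IsMonomial I) [Module.Finite k (MvPolynomial (Fin 3) k ⧸ I)]
    (i j w : ℕ) : e3 i j w ∉ exps I ↔ w < stairZ I i j := by
  classical
  haveI := finite_compl_exps I hI
  haveI hfinT : Finite {c : ℕ // e3 i j c ∉ exps I} := by
    apply Finite.of_injective (fun c : {c : ℕ // e3 i j c ∉ exps I} =>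
      (⟨e3 i j c.1, c.2⟩ : {β : Fin 3 →₀ ℕ // β ∉ exps I}))
    intro c c' h
    apply Subtype.ext
    have h1 := congrArg (fun b : {β : Fin 3 →₀ ℕ // β ∉ exps I} => b.1 2) h
    simpa [e3_two] using h1
  have hfinS : {c : ℕ | e3 i j c ∉ exps I}.Finite := Set.finite_coe_iff.mp hfinT
  have hdown : ∀ c c', c' ≤ c → e3 i j c ∉ exps I → e3 i j c' ∉ exps I := by
    intro c c' hle hc hc'
    apply hc
    have h1 : e3 i j c = e3 i j c' + Finsupp.single 2 (c - c') := by
      rw [← e3_add_single2]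
      congr 1
      omega
    rw [h1]
    exact exps_add hc' _
  have hcard : stairZ I i j = {c : ℕ | e3 i j c ∉ exps I}.ncard :=
    Nat.card_coe_set_eq _
  rw [hcard]
  constructor
  · intro hw
    have hsub : ((Finset.range (w+1) : Finset ℕ) : Set ℕ) ⊆ {c : ℕ | e3 i j c ∉ exps I} := by
      intro c hc
      rw [Finset.mem_coe, Finset.mem_range] at hc
      exact hdown w c (by omega) hw
    have h1 := Set.ncard_le_ncard hsub hfinS
    rw [Set.ncard_coe_finset, Finset.card_range] at h1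
    omega
  · intro hw hmem
    have hsub : {c : ℕ | e3 i j c ∉ exps I} ⊆ ((Finset.range w : Finset ℕ) : Set ℕ) := by
      intro c hc
      rw [Finset.mem_coe, Finset.mem_range]
      by_contra hcw
      exact hdown c w (by omega) hc hmem
    have h1 := Set.ncard_le_ncard hsub (Finset.finite_toSet _)
    rw [Set.ncard_coe_finset, Finset.card_range] at h1
    omega

lemma stairZ_le_zero (hI : IsMonomial I) [Module.Finite k (MvPolynomial (Fin 3) k ⧸ I)]
    (u v : ℕ) : stairZ I u v ≤ stairZ I 0 0 := by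
  by_contra hcon
  push Not at hcon
  have h1 : e3 u v (stairZ I 0 0) ∉ exps I := (e3_notMem_iff hI u v _).mpr hcon
  have h2 : e3 0 0 (stairZ I 0 0) ∈ exps I := by
    by_contra h
    exact absurd ((e3_notMem_iff hI 0 0 _).mp h) (lt_irrefl _)
  apply h1
  have h3 : e3 u v (stairZ I 0 0) = e3 0 0 (stairZ I 0 0) + Finsupp.single 0 u +
      Finsupp.single 1 v := by
    rw [← e3_add_single0, ← e3_add_single1, zero_add, zero_add]
  rw [h3]
  exact exps_add (exps_add h2 _) _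

/-- the multidegrees `(a1, a2, -(c+1))` -/
def αc (a1 a2 c : ℕ) : Fin 3 → ℤ := ![(a1 : ℤ), (a2 : ℤ), -((c : ℤ) + 1)]

lemma αc_0 (a1 a2 c : ℕ) : αc a1 a2 c 0 = a1 := rfl
lemma αc_1 (a1 a2 c : ℕ) : αc a1 a2 c 1 = a2 := rfl
lemma αc_2 (a1 a2 c : ℕ) : αc a1 a2 c 2 = -((c : ℤ) + 1) := rfl

lemma αc_injective (a1 a2 : ℕ) : Function.Injective (αc a1 a2) := by
  intro c c' h
  have h1 := congrFun h 2
  rw [αc_2, αc_2] at h1
  omega

/-- every bounded component has a distinguished point: maximal in `x + y`, then lowest. -/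
lemma exists_top (hI : IsMonomial I) [Module.Finite k (MvPolynomial (Fin 3) k ⧸ I)]
    (α : Fin 3 → ℤ) (hα2 : α 2 < 0) (C : BC I α) :
    ∃ β₀ : Fin 3 →₀ ℕ, ∃ (_ : β₀ ∈ exps I) (hr : pt α β₀ ∈ region I α),
      (RG I α).connectedComponentMk ⟨pt α β₀, hr⟩ = C.1 ∧
      (∀ m, 0 ≤ (β₀ m : ℤ) + α m) ∧
      shift β₀ α ∉ exps I ∧
      shift β₀ α + Finsupp.single 0 1 ∈ exps I ∧
      shift β₀ α + Finsupp.single 1 1 ∈ exps I ∧
      β₀ - Finsupp.single 2 1 ∉ exps I := by
  classical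
  -- first maximize x + y
  obtain ⟨v₁, hv₁, hmax₁⟩ := Set.exists_max_image C.1.supp
    (fun v : ↥(region I α) => v.1 0 + v.1 1) C.2 C.1.nonempty_supp
  -- then minimize z among the maximizers
  have hfin2 : {v ∈ C.1.supp | v.1 0 + v.1 1 = v₁.1 0 + v₁.1 1}.Finite :=
    C.2.subset (fun v hv => hv.1)
  obtain ⟨v₀, hv₀', hmin⟩ := Set.exists_min_image _
    (fun v : ↥(region I α) => v.1 2) hfin2 ⟨v₁, hv₁, rfl⟩
  obtain ⟨hv₀, hsum₀⟩ := hv₀'
  have hmax : ∀ v ∈ C.1.supp, v.1 0 + v.1 1 ≤ v₀.1 0 + v₀.1 1 := by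
    intro v hv
    rw [hsum₀]
    exact hmax₁ v hv
  have hmin' : ∀ v ∈ C.1.supp, v.1 0 + v.1 1 = v₀.1 0 + v₀.1 1 → v₀.1 2 ≤ v.1 2 := by
    intro v hv hs
    exact hmin v ⟨hv, hs.trans hsum₀⟩
  rw [SimpleGraph.ConnectedComponent.mem_supp_iff] at hv₀
  have hnn : ∀ m, 0 ≤ v₀.1 m := by
    by_contra hcon
    push Not at hcon
    have h1 := infinite_supp_of_neg v₀ hcon
    rw [hv₀] at h1
    exact h1 C.2
  obtain ⟨⟨β₀, hβ₀, hvβ⟩, hn⟩ := v₀.2
  have hpt : pt α β₀ = v₀.1 := hvβ.symm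
  have hr : pt α β₀ ∈ region I α := hpt ▸ v₀.2
  have hv₀eq : (⟨pt α β₀, hr⟩ : ↥(region I α)) = v₀ := Subtype.ext hpt
  have hnnβ : ∀ m, 0 ≤ (β₀ m : ℤ) + α m := by
    intro m
    have := hnn m
    rw [hvβ] at this
    exact this
  have hnsβ : shift β₀ α ∉ exps I := fun h => (mem_region_pt hβ₀).mp hr ⟨hnnβ, h⟩
  have hmemC : ∀ (β : Fin 3 →₀ ℕ) (hrβ : pt α β ∈ region I α),
      (RG I α).Reachable v₀ ⟨pt α β, hrβ⟩ → (⟨pt α β, hrβ⟩ : ↥(region I α)) ∈ C.1.supp := by
    intro β hrβ hreach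
    rw [SimpleGraph.ConnectedComponent.mem_supp_iff, ← hv₀, SimpleGraph.ConnectedComponent.eq]
    exact hreach.symm
  have hstepup : ∀ i : Fin 3, (i = 0 ∨ i = 1) →
      shift β₀ α + Finsupp.single i 1 ∈ exps I := by
    intro i hi
    by_contra hcon
    have hβ' := exps_add hβ₀ (Finsupp.single i 1)
    have hr' : pt α (β₀ + Finsupp.single i 1) ∈ region I α :=
      (mem_region_pt hβ').mpr (fun h => hcon (by
        rw [← shift_add_of_nonneg α _ hnnβ]; exact h.2))
    have hreach : (RG I α).Reachable v₀ ⟨_, hr'⟩ := by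
      rw [← hv₀eq]
      exact SimpleGraph.Adj.reachable (SimpleGraph.induce_adj.mpr (adj_step α β₀ i))
    have hle := hmax _ (hmemC _ hr' hreach)
    rw [← hpt] at hle
    simp only [pt, Finsupp.add_apply, Finsupp.single_apply, Nat.cast_add] at hle
    rcases hi with rfl | rfl
    · simp at hle
    · simp at hle
  refine ⟨β₀, hβ₀, hr, by rw [hv₀eq]; exact hv₀, hnnβ, hnsβ, hstepup 0 (Or.inl rfl),
    hstepup 1 (Or.inr rfl), ?_⟩
  intro hmem1
  have hpos : 1 ≤ β₀ 2 := by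
    have h2 := hnnβ 2
    omega
  have hadd : β₀ - Finsupp.single 2 1 + Finsupp.single 2 1 = β₀ := by
    apply tsub_add_cancel_of_le
    rw [Finsupp.single_le_iff]
    exact hpos
  obtain ⟨β₁, hβ₁⟩ : ∃ β₁, β₁ = β₀ - Finsupp.single 2 1 := ⟨_, rfl⟩
  rw [← hβ₁] at hmem1 hadd
  have hr1 : pt α β₁ ∈ region I α := by
    rw [mem_region_pt hmem1]
    rintro ⟨h1, h2⟩
    apply hnsβ
    rw [← hadd, shift_add_of_nonneg α _ h1]
    exact exps_add h2 _
  have hadj : (stepGraph (Fin 3)).Adj (pt α β₁) (pt α β₀) := by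
    have := adj_step α β₁ 2
    rw [hadd] at this
    exact this
  have hreach : (RG I α).Reachable v₀ ⟨pt α β₁, hr1⟩ := by
    rw [← hv₀eq]
    exact (SimpleGraph.Adj.reachable (SimpleGraph.induce_adj.mpr hadj)).symm
  have hmem := hmemC β₁ hr1 hreach
  have hcoord : ∀ m : Fin 3, β₁ m + (Finsupp.single 2 1 : Fin 3 →₀ ℕ) m = β₀ m := by
    intro m
    rw [← Finsupp.add_apply, hadd]
  have h0 := hcoord 0
  have h1 := hcoord 1
  have h2 := hcoord 2
  rw [Finsupp.single_eq_of_ne (by decide), add_zero] at h0 h1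
  rw [Finsupp.single_eq_same] at h2
  have hs : (pt α β₁) 0 + (pt α β₁) 1 = v₀.1 0 + v₀.1 1 := by
    rw [← hpt]
    simp only [pt, h0, h1]
  have hle := hmin' _ hmem hs
  rw [← hpt] at hle
  simp only [pt] at hle
  omega

end Groth.Agent.Lib.Helper24TgtPiece
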