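import Mathlib
import Groth.Prelude.Def_W4c1hilbpnTgt
import Groth.Agent.Lib.Helper20Monomial
import Groth.Agent.Lib.Helper24TgtPiece
import Groth.Agent.Lib.Helper24TgtStair

set_option autoImplicit false
universe u

namespace Groth.Agent.Lib.Helper24Slice

open W4c1hilbpn MvPolynomial
open Groth.Agent.Lib.Helper20
open Groth.Agent.Lib.Helper24TgtPiece

section general

variable {σ : Type*} {k : Type*} [Field k]

/-- standard monomials span the quotient by a monomial ideal -/
lemma span_monomial_compl_exps (I : Ideal (MvPolynomial σ k)) :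
    ⊤ ≤ Submodule.span k (Set.range (fun β : {β : σ →₀ ℕ // β ∉ exps I} =>
      Ideal.Quotient.mk I (monomial β.1 (1 : k)))) := by
  rintro q -
  obtain ⟨p, rfl⟩ := Ideal.Quotient.mk_surjective q
  rw [← support_sum_monomial_coeff p, map_sum]
  apply Submodule.sum_mem
  intro β _
  rw [mk_monomial_smul]
  apply Submodule.smul_mem
  by_cases h : β ∈ exps I
  · rw [mk_monomial_eq_zero.mpr h]
    exact Submodule.zero_mem _
  · exact Submodule.subset_span ⟨⟨β, h⟩, rfl⟩

/-- the colength of a monomial ideal is the number of standard monomials -/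
theorem finrank_quot_eq_card (I : Ideal (MvPolynomial σ k)) (hI : IsMonomial I)
    [Finite {β : σ →₀ ℕ // β ∉ exps I}] :
    Module.finrank k (MvPolynomial σ k ⧸ I) = Nat.card {β : σ →₀ ℕ // β ∉ exps I} := by
  haveI := Fintype.ofFinite {β : σ →₀ ℕ // β ∉ exps I}
  have b := Module.Basis.mk (linearIndependent_monomial_compl_exps I hI)
    (span_monomial_compl_exps I)
  rw [Module.finrank_eq_card_basis b, Nat.card_eq_fintype_card]

/-- monomial ideals are determined by their exponent sets -/
lemma eq_of_exps_eq {I J : Ideal (MvPolynomial σ k)} (hI : IsMonomial I) (hJ : IsMonomial J)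
    (h : exps I = exps J) : I = J := by
  have key : ∀ {I J : Ideal (MvPolynomial σ k)}, IsMonomial I → exps I ⊆ exps J → I ≤ J := by
    intro I J hI hsub p hp
    rw [← support_sum_monomial_coeff p]
    apply Ideal.sum_mem
    intro β hβ
    have h2 : monomial β (coeff β p) = C (coeff β p) * monomial β 1 := by
      rw [C_mul_monomial, mul_one]
    rw [h2]
    exact Ideal.mul_mem_left _ _ (hsub (hI p hp β hβ))
  exact le_antisymm (key hI h.le) (key hJ h.ge)

end general

section slices

variable {k : Type*} [Field k]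

/-- embed an exponent of `k[y,z]` into `k[x,y,z]` with `x`-exponent `a` -/
noncomputable def emb (β : Fin 2 →₀ ℕ) (a : ℕ) : Fin 3 →₀ ℕ :=
  β.mapDomain Fin.succ + Finsupp.single 0 a

lemma mem_slice (I : Ideal (MvPolynomial (Fin 3) k)) (a : ℕ) (f : MvPolynomial (Fin 2) k) :
    f ∈ sliceX I a ↔ rename Fin.succ f * X 0 ^ a ∈ I := by
  unfold sliceX
  rw [Ideal.mem_comap, Submodule.mem_colon_singleton, smul_eq_mul]
  rfl

lemma coeff_emb (f : MvPolynomial (Fin 2) k) (β : Fin 2 →₀ ℕ) (a : ℕ) :
    coeff (emb β a) (rename Fin.succ f * X 0 ^ a) = coeff β f := by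
  rw [X_pow_eq_monomial, emb, coeff_mul_monomial, mul_one,
    coeff_rename_mapDomain _ (Fin.succ_injective 2)]

lemma exps_slice (I : Ideal (MvPolynomial (Fin 3) k)) (a : ℕ) (β : Fin 2 →₀ ℕ) :
    β ∈ exps (sliceX I a) ↔ emb β a ∈ exps I := by
  change monomial β (1 : k) ∈ sliceX I a ↔ monomial (emb β a) (1 : k) ∈ I
  rw [mem_slice, rename_monomial, X_pow_eq_monomial, monomial_mul, mul_one]
  rfl

lemma isMonomial_slice (I : Ideal (MvPolynomial (Fin 3) k)) (hI : IsMonomial I) (a : ℕ) :
    IsMonomial (sliceX I a) := by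
  intro p hp β hβ
  change β ∈ exps (sliceX I a)
  rw [exps_slice]
  refine hI _ ((mem_slice I a p).1 hp) _ (MvPolynomial.mem_support_iff.2 ?_)
  rw [coeff_emb]
  exact MvPolynomial.mem_support_iff.1 hβ

lemma emb_apply_zero (β : Fin 2 →₀ ℕ) (a : ℕ) : emb β a 0 = a := by
  unfold emb
  rw [Finsupp.add_apply, Finsupp.single_eq_same, Finsupp.mapDomain_notin_range, zero_add]
  rintro ⟨j, hj⟩
  exact Fin.succ_ne_zero j hj

lemma emb_apply_succ (β : Fin 2 →₀ ℕ) (a : ℕ) (j : Fin 2) : emb β a j.succ = β j := by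
  unfold emb
  rw [Finsupp.add_apply, Finsupp.mapDomain_apply (Fin.succ_injective 2),
    Finsupp.single_apply, if_neg (Fin.succ_ne_zero j).symm, add_zero]

lemma emb_eq_e3 (β : Fin 2 →₀ ℕ) (a : ℕ) : emb β a = e3 a (β 0) (β 1) := by
  apply e3_ext
  · rw [e3_zero, emb_apply_zero]
  · rw [e3_one]; exact emb_apply_succ β a 0
  · rw [e3_two]; exact emb_apply_succ β a 1

end slices

end Groth.Agent.Lib.Helper24Slice
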