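import Mathlib
import Groth.Prelude.Def_W4c1hilbpnTgt
import Groth.Agent.Lib.Helper20Monomial
import Groth.Agent.Lib.Helper24TgtPiece
import Groth.Agent.Lib.Helper24TgtPiece2
import Groth.Agent.Lib.Helper24TgtPiece3

set_option autoImplicit false
universe u

namespace Groth.Agent.Lib.Helper24TgtPiece

open W4c1hilbpn MvPolynomial

variable {σ : Type*} {k : Type*} [Field k] [Fintype σ]

section isolated

variable {I : Ideal (MvPolynomial σ k)} {α : σ → ℤ}

lemma pt_injective (α : σ → ℤ) : Function.Injective (pt α) := by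
  intro β β' h
  rw [← bOf_pt α β, ← bOf_pt α β', h]

lemma eq_of_reachable_of_isolated {V : Type*} {G : SimpleGraph V} {v u : V}
    (hv : ∀ u, ¬ G.Adj v u) (h : G.Reachable v u) : u = v := by
  obtain ⟨p⟩ := h
  cases p with
  | nil => rfl
  | cons hadj _ => exact absurd hadj (hv _)

/-- If all nonnegative points of the region are isolated, the graded piece has dimension the
number of such points. -/
theorem finrank_tPiece_of_isolated (hI : IsMonomial I) [Module.Finite k (MvPolynomial σ k ⧸ I)]
    [Nontrivial σ] (X : Finset (σ →₀ ℕ))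
    (hX : ∀ β ∈ X, β ∈ exps I ∧ (∀ i, 0 ≤ (β i : ℤ) + α i) ∧ shift β α ∉ exps I)
    (hall : ∀ β ∈ exps I, (∀ i, 0 ≤ (β i : ℤ) + α i) → shift β α ∉ exps I → β ∈ X)
    (hiso : ∀ β ∈ X, ∀ γ ∈ region I α, ¬ (stepGraph σ).Adj (pt α β) γ) :
    Module.finrank k ↥(tPiece I α) = X.card := by
  classical
  rw [finrank_tPiece hI, nBddComp]
  have hmem : ∀ b : ↥X, pt α b.1 ∈ region I α := fun b =>
    (mem_region_pt (hX b.1 b.2).1).mpr (fun h => (hX b.1 b.2).2.2 h.2)
  have hisoG : ∀ b : ↥X, ∀ u : ↥(region I α), ¬ (RG I α).Adj ⟨pt α b.1, hmem b⟩ u := by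
    intro b u hadj
    exact hiso b.1 b.2 u.1 u.2 (SimpleGraph.induce_adj.mp hadj)
  have hfin : ∀ b : ↥X, ((RG I α).connectedComponentMk ⟨pt α b.1, hmem b⟩).supp.Finite := by
    intro b
    refine (Set.finite_singleton (⟨pt α b.1, hmem b⟩ : ↥(region I α))).subset ?_
    intro u hu
    rw [SimpleGraph.ConnectedComponent.mem_supp_iff, SimpleGraph.ConnectedComponent.eq] at hu
    exact eq_of_reachable_of_isolated (hisoG b) hu.symm
  have hbij : Function.Bijective (fun b : ↥X =>
      (⟨(RG I α).connectedComponentMk ⟨pt α b.1, hmem b⟩, hfin b⟩ : BC I α)) := by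
    constructor
    · intro b b' h
      have h1 := congrArg Subtype.val h
      simp only at h1
      rw [SimpleGraph.ConnectedComponent.eq] at h1
      have h2 := eq_of_reachable_of_isolated (hisoG b) h1
      apply Subtype.ext
      exact (pt_injective α (congrArg Subtype.val h2)).symm
    · intro C
      obtain ⟨v, hv⟩ := C.1.nonempty_supp
      rw [SimpleGraph.ConnectedComponent.mem_supp_iff] at hv
      have hnn : ∀ i, 0 ≤ v.1 i := by
        by_contra hcon
        push Not at hcon
        have h1 := infinite_supp_of_neg v hcon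
        rw [hv] at h1
        exact h1 C.2
      obtain ⟨⟨β, hβ, hvβ⟩, hn⟩ := v.2
      have hnnβ : ∀ i, 0 ≤ (β i : ℤ) + α i := by
        intro i
        have := hnn i
        rw [hvβ] at this
        exact this
      have hpt : pt α β = v.1 := hvβ.symm
      have hns : shift β α ∉ exps I := by
        intro h
        exact (mem_region_pt hβ).mp (hpt ▸ v.2) ⟨hnnβ, h⟩
      have hβX : β ∈ X := hall β hβ hnnβ hns
      refine ⟨⟨β, hβX⟩, ?_⟩
      apply Subtype.ext
      show (RG I α).connectedComponentMk ⟨pt α β, _⟩ = C.1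
      rw [← hv]
      congr 1
      exact Subtype.ext hpt
  rw [← Nat.card_congr (Equiv.ofBijective _ hbij), Nat.card_eq_fintype_card, Fintype.card_coe]

end isolated

section power

/-- powers of the irrelevant ideal -/
noncomputable abbrev mI (σ : Type*) (k : Type*) [Field k] (r : ℕ) : Ideal (MvPolynomial σ k) :=
  (Ideal.span (Set.range (X : σ → MvPolynomial σ k))) ^ r

lemma exps_mI_iff (r : ℕ) (β : σ →₀ ℕ) : β ∈ exps (mI σ k r) ↔ r ≤ β.degree := by
  classical
  show monomial β (1:k) ∈ idealOfVars σ k ^ r ↔ _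
  rw [mem_pow_idealOfVars_iff, support_monomial, if_neg one_ne_zero]
  simp only [Finset.mem_singleton, forall_eq]

lemma isMonomial_mI (r : ℕ) : IsMonomial (mI σ k r) := by
  intro p hp β hβ
  have h1 := (mem_pow_idealOfVars_iff r p).mp hp β hβ
  exact (exps_mI_iff r β).mpr h1

instance finite_mI (r : ℕ) : Module.Finite k (MvPolynomial σ k ⧸ mI σ k r) := by
  classical
  refine Module.finite_def.mpr ⟨((Finset.range r).biUnion
    (fun d => (Finset.univ : Finset σ).finsuppAntidiag d)).image
      (fun γ => Ideal.Quotient.mk (mI σ k r) (monomial γ (1:k))), ?_⟩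
  rw [eq_top_iff]
  rintro q -
  obtain ⟨p, rfl⟩ := Ideal.Quotient.mk_surjective q
  rw [← support_sum_monomial_coeff p, map_sum]
  apply Submodule.sum_mem
  intro β _
  rw [mk_monomial_smul]
  apply Submodule.smul_mem
  by_cases h : β ∈ exps (mI σ k r)
  · rw [mk_monomial_eq_zero.mpr h]
    exact Submodule.zero_mem _
  · apply Submodule.subset_span
    rw [exps_mI_iff, not_le] at h
    simp only [Finset.coe_image, Set.mem_image, Finset.mem_coe]
    refine ⟨β, ?_, rfl⟩
    rw [Finset.mem_biUnion]
    refine ⟨β.degree, Finset.mem_range.mpr h, ?_⟩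
    rw [Finset.mem_finsuppAntidiag]
    exact ⟨(Finsupp.degree_eq_sum β).symm, Finset.subset_univ _⟩

lemma degree_shift (β : σ →₀ ℕ) (α : σ → ℤ) (h : ∀ i, 0 ≤ (β i : ℤ) + α i) :
    ((shift β α).degree : ℤ) = (β.degree : ℤ) + ∑ i, α i := by
  rw [Finsupp.degree_eq_sum, Finsupp.degree_eq_sum, Nat.cast_sum, Nat.cast_sum,
    ← Finset.sum_add_distrib]
  apply Finset.sum_congr rfl
  intro i _
  rw [shift_apply]
  exact Int.toNat_of_nonneg (h i)

lemma shift_mem_mI_iff (r : ℕ) (β : σ →₀ ℕ) (α : σ → ℤ) (h : ∀ i, 0 ≤ (β i : ℤ) + α i) :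
    shift β α ∈ exps (mI σ k r) ↔ (r : ℤ) ≤ (β.degree : ℤ) + ∑ i, α i := by
  rw [exps_mI_iff, ← degree_shift β α h, Nat.cast_le]

/-- total degree at least zero: no tangent vectors -/
lemma tPiece_mI_eq_bot_of_sum_nonneg (r : ℕ) (α : σ → ℤ) (hα : 0 ≤ ∑ i, α i) :
    tPiece (mI σ k r) α = ⊥ := by
  rw [eq_bot_iff]
  intro φ hφ
  rw [Submodule.mem_bot]
  obtain ⟨F, hF, hFe⟩ := exists_good_of_mem hφ
  apply ext_monomial (isMonomial_mI r)
  intro β hβ
  rw [hFe, LinearMap.zero_apply]
  unfold gF
  by_cases hnn : ∀ i, 0 ≤ (β i : ℤ) + α i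
  · have hs : shift β α ∈ exps (mI σ k r) := by
      rw [shift_mem_mI_iff r β α hnn]
      have h1 := (exps_mI_iff (k := k) r β).mp hβ
      have h2 : (r : ℤ) ≤ (β.degree : ℤ) := by exact_mod_cast h1
      omega
    rw [mk_monomial_eq_zero.mpr hs, smul_zero]
  · push Not at hnn
    obtain ⟨i, hi⟩ := hnn
    have hr1 : pt α β ∈ region (mI σ k r) α :=
      (mem_region_pt hβ).mpr (fun h => absurd (h.1 i) (not_le.mpr hi))
    rw [hF.neg _ hr1 ⟨i, hi⟩, zero_smul]

/-- total degree at most `-2`: no tangent vectors -/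
lemma tPiece_mI_eq_bot_of_sum_le [Nontrivial σ] (r : ℕ) (α : σ → ℤ) (hα : ∑ i, α i ≤ -2) :
    tPiece (mI σ k r) α = ⊥ := by
  classical
  rw [eq_bot_iff]
  intro φ hφ
  rw [Submodule.mem_bot]
  obtain ⟨F, hF, hFe⟩ := exists_good_of_mem hφ
  have hex : ∃ i0, α i0 < 0 := by
    by_contra hcon
    push Not at hcon
    have := Finset.sum_nonneg (fun i (_ : i ∈ Finset.univ) => hcon i)
    omega
  obtain ⟨i0, hi0⟩ := hex
  obtain ⟨j, hj⟩ := exists_ne i0
  have hZ : ∀ m : ℕ, ∀ β, β ∈ exps (mI σ k r) → (∀ i, 0 ≤ (β i : ℤ) + α i) →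
      pt α β ∈ region (mI σ k r) α → (β i0 : ℤ) + α i0 = m → F (pt α β) = 0 := by
    intro m
    induction m using Nat.strong_induction_on with
    | _ m IH =>
      have hdown : ∀ β, β ∈ exps (mI σ k r) → r + 1 ≤ β.degree → (∀ i, 0 ≤ (β i : ℤ) + α i) →
          pt α β ∈ region (mI σ k r) α → (β i0 : ℤ) + α i0 = m → F (pt α β) = 0 := by
        intro β hβ hdeg hnn hr hm
        have hpos : 1 ≤ β i0 := by
          have := hnn i0
          omega
        obtain ⟨B', hB'def⟩ : ∃ B', B' = β - Finsupp.single i0 1 := ⟨_, rfl⟩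
        have hB'add : B' + Finsupp.single i0 1 = β := by
          rw [hB'def]
          apply tsub_add_cancel_of_le
          rw [Finsupp.single_le_iff]
          exact hpos
        have hdegB' : B'.degree + 1 = β.degree := by
          rw [← hB'add, map_add, Finsupp.degree_single]
        have hB'mem : B' ∈ exps (mI σ k r) := by
          rw [exps_mI_iff]
          omega
        have hns : ¬ ((r : ℤ) ≤ (β.degree : ℤ) + ∑ i, α i) := by
          intro h
          exact (mem_region_pt hβ).mp hr ⟨hnn, (shift_mem_mI_iff r β α hnn).mpr h⟩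
        have hr'' : pt α B' ∈ region (mI σ k r) α := by
          rw [mem_region_pt hB'mem]
          rintro ⟨h1, h2⟩
          rw [shift_mem_mI_iff r B' α h1] at h2
          have : (B'.degree : ℤ) + 1 = β.degree := by exact_mod_cast hdegB'
          omega
        have hrt' : pt α (B' + Finsupp.single i0 1) ∈ region (mI σ k r) α := by
          rw [hB'add]; exact hr
        have hadj := hF.adj _ _ hr'' hrt' (adj_step α B' i0)
        rw [hB'add] at hadj
        rw [← hadj]
        have hB'i0 : (B' i0 : ℤ) + 1 = β i0 := by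
          have h3 : B' i0 + (Finsupp.single i0 1 : σ →₀ ℕ) i0 = β i0 := by
            rw [← Finsupp.add_apply, hB'add]
          simp only [Finsupp.single_eq_same] at h3
          omega
        by_cases hm0 : m = 0
        · apply hF.neg _ hr''
          refine ⟨i0, ?_⟩
          show (B' i0 : ℤ) + α i0 < 0
          omega
        · refine IH (m - 1) (by omega) B' hB'mem ?_ hr'' ?_
          · intro i
            by_cases hi : i = i0
            · subst hi
              omega
            · have h3 : B' i + (Finsupp.single i0 1 : σ →₀ ℕ) i = β i := by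
                rw [← Finsupp.add_apply, hB'add]
              simp only [Finsupp.single_apply, if_neg (Ne.symm hi), add_zero] at h3
              have := hnn i
              rw [h3]
              exact this
          · omega
      intro β hβ hnn hr hm
      by_cases hdeg : r + 1 ≤ β.degree
      · exact hdown β hβ hdeg hnn hr hm
      · have hdeg0 := (exps_mI_iff (k := k) r β).mp hβ
        have hdegr : β.degree = r := by omega
        have hβ'' : β + Finsupp.single j 1 ∈ exps (mI σ k r) := exps_add hβ _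
        have hdeg'' : (β + Finsupp.single j 1).degree = r + 1 := by
          rw [map_add, Finsupp.degree_single, hdegr]
        have hnn'' : ∀ i, 0 ≤ (((β + Finsupp.single j 1 : σ →₀ ℕ) i : ℕ) : ℤ) + α i := by
          intro i
          have := hnn i
          simp only [Finsupp.add_apply, Nat.cast_add]
          omega
        have hr'' : pt α (β + Finsupp.single j 1) ∈ region (mI σ k r) α := by
          rw [mem_region_pt hβ'']
          rintro ⟨h1, h2⟩
          rw [shift_mem_mI_iff r _ α h1, hdeg''] at h2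
          push_cast at h2
          omega
        rw [hF.adj _ _ hr hr'' (adj_step α β j)]
        refine hdown _ hβ'' (by omega) hnn'' hr'' ?_
        rw [Finsupp.add_apply, Finsupp.single_apply, if_neg hj, add_zero]
        exact hm
  apply ext_monomial (isMonomial_mI r)
  intro β hβ
  rw [hFe, LinearMap.zero_apply]
  unfold gF
  by_cases hr : pt α β ∈ region (mI σ k r) α
  · by_cases hnn : ∀ i, 0 ≤ (β i : ℤ) + α i
    · have hm : (β i0 : ℤ) + α i0 = ((β i0 : ℤ) + α i0).toNat :=
        (Int.toNat_of_nonneg (hnn i0)).symm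
      rw [hZ _ β hβ hnn hr hm, zero_smul]
    · push Not at hnn
      rw [hF.neg _ hr hnn, zero_smul]
  · rw [mem_region_pt hβ, not_not] at hr
    rw [mk_monomial_eq_zero.mpr hr.2, smul_zero]

end power

end Groth.Agent.Lib.Helper24TgtPiece
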