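import Mathlib
import Groth.Prelude.Def_W4c1hilbpnTgt
import Groth.Agent.Lib.Helper20Monomial
import Groth.Agent.Lib.Helper24TgtPiece
import Groth.Agent.Lib.Helper24TgtPiece2
import Groth.Agent.Lib.Helper24TgtPiece3
import Groth.Agent.Lib.Helper24TgtPiece5

set_option autoImplicit false
universe u

namespace Groth.Agent.Lib.Helper24TgtPiece

open W4c1hilbpn MvPolynomial

variable {σ : Type*} {k : Type*} [Field k] [Fintype σ]

/-- the vector of negative parts of `α` -/
noncomputable def wv (α : σ → ℤ) : σ →₀ ℕ :=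
  Finsupp.equivFunOnFinite.symm fun i => (-α i).toNat

lemma wv_apply (α : σ → ℤ) (i : σ) : wv α i = (-α i).toNat := rfl

lemma degree_wv (α : σ → ℤ) : (wv α).degree = ∑ i, (-α i).toNat := by
  rw [Finsupp.degree_eq_sum]
  rfl

theorem finrank_tPiece_mI_of_sum_eq [Nontrivial σ] (r : ℕ) (α : σ → ℤ) (hα : ∑ i, α i = -1) :
    Module.finrank k ↥(tPiece (mI σ k r) α) =
      if (∑ i, (-α i).toNat ≤ r) then
        Nat.choose (Fintype.card σ + r - (∑ i, (-α i).toNat) - 1) (Fintype.card σ - 1) else 0 := by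
  classical
  have hchar : ∀ β, β ∈ exps (mI σ k r) → (∀ i, 0 ≤ (β i : ℤ) + α i) →
      shift β α ∉ exps (mI σ k r) → β.degree = r ∧ wv α ≤ β := by
    intro β hβ hnn hns
    have h1 := (exps_mI_iff (k := k) r β).mp hβ
    have h2 : ¬ ((r : ℤ) ≤ (β.degree : ℤ) + ∑ i, α i) :=
      fun h => hns ((shift_mem_mI_iff r β α hnn).mpr h)
    refine ⟨by omega, fun i => ?_⟩
    have := hnn i
    rw [wv_apply]
    omega
  have hdegle : ∀ β : σ →₀ ℕ, wv α ≤ β → (wv α).degree ≤ β.degree := by
    intro β hle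
    have h1 : (β - wv α).degree + (wv α).degree = β.degree := by
      rw [← map_add, tsub_add_cancel_of_le hle]
    omega
  split_ifs with hw
  · obtain ⟨X, hXdef⟩ : ∃ X : Finset (σ →₀ ℕ), X =
        ((Finset.univ : Finset σ).finsuppAntidiag (r - ∑ i, (-α i).toNat)).image
          (fun f => f + wv α) := ⟨_, rfl⟩
    have hXmem : ∀ β, β ∈ X ↔ β.degree = r ∧ wv α ≤ β := by
      intro β
      rw [hXdef]
      simp only [Finset.mem_image, Finset.mem_finsuppAntidiag]
      constructor
      · rintro ⟨f, ⟨hf, _⟩, rfl⟩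
        refine ⟨?_, le_add_self⟩
        rw [map_add, Finsupp.degree_eq_sum f, hf, degree_wv]
        omega
      · rintro ⟨hd, hle⟩
        refine ⟨β - wv α, ⟨?_, Finset.subset_univ _⟩, tsub_add_cancel_of_le hle⟩
        have h1 : (β - wv α).degree + (wv α).degree = β.degree := by
          rw [← map_add, tsub_add_cancel_of_le hle]
        rw [← Finsupp.degree_eq_sum]
        rw [degree_wv] at h1
        omega
    have hnnX : ∀ β ∈ X, ∀ i, 0 ≤ (β i : ℤ) + α i := by
      intro β hβX i
      have := ((hXmem β).mp hβX).2 i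
      rw [wv_apply] at this
      omega
    rw [finrank_tPiece_of_isolated (isMonomial_mI r) X ?_ ?_ ?_]
    · rw [hXdef, Finset.card_image_of_injective _ (add_left_injective (wv α)),
        Finset.card_finsuppAntidiag_nat_eq_choose, Finset.card_univ]
      have hc : 1 ≤ Fintype.card σ := Fintype.card_pos
      have e : Fintype.card σ + (r - ∑ i, (-α i).toNat) - 1 =
          Fintype.card σ + r - (∑ i, (-α i).toNat) - 1 := by omega
      rw [e]
      exact Nat.choose_symm_of_eq_add (by omega)
    · intro β hβX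
      obtain ⟨hd, hle⟩ := (hXmem β).mp hβX
      have hnn := hnnX β hβX
      refine ⟨(exps_mI_iff r β).mpr (by omega), hnn, ?_⟩
      rw [shift_mem_mI_iff r β α hnn, hd, hα]
      omega
    · intro β hβ hnn hns
      exact (hXmem β).mpr (hchar β hβ hnn hns)
    · intro β hβX γ hγ hadj
      obtain ⟨hd, hle⟩ := (hXmem β).mp hβX
      have hnn := hnnX β hβX
      obtain ⟨⟨β', hβ', rfl⟩, hn'⟩ := hγ
      have hr' : pt α β' ∈ region (mI σ k r) α := ⟨⟨β', hβ', rfl⟩, hn'⟩
      have hadj' : (stepGraph σ).Adj (pt α β) (pt α β') := hadj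
      obtain ⟨i, hi | hi⟩ := adj_pt_cases α hadj'
      · subst hi
        have hnn' : ∀ j, 0 ≤ (((β + Finsupp.single i 1 : σ →₀ ℕ) j : ℕ) : ℤ) + α j := by
          intro j
          have := hnn j
          simp only [Finsupp.add_apply, Nat.cast_add]
          omega
        apply (mem_region_pt hβ').mp hr'
        refine ⟨hnn', ?_⟩
        rw [shift_mem_mI_iff r _ α hnn', map_add, Finsupp.degree_single, hd, hα]
        push_cast
        omega
      · have h1 : β'.degree + 1 = β.degree := by
          rw [hi, map_add, Finsupp.degree_single]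
        have h2 := (exps_mI_iff (k := k) r β').mp hβ'
        omega
  · rw [finrank_tPiece_of_isolated (isMonomial_mI r) ∅ ?_ ?_ ?_]
    · rfl
    · intro β hβ
      exact absurd hβ (Finset.notMem_empty _)
    · intro β hβ hnn hns
      obtain ⟨hd, hle⟩ := hchar β hβ hnn hns
      exfalso
      have h1 := hdegle β hle
      rw [degree_wv] at h1
      omega
    · intro β hβ
      exact absurd hβ (Finset.notMem_empty _)

theorem s13435 (k : Type u) [Field k] [Infinite k]
    (n : ℕ) (hn : 2 ≤ n) (r : ℕ) (α : Fin n → ℤ) :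
    Module.finrank k ↥(tPiece ((Ideal.span (Set.range (MvPolynomial.X : Fin n → MvPolynomial (Fin n) k))) ^ r) α) =
      if (∑ i, α i = -1 ∧ ∑ i, (-α i).toNat ≤ r)
        then Nat.choose (n + r - (∑ i, (-α i).toNat) - 1) (n - 1) else 0 := by
  haveI : Nontrivial (Fin n) := Fin.nontrivial_iff_two_le.mpr hn
  by_cases h1 : ∑ i, α i = -1
  · have h3 := finrank_tPiece_mI_of_sum_eq (k := k) r α h1
    rw [Fintype.card_fin] at h3
    rw [h3]
    by_cases h2 : ∑ i, (-α i).toNat ≤ r
    · rw [if_pos h2, if_pos ⟨h1, h2⟩]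
    · rw [if_neg h2, if_neg (fun h => h2 h.2)]
  · rw [if_neg (fun h => h1 h.1)]
    rcases lt_or_gt_of_ne h1 with h | h
    · rw [tPiece_mI_eq_bot_of_sum_le r α (by omega), finrank_bot]
    · rw [tPiece_mI_eq_bot_of_sum_nonneg r α (by omega), finrank_bot]

end Groth.Agent.Lib.Helper24TgtPiece
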