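import Mathlib
import Groth.Prelude.Def_W4c1hilbpnTgt
import Groth.Agent.Lib.Helper20Monomial
import Groth.Agent.Lib.Helper24TgtPiece
import Groth.Agent.Lib.Helper24TgtPiece2
import Groth.Agent.Lib.Helper24TgtPiece3
import Groth.Agent.Lib.Helper24TgtPiece4
import Groth.Agent.Lib.Helper24TgtPiece5
import Groth.Agent.Lib.Helper24TgtPiece6
import Groth.Agent.Lib.Helper24TgtPiece7

set_option autoImplicit false
universe u

namespace Groth.Agent.Lib.Helper24TgtPiece

open W4c1hilbpn MvPolynomial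

section fin3

lemma fin3_facts : ∀ i : Fin 3, i + 1 ≠ i ∧ i + 2 ≠ i ∧ i + 2 ≠ i + 1 ∧
    ∀ m : Fin 3, m = i ∨ m = i + 1 ∨ m = i + 2 := by decide

lemma fin3_sum {M : Type*} [AddCommMonoid M] (i : Fin 3) (f : Fin 3 → M) :
    ∑ m, f m = f i + f (i+1) + f (i+2) := by
  rw [Fin.sum_univ_three]
  fin_cases i
  · rfl
  · change f 0 + f 1 + f 2 = f 1 + f 2 + f 0
    abel
  · change f 0 + f 1 + f 2 = f 2 + f 0 + f 1
    abel

/-- index set of pairs `(a, b)` with `a + b + 1 ≤ r` -/
def Pr (r : ℕ) : Finset (Σ _ : ℕ, ℕ) := (Finset.range r).sigma (fun a => Finset.range (r - a))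

lemma mem_Pr {r : ℕ} {p : Σ _ : ℕ, ℕ} : p ∈ Pr r ↔ p.1 + p.2 + 1 ≤ r := by
  simp only [Pr, Finset.mem_sigma, Finset.mem_range]
  omega

/-- multidegrees negative exactly at `i` -/
def αP (i : Fin 3) (a b : ℕ) : Fin 3 → ℤ :=
  fun m => if m = i then -((a:ℤ)+b+1) else if m = i+1 then a else b

/-- multidegrees nonnegative exactly at `i` -/
def αQ (i : Fin 3) (a b : ℕ) : Fin 3 → ℤ :=
  fun m => if m = i then ((a:ℤ)+b+1) else if m = i+1 then -((a:ℤ)+1) else -((b:ℤ)+1)

lemma αP_self (i : Fin 3) (a b : ℕ) : αP i a b i = -((a:ℤ)+b+1) := by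
  unfold αP; rw [if_pos rfl]

lemma αP_succ (i : Fin 3) (a b : ℕ) : αP i a b (i+1) = a := by
  unfold αP; rw [if_neg (fin3_facts i).1, if_pos rfl]

lemma αP_succ2 (i : Fin 3) (a b : ℕ) : αP i a b (i+2) = b := by
  unfold αP; rw [if_neg (fin3_facts i).2.1, if_neg (fin3_facts i).2.2.1]

lemma αQ_self (i : Fin 3) (a b : ℕ) : αQ i a b i = ((a:ℤ)+b+1) := by
  unfold αQ; rw [if_pos rfl]

lemma αQ_succ (i : Fin 3) (a b : ℕ) : αQ i a b (i+1) = -((a:ℤ)+1) := by
  unfold αQ; rw [if_neg (fin3_facts i).1, if_pos rfl]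

lemma αQ_succ2 (i : Fin 3) (a b : ℕ) : αQ i a b (i+2) = -((b:ℤ)+1) := by
  unfold αQ; rw [if_neg (fin3_facts i).2.1, if_neg (fin3_facts i).2.2.1]

lemma sum_αP (i : Fin 3) (a b : ℕ) : ∑ m, αP i a b m = -1 := by
  rw [fin3_sum i, αP_self, αP_succ, αP_succ2]; ring

lemma sum_αQ (i : Fin 3) (a b : ℕ) : ∑ m, αQ i a b m = -1 := by
  rw [fin3_sum i, αQ_self, αQ_succ, αQ_succ2]; ring

lemma w_αP (i : Fin 3) (a b : ℕ) : ∑ m, (-αP i a b m).toNat = a + b + 1 := by
  rw [fin3_sum i, αP_self, αP_succ, αP_succ2]; omega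

lemma w_αQ (i : Fin 3) (a b : ℕ) : ∑ m, (-αQ i a b m).toNat = a + b + 2 := by
  rw [fin3_sum i, αQ_self, αQ_succ, αQ_succ2]; omega

lemma neg_αP (i : Fin 3) (a b : ℕ) (m : Fin 3) : αP i a b m < 0 ↔ m = i := by
  rcases (fin3_facts i).2.2.2 m with rfl | rfl | rfl
  · rw [αP_self]; constructor
    · intro _; rfl
    · intro _; omega
  · rw [αP_succ]; constructor
    · intro h; omega
    · intro h; exact absurd h (fin3_facts i).1
  · rw [αP_succ2]; constructor
    · intro h; omega
    · intro h; exact absurd h (fin3_facts i).2.1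

lemma neg_αQ (i : Fin 3) (a b : ℕ) (m : Fin 3) : αQ i a b m < 0 ↔ m ≠ i := by
  rcases (fin3_facts i).2.2.2 m with rfl | rfl | rfl
  · rw [αQ_self]; constructor
    · intro h; omega
    · intro h; exact absurd rfl h
  · rw [αQ_succ]; constructor
    · intro _; exact (fin3_facts i).1
    · intro _; omega
  · rw [αQ_succ2]; constructor
    · intro _; exact (fin3_facts i).2.1
    · intro _; omega

lemma αP_injective (i : Fin 3) : Function.Injective (fun p : Σ _ : ℕ, ℕ => αP i p.1 p.2) := by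
  rintro ⟨a, b⟩ ⟨a', b'⟩ h
  have h1 := congrFun h (i+1)
  have h2 := congrFun h (i+2)
  simp only [αP_succ, αP_succ2] at h1 h2
  have ha : a = a' := by exact_mod_cast h1
  have hb : b = b' := by exact_mod_cast h2
  subst ha; subst hb; rfl

lemma αQ_injective (i : Fin 3) : Function.Injective (fun p : Σ _ : ℕ, ℕ => αQ i p.1 p.2) := by
  rintro ⟨a, b⟩ ⟨a', b'⟩ h
  have h1 := congrFun h (i+1)
  have h2 := congrFun h (i+2)
  simp only [αQ_succ, αQ_succ2] at h1 h2
  have ha : a = a' := by omega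
  have hb : b = b' := by omega
  subst ha; subst hb; rfl

/-- reconstruct a multidegree negative exactly at `i` -/
lemma eq_αP (i : Fin 3) (α : Fin 3 → ℤ) (hpat : ∀ m, α m < 0 ↔ m = i) (hsum : ∑ m, α m = -1) :
    α = αP i (α (i+1)).toNat (α (i+2)).toNat := by
  have h1 : 0 ≤ α (i+1) := not_lt.mp (fun h => (fin3_facts i).1 ((hpat _).mp h))
  have h2 : 0 ≤ α (i+2) := not_lt.mp (fun h => (fin3_facts i).2.1 ((hpat _).mp h))
  rw [fin3_sum i] at hsum
  funext m
  rcases (fin3_facts i).2.2.2 m with rfl | rfl | rfl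
  · rw [αP_self]; omega
  · rw [αP_succ]; omega
  · rw [αP_succ2]; omega

lemma eq_αQ (i : Fin 3) (α : Fin 3 → ℤ) (hpat : ∀ m, α m < 0 ↔ m ≠ i) (hsum : ∑ m, α m = -1) :
    α = αQ i (-α (i+1) - 1).toNat (-α (i+2) - 1).toNat := by
  have h1 : α (i+1) < 0 := (hpat _).mpr (fin3_facts i).1
  have h2 : α (i+2) < 0 := (hpat _).mpr (fin3_facts i).2.1
  rw [fin3_sum i] at hsum
  funext m
  rcases (fin3_facts i).2.2.2 m with rfl | rfl | rfl
  · rw [αQ_self]; omega
  · rw [αQ_succ]; omega
  · rw [αQ_succ2]; omega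

end fin3

section sums

lemma hs2 (m : ℕ) : ∑ b ∈ Finset.range m, (b+2).choose 2 = (m+2).choose 3 := by
  cases m with
  | zero => simp
  | succ n => exact Nat.sum_range_add_choose n 2

lemma hs3 (m : ℕ) : ∑ b ∈ Finset.range m, (b+3).choose 3 = (m+3).choose 4 := by
  cases m with
  | zero => simp
  | succ n => exact Nat.sum_range_add_choose n 3

/-- the binomial sum over the triangle -/
lemma sum_Pr (r : ℕ) :
    ∑ p ∈ Pr r, (3 + r - (p.1 + p.2 + 1) - 1).choose 2 = (r+3).choose 4 := by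
  unfold Pr
  rw [Finset.sum_sigma]
  have hinner : ∀ a ∈ Finset.range r, ∑ b ∈ Finset.range (r - a),
      (3 + r - (a + b + 1) - 1).choose 2 = ((r - 1 - a) + 3).choose 3 := by
    intro a ha
    rw [Finset.mem_range] at ha
    have h1 : ∀ b ∈ Finset.range (r - a), (3 + r - (a + b + 1) - 1).choose 2 =
        ((r - a) - 1 - b + 2).choose 2 := by
      intro b hb
      rw [Finset.mem_range] at hb
      congr 1
      omega
    rw [Finset.sum_congr rfl h1, Finset.sum_range_reflect (fun b => (b+2).choose 2) (r - a), hs2]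
    congr 1
    omega
  rw [Finset.sum_congr rfl hinner, Finset.sum_range_reflect (fun a => (a+3).choose 3) r, hs3]

lemma sum_Pr' (r : ℕ) :
    ∑ p ∈ Pr (r - 1), (3 + r - (p.1 + p.2 + 2) - 1).choose 2 = (r+2).choose 4 := by
  cases r with
  | zero =>
    simp [Pr]
    decide
  | succ s =>
    have h1 : ∀ p ∈ Pr (s + 1 - 1), (3 + (s+1) - (p.1 + p.2 + 2) - 1).choose 2 =
        (3 + s - (p.1 + p.2 + 1) - 1).choose 2 := by
      intro p _
      congr 1
      omega
    rw [Finset.sum_congr rfl h1]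
    exact sum_Pr s

lemma choose_identity (r : ℕ) :
    3 * (r+3).choose 4 + 3 * (r+2).choose 4 = (r+2).choose 2 * (r+1).choose 2 := by
  cases r with
  | zero => decide
  | succ s =>
    have h1 : 24 * (s+1+3).choose 4 = (s+1)*(s+2)*(s+3)*(s+4) := by
      have h := Nat.descFactorial_eq_factorial_mul_choose (s+4) 4
      have e : (s+4).descFactorial 4 = (s+1)*(s+2)*(s+3)*(s+4) := by
        simp only [Nat.descFactorial_succ, Nat.descFactorial_zero, Nat.sub_zero]
        have e1 : s + 4 - 3 = s + 1 := by omega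
        have e2 : s + 4 - 2 = s + 2 := by omega
        have e3 : s + 4 - 1 = s + 3 := by omega
        rw [e1, e2, e3]
        ring
      rw [e] at h
      have hf : Nat.factorial 4 = 24 := by decide
      rw [hf] at h
      exact h.symm
    have h2 : 24 * (s+1+2).choose 4 = s*(s+1)*(s+2)*(s+3) := by
      have h := Nat.descFactorial_eq_factorial_mul_choose (s+3) 4
      have e : (s+3).descFactorial 4 = s*(s+1)*(s+2)*(s+3) := by
        simp only [Nat.descFactorial_succ, Nat.descFactorial_zero, Nat.sub_zero]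
        have e1 : s + 3 - 3 = s := by omega
        have e2 : s + 3 - 2 = s + 1 := by omega
        have e3 : s + 3 - 1 = s + 2 := by omega
        rw [e1, e2, e3]
        ring
      rw [e] at h
      have hf : Nat.factorial 4 = 24 := by decide
      rw [hf] at h
      exact h.symm
    have h3 : 2 * (s+1+2).choose 2 = (s+3)*(s+2) := by
      have h := Nat.descFactorial_eq_factorial_mul_choose (s+3) 2
      have e : (s+3).descFactorial 2 = (s+3)*(s+2) := by
        simp only [Nat.descFactorial_succ, Nat.descFactorial_zero, Nat.sub_zero]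
        have e3 : s + 3 - 1 = s + 2 := by omega
        rw [e3]
        ring
      rw [e] at h
      have hf : Nat.factorial 2 = 2 := by decide
      rw [hf] at h
      exact h.symm
    have h4 : 2 * (s+1+1).choose 2 = (s+2)*(s+1) := by
      have h := Nat.descFactorial_eq_factorial_mul_choose (s+2) 2
      have e : (s+2).descFactorial 2 = (s+2)*(s+1) := by
        simp only [Nat.descFactorial_succ, Nat.descFactorial_zero, Nat.sub_zero]
        have e3 : s + 2 - 1 = s + 1 := by omega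
        rw [e3]
        ring
      rw [e] at h
      have hf : Nat.factorial 2 = 2 := by decide
      rw [hf] at h
      exact h.symm
    apply Nat.eq_of_mul_eq_mul_left (by norm_num : 0 < 24)
    calc 24 * (3 * (s+1+3).choose 4 + 3 * (s+1+2).choose 4)
        = 3 * (24 * (s+1+3).choose 4) + 3 * (24 * (s+1+2).choose 4) := by ring
      _ = 3 * ((s+1)*(s+2)*(s+3)*(s+4)) + 3 * (s*(s+1)*(s+2)*(s+3)) := by rw [h1, h2]
      _ = 6 * ((s+3)*(s+2)) * ((s+2)*(s+1)) := by ring
      _ = 6 * (2 * (s+1+2).choose 2) * (2 * (s+1+1).choose 2) := by rw [h3, h4]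
      _ = 24 * ((s+1+2).choose 2 * (s+1+1).choose 2) := by ring

end sums

end Groth.Agent.Lib.Helper24TgtPiece
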