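import Mathlib
import Groth.Prelude.Def_W4c1hilbpnTgt
import Groth.Agent.Lib.Helper20Monomial
import Groth.Agent.Lib.Helper24TgtPiece
import Groth.Agent.Lib.Helper24TgtStair
import Groth.Agent.Lib.Helper24TgtPiece8
import Groth.Agent.Lib.Helper24Slice

set_option autoImplicit false
universe u

namespace Groth.Agent.Lib.Helper24Slice

open W4c1hilbpn MvPolynomial
open Groth.Agent.Lib.Helper20
open Groth.Agent.Lib.Helper24TgtPiece

variable {k : Type*} [Field k] {I : Ideal (MvPolynomial (Fin 3) k)}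

/-- the staircase of the `i`-th slice -/
def Ls (I : Ideal (MvPolynomial (Fin 3) k)) (i : ℕ) : Set (ℕ × ℕ) :=
  {p | e3 i p.1 p.2 ∉ exps I}

lemma mem_Ls {i : ℕ} {p : ℕ × ℕ} : p ∈ Ls I i ↔ e3 i p.1 p.2 ∉ exps I := Iff.rfl

lemma e3_injective3 {i b c i' b' c' : ℕ} (h : e3 i b c = e3 i' b' c') :
    i = i' ∧ b = b' ∧ c = c' := by
  have h0 := DFunLike.congr_fun h 0
  have h1 := DFunLike.congr_fun h 1
  have h2 := DFunLike.congr_fun h 2
  rw [e3_zero, e3_zero] at h0
  rw [e3_one, e3_one] at h1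
  rw [e3_two, e3_two] at h2
  exact ⟨h0, h1, h2⟩

lemma finite_Ls (hI : IsMonomial I) [Module.Finite k (MvPolynomial (Fin 3) k ⧸ I)] (i : ℕ) :
    (Ls I i).Finite := by
  haveI := finite_compl_exps I hI
  have hfin : Finite ↥(Ls I i) := Finite.of_injective
    (fun p : ↥(Ls I i) => (⟨e3 i p.1.1 p.1.2, p.2⟩ : {β : Fin 3 →₀ ℕ // β ∉ exps I})) (by
      intro p q h
      have h1 := e3_injective3 (congrArg Subtype.val h)
      exact Subtype.ext (Prod.ext h1.2.1 h1.2.2))
  exact Set.finite_coe_iff.mp hfin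

section stable

variable (hI : IsStronglyStable I)
include hI

lemma swap21 {i b c : ℕ} (h : e3 i b (c+1) ∈ exps I) : e3 i (b+1) c ∈ exps I := by
  have h1 := hI.2 _ h 1 2 (by decide) (by rw [e3_two]; omega)
  have e : e3 i b (c+1) - Finsupp.single 2 1 + Finsupp.single 1 1 = e3 i (b+1) c := by
    apply e3_ext <;> simp [e3_zero, e3_one, e3_two]
  rw [e] at h1
  exact h1

lemma swap10 {i b c : ℕ} (h : e3 i (b+1) c ∈ exps I) : e3 (i+1) b c ∈ exps I := by
  have h1 := hI.2 _ h 0 1 (by decide) (by rw [e3_one]; omega)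
  have e : e3 i (b+1) c - Finsupp.single 1 1 + Finsupp.single 0 1 = e3 (i+1) b c := by
    apply e3_ext <;> simp [e3_zero, e3_one, e3_two]
  rw [e] at h1
  exact h1

lemma swap20 {i b c : ℕ} (h : e3 i b (c+1) ∈ exps I) : e3 (i+1) b c ∈ exps I := by
  have h1 := hI.2 _ h 0 2 (by decide) (by rw [e3_two]; omega)
  have e : e3 i b (c+1) - Finsupp.single 2 1 + Finsupp.single 0 1 = e3 (i+1) b c := by
    apply e3_ext <;> simp [e3_zero, e3_one, e3_two]
  rw [e] at h1
  exact h1

lemma P2 {i b c : ℕ} (h : (b+1, c) ∈ Ls I i) : (b, c+1) ∈ Ls I i :=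
  fun hmem => h (swap21 hI hmem)

lemma P1y {i b c : ℕ} (h : (b, c) ∈ Ls I (i+1)) : (b+1, c) ∈ Ls I i :=
  fun hmem => h (swap10 hI hmem)

lemma P1z {i b c : ℕ} (h : (b, c) ∈ Ls I (i+1)) : (b, c+1) ∈ Ls I i :=
  fun hmem => h (swap20 hI hmem)

/-- push all of the `y`-exponent into `z` -/
lemma push_yz {i : ℕ} : ∀ (b c : ℕ), (b, c) ∈ Ls I i → (0, b + c) ∈ Ls I i := by
  intro b
  induction b with
  | zero => intro c h; rw [zero_add]; exact h
  | succ b ih =>
    intro c h
    have h1 := ih (c+1) (P2 hI h)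
    have e : b + (c + 1) = b + 1 + c := by omega
    rw [e] at h1
    exact h1

/-- push everything into `x` -/
lemma push_x : ∀ (n : ℕ) (β : Fin 3 →₀ ℕ), β 1 + β 2 = n → β ∈ exps I →
    Finsupp.single 0 (β 0 + β 1 + β 2) ∈ exps I := by
  intro n
  induction n with
  | zero =>
    intro β hn hβ
    have h1 : β 1 = 0 := by omega
    have h2 : β 2 = 0 := by omega
    have e : Finsupp.single 0 (β 0 + β 1 + β 2) = β := by
      rw [eq_e3 β, h1, h2]
      apply e3_ext <;> simp [e3_zero, e3_one, e3_two]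
    rw [e]
    exact hβ
  | succ n ih =>
    intro β hn hβ
    rw [eq_e3 β] at hβ
    by_cases h1 : 0 < β 1
    · obtain ⟨b, hb⟩ : ∃ b, β 1 = b + 1 := ⟨β 1 - 1, by omega⟩
      rw [hb] at hβ
      have h2 := swap10 hI hβ
      have h3 := ih (e3 (β 0 + 1) b (β 2)) (by rw [e3_one, e3_two]; omega) h2
      rw [e3_zero, e3_one, e3_two] at h3
      have e : β 0 + 1 + b + β 2 = β 0 + β 1 + β 2 := by omega
      rw [e] at h3
      exact h3
    · have h1' : β 1 = 0 := by omega
      obtain ⟨c, hc⟩ : ∃ c, β 2 = c + 1 := ⟨β 2 - 1, by omega⟩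
      rw [hc] at hβ
      have h2 := swap20 hI hβ
      have h3 := ih (e3 (β 0 + 1) (β 1) c) (by rw [e3_one, e3_two]; omega) h2
      rw [e3_zero, e3_one, e3_two] at h3
      have e : β 0 + 1 + β 1 + c = β 0 + β 1 + β 2 := by omega
      rw [e] at h3
      exact h3

end stable

lemma down_z_le {i b c c' : ℕ} (hle : c' ≤ c) (h : (b, c) ∈ Ls I i) : (b, c') ∈ Ls I i := by
  intro hmem
  apply h
  show e3 i b c ∈ exps I
  have e : e3 i b c = e3 i b c' + Finsupp.single 2 (c - c') := by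
    rw [← e3_add_single2]
    congr 1
    omega
  rw [e]
  exact exps_add hmem _

lemma down_y_le {i b b' c : ℕ} (hle : b' ≤ b) (h : (b, c) ∈ Ls I i) : (b', c) ∈ Ls I i := by
  intro hmem
  apply h
  show e3 i b c ∈ exps I
  have e : e3 i b c = e3 i b' c + Finsupp.single 1 (b - b') := by
    rw [← e3_add_single1]
    congr 1
    omega
  rw [e]
  exact exps_add hmem _

/-- points of degree less than `s` -/
def Dg (s : ℕ) : Finset (ℕ × ℕ) :=
  (Finset.range s).biUnion (fun t => Finset.HasAntidiagonal.antidiagonal t)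

lemma mem_Dg {s : ℕ} {p : ℕ × ℕ} : p ∈ Dg s ↔ p.1 + p.2 < s := by
  unfold Dg
  rw [Finset.mem_biUnion]
  constructor
  · rintro ⟨t, ht, hp⟩
    rw [Finset.HasAntidiagonal.mem_antidiagonal] at hp
    rw [Finset.mem_range] at ht
    omega
  · intro h
    exact ⟨p.1 + p.2, Finset.mem_range.mpr h, Finset.HasAntidiagonal.mem_antidiagonal.mpr rfl⟩

lemma card_Dg (s : ℕ) : (Dg s).card = (s+1).choose 2 := by
  unfold Dg
  rw [Finset.card_biUnion]
  · simp only [Finset.Nat.card_antidiagonal]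
    induction s with
    | zero => simp
    | succ s ih =>
      have h2 : (s+1+1).choose 2 = (s+1).choose 1 + (s+1).choose 2 :=
        Nat.choose_succ_succ' (s+1) 1
      rw [Nat.choose_one_right] at h2
      rw [Finset.sum_range_succ, ih]
      omega
  · intro t _ t' _ hne
    show Disjoint (Finset.HasAntidiagonal.antidiagonal t) (Finset.HasAntidiagonal.antidiagonal t')
    rw [Finset.disjoint_left]
    intro p hp hp'
    rw [Finset.HasAntidiagonal.mem_antidiagonal] at hp hp'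
    exact hne (hp.symm.trans hp')

/-- a large slice contains a point of large degree -/
lemma exists_deg_ge {i : ℕ} (hfin : (Ls I i).Finite) (s : ℕ)
    (h : (s+1).choose 2 + 1 ≤ (Ls I i).ncard) : ∃ p ∈ Ls I i, s ≤ p.1 + p.2 := by
  by_contra hcon
  push Not at hcon
  have hsub : Ls I i ⊆ ((Dg s : Finset (ℕ × ℕ)) : Set (ℕ × ℕ)) := by
    intro p hp
    rw [Finset.mem_coe, mem_Dg]
    exact hcon p hp
  have h1 := Set.ncard_le_ncard hsub (Finset.finite_toSet _)
  rw [Set.ncard_coe_finset, card_Dg] at h1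
  omega

/-- growth of the slices of a strongly stable ideal -/
lemma growth (hI : IsStronglyStable I) [Module.Finite k (MvPolynomial (Fin 3) k ⧸ I)] (i : ℕ)
    {p : ℕ × ℕ} (hp : p ∈ Ls I (i+1)) :
    (Ls I (i+1)).ncard + (p.1 + p.2 + 2) ≤ (Ls I i).ncard := by
  have hfin := finite_Ls hI.1 i
  have hfin1 := finite_Ls hI.1 (i+1)
  have hA : (fun q : ℕ × ℕ => (q.1 + 1, q.2)) '' Ls I (i+1) ⊆ Ls I i := by
    rintro _ ⟨q, hq, rfl⟩
    exact P1y hI hq
  have h0t : ((0 : ℕ), p.1 + p.2) ∈ Ls I (i+1) := push_yz hI p.1 p.2 hp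
  have h0t1 : ((0 : ℕ), p.1 + p.2 + 1) ∈ Ls I i := P1z hI h0t
  have hB : (fun m : ℕ => ((0 : ℕ), m)) '' ((Finset.range (p.1 + p.2 + 2) : Finset ℕ) : Set ℕ) ⊆
      Ls I i := by
    rintro _ ⟨m, hm, rfl⟩
    rw [Finset.mem_coe, Finset.mem_range] at hm
    exact down_z_le (by omega) h0t1
  have hdisj : Disjoint ((fun q : ℕ × ℕ => (q.1 + 1, q.2)) '' Ls I (i+1))
      ((fun m : ℕ => ((0 : ℕ), m)) '' ((Finset.range (p.1 + p.2 + 2) : Finset ℕ) : Set ℕ)) := by
    rw [Set.disjoint_left]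
    rintro _ ⟨q, _, rfl⟩ ⟨m, _, hm⟩
    have := congrArg Prod.fst hm
    simp at this
  have hinjA : Function.Injective (fun q : ℕ × ℕ => (q.1 + 1, q.2)) := by
    intro q q' h
    have h1 := congrArg Prod.fst h
    have h2 := congrArg Prod.snd h
    simp only [add_left_inj] at h1
    exact Prod.ext h1 h2
  have hinjB : Function.Injective (fun m : ℕ => ((0 : ℕ), m)) := by
    intro m m' h
    exact congrArg Prod.snd h
  have hcard := Set.ncard_union_eq hdisj (hfin1.image _) ((Finset.finite_toSet _).image _)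
  rw [Set.ncard_image_of_injective _ hinjA, Set.ncard_image_of_injective _ hinjB,
    Set.ncard_coe_finset, Finset.card_range] at hcard
  rw [← hcard]
  exact Set.ncard_le_ncard (Set.union_subset hA hB) hfin

lemma growth' (hI : IsStronglyStable I) [Module.Finite k (MvPolynomial (Fin 3) k ⧸ I)]
    (i s : ℕ) (h : (s+1).choose 2 + 1 ≤ (Ls I (i+1)).ncard) :
    (s+2).choose 2 + 1 ≤ (Ls I i).ncard := by
  obtain ⟨p, hp, hdeg⟩ := exists_deg_ge (finite_Ls hI.1 (i+1)) s h
  have h1 := growth hI i hp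
  have h2 : (s+2).choose 2 = (s+1).choose 1 + (s+1).choose 2 := Nat.choose_succ_succ' (s+1) 1
  rw [Nat.choose_one_right] at h2
  omega

end Groth.Agent.Lib.Helper24Slice
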