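import Mathlib
import Groth.Prelude.Def_W4c1hilbpnTgt
import Groth.Agent.Lib.Helper20Monomial
import Groth.Agent.Lib.Helper24TgtPiece
import Groth.Agent.Lib.Helper24TgtStair
import Groth.Agent.Lib.Helper24TgtPiece5
import Groth.Agent.Lib.Helper24TgtPiece8
import Groth.Agent.Lib.Helper24Slice
import Groth.Agent.Lib.Helper24Slice2

set_option autoImplicit false
universe u

namespace Groth.Agent.Lib.Helper24Slice

open W4c1hilbpn MvPolynomial
open Groth.Agent.Lib.Helper20
open Groth.Agent.Lib.Helper24TgtPiece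

variable {k : Type*} [Field k] {I : Ideal (MvPolynomial (Fin 3) k)}

/-- the slices are disjoint parts of the staircase -/
lemma sum_ncard_le (hI : IsMonomial I) [Module.Finite k (MvPolynomial (Fin 3) k ⧸ I)]
    (F : Finset ℕ) :
    ∑ i ∈ F, (Ls I i).ncard ≤ Nat.card {β : Fin 3 →₀ ℕ // β ∉ exps I} := by
  classical
  haveI := finite_compl_exps I hI
  have hfinL : {β : Fin 3 →₀ ℕ | β ∉ exps I}.Finite := Set.finite_coe_iff.mp this
  have h1 : ∀ i ∈ F, (Ls I i).ncard = ((finite_Ls hI i).toFinset).card :=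
    fun i _ => Set.ncard_eq_toFinset_card _ (finite_Ls hI i)
  rw [Finset.sum_congr rfl h1, ← Finset.card_sigma]
  have hinj : Function.Injective (fun x : (Σ _ : ℕ, ℕ × ℕ) => e3 x.1 x.2.1 x.2.2) := by
    rintro ⟨i, b, c⟩ ⟨i', b', c'⟩ h
    obtain ⟨h0, h1, h2⟩ := e3_injective3 h
    subst h0; subst h1; subst h2
    rfl
  rw [← Finset.card_image_of_injective _ hinj]
  have hcard : Nat.card {β : Fin 3 →₀ ℕ // β ∉ exps I} = hfinL.toFinset.card := by
    rw [← Set.ncard_eq_toFinset_card _ hfinL]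
    exact Nat.card_coe_set_eq _
  rw [hcard]
  apply Finset.card_le_card
  intro β hβ
  rw [Finset.mem_image] at hβ
  obtain ⟨⟨i, p⟩, hx, rfl⟩ := hβ
  rw [Finset.mem_sigma] at hx
  rw [Set.Finite.mem_toFinset]
  exact (finite_Ls hI i).mem_toFinset.mp hx.2

lemma sum_T (r : ℕ) : ∑ i ∈ Finset.range r, (r - i + 1).choose 2 = (r+2).choose 3 := by
  have h1 : ∀ i ∈ Finset.range r, (r - i + 1).choose 2 = (r - 1 - i + 2).choose 2 := by
    intro i hi
    rw [Finset.mem_range] at hi
    congr 1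
    omega
  rw [Finset.sum_congr rfl h1, Finset.sum_range_reflect (fun b => (b+2).choose 2) r, hs2]

/-- the slice inequality -/
theorem slice_sum_le (hI : IsStronglyStable I) [Module.Finite k (MvPolynomial (Fin 3) k ⧸ I)]
    (r : ℕ) (hd : Nat.card {β : Fin 3 →₀ ℕ // β ∉ exps I} ≤ (r+2).choose 3) (j : ℕ) (hj : j ≤ r) :
    ∑ i ∈ Finset.Ico j r, (Ls I i).ncard ≤ ∑ i ∈ Finset.Ico j r, (r - i + 1).choose 2 := by
  by_contra hcon
  push Not at hcon
  obtain ⟨i₁, hi₁, hlt⟩ := Finset.exists_lt_of_sum_lt hcon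
  rw [Finset.mem_Ico] at hi₁
  have hgrow : ∀ m, m ≤ i₁ → (r - i₁ + m + 1).choose 2 + 1 ≤ (Ls I (i₁ - m)).ncard := by
    intro m
    induction m with
    | zero =>
      intro _
      exact hlt
    | succ m ih =>
      intro hm
      have h1 := ih (by omega)
      have e : i₁ - m = (i₁ - (m+1)) + 1 := by omega
      rw [e] at h1
      have g := growth' hI (i₁ - (m+1)) (r - i₁ + m) h1
      have e2 : r - i₁ + (m+1) + 1 = r - i₁ + m + 2 := by omega
      rw [e2]
      exact g
  have hall : ∀ i ≤ i₁, (r - i + 1).choose 2 + 1 ≤ (Ls I i).ncard := by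
    intro i hi
    have h1 := hgrow (i₁ - i) (by omega)
    have e1 : i₁ - (i₁ - i) = i := by omega
    have e2 : r - i₁ + (i₁ - i) + 1 = r - i + 1 := by omega
    rw [e1, e2] at h1
    exact h1
  have htot := sum_ncard_le hI.1 (Finset.range r)
  have hsplit := Finset.sum_range_add_sum_Ico (fun i => (Ls I i).ncard) hj
  have hsplitT := Finset.sum_range_add_sum_Ico (fun i => (r - i + 1).choose 2) hj
  have h1 : ∑ i ∈ Finset.range j, (r - i + 1).choose 2 ≤ ∑ i ∈ Finset.range j, (Ls I i).ncard := by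
    apply Finset.sum_le_sum
    intro i hi
    rw [Finset.mem_range] at hi
    have := hall i (by omega)
    omega
  have hT := sum_T r
  omega

/-- the staircase of `m^r` -/
noncomputable def Delta (r : ℕ) : Finset (Fin 3 →₀ ℕ) :=
  (Finset.range r).biUnion (fun t => (Finset.univ : Finset (Fin 3)).finsuppAntidiag t)

lemma mem_Delta {r : ℕ} {β : Fin 3 →₀ ℕ} : β ∈ Delta r ↔ β.degree < r := by
  unfold Delta
  rw [Finset.mem_biUnion]
  constructor
  · rintro ⟨t, ht, hβ⟩
    rw [Finset.mem_finsuppAntidiag] at hβ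
    rw [Finset.mem_range] at ht
    rw [Finsupp.degree_eq_sum, hβ.1]
    exact ht
  · intro h
    refine ⟨β.degree, Finset.mem_range.mpr h, ?_⟩
    rw [Finset.mem_finsuppAntidiag]
    exact ⟨(Finsupp.degree_eq_sum β).symm, Finset.subset_univ _⟩

lemma card_Delta (r : ℕ) : (Delta r).card = (r+2).choose 3 := by
  unfold Delta
  rw [Finset.card_biUnion]
  · have h1 : ∀ t ∈ Finset.range r, ((Finset.univ : Finset (Fin 3)).finsuppAntidiag t).card =
        (t+2).choose 2 := by
      intro t _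
      rw [Finset.card_finsuppAntidiag_nat_eq_choose, Finset.card_univ, Fintype.card_fin]
      have e : 3 + t - 1 = t + 2 := by omega
      rw [e]
      exact Nat.choose_symm_of_eq_add (by omega)
    rw [Finset.sum_congr rfl h1, hs2]
  · intro t _ t' _ hne
    show Disjoint ((Finset.univ : Finset (Fin 3)).finsuppAntidiag t)
      ((Finset.univ : Finset (Fin 3)).finsuppAntidiag t')
    rw [Finset.disjoint_left]
    intro β hβ hβ'
    rw [Finset.mem_finsuppAntidiag] at hβ hβ'
    exact hne (hβ.1.symm.trans hβ'.1)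

/-- the equality case -/
theorem eq_pow_of_top_slice (hI : IsStronglyStable I)
    [Module.Finite k (MvPolynomial (Fin 3) k ⧸ I)] (r : ℕ)
    (hd : Nat.card {β : Fin 3 →₀ ℕ // β ∉ exps I} ≤ (r+2).choose 3)
    (htop : 1 ≤ r → (Ls I (r - 1)).ncard ≠ 0) :
    I = (Ideal.span (Set.range (MvPolynomial.X : Fin 3 → MvPolynomial (Fin 3) k))) ^ r := by
  classical
  haveI := finite_compl_exps I hI.1
  have hfinL : {β : Fin 3 →₀ ℕ | β ∉ exps I}.Finite := Set.finite_coe_iff.mp this
  have hcard : Nat.card {β : Fin 3 →₀ ℕ // β ∉ exps I} = hfinL.toFinset.card := by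
    rw [← Set.ncard_eq_toFinset_card _ hfinL]
    exact Nat.card_coe_set_eq _
  -- monomials of degree < r are outside I
  have hlow : ∀ β : Fin 3 →₀ ℕ, β.degree < r → β ∉ exps I := by
    intro β hdeg hβ
    have hr : 1 ≤ r := by omega
    have hne := htop hr
    obtain ⟨p, hp⟩ : (Ls I (r-1)).Nonempty := by
      by_contra hcon
      rw [Set.not_nonempty_iff_eq_empty] at hcon
      rw [hcon, Set.ncard_empty] at hne
      exact hne rfl
    have h00 : ((0 : ℕ), (0 : ℕ)) ∈ Ls I (r-1) :=
      down_y_le (Nat.zero_le _) (down_z_le (Nat.zero_le _) hp)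
    apply h00
    show e3 (r-1) 0 0 ∈ exps I
    have hpush := push_x hI (β 1 + β 2) β rfl hβ
    have hdeg' : β.degree = β 0 + β 1 + β 2 := by
      rw [Finsupp.degree_eq_sum, Fin.sum_univ_three]
    have e : e3 (r-1) 0 0 = Finsupp.single 0 (β 0 + β 1 + β 2) +
        Finsupp.single 0 (r - 1 - (β 0 + β 1 + β 2)) := by
      rw [← Finsupp.single_add]
      apply e3_ext
      · rw [e3_zero, Finsupp.single_eq_same]; omega
      · rw [e3_one, Finsupp.single_eq_of_ne (by decide)]
      · rw [e3_two, Finsupp.single_eq_of_ne (by decide)]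
    rw [e]
    exact exps_add hpush _
  have hsub : Delta r ⊆ hfinL.toFinset := by
    intro β hβ
    rw [Set.Finite.mem_toFinset]
    exact hlow β (mem_Delta.mp hβ)
  have heq : Delta r = hfinL.toFinset := by
    apply Finset.eq_of_subset_of_card_le hsub
    rw [card_Delta, ← hcard]
    exact hd
  apply eq_of_exps_eq hI.1 (isMonomial_mI r)
  ext β
  rw [exps_mI_iff]
  constructor
  · intro hβ
    by_contra hcon
    push Not at hcon
    exact hlow β hcon hβ
  · intro hdeg
    by_contra hcon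
    have h1 : β ∈ hfinL.toFinset := by
      rw [Set.Finite.mem_toFinset]
      exact hcon
    rw [← heq, mem_Delta] at h1
    omega

lemma finrank_slice (hI : IsMonomial I) [Module.Finite k (MvPolynomial (Fin 3) k ⧸ I)] (i : ℕ) :
    Module.finrank k (MvPolynomial (Fin 2) k ⧸ sliceX I i) = (Ls I i).ncard := by
  classical
  haveI := finite_compl_exps I hI
  have hemb_inj : ∀ β β' : Fin 2 →₀ ℕ, emb β i = emb β' i → β = β' := by
    intro β β' h
    ext j
    have := DFunLike.congr_fun h j.succ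
    rw [emb_apply_succ, emb_apply_succ] at this
    exact this
  haveI : Finite {β : Fin 2 →₀ ℕ // β ∉ exps (sliceX I i)} := by
    apply Finite.of_injective (fun β : {β : Fin 2 →₀ ℕ // β ∉ exps (sliceX I i)} =>
      (⟨emb β.1 i, fun h => β.2 ((exps_slice I i β.1).mpr h)⟩ : {β : Fin 3 →₀ ℕ // β ∉ exps I}))
    intro β β' h
    exact Subtype.ext (hemb_inj _ _ (congrArg Subtype.val h))
  rw [finrank_quot_eq_card _ (isMonomial_slice I hI i), ← Nat.card_coe_set_eq]
  apply Nat.card_congr
  refine Equiv.ofBijective (fun β => (⟨(β.1 0, β.1 1), ?_⟩ : ↥(Ls I i))) ⟨?_, ?_⟩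
  · show e3 i (β.1 0) (β.1 1) ∉ exps I
    rw [← emb_eq_e3, ← exps_slice]
    exact β.2
  · intro β β' h
    have h1 := congrArg Subtype.val h
    simp only [Prod.mk.injEq] at h1
    apply Subtype.ext
    ext j
    fin_cases j
    · exact h1.1
    · exact h1.2
  · rintro ⟨⟨b, c⟩, hp⟩
    have hb : (Finsupp.equivFunOnFinite.symm ![b, c] : Fin 2 →₀ ℕ) 0 = b := by simp
    have hc : (Finsupp.equivFunOnFinite.symm ![b, c] : Fin 2 →₀ ℕ) 1 = c := by simp
    refine ⟨⟨Finsupp.equivFunOnFinite.symm ![b, c], ?_⟩, ?_⟩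
    · rw [exps_slice, emb_eq_e3, hb, hc]
      exact hp
    · apply Subtype.ext
      exact Prod.ext hb hc

theorem s13454 (k : Type u) [Field k] [Infinite k] (r : ℕ)
    (I : Ideal (MvPolynomial (Fin 3) k)) (hI : IsStronglyStable I) [Module.Finite k (MvPolynomial (Fin 3) k ⧸ I)]
    (hd : Module.finrank k (MvPolynomial (Fin 3) k ⧸ I) ≤ Nat.choose (r + 2) 3) :
    (∀ j, j ≤ r → ∑ i ∈ Finset.Ico j r, Module.finrank k (MvPolynomial (Fin 2) k ⧸ sliceX I i) ≤
        ∑ i ∈ Finset.Ico j r, Nat.choose (r - i + 1) 2) ∧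
    ((∀ j, j < r → ∑ i ∈ Finset.Ico j r, Module.finrank k (MvPolynomial (Fin 2) k ⧸ sliceX I i) =
        ∑ i ∈ Finset.Ico j r, Nat.choose (r - i + 1) 2) → I = (Ideal.span (Set.range (MvPolynomial.X : Fin 3 → MvPolynomial (Fin 3) k))) ^ r) := by
  haveI := finite_compl_exps I hI.1
  have hd' : Nat.card {β : Fin 3 →₀ ℕ // β ∉ exps I} ≤ (r+2).choose 3 := by
    rw [← finrank_quot_eq_card I hI.1]
    exact hd
  constructor
  · intro j hj
    have h1 := slice_sum_le hI r hd' j hj
    have h2 : ∀ i ∈ Finset.Ico j r, Module.finrank k (MvPolynomial (Fin 2) k ⧸ sliceX I i) =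
        (Ls I i).ncard := fun i _ => finrank_slice hI.1 i
    rw [Finset.sum_congr rfl h2]
    exact h1
  · intro heq
    apply eq_pow_of_top_slice hI r hd'
    intro hr
    have h1 := heq (r - 1) (by omega)
    have e : Finset.Ico (r - 1) r = {r - 1} := by
      ext x
      rw [Finset.mem_Ico, Finset.mem_singleton]
      omega
    rw [e, Finset.sum_singleton, Finset.sum_singleton, finrank_slice hI.1] at h1
    rw [h1]
    have e2 : r - (r - 1) + 1 = 2 := by omega
    rw [e2]
    decide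

end Groth.Agent.Lib.Helper24Slice
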