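import Mathlib
import Groth.Agent.Lib.Helper16TraceSES
import Groth.Agent.Lib.Helper27TraceLen
import Groth.Agent.S14280

set_option autoImplicit false

namespace Groth.Agent.Lib.Helper24SpTr

universe u

open CategoryTheory Polynomial

/-- underlying complex vector space -/
noncomputable abbrev VV (M : ModuleCat.{u} ℂ[X]) : ModuleCat.{u} ℂ :=
  (ModuleCat.restrictScalars (algebraMap ℂ ℂ[X])).obj M

/-- the endomorphism "multiplication by X" -/
noncomputable abbrev PhiM (M : ModuleCat.{u} ℂ[X]) : VV M →ₗ[ℂ] VV M :=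
  ((ModuleCat.restrictScalars (algebraMap ℂ ℂ[X])).map ((X : ℂ[X]) • 𝟙 M)).hom

/-- the ℂ-linear map underlying a morphism -/
noncomputable abbrev mapV {M M' : ModuleCat.{u} ℂ[X]} (h : M ⟶ M') : VV M →ₗ[ℂ] VV M' :=
  ((ModuleCat.restrictScalars (algebraMap ℂ ℂ[X])).map h).hom

theorem mapV_apply {M M' : ModuleCat.{u} ℂ[X]} (h : M ⟶ M') (x : M) :
    mapV h x = h.hom x := rfl

theorem mapV_comm {M M' : ModuleCat.{u} ℂ[X]} (h : M ⟶ M') :
    (mapV h).comp (PhiM M) = (PhiM M').comp (mapV h) := by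
  have : ((X : ℂ[X]) • 𝟙 M) ≫ h = h ≫ ((X : ℂ[X]) • 𝟙 M') := by
    rw [Linear.smul_comp, Linear.comp_smul, Category.id_comp, Category.comp_id]
  have h2 := congrArg (fun g => ((ModuleCat.restrictScalars (algebraMap ℂ ℂ[X])).map g).hom) this
  simp only [Functor.map_comp, ModuleCat.hom_comp] at h2
  exact h2.symm ▸ rfl

section LA

open Function Module

variable {V W : Type*} [AddCommGroup V] [Module ℂ V] [AddCommGroup W] [Module ℂ W]

theorem eig_of_injective (i : V →ₗ[ℂ] W) (hi : Injective i) (φV : Module.End ℂ V)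
    (φW : Module.End ℂ W) (hc : i ∘ₗ φV = φW ∘ₗ i) {μ : ℂ} (h : φV.HasEigenvalue μ) :
    φW.HasEigenvalue μ := by
  obtain ⟨v, hv⟩ := h.exists_hasEigenvector
  apply Module.End.hasEigenvalue_of_hasEigenvector (x := i v)
  refine ⟨?_, ?_⟩
  · rw [Module.End.mem_eigenspace_iff]
    have := LinearMap.congr_fun hc v
    simp only [LinearMap.comp_apply] at this
    rw [← this, Module.End.mem_eigenspace_iff.mp hv.1, map_smul]
  · intro h0
    exact hv.2 (hi (by rw [h0, map_zero]))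

theorem eig_of_surjective [FiniteDimensional ℂ V] (q : V →ₗ[ℂ] W) (hq : Surjective q)
    (φV : Module.End ℂ V) (φW : Module.End ℂ W) (hc : q ∘ₗ φV = φW ∘ₗ q) {μ : ℂ}
    (h : φW.HasEigenvalue μ) : φV.HasEigenvalue μ := by
  by_contra hV
  haveI : FiniteDimensional ℂ W := Module.Finite.of_surjective q hq
  have h1 : LinearMap.ker (φV - μ • (1 : Module.End ℂ V)) = ⊥ := by
    rw [← Module.End.eigenspace_def]
    by_contra h1
    exact hV h1
  have h2 : Surjective (φV - μ • (1 : Module.End ℂ V)) :=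
    LinearMap.injective_iff_surjective.mp (LinearMap.ker_eq_bot.mp h1)
  have h3 : Surjective (φW - μ • (1 : Module.End ℂ W)) := by
    intro w
    obtain ⟨v, rfl⟩ := hq w
    obtain ⟨v', rfl⟩ := h2 v
    refine ⟨q v', ?_⟩
    have := LinearMap.congr_fun hc v'
    simp only [LinearMap.comp_apply] at this
    simp only [LinearMap.sub_apply, LinearMap.smul_apply, Module.End.one_apply, map_sub, map_smul]
    rw [this]
  have h4 : Injective (φW - μ • (1 : Module.End ℂ W)) := LinearMap.injective_iff_surjective.mpr h3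
  apply h
  change Module.End.eigenspace φW μ = ⊥
  rw [Module.End.eigenspace_def]
  exact LinearMap.ker_eq_bot.mpr h4

end LA

section Wrap

open Function Module

/-- finite-dimensionality over `ℂ` -/
def Fin' (M : ModuleCat.{u} ℂ[X]) : Prop := Module.Finite ℂ (VV M)
/-- dimension over `ℂ` -/
noncomputable def rk (M : ModuleCat.{u} ℂ[X]) : ℕ := Module.finrank ℂ (VV M)
/-- trace of multiplication by `X` -/
noncomputable def tr (M : ModuleCat.{u} ℂ[X]) : ℂ := LinearMap.trace ℂ (VV M) (PhiM M)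
/-- eigenvalues of multiplication by `X` -/
def Eig (M : ModuleCat.{u} ℂ[X]) (μ : ℂ) : Prop := Module.End.HasEigenvalue (PhiM M) μ

variable {M M' M'' : ModuleCat.{u} ℂ[X]}

theorem mono_props (h : M ⟶ M') (hi : Injective h.hom) (hf : Fin' M') :
    Fin' M ∧ rk M ≤ rk M' ∧ ∀ μ, Eig M μ → Eig M' μ := by
  have hi' : Injective (mapV h) := hi
  unfold Fin' at hf ⊢
  refine ⟨Module.Finite.of_injective (mapV h) hi', ?_, ?_⟩
  · exact LinearMap.finrank_le_finrank_of_injective hi'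
  · intro μ hμ
    exact eig_of_injective (mapV h) hi' (PhiM M) (PhiM M') (mapV_comm h) hμ

theorem epi_props (h : M ⟶ M') (hs : Surjective h.hom) (hf : Fin' M) :
    Fin' M' ∧ rk M' ≤ rk M ∧ ∀ μ, Eig M' μ → Eig M μ := by
  have hs' : Surjective (mapV h) := hs
  unfold Fin' at hf ⊢
  haveI := hf
  refine ⟨Module.Finite.of_surjective (mapV h) hs', ?_, ?_⟩
  · exact LinearMap.finrank_le_finrank_of_surjective hs'
  · intro μ hμ
    exact eig_of_surjective (mapV h) hs' (PhiM M) (PhiM M') (mapV_comm h) hμ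

theorem tr_ses (i : M' ⟶ M) (q : M ⟶ M'') (hi : Injective i.hom) (hq : Surjective q.hom)
    (hex : ∀ x : M, q.hom x = 0 ↔ ∃ y : M', i.hom y = x) (hf : Fin' M) :
    tr M = tr M' + tr M'' := by
  have h1 := (mono_props i hi hf).1
  have h2 := (epi_props q hq hf).1
  unfold Fin' at hf h1 h2
  haveI := hf; haveI := h1; haveI := h2
  unfold tr
  apply Groth.Agent.Lib.Helper16TraceSES.trace_ses (mapV i) (mapV q) hi hq
  · ext x
    rw [LinearMap.mem_range, LinearMap.mem_ker]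
    exact (hex x).symm
  · exact (mapV_comm i).symm
  · exact mapV_comm q

theorem isZero_props (h : Limits.IsZero M) : Fin' M ∧ rk M = 0 ∧ tr M = 0 ∧ ∀ μ, ¬ Eig M μ := by
  have hs : Subsingleton M := ModuleCat.subsingleton_of_isZero h
  have hs' : Subsingleton (VV M) := hs
  refine ⟨?_, ?_, ?_, ?_⟩
  · unfold Fin'; infer_instance
  · unfold rk; exact Module.finrank_zero_of_subsingleton
  · unfold tr
    have : PhiM M = 0 := LinearMap.ext fun x => Subsingleton.elim _ _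
    rw [this, map_zero]
  · intro μ hμ
    obtain ⟨v, hv⟩ := hμ.exists_hasEigenvector
    exact hv.2 (Subsingleton.elim _ _)

theorem iso_props (e : M ≅ M') (hf : Fin' M) :
    Fin' M' ∧ rk M' = rk M ∧ tr M' = tr M ∧ ∀ μ, Eig M' μ ↔ Eig M μ := by
  have hinj : Injective e.hom.hom := (ConcreteCategory.bijective_of_isIso e.hom).1
  have hsurj : Surjective e.hom.hom := (ConcreteCategory.bijective_of_isIso e.hom).2
  have hinj' : Injective e.inv.hom := (ConcreteCategory.bijective_of_isIso e.inv).1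
  have h1 := epi_props e.hom hsurj hf
  have h2 := mono_props e.inv hinj' hf
  have h3 := mono_props e.hom hinj h1.1
  refine ⟨h1.1, le_antisymm h1.2.1 h3.2.1, ?_, fun μ => ⟨h1.2.2 μ, h3.2.2 μ⟩⟩
  -- trace: ses 0 → M → M' → 0
  have := tr_ses (M' := M) (M := M') (M'' := ModuleCat.of ℂ[X] PUnit) e.hom 0 hinj
    (fun x => ⟨0, Subsingleton.elim _ _⟩)
    (fun x => ⟨fun _ => hsurj x, fun _ => rfl⟩) h1.1
  rw [this]
  have hz : Limits.IsZero (ModuleCat.of ℂ[X] PUnit.{u+1}) := ModuleCat.isZero_of_subsingleton _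
  rw [(isZero_props hz).2.2.1, add_zero]

end Wrap


section Homology

open Function Module

variable {A B : ModuleCat.{u} ℂ[X]}

/-- the image of a morphism, as a module -/
noncomputable abbrev Rg (f : A ⟶ B) : ModuleCat.{u} ℂ[X] :=
  ModuleCat.of ℂ[X] (LinearMap.range f.hom)

theorem range_props_tgt (f : A ⟶ B) (hf : Fin' B) :
    Fin' (Rg f) ∧ rk (Rg f) ≤ rk B ∧ ∀ μ, Eig (Rg f) μ → Eig B μ :=
  mono_props (ModuleCat.ofHom (LinearMap.range f.hom).subtype) Subtype.val_injective hf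

theorem range_props_src (f : A ⟶ B) (hf : Fin' A) :
    Fin' (Rg f) ∧ rk (Rg f) ≤ rk A ∧ ∀ μ, Eig (Rg f) μ → Eig A μ :=
  epi_props (ModuleCat.ofHom f.hom.rangeRestrict) f.hom.surjective_rangeRestrict hf

theorem Rg_isZero_of_tgt (f : A ⟶ B) (h : Limits.IsZero B) : Limits.IsZero (Rg f) := by
  haveI : Subsingleton B := ModuleCat.subsingleton_of_isZero h
  haveI : Subsingleton (LinearMap.range f.hom) := inferInstance
  exact ModuleCat.isZero_of_subsingleton _

theorem Rg_isZero_of_src (f : A ⟶ B) (h : Limits.IsZero A) : Limits.IsZero (Rg f) := by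
  haveI : Subsingleton A := ModuleCat.subsingleton_of_isZero h
  haveI : Subsingleton (LinearMap.range f.hom) := by
    constructor
    rintro ⟨x, a, rfl⟩ ⟨y, b, rfl⟩
    rw [Subsingleton.elim a b]
  exact ModuleCat.isZero_of_subsingleton _

theorem homology_props (S : ShortComplex (ModuleCat.{u} ℂ[X])) (hf : Fin' S.X₂) :
    Fin' S.homology ∧ rk S.homology ≤ rk S.X₂ ∧ (∀ μ, Eig S.homology μ → Eig S.X₂ μ) ∧
      tr S.homology = tr S.X₂ - tr (Rg S.f) - tr (Rg S.g) := by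
  -- cycles
  set Z : ModuleCat.{u} ℂ[X] := ModuleCat.of ℂ[X] (LinearMap.ker S.g.hom) with hZ
  set H : ModuleCat.{u} ℂ[X] := S.moduleCatLeftHomologyData.H with hH
  have hZX := mono_props (M := Z) (M' := S.X₂) (ModuleCat.ofHom (LinearMap.ker S.g.hom).subtype)
    Subtype.val_injective hf
  have hπs : Surjective (S.moduleCatLeftHomologyData.π).hom :=
    Submodule.mkQ_surjective _
  have hZH := epi_props (M := Z) (M' := H) S.moduleCatLeftHomologyData.π hπs hZX.1
  have e := iso_props S.moduleCatHomologyIso.symm hZH.1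
  refine ⟨e.1, ?_, ?_, ?_⟩
  · rw [e.2.1]; exact hZH.2.1.trans hZX.2.1
  · intro μ hμ
    exact hZX.2.2 μ (hZH.2.2 μ ((e.2.2.2 μ).mp hμ))
  · rw [e.2.2.1]
    -- 0 → Z → X₂ → Rg g → 0
    have h1 : tr S.X₂ = tr Z + tr (Rg S.g) := by
      refine tr_ses (M' := Z) (M := S.X₂) (M'' := Rg S.g)
        (ModuleCat.ofHom (LinearMap.ker S.g.hom).subtype)
        (ModuleCat.ofHom S.g.hom.rangeRestrict) Subtype.val_injective
        S.g.hom.surjective_rangeRestrict ?_ hf
      intro x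
      constructor
      · intro hx
        refine ⟨⟨x, ?_⟩, rfl⟩
        rw [LinearMap.mem_ker]
        exact congrArg Subtype.val hx
      · rintro ⟨y, rfl⟩
        apply Subtype.ext
        exact y.2
    -- 0 → Rg f → Z → H → 0
    have hle : LinearMap.range S.f.hom ≤ LinearMap.ker S.g.hom := by
      rintro _ ⟨a, rfl⟩
      rw [LinearMap.mem_ker]
      exact S.moduleCat_zero_apply a
    have h2 : tr Z = tr (Rg S.f) + tr H := by
      refine tr_ses (M' := Rg S.f) (M := Z) (M'' := H)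
        (ModuleCat.ofHom (Submodule.inclusion hle))
        S.moduleCatLeftHomologyData.π (Submodule.inclusion_injective hle) hπs ?_ hZX.1
      intro x
      constructor
      · intro hx
        have hx' : x ∈ LinearMap.range S.moduleCatToCycles :=
          (Submodule.Quotient.mk_eq_zero _).mp hx
        obtain ⟨a, ha⟩ := hx'
        refine ⟨⟨S.f.hom a, a, rfl⟩, ?_⟩
        rw [← ha]
        rfl
      · rintro ⟨⟨y, a, rfl⟩, rfl⟩
        apply (Submodule.Quotient.mk_eq_zero _).mpr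
        exact ⟨a, rfl⟩
    rw [h1, h2]; ring

end Homology


section Summ

open Function Module Limits

theorem isZero_of_rk {M : ModuleCat.{u} ℂ[X]} (hf : Fin' M) (h : rk M = 0) : IsZero M := by
  unfold Fin' at hf
  unfold rk at h
  haveI := hf
  have : Subsingleton (VV M) := Module.finrank_zero_iff.mp h
  have : Subsingleton M := this
  exact ModuleCat.isZero_of_subsingleton _

theorem summable_tr (F : ℕ → ℕ → ModuleCat.{u} ℂ[X])
    (N : ℕ) (a c : ℕ → ℝ) (b d : ℕ → ℕ) (ha : ∀ q, 0 ≤ a q) (hc : ∀ p, 0 ≤ c p)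
    (hsum : Summable fun p : ℕ => c p * (d p : ℝ))
    (hfin : ∀ p q, Fin' (F p q)) (hz : ∀ p q, N < q → IsZero (F p q))
    (heig : ∀ p q μ, Eig (F p q) μ → ‖μ‖ ≤ a q * c p)
    (hrk : ∀ p q, rk (F p q) ≤ b q * d p) :
    Summable fun pq : ℕ × ℕ => (-1 : ℂ) ^ (pq.1 + pq.2) * tr (F pq.1 pq.2) := by
  haveI : ∀ p q, FiniteDimensional ℂ (VV (F p q)) := hfin
  have h := Groth.Agent.S14280.result (fun p q => VV (F p q)) (fun p q => PhiM (F p q))
    N a c b d ha hc
    (fun p q hq => (ModuleCat.subsingleton_of_isZero (hz p q hq) : Subsingleton (F p q)))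
    heig hrk hsum
  apply Summable.of_norm
  refine h.congr ?_
  intro pq
  rw [norm_mul, norm_pow, norm_neg, norm_one, one_pow, one_mul]
  rfl

end Summ


section Complex

open Function Module Limits

variable {v : ℤ × ℤ} (K : HomologicalComplex (ModuleCat.{u} ℂ[X]) (ComplexShape.up' v))

theorem tr_d_congr (i j j' : ℤ × ℤ) (h : j = j') :
    tr (Rg (K.d i j)) = tr (Rg (K.d i j')) := by
  subst h; rfl

/-- trace on the image of the differential out of `pq` -/
noncomputable def dsrc (pq : ℤ × ℤ) : ℂ := tr (Rg (K.d pq (pq + v)))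

theorem dsrc_eq (pq : ℤ × ℤ) : dsrc K (pq - v) = tr (Rg (K.d (pq - v) pq)) :=
  tr_d_congr K _ _ _ (sub_add_cancel pq v)

theorem homology_complex_props (pq : ℤ × ℤ) (hf : Fin' (K.X pq)) :
    Fin' (K.homology pq) ∧ rk (K.homology pq) ≤ rk (K.X pq) ∧
      (∀ μ, Eig (K.homology pq) μ → Eig (K.X pq) μ) ∧
      tr (K.homology pq) = tr (K.X pq) - dsrc K (pq - v) - dsrc K pq := by
  have hi : (ComplexShape.up' v).prev pq = pq - v :=
    (ComplexShape.up' v).prev_eq' (sub_add_cancel pq v)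
  have hk : (ComplexShape.up' v).next pq = pq + v :=
    (ComplexShape.up' v).next_eq' rfl
  have e : K.homology pq ≅ (K.sc' (pq - v) pq (pq + v)).homology :=
    ShortComplex.homologyMapIso (K.isoSc' (pq - v) pq (pq + v) hi hk)
  have h := homology_props (K.sc' (pq - v) pq (pq + v)) hf
  have h' := iso_props e.symm h.1
  refine ⟨h'.1, ?_, ?_, ?_⟩
  · rw [h'.2.1]; exact h.2.1
  · intro μ hμ
    exact h.2.2.1 μ ((h'.2.2.2 μ).mp hμ)
  · rw [h'.2.2.1, h.2.2.2, dsrc_eq]
    rfl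

end Complex


section Main

open Function Module Limits

/-- the embedding of the first quadrant -/
def iota (pq : ℕ × ℕ) : ℤ × ℤ := ((pq.1 : ℤ), (pq.2 : ℤ))

theorem iota_injective : Function.Injective iota := by
  intro x y h
  unfold iota at h
  have h1 := congrArg Prod.fst h
  have h2 := congrArg Prod.snd h
  simp only [Nat.cast_inj] at h1 h2
  exact Prod.ext h1 h2

theorem mem_range_iota (x : ℤ × ℤ) (h : ¬ (x.1 < 0 ∨ x.2 < 0)) : x ∈ Set.range iota := by
  have h1 : 0 ≤ x.1 := not_lt.mp fun hh => h (Or.inl hh)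
  have h2 : 0 ≤ x.2 := not_lt.mp fun hh => h (Or.inr hh)
  refine ⟨(x.1.toNat, x.2.toNat), ?_⟩
  unfold iota
  ext
  · exact Int.toNat_of_nonneg h1
  · exact Int.toNat_of_nonneg h2

theorem main (v : ℤ × ℤ) (hv : v.1 + v.2 = 1)
    (K : HomologicalComplex (ModuleCat.{u} ℂ[X]) (ComplexShape.up' v))
    (K' : ℤ × ℤ → ModuleCat.{u} ℂ[X]) (e : ∀ pq, K.homology pq ≅ K' pq)
    (N : ℕ) (a c : ℕ → ℝ) (b d : ℕ → ℕ) (ha : ∀ q, 0 ≤ a q) (hc : ∀ p, 0 ≤ c p)
    (hsum : Summable fun p : ℕ => c p * (d p : ℝ))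
    (h1 : ∀ pq : ℤ × ℤ, pq.1 < 0 ∨ pq.2 < 0 → IsZero (K.X pq))
    (h2 : ∀ pq, Fin' (K.X pq))
    (h3 : ∀ p q : ℕ, N < q → IsZero (K.X ((p : ℤ), (q : ℤ))))
    (h4 : ∀ (p q : ℕ) (μ : ℂ), Eig (K.X ((p : ℤ), (q : ℤ))) μ → ‖μ‖ ≤ a q * c p)
    (h5 : ∀ p q : ℕ, rk (K.X ((p : ℤ), (q : ℤ))) ≤ b q * d p) :
    ((∀ pq : ℤ × ℤ, pq.1 < 0 ∨ pq.2 < 0 → IsZero (K' pq)) ∧
      (∀ pq, Fin' (K' pq)) ∧
      (∀ p q : ℕ, N < q → IsZero (K' ((p : ℤ), (q : ℤ)))) ∧
      (∀ (p q : ℕ) (μ : ℂ), Eig (K' ((p : ℤ), (q : ℤ))) μ → ‖μ‖ ≤ a q * c p) ∧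
      (∀ p q : ℕ, rk (K' ((p : ℤ), (q : ℤ))) ≤ b q * d p)) ∧
    ∑' pq : ℕ × ℕ, (-1 : ℂ) ^ (pq.1 + pq.2) * tr (K' ((pq.1 : ℤ), (pq.2 : ℤ))) =
      ∑' pq : ℕ × ℕ, (-1 : ℂ) ^ (pq.1 + pq.2) * tr (K.X ((pq.1 : ℤ), (pq.2 : ℤ))) := by
  -- properties of the homology, transported to K'
  have hH : ∀ pq, Fin' (K' pq) ∧ rk (K' pq) ≤ rk (K.X pq) ∧
      (∀ μ, Eig (K' pq) μ → Eig (K.X pq) μ) ∧
      tr (K' pq) = tr (K.X pq) - dsrc K (pq - v) - dsrc K pq := by
    intro pq
    have h := homology_complex_props K pq (h2 pq)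
    have h' := iso_props (e pq) h.1
    refine ⟨h'.1, ?_, ?_, ?_⟩
    · rw [h'.2.1]; exact h.2.1
    · intro μ hμ
      exact h.2.2.1 μ ((h'.2.2.2 μ).mp hμ)
    · rw [h'.2.2.1, h.2.2.2]
  have hzero : ∀ pq, IsZero (K.X pq) → IsZero (K' pq) := by
    intro pq hz
    apply isZero_of_rk (hH pq).1
    have := (hH pq).2.1
    rw [(isZero_props hz).2.1] at this
    exact Nat.le_zero.mp this
  refine ⟨⟨fun pq hpq => hzero pq (h1 pq hpq), fun pq => (hH pq).1,
    fun p q hq => hzero _ (h3 p q hq),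
    fun p q μ hμ => h4 p q μ ((hH _).2.2.1 μ hμ),
    fun p q => ((hH _).2.1).trans (h5 p q)⟩, ?_⟩
  -- the trace identity
  set G : ℤ × ℤ → ℂ := fun x => (-1 : ℂ) ^ (x.1 + x.2) * dsrc K x with hG
  have hGi : ∀ pq : ℕ × ℕ, G (iota pq) = (-1 : ℂ) ^ (pq.1 + pq.2) * dsrc K (iota pq) := by
    intro pq
    simp only [hG, iota]
    rw [← Nat.cast_add, zpow_natCast]
  have hGv : ∀ pq : ℕ × ℕ,
      G (iota pq - v) = - ((-1 : ℂ) ^ (pq.1 + pq.2) * dsrc K (iota pq - v)) := by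
    intro pq
    simp only [hG]
    have hexp : (iota pq - v).1 + (iota pq - v).2 = ((pq.1 + pq.2 : ℕ) : ℤ) - 1 := by
      simp only [iota, Prod.fst_sub, Prod.snd_sub]
      push_cast
      linarith
    rw [hexp, zpow_sub_one₀ (by norm_num : (-1 : ℂ) ≠ 0), zpow_natCast]
    have : ((-1 : ℂ))⁻¹ = -1 := by norm_num
    rw [this]; ring
  have hterm : ∀ pq : ℕ × ℕ, (-1 : ℂ) ^ (pq.1 + pq.2) * tr (K' ((pq.1 : ℤ), (pq.2 : ℤ))) =
      (-1 : ℂ) ^ (pq.1 + pq.2) * tr (K.X ((pq.1 : ℤ), (pq.2 : ℤ))) +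
        G (iota pq - v) - G (iota pq) := by
    intro pq
    rw [hGi, hGv, (hH _).2.2.2]
    unfold iota
    ring
  -- summabilities
  have hS1 : Summable fun pq : ℕ × ℕ =>
      (-1 : ℂ) ^ (pq.1 + pq.2) * tr (K.X ((pq.1 : ℤ), (pq.2 : ℤ))) :=
    summable_tr (fun p q => K.X ((p : ℤ), (q : ℤ))) N a c b d ha hc hsum
      (fun p q => h2 _) h3 h4 h5
  have hS2 : Summable fun pq : ℕ × ℕ => G (iota pq) := by
    have := summable_tr (fun p q => Rg (K.d ((p : ℤ), (q : ℤ)) (((p : ℤ), (q : ℤ)) + v)))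
      N a c b d ha hc hsum
      (fun p q => (range_props_src _ (h2 _)).1)
      (fun p q hq => Rg_isZero_of_src _ (h3 p q hq))
      (fun p q μ hμ => h4 p q μ ((range_props_src _ (h2 _)).2.2 μ hμ))
      (fun p q => ((range_props_src _ (h2 _)).2.1).trans (h5 p q))
    refine this.congr ?_
    intro pq
    rw [hGi]
    rfl
  have hS3 : Summable fun pq : ℕ × ℕ => G (iota pq - v) := by
    have := summable_tr (fun p q => Rg (K.d (((p : ℤ), (q : ℤ)) - v) ((p : ℤ), (q : ℤ))))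
      N a c b d ha hc hsum
      (fun p q => (range_props_tgt _ (h2 _)).1)
      (fun p q hq => Rg_isZero_of_tgt _ (h3 p q hq))
      (fun p q μ hμ => h4 p q μ ((range_props_tgt _ (h2 _)).2.2 μ hμ))
      (fun p q => ((range_props_tgt _ (h2 _)).2.1).trans (h5 p q))
    refine this.neg.congr ?_
    intro pq
    rw [hGv, dsrc_eq]
    rfl
  -- reindexing
  have hsuppG : Function.support G ⊆ Set.range iota := by
    intro x hx
    apply mem_range_iota
    intro hneg
    apply hx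
    have hz := Rg_isZero_of_src (K.d x (x + v)) (h1 x hneg)
    simp only [hG, dsrc, (isZero_props hz).2.2.1, mul_zero]
  have hsuppGv : Function.support (fun x => G (x - v)) ⊆ Set.range iota := by
    intro x hx
    apply mem_range_iota
    intro hneg
    apply hx
    have hz := Rg_isZero_of_tgt (K.d (x - v) x) (h1 x hneg)
    simp only [hG, dsrc_eq, (isZero_props hz).2.2.1, mul_zero]
  have hre1 : ∑' pq : ℕ × ℕ, G (iota pq) = ∑' x : ℤ × ℤ, G x :=
    iota_injective.tsum_eq hsuppG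
  have hre2 : ∑' pq : ℕ × ℕ, G (iota pq - v) = ∑' x : ℤ × ℤ, G (x - v) :=
    iota_injective.tsum_eq (f := fun x => G (x - v)) hsuppGv
  have hre3 : ∑' x : ℤ × ℤ, G (x - v) = ∑' x : ℤ × ℤ, G x :=
    (Equiv.subRight v).tsum_eq G
  rw [tsum_congr hterm, (hS1.add hS3).tsum_sub hS2, hS1.tsum_add hS3, hre2, hre3, hre1]
  ring

end Main

end Groth.Agent.Lib.Helper24SpTr
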