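import Mathlib
import Groth.Prelude.Def_SpSeq
import Groth.Agent.Lib.Helper24SpTr

set_option autoImplicit false

namespace Groth.Agent.Lib.Helper24SpAb

universe u

open CategoryTheory Polynomial Groth.Agent.Lib.Helper24SpTr Limits

section Bound

theorem norm_trace_le {V : Type*} [AddCommGroup V] [Module ℂ V] [FiniteDimensional ℂ V]
    (Φ : V →ₗ[ℂ] V) (B : ℝ) (h : ∀ μ, Module.End.HasEigenvalue Φ μ → ‖μ‖ ≤ B) :
    ‖LinearMap.trace ℂ V Φ‖ ≤ (Module.finrank ℂ V : ℝ) * B := by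
  have hsplit : Φ.charpoly.Splits := IsAlgClosed.splits _
  rw [Module.End.trace_eq_sum_roots_charpoly_of_splits hsplit]
  have h4 : ∀ μ ∈ Φ.charpoly.roots, ‖μ‖ ≤ B := by
    intro μ hμ
    apply h μ
    rw [Module.End.hasEigenvalue_iff_isRoot_charpoly]
    exact Polynomial.isRoot_of_mem_roots hμ
  have h5 : ‖Φ.charpoly.roots.sum‖ ≤ (Φ.charpoly.roots.map (fun μ => ‖μ‖)).sum :=
    norm_multiset_sum_le _
  have h6 : (Φ.charpoly.roots.map (fun μ => ‖μ‖)).sum ≤
      Multiset.card (Φ.charpoly.roots.map (fun μ => ‖μ‖)) • B := by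
    refine Multiset.sum_le_card_nsmul _ _ ?_
    intro x hx
    obtain ⟨μ, hμ, rfl⟩ := Multiset.mem_map.mp hx
    exact h4 μ hμ
  have h7 : Multiset.card Φ.charpoly.roots = Module.finrank ℂ V := by
    rw [← hsplit.natDegree_eq_card_roots, LinearMap.charpoly_natDegree]
  rw [Multiset.card_map, h7, nsmul_eq_mul] at h6
  exact h5.trans h6

variable (N : ℕ) (a c : ℕ → ℝ) (b d : ℕ → ℕ)

/-- the dominating function -/
noncomputable def bound (pq : ℕ × ℕ) : ℝ :=
  (c pq.1 * (d pq.1 : ℝ)) * (if pq.2 ≤ N then a pq.2 * (b pq.2 : ℝ) else 0)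

theorem bound_summable (ha : ∀ q, 0 ≤ a q) (hc : ∀ p, 0 ≤ c p)
    (hsum : Summable fun p : ℕ => c p * (d p : ℝ)) : Summable (bound N a c b d) := by
  have hF : Summable (fun q : ℕ => if q ≤ N then a q * (b q : ℝ) else 0) := by
    apply summable_of_ne_finset_zero (s := Finset.range (N+1))
    intro q hq
    rw [if_neg]
    intro hle
    exact hq (Finset.mem_range.mpr (by omega))
  have hg : ∀ q : ℕ, 0 ≤ (fun q : ℕ => if q ≤ N then a q * (b q : ℝ) else 0) q := by
    intro q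
    show 0 ≤ (if q ≤ N then a q * (b q : ℝ) else 0)
    split_ifs
    · exact mul_nonneg (ha q) (Nat.cast_nonneg _)
    · exact le_refl _
  have := Summable.mul_of_nonneg hsum hF
    (fun p => mul_nonneg (hc p) (Nat.cast_nonneg _)) hg
  unfold bound
  exact this

theorem norm_tr_le_bound (M : ModuleCat.{u} ℂ[X]) (p q : ℕ) (hf : Fin' M)
    (hz : N < q → IsZero M) (heig : ∀ μ, Eig M μ → ‖μ‖ ≤ a q * c p)
    (hrk : rk M ≤ b q * d p) (ha : 0 ≤ a q) (hc : 0 ≤ c p) :
    ‖tr M‖ ≤ bound N a c b d (p, q) := by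
  unfold bound
  by_cases hq : q ≤ N
  · simp only [if_pos hq]
    unfold Fin' at hf
    haveI := hf
    have h1 := norm_trace_le (PhiM M) (a q * c p) heig
    have h8 : (Module.finrank ℂ (VV M) : ℝ) ≤ (b q : ℝ) * (d p : ℝ) := by
      exact_mod_cast hrk
    calc ‖tr M‖ ≤ (Module.finrank ℂ (VV M) : ℝ) * (a q * c p) := h1
      _ ≤ ((b q : ℝ) * (d p : ℝ)) * (a q * c p) :=
          mul_le_mul_of_nonneg_right h8 (mul_nonneg ha hc)
      _ = c p * (d p : ℝ) * (a q * (b q : ℝ)) := by ring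
  · simp only [if_neg hq, mul_zero]
    rw [(isZero_props (hz (by omega))).2.2.1, norm_zero]

end Bound

section Pages

variable (N : ℕ) (a c : ℕ → ℝ) (b d : ℕ → ℕ)

/-- the boundedness condition on a bigraded family -/
structure Good (K : ℤ × ℤ → ModuleCat.{u} ℂ[X]) : Prop where
  quad : ∀ pq : ℤ × ℤ, pq.1 < 0 ∨ pq.2 < 0 → IsZero (K pq)
  fin : ∀ pq, Fin' (K pq)
  zero : ∀ p q : ℕ, N < q → IsZero (K ((p : ℤ), (q : ℤ)))
  eig : ∀ (p q : ℕ) (μ : ℂ), Eig (K ((p : ℤ), (q : ℤ))) μ → ‖μ‖ ≤ a q * c p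
  rk : ∀ p q : ℕ, rk (K ((p : ℤ), (q : ℤ))) ≤ b q * d p

/-- alternating sum of traces -/
noncomputable def altSum (K : ℤ × ℤ → ModuleCat.{u} ℂ[X]) : ℂ :=
  ∑' pq : ℕ × ℕ, (-1 : ℂ) ^ (pq.1 + pq.2) * tr (K ((pq.1 : ℤ), (pq.2 : ℤ)))

variable (E : E₂CohomologicalSpectralSequence (ModuleCat.{u} ℂ[X]))

theorem pages_good (ha : ∀ q, 0 ≤ a q) (hc : ∀ p, 0 ≤ c p)
    (hsum : Summable fun p : ℕ => c p * (d p : ℝ))
    (h2 : Good N a c b d (fun pq => (E.page 2 le_rfl).X pq)) :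
    ∀ (r : ℤ) (hr : 2 ≤ r), Good N a c b d (fun pq => (E.page r hr).X pq) ∧
      altSum (fun pq => (E.page r hr).X pq) = altSum (fun pq => (E.page 2 le_rfl).X pq) := by
  intro r hr
  induction r, hr using Int.le_induction with
  | base => exact ⟨h2, rfl⟩
  | succ r hr ih =>
    obtain ⟨hg, hs⟩ := ih
    have hmain := Groth.Agent.Lib.Helper24SpTr.main ((r, 1 - r) : ℤ × ℤ) (by simp)
      (E.page r hr) (fun pq => (E.page (r + 1) (Int.le_add_one hr)).X pq)
      (fun pq => E.iso r (r + 1) pq rfl hr) N a c b d ha hc hsum hg.quad hg.fin hg.zero hg.eig hg.rk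
    refine ⟨⟨hmain.1.1, hmain.1.2.1, hmain.1.2.2.1, hmain.1.2.2.2.1, hmain.1.2.2.2.2⟩, ?_⟩
    rw [← hs]
    exact hmain.2

end Pages


section Stationary

open Filter Topology

variable (E : E₂CohomologicalSpectralSequence (ModuleCat.{u} ℂ[X]))

theorem tr_Rg_zero {A B : ModuleCat.{u} ℂ[X]} (f : A ⟶ B) (h : f = 0) : tr (Rg f) = 0 := by
  subst h
  haveI : Subsingleton (LinearMap.range (0 : A ⟶ B).hom) := by
    rw [ModuleCat.hom_zero, LinearMap.range_zero]; infer_instance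
  exact (isZero_props (ModuleCat.isZero_of_subsingleton _)).2.2.1

theorem tr_next_of_d_zero (r : ℤ) (hr : 2 ≤ r) (pq : ℤ × ℤ)
    (hf : Fin' ((E.page r hr).X pq))
    (h_in : (E.page r hr).d (pq - (r, 1 - r)) pq = 0)
    (h_out : (E.page r hr).d pq (pq + (r, 1 - r)) = 0) :
    tr ((E.page (r + 1) (Int.le_add_one hr)).X pq) = tr ((E.page r hr).X pq) := by
  have h := homology_complex_props (E.page r hr) pq hf
  have h' := iso_props (E.iso r (r + 1) pq rfl hr) h.1
  rw [h'.2.2.1, h.2.2.2, dsrc_eq, dsrc, tr_Rg_zero _ h_in, tr_Rg_zero _ h_out]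
  ring

theorem tr_stationary (hfin : ∀ (r : ℤ) (hr : 2 ≤ r) (pq : ℤ × ℤ), Fin' ((E.page r hr).X pq))
    (pq : ℤ × ℤ) (r₁ : ℤ) (hst : SpSeq.StationaryAt E pq r₁) :
    ∀ (r : ℤ) (hr : r₁ ≤ r),
      tr ((E.page r (hst.1.trans hr)).X pq) = tr ((E.page r₁ hst.1).X pq) := by
  intro r hr
  induction r, hr using Int.le_induction with
  | base => rfl
  | succ r hr ih =>
    rw [← ih]
    have hz := hst.2 r (hst.1.trans hr) hr
    exact tr_next_of_d_zero E r (hst.1.trans hr) pq (hfin _ _ _) hz.1 hz.2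

variable (N : ℕ) (a c : ℕ → ℝ) (b d : ℕ → ℕ)

theorem limit_altSum (ha : ∀ q, 0 ≤ a q) (hc : ∀ p, 0 ≤ c p)
    (hsum : Summable fun p : ℕ => c p * (d p : ℝ))
    (h2 : Good N a c b d (fun pq => (E.page 2 le_rfl).X pq))
    (rk : ℤ × ℤ → ℤ) (stat : ∀ pq, SpSeq.StationaryAt E pq (rk pq)) :
    (∀ pq : ℕ × ℕ, ‖tr ((E.page (rk (iota pq)) (stat (iota pq)).1).X (iota pq))‖ ≤
        bound N a c b d pq) ∧
    ∑' pq : ℕ × ℕ, (-1 : ℂ) ^ (pq.1 + pq.2) *
        tr ((E.page (rk (iota pq)) (stat (iota pq)).1).X (iota pq)) =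
      altSum (fun pq => (E.page 2 le_rfl).X pq) := by
  have hpg := pages_good N a c b d E ha hc hsum h2
  have hbd : ∀ (r : ℤ) (hr : 2 ≤ r) (pq : ℕ × ℕ),
      ‖tr ((E.page r hr).X (iota pq))‖ ≤ bound N a c b d pq := by
    intro r hr pq
    have hg := (hpg r hr).1
    exact norm_tr_le_bound N a c b d _ pq.1 pq.2 (hg.fin _) (hg.zero pq.1 pq.2)
      (hg.eig pq.1 pq.2) (hg.rk pq.1 pq.2) (ha _) (hc _)
  refine ⟨fun pq => hbd _ _ pq, ?_⟩
  -- dominated convergence
  have h2k : ∀ k : ℕ, (2 : ℤ) ≤ 2 + (k : ℤ) := fun k => by omega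
  set f : ℕ → ℕ × ℕ → ℂ := fun k pq =>
    (-1 : ℂ) ^ (pq.1 + pq.2) * tr ((E.page (2 + (k : ℤ)) (h2k k)).X (iota pq)) with hf
  set g : ℕ × ℕ → ℂ := fun pq => (-1 : ℂ) ^ (pq.1 + pq.2) *
        tr ((E.page (rk (iota pq)) (stat (iota pq)).1).X (iota pq)) with hg
  have hfin : ∀ (r : ℤ) (hr : 2 ≤ r) (pq : ℤ × ℤ), Fin' ((E.page r hr).X pq) :=
    fun r hr pq => (hpg r hr).1.fin pq
  have hab : ∀ pq : ℕ × ℕ, Tendsto (f · pq) atTop (𝓝 (g pq)) := by
    intro pq
    apply tendsto_atTop_of_eventually_const (i₀ := (rk (iota pq) - 2).toNat)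
    intro k hk
    have hle : rk (iota pq) ≤ 2 + (k : ℤ) := by
      have : rk (iota pq) - 2 ≤ (k : ℤ) := by
        have := Int.self_le_toNat (rk (iota pq) - 2)
        have hk' : ((rk (iota pq) - 2).toNat : ℤ) ≤ (k : ℤ) := by exact_mod_cast hk
        omega
      omega
    simp only [hf, hg]
    rw [tr_stationary E hfin (iota pq) (rk (iota pq)) (stat (iota pq)) (2 + (k : ℤ)) hle]
  have hbound : ∀ᶠ k in atTop, ∀ pq, ‖f k pq‖ ≤ bound N a c b d pq := by
    refine Filter.Eventually.of_forall fun k pq => ?_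
    simp only [hf]
    rw [norm_mul, norm_pow, norm_neg, norm_one, one_pow, one_mul]
    exact hbd _ _ pq
  have hlim := tendsto_tsum_of_dominated_convergence (bound_summable N a c b d ha hc hsum)
    hab hbound
  have hconst : ∀ k : ℕ, ∑' pq, f k pq = altSum (fun pq => (E.page 2 le_rfl).X pq) := by
    intro k
    exact (hpg (2 + (k : ℤ)) (h2k k)).2
  have hlim' : Tendsto (fun k : ℕ => ∑' pq, f k pq) atTop
      (𝓝 (altSum (fun pq => (E.page 2 le_rfl).X pq))) := by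
    simp only [hconst]
    exact tendsto_const_nhds
  exact tendsto_nhds_unique hlim hlim'

end Stationary

section Ext

open Function

variable {M M' M'' : ModuleCat.{u} ℂ[X]}

theorem ext_fin (i : M' ⟶ M) (q : M ⟶ M'') (hq : Surjective q.hom)
    (hex : ∀ x : M, q.hom x = 0 ↔ ∃ y : M', i.hom y = x) (h' : Fin' M') (h'' : Fin' M'') :
    Fin' M := by
  unfold Fin' at h' h'' ⊢
  haveI := h'; haveI := h''
  exact Module.Finite.of_exact (f := mapV i) (g := mapV q) (fun x => hex x) hq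

end Ext

section Fil

variable {Y : ModuleCat.{u} ℂ[X]} (F : ℤ → Subobject Y) (hF : Antitone F)

/-- the step `F p` as a module -/
noncomputable abbrev stp (p : ℤ) : ModuleCat.{u} ℂ[X] := Subobject.underlying.obj (F p)

theorem fil_ses (p : ℤ) :
    (Fin' (stp F (p + 1)) → Fin' (SpSeq.grPiece F hF p) → Fin' (stp F p)) ∧
    (Fin' (stp F p) → tr (stp F p) = tr (stp F (p + 1)) + tr (SpSeq.grPiece F hF p)) := by
  have hle : F (p + 1) ≤ F p := hF (Int.le_add_one le_rfl)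
  set i : stp F (p + 1) ⟶ stp F p := (F (p + 1)).ofLE (F p) hle with hi
  set q : stp F p ⟶ SpSeq.grPiece F hF p := cokernel.π i with hq
  have hinj : Function.Injective i.hom := (ModuleCat.mono_iff_injective i).mp inferInstance
  have hsurj : Function.Surjective q.hom := (ModuleCat.epi_iff_surjective q).mp
    (by rw [hq]; exact coequalizer.π_epi)
  have hS : (ShortComplex.mk i q (cokernel.condition i)).Exact :=
    ShortComplex.exact_of_g_is_cokernel _ (cokernelIsCokernel i)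
  have hex : ∀ x : stp F p, q.hom x = 0 ↔ ∃ y : stp F (p + 1), i.hom y = x := by
    intro x
    constructor
    · intro hx
      exact (ShortComplex.moduleCat_exact_iff _).mp hS x hx
    · rintro ⟨y, rfl⟩
      have := cokernel.condition i
      exact congrArg (fun f => f.hom y) this
  exact ⟨fun h1 h2 => ext_fin i q hsurj hex h1 h2, fun h => tr_ses i q hinj hsurj hex h⟩

theorem stp_bot (p : ℤ) (h : F p = ⊥) : IsZero (stp F p) := by
  have h1 : (F p).arrow = 0 := by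
    rw [h]; exact Subobject.bot_arrow
  exact IsZero.of_mono_eq_zero _ h1

theorem stp_top (p : ℤ) (h : F p = ⊤) (hf : Fin' (stp F p)) :
    Fin' Y ∧ tr Y = tr (stp F p) := by
  haveI : IsIso (F p).arrow := (Subobject.isIso_arrow_iff_eq_top _).mpr h
  have := iso_props (asIso (F p).arrow) hf
  exact ⟨this.1, this.2.2.1⟩

theorem fil_fin (b : ℤ) (hb : F b = ⊥) (hgr : ∀ p, Fin' (SpSeq.grPiece F hF p)) :
    ∀ p, Fin' (stp F p) := by
  have hdown : ∀ j : ℕ, Fin' (stp F (b - j)) := by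
    intro j
    induction j with
    | zero =>
      have : b - ((0 : ℕ) : ℤ) = b := by simp
      rw [this]
      exact (isZero_props (stp_bot F b hb)).1
    | succ j ih =>
      have h1 : b - ((j + 1 : ℕ) : ℤ) + 1 = b - (j : ℤ) := by push_cast; ring
      have := (fil_ses F hF (b - ((j + 1 : ℕ) : ℤ))).1
      rw [h1] at this
      exact this ih (hgr _)
  intro p
  by_cases hp : p ≤ b
  · have : p = b - ((b - p).toNat : ℤ) := by
      rw [Int.toNat_of_nonneg (by omega)]; ring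
    rw [this]
    exact hdown _
  · have hle : F p ≤ F b := hF (by omega)
    rw [hb] at hle
    exact (isZero_props (stp_bot F p (le_bot_iff.mp hle))).1

theorem telescope (T g : ℤ → ℂ) (n : ℕ) (hT : ∀ p, T p = T (p + 1) + g p)
    (hneg : ∀ p, p < 0 → g p = 0) (hbig : ∀ p, (n : ℤ) < p → g p = 0)
    (a b : ℤ) (ha : a ≤ 0) (hb : (n : ℤ) + 1 ≤ b) (hb0 : T b = 0) :
    T a = ∑ k ∈ Finset.range (n + 1), g (k : ℤ) := by
  have h1 : ∀ j : ℕ, T (-(j : ℤ)) = T 0 := by
    intro j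
    induction j with
    | zero => simp
    | succ j ih =>
      rw [hT, hneg _ (by push_cast; omega), add_zero]
      have : -((j + 1 : ℕ) : ℤ) + 1 = -(j : ℤ) := by push_cast; ring
      rw [this, ih]
  have h2 : ∀ j : ℕ, T ((n : ℤ) + 1 + j) = T ((n : ℤ) + 1) := by
    intro j
    induction j with
    | zero => simp
    | succ j ih =>
      have e : (n : ℤ) + 1 + ((j + 1 : ℕ) : ℤ) = (n : ℤ) + 1 + (j : ℤ) + 1 := by
        push_cast; ring
      rw [e, ← ih, hT ((n : ℤ) + 1 + j), hbig _ (by omega), add_zero]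
  have h3 : T a = T 0 := by
    have : a = -((-a).toNat : ℤ) := by
      rw [Int.toNat_of_nonneg (by omega)]; ring
    rw [this]; exact h1 _
  have h4 : T ((n : ℤ) + 1) = 0 := by
    have : b = (n : ℤ) + 1 + ((b - ((n : ℤ) + 1)).toNat : ℤ) := by
      rw [Int.toNat_of_nonneg (by omega)]; ring
    rw [← h2 (b - ((n : ℤ) + 1)).toNat, ← this, hb0]
  have h5 : ∑ k ∈ Finset.range (n + 1), g (k : ℤ) =
      ∑ k ∈ Finset.range (n + 1), (T (k : ℤ) - T ((k + 1 : ℕ) : ℤ)) := by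
    refine Finset.sum_congr rfl fun k _ => ?_
    rw [hT (k : ℤ)]
    push_cast; ring
  rw [h5, Finset.sum_range_sub' (fun k : ℕ => T (k : ℤ)), h3]
  push_cast
  rw [h4, sub_zero]

theorem fil_trace (n : ℕ) (a b : ℤ) (ha : F a = ⊤) (hb : F b = ⊥)
    (hgr : ∀ p, Fin' (SpSeq.grPiece F hF p))
    (hneg : ∀ p, p < 0 → tr (SpSeq.grPiece F hF p) = 0)
    (hbig : ∀ p, (n : ℤ) < p → tr (SpSeq.grPiece F hF p) = 0) :
    Fin' Y ∧ tr Y = ∑ k ∈ Finset.range (n + 1), tr (SpSeq.grPiece F hF (k : ℤ)) := by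
  have hfin := fil_fin F hF b hb hgr
  have ha' : F (min a 0) = ⊤ := by
    have : F a ≤ F (min a 0) := hF (min_le_left _ _)
    rw [ha] at this
    exact top_le_iff.mp this
  have hb' : F (max b ((n : ℤ) + 1)) = ⊥ := by
    have : F (max b ((n : ℤ) + 1)) ≤ F b := hF (le_max_left _ _)
    rw [hb] at this
    exact le_bot_iff.mp this
  have htop := stp_top F (min a 0) ha' (hfin _)
  refine ⟨htop.1, ?_⟩
  rw [htop.2]
  exact telescope (fun p => tr (stp F p)) (fun p => tr (SpSeq.grPiece F hF p)) n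
    (fun p => (fil_ses F hF p).2 (hfin p)) hneg hbig (min a 0) (max b ((n : ℤ) + 1))
    (min_le_right _ _) (le_max_right _ _)
    (isZero_props (stp_bot F _ hb')).2.2.1

end Fil


section Final

open Finset.HasAntidiagonal

theorem antidiag_sum (f : ℕ × ℕ → ℂ) (hf : Summable fun x => ‖f x‖) :
    Summable (fun n => ‖∑ x ∈ Finset.HasAntidiagonal.antidiagonal n, f x‖) ∧
    ∑' n, ∑ x ∈ Finset.HasAntidiagonal.antidiagonal n, f x = ∑' x, f x := by
  have hσ : Summable fun x : Σ n : ℕ, Finset.HasAntidiagonal.antidiagonal n => ‖f x.2‖ :=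
    (Finset.HasAntidiagonal.sigmaAntidiagonalEquivProd.summable_iff (f := fun x => ‖f x‖)).mpr hf
  have h1 : Summable fun n => ∑ x ∈ Finset.HasAntidiagonal.antidiagonal n, ‖f x‖ := by
    conv => congr; ext; rw [← Finset.sum_finset_coe, ← tsum_fintype (L := .unconditional _)]
    exact hσ.sigma' fun n => (hasSum_fintype _).summable
  refine ⟨Summable.of_nonneg_of_le (fun _ => norm_nonneg _) (fun n => norm_sum_le _ _) h1, ?_⟩
  have hσ' : Summable fun x : Σ n : ℕ, Finset.HasAntidiagonal.antidiagonal n => f x.2 := hσ.of_norm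
  conv_lhs => congr; ext; rw [← Finset.sum_finset_coe, ← tsum_fintype (L := .unconditional _)]
  rw [← Finset.HasAntidiagonal.sigmaAntidiagonalEquivProd.tsum_eq f]
  exact (hσ'.tsum_sigma' fun n => (hasSum_fintype _).summable).symm

variable (E : E₂CohomologicalSpectralSequence (ModuleCat.{u} ℂ[X]))
  (H : ℤ → ModuleCat.{u} ℂ[X]) (abut : SpSeq.Abutment E H)

/-- trace of the limit term -/
noncomputable def trInfZ (pq : ℤ × ℤ) : ℂ :=
  tr ((E.page (abut.rk pq) (abut.stat pq).1).X pq)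

theorem gr_props (hfin : ∀ (r : ℤ) (hr : 2 ≤ r) (pq : ℤ × ℤ), Fin' ((E.page r hr).X pq))
    (n p : ℤ) :
    Fin' (SpSeq.grPiece (abut.fil n) (abut.anti n) p) ∧
      tr (SpSeq.grPiece (abut.fil n) (abut.anti n) p) = trInfZ E H abut (p, n - p) := by
  have h0 := iso_props (abut.β (p, n - p)) (hfin _ _ _)
  have h1 : Fin' (SpSeq.grPiece (abut.fil (p + (n - p))) (abut.anti (p + (n - p))) p) ∧
      tr (SpSeq.grPiece (abut.fil (p + (n - p))) (abut.anti (p + (n - p))) p) =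
        trInfZ E H abut (p, n - p) := ⟨h0.1, h0.2.2.1⟩
  have e : p + (n - p) = n := by ring
  rw [e] at h1
  exact h1

variable (N : ℕ) (a c : ℕ → ℝ) (b d : ℕ → ℕ)

theorem final (hfin : ∀ n, abut.IsFinite n) (ha : ∀ q, 0 ≤ a q) (hc : ∀ p, 0 ≤ c p)
    (hsum : Summable fun p : ℕ => c p * (d p : ℝ))
    (h2 : Good N a c b d (fun pq => (E.page 2 le_rfl).X pq)) :
    Summable (fun n : ℕ => ‖tr (H (n : ℤ))‖) ∧
    ∑' n : ℕ, (-1 : ℂ) ^ n * tr (H (n : ℤ)) = altSum (fun pq => (E.page 2 le_rfl).X pq) := by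
  have hpg := pages_good N a c b d E ha hc hsum h2
  have hfinp : ∀ (r : ℤ) (hr : 2 ≤ r) (pq : ℤ × ℤ), Fin' ((E.page r hr).X pq) :=
    fun r hr pq => (hpg r hr).1.fin pq
  have hlim := limit_altSum E N a c b d ha hc hsum h2 abut.rk abut.stat
  -- the family on ℕ × ℕ
  set f : ℕ × ℕ → ℂ := fun x => (-1 : ℂ) ^ (x.1 + x.2) * trInfZ E H abut (iota x) with hf
  have hfn : Summable fun x => ‖f x‖ := by
    refine Summable.of_nonneg_of_le (fun _ => norm_nonneg _) (fun x => ?_)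
      (bound_summable N a c b d ha hc hsum)
    simp only [hf]
    rw [norm_mul, norm_pow, norm_neg, norm_one, one_pow, one_mul]
    exact hlim.1 x
  have hzero : ∀ pq : ℤ × ℤ, pq.1 < 0 ∨ pq.2 < 0 → trInfZ E H abut pq = 0 := by
    intro pq hpq
    exact (isZero_props ((hpg _ _).1.quad pq hpq)).2.2.1
  -- trace of H n
  have hH : ∀ n : ℕ, (-1 : ℂ) ^ n * tr (H (n : ℤ)) = ∑ x ∈ antidiagonal n, f x := by
    intro n
    obtain ⟨⟨a₀, ha₀⟩, ⟨b₀, hb₀⟩⟩ := hfin (n : ℤ)
    have hgr := fun p => gr_props E H abut hfinp (n : ℤ) p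
    have := fil_trace (abut.fil (n : ℤ)) (abut.anti (n : ℤ)) n a₀ b₀ ha₀ hb₀
      (fun p => (hgr p).1)
      (fun p hp => by rw [(hgr p).2]; exact hzero _ (Or.inl hp))
      (fun p hp => by
        rw [(hgr p).2]
        exact hzero _ (Or.inr (by simp only; omega)))
    rw [this.2, Finset.mul_sum, Finset.Nat.sum_antidiagonal_eq_sum_range_succ_mk]
    refine Finset.sum_congr rfl fun k hk => ?_
    have hk' : k ≤ n := Nat.lt_succ_iff.mp (Finset.mem_range.mp hk)
    simp only [hf]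
    rw [(hgr (k : ℤ)).2]
    have e1 : k + (n - k) = n := by omega
    have e2 : iota (k, n - k) = ((k : ℤ), (n : ℤ) - (k : ℤ)) := by
      unfold iota
      simp only [Nat.cast_sub hk']
    rw [e1, e2]
  have had := antidiag_sum f hfn
  constructor
  · refine had.1.congr fun n => ?_
    rw [← hH n, norm_mul, norm_pow, norm_neg, norm_one, one_pow, one_mul]
  · rw [tsum_congr hH, had.2]
    exact hlim.2

end Final

end Groth.Agent.Lib.Helper24SpAb
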