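import Mathlib

set_option autoImplicit false
universe u
open Polynomial

namespace Groth.Agent.Lib.Helper24StableSub

theorem binom {R : Type*} [CommRing R] (x : R) :
    ∀ j : ℕ, ∃ q : R, (1 - x)^j = 1 - (j:R)*x + x^2*q := by
  intro j
  induction j with
  | zero => exact ⟨0, by simp⟩
  | succ j ih =>
    obtain ⟨q, hq⟩ := ih
    refine ⟨(j:R) + q - x*q, ?_⟩
    rw [pow_succ, hq]
    push_cast
    ring

theorem prop_ring {R : Type*} [CommRing R] (u v q q' C C0 r' s' : R) (j : ℕ)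
    (hv : v = 1 - u*v)
    (hq : v^j = 1 - (j:R)*(u*v) + (u*v)^2*q)
    (hq' : v^(j+1) = 1 - ((j:R)+1)*(u*v) + (u*v)^2*q') :
    (C*(u*v)^j + (u*v)^(j+1)*(C0+(u*v)*s')) - (C*u^j + u^(j+1)*(C0+u*r'))
      = (-(j:R)*C)*u^(j+1) + u^(j+2)*(C*((j:R)*v+v^2*q)
          + (v*s' - r' + (-((j:R)+1)*v + u*v^2*q')*(C0+u*v*s'))) := by
  linear_combination (C*u^j) * hq + (u^(j+1)*(C0+u*v*s')) * hq' + (-(j:R)*C*u^(j+1)) * hv

theorem core {k : Type*} [Field k] [CharZero k] {R : Type*} [CommRing R] [Algebra k R]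
    (N : ℕ) (u : R) (hu : u^(N+1) = 0)
    (hdec : ∀ r : R, ∃ (c0 : k) (r' : R), r = algebraMap k R c0 + u*r')
    (A : Subalgebra k R) (σ : R →ₐ[k] R) (v : R) (hv : v = 1 - u*v)
    (hσu : σ u = u*v) (hσA : ∀ g ∈ A, σ g ∈ A) :
    ∃ n : ℕ, 1 ≤ n ∧ n ≤ N+1 ∧
      Subalgebra.toSubmodule A
        = Submodule.span k {1} ⊔ (Ideal.span {u^n}).restrictScalars k := by
  classical
  obtain ⟨P, hP⟩ : ∃ P : ℕ → Prop, ∀ j, P j ↔ (1 ≤ j ∧ j ≤ N ∧ ∃ g ∈ A, ∃ (c : k) (r : R),
      c ≠ 0 ∧ g = algebraMap k R c * u^j + u^(j+1)*r) := ⟨_, fun _ => Iff.rfl⟩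
  have hzero : ∀ j, N+1 ≤ j → u^j = 0 := by
    intro j hj
    obtain ⟨e, rfl⟩ := Nat.exists_eq_add_of_le hj
    rw [pow_add, hu, zero_mul]
  have hprop : ∀ j, P j → j < N → P (j+1) := by
    intro j hj hjN
    rw [hP] at hj ⊢
    obtain ⟨h1, h2, g, hg, c, r, hc, rfl⟩ := hj
    obtain ⟨C0, r', rfl⟩ := hdec r
    obtain ⟨q, hq⟩ := binom (u*v) j
    obtain ⟨q', hq'⟩ := binom (u*v) (j+1)
    rw [← hv] at hq hq'
    push_cast at hq'
    refine ⟨by omega, by omega, _, A.sub_mem (hσA _ hg) hg, -(j:k)*c,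
      algebraMap k R c*((j:R)*v+v^2*q)
          + (v*σ r' - r' + (-((j:R)+1)*v + u*v^2*q')*(algebraMap k R C0+u*v*σ r')), ?_, ?_⟩
    · have hj0 : (j:k) ≠ 0 := by exact_mod_cast (by omega : j ≠ 0)
      exact mul_ne_zero (neg_ne_zero.mpr hj0) hc
    · rw [map_mul, map_neg, map_natCast]
      simp only [map_add, map_mul, map_pow, AlgHom.commutes, hσu]
      linear_combination prop_ring u v q q' (algebraMap k R c) (algebraMap k R C0) r' (σ r') j hv hq hq'
  obtain ⟨n, hn1, hnN, hup, hmin⟩ : ∃ n, 1 ≤ n ∧ n ≤ N+1 ∧ (∀ j, n ≤ j → j ≤ N → P j)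
      ∧ (∀ j, P j → n ≤ j) := by
    by_cases hex : ∃ j, P j
    · refine ⟨Nat.find hex, ?_, ?_, ?_, fun j hj => Nat.find_min' hex hj⟩
      · have := Nat.find_spec hex
        rw [hP] at this
        exact this.1
      · have := Nat.find_spec hex
        rw [hP] at this
        omega
      · intro j hj
        induction j, hj using Nat.le_induction with
        | base => intro _; exact Nat.find_spec hex
        | succ m hm ih => intro hmN; exact hprop m (ih (by omega)) (by omega)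
    · exact ⟨N+1, by omega, le_refl _, fun j h1 h2 => by omega, fun j hj => absurd ⟨j, hj⟩ hex⟩
  have hpow : ∀ d j, n ≤ j → N+1 ≤ j+d → ∀ r : R, u^j*r ∈ A := by
    intro d
    induction d with
    | zero =>
      intro j _ hj r
      rw [hzero j (by omega), zero_mul]
      exact A.zero_mem
    | succ d ih =>
      intro j hnj hj r
      by_cases hjN : N+1 ≤ j
      · rw [hzero j hjN, zero_mul]
        exact A.zero_mem
      · have hPj := hup j hnj (by omega)
        rw [hP] at hPj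
        obtain ⟨_, _, g, hg, c, r0, hc, hgeq⟩ := hPj
        obtain ⟨c0, r', rfl⟩ := hdec r
        have h1 := ih (j+1) (by omega) (by omega) (r' - algebraMap k R (c0/c) * r0)
        have h2 : algebraMap k R (c0/c) * g ∈ A := A.mul_mem (A.algebraMap_mem _) hg
        have h3 : algebraMap k R c0 = algebraMap k R (c0/c) * algebraMap k R c := by
          rw [← map_mul, div_mul_cancel₀ _ hc]
        have h4 : u^j*(algebraMap k R c0 + u*r')
            = algebraMap k R (c0/c) * g + u^(j+1)*(r' - algebraMap k R (c0/c) * r0) := by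
          rw [hgeq]
          linear_combination (u^j) * h3
        rw [h4]
        exact A.add_mem h2 h1
  have hQ : ∀ d j, 1 ≤ j → n ≤ j+d → ∀ h ∈ A, (∃ r, h = u^j*r) → h ∈ Ideal.span {u^n} := by
    intro d
    induction d with
    | zero =>
      intro j _ hj h _ hr
      obtain ⟨r, hr⟩ := hr
      rw [Ideal.mem_span_singleton]
      obtain ⟨e, rfl⟩ := Nat.exists_eq_add_of_le (by omega : n ≤ j)
      exact ⟨u^e*r, by rw [hr]; ring⟩
    | succ d ih =>
      intro j h1 hj h hh hr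
      obtain ⟨r, hr⟩ := hr
      by_cases hnj : n ≤ j
      · rw [Ideal.mem_span_singleton]
        obtain ⟨e, rfl⟩ := Nat.exists_eq_add_of_le hnj
        exact ⟨u^e*r, by rw [hr]; ring⟩
      · obtain ⟨c0, r', rfl⟩ := hdec r
        have hc0 : c0 = 0 := by
          by_contra hc
          have hPj : P j := by
            rw [hP]
            exact ⟨h1, by omega, h, hh, c0, r', hc, by rw [hr]; ring⟩
          exact hnj (hmin j hPj)
        subst hc0
        exact ih (j+1) (by omega) (by omega) h hh ⟨r', by rw [hr, map_zero]; ring⟩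
  refine ⟨n, hn1, hnN, le_antisymm ?_ ?_⟩
  · intro g hg
    rw [Subalgebra.mem_toSubmodule] at hg
    obtain ⟨c0, r', hgeq⟩ := hdec g
    have hh : g - algebraMap k R c0 ∈ A := A.sub_mem hg (A.algebraMap_mem _)
    have hmem := hQ n 1 le_rfl (by omega) _ hh ⟨r', by rw [hgeq]; ring⟩
    have hg2 : g = c0 • (1:R) + (g - algebraMap k R c0) := by
      rw [Algebra.smul_def, mul_one]; ring
    rw [hg2]
    exact Submodule.add_mem_sup (Submodule.smul_mem _ _ (Submodule.subset_span rfl))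
      ((Submodule.restrictScalars_mem k _ _).mpr hmem)
  · rw [sup_le_iff]
    constructor
    · rw [Submodule.span_le]
      intro x hx
      rw [Set.mem_singleton_iff] at hx
      rw [hx]
      exact A.one_mem
    · intro x hx
      rw [Submodule.restrictScalars_mem, Ideal.mem_span_singleton'] at hx
      obtain ⟨a, rfl⟩ := hx
      rw [mul_comm]
      exact hpow (N+1) n le_rfl (by omega) a

theorem s14639 (k : Type u) [Field k] [CharZero k]
    (N : ℕ) (A : Subalgebra k (AdjoinRoot ((Polynomial.X : Polynomial k) ^ (N + 1))))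
    (hA : ∀ (a : k) (σ : AdjoinRoot ((Polynomial.X : Polynomial k) ^ (N + 1)) →ₐ[k] AdjoinRoot ((Polynomial.X : Polynomial k) ^ (N + 1))),
      σ (AdjoinRoot.root ((Polynomial.X : Polynomial k) ^ (N + 1))) * (1 + algebraMap k (AdjoinRoot ((Polynomial.X : Polynomial k) ^ (N + 1))) a * AdjoinRoot.root ((Polynomial.X : Polynomial k) ^ (N + 1))) = AdjoinRoot.root ((Polynomial.X : Polynomial k) ^ (N + 1)) →
        A.map σ ≤ A) :
    ∃ n : ℕ, 1 ≤ n ∧ n ≤ N + 1 ∧
      Subalgebra.toSubmodule A =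
        Submodule.span k {1} ⊔ (Ideal.span {AdjoinRoot.root ((Polynomial.X : Polynomial k) ^ (N + 1)) ^ n}).restrictScalars k := by
  have hu : (AdjoinRoot.root ((X : k[X]) ^ (N + 1)))^(N+1) = 0 := by
    have h := AdjoinRoot.mk_self (f := (X : k[X])^(N+1))
    rw [map_pow, AdjoinRoot.mk_X] at h
    exact h
  have hdec : ∀ r : AdjoinRoot ((X : k[X]) ^ (N + 1)), ∃ (c0 : k) (r' : AdjoinRoot ((X : k[X]) ^ (N + 1))),
      r = algebraMap k _ c0 + AdjoinRoot.root ((X : k[X]) ^ (N + 1)) * r' := by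
    intro r
    obtain ⟨p, rfl⟩ := AdjoinRoot.mk_surjective r
    refine ⟨p.coeff 0, AdjoinRoot.mk _ p.divX, ?_⟩
    conv_lhs => rw [← Polynomial.X_mul_divX_add p]
    rw [map_add, map_mul, AdjoinRoot.mk_X, AdjoinRoot.mk_C, AdjoinRoot.algebraMap_eq]
    exact add_comm _ _
  have hnil : IsNilpotent (AdjoinRoot.root ((X : k[X]) ^ (N + 1))) := ⟨N+1, hu⟩
  obtain ⟨v, hw⟩ := (hnil.isUnit_one_add).exists_right_inv
  have hv : v = 1 - AdjoinRoot.root ((X : k[X]) ^ (N + 1)) * v := by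
    linear_combination hw
  have h0 : ((X : k[X]) ^ (N + 1)).eval₂ (Algebra.ofId k (AdjoinRoot ((X : k[X]) ^ (N + 1))))
      (AdjoinRoot.root ((X : k[X]) ^ (N + 1)) * v) = 0 := by
    rw [eval₂_pow, eval₂_X, mul_pow, hu, zero_mul]
  have hσu : AdjoinRoot.liftAlgHom ((X : k[X]) ^ (N + 1)) (Algebra.ofId k _) _ h0
      (AdjoinRoot.root ((X : k[X]) ^ (N + 1))) = AdjoinRoot.root ((X : k[X]) ^ (N + 1)) * v :=
    AdjoinRoot.liftAlgHom_root _ _ _ _
  have hA' := hA 1 (AdjoinRoot.liftAlgHom ((X : k[X]) ^ (N + 1)) (Algebra.ofId k _) _ h0) (by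
    rw [hσu, map_one, one_mul]
    linear_combination (AdjoinRoot.root ((X : k[X]) ^ (N + 1))) * hw)
  exact core N _ hu hdec A _ v hv hσu (fun g hg => hA' (Subalgebra.mem_map.mpr ⟨g, hg, rfl⟩))

end Groth.Agent.Lib.Helper24StableSub
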