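import Mathlib

open CategoryTheory Simplicial SimplexCategory Truncated
open Opposite Category Functor Limits SSet StructuredArrow

universe u
set_option autoImplicit false

namespace Groth.Agent.Lib.Helper24StdCosk

abbrev strArrowMk₁ {i : ℕ} {m : ℕ} (φ : ⦋i⦌ ⟶ ⦋m⦌) (hi : i ≤ 1 := by lia) :
    StructuredArrow (op ⦋m⦌) (Truncated.inclusion 1).op :=
  StructuredArrow.mk (Y := op ⦋i⦌₁) φ.op

variable (n : ℕ)

/-- evaluation of a simplex of the standard simplex at a vertex -/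
def ev (d : ℕ) (y : (Δ[n] : SSet.{u}) _⦋d⦌) (k : Fin (d + 1)) : Fin (n + 1) := y k

theorem ev_ext (d : ℕ) (y z : (Δ[n] : SSet.{u}) _⦋d⦌) (h : ∀ k, ev n d y k = ev n d z k) : y = z :=
  SSet.stdSimplex.ext y z h

theorem ev_map {d e : ℕ} (f : ⦋e⦌ ⟶ ⦋d⦌) (y : (Δ[n] : SSet.{u}) _⦋d⦌) (k : Fin (e + 1)) :
    ev n e ((Δ[n] : SSet.{u}).map f.op y) k = ev n d y (f.toOrderHom k) := rfl

theorem vertex_eq {m : ℕ}
    (s : Cone (proj (op ⦋m⦌) (Truncated.inclusion 1).op ⋙ (Truncated.inclusion 1).op ⋙ (Δ[n] : SSet.{u})))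
    (x : s.pt) {i : ℕ} (hi : i ≤ 1) (f : ⦋i⦌ ⟶ ⦋m⦌) (k : Fin (i + 1)) :
    ev n 0 (s.π.app (strArrowMk₁ (⦋0⦌.const ⦋m⦌ (f.toOrderHom k))) x) 0
      = ev n i (s.π.app (strArrowMk₁ f hi) x) k := by
  let α : strArrowMk₁ f hi ⟶ strArrowMk₁ (⦋0⦌.const ⦋m⦌ (f.toOrderHom k)) :=
    StructuredArrow.homMk ((Hom.tr (⦋0⦌.const _ (by exact k))).op) (by simp; rfl)
  have h := ConcreteCategory.congr_hom (s.w α).symm x
  rw [h]
  rfl


noncomputable def lift {m : ℕ}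
    (s : Cone (proj (op ⦋m⦌) (Truncated.inclusion 1).op ⋙ (Truncated.inclusion 1).op ⋙ (Δ[n] : SSet.{u})))
    (x : s.pt) : (Δ[n] : SSet.{u}) _⦋m⦌ :=
  stdSimplex.objMk (n := ⦋n⦌) (m := op ⦋m⦌)
    { toFun := fun i => ev n 0 (s.π.app (strArrowMk₁ (⦋0⦌.const ⦋m⦌ i)) x) 0
      monotone' := by
        intro i i' hii'
        have h0 : ev n 0 (s.π.app (strArrowMk₁ (⦋0⦌.const ⦋m⦌ i)) x) 0
            = ev n 1 (s.π.app (strArrowMk₁ (mkOfLe i i' hii')) x) 0 :=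
          vertex_eq n s x le_rfl (mkOfLe i i' hii') 0
        have h1 : ev n 0 (s.π.app (strArrowMk₁ (⦋0⦌.const ⦋m⦌ i')) x) 0
            = ev n 1 (s.π.app (strArrowMk₁ (mkOfLe i i' hii')) x) 1 :=
          vertex_eq n s x le_rfl (mkOfLe i i' hii') 1
        show ev n 0 (s.π.app (strArrowMk₁ (⦋0⦌.const ⦋m⦌ i)) x) 0
          ≤ ev n 0 (s.π.app (strArrowMk₁ (⦋0⦌.const ⦋m⦌ i')) x) 0
        rw [h0, h1]
        exact stdSimplex.monotone_apply _ (Fin.zero_le 1) }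

theorem ev_lift {m : ℕ}
    (s : Cone (proj (op ⦋m⦌) (Truncated.inclusion 1).op ⋙ (Truncated.inclusion 1).op ⋙ (Δ[n] : SSet.{u})))
    (x : s.pt) (k : Fin (m + 1)) :
    ev n m (lift n s x) k = ev n 0 (s.π.app (strArrowMk₁ (⦋0⦌.const ⦋m⦌ k)) x) 0 := rfl


set_option backward.isDefEq.respectTransparency.types false in
set_option backward.defeqAttrib.useBackward true in
noncomputable def isPointwiseRightKanExtensionAt (m : ℕ) :
    (SSet.Truncated.rightExtensionInclusion (Δ[n] : SSet.{u}) 1).IsPointwiseRightKanExtensionAt ⟨⦋m⦌⟩ where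
  lift s := ↾fun x ↦ lift n s x
  fac s j := by
    ext x
    obtain ⟨⟨i, hi⟩, ⟨f : _ ⟶ _⟩, rfl⟩ := j.mk_surjective
    obtain ⟨i, rfl⟩ : ∃ j, ⦋j⦌ = i := ⟨_, i.mk_len⟩
    dsimp at hi ⊢
    apply ev_ext
    intro k
    rw [dsimp% show op f = f.op from rfl]
    rw [ev_map, ev_lift]
    exact vertex_eq n s x hi f k
  uniq s m' hm := by
    ext x
    apply ev_ext
    intro k
    have h := ConcreteCategory.congr_hom (hm (StructuredArrow.mk (Y := op ⦋0⦌₁) (⦋0⦌.const ⦋m⦌ k).op)) x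
    show ev n m (m' x) k = ev n m (lift n s x) k
    rw [ev_lift]
    have h2 : s.π.app (strArrowMk₁ (⦋0⦌.const ⦋m⦌ k)) x
        = (Δ[n] : SSet.{u}).map (⦋0⦌.const ⦋m⦌ k).op (m' x) := h.symm
    rw [h2, ev_map]
    rfl


noncomputable def isPointwiseRightKanExtension :
    (SSet.Truncated.rightExtensionInclusion (Δ[n] : SSet.{u}) 1).IsPointwiseRightKanExtension :=
  fun Δ => isPointwiseRightKanExtensionAt n Δ.unop.len

theorem s6784 (n : ℕ) : SimplicialObject.IsCoskeletal (SSet.stdSimplex.{u}.obj (SimplexCategory.mk n)) 1 where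
  isRightKanExtension :=
    RightExtension.IsPointwiseRightKanExtension.isRightKanExtension (isPointwiseRightKanExtension n)

end Groth.Agent.Lib.Helper24StdCosk
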