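import Mathlib

set_option autoImplicit false
set_option linter.unusedSectionVars false
universe u v

open CommRing TensorProduct

namespace Groth.Agent.Lib.Helper24Steinitz

variable {R : Type u} [CommRing R]

noncomputable def tensorEquivMul (I J : Ideal R) [Module.Flat R J] : I ⊗[R] J ≃ₗ[R] ↥(I * J) :=
  Submodule.LinearDisjoint.mulMap
    (.of_left_le_one_of_flat I J <| le_top.trans Ideal.one_eq_top.ge)

/-- multiplication by an element, as a linear map `I → (a) * I` -/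
noncomputable def scaleMap (a : R) (I : Ideal R) : ↥I →ₗ[R] ↥(Ideal.span {a} * I) where
  toFun x := ⟨a * x.1, Ideal.mul_mem_mul (Ideal.mem_span_singleton_self a) x.2⟩
  map_add' x y := Subtype.ext (by simp [mul_add])
  map_smul' c x := Subtype.ext (by simp [mul_left_comm])

/-- multiplication by a nonzero element -/
noncomputable def scaleEquiv [IsDomain R] (a : R) (ha : a ≠ 0) (I : Ideal R) :
    I ≃ₗ[R] ↥(Ideal.span {a} * I) :=
  LinearEquiv.ofBijective (scaleMap a I)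
    ⟨fun x y hxy => by
      have := congrArg Subtype.val hxy
      exact Subtype.ext (mul_left_cancel₀ ha this),
     fun y => by
      obtain ⟨z, hz, hzy⟩ := Ideal.mem_span_singleton_mul.mp y.2
      exact ⟨⟨z, hz⟩, Subtype.ext hzy⟩⟩

/-- module isomorphism from an equality of ideals -/
noncomputable def equivOfEq {I J : Ideal R} (h : I = J) : I ≃ₗ[R] J :=
  LinearEquiv.ofEq I J h

variable [IsDedekindDomain R]

lemma exists_coprime_inv {I J : Ideal R} (hI : I ≠ ⊥) (hJ : J ≠ ⊥) :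
    ∃ (a : R) (K : Ideal R), J * K = Ideal.span {a} ∧ I ⊔ K = ⊤ := by
  have h1 : I * J ≤ J := Ideal.mul_le_right
  have h2 : I * J ≠ 0 := mul_ne_zero hI hJ
  obtain ⟨a, ha⟩ := IsDedekindDomain.exists_sup_span_eq h1 h2
  have haJ : a ∈ J := by
    rw [← ha]; exact Ideal.mem_sup_right (Ideal.mem_span_singleton_self a)
  obtain ⟨K, hK⟩ : J ∣ Ideal.span {a} := by
    rw [Ideal.dvd_iff_le, Ideal.span_singleton_le_iff_mem]; exact haJ
  refine ⟨a, K, hK.symm, ?_⟩
  have h3 : J * (I ⊔ K) = J * ⊤ := by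
    rw [Ideal.mul_sup, ← hK, mul_comm J I, ha, Ideal.mul_top]
  exact mul_left_cancel₀ hJ h3


/-- a representative of the class of `J` coprime to `I` -/
lemma exists_coprime_rep {I J : Ideal R} (hI : I ≠ ⊥) (hJ : J ≠ ⊥) :
    ∃ K : Ideal R, I ⊔ K = ⊤ ∧ Nonempty (J ≃ₗ[R] K) ∧ Nonempty (↥(I * J) ≃ₗ[R] ↥(I * K)) := by
  obtain ⟨b, hbJ, hb0⟩ := Submodule.exists_mem_ne_zero_of_ne_bot hJ
  obtain ⟨J₁, hJ₁⟩ : J ∣ Ideal.span {b} := by
    rw [Ideal.dvd_iff_le, Ideal.span_singleton_le_iff_mem]; exact hbJ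
  have hJ₁0 : J₁ ≠ ⊥ := by
    rintro rfl
    rw [Ideal.mul_bot, Ideal.span_singleton_eq_bot] at hJ₁
    exact hb0 hJ₁
  obtain ⟨a, K, hK, hIK⟩ := exists_coprime_inv hI hJ₁0
  by_cases ha : a = 0
  · -- then `K = ⊥` and `I = ⊤`
    subst ha
    have hK0 : K = ⊥ := by
      have : J₁ * K = ⊥ := by rw [hK]; simp
      rcases mul_eq_zero.mp this with h | h
      · exact absurd h hJ₁0
      · exact h
    have hItop : I = ⊤ := by rw [hK0, sup_bot_eq] at hIK; exact hIK
    exact ⟨J, by rw [hItop, top_sup_eq], ⟨LinearEquiv.refl _ _⟩, ⟨LinearEquiv.refl _ _⟩⟩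
  · have hkey : Ideal.span {a} * J = Ideal.span {b} * K := by
      rw [← hK, hJ₁]; ring
    refine ⟨K, hIK, ⟨?_⟩, ⟨?_⟩⟩
    · exact (scaleEquiv a ha J).trans ((equivOfEq hkey).trans (scaleEquiv b hb0 K).symm)
    · have hkey' : Ideal.span {a} * (I * J) = Ideal.span {b} * (I * K) := by
        rw [mul_left_comm, hkey, mul_left_comm]
      exact (scaleEquiv a ha (I * J)).trans
        ((equivOfEq hkey').trans (scaleEquiv b hb0 (I * K)).symm)

/-- coprime ideals: `I × K ≃ R × (I * K)` -/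
lemma nonempty_prod_equiv_of_coprime {I K : Ideal R} (h : I ⊔ K = ⊤) :
    Nonempty ((I × K) ≃ₗ[R] (R × ↥(I * K))) := by
  have hmul : I * K = I ⊓ K := Ideal.mul_eq_inf_of_isCoprime (Ideal.isCoprime_iff_sup_eq.mpr h)
  -- the maps
  let g : (I × K) →ₗ[R] R := (Submodule.subtype I).coprod (Submodule.subtype K)
  let f : ↥(I * K) →ₗ[R] (I × K) :=
    LinearMap.prod (Submodule.inclusion (Ideal.mul_le_left : I * K ≤ I))
      (-(Submodule.inclusion (Ideal.mul_le_right : I * K ≤ K)))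
  have hf : Function.Injective f := by
    intro x y hxy
    have := congrArg (fun p => (p.1 : R)) hxy
    exact Subtype.ext this
  have hg : Function.Surjective g := by
    intro r
    have h1 : (1 : R) ∈ I ⊔ K := by rw [h]; exact Submodule.mem_top
    obtain ⟨x, hx, y, hy, hxy⟩ := Submodule.mem_sup.mp h1
    refine ⟨(⟨r * x, I.mul_mem_left r hx⟩, ⟨r * y, K.mul_mem_left r hy⟩), ?_⟩
    change r * x + r * y = r
    rw [← mul_add, hxy, mul_one]
  have hfg : Function.Exact f g := by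
    intro p
    constructor
    · intro hp
      have hp' : (p.1 : R) + (p.2 : R) = 0 := hp
      have hmem : (p.1 : R) ∈ I * K := by
        rw [hmul]
        refine ⟨p.1.2, ?_⟩
        have : (p.1 : R) = -(p.2 : R) := eq_neg_of_add_eq_zero_left hp'
        rw [this]; exact K.neg_mem p.2.2
      refine ⟨⟨p.1, hmem⟩, ?_⟩
      refine Prod.ext (Subtype.ext rfl) (Subtype.ext ?_)
      change -(p.1 : R) = p.2
      exact (neg_eq_of_add_eq_zero_right hp')
    · rintro ⟨x, rfl⟩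
      change (x : R) + -(x : R) = 0
      exact add_neg_cancel _
  obtain ⟨l, hl⟩ := g.exists_rightInverse_of_surjective (LinearMap.range_eq_top.mpr hg)
  obtain ⟨e, -, -⟩ := hfg.splitSurjectiveEquiv hf ⟨l, hl⟩
  exact ⟨e.trans (LinearEquiv.prodComm R _ _)⟩

theorem steinitz {I J : Ideal R} (hI : I ≠ ⊥) (hJ : J ≠ ⊥) :
    Nonempty ((I × J) ≃ₗ[R] (R × ↥(I * J))) := by
  obtain ⟨K, hIK, ⟨e1⟩, ⟨e2⟩⟩ := exists_coprime_rep hI hJ
  obtain ⟨e3⟩ := nonempty_prod_equiv_of_coprime hIK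
  exact ⟨((LinearEquiv.refl R I).prodCongr e1).trans
    (e3.trans ((LinearEquiv.refl R R).prodCongr e2.symm))⟩


theorem pi_equiv {I : Ideal R} (hI : I ≠ ⊥) (n : ℕ) :
    Nonempty ((Fin (n + 1) → I) ≃ₗ[R] ((Fin n → R) × ↥(I ^ (n + 1)))) := by
  induction n with
  | zero =>
    have e0 : (Fin (0 + 1) → I) ≃ₗ[R] I := LinearEquiv.funUnique (Fin 1) R I
    have e1 : I ≃ₗ[R] ↥(I ^ (0 + 1)) := equivOfEq (pow_one I).symm
    have e2 : ↥(I ^ (0 + 1)) ≃ₗ[R] ((Fin 0 → R) × ↥(I ^ (0 + 1))) :=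
      (LinearEquiv.uniqueProd (R := R) (M := ↥(I ^ (0 + 1))) (M₂ := (Fin 0 → R))).symm
    exact ⟨e0.trans (e1.trans e2)⟩
  | succ n ih =>
    obtain ⟨e⟩ := ih
    have hIn : I ^ (n + 1) ≠ ⊥ := pow_ne_zero _ hI
    obtain ⟨s⟩ := steinitz hIn hI
    -- (Fin (n+2) → I) ≃ I × (Fin (n+1) → I)
    let c1 : (Fin (n + 2) → I) ≃ₗ[R] (I × (Fin (n + 1) → I)) :=
      (Fin.consLinearEquiv R (fun _ : Fin (n + 1).succ => I)).symm
    let c2 : (Fin (n + 1) → R) ≃ₗ[R] (R × (Fin n → R)) :=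
      (Fin.consLinearEquiv R (fun _ : Fin n.succ => R)).symm
    -- I × ((Fin n → R) × I^(n+1)) ≃ (Fin n → R) × (I^(n+1) × I)
    let a1 : (I × ((Fin n → R) × ↥(I ^ (n + 1)))) ≃ₗ[R] ((Fin n → R) × (↥(I ^ (n + 1)) × I)) :=
      (LinearEquiv.prodComm R _ _).trans (LinearEquiv.prodAssoc R _ _ _)
    let a2 : ((Fin n → R) × (R × ↥(I ^ (n + 1) * I))) ≃ₗ[R]
        ((R × (Fin n → R)) × ↥(I ^ (n + 1) * I)) :=
      (LinearEquiv.prodAssoc R _ _ _).symm.trans
        ((LinearEquiv.prodComm R _ _).prodCongr (LinearEquiv.refl R _))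
    refine ⟨c1.trans (((LinearEquiv.refl R I).prodCongr e).trans (a1.trans
      (((LinearEquiv.refl R _).prodCongr s).trans (a2.trans
        (c2.symm.prodCongr (equivOfEq (pow_succ I (n + 1)).symm))))))⟩


omit [IsDedekindDomain R] in
lemma pic_mul_aux (I J J' : Ideal R) (h : J' = J * I) [Module.Invertible R I]
    [Module.Invertible R J] :
    ∃ _ : Module.Invertible R J', Pic.mk R J' = Pic.mk R J * Pic.mk R I := by
  subst h
  have e := tensorEquivMul J I
  have inst : Module.Invertible R ↥(J * I) := Module.Invertible.congr e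
  refine ⟨inst, ?_⟩
  rw [← Pic.mk_tensor]
  exact Pic.mk_eq_mk_iff.mpr ⟨e.symm⟩

omit [IsDedekindDomain R] in
lemma pic_pow (I : Ideal R) [Module.Invertible R I] (n : ℕ) :
    ∃ _ : Module.Invertible R ↥(I ^ (n + 1)), Pic.mk R ↥(I ^ (n + 1)) = Pic.mk R I ^ (n + 1) := by
  induction n with
  | zero =>
    have e : I ≃ₗ[R] ↥(I ^ (0 + 1)) := equivOfEq (pow_one I).symm
    have inst : Module.Invertible R ↥(I ^ (0 + 1)) := Module.Invertible.congr e
    refine ⟨inst, ?_⟩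
    have h1 : Pic.mk R I ^ (0 + 1) = Pic.mk R I := by rw [zero_add, pow_one]
    rw [h1]
    exact Pic.mk_eq_mk_iff.mpr ⟨e.symm⟩
  | succ n ih =>
    obtain ⟨inst, h⟩ := ih
    obtain ⟨inst', h'⟩ := pic_mul_aux I (I ^ (n + 1)) (I ^ (n + 1 + 1)) (pow_succ I (n + 1))
    exact ⟨inst', by rw [h', h, ← pow_succ]⟩

theorem main (N : Type v) [AddCommGroup N] [Module R N] [Module.Invertible R N]
    (n : ℕ) (h : Pic.mk R N ^ n = 1) :
    Nonempty ((Fin n → N) ≃ₗ[R] (Fin n → R)) := by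
  cases n with
  | zero => exact ⟨LinearEquiv.ofSubsingleton _ _⟩
  | succ m =>
    obtain ⟨I, ⟨e⟩⟩ := Module.Invertible.exists_linearEquiv_ideal R N
    have instI : Module.Invertible R I := Module.Invertible.congr e
    have hI : I ≠ ⊥ := by
      rintro rfl
      have hsub : Subsingleton N := e.toEquiv.subsingleton
      have h01 : (1 : R) = 0 := by
        apply FaithfulSMul.eq_of_smul_eq_smul (α := N)
        intro x
        exact Subsingleton.elim _ _
      exact one_ne_zero h01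
    obtain ⟨e1⟩ := pi_equiv hI m
    obtain ⟨inst, hp⟩ := pic_pow I m
    have hIN : Pic.mk R I = Pic.mk R N := Pic.mk_eq_mk_iff.mpr ⟨e.symm⟩
    rw [hIN, h] at hp
    obtain ⟨e2⟩ := Pic.mk_eq_one_iff.mp hp
    let c2 : (Fin (m + 1) → R) ≃ₗ[R] (R × (Fin m → R)) :=
      (Fin.consLinearEquiv R (fun _ : Fin m.succ => R)).symm
    exact ⟨(LinearEquiv.piCongrRight (fun _ => e)).trans (e1.trans
      (((LinearEquiv.refl R _).prodCongr e2).trans
        ((LinearEquiv.prodComm R _ _).trans c2.symm)))⟩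

end Groth.Agent.Lib.Helper24Steinitz
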