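import Mathlib

set_option autoImplicit false
universe u v w

namespace Groth.Agent.Lib.Helper24StrLoc

open Module

section General

variable {A : Type u} [Ring A]
variable {P : Type v} [AddCommGroup P] [Module A P]
variable {Q : Type w} [AddCommGroup Q] [Module A Q]

variable (A P) in
/-- the radical submodule `J P` -/
abbrev rad : Submodule A P := Ring.jacobson A • (⊤ : Submodule A P)

theorem rad_le_comap (g : P →ₗ[A] Q) : rad A P ≤ (rad A Q).comap g := by
  rw [← Submodule.map_le_iff_le_comap, Submodule.map_smul'']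
  exact Submodule.smul_mono le_rfl le_top

/-- induced map on `P/JP`. -/
def bar (g : P →ₗ[A] Q) : (P ⧸ rad A P) →ₗ[A] (Q ⧸ rad A Q) :=
  Submodule.mapQ _ _ g (rad_le_comap g)

@[simp] theorem bar_mk (g : P →ₗ[A] Q) (p : P) :
    bar g (Submodule.Quotient.mk p) = Submodule.Quotient.mk (g p) := rfl

theorem surjective_of_bar_surjective [Module.Finite A Q] (g : P →ₗ[A] Q)
    (hs : Function.Surjective (bar g)) : Function.Surjective g := by
  rw [← LinearMap.range_eq_top]
  set R := LinearMap.range g with hR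
  have hfg : (⊤ : Submodule A (Q ⧸ R)).FG := Module.Finite.fg_top
  have hle : (⊤ : Submodule A (Q ⧸ R)) ≤ Ring.jacobson A • (⊤ : Submodule A (Q ⧸ R)) := by
    intro x _
    obtain ⟨q, rfl⟩ := Submodule.Quotient.mk_surjective _ x
    obtain ⟨pb, hpb⟩ := hs (Submodule.Quotient.mk q)
    obtain ⟨p, rfl⟩ := Submodule.Quotient.mk_surjective _ pb
    rw [bar_mk, Submodule.Quotient.eq] at hpb
    have hz : (Submodule.Quotient.mk (g p) : Q ⧸ R) = 0 :=
      (Submodule.Quotient.mk_eq_zero _).mpr ⟨p, rfl⟩
    have h1 : (Submodule.Quotient.mk q : Q ⧸ R) = R.mkQ (q - g p) := by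
      rw [map_sub, Submodule.mkQ_apply, Submodule.mkQ_apply, hz, sub_zero]
    rw [h1]
    have h2 : q - g p ∈ rad A Q := by
      have := (rad A Q).neg_mem hpb
      rwa [neg_sub] at this
    have h3 : R.mkQ (q - g p) ∈ (rad A Q).map R.mkQ := Submodule.mem_map_of_mem h2
    rwa [Submodule.map_smul'', Submodule.map_top, Submodule.range_mkQ] at h3
  have := hfg.eq_bot_of_le_jacobson_smul hle
  have hsub : Subsingleton (Q ⧸ R) := by
    rw [← Submodule.subsingleton_iff A]
    exact subsingleton_of_bot_eq_top this.symm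
  exact Submodule.Quotient.subsingleton_iff.mp hsub

theorem bijective_of_bar_bijective [Module.Finite A P] [Module.Finite A Q] [Module.Projective A Q]
    (g : P →ₗ[A] Q) (hb : Function.Bijective (bar g)) : Function.Bijective g := by
  have hsurj := surjective_of_bar_surjective g hb.2
  refine ⟨?_, hsurj⟩
  obtain ⟨s, hs⟩ := Module.projective_lifting_property g LinearMap.id hsurj
  set π : P →ₗ[A] P := LinearMap.id - s ∘ₗ g with hπ
  have hgπ : ∀ p, g (π p) = 0 := by
    intro p
    have : g (s (g p)) = g p := by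
      have := congrArg (fun l : Q →ₗ[A] Q => l (g p)) hs
      simpa using this
    simp [hπ, this]
  have hπk : ∀ k ∈ LinearMap.ker g, π k = k := by
    intro k hk
    rw [LinearMap.mem_ker] at hk
    simp [hπ, hk]
  set K := LinearMap.ker g with hK
  have hKmap : K = Submodule.map π ⊤ := by
    apply le_antisymm
    · intro k hk
      exact ⟨k, trivial, hπk k hk⟩
    · rintro _ ⟨p, -, rfl⟩
      exact hgπ p
  have hfg : K.FG := by
    rw [hKmap]
    exact (Module.Finite.fg_top).map π
  have hle : K ≤ Ring.jacobson A • K := by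
    intro k hk
    have h0 : bar g (Submodule.Quotient.mk k) = 0 := by
      rw [bar_mk, (LinearMap.mem_ker.mp hk)]; rfl
    have h1 : (Submodule.Quotient.mk k : P ⧸ rad A P) = 0 := hb.1 (by rw [h0, map_zero])
    rw [Submodule.Quotient.mk_eq_zero] at h1
    have h2 : π k ∈ (rad A P).map π := Submodule.mem_map_of_mem h1
    rw [Submodule.map_smul'', ← hKmap, hπk k hk] at h2
    exact h2
  have hbot := hfg.eq_bot_of_le_jacobson_smul hle
  rw [← LinearMap.ker_eq_bot]
  exact hbot

/-- An isomorphism `P/JP ≃ Q/JQ` lifts to an isomorphism `P ≃ Q` of f.g. projective modules. -/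
theorem nonempty_linearEquiv_of_bar [Module.Finite A P] [Module.Finite A Q]
    [Module.Projective A P] [Module.Projective A Q]
    (e : (P ⧸ rad A P) ≃ₗ[A] (Q ⧸ rad A Q)) : Nonempty (P ≃ₗ[A] Q) := by
  obtain ⟨g, hg⟩ := Module.projective_lifting_property (rad A Q).mkQ
    (e.toLinearMap ∘ₗ (rad A P).mkQ) (Submodule.mkQ_surjective _)
  have hbar : bar g = e.toLinearMap := by
    apply Submodule.linearMap_qext
    ext p
    have := congrArg (fun l : P →ₗ[A] (Q ⧸ rad A Q) => l p) hg
    simpa using this
  have hb : Function.Bijective (bar g) := by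
    rw [hbar]; exact e.bijective
  exact ⟨LinearEquiv.ofBijective g (bijective_of_bar_bijective g hb)⟩


theorem bar_id : bar (LinearMap.id : P →ₗ[A] P) = LinearMap.id := by
  apply Submodule.linearMap_qext; ext p; rfl

theorem bar_comp {R : Type*} [AddCommGroup R] [Module A R] (g : Q →ₗ[A] R) (f : P →ₗ[A] Q) :
    bar (g ∘ₗ f) = bar g ∘ₗ bar f := by
  apply Submodule.linearMap_qext; ext p; rfl

theorem bar_add (f g : P →ₗ[A] Q) : bar (f + g) = bar f + bar g := by
  apply Submodule.linearMap_qext; ext p; rfl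

theorem bar_zero : bar (0 : P →ₗ[A] Q) = 0 := by
  apply Submodule.linearMap_qext; ext p
  simp [bar]

variable (A P) in
/-- reduction of endomorphisms modulo the radical -/
def rho : Module.End A P →+* Module.End A (P ⧸ rad A P) where
  toFun := bar
  map_one' := bar_id
  map_mul' f g := bar_comp f g
  map_zero' := bar_zero
  map_add' := bar_add

@[simp] theorem rho_apply (f : Module.End A P) : rho A P f = bar f := rfl

theorem rho_surjective [Module.Projective A P] : Function.Surjective (rho A P) := by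
  intro h
  obtain ⟨f, hf⟩ := Module.projective_lifting_property (rad A P).mkQ
    (h ∘ₗ (rad A P).mkQ) (Submodule.mkQ_surjective _)
  refine ⟨f, ?_⟩
  rw [rho_apply]
  apply Submodule.linearMap_qext
  ext p
  have := congrArg (fun l : P →ₗ[A] (P ⧸ rad A P) => l p) hf
  simpa using this

theorem mem_jacobson_of_rho_eq_zero [Module.Finite A P] [Module.Projective A P]
    (f : Module.End A P) (hf : rho A P f = 0) : f ∈ Ring.jacobson (Module.End A P) := by
  rw [← Ideal.jacobson_bot, Ideal.mem_jacobson_iff]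
  intro y
  set u : Module.End A P := y * f + 1 with hu
  have hbar : bar u = LinearMap.id := by
    have : rho A P u = 1 := by
      rw [hu, map_add, map_mul, hf, mul_zero, zero_add, map_one]
    exact this
  have hb : Function.Bijective (bar u) := by
    rw [hbar]; exact Function.bijective_id
  have hbu := bijective_of_bar_bijective u hb
  let e := LinearEquiv.ofBijective u hbu
  refine ⟨(e.symm : P →ₗ[A] P), ?_⟩
  have h1 : (e.symm : P →ₗ[A] P) * u = 1 := by
    ext p
    change e.symm (u p) = p
    exact e.symm_apply_apply p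
  rw [Ideal.mem_bot, mul_assoc, ← mul_add_one, ← hu, h1, sub_self]

theorem rho_eq_zero_of_mem_jacobson [Module.Finite A P] [Module.Projective A P]
    [IsSemisimpleModule A (P ⧸ rad A P)]
    (f : Module.End A P) (hf : f ∈ Ring.jacobson (Module.End A P)) : rho A P f = 0 := by
  haveI : RingHomSurjective (rho A P) := ⟨rho_surjective⟩
  have h1 := Ring.le_comap_jacobson (rho A P) hf
  haveI : IsSemisimpleRing (Module.End A (P ⧸ rad A P)) := IsSemisimpleRing.moduleEnd A _
  rw [Ideal.mem_comap, IsSemisimpleRing.jacobson_eq_bot, Ideal.mem_bot] at h1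
  exact h1

end General


section Idem

/-- `m` pairwise orthogonal nonzero idempotents in a ring. -/
def OrthIdem (B : Type*) [Ring B] (m : ℕ) : Prop :=
  ∃ ε : Fin m → B, (∀ i, ε i ≠ 0) ∧ (∀ i, ε i * ε i = ε i) ∧ (∀ i j, i ≠ j → ε i * ε j = 0)

theorem OrthIdem.transfer {E B B' : Type*} [Ring E] [Ring B] [Ring B'] (ρ : E →+* B) (ψ : E →+* B')
    (hρ : Function.Surjective ρ) (hker : ∀ x, ρ x = 0 ↔ ψ x = 0) {m : ℕ} (h : OrthIdem B m) :
    OrthIdem B' m := by
  obtain ⟨ε, h0, h1, h2⟩ := h
  choose a ha using fun i => hρ (ε i)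
  refine ⟨fun i => ψ (a i), fun i => ?_, fun i => ?_, fun i j hij => ?_⟩
  · intro h
    exact h0 i (by rw [← ha i]; exact (hker _).mpr h)
  · rw [← map_mul, ← sub_eq_zero, ← map_sub, ← hker, map_sub, map_mul, ha, h1, sub_self]
  · rw [← map_mul, ← hker, map_mul, ha, ha, h2 i j hij]

variable {R : Type*} [Ring R] {M : Type*} [AddCommGroup M] [Module R M]

theorem OrthIdem.le_length {m : ℕ} (h : OrthIdem (Module.End R M) m) :
    (m : ℕ∞) ≤ Module.length R M := by
  obtain ⟨ε, h0, h1, h2⟩ := h
  let Φ : (Π i : Fin m, LinearMap.range (ε i)) →ₗ[R] M :=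
    LinearMap.lsum R (fun i : Fin m => LinearMap.range (ε i)) ℕ (fun i => (LinearMap.range (ε i)).subtype)
  have hΦ : ∀ x, Φ x = ∑ i, (x i : M) := by
    intro x
    simp [Φ, LinearMap.lsum_apply]
  have hinj : Function.Injective Φ := by
    rw [← LinearMap.ker_eq_bot, LinearMap.ker_eq_bot']
    intro x hx
    rw [hΦ] at hx
    funext j
    have hj : ε j (∑ i, (x i : M)) = x j := by
      rw [map_sum]
      rw [Finset.sum_eq_single j]
      · obtain ⟨y, hy⟩ := (x j).2
        rw [← hy]
        change (ε j * ε j) y = ε j y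
        rw [h1]
      · intro i _ hij
        obtain ⟨y, hy⟩ := (x i).2
        rw [← hy]
        change (ε j * ε i) y = 0
        rw [h2 j i (Ne.symm hij)]; rfl
      · intro h; exact absurd (Finset.mem_univ j) h
    rw [hx, map_zero] at hj
    exact Subtype.ext hj.symm
  have hlen := Module.length_le_of_injective Φ hinj
  rw [Module.length_pi_of_fintype] at hlen
  refine le_trans ?_ hlen
  have : ∀ i : Fin m, (1 : ℕ∞) ≤ Module.length R (LinearMap.range (ε i)) := by
    intro i
    haveI : Nontrivial (LinearMap.range (ε i)) := by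
      rw [Submodule.nontrivial_iff_ne_bot]
      intro hb
      apply h0 i
      exact LinearMap.range_eq_bot.mp hb
    exact Order.one_le_iff_pos.mpr Module.length_pos
  calc (m : ℕ∞) = ∑ _i : Fin m, (1 : ℕ∞) := by simp
    _ ≤ _ := Finset.sum_le_sum fun i _ => this i

theorem OrthIdem.of_linearEquiv_fun {S : Type*} [AddCommGroup S] [Module R S] [Nontrivial S] {n : ℕ}
    (e : M ≃ₗ[R] (Fin n → S)) : OrthIdem (Module.End R M) n := by
  classical
  let π : Fin n → Module.End R (Fin n → S) := fun i => LinearMap.single R (fun _ => S) i ∘ₗ LinearMap.proj i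
  have hπ : ∀ i (x : Fin n → S), π i x = Pi.single i (x i) := fun i x => rfl
  refine ⟨fun i => e.symm.toLinearMap ∘ₗ π i ∘ₗ e.toLinearMap, fun i => ?_, fun i => ?_, fun i j hij => ?_⟩
  · intro h
    obtain ⟨s, hs⟩ := exists_ne (0 : S)
    have := congrArg (fun l : Module.End R M => e (l (e.symm (Pi.single i s)))) h
    simp only [LinearMap.comp_apply, LinearEquiv.coe_coe, LinearEquiv.apply_symm_apply, hπ,
      Pi.single_eq_same, LinearMap.zero_apply, map_zero] at this
    have h2 := congrFun this i
    simp at h2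
    exact hs h2
  · ext x
    simp only [Module.End.mul_apply, LinearMap.comp_apply, LinearEquiv.coe_coe,
      LinearEquiv.apply_symm_apply, hπ, Pi.single_eq_same]
  · ext x
    simp only [Module.End.mul_apply, LinearMap.comp_apply, LinearEquiv.coe_coe,
      LinearEquiv.apply_symm_apply, hπ, LinearMap.zero_apply]
    rw [Pi.single_eq_of_ne hij, Pi.single_zero, map_zero]

theorem length_of_linearEquiv_fun {S : Type*} [AddCommGroup S] [Module R S] [IsSimpleModule R S] {n : ℕ}
    (e : M ≃ₗ[R] (Fin n → S)) : Module.length R M = n := by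
  rw [e.length_eq, Module.length_pi_of_fintype]
  simp [Module.length_eq_one]

end Idem


section Transfer

variable {A : Type u} [Ring A] (I : Ideal A) [I.IsTwoSided]
variable (M : Type*) [AddCommGroup M] [Module A M] [Module (A ⧸ I) M] [IsScalarTower A (A ⧸ I) M]

theorem mk_smul_eq (a : A) (x : M) : (Ideal.Quotient.mk I a) • x = a • x := by
  have h : (Ideal.Quotient.mk I a) = a • (1 : A ⧸ I) := by
    change _ = a • (Ideal.Quotient.mk I 1)
    change _ = Submodule.Quotient.mk (a • (1 : A))
    rw [smul_eq_mul, mul_one]; rfl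
  rw [h, smul_assoc, one_smul]

/-- the identity as a semilinear map -/
def idSL : M →ₛₗ[Ideal.Quotient.mk I] M where
  toFun := id
  map_add' _ _ := rfl
  map_smul' a x := (mk_smul_eq I M a x).symm

theorem isSimpleModule_iff : IsSimpleModule A M ↔ IsSimpleModule (A ⧸ I) M :=
  (idSL I M).isSimpleModule_iff_of_bijective Function.bijective_id

theorem isSemisimpleModule_iff : IsSemisimpleModule A M ↔ IsSemisimpleModule (A ⧸ I) M :=
  (idSL I M).isSemisimpleModule_iff_of_bijective Function.bijective_id

end Transfer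


section Main

variable (A : Type u) [Ring A] [IsSimpleRing (A ⧸ Ring.jacobson A)]
  [IsArtinianRing (A ⧸ Ring.jacobson A)]

/-- over a simple artinian ring every module is isotypic of the type of any given simple module. -/
theorem isIsotypicOfType_of_simple {B : Type*} [Ring B] [IsSimpleRing B] [IsArtinianRing B]
    (S₀ : Type*) [AddCommGroup S₀] [Module B S₀] [IsSimpleModule B S₀]
    (M : Type*) [AddCommGroup M] [Module B M] : IsIsotypicOfType B M S₀ := by
  intro m hm
  have hiso := IsSimpleRing.isIsotypic B (M × S₀)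
  let m₁ : Submodule B (M × S₀) := m.map (LinearMap.inl B M S₀)
  let m₂ : Submodule B (M × S₀) := (⊤ : Submodule B S₀).map (LinearMap.inr B M S₀)
  let e₁ : m ≃ₗ[B] m₁ := m.equivMapOfInjective _ LinearMap.inl_injective
  let e₂ : (⊤ : Submodule B S₀) ≃ₗ[B] m₂ :=
    Submodule.equivMapOfInjective _ LinearMap.inr_injective _
  haveI : IsSimpleModule B m₁ := IsSimpleModule.congr e₁.symm
  haveI : IsSimpleModule B (⊤ : Submodule B S₀) := IsSimpleModule.congr Submodule.topEquiv
  haveI : IsSimpleModule B m₂ := IsSimpleModule.congr e₂.symm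
  obtain ⟨f⟩ := hiso m₂ m₁
  exact ⟨e₁.trans (f.trans (e₂.symm.trans Submodule.topEquiv))⟩

theorem exists_linearEquiv_fun (S₀ : Type*) [AddCommGroup S₀] [Module A S₀]
    [Module (A ⧸ Ring.jacobson A) S₀] [IsScalarTower A (A ⧸ Ring.jacobson A) S₀]
    [IsSimpleModule (A ⧸ Ring.jacobson A) S₀]
    (P : Type v) [AddCommGroup P] [Module A P] [Module.Finite A P] :
    ∃ n : ℕ, Nonempty ((P ⧸ rad A P) ≃ₗ[A] (Fin n → S₀)) := by
  haveI : Module.Finite (A ⧸ Ring.jacobson A) (P ⧸ rad A P) :=
    Module.Finite.of_restrictScalars_finite A (A ⧸ Ring.jacobson A) _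
  obtain ⟨n, ⟨e⟩⟩ := (isIsotypicOfType_of_simple (B := A ⧸ Ring.jacobson A) S₀
    (P ⧸ rad A P)).linearEquiv_fun
  exact ⟨n, ⟨e.restrictScalars A⟩⟩

theorem mem_jacobson_iff_of_ringEquiv {E E' : Type*} [Ring E] [Ring E'] (e : E ≃+* E') (x : E) :
    x ∈ Ring.jacobson E ↔ e x ∈ Ring.jacobson E' := by
  constructor
  · intro h
    haveI : RingHomSurjective (e : E →+* E') := ⟨e.surjective⟩
    exact Ring.le_comap_jacobson (e : E →+* E') h
  · intro h
    haveI : RingHomSurjective (e.symm : E' →+* E) := ⟨e.symm.surjective⟩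
    have := Ring.le_comap_jacobson (e.symm : E' →+* E) h
    rw [Ideal.mem_comap] at this
    simpa using this

theorem main (P Q : Type v) [AddCommGroup P] [Module A P] [Module.Finite A P]
    [Module.Projective A P] [AddCommGroup Q] [Module A Q] [Module.Finite A Q]
    [Module.Projective A Q] (e : Module.End A P ≃+* Module.End A Q) : Nonempty (P ≃ₗ[A] Q) := by
  obtain ⟨S₀, hS₀⟩ := IsAtomic.exists_atom (Ideal (A ⧸ Ring.jacobson A))
  haveI hs1 : IsSimpleModule (A ⧸ Ring.jacobson A) S₀ := isSimpleModule_iff_isAtom.mpr hS₀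
  haveI hs2 : IsSimpleModule A S₀ := (isSimpleModule_iff (Ring.jacobson A) S₀).mpr hs1
  haveI : Nontrivial S₀ := IsSimpleModule.nontrivial A S₀
  obtain ⟨n, ⟨eP⟩⟩ := exists_linearEquiv_fun A S₀ P
  obtain ⟨m, ⟨eQ⟩⟩ := exists_linearEquiv_fun A S₀ Q
  haveI ssP : IsSemisimpleModule A (P ⧸ rad A P) :=
    (isSemisimpleModule_iff (Ring.jacobson A) _).mpr inferInstance
  haveI ssQ : IsSemisimpleModule A (Q ⧸ rad A Q) :=
    (isSemisimpleModule_iff (Ring.jacobson A) _).mpr inferInstance
  have jP : ∀ x : Module.End A P, rho A P x = 0 ↔ x ∈ Ring.jacobson (Module.End A P) :=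
    fun x => ⟨mem_jacobson_of_rho_eq_zero x, rho_eq_zero_of_mem_jacobson x⟩
  have jQ : ∀ x : Module.End A Q, rho A Q x = 0 ↔ x ∈ Ring.jacobson (Module.End A Q) :=
    fun x => ⟨mem_jacobson_of_rho_eq_zero x, rho_eq_zero_of_mem_jacobson x⟩
  have key : ∀ x : Module.End A P, rho A P x = 0 ↔ ((rho A Q).comp (e : _ →+* _)) x = 0 := by
    intro x
    rw [jP, mem_jacobson_iff_of_ringEquiv e, ← jQ]; rfl
  have key' : ∀ y : Module.End A Q, rho A Q y = 0 ↔ ((rho A P).comp (e.symm : _ →+* _)) y = 0 := by
    intro y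
    rw [jQ, mem_jacobson_iff_of_ringEquiv e.symm, ← jP]; rfl
  have hnm : n ≤ m := by
    have h1 : OrthIdem (Module.End A (P ⧸ rad A P)) n := OrthIdem.of_linearEquiv_fun eP
    have h2 := (h1.transfer (rho A P) _ rho_surjective key).le_length
    rw [length_of_linearEquiv_fun eQ] at h2
    exact_mod_cast h2
  have hmn : m ≤ n := by
    have h1 : OrthIdem (Module.End A (Q ⧸ rad A Q)) m := OrthIdem.of_linearEquiv_fun eQ
    have h2 := (h1.transfer (rho A Q) _ rho_surjective key').le_length
    rw [length_of_linearEquiv_fun eP] at h2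
    exact_mod_cast h2
  obtain rfl : n = m := le_antisymm hnm hmn
  exact nonempty_linearEquiv_of_bar (eP.trans eQ.symm)

end Main

end Groth.Agent.Lib.Helper24StrLoc
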