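import Mathlib

/-!
Helper library for S16051: the cokernel of `ad x` on `sl_{n+1}(O)` for the standard subregular
nilpotent `x` is free of rank `n + 2` (over any nontrivial commutative ring `O`, `n ≥ 1`).
-/

set_option autoImplicit false

namespace Groth.Agent.Lib.Helper24SubReg

open Finset LieAlgebra.SpecialLinear

variable {O : Type*} [CommRing O]

/-- extension of a matrix by zero to all natural indices -/
def ext (n : ℕ) (Y : Matrix (Fin (n+1)) (Fin (n+1)) O) (i j : ℕ) : O :=
  if h : i < n+1 ∧ j < n+1 then Y ⟨i, h.1⟩ ⟨j, h.2⟩ else 0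

lemma ext_fin (n : ℕ) (Y : Matrix (Fin (n+1)) (Fin (n+1)) O) (i j : Fin (n+1)) :
    ext n Y i.val j.val = Y i j := by
  unfold ext; rw [dif_pos ⟨i.isLt, j.isLt⟩]

lemma ext_add (n : ℕ) (Y Y' : Matrix (Fin (n+1)) (Fin (n+1)) O) (i j : ℕ) :
    ext n (Y+Y') i j = ext n Y i j + ext n Y' i j := by
  unfold ext; split_ifs <;> simp

lemma ext_smul (n : ℕ) (c : O) (Y : Matrix (Fin (n+1)) (Fin (n+1)) O) (i j : ℕ) :
    ext n (c • Y) i j = c * ext n Y i j := by
  unfold ext; split_ifs <;> simp

/-- matrix from a function on naturals -/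
def ofFun (n : ℕ) (f : ℕ → ℕ → O) : Matrix (Fin (n+1)) (Fin (n+1)) O := fun i j => f i.val j.val

lemma ofFun_ext (n : ℕ) (Y : Matrix (Fin (n+1)) (Fin (n+1)) O) : ofFun n (ext n Y) = Y := by
  funext i j; exact ext_fin n Y i j

lemma ext_ofFun (n : ℕ) (f : ℕ → ℕ → O) (i j : ℕ) (hi : i < n+1) (hj : j < n+1) :
    ext n (ofFun n f) i j = f i j := by
  unfold ext; rw [dif_pos ⟨hi, hj⟩]; rfl

/-- the standard subregular nilpotent -/
def xstd (n : ℕ) : Matrix (Fin (n+1)) (Fin (n+1)) O :=
  fun i j => if j.val = i.val + 1 ∧ j.val < n then 1 else 0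

lemma xstd_mul (n : ℕ) (f : ℕ → ℕ → O) (i j : Fin (n+1)) :
    (xstd n * ofFun n f : Matrix (Fin (n+1)) (Fin (n+1)) O) i j = if i.val + 1 < n then f (i.val+1) j.val else 0 := by
  rw [Matrix.mul_apply]
  split_ifs with h
  · have hlt : i.val + 1 < n + 1 := by omega
    rw [Finset.sum_eq_single (⟨i.val+1, hlt⟩ : Fin (n+1))]
    · simp [xstd, ofFun, h]
    · intro k _ hk
      have : ¬ (k.val = i.val + 1 ∧ k.val < n) := by
        rintro ⟨h1, _⟩; exact hk (Fin.ext h1)
      simp [xstd, this]
    · intro h'; exact absurd (Finset.mem_univ _) h'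
  · apply Finset.sum_eq_zero
    intro k _
    have : ¬ (k.val = i.val + 1 ∧ k.val < n) := by
      rintro ⟨h1, h2⟩; omega
    simp [xstd, this]

lemma mul_xstd (n : ℕ) (f : ℕ → ℕ → O) (i j : Fin (n+1)) :
    (ofFun n f * xstd n : Matrix (Fin (n+1)) (Fin (n+1)) O) i j = if 1 ≤ j.val ∧ j.val < n then f i.val (j.val - 1) else 0 := by
  rw [Matrix.mul_apply]
  split_ifs with h
  · have hlt : j.val - 1 < n + 1 := by omega
    rw [Finset.sum_eq_single (⟨j.val-1, hlt⟩ : Fin (n+1))]
    · have h3 : (j.val = (j.val - 1) + 1 ∧ j.val < n) := ⟨by omega, h.2⟩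
      show f i.val (j.val - 1) * (if j.val = (j.val - 1) + 1 ∧ j.val < n then 1 else 0)
        = f i.val (j.val - 1)
      rw [if_pos h3, mul_one]
    · intro k _ hk
      have : ¬ (j.val = k.val + 1 ∧ j.val < n) := by
        rintro ⟨h1, _⟩; apply hk; apply Fin.ext; simp only; omega
      simp [xstd, this]
    · intro h'; exact absurd (Finset.mem_univ _) h'
  · apply Finset.sum_eq_zero
    intro k _
    have : ¬ (j.val = k.val + 1 ∧ j.val < n) := by
      rintro ⟨h1, h2⟩; apply h; omega
    simp [xstd, this]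

/-- entries of the bracket `[xstd, ofFun f]` -/
def brk (n : ℕ) (f : ℕ → ℕ → O) (i j : ℕ) : O :=
  (if i + 1 < n then f (i+1) j else 0) - (if 1 ≤ j ∧ j < n then f i (j-1) else 0)

lemma bracket_apply (n : ℕ) (f : ℕ → ℕ → O) (i j : Fin (n+1)) :
    (xstd n * ofFun n f - ofFun n f * xstd n : Matrix (Fin (n+1)) (Fin (n+1)) O) i j = brk n f i.val j.val := by
  rw [Matrix.sub_apply, xstd_mul, mul_xstd]; rfl

/-- the functionals cutting out the image of `ad x` -/
def psiFun (n : ℕ) (g : ℕ → ℕ → O) (k : ℕ) : O :=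
  if k < n then ∑ t ∈ range (n - k), g (t + k) t else if k = n then g (n - 1) n else g n 0

def psi (n : ℕ) : Matrix (Fin (n+1)) (Fin (n+1)) O →ₗ[O] (Fin (n+2) → O) where
  toFun Y k := psiFun n (ext n Y) k.val
  map_add' Y Y' := by
    funext k
    simp only [Pi.add_apply, psiFun]
    split_ifs
    · simp only [ext_add, Finset.sum_add_distrib]
    · exact ext_add ..
    · exact ext_add ..
  map_smul' c Y := by
    funext k
    simp only [Pi.smul_apply, psiFun, RingHom.id_apply, smul_eq_mul]
    split_ifs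
    · simp only [ext_smul, Finset.mul_sum]
    · exact ext_smul ..
    · exact ext_smul ..

lemma tele (T : ℕ) (c : ℕ → O) (hc : c 0 = 0) :
    ∑ t ∈ range (T+1), ((if t + 1 < T + 1 then c (t+1) else 0) - c t) = 0 := by
  rw [Finset.sum_sub_distrib, Finset.sum_range_succ, Finset.sum_range_succ' c T, hc]
  have h : ∀ t ∈ range T, (if t + 1 < T + 1 then c (t+1) else 0) = c (t+1) := by
    intro t ht
    have := Finset.mem_range.mp ht
    rw [if_pos (by omega)]
  rw [Finset.sum_congr rfl h]
  simp

/-- the functionals vanish on brackets -/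
lemma psiFun_brk (n : ℕ) (hn : 1 ≤ n) (f : ℕ → ℕ → O) (k : ℕ) :
    psiFun n (brk n f) k = 0 := by
  unfold psiFun
  split_ifs with h1 h2
  · obtain ⟨T, hT⟩ : ∃ T, n - k = T + 1 := ⟨n - k - 1, by omega⟩
    rw [hT]
    have hc := tele T (fun t => if 1 ≤ t then f (t + k) (t - 1) else 0) (by simp)
    rw [← hc]
    refine Finset.sum_congr rfl fun t ht => ?_
    have htT := Finset.mem_range.mp ht
    unfold brk
    congr 1
    · by_cases h3 : t + 1 < T + 1
      · have h4 : t + k + 1 < n := by omega
        rw [if_pos h4, if_pos h3, if_pos (by omega)]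
        have e1 : t + k + 1 = t + 1 + k := by omega
        have e2 : t + 1 - 1 = t := by omega
        rw [e1, e2]
      · have h4 : ¬ (t + k + 1 < n) := by omega
        rw [if_neg h4, if_neg h3]
    · by_cases h3 : 1 ≤ t
      · have h4 : 1 ≤ t ∧ t < n := ⟨h3, by omega⟩
        rw [if_pos h4, if_pos h3]
      · have h4 : ¬ (1 ≤ t ∧ t < n) := fun h => h3 h.1
        rw [if_neg h4, if_neg h3]
  · unfold brk
    have e1 : ¬ (n - 1 + 1 < n) := by omega
    have e2 : ¬ (1 ≤ n ∧ n < n) := by omega
    rw [if_neg e1, if_neg e2, sub_zero]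
  · unfold brk
    have e1 : ¬ (n + 1 < n) := by omega
    have e2 : ¬ (1 ≤ 0 ∧ 0 < n) := by omega
    rw [if_neg e1, if_neg e2, sub_zero]

/-- the explicit preimage under `ad x` -/
def pre (n : ℕ) (g : ℕ → ℕ → O) (i j : ℕ) : O :=
  if i < n ∧ j < n then
    (if i ≤ j then ∑ t ∈ range i, g t (t + (j - i) + 1)
     else ∑ t ∈ range (j + 1), g (t + (i - j) - 1) t)
  else if i < n ∧ j = n then (if 1 ≤ i then g (i - 1) n else 0)
  else if i = n ∧ j < n then (if j + 1 < n then - g n (j + 1) else 0)
  else 0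

lemma pre_upper (n : ℕ) (g : ℕ → ℕ → O) (i j : ℕ) (hi : i < n) (hj : j < n) (hij : i ≤ j) :
    pre n g i j = ∑ t ∈ range i, g t (t + (j - i) + 1) := by
  unfold pre; rw [if_pos ⟨hi, hj⟩, if_pos hij]

lemma pre_lower (n : ℕ) (g : ℕ → ℕ → O) (i j : ℕ) (hi : i < n) (hj : j < n) (hij : j < i) :
    pre n g i j = ∑ t ∈ range (j + 1), g (t + (i - j) - 1) t := by
  have h : ¬ i ≤ j := by omega
  unfold pre; rw [if_pos ⟨hi, hj⟩, if_neg h]

lemma pre_col (n : ℕ) (g : ℕ → ℕ → O) (i : ℕ) (hi : i < n) :
    pre n g i n = if 1 ≤ i then g (i - 1) n else 0 := by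
  have h : ¬ (i < n ∧ n < n) := by omega
  unfold pre; rw [if_neg h, if_pos ⟨hi, rfl⟩]

lemma pre_row (n : ℕ) (g : ℕ → ℕ → O) (j : ℕ) (hj : j < n) :
    pre n g n j = if j + 1 < n then - g n (j + 1) else 0 := by
  have h : ¬ (n < n ∧ j < n) := by omega
  have h' : ¬ (n < n ∧ j = n) := by omega
  unfold pre; rw [if_neg h, if_neg h', if_pos ⟨rfl, hj⟩]

lemma main_eq (n : ℕ) (hn : 1 ≤ n) (g : ℕ → ℕ → O)
    (h0 : ∀ k, k < n → ∑ t ∈ range (n - k), g (t + k) t = 0)
    (h1 : g (n-1) n = 0) (h2 : g n 0 = 0) (h3 : g n n = 0)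
    (i j : ℕ) (hi : i ≤ n) (hj : j ≤ n) :
    brk n (pre n g) i j = g i j := by
  unfold brk
  rcases Nat.lt_or_ge i n with hin | hin
  · rcases Nat.lt_or_ge j n with hjn | hjn
    · rcases Nat.lt_or_ge i j with hij | hij
      · -- i < j < n
        have e1 : i + 1 < n := by omega
        have e2 : 1 ≤ j ∧ j < n := ⟨by omega, hjn⟩
        rw [if_pos e1, if_pos e2, pre_upper n g (i+1) j e1 hjn (by omega),
          pre_upper n g i (j-1) hin (by omega) (by omega), Finset.sum_range_succ]
        have e4 : ∀ t, t + (j - (i+1)) + 1 = t + (j - 1 - i) + 1 := by intro t; omega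
        simp only [e4]
        have e3 : i + (j - 1 - i) + 1 = j := by omega
        rw [e3]; ring
      · -- j ≤ i < n
        rcases Nat.lt_or_ge (i+1) n with e1 | e1
        · rw [if_pos e1, pre_lower n g (i+1) j e1 hjn (by omega)]
          rcases Nat.eq_zero_or_pos j with hj0 | hj0
          · have e2 : ¬ (1 ≤ j ∧ j < n) := by omega
            rw [if_neg e2, hj0]
            simp
          · rw [if_pos ⟨hj0, hjn⟩, pre_lower n g i (j-1) hin (by omega) (by omega)]
            have e4 : j - 1 + 1 = j := by omega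
            rw [e4, Finset.sum_range_succ]
            have e6 : ∀ t, t + (i + 1 - j) - 1 = t + (i - (j-1)) - 1 := by intro t; omega
            simp only [e6]
            have e5 : j + (i - (j-1)) - 1 = i := by omega
            rw [e5]; ring
        · -- i + 1 = n
          have e0 : ¬ (i + 1 < n) := by omega
          rw [if_neg e0]
          rcases Nat.eq_zero_or_pos j with hj0 | hj0
          · have e2 : ¬ (1 ≤ j ∧ j < n) := by omega
            rw [if_neg e2]
            have h5 := h0 (n-1) (by omega)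
            have e : n - (n-1) = 1 := by omega
            rw [e] at h5
            simp only [Finset.sum_range_one, zero_add] at h5
            have e7 : i = n - 1 := by omega
            rw [hj0, e7, h5]; simp
          · rw [if_pos ⟨hj0, hjn⟩, pre_lower n g i (j-1) hin (by omega) (by omega)]
            have h5 := h0 (i - j) (by omega)
            have e : n - (i - j) = j + 1 := by omega
            rw [e, Finset.sum_range_succ] at h5
            have e4 : j - 1 + 1 = j := by omega
            rw [e4]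
            have e6 : ∀ t, t + (i - (j-1)) - 1 = t + (i - j) := by intro t; omega
            simp only [e6]
            have e5 : j + (i - j) = i := by omega
            rw [e5] at h5
            linear_combination (-1 : O) * h5
    · -- j = n, i < n
      have hj' : j = n := by omega
      have e2 : ¬ (1 ≤ j ∧ j < n) := by omega
      rw [if_neg e2, hj']
      rcases Nat.lt_or_ge (i+1) n with e1 | e1
      · rw [if_pos e1, pre_col n g (i+1) e1, if_pos (by omega)]
        simp
      · have e0 : ¬ (i + 1 < n) := by omega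
        have e7 : i = n - 1 := by omega
        rw [if_neg e0, e7, h1]; simp
  · -- i = n
    have hi' : i = n := by omega
    have e0 : ¬ (i + 1 < n) := by omega
    rw [if_neg e0, hi']
    rcases Nat.lt_or_ge j n with hjn | hjn
    · rcases Nat.eq_zero_or_pos j with hj0 | hj0
      · have e2 : ¬ (1 ≤ j ∧ j < n) := by omega
        rw [if_neg e2, hj0, h2]; simp
      · rw [if_pos ⟨hj0, hjn⟩, pre_row n g (j-1) (by omega), if_pos (by omega)]
        have e4 : j - 1 + 1 = j := by omega
        rw [e4]; ring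
    · have hj' : j = n := by omega
      have e2 : ¬ (1 ≤ j ∧ j < n) := by omega
      rw [if_neg e2, hj', h3]; simp

end Groth.Agent.Lib.Helper24SubReg
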