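import Mathlib
import Groth.Agent.Lib.Helper24SubReg

/-!
Helper library for S16051 (part 2): surjectivity of the functionals, the kernel equals the range of
`ad x`, and the resulting linear equivalence `sl_{n+1}(O) / im(ad x) ≃ O^{n+2}`.
-/

set_option autoImplicit false

namespace Groth.Agent.Lib.Helper24SubReg

open Finset LieAlgebra.SpecialLinear

variable {O : Type*} [CommRing O]

lemma mem_sl_iff (n : ℕ) (y : Matrix (Fin (n+1)) (Fin (n+1)) O) :
    y ∈ sl (Fin (n+1)) O ↔ y.trace = 0 := by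
  show y ∈ LinearMap.ker (Matrix.traceLinearMap (Fin (n+1)) O O) ↔ _
  rw [LinearMap.mem_ker]; rfl

lemma trace_ofFun (n : ℕ) (f : ℕ → ℕ → O) :
    (ofFun n f).trace = ∑ s ∈ range (n+1), f s s := by
  unfold Matrix.trace
  simp only [Matrix.diag, ofFun]
  exact Fin.sum_univ_eq_sum_range (fun s => f s s) (n+1)

def psiSl (n : ℕ) : sl (Fin (n+1)) O →ₗ[O] (Fin (n+2) → O) where
  toFun Y := psi n Y.val
  map_add' a b := by rw [show (a+b).val = a.val + b.val from rfl, map_add]
  map_smul' c a := by rw [show (c • a).val = c • a.val from rfl, map_smul]; rfl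

lemma psiFun_congr (n : ℕ) (g g' : ℕ → ℕ → O)
    (h : ∀ i j, i < n+1 → j < n+1 → g i j = g' i j) (k : ℕ) :
    psiFun n g k = psiFun n g' k := by
  unfold psiFun
  split_ifs with h1 h2
  · refine Finset.sum_congr rfl fun t ht => ?_
    have := Finset.mem_range.mp ht
    exact h _ _ (by omega) (by omega)
  · exact h _ _ (by omega) (by omega)
  · exact h _ _ (by omega) (by omega)

lemma psi_bracket (n : ℕ) (hn : 1 ≤ n) (y : Matrix (Fin (n+1)) (Fin (n+1)) O) :
    psi n (xstd n * y - y * xstd n) = 0 := by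
  funext k
  show psiFun n (ext n (xstd n * y - y * xstd n)) k.val = 0
  have hB : ∀ i j : ℕ, i < n+1 → j < n+1 →
      ext n (xstd n * y - y * xstd n) i j = brk n (ext n y) i j := by
    intro i j hi hj
    have h1 := bracket_apply n (ext n y) ⟨i,hi⟩ ⟨j,hj⟩
    rw [ofFun_ext] at h1
    exact (ext_fin n _ ⟨i,hi⟩ ⟨j,hj⟩).trans h1
  rw [psiFun_congr n _ _ hB]
  exact psiFun_brk n hn _ _

def vv (n : ℕ) (v : Fin (n+2) → O) (k : ℕ) : O := if h : k < n+2 then v ⟨k,h⟩ else 0

def surjFun (n : ℕ) (v : Fin (n+2) → O) (i j : ℕ) : O :=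
  if j = 0 ∧ i < n then vv n v i
  else if i = n ∧ j = 0 then vv n v (n+1)
  else if i = n - 1 ∧ j = n then vv n v n
  else if i = n ∧ j = n then - vv n v 0
  else 0

lemma surj_trace (n : ℕ) (hn : 1 ≤ n) (v : Fin (n+2) → O) :
    (ofFun n (surjFun n v)).trace = 0 := by
  rw [trace_ofFun]
  have h : ∀ s ∈ range (n+1), surjFun n v s s
      = (if s = 0 then vv n v 0 else 0) + (if s = n then - vv n v 0 else 0) := by
    intro s hs
    have := Finset.mem_range.mp hs
    unfold surjFun
    by_cases h0 : s = 0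
    · have c1 : (s = 0 ∧ s < n) := ⟨h0, by omega⟩
      have c2 : ¬ (s = n) := by omega
      rw [if_pos c1, if_pos h0, if_neg c2, h0]; simp
    · by_cases hsn : s = n
      · have c1 : ¬ (s = 0 ∧ s < n) := fun h => h0 h.1
        have c2 : ¬ (s = n ∧ s = 0) := fun h => h0 h.2
        have c3 : ¬ (s = n - 1 ∧ s = n) := by omega
        rw [if_neg c1, if_neg c2, if_neg c3, if_pos ⟨hsn,hsn⟩, if_neg h0, if_pos hsn]; simp
      · have c1 : ¬ (s = 0 ∧ s < n) := fun h => h0 h.1
        have c2 : ¬ (s = n ∧ s = 0) := fun h => h0 h.2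
        have c3 : ¬ (s = n - 1 ∧ s = n) := by omega
        have c4 : ¬ (s = n ∧ s = n) := fun h => hsn h.1
        rw [if_neg c1, if_neg c2, if_neg c3, if_neg c4, if_neg h0, if_neg hsn]; simp
  rw [Finset.sum_congr rfl h, Finset.sum_add_distrib, Finset.sum_ite_eq', Finset.sum_ite_eq']
  simp

lemma psi_surj (n : ℕ) (hn : 1 ≤ n) (v : Fin (n+2) → O) :
    psi n (ofFun n (surjFun n v)) = v := by
  funext k
  show psiFun n (ext n (ofFun n (surjFun n v))) k.val = v k
  rw [psiFun_congr n _ (surjFun n v) (fun i j hi hj => ext_ofFun n _ i j hi hj)]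
  have hk := k.isLt
  have hvk : vv n v k.val = v k := by unfold vv; rw [dif_pos hk]
  unfold psiFun
  split_ifs with h1 h2
  · have hpos : 0 ∈ range (n - k.val) := Finset.mem_range.mpr (by omega)
    rw [Finset.sum_eq_single_of_mem 0 hpos]
    · rw [zero_add]
      unfold surjFun
      rw [if_pos ⟨rfl, h1⟩, hvk]
    · intro t ht ht0
      have := Finset.mem_range.mp ht
      unfold surjFun
      have c1 : ¬ (t = 0 ∧ t + k.val < n) := fun h => ht0 h.1
      have c2 : ¬ (t + k.val = n ∧ t = 0) := fun h => ht0 h.2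
      have c3 : ¬ (t + k.val = n - 1 ∧ t = n) := by omega
      have c4 : ¬ (t + k.val = n ∧ t = n) := by omega
      rw [if_neg c1, if_neg c2, if_neg c3, if_neg c4]
  · unfold surjFun
    have c1 : ¬ (n = 0 ∧ n - 1 < n) := by omega
    have c2 : ¬ (n - 1 = n ∧ n = 0) := by omega
    rw [if_neg c1, if_neg c2, if_pos ⟨rfl, rfl⟩, ← hvk, h2]
  · have hk' : k.val = n + 1 := by omega
    unfold surjFun
    have c1 : ¬ ((0:ℕ) = 0 ∧ n < n) := by omega
    rw [if_neg c1, if_pos ⟨rfl, rfl⟩, ← hvk, hk']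

lemma exists_preimage (n : ℕ) (hn : 1 ≤ n) (Y : Matrix (Fin (n+1)) (Fin (n+1)) O)
    (hY : Y.trace = 0) (hpsi : psi n Y = 0) :
    ∃ y : Matrix (Fin (n+1)) (Fin (n+1)) O, y.trace = 0 ∧ xstd n * y - y * xstd n = Y := by
  obtain ⟨g, hg⟩ : ∃ g : ℕ → ℕ → O, g = ext n Y := ⟨_, rfl⟩
  have hk : ∀ k, k < n + 2 → psiFun n g k = 0 := by
    intro k hk
    have h : psiFun n (ext n Y) k = 0 := congrFun hpsi ⟨k, hk⟩
    rwa [← hg] at h
  have h0 : ∀ k, k < n → ∑ t ∈ range (n - k), g (t + k) t = 0 := by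
    intro k hkn
    have h := hk k (by omega)
    unfold psiFun at h
    rwa [if_pos hkn] at h
  have h1 : g (n-1) n = 0 := by
    have h := hk n (by omega)
    unfold psiFun at h
    rwa [if_neg (lt_irrefl n), if_pos rfl] at h
  have h2 : g n 0 = 0 := by
    have h := hk (n+1) (by omega)
    unfold psiFun at h
    have c1 : ¬ (n + 1 < n) := by omega
    have c2 : ¬ (n + 1 = n) := by omega
    rwa [if_neg c1, if_neg c2] at h
  have h3 : g n n = 0 := by
    have ht : ∑ s ∈ range (n+1), g s s = 0 := by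
      rw [← trace_ofFun, hg, ofFun_ext]; exact hY
    rw [Finset.sum_range_succ] at ht
    have h := h0 0 hn
    simp only [Nat.sub_zero, add_zero] at h
    rw [h, zero_add] at ht
    exact ht
  refine ⟨ofFun n (fun i j => if i = n ∧ j = n then - ∑ s ∈ range n, pre n g s s
    else pre n g i j), ?_, ?_⟩
  · rw [trace_ofFun, Finset.sum_range_succ]
    beta_reduce
    have h : ∀ s ∈ range n, (if s = n ∧ s = n then - ∑ s ∈ range n, pre n g s s
        else pre n g s s) = pre n g s s := by
      intro s hs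
      have := Finset.mem_range.mp hs
      have c : ¬ (s = n ∧ s = n) := by omega
      rw [if_neg c]
    rw [Finset.sum_congr rfl h, if_pos ⟨rfl, rfl⟩]
    ring
  · funext i j
    rw [bracket_apply]
    have hi := i.isLt
    have hj := j.isLt
    have hb : brk n (fun i j => if i = n ∧ j = n then - ∑ s ∈ range n, pre n g s s
        else pre n g i j) i.val j.val = brk n (pre n g) i.val j.val := by
      unfold brk
      congr 1
      · by_cases c : i.val + 1 < n
        · have c' : ¬ (i.val + 1 = n ∧ j.val = n) := by omega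
          rw [if_pos c, if_pos c]; exact if_neg c'
        · rw [if_neg c, if_neg c]
      · by_cases c : 1 ≤ j.val ∧ j.val < n
        · have c' : ¬ (i.val = n ∧ j.val - 1 = n) := by omega
          rw [if_pos c, if_pos c]; exact if_neg c'
        · rw [if_neg c, if_neg c]
    rw [hb, main_eq n hn g h0 h1 h2 h3 i.val j.val (by omega) (by omega), hg]
    exact ext_fin n Y i j

theorem sl_quot_equiv (n : ℕ) (hn : 1 ≤ n) (x : sl (Fin (n+1)) O)
    (hx : ∀ i j : Fin (n+1), (x : Matrix (Fin (n+1)) (Fin (n+1)) O) i j =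
      if j.val = i.val + 1 ∧ j.val < n then 1 else 0) :
    Nonempty ((sl (Fin (n+1)) O ⧸ LinearMap.range (LieAlgebra.ad O (sl (Fin (n+1)) O) x))
      ≃ₗ[O] (Fin (n+2) → O)) := by
  have hxv : x.val = xstd n := by funext i j; rw [hx]; rfl
  have hsurj : Function.Surjective (psiSl (O := O) n) := by
    intro v
    refine ⟨⟨ofFun n (surjFun n v), (mem_sl_iff n _).mpr (surj_trace n hn v)⟩, ?_⟩
    exact psi_surj n hn v
  have hker : LinearMap.range (LieAlgebra.ad O (sl (Fin (n+1)) O) x)
      = LinearMap.ker (psiSl (O := O) n) := by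
    ext Y
    rw [LinearMap.mem_range, LinearMap.mem_ker]
    constructor
    · rintro ⟨y, rfl⟩
      show psi n ((LieAlgebra.ad O (sl (Fin (n+1)) O) x y).val) = 0
      have h : (LieAlgebra.ad O (sl (Fin (n+1)) O) x y).val = x.val * y.val - y.val * x.val := by
        rw [LieAlgebra.ad_apply]; rfl
      rw [h, hxv]; exact psi_bracket n hn y.val
    · intro h
      have h' : psi n Y.val = 0 := h
      obtain ⟨y, hy0, hy⟩ := exists_preimage n hn Y.val ((mem_sl_iff n _).mp Y.property) h'
      refine ⟨⟨y, (mem_sl_iff n _).mpr hy0⟩, ?_⟩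
      apply Subtype.ext
      have h2 : (LieAlgebra.ad O (sl (Fin (n+1)) O) x ⟨y, (mem_sl_iff n _).mpr hy0⟩).val
          = x.val * y - y * x.val := by
        rw [LieAlgebra.ad_apply]; rfl
      rw [h2, hxv]; exact hy
  exact ⟨(Submodule.quotEquivOfEq _ _ hker).trans (LinearMap.quotKerEquivOfSurjective _ hsurj)⟩

theorem s16051 (O : Type*) [CommRing O] [IsDomain O] (n : ℕ) (hn : 1 ≤ n)
    (x : sl (Fin (n + 1)) O)
    (hx : ∀ i j : Fin (n + 1), (x : Matrix (Fin (n + 1)) (Fin (n + 1)) O) i j =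
      if j.val = i.val + 1 ∧ j.val < n then 1 else 0) :
    Module.Free O (sl (Fin (n + 1)) O ⧸
        LinearMap.range (LieAlgebra.ad O (sl (Fin (n + 1)) O) x)) ∧
      Module.finrank O (sl (Fin (n + 1)) O ⧸
        LinearMap.range (LieAlgebra.ad O (sl (Fin (n + 1)) O) x)) = n + 2 := by
  obtain ⟨e⟩ := sl_quot_equiv n hn x hx
  exact ⟨Module.Free.of_equiv e.symm, e.finrank_eq.trans (Module.finrank_fin_fun O)⟩

end Groth.Agent.Lib.Helper24SubReg
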