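import Mathlib

universe u

namespace Groth.Agent.Lib.Helper24SummandCrit

open Submodule

variable (R : Type u) [CommRing R] (M : Type u) [AddCommGroup M] [Module R M]
  (x : Ideal R)

/-- the R-submodule of elements all of whose functionals land in x -/
def Nx : Submodule R M where
  carrier := {m : M | ∀ φ : M →ₗ[R] R, φ m ∈ x}
  add_mem' := fun ha hb φ => by rw [map_add]; exact x.add_mem (ha φ) (hb φ)
  zero_mem' := fun φ => by rw [map_zero]; exact x.zero_mem
  smul_mem' := fun c m hm φ => by rw [map_smul]; exact x.mul_mem_left c (hm φ)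

theorem smul_top_le_Nx : (x • ⊤ : Submodule R M) ≤ Nx R M x := by
  rw [Submodule.smul_le]
  intro a ha m _ φ
  rw [map_smul, smul_eq_mul]
  exact x.mul_mem_right _ ha

instance towerInst : IsScalarTower R (R ⧸ x) (M ⧸ (x • ⊤ : Submodule R M)) := by
  refine ⟨fun a c y => ?_⟩
  obtain ⟨c, rfl⟩ := Ideal.Quotient.mk_surjective c
  obtain ⟨m, rfl⟩ := Submodule.Quotient.mk_surjective _ y
  rw [Module.Quotient.mk_smul_mk, ← Submodule.Quotient.mk_smul, smul_smul]
  rfl

theorem mk_smul (a : R) (y : M ⧸ (x • ⊤ : Submodule R M)) :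
    (Ideal.Quotient.mk x a) • y = a • y := by
  obtain ⟨m, rfl⟩ := Submodule.Quotient.mk_surjective _ y
  rfl

theorem mem_span_iff (m : M) :
    (x • ⊤ : Submodule R M).mkQ m ∈ Submodule.span (R ⧸ x)
      ((x • ⊤ : Submodule R M).mkQ '' {m : M | ∀ φ : M →ₗ[R] R, φ m ∈ x}) ↔
    ∀ φ : M →ₗ[R] R, φ m ∈ x := by
  constructor
  · intro h
    have h1 : (x • ⊤ : Submodule R M).mkQ m ∈
        (Submodule.span (R ⧸ x)
          ((x • ⊤ : Submodule R M).mkQ '' {m : M | ∀ φ : M →ₗ[R] R, φ m ∈ x})).restrictScalars R := h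
    rw [Submodule.restrictScalars_span R (R ⧸ x) Ideal.Quotient.mk_surjective] at h1
    have h2 : Submodule.span R ((x • ⊤ : Submodule R M).mkQ '' {m : M | ∀ φ : M →ₗ[R] R, φ m ∈ x})
        = (Nx R M x).map (x • ⊤ : Submodule R M).mkQ := by
      rw [← Submodule.map_span]
      congr 1
      exact Submodule.span_eq (Nx R M x)
    rw [h2] at h1
    obtain ⟨n, hn, hnm⟩ := h1
    have h3 : m - n ∈ (x • ⊤ : Submodule R M) := by
      rw [← Submodule.Quotient.mk_eq_zero, Submodule.Quotient.mk_sub]
      rw [Submodule.mkQ_apply, Submodule.mkQ_apply] at hnm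
      rw [hnm, sub_self]
    have h4 := smul_top_le_Nx R M x h3
    have h5 : m = (m - n) + n := by abel
    rw [h5]
    exact (Nx R M x).add_mem h4 hn
  · intro h
    exact Submodule.subset_span ⟨m, h, rfl⟩


variable [x.IsMaximal]

theorem not_mem_of_mem_powers {f : R} (hf : f ∉ x) {u : R} (hu : u ∈ Submonoid.powers f) :
    u ∉ x := by
  obtain ⟨k, rfl⟩ := hu
  intro h
  exact hf (Ideal.IsPrime.mem_of_pow_mem (Ideal.IsMaximal.isPrime inferInstance) k h)

theorem forward [Module.FinitePresentation R M] (r : ℕ) (s : Fin r → M) (f : R) (hf : f ∉ x)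
    (g : LocalizedModule (Submonoid.powers f) M →ₗ[Localization.Away f]
      (Fin r → Localization.Away f))
    (hg : g ∘ₗ Fintype.linearCombination (Localization.Away f)
            (fun i => LocalizedModule.mkLinearMap (Submonoid.powers f) M (s i)) = LinearMap.id) :
    LinearIndependent (R ⧸ x) (fun i => (Submodule.span (R ⧸ x)
      ((x • ⊤ : Submodule R M).mkQ '' {m : M | ∀ φ : M →ₗ[R] R, φ m ∈ x})).mkQ
        ((x • ⊤ : Submodule R M).mkQ (s i))) := by
  classical
  have hgi : ∀ i, g (LocalizedModule.mkLinearMap (Submonoid.powers f) M (s i)) =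
      Pi.single i 1 := by
    intro i
    have := LinearMap.congr_fun hg (Pi.single i 1)
    simpa [Fintype.linearCombination_apply_single] using this
  have key : ∀ j, ∃ (h : M →ₗ[R] R) (t : R), t ∉ x ∧
      ∀ i, Ideal.Quotient.mk x (h (s i)) = if i = j then Ideal.Quotient.mk x t else 0 := by
    intro j
    let γ : M →ₗ[R] Localization.Away f :=
      ((LinearMap.proj j ∘ₗ g).restrictScalars R) ∘ₗ
        LocalizedModule.mkLinearMap (Submonoid.powers f) M
    obtain ⟨h, t, ht⟩ := Module.FinitePresentation.exists_lift_of_isLocalizedModule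
      (Submonoid.powers f) (Algebra.linearMap R (Localization.Away f)) γ
    refine ⟨h, t, not_mem_of_mem_powers R x hf t.2, fun i => ?_⟩
    have h1 := LinearMap.congr_fun ht (s i)
    have h2 : γ (s i) = if i = j then 1 else 0 := by
      change (g (LocalizedModule.mkLinearMap (Submonoid.powers f) M (s i))) j = _
      rw [hgi i, Pi.single_apply]
      simp only [eq_comm]
    rw [LinearMap.comp_apply, Algebra.linearMap_apply, LinearMap.smul_apply, h2] at h1
    have h3 : algebraMap R (Localization.Away f) (h (s i)) =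
        algebraMap R (Localization.Away f) ((t : R) * if i = j then 1 else 0) := by
      rw [h1, map_mul, Submonoid.smul_def, Algebra.smul_def]
      split_ifs <;> simp
    obtain ⟨u, hu⟩ := (IsLocalization.eq_iff_exists (Submonoid.powers f) _).1 h3
    have hu' : Ideal.Quotient.mk x (u : R) ≠ 0 := by
      rw [Ne, Ideal.Quotient.eq_zero_iff_mem]
      exact not_mem_of_mem_powers R x hf u.2
    have h4 := congrArg (Ideal.Quotient.mk x) hu
    rw [map_mul, map_mul] at h4
    have h5 := mul_left_cancel₀ hu' h4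
    rw [h5, map_mul]
    split_ifs <;> simp
  choose h t ht hh using key
  rw [Fintype.linearIndependent_iff]
  intro c hc j
  choose a ha using fun i => Ideal.Quotient.mk_surjective (c i)
  have h1 : ∑ i, c i • (Submodule.span (R ⧸ x)
      ((x • ⊤ : Submodule R M).mkQ '' {m : M | ∀ φ : M →ₗ[R] R, φ m ∈ x})).mkQ
        ((x • ⊤ : Submodule R M).mkQ (s i)) =
      (Submodule.span (R ⧸ x)
      ((x • ⊤ : Submodule R M).mkQ '' {m : M | ∀ φ : M →ₗ[R] R, φ m ∈ x})).mkQ
        ((x • ⊤ : Submodule R M).mkQ (∑ i, a i • s i)) := by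
    rw [map_sum, map_sum]
    refine Finset.sum_congr rfl fun i _ => ?_
    rw [← ha i, ← map_smul]
    rfl
  rw [h1, Submodule.mkQ_apply, Submodule.Quotient.mk_eq_zero, mem_span_iff] at hc
  have h2 := hc (h j)
  rw [map_sum] at h2
  have h3 := (Ideal.Quotient.eq_zero_iff_mem).2 h2
  rw [map_sum] at h3
  have h4 : ∀ i, Ideal.Quotient.mk x ((h j) (a i • s i)) =
      if i = j then c j * Ideal.Quotient.mk x (t j) else 0 := by
    intro i
    rw [map_smul, smul_eq_mul, map_mul, hh j i, ha i]
    split_ifs with hij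
    · rw [hij]
    · rw [mul_zero]
  rw [Finset.sum_congr rfl fun i _ => h4 i, Finset.sum_ite_eq' Finset.univ j] at h3
  simp only [Finset.mem_univ, if_true] at h3
  have h5 : Ideal.Quotient.mk x (t j) ≠ 0 := by
    rw [Ne, Ideal.Quotient.eq_zero_iff_mem]
    exact ht j
  exact (mul_eq_zero.1 h3).resolve_right h5


theorem backward (r : ℕ) (s : Fin r → M)
    (hli : LinearIndependent (R ⧸ x) (fun i => (Submodule.span (R ⧸ x)
      ((x • ⊤ : Submodule R M).mkQ '' {m : M | ∀ φ : M →ₗ[R] R, φ m ∈ x})).mkQ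
        ((x • ⊤ : Submodule R M).mkQ (s i)))) :
    ∃ f : R, f ∉ x ∧
      ∃ g : LocalizedModule (Submonoid.powers f) M →ₗ[Localization.Away f]
          (Fin r → Localization.Away f),
        g ∘ₗ Fintype.linearCombination (Localization.Away f)
            (fun i => LocalizedModule.mkLinearMap (Submonoid.powers f) M (s i)) =
          LinearMap.id := by
  classical
  let T : (M →ₗ[R] R) →ₗ[R] (Fin r → R ⧸ x) :=
    { toFun := fun φ i => Ideal.Quotient.mk x (φ (s i))
      map_add' := fun φ ψ => by
        funext i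
        simp only [LinearMap.add_apply, map_add, Pi.add_apply]
      map_smul' := fun a φ => by
        funext i
        simp only [LinearMap.smul_apply, smul_eq_mul, map_mul, RingHom.id_apply, Pi.smul_apply]
        rfl }
  have hTapp : ∀ φ i, T φ i = Ideal.Quotient.mk x (φ (s i)) := fun φ i => rfl
  have hT : LinearMap.range T = ⊤ := by
    by_contra hne
    set W' : Submodule (R ⧸ x) (Fin r → R ⧸ x) :=
      Submodule.span (R ⧸ x) (LinearMap.range T : Set (Fin r → R ⧸ x)) with hW'def
    have hW' : W'.restrictScalars R = LinearMap.range T := by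
      rw [hW'def, Submodule.restrictScalars_span R (R ⧸ x) Ideal.Quotient.mk_surjective,
        Submodule.span_eq]
    have hlt : W' < ⊤ := by
      rw [lt_top_iff_ne_top]
      intro h
      apply hne
      rw [← hW', h]
      rfl
    letI := Ideal.Quotient.field x
    obtain ⟨F, hF0, hF⟩ := Submodule.exists_le_ker_of_lt_top (K := R ⧸ x) W' hlt
    choose a ha using fun i => Ideal.Quotient.mk_surjective (F (Pi.single i 1))
    have hFy : ∀ y : Fin r → R ⧸ x, F y = ∑ i, y i * Ideal.Quotient.mk x (a i) := by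
      intro y
      rw [LinearMap.pi_apply_eq_sum_univ F y]
      refine Finset.sum_congr rfl fun i _ => ?_
      rw [ha i, smul_eq_mul]
      congr 2
      funext j
      rw [Pi.single_apply]
      simp only [eq_comm]
    have hm : ∀ φ : M →ₗ[R] R, φ (∑ i, a i • s i) ∈ x := by
      intro φ
      have h1 : T φ ∈ W' := Submodule.subset_span ⟨φ, rfl⟩
      have h2 : F (T φ) = 0 := hF h1
      rw [hFy] at h2
      rw [← Ideal.Quotient.eq_zero_iff_mem, map_sum, map_sum, ← h2]
      refine Finset.sum_congr rfl fun i _ => ?_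
      rw [map_smul, smul_eq_mul, map_mul, hTapp, mul_comm]
    have h3 := (mem_span_iff R M x _).2 hm
    have h4 : ∑ i, Ideal.Quotient.mk x (a i) • (Submodule.span (R ⧸ x)
        ((x • ⊤ : Submodule R M).mkQ '' {m : M | ∀ φ : M →ₗ[R] R, φ m ∈ x})).mkQ
          ((x • ⊤ : Submodule R M).mkQ (s i)) = 0 := by
      have : ∑ i, Ideal.Quotient.mk x (a i) • (Submodule.span (R ⧸ x)
          ((x • ⊤ : Submodule R M).mkQ '' {m : M | ∀ φ : M →ₗ[R] R, φ m ∈ x})).mkQ
            ((x • ⊤ : Submodule R M).mkQ (s i)) =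
          (Submodule.span (R ⧸ x)
          ((x • ⊤ : Submodule R M).mkQ '' {m : M | ∀ φ : M →ₗ[R] R, φ m ∈ x})).mkQ
            ((x • ⊤ : Submodule R M).mkQ (∑ i, a i • s i)) := by
        rw [map_sum, map_sum]
        refine Finset.sum_congr rfl fun i _ => ?_
        rw [← map_smul]
        rfl
      rw [this, Submodule.mkQ_apply, Submodule.Quotient.mk_eq_zero]
      exact h3
    have h5 := Fintype.linearIndependent_iff.1 hli _ h4
    apply hF0
    apply LinearMap.ext
    intro y
    rw [hFy, LinearMap.zero_apply]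
    refine Finset.sum_eq_zero fun i _ => ?_
    rw [h5 i, mul_zero]
  choose φ hφ using fun j : Fin r =>
    LinearMap.range_eq_top.1 hT (Pi.single j (1 : R ⧸ x))
  let P : Matrix (Fin r) (Fin r) R := Matrix.of fun j i => φ j (s i)
  have hP1 : P.map (Ideal.Quotient.mk x) = 1 := by
    ext j i
    change Ideal.Quotient.mk x (φ j (s i)) = _
    rw [← hTapp, hφ j, Pi.single_apply, Matrix.one_apply]
    simp only [eq_comm]
  have hdet : Ideal.Quotient.mk x P.det = 1 := by
    rw [RingHom.map_det, RingHom.mapMatrix_apply, hP1, Matrix.det_one]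
  have hfx : P.det ∉ x := by
    intro h
    rw [← Ideal.Quotient.eq_zero_iff_mem, hdet] at h
    exact one_ne_zero h
  refine ⟨P.det, hfx, ?_⟩
  obtain ⟨f, hfdef⟩ : ∃ f, f = P.det := ⟨_, rfl⟩
  rw [← hfdef]
  let A := Localization.Away f
  let PA : Matrix (Fin r) (Fin r) A := P.map (algebraMap R A)
  have hPAdet : IsUnit PA.det := by
    have : PA.det = algebraMap R A P.det := by
      rw [RingHom.map_det, RingHom.mapMatrix_apply]
    rw [this, ← hfdef]
    exact IsLocalization.Away.algebraMap_isUnit f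
  let g₀ : M →ₗ[R] (Fin r → A) := LinearMap.pi fun j => (Algebra.linearMap R A) ∘ₗ φ j
  haveI := isLocalizedModule_id (Submonoid.powers f) (Fin r → A) A
  have hunits : ∀ u : Submonoid.powers f,
      IsUnit (algebraMap R (Module.End R (Fin r → A)) u) :=
    IsLocalizedModule.map_units (LinearMap.id : (Fin r → A) →ₗ[R] (Fin r → A))
  let g₁ : LocalizedModule (Submonoid.powers f) M →ₗ[R] (Fin r → A) :=
    LocalizedModule.lift (Submonoid.powers f) g₀ hunits
  have hg₁ : ∀ m, g₁ (LocalizedModule.mkLinearMap (Submonoid.powers f) M m) = g₀ m :=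
    fun m => LinearMap.congr_fun (LocalizedModule.lift_comp (Submonoid.powers f) g₀ hunits) m
  let g₂ : LocalizedModule (Submonoid.powers f) M →ₗ[A] (Fin r → A) :=
    g₁.extendScalarsOfIsLocalization (Submonoid.powers f) A
  refine ⟨(Matrix.toLin' PA⁻¹) ∘ₗ g₂, ?_⟩
  refine LinearMap.pi_ext' fun i => LinearMap.ext_ring ?_
  simp only [LinearMap.comp_apply, LinearMap.id_apply, LinearMap.coe_single]
  rw [Fintype.linearCombination_apply_single, one_smul]
  have h1 : g₂ (LocalizedModule.mkLinearMap (Submonoid.powers f) M (s i)) =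
      PA.mulVec (Pi.single i 1) := by
    change g₁ _ = _
    rw [hg₁]
    funext j
    rw [Matrix.mulVec_single_one]
    rfl
  rw [h1, Matrix.toLin'_apply, Matrix.mulVec_mulVec, Matrix.nonsing_inv_mul PA hPAdet,
    Matrix.one_mulVec]

end Groth.Agent.Lib.Helper24SummandCrit
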