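import Mathlib
import Groth.Prelude.Def_QuadGrp

/-!
# Symplectic bases over local rings and determinants of isometries of alternating forms
-/

set_option autoImplicit false
universe u v

namespace Groth.Agent.Lib.Helper24Sympl

open Matrix

section Gram

variable {R : Type u} [CommRing R] {V : Type v} [AddCommGroup V] [Module R V]

/-- A finite family whose Gram matrix is invertible is linearly independent. -/
theorem linearIndependent_of_gram (B : LinearMap.BilinForm R V) {ι : Type*} [Fintype ι]
    [DecidableEq ι] (w : ι → V) (h : IsUnit (Matrix.of fun i j => B (w i) (w j))) :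
    LinearIndependent R w := by
  rw [Fintype.linearIndependent_iff]
  intro c hc
  have h1 : Matrix.vecMul c (Matrix.of fun i j => B (w i) (w j)) = 0 := by
    funext j
    have := congrArg (fun x => B x (w j)) hc
    simp only [map_sum, map_smul, LinearMap.sum_apply, LinearMap.smul_apply, smul_eq_mul,
      map_zero, LinearMap.zero_apply] at this
    simpa [Matrix.vecMul, dotProduct] using this
  have := Matrix.vecMul_injective_of_isUnit h (h1.trans (Matrix.zero_vecMul _).symm)
  intro i
  rw [this]
  rfl

end Gram

section Local

variable {R : Type u} [CommRing R]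

section Split

variable {V : Type v} [AddCommGroup V] [Module R V] (B : LinearMap.BilinForm R V)
  (halt : ∀ x, B x x = 0) (e f : V) (hfe : B f e = 1)

theorem skew (halt : ∀ x, B x x = 0) (x y : V) : B x y = -B y x := by
  have := halt (x + y)
  simp only [map_add, LinearMap.add_apply, halt x, halt y, zero_add, add_zero] at this
  linear_combination this

/-- The orthogonal complement of the hyperbolic plane spanned by `e, f`. -/
def perp : Submodule R V := LinearMap.ker (B.flip e) ⊓ LinearMap.ker (B.flip f)

theorem mem_perp {x : V} : x ∈ perp B e f ↔ B x e = 0 ∧ B x f = 0 := by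
  simp [perp, Submodule.mem_inf, LinearMap.mem_ker]

/-- The projection onto `perp`. -/
def proj₀ : V →ₗ[R] V :=
  LinearMap.id + (B.flip f).smulRight e - (B.flip e).smulRight f

theorem proj₀_apply (x : V) : proj₀ B e f x = x + B x f • e - B x e • f := by
  simp [proj₀]

include halt hfe in
theorem proj₀_mem (x : V) : proj₀ B e f x ∈ perp B e f := by
  have hef : B e f = -1 := by rw [skew B halt e f, hfe]
  rw [mem_perp, proj₀_apply]
  simp only [map_add, map_sub, map_smul, LinearMap.add_apply, LinearMap.sub_apply,
    LinearMap.smul_apply, smul_eq_mul, halt e, halt f, hfe, hef]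
  constructor <;> ring

theorem proj₀_of_mem {x : V} (hx : x ∈ perp B e f) : proj₀ B e f x = x := by
  rw [mem_perp] at hx
  rw [proj₀_apply, hx.1, hx.2]
  simp

/-- The projection as a map to the submodule. -/
def proj (halt : ∀ x, B x x = 0) (hfe : B f e = 1) : V →ₗ[R] perp B e f :=
  (proj₀ B e f).codRestrict (perp B e f) (proj₀_mem B halt e f hfe)

theorem proj_comp_subtype :
    (proj B e f halt hfe) ∘ₗ (perp B e f).subtype = LinearMap.id := by
  ext x
  simp [proj, proj₀_of_mem B e f x.2]

theorem decomp (x : V) : x = proj₀ B e f x - B x f • e + B x e • f := by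
  rw [proj₀_apply]
  abel

include halt hfe in
theorem proj₀_e : proj₀ B e f e = 0 := by
  have hef : B e f = -1 := by rw [skew B halt e f, hfe]
  rw [proj₀_apply, halt e, hef]
  simp

include halt hfe in
theorem proj₀_f : proj₀ B e f f = 0 := by
  rw [proj₀_apply, halt f, hfe]
  simp

/-- The splitting `V ≃ perp × R × R`. -/
def splitEquiv (halt : ∀ x, B x x = 0) (hfe : B f e = 1) : V ≃ₗ[R] (perp B e f × R × R) where
  toFun x := (proj B e f halt hfe x, -B x f, B x e)
  map_add' x y := by
    simp only [map_add, LinearMap.add_apply, Prod.mk_add_mk, neg_add]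
  map_smul' c x := by
    simp only [map_smul, LinearMap.smul_apply, smul_eq_mul, RingHom.id_apply, Prod.smul_mk,
      mul_neg]
  invFun p := (p.1 : V) + p.2.1 • e + p.2.2 • f
  left_inv x := by
    simp only [proj, LinearMap.codRestrict_apply, neg_smul]
    rw [proj₀_apply]
    abel
  right_inv p := by
    obtain ⟨w, α, β⟩ := p
    have hef : B e f = -1 := by rw [skew B halt e f, hfe]
    have hw := (mem_perp B e f).1 w.2
    refine Prod.ext ?_ (Prod.ext ?_ ?_)
    · apply Subtype.ext
      change proj₀ B e f ((w : V) + α • e + β • f) = w
      rw [map_add, map_add, map_smul, map_smul, proj₀_e B halt e f hfe, proj₀_f B halt e f hfe,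
        proj₀_of_mem B e f w.2]
      simp
    · simp only [map_add, map_smul, LinearMap.add_apply, LinearMap.smul_apply, smul_eq_mul,
        halt f, hef, hw.2]
      ring
    · simp only [map_add, map_smul, LinearMap.add_apply, LinearMap.smul_apply, smul_eq_mul,
        halt e, hfe, hw.1]
      ring

end Split

section Induction

variable [IsLocalRing R]

theorem exists_symplectic_family : ∀ (k : ℕ) (V : Type v) [AddCommGroup V] [Module R V]
    [Module.Free R V] [Module.Finite R V] (B : LinearMap.BilinForm R V),
    (∀ x, B x x = 0) → Function.Bijective B → Module.finrank R V = k →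
    ∃ (l : Type) (_ : Fintype l) (_ : DecidableEq l) (w : l ⊕ l → V),
      (∀ i j, B (w i) (w j) = Matrix.J l R i j) ∧ Submodule.span R (Set.range w) = ⊤ := by
  intro k
  induction k using Nat.strong_induction_on with
  | _ k ih =>
    intro V _ _ _ _ B halt hperf hk
    by_cases hk0 : k = 0
    · subst hk0
      have : Subsingleton V := (Module.finrank_eq_zero_iff_of_free R V).1 hk
      refine ⟨Empty, inferInstance, inferInstance,
        fun x => x.elim (fun a => a.elim) (fun a => a.elim), ?_, ?_⟩
      · intro i
        exact i.elim (fun a => a.elim) (fun a => a.elim)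
      · exact Subsingleton.elim _ _
    · -- choose a hyperbolic pair
      let b := Module.Free.chooseBasis R V
      have hne : Nonempty (Module.Free.ChooseBasisIndex R V) := by
        by_contra hempty
        rw [not_nonempty_iff] at hempty
        have : Module.finrank R V = 0 := by
          rw [Module.finrank_eq_card_chooseBasisIndex]
          exact Fintype.card_eq_zero
        omega
      obtain ⟨i0⟩ := hne
      set e : V := b i0 with he
      obtain ⟨f, hf⟩ := hperf.2 (b.coord i0)
      have hfe : B f e = 1 := by
        rw [hf, he]
        simp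
      have hef : B e f = -1 := by rw [skew B halt e f, hfe]
      set W := perp B e f with hW
      set π := proj B e f halt hfe with hπ
      have hπι : π ∘ₗ W.subtype = LinearMap.id := proj_comp_subtype B halt e f hfe
      have hπsurj : Function.Surjective π := fun x => ⟨x, by
        have := congrArg (fun g : W →ₗ[R] W => g x) hπι
        simpa using this⟩
      haveI : Module.Finite R W := Module.Finite.of_surjective π hπsurj
      haveI : Module.Projective R W := Module.Projective.of_split W.subtype π hπι
      haveI : Module.Free R W := Module.free_of_flat_of_isLocalRing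
      have hWe : ∀ x : W, B x e = 0 := fun x => ((mem_perp B e f).1 x.2).1
      have hWf : ∀ x : W, B x f = 0 := fun x => ((mem_perp B e f).1 x.2).2
      have heW : ∀ x : W, B e x = 0 := fun x => by rw [skew B halt, hWe x, neg_zero]
      have hfW : ∀ x : W, B f x = 0 := fun x => by rw [skew B halt, hWf x, neg_zero]
      -- rank
      have hrank : Module.finrank R V = Module.finrank R W + 2 := by
        rw [(splitEquiv B e f halt hfe).finrank_eq, Module.finrank_prod, Module.finrank_prod,
          Module.finrank_self]
      -- restricted form
      set BW : LinearMap.BilinForm R W := B.restrict W with hBW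
      have haltW : ∀ x : W, BW x x = 0 := fun x => halt x
      have hperfW : Function.Bijective BW := by
        constructor
        · rw [injective_iff_map_eq_zero]
          intro x hx
          have hx' : ∀ y : W, B x y = 0 := fun y => by
            have := congrArg (fun g : W →ₗ[R] R => g y) hx
            simpa [hBW] using this
          have : B (x : V) = 0 := by
            ext y
            rw [decomp B e f y]
            simp only [map_add, map_sub, map_smul, hWe x, hWf x, smul_zero, sub_zero, add_zero,
              LinearMap.zero_apply]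
            exact hx' ⟨proj₀ B e f y, proj₀_mem B halt e f hfe y⟩
          have h0 : (x : V) = 0 := by
            apply hperf.1
            rw [this, map_zero]
          exact Subtype.ext h0
        · intro μ
          obtain ⟨u, hu⟩ := hperf.2 (μ ∘ₗ π)
          refine ⟨π u, ?_⟩
          ext y
          have h1 : BW (π u) y = B (proj₀ B e f u) y := rfl
          rw [h1, proj₀_apply]
          simp only [map_add, map_sub, map_smul, LinearMap.add_apply, LinearMap.sub_apply,
            LinearMap.smul_apply, heW y, hfW y, smul_zero, add_zero, sub_zero]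
          rw [hu, LinearMap.comp_apply]
          congr 1
          have := congrArg (fun g : W →ₗ[R] W => g y) hπι
          simpa using this
      obtain ⟨l, _, _, w', hw', hspan'⟩ :=
        ih (Module.finrank R W) (by omega) W BW haltW hperfW rfl
      have hw'' : ∀ i j, B (w' i : V) (w' j : V) = Matrix.J l R i j := hw'
      refine ⟨Option l, inferInstance, inferInstance,
        Sum.elim (fun o => o.elim e (fun i => (w' (Sum.inl i) : V)))
          (fun o => o.elim f (fun i => (w' (Sum.inr i) : V))), ?_, ?_⟩
      · intro i j
        rcases i with (_ | i) | (_ | i) <;> rcases j with (_ | j) | (_ | j) <;>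
          simp [Matrix.J, halt e, halt f, hfe, hef, hWe, hWf, heW, hfW, hw'', Matrix.one_apply]
      · rw [eq_top_iff]
        intro y _
        set S := Submodule.span R (Set.range
          (Sum.elim (fun o : Option l => o.elim e (fun i => (w' (Sum.inl i) : V)))
          (fun o : Option l => o.elim f (fun i => (w' (Sum.inr i) : V))))) with hS
        have he_mem : e ∈ S := Submodule.subset_span ⟨Sum.inl none, rfl⟩
        have hf_mem : f ∈ S := Submodule.subset_span ⟨Sum.inr none, rfl⟩
        have hW_mem : ∀ x : W, (x : V) ∈ S := by
          intro x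
          have hx : x ∈ Submodule.span R (Set.range w') := by rw [hspan']; trivial
          induction hx using Submodule.span_induction with
          | mem z hz =>
            obtain ⟨i, rfl⟩ := hz
            rcases i with i | i
            · exact Submodule.subset_span ⟨Sum.inl (some i), rfl⟩
            · exact Submodule.subset_span ⟨Sum.inr (some i), rfl⟩
          | zero => simp
          | add a b _ _ ha hb => simpa using S.add_mem ha hb
          | smul c a _ ha => simpa using S.smul_mem c ha
        rw [decomp B e f y]
        exact S.add_mem (S.sub_mem (hW_mem ⟨_, proj₀_mem B halt e f hfe y⟩)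
          (S.smul_mem _ he_mem)) (S.smul_mem _ hf_mem)

end Induction

section DetLocal

variable [IsLocalRing R]

theorem det_eq_one_of_isLocalRing (V : Type v) [AddCommGroup V] [Module R V]
    [Module.Free R V] [Module.Finite R V] (B : LinearMap.BilinForm R V)
    (halt : ∀ x, B x x = 0) (hperf : Function.Bijective B) (g : V →ₗ[R] V)
    (hg : B.comp g g = B) : LinearMap.det g = 1 := by
  obtain ⟨l, _, _, w, hw, hspan⟩ :=
    exists_symplectic_family (Module.finrank R V) V B halt hperf rfl
  have hJ : IsUnit (Matrix.of fun i j => B (w i) (w j)) := by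
    have : (Matrix.of fun i j => B (w i) (w j)) = Matrix.J l R := by
      ext i j
      exact hw i j
    rw [this, Matrix.isUnit_iff_isUnit_det]
    exact Matrix.isUnit_det_J l R
  have hli := linearIndependent_of_gram B w hJ
  let 𝓑 := Module.Basis.mk hli hspan.ge
  have hgram : LinearMap.BilinForm.toMatrix 𝓑 B = Matrix.J l R := by
    ext i j
    rw [LinearMap.BilinForm.toMatrix_apply, Module.Basis.mk_apply, Module.Basis.mk_apply]
    exact hw i j
  have := LinearMap.BilinForm.toMatrix_comp 𝓑 𝓑 B g g
  rw [hg, hgram] at this
  have hmem : LinearMap.toMatrix 𝓑 𝓑 g ∈ Matrix.symplecticGroup l R :=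
    SymplecticGroup.mem_iff'.2 this.symm
  rw [← LinearMap.det_toMatrix 𝓑 g]
  exact SymplecticGroup.det_eq_one hmem

end DetLocal

end Local

section Global

variable {R : Type u} [CommRing R]

theorem toBilin'_self_eq_zero {n : Type*} [Fintype n] [DecidableEq n] (P : Matrix n n R)
    (hdiag : ∀ i, P i i = 0) (hskew : ∀ i j, P i j = -P j i) (x : n → R) :
    Matrix.toBilin' P x x = 0 := by
  rw [Matrix.toBilin'_apply, ← Finset.sum_product']
  apply Finset.sum_involution (fun (p : n × n) _ => (p.2, p.1))
  · rintro ⟨i, j⟩ _
    simp only
    rw [hskew j i]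
    ring
  · rintro ⟨i, j⟩ _ hne hfix
    simp only [Prod.mk.injEq] at hfix
    apply hne
    obtain ⟨rfl, -⟩ := hfix
    simp only [hdiag]
    ring
  · intro p _
    exact Finset.mem_univ _
  · rintro ⟨i, j⟩ _
    rfl

theorem toBilin'_bijective {n : Type*} [Fintype n] [DecidableEq n] (P : Matrix n n R)
    (hP : IsUnit P) : Function.Bijective (Matrix.toBilin' P) := by
  have happ : ∀ x y, Matrix.toBilin' P x y = (Matrix.vecMul x P) ⬝ᵥ y := by
    intro x y
    rw [Matrix.toBilin'_apply', Matrix.dotProduct_mulVec]
  constructor
  · rw [injective_iff_map_eq_zero]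
    intro x hx
    have h1 : Matrix.vecMul x P = 0 := by
      funext j
      have := congrArg (fun g : (n → R) →ₗ[R] R => g (Pi.single j 1)) hx
      simp only [happ, LinearMap.zero_apply] at this
      simpa using this
    exact Matrix.vecMul_injective_of_isUnit hP (h1.trans (Matrix.zero_vecMul _).symm)
  · intro μ
    obtain ⟨x, hx⟩ := Matrix.vecMul_surjective_iff_isUnit.2 hP (fun j => μ (Pi.single j 1))
    refine ⟨x, ?_⟩
    refine LinearMap.ext fun y => ?_
    have hx' : Matrix.vecMul x P = fun j => μ (Pi.single j 1) := hx
    rw [happ, hx']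
    conv_rhs => rw [LinearMap.pi_apply_eq_sum_univ μ y]
    simp only [dotProduct, smul_eq_mul, mul_comm]
    apply Finset.sum_congr rfl
    intro i _
    congr 2
    funext j
    simp [Pi.single_apply, eq_comm]

/-- A matrix preserving an invertible alternating matrix has determinant one. -/
theorem det_eq_one_of_alternating (n : ℕ) (P G : Matrix (Fin n) (Fin n) R)
    (hdiag : ∀ i, P i i = 0) (hskew : ∀ i j, P i j = -P j i) (hP : IsUnit P.det)
    (hG : Gᵀ * P * G = P) : G.det = 1 := by
  refine sub_eq_zero.1 <| eq_zero_of_localization _ fun 𝔪 h𝔪 => ?_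
  set φ := algebraMap R (Localization.AtPrime 𝔪) with hφ
  set P' := P.map φ with hP'
  set G' := G.map φ with hG'
  have hdiag' : ∀ i, P' i i = 0 := fun i => by simp [hP', hdiag i]
  have hskew' : ∀ i j, P' i j = -P' j i := fun i j => by
    simp only [hP', Matrix.map_apply]
    rw [hskew i j, map_neg]
  have hPu : IsUnit P' := by
    rw [Matrix.isUnit_iff_isUnit_det]
    have : P'.det = φ P.det := by
      rw [hP', ← RingHom.mapMatrix_apply, ← RingHom.map_det]
    rw [this]
    exact hP.map φ
  have hGrel : G'ᵀ * P' * G' = P' := by
    have := congrArg (fun M : Matrix (Fin n) (Fin n) R => M.map φ) hG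
    simpa [hP', hG', Matrix.map_mul, Matrix.transpose_map] using this
  have hcomp : (Matrix.toBilin' P').comp (Matrix.toLin' G') (Matrix.toLin' G') =
      Matrix.toBilin' P' := by
    rw [Matrix.toBilin'_comp, hGrel]
  have h1 := det_eq_one_of_isLocalRing (Fin n → Localization.AtPrime 𝔪) (Matrix.toBilin' P')
    (toBilin'_self_eq_zero P' hdiag' hskew') (toBilin'_bijective P' hPu) (Matrix.toLin' G') hcomp
  rw [LinearMap.det_toLin'] at h1
  rw [map_sub, map_one, RingHom.map_det, RingHom.mapMatrix_apply]
  exact sub_eq_zero.2 h1

end Global

section Quad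

variable {R : Type u} [CommRing R] [CharP R 2] {M : Type v} [AddCommGroup M] [Module R M]
  [Module.Free R M] [Module.Finite R M]

theorem det_isometry_eq_one (Q : QuadraticForm R M) (hQ : QuadGrp.IsRegular Q)
    (g : M ≃ₗ[R] M) (hg : ∀ x, Q (g x) = Q x) : LinearMap.det (g : M →ₗ[R] M) = 1 := by
  haveI : Nontrivial R := CharP.nontrivial_of_char_ne_one (R := R) (v := 2) (by norm_num)
  set n := Module.finrank R M with hn
  let b : Module.Basis (Fin n) R M := Module.finBasis R M
  set B : LinearMap.BilinForm R M := QuadraticMap.polarBilin Q with hB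
  have hBapp : ∀ x y, B x y = QuadraticMap.polar Q x y := fun x y => rfl
  set P := LinearMap.BilinForm.toMatrix b B with hP
  have hdiag : ∀ i, P i i = 0 := by
    intro i
    rw [hP, LinearMap.BilinForm.toMatrix_apply, hBapp, QuadraticMap.polar_self]
    exact CharTwo.two_nsmul _
  have hskew : ∀ i j, P i j = -P j i := by
    intro i j
    rw [hP, LinearMap.BilinForm.toMatrix_apply, LinearMap.BilinForm.toMatrix_apply, hBapp, hBapp,
      QuadraticMap.polar_comm, CharTwo.neg_eq]
  have hPdet : IsUnit P.det := by
    let Beq : M ≃ₗ[R] Module.Dual R M := LinearEquiv.ofBijective B hQ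
    have h1 := LinearEquiv.isUnit_det Beq b b.dualBasis
    have h2 : LinearMap.toMatrix b b.dualBasis (Beq : M →ₗ[R] Module.Dual R M) = Pᵀ := by
      ext i j
      rw [LinearMap.toMatrix_apply, Module.Basis.dualBasis_repr, Matrix.transpose_apply, hP,
        LinearMap.BilinForm.toMatrix_apply]
      rfl
    rw [h2, Matrix.det_transpose] at h1
    exact h1
  have hcomp : B.comp (g : M →ₗ[R] M) (g : M →ₗ[R] M) = B := by
    ext x y
    simp only [LinearMap.BilinForm.comp_apply, hBapp, LinearEquiv.coe_coe]
    simp only [QuadraticMap.polar, ← map_add, hg]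
  have hG := LinearMap.BilinForm.toMatrix_comp b b B (g : M →ₗ[R] M) (g : M →ₗ[R] M)
  rw [hcomp] at hG
  have := det_eq_one_of_alternating n P (LinearMap.toMatrix b b (g : M →ₗ[R] M)) hdiag hskew
    hPdet hG.symm
  rw [← LinearMap.det_toMatrix b]
  exact this

theorem main (Q : QuadraticForm R M) (hQ : QuadGrp.IsRegular Q) :
    QuadGrp.O Q = QuadGrp.SO' Q := by
  apply le_antisymm
  · intro g hg
    refine ⟨hg, ?_⟩
    change LinearEquiv.det g = 1
    apply Units.ext
    rw [LinearEquiv.coe_det]
    exact det_isometry_eq_one Q hQ g hg
  · exact inf_le_left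

end Quad

end Groth.Agent.Lib.Helper24Sympl
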