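import Mathlib

/-!
# `H⁰` of a t-structure is a homological functor (BBD 1.3.6)
-/

universe v u v' u'

open CategoryTheory CategoryTheory.Limits CategoryTheory.Pretriangulated
  CategoryTheory.Triangulated CategoryTheory.Category

namespace Groth.Agent.Lib.Helper24TStrH0

variable {C : Type u} [Category.{v} C] [Preadditive C] [HasZeroObject C] [HasShift C ℤ]
  [∀ n : ℤ, (shiftFunctor C n).Additive] [Pretriangulated C]
  (t : TStructure C)

lemma truncLEι_nat (n : ℤ) {X Y : C} (f : X ⟶ Y) :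
    (t.truncLE n).map f ≫ (t.truncLEι n).app Y = (t.truncLEι n).app X ≫ f :=
  (t.truncLEι n).naturality f

lemma truncLTι_nat (n : ℤ) {X Y : C} (f : X ⟶ Y) :
    (t.truncLT n).map f ≫ (t.truncLTι n).app Y = (t.truncLTι n).app X ≫ f :=
  (t.truncLTι n).naturality f

lemma truncGEδLT_nat (n : ℤ) {X Y : C} (f : X ⟶ Y) :
    (t.truncGE n).map f ≫ (t.truncGEδLT n).app Y
      = (t.truncGEδLT n).app X ≫ ((t.truncLT n).map f)⟦(1 : ℤ)⟧' :=
  (t.truncGEδLT n).naturality f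

variable [IsTriangulated C] {H : Type u'} [Category.{v'} H] [Abelian H] [t.Heart H] (H0 : C ⥤ H)
  (e : H0 ⋙ t.ιHeart ≅ t.truncGE 0 ⋙ t.truncLE 0)

include e in
lemma preservesZeroMorphisms : H0.PreservesZeroMorphisms := by
  refine ⟨fun X Y => ?_⟩
  apply (t.ιHeart (H := H)).map_injective
  have h := e.hom.naturality (0 : X ⟶ Y)
  have h2 : (H0 ⋙ t.ιHeart).map (0 : X ⟶ Y) = 0 := by
    rw [← cancel_mono (e.hom.app Y), h]
    simp
  simpa using h2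

include e in
/-- naturality, in a convenient form. -/
lemma ι_map_comp_e {X Y : C} (f : X ⟶ Y) :
    t.ιHeart.map (H0.map f) ≫ e.hom.app Y
      = e.hom.app X ≫ (t.truncLE 0).map ((t.truncGE 0).map f) :=
  e.hom.naturality f

include e in
/-- Lemma M: if `T` is distinguished with `T.obj₃ ≥ 0` then `H⁰(T.mor₁)` is a mono. -/
lemma mono_map_mor₁ (T : Triangle C) (hT : T ∈ distTriang C) [t.IsGE T.obj₃ 0] :
    Mono (H0.map T.mor₁) := by
  haveI := preservesZeroMorphisms t H0 e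
  apply Preadditive.mono_of_cancel_zero
  intro A a ha
  -- pass to `C`
  apply (t.ιHeart (H := H)).map_injective
  rw [Functor.map_zero, ← cancel_mono (e.hom.app T.obj₁), zero_comp]
  set α : t.ιHeart.obj A ⟶ (t.truncLE 0).obj ((t.truncGE 0).obj T.obj₁) :=
    t.ιHeart.map a ≫ e.hom.app T.obj₁ with hα
  have hα0 : α ≫ (t.truncLE 0).map ((t.truncGE 0).map T.mor₁) = 0 := by
    rw [hα, assoc, ← ι_map_comp_e t H0 e, ← assoc, ← Functor.map_comp, ha, Functor.map_zero,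
      zero_comp]
  apply t.to_truncLE_obj_ext (n := 0)
  rw [zero_comp]
  set α₁ : t.ιHeart.obj A ⟶ (t.truncGE 0).obj T.obj₁ :=
    α ≫ (t.truncLEι 0).app ((t.truncGE 0).obj T.obj₁) with hα₁
  have hα₁0 : α₁ ≫ (t.truncGE 0).map T.mor₁ = 0 := by
    rw [hα₁, assoc, ← truncLEι_nat, ← assoc, hα0, zero_comp]
  -- the chase
  haveI := t.isIso₁_truncLT_map_of_isGE T hT 0 inferInstance
  have h1 : α₁ ≫ (t.truncGEδLT 0).app T.obj₁ = 0 := by
    have : (α₁ ≫ (t.truncGEδLT 0).app T.obj₁) ≫ ((t.truncLT 0).map T.mor₁)⟦(1 : ℤ)⟧' = 0 := by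
      rw [assoc, ← truncGEδLT_nat, ← assoc, hα₁0, zero_comp]
    exact (cancel_mono _).mp (this.trans (zero_comp).symm)
  obtain ⟨a₂, ha₂'⟩ : ∃ a₂ : t.ιHeart.obj A ⟶ T.obj₁, α₁ = a₂ ≫ (t.truncGEπ 0).app T.obj₁ :=
    Triangle.coyoneda_exact₃ _ (t.triangleLTGE_distinguished 0 T.obj₁) α₁ h1
  have h2 : (a₂ ≫ T.mor₁) ≫ (t.truncGEπ 0).app T.obj₂ = 0 := by
    rw [assoc, ← t.truncGEπ_naturality, ← assoc, ← ha₂', hα₁0]
  obtain ⟨b, hb'⟩ : ∃ b : t.ιHeart.obj A ⟶ (t.truncLT 0).obj T.obj₂,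
      a₂ ≫ T.mor₁ = b ≫ (t.truncLTι 0).app T.obj₂ :=
    Triangle.coyoneda_exact₂ _ (t.triangleLTGE_distinguished 0 T.obj₂) _ h2
  set b' : t.ιHeart.obj A ⟶ (t.truncLT 0).obj T.obj₁ :=
    b ≫ inv ((t.truncLT 0).map T.mor₁) with hb'def
  set a₃ : t.ιHeart.obj A ⟶ T.obj₁ :=
    a₂ - (b' ≫ (t.truncLTι 0).app T.obj₁ : t.ιHeart.obj A ⟶ T.obj₁) with ha₃
  have h3 : a₃ ≫ T.mor₁ = 0 := by
    rw [ha₃, Preadditive.sub_comp, hb', assoc, ← truncLTι_nat, hb'def, assoc,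
      IsIso.inv_hom_id_assoc, sub_self]
  have h4 : a₃ ≫ (t.truncGEπ 0).app T.obj₁ = α₁ := by
    rw [ha₃, Preadditive.sub_comp, assoc, t.truncLTι_comp_truncGEπ_app, comp_zero, sub_zero,
      ← ha₂']
  obtain ⟨g, hg⟩ : ∃ g : t.ιHeart.obj A ⟶ T.obj₃⟦(-1 : ℤ)⟧,
      a₃ = (g ≫ T.invRotate.mor₁ : t.ιHeart.obj A ⟶ T.obj₁) :=
    Triangle.coyoneda_exact₂ _ (inv_rot_of_distTriang _ hT) a₃ h3
  have hg' : g = 0 := by
    haveI : t.IsGE (T.obj₃⟦(-1 : ℤ)⟧) 1 := t.isGE_shift T.obj₃ 0 (-1) 1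
    exact t.zero g 0 1
  rw [← h4, hg, hg', zero_comp, zero_comp]

/-- For `W ≤ 0`, the comparison `W ⟶ ι (H⁰ W)`. -/
noncomputable def q (W : C) [t.IsLE W 0] : W ⟶ t.ιHeart.obj (H0.obj W) :=
  (t.truncGEπ 0).app W ≫ inv ((t.truncLEι 0).app ((t.truncGE 0).obj W)) ≫ e.inv.app W

lemma q_nat {W W' : C} [t.IsLE W 0] [t.IsLE W' 0] (f : W ⟶ W') :
    f ≫ q t H0 e W' = q t H0 e W ≫ t.ιHeart.map (H0.map f) := by
  have h1 : (t.truncGE 0).map f ≫ inv ((t.truncLEι 0).app ((t.truncGE 0).obj W'))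
      = inv ((t.truncLEι 0).app ((t.truncGE 0).obj W)) ≫
        (t.truncLE 0).map ((t.truncGE 0).map f) := by
    rw [IsIso.comp_inv_eq, assoc, truncLEι_nat, IsIso.inv_hom_id_assoc]
  have h2 : (t.truncLE 0).map ((t.truncGE 0).map f) ≫ e.inv.app W'
      = e.inv.app W ≫ t.ιHeart.map (H0.map f) := (e.inv.naturality f)
  unfold q
  rw [← assoc, ← t.truncGEπ_naturality, assoc, ← assoc ((t.truncGE 0).map f), h1, assoc, h2]
  simp only [assoc]

lemma q_inj {W : C} [t.IsLE W 0] {B : H} (β₁ β₂ : t.ιHeart.obj (H0.obj W) ⟶ t.ιHeart.obj B)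
    (h : q t H0 e W ≫ β₁ = q t H0 e W ≫ β₂) : β₁ = β₂ := by
  unfold q at h
  simp only [assoc] at h
  have := t.from_truncGE_obj_ext h
  rw [cancel_epi] at this
  exact (cancel_epi _).mp this

lemma q_surj {W : C} [t.IsLE W 0] {B : H} (c : W ⟶ t.ιHeart.obj B) :
    ∃ β : t.ιHeart.obj (H0.obj W) ⟶ t.ιHeart.obj B, q t H0 e W ≫ β = c := by
  refine ⟨e.hom.app W ≫ (t.truncLEι 0).app ((t.truncGE 0).obj W) ≫ t.descTruncGE c 0, ?_⟩
  unfold q
  simp

/-- Lemma A: a distinguished triangle with all vertices `≤ 0` is sent to an exact sequence. -/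
lemma exact_of_isLE (T : Triangle C) (hT : T ∈ distTriang C)
    [t.IsLE T.obj₁ 0] [t.IsLE T.obj₂ 0] [t.IsLE T.obj₃ 0] :
    haveI := preservesZeroMorphisms t H0 e
    ((shortComplexOfDistTriangle T hT).map H0).Exact := by
  haveI := preservesZeroMorphisms t H0 e
  rw [ShortComplex.exact_iff_kernel_ι_comp_cokernel_π_zero]
  set S := (shortComplexOfDistTriangle T hT).map H0 with hS
  set b := cokernel.π S.f with hb
  have hfb : H0.map T.mor₁ ≫ b = 0 := cokernel.condition S.f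
  -- extend `b` along `S.g`
  have h0 : T.mor₁ ≫ (q t H0 e T.obj₂ ≫ t.ιHeart.map b) = 0 := by
    rw [← assoc, q_nat, assoc, ← Functor.map_comp, hfb, Functor.map_zero, comp_zero]
  obtain ⟨c, hc⟩ := Triangle.yoneda_exact₂ T hT _ h0
  obtain ⟨β, hβ⟩ := q_surj t H0 e c
  have key : S.g ≫ t.ιHeart.preimage β = b := by
    change H0.map T.mor₂ ≫ t.ιHeart.preimage β = b
    apply (t.ιHeart (H := H)).map_injective
    apply q_inj t H0 e
    rw [Functor.map_comp, Functor.map_preimage, ← assoc, ← q_nat, assoc, hβ, hc]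
  rw [← key, ← assoc, kernel.condition, zero_comp]

include e in
/-- Lemma I: `H⁰(τ≤0 X ⟶ X)` is an isomorphism. -/
lemma isIso_map_truncLEι (X : C) : IsIso (H0.map ((t.truncLEι 0).app X)) := by
  have h0 : IsIso ((t.truncGELE 0 0).map ((t.truncLEι 0).app X)) := by
    dsimp
    infer_instance
  have h1 : IsIso ((t.truncGE 0 ⋙ t.truncLE 0).map ((t.truncLEι 0).app X)) :=
    (NatIso.isIso_map_iff (t.truncGELEIsoLEGE 0 0) _).mp h0
  have h2 : IsIso ((H0 ⋙ t.ιHeart).map ((t.truncLEι 0).app X)) :=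
    (NatIso.isIso_map_iff e _).mpr h1
  haveI : IsIso (t.ιHeart.map (H0.map ((t.truncLEι 0).app X))) := h2
  exact isIso_of_fully_faithful (t.ιHeart (H := H)) _

include e in
lemma mono_map_of_mem {X Y Z : C} (f : X ⟶ Y) (g : Y ⟶ Z) (h : Z ⟶ X⟦(1 : ℤ)⟧)
    (hT : Triangle.mk f g h ∈ distTriang C) [hZ : t.IsGE Z 0] : Mono (H0.map f) := by
  haveI : t.IsGE (Triangle.mk f g h).obj₃ 0 := hZ
  exact mono_map_mor₁ t H0 e (Triangle.mk f g h) hT

include e in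
lemma exact_of_mem_of_isLE {X Y Z : C} (f : X ⟶ Y) (g : Y ⟶ Z) (h : Z ⟶ X⟦(1 : ℤ)⟧)
    (hT : Triangle.mk f g h ∈ distTriang C) [hX : t.IsLE X 0] [hY : t.IsLE Y 0]
    [hZ : t.IsLE Z 0] :
    haveI := preservesZeroMorphisms t H0 e
    ((shortComplexOfDistTriangle _ hT).map H0).Exact := by
  haveI : t.IsLE (Triangle.mk f g h).obj₁ 0 := hX
  haveI : t.IsLE (Triangle.mk f g h).obj₂ 0 := hY
  haveI : t.IsLE (Triangle.mk f g h).obj₃ 0 := hZ
  exact exact_of_isLE t H0 e (Triangle.mk f g h) hT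

include e in
theorem isHomological : H0.IsHomological := by
  haveI := preservesZeroMorphisms t H0 e
  refine ⟨fun T hT => ?_⟩
  -- first octahedron: `τ≤0 X ⟶ X ⟶ Y`
  obtain ⟨U, v, w, mem⟩ := distinguished_cocone_triangle ((t.truncLEι 0).app T.obj₁ ≫ T.mor₁)
  have Hoct := someOctahedron rfl (t.triangleLEGT_distinguished 0 T.obj₁) hT mem
  -- second octahedron: `τ≤0 X ⟶ τ≤0 Y ⟶ Y`
  obtain ⟨U', v', w', mem'⟩ := distinguished_cocone_triangle
    (t.liftTruncLE ((t.truncLEι 0).app T.obj₁ ≫ T.mor₁) 0)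
  have Hoct' := someOctahedron (t.liftTruncLE_ι _ 0) mem'
    (t.triangleLEGT_distinguished 0 T.obj₂) mem
  -- the all-`≤ 0` triangle
  haveI : t.IsLE U' 0 := by
    have h₃ : t.IsLE (((t.truncLE 0).obj T.obj₁)⟦(1 : ℤ)⟧) 0 := by
      haveI : t.IsLE (((t.truncLE 0).obj T.obj₁)⟦(1 : ℤ)⟧) (-1) :=
        t.isLE_shift ((t.truncLE 0).obj T.obj₁) 0 1 (-1)
      exact t.isLE_of_le _ (-1) 0
    have h₁ : t.IsLE ((t.truncLE 0).obj T.obj₂) 0 := inferInstance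
    exact t.isLE₂ _ (rot_of_distTriang _ mem') 0 h₁ h₃
  have exA := exact_of_mem_of_isLE t H0 e _ _ _ mem'
  -- monos
  have hm₁' : Mono (H0.map Hoct'.m₁) := by
    haveI : t.IsGE ((t.truncGT 0).obj T.obj₂) 0 := t.isGE_truncGT_obj _ 0 0
    exact mono_map_of_mem t H0 e _ _ _ Hoct'.mem
  have hm₃ : Mono (H0.map Hoct.m₃) := by
    haveI : t.IsGE ((t.truncGT 0).obj T.obj₁) 1 := t.isGE_truncGT_obj _ 0 1
    have hZ' : t.IsGE (((t.truncGT 0).obj T.obj₁)⟦(1 : ℤ)⟧) 0 := t.isGE_shift _ 1 1 0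
    exact mono_map_of_mem t H0 e _ _ _ (rot_of_distTriang _ Hoct.mem) (hZ := hZ')
  haveI := isIso_map_truncLEι t H0 e T.obj₁
  haveI := isIso_map_truncLEι t H0 e T.obj₂
  -- the intermediate complex
  have c1 : 𝟙 (H0.obj ((t.truncLE 0).obj T.obj₁)) ≫ H0.map ((t.truncLEι 0).app T.obj₁ ≫ T.mor₁)
      = H0.map (t.liftTruncLE ((t.truncLEι 0).app T.obj₁ ≫ T.mor₁) 0) ≫
        H0.map ((t.truncLEι 0).app T.obj₂) := by
    rw [id_comp, ← H0.map_comp, t.liftTruncLE_ι]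
  have c2 : H0.map ((t.truncLEι 0).app T.obj₂) ≫ H0.map v = H0.map v' ≫ H0.map Hoct'.m₁ := by
    rw [← H0.map_comp, ← H0.map_comp]
    congr 1
    exact Hoct'.comm₁.symm
  let φ : (shortComplexOfDistTriangle _ mem').map H0 ⟶ (shortComplexOfDistTriangle _ mem).map H0 :=
    ShortComplex.homMk (𝟙 _) (H0.map ((t.truncLEι 0).app T.obj₂)) (H0.map Hoct'.m₁) c1 c2
  haveI : Epi φ.τ₁ := by
    change Epi (𝟙 (H0.obj ((t.truncLE 0).obj T.obj₁)))
    infer_instance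
  haveI : IsIso φ.τ₂ := by
    change IsIso (H0.map ((t.truncLEι 0).app T.obj₂))
    infer_instance
  haveI : Mono φ.τ₃ := hm₁'
  have exB := (ShortComplex.exact_iff_of_epi_of_isIso_of_mono φ).mp exA
  have d1 : H0.map ((t.truncLEι 0).app T.obj₁) ≫ H0.map T.mor₁
      = H0.map ((t.truncLEι 0).app T.obj₁ ≫ T.mor₁) ≫ 𝟙 (H0.obj T.obj₂) := by
    rw [comp_id, ← H0.map_comp]
  have d2 : 𝟙 (H0.obj T.obj₂) ≫ H0.map T.mor₂ = H0.map v ≫ H0.map Hoct.m₃ := by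
    rw [id_comp, ← H0.map_comp]
    congr 1
    exact Hoct.comm₃.symm
  let ψ : (shortComplexOfDistTriangle _ mem).map H0 ⟶ (shortComplexOfDistTriangle T hT).map H0 :=
    ShortComplex.homMk (H0.map ((t.truncLEι 0).app T.obj₁)) (𝟙 _) (H0.map Hoct.m₃) d1 d2
  haveI : Epi ψ.τ₁ := by
    change Epi (H0.map ((t.truncLEι 0).app T.obj₁))
    infer_instance
  haveI : IsIso ψ.τ₂ := by
    change IsIso (𝟙 (H0.obj T.obj₂))
    infer_instance
  haveI : Mono ψ.τ₃ := hm₃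
  exact (ShortComplex.exact_iff_of_epi_of_isIso_of_mono ψ).mp exB

end Groth.Agent.Lib.Helper24TStrH0
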