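import Mathlib

/-!
# Inertia acting on a local ring with all principal ideals stable

`B` a local ring, `Γ` a finite group acting faithfully on `B`, trivially on the residue field and
stabilising every principal ideal.  For `b ≠ 0` the residue class of `u` with `γ • b = b * u` is
well defined and gives a character `Γ → k`.  The common kernel `S` of these characters is trivial
in residue characteristic `0` and a Sylow `p`-subgroup in residue characteristic `p`; `Γ / S` is
abelian and its elements of order `n` force primitive `n`-th roots of unity in `k`.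
-/

universe u v

namespace Groth.Agent.Lib.Helper24Tame

open IsLocalRing

variable {B : Type u} [CommRing B] [IsLocalRing B]
  {Γ : Type v} [Group Γ] [MulSemiringAction Γ B]

section Char

variable (hin : ∀ (γ : Γ) (b : B), γ • b - b ∈ maximalIdeal B)
  (hst : ∀ (γ : Γ) (b : B), ∃ u : B, γ • b = b * u)

/-- The character value: the residue class of a chosen `u` with `γ • b = b * u`. -/
noncomputable def chi (γ : Γ) (b : B) : ResidueField B :=
  residue B (Classical.choose (hst γ b))

theorem chi_spec (γ : Γ) (b : B) : γ • b = b * Classical.choose (hst γ b) :=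
  Classical.choose_spec (hst γ b)

include hin in
theorem residue_smul (γ : Γ) (w : B) : residue B (γ • w) = residue B w := by
  rw [← sub_eq_zero, ← map_sub, residue_eq_zero_iff]
  exact hin γ w

theorem chi_eq (γ : Γ) (b : B) (hb : b ≠ 0) (w : B) (hw : γ • b = b * w) :
    residue B w = chi hst γ b := by
  unfold chi
  set u := Classical.choose (hst γ b) with hu
  have h1 : b * (w - u) = 0 := by
    rw [mul_sub, ← hw, ← chi_spec hst γ b, sub_self]
  rw [← sub_eq_zero, ← map_sub, residue_eq_zero_iff]
  by_contra hnot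
  have hunit : IsUnit (w - u) := by
    by_contra h
    exact hnot ((mem_maximalIdeal _).2 h)
  exact hb (hunit.mul_left_eq_zero.1 h1)

include hin in
theorem chi_mul (γ δ : Γ) (b : B) (hb : b ≠ 0) :
    chi hst (γ * δ) b = chi hst γ b * chi hst δ b := by
  have h : (γ * δ) • b = b * (Classical.choose (hst γ b) * γ • Classical.choose (hst δ b)) := by
    rw [mul_smul]
    conv_lhs => rw [chi_spec hst δ b, smul_mul', chi_spec hst γ b]
    ring
  rw [← chi_eq hst (γ * δ) b hb _ h, map_mul, residue_smul hin]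
  rfl

theorem chi_one (b : B) (hb : b ≠ 0) : chi hst (1 : Γ) b = 1 := by
  rw [← chi_eq hst 1 b hb 1 (by simp), map_one]

include hin in
theorem chi_pow (γ : Γ) (b : B) (hb : b ≠ 0) (n : ℕ) :
    chi hst (γ ^ n) b = chi hst γ b ^ n := by
  induction n with
  | zero => rw [pow_zero, pow_zero, chi_one hst b hb]
  | succ n ih => rw [pow_succ, pow_succ, chi_mul hin hst _ _ b hb, ih]

include hin in
theorem chi_inv_mul (γ : Γ) (b : B) (hb : b ≠ 0) : chi hst γ⁻¹ b * chi hst γ b = 1 := by
  rw [← chi_mul hin hst _ _ b hb, inv_mul_cancel, chi_one hst b hb]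

include hin in
theorem chi_ne_zero (γ : Γ) (b : B) (hb : b ≠ 0) : chi hst γ b ≠ 0 := by
  intro h
  have := chi_inv_mul hin hst γ b hb
  rw [h, mul_zero] at this
  exact zero_ne_one this

/-- Membership in the wild part in terms of the characters. -/
theorem mem_wild_iff (γ : Γ) :
    (∀ b : B, ∃ x ∈ maximalIdeal B, γ • b = b + b * x) ↔ ∀ b : B, b ≠ 0 → chi hst γ b = 1 := by
  constructor
  · intro h b hb
    obtain ⟨x, hx, hγ⟩ := h b
    have : γ • b = b * (1 + x) := by rw [hγ]; ring
    rw [← chi_eq hst γ b hb _ this, map_add, map_one, (residue_eq_zero_iff x).2 hx, add_zero]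
  · intro h b
    by_cases hb : b = 0
    · exact ⟨0, Ideal.zero_mem _, by simp [hb]⟩
    · refine ⟨Classical.choose (hst γ b) - 1, ?_, ?_⟩
      · rw [← residue_eq_zero_iff, map_sub, map_one, sub_eq_zero]
        exact h b hb
      · conv_lhs => rw [chi_spec hst γ b]
        ring

end Char

section Average

/-- If `γ` moves every `b` inside `b (1 + m)`, has `γ ^ r = 1` and `r` is a unit of `B`, then `γ`
acts trivially. -/
theorem smul_eq_self_of_wild (γ : Γ)
    (hγ : ∀ (i : ℕ) (b : B), ∃ x ∈ maximalIdeal B, γ ^ i • b = b + b * x)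
    (r : ℕ) (hr : γ ^ r = 1) (hru : IsUnit (r : B)) (b : B) : γ • b = b := by
  classical
  -- the trace operator
  let T : B → B := fun b => ∑ i ∈ Finset.range r, γ ^ i • b
  have hT_add : ∀ x y, T (x - y) = T x - T y := by
    intro x y
    simp only [T, smul_sub, Finset.sum_sub_distrib]
  have hT_inv : ∀ x, γ • T x = T x := by
    intro x
    simp only [T, Finset.smul_sum, ← mul_smul, ← pow_succ']
    have h1 := Finset.sum_range_succ (fun i => γ ^ i • x) r
    have h2 := Finset.sum_range_succ' (fun i => γ ^ i • x) r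
    rw [h1] at h2
    simp only [hr, pow_zero, one_smul] at h2
    exact (add_right_cancel h2).symm
  have hT_inv' : ∀ (i : ℕ) x, γ ^ i • T x = T x := by
    intro i x
    induction i with
    | zero => simp
    | succ i ih => rw [pow_succ, mul_smul, hT_inv, ih]
  have hTT : ∀ x, T (T x) = (r : B) * T x := by
    intro x
    change ∑ i ∈ Finset.range r, γ ^ i • T x = _
    simp only [hT_inv', Finset.sum_const, Finset.card_range, nsmul_eq_mul]
  have hT_unit : ∀ x, ∃ v : B, IsUnit v ∧ T x = x * v := by
    intro x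
    choose y hy hxy using fun i => hγ i x
    refine ⟨(r : B) + ∑ i ∈ Finset.range r, y i, ?_, ?_⟩
    · by_contra hnu
      have h1 : (r : B) + ∑ i ∈ Finset.range r, y i ∈ maximalIdeal B := (mem_maximalIdeal _).2 hnu
      have h2 : ∑ i ∈ Finset.range r, y i ∈ maximalIdeal B := Ideal.sum_mem _ fun i _ => hy i
      have h3 : (r : B) ∈ maximalIdeal B := by
        have := Ideal.sub_mem _ h1 h2
        simpa using this
      exact (mem_maximalIdeal _).1 h3 hru
    · change ∑ i ∈ Finset.range r, γ ^ i • x = _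
      simp only [hxy, Finset.sum_add_distrib, Finset.sum_const, Finset.card_range, nsmul_eq_mul,
        ← Finset.mul_sum]
      ring
  -- `c = r b - T b` is killed by `T`, hence zero
  set c := (r : B) * b - T b with hc
  have hnat : ∀ g : Γ, g • (r : B) = r := fun g =>
    map_natCast (MulSemiringAction.toRingHom Γ B g) r
  have hTr : T ((r : B) * b) = (r : B) * T b := by
    change ∑ i ∈ Finset.range r, γ ^ i • ((r : B) * b) = (r : B) * ∑ i ∈ Finset.range r, γ ^ i • b
    rw [Finset.mul_sum]
    refine Finset.sum_congr rfl fun i _ => ?_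
    rw [smul_mul', hnat]
  have hTc : T c = 0 := by
    rw [hc, hT_add, hTT, hTr, sub_self]
  obtain ⟨v, hv, hcv⟩ := hT_unit c
  have hc0 : c = 0 := by
    rw [hTc] at hcv
    exact hv.mul_left_eq_zero.1 hcv.symm
  have hrb : (r : B) * b = T b := sub_eq_zero.1 (hc ▸ hc0)
  have : (r : B) * (γ • b) = (r : B) * b := by
    conv_lhs => rw [← hnat γ, ← smul_mul', hrb, hT_inv, ← hrb]
  exact hru.mul_left_cancel this

end Average

section Main

theorem main_S12934
    (B : Type u) [CommRing B] [IsLocalRing B]
    (Γ : Type v) [Group Γ] [Finite Γ] [MulSemiringAction Γ B] [FaithfulSMul Γ B]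
    (hin : ∀ (γ : Γ) (b : B), γ • b - b ∈ IsLocalRing.maximalIdeal B)
    (hst : ∀ (γ : Γ) (b : B), ∃ u : B, γ • b = b * u)
    (S : Set Γ)
    (hS : ∀ γ : Γ, γ ∈ S ↔ ∀ b : B, ∃ x ∈ IsLocalRing.maximalIdeal B, γ • b = b + b * x) :
    (ringChar (IsLocalRing.ResidueField B) = 0 → S = {1}) ∧
      (∀ (p : ℕ) [Fact p.Prime], ringChar (IsLocalRing.ResidueField B) = p →
        ∃ Q : Sylow p Γ, (Q : Set Γ) = S) ∧
      (∀ γ δ : Γ, γ * δ * γ⁻¹ * δ⁻¹ ∈ S) ∧
      (∀ (γ : Γ) (n : ℕ), 0 < n → γ ^ n ∈ S → (∀ i : ℕ, 0 < i → i < n → γ ^ i ∉ S) →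
        ∃ ζ : IsLocalRing.ResidueField B, IsPrimitiveRoot ζ n) := by
  classical
  -- the wild subgroup
  let W : Subgroup Γ :=
    { carrier := {γ | ∀ b : B, b ≠ 0 → chi hst γ b = 1}
      mul_mem' := by
        intro γ δ hγ hδ b hb
        rw [chi_mul hin hst γ δ b hb, hγ b hb, hδ b hb, one_mul]
      one_mem' := fun b hb => chi_one hst b hb
      inv_mem' := by
        intro γ hγ b hb
        have := chi_inv_mul hin hst γ b hb
        rwa [hγ b hb, mul_one] at this }
  have hW : ∀ γ, γ ∈ W ↔ ∀ b : B, b ≠ 0 → chi hst γ b = 1 := fun γ => Iff.rfl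
  have hSW : ∀ γ, γ ∈ S ↔ γ ∈ W := fun γ => by rw [hS, mem_wild_iff hst, hW]
  -- torsion prime to the residue characteristic is trivial
  have htriv : ∀ (γ : Γ) (r : ℕ), γ ∈ W → γ ^ r = 1 → (r : ResidueField B) ≠ 0 → γ = 1 := by
    intro γ r hγ hr hrk
    have hru : IsUnit (r : B) := by
      rw [← IsLocalRing.notMem_maximalIdeal, ← residue_eq_zero_iff, map_natCast]
      exact hrk
    have hpow : ∀ (i : ℕ) (b : B), ∃ x ∈ maximalIdeal B, γ ^ i • b = b + b * x := by
      intro i
      exact (mem_wild_iff hst (γ ^ i)).2 ((hW _).1 (W.pow_mem hγ i))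
    apply FaithfulSMul.eq_of_smul_eq_smul (α := B)
    intro b
    rw [one_smul]
    exact smul_eq_self_of_wild γ hpow r hr hru b
  refine ⟨?_, ?_, ?_, ?_⟩
  · -- characteristic zero
    intro h0
    have : CharZero (ResidueField B) := (CharP.ringChar_zero_iff_CharZero _).1 h0
    ext γ
    rw [Set.mem_singleton_iff, hSW]
    constructor
    · intro hγ
      exact htriv γ (orderOf γ) hγ (pow_orderOf_eq_one γ)
        (Nat.cast_ne_zero.2 (orderOf_pos γ).ne')
    · rintro rfl
      exact W.one_mem
  · -- characteristic p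
    intro p _ hp
    have hcp : CharP (ResidueField B) p := ringChar.of_eq hp
    have hone : ∀ (x : ResidueField B) (a : ℕ), x ^ p ^ a = 1 → x = 1 := by
      intro x a hx
      have : (x - 1) ^ p ^ a = 0 := by rw [sub_pow_char_pow, hx, one_pow, sub_self]
      exact sub_eq_zero.1 (pow_eq_zero_iff (pow_ne_zero a (Fact.out : p.Prime).ne_zero) |>.1 this)
    refine ⟨{ toSubgroup := W, isPGroup' := ?_, is_maximal' := ?_ }, ?_⟩
    · rintro ⟨γ, hγ⟩
      obtain ⟨a, r, hpr, hor⟩ := Nat.exists_eq_pow_mul_and_not_dvd (orderOf_pos γ).ne' p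
        (Fact.out : p.Prime).ne_one
      refine ⟨a, ?_⟩
      apply Subtype.ext
      rw [Subgroup.coe_pow, Subgroup.coe_one]
      change γ ^ p ^ a = 1
      apply htriv (γ ^ p ^ a) r (W.pow_mem hγ _)
      · rw [← pow_mul, ← hor, pow_orderOf_eq_one]
      · rw [Ne, CharP.cast_eq_zero_iff (ResidueField B) p r]
        exact hpr
    · intro Q hQ hWQ
      refine le_antisymm ?_ hWQ
      intro γ hγ
      obtain ⟨a, ha⟩ := hQ ⟨γ, hγ⟩
      have ha' : γ ^ p ^ a = 1 := by
        have := congrArg Subtype.val ha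
        simpa using this
      rw [hW]
      intro b hb
      apply hone _ a
      rw [← chi_pow hin hst γ b hb, ha', chi_one hst b hb]
    · ext γ
      rw [hSW]
      rfl
  · -- commutators
    intro γ δ
    rw [hSW, hW]
    intro b hb
    rw [chi_mul hin hst _ _ b hb, chi_mul hin hst _ _ b hb, chi_mul hin hst _ _ b hb]
    have h1 := chi_inv_mul hin hst γ b hb
    have h2 := chi_inv_mul hin hst δ b hb
    calc chi hst γ b * chi hst δ b * chi hst γ⁻¹ b * chi hst δ⁻¹ b
        = (chi hst γ⁻¹ b * chi hst γ b) * (chi hst δ⁻¹ b * chi hst δ b) := by ring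
      _ = 1 := by rw [h1, h2, one_mul]
  · -- primitive roots of unity
    intro γ n hn hγn hmin
    have hγnW : γ ^ n ∈ W := (hSW _).1 hγn
    -- the values of the characters at `γ`, as units of `k`
    let val : {b : B // b ≠ 0} → (ResidueField B)ˣ := fun b =>
      Units.mk0 (chi hst γ b.1) (chi_ne_zero hin hst γ b.1 b.2)
    have hval : ∀ b : {b : B // b ≠ 0}, val b ^ n = 1 := by
      intro b
      apply Units.ext
      rw [Units.val_pow_eq_pow_val, Units.val_one]
      change chi hst γ b.1 ^ n = 1
      rw [← chi_pow hin hst γ b.1 b.2]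
      exact hγnW b.1 b.2
    let U : Subgroup (ResidueField B)ˣ := Subgroup.closure (Set.range val)
    have hUle : U ≤ rootsOfUnity n (ResidueField B) := by
      rw [Subgroup.closure_le]
      rintro _ ⟨b, rfl⟩
      exact (mem_rootsOfUnity n _).2 (hval b)
    have : NeZero n := ⟨hn.ne'⟩
    have : Finite U := Finite.of_injective (Subgroup.inclusion hUle) (Subgroup.inclusion_injective hUle)
    obtain ⟨g₀, hg₀⟩ := IsCyclic.exists_generator (α := U)
    set d := orderOf g₀ with hd
    have hdpos : 0 < d := orderOf_pos g₀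
    have hdn : d ∣ n := by
      apply orderOf_dvd_of_pow_eq_one
      apply Subtype.ext
      rw [Subgroup.coe_pow, Subgroup.coe_one]
      exact (mem_rootsOfUnity n _).1 (hUle g₀.2)
    have hall : ∀ x : U, x ^ d = 1 := by
      intro x
      obtain ⟨j, rfl⟩ := Subgroup.mem_zpowers_iff.1 (hg₀ x)
      rw [← zpow_natCast, ← zpow_mul, mul_comm, zpow_mul, zpow_natCast, hd, pow_orderOf_eq_one,
        one_zpow]
    have hγd : γ ^ d ∈ S := by
      rw [hSW, hW]
      intro b hb
      rw [chi_pow hin hst γ b hb]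
      have hx : val ⟨b, hb⟩ ∈ U := Subgroup.subset_closure ⟨⟨b, hb⟩, rfl⟩
      have := hall ⟨val ⟨b, hb⟩, hx⟩
      have h2 := congrArg (fun x : U => ((x : (ResidueField B)ˣ) : ResidueField B)) this
      simpa [val] using h2
    have hdeq : d = n := by
      by_contra hne
      have hlt : d < n := lt_of_le_of_ne (Nat.le_of_dvd hn hdn) hne
      exact hmin d hdpos hlt hγd
    refine ⟨((g₀ : (ResidueField B)ˣ) : ResidueField B), ?_⟩
    rw [← hdeq, IsPrimitiveRoot.coe_units_iff, hd, ← Subgroup.orderOf_coe]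
    exact IsPrimitiveRoot.orderOf _

end Main

end Groth.Agent.Lib.Helper24Tame
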