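import Mathlib
import Groth.Agent.Lib.Helper24Eis

/-!
# Splitting field of `∏ (y^{r_i} - v_i ϖ^{b_i})` over a henselian DVR with algebraically closed
residue field of characteristic `p > Σ r_i` (S16052): degree `lcm r_i`.
-/

universe u

namespace Groth.Agent.Lib.Helper24TameSplit

open Polynomial IsLocalRing IntermediateField AdjoinRoot

theorem lcm_dvd_of_forall {m : ℕ} (r b : Fin m → ℕ) (hr : ∀ i, 1 ≤ r i)
    (hrb : ∀ i, Nat.Coprime (r i) (b i)) (k : ℕ)
    (h : ∀ i, Finset.univ.lcm r ∣ k * ((Finset.univ.lcm r / r i) * b i)) :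
    Finset.univ.lcm r ∣ k := by
  apply Finset.lcm_dvd
  intro i _
  have hdvd : r i ∣ Finset.univ.lcm r := Finset.dvd_lcm (Finset.mem_univ i)
  obtain ⟨q, hq⟩ := hdvd
  have hq0 : 0 < q := by
    rcases Nat.eq_zero_or_pos q with h0 | h0
    · rw [h0, mul_zero] at hq
      have := Finset.lcm_eq_zero_iff.1 hq
      obtain ⟨j, _, hj⟩ := this
      have := hr j
      omega
    · exact h0
  have h1 := h i
  rw [hq, Nat.mul_div_cancel_left _ (by have := hr i; omega : 0 < r i)] at h1
  have h2 : r i * q ∣ (k * b i) * q := by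
    convert h1 using 1
    ring
  have h3 : r i ∣ k * b i := Nat.dvd_of_mul_dvd_mul_right hq0 h2
  exact (hrb i).dvd_of_dvd_mul_right h3

theorem lcm_pos {m : ℕ} (r : Fin m → ℕ) (hr : ∀ i, 1 ≤ r i) : 0 < Finset.univ.lcm r := by
  rcases Nat.eq_zero_or_pos (Finset.univ.lcm r) with h0 | h0
  · obtain ⟨j, _, hj⟩ := Finset.lcm_eq_zero_iff.1 h0
    have := hr j
    omega
  · exact h0

theorem not_dvd_lcm {m : ℕ} (r : Fin m → ℕ) (hr : ∀ i, 1 ≤ r i) (p : ℕ) (hp : p.Prime)
    (hsum : ∑ i, r i < p) : ¬ p ∣ Finset.univ.lcm r := by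
  intro h
  have h1 : Finset.univ.lcm r ∣ ∏ i, r i :=
    Finset.lcm_dvd fun i _ => Finset.dvd_prod_of_mem r (Finset.mem_univ i)
  obtain ⟨i, _, hi⟩ := (Prime.dvd_finsetProd_iff hp.prime _).1 (h.trans h1)
  have h2 : r i ≤ ∑ j, r j := Finset.single_le_sum (fun j _ => Nat.zero_le (r j)) (Finset.mem_univ i)
  have h3 := Nat.le_of_dvd (by have := hr i; omega) hi
  omega

/-- Field-theoretic core: the splitting field of `∏ (X^{r_i} - w_i^{r_i} a^{b_i})` is `K(a^{1/N})`,
`N = lcm r_i`, when `X^N - a` is irreducible and `K` contains the `N`-th roots of unity. -/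
theorem core {K : Type*} [Field K] {m : ℕ} (r b : Fin m → ℕ) (hr : ∀ i, 1 ≤ r i)
    (hrb : ∀ i, Nat.Coprime (r i) (b i)) (N : ℕ) (hN : N = Finset.univ.lcm r) [NeZero N]
    (a : K) (ha : a ≠ 0)
    (hζ : (primitiveRoots N K).Nonempty)
    [hH : Fact (Irreducible (X ^ N - C a : K[X]))]
    (w : Fin m → K) (hw0 : ∀ i, w i ≠ 0) (A : Fin m → K)
    (hA : ∀ i, A i = (w i) ^ (r i) * a ^ (b i)) :
    (∏ i, (X ^ (r i) - C (A i))).IsSplittingField K (AdjoinRoot (X ^ N - C a : K[X])) := by
  classical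
  have hN0 : 0 < N := Nat.pos_of_ne_zero (NeZero.ne _)
  have H : Irreducible (X ^ N - C a : K[X]) := hH.out
  have : IsDomain (AdjoinRoot (X ^ N - C a : K[X])) := inferInstance
  haveI := isSplittingField_AdjoinRoot_X_pow_sub_C hζ H
  haveI : FiniteDimensional K (AdjoinRoot (X ^ N - C a : K[X])) :=
    IsSplittingField.finiteDimensional _ (X ^ N - C a)
  haveI : IsGalois K (AdjoinRoot (X ^ N - C a : K[X])) :=
    isGalois_of_isSplittingField_X_pow_sub_C hζ H _
  obtain ⟨ζ, hζmem⟩ := id hζ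
  have hζ' : IsPrimitiveRoot ζ N := (mem_primitiveRoots hN0).1 hζmem
  have hπ : (root (X ^ N - C a)) ^ N = algebraMap K (AdjoinRoot (X ^ N - C a : K[X])) a :=
    root_X_pow_sub_C_pow _ a
  have hπ0 : (root (X ^ N - C a)) ≠ 0 := root_X_pow_sub_C_ne_zero' hN0 ha
  have hdvd : ∀ i, r i ∣ N := fun i => hN ▸ Finset.dvd_lcm (Finset.mem_univ i)
  -- the roots y_i
  have hy : ∀ i, (algebraMap K (AdjoinRoot (X ^ N - C a : K[X])) (w i) *
      (root (X ^ N - C a)) ^ ((N / r i) * b i)) ^ (r i) =
      algebraMap K (AdjoinRoot (X ^ N - C a : K[X])) (A i) := by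
    intro i
    rw [mul_pow, ← pow_mul, hA i, map_mul, map_pow, map_pow, ← hπ, ← pow_mul]
    congr 2
    have := Nat.div_mul_cancel (hdvd i)
    calc N / r i * b i * r i = (N / r i * r i) * b i := by ring
      _ = N * b i := by rw [this]
  have hinjL : Function.Injective (algebraMap K (AdjoinRoot (X ^ N - C a : K[X]))) :=
    (algebraMap K (AdjoinRoot (X ^ N - C a : K[X]))).injective
  have hFne : (∏ i, (X ^ (r i) - C (A i)) : K[X]) ≠ 0 :=
    (monic_prod_of_monic _ _ fun i _ => monic_X_pow_sub_C (A i) (by have := hr i; omega)).ne_zero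
  rw [isSplittingField_iff_intermediateField]
  constructor
  · rw [Polynomial.map_prod]
    refine Splits.prod fun i _ => ?_
    rw [Polynomial.map_sub, Polynomial.map_pow, map_X, map_C]
    have hζr : IsPrimitiveRoot (algebraMap K (AdjoinRoot (X ^ N - C a : K[X])) (ζ ^ (N / r i)))
        (r i) := by
      refine (hζ'.pow hN0 ?_).map_of_injective hinjL
      rw [Nat.div_mul_cancel (hdvd i)]
    exact X_pow_sub_C_splits_of_isPrimitiveRoot hζr (hy i)
  · have hymem : ∀ i, (algebraMap K (AdjoinRoot (X ^ N - C a : K[X])) (w i) *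
        (root (X ^ N - C a)) ^ ((N / r i) * b i)) ∈
        IntermediateField.adjoin K ((∏ i, (X ^ (r i) - C (A i)) : K[X]).rootSet
          (AdjoinRoot (X ^ N - C a : K[X]))) := by
      intro i
      apply IntermediateField.subset_adjoin
      rw [mem_rootSet]
      refine ⟨hFne, ?_⟩
      rw [map_prod]
      refine Finset.prod_eq_zero (Finset.mem_univ i) ?_
      rw [map_sub, map_pow, aeval_X, aeval_C, hy i, sub_self]
    have hfix : (IntermediateField.adjoin K ((∏ i, (X ^ (r i) - C (A i)) : K[X]).rootSet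
        (AdjoinRoot (X ^ N - C a : K[X])))).fixingSubgroup = ⊥ := by
      rw [eq_bot_iff]
      intro τ hτ
      rw [IntermediateField.mem_fixingSubgroup_iff] at hτ
      rw [Subgroup.mem_bot]
      have hτπ := (autAdjoinRootXPowSubCEquiv_symm_smul hζ H τ).symm
      set η := (autAdjoinRootXPowSubCEquiv hζ H).symm τ with hη
      have hηN : ((η : Kˣ) : K) ^ N = 1 := by
        have := η.prop
        rw [mem_rootsOfUnity] at this
        have h0 := congrArg Units.val this
        rwa [Units.val_pow_eq_pow_val, Units.val_one] at h0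
      obtain ⟨k, -, hk⟩ := hζ'.eq_pow_of_pow_eq_one hηN
      have hdiv : ∀ i, N ∣ k * ((N / r i) * b i) := by
        intro i
        have h1 := hτ _ (hymem i)
        rw [map_mul, AlgEquiv.commutes, map_pow, hτπ, Units.smul_def, Algebra.smul_def, mul_pow] at h1
        have h2 := mul_left_cancel₀ ((_root_.map_ne_zero _).2 (hw0 i)) h1
        have h3 : (algebraMap K (AdjoinRoot (X ^ N - C a : K[X])) ((η : Kˣ) : K)) ^
            ((N / r i) * b i) = 1 := by
          have h4 : (root (X ^ N - C a)) ^ ((N / r i) * b i) ≠ 0 := pow_ne_zero _ hπ0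
          exact mul_right_cancel₀ h4 (h2.trans (one_mul _).symm)
        rw [← map_pow, ← map_one (algebraMap K (AdjoinRoot (X ^ N - C a : K[X])))] at h3
        have h5 := hinjL h3
        rw [← hk, ← pow_mul] at h5
        exact hζ'.dvd_of_pow_eq_one _ h5
      have hNk : N ∣ k := by
        rw [hN] at hdiv ⊢
        exact lcm_dvd_of_forall r b hr hrb k hdiv
      have hη1 : ((η : Kˣ) : K) = 1 := by
        obtain ⟨q, rfl⟩ := hNk
        rw [← hk, pow_mul, hζ'.pow_eq_one, one_pow]
      rw [Units.smul_def, hη1, one_smul] at hτπ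
      apply AlgEquiv.coe_toAlgHom_injective
      apply AdjoinRoot.algHom_ext
      exact hτπ
    rw [← IsGalois.fixedField_fixingSubgroup (IntermediateField.adjoin K
      ((∏ i, (X ^ (r i) - C (A i)) : K[X]).rootSet (AdjoinRoot (X ^ N - C a : K[X])))), hfix,
      IntermediateField.fixedField_bot]


theorem main (O : Type u) [CommRing O] [IsDomain O]
    [IsDiscreteValuationRing O] [HenselianLocalRing O] [IsAlgClosed (ResidueField O)]
    (p : ℕ) [Fact p.Prime] [CharP (ResidueField O) p]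
    (ϖ : O) (hϖ : Irreducible ϖ) (m : ℕ) (r b : Fin m → ℕ) (v : Fin m → Oˣ)
    (hr : ∀ i, 1 ≤ r i) (hrb : ∀ i, Nat.Coprime (r i) (b i)) (hp : ∑ i, r i < p) :
    Module.finrank (FractionRing O)
        (∏ i, (X ^ (r i) - C (algebraMap O (FractionRing O) ((v i : O) * ϖ ^ (b i))))).SplittingField =
      Finset.univ.lcm r := by
  classical
  obtain ⟨N, hN⟩ : ∃ N, N = Finset.univ.lcm r := ⟨_, rfl⟩
  have hN0 : 0 < N := hN ▸ lcm_pos r hr
  haveI : NeZero N := ⟨hN0.ne'⟩
  have hNk : (N : ResidueField O) ≠ 0 := by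
    rw [Ne, CharP.cast_eq_zero_iff (ResidueField O) p, hN]
    exact not_dvd_lcm r hr p Fact.out hp
  have hrk : ∀ i, (r i : ResidueField O) ≠ 0 := by
    intro i
    rw [Ne, CharP.cast_eq_zero_iff (ResidueField O) p]
    intro h
    have h2 : r i ≤ ∑ j, r j :=
      Finset.single_le_sum (fun j _ => Nat.zero_le (r j)) (Finset.mem_univ i)
    have h3 := Nat.le_of_dvd (by have := hr i; omega) h
    omega
  obtain ⟨ζ, hζ⟩ := Groth.Agent.Lib.Helper24Eis.exists_primitiveRoot O N hNk
  have hinjK : Function.Injective (algebraMap O (FractionRing O)) :=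
    IsFractionRing.injective O (FractionRing O)
  have hζK : (primitiveRoots N (FractionRing O)).Nonempty :=
    ⟨algebraMap O (FractionRing O) ζ, (mem_primitiveRoots hN0).2 (hζ.map_of_injective hinjK)⟩
  have hirrO : Irreducible (X ^ N - C ϖ : O[X]) :=
    Groth.Agent.Lib.Helper24Eis.irreducible_X_pow_sub_C hϖ N hN0
  have hmonO : (X ^ N - C ϖ : O[X]).Monic := monic_X_pow_sub_C ϖ hN0.ne'
  have hmapK : (X ^ N - C ϖ : O[X]).map (algebraMap O (FractionRing O)) =
      X ^ N - C (algebraMap O (FractionRing O) ϖ) := by simp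
  have H : Irreducible (X ^ N - C (algebraMap O (FractionRing O) ϖ) : (FractionRing O)[X]) := by
    rw [← hmapK]
    exact (hmonO.irreducible_iff_irreducible_map_fraction_map).1 hirrO
  haveI : Fact (Irreducible (X ^ N - C (algebraMap O (FractionRing O) ϖ) :
      (FractionRing O)[X])) := ⟨H⟩
  have hwex : ∀ i, ∃ w : O, w ^ r i = (v i : O) := fun i =>
    Groth.Agent.Lib.Helper24Eis.exists_pow_eq O (r i) (hrk i) _ (v i).isUnit
  choose w hw using hwex
  have hw0 : ∀ i, algebraMap O (FractionRing O) (w i) ≠ 0 := by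
    intro i
    rw [Ne, map_eq_zero_iff _ hinjK]
    rintro h0
    have := hw i
    rw [h0, zero_pow (by have := hr i; omega)] at this
    exact (v i).ne_zero this.symm
  have hϖK : algebraMap O (FractionRing O) ϖ ≠ 0 := by
    rw [Ne, map_eq_zero_iff _ hinjK]
    exact hϖ.ne_zero
  haveI hsf := core r b hr hrb N hN (algebraMap O (FractionRing O) ϖ) hϖK hζK
    (fun i => algebraMap O (FractionRing O) (w i)) hw0
    (fun i => algebraMap O (FractionRing O) ((v i : O) * ϖ ^ (b i)))
    (by intro i; rw [map_mul, map_pow, ← hw i, map_pow])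
  haveI := isSplittingField_AdjoinRoot_X_pow_sub_C hζK H
  have E := IsSplittingField.algEquiv (AdjoinRoot (X ^ N -
      C (algebraMap O (FractionRing O) ϖ) : (FractionRing O)[X]))
      (∏ i, (X ^ (r i) - C (algebraMap O (FractionRing O) ((v i : O) * ϖ ^ (b i)))))
  rw [← E.toLinearEquiv.finrank_eq, finrank_of_isSplittingField_X_pow_sub_C hζK H _, hN]

end Groth.Agent.Lib.Helper24TameSplit
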