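import Mathlib
import Groth.Agent.Lib.Helper24PSTrunc

/-!
# An explicit Artinian test ring for the ideal computation of S14909 (helper24)

`T = R'[ε]/(ε², ω^(e+1), ε ω^e)` with `R' = R[ω]/(ω² - α)`.
-/

noncomputable section

namespace Groth.Agent.Lib.Helper24Tate

open QuadraticAlgebra

variable {R : Type*} [CommRing R] (α : R)

/-- `R[ω]/(ω² - α)`. -/
abbrev R' : Type _ := QuadraticAlgebra R α 0

/-- dual numbers over `R'`. -/
abbrev T₀ : Type _ := QuadraticAlgebra (R' α) 0 0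

/-- the class of `ω`. -/
def om : R' α := ⟨0, 1⟩

theorem om_mul (z : R' α) : om α * z = ⟨α * z.im, z.re⟩ := by
  ext <;> simp [om]

theorem om_pow_even (k : ℕ) : om α ^ (2 * k) = ⟨α ^ k, 0⟩ := by
  induction k with
  | zero => ext <;> simp
  | succ k ih =>
    rw [show 2 * (k + 1) = 2 * k + 1 + 1 by ring, pow_succ, pow_succ, ih]
    ext <;> simp [om, pow_succ] <;> ring

theorem om_pow_odd (k : ℕ) : om α ^ (2 * k + 1) = ⟨0, α ^ k⟩ := by
  rw [pow_succ, om_pow_even, mul_comm, om_mul]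
  ext <;> simp

/-- the ideal `(ω^(e+1), ε ω^e)` of the dual numbers. -/
def K (e : ℕ) : Ideal (T₀ α) where
  carrier := {z | om α ^ (e + 1) ∣ z.re ∧ om α ^ e ∣ z.im}
  zero_mem' := ⟨dvd_zero _, dvd_zero _⟩
  add_mem' := by
    rintro a b ⟨ha1, ha2⟩ ⟨hb1, hb2⟩
    exact ⟨by rw [re_add]; exact dvd_add ha1 hb1, by rw [im_add]; exact dvd_add ha2 hb2⟩
  smul_mem' := by
    rintro c z ⟨h1, h2⟩
    refine ⟨?_, ?_⟩
    · simp only [smul_eq_mul, re_mul, zero_mul, add_zero]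
      exact Dvd.dvd.mul_left h1 _
    · simp only [smul_eq_mul, im_mul, zero_mul, add_zero]
      refine dvd_add (Dvd.dvd.mul_left h2 _) (Dvd.dvd.mul_left ?_ _)
      exact dvd_trans (pow_dvd_pow _ (Nat.le_succ e)) h1

/-- the test ring. -/
abbrev T (e : ℕ) : Type _ := T₀ α ⧸ K α e

/-- class of `ε`. -/
def xi (e : ℕ) : T α e := Ideal.Quotient.mk (K α e) ⟨0, 1⟩

/-- class of `ω`. -/
def eta (e : ℕ) : T α e := Ideal.Quotient.mk (K α e) ⟨om α, 0⟩

theorem xi_sq (e : ℕ) : xi α e * xi α e = 0 := by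
  unfold xi
  rw [← map_mul]
  have : (⟨0, 1⟩ : T₀ α) * ⟨0, 1⟩ = 0 := by ext <;> simp
  rw [this, map_zero]

theorem eta_pow (e k : ℕ) : eta α e ^ k = Ideal.Quotient.mk (K α e) ⟨om α ^ k, 0⟩ := by
  unfold eta
  rw [← map_pow]
  congr 1
  induction k with
  | zero => ext <;> simp
  | succ k ih => rw [pow_succ, ih]; ext <;> simp [pow_succ]

theorem xi_mul_eta_pow (e k : ℕ) :
    xi α e * eta α e ^ k = Ideal.Quotient.mk (K α e) ⟨0, om α ^ k⟩ := by
  rw [eta_pow]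
  unfold xi
  rw [← map_mul]
  congr 1
  ext <;> simp

theorem eta_pow_eq_zero (e k : ℕ) (hk : e + 1 ≤ k) : eta α e ^ k = 0 := by
  rw [eta_pow, Ideal.Quotient.eq_zero_iff_mem]
  exact ⟨pow_dvd_pow _ hk, dvd_zero _⟩

theorem xi_mul_eta_pow_eq_zero (e k : ℕ) (hk : e ≤ k) : xi α e * eta α e ^ k = 0 := by
  rw [xi_mul_eta_pow, Ideal.Quotient.eq_zero_iff_mem]
  exact ⟨dvd_zero _, pow_dvd_pow _ hk⟩

theorem eta_sq (e : ℕ) : eta α e * eta α e = algebraMap R (T α e) α := by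
  rw [← pow_two, eta_pow]
  have : (⟨om α ^ 2, 0⟩ : T₀ α) = algebraMap R (T₀ α) α := by
    have h2 := om_pow_even α 1
    rw [mul_one, pow_one] at h2
    rw [h2]
    rfl
  rw [this]
  rfl

theorem monomials_vanish (e : ℕ) (m : Fin 2 →₀ ℕ) (hm : e + 1 ≤ m.degree) :
    m.prod (fun i k => (![xi α e, eta α e] : Fin 2 → T α e) i ^ k) = 0 := by
  rw [Finsupp.prod_fintype _ _ (fun i => pow_zero _), Fin.prod_univ_two]
  rw [Finsupp.degree_eq_sum, Fin.sum_univ_two] at hm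
  simp only [Matrix.cons_val_zero, Matrix.cons_val_one]
  rcases Nat.lt_or_ge (m 0) 2 with h | h
  · interval_cases h0 : m 0
    · rw [pow_zero, one_mul]; exact eta_pow_eq_zero α e _ (by omega)
    · rw [pow_one]; exact xi_mul_eta_pow_eq_zero α e _ (by omega)
  · obtain ⟨j, hj⟩ := Nat.exists_eq_add_of_le h
    rw [hj, pow_add, pow_two, xi_sq, zero_mul, zero_mul]

/-- the evaluation homomorphism `x ↦ ξ`, `y ↦ η`. -/
def Φ (e : ℕ) : MvPowerSeries (Fin 2) R →ₐ[R] T α e :=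
  Helper24PSTrunc.truncHom (e + 1) (Nat.succ_ne_zero e) ![xi α e, eta α e] (monomials_vanish α e)

theorem Φ_X0 (e : ℕ) (he : 1 ≤ e) : Φ α e (MvPowerSeries.X 0) = xi α e := by
  unfold Φ
  rw [Helper24PSTrunc.truncHom_X (e + 1) (by omega)]
  rfl

theorem Φ_X1 (e : ℕ) (he : 1 ≤ e) : Φ α e (MvPowerSeries.X 1) = eta α e := by
  unfold Φ
  rw [Helper24PSTrunc.truncHom_X (e + 1) (by omega)]
  rfl


theorem mk_smul (e : ℕ) (r : R) (z : T₀ α) :
    r • Ideal.Quotient.mk (K α e) z = Ideal.Quotient.mk (K α e) (r • z) :=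
  (map_smul (Ideal.Quotient.mkₐ R (K α e)) r z).symm

theorem detect [IsDomain R] (hα : α ≠ 0) (v : ℕ) (hv : 1 ≤ v) (a b : R)
    (h : a • eta α (2 * v) ^ (2 * v) + b • (xi α (2 * v) * eta α (2 * v) ^ (2 * v - 1)) = 0) :
    α ∣ a ∧ α ∣ b := by
  obtain ⟨w, rfl⟩ : ∃ w, v = w + 1 := ⟨v - 1, by omega⟩
  rw [eta_pow, xi_mul_eta_pow, mk_smul, mk_smul, ← map_add, Ideal.Quotient.eq_zero_iff_mem] at h
  obtain ⟨⟨z1, hz1⟩, ⟨z2, hz2⟩⟩ := h
  have e1 : 2 * (w + 1) - 1 = 2 * w + 1 := by omega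
  rw [e1] at hz2
  simp only [re_add, re_smul, im_add, im_smul, smul_zero, add_zero, zero_add] at hz1 hz2
  rw [om_pow_even, om_pow_odd] at hz1
  rw [om_pow_even, om_pow_odd] at hz2
  have hαw : α ^ w ≠ 0 := pow_ne_zero _ hα
  have hαw1 : α ^ (w + 1) ≠ 0 := pow_ne_zero _ hα
  constructor
  · have := congrArg QuadraticAlgebra.re hz1
    simp only [re_smul, re_mul, smul_eq_mul, zero_mul, zero_add] at this
    refine ⟨z1.im, ?_⟩
    have h3 : α ^ (w + 1) * a = α ^ (w + 1) * (α * z1.im) := by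
      rw [mul_comm _ a, this]; ring
    exact mul_left_cancel₀ hαw1 h3
  · have := congrArg QuadraticAlgebra.im hz2
    simp only [im_smul, im_mul, smul_eq_mul, zero_mul, add_zero, mul_zero] at this
    refine ⟨z2.im, ?_⟩
    have h3 : α ^ w * b = α ^ w * (α * z2.im) := by
      rw [mul_comm _ b, this, pow_succ]; ring
    exact mul_left_cancel₀ hαw h3

theorem pow_smul_eq (e : ℕ) (k : ℕ) (t : T α e) : (α ^ k) • t = eta α e ^ (2 * k) * t := by
  rw [Algebra.smul_def, map_pow, ← eta_sq, ← pow_two, ← pow_mul]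

theorem smul_xi_eq_zero (v : ℕ) (r : R) (hr : α ^ v ∣ r) : r • xi α (2 * v) = 0 := by
  obtain ⟨c, rfl⟩ := hr
  rw [mul_smul, pow_smul_eq, mul_smul_comm, mul_comm (eta α (2 * v) ^ (2 * v)) (xi α (2 * v)),
    xi_mul_eta_pow_eq_zero α _ _ (le_refl _), smul_zero]

theorem smul_eta_eq_zero (v : ℕ) (r : R) (hr : α ^ v ∣ r) : r • eta α (2 * v) = 0 := by
  obtain ⟨c, rfl⟩ := hr
  rw [mul_smul, pow_smul_eq, mul_smul_comm, ← pow_succ, eta_pow_eq_zero α _ _ (le_refl _), smul_zero]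

/-- an inequality for powers of a sum of two ideals. -/
theorem sup_pow_le {S : Type*} [CommRing S] (A B : Ideal S) (n : ℕ) :
    (A ⊔ B) ^ (n + 1) ≤ A ^ (n + 1) ⊔ A ^ n * B ⊔ B ^ 2 := by
  induction n with
  | zero =>
    simp only [zero_add, pow_one, pow_zero, Ideal.one_eq_top, Ideal.top_mul]
    exact sup_le (le_sup_of_le_left le_sup_left) (le_sup_of_le_left le_sup_right)
  | succ n ih =>
    rw [pow_succ]
    refine le_trans (Ideal.mul_mono_left ih) ?_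
    have h1 : A ^ (n + 1) * A ≤ A ^ (n + 1 + 1) ⊔ A ^ (n + 1) * B ⊔ B ^ 2 := by
      rw [← pow_succ]; exact le_sup_of_le_left le_sup_left
    have h2 : A ^ (n + 1) * B ≤ A ^ (n + 1 + 1) ⊔ A ^ (n + 1) * B ⊔ B ^ 2 :=
      le_sup_of_le_left le_sup_right
    have h3 : A ^ n * B * A ≤ A ^ (n + 1 + 1) ⊔ A ^ (n + 1) * B ⊔ B ^ 2 := by
      rw [mul_assoc, mul_comm B A, ← mul_assoc, ← pow_succ]; exact h2
    have h4 : A ^ n * B * B ≤ A ^ (n + 1 + 1) ⊔ A ^ (n + 1) * B ⊔ B ^ 2 := by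
      rw [mul_assoc, ← pow_two]; exact le_trans Ideal.mul_le_right le_sup_right
    have h5 : B ^ 2 * A ≤ A ^ (n + 1 + 1) ⊔ A ^ (n + 1) * B ⊔ B ^ 2 :=
      le_trans Ideal.mul_le_left le_sup_right
    have h6 : B ^ 2 * B ≤ A ^ (n + 1 + 1) ⊔ A ^ (n + 1) * B ⊔ B ^ 2 :=
      le_trans Ideal.mul_le_left le_sup_right
    simp only [Ideal.mul_sup, Ideal.sup_mul, sup_le_iff]
    exact ⟨⟨⟨h1, h3⟩, h5⟩, ⟨h2, h4⟩, h6⟩

theorem span_xi_eta_pow (v : ℕ) :
    (Ideal.span {eta α (2 * v)} ⊔ Ideal.span {xi α (2 * v)}) ^ (2 * v + 1) = ⊥ := by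
  rw [eq_bot_iff]
  refine le_trans (sup_pow_le _ _ _) ?_
  rw [Ideal.span_singleton_pow, Ideal.span_singleton_pow, Ideal.span_singleton_pow,
    Ideal.span_singleton_mul_span_singleton, eta_pow_eq_zero α _ _ (le_refl _),
    mul_comm (eta α (2 * v) ^ (2 * v)) (xi α (2 * v)), xi_mul_eta_pow_eq_zero α _ _ (le_refl _),
    pow_two, xi_sq]
  simp

end Groth.Agent.Lib.Helper24Tate
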