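import Mathlib
import Groth.Agent.Lib.Helper24Tate

/-!
# The ideal computation of S14909 (helper24)
-/

noncomputable section

namespace Groth.Agent.Lib.Helper24Tate2

open MvPowerSeries Helper24Tate

variable {R : Type*} [CommRing R]

local notation "S" => MvPowerSeries (Fin 2) R

section General

theorem mul_mem_sup_pow {A : Type*} [CommRing A] (I M : Ideal A) {k l : ℕ} {z w : A}
    (hz : z ∈ I ⊔ M ^ k) (hw : w ∈ M ^ l) :
    z * w ∈ I ⊔ M ^ (k + l) := by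
  obtain ⟨i, hi, m, hm, rfl⟩ := Submodule.mem_sup.mp hz
  rw [add_mul]
  refine Submodule.add_mem _ (Ideal.mem_sup_left (I.mul_mem_right _ hi)) (Ideal.mem_sup_right ?_)
  rw [pow_add]
  exact Ideal.mul_mem_mul hm hw

end General

section Main

variable [IsDomain R] [IsDiscreteValuationRing R]
  (ϖ a₁ a₆ : R) (hϖ : Irreducible ϖ) (v : ℕ) (hv : 1 ≤ v) (u₁ u₆ : Rˣ)
  (ha₁ : a₁ = u₁ * ϖ ^ v) (ha₆ : a₆ = u₆ * ϖ)
  (h2 : (2 : R) ∈ IsLocalRing.maximalIdeal R ^ v)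

/-- the three generators -/
def F : S := (X 1) ^ 2 + a₁ • ((X 0) * (X 1)) - (X 0) ^ 3 - algebraMap R S a₆
def G₁ : S := 2 * (X 1) + a₁ • (X 0)
def G₂ : S := 3 * (X 0) ^ 2 - a₁ • (X 1)

include hϖ h2 in
theorem pow_dvd_two : ϖ ^ v ∣ (2 : R) := by
  rw [hϖ.maximalIdeal_eq, Ideal.span_singleton_pow, Ideal.mem_span_singleton] at h2
  exact h2

include ha₆ in
theorem alpha_pow_dvd (r : R) (hr : ϖ ^ v ∣ r) : a₆ ^ v ∣ r := by
  obtain ⟨c, rfl⟩ := hr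
  refine ⟨((u₆⁻¹ : Rˣ) : R) ^ v * c, ?_⟩
  rw [ha₆, mul_pow]
  have : ((u₆ : R)) ^ v * ((u₆⁻¹ : Rˣ) : R) ^ v = 1 := by
    rw [← mul_pow, Units.mul_inv, one_pow]
  calc ϖ ^ v * c = ((u₆ : R) ^ v * ((u₆⁻¹ : Rˣ) : R) ^ v) * (ϖ ^ v * c) := by rw [this, one_mul]
    _ = _ := by ring


include hϖ hv ha₁ ha₆ h2 in
theorem Φ_F : Φ a₆ (2 * v) (F (R := R) a₁ a₆) = 0 := by
  have he : 1 ≤ 2 * v := by omega
  unfold F
  rw [map_sub, map_sub, map_add, map_pow, map_smul, map_mul, map_pow, Φ_X0 _ _ he, Φ_X1 _ _ he,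
    AlgHom.commutes, pow_two, eta_sq, pow_succ, pow_two, xi_sq, zero_mul, sub_zero,
    add_sub_cancel_left, ← smul_mul_assoc,
    smul_xi_eq_zero a₆ v a₁ (alpha_pow_dvd ϖ a₆ v u₆ ha₆ a₁ ⟨u₁, by rw [ha₁]; ring⟩), zero_mul]

include hϖ hv ha₁ ha₆ h2 in
theorem Φ_G₁ : Φ a₆ (2 * v) (G₁ (R := R) a₁) = 0 := by
  have he : 1 ≤ 2 * v := by omega
  unfold G₁
  have h2S : (2 : S) = algebraMap R S 2 := (map_ofNat (algebraMap R S) 2).symm
  rw [map_add, map_mul, map_smul, Φ_X0 _ _ he, Φ_X1 _ _ he, h2S, AlgHom.commutes,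
    ← Algebra.smul_def,
    smul_eta_eq_zero a₆ v 2 (alpha_pow_dvd ϖ a₆ v u₆ ha₆ 2 (pow_dvd_two ϖ hϖ v h2)),
    smul_xi_eq_zero a₆ v a₁ (alpha_pow_dvd ϖ a₆ v u₆ ha₆ a₁ ⟨u₁, by rw [ha₁]; ring⟩), add_zero]

include hϖ hv ha₁ ha₆ h2 in
theorem Φ_G₂ : Φ a₆ (2 * v) (G₂ (R := R) a₁) = 0 := by
  have he : 1 ≤ 2 * v := by omega
  unfold G₂
  rw [map_sub, map_mul, map_pow, map_smul, Φ_X0 _ _ he, Φ_X1 _ _ he, pow_two, xi_sq, mul_zero,
    smul_eta_eq_zero a₆ v a₁ (alpha_pow_dvd ϖ a₆ v u₆ ha₆ a₁ ⟨u₁, by rw [ha₁]; ring⟩), sub_zero]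

include hϖ hv ha₁ ha₆ h2 in
theorem part2 (a b : R)
    (h : a • (X 1 : S) ^ (2 * v) + b • ((X 0 : S) * (X 1) ^ (2 * v - 1)) ∈
      (Ideal.span {algebraMap R S ϖ, X 0, X 1}) ^ (2 * v + 1) ⊔
        Ideal.span {F (R := R) a₁ a₆, G₁ (R := R) a₁, G₂ (R := R) a₁}) :
    a ∈ IsLocalRing.maximalIdeal R ∧ b ∈ IsLocalRing.maximalIdeal R := by
  have he : 1 ≤ 2 * v := by omega
  have hα : a₆ ≠ 0 := by
    rw [ha₆]; exact mul_ne_zero u₆.ne_zero hϖ.ne_zero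
  set φ := Φ a₆ (2 * v) with hφ
  have hI : Ideal.span {F (R := R) a₁ a₆, G₁ (R := R) a₁, G₂ (R := R) a₁} ≤
      RingHom.ker (φ : S →+* T a₆ (2 * v)) := by
    rw [Ideal.span_le]
    intro z hz
    simp only [Set.mem_insert_iff, Set.mem_singleton_iff] at hz
    rcases hz with rfl | rfl | rfl
    · exact Φ_F ϖ a₁ a₆ hϖ v hv u₁ u₆ ha₁ ha₆ h2
    · exact Φ_G₁ ϖ a₁ a₆ hϖ v hv u₁ u₆ ha₁ ha₆ h2
    · exact Φ_G₂ ϖ a₁ a₆ hϖ v hv u₁ u₆ ha₁ ha₆ h2
  have hM1 : Ideal.span {algebraMap R S ϖ, X 0, X 1} ≤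
      Ideal.comap (φ : S →+* T a₆ (2 * v))
        (Ideal.span {eta a₆ (2 * v)} ⊔ Ideal.span {xi a₆ (2 * v)}) := by
    rw [Ideal.span_le]
    intro z hz
    simp only [Set.mem_insert_iff, Set.mem_singleton_iff] at hz
    rcases hz with rfl | rfl | rfl
    · refine Ideal.mem_sup_left ?_
      show φ (algebraMap R S ϖ) ∈ _
      rw [AlgHom.commutes]
      have : ϖ = ((u₆⁻¹ : Rˣ) : R) * a₆ := by rw [ha₆, ← mul_assoc, Units.inv_mul, one_mul]
      rw [this, map_mul, ← eta_sq, ← mul_assoc]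
      exact Ideal.mul_mem_left _ _ (Ideal.mem_span_singleton_self _)
    · refine Ideal.mem_sup_right ?_
      show φ (X 0) ∈ _
      rw [hφ, Φ_X0 _ _ he]; exact Ideal.mem_span_singleton_self _
    · refine Ideal.mem_sup_left ?_
      show φ (X 1) ∈ _
      rw [hφ, Φ_X1 _ _ he]; exact Ideal.mem_span_singleton_self _
  have hM : (Ideal.span {algebraMap R S ϖ, X 0, X 1}) ^ (2 * v + 1) ≤
      RingHom.ker (φ : S →+* T a₆ (2 * v)) := by
    refine le_trans (Ideal.pow_right_mono hM1 _) ?_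
    refine le_trans (Ideal.le_comap_pow _ _) ?_
    rw [span_xi_eta_pow]
    exact le_refl _
  have hz := (sup_le hM hI) h
  rw [RingHom.mem_ker] at hz
  have hz' : a • eta a₆ (2 * v) ^ (2 * v) + b • (xi a₆ (2 * v) * eta a₆ (2 * v) ^ (2 * v - 1)) = 0 := by
    have : φ (a • (X 1 : S) ^ (2 * v) + b • ((X 0 : S) * (X 1) ^ (2 * v - 1))) = 0 := hz
    rw [map_add, map_smul, map_smul, map_mul, map_pow, map_pow, hφ, Φ_X0 _ _ he, Φ_X1 _ _ he] at this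
    exact this
  obtain ⟨⟨c1, hc1⟩, ⟨c2, hc2⟩⟩ := detect a₆ hα v hv a b hz'
  have hϖm : ϖ ∈ IsLocalRing.maximalIdeal R := by
    rw [hϖ.maximalIdeal_eq]; exact Ideal.mem_span_singleton_self _
  have hαm : a₆ ∈ IsLocalRing.maximalIdeal R := by
    rw [ha₆]; exact Ideal.mul_mem_left _ _ hϖm
  exact ⟨by rw [hc1]; exact Ideal.mul_mem_right _ _ hαm, by rw [hc2]; exact Ideal.mul_mem_right _ _ hαm⟩


/-! ### Part 1: generation -/

/-- the maximal ideal `(ϖ, x, y)` -/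
def MM : Ideal S := Ideal.span {algebraMap R S ϖ, X 0, X 1}
/-- the ideal `I` -/
def II : Ideal S := Ideal.span {F (R := R) a₁ a₆, G₁ (R := R) a₁, G₂ (R := R) a₁}

theorem Cϖ_mem_MM : algebraMap R S ϖ ∈ MM (R := R) ϖ := Ideal.subset_span (by simp)
theorem X0_mem_MM : (X 0 : S) ∈ MM (R := R) ϖ := Ideal.subset_span (by simp)
theorem X1_mem_MM : (X 1 : S) ∈ MM (R := R) ϖ := Ideal.subset_span (by simp)

theorem X1_pow_mem (i : ℕ) : (X 1 : S) ^ i ∈ MM (R := R) ϖ ^ i := Ideal.pow_mem_pow (X1_mem_MM ϖ) i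

theorem X0_mul_X1_pow_mem (i : ℕ) : (X 0 : S) * (X 1) ^ i ∈ MM (R := R) ϖ ^ (i + 1) := by
  rw [pow_succ']
  exact Ideal.mul_mem_mul (X0_mem_MM ϖ) (X1_pow_mem ϖ i)

include ha₆ in
theorem Cϖ_mem : algebraMap R S ϖ ∈ II (R := R) a₁ a₆ ⊔ MM (R := R) ϖ ^ 2 := by
  have hF : F (R := R) a₁ a₆ ∈ II (R := R) a₁ a₆ := Ideal.subset_span (by simp)
  have h1 : algebraMap R S a₆ ∈ II (R := R) a₁ a₆ ⊔ MM (R := R) ϖ ^ 2 := by
    have : algebraMap R S a₆ = -(F (R := R) a₁ a₆) +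
        ((X 1 : S) ^ 2 + algebraMap R S a₁ * ((X 0) * (X 1)) - (X 0) * (X 0) ^ 2) := by
      unfold F; rw [Algebra.smul_def]; ring
    rw [this]
    refine Submodule.add_mem _ (Ideal.mem_sup_left (neg_mem hF)) (Ideal.mem_sup_right ?_)
    refine Submodule.sub_mem _ (Submodule.add_mem _ (X1_pow_mem ϖ 2) ?_) ?_
    · refine Ideal.mul_mem_left _ _ ?_
      rw [pow_two]; exact Ideal.mul_mem_mul (X0_mem_MM ϖ) (X1_mem_MM ϖ)
    · exact Ideal.mul_mem_left _ _ (Ideal.pow_mem_pow (X0_mem_MM ϖ) 2)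
  have : algebraMap R S ϖ = algebraMap R S ((u₆⁻¹ : Rˣ) : R) * algebraMap R S a₆ := by
    rw [← map_mul, ha₆, ← mul_assoc, Units.inv_mul, one_mul]
  rw [this]
  exact Ideal.mul_mem_left _ _ h1

include hϖ hv ha₁ ha₆ h2 in
theorem X0_sq_mem : (X 0 : S) ^ 2 ∈ II (R := R) a₁ a₆ ⊔ MM (R := R) ϖ ^ 3 := by
  have hG : G₂ (R := R) a₁ ∈ II (R := R) a₁ a₆ := Ideal.subset_span (by simp)
  obtain ⟨w, hw⟩ : ϖ ∣ (2 : R) := dvd_trans (dvd_pow_self ϖ (by omega)) (pow_dvd_two ϖ hϖ v h2)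
  obtain ⟨v', rfl⟩ : ∃ v', v = v' + 1 := ⟨v - 1, by omega⟩
  have h2S : (2 : S) = algebraMap R S w * algebraMap R S ϖ := by
    rw [← map_mul, mul_comm, ← hw]; exact (map_ofNat (algebraMap R S) 2).symm
  have e : (X 0 : S) ^ 2 = G₂ (R := R) a₁ - algebraMap R S w * (algebraMap R S ϖ * (X 0) ^ 2) +
      algebraMap R S (u₁ * ϖ ^ v') * (algebraMap R S ϖ * X 1) := by
    unfold G₂
    rw [Algebra.smul_def, ha₁, show (3 : S) = 1 + 2 by norm_num, h2S, pow_succ ϖ, map_mul, map_mul,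
      map_mul]
    ring
  rw [e]
  refine Submodule.add_mem _ (Submodule.sub_mem _ (Ideal.mem_sup_left hG) (Ideal.mem_sup_right ?_)) ?_
  · refine Ideal.mul_mem_left _ _ ?_
    rw [show 3 = 1 + 2 by norm_num, pow_add, pow_one]
    exact Ideal.mul_mem_mul (Cϖ_mem_MM ϖ) (Ideal.pow_mem_pow (X0_mem_MM ϖ) 2)
  · refine Ideal.mul_mem_left _ _ ?_
    have := mul_mem_sup_pow (II (R := R) a₁ a₆) (MM (R := R) ϖ) (k := 2) (l := 1)
      (Cϖ_mem ϖ a₁ a₆ u₆ ha₆) (by rw [pow_one]; exact X1_mem_MM ϖ)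
    exact this

include hϖ hv ha₁ ha₆ h2 in
theorem step_le (i : ℕ) (hi : 1 ≤ i) :
    MM (R := R) ϖ ^ i ≤ Ideal.span {(X 1 : S) ^ i, (X 0 : S) * (X 1) ^ (i - 1)} ⊔ II (R := R) a₁ a₆ ⊔
      MM (R := R) ϖ ^ (i + 1) := by
  induction i, hi using Nat.le_induction with
  | base =>
    rw [pow_one]
    have hMM : MM (R := R) ϖ = Ideal.span {algebraMap R S ϖ, X 0, X 1} := rfl
    conv_lhs => rw [hMM]
    rw [Ideal.span_le]
    intro z hz
    simp only [Set.mem_insert_iff, Set.mem_singleton_iff] at hz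
    rcases hz with rfl | rfl | rfl
    · have := Cϖ_mem ϖ a₁ a₆ u₆ ha₆
      obtain ⟨p, hp, q, hq, hpq⟩ := Submodule.mem_sup.mp this
      rw [← hpq]
      exact Submodule.add_mem _ (Ideal.mem_sup_left (Ideal.mem_sup_right hp)) (Ideal.mem_sup_right hq)
    · refine Ideal.mem_sup_left (Ideal.mem_sup_left (Ideal.subset_span ?_))
      simp
    · refine Ideal.mem_sup_left (Ideal.mem_sup_left (Ideal.subset_span ?_))
      simp
  | succ i hi ih =>
    have hI := Cϖ_mem ϖ a₁ a₆ u₆ ha₆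
    have hX := X0_sq_mem ϖ a₁ a₆ hϖ v hv u₁ u₆ ha₁ ha₆ h2
    obtain ⟨j, rfl⟩ : ∃ j, i = j + 1 := ⟨i - 1, by omega⟩
    simp only [Nat.add_sub_cancel] at ih ⊢
    set Tgt := Ideal.span {(X 1 : S) ^ (j + 1 + 1), (X 0 : S) * (X 1) ^ (j + 1)} ⊔ II (R := R) a₁ a₆ ⊔
      MM (R := R) ϖ ^ (j + 1 + 1 + 1) with hT
    have hIT : II (R := R) a₁ a₆ ≤ Tgt := le_sup_of_le_left le_sup_right
    have hMT : MM (R := R) ϖ ^ (j + 1 + 1 + 1) ≤ Tgt := le_sup_right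
    have hIM : II (R := R) a₁ a₆ ⊔ MM (R := R) ϖ ^ (j + 1 + 1 + 1) ≤ Tgt := sup_le hIT hMT
    rw [pow_succ']
    refine le_trans (Ideal.mul_mono_right ih) ?_
    rw [Ideal.mul_sup, Ideal.mul_sup]
    refine sup_le (sup_le ?_ ?_) ?_
    · have hMM : MM (R := R) ϖ = Ideal.span {algebraMap R S ϖ, X 0, X 1} := rfl
      conv_lhs => rw [hMM]
      rw [Ideal.span_mul_span', Ideal.span_le]
      rintro z ⟨p, hp, q, hq, rfl⟩
      simp only [Set.mem_insert_iff, Set.mem_singleton_iff] at hp hq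
      rcases hp with rfl | rfl | rfl <;> rcases hq with rfl | rfl <;> beta_reduce
      · apply hIM
        have := mul_mem_sup_pow _ _ (k := 2) (l := j + 1) hI (X1_pow_mem ϖ (j + 1))
        rwa [show 2 + (j + 1) = j + 1 + 1 + 1 by ring] at this
      · apply hIM
        have := mul_mem_sup_pow _ _ (k := 2) (l := j + 1) hI (X0_mul_X1_pow_mem ϖ j)
        rwa [show 2 + (j + 1) = j + 1 + 1 + 1 by ring] at this
      · exact Ideal.mem_sup_left (Ideal.mem_sup_left (Ideal.subset_span (by simp)))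
      · apply hIM
        have := mul_mem_sup_pow _ _ (k := 3) (l := j) hX (X1_pow_mem ϖ j)
        rw [show 3 + j = j + 1 + 1 + 1 by ring] at this
        rw [← mul_assoc, ← pow_two]
        exact this
      · refine Ideal.mem_sup_left (Ideal.mem_sup_left (Ideal.subset_span ?_))
        rw [← pow_succ']; simp
      · refine Ideal.mem_sup_left (Ideal.mem_sup_left (Ideal.subset_span ?_))
        rw [mul_left_comm, ← pow_succ']; simp
    · exact le_trans Ideal.mul_le_right hIT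
    · rw [← pow_succ']; exact hMT


include hϖ in
theorem MM_le_jacobson : MM (R := R) ϖ ≤ Ideal.jacobson ⊥ := by
  have h1 : MM (R := R) ϖ ≤ Ideal.comap (MvPowerSeries.constantCoeff (σ := Fin 2) (R := R))
      (IsLocalRing.maximalIdeal R) := by
    unfold MM
    rw [Ideal.span_le]
    intro z hz
    simp only [Set.mem_insert_iff, Set.mem_singleton_iff] at hz
    have hϖm : ϖ ∈ IsLocalRing.maximalIdeal R := by
      rw [hϖ.maximalIdeal_eq]; exact Ideal.mem_span_singleton_self _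
    rcases hz with rfl | rfl | rfl
    · rw [SetLike.mem_coe, Ideal.mem_comap, MvPowerSeries.algebraMap_apply, Algebra.algebraMap_self,
        RingHom.id_apply, MvPowerSeries.constantCoeff_C]
      exact hϖm
    · rw [SetLike.mem_coe, Ideal.mem_comap, MvPowerSeries.constantCoeff_X]; exact zero_mem _
    · rw [SetLike.mem_coe, Ideal.mem_comap, MvPowerSeries.constantCoeff_X]; exact zero_mem _
  intro s hs
  rw [Ideal.mem_jacobson_bot]
  intro t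
  rw [MvPowerSeries.isUnit_iff_constantCoeff, map_add, map_mul, map_one]
  have h3 : MvPowerSeries.constantCoeff s ∈ IsLocalRing.maximalIdeal R := h1 hs
  rw [← IsLocalRing.jacobson_eq_maximalIdeal (⊥ : Ideal R) bot_ne_top, Ideal.mem_jacobson_bot] at h3
  exact h3 _

include hϖ hv ha₁ ha₆ h2 in
theorem part1 (i : ℕ) (hi : 1 ≤ i) :
    MM (R := R) ϖ ^ i ⊔ II (R := R) a₁ a₆ =
      Ideal.span {(X 1 : S) ^ i, (X 0 : S) * (X 1) ^ (i - 1)} ⊔ II (R := R) a₁ a₆ := by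
  apply le_antisymm
  · refine sup_le ?_ le_sup_right
    have hfg : (MM (R := R) ϖ ^ i).FG := by
      apply Ideal.FG.pow
      exact Submodule.fg_span (Set.toFinite _)
    refine Submodule.le_of_le_smul_of_le_jacobson_bot hfg (MM_le_jacobson ϖ hϖ) ?_
    rw [smul_eq_mul, ← pow_succ']
    exact step_le ϖ a₁ a₆ hϖ v hv u₁ u₆ ha₁ ha₆ h2 i hi
  · refine sup_le ?_ le_sup_right
    rw [Ideal.span_le]
    intro z hz
    simp only [Set.mem_insert_iff, Set.mem_singleton_iff] at hz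
    rcases hz with rfl | rfl
    · exact Ideal.mem_sup_left (X1_pow_mem ϖ i)
    · obtain ⟨j, rfl⟩ : ∃ j, i = j + 1 := ⟨i - 1, by omega⟩
      exact Ideal.mem_sup_left (X0_mul_X1_pow_mem ϖ j)

end Main

end Groth.Agent.Lib.Helper24Tate2
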