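import Mathlib
import Groth.Prelude.Def_W4c1hilbpnTgt
import Groth.Agent.Lib.Helper20Monomial
import Groth.Agent.Lib.Helper24TgtPiece
import Groth.Agent.Lib.Helper24TgtPiece3
import Groth.Agent.Lib.Helper24TgtStair

set_option autoImplicit false
universe u

namespace Groth.Agent.Lib.Helper24TgtDual

open W4c1hilbpn MvPolynomial
open Groth.Agent.Lib.Helper20
open Groth.Agent.Lib.Helper24TgtPiece

lemma fin3_cases (l : Fin 3) : ∀ s : Fin 3, s = l ∨ s = l+1 ∨ s = l+2 := by
  revert l; decide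

lemma fin3_ne (l : Fin 3) : l+1 ≠ l ∧ l+2 ≠ l ∧ l+2 ≠ l+1 := by
  revert l; decide

/-- exponent vector with entries `a, b` at `l+1, l+2` and `t` at `l` -/
noncomputable def eL (l : Fin 3) (a b t : ℕ) : Fin 3 →₀ ℕ :=
  Finsupp.single (l+1) a + Finsupp.single (l+2) b + Finsupp.single l t

lemma eL_l (l : Fin 3) (a b t : ℕ) : eL l a b t l = t := by
  obtain ⟨h1, h2, h3⟩ := fin3_ne l
  simp [eL, Finsupp.single_apply, h1, h2]

lemma eL_l1 (l : Fin 3) (a b t : ℕ) : eL l a b t (l+1) = a := by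
  obtain ⟨h1, h2, h3⟩ := fin3_ne l
  simp [eL, Finsupp.single_apply, h1.symm, h3]

lemma eL_l2 (l : Fin 3) (a b t : ℕ) : eL l a b t (l+2) = b := by
  obtain ⟨h1, h2, h3⟩ := fin3_ne l
  simp [eL, Finsupp.single_apply, h2.symm, h3.symm]

lemma ext3 (l : Fin 3) {β γ : Fin 3 →₀ ℕ} (h0 : β l = γ l) (h1 : β (l+1) = γ (l+1))
    (h2 : β (l+2) = γ (l+2)) : β = γ := by
  ext s
  rcases fin3_cases l s with rfl | rfl | rfl
  · exact h0
  · exact h1
  · exact h2

lemma eL_eq (l : Fin 3) (β : Fin 3 →₀ ℕ) : β = eL l (β (l+1)) (β (l+2)) (β l) := by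
  apply ext3 l
  · rw [eL_l]
  · rw [eL_l1]
  · rw [eL_l2]

lemma eL_add_l (l : Fin 3) (a b t d : ℕ) : eL l a b (t + d) = eL l a b t + Finsupp.single l d := by
  obtain ⟨h1, h2, h3⟩ := fin3_ne l
  apply ext3 l
  · rw [Finsupp.add_apply, eL_l, eL_l, Finsupp.single_eq_same]
  · rw [Finsupp.add_apply, eL_l1, eL_l1, Finsupp.single_eq_of_ne h1, add_zero]
  · rw [Finsupp.add_apply, eL_l2, eL_l2, Finsupp.single_eq_of_ne h2, add_zero]

lemma eL_add_l1 (l : Fin 3) (a b t d : ℕ) :
    eL l (a + d) b t = eL l a b t + Finsupp.single (l+1) d := by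
  obtain ⟨h1, h2, h3⟩ := fin3_ne l
  apply ext3 l
  · rw [Finsupp.add_apply, eL_l, eL_l, Finsupp.single_eq_of_ne h1.symm, add_zero]
  · rw [Finsupp.add_apply, eL_l1, eL_l1, Finsupp.single_eq_same]
  · rw [Finsupp.add_apply, eL_l2, eL_l2, Finsupp.single_eq_of_ne h3, add_zero]

lemma eL_add_l2 (l : Fin 3) (a b t d : ℕ) :
    eL l a (b + d) t = eL l a b t + Finsupp.single (l+2) d := by
  obtain ⟨h1, h2, h3⟩ := fin3_ne l
  apply ext3 l
  · rw [Finsupp.add_apply, eL_l, eL_l, Finsupp.single_eq_of_ne h2.symm, add_zero]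
  · rw [Finsupp.add_apply, eL_l1, eL_l1, Finsupp.single_eq_of_ne h3.symm, add_zero]
  · rw [Finsupp.add_apply, eL_l2, eL_l2, Finsupp.single_eq_same]

lemma eL_two (a b t : ℕ) : eL 2 a b t = e3 a b t := by
  apply e3_ext
  · rw [e3_zero]; exact eL_l1 2 a b t
  · rw [e3_one]; exact eL_l2 2 a b t
  · rw [e3_two]; exact eL_l 2 a b t

variable {k : Type*} [Field k]
variable {I : Ideal (MvPolynomial (Fin 3) k)}

/-- staircase numbers in direction `l` -/
noncomputable def stairL (I : Ideal (MvPolynomial (Fin 3) k)) (l : Fin 3) (a b : ℕ) : ℕ :=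
  Nat.card {c : ℕ // eL l a b c ∉ exps I}

lemma stairL_two (a b : ℕ) : stairL I 2 a b = stairZ I a b := by
  unfold stairL stairZ
  simp only [eL_two]

/-- columns of the staircase are initial segments -/
lemma eL_notMem_iff (hI : IsMonomial I) [Module.Finite k (MvPolynomial (Fin 3) k ⧸ I)]
    (l : Fin 3) (i j w : ℕ) : eL l i j w ∉ exps I ↔ w < stairL I l i j := by
  classical
  haveI := finite_compl_exps I hI
  haveI hfinT : Finite {c : ℕ // eL l i j c ∉ exps I} := by
    apply Finite.of_injective (fun c : {c : ℕ // eL l i j c ∉ exps I} =>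
      (⟨eL l i j c.1, c.2⟩ : {β : Fin 3 →₀ ℕ // β ∉ exps I}))
    intro c c' h
    apply Subtype.ext
    have h1 := congrArg (fun b : {β : Fin 3 →₀ ℕ // β ∉ exps I} => b.1 l) h
    simpa [eL_l] using h1
  have hfinS : {c : ℕ | eL l i j c ∉ exps I}.Finite := Set.finite_coe_iff.mp hfinT
  have hdown : ∀ c c', c' ≤ c → eL l i j c ∉ exps I → eL l i j c' ∉ exps I := by
    intro c c' hle hc hc'
    apply hc
    have h1 : eL l i j c = eL l i j c' + Finsupp.single l (c - c') := by
      rw [← eL_add_l]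
      congr 1
      omega
    rw [h1]
    exact exps_add hc' _
  have hcard : stairL I l i j = {c : ℕ | eL l i j c ∉ exps I}.ncard :=
    Nat.card_coe_set_eq _
  rw [hcard]
  constructor
  · intro hw
    have hsub : ((Finset.range (w+1) : Finset ℕ) : Set ℕ) ⊆ {c : ℕ | eL l i j c ∉ exps I} := by
      intro c hc
      rw [Finset.mem_coe, Finset.mem_range] at hc
      exact hdown w c (by omega) hw
    have h1 := Set.ncard_le_ncard hsub hfinS
    rw [Set.ncard_coe_finset, Finset.card_range] at h1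
    omega
  · intro hw hmem
    have hsub : {c : ℕ | eL l i j c ∉ exps I} ⊆ ((Finset.range w : Finset ℕ) : Set ℕ) := by
      intro c hc
      rw [Finset.mem_coe, Finset.mem_range]
      by_contra hcw
      exact hdown c w (by omega) hc hmem
    have h1 := Set.ncard_le_ncard hsub (Finset.finite_toSet _)
    rw [Set.ncard_coe_finset, Finset.card_range] at h1
    omega

/-- membership in `exps I` through the staircase -/
lemma mem_exps_iff (hI : IsMonomial I) [Module.Finite k (MvPolynomial (Fin 3) k ⧸ I)]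
    (l : Fin 3) (β : Fin 3 →₀ ℕ) :
    β ∈ exps I ↔ stairL I l (β (l+1)) (β (l+2)) ≤ β l := by
  have h := eL_notMem_iff hI l (β (l+1)) (β (l+2)) (β l)
  rw [← eL_eq l β] at h
  rw [← not_lt, ← h, not_not]

lemma stairL_succ_x (hI : IsMonomial I) [Module.Finite k (MvPolynomial (Fin 3) k ⧸ I)]
    (l : Fin 3) (a b : ℕ) : stairL I l (a+1) b ≤ stairL I l a b := by
  by_contra hcon
  push Not at hcon
  have h1 : eL l (a+1) b (stairL I l a b) ∉ exps I := (eL_notMem_iff hI l _ _ _).mpr hcon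
  have h2 : eL l a b (stairL I l a b) ∈ exps I := by
    by_contra h
    exact absurd ((eL_notMem_iff hI l _ _ _).mp h) (lt_irrefl _)
  apply h1
  rw [eL_add_l1]
  exact exps_add h2 _

lemma stairL_succ_y (hI : IsMonomial I) [Module.Finite k (MvPolynomial (Fin 3) k ⧸ I)]
    (l : Fin 3) (a b : ℕ) : stairL I l a (b+1) ≤ stairL I l a b := by
  by_contra hcon
  push Not at hcon
  have h1 : eL l a (b+1) (stairL I l a b) ∉ exps I := (eL_notMem_iff hI l _ _ _).mpr hcon
  have h2 : eL l a b (stairL I l a b) ∈ exps I := by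
    by_contra h
    exact absurd ((eL_notMem_iff hI l _ _ _).mp h) (lt_irrefl _)
  apply h1
  rw [eL_add_l2]
  exact exps_add h2 _

lemma exists_bound (hI : IsMonomial I) [Module.Finite k (MvPolynomial (Fin 3) k ⧸ I)]
    (l : Fin 3) : ∃ N, ∀ a b, N ≤ a ∨ N ≤ b → stairL I l a b = 0 := by
  obtain ⟨T1, hT1⟩ := exists_add_single_mem hI (0 : Fin 3 →₀ ℕ) (l+1)
  obtain ⟨T2, hT2⟩ := exists_add_single_mem hI (0 : Fin 3 →₀ ℕ) (l+2)
  refine ⟨max T1 T2, fun a b hab => ?_⟩
  by_contra hne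
  have hpos : 0 < stairL I l a b := Nat.pos_of_ne_zero hne
  have h0 : eL l a b 0 ∉ exps I := (eL_notMem_iff hI l a b 0).mpr hpos
  apply h0
  rcases hab with h | h
  · have e : eL l a b 0 = (0 + Finsupp.single (l+1) T1) + eL l (a - T1) b 0 := by
      rw [zero_add, add_comm, ← eL_add_l1]
      congr 1
      have := le_max_left T1 T2
      omega
    rw [e]
    exact exps_add hT1 _
  · have e : eL l a b 0 = (0 + Finsupp.single (l+2) T2) + eL l a (b - T2) 0 := by
      rw [zero_add, add_comm, ← eL_add_l2]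
      congr 1
      have := le_max_right T1 T2
      omega
    rw [e]
    exact exps_add hT2 _

end Groth.Agent.Lib.Helper24TgtDual
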