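import Mathlib
import Groth.Prelude.Def_W4c1hilbpnTgt
import Groth.Agent.Lib.Helper20Monomial
import Groth.Agent.Lib.Helper24TgtPiece

set_option autoImplicit false
universe u

namespace Groth.Agent.Lib.Helper24TgtPiece

open W4c1hilbpn MvPolynomial

variable {σ : Type*} {k : Type*} [Field k] [Fintype σ]
variable {I : Ideal (MvPolynomial σ k)} {α : σ → ℤ}

/-- the point `β + α` is *live*: it is a nonnegative vector whose monomial survives in `S/I` -/
def Live (I : Ideal (MvPolynomial σ k)) (α : σ → ℤ) (β : σ →₀ ℕ) : Prop :=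
  β ∈ exps I ∧ (∀ i, 0 ≤ (β i : ℤ) + α i) ∧ shift β α ∉ exps I

/-- the linear map attached to a linear family of good functions -/
noncomputable def paramMap (hI : IsMonomial I) {W : Type*} [AddCommGroup W] [Module k W]
    (F : W →ₗ[k] ((σ → ℤ) → k)) (hgood : ∀ w, Good I α (F w)) : W →ₗ[k] Tgt I where
  toFun w := mkTgt hI (F w) (hgood w)
  map_add' f g := by
    apply ext_monomial hI
    intro β hβ
    rw [LinearMap.add_apply, mkTgt_apply, mkTgt_apply, mkTgt_apply]
    unfold gF
    rw [← add_smul, map_add, Pi.add_apply]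
  map_smul' c f := by
    apply ext_monomial hI
    intro β hβ
    rw [LinearMap.smul_apply, RingHom.id_apply, mkTgt_apply, mkTgt_apply]
    unfold gF
    rw [smul_smul, map_smul, Pi.smul_apply, smul_eq_mul]

lemma paramMap_apply (hI : IsMonomial I) {W : Type*} [AddCommGroup W] [Module k W]
    (F : W →ₗ[k] ((σ → ℤ) → k)) (hgood : ∀ w, Good I α (F w)) (w : W) (β : σ →₀ ℕ)
    (hβ : monomial β (1:k) ∈ I) :
    paramMap hI F hgood w ⟨monomial β 1, hβ⟩ =
      F w (pt α β) • Ideal.Quotient.mk I (monomial (shift β α) (1 : k)) :=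
  mkTgt_apply hI (F w) (hgood w) β hβ

/-- **Parametrization of a graded piece** by any linear family of good functions that is faithful
and exhaustive on live points. -/
theorem finrank_tPiece_eq_of_param (hI : IsMonomial I) {W : Type*} [AddCommGroup W] [Module k W]
    (F : W →ₗ[k] ((σ → ℤ) → k)) (hgood : ∀ w, Good I α (F w))
    (hinj : ∀ w, (∀ β, Live I α β → F w (pt α β) = 0) → w = 0)
    (hsurj : ∀ F' : (σ → ℤ) → k, Good I α F' →
      ∃ w, ∀ β, Live I α β → F w (pt α β) = F' (pt α β)) :
    Module.finrank k ↥(tPiece I α) = Module.finrank k W := by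
  have hinj' : Function.Injective (paramMap hI F hgood) := by
    rw [injective_iff_map_eq_zero]
    intro w hw
    apply hinj
    intro β hβ
    have h1 := paramMap_apply hI F hgood w β hβ.1
    rw [hw, LinearMap.zero_apply] at h1
    rcases smul_eq_zero.mp h1.symm with h3 | h3
    · exact h3
    · exact absurd (mk_monomial_eq_zero.mp h3) hβ.2.2
  have hrange : LinearMap.range (paramMap hI F hgood) = tPiece I α := by
    apply le_antisymm
    · rintro _ ⟨w, rfl⟩
      exact mkTgt_mem hI (F w) (hgood w)
    · intro φ hφ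
      obtain ⟨F', hF', hFe⟩ := exists_good_of_mem hφ
      obtain ⟨w, hw⟩ := hsurj F' hF'
      refine ⟨w, ?_⟩
      apply ext_monomial hI
      intro β hβ
      rw [paramMap_apply, hFe]
      unfold gF
      by_cases hnn : ∀ i, 0 ≤ (β i : ℤ) + α i
      · by_cases hs : shift β α ∈ exps I
        · rw [mk_monomial_eq_zero.mpr hs, smul_zero, smul_zero]
        · rw [hw β ⟨hβ, hnn, hs⟩]
      · push Not at hnn
        obtain ⟨i, hi⟩ := hnn
        have hr : pt α β ∈ region I α :=
          (mem_region_pt hβ).mpr (fun h => absurd (h.1 i) (not_le.mpr hi))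
        rw [(hgood w).neg _ hr ⟨i, hi⟩, hF'.neg _ hr ⟨i, hi⟩]
  rw [← hrange, LinearMap.finrank_range_of_inj hinj']

end Groth.Agent.Lib.Helper24TgtPiece
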