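import Mathlib
import Groth.Prelude.Def_W4c1hilbpnTgt
import Groth.Agent.Lib.Helper20Monomial
import Groth.Agent.Lib.Helper24TgtPiece
import Groth.Agent.Lib.Helper24TgtPiece3
import Groth.Agent.Lib.Helper24TgtParam
import Groth.Agent.Lib.Helper24TgtDir
import Groth.Agent.Lib.Helper24Planar

set_option autoImplicit false
universe u

namespace Groth.Agent.Lib.Helper24TgtDual

open W4c1hilbpn MvPolynomial
open Groth.Agent.Lib.Helper20
open Groth.Agent.Lib.Helper24TgtPiece
open Groth.Agent.Lib.Helper24Planar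

/-- an abstract staircase: a finitely supported function on the quadrant, antitone in each variable -/
structure Stair where
  B : ℕ → ℕ → ℕ
  N : ℕ
  hx : ∀ a b, B (a+1) b ≤ B a b
  hy : ∀ a b, B a (b+1) ≤ B a b
  hN : ∀ a b, N ≤ a ∨ N ≤ b → B a b = 0

namespace Stair

variable (S : Stair)

lemma le_x (a b s : ℕ) : S.B (a + s) b ≤ S.B a b := by
  induction s with
  | zero => simp
  | succ s ih => exact le_trans (by rw [← add_assoc]; exact S.hx _ _) ih

lemma le_y (a b s : ℕ) : S.B a (b + s) ≤ S.B a b := by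
  induction s with
  | zero => simp
  | succ s ih => exact le_trans (by rw [← add_assoc]; exact S.hy _ _) ih

lemma le_xy (a b s t : ℕ) : S.B (a + s) (b + t) ≤ S.B a b :=
  le_trans (S.le_x _ _ _) (S.le_y _ _ _)

/-- the planar configuration attached to a staircase, a shift `(i, j)` and a level `m ≥ 1` -/
def conf (i j m : ℕ) (hm : 1 ≤ m) : Conf where
  N := S.N
  Lam p := m ≤ S.B p.1 p.2
  Zv p := S.B (p.1 + i) (p.2 + j) + m ≤ S.B p.1 p.2
  Zx p := S.B (p.1 + i + 1) (p.2 + j) + m ≤ S.B p.1 p.2
  Zy p := S.B (p.1 + i) (p.2 + j + 1) + m ≤ S.B p.1 p.2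
  Zq p := S.B (p.1 + i + 1) (p.2 + j + 1) + m ≤ S.B p.1 p.2
  lam_box := by
    intro p hp
    by_contra hcon
    have h0 : S.B p.1 p.2 = 0 := by
      apply S.hN
      by_contra h2
      push Not at h2
      exact hcon h2
    omega
  lam_x := by
    intro a b h
    have := S.hx a b
    simp only at h ⊢
    omega
  lam_y := by
    intro a b h
    have := S.hy a b
    simp only at h ⊢
    omega
  zq_lam := by
    intro p h
    omega
  zv_zx := by
    intro p h
    have := S.hx (p.1 + i) (p.2 + j)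
    omega
  zv_zy := by
    intro p h
    have := S.hy (p.1 + i) (p.2 + j)
    omega
  zv_zx' := by
    intro a b h
    have := S.hx a b
    simp only at h ⊢
    have e : a + 1 + i = a + i + 1 := by omega
    rw [e] at h
    omega
  zv_zy' := by
    intro a b h
    have := S.hy a b
    simp only at h ⊢
    have e : b + 1 + j = b + j + 1 := by omega
    rw [e] at h
    omega
  zx_zq := by
    intro p h
    have := S.hy (p.1 + i + 1) (p.2 + j)
    omega
  zy_zq := by
    intro p h
    have := S.hx (p.1 + i) (p.2 + j + 1)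
    omega
  zx_zq' := by
    intro a b h
    have := S.hy a b
    simp only at h ⊢
    have e : b + 1 + j = b + j + 1 := by omega
    rw [e] at h
    omega
  zy_zq' := by
    intro a b h
    have := S.hx a b
    simp only at h ⊢
    have e : a + 1 + i = a + i + 1 := by omega
    rw [e] at h
    omega

end Stair

variable {k : Type*} [Field k]
variable {I : Ideal (MvPolynomial (Fin 3) k)}

/-- the staircase of a monomial ideal of finite colength in direction `l` -/
noncomputable def stairOf (hI : IsMonomial I) [Module.Finite k (MvPolynomial (Fin 3) k ⧸ I)]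
    (l : Fin 3) : Stair where
  B := stairL I l
  N := (exists_bound hI l).choose
  hx := stairL_succ_x hI l
  hy := stairL_succ_y hI l
  hN := (exists_bound hI l).choose_spec

lemma stairOf_B (hI : IsMonomial I) [Module.Finite k (MvPolynomial (Fin 3) k ⧸ I)]
    (l : Fin 3) : (stairOf hI l).B = stairL I l := rfl

/-- a general criterion for goodness: vanishing at negative points and invariance under unit steps -/
lemma good_of_step {α : Fin 3 → ℤ} {F : (Fin 3 → ℤ) → k}
    (hneg : ∀ γ, γ ∈ region I α → (∃ s, γ s < 0) → F γ = 0)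
    (hstep : ∀ β, β ∈ exps I → ∀ s, pt α β ∈ region I α →
      pt α (β + Finsupp.single s 1) ∈ region I α → F (pt α β) = F (pt α (β + Finsupp.single s 1))) :
    Good I α F := by
  refine ⟨?_, hneg⟩
  rintro γ γ' ⟨⟨β, hβ, rfl⟩, hn⟩ ⟨⟨β', hβ', rfl⟩, hn'⟩ hadj
  have hr : pt α β ∈ region I α := ⟨⟨β, hβ, rfl⟩, hn⟩
  have hr' : pt α β' ∈ region I α := ⟨⟨β', hβ', rfl⟩, hn'⟩
  obtain ⟨s, hs | hs⟩ := adj_pt_cases α hadj
  · subst hs
    exact hstep β hβ s hr hr'
  · subst hs
    exact (hstep β' hβ' s hr' hr).symm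

/-- the multidegree with entries `i, j ≥ 0` at `l+1, l+2` and `-m` at `l` -/
def aP (l : Fin 3) (i j m : ℕ) : Fin 3 → ℤ :=
  fun s => if s = l then -(m : ℤ) else if s = l+1 then (i : ℤ) else (j : ℤ)

lemma aP_l (l : Fin 3) (i j m : ℕ) : aP l i j m l = -(m : ℤ) := by simp [aP]
lemma aP_l1 (l : Fin 3) (i j m : ℕ) : aP l i j m (l+1) = (i : ℤ) := by
  obtain ⟨h1, h2, h3⟩ := fin3_ne l
  simp [aP, h1]
lemma aP_l2 (l : Fin 3) (i j m : ℕ) : aP l i j m (l+2) = (j : ℤ) := by
  obtain ⟨h1, h2, h3⟩ := fin3_ne l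
  simp [aP, h2, h3]

lemma single_l (l : Fin 3) (β : Fin 3 →₀ ℕ) (d : ℕ) :
    (β + Finsupp.single l d) l = β l + d ∧ (β + Finsupp.single l d) (l+1) = β (l+1) ∧
      (β + Finsupp.single l d) (l+2) = β (l+2) := by
  obtain ⟨h1, h2, h3⟩ := fin3_ne l
  refine ⟨?_, ?_, ?_⟩
  · rw [Finsupp.add_apply, Finsupp.single_eq_same]
  · rw [Finsupp.add_apply, Finsupp.single_eq_of_ne h1, add_zero]
  · rw [Finsupp.add_apply, Finsupp.single_eq_of_ne h2, add_zero]

lemma single_l1 (l : Fin 3) (β : Fin 3 →₀ ℕ) (d : ℕ) :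
    (β + Finsupp.single (l+1) d) l = β l ∧ (β + Finsupp.single (l+1) d) (l+1) = β (l+1) + d ∧
      (β + Finsupp.single (l+1) d) (l+2) = β (l+2) := by
  obtain ⟨h1, h2, h3⟩ := fin3_ne l
  refine ⟨?_, ?_, ?_⟩
  · rw [Finsupp.add_apply, Finsupp.single_eq_of_ne h1.symm, add_zero]
  · rw [Finsupp.add_apply, Finsupp.single_eq_same]
  · rw [Finsupp.add_apply, Finsupp.single_eq_of_ne h3, add_zero]

lemma single_l2 (l : Fin 3) (β : Fin 3 →₀ ℕ) (d : ℕ) :
    (β + Finsupp.single (l+2) d) l = β l ∧ (β + Finsupp.single (l+2) d) (l+1) = β (l+1) ∧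
      (β + Finsupp.single (l+2) d) (l+2) = β (l+2) + d := by
  obtain ⟨h1, h2, h3⟩ := fin3_ne l
  refine ⟨?_, ?_, ?_⟩
  · rw [Finsupp.add_apply, Finsupp.single_eq_of_ne h2.symm, add_zero]
  · rw [Finsupp.add_apply, Finsupp.single_eq_of_ne h3.symm, add_zero]
  · rw [Finsupp.add_apply, Finsupp.single_eq_same]

section P

variable (hI : IsMonomial I) [Module.Finite k (MvPolynomial (Fin 3) k ⧸ I)]
variable (l : Fin 3) (i j m : ℕ)

include hI in
/-- region membership for the multidegree `aP` -/
lemma region_aP_iff {β : Fin 3 →₀ ℕ} (hβ : β ∈ exps I) :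
    pt (aP l i j m) β ∈ region I (aP l i j m) ↔
      β l < stairL I l (β (l+1) + i) (β (l+2) + j) + m := by
  rw [mem_region_pt hβ]
  have hnn : (∀ s, 0 ≤ (β s : ℤ) + aP l i j m s) ↔ m ≤ β l := by
    constructor
    · intro h
      have := h l
      rw [aP_l] at this
      omega
    · intro h s
      rcases fin3_cases l s with rfl | rfl | rfl
      · rw [aP_l]; omega
      · rw [aP_l1]; omega
      · rw [aP_l2]; omega
  rw [hnn, mem_exps_iff hI l]
  have e0 : shift β (aP l i j m) l = β l - m := by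
    rw [shift_apply, aP_l]; omega
  have e1 : shift β (aP l i j m) (l+1) = β (l+1) + i := by
    rw [shift_apply, aP_l1]; omega
  have e2 : shift β (aP l i j m) (l+2) = β (l+2) + j := by
    rw [shift_apply, aP_l2]; omega
  rw [e0, e1, e2]
  omega

include hI in
lemma live_aP_iff {β : Fin 3 →₀ ℕ} :
    Live I (aP l i j m) β ↔ β ∈ exps I ∧ m ≤ β l ∧
      β l < stairL I l (β (l+1) + i) (β (l+2) + j) + m := by
  constructor
  · rintro ⟨h1, h2, h3⟩
    have hm : m ≤ β l := by
      have := h2 l
      rw [aP_l] at this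
      omega
    refine ⟨h1, hm, ?_⟩
    rw [← region_aP_iff hI l i j m h1, mem_region_pt h1]
    exact fun h => h3 h.2
  · rintro ⟨h1, h2, h3⟩
    have hnn : ∀ s, 0 ≤ (β s : ℤ) + aP l i j m s := by
      intro s
      rcases fin3_cases l s with rfl | rfl | rfl
      · rw [aP_l]; omega
      · rw [aP_l1]; omega
      · rw [aP_l2]; omega
    refine ⟨h1, hnn, ?_⟩
    rw [← region_aP_iff hI l i j m h1, mem_region_pt h1] at h3
    exact fun h => h3 ⟨hnn, h⟩

/-- the family of functions on integer vectors attached to vertex functions -/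
def FP : (ℕ × ℕ → k) →ₗ[k] ((Fin 3 → ℤ) → k) where
  toFun c γ := if 0 ≤ γ l then c ((γ (l+1) - i).toNat, (γ (l+2) - j).toNat) else 0
  map_add' c c' := by
    funext γ
    simp only [Pi.add_apply]
    split_ifs <;> simp
  map_smul' r c := by
    funext γ
    simp only [Pi.smul_apply, smul_eq_mul, RingHom.id_apply]
    split_ifs <;> simp

lemma FP_pt (c : ℕ × ℕ → k) (β : Fin 3 →₀ ℕ) :
    FP (k := k) l i j c (pt (aP l i j m) β) = if m ≤ β l then c (β (l+1), β (l+2)) else 0 := by
  show (if 0 ≤ pt (aP l i j m) β l then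
    c ((pt (aP l i j m) β (l+1) - i).toNat, (pt (aP l i j m) β (l+2) - j).toNat) else 0) = _
  simp only [pt, aP_l, aP_l1, aP_l2]
  have e1 : ((β (l+1) : ℤ) + i - i).toNat = β (l+1) := by omega
  have e2 : ((β (l+2) : ℤ) + j - j).toNat = β (l+2) := by omega
  rw [e1, e2]
  by_cases h : m ≤ β l
  · rw [if_pos h, if_pos (by omega)]
  · rw [if_neg h, if_neg (by omega)]


variable (hm : 1 ≤ m)

include hI in
lemma good_FP (c : ℕ × ℕ → k) (hc : c ∈ ((stairOf hI l).conf i j m hm).K k) :
    Good I (aP l i j m) (FP l i j c) := by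
  obtain ⟨hc1, hc2, hc3⟩ := hc
  apply good_of_step
  · rintro γ ⟨⟨β, hβ, rfl⟩, hn⟩ ⟨s, hs⟩
    obtain h | h | h := fin3_cases l s
    · rw [h] at hs
      show (if 0 ≤ _ then _ else 0) = 0
      rw [if_neg (not_le.mpr hs)]
    · rw [h] at hs
      have hs' : (β (l+1) : ℤ) + aP l i j m (l+1) < 0 := hs
      rw [aP_l1] at hs'
      exfalso; omega
    · rw [h] at hs
      have hs' : (β (l+2) : ℤ) + aP l i j m (l+2) < 0 := hs
      rw [aP_l2] at hs'
      exfalso; omega
  · intro β hβ s hr hr'
    rw [FP_pt, FP_pt]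
    have hB := (mem_exps_iff hI l β).mp hβ
    rw [region_aP_iff hI l i j m hβ] at hr
    rw [region_aP_iff hI l i j m (exps_add hβ _)] at hr'
    obtain h | h | h := fin3_cases l s
    · rw [h] at hr' ⊢
      obtain ⟨e0, e1, e2⟩ := single_l l β 1
      rw [e0, e1, e2] at hr' ⊢
      by_cases h1 : m ≤ β l
      · rw [if_pos h1, if_pos (by omega)]
      · rw [if_neg h1]
        by_cases h2 : m ≤ β l + 1
        · rw [if_pos h2]
          symm
          apply hc1
          intro hh
          have : m ≤ stairL I l (β (l+1)) (β (l+2)) := hh.1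
          omega
        · rw [if_neg h2]
    · rw [h] at hr' ⊢
      obtain ⟨e0, e1, e2⟩ := single_l1 l β 1
      rw [e0, e1, e2] at hr' ⊢
      by_cases h1 : m ≤ β l
      · rw [if_pos h1, if_pos h1]
        by_cases hl : m ≤ stairL I l (β (l+1)) (β (l+2))
        · symm
          apply hc2 _ _ hl
          intro hz
          have hz' : stairL I l (β (l+1) + i + 1) (β (l+2) + j) + m ≤
              stairL I l (β (l+1)) (β (l+2)) := hz
          have e : β (l+1) + 1 + i = β (l+1) + i + 1 := by omega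
          rw [e] at hr'
          omega
        · rw [hc1 (β (l+1), β (l+2)) (fun hh => hl hh.1)]
          symm
          apply hc1
          intro hh
          have h3 : m ≤ stairL I l (β (l+1) + 1) (β (l+2)) := hh.1
          have := stairL_succ_x hI l (β (l+1)) (β (l+2))
          omega
      · rw [if_neg h1, if_neg h1]
    · rw [h] at hr' ⊢
      obtain ⟨e0, e1, e2⟩ := single_l2 l β 1
      rw [e0, e1, e2] at hr' ⊢
      by_cases h1 : m ≤ β l
      · rw [if_pos h1, if_pos h1]
        by_cases hl : m ≤ stairL I l (β (l+1)) (β (l+2))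
        · symm
          apply hc3 _ _ hl
          intro hz
          have hz' : stairL I l (β (l+1) + i) (β (l+2) + j + 1) + m ≤
              stairL I l (β (l+1)) (β (l+2)) := hz
          have e : β (l+2) + 1 + j = β (l+2) + j + 1 := by omega
          rw [e] at hr'
          omega
        · rw [hc1 (β (l+1), β (l+2)) (fun hh => hl hh.1)]
          symm
          apply hc1
          intro hh
          have h3 : m ≤ stairL I l (β (l+1)) (β (l+2) + 1) := hh.1
          have := stairL_succ_y hI l (β (l+1)) (β (l+2))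
          omega
      · rw [if_neg h1, if_neg h1]

include hI in
lemma eL_mem (a b t : ℕ) (h : stairL I l a b ≤ t) : eL l a b t ∈ exps I := by
  rw [mem_exps_iff hI l, eL_l, eL_l1, eL_l2]
  exact h

include hI in
lemma inj_FP (c : ℕ × ℕ → k) (hc : c ∈ ((stairOf hI l).conf i j m hm).K k)
    (h : ∀ β, Live I (aP l i j m) β → FP l i j c (pt (aP l i j m) β) = 0) : c = 0 := by
  funext p
  obtain ⟨a, b⟩ := p
  by_cases hp : ((stairOf hI l).conf i j m hm).Lam (a, b) ∧ ¬ ((stairOf hI l).conf i j m hm).Zv (a, b)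
  · have hlam : m ≤ stairL I l a b := hp.1
    have hzv : ¬ (stairL I l (a+i) (b+j) + m ≤ stairL I l a b) := hp.2
    have hlive : Live I (aP l i j m) (eL l a b (stairL I l a b)) := by
      rw [live_aP_iff hI l i j m]
      refine ⟨eL_mem hI l a b _ le_rfl, ?_, ?_⟩
      · rw [eL_l]; exact hlam
      · rw [eL_l, eL_l1, eL_l2]; omega
    have := h _ hlive
    rw [FP_pt, eL_l, eL_l1, eL_l2, if_pos hlam] at this
    exact this
  · exact hc.1 _ hp

include hI in
/-- values of a good function are constant along the live part of a column -/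
lemma column_aP {F' : (Fin 3 → ℤ) → k} (hF' : Good I (aP l i j m) F') (a b t : ℕ)
    (h1 : stairL I l a b ≤ t) (h2 : t < stairL I l (a + i) (b + j) + m) :
    F' (pt (aP l i j m) (eL l a b (stairL I l a b))) = F' (pt (aP l i j m) (eL l a b t)) := by
  have hβ0 := eL_mem hI l a b _ (le_refl (stairL I l a b))
  have e : eL l a b t = eL l a b (stairL I l a b) + Finsupp.single l (t - stairL I l a b) := by
    rw [← eL_add_l]
    congr 1
    omega
  rw [e]
  apply path hF' _ _ hβ0
  rw [← e, region_aP_iff hI l i j m (eL_mem hI l a b t h1), eL_l, eL_l1, eL_l2]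
  exact h2

include hI in
lemma bottom_aP {F' : (Fin 3 → ℤ) → k} (hF' : Good I (aP l i j m) F') (a b : ℕ)
    (h1 : stairL I l a b < m) :
    F' (pt (aP l i j m) (eL l a b (stairL I l a b))) = 0 := by
  have hβ0 := eL_mem hI l a b _ (le_refl (stairL I l a b))
  apply hF'.neg
  · rw [region_aP_iff hI l i j m hβ0, eL_l]
    omega
  · refine ⟨l, ?_⟩
    simp only [pt, aP_l, eL_l]
    omega

include hI in
lemma surj_FP (F' : (Fin 3 → ℤ) → k) (hF' : Good I (aP l i j m) F') :
    ∃ c ∈ ((stairOf hI l).conf i j m hm).K k, ∀ β, Live I (aP l i j m) β →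
      FP l i j c (pt (aP l i j m) β) = F' (pt (aP l i j m) β) := by
  classical
  obtain ⟨c, hcdef⟩ : ∃ c : ℕ × ℕ → k, c = fun p =>
      if (m ≤ stairL I l p.1 p.2 ∧ ¬ (stairL I l (p.1 + i) (p.2 + j) + m ≤ stairL I l p.1 p.2))
      then F' (pt (aP l i j m) (eL l p.1 p.2 (stairL I l p.1 p.2))) else 0 := ⟨_, rfl⟩
  have hc_pos : ∀ a b, m ≤ stairL I l a b →
      ¬ (stairL I l (a + i) (b + j) + m ≤ stairL I l a b) →
      c (a, b) = F' (pt (aP l i j m) (eL l a b (stairL I l a b))) := by
    intro a b h1 h2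
    rw [hcdef]
    simp only
    rw [if_pos ⟨h1, h2⟩]
  have hc_neg : ∀ a b, ¬ (m ≤ stairL I l a b ∧
      ¬ (stairL I l (a + i) (b + j) + m ≤ stairL I l a b)) → c (a, b) = 0 := by
    intro a b h1
    rw [hcdef]
    simp only
    rw [if_neg h1]
  -- value of `c` in terms of any live point of the column
  have hc_val : ∀ a b t, stairL I l a b ≤ t → t < stairL I l (a + i) (b + j) + m →
      c (a, b) = F' (pt (aP l i j m) (eL l a b t)) := by
    intro a b t h1 h2
    rw [← column_aP hI l i j m hF' a b t h1 h2]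
    by_cases hl : m ≤ stairL I l a b
    · exact hc_pos a b hl (by omega)
    · rw [hc_neg a b (fun h => hl h.1), bottom_aP hI l i j m hF' a b (by omega)]
  refine ⟨c, ⟨?_, ?_, ?_⟩, ?_⟩
  · rintro ⟨a, b⟩ hp
    exact hc_neg a b hp
  · intro a b hl hzx
    have hl' : m ≤ stairL I l a b := hl
    have hzx' : ¬ (stairL I l (a + i + 1) (b + j) + m ≤ stairL I l a b) := hzx
    have hmono := stairL_succ_x hI l (a + i) (b + j)
    have hmono' := stairL_succ_x hI l a b
    have e : a + 1 + i = a + i + 1 := by omega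
    rw [hc_val a b (stairL I l a b) le_rfl (by omega),
      hc_val (a+1) b (stairL I l a b) hmono' (by rw [e]; omega)]
    have hr0 : pt (aP l i j m) (eL l a b (stairL I l a b)) ∈ region I (aP l i j m) := by
      rw [region_aP_iff hI l i j m (eL_mem hI l a b _ le_rfl), eL_l, eL_l1, eL_l2]
      omega
    have hr1 : pt (aP l i j m) (eL l (a+1) b (stairL I l a b)) ∈ region I (aP l i j m) := by
      rw [region_aP_iff hI l i j m (eL_mem hI l (a+1) b _ hmono'), eL_l, eL_l1, eL_l2, e]
      omega
    have hadj := adj_step (aP l i j m) (eL l a b (stairL I l a b)) (l+1)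
    rw [← eL_add_l1] at hadj
    exact (hF'.adj _ _ hr0 hr1 hadj).symm
  · intro a b hl hzy
    have hl' : m ≤ stairL I l a b := hl
    have hzy' : ¬ (stairL I l (a + i) (b + j + 1) + m ≤ stairL I l a b) := hzy
    have hmono := stairL_succ_y hI l (a + i) (b + j)
    have hmono' := stairL_succ_y hI l a b
    have e : b + 1 + j = b + j + 1 := by omega
    rw [hc_val a b (stairL I l a b) le_rfl (by omega),
      hc_val a (b+1) (stairL I l a b) hmono' (by rw [e]; omega)]
    have hr0 : pt (aP l i j m) (eL l a b (stairL I l a b)) ∈ region I (aP l i j m) := by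
      rw [region_aP_iff hI l i j m (eL_mem hI l a b _ le_rfl), eL_l, eL_l1, eL_l2]
      omega
    have hr1 : pt (aP l i j m) (eL l a (b+1) (stairL I l a b)) ∈ region I (aP l i j m) := by
      rw [region_aP_iff hI l i j m (eL_mem hI l a (b+1) _ hmono'), eL_l, eL_l1, eL_l2, e]
      omega
    have hadj := adj_step (aP l i j m) (eL l a b (stairL I l a b)) (l+2)
    rw [← eL_add_l2] at hadj
    exact (hF'.adj _ _ hr0 hr1 hadj).symm
  · intro β hβ
    rw [live_aP_iff hI l i j m] at hβ
    obtain ⟨h1, h2, h3⟩ := hβ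
    rw [FP_pt, if_pos h2, hc_val (β (l+1)) (β (l+2)) (β l) ((mem_exps_iff hI l β).mp h1) h3,
      ← eL_eq l β]

include hI in
/-- **the graded piece of multidegree `(i, j, -m)` is the space `K` of the planar configuration** -/
theorem finrank_tPiece_aP :
    Module.finrank k ↥(tPiece I (aP l i j m)) =
      Module.finrank k ↥(((stairOf hI l).conf i j m hm).K k) := by
  apply finrank_tPiece_eq_of_param hI
    ((FP (k := k) l i j).comp (((stairOf hI l).conf i j m hm).K k).subtype)
  · intro w
    exact good_FP hI l i j m hm w.1 w.2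
  · intro w h
    exact Subtype.ext (inj_FP hI l i j m hm w.1 w.2 h)
  · intro F' hF'
    obtain ⟨c, hc, h⟩ := surj_FP hI l i j m hm F' hF'
    exact ⟨⟨c, hc⟩, h⟩

end P

end Groth.Agent.Lib.Helper24TgtDual
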