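import Mathlib
import Groth.Prelude.Def_W4c1hilbpnTgt
import Groth.Agent.Lib.Helper20Monomial
import Groth.Agent.Lib.Helper24TgtPiece
import Groth.Agent.Lib.Helper24TgtPiece3
import Groth.Agent.Lib.Helper24TgtParam
import Groth.Agent.Lib.Helper24TgtDir
import Groth.Agent.Lib.Helper24Planar
import Groth.Agent.Lib.Helper24TgtDualP

set_option autoImplicit false
universe u

namespace Groth.Agent.Lib.Helper24TgtDual

open W4c1hilbpn MvPolynomial
open Groth.Agent.Lib.Helper20
open Groth.Agent.Lib.Helper24TgtPiece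
open Groth.Agent.Lib.Helper24Planar

variable {k : Type*} [Field k]
variable {I : Ideal (MvPolynomial (Fin 3) k)}

/-- the multidegree with entries `-i-1, -j-1` at `l+1, l+2` and `m-1` at `l` -/
def aN (l : Fin 3) (i j m : ℕ) : Fin 3 → ℤ :=
  fun s => if s = l then (m : ℤ) - 1 else if s = l+1 then -(i : ℤ) - 1 else -(j : ℤ) - 1

lemma aN_l (l : Fin 3) (i j m : ℕ) : aN l i j m l = (m : ℤ) - 1 := by simp [aN]
lemma aN_l1 (l : Fin 3) (i j m : ℕ) : aN l i j m (l+1) = -(i : ℤ) - 1 := by
  obtain ⟨h1, h2, h3⟩ := fin3_ne l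
  simp [aN, h1]
lemma aN_l2 (l : Fin 3) (i j m : ℕ) : aN l i j m (l+2) = -(j : ℤ) - 1 := by
  obtain ⟨h1, h2, h3⟩ := fin3_ne l
  simp [aN, h2, h3]

section N

variable (hI : IsMonomial I) [Module.Finite k (MvPolynomial (Fin 3) k ⧸ I)]
variable (l : Fin 3) (i j m : ℕ) (hm : 1 ≤ m)

include hI hm in
/-- region membership for the multidegree `aN` -/
lemma region_aN_iff {β : Fin 3 →₀ ℕ} (hβ : β ∈ exps I) :
    pt (aN l i j m) β ∈ region I (aN l i j m) ↔
      ¬ (i + 1 ≤ β (l+1) ∧ j + 1 ≤ β (l+2) ∧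
        stairL I l (β (l+1) - (i+1)) (β (l+2) - (j+1)) + 1 ≤ β l + m) := by
  rw [mem_region_pt hβ]
  have hnn : (∀ s, 0 ≤ (β s : ℤ) + aN l i j m s) ↔ (i + 1 ≤ β (l+1) ∧ j + 1 ≤ β (l+2)) := by
    constructor
    · intro h
      have h1 := h (l+1)
      have h2 := h (l+2)
      rw [aN_l1] at h1
      rw [aN_l2] at h2
      omega
    · intro h s
      rcases fin3_cases l s with rfl | rfl | rfl
      · rw [aN_l]; omega
      · rw [aN_l1]; omega
      · rw [aN_l2]; omega
  rw [hnn, mem_exps_iff hI l]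
  have e0 : shift β (aN l i j m) l = β l + m - 1 := by
    rw [shift_apply, aN_l]; omega
  have e1 : shift β (aN l i j m) (l+1) = β (l+1) - (i+1) := by
    rw [shift_apply, aN_l1]; omega
  have e2 : shift β (aN l i j m) (l+2) = β (l+2) - (j+1) := by
    rw [shift_apply, aN_l2]; omega
  rw [e0, e1, e2]
  constructor
  · rintro h ⟨h1, h2, h3⟩
    exact h ⟨⟨h1, h2⟩, by omega⟩
  · rintro h ⟨⟨h1, h2⟩, h3⟩
    exact h ⟨h1, h2, by omega⟩

include hI hm in
lemma live_aN_iff {β : Fin 3 →₀ ℕ} :
    Live I (aN l i j m) β ↔ β ∈ exps I ∧ i + 1 ≤ β (l+1) ∧ j + 1 ≤ β (l+2) ∧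
      β l + m ≤ stairL I l (β (l+1) - (i+1)) (β (l+2) - (j+1)) := by
  constructor
  · rintro ⟨h1, h2, h3⟩
    have ha : i + 1 ≤ β (l+1) := by
      have := h2 (l+1)
      rw [aN_l1] at this
      omega
    have hb : j + 1 ≤ β (l+2) := by
      have := h2 (l+2)
      rw [aN_l2] at this
      omega
    refine ⟨h1, ha, hb, ?_⟩
    have hr : pt (aN l i j m) β ∈ region I (aN l i j m) := by
      rw [mem_region_pt h1]
      exact fun h => h3 h.2
    rw [region_aN_iff hI l i j m hm h1] at hr
    by_contra hcon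
    exact hr ⟨ha, hb, by omega⟩
  · rintro ⟨h1, h2, h3, h4⟩
    have hnn : ∀ s, 0 ≤ (β s : ℤ) + aN l i j m s := by
      intro s
      rcases fin3_cases l s with rfl | rfl | rfl
      · rw [aN_l]; omega
      · rw [aN_l1]; omega
      · rw [aN_l2]; omega
    refine ⟨h1, hnn, ?_⟩
    have hr : pt (aN l i j m) β ∈ region I (aN l i j m) := by
      rw [region_aN_iff hI l i j m hm h1]
      rintro ⟨_, _, h5⟩
      omega
    rw [mem_region_pt h1] at hr
    exact fun h => hr ⟨hnn, h⟩

/-- the family of functions on integer vectors attached to square functions -/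
def FN : (ℕ × ℕ → k) →ₗ[k] ((Fin 3 → ℤ) → k) where
  toFun u γ := if 0 ≤ γ (l+1) ∧ 0 ≤ γ (l+2) then u ((γ (l+1)).toNat, (γ (l+2)).toNat) else 0
  map_add' c c' := by
    funext γ
    simp only [Pi.add_apply]
    split_ifs <;> simp
  map_smul' r c := by
    funext γ
    simp only [Pi.smul_apply, smul_eq_mul, RingHom.id_apply]
    split_ifs <;> simp

lemma FN_pt (u : ℕ × ℕ → k) (β : Fin 3 →₀ ℕ) :
    FN (k := k) l u (pt (aN l i j m) β) =
      if i + 1 ≤ β (l+1) ∧ j + 1 ≤ β (l+2) then u (β (l+1) - (i+1), β (l+2) - (j+1)) else 0 := by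
  show (if 0 ≤ pt (aN l i j m) β (l+1) ∧ 0 ≤ pt (aN l i j m) β (l+2) then
    u ((pt (aN l i j m) β (l+1)).toNat, (pt (aN l i j m) β (l+2)).toNat) else 0) = _
  simp only [pt, aN_l1, aN_l2]
  have e1 : ((β (l+1) : ℤ) + (-(i:ℤ) - 1)).toNat = β (l+1) - (i+1) := by omega
  have e2 : ((β (l+2) : ℤ) + (-(j:ℤ) - 1)).toNat = β (l+2) - (j+1) := by omega
  rw [e1, e2]
  by_cases h : i + 1 ≤ β (l+1) ∧ j + 1 ≤ β (l+2)
  · rw [if_pos h, if_pos ⟨by omega, by omega⟩]
  · rw [if_neg h, if_neg (fun h' => h ⟨by omega, by omega⟩)]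

include hI hm in
lemma good_FN (u : ℕ × ℕ → k) (hu : u ∈ ((stairOf hI l).conf i j m hm).K' k) :
    Good I (aN l i j m) (FN l u) := by
  obtain ⟨hu1, hu2, hu3, hu4, hu5⟩ := hu
  apply good_of_step
  · rintro γ ⟨⟨β, hβ, rfl⟩, hn⟩ ⟨s, hs⟩
    show FN l u (pt (aN l i j m) β) = 0
    rw [FN_pt]
    obtain h | h | h := fin3_cases l s
    · rw [h] at hs
      have hs' : (β l : ℤ) + aN l i j m l < 0 := hs
      rw [aN_l] at hs'
      exfalso; omega
    · rw [h] at hs
      have hs' : (β (l+1) : ℤ) + aN l i j m (l+1) < 0 := hs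
      rw [aN_l1] at hs'
      rw [if_neg (fun h' => by omega)]
    · rw [h] at hs
      have hs' : (β (l+2) : ℤ) + aN l i j m (l+2) < 0 := hs
      rw [aN_l2] at hs'
      rw [if_neg (fun h' => by omega)]
  · intro β hβ s hr hr'
    rw [FN_pt, FN_pt]
    have hB := (mem_exps_iff hI l β).mp hβ
    rw [region_aN_iff hI l i j m hm (exps_add hβ _)] at hr'
    obtain h | h | h := fin3_cases l s
    · rw [h]
      obtain ⟨e0, e1, e2⟩ := single_l l β 1
      rw [e1, e2]
    · rw [h] at hr' ⊢
      obtain ⟨e0, e1, e2⟩ := single_l1 l β 1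
      rw [e0, e1, e2] at hr'
      rw [e1, e2]
      by_cases hb : j + 1 ≤ β (l+2)
      · by_cases ha : i + 1 ≤ β (l+1)
        · rw [if_pos ⟨ha, hb⟩, if_pos ⟨by omega, hb⟩]
          obtain ⟨a, ha'⟩ : ∃ a, β (l+1) = a + (i+1) := ⟨β (l+1) - (i+1), by omega⟩
          obtain ⟨b, hb'⟩ : ∃ b, β (l+2) = b + (j+1) := ⟨β (l+2) - (j+1), by omega⟩
          have e3 : β (l+1) - (i+1) = a := by omega
          have e4 : β (l+1) + 1 - (i+1) = a + 1 := by omega
          have e5 : β (l+2) - (j+1) = b := by omega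
          rw [e4, e5] at hr'
          rw [e3, e4, e5]
          symm
          apply hu5
          show stairL I l (a + 1 + i) (b + j + 1) + m ≤ stairL I l (a + 1) b
          have e6 : a + 1 + i = β (l+1) := by omega
          have e7 : b + j + 1 = β (l+2) := by omega
          rw [e6, e7]
          by_contra hcon
          exact hr' ⟨by omega, hb, by omega⟩
        · rw [if_neg (fun h' => ha h'.1)]
          by_cases ha2 : i + 1 ≤ β (l+1) + 1
          · rw [if_pos ⟨ha2, hb⟩]
            obtain ⟨b, hb'⟩ : ∃ b, β (l+2) = b + (j+1) := ⟨β (l+2) - (j+1), by omega⟩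
            have e4 : β (l+1) + 1 - (i+1) = 0 := by omega
            have e5 : β (l+2) - (j+1) = b := by omega
            rw [e4, e5] at hr'
            rw [e4, e5]
            symm
            apply hu4
            show stairL I l (0 + i) (b + j + 1) + m ≤ stairL I l 0 b
            have e6 : 0 + i = β (l+1) := by omega
            have e7 : b + j + 1 = β (l+2) := by omega
            rw [e6, e7]
            by_contra hcon
            exact hr' ⟨by omega, hb, by omega⟩
          · rw [if_neg (fun h' => ha2 h'.1)]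
      · rw [if_neg (fun h' => hb h'.2), if_neg (fun h' => hb h'.2)]
    · rw [h] at hr' ⊢
      obtain ⟨e0, e1, e2⟩ := single_l2 l β 1
      rw [e0, e1, e2] at hr'
      rw [e1, e2]
      by_cases ha : i + 1 ≤ β (l+1)
      · by_cases hb : j + 1 ≤ β (l+2)
        · rw [if_pos ⟨ha, hb⟩, if_pos ⟨ha, by omega⟩]
          obtain ⟨a, ha'⟩ : ∃ a, β (l+1) = a + (i+1) := ⟨β (l+1) - (i+1), by omega⟩
          obtain ⟨b, hb'⟩ : ∃ b, β (l+2) = b + (j+1) := ⟨β (l+2) - (j+1), by omega⟩
          have e3 : β (l+1) - (i+1) = a := by omega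
          have e4 : β (l+2) + 1 - (j+1) = b + 1 := by omega
          have e5 : β (l+2) - (j+1) = b := by omega
          rw [e3, e4] at hr'
          rw [e3, e4, e5]
          symm
          apply hu3
          show stairL I l (a + i + 1) (b + 1 + j) + m ≤ stairL I l a (b + 1)
          have e6 : a + i + 1 = β (l+1) := by omega
          have e7 : b + 1 + j = β (l+2) := by omega
          rw [e6, e7]
          by_contra hcon
          exact hr' ⟨ha, by omega, by omega⟩
        · rw [if_neg (fun h' => hb h'.2)]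
          by_cases hb2 : j + 1 ≤ β (l+2) + 1
          · rw [if_pos ⟨ha, hb2⟩]
            obtain ⟨a, ha'⟩ : ∃ a, β (l+1) = a + (i+1) := ⟨β (l+1) - (i+1), by omega⟩
            have e4 : β (l+2) + 1 - (j+1) = 0 := by omega
            have e3 : β (l+1) - (i+1) = a := by omega
            rw [e3, e4] at hr'
            rw [e3, e4]
            symm
            apply hu2
            show stairL I l (a + i + 1) (0 + j) + m ≤ stairL I l a 0
            have e6 : a + i + 1 = β (l+1) := by omega
            have e7 : 0 + j = β (l+2) := by omega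
            rw [e6, e7]
            by_contra hcon
            exact hr' ⟨ha, by omega, by omega⟩
          · rw [if_neg (fun h' => hb2 h'.2)]
      · rw [if_neg (fun h' => ha h'.1), if_neg (fun h' => ha h'.1)]


include hI hm in
lemma inj_FN (u : ℕ × ℕ → k) (hu : u ∈ ((stairOf hI l).conf i j m hm).K' k)
    (h : ∀ β, Live I (aN l i j m) β → FN l u (pt (aN l i j m) β) = 0) : u = 0 := by
  funext p
  obtain ⟨a, b⟩ := p
  by_cases hp : ((stairOf hI l).conf i j m hm).Zq (a, b)
  · have hzq : stairL I l (a + i + 1) (b + j + 1) + m ≤ stairL I l a b := hp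
    have e1 : a + i + 1 - (i + 1) = a := by omega
    have e2 : b + j + 1 - (j + 1) = b := by omega
    have hlive : Live I (aN l i j m)
        (eL l (a + i + 1) (b + j + 1) (stairL I l (a + i + 1) (b + j + 1))) := by
      rw [live_aN_iff hI l i j m hm]
      refine ⟨eL_mem hI l _ _ _ le_rfl, ?_, ?_, ?_⟩
      · rw [eL_l1]; omega
      · rw [eL_l2]; omega
      · rw [eL_l, eL_l1, eL_l2, e1, e2]; exact hzq
    have := h _ hlive
    rw [FN_pt, eL_l1, eL_l2, if_pos ⟨by omega, by omega⟩, e1, e2] at this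
    exact this
  · exact hu.1 _ hp

include hI in
/-- values of a good function are constant along a column inside the region -/
lemma column_aN {F' : (Fin 3 → ℤ) → k} (hF' : Good I (aN l i j m) F') (a b t : ℕ)
    (h1 : stairL I l a b ≤ t)
    (hr : pt (aN l i j m) (eL l a b t) ∈ region I (aN l i j m)) :
    F' (pt (aN l i j m) (eL l a b (stairL I l a b))) = F' (pt (aN l i j m) (eL l a b t)) := by
  have hβ0 := eL_mem hI l a b _ (le_refl (stairL I l a b))
  have e : eL l a b t = eL l a b (stairL I l a b) + Finsupp.single l (t - stairL I l a b) := by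
    rw [← eL_add_l]
    congr 1
    omega
  rw [e]
  apply path hF' _ _ hβ0
  rw [← e]
  exact hr

include hI hm in
lemma surj_FN (F' : (Fin 3 → ℤ) → k) (hF' : Good I (aN l i j m) F') :
    ∃ u ∈ ((stairOf hI l).conf i j m hm).K' k, ∀ β, Live I (aN l i j m) β →
      FN l u (pt (aN l i j m) β) = F' (pt (aN l i j m) β) := by
  classical
  obtain ⟨u, hudef⟩ : ∃ u : ℕ × ℕ → k, u = fun p =>
      if (stairL I l (p.1 + i + 1) (p.2 + j + 1) + m ≤ stairL I l p.1 p.2)
      then F' (pt (aN l i j m) (eL l (p.1 + i + 1) (p.2 + j + 1)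
        (stairL I l (p.1 + i + 1) (p.2 + j + 1)))) else 0 := ⟨_, rfl⟩
  have hu_neg : ∀ a b, ¬ (stairL I l (a + i + 1) (b + j + 1) + m ≤ stairL I l a b) →
      u (a, b) = 0 := by
    intro a b h1
    rw [hudef]
    simp only
    rw [if_neg h1]
  -- region membership of the points over `(a, b)` at height `t`
  have hreg : ∀ a b t, stairL I l (a + i + 1) (b + j + 1) ≤ t → t + m ≤ stairL I l a b →
      pt (aN l i j m) (eL l (a + i + 1) (b + j + 1) t) ∈ region I (aN l i j m) := by
    intro a b t h1 h2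
    rw [region_aN_iff hI l i j m hm (eL_mem hI l _ _ _ h1), eL_l, eL_l1, eL_l2]
    have e1 : a + i + 1 - (i + 1) = a := by omega
    have e2 : b + j + 1 - (j + 1) = b := by omega
    rw [e1, e2]
    rintro ⟨_, _, h3⟩
    omega
  have hu_val : ∀ a b t, stairL I l (a + i + 1) (b + j + 1) ≤ t → t + m ≤ stairL I l a b →
      u (a, b) = F' (pt (aN l i j m) (eL l (a + i + 1) (b + j + 1) t)) := by
    intro a b t h1 h2
    rw [← column_aN hI l i j m hF' _ _ t h1 (hreg a b t h1 h2)]
    rw [hudef]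
    simp only
    rw [if_pos (by omega)]
  refine ⟨u, ⟨?_, ?_, ?_, ?_, ?_⟩, ?_⟩
  · rintro ⟨a, b⟩ hp
    exact hu_neg a b hp
  · -- Zx (a, 0)
    intro a hz
    have hz' : stairL I l (a + i + 1) (0 + j) + m ≤ stairL I l a 0 := hz
    have hmono := stairL_succ_y hI l (a + i + 1) (0 + j)
    rw [hu_val a 0 (stairL I l (a + i + 1) (0 + j)) hmono hz']
    have hβ2 := eL_mem hI l (a + i + 1) (0 + j) _ (le_refl _)
    have hr1 := hreg a 0 (stairL I l (a + i + 1) (0 + j)) hmono hz'
    have hneg : (pt (aN l i j m) (eL l (a + i + 1) (0 + j) (stairL I l (a + i + 1) (0 + j))))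
        (l+2) < 0 := by
      simp only [pt, aN_l2, eL_l2]
      omega
    have hr2 : pt (aN l i j m) (eL l (a + i + 1) (0 + j) (stairL I l (a + i + 1) (0 + j)))
        ∈ region I (aN l i j m) := by
      rw [mem_region_pt hβ2]
      intro h
      have := h.1 (l+2)
      simp only [pt] at hneg
      omega
    have hadj := adj_step (aN l i j m)
      (eL l (a + i + 1) (0 + j) (stairL I l (a + i + 1) (0 + j))) (l+2)
    rw [← eL_add_l2] at hadj
    rw [← hF'.adj _ _ hr2 hr1 hadj]
    exact hF'.neg _ hr2 ⟨l+2, hneg⟩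
  · -- Zx (a, b+1)
    intro a b hz
    have hz' : stairL I l (a + i + 1) (b + 1 + j) + m ≤ stairL I l a (b + 1) := hz
    have e : b + 1 + j = b + j + 1 := by omega
    rw [e] at hz'
    have hmono := stairL_succ_y hI l (a + i + 1) (b + j + 1)
    have hmono' := stairL_succ_y hI l a b
    have e' : b + 1 + j + 1 = b + j + 1 + 1 := by omega
    rw [hu_val a (b+1) (stairL I l (a + i + 1) (b + j + 1)) (by rw [e']; exact hmono) hz',
      hu_val a b (stairL I l (a + i + 1) (b + j + 1)) le_rfl (by omega)]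
    have hr1 := hreg a (b+1) (stairL I l (a + i + 1) (b + j + 1)) (by rw [e']; exact hmono) hz'
    have hr0 := hreg a b (stairL I l (a + i + 1) (b + j + 1)) le_rfl (by omega)
    have hadj := adj_step (aN l i j m)
      (eL l (a + i + 1) (b + j + 1) (stairL I l (a + i + 1) (b + j + 1))) (l+2)
    rw [← eL_add_l2] at hadj
    rw [e'] at hr1 ⊢
    exact (hF'.adj _ _ hr0 hr1 hadj).symm
  · -- Zy (0, b)
    intro b hz
    have hz' : stairL I l (0 + i) (b + j + 1) + m ≤ stairL I l 0 b := hz
    have hmono := stairL_succ_x hI l (0 + i) (b + j + 1)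
    rw [hu_val 0 b (stairL I l (0 + i) (b + j + 1)) hmono hz']
    have hβ2 := eL_mem hI l (0 + i) (b + j + 1) _ (le_refl _)
    have hr1 := hreg 0 b (stairL I l (0 + i) (b + j + 1)) hmono hz'
    have hneg : (pt (aN l i j m) (eL l (0 + i) (b + j + 1) (stairL I l (0 + i) (b + j + 1))))
        (l+1) < 0 := by
      simp only [pt, aN_l1, eL_l1]
      omega
    have hr2 : pt (aN l i j m) (eL l (0 + i) (b + j + 1) (stairL I l (0 + i) (b + j + 1)))
        ∈ region I (aN l i j m) := by
      rw [mem_region_pt hβ2]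
      intro h
      have := h.1 (l+1)
      simp only [pt] at hneg
      omega
    have hadj := adj_step (aN l i j m)
      (eL l (0 + i) (b + j + 1) (stairL I l (0 + i) (b + j + 1))) (l+1)
    rw [← eL_add_l1] at hadj
    rw [← hF'.adj _ _ hr2 hr1 hadj]
    exact hF'.neg _ hr2 ⟨l+1, hneg⟩
  · -- Zy (a+1, b)
    intro a b hz
    have hz' : stairL I l (a + 1 + i) (b + j + 1) + m ≤ stairL I l (a + 1) b := hz
    have e : a + 1 + i = a + i + 1 := by omega
    rw [e] at hz'
    have hmono := stairL_succ_x hI l (a + i + 1) (b + j + 1)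
    have hmono' := stairL_succ_x hI l a b
    have e' : a + 1 + i + 1 = a + i + 1 + 1 := by omega
    rw [hu_val (a+1) b (stairL I l (a + i + 1) (b + j + 1)) (by rw [e']; exact hmono) hz',
      hu_val a b (stairL I l (a + i + 1) (b + j + 1)) le_rfl (by omega)]
    have hr1 := hreg (a+1) b (stairL I l (a + i + 1) (b + j + 1)) (by rw [e']; exact hmono) hz'
    have hr0 := hreg a b (stairL I l (a + i + 1) (b + j + 1)) le_rfl (by omega)
    have hadj := adj_step (aN l i j m)
      (eL l (a + i + 1) (b + j + 1) (stairL I l (a + i + 1) (b + j + 1))) (l+1)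
    rw [← eL_add_l1] at hadj
    rw [e'] at hr1 ⊢
    exact (hF'.adj _ _ hr0 hr1 hadj).symm
  · intro β hβ
    rw [live_aN_iff hI l i j m hm] at hβ
    obtain ⟨h1, h2, h3, h4⟩ := hβ
    rw [FN_pt, if_pos ⟨h2, h3⟩]
    have e1 : β (l+1) - (i+1) + i + 1 = β (l+1) := by omega
    have e2 : β (l+2) - (j+1) + j + 1 = β (l+2) := by omega
    have hB := (mem_exps_iff hI l β).mp h1
    rw [hu_val (β (l+1) - (i+1)) (β (l+2) - (j+1)) (β l) (by rw [e1, e2]; exact hB) h4,
      e1, e2, ← eL_eq l β]

include hI hm in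
/-- **the graded piece of multidegree `(-i-1, -j-1, m-1)` is the space `K'` of the planar
configuration** -/
theorem finrank_tPiece_aN :
    Module.finrank k ↥(tPiece I (aN l i j m)) =
      Module.finrank k ↥(((stairOf hI l).conf i j m hm).K' k) := by
  apply finrank_tPiece_eq_of_param hI
    ((FN (k := k) l).comp (((stairOf hI l).conf i j m hm).K' k).subtype)
  · intro w
    exact good_FN hI l i j m hm w.1 w.2
  · intro w h
    exact Subtype.ext (inj_FN hI l i j m hm w.1 w.2 h)
  · intro F' hF'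
    obtain ⟨c, hc, h⟩ := surj_FN hI l i j m hm F' hF'
    exact ⟨⟨c, hc⟩, h⟩

/-- **Per-degree duality**: `dim T_{(i,j,-m)} + #Zv + #Zq = dim T_{(-i-1,-j-1,m-1)} + #Zx + #Zy`. -/
theorem finrank_tPiece_duality :
    Module.finrank k ↥(tPiece I (aP l i j m)) + ((stairOf hI l).conf i j m hm).sv.card
        + ((stairOf hI l).conf i j m hm).sq.card =
      Module.finrank k ↥(tPiece I (aN l i j m)) + ((stairOf hI l).conf i j m hm).sx.card
        + ((stairOf hI l).conf i j m hm).sy.card := by
  rw [finrank_tPiece_aP hI l i j m hm, finrank_tPiece_aN hI l i j m hm]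
  exact Conf.finrank_K_add _

end N

end Groth.Agent.Lib.Helper24TgtDual
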