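import Mathlib
import Groth.Prelude.Def_W4c1hilbpnTgt
import Groth.Agent.Lib.Helper20Monomial
import Groth.Agent.Lib.Helper24TgtPiece
import Groth.Agent.Lib.Helper24TgtPiece3
import Groth.Agent.Lib.Helper24TgtPiece7
import Groth.Agent.Lib.Helper24TgtParam
import Groth.Agent.Lib.Helper24TgtDir
import Groth.Agent.Lib.Helper24Planar
import Groth.Agent.Lib.Helper24TgtDualP
import Groth.Agent.Lib.Helper24TgtDualN

set_option autoImplicit false
universe u

namespace Groth.Agent.Lib.Helper24TgtDual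

open W4c1hilbpn MvPolynomial
open Groth.Agent.Lib.Helper20
open Groth.Agent.Lib.Helper24TgtPiece
open Groth.Agent.Lib.Helper24Planar

namespace Stair

variable (S : Stair)

/-- the box of the staircase -/
def box : Finset (ℕ × ℕ) := Finset.range S.N ×ˢ Finset.range S.N

/-- the height of the staircase -/
def M : ℕ := S.B 0 0

lemma B_le_M (a b : ℕ) : S.B a b ≤ S.M := by
  have := S.le_xy 0 0 a b
  simpa [M] using this

lemma count_lt (M c : ℕ) (h : c ≤ M) :
    ∑ m' ∈ Finset.range M, (if m' + 1 ≤ c then 1 else 0) = c := by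
  rw [← Finset.card_filter]
  have : (Finset.range M).filter (fun m' => m' + 1 ≤ c) = Finset.range c := by
    ext x
    simp only [Finset.mem_filter, Finset.mem_range]
    omega
  rw [this, Finset.card_range]

/-- counting a level set over all levels -/
lemma count_levels (s t : ℕ) :
    ∑ m' ∈ Finset.range S.M,
      ∑ p ∈ S.box, (if S.B (p.1 + s) (p.2 + t) + (m' + 1) ≤ S.B p.1 p.2 then 1 else 0) =
    ∑ p ∈ S.box, (S.B p.1 p.2 - S.B (p.1 + s) (p.2 + t)) := by
  rw [Finset.sum_comm]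
  apply Finset.sum_congr rfl
  intro p _
  rw [← count_lt S.M (S.B p.1 p.2 - S.B (p.1 + s) (p.2 + t))
    (le_trans (Nat.sub_le _ _) (S.B_le_M _ _))]
  apply Finset.sum_congr rfl
  intro m' _
  have hle := S.le_xy p.1 p.2 s t
  by_cases h : S.B (p.1 + s) (p.2 + t) + (m' + 1) ≤ S.B p.1 p.2
  · rw [if_pos h, if_pos (by omega)]
  · rw [if_neg h, if_neg (by omega)]

lemma card_sv (i j m : ℕ) (hm : 1 ≤ m) : (S.conf i j m hm).sv.card =
    ∑ p ∈ S.box, (if S.B (p.1 + i) (p.2 + j) + m ≤ S.B p.1 p.2 then 1 else 0) := by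
  classical
  unfold Conf.sv
  rw [Finset.card_filter]
  apply Finset.sum_congr rfl
  intro p _
  by_cases h : S.B (p.1 + i) (p.2 + j) + m ≤ S.B p.1 p.2
  · rw [if_pos (show (S.conf i j m hm).Zv p from h), if_pos h]
  · rw [if_neg (show ¬ (S.conf i j m hm).Zv p from h), if_neg h]

lemma card_sx (i j m : ℕ) (hm : 1 ≤ m) : (S.conf i j m hm).sx.card =
    ∑ p ∈ S.box, (if S.B (p.1 + (i + 1)) (p.2 + j) + m ≤ S.B p.1 p.2 then 1 else 0) := by
  classical
  unfold Conf.sx
  rw [Finset.card_filter]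
  apply Finset.sum_congr rfl
  intro p _
  by_cases h : S.B (p.1 + (i + 1)) (p.2 + j) + m ≤ S.B p.1 p.2
  · rw [if_pos (show (S.conf i j m hm).Zx p from h), if_pos h]
  · rw [if_neg (show ¬ (S.conf i j m hm).Zx p from h), if_neg h]

lemma card_sy (i j m : ℕ) (hm : 1 ≤ m) : (S.conf i j m hm).sy.card =
    ∑ p ∈ S.box, (if S.B (p.1 + i) (p.2 + (j + 1)) + m ≤ S.B p.1 p.2 then 1 else 0) := by
  classical
  unfold Conf.sy
  rw [Finset.card_filter]
  apply Finset.sum_congr rfl
  intro p _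
  by_cases h : S.B (p.1 + i) (p.2 + (j + 1)) + m ≤ S.B p.1 p.2
  · rw [if_pos (show (S.conf i j m hm).Zy p from h), if_pos h]
  · rw [if_neg (show ¬ (S.conf i j m hm).Zy p from h), if_neg h]

lemma card_sq (i j m : ℕ) (hm : 1 ≤ m) : (S.conf i j m hm).sq.card =
    ∑ p ∈ S.box, (if S.B (p.1 + (i + 1)) (p.2 + (j + 1)) + m ≤ S.B p.1 p.2 then 1 else 0) := by
  classical
  unfold Conf.sq
  rw [Finset.card_filter]
  apply Finset.sum_congr rfl
  intro p _
  by_cases h : S.B (p.1 + (i + 1)) (p.2 + (j + 1)) + m ≤ S.B p.1 p.2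
  · rw [if_pos (show (S.conf i j m hm).Zq p from h), if_pos h]
  · rw [if_neg (show ¬ (S.conf i j m hm).Zq p from h), if_neg h]

/-- two-dimensional telescoping for a function vanishing beyond the box -/
lemma telescope (N : ℕ) (c : ℕ → ℕ → ℤ) (h1 : ∀ b, c N b = 0) (h2 : ∀ a, c a N = 0) :
    ∑ a ∈ Finset.range N, ∑ b ∈ Finset.range N,
      (c a b - c (a+1) b - c a (b+1) + c (a+1) (b+1)) = c 0 0 := by
  have hin : ∀ a, ∑ b ∈ Finset.range N, (c a b - c (a+1) b - c a (b+1) + c (a+1) (b+1)) =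
      c a 0 - c (a+1) 0 := by
    intro a
    have := Finset.sum_range_sub' (fun b => c a b - c (a+1) b) N
    simp only [h2, sub_zero] at this
    rw [← this]
    apply Finset.sum_congr rfl
    intro b _
    ring
  simp only [hin]
  have := Finset.sum_range_sub' (fun a => c a 0) N
  rw [this, h1, sub_zero]

/-- the Euler characteristic identity summed over all levels -/
lemma euler_sum (i j : ℕ) :
    ∑ p ∈ S.box, (S.B p.1 p.2 - S.B (p.1 + i) (p.2 + j)) +
      ∑ p ∈ S.box, (S.B p.1 p.2 - S.B (p.1 + (i + 1)) (p.2 + (j + 1))) + S.B i j =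
    ∑ p ∈ S.box, (S.B p.1 p.2 - S.B (p.1 + (i + 1)) (p.2 + j)) +
      ∑ p ∈ S.box, (S.B p.1 p.2 - S.B (p.1 + i) (p.2 + (j + 1))) := by
  have key : ∀ s t, ((∑ p ∈ S.box, (S.B p.1 p.2 - S.B (p.1 + s) (p.2 + t)) : ℕ) : ℤ) =
      ∑ a ∈ Finset.range S.N, ∑ b ∈ Finset.range S.N,
        ((S.B a b : ℤ) - (S.B (a + s) (b + t) : ℤ)) := by
    intro s t
    unfold box
    rw [Finset.sum_product, Nat.cast_sum]
    apply Finset.sum_congr rfl
    intro a _
    rw [Nat.cast_sum]
    apply Finset.sum_congr rfl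
    intro b _
    rw [Nat.cast_sub (S.le_xy a b s t)]
  have htel := telescope S.N (fun a b => (S.B (a + i) (b + j) : ℤ))
    (fun b => by
      have := S.hN (S.N + i) (b + j) (Or.inl (by omega))
      simp [this])
    (fun a => by
      have := S.hN (a + i) (S.N + j) (Or.inr (by omega))
      simp [this])
  simp only [zero_add] at htel
  have hZ : ((∑ p ∈ S.box, (S.B p.1 p.2 - S.B (p.1 + i) (p.2 + j)) : ℕ) : ℤ) +
      ((∑ p ∈ S.box, (S.B p.1 p.2 - S.B (p.1 + (i + 1)) (p.2 + (j + 1))) : ℕ) : ℤ) +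
        (S.B i j : ℤ) =
      ((∑ p ∈ S.box, (S.B p.1 p.2 - S.B (p.1 + (i + 1)) (p.2 + j)) : ℕ) : ℤ) +
      ((∑ p ∈ S.box, (S.B p.1 p.2 - S.B (p.1 + i) (p.2 + (j + 1))) : ℕ) : ℤ) := by
    rw [key, key, key, key, ← htel]
    simp only [← Finset.sum_add_distrib]
    apply Finset.sum_congr rfl
    intro a _
    apply Finset.sum_congr rfl
    intro b _
    have e1 : a + (i + 1) = a + 1 + i := by omega
    have e2 : b + (j + 1) = b + 1 + j := by omega
    rw [e1, e2]
    ring
  exact_mod_cast hZ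

end Stair


variable {k : Type*} [Field k]
variable {I : Ideal (MvPolynomial (Fin 3) k)}

section sums

variable (hI : IsMonomial I) [Module.Finite k (MvPolynomial (Fin 3) k ⧸ I)]
variable (l : Fin 3) (i j : ℕ)

/-- **Duality summed over all levels.** -/
theorem sum_duality :
    ∑ m' ∈ Finset.range (stairOf hI l).M, Module.finrank k ↥(tPiece I (aP l i j (m'+1))) =
      stairL I l i j +
        ∑ m' ∈ Finset.range (stairOf hI l).M, Module.finrank k ↥(tPiece I (aN l i j (m'+1))) := by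
  have h1 : ∑ m' ∈ Finset.range (stairOf hI l).M,
      (Module.finrank k ↥(tPiece I (aP l i j (m'+1))) +
        ((stairOf hI l).conf i j (m'+1) (by omega)).sv.card +
        ((stairOf hI l).conf i j (m'+1) (by omega)).sq.card) =
      ∑ m' ∈ Finset.range (stairOf hI l).M,
      (Module.finrank k ↥(tPiece I (aN l i j (m'+1))) +
        ((stairOf hI l).conf i j (m'+1) (by omega)).sx.card +
        ((stairOf hI l).conf i j (m'+1) (by omega)).sy.card) := by
    apply Finset.sum_congr rfl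
    intro m' _
    exact finrank_tPiece_duality hI l i j (m'+1) (by omega)
  simp only [Finset.sum_add_distrib, Stair.card_sv, Stair.card_sx, Stair.card_sy, Stair.card_sq,
    Stair.count_levels] at h1
  have h2 := (stairOf hI l).euler_sum i j
  have h3 : (stairOf hI l).B i j = stairL I l i j := rfl
  omega

include hI in
lemma tPiece_aP_eq_bot (m : ℕ) (hm : (stairOf hI l).M < m) : tPiece I (aP l i j m) = ⊥ := by
  haveI := finite_Tgt hI
  have hm1 : 1 ≤ m := by omega
  have hK : ((stairOf hI l).conf i j m hm1).K k = ⊥ := by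
    rw [eq_bot_iff]
    intro c hc
    rw [Submodule.mem_bot]
    funext p
    apply hc.1
    intro h
    have h1 : m ≤ (stairOf hI l).B p.1 p.2 := h.1
    have := (stairOf hI l).B_le_M p.1 p.2
    omega
  have h := finrank_tPiece_aP hI l i j m hm1
  rw [hK, finrank_bot] at h
  exact Submodule.finrank_eq_zero.mp h

include hI in
lemma tPiece_aN_eq_bot (m : ℕ) (hm : (stairOf hI l).M < m) : tPiece I (aN l i j m) = ⊥ := by
  haveI := finite_Tgt hI
  have hm1 : 1 ≤ m := by omega
  have hK : ((stairOf hI l).conf i j m hm1).K' k = ⊥ := by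
    rw [eq_bot_iff]
    intro c hc
    rw [Submodule.mem_bot]
    funext p
    apply hc.1
    intro h
    have h1 : (stairOf hI l).B (p.1 + i + 1) (p.2 + j + 1) + m ≤ (stairOf hI l).B p.1 p.2 := h
    have := (stairOf hI l).B_le_M p.1 p.2
    omega
  have h := finrank_tPiece_aN hI l i j m hm1
  rw [hK, finrank_bot] at h
  exact Submodule.finrank_eq_zero.mp h

end sums


section z

variable (hI : IsMonomial I) [Module.Finite k (MvPolynomial (Fin 3) k ⧸ I)]
variable (i j : ℕ)

lemma aP_two_apply (m : ℕ) : aP 2 i j m 0 = (i:ℤ) ∧ aP 2 i j m 1 = (j:ℤ) ∧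
    aP 2 i j m 2 = -(m:ℤ) := by
  refine ⟨?_, ?_, ?_⟩
  · exact aP_l1 2 i j m
  · exact aP_l2 2 i j m
  · exact aP_l 2 i j m

lemma aN_two_apply (m : ℕ) : aN 2 i j m 0 = -(i:ℤ) - 1 ∧ aN 2 i j m 1 = -(j:ℤ) - 1 ∧
    aN 2 i j m 2 = (m:ℤ) - 1 := by
  refine ⟨?_, ?_, ?_⟩
  · exact aN_l1 2 i j m
  · exact aN_l2 2 i j m
  · exact aN_l 2 i j m

lemma fin3_ext {α α' : Fin 3 → ℤ} (h0 : α 0 = α' 0) (h1 : α 1 = α' 1) (h2 : α 2 = α' 2) :
    α = α' := by
  funext s
  fin_cases s
  · exact h0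
  · exact h1
  · exact h2

include hI in
theorem finrank_iSup_P :
    Module.finrank k ↥(⨆ α : {α : Fin 3 → ℤ // α 0 = (i:ℤ) ∧ α 1 = (j:ℤ)}, tPiece I α.1) =
      ∑ m' ∈ Finset.range (stairOf hI 2).M, Module.finrank k ↥(tPiece I (aP 2 i j (m'+1))) := by
  classical
  have hinj : Set.InjOn (fun m' : ℕ => aP 2 i j (m'+1)) (Finset.range (stairOf hI 2).M) := by
    intro m1 _ m2 _ h
    have := congrFun h 2
    simp only [(aP_two_apply i j _).2.2] at this
    omega
  rw [iSup_subtype_eq_biSup (fun α : Fin 3 → ℤ => α 0 = (i:ℤ) ∧ α 1 = (j:ℤ))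
    ((Finset.range (stairOf hI 2).M).image (fun m' => aP 2 i j (m'+1))),
    finrank_biSup_tPiece hI, Finset.sum_image hinj]
  · intro α hα
    obtain ⟨m', _, rfl⟩ := Finset.mem_image.mp hα
    exact ⟨(aP_two_apply i j _).1, (aP_two_apply i j _).2.1⟩
  · rintro α ⟨h0, h1⟩ hα
    by_cases h2 : 0 ≤ α 2
    · apply tPiece_eq_bot_of_nonneg hI
      intro s
      fin_cases s
      · show 0 ≤ α 0
        rw [h0]; omega
      · show 0 ≤ α 1
        rw [h1]; omega
      · exact h2
    · push Not at h2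
      obtain ⟨m, hm⟩ : ∃ m : ℕ, α 2 = -(m:ℤ) := ⟨(-α 2).toNat, by omega⟩
      have hα' : α = aP 2 i j m := by
        apply fin3_ext
        · rw [h0, (aP_two_apply i j m).1]
        · rw [h1, (aP_two_apply i j m).2.1]
        · rw [hm, (aP_two_apply i j m).2.2]
      rw [hα']
      apply tPiece_aP_eq_bot hI
      by_contra hcon
      push Not at hcon
      apply hα
      rw [hα', Finset.mem_image]
      refine ⟨m - 1, Finset.mem_range.mpr (by omega), ?_⟩
      have : m - 1 + 1 = m := by omega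
      rw [this]

include hI in
theorem finrank_iSup_N :
    Module.finrank k ↥(⨆ α : {α : Fin 3 → ℤ // α 0 = -(i:ℤ) - 1 ∧ α 1 = -(j:ℤ) - 1},
        tPiece I α.1) =
      ∑ m' ∈ Finset.range (stairOf hI 2).M, Module.finrank k ↥(tPiece I (aN 2 i j (m'+1))) := by
  classical
  have hinj : Set.InjOn (fun m' : ℕ => aN 2 i j (m'+1)) (Finset.range (stairOf hI 2).M) := by
    intro m1 _ m2 _ h
    have := congrFun h 2
    simp only [(aN_two_apply i j _).2.2] at this
    push_cast at this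
    omega
  rw [iSup_subtype_eq_biSup (fun α : Fin 3 → ℤ => α 0 = -(i:ℤ) - 1 ∧ α 1 = -(j:ℤ) - 1)
    ((Finset.range (stairOf hI 2).M).image (fun m' => aN 2 i j (m'+1))),
    finrank_biSup_tPiece hI, Finset.sum_image hinj]
  · intro α hα
    obtain ⟨m', _, rfl⟩ := Finset.mem_image.mp hα
    exact ⟨(aN_two_apply i j _).1, (aN_two_apply i j _).2.1⟩
  · rintro α ⟨h0, h1⟩ hα
    by_cases h2 : α 2 < 0
    · apply tPiece_eq_bot_of_neg hI
      intro s
      fin_cases s
      · show α 0 < 0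
        rw [h0]; omega
      · show α 1 < 0
        rw [h1]; omega
      · exact h2
    · push Not at h2
      obtain ⟨m, hm⟩ : ∃ m : ℕ, α 2 = (m:ℤ) - 1 := ⟨(α 2 + 1).toNat, by omega⟩
      have hα' : α = aN 2 i j m := by
        apply fin3_ext
        · rw [h0, (aN_two_apply i j m).1]
        · rw [h1, (aN_two_apply i j m).2.1]
        · rw [hm, (aN_two_apply i j m).2.2]
      rw [hα']
      apply tPiece_aN_eq_bot hI
      by_contra hcon
      push Not at hcon
      apply hα
      rw [hα', Finset.mem_image]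
      have hm1 : 1 ≤ m := by omega
      refine ⟨m - 1, Finset.mem_range.mpr (by omega), ?_⟩
      have : m - 1 + 1 = m := by omega
      rw [this]

theorem s13436 (k : Type u) [Field k] [Infinite k]
    (I : Ideal (MvPolynomial (Fin 3) k)) (hI : IsMonomial I)
    [Module.Finite k (MvPolynomial (Fin 3) k ⧸ I)] (i j : ℕ) :
    Module.finrank k ↥(⨆ α : {α : Fin 3 → ℤ // α 0 = (i : ℤ) ∧ α 1 = (j : ℤ)}, tPiece I α.1) =
      stairZ I i j +
        Module.finrank k ↥(⨆ α : {α : Fin 3 → ℤ // α 0 = -(i : ℤ) - 1 ∧ α 1 = -(j : ℤ) - 1},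
          tPiece I α.1) := by
  rw [finrank_iSup_P hI i j, finrank_iSup_N hI i j, sum_duality hI 2 i j, stairL_two]

end z

end Groth.Agent.Lib.Helper24TgtDual
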