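import Mathlib
import Groth.Prelude.Def_W4c1hilbpnTgt
import Groth.Agent.Lib.Helper20Monomial
import Groth.Agent.Lib.Helper24TgtPiece
import Groth.Agent.Lib.Helper24TgtPiece2
import Groth.Agent.Lib.Helper24TgtPiece3
import Groth.Agent.Lib.Helper24TgtPiece4
import Groth.Agent.Lib.Helper24TgtPiece5
import Groth.Agent.Lib.Helper24TgtPiece6
import Groth.Agent.Lib.Helper24TgtPiece7
import Groth.Agent.Lib.Helper24TgtPiece8

set_option autoImplicit false
universe u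

namespace Groth.Agent.Lib.Helper24TgtPiece

open W4c1hilbpn MvPolynomial

variable {k : Type*} [Field k]

lemma finrank_tPiece_mI3 (r : ℕ) (α : Fin 3 → ℤ) :
    Module.finrank k ↥(tPiece (mI (Fin 3) k r) α) =
      if (∑ i, α i = -1 ∧ ∑ i, (-α i).toNat ≤ r)
        then Nat.choose (3 + r - (∑ i, (-α i).toNat) - 1) 2 else 0 := by
  by_cases h1 : ∑ i, α i = -1
  · have h3 := finrank_tPiece_mI_of_sum_eq (k := k) r α h1
    rw [Fintype.card_fin] at h3
    rw [h3]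
    by_cases h2 : ∑ i, (-α i).toNat ≤ r
    · rw [if_pos h2, if_pos ⟨h1, h2⟩]
    · rw [if_neg h2, if_neg (fun h => h2 h.2)]
  · rw [if_neg (fun h => h1 h.1)]
    rcases lt_or_gt_of_ne h1 with h | h
    · rw [tPiece_mI_eq_bot_of_sum_le r α (by omega), finrank_bot]
    · rw [tPiece_mI_eq_bot_of_sum_nonneg r α (by omega), finrank_bot]

lemma tPiece_mI3_eq_bot (r : ℕ) (α : Fin 3 → ℤ)
    (h : ¬ (∑ i, α i = -1 ∧ ∑ i, (-α i).toNat ≤ r)) : tPiece (mI (Fin 3) k r) α = ⊥ := by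
  haveI := finite_Tgt (isMonomial_mI (σ := Fin 3) (k := k) r)
  have h1 := finrank_tPiece_mI3 (k := k) r α
  rw [if_neg h] at h1
  exact Submodule.finrank_eq_zero.mp h1

/-- multidegrees of `T(m^r)` negative exactly at `i` -/
def setA (r : ℕ) (i : Fin 3) : Finset (Fin 3 → ℤ) := (Pr r).image (fun p => αP i p.1 p.2)

/-- multidegrees of `T(m^r)` nonnegative exactly at `i` -/
def setA' (r : ℕ) (i : Fin 3) : Finset (Fin 3 → ℤ) := (Pr (r-1)).image (fun p => αQ i p.1 p.2)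

lemma signA {r : ℕ} {i : Fin 3} {α : Fin 3 → ℤ} (h : α ∈ setA r i) (m : Fin 3) :
    α m < 0 ↔ m = i := by
  obtain ⟨p, _, rfl⟩ := Finset.mem_image.mp h
  exact neg_αP i p.1 p.2 m

lemma signA' {r : ℕ} {i : Fin 3} {α : Fin 3 → ℤ} (h : α ∈ setA' r i) (m : Fin 3) :
    α m < 0 ↔ m ≠ i := by
  obtain ⟨p, _, rfl⟩ := Finset.mem_image.mp h
  exact neg_αQ i p.1 p.2 m

lemma memA {r : ℕ} {i : Fin 3} {α : Fin 3 → ℤ} (hpat : ∀ m, α m < 0 ↔ m = i)
    (hsum : ∑ m, α m = -1) (hw : ∑ m, (-α m).toNat ≤ r) : α ∈ setA r i := by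
  have e := eq_αP i α hpat hsum
  have hw' := hw
  rw [e, w_αP] at hw'
  rw [e]
  exact Finset.mem_image.mpr ⟨⟨(α (i+1)).toNat, (α (i+2)).toNat⟩, mem_Pr.mpr hw', rfl⟩

lemma memA' {r : ℕ} {i : Fin 3} {α : Fin 3 → ℤ} (hpat : ∀ m, α m < 0 ↔ m ≠ i)
    (hsum : ∑ m, α m = -1) (hw : ∑ m, (-α m).toNat ≤ r) : α ∈ setA' r i := by
  have e := eq_αQ i α hpat hsum
  have hw' := hw
  rw [e, w_αQ] at hw'
  rw [e]
  refine Finset.mem_image.mpr ⟨⟨(-α (i+1) - 1).toNat, (-α (i+2) - 1).toNat⟩, mem_Pr.mpr ?_, rfl⟩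
  show (-α (i+1) - 1).toNat + (-α (i+2) - 1).toNat + 1 ≤ r - 1
  omega

lemma sumA (r : ℕ) (i : Fin 3) :
    ∑ α ∈ setA r i, Module.finrank k ↥(tPiece (mI (Fin 3) k r) α) = (r+3).choose 4 := by
  unfold setA
  rw [Finset.sum_image (fun x _ y _ h => αP_injective i h)]
  have h1 : ∀ p ∈ Pr r, Module.finrank k ↥(tPiece (mI (Fin 3) k r) (αP i p.1 p.2)) =
      (3 + r - (p.1 + p.2 + 1) - 1).choose 2 := by
    intro p hp
    rw [finrank_tPiece_mI3, if_pos ⟨sum_αP i p.1 p.2, by rw [w_αP]; exact mem_Pr.mp hp⟩, w_αP]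
  rw [Finset.sum_congr rfl h1, sum_Pr]

lemma sumA' (r : ℕ) (i : Fin 3) :
    ∑ α ∈ setA' r i, Module.finrank k ↥(tPiece (mI (Fin 3) k r) α) = (r+2).choose 4 := by
  unfold setA'
  rw [Finset.sum_image (fun x _ y _ h => αQ_injective i h)]
  have h1 : ∀ p ∈ Pr (r-1), Module.finrank k ↥(tPiece (mI (Fin 3) k r) (αQ i p.1 p.2)) =
      (3 + r - (p.1 + p.2 + 2) - 1).choose 2 := by
    intro p hp
    have hp' := mem_Pr.mp hp
    rw [finrank_tPiece_mI3, if_pos ⟨sum_αQ i p.1 p.2, by rw [w_αQ]; omega⟩, w_αQ]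
  rw [Finset.sum_congr rfl h1, sum_Pr']

theorem finrank_sigPiece_single (r : ℕ) (i : Fin 3) :
    Module.finrank k ↥(sigPiece (mI (Fin 3) k r) {i}) = (r+3).choose 4 := by
  unfold sigPiece
  rw [iSup_subtype_eq_biSup (fun α : Fin 3 → ℤ => ∀ m, α m < 0 ↔ m ∈ ({i} : Set (Fin 3)))
    (setA r i) (fun α hα m => signA hα m) ?_, finrank_biSup_tPiece (isMonomial_mI r), sumA]
  intro α hα hnot
  apply tPiece_mI3_eq_bot
  rintro ⟨h1, h2⟩
  exact hnot (memA hα h1 h2)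

theorem finrank_sigPiece_compl (r : ℕ) (i : Fin 3) :
    Module.finrank k ↥(sigPiece (mI (Fin 3) k r) ({i}ᶜ : Set (Fin 3))) = (r+2).choose 4 := by
  unfold sigPiece
  rw [iSup_subtype_eq_biSup (fun α : Fin 3 → ℤ => ∀ m, α m < 0 ↔ m ∈ ({i}ᶜ : Set (Fin 3)))
    (setA' r i) (fun α hα m => signA' hα m) ?_, finrank_biSup_tPiece (isMonomial_mI r), sumA']
  intro α hα hnot
  apply tPiece_mI3_eq_bot
  rintro ⟨h1, h2⟩
  exact hnot (memA' hα h1 h2)

lemma fin3_no_pattern : ∀ i i' : Fin 3, ¬ ∀ m : Fin 3, m = i ↔ m ≠ i' := by decide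

lemma pattern1 (α : Fin 3 → ℤ) (i : Fin 3) (hi : α i < 0) (hj : ¬ α (i+1) < 0)
    (hl : ¬ α (i+2) < 0) : ∀ m, α m < 0 ↔ m = i := by
  intro m
  rcases (fin3_facts i).2.2.2 m with rfl | rfl | rfl
  · exact ⟨fun _ => rfl, fun _ => hi⟩
  · exact ⟨fun h => absurd h hj, fun h => absurd h (fin3_facts i).1⟩
  · exact ⟨fun h => absurd h hl, fun h => absurd h (fin3_facts i).2.1⟩

lemma pattern2 (α : Fin 3 → ℤ) (i : Fin 3) (hi : ¬ α i < 0) (hj : α (i+1) < 0)
    (hl : α (i+2) < 0) : ∀ m, α m < 0 ↔ m ≠ i := by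
  intro m
  rcases (fin3_facts i).2.2.2 m with rfl | rfl | rfl
  · exact ⟨fun h => absurd h hi, fun h => absurd rfl h⟩
  · exact ⟨fun _ => (fin3_facts i).1, fun _ => hj⟩
  · exact ⟨fun _ => (fin3_facts i).2.1, fun _ => hl⟩

/-- all multidegrees carrying tangent vectors of `m^r` -/
def setAll (r : ℕ) : Finset (Fin 3 → ℤ) :=
  (Finset.univ.biUnion (setA r)) ∪ (Finset.univ.biUnion (setA' r))

lemma mem_setAll {r : ℕ} {α : Fin 3 → ℤ} (hsum : ∑ m, α m = -1)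
    (hw : ∑ m, (-α m).toNat ≤ r) : α ∈ setAll r := by
  have hs := hsum
  rw [Fin.sum_univ_three] at hs
  unfold setAll
  rw [Finset.mem_union, Finset.mem_biUnion, Finset.mem_biUnion]
  by_cases h0 : α 0 < 0 <;> by_cases h1 : α 1 < 0 <;> by_cases h2 : α 2 < 0
  · omega
  · exact Or.inr ⟨2, Finset.mem_univ _, memA' (pattern2 α 2 h2 h0 h1) hsum hw⟩
  · exact Or.inr ⟨1, Finset.mem_univ _, memA' (pattern2 α 1 h1 h2 h0) hsum hw⟩
  · exact Or.inl ⟨0, Finset.mem_univ _, memA (pattern1 α 0 h0 h1 h2) hsum hw⟩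
  · exact Or.inr ⟨0, Finset.mem_univ _, memA' (pattern2 α 0 h0 h1 h2) hsum hw⟩
  · exact Or.inl ⟨1, Finset.mem_univ _, memA (pattern1 α 1 h1 h2 h0) hsum hw⟩
  · exact Or.inl ⟨2, Finset.mem_univ _, memA (pattern1 α 2 h2 h0 h1) hsum hw⟩
  · omega

theorem finrank_Tgt_mI3 (r : ℕ) :
    Module.finrank k (Tgt (mI (Fin 3) k r)) = (r+2).choose 2 * (r+1).choose 2 := by
  classical
  have hI := isMonomial_mI (σ := Fin 3) (k := k) r
  have htop : (⨆ α : Fin 3 → ℤ, tPiece (mI (Fin 3) k r) α) =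
      ⨆ α ∈ setAll r, tPiece (mI (Fin 3) k r) α := by
    apply le_antisymm
    · apply iSup_le
      intro α
      by_cases h : α ∈ setAll r
      · exact le_iSup₂_of_le α h le_rfl
      · rw [tPiece_mI3_eq_bot r α (fun hh => h (mem_setAll hh.1 hh.2))]
        exact bot_le
    · apply iSup₂_le
      intro α _
      exact le_iSup (fun α : Fin 3 → ℤ => tPiece (mI (Fin 3) k r) α) α
  rw [← finrank_top k (Tgt (mI (Fin 3) k r)), ← iSup_tPiece_eq_top hI, htop,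
    finrank_biSup_tPiece hI]
  unfold setAll
  have hdisj : Disjoint (Finset.univ.biUnion (setA r)) (Finset.univ.biUnion (setA' r)) := by
    rw [Finset.disjoint_left]
    intro α h1 h2
    rw [Finset.mem_biUnion] at h1 h2
    obtain ⟨i, _, hi⟩ := h1
    obtain ⟨i', _, hi'⟩ := h2
    exact fin3_no_pattern i i' (fun m => (signA hi m).symm.trans (signA' hi' m))
  have hpA : ((Finset.univ : Finset (Fin 3)) : Set (Fin 3)).PairwiseDisjoint (setA r) := by
    intro i _ i' _ hne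
    show Disjoint (setA r i) (setA r i')
    rw [Finset.disjoint_left]
    intro α h1 h2
    exact hne ((signA h2 i).mp ((signA h1 i).mpr rfl))
  have hpA' : ((Finset.univ : Finset (Fin 3)) : Set (Fin 3)).PairwiseDisjoint (setA' r) := by
    intro i _ i' _ hne
    show Disjoint (setA' r i) (setA' r i')
    rw [Finset.disjoint_left]
    intro α h1 h2
    have hn : ¬ α i < 0 := fun hlt => (signA' h1 i).mp hlt rfl
    exact hn ((signA' h2 i).mpr hne)
  rw [Finset.sum_union hdisj, Finset.sum_biUnion hpA, Finset.sum_biUnion hpA']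
  simp only [sumA, sumA', Finset.sum_const, Finset.card_univ, Fintype.card_fin, smul_eq_mul]
  exact choose_identity r

theorem s13442 (k : Type u) [Field k] [Infinite k] (r : ℕ)
    (i : Fin 3) :
    Module.finrank k ↥(sigPiece ((Ideal.span (Set.range (MvPolynomial.X : Fin 3 → MvPolynomial (Fin 3) k))) ^ r) {i}) = Nat.choose (r + 3) 4 ∧
      Module.finrank k ↥(sigPiece ((Ideal.span (Set.range (MvPolynomial.X : Fin 3 → MvPolynomial (Fin 3) k))) ^ r) ({i}ᶜ : Set (Fin 3))) = Nat.choose (r + 2) 4 ∧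
        Module.finrank k (Tgt ((Ideal.span (Set.range (MvPolynomial.X : Fin 3 → MvPolynomial (Fin 3) k))) ^ r)) = Nat.choose (r + 2) 2 * Nat.choose (r + 1) 2 :=
  ⟨finrank_sigPiece_single r i, finrank_sigPiece_compl r i, finrank_Tgt_mI3 r⟩

end Groth.Agent.Lib.Helper24TgtPiece
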