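import Mathlib
import Groth.Prelude.Def_W4c1hilbpnTgt
import Groth.Agent.Lib.Helper20Monomial
import Groth.Agent.Lib.Helper24TgtPiece
import Groth.Agent.Lib.Helper24TgtPiece3
import Groth.Agent.Lib.Helper24TgtPiece4
import Groth.Agent.Lib.Helper24TgtPiece7
import Groth.Agent.Lib.Helper24TgtPiece9
import Groth.Agent.Lib.Helper24Slice
import Groth.Agent.Lib.Helper24TgtParam
import Groth.Agent.Lib.Helper24TgtDir
import Groth.Agent.Lib.Helper24Planar
import Groth.Agent.Lib.Helper24TgtDualP
import Groth.Agent.Lib.Helper24TgtDualN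
import Groth.Agent.Lib.Helper24TgtDualSum

set_option autoImplicit false
universe u

namespace Groth.Agent.Lib.Helper24TgtDual

open W4c1hilbpn MvPolynomial
open Groth.Agent.Lib.Helper20
open Groth.Agent.Lib.Helper24TgtPiece
open Groth.Agent.Lib.Helper24Planar

variable {k : Type*} [Field k]
variable {I : Ideal (MvPolynomial (Fin 3) k)}

section box

variable (hI : IsMonomial I) [Module.Finite k (MvPolynomial (Fin 3) k ⧸ I)]
variable (l : Fin 3) (i j m : ℕ)

include hI in
lemma tPiece_aP_eq_bot_of_box (hm : 1 ≤ m)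
    (h : (stairOf hI l).N ≤ i ∨ (stairOf hI l).N ≤ j) : tPiece I (aP l i j m) = ⊥ := by
  haveI := finite_Tgt hI
  have hK : ((stairOf hI l).conf i j m hm).K k = ⊥ := by
    rw [eq_bot_iff]
    intro c hc
    rw [Submodule.mem_bot]
    funext p
    apply hc.1
    rintro ⟨h1, h2⟩
    apply h2
    have h1' : m ≤ (stairOf hI l).B p.1 p.2 := h1
    show (stairOf hI l).B (p.1 + i) (p.2 + j) + m ≤ (stairOf hI l).B p.1 p.2
    have h0 : (stairOf hI l).B (p.1 + i) (p.2 + j) = 0 := by
      apply (stairOf hI l).hN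
      rcases h with h | h
      · left; omega
      · right; omega
    omega
  have hf := finrank_tPiece_aP hI l i j m hm
  rw [hK, finrank_bot] at hf
  exact Submodule.finrank_eq_zero.mp hf

include hI in
lemma tPiece_aN_eq_bot_of_box (hm : 1 ≤ m)
    (h : (stairOf hI l).N ≤ i ∨ (stairOf hI l).N ≤ j) : tPiece I (aN l i j m) = ⊥ := by
  haveI := finite_Tgt hI
  have hK : ((stairOf hI l).conf i j m hm).K' k = ⊥ := by
    rw [eq_bot_iff]
    intro u hu
    rw [Submodule.mem_bot]
    obtain ⟨hu1, hu2, hu3, hu4, hu5⟩ := hu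
    have hq : ∀ a b, ((stairOf hI l).conf i j m hm).Zq (a, b) → m ≤ (stairOf hI l).B a b := by
      intro a b hz
      have hz' : (stairOf hI l).B (a + i + 1) (b + j + 1) + m ≤ (stairOf hI l).B a b := hz
      omega
    rcases h with h | h
    · -- all squares have their bottom edge in `Zx`
      have hzx : ∀ a b, ((stairOf hI l).conf i j m hm).Zq (a, b) →
          ((stairOf hI l).conf i j m hm).Zx (a, b) := by
        intro a b hz
        show (stairOf hI l).B (a + i + 1) (b + j) + m ≤ (stairOf hI l).B a b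
        have h0 : (stairOf hI l).B (a + i + 1) (b + j) = 0 :=
          (stairOf hI l).hN _ _ (Or.inl (by omega))
        have := hq a b hz
        omega
      funext p
      obtain ⟨a, b⟩ := p
      induction b with
      | zero =>
        by_cases hz : ((stairOf hI l).conf i j m hm).Zq (a, 0)
        · exact hu2 a (hzx a 0 hz)
        · exact hu1 _ hz
      | succ b ih =>
        by_cases hz : ((stairOf hI l).conf i j m hm).Zq (a, b+1)
        · rw [hu3 a b (hzx a (b+1) hz)]; exact ih
        · exact hu1 _ hz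
    · have hzy : ∀ a b, ((stairOf hI l).conf i j m hm).Zq (a, b) →
          ((stairOf hI l).conf i j m hm).Zy (a, b) := by
        intro a b hz
        show (stairOf hI l).B (a + i) (b + j + 1) + m ≤ (stairOf hI l).B a b
        have h0 : (stairOf hI l).B (a + i) (b + j + 1) = 0 :=
          (stairOf hI l).hN _ _ (Or.inr (by omega))
        have := hq a b hz
        omega
      funext p
      obtain ⟨a, b⟩ := p
      induction a with
      | zero =>
        by_cases hz : ((stairOf hI l).conf i j m hm).Zq (0, b)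
        · exact hu4 b (hzy 0 b hz)
        · exact hu1 _ hz
      | succ a ih =>
        by_cases hz : ((stairOf hI l).conf i j m hm).Zq (a+1, b)
        · rw [hu5 a b (hzy (a+1) b hz)]; exact ih
        · exact hu1 _ hz
  have hf := finrank_tPiece_aN hI l i j m hm
  rw [hK, finrank_bot] at hf
  exact Submodule.finrank_eq_zero.mp hf

end box

section sets

variable (hI : IsMonomial I) [Module.Finite k (MvPolynomial (Fin 3) k ⧸ I)]
variable (l : Fin 3)

/-- index set of the relevant triples `(i, j, m-1)` -/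
def idx (S : Stair) : Finset ((ℕ × ℕ) × ℕ) := S.box ×ˢ Finset.range S.M

open Classical in
/-- multidegrees negative exactly at `l` that can carry tangent vectors -/
noncomputable def setP : Finset (Fin 3 → ℤ) :=
  (idx (stairOf hI l)).image (fun x => aP l x.1.1 x.1.2 (x.2 + 1))

open Classical in
/-- multidegrees nonnegative exactly at `l` that can carry tangent vectors -/
noncomputable def setN : Finset (Fin 3 → ℤ) :=
  (idx (stairOf hI l)).image (fun x => aN l x.1.1 x.1.2 (x.2 + 1))

lemma aP_injective : Function.Injective (fun x : (ℕ × ℕ) × ℕ => aP l x.1.1 x.1.2 (x.2 + 1)) := by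
  rintro ⟨⟨i, j⟩, m⟩ ⟨⟨i', j'⟩, m'⟩ h
  have h0 := congrFun h l
  have h1 := congrFun h (l+1)
  have h2 := congrFun h (l+2)
  simp only [aP_l, aP_l1, aP_l2] at h0 h1 h2
  have e0 : m = m' := by omega
  have e1 : i = i' := by omega
  have e2 : j = j' := by omega
  rw [e0, e1, e2]

lemma aN_injective : Function.Injective (fun x : (ℕ × ℕ) × ℕ => aN l x.1.1 x.1.2 (x.2 + 1)) := by
  rintro ⟨⟨i, j⟩, m⟩ ⟨⟨i', j'⟩, m'⟩ h
  have h0 := congrFun h l
  have h1 := congrFun h (l+1)
  have h2 := congrFun h (l+2)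
  simp only [aN_l, aN_l1, aN_l2] at h0 h1 h2
  push_cast at h0
  have e0 : m = m' := by omega
  have e1 : i = i' := by omega
  have e2 : j = j' := by omega
  rw [e0, e1, e2]

lemma sign_aP (i j m : ℕ) (hm : 1 ≤ m) (s : Fin 3) : aP l i j m s < 0 ↔ s = l := by
  obtain ⟨h1, h2, h3⟩ := fin3_ne l
  rcases fin3_cases l s with rfl | rfl | rfl
  · rw [aP_l]; constructor
    · intro _; rfl
    · intro _; omega
  · rw [aP_l1]; constructor
    · intro h; omega
    · intro h; exact absurd h h1
  · rw [aP_l2]; constructor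
    · intro h; omega
    · intro h; exact absurd h h2

lemma sign_aN (i j m : ℕ) (hm : 1 ≤ m) (s : Fin 3) : aN l i j m s < 0 ↔ s ≠ l := by
  obtain ⟨h1, h2, h3⟩ := fin3_ne l
  rcases fin3_cases l s with rfl | rfl | rfl
  · rw [aN_l]; constructor
    · intro h; omega
    · intro h; exact absurd rfl h
  · rw [aN_l1]; constructor
    · intro _; exact h1
    · intro _; omega
  · rw [aN_l2]; constructor
    · intro _; exact h2
    · intro _; omega

lemma signP {α : Fin 3 → ℤ} (h : α ∈ setP hI l) (s : Fin 3) :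
    α s < 0 ↔ s ∈ ({l} : Set (Fin 3)) := by
  classical
  obtain ⟨x, _, rfl⟩ := Finset.mem_image.mp h
  rw [Set.mem_singleton_iff]
  exact sign_aP l _ _ _ (by omega) s

lemma signN {α : Fin 3 → ℤ} (h : α ∈ setN hI l) (s : Fin 3) :
    α s < 0 ↔ s ∈ ({l}ᶜ : Set (Fin 3)) := by
  classical
  obtain ⟨x, _, rfl⟩ := Finset.mem_image.mp h
  rw [Set.mem_compl_iff, Set.mem_singleton_iff]
  exact sign_aN l _ _ _ (by omega) s

lemma mem_box {S : Stair} {i j : ℕ} : (i, j) ∈ S.box ↔ i < S.N ∧ j < S.N := by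
  simp [Stair.box]

include hI in
/-- outside `setP` the pieces of sign pattern `{l}` vanish -/
lemma botP {α : Fin 3 → ℤ} (hpat : ∀ s, α s < 0 ↔ s ∈ ({l} : Set (Fin 3)))
    (hα : α ∉ setP hI l) : tPiece I α = ⊥ := by
  classical
  obtain ⟨h1, h2, h3⟩ := fin3_ne l
  have hl : α l < 0 := (hpat l).mpr rfl
  have hl1 : 0 ≤ α (l+1) := by
    by_contra hc
    push Not at hc
    exact h1 ((hpat (l+1)).mp hc)
  have hl2 : 0 ≤ α (l+2) := by
    by_contra hc
    push Not at hc
    exact h2 ((hpat (l+2)).mp hc)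
  obtain ⟨m, hm⟩ : ∃ m : ℕ, α l = -(m:ℤ) := ⟨(-α l).toNat, by omega⟩
  obtain ⟨i, hi⟩ : ∃ i : ℕ, α (l+1) = (i:ℤ) := ⟨(α (l+1)).toNat, by omega⟩
  obtain ⟨j, hj⟩ : ∃ j : ℕ, α (l+2) = (j:ℤ) := ⟨(α (l+2)).toNat, by omega⟩
  have hα' : α = aP l i j m := by
    funext s
    rcases fin3_cases l s with rfl | rfl | rfl
    · rw [hm, aP_l]
    · rw [hi, aP_l1]
    · rw [hj, aP_l2]
  have hm1 : 1 ≤ m := by omega
  rw [hα']
  by_cases hb : (stairOf hI l).N ≤ i ∨ (stairOf hI l).N ≤ j
  · exact tPiece_aP_eq_bot_of_box hI l i j m hm1 hb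
  · push Not at hb
    apply tPiece_aP_eq_bot hI
    by_contra hcon
    push Not at hcon
    apply hα
    rw [hα']
    unfold setP
    rw [Finset.mem_image]
    refine ⟨((i, j), m - 1), ?_, ?_⟩
    · unfold idx
      rw [Finset.mem_product, mem_box, Finset.mem_range]
      exact ⟨hb, by omega⟩
    · have : m - 1 + 1 = m := by omega
      simp only [this]

include hI in
/-- outside `setN` the pieces of sign pattern `{l}ᶜ` vanish -/
lemma botN {α : Fin 3 → ℤ} (hpat : ∀ s, α s < 0 ↔ s ∈ ({l}ᶜ : Set (Fin 3)))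
    (hα : α ∉ setN hI l) : tPiece I α = ⊥ := by
  classical
  obtain ⟨h1, h2, h3⟩ := fin3_ne l
  have hl : 0 ≤ α l := by
    by_contra hc
    push Not at hc
    exact ((hpat l).mp hc) rfl
  have hl1 : α (l+1) < 0 := (hpat (l+1)).mpr h1
  have hl2 : α (l+2) < 0 := (hpat (l+2)).mpr h2
  obtain ⟨m, hm⟩ : ∃ m : ℕ, α l = (m:ℤ) - 1 := ⟨(α l + 1).toNat, by omega⟩
  obtain ⟨i, hi⟩ : ∃ i : ℕ, α (l+1) = -(i:ℤ) - 1 := ⟨(-α (l+1) - 1).toNat, by omega⟩
  obtain ⟨j, hj⟩ : ∃ j : ℕ, α (l+2) = -(j:ℤ) - 1 := ⟨(-α (l+2) - 1).toNat, by omega⟩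
  have hα' : α = aN l i j m := by
    funext s
    rcases fin3_cases l s with rfl | rfl | rfl
    · rw [hm, aN_l]
    · rw [hi, aN_l1]
    · rw [hj, aN_l2]
  have hm1 : 1 ≤ m := by omega
  rw [hα']
  by_cases hb : (stairOf hI l).N ≤ i ∨ (stairOf hI l).N ≤ j
  · exact tPiece_aN_eq_bot_of_box hI l i j m hm1 hb
  · push Not at hb
    apply tPiece_aN_eq_bot hI
    by_contra hcon
    push Not at hcon
    apply hα
    rw [hα']
    unfold setN
    rw [Finset.mem_image]
    refine ⟨((i, j), m - 1), ?_, ?_⟩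
    · unfold idx
      rw [Finset.mem_product, mem_box, Finset.mem_range]
      exact ⟨hb, by omega⟩
    · have : m - 1 + 1 = m := by omega
      simp only [this]

/-- the total dimension carried by `setP` -/
lemma sumP : ∑ α ∈ setP hI l, Module.finrank k ↥(tPiece I α) =
    ∑ p ∈ (stairOf hI l).box, ∑ m' ∈ Finset.range (stairOf hI l).M,
      Module.finrank k ↥(tPiece I (aP l p.1 p.2 (m'+1))) := by
  classical
  unfold setP idx
  rw [Finset.sum_image (fun x _ y _ h => aP_injective l h), Finset.sum_product]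

lemma sumN : ∑ α ∈ setN hI l, Module.finrank k ↥(tPiece I α) =
    ∑ p ∈ (stairOf hI l).box, ∑ m' ∈ Finset.range (stairOf hI l).M,
      Module.finrank k ↥(tPiece I (aN l p.1 p.2 (m'+1))) := by
  classical
  unfold setN idx
  rw [Finset.sum_image (fun x _ y _ h => aN_injective l h), Finset.sum_product]

/-- the staircase numbers add up to the colength -/
lemma sum_stairL : ∑ p ∈ (stairOf hI l).box, stairL I l p.1 p.2 =
    Module.finrank k (MvPolynomial (Fin 3) k ⧸ I) := by
  classical
  haveI := finite_compl_exps I hI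
  rw [Groth.Agent.Lib.Helper24Slice.finrank_quot_eq_card I hI]
  let T : Finset (Σ _ : ℕ × ℕ, ℕ) :=
    (stairOf hI l).box.sigma (fun p => Finset.range (stairL I l p.1 p.2))
  let f : (Σ _ : ℕ × ℕ, ℕ) → (Fin 3 →₀ ℕ) := fun x => eL l x.1.1 x.1.2 x.2
  have hf : Function.Injective f := by
    rintro ⟨⟨a, b⟩, t⟩ ⟨⟨a', b'⟩, t'⟩ h
    have h0 := congrArg (fun β : Fin 3 →₀ ℕ => β l) h
    have h1 := congrArg (fun β : Fin 3 →₀ ℕ => β (l+1)) h
    have h2 := congrArg (fun β : Fin 3 →₀ ℕ => β (l+2)) h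
    simp only [f, eL_l, eL_l1, eL_l2] at h0 h1 h2
    subst h0 h1 h2
    rfl
  have hmem : ∀ β : Fin 3 →₀ ℕ, β ∉ exps I ↔ β ∈ T.image f := by
    intro β
    rw [Finset.mem_image]
    constructor
    · intro hβ
      rw [eL_eq l β, eL_notMem_iff hI] at hβ
      refine ⟨⟨(β (l+1), β (l+2)), β l⟩, ?_, (eL_eq l β).symm⟩
      rw [Finset.mem_sigma, Finset.mem_range]
      refine ⟨?_, hβ⟩
      rw [mem_box]
      by_contra hcon
      have h0 : stairL I l (β (l+1)) (β (l+2)) = 0 := by
        apply (stairOf hI l).hN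
        by_contra h2
        push Not at h2
        exact hcon h2
      omega
    · rintro ⟨⟨⟨a, b⟩, t⟩, hx, rfl⟩
      rw [Finset.mem_sigma, Finset.mem_range] at hx
      exact (eL_notMem_iff hI l a b t).mpr hx.2
  rw [Nat.card_congr (Equiv.subtypeEquivRight hmem), Nat.card_eq_fintype_card, Fintype.card_coe,
    Finset.card_image_of_injective _ hf, Finset.card_sigma]
  apply Finset.sum_congr rfl
  intro p _
  rw [Finset.card_range]

end sets


section main

variable (hI : IsMonomial I) [Module.Finite k (MvPolynomial (Fin 3) k ⧸ I)]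

theorem finrank_sigPiece_single (l : Fin 3) :
    Module.finrank k ↥(sigPiece I ({l} : Set (Fin 3))) =
      ∑ α ∈ setP hI l, Module.finrank k ↥(tPiece I α) := by
  unfold sigPiece
  rw [iSup_subtype_eq_biSup (fun α : Fin 3 → ℤ => ∀ s, α s < 0 ↔ s ∈ ({l} : Set (Fin 3)))
    (setP hI l) (fun α hα s => signP hI l hα s) (fun α hα hnot => botP hI l hα hnot),
    finrank_biSup_tPiece hI]

theorem finrank_sigPiece_compl (l : Fin 3) :
    Module.finrank k ↥(sigPiece I ({l}ᶜ : Set (Fin 3))) =
      ∑ α ∈ setN hI l, Module.finrank k ↥(tPiece I α) := by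
  unfold sigPiece
  rw [iSup_subtype_eq_biSup (fun α : Fin 3 → ℤ => ∀ s, α s < 0 ↔ s ∈ ({l}ᶜ : Set (Fin 3)))
    (setN hI l) (fun α hα s => signN hI l hα s) (fun α hα hnot => botN hI l hα hnot),
    finrank_biSup_tPiece hI]

include hI in
/-- **Duality for sign-pattern pieces.** -/
theorem finrank_sigPiece_duality (l : Fin 3) :
    Module.finrank k ↥(sigPiece I ({l} : Set (Fin 3))) =
      Module.finrank k ↥(sigPiece I ({l}ᶜ : Set (Fin 3))) +
        Module.finrank k (MvPolynomial (Fin 3) k ⧸ I) := by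
  rw [finrank_sigPiece_single hI, finrank_sigPiece_compl hI, sumP, sumN, ← sum_stairL hI l,
    ← Finset.sum_add_distrib]
  apply Finset.sum_congr rfl
  intro p _
  rw [sum_duality hI l p.1 p.2, add_comm]

/-- all multidegrees that can carry tangent vectors -/
noncomputable def setAll : Finset (Fin 3 → ℤ) :=
  (Finset.univ.biUnion (setP hI)) ∪ (Finset.univ.biUnion (setN hI))

include hI in
lemma bot_of_notMem_setAll {α : Fin 3 → ℤ} (h : α ∉ setAll hI) : tPiece I α = ⊥ := by
  unfold setAll at h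
  rw [Finset.mem_union, Finset.mem_biUnion, Finset.mem_biUnion] at h
  push Not at h
  obtain ⟨hP, hN⟩ := h
  have hsingle : ∀ l : Fin 3, (∀ m, α m < 0 ↔ m = l) → tPiece I α = ⊥ := by
    intro l hpat
    apply botP hI l (fun s => by rw [Set.mem_singleton_iff]; exact hpat s)
    exact hP l (Finset.mem_univ _)
  have hcompl : ∀ l : Fin 3, (∀ m, α m < 0 ↔ m ≠ l) → tPiece I α = ⊥ := by
    intro l hpat
    apply botN hI l (fun s => by
      rw [Set.mem_compl_iff, Set.mem_singleton_iff]; exact hpat s)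
    exact hN l (Finset.mem_univ _)
  by_cases h0 : α 0 < 0 <;> by_cases h1 : α 1 < 0 <;> by_cases h2 : α 2 < 0
  · apply tPiece_eq_bot_of_neg hI
    intro s
    fin_cases s
    · exact h0
    · exact h1
    · exact h2
  · exact hcompl 2 (pattern2 α 2 h2 h0 h1)
  · exact hcompl 1 (pattern2 α 1 h1 h2 h0)
  · exact hsingle 0 (pattern1 α 0 h0 h1 h2)
  · exact hcompl 0 (pattern2 α 0 h0 h1 h2)
  · exact hsingle 1 (pattern1 α 1 h1 h2 h0)
  · exact hsingle 2 (pattern1 α 2 h2 h0 h1)
  · apply tPiece_eq_bot_of_nonneg hI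
    intro s
    fin_cases s
    · exact not_lt.mp h0
    · exact not_lt.mp h1
    · exact not_lt.mp h2

include hI in
/-- the tangent space is the sum of its six nontrivial sign-pattern pieces -/
theorem finrank_Tgt_eq_sum :
    Module.finrank k (Tgt I) =
      ∑ l : Fin 3, (Module.finrank k ↥(sigPiece I ({l} : Set (Fin 3))) +
        Module.finrank k ↥(sigPiece I ({l}ᶜ : Set (Fin 3)))) := by
  classical
  have htop : (⨆ α : Fin 3 → ℤ, tPiece I α) = ⨆ α ∈ setAll hI, tPiece I α := by
    apply le_antisymm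
    · apply iSup_le
      intro α
      by_cases h : α ∈ setAll hI
      · exact le_iSup₂_of_le α h le_rfl
      · rw [bot_of_notMem_setAll hI h]
        exact bot_le
    · apply iSup₂_le
      intro α _
      exact le_iSup (fun α : Fin 3 → ℤ => tPiece I α) α
  rw [← finrank_top k (Tgt I), ← iSup_tPiece_eq_top hI, htop, finrank_biSup_tPiece hI]
  unfold setAll
  have hdisj : Disjoint (Finset.univ.biUnion (setP hI)) (Finset.univ.biUnion (setN hI)) := by
    rw [Finset.disjoint_left]
    intro α h1 h2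
    rw [Finset.mem_biUnion] at h1 h2
    obtain ⟨i, _, hi⟩ := h1
    obtain ⟨i', _, hi'⟩ := h2
    apply fin3_no_pattern i i'
    intro m
    have e1 := signP hI i hi m
    have e2 := signN hI i' hi' m
    rw [Set.mem_singleton_iff] at e1
    rw [Set.mem_compl_iff, Set.mem_singleton_iff] at e2
    exact e1.symm.trans e2
  have hpA : ((Finset.univ : Finset (Fin 3)) : Set (Fin 3)).PairwiseDisjoint (setP hI) := by
    intro i _ i' _ hne
    show Disjoint (setP hI i) (setP hI i')
    rw [Finset.disjoint_left]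
    intro α h1 h2
    have e1 := signP hI i h1 i
    have e2 := signP hI i' h2 i
    rw [Set.mem_singleton_iff] at e1 e2
    exact hne (e2.mp (e1.mpr rfl))
  have hpA' : ((Finset.univ : Finset (Fin 3)) : Set (Fin 3)).PairwiseDisjoint (setN hI) := by
    intro i _ i' _ hne
    show Disjoint (setN hI i) (setN hI i')
    rw [Finset.disjoint_left]
    intro α h1 h2
    have e1 := signN hI i h1 i
    have e2 := signN hI i' h2 i
    rw [Set.mem_compl_iff, Set.mem_singleton_iff] at e1 e2
    have hn : ¬ α i < 0 := fun hlt => e1.mp hlt rfl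
    exact hn (e2.mpr hne)
  rw [Finset.sum_union hdisj, Finset.sum_biUnion hpA, Finset.sum_biUnion hpA',
    ← Finset.sum_add_distrib]
  apply Finset.sum_congr rfl
  intro l _
  rw [finrank_sigPiece_single hI, finrank_sigPiece_compl hI]

theorem s13433 (k : Type u) [Field k] [Infinite k]
    (I : Ideal (MvPolynomial (Fin 3) k)) (hI : IsMonomial I)
    [Module.Finite k (MvPolynomial (Fin 3) k ⧸ I)] (i : Fin 3) :
    Module.finrank k ↥(sigPiece I {i}) =
      Module.finrank k ↥(sigPiece I ({i}ᶜ : Set (Fin 3))) +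
        Module.finrank k (MvPolynomial (Fin 3) k ⧸ I) :=
  finrank_sigPiece_duality hI i

theorem s13437 (k : Type u) [Field k] [Infinite k]
    (I : Ideal (MvPolynomial (Fin 3) k)) (hI : IsMonomial I)
    [Module.Finite k (MvPolynomial (Fin 3) k ⧸ I)] :
    Module.finrank k (Tgt I) % 2 = Module.finrank k (MvPolynomial (Fin 3) k ⧸ I) % 2 := by
  rw [finrank_Tgt_eq_sum hI, Fin.sum_univ_three, finrank_sigPiece_duality hI 0,
    finrank_sigPiece_duality hI 1, finrank_sigPiece_duality hI 2]
  omega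

end main

end Groth.Agent.Lib.Helper24TgtDual
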