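import Mathlib
import Groth.Prelude.Def_W4c1hilbpnTgt
import Groth.Agent.Lib.Helper24PlanarBound
import Groth.Agent.Lib.Helper24TgtDualSig

set_option autoImplicit false
universe u

namespace Groth.Agent.Lib.Helper24TgtDual

open W4c1hilbpn MvPolynomial
open Groth.Agent.Lib.Helper20
open Groth.Agent.Lib.Helper24TgtPiece
open Groth.Agent.Lib.Helper24Planar

namespace Stair

variable (S : Stair)

lemma card_st (i j m : ℕ) (hm : 1 ≤ m) : (S.conf i j m hm).st.card =
    ∑ p ∈ S.box, (if (m ≤ S.B p.1 p.2 ∧ ¬ (S.B (p.1 + i) (p.2 + j) + m ≤ S.B p.1 p.2) ∧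
      S.B (p.1 + i + 1) (p.2 + j) + m ≤ S.B p.1 p.2 ∧
      S.B (p.1 + i) (p.2 + j + 1) + m ≤ S.B p.1 p.2) then 1 else 0) := by
  classical
  unfold Conf.st
  rw [Finset.card_filter]
  apply Finset.sum_congr rfl
  intro p _
  by_cases h : (m ≤ S.B p.1 p.2 ∧ ¬ (S.B (p.1 + i) (p.2 + j) + m ≤ S.B p.1 p.2) ∧
      S.B (p.1 + i + 1) (p.2 + j) + m ≤ S.B p.1 p.2 ∧
      S.B (p.1 + i) (p.2 + j + 1) + m ≤ S.B p.1 p.2)
  · rw [if_pos (show (S.conf i j m hm).Term p from h), if_pos h]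
  · rw [if_neg (show ¬ (S.conf i j m hm).Term p from h), if_neg h]

lemma count_term (M u v w1 w2 : ℕ) (hu : u ≤ M) (hv : v ≤ u) (h1 : w1 ≤ v) (h2 : w2 ≤ v) :
    ∑ m' ∈ Finset.range M, (if (m' + 1 ≤ u ∧ ¬ (v + (m' + 1) ≤ u) ∧ w1 + (m' + 1) ≤ u ∧
      w2 + (m' + 1) ≤ u) then 1 else 0) = v - max w1 w2 := by
  rw [← Finset.card_filter]
  have : (Finset.range M).filter (fun m' => m' + 1 ≤ u ∧ ¬ (v + (m' + 1) ≤ u) ∧ w1 + (m' + 1) ≤ u ∧
      w2 + (m' + 1) ≤ u) = Finset.Ico (u - v) (u - max w1 w2) := by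
    ext x
    simp only [Finset.mem_filter, Finset.mem_range, Finset.mem_Ico]
    omega
  rw [this, Nat.card_Ico]
  omega

/-- the number of terminal vertices over all levels -/
lemma count_st (i j : ℕ) :
    ∑ m' ∈ Finset.range S.M, (S.conf i j (m' + 1) (by omega)).st.card =
    ∑ p ∈ S.box, (S.B (p.1 + i) (p.2 + j) -
      max (S.B (p.1 + i + 1) (p.2 + j)) (S.B (p.1 + i) (p.2 + j + 1))) := by
  simp only [card_st]
  rw [Finset.sum_comm]
  apply Finset.sum_congr rfl
  intro p _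
  exact count_term S.M _ _ _ _ (S.B_le_M _ _) (S.le_xy p.1 p.2 i j) (S.hx _ _) (S.hy _ _)

/-- one-dimensional convolution count -/
lemma conv (N : ℕ) : ∀ (f : ℕ → ℕ), (∀ q, N ≤ q → f q = 0) →
    ∑ i ∈ Finset.range N, ∑ a ∈ Finset.range N, f (a + i) =
      ∑ q ∈ Finset.range N, (q + 1) * f q := by
  induction N with
  | zero => intro f _; simp
  | succ N ih =>
    intro f hf
    have h1 := ih (fun q => f (q + 1)) (fun q hq => hf (q+1) (by omega))
    rw [Finset.sum_range_succ' (fun i => ∑ a ∈ Finset.range (N+1), f (a + i))]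
    have h2 : ∀ i ∈ Finset.range N, ∑ a ∈ Finset.range (N+1), f (a + (i + 1)) =
        ∑ a ∈ Finset.range N, f (a + i + 1) := by
      intro i _
      rw [Finset.sum_range_succ, hf (N + (i+1)) (by omega), add_zero]
      apply Finset.sum_congr rfl
      intro a _
      rw [add_assoc]
    rw [Finset.sum_congr rfl h2, h1]
    rw [Finset.sum_range_succ' (fun q => (q + 1) * f q)]
    have h3 : ∑ a ∈ Finset.range (N+1), f (a + 0) = f 0 + ∑ a ∈ Finset.range N, f (a + 1) := by
      rw [Finset.sum_range_succ' (fun a => f (a + 0))]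
      simp [add_comm]
    rw [h3]
    have h4 : ∑ q ∈ Finset.range N, (q + 1 + 1) * f (q + 1) =
        ∑ q ∈ Finset.range N, (q + 1) * f (q + 1) + ∑ q ∈ Finset.range N, f (q + 1) := by
      rw [← Finset.sum_add_distrib]
      apply Finset.sum_congr rfl
      intro q _
      ring
    rw [h4]
    ring

/-- Abel summation -/
lemma abel (h : ℕ → ℕ) (hanti : ∀ q, h (q + 1) ≤ h q) (n : ℕ) :
    ∑ q ∈ Finset.range n, (q + 1) * (h q - h (q + 1)) + n * h n = ∑ q ∈ Finset.range n, h q := by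
  induction n with
  | zero => simp
  | succ n ih =>
    rw [Finset.sum_range_succ, Finset.sum_range_succ, ← ih]
    have := hanti n
    obtain ⟨d, hd⟩ : ∃ d, h n = h (n+1) + d := ⟨h n - h (n+1), by omega⟩
    rw [hd, Nat.add_sub_cancel_left]
    ring

/-- the row sums of a staircase -/
def rowSum (a : ℕ) : ℕ := ∑ b ∈ Finset.range S.N, S.B a b

/-- the column sums of a staircase -/
def colSum (b : ℕ) : ℕ := ∑ a ∈ Finset.range S.N, S.B a b

lemma rowSum_eq_zero (a : ℕ) (h : S.N ≤ a) : S.rowSum a = 0 := by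
  unfold rowSum
  apply Finset.sum_eq_zero
  intro b _
  exact S.hN a b (Or.inl h)

lemma colSum_eq_zero (b : ℕ) (h : S.N ≤ b) : S.colSum b = 0 := by
  unfold colSum
  apply Finset.sum_eq_zero
  intro a _
  exact S.hN a b (Or.inr h)

/-- total bound when the maximum is attained in the second direction -/
lemma total_x (hss : ∀ a b, S.B (a + 1) b ≤ S.B a (b + 1)) :
    ∑ q ∈ S.box, ∑ p ∈ S.box, (S.B (p.1 + q.1) (p.2 + q.2) -
      max (S.B (p.1 + q.1 + 1) (p.2 + q.2)) (S.B (p.1 + q.1) (p.2 + q.2 + 1))) =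
    ∑ a ∈ Finset.range S.N, (a + 1) * S.rowSum a := by
  unfold box
  have hmax : ∀ a b, max (S.B (a + 1) b) (S.B a (b + 1)) = S.B a (b + 1) :=
    fun a b => max_eq_right (hss a b)
  simp only [hmax, Finset.sum_product]
  -- reorder the sums: i, a outside, j, b inside
  have h1 : ∀ i ∈ Finset.range S.N, ∑ j ∈ Finset.range S.N, ∑ a ∈ Finset.range S.N,
      ∑ b ∈ Finset.range S.N, (S.B (a + i) (b + j) - S.B (a + i) (b + j + 1)) =
      ∑ a ∈ Finset.range S.N, S.rowSum (a + i) := by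
    intro i _
    rw [Finset.sum_comm]
    apply Finset.sum_congr rfl
    intro a _
    rw [conv S.N (fun q => S.B (a + i) q - S.B (a + i) (q + 1))
      (fun q hq => by rw [S.hN (a + i) q (Or.inr hq)]; simp)]
    have h2 := abel (fun q => S.B (a + i) q) (fun q => S.hy _ _) S.N
    rw [S.hN (a + i) S.N (Or.inr le_rfl), mul_zero, add_zero] at h2
    exact h2
  rw [Finset.sum_congr rfl h1]
  exact conv S.N S.rowSum (fun q hq => S.rowSum_eq_zero q hq)

/-- total bound when the maximum is attained in the first direction -/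
lemma total_y (hss : ∀ a b, S.B a (b + 1) ≤ S.B (a + 1) b) :
    ∑ q ∈ S.box, ∑ p ∈ S.box, (S.B (p.1 + q.1) (p.2 + q.2) -
      max (S.B (p.1 + q.1 + 1) (p.2 + q.2)) (S.B (p.1 + q.1) (p.2 + q.2 + 1))) =
    ∑ b ∈ Finset.range S.N, (b + 1) * S.colSum b := by
  unfold box
  have hmax : ∀ a b, max (S.B (a + 1) b) (S.B a (b + 1)) = S.B (a + 1) b :=
    fun a b => max_eq_left (hss a b)
  simp only [hmax, Finset.sum_product]
  rw [Finset.sum_comm]
  have h1 : ∀ j ∈ Finset.range S.N, ∑ i ∈ Finset.range S.N, ∑ a ∈ Finset.range S.N,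
      ∑ b ∈ Finset.range S.N, (S.B (a + i) (b + j) - S.B (a + i + 1) (b + j)) =
      ∑ b ∈ Finset.range S.N, S.colSum (b + j) := by
    intro j _
    have h0 : ∀ i ∈ Finset.range S.N, ∑ a ∈ Finset.range S.N,
        ∑ b ∈ Finset.range S.N, (S.B (a + i) (b + j) - S.B (a + i + 1) (b + j)) =
        ∑ b ∈ Finset.range S.N, ∑ a ∈ Finset.range S.N,
          (S.B (a + i) (b + j) - S.B (a + i + 1) (b + j)) := fun i _ => Finset.sum_comm
    rw [Finset.sum_congr rfl h0, Finset.sum_comm]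
    apply Finset.sum_congr rfl
    intro b _
    rw [conv S.N (fun q => S.B q (b + j) - S.B (q + 1) (b + j))
      (fun q hq => by rw [S.hN q (b + j) (Or.inl hq)]; simp)]
    have h2 := abel (fun q => S.B q (b + j)) (fun q => S.hx _ _) S.N
    rw [S.hN S.N (b + j) (Or.inl le_rfl), mul_zero, add_zero] at h2
    exact h2
  rw [Finset.sum_congr rfl h1]
  exact conv S.N S.colSum (fun q hq => S.colSum_eq_zero q hq)

end Stair

end Groth.Agent.Lib.Helper24TgtDual
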