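import Mathlib
import Groth.Prelude.Def_W4c1hilbpnTgt
import Groth.Agent.Lib.Helper24PlanarBound
import Groth.Agent.Lib.Helper24TgtDualSig
import Groth.Agent.Lib.Helper24TgtBound
import Groth.Agent.Lib.Helper24Slice
import Groth.Agent.Lib.Helper24Slice2
import Groth.Agent.Lib.Helper24Slice3

set_option autoImplicit false
universe u

namespace Groth.Agent.Lib.Helper24TgtDual

open W4c1hilbpn MvPolynomial
open Groth.Agent.Lib.Helper20
open Groth.Agent.Lib.Helper24TgtPiece
open Groth.Agent.Lib.Helper24Planar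
open Groth.Agent.Lib.Helper24Slice

variable {k : Type*} [Field k]
variable {I : Ideal (MvPolynomial (Fin 3) k)}

section bound

variable (hI : IsMonomial I) [Module.Finite k (MvPolynomial (Fin 3) k ⧸ I)]
variable (l : Fin 3)

/-- the staircase bound for the pieces of multidegrees `(i, j, -m)`, `m ≥ 1` -/
theorem sum_aP_le (i j : ℕ) :
    ∑ m' ∈ Finset.range (stairOf hI l).M, Module.finrank k ↥(tPiece I (aP l i j (m'+1))) ≤
      ∑ p ∈ (stairOf hI l).box, ((stairOf hI l).B (p.1 + i) (p.2 + j) -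
        max ((stairOf hI l).B (p.1 + i + 1) (p.2 + j)) ((stairOf hI l).B (p.1 + i) (p.2 + j + 1))) := by
  rw [← Stair.count_st]
  apply Finset.sum_le_sum
  intro m' _
  rw [finrank_tPiece_aP hI l i j (m'+1) (by omega)]
  exact Conf.finrank_K_le _

theorem finrank_sigPiece_single_le :
    Module.finrank k ↥(sigPiece I ({l} : Set (Fin 3))) ≤
      ∑ q ∈ (stairOf hI l).box, ∑ p ∈ (stairOf hI l).box,
        ((stairOf hI l).B (p.1 + q.1) (p.2 + q.2) -
          max ((stairOf hI l).B (p.1 + q.1 + 1) (p.2 + q.2))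
            ((stairOf hI l).B (p.1 + q.1) (p.2 + q.2 + 1))) := by
  rw [finrank_sigPiece_single hI, sumP]
  apply Finset.sum_le_sum
  intro q _
  exact sum_aP_le hI l q.1 q.2

/-- number of standard monomials with prescribed exponent of the variable `s` -/
noncomputable def cnt (I : Ideal (MvPolynomial (Fin 3) k)) (s : Fin 3) (v : ℕ) : ℕ :=
  Nat.card {β : Fin 3 →₀ ℕ // β ∉ exps I ∧ β s = v}

include hI in
lemma stairL_pos_lt {a b : ℕ} (h : 0 < stairL I l a b) :
    a < (stairOf hI l).N ∧ b < (stairOf hI l).N := by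
  by_contra hcon
  have h0 : stairL I l a b = 0 := by
    apply (stairOf hI l).hN
    by_contra h2
    push Not at h2
    exact hcon h2
  omega

lemma rowSum_eq_cnt (a : ℕ) : (stairOf hI l).rowSum a = cnt I (l+1) a := by
  classical
  haveI := finite_compl_exps I hI
  unfold cnt Stair.rowSum
  let T : Finset (Σ _ : ℕ, ℕ) :=
    (Finset.range (stairOf hI l).N).sigma (fun b => Finset.range (stairL I l a b))
  let f : (Σ _ : ℕ, ℕ) → (Fin 3 →₀ ℕ) := fun x => eL l a x.1 x.2
  have hf : Function.Injective f := by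
    rintro ⟨b, t⟩ ⟨b', t'⟩ h
    have h0 := congrArg (fun β : Fin 3 →₀ ℕ => β l) h
    have h2 := congrArg (fun β : Fin 3 →₀ ℕ => β (l+2)) h
    simp only [f, eL_l, eL_l2] at h0 h2
    subst h0 h2
    rfl
  have hmem : ∀ β : Fin 3 →₀ ℕ, (β ∉ exps I ∧ β (l+1) = a) ↔ β ∈ T.image f := by
    intro β
    rw [Finset.mem_image]
    constructor
    · rintro ⟨hβ, ha⟩
      rw [eL_eq l β, eL_notMem_iff hI, ha] at hβ
      refine ⟨⟨β (l+2), β l⟩, ?_, ?_⟩
      · rw [Finset.mem_sigma, Finset.mem_range, Finset.mem_range]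
        exact ⟨(stairL_pos_lt hI l (a := a) (b := β (l+2)) (by omega)).2, hβ⟩
      · show eL l a (β (l+2)) (β l) = β
        rw [← ha]
        exact (eL_eq l β).symm
    · rintro ⟨⟨b, t⟩, hx, rfl⟩
      rw [Finset.mem_sigma, Finset.mem_range, Finset.mem_range] at hx
      exact ⟨(eL_notMem_iff hI l a b t).mpr hx.2, eL_l1 l a b t⟩
  rw [Nat.card_congr (Equiv.subtypeEquivRight hmem), Nat.card_eq_fintype_card, Fintype.card_coe,
    Finset.card_image_of_injective _ hf, Finset.card_sigma]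
  apply Finset.sum_congr rfl
  intro p _
  rw [Finset.card_range]
  rfl

lemma colSum_eq_cnt (b : ℕ) : (stairOf hI l).colSum b = cnt I (l+2) b := by
  classical
  haveI := finite_compl_exps I hI
  unfold cnt Stair.colSum
  let T : Finset (Σ _ : ℕ, ℕ) :=
    (Finset.range (stairOf hI l).N).sigma (fun a => Finset.range (stairL I l a b))
  let f : (Σ _ : ℕ, ℕ) → (Fin 3 →₀ ℕ) := fun x => eL l x.1 b x.2
  have hf : Function.Injective f := by
    rintro ⟨a, t⟩ ⟨a', t'⟩ h
    have h0 := congrArg (fun β : Fin 3 →₀ ℕ => β l) h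
    have h2 := congrArg (fun β : Fin 3 →₀ ℕ => β (l+1)) h
    simp only [f, eL_l, eL_l1] at h0 h2
    subst h0 h2
    rfl
  have hmem : ∀ β : Fin 3 →₀ ℕ, (β ∉ exps I ∧ β (l+2) = b) ↔ β ∈ T.image f := by
    intro β
    rw [Finset.mem_image]
    constructor
    · rintro ⟨hβ, hb⟩
      rw [eL_eq l β, eL_notMem_iff hI, hb] at hβ
      refine ⟨⟨β (l+1), β l⟩, ?_, ?_⟩
      · rw [Finset.mem_sigma, Finset.mem_range, Finset.mem_range]
        exact ⟨(stairL_pos_lt hI l (a := β (l+1)) (b := b) (by omega)).1, hβ⟩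
      · show eL l (β (l+1)) b (β l) = β
        rw [← hb]
        exact (eL_eq l β).symm
    · rintro ⟨⟨a, t⟩, hx, rfl⟩
      rw [Finset.mem_sigma, Finset.mem_range, Finset.mem_range] at hx
      exact ⟨(eL_notMem_iff hI l a b t).mpr hx.2, eL_l2 l a b t⟩
  rw [Nat.card_congr (Equiv.subtypeEquivRight hmem), Nat.card_eq_fintype_card, Fintype.card_coe,
    Finset.card_image_of_injective _ hf, Finset.card_sigma]
  apply Finset.sum_congr rfl
  intro p _
  rw [Finset.card_range]
  rfl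

/-- the count of standard monomials with `x`-exponent `a` is the size of the slice staircase -/
lemma cnt_zero (a : ℕ) : cnt I 0 a = (Ls I a).ncard := by
  unfold cnt
  rw [← Nat.card_coe_set_eq]
  apply Nat.card_congr
  refine Equiv.ofBijective (fun β => (⟨(β.1 1, β.1 2), ?_⟩ : ↥(Ls I a))) ⟨?_, ?_⟩
  · show e3 a (β.1 1) (β.1 2) ∉ exps I
    have h := eq_e3 β.1
    rw [β.2.2] at h
    rw [← h]
    exact β.2.1
  · intro β β' h
    have h1 := congrArg Subtype.val h
    simp only [Prod.mk.injEq] at h1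
    apply Subtype.ext
    apply e3_ext
    · rw [β.2.2, β'.2.2]
    · exact h1.1
    · exact h1.2
  · rintro ⟨⟨b, c⟩, hp⟩
    refine ⟨⟨e3 a b c, hp, e3_zero a b c⟩, ?_⟩
    apply Subtype.ext
    exact Prod.ext (e3_one a b c) (e3_two a b c)

end bound


section ss

variable (hI : IsStronglyStable I) [Module.Finite k (MvPolynomial (Fin 3) k ⧸ I)]

lemma eL_one (a b t : ℕ) : eL 1 a b t = e3 b t a := by
  apply e3_ext
  · rw [e3_zero]; exact eL_l2 1 a b t
  · rw [e3_one]; exact eL_l 1 a b t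
  · rw [e3_two]; exact eL_l1 1 a b t

include hI in
lemma hss_two (a b : ℕ) : stairL I 2 (a+1) b ≤ stairL I 2 a (b+1) := by
  by_contra hcon
  push Not at hcon
  have h1 : eL 2 (a+1) b (stairL I 2 a (b+1)) ∉ exps I := (eL_notMem_iff hI.1 2 _ _ _).mpr hcon
  have h2 : eL 2 a (b+1) (stairL I 2 a (b+1)) ∈ exps I := eL_mem hI.1 2 a (b+1) _ le_rfl
  rw [eL_two] at h1 h2
  exact h1 (swap10 hI h2)

include hI in
lemma hss_one (a b : ℕ) : stairL I 1 a (b+1) ≤ stairL I 1 (a+1) b := by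
  by_contra hcon
  push Not at hcon
  have h1 : eL 1 a (b+1) (stairL I 1 (a+1) b) ∉ exps I := (eL_notMem_iff hI.1 1 _ _ _).mpr hcon
  have h2 : eL 1 (a+1) b (stairL I 1 (a+1) b) ∈ exps I := eL_mem hI.1 1 (a+1) b _ le_rfl
  rw [eL_one] at h1 h2
  exact h1 (swap20 hI h2)

include hI in
/-- slices beyond `r` are empty -/
lemma Ls_eq_empty (r : ℕ) (hd : Nat.card {β : Fin 3 →₀ ℕ // β ∉ exps I} ≤ (r+2).choose 3)
    (a : ℕ) (ha : r ≤ a) : Ls I a = ∅ := by
  classical
  haveI := finite_compl_exps I hI.1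
  by_contra hne
  obtain ⟨⟨b, c⟩, hp⟩ := Set.nonempty_iff_ne_empty.mpr hne
  have hp' : e3 a b c ∉ exps I := hp
  have hfinL : {β : Fin 3 →₀ ℕ | β ∉ exps I}.Finite := Set.finite_coe_iff.mp this
  have hsub : Delta (r+1) ⊆ hfinL.toFinset := by
    intro β hβ
    rw [mem_Delta] at hβ
    rw [Set.Finite.mem_toFinset]
    intro hmem
    apply hp'
    have h1 := push_x hI (β 1 + β 2) β rfl hmem
    have hdeg : β.degree = β 0 + β 1 + β 2 := by
      rw [Finsupp.degree_eq_sum, Fin.sum_univ_three]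
    have e : e3 a b c = Finsupp.single 0 (β 0 + β 1 + β 2) +
        e3 (a - (β 0 + β 1 + β 2)) b c := by
      apply e3_ext
      · rw [Finsupp.add_apply, e3_zero, e3_zero, Finsupp.single_eq_same]; omega
      · rw [Finsupp.add_apply, e3_one, e3_one, Finsupp.single_eq_of_ne (by decide), zero_add]
      · rw [Finsupp.add_apply, e3_two, e3_two, Finsupp.single_eq_of_ne (by decide), zero_add]
    rw [e]
    exact exps_add h1 _
  have h1 := Finset.card_le_card hsub
  rw [card_Delta] at h1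
  have hcard : Nat.card {β : Fin 3 →₀ ℕ // β ∉ exps I} = hfinL.toFinset.card := by
    rw [← Set.ncard_eq_toFinset_card _ hfinL]
    exact Nat.card_coe_set_eq _
  rw [hcard] at hd
  have h2 : (r + 1 + 2).choose 3 = (r+2).choose 2 + (r+2).choose 3 := Nat.choose_succ_succ' (r+2) 2
  have h3 : 0 < (r+2).choose 2 := Nat.choose_pos (by omega)
  omega

lemma sum_weighted (r : ℕ) (f : ℕ → ℕ) :
    ∑ a ∈ Finset.range r, (a + 1) * f a = ∑ j ∈ Finset.range r, ∑ i ∈ Finset.Ico j r, f i := by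
  have h := Finset.sum_Ico_Ico_comm 0 r (fun _ j => f j)
  simp only [Finset.sum_const, Nat.card_Ico, smul_eq_mul, Nat.sub_zero] at h
  rw [Finset.range_eq_Ico, h]

lemma sum_T_Ico (r j : ℕ) (hj : j ≤ r) :
    ∑ i ∈ Finset.Ico j r, (r - i + 1).choose 2 = (r - j + 2).choose 3 := by
  rw [Finset.sum_Ico_eq_sum_range, ← sum_T (r - j)]
  apply Finset.sum_congr rfl
  intro s hs
  rw [Finset.mem_range] at hs
  congr 1
  omega

lemma sum_T2 (r : ℕ) : ∑ j ∈ Finset.range r, (r - j + 2).choose 3 = (r+3).choose 4 := by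
  have h1 : ∀ j ∈ Finset.range r, (r - j + 2).choose 3 = (r - 1 - j + 3).choose 3 := by
    intro j hj
    rw [Finset.mem_range] at hj
    congr 1
    omega
  rw [Finset.sum_congr rfl h1, Finset.sum_range_reflect (fun b => (b+3).choose 3) r, hs3]

include hI in
/-- the weighted slice bound and its equality case -/
theorem weighted_le (r : ℕ) (hd : Nat.card {β : Fin 3 →₀ ℕ // β ∉ exps I} ≤ (r+2).choose 3)
    (N : ℕ) :
    ∑ a ∈ Finset.range N, (a + 1) * (Ls I a).ncard ≤ (r+3).choose 4 ∧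
    (∑ a ∈ Finset.range N, (a + 1) * (Ls I a).ncard = (r+3).choose 4 →
      I = (Ideal.span (Set.range (MvPolynomial.X : Fin 3 → MvPolynomial (Fin 3) k))) ^ r) := by
  classical
  have h1 : ∑ a ∈ Finset.range N, (a + 1) * (Ls I a).ncard ≤
      ∑ a ∈ Finset.range r, (a + 1) * (Ls I a).ncard := by
    rw [← Finset.sum_filter_of_ne (p := fun a => a < r)]
    · apply Finset.sum_le_sum_of_subset
      intro a ha
      rw [Finset.mem_filter] at ha
      exact Finset.mem_range.mpr ha.2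
    · intro a _ hne
      by_contra hge
      push Not at hge
      apply hne
      rw [Ls_eq_empty hI r hd a hge, Set.ncard_empty, mul_zero]
  have h2 : ∀ j ∈ Finset.range r, ∑ i ∈ Finset.Ico j r, (Ls I i).ncard ≤
      ∑ i ∈ Finset.Ico j r, (r - i + 1).choose 2 := by
    intro j hj
    exact slice_sum_le hI r hd j (le_of_lt (Finset.mem_range.mp hj))
  have h3 : ∑ j ∈ Finset.range r, ∑ i ∈ Finset.Ico j r, (r - i + 1).choose 2 = (r+3).choose 4 := by
    rw [← sum_T2 r]
    apply Finset.sum_congr rfl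
    intro j hj
    exact sum_T_Ico r j (le_of_lt (Finset.mem_range.mp hj))
  rw [sum_weighted r] at h1
  have h4 := Finset.sum_le_sum h2
  rw [h3] at h4
  refine ⟨le_trans h1 h4, fun heq => ?_⟩
  have h5 : ∑ j ∈ Finset.range r, ∑ i ∈ Finset.Ico j r, (Ls I i).ncard =
      ∑ j ∈ Finset.range r, ∑ i ∈ Finset.Ico j r, (r - i + 1).choose 2 := by
    rw [h3]; omega
  have h6 := (Finset.sum_eq_sum_iff_of_le h2).mp h5
  apply eq_pow_of_top_slice hI r hd
  intro hr
  have h7 := h6 (r - 1) (Finset.mem_range.mpr (by omega))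
  have e : Finset.Ico (r - 1) r = {r - 1} := by
    ext x
    rw [Finset.mem_Ico, Finset.mem_singleton]
    omega
  rw [e, Finset.sum_singleton, Finset.sum_singleton] at h7
  rw [h7]
  have e2 : r - (r - 1) + 1 = 2 := by omega
  rw [e2]
  decide

end ss


section main

variable (hI : IsStronglyStable I) [Module.Finite k (MvPolynomial (Fin 3) k ⧸ I)]

include hI in
theorem sig_two_le (r : ℕ)
    (hd : Nat.card {β : Fin 3 →₀ ℕ // β ∉ exps I} ≤ (r+2).choose 3) :
    Module.finrank k ↥(sigPiece I ({2} : Set (Fin 3))) ≤ (r+3).choose 4 ∧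
    (Module.finrank k ↥(sigPiece I ({2} : Set (Fin 3))) = (r+3).choose 4 →
      I = (Ideal.span (Set.range (MvPolynomial.X : Fin 3 → MvPolynomial (Fin 3) k))) ^ r) := by
  have h1 := finrank_sigPiece_single_le hI.1 2
  rw [Stair.total_x _ (fun a b => hss_two hI a b)] at h1
  have h2 : ∀ a ∈ Finset.range (stairOf hI.1 2).N,
      (a + 1) * (stairOf hI.1 2).rowSum a = (a + 1) * (Ls I a).ncard := by
    intro a _
    rw [rowSum_eq_cnt hI.1 2 a, ← cnt_zero a]
    rfl
  rw [Finset.sum_congr rfl h2] at h1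
  obtain ⟨h3, h4⟩ := weighted_le hI r hd (stairOf hI.1 2).N
  refine ⟨le_trans h1 h3, fun heq => h4 ?_⟩
  omega

include hI in
theorem sig_one_le (r : ℕ)
    (hd : Nat.card {β : Fin 3 →₀ ℕ // β ∉ exps I} ≤ (r+2).choose 3) :
    Module.finrank k ↥(sigPiece I ({1} : Set (Fin 3))) ≤ (r+3).choose 4 ∧
    (Module.finrank k ↥(sigPiece I ({1} : Set (Fin 3))) = (r+3).choose 4 →
      I = (Ideal.span (Set.range (MvPolynomial.X : Fin 3 → MvPolynomial (Fin 3) k))) ^ r) := by
  have h1 := finrank_sigPiece_single_le hI.1 1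
  rw [Stair.total_y _ (fun a b => hss_one hI a b)] at h1
  have h2 : ∀ b ∈ Finset.range (stairOf hI.1 1).N,
      (b + 1) * (stairOf hI.1 1).colSum b = (b + 1) * (Ls I b).ncard := by
    intro b _
    rw [colSum_eq_cnt hI.1 1 b, ← cnt_zero b]
    rfl
  rw [Finset.sum_congr rfl h2] at h1
  obtain ⟨h3, h4⟩ := weighted_le hI r hd (stairOf hI.1 1).N
  refine ⟨le_trans h1 h3, fun heq => h4 ?_⟩
  omega

lemma set01 : ({0, 1} : Set (Fin 3)) = ({2}ᶜ : Set (Fin 3)) := by
  ext s
  fin_cases s <;> simp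

lemma set02 : ({0, 2} : Set (Fin 3)) = ({1}ᶜ : Set (Fin 3)) := by
  ext s
  fin_cases s <;> simp

theorem s13443 (k : Type u) [Field k] [Infinite k] (r : ℕ)
    (I : Ideal (MvPolynomial (Fin 3) k)) (hI : IsStronglyStable I)
    [Module.Finite k (MvPolynomial (Fin 3) k ⧸ I)]
    (hd : Module.finrank k (MvPolynomial (Fin 3) k ⧸ I) = Nat.choose (r + 2) 3) :
    (Module.finrank k ↥(sigPiece I ({2} : Set (Fin 3))) ≤ Nat.choose (r + 3) 4 ∧
      (Module.finrank k ↥(sigPiece I ({2} : Set (Fin 3))) = Nat.choose (r + 3) 4 ↔ I = (Ideal.span (Set.range (MvPolynomial.X : Fin 3 → MvPolynomial (Fin 3) k))) ^ r)) ∧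
    (Module.finrank k ↥(sigPiece I ({1} : Set (Fin 3))) ≤ Nat.choose (r + 3) 4 ∧
      (Module.finrank k ↥(sigPiece I ({1} : Set (Fin 3))) = Nat.choose (r + 3) 4 ↔ I = (Ideal.span (Set.range (MvPolynomial.X : Fin 3 → MvPolynomial (Fin 3) k))) ^ r)) ∧
    (Module.finrank k ↥(sigPiece I ({0, 1} : Set (Fin 3))) ≤ Nat.choose (r + 2) 4 ∧
      (Module.finrank k ↥(sigPiece I ({0, 1} : Set (Fin 3))) = Nat.choose (r + 2) 4 ↔ I = (Ideal.span (Set.range (MvPolynomial.X : Fin 3 → MvPolynomial (Fin 3) k))) ^ r)) ∧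
    (Module.finrank k ↥(sigPiece I ({0, 2} : Set (Fin 3))) ≤ Nat.choose (r + 2) 4 ∧
      (Module.finrank k ↥(sigPiece I ({0, 2} : Set (Fin 3))) = Nat.choose (r + 2) 4 ↔ I = (Ideal.span (Set.range (MvPolynomial.X : Fin 3 → MvPolynomial (Fin 3) k))) ^ r)) := by
  haveI := finite_compl_exps I hI.1
  have hd' : Nat.card {β : Fin 3 →₀ ℕ // β ∉ exps I} ≤ (r+2).choose 3 := by
    rw [← finrank_quot_eq_card I hI.1, hd]
  obtain ⟨a1, a2⟩ := sig_two_le hI r hd'
  obtain ⟨b1, b2⟩ := sig_one_le hI r hd'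
  have d2 := finrank_sigPiece_duality hI.1 2
  have d1 := finrank_sigPiece_duality hI.1 1
  rw [hd] at d1 d2
  have hpas : (r + 3).choose 4 = (r+2).choose 3 + (r+2).choose 4 := Nat.choose_succ_succ' (r+2) 3
  -- the converse: values for `m^r`
  have conv : I = (Ideal.span (Set.range (MvPolynomial.X : Fin 3 → MvPolynomial (Fin 3) k))) ^ r →
      Module.finrank k ↥(sigPiece I ({2} : Set (Fin 3))) = (r+3).choose 4 ∧
      Module.finrank k ↥(sigPiece I ({1} : Set (Fin 3))) = (r+3).choose 4 := by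
    intro h
    subst h
    exact ⟨Groth.Agent.Lib.Helper24TgtPiece.finrank_sigPiece_single r 2,
      Groth.Agent.Lib.Helper24TgtPiece.finrank_sigPiece_single r 1⟩
  rw [set01, set02]
  refine ⟨⟨a1, a2, fun h => (conv h).1⟩, ⟨b1, b2, fun h => (conv h).2⟩, ⟨by omega, ?_, ?_⟩,
    ⟨by omega, ?_, ?_⟩⟩
  · intro h
    exact a2 (by omega)
  · intro h
    have := (conv h).1
    omega
  · intro h
    exact b2 (by omega)
  · intro h
    have := (conv h).2
    omega

end main

end Groth.Agent.Lib.Helper24TgtDual
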