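import Mathlib
import Groth.Prelude.Def_W4c1hilbpnTgt
import Groth.Agent.Lib.Helper20Monomial
import Groth.Agent.Lib.Helper24TgtPiece
import Groth.Agent.Lib.Helper24TgtPiece2
import Groth.Agent.Lib.Helper24TgtPiece3
import Groth.Agent.Lib.Helper24TgtPiece4
import Groth.Agent.Lib.Helper24TgtPiece7
import Groth.Agent.Lib.Helper24TgtStair

set_option autoImplicit false
universe u

namespace Groth.Agent.Lib.Helper24TgtPiece

open W4c1hilbpn MvPolynomial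
open Groth.Agent.Lib.Helper20

variable {k : Type*} [Field k]
variable {I : Ideal (MvPolynomial (Fin 3) k)}

lemma fin3_cases : ∀ m : Fin 3, m = 0 ∨ m = 1 ∨ m = 2 := by decide

/-- the data attached to the distinguished point of a bounded component -/
structure TopData (I : Ideal (MvPolynomial (Fin 3) k)) (α : Fin 3 → ℤ) (C : BC I α)
    (β₀ : Fin 3 →₀ ℕ) : Prop where
  mem : β₀ ∈ exps I
  reg : pt α β₀ ∈ region I α
  comp : (RG I α).connectedComponentMk ⟨pt α β₀, reg⟩ = C.1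
  nn : ∀ m, 0 ≤ (β₀ m : ℤ) + α m
  ns : shift β₀ α ∉ exps I
  up0 : shift β₀ α + Finsupp.single 0 1 ∈ exps I
  up1 : shift β₀ α + Finsupp.single 1 1 ∈ exps I
  low : β₀ - Finsupp.single 2 1 ∉ exps I

lemma exists_topData (hI : IsMonomial I) [Module.Finite k (MvPolynomial (Fin 3) k ⧸ I)]
    (α : Fin 3 → ℤ) (hα2 : α 2 < 0) (C : BC I α) : ∃ β₀, TopData I α C β₀ := by
  obtain ⟨β₀, h1, hr, h2, h3, h4, h5, h6, h7⟩ := exists_top hI α hα2 C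
  exact ⟨β₀, ⟨h1, hr, h2, h3, h4, h5, h6, h7⟩⟩

lemma TopData.height (hI : IsMonomial I) [Module.Finite k (MvPolynomial (Fin 3) k ⧸ I)]
    {α : Fin 3 → ℤ} (hα2 : α 2 < 0) {C : BC I α} {β₀ : Fin 3 →₀ ℕ} (h : TopData I α C β₀) :
    β₀ 2 = stairZ I (β₀ 0) (β₀ 1) := by
  have hpos : 1 ≤ β₀ 2 := by
    have h2 := h.nn 2
    omega
  have h1 : ¬ (β₀ 2 < stairZ I (β₀ 0) (β₀ 1)) := by
    intro hlt
    have := (e3_notMem_iff hI (β₀ 0) (β₀ 1) (β₀ 2)).mpr hlt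
    rw [← eq_e3] at this
    exact this h.mem
  have h2 : β₀ - Finsupp.single 2 1 = e3 (β₀ 0) (β₀ 1) (β₀ 2 - 1) := by
    apply e3_ext
    · rw [Finsupp.tsub_apply, e3_zero, Finsupp.single_eq_of_ne (by decide), Nat.sub_zero]
    · rw [Finsupp.tsub_apply, e3_one, Finsupp.single_eq_of_ne (by decide), Nat.sub_zero]
    · rw [Finsupp.tsub_apply, e3_two, Finsupp.single_eq_same]
  have h3 := h.low
  rw [h2, e3_notMem_iff hI] at h3
  omega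

/-- the chosen distinguished point -/
noncomputable def topβ (hI : IsMonomial I) [Module.Finite k (MvPolynomial (Fin 3) k ⧸ I)]
    (α : Fin 3 → ℤ) (hα2 : α 2 < 0) (C : BC I α) : Fin 3 →₀ ℕ :=
  Classical.choose (exists_topData hI α hα2 C)

lemma topβ_spec (hI : IsMonomial I) [Module.Finite k (MvPolynomial (Fin 3) k ⧸ I)]
    (α : Fin 3 → ℤ) (hα2 : α 2 < 0) (C : BC I α) : TopData I α C (topβ hI α hα2 C) :=
  Classical.choose_spec (exists_topData hI α hα2 C)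

lemma αc_2_neg (a1 a2 c : ℕ) : αc a1 a2 c 2 < 0 := by
  rw [αc_2]; omega

/-- the injection from bounded components to corner points of the staircase -/
noncomputable def Phi (hI : IsMonomial I) [Module.Finite k (MvPolynomial (Fin 3) k ⧸ I)]
    (a1 a2 M : ℕ) : (Σ c : Fin M, BC I (αc a1 a2 c)) → (Σ _ : ℕ × ℕ, ℕ) := fun x =>
  ⟨(shift (topβ hI (αc a1 a2 x.1) (αc_2_neg a1 a2 x.1) x.2) (αc a1 a2 x.1) 0,
    shift (topβ hI (αc a1 a2 x.1) (αc_2_neg a1 a2 x.1) x.2) (αc a1 a2 x.1) 1),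
    shift (topβ hI (αc a1 a2 x.1) (αc_2_neg a1 a2 x.1) x.2) (αc a1 a2 x.1) 2⟩

lemma shift_αc_0 (a1 a2 c : ℕ) (β : Fin 3 →₀ ℕ) : shift β (αc a1 a2 c) 0 = β 0 + a1 := by
  rw [shift_apply, αc_0]; omega

lemma shift_αc_1 (a1 a2 c : ℕ) (β : Fin 3 →₀ ℕ) : shift β (αc a1 a2 c) 1 = β 1 + a2 := by
  rw [shift_apply, αc_1]; omega

lemma shift_αc_2 (a1 a2 c : ℕ) (β : Fin 3 →₀ ℕ) (h : 0 ≤ (β 2 : ℤ) + αc a1 a2 c 2) :
    shift β (αc a1 a2 c) 2 + (c + 1) = β 2 := by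
  rw [αc_2] at h
  rw [shift_apply, αc_2]; omega

lemma Phi_injective (hI : IsMonomial I) [Module.Finite k (MvPolynomial (Fin 3) k ⧸ I)]
    (a1 a2 M : ℕ) : Function.Injective (Phi (I := I) hI a1 a2 M) := by
  rintro ⟨c, C⟩ ⟨c', C'⟩ h
  have hs := topβ_spec hI (αc a1 a2 c) (αc_2_neg a1 a2 c) C
  have hs' := topβ_spec hI (αc a1 a2 c') (αc_2_neg a1 a2 c') C'
  obtain ⟨β₀, hβ₀⟩ : ∃ β₀, β₀ = topβ hI (αc a1 a2 c) (αc_2_neg a1 a2 c) C := ⟨_, rfl⟩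
  obtain ⟨β₀', hβ₀'⟩ : ∃ β₀', β₀' = topβ hI (αc a1 a2 c') (αc_2_neg a1 a2 c') C' := ⟨_, rfl⟩
  rw [← hβ₀] at hs
  rw [← hβ₀'] at hs'
  have hP : Phi hI a1 a2 M ⟨c, C⟩ = ⟨(shift β₀ (αc a1 a2 c) 0, shift β₀ (αc a1 a2 c) 1),
      shift β₀ (αc a1 a2 c) 2⟩ := by rw [hβ₀]; rfl
  have hP' : Phi hI a1 a2 M ⟨c', C'⟩ = ⟨(shift β₀' (αc a1 a2 c') 0, shift β₀' (αc a1 a2 c') 1),
      shift β₀' (αc a1 a2 c') 2⟩ := by rw [hβ₀']; rfl
  rw [hP, hP'] at h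
  have h01 := congrArg Sigma.fst h
  have h2 : shift β₀ (αc a1 a2 c) 2 = shift β₀' (αc a1 a2 c') 2 := by
    have := (Sigma.mk.inj_iff.mp h).2
    exact eq_of_heq this
  simp only [Prod.mk.injEq] at h01
  obtain ⟨h0, h1⟩ := h01
  rw [shift_αc_0, shift_αc_0] at h0
  rw [shift_αc_1, shift_αc_1] at h1
  have e0 : β₀ 0 = β₀' 0 := by omega
  have e1 : β₀ 1 = β₀' 1 := by omega
  have e2 : β₀ 2 = β₀' 2 := by
    rw [hs.height hI (αc_2_neg a1 a2 c), hs'.height hI (αc_2_neg a1 a2 c'), e0, e1]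
  have hββ : β₀ = β₀' := e3_ext e0 e1 e2
  have g2 := shift_αc_2 a1 a2 c β₀ (hs.nn 2)
  have g2' := shift_αc_2 a1 a2 c' β₀' (hs'.nn 2)
  have hc : (c : ℕ) = (c' : ℕ) := by omega
  have hcc : c = c' := Fin.ext hc
  subst hcc
  subst hββ
  have hCC : C = C' := by
    apply Subtype.ext
    rw [← hs.comp, ← hs'.comp]
  rw [hCC]

end Groth.Agent.Lib.Helper24TgtPiece
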