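import Mathlib
import Groth.Prelude.Def_W4c1hilbpnTgt
import Groth.Agent.Lib.Helper20Monomial
import Groth.Agent.Lib.Helper24TgtPiece
import Groth.Agent.Lib.Helper24TgtPiece2
import Groth.Agent.Lib.Helper24TgtPiece3
import Groth.Agent.Lib.Helper24TgtStair
import Groth.Agent.Lib.Helper24TgtStair2
import Groth.Agent.Lib.Helper24Slice2

set_option autoImplicit false
universe u

namespace Groth.Agent.Lib.Helper24TgtVar

open W4c1hilbpn MvPolynomial
open Groth.Agent.Lib.Helper20
open Groth.Agent.Lib.Helper24TgtPiece
open Groth.Agent.Lib.Helper24Slice

section general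

variable {σ : Type*} {k : Type*} [Field k] [Fintype σ]
variable {I : Ideal (MvPolynomial σ k)} {α : σ → ℤ}

/-- a socle monomial reached from a minimal generator gives a nonzero tangent vector -/
lemma tPiece_ne_bot_of_isolated (hI : IsMonomial I) {β : σ →₀ ℕ} (hβ : β ∈ exps I)
    (hnn : ∀ i, 0 ≤ (β i : ℤ) + α i) (hs : shift β α ∉ exps I)
    (hup : ∀ i, shift β α + Finsupp.single i 1 ∈ exps I)
    (hdown : ∀ (i : σ) (β' : σ →₀ ℕ), β = β' + Finsupp.single i 1 → β' ∉ exps I) :
    tPiece I α ≠ ⊥ := by
  classical
  obtain ⟨F, hFdef⟩ : ∃ F : (σ → ℤ) → k, F = fun γ => if γ = pt α β then 1 else 0 := ⟨_, rfl⟩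
  have hiso : ∀ γ ∈ region I α, ¬ (stepGraph σ).Adj (pt α β) γ := by
    intro γ hγ hadj
    obtain ⟨β', hβ', hγβ'⟩ := hγ.1
    have hγ' : γ = pt α β' := hγβ'
    subst hγ'
    obtain ⟨i, h | h⟩ := adj_pt_cases α hadj
    · subst h
      refine (mem_region_pt hβ').mp hγ ⟨fun j => ?_, ?_⟩
      · have := hnn j
        simp only [Finsupp.add_apply, Nat.cast_add]
        omega
      · rw [shift_add_of_nonneg α _ hnn]
        exact hup i
    · exact hdown i β' h hβ'
  have hF : Good I α F := by
    constructor
    · intro γ γ' hγ hγ' hadj
      rw [hFdef]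
      simp only
      by_cases h1 : γ = pt α β
      · subst h1
        exact absurd hadj (hiso γ' hγ')
      · by_cases h2 : γ' = pt α β
        · subst h2
          exact absurd hadj.symm (hiso γ hγ)
        · rw [if_neg h1, if_neg h2]
    · intro γ hγ hneg
      obtain ⟨i, hi⟩ := hneg
      rw [hFdef]
      simp only
      rw [if_neg]
      intro h
      subst h
      have := hnn i
      simp only [pt] at hi
      omega
  intro hbot
  have hmem := mkTgt_mem hI F hF
  rw [hbot, Submodule.mem_bot] at hmem
  have h1 := mkTgt_apply hI F hF β hβ
  rw [hmem, LinearMap.zero_apply] at h1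
  unfold gF at h1
  have hF1 : F (pt α β) = 1 := by rw [hFdef]; simp
  rw [hF1, one_smul] at h1
  exact hs (mk_monomial_eq_zero.mp h1.symm)

/-- if a variable lies in `I`, multidegrees positive in that variable carry no tangent vectors -/
lemma tPiece_eq_bot_of_var_pos (hI : IsMonomial I) {j0 : σ}
    (hx : ∀ β : σ →₀ ℕ, 1 ≤ β j0 → β ∈ exps I) (h0 : 0 < α j0) : tPiece I α = ⊥ := by
  rw [eq_bot_iff]
  intro φ hφ
  rw [Submodule.mem_bot]
  obtain ⟨F, hF, hFe⟩ := exists_good_of_mem hφ
  apply ext_monomial hI
  intro β hβ
  rw [hFe, LinearMap.zero_apply]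
  unfold gF
  by_cases hnn : ∀ i, 0 ≤ (β i : ℤ) + α i
  · have hmem : shift β α ∈ exps I := by
      apply hx
      rw [shift_apply]
      have := hnn j0
      omega
    rw [mk_monomial_eq_zero.mpr hmem, smul_zero]
  · push Not at hnn
    have hr : pt α β ∈ region I α := by
      rw [mem_region_pt hβ]
      rintro ⟨h1, -⟩
      obtain ⟨i, hi⟩ := hnn
      exact absurd (h1 i) (not_le.mpr hi)
    rw [hF.neg _ hr hnn, zero_smul]

/-- if a variable lies in `I`, multidegrees negative in that variable and in another one carry
no tangent vectors -/
lemma tPiece_eq_bot_of_var_neg (hI : IsMonomial I) {j0 j : σ} (hj : j ≠ j0)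
    (hx : ∀ β : σ →₀ ℕ, 1 ≤ β j0 → β ∈ exps I) (h0 : α j0 < 0) (hjn : α j < 0) :
    tPiece I α = ⊥ := by
  classical
  rw [eq_bot_iff]
  intro φ hφ
  rw [Submodule.mem_bot]
  obtain ⟨F, hF, hFe⟩ := exists_good_of_mem hφ
  have hZ : ∀ n : ℕ, ∀ β, β ∈ exps I → pt α β ∈ region I α → β j = n → F (pt α β) = 0 := by
    intro n
    induction n with
    | zero =>
      intro β hβ hr hn
      apply hF.neg _ hr
      refine ⟨j, ?_⟩
      show (β j : ℤ) + α j < 0
      rw [hn]
      simpa using hjn
    | succ n ih =>
      intro β hβ hr hn
      by_cases hnn : ∀ i, 0 ≤ (β i : ℤ) + α i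
      · have hβ0 : 1 ≤ β j0 := by
          have := hnn j0
          omega
        obtain ⟨B', hB'def⟩ : ∃ B', B' = β - Finsupp.single j 1 := ⟨_, rfl⟩
        have hB'add : B' + Finsupp.single j 1 = β := by
          rw [hB'def]
          apply tsub_add_cancel_of_le
          rw [Finsupp.single_le_iff]
          omega
        have hB'j : B' j = n := by
          have h3 : B' j + (Finsupp.single j 1 : σ →₀ ℕ) j = β j := by
            rw [← Finsupp.add_apply, hB'add]
          simp only [Finsupp.single_eq_same] at h3
          omega
        have hB'0 : B' j0 = β j0 := by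
          have h3 : B' j0 + (Finsupp.single j 1 : σ →₀ ℕ) j0 = β j0 := by
            rw [← Finsupp.add_apply, hB'add]
          simp only [Finsupp.single_apply, if_neg hj, add_zero] at h3
          exact h3
        have hB'mem : B' ∈ exps I := hx B' (by omega)
        have hr' : pt α B' ∈ region I α := by
          rw [mem_region_pt hB'mem]
          rintro ⟨h1, h2⟩
          refine (mem_region_pt hβ).mp hr ⟨hnn, ?_⟩
          rw [← hB'add, shift_add_of_nonneg α _ h1]
          exact exps_add h2 _
        have hrt' : pt α (B' + Finsupp.single j 1) ∈ region I α := by rw [hB'add]; exact hr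
        have hadj := hF.adj _ _ hr' hrt' (adj_step α B' j)
        rw [hB'add] at hadj
        rw [← hadj]
        exact ih B' hB'mem hr' hB'j
      · push Not at hnn
        exact hF.neg _ hr hnn
  apply ext_monomial hI
  intro β hβ
  rw [hFe, LinearMap.zero_apply]
  unfold gF
  by_cases hr : pt α β ∈ region I α
  · rw [hZ _ β hβ hr rfl, zero_smul]
  · rw [mem_region_pt hβ, not_not] at hr
    rw [mk_monomial_eq_zero.mpr hr.2, smul_zero]

/-- nonpositive multidegrees with two negative entries carry no tangent vectors
(finite colength) -/
lemma tPiece_eq_bot_of_two_neg (hI : IsMonomial I) [Module.Finite k (MvPolynomial σ k ⧸ I)]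
    (hα : ∀ i, α i ≤ 0) {j1 j2 : σ} (hj : j1 ≠ j2) (hα1 : α j1 < 0) (hα2 : α j2 < 0) :
    tPiece I α = ⊥ := by
  classical
  rw [eq_bot_iff]
  intro φ hφ
  rw [Submodule.mem_bot]
  obtain ⟨F, hF, hFe⟩ := exists_good_of_mem hφ
  -- the key vanishing claim
  have hZ : ∀ m : ℕ, ∀ β, β ∈ exps I → (∀ i, 0 ≤ (β i : ℤ) + α i) → pt α β ∈ region I α →
      (β j2 : ℤ) + α j2 = m → F (pt α β) = 0 := by
    intro m
    induction m using Nat.strong_induction_on with
    | _ m IH =>
      intro β hβ hnn hr hm
      obtain ⟨T, hT⟩ := exists_add_single_mem hI (shift β α) j1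
      have hP : ∀ d t : ℕ, t + d = T → pt α (β + Finsupp.single j1 t) ∈ region I α →
          F (pt α (β + Finsupp.single j1 t)) = 0 := by
        intro d
        induction d with
        | zero =>
          intro t ht hrt
          exfalso
          rw [add_zero] at ht
          subst ht
          refine (mem_region_pt (exps_add hβ _)).mp hrt ⟨fun i => ?_, ?_⟩
          · have := hnn i
            simp only [Finsupp.add_apply, Nat.cast_add]
            omega
          · rw [shift_add_of_nonneg α _ hnn]
            exact hT
        | succ d ihd =>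
          intro t ht hrt
          have hB : β + Finsupp.single j1 t ∈ exps I := exps_add hβ _
          have hBnn : ∀ i, 0 ≤ (((β + Finsupp.single j1 t : σ →₀ ℕ) i : ℕ) : ℤ) + α i := by
            intro i
            have := hnn i
            simp only [Finsupp.add_apply, Nat.cast_add]
            omega
          have e1 : β + Finsupp.single j1 (t+1) = β + Finsupp.single j1 t + Finsupp.single j1 1 := by
            rw [add_assoc, ← Finsupp.single_add]
          by_cases hr' : pt α (β + Finsupp.single j1 t + Finsupp.single j1 1) ∈ region I α
          · rw [hF.adj _ _ hrt hr' (adj_step α _ j1)]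
            rw [← e1] at hr' ⊢
            exact ihd (t+1) (by omega) hr'
          · rw [mem_region_pt (exps_add hB _), not_not] at hr'
            obtain ⟨B, hBdef⟩ : ∃ B, B = β + Finsupp.single j1 t := ⟨_, rfl⟩
            rw [← hBdef] at hB hBnn hr' hrt ⊢
            have hBj2 : B j2 = β j2 := by
              rw [hBdef, Finsupp.add_apply, Finsupp.single_apply, if_neg hj, add_zero]
            have hB2pos : 1 ≤ B j2 := by
              have h1 := hBnn j2
              omega
            obtain ⟨B', hB'def⟩ : ∃ B', B' = B - Finsupp.single j2 1 := ⟨_, rfl⟩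
            have hB'add : B' + Finsupp.single j2 1 = B := by
              rw [hB'def]
              apply tsub_add_cancel_of_le
              rw [Finsupp.single_le_iff]
              exact hB2pos
            have hle : shift (B + Finsupp.single j1 1) α ≤ B' := by
              intro i
              have h1 := hα i
              have h3 : B' i + (Finsupp.single j2 1 : σ →₀ ℕ) i = B i := by
                rw [← Finsupp.add_apply, hB'add]
              simp only [shift_apply, Finsupp.add_apply, Finsupp.single_apply, Nat.cast_add] at h3 ⊢
              by_cases hi1 : j1 = i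
              · have hi2 : ¬ j2 = i := fun h => hj (hi1.trans h.symm)
                have h1' : α i < 0 := hi1 ▸ hα1
                simp only [if_pos hi1, if_neg hi2] at h3 ⊢
                omega
              · simp only [if_neg hi1] at h3 ⊢
                by_cases hi2 : j2 = i
                · have h2' : α i < 0 := hi2 ▸ hα2
                  simp only [if_pos hi2] at h3
                  omega
                · simp only [if_neg hi2] at h3
                  omega
            have hB'mem : B' ∈ exps I := by
              rw [← add_tsub_cancel_of_le hle]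
              exact exps_add hr'.2 _
            have hr'' : pt α B' ∈ region I α := by
              rw [mem_region_pt hB'mem]
              rintro ⟨h1, h2⟩
              refine (mem_region_pt hB).mp hrt ⟨hBnn, ?_⟩
              rw [← hB'add, shift_add_of_nonneg α _ h1]
              exact exps_add h2 _
            have hrt' : pt α (B' + Finsupp.single j2 1) ∈ region I α := by rw [hB'add]; exact hrt
            have hadj := hF.adj _ _ hr'' hrt' (adj_step α B' j2)
            rw [hB'add] at hadj
            rw [← hadj]
            have hB'j2 : (B' j2 : ℤ) + 1 = B j2 := by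
              have h3 : B' j2 + (Finsupp.single j2 1 : σ →₀ ℕ) j2 = B j2 := by
                rw [← Finsupp.add_apply, hB'add]
              simp only [Finsupp.single_eq_same] at h3
              omega
            by_cases hm0 : m = 0
            · apply hF.neg _ hr''
              refine ⟨j2, ?_⟩
              show (B' j2 : ℤ) + α j2 < 0
              rw [hBj2] at hB'j2
              omega
            · refine IH (m - 1) (by omega) B' hB'mem ?_ hr'' ?_
              · intro i
                by_cases hi : i = j2
                · subst hi
                  rw [hBj2] at hB'j2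
                  omega
                · have h3 : B' i + (Finsupp.single j2 1 : σ →₀ ℕ) i = B i := by
                    rw [← Finsupp.add_apply, hB'add]
                  simp only [Finsupp.single_apply, if_neg (Ne.symm hi), add_zero] at h3
                  have := hBnn i
                  rw [h3]
                  exact this
              · rw [hBj2] at hB'j2
                omega
      have h0 := hP T 0 (zero_add T)
      simp only [Finsupp.single_zero, add_zero] at h0
      exact h0 hr
  apply ext_monomial hI
  intro β hβ
  rw [hFe, LinearMap.zero_apply]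
  unfold gF
  by_cases hr : pt α β ∈ region I α
  · by_cases hnn : ∀ i, 0 ≤ (β i : ℤ) + α i
    · have hm : (β j2 : ℤ) + α j2 = ((β j2 : ℤ) + α j2).toNat := (Int.toNat_of_nonneg (hnn j2)).symm
      rw [hZ _ β hβ hnn hr hm, zero_smul]
    · push Not at hnn
      rw [hF.neg _ hr hnn, zero_smul]
  · rw [mem_region_pt hβ, not_not] at hr
    rw [mk_monomial_eq_zero.mpr hr.2, smul_zero]

lemma exists_min_nat {p : ℕ → Prop} (h : ∃ n, p n) : ∃ n, p n ∧ ∀ m < n, ¬ p m := by
  classical
  exact ⟨Nat.find h, Nat.find_spec h, fun m hm => Nat.find_min h hm⟩

end general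

end Groth.Agent.Lib.Helper24TgtVar
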