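import Mathlib
import Groth.Prelude.Def_W4c1hilbpnTgt
import Groth.Agent.Lib.Helper20Monomial
import Groth.Agent.Lib.Helper24TgtPiece
import Groth.Agent.Lib.Helper24TgtPiece2
import Groth.Agent.Lib.Helper24TgtPiece3
import Groth.Agent.Lib.Helper24TgtStair
import Groth.Agent.Lib.Helper24TgtStair2
import Groth.Agent.Lib.Helper24Slice2
import Groth.Agent.Lib.Helper24TgtVar

set_option autoImplicit false
universe u

namespace Groth.Agent.Lib.Helper24TgtVar2

open W4c1hilbpn MvPolynomial
open Groth.Agent.Lib.Helper20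
open Groth.Agent.Lib.Helper24TgtPiece
open Groth.Agent.Lib.Helper24Slice
open Groth.Agent.Lib.Helper24TgtVar

variable {k : Type*} [Field k] {I : Ideal (MvPolynomial (Fin 3) k)}

lemma e3_mono {a b c a' b' c' : ℕ} (h : e3 a b c ∈ exps I) (ha : a ≤ a') (hb : b ≤ b')
    (hc : c ≤ c') : e3 a' b' c' ∈ exps I := by
  have e : e3 a' b' c' = e3 a b c + e3 (a' - a) (b' - b) (c' - c) := by
    apply e3_ext
    · rw [Finsupp.add_apply, e3_zero, e3_zero, e3_zero]; omega
    · rw [Finsupp.add_apply, e3_one, e3_one, e3_one]; omega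
    · rw [Finsupp.add_apply, e3_two, e3_two, e3_two]; omega
  rw [e]
  exact exps_add h _

lemma coords_of_eq_add_single {β β' : Fin 3 →₀ ℕ} {i : Fin 3} (h : β = β' + Finsupp.single i 1) :
    β 0 = β' 0 + (if i = 0 then 1 else 0) ∧ β 1 = β' 1 + (if i = 1 then 1 else 0) ∧
      β 2 = β' 2 + (if i = 2 then 1 else 0) := by
  subst h
  refine ⟨?_, ?_, ?_⟩ <;> simp [Finsupp.single_apply]

theorem s13439 (k : Type u) [Field k] [Infinite k]
    (I : Ideal (MvPolynomial (Fin 3) k)) (hI : IsStronglyStable I) [Module.Finite k (MvPolynomial (Fin 3) k ⧸ I)] :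
    (MvPolynomial.X 0 : MvPolynomial (Fin 3) k) ∈ I ↔
      (sigPiece I ({1, 2} : Set (Fin 3)) = ⊥ ∧ sigPiece I ({0, 2} : Set (Fin 3)) = ⊥ ∧
        sigPiece I ({0, 1} : Set (Fin 3)) = ⊥) := by
  constructor
  · intro hx0
    have hx0' : (Finsupp.single 0 1 : Fin 3 →₀ ℕ) ∈ exps I := hx0
    have hx : ∀ β : Fin 3 →₀ ℕ, 1 ≤ β 0 → β ∈ exps I := by
      intro β hβ
      have e : β = Finsupp.single 0 1 + (β - Finsupp.single 0 1) := by
        rw [add_tsub_cancel_of_le]
        rw [Finsupp.single_le_iff]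
        exact hβ
      rw [e]
      exact exps_add hx0' _
    refine ⟨?_, ?_, ?_⟩
    · rw [sigPiece, iSup_eq_bot]
      rintro ⟨α, hα⟩
      show tPiece I α = ⊥
      have h0 : 0 ≤ α 0 := by
        by_contra hcon
        have := (hα 0).mp (not_le.mp hcon)
        simp at this
      have h1 : α 1 < 0 := (hα 1).mpr (by simp)
      have h2 : α 2 < 0 := (hα 2).mpr (by simp)
      rcases h0.lt_or_eq with h | h
      · exact tPiece_eq_bot_of_var_pos hI.1 hx h
      · refine tPiece_eq_bot_of_two_neg hI.1 ?_ (by decide : (1 : Fin 3) ≠ 2) h1 h2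
        intro i
        rcases fin3_cases i with rfl | rfl | rfl <;> omega
    · rw [sigPiece, iSup_eq_bot]
      rintro ⟨α, hα⟩
      show tPiece I α = ⊥
      have h0 : α 0 < 0 := (hα 0).mpr (by simp)
      have h2 : α 2 < 0 := (hα 2).mpr (by simp)
      exact tPiece_eq_bot_of_var_neg hI.1 (by decide : (2 : Fin 3) ≠ 0) hx h0 h2
    · rw [sigPiece, iSup_eq_bot]
      rintro ⟨α, hα⟩
      show tPiece I α = ⊥
      have h0 : α 0 < 0 := (hα 0).mpr (by simp)
      have h1 : α 1 < 0 := (hα 1).mpr (by simp)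
      exact tPiece_eq_bot_of_var_neg hI.1 (by decide : (1 : Fin 3) ≠ 0) hx h0 h1
  · rintro ⟨-, -, h3⟩
    by_contra hx0
    have hx1 : e3 1 0 0 ∉ exps I := by
      intro h
      apply hx0
      have e : e3 1 0 0 = Finsupp.single 0 1 := by
        apply e3_ext <;> simp [e3_zero, e3_one, e3_two]
      rw [e] at h
      exact h
    -- the least power of x in I
    obtain ⟨a, ha, hamin⟩ := exists_min_nat (p := fun T => e3 T 0 0 ∈ exps I) (by
      obtain ⟨T, hT⟩ := exists_add_single_mem hI.1 (0 : Fin 3 →₀ ℕ) 0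
      refine ⟨T, ?_⟩
      have e : e3 T 0 0 = 0 + Finsupp.single 0 T := by
        apply e3_ext <;> simp [e3_zero, e3_one, e3_two]
      show e3 T 0 0 ∈ exps I
      rw [e]
      exact hT)
    have ha2 : 2 ≤ a := by
      by_contra hlt
      exact hx1 (e3_mono ha (by omega) le_rfl le_rfl)
    obtain ⟨a', rfl⟩ : ∃ a', a = a' + 1 := ⟨a - 1, by omega⟩
    have ha'1 : 1 ≤ a' := by omega
    -- the least power of z in I
    obtain ⟨g, hg, hgmin⟩ := exists_min_nat (p := fun T => e3 0 0 T ∈ exps I) (by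
      obtain ⟨T, hT⟩ := exists_add_single_mem hI.1 (0 : Fin 3 →₀ ℕ) 2
      refine ⟨T, ?_⟩
      have e : e3 0 0 T = 0 + Finsupp.single 2 T := by
        apply e3_ext <;> simp [e3_zero, e3_one, e3_two]
      show e3 0 0 T ∈ exps I
      rw [e]
      exact hT)
    have hg1 : 1 ≤ g := by
      by_contra hlt
      exact hx1 (e3_mono hg (by omega) le_rfl (by omega))
    obtain ⟨g', rfl⟩ : ∃ g', g = g' + 1 := ⟨g - 1, by omega⟩
    -- the least t with x^a' y z^t in I
    have hex : e3 a' 1 g' ∈ exps I := by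
      have h1 : e3 a' 0 (g' + 1) ∈ exps I := e3_mono hg (by omega) le_rfl le_rfl
      exact swap21 hI h1
    obtain ⟨t, ht, htmin⟩ := exists_min_nat (p := fun T => e3 a' 1 T ∈ exps I) ⟨g', hex⟩
    have htg : t ≤ g' := by
      by_contra hlt
      exact htmin g' (by omega) hex
    have hA : e3 a' 0 t ∉ exps I := by
      intro h
      rcases Nat.eq_zero_or_pos t with h0 | h0
      · rw [h0] at h
        exact hamin a' (by omega) h
      · obtain ⟨s, rfl⟩ : ∃ s, t = s + 1 := ⟨t - 1, by omega⟩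
        exact htmin s (by omega) (swap21 hI h)
    obtain ⟨α, hαdef⟩ : ∃ α : Fin 3 → ℤ, α = ![-(a' : ℤ), -1, (g' : ℤ) - t] := ⟨_, rfl⟩
    have hα0 : α 0 = -(a' : ℤ) := by rw [hαdef]; rfl
    have hα1 : α 1 = -1 := by rw [hαdef]; rfl
    have hα2 : α 2 = (g' : ℤ) - t := by rw [hαdef]; rfl
    have hpat : ∀ i, α i < 0 ↔ i ∈ ({0, 1} : Set (Fin 3)) := by
      intro i
      rcases fin3_cases i with rfl | rfl | rfl
      · refine ⟨fun _ => by simp, fun _ => by rw [hα0]; omega⟩
      · refine ⟨fun _ => by simp, fun _ => by rw [hα1]; omega⟩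
      · refine ⟨fun h => ?_, fun h => ?_⟩
        · exfalso
          rw [hα2] at h
          omega
        · exfalso
          simp at h
    have hle : tPiece I α ≤ sigPiece I ({0, 1} : Set (Fin 3)) :=
      le_iSup (fun α : {α : Fin 3 → ℤ // ∀ i, α i < 0 ↔ i ∈ ({0, 1} : Set (Fin 3))} =>
        tPiece I α.1) ⟨α, hpat⟩
    rw [h3, le_bot_iff] at hle
    have hnn : ∀ i, 0 ≤ ((e3 a' 1 t i : ℕ) : ℤ) + α i := by
      intro i
      rcases fin3_cases i with rfl | rfl | rfl
      · rw [e3_zero, hα0]; omega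
      · rw [e3_one, hα1]; omega
      · rw [e3_two, hα2]; omega
    have hshift : shift (e3 a' 1 t) α = e3 0 0 g' := by
      apply e3_ext
      · rw [shift_apply, e3_zero, e3_zero, hα0]; omega
      · rw [shift_apply, e3_one, e3_one, hα1]; omega
      · rw [shift_apply, e3_two, e3_two, hα2]; omega
    refine tPiece_ne_bot_of_isolated hI.1 ht hnn ?_ ?_ ?_ hle
    · rw [hshift]
      exact hgmin g' (by omega)
    · intro i
      rw [hshift]
      rcases fin3_cases i with rfl | rfl | rfl
      · rw [← e3_add_single0 0 0 g' 1]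
        exact swap20 hI hg
      · rw [← e3_add_single1 0 0 g' 1]
        exact swap21 hI hg
      · rw [← e3_add_single2 0 0 g' 1]
        exact hg
    · intro i β' h hmem
      obtain ⟨c0, c1, c2⟩ := coords_of_eq_add_single h
      rw [e3_zero] at c0
      rw [e3_one] at c1
      rw [e3_two] at c2
      have hb : e3 (β' 0) (β' 1) (β' 2) ∈ exps I := by
        rw [← eq_e3 β']
        exact hmem
      rcases fin3_cases i with rfl | rfl | rfl
      · simp at c0 c1 c2
        have h10 : e3 (β' 0) (0 + 1) t ∈ exps I := by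
          rw [c2, zero_add, c1]
          exact hb
        have := swap10 hI h10
        rw [← c0] at this
        exact hA this
      · simp at c0 c1 c2
        apply hA
        have hb1 : β' 1 = 0 := by omega
        rw [c0, c2, ← hb1]
        exact hb
      · simp at c0 c1 c2
        apply htmin (β' 2) (by omega)
        show e3 a' 1 (β' 2) ∈ exps I
        rw [c0, c1]
        exact hb

end Groth.Agent.Lib.Helper24TgtVar2
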