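import Mathlib
import Groth.Prelude.Def_W4c1hilbpnTgt
import Groth.Agent.Lib.Helper20Monomial
import Groth.Agent.Lib.Helper24TgtPiece
import Groth.Agent.Lib.Helper24TgtPiece2
import Groth.Agent.Lib.Helper24TgtPiece3
import Groth.Agent.Lib.Helper24TgtStair
import Groth.Agent.Lib.Helper24TgtStair2
import Groth.Agent.Lib.Helper24Slice2
import Groth.Agent.Lib.Helper24TgtVar
import Groth.Agent.Lib.Helper24TgtVar2

set_option autoImplicit false
universe u

namespace Groth.Agent.Lib.Helper24TgtGen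

open W4c1hilbpn MvPolynomial
open Groth.Agent.Lib.Helper20
open Groth.Agent.Lib.Helper24TgtPiece
open Groth.Agent.Lib.Helper24Slice
open Groth.Agent.Lib.Helper24TgtVar
open Groth.Agent.Lib.Helper24TgtVar2

section general

variable {σ : Type*} {k : Type*} [Field k] [Fintype σ] [DecidableEq σ]
variable {I : Ideal (MvPolynomial σ k)}

lemma exps_of_le {β γ : σ →₀ ℕ} (hβ : β ∈ exps I) (hle : β ≤ γ) : γ ∈ exps I := by
  rw [← add_tsub_cancel_of_le hle]
  exact exps_add hβ _

/-- three variables `p, q, r`; a minimal generator `β` free of `r` dominated in `p` resp. `q` by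
generators free of `q` resp. `p` gives a nonzero tangent vector negative exactly at `p, q`. -/
theorem exists_tPiece_ne_bot (hI : IsMonomial I) [Module.Finite k (MvPolynomial σ k ⧸ I)]
    (p q r : σ) (hpq : p ≠ q) (hpr : p ≠ r) (hqr : q ≠ r) (hcov : ∀ i, i = p ∨ i = q ∨ i = r)
    (β δ1 δ2 : σ →₀ ℕ) (hβ : β ∈ exps I) (hβr : β r = 0)
    (hdp : ∀ β', β = β' + Finsupp.single p 1 → β' ∉ exps I)
    (hdq : ∀ β', β = β' + Finsupp.single q 1 → β' ∉ exps I)
    (hδ1 : δ1 ∈ exps I) (hδ1q : δ1 q = 0) (hδ1p : δ1 p ≤ β p)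
    (hδ2 : δ2 ∈ exps I) (hδ2p : δ2 p = 0) (hδ2q : δ2 q ≤ β q)
    (M : ℕ) (hM1 : δ1 r ≤ M) (hM2 : δ2 r ≤ M) (hM : Finsupp.single r M ∉ exps I)
    (hβp : 1 ≤ β p) (hβq : 1 ≤ β q) :
    ∃ α : σ → ℤ, (∀ i, α i < 0 ↔ i ∈ ({p, q} : Set σ)) ∧ tPiece I α ≠ ⊥ := by
  haveI := finite_compl_exps I hI
  obtain ⟨Q, hQdef⟩ : ∃ Q : Set (σ →₀ ℕ), Q = {γ | γ ∉ exps I ∧ γ p < β p ∧ γ q < β q ∧ M ≤ γ r} :=
    ⟨_, rfl⟩
  have hQfin : Q.Finite := by
    have h1 : (exps I)ᶜ.Finite := Set.finite_coe_iff.mp (by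
      show Finite {γ : σ →₀ ℕ // γ ∉ exps I}
      infer_instance)
    refine h1.subset ?_
    intro γ hγ
    rw [hQdef] at hγ
    exact hγ.1
  have hQne : Q.Nonempty := by
    refine ⟨Finsupp.single r M, ?_⟩
    rw [hQdef]
    refine ⟨hM, ?_, ?_, ?_⟩
    · rw [Finsupp.single_apply, if_neg (Ne.symm hpr)]; omega
    · rw [Finsupp.single_apply, if_neg (Ne.symm hqr)]; omega
    · rw [Finsupp.single_eq_same]
  obtain ⟨γ, hγQ, hγmax⟩ := Set.exists_max_image Q (fun γ => γ.degree) hQfin hQne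
  have hγ : γ ∉ exps I ∧ γ p < β p ∧ γ q < β q ∧ M ≤ γ r := by
    rw [hQdef] at hγQ
    exact hγQ
  obtain ⟨hγ0, hγp, hγq, hγr⟩ := hγ
  have hnotQ : ∀ i, γ + Finsupp.single i 1 ∉ Q := by
    intro i hmem
    have := hγmax _ hmem
    simp only [map_add, Finsupp.degree_single] at this
    omega
  obtain ⟨α, hαdef⟩ : ∃ α : σ → ℤ, α = fun i => (γ i : ℤ) - (β i : ℤ) := ⟨_, rfl⟩
  have hα : ∀ i, α i = (γ i : ℤ) - (β i : ℤ) := fun i => by rw [hαdef]
  have hshift : shift β α = γ := by
    ext i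
    rw [shift_apply, hα]
    omega
  refine ⟨α, ?_, ?_⟩
  · intro i
    rcases hcov i with rfl | rfl | rfl
    · refine ⟨fun _ => by simp, fun _ => by rw [hα]; omega⟩
    · refine ⟨fun _ => by simp, fun _ => by rw [hα]; omega⟩
    · refine ⟨fun h => ?_, fun h => ?_⟩
      · exfalso
        rw [hα, hβr] at h
        omega
      · exfalso
        rcases h with h | h
        · exact hpr h.symm
        · exact hqr (Set.mem_singleton_iff.mp h).symm
  · refine tPiece_ne_bot_of_isolated hI hβ (fun i => by rw [hα]; omega) ?_ ?_ ?_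
    · rw [hshift]
      exact hγ0
    · intro i
      rw [hshift]
      by_contra hcon
      rcases hcov i with rfl | rfl | rfl
      · -- step in direction p
        by_cases hlt : γ i + 1 < β i
        · apply hnotQ i
          rw [hQdef]
          refine ⟨hcon, ?_, ?_, ?_⟩
          · rw [Finsupp.add_apply, Finsupp.single_eq_same]; exact hlt
          · rw [Finsupp.add_apply, Finsupp.single_apply, if_neg hpq, add_zero]; exact hγq
          · rw [Finsupp.add_apply, Finsupp.single_apply, if_neg hpr, add_zero]; exact hγr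
        · apply hcon
          apply exps_of_le hδ1
          intro j
          rcases hcov j with rfl | rfl | rfl
          · rw [Finsupp.add_apply, Finsupp.single_eq_same]; omega
          · rw [hδ1q]; exact Nat.zero_le _
          · rw [Finsupp.add_apply, Finsupp.single_apply, if_neg hpr, add_zero]; omega
      · -- step in direction q
        by_cases hlt : γ i + 1 < β i
        · apply hnotQ i
          rw [hQdef]
          refine ⟨hcon, ?_, ?_, ?_⟩
          · rw [Finsupp.add_apply, Finsupp.single_apply, if_neg (Ne.symm hpq), add_zero]; exact hγp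
          · rw [Finsupp.add_apply, Finsupp.single_eq_same]; exact hlt
          · rw [Finsupp.add_apply, Finsupp.single_apply, if_neg hqr, add_zero]; exact hγr
        · apply hcon
          apply exps_of_le hδ2
          intro j
          rcases hcov j with rfl | rfl | rfl
          · rw [hδ2p]; exact Nat.zero_le _
          · rw [Finsupp.add_apply, Finsupp.single_eq_same]; omega
          · rw [Finsupp.add_apply, Finsupp.single_apply, if_neg hqr, add_zero]; omega
      · -- step in direction r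
        apply hnotQ i
        rw [hQdef]
        refine ⟨hcon, ?_, ?_, ?_⟩
        · rw [Finsupp.add_apply, Finsupp.single_apply, if_neg (Ne.symm hpr), add_zero]; exact hγp
        · rw [Finsupp.add_apply, Finsupp.single_apply, if_neg (Ne.symm hqr), add_zero]; exact hγq
        · rw [Finsupp.add_apply, Finsupp.single_eq_same]; omega
    · intro i β' h
      rcases hcov i with rfl | rfl | rfl
      · exact hdp β' h
      · exact hdq β' h
      · exfalso
        have := DFunLike.congr_fun h i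
        rw [Finsupp.add_apply, Finsupp.single_eq_same, hβr] at this
        omega

end general

section three

variable {k : Type*} [Field k] {I : Ideal (MvPolynomial (Fin 3) k)}

lemma e3_notMem_of_le {a b c a' b' c' : ℕ} (h : e3 a' b' c' ∉ exps I) (ha : a ≤ a') (hb : b ≤ b')
    (hc : c ≤ c') : e3 a b c ∉ exps I := fun hmem => h (e3_mono hmem ha hb hc)

lemma sigPiece_ne_bot {N : Set (Fin 3)} {α : Fin 3 → ℤ} (hpat : ∀ i, α i < 0 ↔ i ∈ N)
    (h : tPiece I α ≠ ⊥) : sigPiece I N ≠ ⊥ := by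
  intro hbot
  have hle : tPiece I α ≤ sigPiece I N :=
    le_iSup (fun α : {α : Fin 3 → ℤ // ∀ i, α i < 0 ↔ i ∈ N} => tPiece I α.1) ⟨α, hpat⟩
  rw [hbot, le_bot_iff] at hle
  exact h hle

end three

theorem s13438 (k : Type u) [Field k] [Infinite k]
    (I : Ideal (MvPolynomial (Fin 3) k)) (hI : IsMonomial I) [Module.Finite k (MvPolynomial (Fin 3) k ⧸ I)]
    (a1 a2 b1 b3 c2 c3 : ℕ) (ha1 : 0 < a1) (ha2 : 0 < a2) (hb1 : 0 < b1) (hb3 : 0 < b3)
    (hc2 : 0 < c2) (hc3 : 0 < c3)
    (hA : e3 a1 a2 0 ∈ exps I ∧ e3 (a1 - 1) a2 0 ∉ exps I ∧ e3 a1 (a2 - 1) 0 ∉ exps I)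
    (hB : e3 b1 0 b3 ∈ exps I ∧ e3 (b1 - 1) 0 b3 ∉ exps I ∧ e3 b1 0 (b3 - 1) ∉ exps I)
    (hC : e3 0 c2 c3 ∈ exps I ∧ e3 0 (c2 - 1) c3 ∉ exps I ∧ e3 0 c2 (c3 - 1) ∉ exps I)
    (hcase : (b1 ≤ a1 ∧ c2 ≤ a2) ∨ (a1 ≤ b1 ∧ c3 ≤ b3) ∨ (a2 ≤ c2 ∧ b3 ≤ c3)) :
    sigPiece I ({0, 1} : Set (Fin 3)) ≠ ⊥ ∨ sigPiece I ({0, 2} : Set (Fin 3)) ≠ ⊥ ∨
      sigPiece I ({1, 2} : Set (Fin 3)) ≠ ⊥ := by
  have hcov : ∀ (p q r : Fin 3), p ≠ q → p ≠ r → q ≠ r → ∀ i, i = p ∨ i = q ∨ i = r := by decide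
  -- descriptions of β' with β = β' + single i 1
  have hdown : ∀ (a b c : ℕ) (i : Fin 3) (β' : Fin 3 →₀ ℕ), e3 a b c = β' + Finsupp.single i 1 →
      β' = e3 (a - if i = 0 then 1 else 0) (b - if i = 1 then 1 else 0)
        (c - if i = 2 then 1 else 0) := by
    intro a b c i β' h
    obtain ⟨c0, c1, c2⟩ := coords_of_eq_add_single h
    rw [e3_zero] at c0
    rw [e3_one] at c1
    rw [e3_two] at c2
    apply e3_ext
    · rw [e3_zero]; omega
    · rw [e3_one]; omega
    · rw [e3_two]; omega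
  rcases hcase with ⟨h1, h2⟩ | ⟨h1, h2⟩ | ⟨h1, h2⟩
  · left
    obtain ⟨α, hpat, hne⟩ := exists_tPiece_ne_bot hI (0 : Fin 3) 1 2 (by decide) (by decide)
      (by decide) (hcov 0 1 2 (by decide) (by decide) (by decide))
      (e3 a1 a2 0) (e3 b1 0 b3) (e3 0 c2 c3) hA.1 (e3_two _ _ _)
      (fun β' h => by
        rw [hdown _ _ _ _ β' h]
        simpa using hA.2.1)
      (fun β' h => by
        rw [hdown _ _ _ _ β' h]
        simpa using hA.2.2)
      hB.1 (e3_one _ _ _) (by rw [e3_zero, e3_zero]; exact h1)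
      hC.1 (e3_zero _ _ _) (by rw [e3_one, e3_one]; exact h2)
      (max b3 c3) (by rw [e3_two]; exact le_max_left _ _) (by rw [e3_two]; exact le_max_right _ _)
      (by
        have e : (Finsupp.single 2 (max b3 c3) : Fin 3 →₀ ℕ) = e3 0 0 (max b3 c3) := by
          apply e3_ext <;> simp [e3_zero, e3_one, e3_two]
        rw [e]
        rcases max_choice b3 c3 with hm | hm
        · rw [hm]; exact e3_notMem_of_le hB.2.1 (Nat.zero_le _) le_rfl le_rfl
        · rw [hm]; exact e3_notMem_of_le hC.2.1 le_rfl (Nat.zero_le _) le_rfl)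
      (by rw [e3_zero]; exact ha1) (by rw [e3_one]; exact ha2)
    exact sigPiece_ne_bot hpat hne
  · right; left
    obtain ⟨α, hpat, hne⟩ := exists_tPiece_ne_bot hI (0 : Fin 3) 2 1 (by decide) (by decide)
      (by decide) (hcov 0 2 1 (by decide) (by decide) (by decide))
      (e3 b1 0 b3) (e3 a1 a2 0) (e3 0 c2 c3) hB.1 (e3_one _ _ _)
      (fun β' h => by
        rw [hdown _ _ _ _ β' h]
        simpa using hB.2.1)
      (fun β' h => by
        rw [hdown _ _ _ _ β' h]
        simpa using hB.2.2)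
      hA.1 (e3_two _ _ _) (by rw [e3_zero, e3_zero]; exact h1)
      hC.1 (e3_zero _ _ _) (by rw [e3_two, e3_two]; exact h2)
      (max a2 c2) (by rw [e3_one]; exact le_max_left _ _) (by rw [e3_one]; exact le_max_right _ _)
      (by
        have e : (Finsupp.single 1 (max a2 c2) : Fin 3 →₀ ℕ) = e3 0 (max a2 c2) 0 := by
          apply e3_ext <;> simp [e3_zero, e3_one, e3_two]
        rw [e]
        rcases max_choice a2 c2 with hm | hm
        · rw [hm]; exact e3_notMem_of_le hA.2.1 (Nat.zero_le _) le_rfl le_rfl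
        · rw [hm]; exact e3_notMem_of_le hC.2.2 le_rfl le_rfl (Nat.zero_le _))
      (by rw [e3_zero]; exact hb1) (by rw [e3_two]; exact hb3)
    exact sigPiece_ne_bot hpat hne
  · right; right
    obtain ⟨α, hpat, hne⟩ := exists_tPiece_ne_bot hI (1 : Fin 3) 2 0 (by decide) (by decide)
      (by decide) (hcov 1 2 0 (by decide) (by decide) (by decide))
      (e3 0 c2 c3) (e3 a1 a2 0) (e3 b1 0 b3) hC.1 (e3_zero _ _ _)
      (fun β' h => by
        rw [hdown _ _ _ _ β' h]
        simpa using hC.2.1)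
      (fun β' h => by
        rw [hdown _ _ _ _ β' h]
        simpa using hC.2.2)
      hA.1 (e3_two _ _ _) (by rw [e3_one, e3_one]; exact h1)
      hB.1 (e3_one _ _ _) (by rw [e3_two, e3_two]; exact h2)
      (max a1 b1) (by rw [e3_zero]; exact le_max_left _ _) (by rw [e3_zero]; exact le_max_right _ _)
      (by
        have e : (Finsupp.single 0 (max a1 b1) : Fin 3 →₀ ℕ) = e3 (max a1 b1) 0 0 := by
          apply e3_ext <;> simp [e3_zero, e3_one, e3_two]
        rw [e]
        rcases max_choice a1 b1 with hm | hm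
        · rw [hm]; exact e3_notMem_of_le hA.2.2 le_rfl (Nat.zero_le _) le_rfl
        · rw [hm]; exact e3_notMem_of_le hB.2.2 le_rfl le_rfl (Nat.zero_le _))
      (by rw [e3_one]; exact hc2) (by rw [e3_two]; exact hc3)
    exact sigPiece_ne_bot hpat hne

end Groth.Agent.Lib.Helper24TgtGen
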