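import Mathlib
import Groth.Prelude.Def_W4c1hilbpnTgt
import Groth.Agent.Lib.Helper20Monomial
import Groth.Agent.Lib.Helper24TgtPiece
import Groth.Agent.Lib.Helper24TgtPiece2
import Groth.Agent.Lib.Helper24TgtPiece3
import Groth.Agent.Lib.Helper24TgtPiece4
import Groth.Agent.Lib.Helper24TgtPiece7
import Groth.Agent.Lib.Helper24TgtStair
import Groth.Agent.Lib.Helper24TgtStair2

set_option autoImplicit false
universe u

namespace Groth.Agent.Lib.Helper24TgtPiece

open W4c1hilbpn MvPolynomial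
open Groth.Agent.Lib.Helper20

variable {k : Type*} [Field k]
variable {I : Ideal (MvPolynomial (Fin 3) k)}

/-- the corner points of the staircase above `(a1, a2)` -/
noncomputable def Wf (I : Ideal (MvPolynomial (Fin 3) k)) (a1 a2 N : ℕ) : Finset (Σ _ : ℕ × ℕ, ℕ) :=
  ((Finset.range N ×ˢ Finset.range N).filter (fun p => a1 ≤ p.1 ∧ a2 ≤ p.2)).sigma
    (fun p => Finset.Ico (max (stairZ I (p.1 + 1) p.2) (stairZ I p.1 (p.2 + 1))) (stairZ I p.1 p.2))

lemma card_Wf (I : Ideal (MvPolynomial (Fin 3) k)) (a1 a2 N : ℕ) :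
    (Wf I a1 a2 N).card = ∑ p ∈ Finset.range N ×ˢ Finset.range N, (if a1 ≤ p.1 ∧ a2 ≤ p.2
        then stairZ I p.1 p.2 - max (stairZ I (p.1 + 1) p.2) (stairZ I p.1 (p.2 + 1)) else 0) := by
  unfold Wf
  rw [Finset.card_sigma, Finset.sum_filter]
  apply Finset.sum_congr rfl
  intro p _
  split_ifs
  · rw [Nat.card_Ico]
  · rfl

lemma Phi_mem (hI : IsMonomial I) [Module.Finite k (MvPolynomial (Fin 3) k ⧸ I)]
    (a1 a2 M N : ℕ) (hN : ∀ β : Fin 3 →₀ ℕ, (N ≤ β 0 ∨ N ≤ β 1) → β ∈ exps I)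
    (x : Σ c : Fin M, BC I (αc a1 a2 c)) : Phi hI a1 a2 M x ∈ Wf I a1 a2 N := by
  obtain ⟨c, C⟩ := x
  have hs := topβ_spec hI (αc a1 a2 c) (αc_2_neg a1 a2 c) C
  obtain ⟨β₀, hβ₀⟩ : ∃ β₀, β₀ = topβ hI (αc a1 a2 c) (αc_2_neg a1 a2 c) C := ⟨_, rfl⟩
  rw [← hβ₀] at hs
  have hP : Phi hI a1 a2 M ⟨c, C⟩ = ⟨(shift β₀ (αc a1 a2 c) 0, shift β₀ (αc a1 a2 c) 1),
      shift β₀ (αc a1 a2 c) 2⟩ := by rw [hβ₀]; rfl
  rw [hP]
  obtain ⟨γ, hγ⟩ : ∃ γ, γ = shift β₀ (αc a1 a2 c) := ⟨_, rfl⟩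
  rw [← hγ]
  have hns : γ ∉ exps I := by rw [hγ]; exact hs.ns
  have hup0 : γ + Finsupp.single 0 1 ∈ exps I := by rw [hγ]; exact hs.up0
  have hup1 : γ + Finsupp.single 1 1 ∈ exps I := by rw [hγ]; exact hs.up1
  have hlt : γ 0 < N ∧ γ 1 < N := by
    constructor
    · by_contra hcon
      exact hns (hN γ (Or.inl (not_lt.mp hcon)))
    · by_contra hcon
      exact hns (hN γ (Or.inr (not_lt.mp hcon)))
  have ha : a1 ≤ γ 0 ∧ a2 ≤ γ 1 := by
    rw [hγ, shift_αc_0, shift_αc_1]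
    omega
  unfold Wf
  rw [Finset.mem_sigma, Finset.mem_filter, Finset.mem_product, Finset.mem_range, Finset.mem_range,
    Finset.mem_Ico]
  refine ⟨⟨hlt, ha⟩, max_le ?_ ?_, ?_⟩
  · by_contra hcon
    push Not at hcon
    have := (e3_notMem_iff hI (γ 0 + 1) (γ 1) (γ 2)).mpr hcon
    rw [e3_add_single0, ← eq_e3] at this
    exact this hup0
  · by_contra hcon
    push Not at hcon
    have := (e3_notMem_iff hI (γ 0) (γ 1 + 1) (γ 2)).mpr hcon
    rw [e3_add_single1, ← eq_e3] at this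
    exact this hup1
  · have h1 := hns
    rw [eq_e3 γ, e3_notMem_iff hI] at h1
    exact h1

theorem s13440 (k : Type u) [Field k] [Infinite k]
    (I : Ideal (MvPolynomial (Fin 3) k)) (hI : IsMonomial I) [Module.Finite k (MvPolynomial (Fin 3) k ⧸ I)] (a1 a2 : ℕ) :
    Module.finrank k ↥(⨆ α : {α : Fin 3 → ℤ // α 0 = (a1 : ℤ) ∧ α 1 = (a2 : ℤ) ∧ α 2 < 0}, tPiece I α.1) ≤
      ∑ᶠ p : ℕ × ℕ, (if a1 ≤ p.1 ∧ a2 ≤ p.2
        then stairZ I p.1 p.2 - max (stairZ I (p.1 + 1) p.2) (stairZ I p.1 (p.2 + 1)) else 0) := by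
  classical
  haveI hTfin := finite_Tgt hI
  obtain ⟨T0, hT0⟩ := exists_add_single_mem hI 0 (0 : Fin 3)
  obtain ⟨T1, hT1⟩ := exists_add_single_mem hI 0 (1 : Fin 3)
  obtain ⟨N, hNdef⟩ : ∃ N, N = max T0 T1 := ⟨_, rfl⟩
  have hN : ∀ β : Fin 3 →₀ ℕ, (N ≤ β 0 ∨ N ≤ β 1) → β ∈ exps I := by
    intro β h
    rcases h with h | h
    · have hle : Finsupp.single (0 : Fin 3) T0 ≤ β := by
        rw [Finsupp.single_le_iff]
        have := le_max_left T0 T1
        omega
      have h1 : β = (0 + Finsupp.single 0 T0) + (β - Finsupp.single 0 T0) := by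
        rw [zero_add, add_tsub_cancel_of_le hle]
      rw [h1]
      exact exps_add hT0 _
    · have hle : Finsupp.single (1 : Fin 3) T1 ≤ β := by
        rw [Finsupp.single_le_iff]
        have := le_max_right T0 T1
        omega
      have h1 : β = (0 + Finsupp.single 1 T1) + (β - Finsupp.single 1 T1) := by
        rw [zero_add, add_tsub_cancel_of_le hle]
      rw [h1]
      exact exps_add hT1 _
  obtain ⟨M, hM⟩ : ∃ M, M = stairZ I 0 0 := ⟨_, rfl⟩
  -- reduce the supremum to finitely many multidegrees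
  have hLHS : (⨆ α : {α : Fin 3 → ℤ // α 0 = (a1 : ℤ) ∧ α 1 = (a2 : ℤ) ∧ α 2 < 0}, tPiece I α.1) =
      ⨆ α ∈ (Finset.range M).image (αc a1 a2), tPiece I α := by
    apply iSup_subtype_eq_biSup
    · intro α hα
      obtain ⟨c, _, rfl⟩ := Finset.mem_image.mp hα
      exact ⟨αc_0 a1 a2 c, αc_1 a1 a2 c, αc_2_neg a1 a2 c⟩
    · rintro α ⟨h0, h1, h2⟩ hnot
      have hc : M ≤ (-α 2 - 1).toNat := by
        by_contra hcon
        push Not at hcon
        apply hnot
        refine Finset.mem_image.mpr ⟨(-α 2 - 1).toNat, Finset.mem_range.mpr hcon, ?_⟩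
        funext m
        rcases fin3_cases m with rfl | rfl | rfl
        · rw [αc_0, h0]
        · rw [αc_1, h1]
        · rw [αc_2]; omega
      have hempty : IsEmpty (BC I α) := by
        constructor
        intro C
        obtain ⟨β₀, hs⟩ := exists_topData hI α h2 C
        have hh := hs.height hI h2
        have hle := stairZ_le_zero hI (β₀ 0) (β₀ 1)
        have hnn2 := hs.nn 2
        omega
      have hfr : Module.finrank k ↥(tPiece I α) = 0 := by
        rw [finrank_tPiece hI]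
        exact Nat.card_of_isEmpty
      exact Submodule.finrank_eq_zero.mp hfr
  rw [hLHS, finrank_biSup_tPiece hI, Finset.sum_image (fun x _ y _ h => αc_injective a1 a2 h)]
  have hfr : ∀ c ∈ Finset.range M, Module.finrank k ↥(tPiece I (αc a1 a2 c)) =
      Nat.card (BC I (αc a1 a2 c)) := by
    intro c _
    rw [finrank_tPiece hI]
    rfl
  rw [Finset.sum_congr rfl hfr, Finset.sum_range (fun c => Nat.card (BC I (αc a1 a2 c)))]
  haveI : ∀ c : Fin M, Finite (BC I (αc a1 a2 c)) := fun c => finite_BC hI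
  rw [← Nat.card_sigma]
  -- the right-hand side
  have hsupp : Function.support (fun p : ℕ × ℕ => (if a1 ≤ p.1 ∧ a2 ≤ p.2
        then stairZ I p.1 p.2 - max (stairZ I (p.1 + 1) p.2) (stairZ I p.1 (p.2 + 1)) else 0)) ⊆
      ((Finset.range N ×ˢ Finset.range N : Finset (ℕ × ℕ)) : Set (ℕ × ℕ)) := by
    intro p hp
    rw [Function.mem_support] at hp
    have hpos : 0 < stairZ I p.1 p.2 := by
      by_contra hcon
      apply hp
      split_ifs
      · omega
      · rfl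
    have hn := (e3_notMem_iff hI p.1 p.2 0).mpr hpos
    rw [Finset.mem_coe, Finset.mem_product, Finset.mem_range, Finset.mem_range]
    constructor
    · by_contra hcon
      exact hn (hN _ (Or.inl (by rw [e3_zero]; exact not_lt.mp hcon)))
    · by_contra hcon
      exact hn (hN _ (Or.inr (by rw [e3_one]; exact not_lt.mp hcon)))
  rw [finsum_eq_sum_of_support_subset _ hsupp, ← card_Wf, ← Fintype.card_coe,
    ← Nat.card_eq_fintype_card]
  exact Nat.card_le_card_of_injective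
    (fun x => (⟨Phi hI a1 a2 M x, Phi_mem hI a1 a2 M N hN x⟩ : ↥(Wf I a1 a2 N)))
    (fun x y h => Phi_injective hI a1 a2 M (congrArg Subtype.val h))

end Groth.Agent.Lib.Helper24TgtPiece
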