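import Mathlib

universe u

namespace Groth.Agent.Lib.Helper24Theta

open Representation

section Burnside

variable {k : Type*} [Field k] [IsAlgClosed k] {G : Type*} [Monoid G] {V : Type*}
  [AddCommGroup V] [Module k V] [FiniteDimensional k V]

/-- Burnside's theorem: for an irreducible finite-dimensional representation over an
algebraically closed field the group algebra surjects onto `End V`. -/
theorem asAlgebraHom_surjective (ρ : Representation k G V) [IsIrreducible ρ] :
    Function.Surjective ρ.asAlgebraHom := by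
  classical
  intro φ
  haveI hs : IsSimpleModule (MonoidAlgebra k G) ρ.asModule :=
    (irreducible_iff_isSimpleModule_asModule ρ).mp inferInstance
  haveI : IsSemisimpleModule (MonoidAlgebra k G) ρ.asModule :=
    { toComplementedLattice := @IsSimpleOrder.instComplementedLattice _ _ _ hs.toIsSimpleOrder }
  have hsch : Function.Bijective
      (algebraMap k (Module.End (MonoidAlgebra k G) ρ.asModule)) :=
    IsSimpleModule.algebraMap_end_bijective_of_isAlgClosed k
  let f : Module.End (Module.End (MonoidAlgebra k G) ρ.asModule) ρ.asModule :=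
    { toFun := fun m => ρ.asModuleEquiv.symm (φ (ρ.asModuleEquiv m))
      map_add' := fun a b => by simp
      map_smul' := fun c m => by
        obtain ⟨a, rfl⟩ := hsch.2 c
        simp only [RingHom.id_apply]
        rw [Module.End.smul_def, Module.algebraMap_end_apply, Module.End.smul_def,
          Module.algebraMap_end_apply]
        simp }
  let b := Module.finBasis k V
  let s : Finset ρ.asModule := Finset.univ.image fun i => ρ.asModuleEquiv.symm (b i)
  obtain ⟨r, hr⟩ := jacobson_density f s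
  refine ⟨r, ?_⟩
  apply b.ext
  intro i
  have h1 := hr (ρ.asModuleEquiv.symm (b i)) (Finset.mem_image.2 ⟨i, Finset.mem_univ _, rfl⟩)
  have h2 := congrArg ρ.asModuleEquiv h1
  rw [asModuleEquiv_map_smul] at h2
  simp only [LinearEquiv.apply_symm_apply] at h2
  rw [← h2]
  simp [f]

end Burnside


section Theta

open scoped commutatorElement

variable {k : Type u} [Field k] {Γ : Type u} [Group Γ] (ι : kˣ →* Γ)

/-- weight one: the central torus acts by the tautological character -/
def IsWeightOne {V : Type*} [AddCommGroup V] [Module k V] (ρ : Representation k Γ V) : Prop :=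
  ∀ (z : kˣ) (v : V), ρ (ι z) v = (z : k) • v

variable {ι}

theorem central (hcent : ι.range = Subgroup.center Γ) (z : kˣ) (g : Γ) :
    ι z * g = g * ι z := by
  have h : ι z ∈ Subgroup.center Γ := hcent ▸ ⟨z, rfl⟩
  exact ((Subgroup.mem_center_iff.1 h) g).symm

theorem exists_comm (hcomm : commutator Γ ≤ ι.range) (g h : Γ) :
    ∃ z : kˣ, ι z = g * h * g⁻¹ * h⁻¹ := by
  have : ⁅g, h⁆ ∈ commutator Γ :=
    Subgroup.commutator_mem_commutator (Subgroup.mem_top g) (Subgroup.mem_top h)
  obtain ⟨z, hz⟩ := hcomm this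
  exact ⟨z, by rw [hz, commutatorElement_def]⟩

/-- the commutator pairing -/
noncomputable def e (hcomm : commutator Γ ≤ ι.range) (g h : Γ) : kˣ :=
  Classical.choose (exists_comm hcomm g h)

theorem ι_e (hcomm : commutator Γ ≤ ι.range) (g h : Γ) :
    ι (e hcomm g h) = g * h * g⁻¹ * h⁻¹ :=
  Classical.choose_spec (exists_comm hcomm g h)

theorem e_one_left (hι : Function.Injective ι) (hcomm : commutator Γ ≤ ι.range) (h : Γ) :
    e hcomm 1 h = 1 := by
  apply hι
  rw [ι_e, map_one]
  group

theorem e_mul_left (hι : Function.Injective ι) (hcent : ι.range = Subgroup.center Γ)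
    (hcomm : commutator Γ ≤ ι.range) (g g' h : Γ) :
    e hcomm (g * g') h = e hcomm g h * e hcomm g' h := by
  apply hι
  rw [ι_e]
  calc g * g' * h * (g * g')⁻¹ * h⁻¹
      = g * (g' * h * g'⁻¹ * h⁻¹) * (h * g⁻¹ * h⁻¹) := by group
    _ = g * ι (e hcomm g' h) * (h * g⁻¹ * h⁻¹) := by rw [ι_e]
    _ = ι (e hcomm g' h) * g * (h * g⁻¹ * h⁻¹) := by rw [central hcent]
    _ = ι (e hcomm g' h) * (g * h * g⁻¹ * h⁻¹) := by group
    _ = ι (e hcomm g' h) * ι (e hcomm g h) := by rw [ι_e hcomm g h]
    _ = ι (e hcomm g h * e hcomm g' h) := by rw [← map_mul, mul_comm]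

/-- the character `g ↦ e(g,h)` -/
noncomputable def χ (hι : Function.Injective ι) (hcent : ι.range = Subgroup.center Γ)
    (hcomm : commutator Γ ≤ ι.range) (h : Γ) : Γ →* k where
  toFun g := (e hcomm g h : k)
  map_one' := by rw [e_one_left hι]; rfl
  map_mul' g g' := by rw [e_mul_left hι hcent, Units.val_mul]

theorem χ_apply (hι : Function.Injective ι) (hcent : ι.range = Subgroup.center Γ)
    (hcomm : commutator Γ ≤ ι.range) (h g : Γ) : χ hι hcent hcomm h g = (e hcomm g h : k) := rfl

theorem inv_mul_mem_of_χ_eq (hι : Function.Injective ι) (hcent : ι.range = Subgroup.center Γ)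
    (hcomm : commutator Γ ≤ ι.range) (h h' : Γ)
    (heq : χ hι hcent hcomm h = χ hι hcent hcomm h') : h'⁻¹ * h ∈ ι.range := by
  rw [hcent, Subgroup.mem_center_iff]
  intro g
  have h1 : e hcomm g⁻¹ h = e hcomm g⁻¹ h' := by
    apply Units.ext
    have := DFunLike.congr_fun heq g⁻¹
    rwa [χ_apply, χ_apply] at this
  have h2 := congrArg ι h1
  rw [ι_e, ι_e, inv_inv] at h2
  -- h2 : g⁻¹ * h * g * h⁻¹ = g⁻¹ * h' * g * h'⁻¹
  have h3 : h * g * h⁻¹ = h' * g * h'⁻¹ := by
    have := congrArg (fun t => g * t) h2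
    simpa [mul_assoc] using this
  calc g * (h'⁻¹ * h) = h'⁻¹ * (h' * g * h'⁻¹) * h := by group
    _ = h'⁻¹ * (h * g * h⁻¹) * h := by rw [h3]
    _ = h'⁻¹ * h * g := by group

variable {V : Type*} [AddCommGroup V] [Module k V] (ρ : Representation k Γ V)

theorem rho_ι (hρ : IsWeightOne ι ρ) (z : kˣ) : ρ (ι z) = (z : k) • (1 : Module.End k V) := by
  ext v
  rw [hρ z v]
  rfl

theorem rho_mul_comm (hcomm : commutator Γ ≤ ι.range) (hρ : IsWeightOne ι ρ) (g h : Γ) :
    ρ g * ρ h = (e hcomm g h : k) • (ρ h * ρ g) := by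
  have h1 : g * h = ι (e hcomm g h) * (h * g) := by rw [ι_e]; group
  rw [← map_mul, h1, map_mul, rho_ι ρ hρ, smul_mul_assoc, one_mul, map_mul]

theorem rho_conj (hcomm : commutator Γ ≤ ι.range) (hρ : IsWeightOne ι ρ) (g h : Γ) :
    ρ h * ρ g * ρ h⁻¹ = (e hcomm h g : k) • ρ g := by
  rw [rho_mul_comm ρ hcomm hρ h g, smul_mul_assoc, mul_assoc, ← map_mul, mul_inv_cancel, map_one,
    mul_one]

theorem linearIndependent_rho [Nontrivial V] (hι : Function.Injective ι)
    (hcent : ι.range = Subgroup.center Γ) (hcomm : commutator Γ ≤ ι.range)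
    (hρ : IsWeightOne ι ρ) {I : Type*} (g : I → Γ)
    (hg : ∀ i j, (g i)⁻¹ * g j ∈ ι.range → i = j) :
    LinearIndependent k (fun i => ρ (g i)) := by
  classical
  have hχinj : Function.Injective (fun i => χ hι hcent hcomm (g i)) := by
    intro i j hij
    exact (hg j i (inv_mul_mem_of_χ_eq hι hcent hcomm (g i) (g j) hij)).symm
  have hli : LinearIndependent k (fun i => (χ hι hcent hcomm (g i) : Γ → k)) :=
    (linearIndependent_monoidHom Γ k).comp _ hχinj
  rw [linearIndependent_iff']
  intro s c hc i hi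
  obtain ⟨w, hw⟩ := exists_ne (0 : V)
  have hne : ρ (g i) w ≠ 0 := by
    intro h0
    apply hw
    have := congrArg (ρ (g i)⁻¹) h0
    rwa [map_zero, ← Module.End.mul_apply, ← map_mul, inv_mul_cancel, map_one,
      Module.End.one_apply] at this
  obtain ⟨φ, hφ⟩ : ∃ φ : Module.Dual k V, φ (ρ (g i) w) ≠ 0 := by
    by_contra hcon
    push Not at hcon
    exact hne ((Module.forall_dual_apply_eq_zero_iff k _).1 hcon)
  have hrel : ∀ h : Γ, ∑ j ∈ s, (c j * φ (ρ (g j) w)) * (χ hι hcent hcomm (g j) : Γ → k) h = 0 := by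
    intro h
    have h1 : ρ h * (∑ j ∈ s, c j • ρ (g j)) * ρ h⁻¹ = 0 := by rw [hc, mul_zero, zero_mul]
    rw [Finset.mul_sum, Finset.sum_mul] at h1
    have h2 : ∀ j ∈ s, ρ h * (c j • ρ (g j)) * ρ h⁻¹ =
        (c j * (e hcomm h (g j) : k)) • ρ (g j) := by
      intro j _
      rw [mul_smul_comm, smul_mul_assoc, rho_conj ρ hcomm hρ, smul_smul]
    rw [Finset.sum_congr rfl h2] at h1
    have h3 := congrArg (fun T : Module.End k V => φ (T w)) h1
    simp only [LinearMap.sum_apply, LinearMap.smul_apply, map_sum, map_smul,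
      LinearMap.zero_apply, map_zero] at h3
    rw [← h3]
    refine Finset.sum_congr rfl fun j _ => ?_
    rw [χ_apply, smul_eq_mul]
    ring
  have hrel' : ∑ j ∈ s, (c j * φ (ρ (g j) w)) • (χ hι hcent hcomm (g j) : Γ → k) = 0 := by
    funext h
    rw [Finset.sum_apply]
    simp only [Pi.smul_apply, smul_eq_mul]
    exact hrel h
  have := linearIndependent_iff'.1 hli s _ hrel' i hi
  exact (mul_eq_zero.1 this).resolve_right hφ

variable (ι)

/-- coset representative -/
noncomputable def rep (κ : Γ ⧸ ι.range) : Γ := Quotient.out κ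

theorem mk_rep (κ : Γ ⧸ ι.range) : ((rep ι κ : Γ) : Γ ⧸ ι.range) = κ := Quotient.out_eq' κ

theorem exists_eq_rep_mul (g : Γ) : ∃ z : kˣ, g = rep ι (g : Γ ⧸ ι.range) * ι z := by
  have h := mk_rep ι (g : Γ ⧸ ι.range)
  rw [QuotientGroup.eq] at h
  obtain ⟨z, hz⟩ := h
  exact ⟨z, by rw [hz]; group⟩

theorem rep_inj (κ κ' : Γ ⧸ ι.range) (h : (rep ι κ)⁻¹ * rep ι κ' ∈ ι.range) : κ = κ' := by
  rw [← mk_rep ι κ, ← mk_rep ι κ']
  exact QuotientGroup.eq.2 h

variable {ι}

theorem rho_eq_smul_rep' (hρ : IsWeightOne ι ρ) (g : Γ) (z : kˣ)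
    (hz : g = rep ι (g : Γ ⧸ ι.range) * ι z) :
    ρ g = (z : k) • ρ (rep ι (g : Γ ⧸ ι.range)) := by
  conv_lhs => rw [hz]
  rw [map_mul, rho_ι ρ hρ, mul_smul_comm, mul_one]

theorem rho_eq_smul_rep (hρ : IsWeightOne ι ρ) (g : Γ) :
    ∃ z : kˣ, ρ g = (z : k) • ρ (rep ι (g : Γ ⧸ ι.range)) := by
  obtain ⟨z, hz⟩ := exists_eq_rep_mul ι g
  exact ⟨z, rho_eq_smul_rep' ρ hρ g z hz⟩

theorem nontrivial_of_isIrreducible [IsIrreducible ρ] : Nontrivial V := by
  haveI : Nontrivial ρ.asModule := IsSimpleModule.nontrivial (MonoidAlgebra k Γ) ρ.asModule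
  exact ρ.asModuleEquiv.symm.toEquiv.nontrivial

theorem span_rep_eq_top [IsAlgClosed k] [FiniteDimensional k V] [IsIrreducible ρ]
    (hρ : IsWeightOne ι ρ) :
    Submodule.span k (Set.range fun κ : Γ ⧸ ι.range => ρ (rep ι κ)) = ⊤ := by
  rw [eq_top_iff]
  intro φ _
  obtain ⟨r, rfl⟩ := asAlgebraHom_surjective ρ φ
  induction r using MonoidAlgebra.induction_on with
  | of g =>
    rw [asAlgebraHom_of]
    obtain ⟨z, hz⟩ := rho_eq_smul_rep ρ hρ g
    rw [hz]
    exact Submodule.smul_mem _ _ (Submodule.subset_span ⟨_, rfl⟩)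
  | add a b ha hb => rw [map_add]; exact Submodule.add_mem _ (ha trivial) (hb trivial)
  | smul c a ha => rw [map_smul]; exact Submodule.smul_mem _ _ (ha trivial)

theorem finrank_sq [IsAlgClosed k] [FiniteDimensional k V] [IsIrreducible ρ]
    [Finite (Γ ⧸ ι.range)] (hι : Function.Injective ι)
    (hcent : ι.range = Subgroup.center Γ) (hcomm : commutator Γ ≤ ι.range)
    (hρ : IsWeightOne ι ρ) :
    Module.finrank k V ^ 2 = Nat.card (Γ ⧸ ι.range) := by
  classical
  haveI : Nontrivial V := nontrivial_of_isIrreducible ρ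
  letI := Fintype.ofFinite (Γ ⧸ ι.range)
  have hli := linearIndependent_rho ρ hι hcent hcomm hρ (rep ι) (rep_inj ι)
  have hsp := span_rep_eq_top ρ hρ
  let b : Module.Basis (Γ ⧸ ι.range) k (Module.End k V) := Module.Basis.mk hli hsp.ge
  have h1 := Module.finrank_eq_card_basis b
  rw [Module.finrank_linearMap] at h1
  rw [sq, h1, Nat.card_eq_fintype_card]

section Uniq

variable {W : Type*} [AddCommGroup W] [Module k W] (σ : Representation k Γ W)

theorem exists_transfer [IsAlgClosed k] [FiniteDimensional k V] [IsIrreducible ρ]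
    [Finite (Γ ⧸ ι.range)] (hι : Function.Injective ι)
    (hcent : ι.range = Subgroup.center Γ) (hcomm : commutator Γ ≤ ι.range)
    (hρ : IsWeightOne ι ρ) (hσ : IsWeightOne ι σ) :
    ∃ T : Module.End k V →ₗ[k] Module.End k W, (∀ g, T (ρ g) = σ g) ∧
      (∀ a b, T (a * b) = T a * T b) := by
  classical
  haveI : Nontrivial V := nontrivial_of_isIrreducible ρ
  have hli := linearIndependent_rho ρ hι hcent hcomm hρ (rep ι) (rep_inj ι)
  have hsp := span_rep_eq_top ρ hρ
  let b : Module.Basis (Γ ⧸ ι.range) k (Module.End k V) := Module.Basis.mk hli hsp.ge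
  have hb : ∀ κ, b κ = ρ (rep ι κ) := fun κ => Module.Basis.mk_apply hli hsp.ge κ
  let T : Module.End k V →ₗ[k] Module.End k W := b.constr k (fun κ => σ (rep ι κ))
  have hTb : ∀ κ, T (b κ) = σ (rep ι κ) := fun κ => b.constr_basis k _ κ
  have hT : ∀ g, T (ρ g) = σ g := by
    intro g
    obtain ⟨z, hz⟩ := exists_eq_rep_mul ι g
    rw [rho_eq_smul_rep' ρ hρ g z hz, rho_eq_smul_rep' σ hσ g z hz, map_smul, ← hb, hTb]
  refine ⟨T, hT, ?_⟩
  have hmul_basis : ∀ κ κ', T (b κ * b κ') = T (b κ) * T (b κ') := by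
    intro κ κ'
    rw [hb, hb, ← map_mul, hT, hT, hT, map_mul]
  have hbil : (LinearMap.mul k (Module.End k V)).compr₂ T =
      (LinearMap.mul k (Module.End k W)).compl₁₂ T T := by
    apply b.ext
    intro κ
    apply b.ext
    intro κ'
    simp only [LinearMap.compr₂_apply, LinearMap.mul_apply', LinearMap.compl₁₂_apply]
    exact hmul_basis κ κ'
  intro a c
  have := LinearMap.congr_fun (LinearMap.congr_fun hbil a) c
  simpa only [LinearMap.compr₂_apply, LinearMap.mul_apply', LinearMap.compl₁₂_apply] using this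

theorem exists_intertwining_ne_zero [IsAlgClosed k] [FiniteDimensional k V] [IsIrreducible ρ]
    [Nontrivial W] [Finite (Γ ⧸ ι.range)] (hι : Function.Injective ι)
    (hcent : ι.range = Subgroup.center Γ) (hcomm : commutator Γ ≤ ι.range)
    (hρ : IsWeightOne ι ρ) (hσ : IsWeightOne ι σ) :
    ∃ f : IntertwiningMap ρ σ, f ≠ 0 := by
  classical
  obtain ⟨T, hT, hTmul⟩ := exists_transfer ρ σ hι hcent hcomm hρ hσ
  let bV := Module.finBasis k V
  have hone : (1 : Module.End k V) = ∑ i, (bV.coord i).smulRight (bV i) := by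
    ext v
    simp only [Module.End.one_apply, LinearMap.sum_apply, LinearMap.smulRight_apply,
      Module.Basis.coord_apply]
    exact (bV.sum_repr v).symm
  have hT1 : T 1 = 1 := by
    have := hT 1
    rw [map_one ρ, map_one σ] at this
    exact this
  have hex : ∃ i, T ((bV.coord i).smulRight (bV i)) ≠ 0 := by
    by_contra hcon
    push Not at hcon
    have h0 : T 1 = 0 := by
      rw [hone, map_sum]
      exact Finset.sum_eq_zero fun i _ => hcon i
    rw [hT1] at h0
    exact one_ne_zero h0
  obtain ⟨i, hi⟩ := hex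
  obtain ⟨w, hw⟩ : ∃ w, T ((bV.coord i).smulRight (bV i)) w ≠ 0 := by
    by_contra hcon
    push Not at hcon
    exact hi (LinearMap.ext hcon)
  let f : V →ₗ[k] W := (LinearMap.applyₗ w) ∘ₗ T ∘ₗ (LinearMap.smulRightₗ (bV.coord i))
  have hf : ∀ v, f v = T ((bV.coord i).smulRight v) w := fun v => rfl
  have hint : ∀ (g : Γ) (v : V), f (ρ g v) = σ g (f v) := by
    intro g v
    rw [hf, hf]
    have : (bV.coord i).smulRight (ρ g v) = ρ g * (bV.coord i).smulRight v := by
      ext x
      simp only [LinearMap.smulRight_apply, Module.End.mul_apply, map_smul]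
    rw [this, hTmul, hT]
    rfl
  refine ⟨f.intertwiningMap_of_isIntertwiningMap ρ σ hint, ?_⟩
  intro h0
  apply hw
  have := congrArg (fun F : IntertwiningMap ρ σ => F (bV i)) h0
  exact this

theorem nonempty_equiv [IsAlgClosed k] [FiniteDimensional k V] [IsIrreducible ρ]
    [IsIrreducible σ] [Finite (Γ ⧸ ι.range)] (hι : Function.Injective ι)
    (hcent : ι.range = Subgroup.center Γ) (hcomm : commutator Γ ≤ ι.range)
    (hρ : IsWeightOne ι ρ) (hσ : IsWeightOne ι σ) :
    Nonempty (Representation.Equiv ρ σ) := by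
  haveI : Nontrivial W := nontrivial_of_isIrreducible σ
  obtain ⟨f, hf⟩ := exists_intertwining_ne_zero ρ σ hι hcent hcomm hρ hσ
  rcases IsIrreducible.bijective_or_eq_zero f with h | h
  · exact ⟨f.ofBijective h⟩
  · exact absurd h hf

end Uniq

section Exist

variable (ι)

/-- the space of functions `f : Γ → k` with `f (ι z * x) = z * f x` -/
def funSpace : Submodule k (Γ → k) where
  carrier := {f | ∀ (z : kˣ) (x : Γ), f (ι z * x) = (z : k) * f x}
  add_mem' := fun ha hb z x => by simp only [Pi.add_apply, ha z x, hb z x, mul_add]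
  zero_mem' := fun z x => by simp
  smul_mem' := fun c f hf z x => by
    simp only [Pi.smul_apply, smul_eq_mul, hf z x]
    ring

/-- right translation on `funSpace` -/
def funRep : Representation k Γ (funSpace ι) where
  toFun g :=
    { toFun := fun f => ⟨fun x => f.1 (x * g), fun z x => by
        change f.1 (ι z * x * g) = (z : k) * f.1 (x * g)
        rw [mul_assoc]
        exact f.2 z (x * g)⟩
      map_add' := fun f f' => rfl
      map_smul' := fun c f => rfl }
  map_one' := by
    ext f x
    simp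
  map_mul' g h := by
    ext f x
    simp [mul_assoc]

theorem funRep_apply (g : Γ) (f : funSpace ι) (x : Γ) : (funRep ι g f).1 x = f.1 (x * g) := rfl

variable {ι}

theorem funRep_weightOne (hcent : ι.range = Subgroup.center Γ) : IsWeightOne ι (funRep ι) := by
  intro z f
  ext x
  rw [funRep_apply, ← central hcent z x, f.2 z x]
  rfl

theorem funSpace_finite [Finite (Γ ⧸ ι.range)] (hcent : ι.range = Subgroup.center Γ) :
    FiniteDimensional k (funSpace ι) := by
  let res : funSpace ι →ₗ[k] ((Γ ⧸ ι.range) → k) :=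
    { toFun := fun f κ => f.1 (rep ι κ)
      map_add' := fun f f' => rfl
      map_smul' := fun c f => rfl }
  have hinj : Function.Injective res := by
    rw [← LinearMap.ker_eq_bot, LinearMap.ker_eq_bot']
    intro f hf
    ext x
    obtain ⟨z, hz⟩ := exists_eq_rep_mul ι x
    have h1 : f.1 (rep ι (x : Γ ⧸ ι.range)) = 0 := congrFun hf (x : Γ ⧸ ι.range)
    rw [hz, ← central hcent, f.2 z, h1, mul_zero]
    rfl
  exact FiniteDimensional.of_injective res hinj

theorem funSpace_nontrivial (hι : Function.Injective ι) : Nontrivial (funSpace ι) := by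
  classical
  let f₀ : Γ → k := fun x => if h : x ∈ ι.range then ((Classical.choose h : kˣ) : k) else 0
  have hf₀ : f₀ ∈ funSpace ι := by
    intro z x
    by_cases hx : x ∈ ι.range
    · have hzx : ι z * x ∈ ι.range := ι.range.mul_mem ⟨z, rfl⟩ hx
      have h1 : f₀ x = ((Classical.choose hx : kˣ) : k) := dif_pos hx
      have h2 : f₀ (ι z * x) = ((Classical.choose hzx : kˣ) : k) := dif_pos hzx
      have h3 : ι (Classical.choose hx) = x := Classical.choose_spec hx
      have h4 : ι (Classical.choose hzx) = ι z * x := Classical.choose_spec hzx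
      have h5 : Classical.choose hzx = z * Classical.choose hx := by
        apply hι
        rw [h4, map_mul, h3]
      rw [h1, h2, h5, Units.val_mul]
    · have hzx : ι z * x ∉ ι.range := by
        intro h
        apply hx
        have := ι.range.mul_mem (ι.range.inv_mem ⟨z, rfl⟩) h
        rwa [inv_mul_cancel_left] at this
      have h1 : f₀ x = 0 := dif_neg hx
      have h2 : f₀ (ι z * x) = 0 := dif_neg hzx
      rw [h1, h2, mul_zero]
  have h1mem : (1 : Γ) ∈ ι.range := ι.range.one_mem
  have hf₀1 : f₀ 1 = 1 := by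
    have h1 : f₀ 1 = ((Classical.choose h1mem : kˣ) : k) := dif_pos h1mem
    have h3 : ι (Classical.choose h1mem) = 1 := Classical.choose_spec h1mem
    have h5 : Classical.choose h1mem = 1 := by
      apply hι
      rw [h3, map_one]
    rw [h1, h5, Units.val_one]
  refine ⟨⟨⟨f₀, hf₀⟩, 0, ?_⟩⟩
  intro h
  have := congrArg (fun f : funSpace ι => f.1 1) h
  simp only at this
  rw [hf₀1] at this
  exact one_ne_zero this

theorem exists_irreducible [Finite (Γ ⧸ ι.range)] (hι : Function.Injective ι)
    (hcent : ι.range = Subgroup.center Γ) :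
    ∃ (V : Type u) (_ : AddCommGroup V) (_ : Module k V) (_ : FiniteDimensional k V)
      (ρ : Representation k Γ V), IsIrreducible ρ ∧ IsWeightOne ι ρ := by
  classical
  let P : ℕ → Prop := fun n => ∃ (V : Type u) (_ : AddCommGroup V) (_ : Module k V)
    (_ : FiniteDimensional k V) (_ : Nontrivial V) (ρ : Representation k Γ V),
    IsWeightOne ι ρ ∧ Module.finrank k V = n
  have hex : ∃ n, P n :=
    ⟨_, funSpace ι, inferInstance, inferInstance, funSpace_finite hcent, funSpace_nontrivial hι,
      funRep ι, funRep_weightOne hcent, rfl⟩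
  obtain ⟨V, iV1, iV2, iV3, iV4, ρ, hρ, hfin⟩ := Nat.find_spec hex
  refine ⟨V, iV1, iV2, iV3, ρ, ?_, hρ⟩
  refine { exists_pair_ne := ⟨⊥, ⊤, ?_⟩, eq_bot_or_eq_top := ?_ }
  · intro h
    have h1 : (⊥ : Submodule k V) = ⊤ := congrArg Subrepresentation.toSubmodule h
    obtain ⟨v, hv⟩ := exists_ne (0 : V)
    have : v ∈ (⊥ : Submodule k V) := h1 ▸ Submodule.mem_top
    exact hv ((Submodule.mem_bot k).1 this)
  · intro τ
    by_cases hτ : τ = ⊥
    · exact Or.inl hτ
    · right
      have hne : τ.toSubmodule ≠ ⊥ := fun h => hτ (Subrepresentation.toSubmodule_injective h)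
      haveI : Nontrivial τ.toSubmodule := Submodule.nontrivial_iff_ne_bot.2 hne
      have hτw : IsWeightOne ι τ.toRepresentation := by
        intro z v
        apply Subtype.ext
        exact hρ z v.1
      have hP : P (Module.finrank k τ.toSubmodule) :=
        ⟨τ.toSubmodule, inferInstance, inferInstance, inferInstance, inferInstance,
          τ.toRepresentation, hτw, rfl⟩
      have hmin := Nat.find_min' hex hP
      rw [← hfin] at hmin
      have hle := Submodule.finrank_le τ.toSubmodule
      have htop : τ.toSubmodule = ⊤ :=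
        Submodule.eq_top_of_finrank_eq (le_antisymm hle hmin)
      exact Subrepresentation.toSubmodule_injective htop

end Exist

end Theta

end Groth.Agent.Lib.Helper24Theta
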