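import Mathlib

/-!
# Heisenberg-type groups: index of the centralizer (helper24)
-/

set_option autoImplicit false
universe u

namespace Groth.Agent.Lib.Helper24ThetaPair

open scoped commutatorElement

section

variable {k : Type u} [Field k] [IsAlgClosed k]
  {Γ : Type u} [Group Γ] (ι : kˣ →* Γ) (hι : Function.Injective ι)
  (hcent : ι.range = Subgroup.center Γ) (hcomm : commutator Γ ≤ ι.range)

include hcomm in
theorem comm_mem (g x : Γ) : ⁅g, x⁆ ∈ ι.range := by
  apply hcomm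
  rw [commutator_def]
  exact Subgroup.commutator_mem_commutator (Subgroup.mem_top g) (Subgroup.mem_top x)

include hcent hcomm in
theorem comm_central (g x y : Γ) : y * ⁅g, x⁆ = ⁅g, x⁆ * y := by
  have h := comm_mem ι hcomm g x
  rw [hcent] at h
  exact (Subgroup.mem_center_iff.mp h y)

include hcent hcomm in
theorem comm_mul_right (g x y : Γ) : ⁅g, x * y⁆ = ⁅g, x⁆ * ⁅g, y⁆ := by
  have h := comm_central ι hcent hcomm g y x
  calc ⁅g, x * y⁆ = ⁅g, x⁆ * (x * ⁅g, y⁆) * x⁻¹ := by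
        simp only [commutatorElement_def]; group
    _ = ⁅g, x⁆ * (⁅g, y⁆ * x) * x⁻¹ := by rw [h]
    _ = ⁅g, x⁆ * ⁅g, y⁆ := by group

include hcent hcomm in
theorem comm_mul_left (g g' x : Γ) : ⁅g * g', x⁆ = ⁅g, x⁆ * ⁅g', x⁆ := by
  have h := comm_central ι hcent hcomm g' x (g⁻¹)
  calc ⁅g * g', x⁆ = g * ⁅g', x⁆ * g⁻¹ * ⁅g, x⁆ := by
        simp only [commutatorElement_def]; group
    _ = g * (g⁻¹ * ⁅g', x⁆ * g) * g⁻¹ * ⁅g, x⁆ := by
        have : g⁻¹ * ⁅g', x⁆ * g = ⁅g', x⁆ := by rw [h]; group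
        rw [this]
    _ = ⁅g', x⁆ * ⁅g, x⁆ := by group
    _ = ⁅g, x⁆ * ⁅g', x⁆ := (comm_central ι hcent hcomm g x _)

include hcent in
theorem comm_eq_one_of_mem_right (g : Γ) {x : Γ} (hx : x ∈ ι.range) : ⁅g, x⁆ = 1 := by
  rw [hcent] at hx
  have := Subgroup.mem_center_iff.mp hx g
  rw [commutatorElement_def, this]; group

include hcent in
theorem comm_eq_one_of_mem_left {g : Γ} (hg : g ∈ ι.range) (x : Γ) : ⁅g, x⁆ = 1 := by
  rw [hcent] at hg
  have := Subgroup.mem_center_iff.mp hg x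
  rw [commutatorElement_def, ← this]; group

/-- inverse of `ι` on its range -/
noncomputable def einv : ι.range ≃* kˣ := (MonoidHom.ofInjective hι).symm

/-- `x ↦ ι⁻¹ [g, x]` -/
noncomputable def c1 (g : Γ) : Γ →* kˣ where
  toFun x := einv ι hι ⟨⁅g, x⁆, comm_mem ι hcomm g x⟩
  map_one' := by
    have : (⟨⁅g, (1 : Γ)⁆, comm_mem ι hcomm g 1⟩ : ι.range) = 1 := by
      apply Subtype.ext; simp
    rw [this, map_one]
  map_mul' x y := by
    rw [← map_mul]
    congr 1
    apply Subtype.ext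
    exact comm_mul_right ι hcent hcomm g x y

theorem c1_apply (g x : Γ) :
    c1 ι hι hcent hcomm g x = einv ι hι ⟨⁅g, x⁆, comm_mem ι hcomm g x⟩ := rfl

theorem c1_eq_one_iff (g x : Γ) : c1 ι hι hcent hcomm g x = 1 ↔ ⁅g, x⁆ = 1 := by
  rw [c1_apply]
  constructor
  · intro h
    have := (einv ι hι).injective (h.trans (map_one _).symm)
    exact congrArg Subtype.val this
  · intro h
    have : (⟨⁅g, x⁆, comm_mem ι hcomm g x⟩ : ι.range) = 1 := Subtype.ext h
    rw [this, map_one]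

theorem c1_mul (g g' x : Γ) :
    c1 ι hι hcent hcomm (g * g') x = c1 ι hι hcent hcomm g x * c1 ι hι hcent hcomm g' x := by
  rw [c1_apply, c1_apply, c1_apply, ← map_mul]
  congr 1
  apply Subtype.ext
  exact comm_mul_left ι hcent hcomm g g' x

end

end Groth.Agent.Lib.Helper24ThetaPair
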