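import Mathlib
import Groth.Agent.Lib.Helper24ThetaPair

/-!
# Heisenberg-type groups: index of the centralizer, part 2 (helper24)
-/

set_option autoImplicit false
universe u

namespace Groth.Agent.Lib.Helper24Theta2

open scoped commutatorElement
open Groth.Agent.Lib.Helper24ThetaPair

section

variable {k : Type u} [Field k] [IsAlgClosed k]
  {Γ : Type u} [Group Γ] (ι : kˣ →* Γ) (hι : Function.Injective ι)
  (hcent : ι.range = Subgroup.center Γ) (hcomm : commutator Γ ≤ ι.range)

include hcent in
theorem normalZ : ι.range.Normal := by rw [hcent]; infer_instance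

/-- the quotient by the centre is commutative -/
@[reducible] noncomputable def commK [ι.range.Normal] : CommGroup (Γ ⧸ ι.range) :=
  { (inferInstance : Group (Γ ⧸ ι.range)) with
    mul_comm := by
      intro a b
      induction a using QuotientGroup.induction_on with
      | H a =>
        induction b using QuotientGroup.induction_on with
        | H b =>
          rw [← QuotientGroup.mk_mul, ← QuotientGroup.mk_mul, QuotientGroup.eq]
          have : (a * b)⁻¹ * (b * a) = ⁅b⁻¹, a⁻¹⁆ := by
            simp only [commutatorElement_def]; group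
          rw [this]
          exact comm_mem ι hcomm _ _ }

variable [ι.range.Normal]

/-- `c1 g` descends to the quotient -/
noncomputable def c2 (g : Γ) : Γ ⧸ ι.range →* kˣ :=
  QuotientGroup.lift ι.range (c1 ι hι hcent hcomm g) (fun x hx => by
    rw [MonoidHom.mem_ker, c1_eq_one_iff]
    exact comm_eq_one_of_mem_right ι hcent g hx)

theorem c2_mk (g x : Γ) : c2 ι hι hcent hcomm g (x : Γ ⧸ ι.range) = c1 ι hι hcent hcomm g x :=
  rfl

/-- the pairing as a hom in the first variable -/
noncomputable def c3 : Γ →* (Γ ⧸ ι.range →* kˣ) where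
  toFun g := c2 ι hι hcent hcomm g
  map_one' := by
    apply MonoidHom.ext
    intro x
    induction x using QuotientGroup.induction_on with
    | H x =>
      rw [c2_mk, MonoidHom.one_apply, c1_eq_one_iff]
      simp
  map_mul' g g' := by
    apply MonoidHom.ext
    intro x
    induction x using QuotientGroup.induction_on with
    | H x =>
      rw [MonoidHom.mul_apply, c2_mk, c2_mk, c2_mk, c1_mul]

/-- the pairing on the quotient -/
noncomputable def cbar : Γ ⧸ ι.range →* (Γ ⧸ ι.range →* kˣ) :=
  QuotientGroup.lift ι.range (c3 ι hι hcent hcomm) (fun g hg => by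
    rw [MonoidHom.mem_ker]
    apply MonoidHom.ext
    intro x
    induction x using QuotientGroup.induction_on with
    | H x =>
      show c2 ι hι hcent hcomm g (x : Γ ⧸ ι.range) = 1
      rw [c2_mk, c1_eq_one_iff]
      exact comm_eq_one_of_mem_left ι hcent hg x)

theorem cbar_mk_mk (g x : Γ) :
    cbar ι hι hcent hcomm (g : Γ ⧸ ι.range) (x : Γ ⧸ ι.range) = c1 ι hι hcent hcomm g x := rfl

theorem cbar_injective : Function.Injective (cbar ι hι hcent hcomm) := by
  rw [injective_iff_map_eq_one]
  intro a ha
  induction a using QuotientGroup.induction_on with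
  | H g =>
    rw [QuotientGroup.eq_one_iff, hcent, Subgroup.mem_center_iff]
    intro x
    have h1 : cbar ι hι hcent hcomm (g : Γ ⧸ ι.range) (x : Γ ⧸ ι.range) = 1 := by
      rw [ha]; rfl
    rw [cbar_mk_mk, c1_eq_one_iff, commutatorElement_eq_one_iff_mul_comm] at h1
    exact h1.symm

end

end Groth.Agent.Lib.Helper24Theta2
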