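import Mathlib
import Groth.Agent.Lib.Helper24ThetaPair
import Groth.Agent.Lib.Helper24Theta2

/-!
# S17512: lagrangian subgroups of a Heisenberg-type group (helper24)
-/

set_option autoImplicit false
universe u

namespace Groth.Agent.Lib.Helper24Theta3

open scoped commutatorElement
open Groth.Agent.Lib.Helper24ThetaPair Groth.Agent.Lib.Helper24Theta2

theorem neZero_of_coprime (k : Type u) [Field k] (n e : ℕ) (he : e ∣ n) (he0 : e ≠ 0)
    (hcop : n.Coprime (ringExpChar k)) : NeZero ((e : ℕ) : k) := by
  refine ⟨fun h => ?_⟩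
  have hdvd : ringChar k ∣ e := (ringChar.spec k e).mp h
  rcases Nat.eq_zero_or_pos (ringChar k) with h0 | hpos
  · rw [h0] at hdvd
    exact he0 (Nat.eq_zero_of_zero_dvd hdvd)
  · have h1 : ringExpChar k = ringChar k := by
      unfold ringExpChar
      exact max_eq_left hpos
    rw [h1] at hcop
    have h2 : ringChar k ∣ n := hdvd.trans he
    have h3 : ringChar k = 1 := Nat.Coprime.eq_one_of_dvd hcop.symm h2
    have hp := CharP.char_ne_one k (ringChar k)
    exact hp h3

theorem index_formula {k : Type u} [Field k] [IsAlgClosed k]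
    {Γ : Type u} [Group Γ] (ι : kˣ →* Γ) (hι : Function.Injective ι)
    (hcent : ι.range = Subgroup.center Γ) (hcomm : commutator Γ ≤ ι.range)
    [Finite (Γ ⧸ ι.range)] (hcop : (Nat.card (Γ ⧸ ι.range)).Coprime (ringExpChar k))
    (H : Subgroup Γ) (hH : ι.range ≤ H) :
    ι.range.index = (Subgroup.centralizer (H : Set Γ)).index * H.index := by
  haveI : ι.range.Normal := normalZ ι hcent
  letI : CommGroup (Γ ⧸ ι.range) := commK ι hcomm
  haveI : NeZero ((Monoid.exponent (Γ ⧸ ι.range) : ℕ) : k) :=
    neZero_of_coprime k _ _ Group.exponent_dvd_nat_card Monoid.exponent_ne_zero_of_finite hcop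
  haveI : NeZero (Monoid.exponent (Γ ⧸ ι.range)) := ⟨Monoid.exponent_ne_zero_of_finite⟩
  haveI hM : HasEnoughRootsOfUnity k (Monoid.exponent (Γ ⧸ ι.range)) :=
    IsSepClosed.hasEnoughRootsOfUnity k _
  have hcard : Nat.card ((Γ ⧸ ι.range) →* kˣ) = Nat.card (Γ ⧸ ι.range) :=
    CommGroup.card_monoidHom_of_hasEnoughRootsOfUnity _ _
  haveI : Finite ((Γ ⧸ ι.range) →* kˣ) := by
    apply Nat.finite_of_card_ne_zero
    rw [hcard]
    exact Nat.card_pos.ne'
  have hbij : Function.Bijective (cbar ι hι hcent hcomm) :=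
    (Nat.bijective_iff_injective_and_card _).mpr ⟨cbar_injective ι hι hcent hcomm, hcard.symm⟩
  set π := QuotientGroup.mk' ι.range with hπ
  set Hb : Subgroup (Γ ⧸ ι.range) := H.map π with hHb
  have hR : Function.Surjective (MonoidHom.domRestrictHom Hb kˣ) :=
    MonoidHom.domRestrict_surjective (M := k) Hb
  set Φ : Γ →* (Hb →* kˣ) :=
    (MonoidHom.domRestrictHom Hb kˣ).comp ((cbar ι hι hcent hcomm).comp π) with hΦ
  have hΦs : Function.Surjective Φ :=
    hR.comp (hbij.surjective.comp (QuotientGroup.mk'_surjective _))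
  have hker : Φ.ker = Subgroup.centralizer (H : Set Γ) := by
    ext g
    rw [MonoidHom.mem_ker, Subgroup.mem_centralizer_iff]
    constructor
    · intro h x hx
      have h1 := DFunLike.congr_fun h (⟨π x, Subgroup.mem_map_of_mem π hx⟩ : Hb)
      have h2 : cbar ι hι hcent hcomm (g : Γ ⧸ ι.range) (x : Γ ⧸ ι.range) = 1 := h1
      rw [cbar_mk_mk, c1_eq_one_iff, commutatorElement_eq_one_iff_mul_comm] at h2
      exact h2.symm
    · intro h
      apply MonoidHom.ext
      rintro ⟨y, hy⟩
      obtain ⟨x, hx, rfl⟩ := Subgroup.mem_map.mp hy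
      show cbar ι hι hcent hcomm (g : Γ ⧸ ι.range) (x : Γ ⧸ ι.range) = 1
      rw [cbar_mk_mk, c1_eq_one_iff, commutatorElement_eq_one_iff_mul_comm]
      exact (h x hx).symm
  haveI : HasEnoughRootsOfUnity k (Monoid.exponent Hb) :=
    hM.of_dvd k <| Monoid.exponent_submonoid_dvd Hb.toSubmonoid
  have h1 : (Subgroup.centralizer (H : Set Γ)).index = Nat.card Hb := by
    rw [← hker, Subgroup.index_ker, MonoidHom.range_eq_top.mpr hΦs, Subgroup.card_top]
    exact CommGroup.card_monoidHom_of_hasEnoughRootsOfUnity Hb k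
  have h2 : H.index = Hb.index := by
    rw [hHb]
    symm
    apply Subgroup.index_map_eq _ (QuotientGroup.mk'_surjective _)
    rw [QuotientGroup.ker_mk']
    exact hH
  rw [h1, h2, Subgroup.card_mul_index, Subgroup.index_eq_card]

theorem s17512
    (k : Type u) [Field k] [IsAlgClosed k]
    (Γ : Type u) [Group Γ] (ι : kˣ →* Γ) (hι : Function.Injective ι)
    (hcent : ι.range = Subgroup.center Γ) (hcomm : commutator Γ ≤ ι.range)
    [Finite (Γ ⧸ ι.range)] (hcop : (Nat.card (Γ ⧸ ι.range)).Coprime (ringExpChar k))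
    (H : Subgroup Γ) (hH : ι.range ≤ H) :
    List.TFAE [
      IsMulCommutative H ∧ ∀ H' : Subgroup Γ, IsMulCommutative H' → H ≤ H' → H' = H,
      IsMulCommutative H ∧ (ι.range.relIndex H) ^ 2 = ι.range.index,
      H = Subgroup.centralizer (H : Set Γ)] := by
  have hform := index_formula ι hι hcent hcomm hcop H hH
  have hZfin : ι.range.index ≠ 0 := by
    rw [Subgroup.index_eq_card]
    exact Nat.card_pos.ne'
  have hCi : (Subgroup.centralizer (H : Set Γ)).index ≠ 0 := by
    intro h; rw [h, zero_mul] at hform; exact hZfin hform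
  have hHi : H.index ≠ 0 := by
    intro h; rw [h, mul_zero] at hform; exact hZfin hform
  have hrel : ι.range.relIndex H * H.index = ι.range.index := Subgroup.relIndex_mul_index hH
  have hrelC : ι.range.relIndex H = (Subgroup.centralizer (H : Set Γ)).index := by
    have : ι.range.relIndex H * H.index = (Subgroup.centralizer (H : Set Γ)).index * H.index := by
      rw [hrel, hform]
    exact Nat.eq_of_mul_eq_mul_right (Nat.pos_of_ne_zero hHi) this
  tfae_have 1 → 3 := by
    rintro ⟨hc, hmax⟩
    apply le_antisymm (Subgroup.le_centralizer_iff_isMulCommutative.mpr hc)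
    intro x hx
    -- the subgroup generated by H and x is commutative
    set H' := Subgroup.closure ((H : Set Γ) ∪ {x}) with hH'
    have hcomm' : IsMulCommutative H' := by
      apply Subgroup.isMulCommutative_closure
      have hHc : ∀ a ∈ H, ∀ b ∈ H, a * b = b * a := fun a ha b hb =>
        setLike_mul_comm ha hb
      rw [Subgroup.mem_centralizer_iff] at hx
      rintro a (ha | ha) b (hb | hb)
      · exact hHc a ha b hb
      · rw [Set.mem_singleton_iff.mp hb]; exact hx a ha
      · rw [Set.mem_singleton_iff.mp ha]; exact (hx b hb).symm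
      · rw [Set.mem_singleton_iff.mp ha, Set.mem_singleton_iff.mp hb]
    have hle : H ≤ H' := by
      intro h hh
      exact Subgroup.subset_closure (Or.inl hh)
    have := hmax H' hcomm' hle
    rw [← this]
    exact Subgroup.subset_closure (Or.inr rfl)
  tfae_have 3 → 1 := by
    intro h
    have hc : IsMulCommutative H := Subgroup.le_centralizer_iff_isMulCommutative.mp h.le
    refine ⟨hc, ?_⟩
    intro H' hc' hle
    apply le_antisymm _ hle
    intro x hx
    rw [h, Subgroup.mem_centralizer_iff]
    intro y hy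
    have := Subgroup.le_centralizer_iff_isMulCommutative.mpr hc' hx
    rw [Subgroup.mem_centralizer_iff] at this
    exact this y (hle hy)
  tfae_have 2 → 3 := by
    rintro ⟨hc, hsq⟩
    have hle : H ≤ Subgroup.centralizer (H : Set Γ) :=
      Subgroup.le_centralizer_iff_isMulCommutative.mpr hc
    apply le_antisymm hle
    rw [hrelC, hform, sq] at hsq
    have heq : (Subgroup.centralizer (H : Set Γ)).index = H.index :=
      Nat.eq_of_mul_eq_mul_left (Nat.pos_of_ne_zero hCi) hsq
    have h3 := Subgroup.relIndex_mul_index hle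
    rw [heq] at h3
    have h4 : H.relIndex (Subgroup.centralizer (H : Set Γ)) = 1 := by
      have : H.relIndex (Subgroup.centralizer (H : Set Γ)) * H.index = 1 * H.index := by
        rw [h3, one_mul]
      exact Nat.eq_of_mul_eq_mul_right (Nat.pos_of_ne_zero hHi) this
    exact Subgroup.relIndex_eq_one.mp h4
  tfae_have 3 → 2 := by
    intro h
    refine ⟨Subgroup.le_centralizer_iff_isMulCommutative.mp h.le, ?_⟩
    rw [sq]
    nth_rewrite 2 [hrelC]
    rw [← h, hrel]
  tfae_finish

end Groth.Agent.Lib.Helper24Theta3
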