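import Mathlib
import Groth.Agent.Lib.Helper24Theta

universe u

namespace Groth.Agent.Lib.Helper24Theta

open Representation

section Maschke

variable {k : Type u} [Field k] {Γ : Type u} [Group Γ] {ι : kˣ →* Γ}
variable {W : Type*} [AddCommGroup W] [Module k W] (σ : Representation k Γ W)

theorem rho_inv_ι (hσ : IsWeightOne ι σ) (z : kˣ) :
    σ (ι z)⁻¹ = ((z⁻¹ : kˣ) : k) • (1 : Module.End k W) := by
  rw [← map_inv, rho_ι σ hσ]

/-- conjugating an endomorphism by `σ x` only depends on the coset of `x` -/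
theorem conj_mul_ι (hcent : ι.range = Subgroup.center Γ) (hσ : IsWeightOne ι σ)
    (π : Module.End k W) (x : Γ) (z : kˣ) :
    σ (x * ι z) * π * σ (x * ι z)⁻¹ = σ x * π * σ x⁻¹ := by
  have h1 : (x * ι z)⁻¹ = x⁻¹ * (ι z)⁻¹ := by
    rw [mul_inv_rev, ← map_inv, central hcent, map_inv]
  rw [h1, map_mul, map_mul, rho_ι σ hσ, rho_inv_ι σ hσ]
  simp only [mul_smul_comm, smul_mul_assoc, mul_one, smul_smul]
  rw [← Units.val_mul, inv_mul_cancel, Units.val_one, one_smul]

theorem isSemisimple_of_weightOne [Finite (Γ ⧸ ι.range)]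
    (hcent : ι.range = Subgroup.center Γ) (hσ : IsWeightOne ι σ)
    (hn : (Nat.card (Γ ⧸ ι.range) : k) ≠ 0) :
    IsSemisimpleRepresentation σ := by
  classical
  letI := Fintype.ofFinite (Γ ⧸ ι.range)
  refine ⟨fun U => ?_⟩
  obtain ⟨Q, hQ⟩ := Submodule.exists_isCompl U.toSubmodule
  let π₀ : Module.End k W := U.toSubmodule.subtype ∘ₗ (U.toSubmodule.projectionOnto Q hQ)
  have hπ₀mem : ∀ w, π₀ w ∈ U.toSubmodule := fun w => Submodule.coe_mem _
  have hπ₀id : ∀ u ∈ U.toSubmodule, π₀ u = u := by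
    intro u hu
    change ((U.toSubmodule.projectionOnto Q hQ) u : W) = u
    rw [Submodule.projectionOnto_apply_of_mem_left hQ hu]
  let F : Γ → Module.End k W := fun x => σ x * π₀ * σ x⁻¹
  have hF : ∀ x z, F (x * ι z) = F x := fun x z => conj_mul_ι σ hcent hσ π₀ x z
  have hFrep : ∀ x, F x = F (rep ι (x : Γ ⧸ ι.range)) := by
    intro x
    obtain ⟨z, hz⟩ := exists_eq_rep_mul ι x
    conv_lhs => rw [hz]
    exact hF _ z
  let S : Module.End k W := ∑ κ : Γ ⧸ ι.range, F (rep ι κ)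
  have hSconj : ∀ g, σ g * S * σ g⁻¹ = S := by
    intro g
    change σ g * (∑ κ : Γ ⧸ ι.range, F (rep ι κ)) * σ g⁻¹ = ∑ κ : Γ ⧸ ι.range, F (rep ι κ)
    rw [Finset.mul_sum, Finset.sum_mul]
    have h1 : ∀ κ : Γ ⧸ ι.range, σ g * F (rep ι κ) * σ g⁻¹ = F (rep ι (g • κ)) := by
      intro κ
      have h2 : σ g * F (rep ι κ) * σ g⁻¹ = F (g * rep ι κ) := by
        change σ g * (σ (rep ι κ) * π₀ * σ (rep ι κ)⁻¹) * σ g⁻¹ =
          σ (g * rep ι κ) * π₀ * σ (g * rep ι κ)⁻¹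
        rw [mul_inv_rev, map_mul, map_mul]
        simp only [mul_assoc]
      rw [h2, hFrep (g * rep ι κ)]
      congr 2
      conv_rhs => rw [← mk_rep ι κ]
      rfl
    rw [Finset.sum_congr rfl fun κ _ => h1 κ]
    exact Fintype.sum_equiv (MulAction.toPerm g) _ _ (fun κ => rfl)
  have hScomm : ∀ g, σ g * S = S * σ g := by
    intro g
    have := hSconj g
    calc σ g * S = σ g * S * σ g⁻¹ * σ g := by
          rw [mul_assoc (σ g * S), ← map_mul, inv_mul_cancel, map_one, mul_one]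
      _ = S * σ g := by rw [this]
  have hSmem : ∀ w, S w ∈ U.toSubmodule := by
    intro w
    change (∑ κ : Γ ⧸ ι.range, F (rep ι κ)) w ∈ U.toSubmodule
    rw [LinearMap.sum_apply]
    refine Submodule.sum_mem _ fun κ _ => ?_
    exact U.apply_mem_toSubmodule _ (hπ₀mem _)
  have hSid : ∀ u ∈ U.toSubmodule, S u = (Nat.card (Γ ⧸ ι.range) : k) • u := by
    intro u hu
    change (∑ κ : Γ ⧸ ι.range, F (rep ι κ)) u = _
    rw [LinearMap.sum_apply]
    have h1 : ∀ κ : Γ ⧸ ι.range, F (rep ι κ) u = u := by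
      intro κ
      change σ (rep ι κ) (π₀ (σ (rep ι κ)⁻¹ u)) = u
      rw [hπ₀id _ (U.apply_mem_toSubmodule _ hu), ← Module.End.mul_apply, ← map_mul,
        mul_inv_cancel, map_one, Module.End.one_apply]
    rw [Finset.sum_congr rfl fun κ _ => h1 κ, Finset.sum_const, Finset.card_univ,
      Nat.card_eq_fintype_card, Nat.cast_smul_eq_nsmul]
  let P : Module.End k W := (Nat.card (Γ ⧸ ι.range) : k)⁻¹ • S
  have hPmem : ∀ w, P w ∈ U.toSubmodule := fun w =>
    Submodule.smul_mem _ _ (hSmem w)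
  have hPid : ∀ u ∈ U.toSubmodule, P u = u := by
    intro u hu
    change (Nat.card (Γ ⧸ ι.range) : k)⁻¹ • S u = u
    rw [hSid u hu, smul_smul, inv_mul_cancel₀ hn, one_smul]
  have hPcomm : ∀ g w, P (σ g w) = σ g (P w) := by
    intro g w
    change (Nat.card (Γ ⧸ ι.range) : k)⁻¹ • S (σ g w) = σ g ((Nat.card (Γ ⧸ ι.range) : k)⁻¹ • S w)
    rw [map_smul]
    congr 1
    have := LinearMap.congr_fun (hScomm g) w
    exact this.symm
  let U' : Subrepresentation σ :=
    { toSubmodule := LinearMap.ker P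
      apply_mem_toSubmodule := fun g v hv => by
        rw [LinearMap.mem_ker] at hv ⊢
        rw [hPcomm, hv, map_zero] }
  refine ⟨U', ?_⟩
  rw [isCompl_iff, disjoint_iff, codisjoint_iff]
  constructor
  · apply Subrepresentation.toSubmodule_injective
    change U.toSubmodule ⊓ LinearMap.ker P = ⊥
    rw [eq_bot_iff]
    rintro u ⟨hu, hu'⟩
    rw [Submodule.mem_bot, ← hPid u hu]
    exact hu'
  · apply Subrepresentation.toSubmodule_injective
    change U.toSubmodule ⊔ LinearMap.ker P = ⊤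
    rw [eq_top_iff]
    intro w _
    rw [Submodule.mem_sup]
    refine ⟨P w, hPmem w, w - P w, ?_, by abel⟩
    rw [LinearMap.mem_ker, map_sub, hPid _ (hPmem w), sub_self]

end Maschke

section Level

variable {k : Type u} [Field k] {Γ : Type u} [Group Γ] {ι : kˣ →* Γ}

theorem normal_range (hcent : ι.range = Subgroup.center Γ) : ι.range.Normal :=
  hcent ▸ (inferInstance : (Subgroup.center Γ).Normal)

theorem mem_sup_iff (hcent : ι.range = Subgroup.center Γ) (H : Subgroup Γ) (x : Γ) :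
    x ∈ H ⊔ ι.range ↔ ∃ h ∈ H, ∃ z : kˣ, x = h * ι z := by
  haveI := normal_range hcent
  rw [Subgroup.mem_sup_of_normal_right]
  constructor
  · rintro ⟨y, hy, _, ⟨z, rfl⟩, rfl⟩
    exact ⟨y, hy, z, rfl⟩
  · rintro ⟨h, hh, z, rfl⟩
    exact ⟨h, hh, ι z, ⟨z, rfl⟩, rfl⟩

/-- a maximal level subgroup is its own centralizer modulo the centre -/
theorem mem_sup_of_commute [IsAlgClosed k] [Finite (Γ ⧸ ι.range)]
    (hcent : ι.range = Subgroup.center Γ)
    (H : Subgroup Γ) (hH : H ⊓ ι.range = ⊥)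
    (hmax : ∀ H' : Subgroup Γ, H' ⊓ ι.range = ⊥ → H ≤ H' → H' = H)
    (g : Γ) (hg : ∀ h ∈ H, Commute g h) : g ∈ H ⊔ ι.range := by
  classical
  haveI := normal_range hcent
  have hZN : ι.range ≤ H ⊔ ι.range := le_sup_right
  have hHN : H ≤ H ⊔ ι.range := le_sup_left
  -- some positive power of g lies in N
  have hex : ∃ m : ℕ, 0 < m ∧ g ^ m ∈ H ⊔ ι.range := by
    refine ⟨orderOf (g : Γ ⧸ ι.range), orderOf_pos _, hZN ?_⟩
    rw [← QuotientGroup.eq_one_iff, QuotientGroup.mk_pow, pow_orderOf_eq_one]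
  obtain ⟨hm0, hmN⟩ := Nat.find_spec hex
  set m := Nat.find hex with hmdef
  obtain ⟨h₀, hh₀, z₀, hz₀⟩ := (mem_sup_iff hcent H _).1 hmN
  obtain ⟨y, hy⟩ := IsAlgClosed.exists_pow_nat_eq ((z₀⁻¹ : kˣ) : k) hm0
  have hy0 : y ≠ 0 := by
    intro h
    rw [h, zero_pow hm0.ne'] at hy
    exact (Units.ne_zero _) hy.symm
  let z₁ : kˣ := Units.mk0 y hy0
  have hz₁ : z₁ ^ m = z₀⁻¹ := by
    apply Units.ext
    rw [Units.val_pow_eq_pow_val]
    exact hy
  set g' := g * ι z₁ with hg'def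
  have hcomm_gz : Commute g (ι z₁) := (central hcent z₁ g).symm
  have hg'm : g' ^ m = h₀ := by
    rw [hg'def, hcomm_gz.mul_pow, hz₀, ← map_pow, hz₁, mul_assoc, ← map_mul, mul_inv_cancel,
      map_one, mul_one]
  have hg'comm : ∀ h ∈ H, Commute g' h := by
    intro h hh
    have h1 : Commute (ι z₁) h := central hcent z₁ h
    exact (hg h hh).mul_left h1
  let φ : H × Multiplicative ℤ →* Γ :=
    (H.subtype).noncommCoprod (zpowersHom Γ g') (fun h j => by
      have := hg'comm h.1 h.2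
      exact (this.zpow_left _).symm)
  have hφ : ∀ (h : H) (j : Multiplicative ℤ), φ (h, j) = (h : Γ) * g' ^ (Multiplicative.toAdd j) :=
    fun h j => rfl
  have hHle : H ≤ φ.range := by
    intro h hh
    refine ⟨(⟨h, hh⟩, 1), ?_⟩
    rw [hφ]
    simp
  have hg'mem : g' ∈ φ.range := by
    refine ⟨(1, Multiplicative.ofAdd 1), ?_⟩
    rw [hφ]
    simp
  have hlevel : φ.range ⊓ ι.range = ⊥ := by
    rw [eq_bot_iff]
    rintro x ⟨⟨⟨h, j⟩, rfl⟩, hxZ⟩
    rw [Subgroup.mem_bot]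
    rw [hφ] at hxZ ⊢
    set j' : ℤ := Multiplicative.toAdd j with hj'
    -- g'^j' ∈ N
    have h1 : g' ^ j' ∈ H ⊔ ι.range := by
      have : g' ^ j' = (h : Γ)⁻¹ * ((h : Γ) * g' ^ j') := by group
      rw [this]
      exact (H ⊔ ι.range).mul_mem ((H ⊔ ι.range).inv_mem (hHN h.2)) (hZN hxZ)
    have hmpos : (0 : ℤ) < (m : ℤ) := by exact_mod_cast hm0
    have hdecomp : (m : ℤ) * (j' / m) + j' % m = j' := Int.mul_ediv_add_emod j' m
    have hr0 : 0 ≤ j' % (m : ℤ) := Int.emod_nonneg _ hmpos.ne'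
    have hrm : j' % (m : ℤ) < m := Int.emod_lt_of_pos _ hmpos
    have h2' : ∀ (q r0 : ℤ), j' = (m : ℤ) * q + r0 →
        g' ^ r0 = ((g' ^ m) ^ q)⁻¹ * g' ^ j' := by
      intro q r0 hj
      rw [hj, zpow_add, zpow_mul, zpow_natCast]
      group
    have h2 : g' ^ (j' % (m : ℤ)) = ((g' ^ m) ^ (j' / m))⁻¹ * g' ^ j' :=
      h2' _ _ hdecomp.symm
    have h3 : g' ^ (j' % (m : ℤ)) ∈ H ⊔ ι.range := by
      rw [h2, hg'm]
      exact (H ⊔ ι.range).mul_mem ((H ⊔ ι.range).inv_mem (hHN (H.zpow_mem hh₀ _))) h1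
    obtain ⟨r, hr⟩ := Int.eq_ofNat_of_zero_le hr0
    rw [hr, zpow_natCast] at h3
    have h4 : g ^ r ∈ H ⊔ ι.range := by
      have hgg' : g = g' * (ι z₁)⁻¹ := by rw [hg'def]; group
      have hc : Commute g' (ι z₁)⁻¹ := by
        rw [← map_inv]
        exact (central hcent z₁⁻¹ g').symm
      rw [hgg', hc.mul_pow]
      refine (H ⊔ ι.range).mul_mem h3 (hZN ?_)
      rw [← map_inv, ← map_pow]
      exact ⟨_, rfl⟩
    have hr0' : r = 0 := by
      by_contra hne
      have := Nat.find_min' hex ⟨Nat.pos_of_ne_zero hne, h4⟩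
      have hlt : (r : ℤ) < m := hr ▸ hrm
      have : (m : ℤ) ≤ r := by exact_mod_cast this
      omega
    have hj'm : j' = (m : ℤ) * (j' / m) := by
      have := hdecomp
      rw [hr, hr0'] at this
      simpa using this.symm
    have h5 : g' ^ j' ∈ H := by
      rw [hj'm, zpow_mul, zpow_natCast, hg'm]
      exact H.zpow_mem hh₀ _
    have h6 : (h : Γ) * g' ^ j' ∈ H ⊓ ι.range := ⟨H.mul_mem h.2 h5, hxZ⟩
    rw [hH] at h6
    exact (Subgroup.mem_bot).1 h6
  have hEq := hmax φ.range hlevel hHle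
  have hg'H : g' ∈ H := hEq ▸ hg'mem
  rw [mem_sup_iff hcent]
  refine ⟨g', hg'H, z₁⁻¹, ?_⟩
  rw [hg'def, map_inv]
  group

theorem e_eq_one_of_commute (hι : Function.Injective ι) (hcomm : commutator Γ ≤ ι.range)
    {g h : Γ} (hgh : Commute g h) : e hcomm g h = 1 := by
  apply hι
  rw [ι_e, map_one, hgh.eq]
  group

theorem commute_of_e_eq_one (hcomm : commutator Γ ≤ ι.range)
    {g h : Γ} (hgh : e hcomm g h = 1) : Commute g h := by
  have h1 := ι_e hcomm g h
  rw [hgh, map_one] at h1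
  have h2 : g * h = (g * h * g⁻¹ * h⁻¹) * (h * g) := by group
  rw [← h1, one_mul] at h2
  exact h2

theorem natCast_ne_zero_of_dvd_coprime {n d : ℕ} (hn : n ≠ 0)
    (hcop : n.Coprime (ringExpChar k)) (hd : d ∣ n) : (d : k) ≠ 0 := by
  intro h0
  have h1 : ringChar k ∣ d := (ringChar.spec k d).1 h0
  have h2 : ringChar k ∣ n := h1.trans hd
  by_cases hc : ringChar k = 0
  · rw [hc, zero_dvd_iff] at h2
    exact hn h2
  · have h3 : ringExpChar k = ringChar k := by
      unfold ringExpChar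
      exact max_eq_left (Nat.one_le_iff_ne_zero.2 hc)
    rw [h3] at hcop
    have h4 : ringChar k = 1 := Nat.Coprime.eq_one_of_dvd hcop.symm h2
    exact CharP.ringChar_ne_one h4

section HLevel

variable (H : Subgroup Γ)

theorem commute_of_level (hH : H ⊓ ι.range = ⊥) (hcomm : commutator Γ ≤ ι.range)
    {h h' : Γ} (hh : h ∈ H) (hh' : h' ∈ H) : Commute h h' := by
  have h1 : h * h' * h⁻¹ * h'⁻¹ ∈ H ⊓ ι.range := by
    refine ⟨H.mul_mem (H.mul_mem (H.mul_mem hh hh') (H.inv_mem hh)) (H.inv_mem hh'), ?_⟩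
    obtain ⟨z, hz⟩ := exists_comm hcomm h h'
    exact ⟨z, hz⟩
  rw [hH, Subgroup.mem_bot] at h1
  have h2 : h * h' = (h * h' * h⁻¹ * h'⁻¹) * (h' * h) := by group
  rw [h1, one_mul] at h2
  exact h2

theorem finite_of_level [Finite (Γ ⧸ ι.range)] (hH : H ⊓ ι.range = ⊥) : Finite H := by
  apply Finite.of_injective (fun h : H => ((h : Γ) : Γ ⧸ ι.range))
  intro h h' hhh'
  have h1 : (h : Γ)⁻¹ * (h' : Γ) ∈ ι.range := QuotientGroup.eq.1 hhh'
  have h2 : (h : Γ)⁻¹ * (h' : Γ) ∈ H ⊓ ι.range := ⟨H.mul_mem (H.inv_mem h.2) h'.2, h1⟩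
  rw [hH, Subgroup.mem_bot] at h2
  apply Subtype.ext
  exact (inv_mul_eq_one.1 h2)

theorem card_level_dvd (hcent : ι.range = Subgroup.center Γ) (hH : H ⊓ ι.range = ⊥) :
    Nat.card H ∣ Nat.card (Γ ⧸ ι.range) := by
  haveI := normal_range hcent
  rw [← Subgroup.index_eq_card, ← Subgroup.relIndex_bot_left, ← hH, Subgroup.inf_relIndex_left]
  exact Subgroup.relIndex_dvd_index_of_normal _ _

theorem finite_quot_sup [Finite (Γ ⧸ ι.range)] : Finite (Γ ⧸ (H ⊔ ι.range)) := by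
  haveI : ι.range.FiniteIndex := Subgroup.finiteIndex_of_finite_quotient
  haveI : (H ⊔ ι.range).FiniteIndex := Subgroup.finiteIndex_of_le le_sup_right
  exact Subgroup.finite_quotient_of_finiteIndex

theorem card_quot_sup_dvd [Finite (Γ ⧸ ι.range)] :
    Nat.card (Γ ⧸ (H ⊔ ι.range)) ∣ Nat.card (Γ ⧸ ι.range) := by
  rw [← Subgroup.index_eq_card, ← Subgroup.index_eq_card]
  exact Subgroup.index_dvd_of_le le_sup_right

end HLevel

section Avg

variable {W : Type*} [AddCommGroup W] [Module k W] (σ : Representation k Γ W) (H : Subgroup Γ)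

open Classical in
/-- averaging operator over the finite subgroup `H` -/
noncomputable def avg [Finite H] : Module.End k W :=
  letI := Fintype.ofFinite H
  (Nat.card H : k)⁻¹ • ∑ h : H, σ (h : Γ)

theorem sigma_sum_eq [Finite H] (h₀ : H) (w : W) :
    letI := Fintype.ofFinite H
    σ (h₀ : Γ) (∑ h : H, σ (h : Γ) w) = ∑ h : H, σ (h : Γ) w := by
  letI := Fintype.ofFinite H
  rw [map_sum]
  have : ∀ h : H, σ (h₀ : Γ) (σ (h : Γ) w) = σ ((h₀ * h : H) : Γ) w := by
    intro h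
    rw [← Module.End.mul_apply, ← map_mul]
    rfl
  rw [Finset.sum_congr rfl fun h _ => this h]
  exact Fintype.sum_equiv (Equiv.mulLeft h₀) _ _ (fun h => rfl)

theorem avg_apply [Finite H] (w : W) :
    letI := Fintype.ofFinite H
    avg σ H w = (Nat.card H : k)⁻¹ • ∑ h : H, σ (h : Γ) w := by
  unfold avg
  rw [LinearMap.smul_apply, LinearMap.sum_apply]

theorem avg_mem_invariants [Finite H] (w : W) :
    avg σ H w ∈ Representation.invariants (σ.comp H.subtype) := by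
  rw [Representation.mem_invariants]
  intro h₀
  rw [avg_apply]
  change σ (h₀ : Γ) _ = _
  rw [map_smul, sigma_sum_eq]

theorem avg_of_mem_invariants [Finite H] (hH : (Nat.card H : k) ≠ 0) {w : W}
    (hw : w ∈ Representation.invariants (σ.comp H.subtype)) : avg σ H w = w := by
  rw [Representation.mem_invariants] at hw
  rw [avg_apply]
  letI := Fintype.ofFinite H
  have hw' : ∀ h : H, σ (h : Γ) w = w := fun h => hw h
  rw [Finset.sum_congr rfl fun h _ => hw' h, Finset.sum_const, Finset.card_univ,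
    ← Nat.card_eq_fintype_card, ← Nat.cast_smul_eq_nsmul k, smul_smul, inv_mul_cancel₀ hH,
    one_smul]

theorem avg_eq_zero_of_eigen [Finite H] (χ : H → k) {u : W}
    (hu : ∀ h : H, σ (h : Γ) u = χ h • u) (h₀ : H) (hχ : χ h₀ ≠ 1) : avg σ H u = 0 := by
  rw [avg_apply]
  letI := Fintype.ofFinite H
  have h1 : ∑ h : H, σ (h : Γ) u = (∑ h : H, χ h) • u := by
    rw [Finset.sum_smul]
    exact Finset.sum_congr rfl fun h _ => hu h
  have h2 := sigma_sum_eq σ H h₀ u
  have hS : σ (h₀ : Γ) (∑ h : H, σ (h : Γ) u) = χ h₀ • ∑ h : H, σ (h : Γ) u := by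
    rw [h1, map_smul, hu h₀, smul_comm]
  have h4 : (χ h₀ - 1) • ∑ h : H, σ (h : Γ) u = 0 := by
    rw [sub_smul, one_smul, ← hS, h2, sub_self]
  have h5 : ∑ h : H, σ (h : Γ) u = 0 :=
    (smul_eq_zero.1 h4).resolve_left (sub_ne_zero.2 hχ)
  rw [h5, smul_zero]

end Avg

section Decomp

variable {W : Type*} [AddCommGroup W] [Module k W] (σ : Representation k Γ W) (H : Subgroup Γ)

theorem eigen_of_invariant (hcomm : commutator Γ ≤ ι.range) (hσ : IsWeightOne ι σ)
    {w : W} (hw : w ∈ Representation.invariants (σ.comp H.subtype)) (g : Γ) (h : H) :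
    σ (h : Γ) (σ g w) = (e hcomm (h : Γ) g : k) • σ g w := by
  rw [Representation.mem_invariants] at hw
  have h1 : σ (h : Γ) w = w := hw h
  have h2 := LinearMap.congr_fun (rho_mul_comm σ hcomm hσ (h : Γ) g) w
  rw [Module.End.mul_apply, LinearMap.smul_apply, Module.End.mul_apply, h1] at h2
  exact h2

theorem exists_e_ne_one [IsAlgClosed k] [Finite (Γ ⧸ ι.range)]
    (hcent : ι.range = Subgroup.center Γ) (hcomm : commutator Γ ≤ ι.range)
    (hH : H ⊓ ι.range = ⊥)
    (hmax : ∀ H' : Subgroup Γ, H' ⊓ ι.range = ⊥ → H ≤ H' → H' = H)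
    {g : Γ} (hg : g ∉ H ⊔ ι.range) : ∃ h₀ : H, (e hcomm (h₀ : Γ) g : k) ≠ 1 := by
  by_contra hcon
  push Not at hcon
  apply hg
  apply mem_sup_of_commute hcent H hH hmax g
  intro h hh
  have h1 : e hcomm h g = 1 := Units.ext (hcon ⟨h, hh⟩)
  exact (commute_of_e_eq_one hcomm h1).symm

theorem avg_sigma_eq_zero [IsAlgClosed k] [Finite (Γ ⧸ ι.range)] [Finite H]
    (hcent : ι.range = Subgroup.center Γ) (hcomm : commutator Γ ≤ ι.range)
    (hH : H ⊓ ι.range = ⊥)
    (hmax : ∀ H' : Subgroup Γ, H' ⊓ ι.range = ⊥ → H ≤ H' → H' = H)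
    (hσ : IsWeightOne ι σ) {w : W} (hw : w ∈ Representation.invariants (σ.comp H.subtype))
    {g : Γ} (hg : g ∉ H ⊔ ι.range) : avg σ H (σ g w) = 0 := by
  obtain ⟨h₀, hh₀⟩ := exists_e_ne_one H hcent hcomm hH hmax hg
  exact avg_eq_zero_of_eigen σ H (fun h => (e hcomm (h : Γ) g : k))
    (fun h => eigen_of_invariant σ H hcomm hσ hw g h) h₀ hh₀

theorem sigma_of_mem_sup (hcent : ι.range = Subgroup.center Γ) (hσ : IsWeightOne ι σ)
    {w : W} (hw : w ∈ Representation.invariants (σ.comp H.subtype))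
    {g : Γ} (hg : g ∈ H ⊔ ι.range) : ∃ z : kˣ, σ g w = (z : k) • w := by
  obtain ⟨h, hh, z, rfl⟩ := (mem_sup_iff hcent H g).1 hg
  refine ⟨z, ?_⟩
  rw [Representation.mem_invariants] at hw
  have h1 : σ h w = w := hw ⟨h, hh⟩
  rw [map_mul, Module.End.mul_apply, hσ z w, map_smul, h1]

variable (ι) in
/-- coset representatives for `Γ ⧸ (H ⊔ ι.range)` -/
noncomputable def rep' (c : Γ ⧸ (H ⊔ ι.range)) : Γ := Quotient.out c

theorem mk_rep' (c : Γ ⧸ (H ⊔ ι.range)) : ((rep' ι H c : Γ) : Γ ⧸ (H ⊔ ι.range)) = c :=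
  Quotient.out_eq' c

theorem sum_e_eq_zero [Finite (Γ ⧸ (H ⊔ ι.range))] (hι : Function.Injective ι)
    (hcent : ι.range = Subgroup.center Γ) (hcomm : commutator Γ ≤ ι.range)
    (hH : H ⊓ ι.range = ⊥) {h : Γ} (hh : h ∈ H) (hh1 : h ≠ 1) :
    letI := Fintype.ofFinite (Γ ⧸ (H ⊔ ι.range))
    ∑ c : Γ ⧸ (H ⊔ ι.range), (e hcomm (rep' ι H c) h : k) = 0 := by
  letI := Fintype.ofFinite (Γ ⧸ (H ⊔ ι.range))
  -- h is not central
  have hnc : h ∉ ι.range := by
    intro hz
    have : h ∈ H ⊓ ι.range := ⟨hh, hz⟩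
    rw [hH, Subgroup.mem_bot] at this
    exact hh1 this
  obtain ⟨g₀, hg₀⟩ : ∃ g₀ : Γ, (e hcomm g₀ h : k) ≠ 1 := by
    by_contra hcon
    push Not at hcon
    apply hnc
    rw [hcent, Subgroup.mem_center_iff]
    intro g
    have h1 : e hcomm g h = 1 := Units.ext (hcon g)
    exact (commute_of_e_eq_one hcomm h1).eq
  have hkey : ∀ c : Γ ⧸ (H ⊔ ι.range),
      (e hcomm (rep' ι H (g₀ • c)) h : k) = (e hcomm g₀ h : k) * (e hcomm (rep' ι H c) h : k) := by
    intro c
    have h1 : ((rep' ι H (g₀ • c) : Γ) : Γ ⧸ (H ⊔ ι.range)) =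
        ((g₀ * rep' ι H c : Γ) : Γ ⧸ (H ⊔ ι.range)) := by
      rw [mk_rep']
      conv_lhs => rw [← mk_rep' H c]
      rfl
    have h2 : (g₀ * rep' ι H c)⁻¹ * rep' ι H (g₀ • c) ∈ H ⊔ ι.range :=
      QuotientGroup.eq.1 h1.symm
    obtain ⟨h', hh', z, hz⟩ := (mem_sup_iff hcent H _).1 h2
    have h3 : rep' ι H (g₀ • c) = g₀ * rep' ι H c * (h' * ι z) := by
      rw [← hz]
      group
    have h4 : Commute (h' * ι z) h := by
      have ha : Commute h' h := commute_of_level H hH hcomm hh' hh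
      have hb : Commute (ι z) h := central hcent z h
      exact ha.mul_left hb
    rw [h3, e_mul_left hι hcent, e_mul_left hι hcent, e_eq_one_of_commute hι hcomm h4, mul_one,
      Units.val_mul]
  have hsum : ∑ c : Γ ⧸ (H ⊔ ι.range), (e hcomm (rep' ι H c) h : k) =
      ∑ c : Γ ⧸ (H ⊔ ι.range), (e hcomm (rep' ι H (g₀ • c)) h : k) :=
    (Fintype.sum_equiv (MulAction.toPerm g₀)
      (fun c => (e hcomm (rep' ι H (g₀ • c)) h : k)) (fun c => (e hcomm (rep' ι H c) h : k))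
      (fun c => rfl)).symm
  rw [Finset.sum_congr rfl fun c _ => hkey c, ← Finset.mul_sum] at hsum
  have h5 : ((e hcomm g₀ h : k) - 1) * ∑ c : Γ ⧸ (H ⊔ ι.range), (e hcomm (rep' ι H c) h : k)
      = 0 := by
    rw [sub_mul, one_mul, ← hsum, sub_self]
  exact (mul_eq_zero.1 h5).resolve_left (sub_ne_zero.2 hg₀)

theorem sum_conj_avg [Finite (Γ ⧸ (H ⊔ ι.range))] [Finite H] (hι : Function.Injective ι)
    (hcent : ι.range = Subgroup.center Γ) (hcomm : commutator Γ ≤ ι.range)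
    (hH : H ⊓ ι.range = ⊥) (hσ : IsWeightOne ι σ) :
    letI := Fintype.ofFinite (Γ ⧸ (H ⊔ ι.range))
    ∑ c : Γ ⧸ (H ⊔ ι.range), σ (rep' ι H c) * avg σ H * σ (rep' ι H c)⁻¹ =
      ((Nat.card (Γ ⧸ (H ⊔ ι.range)) : k) * (Nat.card H : k)⁻¹) • (1 : Module.End k W) := by
  classical
  letI := Fintype.ofFinite (Γ ⧸ (H ⊔ ι.range))
  letI := Fintype.ofFinite H
  have h1 : ∀ c : Γ ⧸ (H ⊔ ι.range), σ (rep' ι H c) * avg σ H * σ (rep' ι H c)⁻¹ =
      (Nat.card H : k)⁻¹ • ∑ h : H, (e hcomm (rep' ι H c) (h : Γ) : k) • σ (h : Γ) := by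
    intro c
    unfold avg
    rw [mul_smul_comm, smul_mul_assoc, Finset.mul_sum, Finset.sum_mul]
    congr 1
    refine Finset.sum_congr rfl fun h _ => ?_
    exact rho_conj σ hcomm hσ (h : Γ) (rep' ι H c)
  rw [Finset.sum_congr rfl fun c _ => h1 c, ← Finset.smul_sum, Finset.sum_comm]
  have h2 : ∀ h : H, ∑ c : Γ ⧸ (H ⊔ ι.range), (e hcomm (rep' ι H c) (h : Γ) : k) • σ (h : Γ) =
      (∑ c : Γ ⧸ (H ⊔ ι.range), (e hcomm (rep' ι H c) (h : Γ) : k)) • σ (h : Γ) := by
    intro h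
    rw [Finset.sum_smul]
  rw [Finset.sum_congr rfl fun h _ => h2 h]
  rw [Finset.sum_eq_single (1 : H)]
  · have h3 : ∀ c : Γ ⧸ (H ⊔ ι.range), (e hcomm (rep' ι H c) ((1 : H) : Γ) : k) = 1 := by
      intro c
      rw [Subgroup.coe_one, e_eq_one_of_commute hι hcomm (Commute.one_right _)]
      rfl
    rw [Finset.sum_congr rfl fun c _ => h3 c, Finset.sum_const, Finset.card_univ,
      ← Nat.card_eq_fintype_card, nsmul_eq_mul, mul_one, Subgroup.coe_one, map_one, smul_smul,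
      mul_comm]
  · intro h _ hne
    have hne' : (h : Γ) ≠ 1 := fun h0 => hne (Subtype.ext h0)
    rw [sum_e_eq_zero H hι hcent hcomm hH h.2 hne', zero_smul]
  · intro h
    exact absurd (Finset.mem_univ _) h

theorem finrank_eq_card_mul [IsAlgClosed k] [Finite (Γ ⧸ ι.range)] [FiniteDimensional k W]
    (hι : Function.Injective ι)
    (hcent : ι.range = Subgroup.center Γ) (hcomm : commutator Γ ≤ ι.range)
    (hH : H ⊓ ι.range = ⊥)
    (hmax : ∀ H' : Subgroup Γ, H' ⊓ ι.range = ⊥ → H ≤ H' → H' = H)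
    (hσ : IsWeightOne ι σ)
    (hcop : (Nat.card (Γ ⧸ ι.range)).Coprime (ringExpChar k)) :
    Module.finrank k W = Nat.card (Γ ⧸ (H ⊔ ι.range)) *
      Module.finrank k (Representation.invariants (σ.comp H.subtype)) := by
  classical
  haveI := finite_quot_sup (ι := ι) H
  haveI := finite_of_level H hH
  letI := Fintype.ofFinite (Γ ⧸ (H ⊔ ι.range))
  have hn0 : Nat.card (Γ ⧸ ι.range) ≠ 0 := Nat.card_pos.ne'
  have hcardH : (Nat.card H : k) ≠ 0 :=
    natCast_ne_zero_of_dvd_coprime hn0 hcop (card_level_dvd H hcent hH)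
  have hcardC : (Nat.card (Γ ⧸ (H ⊔ ι.range)) : k) ≠ 0 :=
    natCast_ne_zero_of_dvd_coprime hn0 hcop (card_quot_sup_dvd H)
  set I := Representation.invariants (σ.comp H.subtype) with hI
  let Ψ : ((Γ ⧸ (H ⊔ ι.range)) → I) →ₗ[k] W :=
    ∑ c : Γ ⧸ (H ⊔ ι.range), (σ (rep' ι H c)) ∘ₗ I.subtype ∘ₗ (LinearMap.proj c)
  have hΨ : ∀ f, Ψ f = ∑ c : Γ ⧸ (H ⊔ ι.range), σ (rep' ι H c) (f c : W) := by
    intro f
    simp only [Ψ, LinearMap.sum_apply, LinearMap.comp_apply, LinearMap.proj_apply,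
      Submodule.subtype_apply]
  have hinj : Function.Injective Ψ := by
    rw [← LinearMap.ker_eq_bot, LinearMap.ker_eq_bot']
    intro f hf
    rw [hΨ] at hf
    funext c₀
    apply Subtype.ext
    have h1 := congrArg (fun w => avg σ H (σ (rep' ι H c₀)⁻¹ w)) hf
    simp only [map_sum, map_zero] at h1
    have h2 : ∀ c : Γ ⧸ (H ⊔ ι.range), avg σ H (σ (rep' ι H c₀)⁻¹ (σ (rep' ι H c) (f c : W))) =
        avg σ H (σ ((rep' ι H c₀)⁻¹ * rep' ι H c) (f c : W)) := by
      intro c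
      rw [map_mul, Module.End.mul_apply]
    rw [Finset.sum_congr rfl fun c _ => h2 c, Finset.sum_eq_single c₀] at h1
    · rw [inv_mul_cancel, map_one, Module.End.one_apply,
        avg_of_mem_invariants σ H hcardH (f c₀).2] at h1
      exact h1
    · intro c _ hne
      apply avg_sigma_eq_zero σ H hcent hcomm hH hmax hσ (f c).2
      intro hmem
      apply hne
      have := QuotientGroup.eq.2 hmem
      rw [mk_rep', mk_rep'] at this
      exact this.symm
    · intro h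
      exact absurd (Finset.mem_univ _) h
  have hsurj : Function.Surjective Ψ := by
    intro w
    set lam : k := (Nat.card (Γ ⧸ (H ⊔ ι.range)) : k) * (Nat.card H : k)⁻¹ with hlam
    have hlam0 : lam ≠ 0 := mul_ne_zero hcardC (inv_ne_zero hcardH)
    refine ⟨fun c => lam⁻¹ • ⟨avg σ H (σ (rep' ι H c)⁻¹ w), avg_mem_invariants σ H _⟩, ?_⟩
    rw [hΨ]
    have h1 : ∀ c : Γ ⧸ (H ⊔ ι.range),
        σ (rep' ι H c) ((lam⁻¹ • (⟨avg σ H (σ (rep' ι H c)⁻¹ w),
          avg_mem_invariants σ H _⟩ : I) : I) : W) =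
        lam⁻¹ • (σ (rep' ι H c) * avg σ H * σ (rep' ι H c)⁻¹) w := by
      intro c
      rw [Submodule.coe_smul, map_smul]
      rfl
    rw [Finset.sum_congr rfl fun c _ => h1 c, ← Finset.smul_sum, ← LinearMap.sum_apply,
      sum_conj_avg σ H hι hcent hcomm hH hσ, LinearMap.smul_apply, Module.End.one_apply, smul_smul,
      inv_mul_cancel₀ hlam0, one_smul]
  have e := LinearEquiv.ofBijective Ψ ⟨hinj, hsurj⟩
  rw [← e.finrank_eq, Module.finrank_pi_fintype, Finset.sum_const, Finset.card_univ,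
    ← Nat.card_eq_fintype_card, smul_eq_mul]

end Decomp

section Irr

variable {V : Type*} [AddCommGroup V] [Module k V] (ρ : Representation k Γ V) (H : Subgroup Γ)

theorem finrank_invariants_eq_one [IsAlgClosed k] [Finite (Γ ⧸ ι.range)]
    [FiniteDimensional k V] [IsIrreducible ρ]
    (hι : Function.Injective ι)
    (hcent : ι.range = Subgroup.center Γ) (hcomm : commutator Γ ≤ ι.range)
    (hH : H ⊓ ι.range = ⊥)
    (hmax : ∀ H' : Subgroup Γ, H' ⊓ ι.range = ⊥ → H ≤ H' → H' = H)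
    (hρ : IsWeightOne ι ρ)
    (hcop : (Nat.card (Γ ⧸ ι.range)).Coprime (ringExpChar k)) :
    Module.finrank k (Representation.invariants (ρ.comp H.subtype)) = 1 := by
  classical
  haveI : Nontrivial V := nontrivial_of_isIrreducible ρ
  haveI := finite_of_level H hH
  have hn0 : Nat.card (Γ ⧸ ι.range) ≠ 0 := Nat.card_pos.ne'
  have hcardH : (Nat.card H : k) ≠ 0 :=
    natCast_ne_zero_of_dvd_coprime hn0 hcop (card_level_dvd H hcent hH)
  have hd := finrank_eq_card_mul ρ H hι hcent hcomm hH hmax hρ hcop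
  have hdpos : 0 < Module.finrank k V := Module.finrank_pos
  set I := Representation.invariants (ρ.comp H.subtype) with hI
  have hvpos : 0 < Module.finrank k I := by
    rcases Nat.eq_zero_or_pos (Module.finrank k I) with h0 | h0
    · rw [h0, mul_zero] at hd
      omega
    · exact h0
  obtain ⟨w₀, hw₀⟩ := Module.finrank_pos_iff_exists_ne_zero.1 hvpos
  have hw₀' : (w₀ : V) ≠ 0 := fun h => hw₀ (Subtype.ext h)
  have hle : Module.finrank k I ≤ 1 := by
    rw [finrank_le_one_iff]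
    refine ⟨w₀, fun w => ?_⟩
    obtain ⟨φ, hφ⟩ : ∃ φ : Module.Dual k V, φ (w₀ : V) ≠ 0 := by
      by_contra hcon
      push Not at hcon
      exact hw₀' ((Module.forall_dual_apply_eq_zero_iff k _).1 hcon)
    let a : Module.End k V := ((φ (w₀ : V))⁻¹ • φ).smulRight (w : V)
    have ha : a (w₀ : V) = (w : V) := by
      simp only [a, LinearMap.smulRight_apply, LinearMap.smul_apply, smul_eq_mul]
      rw [inv_mul_cancel₀ hφ, one_smul]
    have key : ∀ b : Module.End k V, ∃ c : k, avg ρ H (b (w₀ : V)) = c • (w₀ : V) := by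
      intro b
      obtain ⟨r, rfl⟩ := asAlgebraHom_surjective ρ b
      induction r using MonoidAlgebra.induction_on with
      | of g =>
        rw [asAlgebraHom_of]
        by_cases hg : g ∈ H ⊔ ι.range
        · obtain ⟨z, hz⟩ := sigma_of_mem_sup ρ H hcent hρ w₀.2 hg
          refine ⟨z, ?_⟩
          rw [hz, map_smul, avg_of_mem_invariants ρ H hcardH w₀.2]
        · refine ⟨0, ?_⟩
          rw [avg_sigma_eq_zero ρ H hcent hcomm hH hmax hρ w₀.2 hg, zero_smul]
      | add x y hx hy =>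
        obtain ⟨c₁, h₁⟩ := hx
        obtain ⟨c₂, h₂⟩ := hy
        refine ⟨c₁ + c₂, ?_⟩
        rw [map_add, LinearMap.add_apply, map_add, h₁, h₂, add_smul]
      | smul t x hx =>
        obtain ⟨c₁, h₁⟩ := hx
        refine ⟨t * c₁, ?_⟩
        rw [map_smul, LinearMap.smul_apply, map_smul, h₁, smul_smul]
    obtain ⟨c, hc⟩ := key a
    refine ⟨c, ?_⟩
    apply Subtype.ext
    rw [Submodule.coe_smul, ← hc, ha, avg_of_mem_invariants ρ H hcardH w.2]
  omega

end Irr

end Level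

end Groth.Agent.Lib.Helper24Theta
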