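import Mathlib

/-!
Coefficient of `t^n` in `e^{mt} (t/(1-e^{-t}))^{n+1}` is `C(m+n, n)` (S14509).
Proof: Pascal recurrence in `m`, the value at `m = -1` via a derivative identity.
-/

set_option autoImplicit false

open PowerSeries

namespace Groth.Agent.Lib.Helper24Todd

variable (f : PowerSeries ℚ)

lemma f_mul (hf : f * (exp ℚ - 1) = X * exp ℚ) :
    f * (1 - rescale (-1 : ℚ) (exp ℚ)) = X := by
  have h1 : exp ℚ * rescale (-1 : ℚ) (exp ℚ) = 1 := exp_mul_exp_neg_eq_one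
  linear_combination (rescale (-1 : ℚ) (exp ℚ)) * hf - (f - X) * h1

lemma f_const (hf : f * (exp ℚ - 1) = X * exp ℚ) : constantCoeff f = 1 := by
  have h := congrArg (coeff 1) hf
  rw [show (1 : ℕ) = 0 + 1 from rfl, coeff_succ_X_mul, coeff_mul,
    Finset.Nat.sum_antidiagonal_eq_sum_range_succ_mk, Finset.sum_range_succ,
    Finset.sum_range_one] at h
  simpa [coeff_exp, coeff_one] using h

lemma rec1 (hX : f * (1 - rescale (-1 : ℚ) (exp ℚ)) = X) (a : ℚ) (n : ℕ) :
    coeff (n + 1) (rescale a (exp ℚ) * f ^ (n + 1 + 1)) -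
      coeff (n + 1) (rescale (a - 1) (exp ℚ) * f ^ (n + 1 + 1)) =
      coeff n (rescale a (exp ℚ) * f ^ (n + 1)) := by
  have h2 : rescale (a - 1) (exp ℚ) = rescale a (exp ℚ) * rescale (-1 : ℚ) (exp ℚ) := by
    rw [exp_mul_exp_eq_exp_add, sub_eq_add_neg]
  have h3 : rescale a (exp ℚ) * f ^ (n + 1 + 1) - rescale (a - 1) (exp ℚ) * f ^ (n + 1 + 1) =
      X * (rescale a (exp ℚ) * f ^ (n + 1)) := by
    rw [h2]
    linear_combination (rescale a (exp ℚ) * f ^ (n + 1)) * hX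
  rw [← map_sub, h3, coeff_succ_X_mul]

lemma F_zero (hf : f * (exp ℚ - 1) = X * exp ℚ) (a : ℚ) :
    coeff 0 (rescale a (exp ℚ) * f ^ (0 + 1)) = 1 := by
  have hf0 := f_const f hf
  rw [zero_add, pow_one, coeff_zero_eq_constantCoeff_apply, map_mul, hf0, mul_one,
    ← coeff_zero_eq_constantCoeff_apply, coeff_rescale, pow_zero, one_mul, coeff_exp]
  simp

lemma key_deriv (hf : f * (exp ℚ - 1) = X * exp ℚ) :
    X * derivative ℚ f = f + X * f - f ^ 2 := by
  have hb : derivative ℚ f * (exp ℚ - 1) + f * exp ℚ = exp ℚ + X * exp ℚ := by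
    have h := congrArg (derivative ℚ) hf
    rw [Derivation.leibniz, Derivation.leibniz, map_sub, derivative_exp, derivative_one,
      derivative_X] at h
    simp only [smul_eq_mul, sub_zero, mul_one] at h
    linear_combination h
  have hne : exp ℚ - 1 ≠ (0 : PowerSeries ℚ) := by
    intro h0
    have := congrArg (coeff 1) h0
    simp [coeff_exp, coeff_one] at this
  have hc : (X * derivative ℚ f) * (exp ℚ - 1) = (f + X * f - f ^ 2) * (exp ℚ - 1) := by
    linear_combination X * hb - (1 + X - f) * hf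
  exact mul_right_cancel₀ hne hc

lemma at_neg_one (hf : f * (exp ℚ - 1) = X * exp ℚ) (k : ℕ) :
    coeff (k + 1) (rescale (-1 : ℚ) (exp ℚ) * f ^ (k + 1 + 1)) = 0 := by
  have hX := f_mul f hf
  have hD := key_deriv f hf
  have h1 : rescale (-1 : ℚ) (exp ℚ) * f ^ 2 = f - X * derivative ℚ f := by
    rw [hD]
    linear_combination (-f) * hX
  have h2 : ((k + 1 : ℕ) : PowerSeries ℚ) * (rescale (-1 : ℚ) (exp ℚ) * f ^ (k + 1 + 1)) =
      ((k + 1 : ℕ) : PowerSeries ℚ) * f ^ (k + 1) - X * derivative ℚ (f ^ (k + 1)) := by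
    rw [derivative_pow, Nat.add_sub_cancel]
    linear_combination (((k + 1 : ℕ) : PowerSeries ℚ) * f ^ k) * h1
  have h3 := congrArg (coeff (k + 1)) h2
  rw [← nsmul_eq_mul, ← nsmul_eq_mul, map_sub, map_nsmul, map_nsmul, coeff_succ_X_mul,
    coeff_derivative, nsmul_eq_mul, nsmul_eq_mul] at h3
  push_cast at h3
  have hk : ((k : ℚ) + 1) ≠ 0 := by positivity
  have h4 : ((k : ℚ) + 1) * coeff (k + 1) (rescale (-1 : ℚ) (exp ℚ) * f ^ (k + 1 + 1)) = 0 := by
    linarith
  exact (mul_eq_zero.mp h4).resolve_left hk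

theorem s14509 (hf : f * (exp ℚ - 1) = X * exp ℚ) :
    ∀ (n : ℕ) (m : ℤ), coeff n (rescale (m : ℚ) (exp ℚ) * f ^ (n + 1)) =
      ((Ring.choose (m + n : ℤ) n : ℤ) : ℚ) := by
  have hX := f_mul f hf
  intro n
  induction n with
  | zero =>
    intro m
    rw [F_zero f hf, Ring.choose_zero_right, Int.cast_one]
  | succ n ih =>
    have hstep : ∀ m : ℤ,
        coeff (n + 1) (rescale (m : ℚ) (exp ℚ) * f ^ (n + 1 + 1)) -
          ((Ring.choose (m + ((n + 1 : ℕ) : ℤ)) (n + 1) : ℤ) : ℚ) =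
        coeff (n + 1) (rescale ((m - 1 : ℤ) : ℚ) (exp ℚ) * f ^ (n + 1 + 1)) -
          ((Ring.choose (m - 1 + ((n + 1 : ℕ) : ℤ)) (n + 1) : ℤ) : ℚ) := by
      intro m
      have r1 := rec1 f hX (m : ℚ) n
      have e1 : (m + ((n + 1 : ℕ) : ℤ)) = (m + (n : ℤ)) + 1 := by push_cast; ring
      have e2 : (m - 1 + ((n + 1 : ℕ) : ℤ)) = m + (n : ℤ) := by push_cast; ring
      have e3 : ((m - 1 : ℤ) : ℚ) = (m : ℚ) - 1 := by push_cast; ring
      rw [e1, e2, e3, Ring.choose_succ_succ, Int.cast_add, ← ih m]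
      linarith
    have hbase : coeff (n + 1) (rescale ((-1 : ℤ) : ℚ) (exp ℚ) * f ^ (n + 1 + 1)) -
        ((Ring.choose (-1 + ((n + 1 : ℕ) : ℤ)) (n + 1) : ℤ) : ℚ) = 0 := by
      have e : (-1 + ((n + 1 : ℕ) : ℤ)) = ((n : ℕ) : ℤ) := by push_cast; ring
      have e' : ((-1 : ℤ) : ℚ) = -1 := by push_cast; ring
      rw [e, e', Ring.choose_natCast, Nat.choose_succ_self, at_neg_one f hf n]
      simp
    intro m
    have hall : coeff (n + 1) (rescale (m : ℚ) (exp ℚ) * f ^ (n + 1 + 1)) -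
        ((Ring.choose (m + ((n + 1 : ℕ) : ℤ)) (n + 1) : ℤ) : ℚ) = 0 := by
      induction m using Int.inductionOn' (b := -1) with
      | zero => exact hbase
      | succ k _ hk =>
        have := hstep (k + 1)
        rw [add_sub_cancel_right] at this
        rw [this]; exact hk
      | pred k _ hk =>
        rw [← hstep k]; exact hk
    exact sub_eq_zero.mp hall

end Groth.Agent.Lib.Helper24Todd
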