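import Mathlib
import Groth.Agent.Lib.Helper24Todd

/-!
Characterisation of the Todd series by `[t^n] f^(n+1) = 1` (S14506).
-/

set_option autoImplicit false

open PowerSeries

namespace Groth.Agent.Lib.Helper24Todd

lemma coeff_pow_succ_of_todd (f : PowerSeries ℚ) (hf : f * (exp ℚ - 1) = X * exp ℚ) (n : ℕ) :
    coeff n (f ^ (n + 1)) = 1 := by
  have h := s14509 f hf n 0
  rw [Int.cast_zero, rescale_zero_apply, constantCoeff_exp, map_one, one_mul, zero_add,
    Ring.choose_natCast, Nat.choose_self] at h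
  simpa using h

lemma add_pow_expand {R : Type*} [CommRing R] (a y : R) (k : ℕ) :
    ∃ Q : R, (a + y) ^ (k + 1) = a ^ (k + 1) + ((k + 1 : ℕ) : R) * a ^ k * y + y ^ 2 * Q := by
  induction k with
  | zero => exact ⟨0, by simp⟩
  | succ k ih =>
    obtain ⟨Q, hQ⟩ := ih
    refine ⟨a * Q + ((k + 1 : ℕ) : R) * a ^ k + y * Q, ?_⟩
    rw [pow_succ, hQ]
    push_cast
    ring

lemma exists_todd : ∃ T : PowerSeries ℚ, T * (exp ℚ - 1) = X * exp ℚ := by
  obtain ⟨u, hudef⟩ : ∃ u : PowerSeries ℚ,
      u = PowerSeries.mk fun n => (1 : ℚ) / ((n + 1).factorial : ℚ) := ⟨_, rfl⟩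
  have hu : X * u = exp ℚ - 1 := by
    ext n
    cases n with
    | zero => simp [coeff_exp]
    | succ n =>
      rw [coeff_succ_X_mul, hudef, coeff_mk, map_sub, coeff_exp, coeff_one]
      simp
  have hu0 : constantCoeff u ≠ 0 := by
    rw [← coeff_zero_eq_constantCoeff_apply, hudef, coeff_mk]
    norm_num
  refine ⟨exp ℚ * u⁻¹, ?_⟩
  rw [← hu]
  calc exp ℚ * u⁻¹ * (X * u) = X * exp ℚ * (u * u⁻¹) := by ring
    _ = X * exp ℚ := by rw [PowerSeries.mul_inv_cancel u hu0, mul_one]

lemma unique_of_coeff (f T : PowerSeries ℚ) (hf : ∀ n, coeff n (f ^ (n + 1)) = 1)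
    (hT : ∀ n, coeff n (T ^ (n + 1)) = 1) : f = T := by
  have hT0 : coeff 0 T = 1 := by
    have := hT 0
    rwa [zero_add, pow_one] at this
  have hf0 : coeff 0 f = 1 := by
    have := hf 0
    rwa [zero_add, pow_one] at this
  have hTc : constantCoeff T = 1 := by
    rw [← coeff_zero_eq_constantCoeff_apply]; exact hT0
  ext n
  induction n using Nat.strong_induction_on with
  | _ n ih =>
    rcases Nat.eq_zero_or_pos n with rfl | hn
    · rw [hf0, hT0]
    · have hdvd : X ^ n ∣ f - T := by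
        rw [X_pow_dvd_iff]
        intro m hm
        rw [map_sub, ih m hm, sub_self]
      obtain ⟨h, hh⟩ := hdvd
      have hfT : f = T + X ^ n * h := by rw [← hh]; ring
      obtain ⟨Q, hQ⟩ := add_pow_expand T (X ^ n * h) n
      have e1 := hf n
      rw [hfT, hQ, map_add, map_add, hT n] at e1
      have e2 : coeff n (((n + 1 : ℕ) : PowerSeries ℚ) * T ^ n * (X ^ n * h)) =
          ((n : ℚ) + 1) * constantCoeff h := by
        have : ((n + 1 : ℕ) : PowerSeries ℚ) * T ^ n * (X ^ n * h) =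
            X ^ n * (((n + 1 : ℕ) : PowerSeries ℚ) * (T ^ n * h)) := by ring
        rw [this, coeff_X_pow_mul', if_pos le_rfl, Nat.sub_self]
        simp [hTc]
      have e3 : coeff n ((X ^ n * h) ^ 2 * Q) = 0 := by
        have : (X ^ n * h) ^ 2 * Q = X ^ (2 * n) * (h ^ 2 * Q) := by ring
        rw [this, coeff_X_pow_mul', if_neg (by omega)]
      rw [e2, e3, add_zero] at e1
      have hk : ((n : ℚ) + 1) ≠ 0 := by positivity
      have h0 : constantCoeff h = 0 := by
        have : ((n : ℚ) + 1) * constantCoeff h = 0 := by linarith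
        exact (mul_eq_zero.mp this).resolve_left hk
      rw [hfT, map_add, coeff_X_pow_mul', if_pos le_rfl, Nat.sub_self,
        coeff_zero_eq_constantCoeff_apply, h0, add_zero]

theorem s14506 (f : PowerSeries ℚ) :
    (∀ n : ℕ, coeff n (f ^ (n + 1)) = 1) ↔ f * (exp ℚ - 1) = X * exp ℚ := by
  constructor
  · intro h
    obtain ⟨T, hT⟩ := exists_todd
    have := unique_of_coeff f T h (coeff_pow_succ_of_todd T hT)
    rw [this]; exact hT
  · intro hf n
    exact coeff_pow_succ_of_todd f hf n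

end Groth.Agent.Lib.Helper24Todd
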