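import Mathlib

/-!
# Hermitian Toeplitz matrices with positive symbol are positive definite

Helper library for S19019.
-/

namespace Groth.Agent.Lib.Helper24Toeplitz

open Complex MeasureTheory intervalIntegral
open scoped ComplexConjugate Real ComplexOrder

/-- The character `y ↦ exp (I n y)`. -/
noncomputable def e (n : ℤ) (y : ℝ) : ℂ := Complex.exp (Complex.I * (n : ℂ) * (y : ℂ))

theorem e_continuous (n : ℤ) : Continuous (e n) := by
  unfold e
  fun_prop

theorem e_add (n n' : ℤ) (y : ℝ) : e (n + n') y = e n y * e n' y := by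
  unfold e
  rw [← Complex.exp_add]
  congr 1
  push_cast
  ring

theorem e_conj (n : ℤ) (y : ℝ) : conj (e n y) = e (-n) y := by
  unfold e
  rw [← Complex.exp_conj]
  congr 1
  simp

theorem integral_e (n : ℤ) : ∫ y in (0 : ℝ)..(2 * π), e n y = if n = 0 then (2 * π : ℂ) else 0 := by
  split_ifs with h
  · subst h
    simp [e]
  · have hc : Complex.I * (n : ℂ) ≠ 0 := by
      apply mul_ne_zero Complex.I_ne_zero
      exact_mod_cast h
    unfold e
    rw [integral_exp_mul_complex hc]
    have : Complex.exp (Complex.I * (n : ℂ) * ((2 * π : ℝ) : ℂ)) = 1 := by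
      have := Complex.exp_int_mul_two_pi_mul_I n
      rw [← this]
      congr 1
      push_cast
      ring
    rw [this]
    simp

/-- The symbol. -/
noncomputable def F (c : ℤ → ℂ) (m : ℕ) (y : ℝ) : ℂ :=
  ∑ k ∈ Finset.Ioo (-(m : ℤ)) (m : ℤ), c k * e k y

theorem F_continuous (c : ℤ → ℂ) (m : ℕ) : Continuous (F c m) := by
  unfold F
  apply continuous_finset_sum
  intro k _
  exact continuous_const.mul (e_continuous k)

theorem F_eq (c : ℤ → ℂ) (m : ℕ) (y : ℝ) :
    F c m y = ∑ k ∈ Finset.Ioo (-(m : ℤ)) (m : ℤ),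
      c k * Complex.exp (Complex.I * (k : ℂ) * (y : ℂ)) := rfl

/-- The trigonometric polynomial attached to a vector. -/
noncomputable def p {m : ℕ} (x : Fin m → ℂ) (y : ℝ) : ℂ := ∑ j : Fin m, x j * e (-(j : ℤ)) y

theorem p_continuous {m : ℕ} (x : Fin m → ℂ) : Continuous (p x) := by
  unfold p
  apply continuous_finset_sum
  intro k _
  exact continuous_const.mul (e_continuous _)

theorem integral_F_mul_e (c : ℤ → ℂ) (m : ℕ) (n : ℤ) (hn : n ∈ Finset.Ioo (-(m : ℤ)) (m : ℤ)) :
    ∫ y in (0 : ℝ)..(2 * π), F c m y * e (-n) y = 2 * π * c n := by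
  have h1 : ∀ y : ℝ, F c m y * e (-n) y =
      ∑ k ∈ Finset.Ioo (-(m : ℤ)) (m : ℤ), c k * e (k - n) y := by
    intro y
    rw [F, Finset.sum_mul]
    apply Finset.sum_congr rfl
    intro k _
    rw [sub_eq_add_neg, e_add, mul_assoc]
  simp_rw [h1]
  rw [intervalIntegral.integral_finset_sum]
  · simp_rw [intervalIntegral.integral_const_mul, integral_e, sub_eq_zero]
    rw [Finset.sum_eq_single_of_mem n hn]
    · simp [mul_comm]
    · intro k _ hk
      simp [hk]
  · intro k _
    exact (continuous_const.mul (e_continuous _)).intervalIntegrable _ _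

theorem conj_p_mul_p {m : ℕ} (x : Fin m → ℂ) (y : ℝ) :
    conj (p x y) * p x y =
      ∑ i : Fin m, ∑ j : Fin m, conj (x i) * x j * e (-((j : ℤ) - (i : ℤ))) y := by
  unfold p
  rw [map_sum, Finset.sum_mul_sum]
  apply Finset.sum_congr rfl
  intro i _
  apply Finset.sum_congr rfl
  intro j _
  rw [map_mul, e_conj, neg_neg, neg_sub, sub_eq_add_neg, e_add]
  ring

theorem integral_F_mul_normSq (c : ℤ → ℂ) {m : ℕ} (x : Fin m → ℂ) :
    ∫ y in (0 : ℝ)..(2 * π), F c m y * (conj (p x y) * p x y) =
      2 * π * ∑ i : Fin m, ∑ j : Fin m, conj (x i) * c ((j : ℤ) - (i : ℤ)) * x j := by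
  have h1 : ∀ y : ℝ, F c m y * (conj (p x y) * p x y) =
      ∑ i : Fin m, ∑ j : Fin m, conj (x i) * x j * (F c m y * e (-((j : ℤ) - (i : ℤ))) y) := by
    intro y
    rw [conj_p_mul_p, Finset.mul_sum]
    apply Finset.sum_congr rfl
    intro i _
    rw [Finset.mul_sum]
    apply Finset.sum_congr rfl
    intro j _
    ring
  simp_rw [h1]
  rw [intervalIntegral.integral_finset_sum]
  · rw [Finset.mul_sum]
    apply Finset.sum_congr rfl
    intro i _
    rw [intervalIntegral.integral_finset_sum]
    · rw [Finset.mul_sum]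
      apply Finset.sum_congr rfl
      intro j _
      rw [intervalIntegral.integral_const_mul, integral_F_mul_e]
      · ring
      · rw [Finset.mem_Ioo]
        have hi := i.2
        have hj := j.2
        constructor <;> omega
    · intro j _
      exact (continuous_const.mul ((F_continuous c m).mul (e_continuous _))).intervalIntegrable _ _
  · intro i _
    apply Continuous.intervalIntegrable
    apply continuous_finset_sum
    intro j _
    exact continuous_const.mul ((F_continuous c m).mul (e_continuous _))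

open Matrix in
theorem quad_eq (t : ℤ → ℂ) {m : ℕ} (A : Matrix (Fin m) (Fin m) ℂ)
    (hA : ∀ i j : Fin m, A i j = t ((j : ℤ) - (i : ℤ))) (x : Fin m → ℂ) :
    star x ⬝ᵥ A *ᵥ x = ∑ i : Fin m, ∑ j : Fin m, conj (x i) * t ((j : ℤ) - (i : ℤ)) * x j := by
  simp only [dotProduct, mulVec, Finset.mul_sum, hA, Pi.star_apply, mul_assoc]
  rfl

open Matrix in
theorem quad_real {m : ℕ} (A : Matrix (Fin m) (Fin m) ℂ) (hH : A.IsHermitian) (x : Fin m → ℂ) :
    (star x ⬝ᵥ A *ᵥ x).im = 0 := by
  have h1 : star (star x ⬝ᵥ A *ᵥ x) = star x ⬝ᵥ A *ᵥ x := by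
    calc star (star x ⬝ᵥ A *ᵥ x) = star (A *ᵥ x) ⬝ᵥ x := (Matrix.star_dotProduct _ _).symm
      _ = (star x ᵥ* Aᴴ) ⬝ᵥ x := by rw [Matrix.star_mulVec]
      _ = star x ⬝ᵥ A *ᵥ x := by rw [hH.eq, ← Matrix.dotProduct_mulVec]
  exact Complex.conj_eq_iff_im.mp h1

theorem normSq_eq {m : ℕ} (x : Fin m → ℂ) (y : ℝ) :
    conj (p x y) * p x y = ((Complex.normSq (p x y) : ℝ) : ℂ) :=
  (Complex.normSq_eq_conj_mul_self).symm

open Matrix in
theorem main (m : ℕ) (t : ℤ → ℂ) (A : Matrix (Fin m) (Fin m) ℂ)
    (hA : ∀ i j : Fin m, A i j = t ((j : ℤ) - (i : ℤ))) (hH : A.IsHermitian)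
    (hpos : Set.Countable {y : ℝ | ¬ 0 < (∑ k ∈ Finset.Ioo (-(m : ℤ)) (m : ℤ),
        t k * Complex.exp (Complex.I * (k : ℂ) * (y : ℂ))).re}) :
    A.PosDef := by
  apply Matrix.PosDef.of_dotProduct_mulVec_pos hH
  intro x hx
  have h2π : (0 : ℝ) ≤ 2 * π := by positivity
  have hπ : (0 : ℝ) < 2 * π := by positivity
  -- m is positive
  have hm : 0 < m := by
    rcases Nat.eq_zero_or_pos m with rfl | h
    · exfalso
      apply hx
      ext i
      exact i.elim0
    · exact h
  -- a.e. positivity of the symbol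
  have hae : ∀ᵐ y ∂(volume : Measure ℝ), 0 < (F t m y).re := by
    rw [MeasureTheory.ae_iff]
    exact hpos.measure_zero _
  -- the two integrals
  have hI1 : ∫ y in (0 : ℝ)..(2 * π), (F t m y).re * Complex.normSq (p x y) =
      2 * π * (star x ⬝ᵥ A *ᵥ x).re := by
    have h1 := integral_F_mul_normSq t x
    rw [← quad_eq t A hA x] at h1
    have h2 := congrArg Complex.re h1
    have hint : IntervalIntegrable (fun y : ℝ => F t m y * (conj (p x y) * p x y)) volume 0 (2 * π) := by
      apply Continuous.intervalIntegrable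
      exact (F_continuous t m).mul ((Complex.continuous_conj.comp (p_continuous x)).mul
        (p_continuous x))
    have h2' : ∫ y in (0 : ℝ)..(2 * π), (F t m y * (conj (p x y) * p x y)).re =
        (∫ y in (0 : ℝ)..(2 * π), F t m y * (conj (p x y) * p x y)).re :=
      intervalIntegral.intervalIntegral_re (𝕜 := ℂ) hint
    rw [← h2'] at h2
    have h3 : ∀ y : ℝ, (F t m y * (conj (p x y) * p x y)).re =
        (F t m y).re * Complex.normSq (p x y) := by
      intro y
      rw [normSq_eq]
      exact Complex.re_mul_ofReal _ _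
    simp_rw [h3] at h2
    rw [h2]
    have : ((2 : ℂ) * (π : ℂ)) = ((2 * π : ℝ) : ℂ) := by push_cast; ring
    rw [this, Complex.re_ofReal_mul]
  have hI2 : ∫ y in (0 : ℝ)..(2 * π), Complex.normSq (p x y) =
      2 * π * ∑ i : Fin m, Complex.normSq (x i) := by
    have h1 := integral_F_mul_normSq (fun k => if k = 0 then (1 : ℂ) else 0) x
    have hF : ∀ y : ℝ, F (fun k => if k = 0 then (1 : ℂ) else 0) m y = 1 := by
      intro y
      unfold F
      rw [Finset.sum_eq_single_of_mem (0 : ℤ)]
      · simp [e]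
      · rw [Finset.mem_Ioo]
        constructor <;> omega
      · intro k _ hk
        simp [hk]
    simp_rw [hF, one_mul] at h1
    have hsum : ∑ i : Fin m, ∑ j : Fin m,
        conj (x i) * (if ((j : ℤ) - (i : ℤ)) = 0 then (1 : ℂ) else 0) * x j =
        ((∑ i : Fin m, Complex.normSq (x i) : ℝ) : ℂ) := by
      push_cast
      apply Finset.sum_congr rfl
      intro i _
      rw [Finset.sum_eq_single_of_mem i (Finset.mem_univ _)]
      · simp [Complex.normSq_eq_conj_mul_self]
      · intro j _ hj
        have : ¬ ((j : ℤ) - (i : ℤ) = 0) := by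
          intro h
          apply hj
          apply Fin.ext
          omega
        simp [this]
    rw [hsum] at h1
    have h2 := congrArg Complex.re h1
    have hint : IntervalIntegrable (fun y : ℝ => conj (p x y) * p x y) volume 0 (2 * π) := by
      apply Continuous.intervalIntegrable
      exact (Complex.continuous_conj.comp (p_continuous x)).mul (p_continuous x)
    have h2' : ∫ y in (0 : ℝ)..(2 * π), (conj (p x y) * p x y).re =
        (∫ y in (0 : ℝ)..(2 * π), conj (p x y) * p x y).re :=
      intervalIntegral.intervalIntegral_re (𝕜 := ℂ) hint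
    rw [← h2'] at h2
    have h3 : ∀ y : ℝ, (conj (p x y) * p x y).re = Complex.normSq (p x y) := by
      intro y
      rw [normSq_eq]
      exact Complex.ofReal_re _
    simp_rw [h3] at h2
    rw [h2]
    have : ((2 : ℂ) * (π : ℂ)) = ((2 * π : ℝ) : ℂ) := by push_cast; ring
    rw [this, Complex.re_ofReal_mul, Complex.ofReal_re]
  -- positivity of Parseval sum
  have hsumpos : 0 < ∑ i : Fin m, Complex.normSq (x i) := by
    obtain ⟨i, hi⟩ : ∃ i, x i ≠ 0 := by
      by_contra h
      push Not at h
      exact hx (funext h)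
    exact Finset.sum_pos' (fun j _ => Complex.normSq_nonneg _)
      ⟨i, Finset.mem_univ _, Complex.normSq_pos.mpr hi⟩
  -- nonnegativity and positivity of the main integral
  have hg_cont : Continuous (fun y : ℝ => (F t m y).re * Complex.normSq (p x y)) :=
    (Complex.continuous_re.comp (F_continuous t m)).mul
      (Complex.continuous_normSq.comp (p_continuous x))
  have hg_nonneg : 0 ≤ᵐ[(volume : Measure ℝ)] fun y : ℝ => (F t m y).re * Complex.normSq (p x y) := by
    filter_upwards [hae] with y hy
    exact mul_nonneg hy.le (Complex.normSq_nonneg _)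
  have hIpos : 0 < ∫ y in (0 : ℝ)..(2 * π), (F t m y).re * Complex.normSq (p x y) := by
    have h0 := intervalIntegral.integral_nonneg_of_ae h2π hg_nonneg
    rcases h0.lt_or_eq with h | h
    · exact h
    · exfalso
      have hz := (intervalIntegral.integral_eq_zero_iff_of_le_of_nonneg_ae h2π
        (ae_restrict_of_ae hg_nonneg) (hg_cont.intervalIntegrable _ _)).mp h.symm
      have hz2 : (fun y : ℝ => Complex.normSq (p x y)) =ᵐ[volume.restrict (Set.Ioc 0 (2 * π))] 0 := by
        filter_upwards [hz, ae_restrict_of_ae hae] with y hy hy2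
        have : (F t m y).re * Complex.normSq (p x y) = 0 := hy
        rcases mul_eq_zero.mp this with h1 | h1
        · exact absurd h1 hy2.ne'
        · exact h1
      have hcontN : Continuous (fun y : ℝ => Complex.normSq (p x y)) :=
        Complex.continuous_normSq.comp (p_continuous x)
      have hz3 := (intervalIntegral.integral_eq_zero_iff_of_le_of_nonneg_ae h2π
        (Filter.Eventually.of_forall (fun y => Complex.normSq_nonneg _))
        (hcontN.intervalIntegrable _ _)).mpr hz2
      rw [hI2] at hz3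
      have : 0 < 2 * π * ∑ i : Fin m, Complex.normSq (x i) := mul_pos hπ hsumpos
      linarith
  rw [hI1] at hIpos
  have hre : 0 < (star x ⬝ᵥ A *ᵥ x).re := by
    by_contra h
    push Not at h
    have : 2 * π * (star x ⬝ᵥ A *ᵥ x).re ≤ 0 := mul_nonpos_of_nonneg_of_nonpos h2π h
    linarith
  rw [Complex.pos_iff]
  exact ⟨hre, (quad_real A hH x).symm⟩

end Groth.Agent.Lib.Helper24Toeplitz
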