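import Mathlib

set_option autoImplicit false
set_option linter.unusedSectionVars false
universe u v

open TensorProduct

namespace Groth.Agent.Lib.Helper24Torsor

section general

variable {R : Type u} [CommRing R] {N : Type v} [AddCommGroup N] [Module R N]
  {N' : Type v} [AddCommGroup N'] [Module R N']

/-- a projection onto a submodule with projective quotient -/
lemma exists_proj (P : Submodule R N) [Module.Projective R (N ⧸ P)] :
    ∃ π : N →ₗ[R] N, (∀ x, π x ∈ P) ∧ (∀ x ∈ P, π x = x) := by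
  obtain ⟨σ, hσ⟩ := P.mkQ.exists_rightInverse_of_surjective (Submodule.range_mkQ P)
  have hσ' : ∀ z, P.mkQ (σ z) = z := fun z => congrArg (fun φ => φ z) hσ
  refine ⟨LinearMap.id - σ ∘ₗ P.mkQ, ?_, ?_⟩
  · intro x
    rw [← Submodule.Quotient.mk_eq_zero]
    change P.mkQ ((LinearMap.id - σ ∘ₗ P.mkQ : N →ₗ[R] N) x) = 0
    rw [LinearMap.sub_apply, map_sub, LinearMap.comp_apply, hσ', LinearMap.id_apply, sub_self]
  · intro x hx
    have : P.mkQ x = 0 := by simpa using hx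
    simp [this]

variable (𝔫 : Ideal R)

lemma one_tmul_eq_zero_iff (x : N) :
    (1 : R ⧸ 𝔫) ⊗ₜ[R] x = 0 ↔ x ∈ 𝔫 • (⊤ : Submodule R N) := by
  rw [← Submodule.Quotient.mk_eq_zero, ← TensorProduct.quotTensorEquivQuotSMul_mk_one_tmul,
    LinearEquiv.map_eq_zero_iff]

lemma map_mem_smul_top (φ : N →ₗ[R] N') {x : N} (hx : x ∈ 𝔫 • (⊤ : Submodule R N)) :
    φ x ∈ 𝔫 • (⊤ : Submodule R N') := by
  have : (𝔫 • (⊤ : Submodule R N)).map φ ≤ 𝔫 • (⊤ : Submodule R N') := by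
    rw [Submodule.map_smul'']
    exact Submodule.smul_mono le_rfl le_top
  exact this (Submodule.mem_map_of_mem hx)

lemma proj_mem_smul (P : Submodule R N) (π : N →ₗ[R] N) (hπ : ∀ x, π x ∈ P) {x : N}
    (hx : x ∈ 𝔫 • (⊤ : Submodule R N)) : π x ∈ 𝔫 • P := by
  have : (𝔫 • (⊤ : Submodule R N)).map π ≤ 𝔫 • P := by
    rw [Submodule.map_smul'']
    refine Submodule.smul_mono le_rfl ?_
    rintro _ ⟨y, -, rfl⟩
    exact hπ y
  exact this (Submodule.mem_map_of_mem hx)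

end general


section main

variable {R : Type u} [CommRing R]
  {H₁ H H₂ : Type v} [AddCommGroup H₁] [Module R H₁] [AddCommGroup H] [Module R H]
  [AddCommGroup H₂] [Module R H₂]
  (f : H₁ →ₗ[R] H) (g : H →ₗ[R] H₂)

/-- the shear map `id + f u g` -/
def T (u : H₂ →ₗ[R] H₁) : H →ₗ[R] H := LinearMap.id + f ∘ₗ u ∘ₗ g

lemma T_apply (u : H₂ →ₗ[R] H₁) (x : H) : T f g u x = x + f (u (g x)) := rfl

variable {f g}

lemma g_T (hgf : ∀ x, g (f x) = 0) (u : H₂ →ₗ[R] H₁) (x : H) : g (T f g u x) = g x := by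
  rw [T_apply, map_add, hgf, add_zero]

lemma T_f (hgf : ∀ x, g (f x) = 0) (u : H₂ →ₗ[R] H₁) (h : H₁) : T f g u (f h) = f h := by
  rw [T_apply, hgf, map_zero, map_zero, add_zero]

lemma T_neg_T (hgf : ∀ x, g (f x) = 0) (u : H₂ →ₗ[R] H₁) (x : H) :
    T f g (-u) (T f g u x) = x := by
  rw [T_apply, g_T hgf, T_apply]
  simp

/-- the shear as a linear equivalence -/
def Te (hgf : ∀ x, g (f x) = 0) (u : H₂ →ₗ[R] H₁) : H ≃ₗ[R] H :=
  LinearEquiv.ofLinearMap (T f g u) (T f g (-u))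
    (LinearMap.ext fun x => by simpa using T_neg_T hgf (-u) x)
    (LinearMap.ext fun x => T_neg_T hgf u x)

variable (f g) in
/-- the set `L` of the statement -/
def InL (F₁ : Submodule R H₁) (F₂ : Submodule R H₂) (𝔫 : Ideal R)
    (Fb : Submodule (R ⧸ 𝔫) ((R ⧸ 𝔫) ⊗[R] H)) (F : Submodule R H) : Prop :=
  (∃ C : Submodule R H, IsCompl F C) ∧ F ⊓ LinearMap.range f = Submodule.map f F₁ ∧
    Submodule.baseChange (R ⧸ 𝔫) F = Fb ∧ Submodule.map g F = F₂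

variable {F₁ : Submodule R H₁} {F₂ : Submodule R H₂} {𝔫 : Ideal R}
    {Fb : Submodule (R ⧸ 𝔫) ((R ⧸ 𝔫) ⊗[R] H)}

lemma one_tmul_T (u : H₂ →ₗ[R] H₁) (hu : ∀ y : H₂, u y ∈ 𝔫 • (⊤ : Submodule R H₁)) (x : H) :
    (1 : R ⧸ 𝔫) ⊗ₜ[R] (T f g u x) = 1 ⊗ₜ[R] x := by
  rw [T_apply, tmul_add, (one_tmul_eq_zero_iff 𝔫 _).mpr (map_mem_smul_top 𝔫 f (hu (g x))),
    add_zero]

lemma baseChange_map_T (u : H₂ →ₗ[R] H₁) (hu : ∀ y : H₂, u y ∈ 𝔫 • (⊤ : Submodule R H₁))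
    (F : Submodule R H) :
    Submodule.baseChange (R ⧸ 𝔫) (Submodule.map (T f g u) F) = Submodule.baseChange (R ⧸ 𝔫) F := by
  rw [Submodule.baseChange_eq_span, Submodule.baseChange_eq_span]
  congr 1
  ext z
  constructor
  · rintro ⟨_, ⟨x, hx, rfl⟩, rfl⟩
    exact ⟨x, hx, (one_tmul_T u hu x).symm⟩
  · rintro ⟨x, hx, rfl⟩
    exact ⟨T f g u x, ⟨x, hx, rfl⟩, one_tmul_T u hu x⟩

theorem part1 (hgf : ∀ x, g (f x) = 0) {F : Submodule R H} (hF : InL f g F₁ F₂ 𝔫 Fb F)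
    (u : H₂ →ₗ[R] H₁) (hu : ∀ y : H₂, u y ∈ 𝔫 • (⊤ : Submodule R H₁)) :
    InL f g F₁ F₂ 𝔫 Fb (Submodule.map (T f g u) F) := by
  obtain ⟨⟨C, hC⟩, hF1, hF2, hF3⟩ := hF
  refine ⟨⟨Submodule.map (T f g u) C, ?_⟩, ?_, ?_, ?_⟩
  · exact (Submodule.orderIsoMapComap (Te hgf u)).isCompl hC
  · ext x
    constructor
    · rintro ⟨⟨y, hy, rfl⟩, ⟨h, hh⟩⟩
      have : y = f h := by
        have := T_neg_T hgf u y
        rw [← hh, T_f hgf] at this
        exact this.symm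
      rw [← hh, ← hF1]
      exact ⟨by rw [← this]; exact hy, ⟨h, rfl⟩⟩
    · intro hx
      rw [← hF1] at hx
      obtain ⟨hx1, ⟨h, rfl⟩⟩ := hx
      exact ⟨⟨f h, hx1, T_f hgf u h⟩, ⟨h, rfl⟩⟩
  · rw [baseChange_map_T u hu, hF2]
  · rw [← hF3, ← Submodule.map_comp]
    congr 1
    ext x
    exact g_T hgf u x

theorem part2 (hgf : ∀ x, g (f x) = 0) (hf : Function.Injective f)
    [Module.Projective R (H₁ ⧸ F₁)]
    {F : Submodule R H} (hF : InL f g F₁ F₂ 𝔫 Fb F)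
    (u : H₂ →ₗ[R] H₁) (hu : ∀ y : H₂, u y ∈ 𝔫 • (⊤ : Submodule R H₁)) :
    Submodule.map (T f g u) F = F ↔ ∀ y ∈ F₂, u y ∈ 𝔫 • F₁ := by
  obtain ⟨-, hF1, -, hF3⟩ := hF
  have hfF : ∀ h ∈ F₁, f h ∈ F := by
    intro h hh
    have : f h ∈ F ⊓ LinearMap.range f := by rw [hF1]; exact Submodule.mem_map_of_mem hh
    exact this.1
  constructor
  · intro hmap y hy
    rw [← hF3] at hy
    obtain ⟨x, hx, rfl⟩ := hy
    have h1 : T f g u x ∈ F := by rw [← hmap]; exact Submodule.mem_map_of_mem hx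
    have h2 : f (u (g x)) ∈ F ⊓ LinearMap.range f := by
      refine ⟨?_, ⟨_, rfl⟩⟩
      have : f (u (g x)) = T f g u x - x := by rw [T_apply]; abel
      rw [this]; exact F.sub_mem h1 hx
    rw [hF1] at h2
    obtain ⟨h, hh, hfh⟩ := h2
    have h3 : u (g x) ∈ F₁ := by rw [← hf hfh]; exact hh
    obtain ⟨π, hπ1, hπ2⟩ := exists_proj F₁
    rw [← hπ2 _ h3]
    exact proj_mem_smul 𝔫 F₁ π hπ1 (hu (g x))
  · intro hy
    have hle : ∀ (v : H₂ →ₗ[R] H₁), (∀ y ∈ F₂, v y ∈ 𝔫 • F₁) → ∀ x ∈ F, T f g v x ∈ F := by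
      intro v hv x hx
      rw [T_apply]
      refine F.add_mem hx (hfF _ ?_)
      have : g x ∈ F₂ := by rw [← hF3]; exact Submodule.mem_map_of_mem hx
      exact Submodule.smul_le_right (hv _ this)
    apply le_antisymm
    · rintro _ ⟨x, hx, rfl⟩
      exact hle u hy x hx
    · intro x hx
      refine ⟨T f g (-u) x, hle (-u) ?_ x hx, ?_⟩
      · intro y hy'
        rw [LinearMap.neg_apply]
        exact Submodule.neg_mem _ (hy y hy')
      · have := T_neg_T hgf (-u) x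
        rwa [neg_neg] at this

lemma exists_section [Module.Projective R H₂]
    (π₂ : H₂ →ₗ[R] H₂) (hπ1 : ∀ x, π₂ x ∈ F₂)
    {F : Submodule R H} (hF3 : Submodule.map g F = F₂) :
    ∃ σ : H₂ →ₗ[R] H, (∀ y, σ y ∈ F) ∧ (∀ y, g (σ y) = π₂ y) := by
  let gF : F →ₗ[R] F₂ := (g ∘ₗ F.subtype).codRestrict F₂ (fun x => by
    rw [← hF3]; exact Submodule.mem_map_of_mem x.2)
  have hgF : Function.Surjective gF := by
    rintro ⟨y, hy⟩
    rw [← hF3] at hy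
    obtain ⟨x, hx, rfl⟩ := hy
    exact ⟨⟨x, hx⟩, rfl⟩
  let φ : H₂ →ₗ[R] F₂ := π₂.codRestrict F₂ hπ1
  obtain ⟨σ', hσ'⟩ := Module.projective_lifting_property gF φ hgF
  refine ⟨F.subtype ∘ₗ σ', fun y => (σ' y).2, fun y => ?_⟩
  have := congrArg (fun ψ => (ψ y : H₂)) hσ'
  exact this

theorem part3 (hfg : Function.Exact f g) (hf : Function.Injective f) (hg : Function.Surjective g)
    [Module.Projective R H₂] [Module.Projective R (H₁ ⧸ F₁)] [Module.Projective R (H₂ ⧸ F₂)]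
    (h1 : Fb ⊓ LinearMap.range (f.baseChange (R ⧸ 𝔫)) =
      Submodule.map (f.baseChange (R ⧸ 𝔫)) (F₁.baseChange (R ⧸ 𝔫)))
    {F F' : Submodule R H} (hF : InL f g F₁ F₂ 𝔫 Fb F) (hF' : InL f g F₁ F₂ 𝔫 Fb F') :
    ∃ u : H₂ →ₗ[R] H₁, (∀ y : H₂, u y ∈ 𝔫 • (⊤ : Submodule R H₁)) ∧
      F' = Submodule.map (T f g u) F := by
  have hgf : ∀ x, g (f x) = 0 := hfg.apply_apply_eq_zero
  obtain ⟨-, hF1, hF2, hF3⟩ := hF
  obtain ⟨-, hF1', hF2', hF3'⟩ := hF'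
  -- retraction of f
  obtain ⟨l, hl⟩ := g.exists_rightInverse_of_surjective (LinearMap.range_eq_top.mpr hg)
  have h01 : (∃ l, g ∘ₗ l = LinearMap.id) ↔ (∃ l, l ∘ₗ f = LinearMap.id) :=
    (hfg.split_tfae hf hg).out 0 1
  obtain ⟨r, hr⟩ := h01.mp ⟨l, hl⟩
  have hr' : ∀ h, r (f h) = h := fun h => congrArg (fun ψ => ψ h) hr
  obtain ⟨π₁, hπ₁1, hπ₁2⟩ := exists_proj F₁
  obtain ⟨π₂, hπ₂1, hπ₂2⟩ := exists_proj F₂
  obtain ⟨σ, hσ1, hσ2⟩ := exists_section π₂ hπ₂1 hF3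
  obtain ⟨σ', hσ'1, hσ'2⟩ := exists_section π₂ hπ₂1 hF3'
  have hfF : ∀ h ∈ F₁, f h ∈ F := by
    intro h hh
    have : f h ∈ F ⊓ LinearMap.range f := by rw [hF1]; exact Submodule.mem_map_of_mem hh
    exact this.1
  have hfF' : ∀ h ∈ F₁, f h ∈ F' := by
    intro h hh
    have : f h ∈ F' ⊓ LinearMap.range f := by rw [hF1']; exact Submodule.mem_map_of_mem hh
    exact this.1
  set w : H₂ →ₗ[R] H₁ := r ∘ₗ (σ' - σ) with hw
  have hfw : ∀ y, f (w y) = σ' y - σ y := by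
    intro y
    have h0 : g (σ' y - σ y) = 0 := by rw [map_sub, hσ2, hσ'2, sub_self]
    obtain ⟨h, hh⟩ := (hfg _).mp h0
    rw [hw, LinearMap.comp_apply, LinearMap.sub_apply, ← hh, hr']
  set q₁ : H₁ →ₗ[R] H₁ := LinearMap.id - π₁ with hq₁
  have hq₁F : ∀ x ∈ F₁, q₁ x = 0 := by
    intro x hx
    rw [hq₁, LinearMap.sub_apply, LinearMap.id_apply, hπ₁2 x hx, sub_self]
  set u : H₂ →ₗ[R] H₁ := q₁ ∘ₗ w with hu_def
  have hu : ∀ y : H₂, u y ∈ 𝔫 • (⊤ : Submodule R H₁) := by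
    intro y
    rw [← one_tmul_eq_zero_iff]
    have ha : (1 : R ⧸ 𝔫) ⊗ₜ[R] σ y ∈ Fb := by
      rw [← hF2]; exact Submodule.tmul_mem_baseChange_of_mem 1 (hσ1 y)
    have ha' : (1 : R ⧸ 𝔫) ⊗ₜ[R] σ' y ∈ Fb := by
      rw [← hF2']; exact Submodule.tmul_mem_baseChange_of_mem 1 (hσ'1 y)
    have hb : f.baseChange (R ⧸ 𝔫) ((1 : R ⧸ 𝔫) ⊗ₜ[R] w y) ∈
        Fb ⊓ LinearMap.range (f.baseChange (R ⧸ 𝔫)) := by
      refine ⟨?_, ⟨_, rfl⟩⟩
      rw [LinearMap.baseChange_tmul, hfw, tmul_sub]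
      exact Fb.sub_mem ha' ha
    rw [h1] at hb
    obtain ⟨z, hz, hzeq⟩ := hb
    have hrf : ∀ t, r.baseChange (R ⧸ 𝔫) (f.baseChange (R ⧸ 𝔫) t) = t := by
      intro t
      rw [← LinearMap.comp_apply, ← LinearMap.baseChange_comp, hr, LinearMap.baseChange_id,
        LinearMap.id_apply]
    have hz' : z = (1 : R ⧸ 𝔫) ⊗ₜ[R] w y := by
      rw [← hrf z, hzeq, hrf]
    have hker : F₁.baseChange (R ⧸ 𝔫) ≤ LinearMap.ker (q₁.baseChange (R ⧸ 𝔫)) := by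
      rw [Submodule.baseChange_eq_span, Submodule.span_le]
      rintro _ ⟨x, hx, rfl⟩
      change q₁.baseChange (R ⧸ 𝔫) ((1 : R ⧸ 𝔫) ⊗ₜ[R] x) = 0
      rw [LinearMap.baseChange_tmul, hq₁F x hx, tmul_zero]
    have := hker hz
    rw [hz', LinearMap.mem_ker, LinearMap.baseChange_tmul] at this
    exact this
  refine ⟨u, hu, ?_⟩
  -- the modified section
  set σ'' : H₂ →ₗ[R] H := σ + f ∘ₗ π₁ ∘ₗ w with hσ''
  have hσ''1 : ∀ y, σ'' y ∈ F := fun y => F.add_mem (hσ1 y) (hfF _ (hπ₁1 _))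
  have hσ''2 : ∀ y, g (σ'' y) = π₂ y := by
    intro y
    rw [hσ'', LinearMap.add_apply, map_add, hσ2]
    simp [hgf]
  have hσ' : ∀ y, σ' y = σ'' y + f (u y) := by
    intro y
    have := hfw y
    rw [hσ'', hu_def, hq₁]
    simp only [LinearMap.add_apply, LinearMap.comp_apply, LinearMap.sub_apply, LinearMap.id_apply,
      map_sub]
    rw [this]; abel
  apply le_antisymm
  · intro x' hx'
    have hy : g x' ∈ F₂ := by rw [← hF3']; exact Submodule.mem_map_of_mem hx'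
    have h2 : x' - σ' (g x') ∈ F' ⊓ LinearMap.range f := by
      refine ⟨F'.sub_mem hx' (hσ'1 _), (hfg _).mp ?_⟩
      rw [map_sub, hσ'2, hπ₂2 _ hy, sub_self]
    rw [hF1', ← hF1] at h2
    refine ⟨(x' - σ' (g x')) + σ'' (g x'), F.add_mem h2.1 (hσ''1 _), ?_⟩
    have hgx : g ((x' - σ' (g x')) + σ'' (g x')) = g x' := by
      rw [map_add, map_sub, hσ'2, hσ''2, hπ₂2 _ hy]; abel
    rw [T_apply, hgx, hσ' (g x')]
    abel
  · rintro _ ⟨x, hx, rfl⟩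
    have hy : g x ∈ F₂ := by rw [← hF3]; exact Submodule.mem_map_of_mem hx
    have h2 : x - σ'' (g x) ∈ F ⊓ LinearMap.range f := by
      refine ⟨F.sub_mem hx (hσ''1 _), (hfg _).mp ?_⟩
      rw [map_sub, hσ''2, hπ₂2 _ hy, sub_self]
    rw [hF1, ← hF1'] at h2
    have : T f g u x = (x - σ'' (g x)) + σ' (g x) := by
      rw [T_apply, hσ' (g x)]; abel
    rw [this]
    exact F'.add_mem h2.1 (hσ'1 _)

end main

end Groth.Agent.Lib.Helper24Torsor
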