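import Mathlib
import Groth.Agent.Lib.Helper24Torsor

set_option autoImplicit false
set_option linter.unusedSectionVars false
universe u v

open TensorProduct

namespace Groth.Agent.Lib.Helper24Torsor

section exist

variable {R : Type u} [CommRing R]
  {H₁ H H₂ : Type v} [AddCommGroup H₁] [Module R H₁] [AddCommGroup H] [Module R H]
  [AddCommGroup H₂] [Module R H₂]
  {f : H₁ →ₗ[R] H} {g : H →ₗ[R] H₂}
  {F₁ : Submodule R H₁} {F₂ : Submodule R H₂} {𝔫 : Ideal R}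
  {Fb : Submodule (R ⧸ 𝔫) ((R ⧸ 𝔫) ⊗[R] H)}

/-- a section of `g` whose restriction to `F₂` reduces into `Fb`. -/
lemma exists_good_section (hg : Function.Surjective g)
    [Module.Projective R H₂] [Module.Projective R (H₂ ⧸ F₂)]
    (h2 : Submodule.map (g.baseChange (R ⧸ 𝔫)) Fb = F₂.baseChange (R ⧸ 𝔫)) :
    ∃ l : H₂ →ₗ[R] H, (∀ y, g (l y) = y) ∧ ∀ y ∈ F₂, (1 : R ⧸ 𝔫) ⊗ₜ[R] l y ∈ Fb := by
  obtain ⟨l₀, hl₀⟩ := g.exists_rightInverse_of_surjective (LinearMap.range_eq_top.mpr hg)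
  have hl₀' : ∀ y, g (l₀ y) = y := fun y => congrArg (fun ψ => ψ y) hl₀
  obtain ⟨π₂, hπ₂1, hπ₂2⟩ := exists_proj F₂
  let E : Submodule R H :=
    Submodule.comap (TensorProduct.mk R (R ⧸ 𝔫) H 1) (Fb.restrictScalars R) ⊓ Submodule.comap g F₂
  have hE : ∀ x, x ∈ E ↔ ((1 : R ⧸ 𝔫) ⊗ₜ[R] x ∈ Fb ∧ g x ∈ F₂) := fun x => Iff.rfl
  let gE : E →ₗ[R] F₂ := (g ∘ₗ E.subtype).codRestrict F₂ (fun x => ((hE x).mp x.2).2)
  have hgE : Function.Surjective gE := by
    rintro ⟨y, hy⟩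
    have hy1 : (1 : R ⧸ 𝔫) ⊗ₜ[R] y ∈ F₂.baseChange (R ⧸ 𝔫) :=
      Submodule.tmul_mem_baseChange_of_mem 1 hy
    rw [← h2] at hy1
    obtain ⟨z, hz, hgz⟩ := hy1
    obtain ⟨x₀, hx₀⟩ := Submodule.Quotient.mk_surjective _
      (TensorProduct.quotTensorEquivQuotSMul H 𝔫 z)
    have hz' : z = (1 : R ⧸ 𝔫) ⊗ₜ[R] x₀ := by
      have := congrArg (TensorProduct.quotTensorEquivQuotSMul H 𝔫).symm hx₀
      rw [LinearEquiv.symm_apply_apply] at this
      rw [← this]; rfl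
    rw [hz', LinearMap.baseChange_tmul] at hgz
    have h3 : g x₀ - y ∈ 𝔫 • (⊤ : Submodule R H₂) := by
      rw [← one_tmul_eq_zero_iff, tmul_sub, hgz, sub_self]
    have h4 : 𝔫 • (⊤ : Submodule R H₂) = Submodule.map g (𝔫 • (⊤ : Submodule R H)) := by
      rw [Submodule.map_smul'', Submodule.map_top, LinearMap.range_eq_top.mpr hg]
    rw [h4] at h3
    obtain ⟨d, hd, hgd⟩ := h3
    have hxE : x₀ - d ∈ E := by
      rw [hE]
      refine ⟨?_, ?_⟩
      · rw [tmul_sub, (one_tmul_eq_zero_iff 𝔫 d).mpr hd, sub_zero, ← hz']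
        exact hz
      · rw [map_sub, hgd, sub_sub_cancel]
        exact hy
    refine ⟨⟨x₀ - d, hxE⟩, Subtype.ext ?_⟩
    change g (x₀ - d) = y
    rw [map_sub, hgd, sub_sub_cancel]
  obtain ⟨σ', hσ'⟩ := Module.projective_lifting_property gE (π₂.codRestrict F₂ hπ₂1) hgE
  have hσ'1 : ∀ y, g (σ' y : H) = π₂ y := fun y => congrArg (fun ψ => (ψ y : H₂)) hσ'
  have hσ'2 : ∀ y, (1 : R ⧸ 𝔫) ⊗ₜ[R] (σ' y : H) ∈ Fb := fun y => ((hE _).mp (σ' y).2).1
  refine ⟨E.subtype ∘ₗ σ' ∘ₗ π₂ + l₀ ∘ₗ (LinearMap.id - π₂), ?_, ?_⟩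
  · intro y
    simp only [LinearMap.add_apply, LinearMap.comp_apply, Submodule.subtype_apply,
      LinearMap.sub_apply, LinearMap.id_apply, map_add, hσ'1, hl₀', hπ₂2 _ (hπ₂1 y)]
    abel
  · intro y hy
    simp only [LinearMap.add_apply, LinearMap.comp_apply, Submodule.subtype_apply,
      LinearMap.sub_apply, LinearMap.id_apply, hπ₂2 y hy, sub_self, map_zero, add_zero]
    exact hσ'2 y

theorem exists_lift (hfg : Function.Exact f g) (hf : Function.Injective f)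
    (hg : Function.Surjective g)
    [Module.Projective R H₂] [Module.Projective R (H₁ ⧸ F₁)] [Module.Projective R (H₂ ⧸ F₂)]
    (h1 : Fb ⊓ LinearMap.range (f.baseChange (R ⧸ 𝔫)) =
      Submodule.map (f.baseChange (R ⧸ 𝔫)) (F₁.baseChange (R ⧸ 𝔫)))
    (h2 : Submodule.map (g.baseChange (R ⧸ 𝔫)) Fb = F₂.baseChange (R ⧸ 𝔫)) :
    ∃ F : Submodule R H, InL f g F₁ F₂ 𝔫 Fb F := by
  have hgf : ∀ x, g (f x) = 0 := hfg.apply_apply_eq_zero
  obtain ⟨l, hl, hlF⟩ := exists_good_section (F₂ := F₂) (Fb := Fb) hg h2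
  obtain ⟨π₁, hπ₁1, hπ₁2⟩ := exists_proj F₁
  obtain ⟨π₂, hπ₂1, hπ₂2⟩ := exists_proj F₂
  set F : Submodule R H := Submodule.map f F₁ ⊔ Submodule.map l F₂ with hFdef
  have hFmem : ∀ x, x ∈ F ↔ ∃ a ∈ F₁, ∃ y ∈ F₂, x = f a + l y := by
    intro x
    rw [hFdef, Submodule.mem_sup]
    constructor
    · rintro ⟨_, ⟨a, ha, rfl⟩, _, ⟨y, hy, rfl⟩, rfl⟩
      exact ⟨a, ha, y, hy, rfl⟩
    · rintro ⟨a, ha, y, hy, rfl⟩
      exact ⟨_, ⟨a, ha, rfl⟩, _, ⟨y, hy, rfl⟩, rfl⟩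
  -- the retraction adapted to `l`
  have hrange : ∀ x, x - l (g x) ∈ LinearMap.range f := by
    intro x
    apply (hfg _).mp
    rw [map_sub, hl, sub_self]
  let r : H →ₗ[R] H₁ := (LinearEquiv.ofInjective f hf).symm.toLinearMap ∘ₗ
    (LinearMap.id - l ∘ₗ g).codRestrict (LinearMap.range f) hrange
  have hr : ∀ x, f (r x) = x - l (g x) := by
    intro x
    have := (LinearEquiv.ofInjective f hf).apply_symm_apply
      ((LinearMap.id - l ∘ₗ g).codRestrict (LinearMap.range f) hrange x)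
    exact congrArg Subtype.val this
  refine ⟨F, ?_, ?_, ?_, ?_⟩
  · -- complement via a projection
    let P : H →ₗ[R] H := f ∘ₗ π₁ ∘ₗ r + l ∘ₗ π₂ ∘ₗ g
    have hP1 : ∀ x, P x ∈ F := by
      intro x
      rw [hFmem]
      exact ⟨π₁ (r x), hπ₁1 _, π₂ (g x), hπ₂1 _, rfl⟩
    have hP2 : ∀ x ∈ F, P x = x := by
      intro x hx
      obtain ⟨a, ha, y, hy, rfl⟩ := (hFmem x).mp hx
      have hgx : g (f a + l y) = y := by rw [map_add, hgf, hl, zero_add]
      have hrx : r (f a + l y) = a := by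
        apply hf
        rw [hr, hgx]; abel
      change f (π₁ (r (f a + l y))) + l (π₂ (g (f a + l y))) = _
      rw [hrx, hgx, hπ₁2 a ha, hπ₂2 y hy]
    exact ⟨_, LinearMap.isCompl_of_proj (f := P.codRestrict F hP1)
      (fun x => Subtype.ext (hP2 x x.2))⟩
  · ext x
    constructor
    · rintro ⟨hxF, ⟨h, rfl⟩⟩
      obtain ⟨a, ha, y, hy, hxy⟩ := (hFmem _).mp hxF
      have : y = 0 := by
        have := congrArg g hxy
        rw [hgf, map_add, hgf, hl, zero_add] at this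
        exact this.symm
      rw [hxy, this, map_zero, add_zero]
      exact Submodule.mem_map_of_mem ha
    · rintro ⟨a, ha, rfl⟩
      exact ⟨(hFmem _).mpr ⟨a, ha, 0, F₂.zero_mem, by rw [map_zero, add_zero]⟩, ⟨a, rfl⟩⟩
  · -- base change
    have hfb : ∀ s ∈ F₁.baseChange (R ⧸ 𝔫), f.baseChange (R ⧸ 𝔫) s ∈ Fb := by
      intro s hs
      have : f.baseChange (R ⧸ 𝔫) s ∈ Fb ⊓ LinearMap.range (f.baseChange (R ⧸ 𝔫)) := by
        rw [h1]; exact Submodule.mem_map_of_mem hs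
      exact this.1
    apply le_antisymm
    · rw [Submodule.baseChange_eq_span, Submodule.span_le]
      rintro _ ⟨x, hx, rfl⟩
      obtain ⟨a, ha, y, hy, rfl⟩ := (hFmem x).mp hx
      change (1 : R ⧸ 𝔫) ⊗ₜ[R] (f a + l y) ∈ Fb
      rw [tmul_add]
      refine Fb.add_mem ?_ (hlF y hy)
      have := hfb _ (Submodule.tmul_mem_baseChange_of_mem (1 : R ⧸ 𝔫) ha)
      rwa [LinearMap.baseChange_tmul] at this
    · intro z hz
      have ht : g.baseChange (R ⧸ 𝔫) z ∈ F₂.baseChange (R ⧸ 𝔫) := by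
        rw [← h2]; exact Submodule.mem_map_of_mem hz
      have hA : F₂.baseChange (R ⧸ 𝔫) ≤
          Submodule.comap (l.baseChange (R ⧸ 𝔫)) (Fb ⊓ F.baseChange (R ⧸ 𝔫)) := by
        rw [Submodule.baseChange_eq_span, Submodule.span_le]
        rintro _ ⟨y, hy, rfl⟩
        change l.baseChange (R ⧸ 𝔫) ((1 : R ⧸ 𝔫) ⊗ₜ[R] y) ∈ Fb ⊓ F.baseChange (R ⧸ 𝔫)
        rw [LinearMap.baseChange_tmul]
        refine ⟨hlF y hy, Submodule.tmul_mem_baseChange_of_mem 1 ?_⟩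
        exact (hFmem _).mpr ⟨0, F₁.zero_mem, y, hy, by rw [map_zero, zero_add]⟩
      have hB : F₁.baseChange (R ⧸ 𝔫) ≤
          Submodule.comap (f.baseChange (R ⧸ 𝔫)) (F.baseChange (R ⧸ 𝔫)) := by
        rw [Submodule.baseChange_eq_span, Submodule.span_le]
        rintro _ ⟨a, ha, rfl⟩
        change f.baseChange (R ⧸ 𝔫) ((1 : R ⧸ 𝔫) ⊗ₜ[R] a) ∈ F.baseChange (R ⧸ 𝔫)
        rw [LinearMap.baseChange_tmul]
        refine Submodule.tmul_mem_baseChange_of_mem 1 ?_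
        exact (hFmem _).mpr ⟨a, ha, 0, F₂.zero_mem, by rw [map_zero, add_zero]⟩
      have hgl : ∀ t, g.baseChange (R ⧸ 𝔫) (l.baseChange (R ⧸ 𝔫) t) = t := by
        intro t
        have hgl' : g ∘ₗ l = LinearMap.id := LinearMap.ext hl
        rw [← LinearMap.comp_apply, ← LinearMap.baseChange_comp, hgl', LinearMap.baseChange_id,
          LinearMap.id_apply]
      set t := g.baseChange (R ⧸ 𝔫) z with ht_def
      have hlt := hA ht
      have hz' : z - l.baseChange (R ⧸ 𝔫) t ∈ Fb ⊓ LinearMap.range (f.baseChange (R ⧸ 𝔫)) := by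
        refine ⟨Fb.sub_mem hz hlt.1, ?_⟩
        have hex : Function.Exact (f.baseChange (R ⧸ 𝔫)) (g.baseChange (R ⧸ 𝔫)) := by
          rw [LinearMap.baseChange_eq_ltensor, LinearMap.baseChange_eq_ltensor]
          exact lTensor_exact (R ⧸ 𝔫) hfg hg
        apply (hex _).mp
        rw [map_sub, hgl, ← ht_def, sub_self]
      rw [h1] at hz'
      obtain ⟨s, hs, hsz⟩ := hz'
      have : z = f.baseChange (R ⧸ 𝔫) s + l.baseChange (R ⧸ 𝔫) t := by
        rw [hsz]; abel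
      rw [this]
      exact Submodule.add_mem _ (hB hs) hlt.2
  · rw [hFdef, Submodule.map_sup, ← Submodule.map_comp, ← Submodule.map_comp]
    have h0 : g ∘ₗ f = 0 := LinearMap.ext hgf
    have hgl' : g ∘ₗ l = LinearMap.id := LinearMap.ext hl
    rw [h0, hgl', Submodule.map_zero, Submodule.map_id, bot_sup_eq]

end exist

end Groth.Agent.Lib.Helper24Torsor
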