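import Mathlib

set_option linter.unusedVariables false

/-!
# T-points on cubic surfaces: the rank criterion (helper24)

A binary quadric `A = α₀z₀² + α₁z₀z₁ + α₂z₁²` is zero or divides the binary cubic
`Φ = γ₀z₀³ + γ₁z₀²z₁ + γ₂z₀z₁² + γ₃z₁³` iff the `3 × 4` matrix with rows `z₀A`, `z₁A`, `Φ` has
rank at most two, i.e. its four maximal minors vanish.
-/

namespace Groth.Agent.Lib.Helper24Tp5

section Minors

variable {R : Type*} [CommRing R]

/-- The maximal minors of the matrix with rows `z₀A`, `z₁A`, `Φ`. -/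
def m0 (α0 α1 α2 γ0 γ1 γ2 γ3 : R) : R :=
  α1 ^ 2 * γ3 - α1 * α2 * γ2 - α0 * α2 * γ3 + α2 ^ 2 * γ1

def m1 (α0 α1 α2 γ0 γ1 γ2 γ3 : R) : R :=
  α0 * α1 * γ3 - α0 * α2 * γ2 + α2 ^ 2 * γ0

def m2 (α0 α1 α2 γ0 γ1 γ2 γ3 : R) : R :=
  α0 ^ 2 * γ3 - α0 * α2 * γ1 + α1 * α2 * γ0

def m3 (α0 α1 α2 γ0 γ1 γ2 γ3 : R) : R :=
  α0 ^ 2 * γ2 - α0 * α1 * γ1 + α1 ^ 2 * γ0 - α0 * α2 * γ0

variable {S : Type*} [CommRing S] (f : R →+* S) (α0 α1 α2 γ0 γ1 γ2 γ3 : R)

theorem map_m0 : f (m0 α0 α1 α2 γ0 γ1 γ2 γ3) =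
    m0 (f α0) (f α1) (f α2) (f γ0) (f γ1) (f γ2) (f γ3) := by
  simp [m0]

theorem map_m1 : f (m1 α0 α1 α2 γ0 γ1 γ2 γ3) =
    m1 (f α0) (f α1) (f α2) (f γ0) (f γ1) (f γ2) (f γ3) := by
  simp [m1]

theorem map_m2 : f (m2 α0 α1 α2 γ0 γ1 γ2 γ3) =
    m2 (f α0) (f α1) (f α2) (f γ0) (f γ1) (f γ2) (f γ3) := by
  simp [m2]

theorem map_m3 : f (m3 α0 α1 α2 γ0 γ1 γ2 γ3) =
    m3 (f α0) (f α1) (f α2) (f γ0) (f γ1) (f γ2) (f γ3) := by
  simp [m3]

end Minors

variable {K : Type*} [Field K]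

/-- If the minors vanish then the quadric is zero or divides the cubic. -/
theorem split_of_minors (α0 α1 α2 γ0 γ1 γ2 γ3 : K)
    (h0 : m0 α0 α1 α2 γ0 γ1 γ2 γ3 = 0) (h1 : m1 α0 α1 α2 γ0 γ1 γ2 γ3 = 0)
    (h2 : m2 α0 α1 α2 γ0 γ1 γ2 γ3 = 0) (h3 : m3 α0 α1 α2 γ0 γ1 γ2 γ3 = 0) :
    (α0 = 0 ∧ α1 = 0 ∧ α2 = 0) ∨ ∃ l0 l1 : K, γ0 = l0 * α0 ∧ γ1 = l0 * α1 + l1 * α0 ∧
      γ2 = l0 * α2 + l1 * α1 ∧ γ3 = l1 * α2 := by
  simp only [m0, m1, m2, m3] at h0 h1 h2 h3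
  by_cases ha0 : α0 = 0
  · by_cases ha2 : α2 = 0
    · by_cases ha1 : α1 = 0
      · exact Or.inl ⟨ha0, ha1, ha2⟩
      · right
        subst ha0 ha2
        have hg0 : γ0 = 0 := by
          have : α1 ^ 2 * γ0 = 0 := by linear_combination h3
          rcases mul_eq_zero.1 this with h | h
          · exact absurd (pow_eq_zero_iff (by norm_num) |>.1 h) ha1
          · exact h
        have hg3 : γ3 = 0 := by
          have : α1 ^ 2 * γ3 = 0 := by linear_combination h0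
          rcases mul_eq_zero.1 this with h | h
          · exact absurd (pow_eq_zero_iff (by norm_num) |>.1 h) ha1
          · exact h
        refine ⟨γ1 / α1, γ2 / α1, ?_, ?_, ?_, ?_⟩
        · rw [hg0]; ring
        · field_simp
          ring
        · field_simp
          ring
        · rw [hg3]; ring
    · right
      subst ha0
      have hg0 : γ0 = 0 := by
        have : α2 ^ 2 * γ0 = 0 := by linear_combination h1
        rcases mul_eq_zero.1 this with h | h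
        · exact absurd (pow_eq_zero_iff (by norm_num) |>.1 h) ha2
        · exact h
      refine ⟨(γ2 * α2 - γ3 * α1) / α2 ^ 2, γ3 / α2, ?_, ?_, ?_, ?_⟩
      · rw [hg0]; ring
      · have : α2 ^ 2 * (γ1 - ((γ2 * α2 - γ3 * α1) / α2 ^ 2 * α1 + γ3 / α2 * 0)) = 0 := by
          field_simp
          linear_combination h0
        rcases mul_eq_zero.1 this with h | h
        · exact absurd (pow_eq_zero_iff (by norm_num) |>.1 h) ha2
        · exact sub_eq_zero.1 h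
      · field_simp
        ring
      · field_simp
  · right
    refine ⟨γ0 / α0, (γ1 * α0 - γ0 * α1) / α0 ^ 2, ?_, ?_, ?_, ?_⟩
    · field_simp
    · field_simp
      ring
    · have : α0 ^ 2 * (γ2 - (γ0 / α0 * α2 + (γ1 * α0 - γ0 * α1) / α0 ^ 2 * α1)) = 0 := by
        field_simp
        linear_combination h3
      rcases mul_eq_zero.1 this with h | h
      · exact absurd (pow_eq_zero_iff (by norm_num) |>.1 h) ha0
      · exact sub_eq_zero.1 h
    · have : α0 ^ 2 * (γ3 - (γ1 * α0 - γ0 * α1) / α0 ^ 2 * α2) = 0 := by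
        field_simp
        linear_combination h2
      rcases mul_eq_zero.1 this with h | h
      · exact absurd (pow_eq_zero_iff (by norm_num) |>.1 h) ha0
      · exact sub_eq_zero.1 h

/-- The minors vanish when the quadric is zero. -/
theorem minors_of_zero (γ0 γ1 γ2 γ3 : K) :
    m0 0 0 0 γ0 γ1 γ2 γ3 = 0 ∧ m1 0 0 0 γ0 γ1 γ2 γ3 = 0 ∧ m2 0 0 0 γ0 γ1 γ2 γ3 = 0 ∧
      m3 0 0 0 γ0 γ1 γ2 γ3 = 0 := by
  simp [m0, m1, m2, m3]

/-- The coefficients of `Π (cᵢ s + pᵢ z₀ + qᵢ z₁)` in degrees one and zero in `s`,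
when the first constant vanishes. -/
theorem minors_case (c2 c3 p1 p2 p3 q1 q2 q3 : K)
    (hp : c2 * c3 * p1 = 0) (hq : c2 * c3 * q1 = 0) :
    let α0 := c2 * p1 * p3 + c3 * p1 * p2
    let α1 := c2 * (p1 * q3 + q1 * p3) + c3 * (p1 * q2 + q1 * p2)
    let α2 := c2 * q1 * q3 + c3 * q1 * q2
    let γ0 := p1 * p2 * p3
    let γ1 := p1 * p2 * q3 + p1 * q2 * p3 + q1 * p2 * p3
    let γ2 := p1 * q2 * q3 + q1 * p2 * q3 + q1 * q2 * p3
    let γ3 := q1 * q2 * q3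
    m0 α0 α1 α2 γ0 γ1 γ2 γ3 = 0 ∧ m1 α0 α1 α2 γ0 γ1 γ2 γ3 = 0 ∧ m2 α0 α1 α2 γ0 γ1 γ2 γ3 = 0 ∧
      m3 α0 α1 α2 γ0 γ1 γ2 γ3 = 0 := by
  intro α0 α1 α2 γ0 γ1 γ2 γ3
  simp only [α0, α1, α2, γ0, γ1, γ2, γ3, m0, m1, m2, m3]
  by_cases h2 : c2 = 0
  · subst h2
    refine ⟨by ring, by ring, by ring, by ring⟩
  by_cases h3 : c3 = 0
  · subst h3
    refine ⟨by ring, by ring, by ring, by ring⟩
  have hp1 : p1 = 0 := by
    rcases mul_eq_zero.1 hp with h | h
    · exact absurd h (mul_ne_zero h2 h3)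
    · exact h
  have hq1 : q1 = 0 := by
    rcases mul_eq_zero.1 hq with h | h
    · exact absurd h (mul_ne_zero h2 h3)
    · exact h
  subst hp1 hq1
  refine ⟨by ring, by ring, by ring, by ring⟩

/-- The minors vanish for the coefficients of a product of three linear forms in `s, z₀, z₁`
without `s³` and `s²` terms. -/
theorem minors_of_split (c1 c2 c3 p1 p2 p3 q1 q2 q3 : K)
    (h3 : c1 * c2 * c3 = 0)
    (hp : c1 * c2 * p3 + c1 * c3 * p2 + c2 * c3 * p1 = 0)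
    (hq : c1 * c2 * q3 + c1 * c3 * q2 + c2 * c3 * q1 = 0)
    (α0 α1 α2 γ0 γ1 γ2 γ3 : K)
    (hα0 : α0 = c1 * p2 * p3 + c2 * p1 * p3 + c3 * p1 * p2)
    (hα1 : α1 = c1 * (p2 * q3 + q2 * p3) + c2 * (p1 * q3 + q1 * p3) + c3 * (p1 * q2 + q1 * p2))
    (hα2 : α2 = c1 * q2 * q3 + c2 * q1 * q3 + c3 * q1 * q2)
    (hγ0 : γ0 = p1 * p2 * p3)
    (hγ1 : γ1 = p1 * p2 * q3 + p1 * q2 * p3 + q1 * p2 * p3)
    (hγ2 : γ2 = p1 * q2 * q3 + q1 * p2 * q3 + q1 * q2 * p3)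
    (hγ3 : γ3 = q1 * q2 * q3) :
    m0 α0 α1 α2 γ0 γ1 γ2 γ3 = 0 ∧ m1 α0 α1 α2 γ0 γ1 γ2 γ3 = 0 ∧ m2 α0 α1 α2 γ0 γ1 γ2 γ3 = 0 ∧
      m3 α0 α1 α2 γ0 γ1 γ2 γ3 = 0 := by
  subst hα0 hα1 hα2 hγ0 hγ1 hγ2 hγ3
  rcases mul_eq_zero.1 h3 with h12 | hc3
  · rcases mul_eq_zero.1 h12 with hc1 | hc2
    · subst hc1
      have := minors_case c2 c3 p1 p2 p3 q1 q2 q3 (by linear_combination hp)
        (by linear_combination hq)
      simp only at this
      obtain ⟨t0, t1, t2, t3⟩ := this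
      simp only [m0, m1, m2, m3] at t0 t1 t2 t3 ⊢
      exact ⟨by linear_combination t0, by linear_combination t1, by linear_combination t2,
        by linear_combination t3⟩
    · subst hc2
      have := minors_case c1 c3 p2 p1 p3 q2 q1 q3 (by linear_combination hp)
        (by linear_combination hq)
      simp only at this
      obtain ⟨t0, t1, t2, t3⟩ := this
      simp only [m0, m1, m2, m3] at t0 t1 t2 t3 ⊢
      exact ⟨by linear_combination t0, by linear_combination t1, by linear_combination t2,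
        by linear_combination t3⟩
  · subst hc3
    have := minors_case c2 c1 p3 p2 p1 q3 q2 q1 (by linear_combination hp)
      (by linear_combination hq)
    simp only at this
    obtain ⟨t0, t1, t2, t3⟩ := this
    simp only [m0, m1, m2, m3] at t0 t1 t2 t3 ⊢
    exact ⟨by linear_combination t0, by linear_combination t1, by linear_combination t2,
      by linear_combination t3⟩

end Groth.Agent.Lib.Helper24Tp5
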