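import Mathlib
import Groth.Agent.Lib.Helper24Gp5e
import Groth.Agent.Lib.Helper24Tp5a

/-!
# T-points on cubic surfaces: the tangent plane section in a frame (helper24)
-/

namespace Groth.Agent.Lib.Helper24Tp5

open MvPolynomial
open Groth.Agent.Lib.Helper24CubicSec Groth.Agent.Lib.Helper24CubicLines
open Groth.Agent.Lib.Helper24CubicSing Groth.Agent.Lib.Helper24Nodal
open Groth.Agent.Lib.Helper24Gp5

variable {K : Type*} [Field K]

theorem eval_add_of_hom1 {n : ℕ} {L : MvPolynomial (Fin n) K} (hL : L.IsHomogeneous 1)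
    (x y : Fin n → K) : eval (x + y) L = eval x L + eval y L := by
  have hmem : L ∈ Submodule.span K (Set.range (X : Fin n → MvPolynomial (Fin n) K)) := by
    rw [← homogeneousSubmodule_one_eq_span_X]
    exact (mem_homogeneousSubmodule 1 L).2 hL
  have key : ∀ p ∈ Submodule.span K (Set.range (X : Fin n → MvPolynomial (Fin n) K)),
      eval (x + y) p = eval x p + eval y p := by
    intro p hp
    induction hp using Submodule.span_induction with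
    | mem p hp =>
      obtain ⟨i, rfl⟩ := hp
      simp
    | zero => simp
    | add p q _ _ hp hq =>
      simp only [map_add, hp, hq]
      ring
    | smul c p _ hp =>
      simp only [smul_eval, hp]
      ring
  exact key L hmem

variable [CharZero K]

section Coef

variable (F : MvPolynomial (Fin 4) K) (b v1 v2 : Fin 4 → K)

/-- Coefficients of the polar quadric of `b` on the plane spanned by `v1, v2`. -/
noncomputable def cα0 : K := eval v1 (polar F b)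

noncomputable def cα1 : K :=
  eval (v1 + v2) (polar F b) - eval v1 (polar F b) - eval v2 (polar F b)

noncomputable def cα2 : K := eval v2 (polar F b)

/-- Coefficients of `F` on the plane spanned by `v1, v2`. -/
noncomputable def cγ0 : K := eval v1 F

noncomputable def cγ1 : K := (eval (v1 + v2) F - eval (v1 - v2) F) / 2 - eval v2 F

noncomputable def cγ2 : K := (eval (v1 + v2) F + eval (v1 - v2) F) / 2 - eval v1 F

noncomputable def cγ3 : K := eval v2 F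

variable (hF : F.IsHomogeneous 3)

include hF in
theorem polar_frame (z0 z1 : K) :
    eval (z0 • v1 + z1 • v2) (polar F b) =
      cα0 F b v1 * z0 ^ 2 + cα1 F b v1 v2 * (z0 * z1) + cα2 F b v2 * z1 ^ 2 := by
  have hQ := polar_isHomogeneous F b hF
  have h1 := quadric_expand (polar F b) hQ v1 v2 z0 z1
  have h2 := quadric_expand (polar F b) hQ v1 v2 1 1
  rw [one_smul, one_smul] at h2
  rw [h1, cα0, cα1, cα2, h2]
  ring

include hF in
theorem F_frame (z0 z1 : K) :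
    eval (z0 • v1 + z1 • v2) F =
      cγ0 F v1 * z0 ^ 3 + cγ1 F v1 v2 * (z0 ^ 2 * z1) + cγ2 F v1 v2 * (z0 * z1 ^ 2) +
        cγ3 F v2 * z1 ^ 3 := by
  have h1 := cubic_expand' F hF v1 v2 z0 z1
  have h2 := cubic_expand' F hF v1 v2 1 1
  have h3 := cubic_expand' F hF v1 v2 1 (-1)
  rw [one_smul, one_smul] at h2
  rw [one_smul, neg_one_smul, ← sub_eq_add_neg] at h3
  rw [h1, cγ0, cγ1, cγ2, cγ3, h2, h3]
  have h2' : (2 : K) ≠ 0 := two_ne_zero
  field_simp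
  ring

include hF in
/-- The restriction of `F` to the tangent plane at `b`, in a frame. -/
theorem F_tangent_frame (hFb : eval b F = 0) (hv1 : dF F b v1 = 0) (hv2 : dF F b v2 = 0)
    (s z0 z1 : K) :
    eval (s • b + (z0 • v1 + z1 • v2)) F =
      s * (cα0 F b v1 * z0 ^ 2 + cα1 F b v1 v2 * (z0 * z1) + cα2 F b v2 * z1 ^ 2) +
      (cγ0 F v1 * z0 ^ 3 + cγ1 F v1 v2 * (z0 ^ 2 * z1) + cγ2 F v1 v2 * (z0 * z1 ^ 2) +
        cγ3 F v2 * z1 ^ 3) := by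
  have h := expand_at F hF b hFb (z0 • v1 + z1 • v2) s 1
  rw [one_smul, map_add, map_smul, map_smul, hv1, hv2] at h
  rw [h, polar_frame F b v1 v2 hF, F_frame F v1 v2 hF]
  simp only [smul_eq_mul, mul_zero, add_zero]
  ring

include hF in
/-- At a T-point the minors vanish, in any frame of the tangent plane. -/
theorem minors_of_tp (hFb : eval b F = 0) (L1 L2 L3 : MvPolynomial (Fin 4) K)
    (hL1 : L1.IsHomogeneous 1) (hL2 : L2.IsHomogeneous 1) (hL3 : L3.IsHomogeneous 1)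
    (hmem : F - L1 * L2 * L3 ∈ Ideal.span {∑ i : Fin 4, C (eval b (pderiv i F)) * X i})
    (hv1 : dF F b v1 = 0) (hv2 : dF F b v2 = 0) :
    m0 (cα0 F b v1) (cα1 F b v1 v2) (cα2 F b v2) (cγ0 F v1) (cγ1 F v1 v2) (cγ2 F v1 v2)
        (cγ3 F v2) = 0 ∧
    m1 (cα0 F b v1) (cα1 F b v1 v2) (cα2 F b v2) (cγ0 F v1) (cγ1 F v1 v2) (cγ2 F v1 v2)
        (cγ3 F v2) = 0 ∧
    m2 (cα0 F b v1) (cα1 F b v1 v2) (cα2 F b v2) (cγ0 F v1) (cγ1 F v1 v2) (cγ2 F v1 v2)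
        (cγ3 F v2) = 0 ∧
    m3 (cα0 F b v1) (cα1 F b v1 v2) (cα2 F b v2) (cγ0 F v1) (cγ1 F v1 v2) (cγ2 F v1 v2)
        (cγ3 F v2) = 0 := by
  obtain ⟨Q, hQ⟩ := Ideal.mem_span_singleton.1 hmem
  have hℓ : ∀ x, eval x (∑ i : Fin 4, C (eval b (pderiv i F)) * X i) = dF F b x := by
    intro x
    rw [dF_apply]
    simp [mul_comm]
  have hbb := dF_self F hF b hFb
  have hL : ∀ (L : MvPolynomial (Fin 4) K), L.IsHomogeneous 1 → ∀ s z0 z1 : K,
      eval (s • b + (z0 • v1 + z1 • v2)) L = s * eval b L + z0 * eval v1 L + z1 * eval v2 L := by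
    intro L hL s z0 z1
    rw [eval_add_of_hom1 hL, eval_add_of_hom1 hL, eval_smul_of_isHomogeneous hL,
      eval_smul_of_isHomogeneous hL, eval_smul_of_isHomogeneous hL]
    ring
  obtain ⟨α0, hα0⟩ : ∃ x, x = cα0 F b v1 := ⟨_, rfl⟩
  obtain ⟨α1, hα1⟩ : ∃ x, x = cα1 F b v1 v2 := ⟨_, rfl⟩
  obtain ⟨α2, hα2⟩ : ∃ x, x = cα2 F b v2 := ⟨_, rfl⟩
  obtain ⟨γ0, hγ0⟩ : ∃ x, x = cγ0 F v1 := ⟨_, rfl⟩
  obtain ⟨γ1, hγ1⟩ : ∃ x, x = cγ1 F v1 v2 := ⟨_, rfl⟩
  obtain ⟨γ2, hγ2⟩ : ∃ x, x = cγ2 F v1 v2 := ⟨_, rfl⟩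
  obtain ⟨γ3, hγ3⟩ : ∃ x, x = cγ3 F v2 := ⟨_, rfl⟩
  obtain ⟨c1, hc1⟩ : ∃ x, x = eval b L1 := ⟨_, rfl⟩
  obtain ⟨c2, hc2⟩ : ∃ x, x = eval b L2 := ⟨_, rfl⟩
  obtain ⟨c3, hc3⟩ : ∃ x, x = eval b L3 := ⟨_, rfl⟩
  obtain ⟨p1, hp1⟩ : ∃ x, x = eval v1 L1 := ⟨_, rfl⟩
  obtain ⟨p2, hp2⟩ : ∃ x, x = eval v1 L2 := ⟨_, rfl⟩
  obtain ⟨p3, hp3⟩ : ∃ x, x = eval v1 L3 := ⟨_, rfl⟩
  obtain ⟨q1, hq1⟩ : ∃ x, x = eval v2 L1 := ⟨_, rfl⟩
  obtain ⟨q2, hq2⟩ : ∃ x, x = eval v2 L2 := ⟨_, rfl⟩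
  obtain ⟨q3, hq3⟩ : ∃ x, x = eval v2 L3 := ⟨_, rfl⟩
  have hG : ∀ s z0 z1 : K,
      s * (α0 * z0 ^ 2 + α1 * (z0 * z1) + α2 * z1 ^ 2) +
        (γ0 * z0 ^ 3 + γ1 * (z0 ^ 2 * z1) + γ2 * (z0 * z1 ^ 2) + γ3 * z1 ^ 3) =
      (s * c1 + z0 * p1 + z1 * q1) * (s * c2 + z0 * p2 + z1 * q2) *
        (s * c3 + z0 * p3 + z1 * q3) := by
    intro s z0 z1
    have h1 := congrArg (eval (s • b + (z0 • v1 + z1 • v2))) hQ
    rw [map_sub, map_mul, map_mul, map_mul, hℓ, map_add, map_smul, map_add, map_smul, map_smul,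
      hbb, hv1, hv2, F_tangent_frame F b v1 v2 hF hFb hv1 hv2, hL L1 hL1, hL L2 hL2,
      hL L3 hL3] at h1
    simp only [smul_eq_mul, mul_zero, add_zero, zero_mul] at h1
    rw [hα0, hα1, hα2, hγ0, hγ1, hγ2, hγ3, hc1, hc2, hc3, hp1, hp2, hp3, hq1, hq2, hq3]
    exact sub_eq_zero.1 h1
  have h2' : (2 : K) ≠ 0 := two_ne_zero
  have e100 := hG 1 0 0
  have e010 := hG 0 1 0
  have e001 := hG 0 0 1
  have e110 := hG 1 1 0
  have em110 := hG (-1) 1 0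
  have e101 := hG 1 0 1
  have em101 := hG (-1) 0 1
  have e011 := hG 0 1 1
  have e01m := hG 0 1 (-1)
  have e111 := hG 1 1 1
  have E3 : c1 * c2 * c3 = 0 := by linear_combination -e100
  have Eγ0 : γ0 = p1 * p2 * p3 := by linear_combination e010
  have Eγ3 : γ3 = q1 * q2 * q3 := by linear_combination e001
  have E2p : c1 * c2 * p3 + c1 * c3 * p2 + c2 * c3 * p1 = 0 := by
    apply mul_left_cancel₀ h2'
    linear_combination -e110 - em110 + 2 * e010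
  have Eα0 : α0 = c1 * p2 * p3 + c2 * p1 * p3 + c3 * p1 * p2 := by
    apply mul_left_cancel₀ h2'
    linear_combination e110 - em110 - 2 * e100
  have E2q : c1 * c2 * q3 + c1 * c3 * q2 + c2 * c3 * q1 = 0 := by
    apply mul_left_cancel₀ h2'
    linear_combination -e101 - em101 + 2 * e001
  have Eα2 : α2 = c1 * q2 * q3 + c2 * q1 * q3 + c3 * q1 * q2 := by
    apply mul_left_cancel₀ h2'
    linear_combination e101 - em101 - 2 * e100
  have Eγ2 : γ2 = p1 * q2 * q3 + q1 * p2 * q3 + q1 * q2 * p3 := by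
    apply mul_left_cancel₀ h2'
    linear_combination e011 + e01m - 2 * e010
  have Eγ1 : γ1 = p1 * p2 * q3 + p1 * q2 * p3 + q1 * p2 * p3 := by
    apply mul_left_cancel₀ h2'
    linear_combination e011 - e01m - 2 * e001
  have Eα1 : α1 = c1 * (p2 * q3 + q2 * p3) + c2 * (p1 * q3 + q1 * p3) +
      c3 * (p1 * q2 + q1 * p2) := by
    linear_combination e111 + E3 - Eγ0 - Eγ3 + E2p - Eα0 + E2q - Eα2 - Eγ2 - Eγ1
  have hfin := minors_of_split c1 c2 c3 p1 p2 p3 q1 q2 q3 E3 E2p E2q α0 α1 α2 γ0 γ1 γ2 γ3 Eα0 Eα1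
    Eα2 Eγ0 Eγ1 Eγ2 Eγ3
  rw [hα0, hα1, hα2, hγ0, hγ1, hγ2, hγ3] at hfin
  exact hfin

end Coef

end Groth.Agent.Lib.Helper24Tp5
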