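import Mathlib
import Groth.Agent.Lib.Helper24Tp5b

/-!
# T-points on cubic surfaces: a point where the tangent plane section splits is a T-point (helper24)
-/

namespace Groth.Agent.Lib.Helper24Tp5

open MvPolynomial
open Groth.Agent.Lib.Helper24CubicSec Groth.Agent.Lib.Helper24CubicLines
open Groth.Agent.Lib.Helper24CubicSing Groth.Agent.Lib.Helper24Nodal
open Groth.Agent.Lib.Helper24Gp5

variable {K : Type*} [Field K] [CharZero K]

theorem linForm_dF (F : MvPolynomial (Fin 4) K) (a : Fin 4 → K) :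
    linForm (dF F a) = ∑ i : Fin 4, C (eval a (pderiv i F)) * X i := by
  rw [linForm]
  refine Finset.sum_congr rfl fun i _ => ?_
  rw [dF_apply]
  simp

theorem vec2_eq (z : Fin 2 → K) :
    z = z 0 • (Pi.single 0 1 : Fin 2 → K) + z 1 • (Pi.single 1 1 : Fin 2 → K) := by
  ext i
  fin_cases i <;> simp

/-- The binary quadric with given coefficients. -/
noncomputable def quadPoly (α0 α1 α2 : K) : MvPolynomial (Fin 2) K :=
  C α0 * X 0 ^ 2 + C α1 * (X 0 * X 1) + C α2 * X 1 ^ 2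

/-- The binary cubic with given coefficients. -/
noncomputable def cubPoly (γ0 γ1 γ2 γ3 : K) : MvPolynomial (Fin 2) K :=
  C γ0 * X 0 ^ 3 + C γ1 * (X 0 ^ 2 * X 1) + C γ2 * (X 0 * X 1 ^ 2) + C γ3 * X 1 ^ 3

omit [CharZero K] in
theorem eval_quadPoly (α0 α1 α2 : K) (z : Fin 2 → K) :
    eval z (quadPoly α0 α1 α2) = α0 * z 0 ^ 2 + α1 * (z 0 * z 1) + α2 * z 1 ^ 2 := by
  simp [quadPoly]

omit [CharZero K] in
theorem eval_cubPoly (γ0 γ1 γ2 γ3 : K) (z : Fin 2 → K) :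
    eval z (cubPoly γ0 γ1 γ2 γ3) =
      γ0 * z 0 ^ 3 + γ1 * (z 0 ^ 2 * z 1) + γ2 * (z 0 * z 1 ^ 2) + γ3 * z 1 ^ 3 := by
  simp [cubPoly]

omit [CharZero K] in
theorem quadPoly_isHomogeneous (α0 α1 α2 : K) : (quadPoly α0 α1 α2).IsHomogeneous 2 := by
  refine IsHomogeneous.add (IsHomogeneous.add ?_ ?_) ?_
  · exact isHomogeneous_C_mul_X_pow α0 0 2
  · have := (isHomogeneous_C (Fin 2) α1).mul ((isHomogeneous_X K (0 : Fin 2)).mul
      (isHomogeneous_X K (1 : Fin 2)))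
    simpa using this
  · exact isHomogeneous_C_mul_X_pow α2 1 2

omit [CharZero K] in
theorem cubPoly_isHomogeneous (γ0 γ1 γ2 γ3 : K) : (cubPoly γ0 γ1 γ2 γ3).IsHomogeneous 3 := by
  refine IsHomogeneous.add (IsHomogeneous.add (IsHomogeneous.add ?_ ?_) ?_) ?_
  · exact isHomogeneous_C_mul_X_pow γ0 0 3
  · have := (isHomogeneous_C (Fin 2) γ1).mul ((isHomogeneous_X_pow (R := K) (0 : Fin 2) 2).mul
      (isHomogeneous_X K (1 : Fin 2)))
    simpa using this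
  · have := (isHomogeneous_C (Fin 2) γ2).mul ((isHomogeneous_X K (0 : Fin 2)).mul
      (isHomogeneous_X_pow (R := K) (1 : Fin 2) 2))
    simpa using this
  · exact isHomogeneous_C_mul_X_pow γ3 1 3

omit [CharZero K] in
theorem aeval_cξ_linForm_isHomogeneous (ξ : (Fin 4 → K) →ₗ[K] (Fin 2 → K))
    (l : (Fin 2 → K) →ₗ[K] K) : (aeval (cξ ξ) (linForm l)).IsHomogeneous 1 := by
  have h := (linForm_isHomogeneous l).aeval (cξ ξ) (fun i => linForm_isHomogeneous _)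
  rw [one_mul] at h
  exact h

variable [IsAlgClosed K] (F : MvPolynomial (Fin 4) K) (hF : F.IsHomogeneous 3)
  (a : Fin 4 → K) (hFa : eval a F = 0)

include hF hFa in
/-- If the tangent plane section at a smooth point splits, the point is a T-point. -/
theorem tp_of_split (ha : a ≠ 0) (hφ : dF F a ≠ 0)
    (B : (Fin 2 → K) →ₗ[K] (Fin 4 → K)) (ξ : (Fin 4 → K) →ₗ[K] (Fin 2 → K))
    (h1 : ∀ z, dF F a (B z) = 0)
    (h3 : ∀ x, dF F a x = 0 → ∃ s : K, x = s • a + B (ξ x))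
    (α0 α1 α2 γ0 γ1 γ2 γ3 : K)
    (hα0 : α0 = cα0 F a (B (Pi.single 0 1))) 
    (hα1 : α1 = cα1 F a (B (Pi.single 0 1)) (B (Pi.single 1 1)))
    (hα2 : α2 = cα2 F a (B (Pi.single 1 1)))
    (hγ0 : γ0 = cγ0 F (B (Pi.single 0 1)))
    (hγ1 : γ1 = cγ1 F (B (Pi.single 0 1)) (B (Pi.single 1 1)))
    (hγ2 : γ2 = cγ2 F (B (Pi.single 0 1)) (B (Pi.single 1 1)))
    (hγ3 : γ3 = cγ3 F (B (Pi.single 1 1)))
    (hsplit : (α0 = 0 ∧ α1 = 0 ∧ α2 = 0) ∨ ∃ l0 l1 : K, γ0 = l0 * α0 ∧ γ1 = l0 * α1 + l1 * α0 ∧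
      γ2 = l0 * α2 + l1 * α1 ∧ γ3 = l1 * α2) :
    ∃ L₁ L₂ L₃ : MvPolynomial (Fin 4) K, L₁.IsHomogeneous 1 ∧ L₂.IsHomogeneous 1 ∧
      L₃.IsHomogeneous 1 ∧
      F - L₁ * L₂ * L₃ ∈ Ideal.span {∑ i : Fin 4, C (eval a (pderiv i F)) * X i} := by
  obtain ⟨σ, hσ⟩ := param_sigma F a ha B ξ h3
  have hBz : ∀ z : Fin 2 → K, B z = z 0 • B (Pi.single 0 1) + z 1 • B (Pi.single 1 1) := by
    intro z
    conv_lhs => rw [vec2_eq z]
    rw [map_add, map_smul, map_smul]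
  have hA : ∀ z, eval z (quadPoly α0 α1 α2) = eval (B z) (polar F a) := by
    intro z
    rw [eval_quadPoly, hBz z, polar_frame F a _ _ hF, hα0, hα1, hα2]
  have hΦ : ∀ z, eval z (cubPoly γ0 γ1 γ2 γ3) = eval (B z) F := by
    intro z
    rw [eval_cubPoly, hBz z, F_frame F _ _ hF, hγ0, hγ1, hγ2, hγ3]
  have hplane : ∀ x, dF F a x = 0 →
      eval x F = σ x * eval (ξ x) (quadPoly α0 α1 α2) + eval (ξ x) (cubPoly γ0 γ1 γ2 γ3) := by
    intro x hx
    have h4 := F_plane F hF a hFa B h1 (σ x) (ξ x)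
    rw [← hσ x hx] at h4
    rw [h4, hA, hΦ]
  have hfin : ∀ (Ψ L₁ L₂ L₃ : MvPolynomial (Fin 4) K), (∀ x, dF F a x = 0 → eval x F = eval x Ψ) →
      Ψ = L₁ * L₂ * L₃ →
      F - L₁ * L₂ * L₃ ∈ Ideal.span {∑ i : Fin 4, C (eval a (pderiv i F)) * X i} := by
    intro Ψ L₁ L₂ L₃ hΨ hΨL
    rw [← linForm_dF, Ideal.mem_span_singleton, ← hΨL]
    exact linForm_dvd_of_vanish_inf (dF F a) hφ (F - Ψ) (fun w hw => by
      rw [map_sub, hΨ w hw, sub_self])
  rcases hsplit with ⟨e0, e1, e2⟩ | ⟨l0, l1, e0, e1, e2, e3⟩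
  · obtain ⟨c, l, hl⟩ := binary_factor_poly 3 (cubPoly γ0 γ1 γ2 γ3)
      (cubPoly_isHomogeneous γ0 γ1 γ2 γ3)
    refine ⟨C c * aeval (cξ ξ) (linForm (l 0)), aeval (cξ ξ) (linForm (l 1)),
      aeval (cξ ξ) (linForm (l 2)), (aeval_cξ_linForm_isHomogeneous ξ _).C_mul c,
      aeval_cξ_linForm_isHomogeneous ξ _, aeval_cξ_linForm_isHomogeneous ξ _, ?_⟩
    apply hfin (aeval (cξ ξ) (cubPoly γ0 γ1 γ2 γ3))
    · intro x hx
      rw [hplane x hx, eval_aeval_cξ, eval_quadPoly, e0, e1, e2]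
      ring
    · rw [hl, map_mul, map_prod, Fin.prod_univ_three, aeval_C]
      simp only [algebraMap_eq]
      ring
  · obtain ⟨c, l, hl⟩ := binary_factor_poly 2 (quadPoly α0 α1 α2)
      (quadPoly_isHomogeneous α0 α1 α2)
    have hq : (C l0 * X 0 + C l1 * X 1 : MvPolynomial (Fin 2) K).IsHomogeneous 1 :=
      IsHomogeneous.add (isHomogeneous_C_mul_X l0 0) (isHomogeneous_C_mul_X l1 1)
    have hq' : (aeval (cξ ξ) (C l0 * X 0 + C l1 * X 1 : MvPolynomial (Fin 2) K)).IsHomogeneous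
        1 := by
      have h := hq.aeval (cξ ξ) (fun i => linForm_isHomogeneous _)
      rw [one_mul] at h
      exact h
    refine ⟨C c * aeval (cξ ξ) (linForm (l 0)), aeval (cξ ξ) (linForm (l 1)),
      linForm σ + aeval (cξ ξ) (C l0 * X 0 + C l1 * X 1),
      (aeval_cξ_linForm_isHomogeneous ξ _).C_mul c,
      aeval_cξ_linForm_isHomogeneous ξ _, (linForm_isHomogeneous σ).add hq', ?_⟩
    apply hfin (aeval (cξ ξ) (quadPoly α0 α1 α2) *
      (linForm σ + aeval (cξ ξ) (C l0 * X 0 + C l1 * X 1)))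
    · intro x hx
      rw [hplane x hx, map_mul, map_add, eval_aeval_cξ, eval_aeval_cξ, eval_linForm,
        eval_quadPoly, eval_cubPoly, e0, e1, e2, e3]
      simp only [map_add, map_mul, eval_C, eval_X]
      ring
    · rw [hl, map_mul, map_prod, Fin.prod_univ_two, aeval_C]
      simp only [algebraMap_eq]
      ring

end Groth.Agent.Lib.Helper24Tp5
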