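import Mathlib
import Groth.Agent.Lib.Helper24Tp5c

/-!
# T-points on cubic surfaces: the minors as polynomials in the point (helper24)
-/

namespace Groth.Agent.Lib.Helper24Tp5

open MvPolynomial
open Groth.Agent.Lib.Helper24CubicSec Groth.Agent.Lib.Helper24CubicLines
open Groth.Agent.Lib.Helper24CubicSing Groth.Agent.Lib.Helper24Nodal
open Groth.Agent.Lib.Helper24Gp5

section Gen

variable {k : Type*} [Field k]

variable (a : Fin 4 → k) (β : Fin 4 → MvPolynomial (Fin 2) k)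
  (P : MvPolynomial (Fin 4) k) (d : ℕ) (hd : d ≠ 0) (hP : P.IsHomogeneous d) (hPa : eval a P ≠ 0)

include hP in
theorem aeval_smul_vec_gen (t : MvPolynomial (Fin 2) k) (g : Fin 4 → MvPolynomial (Fin 2) k) :
    aeval (fun j => t * g j) P = t ^ d * aeval g P := by
  rw [aeval_eq_eval_map, aeval_eq_eval_map]
  exact eval_smul_homR (hP.map C) t g

include hd hP hPa in
theorem dvd_of_aeval_eq_zero_gen : ∀ A' : MvPolynomial (Fin 2) k, ∀ Φ' : MvPolynomial (Fin 2) k,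
    aeval (fun j => Φ' * C (a j) - A' * β j) P = 0 → A' ∣ Φ' := by
  have hκ : IsUnit (C (eval a P) : MvPolynomial (Fin 2) k) := (IsUnit.mk0 _ hPa).map C
  have hpure : ∀ Φ' : MvPolynomial (Fin 2) k,
      aeval (fun j => Φ' * C (a j)) P = Φ' ^ d * C (eval a P) := by
    intro Φ'
    rw [aeval_smul_vec_gen P d hP, aeval_C_comp]
  intro A'
  induction A' using UniqueFactorizationMonoid.induction_on_prime with
  | h₁ =>
    intro Φ' h
    simp only [zero_mul, sub_zero] at h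
    rw [hpure] at h
    have h5 : Φ' ^ d = 0 := by
      rcases mul_eq_zero.1 h with h6 | h6
      · exact h6
      · exact absurd h6 hκ.ne_zero
    rw [pow_eq_zero_iff hd] at h5
    rw [h5]
  | h₂ x hx =>
    intro Φ' _
    exact hx.dvd
  | h₃ A'' π hA'' hπ ih =>
    intro Φ' h
    have h1 := eval_sub_memR (Ideal.span {π}) (fun j => Φ' * C (a j) - π * A'' * β j)
      (fun j => Φ' * C (a j)) (fun l => by
        simp only [sub_sub_cancel]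
        rw [mul_assoc]
        exact Ideal.mul_mem_right _ _ (Ideal.subset_span rfl)) (MvPolynomial.map C P)
    rw [← aeval_eq_eval_map, ← aeval_eq_eval_map, h, sub_zero, hpure,
      Ideal.mem_span_singleton] at h1
    have h2 : π ∣ Φ' := by
      rcases hπ.dvd_or_dvd h1 with h3 | h3
      · exact hπ.dvd_of_dvd_pow h3
      · exact absurd (isUnit_of_dvd_unit h3 hκ) hπ.not_isUnit
    obtain ⟨Φ'', rfl⟩ := h2
    have h4 : (fun j => π * Φ'' * C (a j) - π * A'' * β j) =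
        fun j => π * (Φ'' * C (a j) - A'' * β j) := by
      funext j
      ring
    rw [h4, aeval_smul_vec_gen P d hP] at h
    have h5 : aeval (fun j => Φ'' * C (a j) - A'' * β j) P = 0 := by
      rcases mul_eq_zero.1 h with h6 | h6
      · exact absurd (pow_eq_zero_iff hd |>.1 h6) hπ.ne_zero
      · exact h6
    exact mul_dvd_mul_left π (ih Φ'' h5)

end Gen

section Hom

variable {σ : Type*} {R : Type*} [CommRing R]
  {α0 α1 α2 γ0 γ1 γ2 γ3 : MvPolynomial σ R} {d1 d2 : ℕ}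
  (hα0 : α0.IsHomogeneous d1) (hα1 : α1.IsHomogeneous d1) (hα2 : α2.IsHomogeneous d1)
  (hγ0 : γ0.IsHomogeneous d2) (hγ1 : γ1.IsHomogeneous d2) (hγ2 : γ2.IsHomogeneous d2)
  (hγ3 : γ3.IsHomogeneous d2)

theorem isHomogeneous_term {x y z : MvPolynomial σ R} (hx : x.IsHomogeneous d1)
    (hy : y.IsHomogeneous d1) (hz : z.IsHomogeneous d2) :
    (x * y * z).IsHomogeneous (d1 * 2 + d2) := by
  have := (hx.mul hy).mul hz
  rwa [show d1 + d1 + d2 = d1 * 2 + d2 by ring] at this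

theorem isHomogeneous_term' {x z : MvPolynomial σ R} (hx : x.IsHomogeneous d1)
    (hz : z.IsHomogeneous d2) :
    (x ^ 2 * z).IsHomogeneous (d1 * 2 + d2) :=
  (hx.pow 2).mul hz

include hα0 hα1 hα2 hγ1 hγ2 hγ3 in
theorem m0_isHomogeneous : (m0 α0 α1 α2 γ0 γ1 γ2 γ3).IsHomogeneous (d1 * 2 + d2) := by
  rw [m0]
  exact (((isHomogeneous_term' hα1 hγ3).sub (isHomogeneous_term hα1 hα2 hγ2)).sub
    (isHomogeneous_term hα0 hα2 hγ3)).add (isHomogeneous_term' hα2 hγ1)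

include hα0 hα1 hα2 hγ0 hγ2 hγ3 in
theorem m1_isHomogeneous : (m1 α0 α1 α2 γ0 γ1 γ2 γ3).IsHomogeneous (d1 * 2 + d2) := by
  rw [m1]
  exact ((isHomogeneous_term hα0 hα1 hγ3).sub (isHomogeneous_term hα0 hα2 hγ2)).add
    (isHomogeneous_term' hα2 hγ0)

include hα0 hα1 hα2 hγ0 hγ1 hγ3 in
theorem m2_isHomogeneous : (m2 α0 α1 α2 γ0 γ1 γ2 γ3).IsHomogeneous (d1 * 2 + d2) := by
  rw [m2]
  exact ((isHomogeneous_term' hα0 hγ3).sub (isHomogeneous_term hα0 hα2 hγ1)).add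
    (isHomogeneous_term hα1 hα2 hγ0)

include hα0 hα1 hα2 hγ0 hγ1 hγ2 in
theorem m3_isHomogeneous : (m3 α0 α1 α2 γ0 γ1 γ2 γ3).IsHomogeneous (d1 * 2 + d2) := by
  rw [m3]
  exact (((isHomogeneous_term' hα0 hγ2).sub (isHomogeneous_term hα0 hα1 hγ1)).add
    (isHomogeneous_term' hα1 hγ0)).sub (isHomogeneous_term hα0 hα2 hγ0)

end Hom

variable {K : Type*} [Field K] [CharZero K]

section Polys

variable (F : MvPolynomial (Fin 4) K) (hF : F.IsHomogeneous 3) (x1 x2 w : Fin 4 → K)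

/-- The frame vector at `b` attached to `x`. -/
noncomputable def Vx (x w b : Fin 4 → K) : Fin 4 → K := dF F b w • x - dF F b x • w

theorem dF_Vx (x w b : Fin 4 → K) : dF F b (Vx F x w b) = 0 := by
  rw [Vx, map_sub, map_smul, map_smul, smul_eq_mul, smul_eq_mul]
  ring

theorem Vx_add (x y w b : Fin 4 → K) : Vx F (x + y) w b = Vx F x w b + Vx F y w b := by
  simp only [Vx, map_add, smul_add, add_smul]
  abel

theorem Vx_sub (x y w b : Fin 4 → K) : Vx F (x - y) w b = Vx F x w b - Vx F y w b := by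
  simp only [Vx, map_sub, smul_sub, sub_smul]
  abel

/-- The polynomial `b ↦ F(V_x(b))`. -/
noncomputable def Cpoly (x w : Fin 4 → K) : MvPolynomial (Fin 4) K := aeval (Vdir F x w) F

theorem eval_Bpoly' (x w b : Fin 4 → K) :
    eval b (Bpoly F x w) = eval (Vx F x w b) (polar F b) := eval_Bpoly F x w b

theorem eval_Cpoly (x w b : Fin 4 → K) : eval b (Cpoly F x w) = eval (Vx F x w b) F := by
  rw [Cpoly, eval_aeval_gen, eval_Vdir]
  rfl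

include hF in
theorem Cpoly_isHomogeneous (x w : Fin 4 → K) : (Cpoly F x w).IsHomogeneous 6 := by
  have h2 : ∀ j, (Vdir F x w j).IsHomogeneous 2 := by
    intro j
    apply IsHomogeneous.sub
    · simpa using (polar_isHomogeneous F w hF).mul (isHomogeneous_C (Fin 4) (x j))
    · simpa using (polar_isHomogeneous F x hF).mul (isHomogeneous_C (Fin 4) (w j))
  exact hF.aeval (Vdir F x w) h2

noncomputable def pα0 : MvPolynomial (Fin 4) K := Bpoly F x1 w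
noncomputable def pα1 : MvPolynomial (Fin 4) K :=
  Bpoly F (x1 + x2) w - Bpoly F x1 w - Bpoly F x2 w
noncomputable def pα2 : MvPolynomial (Fin 4) K := Bpoly F x2 w
noncomputable def pγ0 : MvPolynomial (Fin 4) K := Cpoly F x1 w
noncomputable def pγ1 : MvPolynomial (Fin 4) K :=
  C (1 / 2 : K) * (Cpoly F (x1 + x2) w - Cpoly F (x1 - x2) w) - Cpoly F x2 w
noncomputable def pγ2 : MvPolynomial (Fin 4) K :=
  C (1 / 2 : K) * (Cpoly F (x1 + x2) w + Cpoly F (x1 - x2) w) - Cpoly F x1 w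
noncomputable def pγ3 : MvPolynomial (Fin 4) K := Cpoly F x2 w

theorem eval_pα0 (b : Fin 4 → K) : eval b (pα0 F x1 w) = cα0 F b (Vx F x1 w b) := by
  rw [pα0, eval_Bpoly', cα0]

theorem eval_pα1 (b : Fin 4 → K) :
    eval b (pα1 F x1 x2 w) = cα1 F b (Vx F x1 w b) (Vx F x2 w b) := by
  rw [pα1, map_sub, map_sub, eval_Bpoly', eval_Bpoly', eval_Bpoly', cα1, Vx_add]

theorem eval_pα2 (b : Fin 4 → K) : eval b (pα2 F x2 w) = cα2 F b (Vx F x2 w b) := by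
  rw [pα2, eval_Bpoly', cα2]

theorem eval_pγ0 (b : Fin 4 → K) : eval b (pγ0 F x1 w) = cγ0 F (Vx F x1 w b) := by
  rw [pγ0, eval_Cpoly, cγ0]

theorem eval_pγ1 (b : Fin 4 → K) :
    eval b (pγ1 F x1 x2 w) = cγ1 F (Vx F x1 w b) (Vx F x2 w b) := by
  rw [pγ1, map_sub, map_mul, map_sub, eval_C, eval_Cpoly, eval_Cpoly, eval_Cpoly, cγ1, Vx_add,
    Vx_sub]
  ring

theorem eval_pγ2 (b : Fin 4 → K) :
    eval b (pγ2 F x1 x2 w) = cγ2 F (Vx F x1 w b) (Vx F x2 w b) := by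
  rw [pγ2, map_sub, map_mul, map_add, eval_C, eval_Cpoly, eval_Cpoly, eval_Cpoly, cγ2, Vx_add,
    Vx_sub]
  ring

theorem eval_pγ3 (b : Fin 4 → K) : eval b (pγ3 F x2 w) = cγ3 F (Vx F x2 w b) := by
  rw [pγ3, eval_Cpoly, cγ3]

/-- The four minors as polynomials in the point. -/
noncomputable def Emin (j : Fin 4) : MvPolynomial (Fin 4) K :=
  ![m0 (pα0 F x1 w) (pα1 F x1 x2 w) (pα2 F x2 w) (pγ0 F x1 w) (pγ1 F x1 x2 w) (pγ2 F x1 x2 w)
      (pγ3 F x2 w),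
    m1 (pα0 F x1 w) (pα1 F x1 x2 w) (pα2 F x2 w) (pγ0 F x1 w) (pγ1 F x1 x2 w) (pγ2 F x1 x2 w)
      (pγ3 F x2 w),
    m2 (pα0 F x1 w) (pα1 F x1 x2 w) (pα2 F x2 w) (pγ0 F x1 w) (pγ1 F x1 x2 w) (pγ2 F x1 x2 w)
      (pγ3 F x2 w),
    m3 (pα0 F x1 w) (pα1 F x1 x2 w) (pα2 F x2 w) (pγ0 F x1 w) (pγ1 F x1 x2 w) (pγ2 F x1 x2 w)
      (pγ3 F x2 w)] j

include hF in
theorem Emin_isHomogeneous (j : Fin 4) : (Emin F x1 x2 w j).IsHomogeneous 16 := by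
  have hB : ∀ x, (Bpoly F x w).IsHomogeneous 5 := fun x => Bpoly_isHomogeneous F hF x w
  have hC : ∀ x, (Cpoly F x w).IsHomogeneous 6 := fun x => Cpoly_isHomogeneous F hF x w
  have hα0 : (pα0 F x1 w).IsHomogeneous 5 := hB _
  have hα1 : (pα1 F x1 x2 w).IsHomogeneous 5 := ((hB _).sub (hB _)).sub (hB _)
  have hα2 : (pα2 F x2 w).IsHomogeneous 5 := hB _
  have hγ0 : (pγ0 F x1 w).IsHomogeneous 6 := hC _
  have hγ1 : (pγ1 F x1 x2 w).IsHomogeneous 6 := (((hC _).sub (hC _)).C_mul _).sub (hC _)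
  have hγ2 : (pγ2 F x1 x2 w).IsHomogeneous 6 := (((hC _).add (hC _)).C_mul _).sub (hC _)
  have hγ3 : (pγ3 F x2 w).IsHomogeneous 6 := hC _
  fin_cases j
  · change (m0 (pα0 F x1 w) (pα1 F x1 x2 w) (pα2 F x2 w) (pγ0 F x1 w) (pγ1 F x1 x2 w) (pγ2 F x1 x2 w)
      (pγ3 F x2 w)).IsHomogeneous 16
    exact m0_isHomogeneous hα0 hα1 hα2 hγ1 hγ2 hγ3
  · change (m1 (pα0 F x1 w) (pα1 F x1 x2 w) (pα2 F x2 w) (pγ0 F x1 w) (pγ1 F x1 x2 w) (pγ2 F x1 x2 w)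
      (pγ3 F x2 w)).IsHomogeneous 16
    exact m1_isHomogeneous hα0 hα1 hα2 hγ0 hγ2 hγ3
  · change (m2 (pα0 F x1 w) (pα1 F x1 x2 w) (pα2 F x2 w) (pγ0 F x1 w) (pγ1 F x1 x2 w) (pγ2 F x1 x2 w)
      (pγ3 F x2 w)).IsHomogeneous 16
    exact m2_isHomogeneous hα0 hα1 hα2 hγ0 hγ1 hγ3
  · change (m3 (pα0 F x1 w) (pα1 F x1 x2 w) (pα2 F x2 w) (pγ0 F x1 w) (pγ1 F x1 x2 w) (pγ2 F x1 x2 w)
      (pγ3 F x2 w)).IsHomogeneous 16
    exact m3_isHomogeneous hα0 hα1 hα2 hγ0 hγ1 hγ2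

theorem eval_Emin (b : Fin 4 → K) :
    eval b (Emin F x1 x2 w 0) = m0 (cα0 F b (Vx F x1 w b)) (cα1 F b (Vx F x1 w b) (Vx F x2 w b))
      (cα2 F b (Vx F x2 w b)) (cγ0 F (Vx F x1 w b)) (cγ1 F (Vx F x1 w b) (Vx F x2 w b))
      (cγ2 F (Vx F x1 w b) (Vx F x2 w b)) (cγ3 F (Vx F x2 w b)) ∧
    eval b (Emin F x1 x2 w 1) = m1 (cα0 F b (Vx F x1 w b)) (cα1 F b (Vx F x1 w b) (Vx F x2 w b))
      (cα2 F b (Vx F x2 w b)) (cγ0 F (Vx F x1 w b)) (cγ1 F (Vx F x1 w b) (Vx F x2 w b))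
      (cγ2 F (Vx F x1 w b) (Vx F x2 w b)) (cγ3 F (Vx F x2 w b)) ∧
    eval b (Emin F x1 x2 w 2) = m2 (cα0 F b (Vx F x1 w b)) (cα1 F b (Vx F x1 w b) (Vx F x2 w b))
      (cα2 F b (Vx F x2 w b)) (cγ0 F (Vx F x1 w b)) (cγ1 F (Vx F x1 w b) (Vx F x2 w b))
      (cγ2 F (Vx F x1 w b) (Vx F x2 w b)) (cγ3 F (Vx F x2 w b)) ∧
    eval b (Emin F x1 x2 w 3) = m3 (cα0 F b (Vx F x1 w b)) (cα1 F b (Vx F x1 w b) (Vx F x2 w b))
      (cα2 F b (Vx F x2 w b)) (cγ0 F (Vx F x1 w b)) (cγ1 F (Vx F x1 w b) (Vx F x2 w b))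
      (cγ2 F (Vx F x1 w b) (Vx F x2 w b)) (cγ3 F (Vx F x2 w b)) := by
  refine ⟨?_, ?_, ?_, ?_⟩
  · change eval b (m0 (pα0 F x1 w) (pα1 F x1 x2 w) (pα2 F x2 w) (pγ0 F x1 w) (pγ1 F x1 x2 w) (pγ2 F x1 x2 w)
      (pγ3 F x2 w)) = _
    rw [map_m0, eval_pα0, eval_pα1, eval_pα2, eval_pγ0, eval_pγ1, eval_pγ2, eval_pγ3]
  · change eval b (m1 (pα0 F x1 w) (pα1 F x1 x2 w) (pα2 F x2 w) (pγ0 F x1 w) (pγ1 F x1 x2 w) (pγ2 F x1 x2 w)
      (pγ3 F x2 w)) = _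
    rw [map_m1, eval_pα0, eval_pα1, eval_pα2, eval_pγ0, eval_pγ1, eval_pγ2, eval_pγ3]
  · change eval b (m2 (pα0 F x1 w) (pα1 F x1 x2 w) (pα2 F x2 w) (pγ0 F x1 w) (pγ1 F x1 x2 w) (pγ2 F x1 x2 w)
      (pγ3 F x2 w)) = _
    rw [map_m2, eval_pα0, eval_pα1, eval_pα2, eval_pγ0, eval_pγ1, eval_pγ2, eval_pγ3]
  · change eval b (m3 (pα0 F x1 w) (pα1 F x1 x2 w) (pα2 F x2 w) (pγ0 F x1 w) (pγ1 F x1 x2 w) (pγ2 F x1 x2 w)
      (pγ3 F x2 w)) = _
    rw [map_m3, eval_pα0, eval_pα1, eval_pα2, eval_pγ0, eval_pγ1, eval_pγ2, eval_pγ3]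

end Polys

end Groth.Agent.Lib.Helper24Tp5
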