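import Mathlib
import Groth.Agent.Lib.Helper24Tp5d

/-!
# T-points on cubic surfaces: finitely many on the tangent plane at a non-T-point (helper24)
-/

namespace Groth.Agent.Lib.Helper24Tp5

open MvPolynomial
open Groth.Agent.Lib.Helper24CubicSec Groth.Agent.Lib.Helper24CubicLines
open Groth.Agent.Lib.Helper24CubicSing Groth.Agent.Lib.Helper24Nodal
open Groth.Agent.Lib.Helper24Gp5

variable {K : Type*} [Field K]

/-- The lines of `K²` on which a polynomial vanishes. -/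
def Zl (g : MvPolynomial (Fin 2) K) : Set (Submodule K (Fin 2 → K)) :=
  {D | Module.finrank K D + 1 = 2 ∧ ∀ z ∈ D, eval z g = 0}

theorem Zl_finite [IsAlgClosed K] (g : MvPolynomial (Fin 2) K) (hg : g ≠ 0) : (Zl g).Finite := by
  by_contra hinf
  obtain ⟨T, hT, hcard⟩ := Set.Infinite.exists_subset_card_eq hinf (g.totalDegree + 1)
  have := card_planes_le g hg T (fun U hU => hT hU)
  omega

open Classical in
/-- A chosen generator of a line. -/
noncomputable def gen (D : Submodule K (Fin 2 → K)) : Fin 2 → K :=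
  if h : ∃ z ∈ D, z ≠ 0 then h.choose else 0

theorem gen_spec {D : Submodule K (Fin 2 → K)} (h : ∃ z ∈ D, z ≠ 0) : gen D ∈ D ∧ gen D ≠ 0 := by
  rw [gen, dif_pos h]
  exact h.choose_spec

theorem gen_span {z : Fin 2 → K} (hz : z ≠ 0) :
    ∃ t : K, t ≠ 0 ∧ gen (Submodule.span K {z}) = t • z := by
  have h : ∃ z' ∈ Submodule.span K {z}, z' ≠ 0 := ⟨z, Submodule.mem_span_singleton_self z, hz⟩
  obtain ⟨hmem, hne⟩ := gen_spec h
  obtain ⟨t, ht⟩ := Submodule.mem_span_singleton.1 hmem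
  refine ⟨t, ?_, ht.symm⟩
  rintro rfl
  rw [zero_smul] at ht
  exact hne ht.symm

theorem span_mem_Zl {g : MvPolynomial (Fin 2) K} {z : Fin 2 → K} (hz : z ≠ 0)
    (h : ∀ t : K, eval (t • z) g = 0) : Submodule.span K {z} ∈ Zl g := by
  refine ⟨by rw [finrank_span_singleton hz], fun z' hz' => ?_⟩
  obtain ⟨t, rfl⟩ := Submodule.mem_span_singleton.1 hz'
  exact h t

variable [CharZero K] [IsAlgClosed K] (F : MvPolynomial (Fin 4) K) (hF : F.IsHomogeneous 3)
  (a : Fin 4 → K) (hFa : eval a F = 0)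

include hF hFa in
/-- If the tangent cone at a smooth point vanishes or divides the cubic part, the point is a
T-point. -/
theorem tp_of_dvd (ha : a ≠ 0) (hφ : dF F a ≠ 0)
    (B : (Fin 2 → K) →ₗ[K] (Fin 4 → K)) (ξ : (Fin 4 → K) →ₗ[K] (Fin 2 → K))
    (h1 : ∀ z, dF F a (B z) = 0)
    (h3 : ∀ x, dF F a x = 0 → ∃ s : K, x = s • a + B (ξ x))
    (A Φ : MvPolynomial (Fin 2) K) (hA : ∀ z, eval z A = eval (B z) (polar F a))
    (hΦ : ∀ z, eval z Φ = eval (B z) F) (hAhom : A.IsHomogeneous 2) (hΦhom : Φ.IsHomogeneous 3)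
    (h : A = 0 ∨ A ∣ Φ) :
    ∃ L₁ L₂ L₃ : MvPolynomial (Fin 4) K, L₁.IsHomogeneous 1 ∧ L₂.IsHomogeneous 1 ∧
      L₃.IsHomogeneous 1 ∧
      F - L₁ * L₂ * L₃ ∈ Ideal.span {∑ i : Fin 4, C (eval a (pderiv i F)) * X i} := by
  obtain ⟨σ, hσ⟩ := param_sigma F a ha B ξ h3
  have hplane : ∀ x, dF F a x = 0 → eval x F = σ x * eval (ξ x) A + eval (ξ x) Φ := by
    intro x hx
    have h4 := F_plane F hF a hFa B h1 (σ x) (ξ x)
    rw [← hσ x hx] at h4
    rw [h4, hA, hΦ]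
  have hfin : ∀ (Ψ L₁ L₂ L₃ : MvPolynomial (Fin 4) K), (∀ x, dF F a x = 0 → eval x F = eval x Ψ) →
      Ψ = L₁ * L₂ * L₃ →
      F - L₁ * L₂ * L₃ ∈ Ideal.span {∑ i : Fin 4, C (eval a (pderiv i F)) * X i} := by
    intro Ψ L₁ L₂ L₃ hΨ hΨL
    rw [← linForm_dF, Ideal.mem_span_singleton, ← hΨL]
    exact linForm_dvd_of_vanish_inf (dF F a) hφ (F - Ψ) (fun w hw => by
      rw [map_sub, hΨ w hw, sub_self])
  by_cases hA0 : A = 0
  · obtain ⟨c, l, hl⟩ := binary_factor_poly 3 Φ hΦhom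
    refine ⟨C c * aeval (cξ ξ) (linForm (l 0)), aeval (cξ ξ) (linForm (l 1)),
      aeval (cξ ξ) (linForm (l 2)), (aeval_cξ_linForm_isHomogeneous ξ _).C_mul c,
      aeval_cξ_linForm_isHomogeneous ξ _, aeval_cξ_linForm_isHomogeneous ξ _, ?_⟩
    apply hfin (aeval (cξ ξ) Φ)
    · intro x hx
      rw [hplane x hx, eval_aeval_cξ, hA0, map_zero, mul_zero, zero_add]
    · rw [hl, map_mul, map_prod, Fin.prod_univ_three, aeval_C]
      simp only [algebraMap_eq]
      ring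
  · have hdvd : A ∣ Φ := by
      rcases h with h | h
      · exact absurd h hA0
      · exact h
    obtain ⟨q, hq⟩ := hdvd
    have hqhom : q.IsHomogeneous 1 := by
      apply isHomogeneous_of_mul hAhom hA0 (n := 1)
      rw [mul_comm, ← hq]
      exact hΦhom
    obtain ⟨c, l, hl⟩ := binary_factor_poly 2 A hAhom
    have hq' : (aeval (cξ ξ) q).IsHomogeneous 1 := by
      have h := hqhom.aeval (cξ ξ) (fun i => linForm_isHomogeneous _)
      rw [one_mul] at h
      exact h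
    refine ⟨C c * aeval (cξ ξ) (linForm (l 0)), aeval (cξ ξ) (linForm (l 1)),
      linForm σ + aeval (cξ ξ) q,
      (aeval_cξ_linForm_isHomogeneous ξ _).C_mul c,
      aeval_cξ_linForm_isHomogeneous ξ _, (linForm_isHomogeneous σ).add hq', ?_⟩
    apply hfin (aeval (cξ ξ) A * (linForm σ + aeval (cξ ξ) q))
    · intro x hx
      rw [hplane x hx, map_mul, map_add, eval_aeval_cξ, eval_aeval_cξ, eval_linForm, hq, map_mul]
      ring
    · rw [hl, map_mul, map_prod, Fin.prod_univ_two, aeval_C]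
      simp only [algebraMap_eq]
      ring

include hF hFa in
theorem finite_TPoints (hsm : ∃ i : Fin 4, eval a (pderiv i F) ≠ 0)
    (tp : (Fin 4 → K) → Prop)
    (htp : ∀ b : Fin 4 → K, tp b ↔ (b ≠ 0 ∧ eval b F = 0 ∧
      (∃ i : Fin 4, eval b (pderiv i F) ≠ 0) ∧
      ∃ L₁ L₂ L₃ : MvPolynomial (Fin 4) K, L₁.IsHomogeneous 1 ∧ L₂.IsHomogeneous 1 ∧
        L₃.IsHomogeneous 1 ∧
        F - L₁ * L₂ * L₃ ∈ Ideal.span {∑ i : Fin 4, C (eval b (pderiv i F)) * X i}))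
    (ha : ¬ tp a) (H : Submodule K (Fin 4 → K))
    (hH : ∀ x : Fin 4 → K, x ∈ H ↔
      eval x (∑ i : Fin 4, C (eval a (pderiv i F)) * X i) = 0) :
    Set.Finite {U : Submodule K (Fin 4 → K) | Module.finrank K ↥U = 1 ∧ U ≤ H ∧
      ∀ b ∈ U, b ≠ 0 → tp b} := by
  classical
  have ha0 : a ≠ 0 := by
    rintro rfl
    obtain ⟨i, hi⟩ := hsm
    apply hi
    have h2 : (pderiv i F).IsHomogeneous (3 - 1) := hF.pderiv
    have := eval_smul_of_isHomogeneous h2 (0 : K) (0 : Fin 4 → K)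
    rw [zero_smul] at this
    rw [this]
    simp
  have hφ : dF F a ≠ 0 := by
    obtain ⟨i, hi⟩ := hsm
    intro h0
    apply hi
    have := LinearMap.congr_fun h0 (Pi.single i 1)
    rw [dF_apply] at this
    simpa [Pi.single_apply] using this
  have hφa := dF_self F hF a hFa
  have hnT : ¬ ∃ L₁ L₂ L₃ : MvPolynomial (Fin 4) K, L₁.IsHomogeneous 1 ∧ L₂.IsHomogeneous 1 ∧
      L₃.IsHomogeneous 1 ∧
      F - L₁ * L₂ * L₃ ∈ Ideal.span {∑ i : Fin 4, C (eval a (pderiv i F)) * X i} :=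
    fun h => ha ((htp a).2 ⟨ha0, hFa, hsm, h⟩)
  have hℓ : ∀ x, eval x (∑ i : Fin 4, C (eval a (pderiv i F)) * X i) = dF F a x := by
    intro x
    rw [dF_apply]
    simp [mul_comm]
  obtain ⟨B, ξ, h1, h2, h3⟩ := exists_param (dF F a) hφ a ha0 hφa
  obtain ⟨σ, hσ⟩ := param_sigma F a ha0 B ξ h3
  obtain ⟨w, hw⟩ : ∃ w, dF F a w = 1 := by
    obtain ⟨w, hw⟩ : ∃ w, dF F a w ≠ 0 := by
      by_contra hcon
      push Not at hcon
      exact hφ (LinearMap.ext hcon)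
    exact ⟨(dF F a w)⁻¹ • w, by rw [map_smul, smul_eq_mul, inv_mul_cancel₀ hw]⟩
  obtain ⟨x1, hx1⟩ : ∃ x1, x1 = B (Pi.single 0 1) := ⟨_, rfl⟩
  obtain ⟨x2, hx2⟩ : ∃ x2, x2 = B (Pi.single 1 1) := ⟨_, rfl⟩
  have hV1 : Vx F x1 w a = x1 := by
    rw [Vx, hw, hx1, h1, one_smul, zero_smul, sub_zero]
  have hV2 : Vx F x2 w a = x2 := by
    rw [Vx, hw, hx2, h1, one_smul, zero_smul, sub_zero]
  obtain ⟨α0, hα0⟩ : ∃ x, x = cα0 F a x1 := ⟨_, rfl⟩
  obtain ⟨α1, hα1⟩ : ∃ x, x = cα1 F a x1 x2 := ⟨_, rfl⟩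
  obtain ⟨α2, hα2⟩ : ∃ x, x = cα2 F a x2 := ⟨_, rfl⟩
  obtain ⟨γ0, hγ0⟩ : ∃ x, x = cγ0 F x1 := ⟨_, rfl⟩
  obtain ⟨γ1, hγ1⟩ : ∃ x, x = cγ1 F x1 x2 := ⟨_, rfl⟩
  obtain ⟨γ2, hγ2⟩ : ∃ x, x = cγ2 F x1 x2 := ⟨_, rfl⟩
  obtain ⟨γ3, hγ3⟩ : ∃ x, x = cγ3 F x2 := ⟨_, rfl⟩
  obtain ⟨A, hAdef⟩ : ∃ A, A = quadPoly α0 α1 α2 := ⟨_, rfl⟩
  obtain ⟨Φ, hΦdef⟩ : ∃ Φ, Φ = cubPoly γ0 γ1 γ2 γ3 := ⟨_, rfl⟩
  have hBz : ∀ z : Fin 2 → K, B z = z 0 • x1 + z 1 • x2 := by
    intro z
    conv_lhs => rw [vec2_eq z]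
    rw [map_add, map_smul, map_smul, hx1, hx2]
  have hA : ∀ z, eval z A = eval (B z) (polar F a) := by
    intro z
    rw [hAdef, eval_quadPoly, hBz z, polar_frame F a _ _ hF, hα0, hα1, hα2]
  have hΦ : ∀ z, eval z Φ = eval (B z) F := by
    intro z
    rw [hΦdef, eval_cubPoly, hBz z, F_frame F _ _ hF, hγ0, hγ1, hγ2, hγ3]
  have hAhom : A.IsHomogeneous 2 := by rw [hAdef]; exact quadPoly_isHomogeneous _ _ _
  have hΦhom : Φ.IsHomogeneous 3 := by rw [hΦdef]; exact cubPoly_isHomogeneous _ _ _ _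
  have hN : ¬ (A = 0 ∨ A ∣ Φ) := fun h =>
    hnT (tp_of_dvd F hF a hFa ha0 hφ B ξ h1 h3 A Φ hA hΦ hAhom hΦhom h)
  have hA0 : A ≠ 0 := fun h => hN (Or.inl h)
  -- some minor does not vanish at `a`
  obtain ⟨j0, hj0⟩ : ∃ j0, eval a (Emin F x1 x2 w j0) ≠ 0 := by
    by_contra hcon
    push Not at hcon
    obtain ⟨e0, e1, e2, e3⟩ := eval_Emin F x1 x2 w a
    rw [hcon 0, hV1, hV2] at e0
    rw [hcon 1, hV1, hV2] at e1
    rw [hcon 2, hV1, hV2] at e2
    rw [hcon 3, hV1, hV2] at e3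
    have hs := split_of_minors _ _ _ _ _ _ _ e0.symm e1.symm e2.symm e3.symm
    rw [hx1, hx2] at hs
    exact hnT (tp_of_split F hF a hFa ha0 hφ B ξ h1 h3 _ _ _ _ _ _ _ rfl rfl rfl rfl rfl rfl rfl hs)
  have hE16 := Emin_isHomogeneous F hF x1 x2 w j0
  -- the minors vanish at T-points
  have hEtp : ∀ (j : Fin 4) (b : Fin 4 → K), tp b → eval b (Emin F x1 x2 w j) = 0 := by
    intro j b hb
    obtain ⟨hb0, hFb, -, L1, L2, L3, hL1, hL2, hL3, hmem⟩ := (htp b).1 hb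
    obtain ⟨t0, t1, t2, t3⟩ := minors_of_tp F b (Vx F x1 w b) (Vx F x2 w b) hF hFb L1 L2 L3
      hL1 hL2 hL3 hmem (dF_Vx F x1 w b) (dF_Vx F x2 w b)
    obtain ⟨e0, e1, e2, e3⟩ := eval_Emin F x1 x2 w b
    fin_cases j
    · exact e0.trans t0
    · exact e1.trans t1
    · exact e2.trans t2
    · exact e3.trans t3
  -- the curve in the tangent plane
  obtain ⟨bt, hbtdef⟩ : ∃ bt : Fin 4 → MvPolynomial (Fin 2) K,
      bt = fun j => Φ * C (a j) - A * subst (LinearMap.toMatrix' B) j := ⟨_, rfl⟩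
  have hbt : ∀ z, (fun j => eval z (bt j)) = eval z Φ • a - eval z A • B z := by
    intro z
    funext j
    rw [hbtdef]
    simp only [map_sub, map_mul, eval_C, eval_subst, LinearMap.toMatrix'_mulVec, Pi.sub_apply,
      Pi.smul_apply, smul_eq_mul]
  have hh : aeval bt (Emin F x1 x2 w j0) ≠ 0 := by
    intro h0
    rw [hbtdef] at h0
    exact hN (Or.inr (dvd_of_aeval_eq_zero_gen a (subst (LinearMap.toMatrix' B))
      (Emin F x1 x2 w j0) 16 (by norm_num) hE16 hj0 A Φ h0))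
  have hscale : ∀ (t : K) (z : Fin 2 → K),
      (fun j => eval (t • z) (bt j)) = t ^ 3 • (fun j => eval z (bt j)) := by
    intro t z
    rw [hbt, hbt, eval_smul_of_isHomogeneous hΦhom, eval_smul_of_isHomogeneous hAhom, map_smul]
    module
  -- the polynomials on the lines through `a`
  obtain ⟨hDp, hDpdef⟩ : ∃ hDp : Submodule K (Fin 2 → K) → MvPolynomial (Fin 2) K,
      hDp = fun D => aeval (fun i => C (a i) * X 0 + C (B (gen D) i) * X 1)
        (Emin F x1 x2 w j0) := ⟨_, rfl⟩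
  have hDpe : ∀ D (y : Fin 2 → K), eval y (hDp D) =
      eval (y 0 • a + y 1 • B (gen D)) (Emin F x1 x2 w j0) := by
    intro D y
    rw [hDpdef, eval_aeval_gen]
    have : (fun i => eval y (C (a i) * X 0 + C (B (gen D) i) * X 1)) =
        y 0 • a + y 1 • B (gen D) := by
      funext i
      simp only [map_add, map_mul, eval_C, eval_X, Pi.add_apply, Pi.smul_apply, smul_eq_mul]
      ring
    rw [this]
  have hDp0 : ∀ D, hDp D ≠ 0 := by
    intro D h0
    apply hj0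
    have := hDpe D ![1, 0]
    rw [h0, map_zero] at this
    simp only [Matrix.cons_val_zero, Matrix.cons_val_one, one_smul, zero_smul, add_zero] at this
    exact this.symm
  apply Set.Finite.subset (s := (fun D => Submodule.span K {fun j => eval (gen D) (bt j)}) ''
      Zl (aeval bt (Emin F x1 x2 w j0)) ∪
    ⋃ D ∈ Zl A, (fun D' => Submodule.span K {(gen D') 0 • a + (gen D') 1 • B (gen D)}) ''
      Zl (hDp D))
  · exact ((Zl_finite _ hh).image _).union
      (Set.Finite.biUnion (Zl_finite A hA0) (fun D _ => (Zl_finite _ (hDp0 D)).image _))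
  rintro U ⟨hU1, hUH, hUtp⟩
  obtain ⟨⟨b, hbU⟩, hb0', hbspan⟩ := finrank_eq_one_iff'.1 hU1
  have hb0 : b ≠ 0 := fun h => hb0' (Subtype.ext h)
  have hUeq : U = Submodule.span K {b} := by
    apply le_antisymm
    · intro x hx
      obtain ⟨c, hc⟩ := hbspan ⟨x, hx⟩
      have hc' : c • b = x := congrArg Subtype.val hc
      rw [← hc']
      exact Submodule.smul_mem _ _ (Submodule.mem_span_singleton_self b)
    · rw [Submodule.span_le, Set.singleton_subset_iff]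
      exact hbU
  have htpb : tp b := hUtp b hbU hb0
  have hbH : dF F a b = 0 := by
    rw [← hℓ]
    exact (hH b).1 (hUH hbU)
  obtain ⟨s, hs⟩ : ∃ s, s = σ b := ⟨_, rfl⟩
  obtain ⟨z, hz⟩ : ∃ z, z = ξ b := ⟨_, rfl⟩
  have hbz : b = s • a + B z := by rw [hs, hz]; exact hσ b hbH
  have hz0 : z ≠ 0 := by
    intro h
    rw [h, map_zero, add_zero] at hbz
    have hs0 : s ≠ 0 := by
      rintro rfl
      rw [zero_smul] at hbz
      exact hb0 hbz
    apply ha
    apply hUtp a _ ha0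
    have : a = s⁻¹ • b := by rw [hbz, smul_smul, inv_mul_cancel₀ hs0, one_smul]
    rw [this]
    exact U.smul_mem _ hbU
  have hFb : eval b F = 0 := ((htp b).1 htpb).2.1
  have hsA : s * eval z A + eval z Φ = 0 := by
    have := F_plane F hF a hFa B h1 s z
    rw [← hbz, hFb] at this
    rw [hA, hΦ]
    exact this.symm
  have hEb : eval b (Emin F x1 x2 w j0) = 0 := hEtp j0 b htpb
  by_cases hAz : eval z A = 0
  · -- `b` lies on a line through `a`
    right
    have hDA : Submodule.span K {z} ∈ Zl A := span_mem_Zl hz0 (fun t => by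
      rw [eval_smul_of_isHomogeneous hAhom, hAz, mul_zero])
    obtain ⟨t, ht0, htgen⟩ := gen_span hz0
    have hy0 : (![s, t⁻¹] : Fin 2 → K) ≠ 0 := by
      intro h
      have := congrFun h 1
      simp at this
      exact ht0 this
    have hyb : ∀ r : K, (r • (![s, t⁻¹] : Fin 2 → K)) 0 • a +
        (r • (![s, t⁻¹] : Fin 2 → K)) 1 • B (gen (Submodule.span K {z})) = r • b := by
      intro r
      rw [htgen, map_smul, hbz]
      simp only [Pi.smul_apply, Matrix.cons_val_zero, Matrix.cons_val_one, smul_eq_mul, smul_smul,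
        smul_add]
      congr 2
      field_simp
    have hD' : Submodule.span K {(![s, t⁻¹] : Fin 2 → K)} ∈ Zl (hDp (Submodule.span K {z})) :=
      span_mem_Zl hy0 (fun r => by
        rw [hDpe, hyb r, eval_smul_of_isHomogeneous hE16, hEb, mul_zero])
    obtain ⟨r, hr0, hrgen⟩ := gen_span hy0
    rw [Set.mem_iUnion₂]
    refine ⟨_, hDA, _, hD', ?_⟩
    show Submodule.span K {_} = U
    rw [hrgen, hyb r, Submodule.span_singleton_smul_eq (IsUnit.mk0 _ hr0), hUeq]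
  · -- `b` lies on the main part of the curve
    left
    have hbz' : (fun j => eval z (bt j)) = (-(eval z A)) • b := by
      rw [hbt, hbz, show eval z Φ = -(s * eval z A) by linear_combination hsA]
      module
    have hDh : Submodule.span K {z} ∈ Zl (aeval bt (Emin F x1 x2 w j0)) :=
      span_mem_Zl hz0 (fun t => by
        rw [eval_aeval_gen, hscale, hbz', smul_smul, eval_smul_of_isHomogeneous hE16, hEb,
          mul_zero])
    obtain ⟨t, ht0, htgen⟩ := gen_span hz0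
    refine ⟨_, hDh, ?_⟩
    show Submodule.span K {_} = U
    rw [htgen, hscale, hbz', smul_smul,
      Submodule.span_singleton_smul_eq (IsUnit.mk0 _ (mul_ne_zero (pow_ne_zero _ ht0)
        (neg_ne_zero.2 hAz))), hUeq]

end Groth.Agent.Lib.Helper24Tp5
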