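import Mathlib
import Groth.Prelude.Def_W4c3cyccovratcurvTree

set_option autoImplicit false

namespace Groth.Agent.Lib.Helper24Tree1
open W4c3cyccovratcurv SimpleGraph

variable {n k : ℕ}

theorem conicAdj_symm {T₁ T₂ : MarkedTree k} : ConicAdj T₁ T₂ → ConicAdj T₂ T₁ := by
  rintro ⟨u₁, w₁, u₂, w₂, h₁, h₂, φ, hu, hm⟩
  refine ⟨u₂, w₂, u₁, w₁, h₂, h₁, φ.symm, ?_, ?_⟩
  · rw [← hu, φ.symm_apply_apply]
  · intro i; rw [← hm i, φ.symm_apply_apply]

theorem conicAdj_of_contract_eq (G G' : SimpleGraph (Fin n)) (hG : G.IsTree) (hG' : G'.IsTree)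
    (m m' : Fin k → Fin n) (u w : Fin n) (h : G.Adj u w) (h' : G'.Adj u w)
    (hc : contract G u w = contract G' u w)
    (hm : ∀ i, contractMark m u w h.ne i = contractMark m' u w h.ne i) :
    ConicAdj ⟨n, G, hG, m⟩ ⟨n, G', hG', m'⟩ := by
  refine ⟨u, w, u, w, h, h', ⟨Equiv.refl _, ?_⟩, rfl, hm⟩
  intro a b
  show (contract G' u w).Adj a b ↔ (contract G u w).Adj a b
  rw [hc]

theorem reachable_of_adj_reachable {V : Type*} {G G' : SimpleGraph V}
    (h : ∀ x y, G.Adj x y → G'.Reachable x y) {x y : V} (hxy : G.Reachable x y) :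
    G'.Reachable x y := by
  obtain ⟨p⟩ := hxy
  induction p with
  | nil => exact Reachable.refl _
  | cons hadj _ ih => exact (h _ _ hadj).trans ih

/-- slide the neighbour `v` of `w` over to `u`. -/
def slide (G : SimpleGraph (Fin n)) (u w v : Fin n) : SimpleGraph (Fin n) :=
  G.deleteEdges {s(w, v)} ⊔ SimpleGraph.edge u v

theorem slide_adj (G : SimpleGraph (Fin n)) (u w v x y : Fin n) :
    (slide G u w v).Adj x y ↔
      (G.Adj x y ∧ ¬ (x = w ∧ y = v) ∧ ¬ (x = v ∧ y = w)) ∨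
        ((x = u ∧ y = v ∨ x = v ∧ y = u) ∧ x ≠ y) := by
  simp only [slide, sup_adj, deleteEdges_adj, edge_adj, Set.mem_singleton_iff, Sym2.eq_iff]
  tauto

theorem slide_connected (G : SimpleGraph (Fin n)) (hG : G.Connected) (u w v : Fin n)
    (huw : G.Adj u w) (hwv : G.Adj w v) (huv : u ≠ v) : (slide G u w v).Connected := by
  have hne : Nonempty (Fin n) := hG.nonempty
  have key : ∀ x y, G.Adj x y → (slide G u w v).Reachable x y := by
    intro x y hxy
    by_cases h1 : x = w ∧ y = v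
    · obtain ⟨rfl, rfl⟩ := h1
      have a1 : (slide G u x y).Adj x u := by
        rw [slide_adj]; left
        refine ⟨huw.symm, ?_, ?_⟩
        · rintro ⟨-, h⟩; exact huv h
        · rintro ⟨h, -⟩; exact hwv.ne h
      have a2 : (slide G u x y).Adj u y := by
        rw [slide_adj]; right
        exact ⟨Or.inl ⟨rfl, rfl⟩, huv⟩
      exact a1.reachable.trans a2.reachable
    · by_cases h2 : x = v ∧ y = w
      · obtain ⟨rfl, rfl⟩ := h2
        have a1 : (slide G u y x).Adj y u := by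
          rw [slide_adj]; left
          refine ⟨huw.symm, ?_, ?_⟩
          · rintro ⟨-, h⟩; exact huv h
          · rintro ⟨h, -⟩; exact hwv.ne h
        have a2 : (slide G u y x).Adj u x := by
          rw [slide_adj]; right
          exact ⟨Or.inl ⟨rfl, rfl⟩, huv⟩
        exact (a1.reachable.trans a2.reachable).symm
      · have : (slide G u w v).Adj x y := by
          rw [slide_adj]; left; exact ⟨hxy, h1, h2⟩
        exact this.reachable
  refine ⟨fun x y => reachable_of_adj_reachable key (hG.preconnected x y)⟩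

theorem slide_edgeSet (G : SimpleGraph (Fin n)) (u w v : Fin n) (huv : u ≠ v) :
    (slide G u w v).edgeSet = (G.edgeSet \ {s(w, v)}) ∪ {s(u, v)} := by
  simp [slide, edgeSet_edge_of_ne huv]

theorem slide_isTree (G : SimpleGraph (Fin n)) (hG : G.IsTree) (u w v : Fin n)
    (huw : G.Adj u w) (hwv : G.Adj w v) (huv : u ≠ v) : (slide G u w v).IsTree := by
  have hc := slide_connected G hG.connected u w v huw hwv huv
  rw [isTree_iff_connected_and_card]
  refine ⟨hc, ?_⟩
  have h1 := hc.card_vert_le_card_edgeSet_add_one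
  have h2 := (isTree_iff_connected_and_card.1 hG).2
  have h3 : Nat.card (slide G u w v).edgeSet ≤ Nat.card G.edgeSet := by
    rw [Nat.card_coe_set_eq, Nat.card_coe_set_eq, slide_edgeSet G u w v huv]
    have hmem : s(w, v) ∈ G.edgeSet := hwv
    have h4 := Set.ncard_union_le (G.edgeSet \ {s(w, v)}) {s(u, v)}
    have h5 := Set.ncard_sdiff_singleton_of_mem hmem
    have h6 : 0 < G.edgeSet.ncard := by
      rw [Set.ncard_pos]; exact ⟨_, hmem⟩
    rw [Set.ncard_singleton] at h4
    omega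
  omega

theorem contract_slide (G : SimpleGraph (Fin n)) (u w v : Fin n)
    (huw : G.Adj u w) (hwv : G.Adj w v) (huv : u ≠ v) :
    contract G u w = contract (slide G u w v) u w := by
  ext ⟨a, ha⟩ ⟨b, hb⟩
  have hwu : w ≠ u := huw.ne'
  have hwv' : w ≠ v := hwv.ne
  simp only [contract, fromRel_adj, slide_adj, ne_eq, Subtype.mk.injEq]
  constructor
  · rintro ⟨hab, h⟩
    refine ⟨hab, ?_⟩
    rcases h with (h | ⟨rfl, h⟩) | (h | ⟨rfl, h⟩)
    · left; left; left
      exact ⟨h, fun h' => ha h'.1, fun h' => hb h'.2⟩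
    · by_cases hbv : b = v
      · subst hbv
        left; left; right
        exact ⟨Or.inl ⟨rfl, rfl⟩, hab⟩
      · left; right
        refine ⟨rfl, Or.inl ⟨h, fun h' => hbv h'.2, fun h' => hwv' h'.1⟩⟩
    · right; left; left
      exact ⟨h, fun h' => hb h'.1, fun h' => ha h'.2⟩
    · by_cases hav : a = v
      · subst hav
        right; left; right
        exact ⟨Or.inl ⟨rfl, rfl⟩, fun h' => hab h'.symm⟩
      · right; right
        refine ⟨rfl, Or.inl ⟨h, fun h' => hav h'.2, fun h' => hwv' h'.1⟩⟩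
  · rintro ⟨hab, h⟩
    refine ⟨hab, ?_⟩
    rcases h with ((⟨h, -, -⟩ | ⟨h, -⟩) | ⟨rfl, (⟨h, -, -⟩ | ⟨h, -⟩)⟩) |
      ((⟨h, -, -⟩ | ⟨h, -⟩) | ⟨rfl, (⟨h, -, -⟩ | ⟨h, -⟩)⟩)
    · left; left; exact h
    · rcases h with ⟨rfl, rfl⟩ | ⟨rfl, rfl⟩
      · left; right; exact ⟨rfl, hwv⟩
      · right; right; exact ⟨rfl, hwv⟩
    · left; right; exact ⟨rfl, h⟩
    · rcases h with ⟨h1, -⟩ | ⟨h1, -⟩
      · exact absurd h1 hwu
      · exact absurd h1 hwv'
    · right; left; exact h
    · rcases h with ⟨rfl, rfl⟩ | ⟨rfl, rfl⟩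
      · right; right; exact ⟨rfl, hwv⟩
      · left; right; exact ⟨rfl, hwv⟩
    · right; right; exact ⟨rfl, h⟩
    · rcases h with ⟨h1, -⟩ | ⟨h1, -⟩
      · exact absurd h1 hwu
      · exact absurd h1 hwv'

end Groth.Agent.Lib.Helper24Tree1
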