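import Mathlib
import Groth.Agent.Lib.Helper24Tree1

set_option autoImplicit false

namespace Groth.Agent.Lib.Helper24Tree2
open W4c3cyccovratcurv SimpleGraph Groth.Agent.Lib.Helper24Tree1

variable {n k : ℕ}

/-- a connected spanning subgraph of a tree is the whole tree -/
theorem eq_of_le_of_connected {G S : SimpleGraph (Fin n)} (hG : G.IsTree) (hS : S.Connected)
    (hle : S ≤ G) : S = G :=
  le_antisymm hle ((isTree_iff_minimal_connected.1 hG).2 hS hle)

theorem eq_of_all_adj {G G' : SimpleGraph (Fin n)} (hG : G.IsTree) (hG' : G'.IsTree) (r : Fin n)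
    (h : ∀ x, x ≠ r → G.Adj r x) (h' : ∀ x, x ≠ r → G'.Adj r x) : G = G' := by
  have hS : (G ⊓ G').Connected := by
    have : Nonempty (Fin n) := ⟨r⟩
    have hr : ∀ x, (G ⊓ G').Reachable r x := by
      intro x
      by_cases hx : x = r
      · subst hx; exact Reachable.refl _
      · have : (G ⊓ G').Adj r x := ⟨h x hx, h' x hx⟩
        exact this.reachable
    exact ⟨fun x y => (hr x).symm.trans (hr y)⟩
  exact (eq_of_le_of_connected hG hS inf_le_left).symm.trans
    (eq_of_le_of_connected hG' hS inf_le_right)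

/-- from a vertex in `A` to a vertex outside `A` a walk crosses the boundary -/
theorem exists_boundary_edge {V : Type*} {G : SimpleGraph V} (A : Set V) {x y : V}
    (p : G.Walk x y) (hx : x ∈ A) (hy : y ∉ A) : ∃ a v, a ∈ A ∧ v ∉ A ∧ G.Adj a v := by
  induction p with
  | nil => exact absurd hx hy
  | @cons a b c hadj q ih =>
    by_cases hb : b ∈ A
    · exact ih hb hy
    · exact ⟨a, b, hx, hb, hadj⟩

open Classical in
/-- the measure: number of non-neighbours of `r` plus number of marks not at `r` -/
noncomputable def mu (r : Fin n) (G : SimpleGraph (Fin n)) (m : Fin k → Fin n) : ℕ :=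
  (Finset.univ.filter (fun x => x ≠ r ∧ ¬ G.Adj r x)).card +
    (Finset.univ.filter (fun i => m i ≠ r)).card

theorem contractMark_update (m : Fin k → Fin n) (r x : Fin n) (hrx : r ≠ x) (i : Fin k)
    (hi : m i = x) (j : Fin k) :
    contractMark m r x hrx j = contractMark (Function.update m i r) r x hrx j := by
  unfold contractMark
  by_cases hj : j = i
  · subst hj
    simp [hi, hrx]
  · simp [Function.update_of_ne hj]

theorem reach_canon (r : Fin n) : ∀ (N : ℕ) (G : SimpleGraph (Fin n)) (hG : G.IsTree)
    (m : Fin k → Fin n), mu r G m = N →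
    ∃ (G₀ : SimpleGraph (Fin n)) (hG₀ : G₀.IsTree), (∀ x, x ≠ r → G₀.Adj r x) ∧
      Relation.ReflTransGen ConicAdj (⟨n, G, hG, m⟩ : MarkedTree k) ⟨n, G₀, hG₀, fun _ => r⟩ := by
  classical
  intro N
  induction N using Nat.strong_induction_on with
  | _ N ih =>
  intro G hG m hN
  by_cases hA : ∃ x, x ≠ r ∧ ¬ G.Adj r x
  · -- slide
    obtain ⟨x, hxr, hx⟩ := hA
    obtain ⟨p⟩ := hG.connected.preconnected r x
    obtain ⟨a, v, ha, hv, hav⟩ := exists_boundary_edge {y | y = r ∨ G.Adj r y} p (Or.inl rfl)
      (by rintro (h | h); exacts [hxr h, hx h])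
    simp only [Set.mem_ofPred_eq, not_or] at ha hv
    have hra : G.Adj r a := by
      rcases ha with rfl | ha
      · exact absurd hav hv.2
      · exact ha
    have hrv : r ≠ v := fun h => hv.1 h.symm
    have hT' := slide_isTree G hG r a v hra hav hrv
    have hstep : ConicAdj (⟨n, G, hG, m⟩ : MarkedTree k) ⟨n, slide G r a v, hT', m⟩ :=
      conicAdj_of_contract_eq G _ hG hT' m m r a hra
        (by rw [slide_adj]; left
            exact ⟨hra, fun h => hra.ne h.1, fun h => hrv h.1⟩)
        (contract_slide G r a v hra hav hrv) (fun _ => rfl)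
    have hlt : mu r (slide G r a v) m < N := by
      rw [← hN]
      unfold mu
      apply Nat.add_lt_add_right
      apply Finset.card_lt_card
      rw [Finset.ssubset_iff_of_subset]
      · refine ⟨v, ?_, ?_⟩
        · simp only [Finset.mem_filter, Finset.mem_univ, true_and]
          exact ⟨hv.1, hv.2⟩
        · simp only [Finset.mem_filter, Finset.mem_univ, true_and, not_and, not_not]
          intro _
          rw [slide_adj]; right
          exact ⟨Or.inl ⟨rfl, rfl⟩, hrv⟩
      · intro y
        simp only [Finset.mem_filter, Finset.mem_univ, true_and]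
        rintro ⟨hy1, hy2⟩
        refine ⟨hy1, fun hy3 => hy2 ?_⟩
        rw [slide_adj]; left
        exact ⟨hy3, fun h => hra.ne h.1, fun h => hrv h.1⟩
    obtain ⟨G₀, hG₀, h1, h2⟩ := ih _ hlt (slide G r a v) hT' m rfl
    exact ⟨G₀, hG₀, h1, Relation.ReflTransGen.head hstep h2⟩
  · push Not at hA
    by_cases hB : ∃ i, m i ≠ r
    · obtain ⟨i, hi⟩ := hB
      have hadj : G.Adj r (m i) := hA _ hi
      have hstep : ConicAdj (⟨n, G, hG, m⟩ : MarkedTree k) ⟨n, G, hG, Function.update m i r⟩ :=
        conicAdj_of_contract_eq G G hG hG m _ r (m i) hadj hadj rfl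
          (fun j => contractMark_update m r (m i) hadj.ne i rfl j)
      have hlt : mu r G (Function.update m i r) < N := by
        rw [← hN]
        unfold mu
        apply Nat.add_lt_add_left
        apply Finset.card_lt_card
        rw [Finset.ssubset_iff_of_subset]
        · refine ⟨i, ?_, ?_⟩
          · simpa using hi
          · simp
        · intro j
          simp only [Finset.mem_filter, Finset.mem_univ, true_and]
          intro hj
          by_cases hji : j = i
          · subst hji; simp at hj
          · rwa [Function.update_of_ne hji] at hj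
      obtain ⟨G₀, hG₀, h1, h2⟩ := ih _ hlt G hG _ rfl
      exact ⟨G₀, hG₀, h1, Relation.ReflTransGen.head hstep h2⟩
    · push Not at hB
      have hm : m = fun _ => r := funext hB
      subst hm
      exact ⟨G, hG, hA, Relation.ReflTransGen.refl⟩

theorem main (T₁ T₂ : MarkedTree k) (h : T₁.n = T₂.n) :
    Relation.ReflTransGen ConicAdj T₁ T₂ := by
  obtain ⟨n₁, G₁, t₁, m₁⟩ := T₁
  obtain ⟨n₂, G₂, t₂, m₂⟩ := T₂
  simp only at h
  subst h
  have hne : Nonempty (Fin n₁) := t₁.connected.nonempty
  obtain ⟨r⟩ := hne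
  obtain ⟨A, hA, hA1, hA2⟩ := reach_canon r _ G₁ t₁ m₁ rfl
  obtain ⟨B, hB, hB1, hB2⟩ := reach_canon r _ G₂ t₂ m₂ rfl
  have hAB : A = B := eq_of_all_adj hA hB r hA1 hB1
  subst hAB
  have hsymm : ∀ {X Y : MarkedTree k}, Relation.ReflTransGen ConicAdj X Y →
      Relation.ReflTransGen ConicAdj Y X := by
    intro X Y hXY
    induction hXY with
    | refl => exact Relation.ReflTransGen.refl
    | tail _ hbc ih => exact Relation.ReflTransGen.head (conicAdj_symm hbc) ih
  exact hA2.trans (hsymm hB2)

end Groth.Agent.Lib.Helper24Tree2
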