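import Mathlib

/-!
# The 3×3 lemma in a triangulated category (BBD 1.1.11)
-/

universe v u

open CategoryTheory CategoryTheory.Limits CategoryTheory.Pretriangulated
  CategoryTheory.Triangulated CategoryTheory.Category

namespace Groth.Agent.Lib.Helper24Tri3x3

theorem main {D : Type u} [Category.{v} D] [Preadditive D] [Limits.HasZeroObject D] [HasShift D ℤ]
    [∀ n : ℤ, (shiftFunctor D n).Additive] [Pretriangulated D] [IsTriangulated D]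
    {X Y X' Y' : D} (f : X ⟶ Y) (f' : X' ⟶ Y') (u : X ⟶ X') (v : Y ⟶ Y') (comm : f ≫ v = u ≫ f') :
    ∃ (Z Z' X'' Y'' Z'' : D) (g : Y ⟶ Z) (h : Z ⟶ (shiftFunctor D (1 : ℤ)).obj X)
      (g' : Y' ⟶ Z') (h' : Z' ⟶ (shiftFunctor D (1 : ℤ)).obj X')
      (f'' : X'' ⟶ Y'') (g'' : Y'' ⟶ Z'') (h'' : Z'' ⟶ (shiftFunctor D (1 : ℤ)).obj X'')
      (u' : X' ⟶ X'') (u'' : X'' ⟶ (shiftFunctor D (1 : ℤ)).obj X)
      (v' : Y' ⟶ Y'') (v'' : Y'' ⟶ (shiftFunctor D (1 : ℤ)).obj Y)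
      (w : Z ⟶ Z') (w' : Z' ⟶ Z'') (w'' : Z'' ⟶ (shiftFunctor D (1 : ℤ)).obj Z),
      Triangle.mk f g h ∈ distinguishedTriangles ∧ Triangle.mk f' g' h' ∈ distinguishedTriangles ∧
      Triangle.mk f'' g'' h'' ∈ distinguishedTriangles ∧
      Triangle.mk u u' u'' ∈ distinguishedTriangles ∧ Triangle.mk v v' v'' ∈ distinguishedTriangles ∧
      Triangle.mk w w' w'' ∈ distinguishedTriangles ∧
      g ≫ w = v ≫ g' ∧ h ≫ (shiftFunctor D (1 : ℤ)).map u = w ≫ h' ∧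
      f' ≫ v' = u' ≫ f'' ∧ g' ≫ w' = v' ≫ g'' ∧ h' ≫ (shiftFunctor D (1 : ℤ)).map u' = w' ≫ h'' ∧
      f'' ≫ v'' = u'' ≫ (shiftFunctor D (1 : ℤ)).map f ∧ g'' ≫ w'' = v'' ≫ (shiftFunctor D (1 : ℤ)).map g ∧
      h'' ≫ (shiftFunctor D (1 : ℤ)).map u'' = -(w'' ≫ (shiftFunctor D (1 : ℤ)).map h) := by
  obtain ⟨Z, g, h, R1⟩ := distinguished_cocone_triangle f
  obtain ⟨Z', g', h', R2⟩ := distinguished_cocone_triangle f'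
  obtain ⟨X'', u', u'', C1⟩ := distinguished_cocone_triangle u
  obtain ⟨Y'', v', v'', C2⟩ := distinguished_cocone_triangle v
  obtain ⟨A, p, q, Dg⟩ := distinguished_cocone_triangle (f ≫ v)
  obtain ⟨m₁, m₃, a₁, a₂, a₃, a₄, memA⟩ : ∃ (m₁ : Z ⟶ A) (m₃ : A ⟶ Y''),
      g ≫ m₁ = v ≫ p ∧ m₁ ≫ q = h ∧ p ≫ m₃ = v' ∧
      q ≫ (shiftFunctor D (1 : ℤ)).map f = m₃ ≫ v'' ∧
      Triangle.mk m₁ m₃ (v'' ≫ (shiftFunctor D (1 : ℤ)).map g) ∈ distinguishedTriangles := by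
    have O1 := someOctahedron rfl R1 C2 Dg
    exact ⟨O1.m₁, O1.m₃, O1.comm₁, O1.comm₂, O1.comm₃, O1.comm₄, O1.mem⟩
  obtain ⟨n₁, n₃, b₁, b₂, b₃, b₄, memB⟩ : ∃ (n₁ : X'' ⟶ A) (n₃ : A ⟶ Z'),
      u' ≫ n₁ = f' ≫ p ∧ n₁ ≫ q = u'' ∧ p ≫ n₃ = g' ∧
      q ≫ (shiftFunctor D (1 : ℤ)).map u = n₃ ≫ h' ∧
      Triangle.mk n₁ n₃ (h' ≫ (shiftFunctor D (1 : ℤ)).map u') ∈ distinguishedTriangles := by
    have O2 := someOctahedron comm.symm C1 R2 Dg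
    exact ⟨O2.m₁, O2.m₃, O2.comm₁, O2.comm₂, O2.comm₃, O2.comm₄, O2.mem⟩
  obtain ⟨Z'', g'', h'', R3⟩ := distinguished_cocone_triangle (n₁ ≫ m₃)
  obtain ⟨k₁, k₃, c₁, c₂, c₃, c₄, memC⟩ : ∃ (k₁ : Z' ⟶ Z'') (k₃ : Z'' ⟶ (shiftFunctor D (1 : ℤ)).obj Z),
      n₃ ≫ k₁ = m₃ ≫ g'' ∧ k₁ ≫ h'' = h' ≫ (shiftFunctor D (1 : ℤ)).map u' ∧
      g'' ≫ k₃ = v'' ≫ (shiftFunctor D (1 : ℤ)).map g ∧
      h'' ≫ (shiftFunctor D (1 : ℤ)).map n₁ = k₃ ≫ (-(shiftFunctor D (1 : ℤ)).map m₁) ∧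
      Triangle.mk k₁ k₃ ((-(shiftFunctor D (1 : ℤ)).map m₁) ≫ (shiftFunctor D (1 : ℤ)).map n₃)
        ∈ distinguishedTriangles := by
    have O3 := someOctahedron rfl memB (rot_of_distTriang _ memA) R3
    exact ⟨O3.m₁, O3.m₃, O3.comm₁, O3.comm₂, O3.comm₃, O3.comm₄, O3.mem⟩
  refine ⟨Z, Z', X'', Y'', Z'', g, h, g', h', n₁ ≫ m₃, g'', h'', u', u'', v', v'',
    m₁ ≫ n₃, k₁, k₃, R1, R2, R3, C1, C2, ?_, ?_, ?_, ?_, ?_, ?_, ?_, ?_, ?_⟩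
  · -- third column
    rw [rotate_distinguished_triangle]
    refine isomorphic_distinguished _ memC _ ?_
    refine Triangle.isoMk _ _ (Iso.refl _) (Iso.refl _) (Iso.refl _) ?_ ?_ ?_
    · exact (comp_id _).trans (id_comp _).symm
    · exact (comp_id _).trans (id_comp _).symm
    · change (-(shiftFunctor D (1 : ℤ)).map (m₁ ≫ n₃)) ≫
        (shiftFunctor D (1 : ℤ)).map (𝟙 _) = 𝟙 _ ≫
          ((-(shiftFunctor D (1 : ℤ)).map m₁) ≫ (shiftFunctor D (1 : ℤ)).map n₃)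
      rw [(shiftFunctor D (1 : ℤ)).map_id, comp_id, id_comp, (shiftFunctor D (1 : ℤ)).map_comp,
        Preadditive.neg_comp]
  · -- (1)
    rw [← assoc, a₁, assoc, b₃]
  · -- (2)
    rw [assoc, ← b₄, ← assoc, a₂]
  · -- (3)
    rw [← assoc, b₁, assoc, a₃]
  · -- (4)
    rw [← b₃, assoc, c₁, ← assoc, a₃]
  · -- (5)
    exact c₂.symm
  · -- (6)
    rw [assoc, ← a₄, ← assoc, b₂]
  · -- (7)
    exact c₃
  · -- (8)
    rw [← b₂, (shiftFunctor D (1 : ℤ)).map_comp, ← assoc, c₄, ← a₂,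
      (shiftFunctor D (1 : ℤ)).map_comp, assoc, Preadditive.neg_comp, Preadditive.comp_neg]

end Groth.Agent.Lib.Helper24Tri3x3
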