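import Mathlib

set_option autoImplicit false
universe u

namespace Groth.Agent.Lib.Helper24TriBasis

open MvPolynomial Module

variable {R : Type u} [CommRing R]

theorem le_one_of_ne (s : Fin 3 →₀ ℕ) (hs : s.degree = 2) (j : Fin 3)
    (hne : s ≠ Finsupp.single j 2) : s j ≤ 1 := by
  by_contra h
  apply hne
  have hsum : s j + ∑ i ∈ Finset.univ.erase j, s i = 2 := by
    rw [Finset.add_sum_erase _ _ (Finset.mem_univ j), ← Finsupp.degree_eq_sum, hs]
  have h0 : ∑ i ∈ Finset.univ.erase j, s i = 0 := by omega
  have hj2 : s j = 2 := by omega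
  ext i
  rw [Finsupp.single_apply]
  split_ifs with hij
  · rw [← hij]; exact hj2
  · exact Finset.sum_eq_zero_iff.mp h0 i (Finset.mem_erase.mpr ⟨Ne.symm hij, Finset.mem_univ i⟩)

abbrev T1 (j : Fin 3) (n : ℕ) := {m : Fin 3 →₀ ℕ // m.degree = n ∧ m j < 2}
abbrev T2 (n : ℕ) := {m : Fin 3 →₀ ℕ // m.degree + 2 = n}

noncomputable def fam (j : Fin 3) (q : MvPolynomial (Fin 3) R) (n : ℕ) :
    T1 j n ⊕ T2 n → MvPolynomial (Fin 3) R :=
  Sum.elim (fun m => MvPolynomial.monomial m.1 (1 : R))
    (fun m => q * MvPolynomial.monomial m.1 (1 : R))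

instance (j : Fin 3) (n : ℕ) : Finite (T1 j n) := by
  have : ({m : Fin 3 →₀ ℕ | m.degree = n ∧ m j < 2}).Finite :=
    (Finsupp.finite_of_degree_eq n).subset (fun m hm => hm.1)
  exact this.to_subtype

instance (n : ℕ) : Finite (T2 n) := by
  have : ({m : Fin 3 →₀ ℕ | m.degree + 2 = n}).Finite :=
    (Finsupp.finite_of_degree_le n).subset (fun m hm => by
      simp only [Set.mem_setOf_eq] at hm ⊢; omega)
  exact this.to_subtype

noncomputable def toS (j : Fin 3) (n : ℕ) :
    T1 j n ⊕ T2 n → ({d : Fin 3 →₀ ℕ | d.degree = n} : Set (Fin 3 →₀ ℕ)) :=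
  Sum.elim (fun m => ⟨m.1, m.2.1⟩) (fun m => ⟨m.1 + Finsupp.single j 2, by
    show (m.1 + Finsupp.single j 2).degree = n
    rw [map_add, Finsupp.degree_single]; exact m.2⟩)

theorem toS_injective (j : Fin 3) (n : ℕ) : Function.Injective (toS j n) := by
  rintro (a | a) (b | b) h
  · have h' := Subtype.ext_iff.mp h
    have : a.1 = b.1 := h'
    exact congrArg Sum.inl (Subtype.ext this)
  · exfalso
    have : a.1 = b.1 + Finsupp.single j 2 := Subtype.ext_iff.mp h
    have h2 := a.2.2
    rw [this, Finsupp.add_apply, Finsupp.single_eq_same] at h2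
    omega
  · exfalso
    have : a.1 + Finsupp.single j 2 = b.1 := Subtype.ext_iff.mp h
    have h2 := b.2.2
    rw [← this, Finsupp.add_apply, Finsupp.single_eq_same] at h2
    omega
  · have : a.1 + Finsupp.single j 2 = b.1 + Finsupp.single j 2 :=
      Subtype.ext_iff.mp h
    exact congrArg Sum.inr (Subtype.ext (add_right_cancel this))

theorem monomial_mem (j : Fin 3) (q : MvPolynomial (Fin 3) R) (hq : q.IsHomogeneous 2)
    (hqj : IsUnit (q.coeff (Finsupp.single j 2))) (n : ℕ) :
    ∀ (c : ℕ) (d : Fin 3 →₀ ℕ), d j = c → d.degree = n →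
      monomial d (1 : R) ∈ Submodule.span R (Set.range (fam j q n)) := by
  intro c
  induction c using Nat.strong_induction_on with
  | _ c ih =>
    intro d hdc hdn
    by_cases h2 : d j < 2
    · exact Submodule.subset_span ⟨Sum.inl ⟨d, hdn, h2⟩, rfl⟩
    · have h2' : 2 ≤ d j := not_lt.mp h2
      by_cases h0 : q.coeff (Finsupp.single j 2) = 0
      · have : Subsingleton R := by
          rw [h0, isUnit_zero_iff] at hqj
          exact subsingleton_of_zero_eq_one hqj
        rw [Subsingleton.elim (monomial d (1:R)) 0]
        exact Submodule.zero_mem _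
      · have hle : Finsupp.single j 2 ≤ d := by
          rw [Finsupp.le_def]
          intro i
          rw [Finsupp.single_apply]
          split_ifs with hij
          · rw [← hij]; exact h2'
          · exact Nat.zero_le _
        obtain ⟨m', hm'⟩ : ∃ m', m' + Finsupp.single j 2 = d :=
          ⟨d - Finsupp.single j 2, tsub_add_cancel_of_le hle⟩
        have hdeg' : m'.degree + 2 = n := by
          have := congrArg (fun x => Finsupp.degree x) hm'
          simp only [map_add, Finsupp.degree_single] at this
          rw [this]; exact hdn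
        have m'j : m' j + 2 = d j := by
          have := DFunLike.congr_fun hm' j
          rw [Finsupp.add_apply, Finsupp.single_eq_same] at this
          exact this
        have hmem : q * monomial m' (1:R) ∈ Submodule.span R (Set.range (fam j q n)) :=
          Submodule.subset_span ⟨Sum.inr ⟨m', hdeg'⟩, rfl⟩
        have hs0 : Finsupp.single j 2 ∈ q.support := MvPolynomial.mem_support_iff.mpr h0
        have hexp : q * monomial m' (1:R) = ∑ s ∈ q.support, monomial (s + m') (q.coeff s) := by
          conv_lhs => rw [q.as_sum]
          rw [Finset.sum_mul]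
          refine Finset.sum_congr rfl (fun s _ => ?_)
          rw [monomial_mul, mul_one]
        rw [← Finset.add_sum_erase _ _ hs0] at hexp
        have hothers : ∑ s ∈ q.support.erase (Finsupp.single j 2),
            monomial (s + m') (q.coeff s) ∈ Submodule.span R (Set.range (fam j q n)) := by
          refine Submodule.sum_mem _ (fun s hs => ?_)
          obtain ⟨hne, hsupp⟩ := Finset.mem_erase.mp hs
          have hsdeg : s.degree = 2 := by
            by_contra hcon
            exact (MvPolynomial.mem_support_iff.mp hsupp) (hq.coeff_eq_zero hcon)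
          have hsj : s j ≤ 1 := le_one_of_ne s hsdeg j hne
          have hlt : (s + m') j < c := by
            rw [Finsupp.add_apply]; omega
          have hdeg2 : (s + m').degree = n := by
            rw [map_add, hsdeg]; omega
          have := ih _ hlt (s + m') rfl hdeg2
          have e : monomial (s + m') (q.coeff s) = q.coeff s • monomial (s + m') (1:R) := by
            rw [smul_monomial, smul_eq_mul, mul_one]
          rw [e]
          exact Submodule.smul_mem _ _ this
        have hmain : monomial d (q.coeff (Finsupp.single j 2)) ∈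
            Submodule.span R (Set.range (fam j q n)) := by
          have e : monomial d (q.coeff (Finsupp.single j 2)) = q * monomial m' (1:R) -
              ∑ s ∈ q.support.erase (Finsupp.single j 2), monomial (s + m') (q.coeff s) := by
            rw [hexp, add_comm (Finsupp.single j 2) m', hm']; ring
          rw [e]; exact Submodule.sub_mem _ hmem hothers
        obtain ⟨u, hu⟩ := hqj
        have e2 : monomial d (1:R) =
            (↑u⁻¹ : R) • monomial d (q.coeff (Finsupp.single j 2)) := by
          rw [smul_monomial, smul_eq_mul, ← hu, Units.inv_mul]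
        rw [e2]; exact Submodule.smul_mem _ _ hmain

theorem span_fam (j : Fin 3) (q : MvPolynomial (Fin 3) R) (hq : q.IsHomogeneous 2)
    (hqj : IsUnit (q.coeff (Finsupp.single j 2))) (n : ℕ) :
    Submodule.span R (Set.range (fam j q n)) = homogeneousSubmodule (Fin 3) R n := by
  apply le_antisymm
  · rw [Submodule.span_le]
    rintro _ ⟨t, rfl⟩
    rcases t with m | m
    · exact (mem_homogeneousSubmodule _ _).mpr (isHomogeneous_monomial _ m.2.1)
    · have := hq.mul (isHomogeneous_monomial (1:R) (show m.1.degree = m.1.degree from rfl))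
      have e : 2 + m.1.degree = n := by rw [add_comm]; exact m.2
      rw [e] at this
      exact (mem_homogeneousSubmodule _ _).mpr this
  · intro p hp
    rw [p.as_sum]
    refine Submodule.sum_mem _ (fun d hd => ?_)
    have hdn : d.degree = n := by
      by_contra hcon
      exact (MvPolynomial.mem_support_iff.mp hd)
        (((mem_homogeneousSubmodule _ _).mp hp).coeff_eq_zero hcon)
    have := monomial_mem j q hq hqj n (d j) d rfl hdn
    have e : monomial d (p.coeff d) = p.coeff d • monomial d (1:R) := by
      rw [smul_monomial, smul_eq_mul, mul_one]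
    rw [e]; exact Submodule.smul_mem _ _ this

theorem linInd (j : Fin 3) (q : MvPolynomial (Fin 3) R) (hq : q.IsHomogeneous 2)
    (hqj : IsUnit (q.coeff (Finsupp.single j 2))) (n : ℕ) :
    LinearIndependent R (fam j q n) := by
  cases subsingleton_or_nontrivial R with
  | inl h => exact linearIndependent_of_subsingleton
  | inr h =>
    classical
    haveI : Fintype (T1 j n ⊕ T2 n) := Fintype.ofFinite _
    have hmemH : ∀ t, fam j q n t ∈ homogeneousSubmodule (Fin 3) R n := fun t => by
      rw [← span_fam j q hq hqj n]; exact Submodule.subset_span ⟨t, rfl⟩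
    let b : T1 j n ⊕ T2 n → homogeneousSubmodule (Fin 3) R n := fun t => ⟨fam j q n t, hmemH t⟩
    have hb : LinearIndependent R b := by
      apply linearIndependent_of_top_le_span_of_card_le_finrank
      · rintro ⟨x, hx⟩ -
        have hx' : x ∈ Submodule.span R (Set.range (fam j q n)) := by
          rw [span_fam j q hq hqj n]; exact hx
        have hr : Set.range (fam j q n) =
            (homogeneousSubmodule (Fin 3) R n).subtype '' Set.range b := by
          rw [← Set.range_comp]; rfl
        rw [hr, ← Submodule.map_span] at hx'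
        obtain ⟨y, hy, hyx⟩ := hx'
        have : y = ⟨x, hx⟩ := Subtype.ext hyx
        rw [← this]; exact hy
      · haveI : Finite ↥{d : Fin 3 →₀ ℕ | d.degree = n} :=
          (Finsupp.finite_of_degree_eq n).to_subtype
        haveI : Fintype ↥{d : Fin 3 →₀ ℕ | d.degree = n} := Fintype.ofFinite _
        have e1 : Module.finrank R (homogeneousSubmodule (Fin 3) R n) =
            Fintype.card ↥{d : Fin 3 →₀ ℕ | d.degree = n} := by
          rw [homogeneousSubmodule_eq_finsupp_supported]
          rw [(AddMonoidAlgebra.supportedEquivFinsupp (R := R) (S := R)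
            {d : Fin 3 →₀ ℕ | d.degree = n}).finrank_eq]
          rw [Module.finrank_finsupp_self]
        rw [e1]
        exact Fintype.card_le_of_injective _ (toS_injective j n)
    exact hb.map' (homogeneousSubmodule (Fin 3) R n).subtype (Submodule.ker_subtype _)

theorem s18994
    (R : Type u) [CommRing R] (j : Fin 3) (q : MvPolynomial (Fin 3) R)
    (hq : q.IsHomogeneous 2) (hqj : IsUnit (q.coeff (Finsupp.single j 2))) (n : ℕ) :
    LinearIndependent R (Sum.elim (fun m : {m : Fin 3 →₀ ℕ // m.degree = n ∧ m j < 2} => MvPolynomial.monomial m.1 (1 : R)) (fun m : {m : Fin 3 →₀ ℕ // m.degree + 2 = n} => q * MvPolynomial.monomial m.1 (1 : R))) ∧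
      Submodule.span R (Set.range (Sum.elim (fun m : {m : Fin 3 →₀ ℕ // m.degree = n ∧ m j < 2} => MvPolynomial.monomial m.1 (1 : R)) (fun m : {m : Fin 3 →₀ ℕ // m.degree + 2 = n} => q * MvPolynomial.monomial m.1 (1 : R)))) = MvPolynomial.homogeneousSubmodule (Fin 3) R n :=
  ⟨linInd j q hq hqj n, span_fam j q hq hqj n⟩

end Groth.Agent.Lib.Helper24TriBasis
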