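import Mathlib
import Groth.Agent.Lib.Helper24Binary

set_option autoImplicit false
universe u

open MvPolynomial Module

namespace Groth.Agent.Lib.Helper24Trisec
open Groth.Agent.Lib.Helper24Binary

variable (K : Type u) [Field K]

/-- multiplication `H_k × H_l → H_n / U'` for `k + l = n` -/
noncomputable def mulQ {k l n : ℕ} (hkl : k + l = n)
    (U' : Submodule K (homogeneousSubmodule (Fin 2) K n)) :
    homogeneousSubmodule (Fin 2) K k →ₗ[K] homogeneousSubmodule (Fin 2) K l →ₗ[K]
      (homogeneousSubmodule (Fin 2) K n ⧸ U') :=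
  LinearMap.mk₂ K (fun g h => U'.mkQ ⟨g.1 * h.1, hkl ▸ IsHomogeneous.mul g.2 h.2⟩)
    (fun g₁ g₂ h => by
      rw [← map_add]; congr 1; apply Subtype.ext; simp [add_mul])
    (fun c g h => by
      rw [← map_smul]; congr 1; apply Subtype.ext; simp)
    (fun g h₁ h₂ => by
      rw [← map_add]; congr 1; apply Subtype.ext; simp [mul_add])
    (fun c g h => by
      rw [← map_smul]; congr 1; apply Subtype.ext; simp)

theorem mulQ_eq_zero_iff {k l n : ℕ} (hkl : k + l = n)
    (U : Submodule K (MvPolynomial (Fin 2) K))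
    (g : homogeneousSubmodule (Fin 2) K k) (h : homogeneousSubmodule (Fin 2) K l) :
    mulQ K hkl (U.comap (homogeneousSubmodule (Fin 2) K n).subtype) g h = 0 ↔ g.1 * h.1 ∈ U := by
  show (U.comap (homogeneousSubmodule (Fin 2) K n).subtype).mkQ
    ⟨g.1 * h.1, hkl ▸ IsHomogeneous.mul g.2 h.2⟩ = 0 ↔ _
  rw [Submodule.mkQ_apply, Submodule.Quotient.mk_eq_zero]
  rfl

theorem trisecant (V : Submodule K (MvPolynomial (Fin 2) K))
    (hV : V ≤ homogeneousSubmodule (Fin 2) K 5) (hdim : finrank K ↥V = 5)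
    (hsep : ∀ e ∈ homogeneousSubmodule (Fin 2) K 2, e ≠ 0 →
      ∀ F ∈ homogeneousSubmodule (Fin 2) K 5, ∃ v ∈ V,
        ∃ h ∈ homogeneousSubmodule (Fin 2) K 3, F = v + e * h) :
    ∃ g ∈ homogeneousSubmodule (Fin 2) K 3, g ≠ 0 ∧
      (∀ h ∈ homogeneousSubmodule (Fin 2) K 2, g * h ∈ V) ∧
      ∀ g' ∈ homogeneousSubmodule (Fin 2) K 3,
        (∀ h ∈ homogeneousSubmodule (Fin 2) K 2, g' * h ∈ V) → ∃ c : K, g' = c • g := by
  obtain ⟨g, hg, hg0, hgV⟩ := exists_secant K 5 0 3 (by omega) (by omega) V hV (by omega)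
  refine ⟨g, hg, hg0, hgV, ?_⟩
  intro g' hg' hg'V
  by_contra hcon
  push Not at hcon
  set U' : Submodule K (homogeneousSubmodule (Fin 2) K 5) :=
    V.comap (homogeneousSubmodule (Fin 2) K 5).subtype with hU'
  have h1 : finrank K U' = finrank K V :=
    LinearEquiv.finrank_eq (Submodule.comapSubtypeEquivOfLe hV)
  have h2 := Submodule.finrank_quotient_add_finrank U'
  rw [finrank_homog, h1, hdim] at h2
  have hQ : finrank K (homogeneousSubmodule (Fin 2) K 5 ⧸ U') = 1 := by omega
  -- the two elements of H₃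
  let γ : homogeneousSubmodule (Fin 2) K 3 := ⟨g, hg⟩
  let γ' : homogeneousSubmodule (Fin 2) K 3 := ⟨g', hg'⟩
  have hγ0 : γ ≠ 0 := fun h => hg0 (congrArg Subtype.val h)
  have hli : LinearIndependent K ![γ, γ'] := by
    rw [LinearIndependent.pair_iff' hγ0]
    intro a ha
    exact hcon a (congrArg Subtype.val ha).symm
  set N : Submodule K (homogeneousSubmodule (Fin 2) K 3) :=
    Submodule.span K (Set.range ![γ, γ']) with hN
  have hNrank : finrank K N = 2 := by
    rw [hN, finrank_span_eq_card hli]; simp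
  obtain ⟨N', hN'⟩ := Submodule.exists_isCompl N
  have hN'rank : finrank K N' = 2 := by
    have := Submodule.finrank_add_eq_of_isCompl hN'
    rw [finrank_homog, hNrank] at this
    omega
  -- the map H₂ → Hom(N', Q)
  let Φ := mulQ K (show 2 + 3 = 5 by norm_num) U'
  let Ψ : homogeneousSubmodule (Fin 2) K 2 →ₗ[K]
      (N' →ₗ[K] (homogeneousSubmodule (Fin 2) K 5 ⧸ U')) :=
    (LinearMap.lcomp K _ N'.subtype).comp Φ
  have hker : LinearMap.ker Ψ ≠ ⊥ := by
    apply LinearMap.ker_ne_bot_of_finrank_lt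
    haveI : Module.Free K N' := Module.Free.of_divisionRing K N'
    have hfl := Module.finrank_linearMap K K N' (homogeneousSubmodule (Fin 2) K 5 ⧸ U')
    rw [hfl, hN'rank, hQ, finrank_homog]
    norm_num
  obtain ⟨e, he, he0⟩ := (Submodule.ne_bot_iff _).1 hker
  have hΨe : ∀ x ∈ N', Φ e x = 0 := by
    intro x hx
    have := LinearMap.mem_ker.1 he
    have h3 := congrArg (fun f => f ⟨x, hx⟩) this
    simpa [Ψ] using h3
  have hNe : ∀ x ∈ N, Φ e x = 0 := by
    intro x hx
    rw [hN] at hx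
    refine Submodule.span_induction ?_ ?_ ?_ ?_ hx
    · rintro y ⟨t, rfl⟩
      fin_cases t
      · show Φ e γ = 0
        rw [mulQ_eq_zero_iff]
        rw [mul_comm]
        exact hgV _ e.2
      · show Φ e γ' = 0
        rw [mulQ_eq_zero_iff]
        rw [mul_comm]
        exact hg'V _ e.2
    · simp
    · intro x y _ _ hx hy; rw [map_add, hx, hy, add_zero]
    · intro c x _ hx; rw [map_smul, hx, smul_zero]
  have hall : ∀ x : homogeneousSubmodule (Fin 2) K 3, Φ e x = 0 := by
    intro x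
    have hx : x ∈ N ⊔ N' := by rw [hN'.sup_eq_top]; trivial
    obtain ⟨y, hy, z, hz, rfl⟩ := Submodule.mem_sup.1 hx
    rw [map_add, hNe y hy, hΨe z hz, add_zero]
  have he0' : (e : MvPolynomial (Fin 2) K) ≠ 0 := fun h => he0 (Subtype.ext h)
  have hVtop : homogeneousSubmodule (Fin 2) K 5 ≤ V := by
    intro F hF
    obtain ⟨v, hv, h, hh, rfl⟩ := hsep e.1 e.2 he0' F hF
    refine V.add_mem hv ?_
    have := hall ⟨h, hh⟩
    rwa [mulQ_eq_zero_iff] at this
  have : V = homogeneousSubmodule (Fin 2) K 5 := le_antisymm hV hVtop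
  rw [this, finrank_homog] at hdim
  omega

end Groth.Agent.Lib.Helper24Trisec
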