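import Mathlib
import Groth.Agent.Lib.Helper24CoskHtpy

namespace Groth.Agent.Lib.Helper24TrivFib

open CategoryTheory Limits Opposite Simplicial SSet SimplexCategory MonoidalCategory
open Groth.Agent.Lib.Helper24CoskHtpy

universe u

/-- the simplex of `Δ[1]` is constant equal to `0`. -/
def isZero {a : SimplexCategoryᵒᵖ} (s : (Δ[1] : SSet.{u}).obj a) : Prop :=
  ∀ k, (stdSimplex.asOrderHom s) k = 0

theorem isZero_map {a b : SimplexCategoryᵒᵖ} (g : a ⟶ b) (s : (Δ[1] : SSet.{u}).obj a)
    (h : isZero s) : isZero ((Δ[1] : SSet.{u}).map g s) := by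
  intro k
  exact h (g.unop.toOrderHom k)

theorem not_isZero_and_isOne {a : SimplexCategoryᵒᵖ} (s : (Δ[1] : SSet.{u}).obj a)
    (h0 : isZero s) (h1 : isOne s) : False := by
  have e0 := h0 0
  have e1 := h1 0
  rw [e0] at e1
  exact absurd e1 (by decide)

variable {W X Y : SSet.{u}}

/-- the subcomplex `W ⊗ ∂Δ[1]`. -/
def A (W : SSet.{u}) : (W ⊗ Δ[1] : SSet.{u}).Subcomplex where
  obj m := {z | isZero z.2 ∨ isOne z.2}
  map g := by
    rintro z (hz | hz)
    · exact Or.inl (isZero_map g _ hz)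
    · exact Or.inr (isOne_map g _ hz)

open Classical in
/-- the map `W ⊗ ∂Δ[1] ⟶ X` given by `a` and `b`. -/
noncomputable def top (a b : W ⟶ X) : ((A W : (W ⊗ Δ[1] : SSet.{u}).Subcomplex) : SSet.{u}) ⟶ X where
  app m := ↾(fun z => if isOne z.1.2 then b.app m z.1.1 else a.app m z.1.1)
  naturality := by
    intro m m' g
    ext ⟨⟨w, s⟩, hz⟩
    show (if isOne ((Δ[1] : SSet.{u}).map g s) then b.app m' (W.map g w) else a.app m' (W.map g w)) =
      X.map g (if isOne s then b.app m w else a.app m w)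
    by_cases hs : isOne s
    · rw [if_pos hs, if_pos (isOne_map g s hs)]
      exact NatTrans.naturality_apply b g w
    · have h0 : isZero s := by
        rcases hz with h | h
        · exact h
        · exact absurd h hs
      have hs' : ¬ isOne ((Δ[1] : SSet.{u}).map g s) :=
        fun h1 => not_isZero_and_isOne _ (isZero_map g s h0) h1
      rw [if_neg hs, if_neg hs']
      exact NatTrans.naturality_apply a g w

open Classical in
theorem homotopy_of_rlp (f : X ⟶ Y) (hf : SSet.modelCategoryQuillen.I.rlp f) (a b : W ⟶ X)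
    (hab : a ≫ f = b ≫ f) : Nonempty (SSet.Homotopy a b) := by
  have hmono : (MorphismProperty.monomorphisms SSet.{u}).rlp f := by
    rw [SSet.rlp_monomorphisms]; exact hf
  have hl : HasLiftingProperty (A W).ι f :=
    hmono _ (MorphismProperty.monomorphisms.infer_property _)
  have sq : CommSq (top a b) (A W).ι f (CartesianMonoidalCategory.fst W Δ[1] ≫ a ≫ f) := by
    refine ⟨?_⟩
    ext m ⟨⟨w, s⟩, hz⟩
    show f.app m (if isOne s then b.app m w else a.app m w) = f.app m (a.app m w)
    by_cases hs : isOne s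
    · rw [if_pos hs]
      exact (ConcreteCategory.congr_hom (congr_app hab m) w).symm
    · rw [if_neg hs]
  let H := sq.lift
  have hH : (A W).ι ≫ H = top a b := sq.fac_left
  have hH' : ∀ m (z : (W ⊗ Δ[1] : SSet.{u}).obj m) (hz : z ∈ (A W).obj m),
      H.app m z = if isOne z.2 then b.app m z.1 else a.app m z.1 := by
    intro m z hz
    exact ConcreteCategory.congr_hom (congr_app hH m) ⟨z, hz⟩
  refine ⟨RelativeMorphism.Homotopy.mk H ?_ ?_ ?_⟩
  · show ι₀ ≫ H = a
    ext m w
    show H.app m (ι₀.app m w) = _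
    rw [hH' m _ (Or.inl (fun k => rfl)), if_neg]
    · rfl
    · intro h1
      exact not_isZero_and_isOne _ (fun k => rfl) h1
  · show ι₁ ≫ H = b
    ext m w
    show H.app m (ι₁.app m w) = _
    rw [hH' m _ (Or.inr (fun k => rfl)), if_pos]
    · rfl
    · intro k
      rfl
  · ext m ⟨⟨v, hv⟩, s⟩
    exact hv.elim

theorem main (f : X ⟶ Y) (hf : SSet.modelCategoryQuillen.I.rlp f) :
    ∃ g : Y ⟶ X, g ≫ f = 𝟙 Y ∧ Nonempty (SSet.Homotopy (𝟙 X) (f ≫ g)) ∧
      Nonempty (SSet.Homotopy (f ≫ g) (𝟙 X)) := by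
  have hmono : (MorphismProperty.monomorphisms SSet.{u}).rlp f := by
    rw [SSet.rlp_monomorphisms]; exact hf
  have hl : HasLiftingProperty (⊥ : Y.Subcomplex).ι f :=
    hmono _ (MorphismProperty.monomorphisms.infer_property _)
  have sq : CommSq (Subcomplex.isInitialBot.to X) (⊥ : Y.Subcomplex).ι f (𝟙 Y) :=
    ⟨Subcomplex.isInitialBot.hom_ext _ _⟩
  refine ⟨sq.lift, sq.fac_right, ?_, ?_⟩
  · apply homotopy_of_rlp f hf
    rw [Category.id_comp, Category.assoc, sq.fac_right, Category.comp_id]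
  · apply homotopy_of_rlp f hf
    rw [Category.id_comp, Category.assoc, sq.fac_right, Category.comp_id]

end Groth.Agent.Lib.Helper24TrivFib
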