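import Mathlib

set_option autoImplicit false
universe u

open MvPolynomial

namespace Groth.Agent.Lib.Helper24Trunc

variable {k : Type u} [Field k] {r : ℕ}

/-- the truncation ideal -/
noncomputable def truncIdeal (k : Type u) [Field k] {r : ℕ} (q : Fin r → ℕ) :
    Ideal (MvPolynomial (Fin r) k) :=
  Ideal.span (Set.range fun i : Fin r => (X i : MvPolynomial (Fin r) k) ^ q i)

/-- the set of exponents below `q` -/
def lowSet {r : ℕ} (q : Fin r → ℕ) : Set (Fin r →₀ ℕ) := {α | ∀ i, α i < q i}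

lemma mem_truncIdeal_iff (q : Fin r → ℕ) (x : MvPolynomial (Fin r) k) :
    x ∈ truncIdeal k q ↔ ∀ α ∈ x.support, α ∉ lowSet q := by
  have h1 : (Set.range fun i : Fin r => (X i : MvPolynomial (Fin r) k) ^ q i) =
      (fun s => monomial s (1 : k)) '' (Set.range fun i : Fin r => Finsupp.single i (q i)) := by
    rw [← Set.range_comp]
    congr 1
    ext i : 1
    simp [X_pow_eq_monomial]
  rw [truncIdeal, h1, mem_ideal_span_monomial_image]
  refine forall₂_congr fun α _ => ?_
  simp only [Set.mem_range, exists_exists_eq_and, lowSet, Set.mem_ofPred_eq, not_forall, not_lt]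
  refine exists_congr fun i => ?_
  rw [Finsupp.single_le_iff]


/-- restriction of coefficients to `lowSet q` -/
noncomputable def coeffLow (k : Type u) [Field k] {r : ℕ} (q : Fin r → ℕ) :
    MvPolynomial (Fin r) k →ₗ[k] (lowSet q →₀ k) :=
  (Finsupp.lsubtypeDomain (lowSet q)) ∘ₗ (AddMonoidAlgebra.coeffLinearEquiv k).toLinearMap

lemma coeffLow_apply (q : Fin r → ℕ) (x : MvPolynomial (Fin r) k) (α : lowSet q) :
    coeffLow k q x α = coeff α.1 x := rfl

lemma coeffLow_surjective (q : Fin r → ℕ) : Function.Surjective (coeffLow k q) := by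
  intro g
  refine ⟨(AddMonoidAlgebra.coeffLinearEquiv k).symm (g.embDomain (Function.Embedding.subtype _)), ?_⟩
  ext α
  rw [coeffLow_apply]
  change (g.embDomain (Function.Embedding.subtype _)) α.1 = g α
  exact Finsupp.embDomain_apply_self (Function.Embedding.subtype _) g α


lemma ker_coeffLow (q : Fin r → ℕ) :
    LinearMap.ker (coeffLow k q) = (truncIdeal k q).restrictScalars k := by
  ext x
  rw [LinearMap.mem_ker, Submodule.restrictScalars_mem, mem_truncIdeal_iff]
  constructor
  · intro h α hα hlow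
    have := DFunLike.congr_fun h ⟨α, hlow⟩
    rw [coeffLow_apply] at this
    exact (mem_support_iff.mp hα) this
  · intro h
    ext α
    rw [coeffLow_apply]
    by_contra hne
    exact h α.1 (mem_support_iff.mpr hne) α.2

/-- the quotient by the truncation ideal has the monomials below `q` as a basis -/
noncomputable def quotEquiv (k : Type u) [Field k] {r : ℕ} (q : Fin r → ℕ) :
    (MvPolynomial (Fin r) k ⧸ truncIdeal k q) ≃ₗ[k] (lowSet q →₀ k) :=
  (Submodule.Quotient.restrictScalarsEquiv k (truncIdeal k q)).symm ≪≫ₗ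
    (Submodule.quotEquivOfEq _ _ (ker_coeffLow q).symm) ≪≫ₗ
    (coeffLow k q).quotKerEquivOfSurjective (coeffLow_surjective q)

/-- `lowSet q` is a product of intervals -/
noncomputable def lowSetEquiv {r : ℕ} (q : Fin r → ℕ) : lowSet q ≃ ((i : Fin r) → Fin (q i)) where
  toFun α i := ⟨α.1 i, α.2 i⟩
  invFun g := ⟨Finsupp.equivFunOnFinite.symm (fun i => (g i : ℕ)), fun i => by
    simp⟩
  left_inv α := by
    ext i
    simp
  right_inv g := by
    ext i
    simp

noncomputable instance {r : ℕ} (q : Fin r → ℕ) : Fintype (lowSet q) :=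
  Fintype.ofEquiv _ (lowSetEquiv q).symm

theorem finrank_quot (q : Fin r → ℕ) :
    Module.finrank k (MvPolynomial (Fin r) k ⧸ truncIdeal k q) = ∏ i, q i := by
  rw [(quotEquiv k q).finrank_eq, Module.finrank_finsupp_self,
    Fintype.card_congr (lowSetEquiv q), Fintype.card_pi]
  simp


/-- the ideal generated by `n`-th powers of nilpotent elements -/
def powNilIdeal (A : Type*) [CommRing A] (n : ℕ) : Ideal A :=
  Ideal.span ((fun a => a ^ n) '' (nilradical A : Set A))

lemma map_powNilIdeal {A B : Type*} [CommRing A] [CommRing B] (φ : A ≃+* B) (n : ℕ) :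
    (powNilIdeal A n).map (φ : A →+* B) = powNilIdeal B n := by
  rw [powNilIdeal, Ideal.map_span, powNilIdeal]
  congr 1
  ext b
  constructor
  · rintro ⟨_, ⟨a, ha, rfl⟩, rfl⟩
    refine ⟨φ a, ?_, (map_pow φ a n).symm⟩
    exact (mem_nilradical.mpr ((mem_nilradical.mp ha).map φ))
  · rintro ⟨b', hb', rfl⟩
    refine ⟨(φ.symm b') ^ n, ⟨φ.symm b', ?_, rfl⟩, ?_⟩
    · exact (mem_nilradical.mpr ((mem_nilradical.mp hb').map φ.symm))
    · simp

lemma truncIdeal_sup (q q' : Fin r → ℕ) :
    truncIdeal k q ⊔ truncIdeal k q' = truncIdeal k (fun i => min (q i) (q' i)) := by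
  apply le_antisymm
  · rw [sup_le_iff]
    constructor
    · rw [truncIdeal, Ideal.span_le]
      rintro _ ⟨i, rfl⟩
      beta_reduce
      have : (X i : MvPolynomial (Fin r) k) ^ q i =
          X i ^ (q i - min (q i) (q' i)) * X i ^ (min (q i) (q' i)) := by
        rw [← pow_add]; congr 1; omega
      rw [this]
      exact Ideal.mul_mem_left _ _ (Ideal.subset_span ⟨i, rfl⟩)
    · rw [truncIdeal, Ideal.span_le]
      rintro _ ⟨i, rfl⟩
      beta_reduce
      have : (X i : MvPolynomial (Fin r) k) ^ q' i =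
          X i ^ (q' i - min (q i) (q' i)) * X i ^ (min (q i) (q' i)) := by
        rw [← pow_add]; congr 1; omega
      rw [this]
      exact Ideal.mul_mem_left _ _ (Ideal.subset_span ⟨i, rfl⟩)
  · rw [truncIdeal, Ideal.span_le]
    rintro _ ⟨i, rfl⟩
    beta_reduce
    rcases le_total (q i) (q' i) with h | h
    · rw [min_eq_left h]
      exact Ideal.mem_sup_left (Ideal.subset_span ⟨i, rfl⟩)
    · rw [min_eq_right h]
      exact Ideal.mem_sup_right (Ideal.subset_span ⟨i, rfl⟩)


section charp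

variable (p : ℕ) [Fact p.Prime] [CharP k p]

/-- `x ↦ x ^ p ^ j` lands in `J` on an ideal -/
def powPreimage (j : ℕ) (J : Ideal (MvPolynomial (Fin r) k)) : Ideal (MvPolynomial (Fin r) k) where
  carrier := {x | x ^ p ^ j ∈ J}
  add_mem' := by
    intro x y hx hy
    simp only [Set.mem_ofPred_eq] at hx hy ⊢
    rw [add_pow_char_pow]
    exact J.add_mem hx hy
  zero_mem' := by
    simp only [Set.mem_ofPred_eq]
    rw [zero_pow (pow_ne_zero _ (Fact.out : p.Prime).ne_zero)]
    exact J.zero_mem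
  smul_mem' := by
    intro c x hx
    simp only [Set.mem_ofPred_eq] at hx ⊢
    rw [smul_eq_mul, mul_pow]
    exact J.mul_mem_left _ hx

lemma constantCoeff_eq_zero_of_mem (q : Fin r → ℕ) (hq : ∀ i, 1 ≤ q i)
    {x : MvPolynomial (Fin r) k} (hx : x ∈ truncIdeal k q) : constantCoeff x = 0 := by
  rw [mem_truncIdeal_iff] at hx
  rw [constantCoeff_eq]
  by_contra hne
  exact hx 0 (mem_support_iff.mpr hne) (fun i => by
    have := hq i
    simp only [Finsupp.coe_zero, Pi.zero_apply]
    omega)

theorem powNilIdeal_quot (q : Fin r → ℕ) (hq : ∀ i, 1 ≤ q i) (j : ℕ) :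
    powNilIdeal (MvPolynomial (Fin r) k ⧸ truncIdeal k q) (p ^ j) =
      (truncIdeal k (fun _ => p ^ j)).map (Ideal.Quotient.mk (truncIdeal k q)) := by
  apply le_antisymm
  · rw [powNilIdeal, Ideal.span_le]
    rintro _ ⟨a, ha, rfl⟩
    obtain ⟨x, rfl⟩ := Ideal.Quotient.mk_surjective a
    let ε : (MvPolynomial (Fin r) k ⧸ truncIdeal k q) →+* k :=
      Ideal.Quotient.lift (truncIdeal k q) constantCoeff
        (fun x hx => constantCoeff_eq_zero_of_mem q hq hx)
    have hε : constantCoeff x = 0 := by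
      have h1 : IsNilpotent (ε (Ideal.Quotient.mk _ x)) := (mem_nilradical.mp ha).map ε
      have h2 := h1.eq_zero
      simpa [ε] using h2
    have hX : x ∈ Ideal.span (X '' (Set.univ : Set (Fin r)) : Set (MvPolynomial (Fin r) k)) := by
      rw [mem_ideal_span_X_image]
      intro m hm
      have hm0 : m ≠ 0 := by
        rintro rfl
        rw [mem_support_iff, ← constantCoeff_eq] at hm
        exact hm hε
      obtain ⟨i, hi⟩ := DFunLike.ne_iff.mp hm0
      exact ⟨i, Set.mem_univ _, by simpa using hi⟩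
    have hle : Ideal.span (X '' (Set.univ : Set (Fin r)) : Set (MvPolynomial (Fin r) k)) ≤
        powPreimage p j (truncIdeal k (fun _ => p ^ j)) := by
      rw [Ideal.span_le]
      rintro _ ⟨i, -, rfl⟩
      change (X i : MvPolynomial (Fin r) k) ^ p ^ j ∈ truncIdeal k (fun _ => p ^ j)
      exact Ideal.subset_span ⟨i, rfl⟩
    have hx : x ^ p ^ j ∈ truncIdeal k (fun _ => p ^ j) := hle hX
    change (Ideal.Quotient.mk _ x) ^ p ^ j ∈ _
    rw [← map_pow]
    exact Ideal.mem_map_of_mem _ hx
  · rw [Ideal.map_le_iff_le_comap, truncIdeal, Ideal.span_le]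
    rintro _ ⟨i, rfl⟩
    change Ideal.Quotient.mk (truncIdeal k q) (X i ^ p ^ j) ∈ powNilIdeal _ (p ^ j)
    rw [map_pow]
    refine Ideal.subset_span ⟨_, ?_, rfl⟩
    rw [SetLike.mem_coe, mem_nilradical]
    refine ⟨q i, ?_⟩
    rw [← map_pow, Ideal.Quotient.eq_zero_iff_mem]
    exact Ideal.subset_span ⟨i, rfl⟩

theorem finrank_quot_powNilIdeal (q : Fin r → ℕ) (hq : ∀ i, 1 ≤ q i) (j : ℕ) :
    Module.finrank k ((MvPolynomial (Fin r) k ⧸ truncIdeal k q) ⧸
      powNilIdeal (MvPolynomial (Fin r) k ⧸ truncIdeal k q) (p ^ j)) =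
      ∏ i, min (q i) (p ^ j) := by
  have h1 : powNilIdeal (MvPolynomial (Fin r) k ⧸ truncIdeal k q) (p ^ j) =
      (truncIdeal k (fun _ => p ^ j)).map (Ideal.Quotient.mkₐ k (truncIdeal k q)) :=
    powNilIdeal_quot p q hq j
  let e1 := Ideal.quotientEquivAlgOfEq k h1
  let e2 := DoubleQuot.quotQuotEquivQuotSupₐ k (truncIdeal k q) (truncIdeal k (fun _ => p ^ j))
  let e3 := Ideal.quotientEquivAlgOfEq k (truncIdeal_sup (k := k) q (fun _ => p ^ j))
  rw [((e1.trans e2).trans e3).toLinearEquiv.finrank_eq, finrank_quot]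

theorem sum_min_eq {r s : ℕ} (e : Fin r → ℕ) (f : Fin s → ℕ)
    (φ : (MvPolynomial (Fin r) k ⧸ truncIdeal k (fun i => p ^ e i)) ≃ₐ[k]
      (MvPolynomial (Fin s) k ⧸ truncIdeal k (fun i => p ^ f i))) (j : ℕ) :
    ∑ i, min (e i) j = ∑ i, min (f i) j := by
  have hp : 1 < p := (Fact.out : p.Prime).one_lt
  have h1 := finrank_quot_powNilIdeal (k := k) p (fun i => p ^ e i)
    (fun i => Nat.one_le_pow _ _ (by omega)) j
  have h2 := finrank_quot_powNilIdeal (k := k) p (fun i => p ^ f i)
    (fun i => Nat.one_le_pow _ _ (by omega)) j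
  have h3 : powNilIdeal (MvPolynomial (Fin s) k ⧸ truncIdeal k (fun i => p ^ f i)) (p ^ j) =
      (powNilIdeal (MvPolynomial (Fin r) k ⧸ truncIdeal k (fun i => p ^ e i)) (p ^ j)).map
        (φ : _ →+* _) := (map_powNilIdeal φ.toRingEquiv (p ^ j)).symm
  have h4 := (Ideal.quotientEquivAlg _ _ φ h3).toLinearEquiv.finrank_eq
  rw [h1, h2] at h4
  have hmin : ∀ a b : ℕ, min (p ^ a) (p ^ b) = p ^ min a b := by
    intro a b
    rcases le_total a b with h | h
    · rw [min_eq_left h, min_eq_left (Nat.pow_le_pow_right (by omega) h)]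
    · rw [min_eq_right h, min_eq_right (Nat.pow_le_pow_right (by omega) h)]
  simp only [hmin, Finset.prod_pow_eq_pow_sum] at h4
  exact Nat.pow_right_injective hp h4

end charp


theorem exists_equiv_of_sum_min {r s : ℕ} (e : Fin r → ℕ) (f : Fin s → ℕ) (he : ∀ i, 1 ≤ e i)
    (hf : ∀ i, 1 ≤ f i) (h : ∀ j, ∑ i, min (e i) j = ∑ i, min (f i) j) :
    ∃ σ : Fin r ≃ Fin s, ∀ i, f (σ i) = e i := by
  classical
  have step1 : ∀ {t : ℕ} (g : Fin t → ℕ) (v : ℕ),
      ∑ i, min (g i) (v + 1) = ∑ i, min (g i) v + ∑ i, (if v + 1 ≤ g i then 1 else 0) := by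
    intro t g v
    rw [← Finset.sum_add_distrib]
    refine Finset.sum_congr rfl fun i _ => ?_
    split_ifs with hi <;> omega
  have step2 : ∀ v, ∑ i, (if v + 1 ≤ e i then 1 else 0) = ∑ i, (if v + 1 ≤ f i then 1 else 0) := by
    intro v
    have h1 := step1 e v
    have h2 := step1 f v
    rw [h (v + 1), h v] at h1
    omega
  have step3 : ∀ {t : ℕ} (g : Fin t → ℕ) (v : ℕ),
      ∑ i, (if v ≤ g i then 1 else 0) =
        ∑ i, (if g i = v then 1 else 0) + ∑ i, (if v + 1 ≤ g i then 1 else 0) := by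
    intro t g v
    rw [← Finset.sum_add_distrib]
    refine Finset.sum_congr rfl fun i _ => ?_
    split_ifs <;> omega
  have step4 : ∀ v, ∑ i, (if e i = v then 1 else 0) = ∑ i, (if f i = v then 1 else 0) := by
    intro v
    cases v with
    | zero =>
      rw [Finset.sum_eq_zero, Finset.sum_eq_zero]
      · intro i _; have := hf i; rw [if_neg]; omega
      · intro i _; have := he i; rw [if_neg]; omega
    | succ v =>
      have h1 := step3 e (v + 1)
      have h2 := step3 f (v + 1)
      have h3 := step2 v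
      have h4 := step2 (v + 1)
      omega
  have step5 : ∀ v, Fintype.card {i // e i = v} = Fintype.card {i // f i = v} := by
    intro v
    rw [Fintype.card_subtype, Fintype.card_subtype, Finset.card_filter, Finset.card_filter]
    exact step4 v
  exact ⟨Equiv.ofFiberEquiv (fun v => Fintype.equivOfCardEq (step5 v)),
    fun i => Equiv.ofFiberEquiv_map _ i⟩

end Groth.Agent.Lib.Helper24Trunc
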