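import Mathlib

/-!
# Differentials of a smooth local algebra of relative dimension one at a separable point

Local algebra for `S6555`: if `R` is a Noetherian local `k`-algebra, formally smooth over `k`,
with `Ω[R⁄k]` free of rank one and residue field separable over `k`, then for every irreducible
`s : R` the map `a ↦ a • d s` is bijective `R → Ω[R⁄k]`.
-/

open TensorProduct KaehlerDifferential IsLocalRing

namespace Groth.Agent.Lib.Helper24Unif

universe u

variable (k : Type u) [Field k] (R : Type u) [CommRing R] [IsLocalRing R] [Algebra k R]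

/-- The conormal map `m/m² → κ ⊗ Ω[R⁄k]` is bijective when `κ/k` is separable and `R/k` is
formally smooth. -/
theorem kerCotangentToTensor_bijective [Algebra.FormallySmooth k R]
    [Algebra.IsSeparable k (ResidueField R)] :
    Function.Bijective (kerCotangentToTensor k R (ResidueField R)) := by
  have hsurj : Function.Surjective (algebraMap R (ResidueField R)) := residue_surjective
  have he : Algebra.FormallyEtale k (ResidueField R) := Algebra.FormallyEtale.of_isSeparable k _
  have hsm : Algebra.FormallySmooth k (ResidueField R) := inferInstance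
  have hun : Algebra.FormallyUnramified k (ResidueField R) := inferInstance
  refine ⟨?_, ?_⟩
  · rw [Algebra.FormallySmooth.kerCotangentToTensor_injective_iff hsurj]
    infer_instance
  · intro y
    have hex := exact_kerCotangentToTensor_mapBaseChange k R (ResidueField R) hsurj
    have : Subsingleton Ω[ResidueField R⁄k] := inferInstance
    exact (hex y).mp (Subsingleton.elim _ _)

lemma ker_algebraMap_residueField :
    RingHom.ker (algebraMap R (ResidueField R)) = maximalIdeal R :=
  IsLocalRing.ker_residue

variable [Algebra.FormallySmooth k R] [IsNoetherianRing R]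
  [Algebra.IsSeparable k (ResidueField R)] [Module.Free R Ω[R⁄k]] [Module.Finite R Ω[R⁄k]]

/-- The maximal ideal is generated by any irreducible element. -/
theorem maximalIdeal_eq_span_of_irreducible (hrk : Module.finrank R Ω[R⁄k] = 1) (s : R)
    (hs : Irreducible s) : maximalIdeal R = Ideal.span {s} := by
  set I := RingHom.ker (algebraMap R (ResidueField R)) with hI
  have hIm : I = maximalIdeal R := ker_algebraMap_residueField R
  obtain ⟨hinj, hsurj⟩ := kerCotangentToTensor_bijective k R
  have hfr : Module.finrank (ResidueField R) (ResidueField R ⊗[R] Ω[R⁄k]) = 1 := by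
    rw [Module.finrank_baseChange, hrk]
  -- a nonzero element of `κ ⊗ Ω`
  have hnt : Nontrivial (ResidueField R ⊗[R] Ω[R⁄k]) :=
    Module.nontrivial_of_finrank_pos (R := ResidueField R) (by omega)
  obtain ⟨w, hw⟩ := exists_ne (0 : ResidueField R ⊗[R] Ω[R⁄k])
  obtain ⟨y, hy⟩ := hsurj w
  obtain ⟨t, rfl⟩ := Ideal.toCotangent_surjective _ y
  -- every element of `I` is a multiple of `t` modulo `I ^ 2`
  have key : ∀ z : I, ∃ c : R, (z : R) - c * t ∈ I ^ 2 := by
    intro z
    obtain ⟨cbar, hc⟩ := (finrank_eq_one_iff_of_nonzero' w hw).mp hfr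
      (kerCotangentToTensor k R (ResidueField R) (I.toCotangent z))
    obtain ⟨c, rfl⟩ := residue_surjective cbar
    refine ⟨c, ?_⟩
    have h1 : kerCotangentToTensor k R (ResidueField R) (I.toCotangent (z - c • t)) = 0 := by
      rw [map_sub, map_sub, map_smul, map_smul, hy, ← hc, sub_eq_zero]
      rw [← algebraMap_smul (ResidueField R) c w]
      rfl
    have h2 := hinj (h1.trans (map_zero _).symm)
    rw [Ideal.toCotangent_eq_zero] at h2
    have h3 : ((z - c • t : I) : R) = (z : R) - c * t := by
      rw [Submodule.coe_sub, Submodule.coe_smul, smul_eq_mul]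
    rwa [h3] at h2
  have hle : I ≤ Ideal.span {(t : R)} := by
    have hJ : I ≤ (⊥ : Ideal R).jacobson := by
      rw [hIm, jacobson_eq_maximalIdeal _ bot_ne_top]
    refine Submodule.le_of_le_smul_of_le_jacobson_bot (IsNoetherian.noetherian I) hJ ?_
    intro z hz
    obtain ⟨c, hc⟩ := key ⟨z, hz⟩
    have : z = c * t + (z - c * t) := by ring
    rw [this]
    refine Submodule.add_mem_sup (Ideal.mem_span_singleton'.mpr ⟨c, rfl⟩) ?_
    rw [smul_eq_mul, ← pow_two]
    exact hc
  have hsI : s ∈ I := by
    rw [hIm, mem_maximalIdeal]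
    exact hs.not_isUnit
  obtain ⟨a, ha⟩ := Ideal.mem_span_singleton'.mp (hle hsI)
  have htnu : ¬ IsUnit (t : R) := by
    rw [← mem_nonunits_iff, ← mem_maximalIdeal, ← hIm]
    exact t.2
  have hau : IsUnit a := (hs.isUnit_or_isUnit ha.symm).resolve_right htnu
  rw [← hIm]
  refine le_antisymm (hle.trans ?_) ((Ideal.span_singleton_le_iff_mem _).mpr hsI)
  rw [Ideal.span_singleton_le_iff_mem, Ideal.mem_span_singleton']
  exact ⟨hau.unit⁻¹.1, by rw [← ha, ← mul_assoc]; simp⟩

/-- `d s` generates `Ω[R⁄k]`. -/
theorem span_D_eq_top (hrk : Module.finrank R Ω[R⁄k] = 1) (s : R) (hs : Irreducible s) :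
    Submodule.span R {D k R s} = ⊤ := by
  set I := RingHom.ker (algebraMap R (ResidueField R)) with hI
  have hIm : I = maximalIdeal R := ker_algebraMap_residueField R
  have hms := maximalIdeal_eq_span_of_irreducible k R hrk s hs
  obtain ⟨-, hsurj⟩ := kerCotangentToTensor_bijective k R
  rw [← map_tensorProduct_mk_eq_top, eq_top_iff]
  intro y _
  obtain ⟨x, rfl⟩ := hsurj y
  obtain ⟨z, rfl⟩ := Ideal.toCotangent_surjective _ x
  have hz : (z : R) ∈ Ideal.span {s} := by rw [← hms, ← hIm]; exact z.2
  obtain ⟨a, ha⟩ := Ideal.mem_span_singleton'.mp hz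
  rw [kerCotangentToTensor_toCotangent, ← ha, Derivation.leibniz, tmul_add]
  have h0 : (1 : ResidueField R) ⊗ₜ[R] (s • D k R a) = 0 := by
    rw [← smul_tmul, Algebra.smul_def, mul_one]
    have : algebraMap R (ResidueField R) s = 0 := by
      rw [← RingHom.mem_ker, ← hI, hIm, mem_maximalIdeal]; exact hs.not_isUnit
    rw [this, zero_tmul]
  rw [h0, add_zero]
  exact Submodule.mem_map_of_mem (Submodule.smul_mem _ _ (Submodule.mem_span_singleton_self _))

/-- **Main local statement**: `a ↦ a • d s` is bijective. -/
theorem bijective_smul_D (hrk : Module.finrank R Ω[R⁄k] = 1) (s : R) (hs : Irreducible s) :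
    Function.Bijective (fun a : R => a • D k R s) := by
  have hsurj : Function.Surjective (fun a : R => a • D k R s) := by
    intro ω
    have : ω ∈ Submodule.span R {D k R s} := by rw [span_D_eq_top k R hrk s hs]; trivial
    exact Submodule.mem_span_singleton.mp this
  refine ⟨?_, hsurj⟩
  let e : R ≃ₗ[R] Ω[R⁄k] := LinearEquiv.ofFinrankEq R Ω[R⁄k] (by rw [hrk, Module.finrank_self])
  let f : R →ₗ[R] Ω[R⁄k] := LinearMap.toSpanSingleton R _ (D k R s)
  exact OrzechProperty.injective_of_surjective_of_injective e.toLinearMap f e.injective hsurj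

end Groth.Agent.Lib.Helper24Unif

namespace Groth.Agent.Lib.Helper24Unif

universe u

/-- The statement for the local ring of a standard smooth algebra of relative dimension one. -/
theorem bijective_of_isLocalization (k A R : Type u) [Field k] [CommRing A] [CommRing R]
    [Algebra k A] [Algebra k R] [Algebra A R] [IsScalarTower k A R]
    [Algebra.IsStandardSmoothOfRelativeDimension 1 k A] (p : Ideal A) [p.IsPrime]
    [IsLocalization.AtPrime R p] [IsLocalRing R]
    [Algebra.IsSeparable k (ResidueField R)] (s : R) (hs : Irreducible s) :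
    Function.Bijective (fun a : R => a • D k R s) := by
  have h1 : Algebra.IsStandardSmooth k A :=
    Algebra.IsStandardSmoothOfRelativeDimension.isStandardSmooth 1
  have h2 : Algebra.FormallySmooth k A := inferInstance
  have h3 : Algebra.FormallySmooth A R := Algebra.FormallySmooth.of_isLocalization p.primeCompl
  have h4 : Algebra.FormallySmooth k R := Algebra.FormallySmooth.comp k A R
  have h5 : IsNoetherianRing A := Algebra.FiniteType.isNoetherianRing k A
  have h6 : IsNoetherianRing R := IsLocalization.isNoetherianRing p.primeCompl R h5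
  have hntA : Nontrivial A := ⟨⟨0, 1, fun h => (Ideal.IsPrime.ne_top ‹_›)
    ((Ideal.eq_top_iff_one p).mpr (h ▸ p.zero_mem))⟩⟩
  have h7 : Module.Free R Ω[R⁄k] :=
    Module.free_of_isLocalizedModule p.primeCompl (KaehlerDifferential.map k k A R)
  have h8 : Module.Finite R Ω[R⁄k] :=
    Module.Finite.of_isLocalizedModule p.primeCompl (KaehlerDifferential.map k k A R)
  have h9 : Module.finrank R Ω[R⁄k] = 1 := by
    rw [Module.finrank_of_isLocalizedModule_of_free R p.primeCompl
      (KaehlerDifferential.map k k A R)]
    have := Algebra.IsStandardSmoothOfRelativeDimension.rank_kaehlerDifferential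
      (R := k) (S := A) 1
    exact Module.finrank_eq_of_rank_eq (by simpa using this)
  exact bijective_smul_D k R h9 s hs

end Groth.Agent.Lib.Helper24Unif
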