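import Mathlib
import Groth.Prelude.Def_CurvBase
import Groth.Agent.Lib.Helper24UnifA

/-!
# From a smooth neighbourhood of relative dimension one to a standard smooth affine chart
-/

open CategoryTheory AlgebraicGeometry

namespace Groth.Agent.Lib.Helper24Unif

universe u

variable (k : Type u) [Field k] (X : Scheme.{u}) [X.Over (Spec (CommRingCat.of k))]

/-- The ring map `k → Γ(X, W)`. -/
noncomputable def secMap (W : X.Opens) : k →+* Γ(X, W) :=
  (X.presheaf.map (homOfLE (le_top : W ≤ ⊤)).op).hom.comp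
    (Coh.toGlobal (X ↘ Spec (CommRingCat.of k)))

lemma germ_secMap (W : X.Opens) (x : X) (hx : x ∈ W) :
    (X.presheaf.germ W x hx).hom.comp (secMap k X W) = Curv2.stalkMap k X x := by
  ext a
  exact TopCat.Presheaf.germ_res_apply X.presheaf (homOfLE (le_top : W ≤ ⊤)) x hx _

lemma secMap_eq (W : X.Opens) (h : W ≤ (X ↘ Spec (CommRingCat.of k)) ⁻¹ᵁ ⊤) :
    CommRingCat.ofHom (secMap k X W) =
      (Scheme.ΓSpecIso (CommRingCat.of k)).inv ≫
        (X ↘ Spec (CommRingCat.of k)).appLE ⊤ W h := by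
  ext a
  simp only [secMap, Coh.toGlobal, Scheme.Hom.appLE]
  rfl

theorem exists_affine_stdSmooth (x : X)
    (hsm : ∃ U : X.Opens, x ∈ U ∧
      SmoothOfRelativeDimension 1 (U.ι ≫ (X ↘ Spec (CommRingCat.of k)))) :
    ∃ (W : X.Opens), IsAffineOpen W ∧ x ∈ W ∧
      (secMap k X W).IsStandardSmoothOfRelativeDimension 1 := by
  obtain ⟨U, hxU, hU⟩ := hsm
  obtain ⟨U', hU', V, hV, hxV, e, hstd⟩ :=
    SmoothOfRelativeDimension.exists_isStandardSmoothOfRelativeDimension (n := 1)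
      (f := U.ι ≫ (X ↘ Spec (CommRingCat.of k))) ⟨x, hxU⟩
  refine ⟨U.ι ''ᵁ V, hV.image_of_isOpenImmersion U.ι, ⟨⟨x, hxU⟩, hxV, rfl⟩, ?_⟩
  have hU'top : U' = ⊤ := by
    rw [eq_top_iff]
    intro y _
    have hy : y = (U.ι ≫ (X ↘ Spec (CommRingCat.of k))) ⟨x, hxU⟩ :=
      Subsingleton.elim (α := PrimeSpectrum k) _ _
    rw [hy]
    exact e hxV
  subst hU'top
  have hiso := RingHom.isStandardSmoothOfRelativeDimension_respectsIso (n := 1)
  have key : CommRingCat.ofHom (secMap k X (U.ι ''ᵁ V)) ≫ (U.ι.appIso V).hom =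
      (Scheme.ΓSpecIso (CommRingCat.of k)).inv ≫
        (U.ι ≫ (X ↘ Spec (CommRingCat.of k))).appLE ⊤ V e := by
    have hW : U.ι ''ᵁ V ≤ (X ↘ Spec (CommRingCat.of k)) ⁻¹ᵁ ⊤ := fun _ _ => trivial
    rw [secMap_eq k X _ hW, Scheme.Hom.appIso_hom', Category.assoc]
    congr 1
    exact Scheme.Hom.appLE_comp_appLE _ _ _ _ _ _ _
  have key2 : CommRingCat.ofHom (secMap k X (U.ι ''ᵁ V)) =
      ((Scheme.ΓSpecIso (CommRingCat.of k)).inv ≫
        (U.ι ≫ (X ↘ Spec (CommRingCat.of k))).appLE ⊤ V e) ≫ (U.ι.appIso V).inv := by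
    rw [← key, Category.assoc, Iso.hom_inv_id, Category.comp_id]
  have h1 : RingHom.IsStandardSmoothOfRelativeDimension 1
      ((Scheme.ΓSpecIso (CommRingCat.of k)).inv ≫
        (U.ι ≫ (X ↘ Spec (CommRingCat.of k))).appLE ⊤ V e).hom := by
    rw [CommRingCat.hom_comp]
    exact (hiso.cancel_left_isIso _ _).mpr hstd
  have h2 : RingHom.IsStandardSmoothOfRelativeDimension 1
      (((Scheme.ΓSpecIso (CommRingCat.of k)).inv ≫
        (U.ι ≫ (X ↘ Spec (CommRingCat.of k))).appLE ⊤ V e) ≫ (U.ι.appIso V).inv).hom := by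
    rw [CommRingCat.hom_comp]
    exact (hiso.cancel_right_isIso _ _).mpr h1
  rw [← key2] at h2
  exact h2

end Groth.Agent.Lib.Helper24Unif

namespace Groth.Agent.Lib.Helper24Unif

universe u

open IsLocalRing in
attribute [local instance] Curv2.resAlgebra Curv2.stalkAlgebra in
theorem main (k : Type u) [Field k] (X : Scheme.{u}) [X.Over (Spec (CommRingCat.of k))]
    (x : X)
    (hsm : ∃ U : X.Opens, x ∈ U ∧
      SmoothOfRelativeDimension 1 (U.ι ≫ (X ↘ (Spec (CommRingCat.of k)))))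
    (hsep : Algebra.IsSeparable k (X.residueField x))
    (s : X.presheaf.stalk x) (hs : Irreducible s) :
    Function.Bijective
      (fun a : X.presheaf.stalk x => a • KaehlerDifferential.D k (X.presheaf.stalk x) s) := by
  obtain ⟨W, hW, hxW, hstd⟩ := exists_affine_stdSmooth k X x hsm
  letI : Algebra k Γ(X, W) := (secMap k X W).toAlgebra
  letI : Algebra Γ(X, W) (X.presheaf.stalk x) := X.presheaf.algebra_section_stalk ⟨x, hxW⟩
  haveI : IsScalarTower k Γ(X, W) (X.presheaf.stalk x) :=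
    IsScalarTower.of_algebraMap_eq' (germ_secMap k X W x hxW).symm
  haveI : IsLocalization.AtPrime (X.presheaf.stalk x) (hW.primeIdealOf ⟨x, hxW⟩).asIdeal :=
    hW.isLocalization_stalk ⟨x, hxW⟩
  haveI : Algebra.IsStandardSmoothOfRelativeDimension 1 k Γ(X, W) := hstd
  have hA : Curv2.resAlgebra k X x =
      (IsLocalRing.ResidueField.algebra (X.presheaf.stalk x) :
        Algebra k (ResidueField (X.presheaf.stalk x))) := by
    apply Algebra.algebra_ext
    intro r
    rfl
  haveI : @Algebra.IsSeparable k (ResidueField (X.presheaf.stalk x)) _ _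
      (IsLocalRing.ResidueField.algebra (X.presheaf.stalk x)) := hA ▸ hsep
  exact bijective_of_isLocalization k Γ(X, W) (X.presheaf.stalk x)
    (hW.primeIdealOf ⟨x, hxW⟩).asIdeal s hs

end Groth.Agent.Lib.Helper24Unif
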