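import Mathlib

universe u

namespace Groth.Agent.Lib.Helper24UnitComp

open IsLocalRing TensorProduct

theorem pow_mem_map_maximal {R A₀ : Type*} [CommRing R] [IsLocalRing R] [CommRing A₀]
    [IsLocalRing A₀] [Algebra R A₀] [Algebra.IsIntegral R A₀] (y : A₀)
    (hy : y ∈ maximalIdeal A₀) :
    ∃ n, y ^ n ∈ Ideal.map (algebraMap R A₀) (maximalIdeal R) := by
  have : y ∈ (Ideal.map (algebraMap R A₀) (maximalIdeal R)).radical := by
    rw [Ideal.radical_eq_sInf, Ideal.mem_sInf]
    rintro P ⟨hP, hPprime⟩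
    haveI := hPprime
    have h1 : maximalIdeal R ≤ P.comap (algebraMap R A₀) := Ideal.map_le_iff_le_comap.1 hP
    have h2 : P.comap (algebraMap R A₀) = maximalIdeal R :=
      ((maximalIdeal.isMaximal R).eq_of_le (Ideal.IsPrime.ne_top inferInstance) h1).symm
    have h3 : (P.comap (algebraMap R A₀)).IsMaximal := h2 ▸ maximalIdeal.isMaximal R
    have h4 : P.IsMaximal := Ideal.isMaximal_of_isIntegral_of_isMaximal_comap P h3
    rw [IsLocalRing.eq_maximalIdeal h4]
    exact hy
  exact this

theorem main (R : Type u) [CommRing R] [IsLocalRing R] [IsNoetherianRing R]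
    (A A'' : Type u) [CommRing A] [HopfAlgebra R A] [Module.Finite R A] [Module.Flat R A]
    [CommRing A''] [HopfAlgebra R A''] [Module.Finite R A''] [Module.Flat R A'']
    [Algebra A'' A] [IsScalarTower R A'' A] [Module.FaithfullyFlat A'' A]
    (hε : (Bialgebra.counitAlgHom R A).comp (IsScalarTower.toAlgHom R A'' A) =
      Bialgebra.counitAlgHom R A'')
    [IsLocalRing A'']
    [Algebra.Etale R (A ⧸ (RingHom.ker (Bialgebra.counitAlgHom R A'')).map (algebraMap A'' A))]
    (e : A) (he : IsIdempotentElem e) (heε : Bialgebra.counitAlgHom R A e = 1)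
    [IsLocalRing (A ⧸ Ideal.span ({1 - e} : Set A))] :
    Function.Bijective ((Ideal.Quotient.mkₐ R (Ideal.span ({1 - e} : Set A))).comp
      (IsScalarTower.toAlgHom R A'' A)) := by
  classical
  set I₀ : Ideal A := Ideal.span ({1 - e} : Set A) with hI₀
  set J : Ideal A := (RingHom.ker (Bialgebra.counitAlgHom R A'')).map (algebraMap A'' A) with hJ
  have hεπ : ∀ x : A'', Bialgebra.counitAlgHom R A (algebraMap A'' A x) =
      Bialgebra.counitAlgHom R A'' x := fun x => AlgHom.congr_fun hε x
  have hφ : ∀ x : A'', ((Ideal.Quotient.mkₐ R I₀).comp (IsScalarTower.toAlgHom R A'' A)) x =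
      algebraMap A'' (A ⧸ I₀) x := fun x => rfl
  -- module structure facts
  haveI : Module.Flat A (A ⧸ I₀) := by
    haveI := IsLocalization.Away.quotient_of_isIdempotentElem he
    exact IsLocalization.flat _ (Submonoid.powers e)
  haveI : Module.Flat A'' (A ⧸ I₀) := Module.Flat.trans A'' A (A ⧸ I₀)
  haveI : Module.Finite R (A ⧸ I₀) :=
    Module.Finite.of_surjective (Ideal.Quotient.mkₐ R I₀).toLinearMap
      (Ideal.Quotient.mkₐ_surjective R I₀)
  haveI : Module.Finite A'' (A ⧸ I₀) := Module.Finite.of_restrictScalars_finite R A'' (A ⧸ I₀)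
  haveI : Module.Free A'' (A ⧸ I₀) := Module.free_of_flat_of_isLocalRing
  constructor
  · intro x y hxy
    rw [hφ, hφ] at hxy
    exact FaithfulSMul.algebraMap_injective A'' (A ⧸ I₀) hxy
  · -- surjectivity via Nakayama
    have hI''le : RingHom.ker (Bialgebra.counitAlgHom R A'') ≤ maximalIdeal A'' := by
      intro i hi
      rw [mem_maximalIdeal, mem_nonunits_iff]
      intro hu
      have h1 := hu.map (Bialgebra.counitAlgHom R A'')
      rw [(RingHom.mem_ker).1 hi] at h1
      exact not_isUnit_zero h1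
    have hmle : ∀ r ∈ maximalIdeal R, algebraMap R A'' r ∈ maximalIdeal A'' := by
      intro r hr
      rw [mem_maximalIdeal, mem_nonunits_iff]
      intro hu
      have h1 := hu.map (Bialgebra.counitAlgHom R A'')
      rw [AlgHom.commutes] at h1
      exact hr h1
    set 𝔐 : Ideal (A ⧸ I₀) := Ideal.map (algebraMap A'' (A ⧸ I₀)) (maximalIdeal A'') with h𝔐
    have hker : ∀ a ∈ I₀, Bialgebra.counitAlgHom R A a = 0 := by
      intro a ha
      obtain ⟨c, rfl⟩ := Ideal.mem_span_singleton'.1 ha
      rw [map_mul, map_sub, map_one, heε, sub_self, mul_zero]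
    let ε₀ : (A ⧸ I₀) →ₐ[R] R := Ideal.Quotient.liftₐ I₀ (Bialgebra.counitAlgHom R A) hker
    have hmapA : Ideal.map (algebraMap R (A ⧸ I₀)) (maximalIdeal R) =
        Ideal.map (Ideal.Quotient.mk I₀) (Ideal.map (algebraMap R A) (maximalIdeal R)) := by
      rw [Ideal.map_map]; rfl
    have hmapJ : Ideal.map (algebraMap R (A ⧸ J)) (maximalIdeal R) =
        Ideal.map (Ideal.Quotient.mk J) (Ideal.map (algebraMap R A) (maximalIdeal R)) := by
      rw [Ideal.map_map]; rfl
    have key : ∀ x : A, Bialgebra.counitAlgHom R A x = 0 → Ideal.Quotient.mk I₀ x ∈ 𝔐 := by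
      intro x hx
      have hy : Ideal.Quotient.mk I₀ x ∈ maximalIdeal (A ⧸ I₀) := by
        rw [mem_maximalIdeal, mem_nonunits_iff]
        intro hu
        have h1 := hu.map ε₀
        have h0 : ε₀ (Ideal.Quotient.mk I₀ x) = 0 := hx
        rw [h0] at h1
        exact not_isUnit_zero h1
      haveI : Algebra.IsIntegral R (A ⧸ I₀) := Algebra.IsIntegral.of_finite R _
      obtain ⟨n, hn⟩ := pow_mem_map_maximal (R := R) _ hy
      have h1 : x ^ n ∈ Ideal.map (algebraMap R A) (maximalIdeal R) ⊔ I₀ := by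
        rw [hmapA, ← map_pow] at hn
        have h3 := Ideal.mem_comap.2 hn
        rwa [Ideal.comap_map_of_surjective _ Ideal.Quotient.mk_surjective,
          ← RingHom.ker_eq_comap_bot, Ideal.mk_ker] at h3
      have h4 : (e * x) ^ (n + 1) ∈ Ideal.map (algebraMap R A) (maximalIdeal R) := by
        obtain ⟨m, hm, c, hc, hmc⟩ := Submodule.mem_sup.1 h1
        obtain ⟨c', rfl⟩ := Ideal.mem_span_singleton'.1 hc
        have he2 : e * e = e := he.eq
        have : (e * x) ^ (n + 1) = (e * x) * m := by
          rw [mul_pow, he.pow_succ_eq, pow_succ', ← hmc]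
          linear_combination (-(x * c')) * he2
        rw [this]
        exact Ideal.mul_mem_left _ _ hm
      have hrad : (Ideal.map (algebraMap R (A ⧸ J)) (maximalIdeal R)).IsRadical :=
        Algebra.FormallyUnramified.isRadical_map_isMaximal (A := R) (A ⧸ J) (maximalIdeal R)
      have h5 : Ideal.Quotient.mk J (e * x) ∈
          Ideal.map (algebraMap R (A ⧸ J)) (maximalIdeal R) := by
        apply hrad
        refine ⟨n + 1, ?_⟩
        rw [← map_pow, hmapJ]
        exact Ideal.mem_map_of_mem _ h4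
      have h6 : e * x ∈ Ideal.map (algebraMap R A) (maximalIdeal R) ⊔ J := by
        rw [hmapJ] at h5
        have h3 := Ideal.mem_comap.2 h5
        rwa [Ideal.comap_map_of_surjective _ Ideal.Quotient.mk_surjective,
          ← RingHom.ker_eq_comap_bot, Ideal.mk_ker] at h3
      have h7 : Ideal.Quotient.mk I₀ x = Ideal.Quotient.mk I₀ (e * x) := by
        rw [Ideal.Quotient.eq]
        exact Ideal.mem_span_singleton'.2 ⟨x, by ring⟩
      rw [h7]
      obtain ⟨m, hm, j, hj, hmj⟩ := Submodule.mem_sup.1 h6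
      rw [← hmj, map_add]
      refine add_mem ?_ ?_
      · have : Ideal.map (algebraMap R A) (maximalIdeal R) ≤ 𝔐.comap (Ideal.Quotient.mk I₀) := by
          rw [Ideal.map_le_iff_le_comap]
          intro r hr
          rw [Ideal.mem_comap, Ideal.mem_comap]
          have h8 : Ideal.Quotient.mk I₀ (algebraMap R A r) =
              algebraMap A'' (A ⧸ I₀) (algebraMap R A'' r) := by
            rw [IsScalarTower.algebraMap_apply R A'' A]; rfl
          rw [h8]
          exact Ideal.mem_map_of_mem _ (hmle r hr)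
        exact this hm
      · have : J ≤ 𝔐.comap (Ideal.Quotient.mk I₀) := by
          refine Ideal.map_le_iff_le_comap.2 ?_
          intro i hi
          rw [Ideal.mem_comap, Ideal.mem_comap]
          exact Ideal.mem_map_of_mem (algebraMap A'' (A ⧸ I₀)) (hI''le hi)
        exact this hj
    have hall : ∀ a₀ : A ⧸ I₀, ∃ r : R, a₀ - algebraMap R (A ⧸ I₀) r ∈ 𝔐 := by
      intro a₀
      obtain ⟨a, rfl⟩ := Ideal.Quotient.mk_surjective a₀
      refine ⟨Bialgebra.counitAlgHom R A a, ?_⟩
      have h1 := key (a - algebraMap R A (Bialgebra.counitAlgHom R A a)) (by simp)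
      rw [map_sub] at h1
      exact h1
    have hN : (⊤ : Submodule A'' (A ⧸ I₀)) ≤
        LinearMap.range (Algebra.linearMap A'' (A ⧸ I₀)) := by
      apply Submodule.le_of_le_smul_of_le_jacobson_bot (I := maximalIdeal A'')
        Module.Finite.fg_top
      · rw [jacobson_eq_maximalIdeal ⊥ bot_ne_top]
      · intro a₀ _
        obtain ⟨r, hr⟩ := hall a₀
        rw [Submodule.mem_sup]
        refine ⟨algebraMap R (A ⧸ I₀) r, ⟨algebraMap R A'' r, ?_⟩,
          a₀ - algebraMap R (A ⧸ I₀) r, ?_, by ring⟩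
        · rw [Algebra.linearMap_apply, ← IsScalarTower.algebraMap_apply]
        · rw [Ideal.smul_top_eq_map]
          exact hr
    intro a₀
    obtain ⟨x, hx⟩ := hN (Submodule.mem_top : a₀ ∈ ⊤)
    exact ⟨x, by rw [hφ]; exact hx⟩

end Groth.Agent.Lib.Helper24UnitComp
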