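import Mathlib

/-!
# Full faithfulness of `toDescentData` for a one-member family, generic criterion (helper24)

For an arbitrary pseudofunctor `F`: the compatibility condition of a morphism of canonical descent
data is packaged as a `Prop`-valued definition `CommStmt` (so that later instantiations at concrete
pseudofunctors match syntactically, which the kernel needs), and bijectivity of `toDescentData.map`
is reduced to an injectivity and a surjectivity statement in `F`-form.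
-/

open CategoryTheory Opposite

universe t w v' v u' u

namespace Helper24WDesc

section bicat

variable {B : Type u} [Bicategory.{w, v} B] (F : Pseudofunctor B Cat.{v', u'})

/-- the compatibility condition for a morphism `ψ₀ : f^* M ⟶ f^* N` with respect to two
factorizations `f ≫ g₁ = c = f ≫ g₂`. -/
def CommStmt {b₀ b₁ b₂ : B} (f : b₀ ⟶ b₁) (g₁ g₂ : b₁ ⟶ b₂) (c : b₀ ⟶ b₂)
    (h₁ : f ≫ g₁ = c) (h₂ : f ≫ g₂ = c) (M N : F.obj b₀)
    (ψ₀ : (F.map f).toFunctor.obj M ⟶ (F.map f).toFunctor.obj N) : Prop :=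
  (F.map g₁).toFunctor.map ψ₀ ≫
      (F.mapComp' f g₁ c h₁).inv.toNatTrans.app N ≫
      (F.mapComp' f g₂ c h₂).hom.toNatTrans.app N =
    (F.mapComp' f g₁ c h₁).inv.toNatTrans.app M ≫
      (F.mapComp' f g₂ c h₂).hom.toNatTrans.app M ≫
      (F.map g₂).toFunctor.map ψ₀

theorem commStmt_iff {b₀ b₁ b₂ : B} (f : b₀ ⟶ b₁) (g₁ g₂ : b₁ ⟶ b₂) (c : b₀ ⟶ b₂)
    (h₁ : f ≫ g₁ = c) (h₂ : f ≫ g₂ = c) (M N : F.obj b₀)
    (ψ₀ : (F.map f).toFunctor.obj M ⟶ (F.map f).toFunctor.obj N) :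
    CommStmt F f g₁ g₂ c h₁ h₂ M N ψ₀ ↔
    (F.map g₁).toFunctor.map ψ₀ ≫
      (F.mapComp' f g₁ c h₁).inv.toNatTrans.app N ≫
      (F.mapComp' f g₂ c h₂).hom.toNatTrans.app N =
    (F.mapComp' f g₁ c h₁).inv.toNatTrans.app M ≫
      (F.mapComp' f g₂ c h₂).hom.toNatTrans.app M ≫
      (F.map g₂).toFunctor.map ψ₀ := Iff.rfl

end bicat

section descent

variable {C : Type u} [Category.{v} C] (F : Pseudofunctor (LocallyDiscrete Cᵒᵖ) Cat.{v', u'})
  {S X : C} (f : X ⟶ S)

set_option backward.isDefEq.respectTransparency false in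
/-- the component of a morphism of canonical descent data, typed in `F`-form. -/
def homAt {M N : F.obj (.mk (op S))}
    (ψ : (F.toDescentData (fun _ : PUnit.{t + 1} => f)).obj M ⟶
      (F.toDescentData (fun _ : PUnit.{t + 1} => f)).obj N) :
    (F.map f.op.toLoc).toFunctor.obj M ⟶ (F.map f.op.toLoc).toFunctor.obj N :=
  ψ.hom PUnit.unit

set_option backward.isDefEq.respectTransparency false in
theorem homAt_map {M N : F.obj (.mk (op S))} (φ : M ⟶ N) :
    homAt.{t} F f ((F.toDescentData (fun _ : PUnit.{t + 1} => f)).map φ) =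
      (F.map f.op.toLoc).toFunctor.map φ := rfl

set_option backward.isDefEq.respectTransparency false in
theorem homAt_injective {M N : F.obj (.mk (op S))}
    (ψ ψ' : (F.toDescentData (fun _ : PUnit.{t + 1} => f)).obj M ⟶
      (F.toDescentData (fun _ : PUnit.{t + 1} => f)).obj N)
    (h : homAt.{t} F f ψ = homAt.{t} F f ψ') : ψ = ψ' := by
  apply Pseudofunctor.DescentData.hom_ext
  intro i
  cases i
  exact h

set_option backward.isDefEq.respectTransparency false in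
theorem comm_homAt {M N : F.obj (.mk (op S))}
    (ψ : (F.toDescentData (fun _ : PUnit.{t + 1} => f)).obj M ⟶
      (F.toDescentData (fun _ : PUnit.{t + 1} => f)).obj N)
    ⦃Y : C⦄ (q : Y ⟶ S) (f₁ f₂ : Y ⟶ X)
    (hf₁ : f₁ ≫ f = q) (hf₂ : f₂ ≫ f = q)
    (h₁ : f.op.toLoc ≫ f₁.op.toLoc = q.op.toLoc) (h₂ : f.op.toLoc ≫ f₂.op.toLoc = q.op.toLoc) :
    CommStmt F f.op.toLoc f₁.op.toLoc f₂.op.toLoc q.op.toLoc h₁ h₂ M N (homAt.{t} F f ψ) := by
  have := ψ.comm q (i₁ := PUnit.unit) (i₂ := PUnit.unit) f₁ f₂ hf₁ hf₂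
  exact this.trans (Category.assoc _ _ _)

set_option backward.isDefEq.respectTransparency false in
theorem bijective_of {M N : F.obj (.mk (op S))}
    ⦃Y : C⦄ (q : Y ⟶ S) (f₁ f₂ : Y ⟶ X)
    (hf₁ : f₁ ≫ f = q) (hf₂ : f₂ ≫ f = q)
    (h₁ : f.op.toLoc ≫ f₁.op.toLoc = q.op.toLoc) (h₂ : f.op.toLoc ≫ f₂.op.toLoc = q.op.toLoc)
    (hinj : ∀ φ φ' : M ⟶ N,
      (F.map f.op.toLoc).toFunctor.map φ = (F.map f.op.toLoc).toFunctor.map φ' → φ = φ')
    (hsurj : ∀ ψ₀ : (F.map f.op.toLoc).toFunctor.obj M ⟶ (F.map f.op.toLoc).toFunctor.obj N,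
      CommStmt F f.op.toLoc f₁.op.toLoc f₂.op.toLoc q.op.toLoc h₁ h₂ M N ψ₀ →
        ∃ φ : M ⟶ N, (F.map f.op.toLoc).toFunctor.map φ = ψ₀) :
    Function.Bijective (fun φ : M ⟶ N =>
      (F.toDescentData (fun _ : PUnit.{t + 1} => f)).map φ) := by
  constructor
  · intro φ φ' h
    apply hinj
    have h' := congrArg (homAt.{t} F f) h
    rwa [homAt_map, homAt_map] at h'
  · intro ψ
    obtain ⟨φ, hφ⟩ := hsurj (homAt.{t} F f ψ) (comm_homAt F f ψ q f₁ f₂ hf₁ hf₂ h₁ h₂)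
    refine ⟨φ, ?_⟩
    apply homAt_injective
    rw [homAt_map]
    exact hφ

end descent

end Helper24WDesc
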