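import Groth.Agent.Lib.Helper24WDesc
import Groth.Agent.Lib.Helper24WDescC
import Groth.Agent.Lib.Helper24WDescF

/-!
# Generic descent of morphisms for module pseudofunctors `R ↦ Mod (W R)` (helper24)

Stated for a generic functor `W` and generic objects/morphisms of
`LocallyDiscrete (CommRingCatᵒᵖ)ᵒᵖ`; conclusions are in pseudofunctor form and contain no tensor
literals.
-/

open CategoryTheory Opposite TensorProduct ModuleCat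
open scoped ChangeOfRings

universe u

namespace Helper24WDesc

variable (W : CommRingCat.{u} ⥤ CommRingCat.{u})
  {b₀ b₁ b₂ : LocallyDiscrete (CommRingCat.{u}ᵒᵖ)ᵒᵖ} (f : b₀ ⟶ b₁) (g₁ g₂ : b₁ ⟶ b₂) (c : b₀ ⟶ b₂)
  (h₁ : f ≫ g₁ = c) (h₂ : f ≫ g₂ = c)
  [Algebra (WR W b₀) (WR W b₁)] [Algebra (WR W b₀) (WR W b₂)]
  (hφ : ∀ a, algebraMap (WR W b₀) (WR W b₁) a = W1 W f a)
  (hχ : ∀ a, algebraMap (WR W b₀) (WR W b₂) a = W1 W c a)
  (ψ₁ ψ₂ : WR W b₁ →ₐ[WR W b₀] WR W b₂)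
  (hψ₁ : ∀ b, ψ₁ b = W1 W g₁ b) (hψ₂ : ∀ b, ψ₂ b = W1 W g₂ b)
  (M N : ModuleCat.{u} (WR W b₀))
  (H1 : Function.Injective (fun x : N => x ⊗ₜ[WR W b₀] (1 : WR W b₁)))
  (H2 : ∀ x : N ⊗[WR W b₀] WR W b₁,
    LinearMap.lTensor N ψ₁.toLinearMap x = LinearMap.lTensor N ψ₂.toLinearMap x →
      x ∈ Set.range (fun x : N => x ⊗ₜ[WR W b₀] (1 : WR W b₁)))

include hφ H1 in
set_option backward.isDefEq.respectTransparency false in
theorem thmG_inj (φ φ' : M ⟶ N)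
    (h : ((F W).map f).toFunctor.map φ = ((F W).map f).toFunctor.map φ') : φ = φ' :=
  ext_map_injective (W1 W f) hφ M N H1 φ φ' h

include hφ hχ hψ₁ hψ₂ H1 H2 in
set_option backward.isDefEq.respectTransparency false in
theorem surj_clean
    (ψc : (extendScalars (W1 W f)).obj M ⟶ (extendScalars (W1 W f)).obj N)
    (hc : (extendScalars (W1 W g₁)).map ψc ≫ (alpha W f g₁ c h₁ N).inv ≫ (alpha W f g₂ c h₂ N).hom =
      (alpha W f g₁ c h₁ M).inv ≫ (alpha W f g₂ c h₂ M).hom ≫ (extendScalars (W1 W g₂)).map ψc) :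
    ∃ φ : M ⟶ N, (extendScalars (W1 W f)).map φ = ψc :=
  exists_descent (W1 W f) hφ (W1 W c) hχ (W1 W g₁) (W1 W g₂) ψ₁ ψ₂ hψ₁ hψ₂ M N
    (alpha W f g₁ c h₁ M) (alpha_one_tmul W f g₁ c h₁ M)
    (alpha W f g₂ c h₂ M) (alpha_one_tmul W f g₂ c h₂ M)
    (alpha W f g₁ c h₁ N) (alpha_one_tmul W f g₁ c h₁ N)
    (alpha W f g₂ c h₂ N) (alpha_one_tmul W f g₂ c h₂ N)
    ψc hc H1 H2

include hφ hχ hψ₁ hψ₂ H1 H2 in
set_option backward.isDefEq.respectTransparency false in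
theorem thmG_surj (ψ₀ : ((F W).map f).toFunctor.obj M ⟶ ((F W).map f).toFunctor.obj N)
    (hcomm : CommStmt (F W) f g₁ g₂ c h₁ h₂ M N ψ₀) :
    ∃ φ : M ⟶ N, ((F W).map f).toFunctor.map φ = ψ₀ :=
  surj_clean W f g₁ g₂ c h₁ h₂ hφ hχ ψ₁ ψ₂ hψ₁ hψ₂ M N H1 H2 ψ₀
    ((commStmt_iff (F W) f g₁ g₂ c h₁ h₂ M N ψ₀).mp hcomm)

end Helper24WDesc
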