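import Groth.Agent.Lib.Helper24WDescD

/-!
# Full faithfulness of `toDescentData` on a pair of modules, generic form (helper24)
-/

open CategoryTheory Opposite TensorProduct ModuleCat
open scoped ChangeOfRings

universe u

namespace Helper24WDesc

variable (W : CommRingCat.{u} ⥤ CommRingCat.{u})
  {S X Y : CommRingCat.{u}ᵒᵖ} (fc : X ⟶ S) (f1 f2 : Y ⟶ X) (q : Y ⟶ S)
  (hf1 : f1 ≫ fc = q) (hf2 : f2 ≫ fc = q)
  [Algebra (WR W (.mk (op S))) (WR W (.mk (op X)))] [Algebra (WR W (.mk (op S))) (WR W (.mk (op Y)))]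
  (hφ : ∀ a, algebraMap (WR W (.mk (op S))) (WR W (.mk (op X))) a = W1 W fc.op.toLoc a)
  (hχ : ∀ a, algebraMap (WR W (.mk (op S))) (WR W (.mk (op Y))) a = W1 W q.op.toLoc a)
  (ψ₁ ψ₂ : WR W (.mk (op X)) →ₐ[WR W (.mk (op S))] WR W (.mk (op Y)))
  (hψ₁ : ∀ b, ψ₁ b = W1 W f1.op.toLoc b) (hψ₂ : ∀ b, ψ₂ b = W1 W f2.op.toLoc b)
  (M N : ModuleCat.{u} (WR W (.mk (op S))))
  (H1 : Function.Injective (fun x : N => x ⊗ₜ[WR W (.mk (op S))] (1 : WR W (.mk (op X)))))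
  (H2 : ∀ x : N ⊗[WR W (.mk (op S))] WR W (.mk (op X)),
    LinearMap.lTensor N ψ₁.toLinearMap x = LinearMap.lTensor N ψ₂.toLinearMap x →
      x ∈ Set.range (fun x : N => x ⊗ₜ[WR W (.mk (op S))] (1 : WR W (.mk (op X)))))


include hf1 hf2 hφ hχ hψ₁ hψ₂ H1 H2 in
set_option backward.isDefEq.respectTransparency false in
theorem bijective_generic (hl1 : fc.op.toLoc ≫ f1.op.toLoc = q.op.toLoc)
    (hl2 : fc.op.toLoc ≫ f2.op.toLoc = q.op.toLoc) :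
    Function.Bijective (fun φ : M ⟶ N =>
      ((F W).toDescentData (fun _ : PUnit.{u + 1} => fc)).map φ) :=
  bijective_of.{u} (F W) fc q f1 f2 hf1 hf2 hl1 hl2
    (thmG_inj W fc.op.toLoc hφ M N H1)
    (thmG_surj W fc.op.toLoc f1.op.toLoc f2.op.toLoc q.op.toLoc hl1 hl2 hφ hχ
      ψ₁ ψ₂ hψ₁ hψ₂ M N H1 H2)

end Helper24WDesc
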