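import Groth.Agent.Lib.Helper24WDescE
import Groth.Prelude.Def_W4c3truncdispsmoothDesc
import Groth.Agent.S16225

/-!
# Full faithfulness of `W_n`-module descent along a faithfully flat ring map (helper24)

Instantiation of the generic theorem `bijective_generic` at `W = wittTrunc p n`, with the exactness
input from S16225.
-/

open CategoryTheory Opposite TensorProduct ModuleCat
open scoped ChangeOfRings

universe u

namespace Helper24WDesc

variable (p : ℕ) [Fact p.Prime] (n : ℕ)
    (R R' : Type u) [CommRing R] [CommRing R'] [Algebra R R']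

local notation "WW" => TruncatedWittVector p n

/-- the covering morphism in `CommRingCatᵒᵖ`. -/
abbrev fcov : op (CommRingCat.of R') ⟶ op (CommRingCat.of R) := (CommRingCat.ofHom (algebraMap R R')).op

abbrev q2 : op (CommRingCat.of (R' ⊗[R] R')) ⟶ op (CommRingCat.of R) :=
  (CommRingCat.ofHom (algebraMap R (R' ⊗[R] R'))).op

abbrev f1 : op (CommRingCat.of (R' ⊗[R] R')) ⟶ op (CommRingCat.of R') :=
  (CommRingCat.ofHom (Algebra.TensorProduct.includeLeftRingHom : R' →+* R' ⊗[R] R')).op

abbrev f2 : op (CommRingCat.of (R' ⊗[R] R')) ⟶ op (CommRingCat.of R') :=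
  (CommRingCat.ofHom ((Algebra.TensorProduct.includeRight : R' →ₐ[R] R' ⊗[R] R') : R' →+* R' ⊗[R] R')).op

theorem hf1 : f1 R R' ≫ fcov R R' = q2 R R' := by
  rw [← op_comp]; rfl

theorem hf2 : f2 R R' ≫ fcov R R' = q2 R R' := by
  rw [← op_comp]; congr 1; ext x; simp

theorem hl1 : (fcov R R').op.toLoc ≫ (f1 R R').op.toLoc = (q2 R R').op.toLoc := by
  rw [← hf1]; rfl

theorem hl2 : (fcov R R').op.toLoc ≫ (f2 R R').op.toLoc = (q2 R R').op.toLoc := by
  rw [← hf2]; rfl

/-- `W_n(R')` as `W_n(R)`-algebra. -/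
@[reducible] noncomputable def algB : Algebra (WW R) (WW R') := (WittGrp.truncMap p n (algebraMap R R')).toAlgebra

/-- `W_n(R' ⊗ R')` as `W_n(R)`-algebra. -/
@[reducible] noncomputable def algC : Algebra (WW R) (WW (R' ⊗[R] R')) :=
  (WittGrp.truncMap p n (algebraMap R (R' ⊗[R] R'))).toAlgebra

attribute [local instance] algB algC

/-- first inclusion on Witt vectors. -/
noncomputable def psi1 : WW R' →ₐ[WW R] WW (R' ⊗[R] R') :=
  { WittGrp.truncMap p n (Algebra.TensorProduct.includeLeftRingHom : R' →+* R' ⊗[R] R') with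
    commutes' := fun r => by
      change WittGrp.truncMap p n _ (WittGrp.truncMap p n (algebraMap R R') r) =
        WittGrp.truncMap p n (algebraMap R (R' ⊗[R] R')) r
      rw [← RingHom.comp_apply, ← WittGrp.truncMap_comp]
      rfl }

/-- second inclusion on Witt vectors. -/
noncomputable def psi2 : WW R' →ₐ[WW R] WW (R' ⊗[R] R') :=
  { WittGrp.truncMap p n ((Algebra.TensorProduct.includeRight : R' →ₐ[R] R' ⊗[R] R') : R' →+* R' ⊗[R] R') with
    commutes' := fun r => by
      change WittGrp.truncMap p n _ (WittGrp.truncMap p n (algebraMap R R') r) =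
        WittGrp.truncMap p n (algebraMap R (R' ⊗[R] R')) r
      rw [← RingHom.comp_apply, ← WittGrp.truncMap_comp]
      congr 2
      ext x
      simp }

theorem wittModPF_eq : W4c3truncdispsmooth.wittModPF.{u} p n = F (W4c3truncdispsmooth.wittTrunc.{u} p n) := rfl

/-- the truncated Witt functor. -/
noncomputable abbrev Wt : CommRingCat.{u} ⥤ CommRingCat.{u} := W4c3truncdispsmooth.wittTrunc.{u} p n

/-- the object of `LocallyDiscrete (CommRingCatᵒᵖ)ᵒᵖ` attached to a ring. -/
abbrev bb (R : Type u) [CommRing R] : LocallyDiscrete (CommRingCat.{u}ᵒᵖ)ᵒᵖ :=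
  .mk (op (op (CommRingCat.of R)))

set_option backward.isDefEq.respectTransparency false in
/-- bijectivity, given the exactness input in plain form.  The conclusion is syntactically in the
form of the S16223 statement (the kernel cannot afford any mismatch inside `toDescentData.map`). -/
theorem main_of_exact (M N : ModuleCat.{u} (WW R))
    (H1 : Function.Injective (fun x : N => x ⊗ₜ[WW R] (1 : WW R')))
    (H2 : ∀ x : N ⊗[WW R] WW R',
      LinearMap.lTensor N (psi1 p n R R').toLinearMap x = LinearMap.lTensor N (psi2 p n R R').toLinearMap x →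
        x ∈ Set.range (fun x : N => x ⊗ₜ[WW R] (1 : WW R'))) :
    Function.Bijective (fun φ : M ⟶ N =>
      ((W4c3truncdispsmooth.wittModPF.{u} p n).toDescentData
        (fun _ : PUnit.{u + 1} => (CommRingCat.ofHom (algebraMap R R')).op)).map φ) :=
  bijective_of.{u} (W4c3truncdispsmooth.wittModPF.{u} p n) (CommRingCat.ofHom (algebraMap R R')).op
    (q2 R R') (f1 R R') (f2 R R') (hf1 R R') (hf2 R R') (hl1 R R') (hl2 R R')
    (@thmG_inj (Wt p n) (bb R) (bb R') (fcov R R').op.toLoc (algB p n R R') (fun _ => rfl) M N H1)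
    (@thmG_surj (Wt p n) (bb R) (bb R') (bb (R' ⊗[R] R'))
      (fcov R R').op.toLoc (f1 R R').op.toLoc (f2 R R').op.toLoc (q2 R R').op.toLoc (hl1 R R') (hl2 R R')
      (algB p n R R') (algC p n R R') (fun _ => rfl) (fun _ => rfl)
      (psi1 p n R R') (psi2 p n R R') (fun _ => rfl) (fun _ => rfl) M N H1 H2)

theorem s16223 [Module.FaithfullyFlat R R'] (hp : IsNilpotent (p : R))
    (M N : ModuleCat.{u} (WW R))
    [Module.Finite (WW R) N] [Module.Projective (WW R) N] :
    Function.Bijective (fun φ : M ⟶ N =>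
      ((W4c3truncdispsmooth.wittModPF.{u} p n).toDescentData
        (fun _ : PUnit.{u + 1} => (CommRingCat.ofHom (algebraMap R R')).op)).map φ) := by
  have H := Groth.Agent.S16225.result p n R R' hp rfl rfl (psi1 p n R R') (psi2 p n R R') rfl rfl N
  exact main_of_exact p n R R' M N H.1 H.2

end Helper24WDesc
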