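import Mathlib

/-!
# Power series ring is free over the subring of series in `f` (iterated Weierstrass division)
(helper24)
-/

set_option autoImplicit false
universe u

namespace Groth.Agent.Lib.Helper24WDiv

open PowerSeries IsLocalRing

variable {O : Type u} [CommRing O] [IsDomain O] [IsLocalRing O]
  [IsAdicComplete (maximalIdeal O) O]

variable (f : PowerSeries O) (hf : PowerSeries.HasSubst f)

/-- tail of a power series -/
noncomputable def tl (c : PowerSeries O) : PowerSeries O := PowerSeries.mk fun j => coeff (j + 1) c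

lemma coeff_tl (c : PowerSeries O) (j : ℕ) : coeff j (tl c) = coeff (j + 1) c := by
  simp [tl]

lemma eq_tl (c : PowerSeries O) : c = X * tl c + C (constantCoeff c) :=
  eq_X_mul_shift_add_const c

include hf in
lemma subst_eq (c : PowerSeries O) :
    subst f c = f * subst f (tl c) + C (constantCoeff c) := by
  conv_lhs => rw [eq_tl c]
  rw [subst_add hf, subst_mul hf, subst_X hf]
  congr 1
  exact subst_C _

/-- the candidate expansion -/
noncomputable def T (n : ℕ) (c : Fin n → PowerSeries O) : PowerSeries O :=
  ∑ i : Fin n, subst f (c i) * X ^ (i : ℕ)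

/-- the remainder polynomial -/
noncomputable def rem (n : ℕ) (c : Fin n → PowerSeries O) : Polynomial O :=
  ∑ i : Fin n, Polynomial.C (constantCoeff (c i)) * Polynomial.X ^ (i : ℕ)

lemma rem_coe (n : ℕ) (c : Fin n → PowerSeries O) :
    ((rem n c : Polynomial O) : PowerSeries O) = ∑ i : Fin n, C (constantCoeff (c i)) * X ^ (i : ℕ) := by
  unfold rem
  rw [← Polynomial.coeToPowerSeries.ringHom_apply, map_sum]
  refine Finset.sum_congr rfl (fun i _ => ?_)
  simp

lemma rem_coeff (n : ℕ) (c : Fin n → PowerSeries O) (i : Fin n) :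
    (rem n c).coeff i = constantCoeff (c i) := by
  unfold rem
  rw [Polynomial.finset_sum_coeff]
  simp only [Polynomial.coeff_C_mul, Polynomial.coeff_X_pow]
  rw [Finset.sum_eq_single i]
  · simp
  · intro j _ hji
    have : (i : ℕ) ≠ (j : ℕ) := fun h => hji (Fin.ext h.symm)
    simp [this]
  · simp

lemma rem_degree (n : ℕ) (c : Fin n → PowerSeries O) : (rem n c).degree < n :=
  Polynomial.degree_sum_fin_lt _

include hf in
lemma T_eq (n : ℕ) (c : Fin n → PowerSeries O) :
    T f n c = f * T f n (fun i => tl (c i)) + (rem n c : Polynomial O) := by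
  rw [rem_coe]
  unfold T
  rw [Finset.mul_sum, ← Finset.sum_add_distrib]
  refine Finset.sum_congr rfl (fun i _ => ?_)
  rw [subst_eq f hf (c i)]
  ring

end Groth.Agent.Lib.Helper24WDiv
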