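import Mathlib
import Groth.Agent.Lib.Helper24WDiv

/-!
# Iterated Weierstrass division: existence and uniqueness of the expansion (helper24)
-/

set_option autoImplicit false
universe u

namespace Groth.Agent.Lib.Helper24WDiv2

open PowerSeries IsLocalRing Groth.Agent.Lib.Helper24WDiv

variable {O : Type u} [CommRing O] [IsDomain O] [IsLocalRing O]
  [IsAdicComplete (maximalIdeal O) O]

variable (f : PowerSeries O) (hf : PowerSeries.HasSubst f) (hmap : f.map (residue O) ≠ 0)

/-- the Weierstrass degree -/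
noncomputable abbrev wd : ℕ := (f.map (residue O)).order.toNat

include hf hmap in
lemma T_div (c : Fin (wd f) → PowerSeries O) :
    T f (wd f) c /ʷ f = T f (wd f) (fun i => tl (c i)) ∧ T f (wd f) c %ʷ f = rem (wd f) c := by
  have H : (T f (wd f) c).IsWeierstrassDivision f (T f (wd f) (fun i => tl (c i)))
      (rem (wd f) c) := ⟨rem_degree (wd f) c, T_eq f hf (wd f) c⟩
  have := H.unique hmap
  exact ⟨this.1.symm, this.2.symm⟩

include hf hmap in
lemma coeff_of_T : ∀ (j : ℕ) (c : Fin (wd f) → PowerSeries O) (i : Fin (wd f)),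
    coeff j (c i) = (((fun h => h /ʷ f)^[j] (T f (wd f) c)) %ʷ f).coeff i := by
  intro j
  induction j with
  | zero =>
    intro c i
    rw [Function.iterate_zero, id, (T_div f hf hmap c).2, rem_coeff,
      coeff_zero_eq_constantCoeff_apply]
  | succ j ih =>
    intro c i
    rw [Function.iterate_succ_apply, (T_div f hf hmap c).1, ← ih (fun i => tl (c i)) i, coeff_tl]

/-- the coefficient series attached to `g` -/
noncomputable def cc (g : PowerSeries O) : Fin (wd f) → PowerSeries O :=
  fun i => PowerSeries.mk fun j => (((fun h => h /ʷ f)^[j] g) %ʷ f).coeff i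

lemma cc_tl (g : PowerSeries O) (i : Fin (wd f)) : tl (cc f g i) = cc f (g /ʷ f) i := by
  ext j
  rw [coeff_tl]
  simp only [cc, coeff_mk, Function.iterate_succ_apply]

lemma cc_rem (g : PowerSeries O) : rem (wd f) (cc f g) = g %ʷ f := by
  ext k
  by_cases hk : k < wd f
  · have := rem_coeff (wd f) (cc f g) ⟨k, hk⟩
    simp only at this
    rw [this, ← coeff_zero_eq_constantCoeff_apply]
    simp only [cc, coeff_mk, Function.iterate_zero, id]
  · push Not at hk
    rw [Polynomial.coeff_eq_zero_of_degree_lt, Polynomial.coeff_eq_zero_of_degree_lt]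
    · exact lt_of_lt_of_le (degree_weierstrassMod_lt g f) (by exact_mod_cast hk)
    · exact lt_of_lt_of_le (rem_degree _ _) (by exact_mod_cast hk)

include hf hmap in
lemma T_cc (g : PowerSeries O) :
    T f (wd f) (cc f g) = f * T f (wd f) (cc f (g /ʷ f)) + ((g %ʷ f : Polynomial O) : PowerSeries O) := by
  rw [T_eq f hf, cc_rem]
  congr 3
  funext i
  exact cc_tl f g i

include hf hmap in
lemma sub_T_cc (J : ℕ) : ∀ g : PowerSeries O, ∃ h, g - T f (wd f) (cc f g) = f ^ J * h := by
  induction J with
  | zero => intro g; exact ⟨_, by rw [pow_zero, one_mul]⟩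
  | succ J ih =>
    intro g
    obtain ⟨h, hh⟩ := ih (g /ʷ f)
    refine ⟨h, ?_⟩
    have e1 := eq_mul_weierstrassDiv_add_weierstrassMod g hmap
    calc g - T f (wd f) (cc f g)
        = (f * (g /ʷ f) + ((g %ʷ f : Polynomial O) : PowerSeries O)) -
          (f * T f (wd f) (cc f (g /ʷ f)) + ((g %ʷ f : Polynomial O) : PowerSeries O)) := by
          rw [← e1, ← T_cc f hf hmap g]
      _ = f * (g /ʷ f - T f (wd f) (cc f (g /ʷ f))) := by ring
      _ = f ^ (J + 1) * h := by rw [hh, pow_succ', mul_assoc]

include hf hmap in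
theorem T_cc_eq (g : PowerSeries O) : T f (wd f) (cc f g) = g := by
  have hf0 : constantCoeff f = 0 := IsNilpotent.eq_zero hf
  obtain ⟨q, hq⟩ := (X_dvd_iff.mpr hf0)
  ext N
  obtain ⟨h, hh⟩ := sub_T_cc f hf hmap (N + 1) g
  have : coeff N (g - T f (wd f) (cc f g)) = 0 := by
    rw [hh, hq, mul_pow, mul_assoc, coeff_X_pow_mul']
    simp
  rw [map_sub, sub_eq_zero] at this
  exact this.symm

include hf hmap in
theorem existsUnique_expansion (g : PowerSeries O) :
    ∃! c : Fin (wd f) → PowerSeries O, g = ∑ i, subst f (c i) * X ^ (i : ℕ) := by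
  refine ⟨cc f g, (T_cc_eq f hf hmap g).symm, ?_⟩
  intro c hc
  have hc' : T f (wd f) c = g := hc.symm
  funext i
  ext j
  rw [coeff_of_T f hf hmap j c i, hc', coeff_of_T f hf hmap j (cc f g) i, T_cc_eq f hf hmap g]

end Groth.Agent.Lib.Helper24WDiv2
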