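import Mathlib
import Groth.Agent.Lib.Helper24WDiv
import Groth.Agent.Lib.Helper24WDiv2

/-!
# S18476: the `[p]`-series is nonzero mod `m` iff `O[[X]]` is finite free along `X ↦ [p](X)`
(helper24)
-/

set_option autoImplicit false
universe u

namespace Groth.Agent.Lib.Helper24WDiv3

open PowerSeries IsLocalRing Groth.Agent.Lib.Helper24WDiv Groth.Agent.Lib.Helper24WDiv2

section

variable {O : Type u} [CommRing O] [IsDomain O] [IsLocalRing O]
  [IsAdicComplete (maximalIdeal O) O]

theorem not_spanned (f : PowerSeries O) (hf : PowerSeries.HasSubst f)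
    (hall : ∀ N, coeff N f ∈ maximalIdeal O) (n : ℕ) (b : Fin n → PowerSeries O)
    (h : ∀ g : PowerSeries O, ∃ c : Fin n → PowerSeries O, g = ∑ i, subst f (c i) * b i) :
    False := by
  classical
  have hπf : PowerSeries.map (residue O) f = 0 := by
    ext N
    rw [coeff_map, map_zero, residue_eq_zero_iff]
    exact hall N
  have hπs : ∀ c : PowerSeries O, PowerSeries.map (residue O) (subst f c) =
      C (constantCoeff (PowerSeries.map (residue O) c)) := by
    intro c
    have h1 := PowerSeries.map_subst hf (h := residue O) c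
    have hπf' : MvPowerSeries.map (residue O) f = 0 := hπf
    rw [hπf'] at h1
    rw [show PowerSeries.map (residue O) (subst f c) = MvPowerSeries.map (residue O) (subst f c)
      from rfl, h1, PowerSeries.subst_zero_eq_C_constantCoeff]
    simp
    rfl
  let W : Submodule (ResidueField O) (PowerSeries (ResidueField O)) :=
    Submodule.span (ResidueField O) (Set.range fun i => PowerSeries.map (residue O) (b i))
  have hmem : ∀ j : ℕ, (X : PowerSeries (ResidueField O)) ^ j ∈ W := by
    intro j
    obtain ⟨c, hc⟩ := h (X ^ j)
    have h2 := congrArg (PowerSeries.map (residue O)) hc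
    rw [map_pow, PowerSeries.map_X, map_sum] at h2
    rw [h2]
    apply Submodule.sum_mem
    intro i _
    rw [map_mul, hπs, ← PowerSeries.smul_eq_C_mul]
    exact Submodule.smul_mem _ _ (Submodule.subset_span ⟨i, rfl⟩)
  have hfin : Module.finrank (ResidueField O) W ≤ n := by
    have := finrank_range_le_card (R := ResidueField O)
      (fun i : Fin n => PowerSeries.map (residue O) (b i))
    rw [Fintype.card_fin] at this
    exact this
  haveI : Module.Finite (ResidueField O) W :=
    FiniteDimensional.span_of_finite _ (Set.finite_range _)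
  have hli : LinearIndependent (ResidueField O)
      (fun j : Fin (n + 1) => (⟨X ^ (j : ℕ), hmem j⟩ : W)) := by
    apply LinearIndependent.of_comp W.subtype
    rw [Fintype.linearIndependent_iff]
    intro a ha j
    have h3 := congrArg (coeff (j : ℕ)) ha
    rw [map_sum, map_zero] at h3
    rw [Finset.sum_eq_single j] at h3
    · simpa [coeff_X_pow] using h3
    · intro i _ hij
      have : (j : ℕ) ≠ (i : ℕ) := fun h => hij (Fin.ext h.symm)
      simp [coeff_X_pow, this]
    · simp
  have h4 := hli.fintype_card_le_finrank
  rw [Fintype.card_fin] at h4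
  omega

theorem main (f : PowerSeries O) (hf : PowerSeries.HasSubst f) :
    (∃ n : ℕ, coeff n f ∉ maximalIdeal O) ↔
      ∃ (n : ℕ) (b : Fin n → PowerSeries O), ∀ g : PowerSeries O,
        ∃! c : Fin n → PowerSeries O, g = ∑ i, subst f (c i) * b i := by
  constructor
  · rintro ⟨N, hN⟩
    have hmap : f.map (residue O) ≠ 0 := by
      intro h0
      have := congrArg (coeff N) h0
      rw [coeff_map, map_zero, residue_eq_zero_iff] at this
      exact hN this
    exact ⟨wd f, fun i => X ^ (i : ℕ), fun g => existsUnique_expansion f hf hmap g⟩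
  · rintro ⟨n, b, h⟩
    by_contra hcon
    push Not at hcon
    exact not_spanned f hf hcon n b (fun g => (h g).exists)

end

theorem s18476
    (O : Type u) [CommRing O] [IsDomain O] [IsDiscreteValuationRing O]
    [IsAdicComplete (IsLocalRing.maximalIdeal O) O]
    (p : ℕ) [Fact p.Prime] (hp : (p : O) ∈ IsLocalRing.maximalIdeal O)
    (F : FormalGroup O) :
    (∃ n : ℕ, PowerSeries.coeff n
        ((p • (show F.Point Unit from ⟨PowerSeries.X, PowerSeries.HasSubst.X'⟩)).val) ∉
          IsLocalRing.maximalIdeal O) ↔
      ∃ (n : ℕ) (b : Fin n → PowerSeries O), ∀ g : PowerSeries O, ∃! c : Fin n → PowerSeries O,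
        g = ∑ i, PowerSeries.subst
          ((p • (show F.Point Unit from ⟨PowerSeries.X, PowerSeries.HasSubst.X'⟩)).val) (c i) * b i := by
  exact main _ (p • (show F.Point Unit from ⟨PowerSeries.X, PowerSeries.HasSubst.X'⟩)).property

end Groth.Agent.Lib.Helper24WDiv3
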