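import Mathlib

set_option autoImplicit false
set_option linter.unusedSectionVars false
universe u

open MvPolynomial

namespace Groth.Agent.Lib.Helper24WGauss

variable {k : Type u} [Field k] {σ : Type} [Fintype σ] [DecidableEq σ]

/-- the tuple with `i`-th entry `c i • X^(δ - e_i)` -/
noncomputable def Mtup (δ : σ →₀ ℕ) (c : σ → k) : σ → MvPolynomial σ k :=
  fun i => monomial (δ - Finsupp.single i 1) (c i)

lemma Mtup_add (δ : σ →₀ ℕ) (c c' : σ → k) : Mtup δ (c + c') = Mtup δ c + Mtup δ c' := by
  funext i; simp [Mtup]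

lemma Mtup_sub (δ : σ →₀ ℕ) (c c' : σ → k) : Mtup δ (c - c') = Mtup δ c - Mtup δ c' := by
  funext i; simp [Mtup]

lemma Mtup_smul (δ : σ →₀ ℕ) (r : k) (c : σ → k) : Mtup δ (r • c) = r • Mtup δ c := by
  funext i; simp [Mtup, smul_monomial]

lemma Mtup_zero (δ : σ →₀ ℕ) : Mtup δ (0 : σ → k) = 0 := by
  funext i; simp [Mtup]

lemma Mtup_sum {ι : Type*} (s : Finset ι) (δ : σ →₀ ℕ) (c : ι → σ → k) :
    Mtup δ (∑ j ∈ s, c j) = ∑ j ∈ s, Mtup δ (c j) := by
  classical
  induction s using Finset.induction_on with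
  | empty => simp [Mtup_zero]
  | insert j s hj ih => rw [Finset.sum_insert hj, Finset.sum_insert hj, Mtup_add, ih]

/-- the Gaussian tuple -/
noncomputable def G (a b : ℕ) (s t : MvPolynomial σ k) : σ → MvPolynomial σ k :=
  fun i => (b : k) • (t * pderiv i s) - (a : k) • (s * pderiv i t)

lemma G_monomial (a b : ℕ) (α β : σ →₀ ℕ) :
    G a b (monomial α (1 : k)) (monomial β 1) =
      Mtup (α + β) (fun i => (b : k) * α i - (a : k) * β i) := by
  funext i
  have e1 : α i ≠ 0 → β + (α - Finsupp.single i 1) = α + β - Finsupp.single i 1 := by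
    intro h
    ext j
    by_cases hj : i = j
    · subst hj; simp; omega
    · simp [hj]; omega
  have e2 : β i ≠ 0 → α + (β - Finsupp.single i 1) = α + β - Finsupp.single i 1 := by
    intro h
    ext j
    by_cases hj : i = j
    · subst hj; simp; omega
    · simp [hj]
  have h1 : monomial (β + (α - Finsupp.single i 1)) ((α i : ℕ) : k) =
      monomial (α + β - Finsupp.single i 1) ((α i : ℕ) : k) := by
    by_cases h : α i = 0
    · simp [h]
    · rw [e1 h]
  have h2 : monomial (α + (β - Finsupp.single i 1)) ((β i : ℕ) : k) =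
      monomial (α + β - Finsupp.single i 1) ((β i : ℕ) : k) := by
    by_cases h : β i = 0
    · simp [h]
    · rw [e2 h]
  simp only [G, Mtup, pderiv_monomial, monomial_mul, one_mul, h1, h2, smul_monomial, smul_eq_mul]
  rw [← map_sub]


/-- the generating set -/
def Gset (k : Type u) [Field k] (σ : Type) [Fintype σ] [DecidableEq σ] (a b e : ℕ) :
    Set (σ → MvPolynomial σ k) :=
  {g | ∃ s t : MvPolynomial σ k, s.IsHomogeneous (a * e) ∧ t.IsHomogeneous (b * e) ∧
    g = fun i => (b : k) • (t * pderiv i s) - (a : k) • (s * pderiv i t)}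

lemma Mtup_mem_Gset (a b e : ℕ) (α β : σ →₀ ℕ) (hα : α.degree = a * e) (hβ : β.degree = b * e) :
    Mtup (α + β) (fun i => (b : k) * α i - (a : k) * β i) ∈ Gset k σ a b e := by
  refine ⟨monomial α 1, monomial β 1, isHomogeneous_monomial _ hα, isHomogeneous_monomial _ hβ, ?_⟩
  exact (G_monomial a b α β).symm

/-- interpolation of degrees between two exponent vectors -/
lemma exists_between (lo hi : σ →₀ ℕ) (h : lo ≤ hi) (N : ℕ) (h1 : lo.degree ≤ N)
    (h2 : N ≤ hi.degree) : ∃ α : σ →₀ ℕ, lo ≤ α ∧ α ≤ hi ∧ α.degree = N := by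
  obtain ⟨d, hd⟩ : ∃ d, N = lo.degree + d := ⟨N - lo.degree, by omega⟩
  induction d generalizing lo N with
  | zero => exact ⟨lo, le_rfl, h, by omega⟩
  | succ d ih =>
    -- some coordinate can be increased
    have hne : ∃ l, lo l < hi l := by
      by_contra hcon
      push Not at hcon
      have : hi ≤ lo := fun l => hcon l
      have : hi = lo := le_antisymm this h
      rw [this] at h2
      omega
    obtain ⟨l, hl⟩ := hne
    have hle : lo + Finsupp.single l 1 ≤ hi := by
      intro j
      by_cases hj : l = j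
      · subst hj; simp; omega
      · simp [hj]; exact h j
    obtain ⟨α, hα1, hα2, hα3⟩ := ih (lo + Finsupp.single l 1) hle N
      (by rw [map_add, Finsupp.degree_single]; omega) h2
      (by rw [map_add, Finsupp.degree_single]; omega)
    exact ⟨α, le_trans (by simp) hα1, hα2, hα3⟩


lemma w_eq (a b : ℕ) (α δ : σ →₀ ℕ) (h : α ≤ δ) (l : σ) :
    (b : k) * α l - (a : k) * ((δ - α) l : ℕ) = ((a : k) + b) * α l - a * δ l := by
  rw [Finsupp.tsub_apply, Nat.cast_sub (h l)]
  ring

lemma degree_tsub (α δ : σ →₀ ℕ) (h : α ≤ δ) : (δ - α).degree + α.degree = δ.degree := by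
  rw [← map_add, tsub_add_cancel_of_le h]

lemma Mtup_diff_mem [CharZero k] (a b e : ℕ) (ha : 0 < a) (hb : 0 < b) (he : 0 < e)
    (δ : σ →₀ ℕ) (hδ : δ.degree = (a + b) * e) (i j : σ) (hij : i ≠ j) (hi : δ i ≠ 0)
    (hj : δ j ≠ 0) :
    Mtup δ (Pi.single j (1 : k) - Pi.single i 1) ∈ Submodule.span k (Gset k σ a b e) := by
  have hae : 1 ≤ a * e := Nat.mul_pos ha he
  have hbe : 1 ≤ b * e := Nat.mul_pos hb he
  have hδ' : δ.degree = a * e + b * e := by rw [hδ]; ring
  -- bounds
  have hjδ : Finsupp.single j 1 ≤ δ := by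
    rw [Finsupp.single_le_iff]; omega
  have hlohi : Finsupp.single i 1 ≤ δ - Finsupp.single j 1 := by
    rw [Finsupp.single_le_iff, Finsupp.tsub_apply, Finsupp.single_apply, if_neg (Ne.symm hij)]
    omega
  have hhideg : (δ - Finsupp.single j 1).degree = a * e + b * e - 1 := by
    have := degree_tsub (Finsupp.single j 1) δ hjδ
    rw [Finsupp.degree_single] at this
    omega
  obtain ⟨α, hα1, hα2, hα3⟩ := exists_between (Finsupp.single i 1) (δ - Finsupp.single j 1) hlohi
    (a * e) (by rw [Finsupp.degree_single]; exact hae) (by rw [hhideg]; omega)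
  have hαδ : α ≤ δ := le_trans hα2 tsub_le_self
  have hαi : 1 ≤ α i := by
    have := hα1 i; simpa using this
  have hαj : α j + 1 ≤ δ j := by
    have := hα2 j
    rw [Finsupp.tsub_apply, Finsupp.single_apply, if_pos rfl] at this
    omega
  set α' : σ →₀ ℕ := α - Finsupp.single i 1 + Finsupp.single j 1 with hα'
  have hα'l : ∀ l, α' l = α l - (if l = i then 1 else 0) + (if l = j then 1 else 0) := by
    intro l
    simp only [hα', Finsupp.add_apply, Finsupp.tsub_apply, Finsupp.single_apply, eq_comm]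
  have hα'δ : α' ≤ δ := by
    intro l
    rw [hα'l]
    have := hαδ l
    by_cases h1 : l = j
    · subst h1
      rw [if_neg (Ne.symm hij), if_pos rfl]; omega
    · rw [if_neg h1]; split_ifs <;> omega
  have hα'deg : α'.degree = a * e := by
    have h1 : Finsupp.single i 1 ≤ α := hα1
    have := degree_tsub (Finsupp.single i 1) α h1
    rw [Finsupp.degree_single] at this
    rw [hα', map_add, Finsupp.degree_single]
    omega
  have hβdeg : (δ - α).degree = b * e := by
    have := degree_tsub α δ hαδ; omega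
  have hβ'deg : (δ - α').degree = b * e := by
    have := degree_tsub α' δ hα'δ; omega
  have hv := Mtup_mem_Gset (k := k) a b e α (δ - α) hα3 hβdeg
  have hv' := Mtup_mem_Gset (k := k) a b e α' (δ - α') hα'deg hβ'deg
  rw [add_tsub_cancel_of_le hαδ] at hv
  rw [add_tsub_cancel_of_le hα'δ] at hv'
  have hab : ((a : k) + b) ≠ 0 := by
    have : ((a + b : ℕ) : k) ≠ 0 := Nat.cast_ne_zero.mpr (by omega)
    simpa using this
  have hkey : Mtup δ (Pi.single j (1 : k) - Pi.single i 1) =
      ((a : k) + b)⁻¹ • (Mtup δ (fun l => (b : k) * α' l - (a : k) * ((δ - α') l : ℕ)) -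
        Mtup δ (fun l => (b : k) * α l - (a : k) * ((δ - α) l : ℕ))) := by
    rw [← Mtup_sub, ← Mtup_smul]
    congr 1
    funext l
    simp only [Pi.smul_apply, Pi.sub_apply, smul_eq_mul, w_eq a b α δ hαδ, w_eq a b α' δ hα'δ]
    have hcast : ((α' l : ℕ) : k) = α l - (if l = i then 1 else 0) + (if l = j then 1 else 0) := by
      have hle : (if l = i then 1 else 0) ≤ α l := by
        split_ifs with h
        · subst h; exact hαi
        · exact Nat.zero_le _
      rw [hα'l, Nat.cast_add, Nat.cast_sub hle]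
      split_ifs <;> simp
    rw [hcast]
    by_cases h1 : l = i
    · subst h1
      simp [hij]
      field_simp
      ring
    · by_cases h2 : l = j
      · subst h2
        simp [h1]
        field_simp
        ring
      · simp [h1, h2]
  rw [hkey]
  exact Submodule.smul_mem _ _ (Submodule.sub_mem _ (Submodule.subset_span hv')
    (Submodule.subset_span hv))


lemma Mtup_mem_of_sum_zero [CharZero k] (a b e : ℕ) (ha : 0 < a) (hb : 0 < b) (he : 0 < e)
    (δ : σ →₀ ℕ) (hδ : δ.degree = (a + b) * e) (c : σ → k)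
    (hc0 : ∀ i, δ i = 0 → c i = 0) (hsum : ∑ i, c i = 0) :
    Mtup δ c ∈ Submodule.span k (Gset k σ a b e) := by
  have hδne : δ ≠ 0 := by
    rintro rfl
    rw [map_zero] at hδ
    have : 0 < (a + b) * e := Nat.mul_pos (by omega) he
    omega
  obtain ⟨i₀, hi₀⟩ := DFunLike.ne_iff.mp hδne
  have hi₀' : δ i₀ ≠ 0 := by simpa using hi₀
  have hc : c = ∑ i, c i • (Pi.single i (1 : k) - Pi.single i₀ 1) := by
    funext l
    simp only [Finset.sum_apply, Pi.smul_apply, Pi.sub_apply, smul_eq_mul, mul_sub,
      Finset.sum_sub_distrib, Pi.single_apply, mul_ite, mul_one, mul_zero,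
      Finset.sum_ite_eq, Finset.mem_univ, if_true]
    by_cases hl : l = i₀
    · subst hl
      simp [hsum]
    · simp [hl]
  rw [hc, Mtup_sum]
  refine Submodule.sum_mem _ fun i _ => ?_
  rw [Mtup_smul]
  by_cases hi : i = i₀
  · subst hi
    rw [sub_self, Mtup_zero, smul_zero]
    exact Submodule.zero_mem _
  · by_cases hδi : δ i = 0
    · rw [hc0 i hδi, zero_smul]
      exact Submodule.zero_mem _
    · exact Submodule.smul_mem _ _
        (Mtup_diff_mem a b e ha hb he δ hδ i₀ i (Ne.symm hi) hi₀' hδi)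


theorem main [CharZero k] (a b e : ℕ) (ha : 0 < a) (hb : 0 < b) (he : 0 < e)
    (f : σ → MvPolynomial σ k) (hf : ∀ i, (f i).IsHomogeneous ((a + b) * e - 1))
    (hE : ∑ i, X i * f i = 0) :
    f ∈ Submodule.span k (Gset k σ a b e) := by
  classical
  have ht : 1 ≤ (a + b) * e := Nat.mul_pos (by omega) he
  set cδ : (σ →₀ ℕ) → σ → k :=
    fun δ i => if δ i = 0 then 0 else coeff (δ - Finsupp.single i 1) (f i) with hcδ
  set D : Finset (σ →₀ ℕ) :=
    Finset.univ.biUnion (fun i => (f i).support.image (· + Finsupp.single i 1)) with hD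
  have hdecomp : f = ∑ δ ∈ D, Mtup δ (cδ δ) := by
    funext i
    rw [Finset.sum_apply]
    ext m
    rw [coeff_sum]
    have hterm : ∀ δ : σ →₀ ℕ, coeff m (Mtup δ (cδ δ) i) =
        if δ = m + Finsupp.single i 1 then coeff m (f i) else 0 := by
      intro δ
      simp only [Mtup, coeff_monomial]
      by_cases h1 : δ = m + Finsupp.single i 1
      · subst h1
        rw [if_pos rfl, if_pos (by simp)]
        simp [hcδ]
      · rw [if_neg h1]
        by_cases h2 : δ - Finsupp.single i 1 = m
        · rw [if_pos h2]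
          have : δ i = 0 := by
            by_contra h3
            apply h1
            rw [← h2]
            ext l
            by_cases hl : i = l
            · subst hl; simp; omega
            · simp [hl]
          simp [hcδ, this]
        · rw [if_neg h2]
    simp only [hterm]
    rw [Finset.sum_ite_eq']
    split_ifs with hmem
    · rfl
    · by_contra hne
      apply hmem
      rw [hD, Finset.mem_biUnion]
      exact ⟨i, Finset.mem_univ _, Finset.mem_image.mpr ⟨m, mem_support_iff.mpr hne, rfl⟩⟩
  rw [hdecomp]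
  refine Submodule.sum_mem _ fun δ hδ => ?_
  rw [hD, Finset.mem_biUnion] at hδ
  obtain ⟨j, -, hδj⟩ := hδ
  obtain ⟨m, hm, rfl⟩ := Finset.mem_image.mp hδj
  have hmdeg : m.degree = (a + b) * e - 1 := by
    by_contra hne
    exact (mem_support_iff.mp hm) ((hf j).coeff_eq_zero hne)
  refine Mtup_mem_of_sum_zero a b e ha hb he _ ?_ _ ?_ ?_
  · rw [map_add, Finsupp.degree_single, hmdeg]; omega
  · intro i hi
    simp [hcδ, hi]
  · have h0 := congrArg (coeff (m + Finsupp.single j 1)) hE
    rw [coeff_sum, coeff_zero] at h0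
    rw [← h0]
    refine Finset.sum_congr rfl fun i _ => ?_
    rw [coeff_X_mul']
    simp only [hcδ, Finsupp.mem_support_iff]
    by_cases h : (m + Finsupp.single j 1 : σ →₀ ℕ) i = 0
    · rw [if_pos h, if_neg (not_not.mpr h)]
    · rw [if_neg h, if_pos h]

end Groth.Agent.Lib.Helper24WGauss
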