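import Mathlib

set_option autoImplicit false
universe u

namespace Groth.Agent.Lib.Helper24WeierProj

open Polynomial

theorem no_root_univ (k : Type u) [Field k] (a₁ a₂ a₃ a₄ a₆ : k) (ρ : k[X])
    (h : ρ ^ 3 + C a₂ * X * ρ ^ 2 + (C a₄ * X ^ 2 - C a₁ * X) * ρ -
      (X + C a₃ * X ^ 2 - C a₆ * X ^ 3) = 0) : False := by
  have h1 : (ρ.eval 0) ^ 3 = 0 := by
    have := congrArg (Polynomial.eval 0) h
    simpa using this
  have h0 : ρ.eval 0 = 0 := (pow_eq_zero_iff (by norm_num)).mp h1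
  have hdvd : X ∣ ρ := by
    rw [Polynomial.X_dvd_iff, Polynomial.coeff_zero_eq_eval_zero]
    exact h0
  obtain ⟨s, rfl⟩ := hdvd
  have h2 : X * (X ^ 2 * s ^ 3 + C a₂ * X ^ 2 * s ^ 2 + (C a₄ * X - C a₁) * X * s -
      (1 + C a₃ * X - C a₆ * X ^ 2)) = 0 := by
    rw [← h]
    ring
  have h3 := (mul_eq_zero.mp h2).resolve_left Polynomial.X_ne_zero
  have h4 := congrArg (Polynomial.eval 0) h3
  simp at h4

theorem cubic_irred {D : Type*} [CommRing D] [IsDomain D] (b c d : D)
    (h : ∀ r : D, r ^ 3 + b * r ^ 2 + c * r + d ≠ 0) :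
    Irreducible (Cubic.toPoly ⟨1, b, c, d⟩) := by
  have hmon : (Cubic.toPoly ⟨1, b, c, d⟩).Monic := Cubic.monic_of_a_eq_one'
  have hdeg : (Cubic.toPoly ⟨1, b, c, d⟩).natDegree = 3 := Cubic.natDegree_of_a_ne_zero' one_ne_zero
  rw [hmon.irreducible_iff_roots_eq_zero_of_degree_le_three (by omega) (by omega),
    Multiset.eq_zero_iff_forall_notMem]
  intro r hr
  rw [Polynomial.mem_roots hmon.ne_zero, Polynomial.IsRoot.def, Cubic.toPoly] at hr
  simp only [Polynomial.eval_add, Polynomial.eval_mul, Polynomial.eval_C, Polynomial.eval_pow,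
    Polynomial.eval_X] at hr
  exact h r (by linear_combination hr)

theorem s19178 (k : Type u) [Field k] (W : WeierstrassCurve k) :
    Irreducible (WeierstrassCurve.Projective.polynomial W) := by
  classical
  have hassoc : Associated (WeierstrassCurve.Projective.polynomial W)
      (-(WeierstrassCurve.Projective.polynomial W)) := ⟨-1, by simp⟩
  rw [hassoc.irreducible_iff, ← MulEquiv.irreducible_iff (MvPolynomial.finSuccEquiv k 2)]
  have himg : (MvPolynomial.finSuccEquiv k 2) (-(WeierstrassCurve.Projective.polynomial W)) =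
      Cubic.toPoly ⟨(1 : MvPolynomial (Fin 2) k), MvPolynomial.C W.a₂ * MvPolynomial.X 1,
        MvPolynomial.C W.a₄ * MvPolynomial.X 1 ^ 2 -
          MvPolynomial.C W.a₁ * MvPolynomial.X 0 * MvPolynomial.X 1,
        -(MvPolynomial.X 0 ^ 2 * MvPolynomial.X 1 +
          MvPolynomial.C W.a₃ * MvPolynomial.X 0 * MvPolynomial.X 1 ^ 2 -
          MvPolynomial.C W.a₆ * MvPolynomial.X 1 ^ 3)⟩ := by
    have h1 : (1 : Fin 3) = Fin.succ (0 : Fin 2) := rfl
    have h2 : (2 : Fin 3) = Fin.succ (1 : Fin 2) := rfl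
    have hC : ∀ a : k, (MvPolynomial.finSuccEquiv k 2) (MvPolynomial.C a) =
        Polynomial.C (MvPolynomial.C a) := by
      intro a
      have := (MvPolynomial.finSuccEquiv k 2).commutes a
      simpa [MvPolynomial.algebraMap_eq, Polynomial.algebraMap_apply] using this
    rw [WeierstrassCurve.Projective.polynomial, Cubic.toPoly]
    simp only [map_neg, map_sub, map_add, map_mul, map_pow, hC, h1, h2,
      MvPolynomial.finSuccEquiv_X_zero, MvPolynomial.finSuccEquiv_X_succ, Polynomial.C_neg,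
      Polynomial.C_sub, Polynomial.C_add, Polynomial.C_mul, Polynomial.C_pow, Polynomial.C_1]
    ring
  rw [himg]
  apply cubic_irred
  intro r hr
  let ψ : MvPolynomial (Fin 2) k →ₐ[k] Polynomial k := MvPolynomial.aeval ![1, Polynomial.X]
  have hψ0 : ψ (MvPolynomial.X 0) = 1 := by simp [ψ]
  have hψ1 : ψ (MvPolynomial.X 1) = Polynomial.X := by simp [ψ]
  have hψC : ∀ a : k, ψ (MvPolynomial.C a) = Polynomial.C a := by
    intro a
    simp [ψ]
  have h3 := congrArg ψ hr
  simp only [map_add, map_mul, map_pow, map_neg, map_sub, map_one, map_zero, hψ0, hψ1, hψC] at h3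
  exact no_root_univ k W.a₁ W.a₂ W.a₃ W.a₄ W.a₆ (ψ r) (by linear_combination h3)

end Groth.Agent.Lib.Helper24WeierProj
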