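import Mathlib

set_option autoImplicit false
set_option backward.isDefEq.respectTransparency.types false
set_option maxHeartbeats 4000000
set_option synthInstance.maxHeartbeats 400000
universe u v w

namespace Groth.Agent.Lib.Helper24WeilGm

open TensorProduct

/-- Units lift along the reductions modulo the maximal ideals of a semilocal ring, for an
integral algebra. -/
theorem units_lift {A : Type u} {E : Type v} [CommRing A] [CommRing E] [Algebra A E]
    [Algebra.IsIntegral A E] [Finite (MaximalSpectrum A)]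
    (F : MaximalSpectrum A → Type w) [∀ m, CommRing (F m)] (ρ : ∀ m, E →+* F m)
    (hsurj : ∀ m, Function.Surjective (ρ m))
    (hker : ∀ m, RingHom.ker (ρ m) = m.asIdeal.map (algebraMap A E))
    (b : ∀ m, (F m)ˣ) : ∃ c : Eˣ, ∀ m, ρ m c = b m := by
  classical
  have hcop : Pairwise (Function.onFun IsCoprime fun m => RingHom.ker (ρ m)) := by
    intro m m' hne
    change IsCoprime (RingHom.ker (ρ m)) (RingHom.ker (ρ m'))
    rw [Ideal.isCoprime_iff_sup_eq, hker, hker, ← Ideal.map_sup]
    have : m.asIdeal ⊔ m'.asIdeal = ⊤ :=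
      Ideal.IsMaximal.coprime_of_ne m.isMaximal m'.isMaximal
        (fun h => hne (MaximalSpectrum.ext h))
    rw [this, Ideal.map_top]
  choose x hx using fun m => hsurj m (b m)
  obtain ⟨c, hc⟩ := Ideal.exists_forall_sub_mem_ideal hcop x
  have hρc : ∀ m, ρ m c = b m := by
    intro m
    have := hc m
    rw [RingHom.mem_ker, map_sub, sub_eq_zero] at this
    rw [this, hx m]
  have hunit : IsUnit c := by
    by_contra hnu
    obtain ⟨𝔫, h𝔫, hc𝔫⟩ := exists_max_ideal_of_mem_nonunits (mem_nonunits_iff.mpr hnu)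
    haveI := h𝔫
    have hmax : (𝔫.comap (algebraMap A E)).IsMaximal :=
      Ideal.isMaximal_comap_of_isIntegral_of_isMaximal 𝔫
    let m : MaximalSpectrum A := ⟨_, hmax⟩
    have hle : RingHom.ker (ρ m) ≤ 𝔫 := by
      rw [hker]; exact Ideal.map_comap_le
    obtain ⟨c', hc'⟩ := hsurj m ((b m)⁻¹ : (F m)ˣ)
    have h1 : c * c' - 1 ∈ RingHom.ker (ρ m) := by
      rw [RingHom.mem_ker, map_sub, map_mul, hρc m, hc', map_one]
      simp
    have h2 : c * c' - 1 ∈ 𝔫 := hle h1
    have h3 : (1 : E) ∈ 𝔫 := by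
      have := 𝔫.sub_mem (𝔫.mul_mem_right c' hc𝔫) h2
      simpa using this
    exact h𝔫.ne_top ((Ideal.eq_top_iff_one 𝔫).mpr h3)
  exact ⟨hunit.unit, fun m => hρc m⟩

/-- the reduction map `A ⊗ B → (A/m) ⊗ B` -/
noncomputable def red {A B : Type u} [CommRing A] [CommRing B] [Algebra A B] (m : Ideal A) :
    A ⊗[A] B →ₐ[A] (A ⧸ m) ⊗[A] B :=
  Algebra.TensorProduct.map (Ideal.Quotient.mkₐ A m) (AlgHom.id A B)

theorem tensor_units_lift {A B : Type u} [CommRing A] [CommRing B] [Algebra A B]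
    [Module.Finite A B] [Finite (MaximalSpectrum A)]
    (b : ∀ m : MaximalSpectrum A, ((A ⧸ m.asIdeal) ⊗[A] B)ˣ) :
    ∃ c : (A ⊗[A] B)ˣ, ∀ m : MaximalSpectrum A, red (B := B) m.asIdeal c = b m := by
  haveI : Algebra.IsIntegral A (A ⊗[A] B) := Algebra.IsIntegral.of_finite A _
  refine units_lift (A := A) (E := A ⊗[A] B) (fun m => (A ⧸ m.asIdeal) ⊗[A] B)
    (fun m => (red (B := B) m.asIdeal).toRingHom) (fun m => ?_) (fun m => ?_) b
  · exact Algebra.TensorProduct.map_surjective _ _ (Ideal.Quotient.mkₐ_surjective A _)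
      Function.surjective_id
  · have h := Algebra.TensorProduct.rTensor_ker (R := A) (S := A) (C := B)
      (Ideal.Quotient.mkₐ A m.asIdeal) (Ideal.Quotient.mkₐ_surjective A _)
    have h2 : RingHom.ker (Ideal.Quotient.mkₐ A m.asIdeal) = m.asIdeal := Ideal.Quotient.mkₐ_ker A _
    rw [h2] at h
    change RingHom.ker (red (B := B) m.asIdeal) = _
    rw [red, h]
    rfl

end Groth.Agent.Lib.Helper24WeilGm
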