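import Mathlib
import Groth.Prelude.Def_WeilRes
import Groth.Agent.Lib.Helper27GaGm
import Groth.Agent.Lib.Helper24WeilGmA

set_option autoImplicit false
set_option backward.isDefEq.respectTransparency.types false
set_option maxHeartbeats 4000000
set_option synthInstance.maxHeartbeats 400000
universe u

namespace Groth.Agent.Lib.Helper24WeilGm

open CategoryTheory CategoryTheory.Limits AlgebraicGeometry TensorProduct
open Groth.Agent.Lib.Helper27.GaGm

section Affine

variable (A B : Type u) [CommRing A] [CommRing B] [Algebra A B]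

/-- the structure morphism `Spec B ⟶ Spec A` -/
noncomputable abbrev fAB : Spec (CommRingCat.of B) ⟶ Spec (CommRingCat.of A) :=
  Spec.map (CommRingCat.ofHom (algebraMap A B))

/-- `Spec C` as a scheme over `Spec A` -/
noncomputable abbrev TC (C : Type u) [CommRing C] [Algebra A C] : Over (Spec (CommRingCat.of A)) :=
  Over.mk (Spec.map (CommRingCat.ofHom (algebraMap A C)))

/-- functions on the base change of `Spec C` -/
noncomputable def kap (C : Type u) [CommRing C] [Algebra A C] :
    C ⊗[A] B →+* Γ((Red.bc (fAB A B) (TC A C)).left, ⊤) :=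
  fnHom (pullbackSpecIso A C B).hom

theorem kap_bijective (C : Type u) [CommRing C] [Algebra A C] :
    Function.Bijective (kap A B C) := by
  haveI : IsIso (pullbackSpecIso A C B).hom := inferInstance
  haveI : IsIso (pullbackSpecIso A C B).hom.appTop :=
    inferInstanceAs (IsIso ((pullbackSpecIso A C B).hom.app ⊤))
  have : IsIso ((Scheme.ΓSpecIso (CommRingCat.of (C ⊗[A] B))).inv ≫
      (pullbackSpecIso A C B).hom.appTop) := inferInstance
  exact ConcreteCategory.bijective_of_isIso _

variable {A} in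
/-- the morphism over `Spec A` induced by an algebra map -/
noncomputable def tphi {C C' : Type u} [CommRing C] [CommRing C'] [Algebra A C] [Algebra A C']
    (φ : C →ₐ[A] C') : TC A C' ⟶ TC A C :=
  Over.homMk (Spec.map (CommRingCat.ofHom φ.toRingHom)) (by
    change Spec.map _ ≫ Spec.map _ = Spec.map _
    rw [← Spec.map_comp, ← CommRingCat.ofHom_comp, AlgHom.toRingHom_eq_coe, AlgHom.comp_algebraMap])

theorem kap_natural {C C' : Type u} [CommRing C] [CommRing C'] [Algebra A C] [Algebra A C']
    (φ : C →ₐ[A] C') (x : C ⊗[A] B) :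
    ((Over.pullback (fAB A B)).map (tphi φ)).left.appTop (kap A B C x) =
      kap A B C' (Algebra.TensorProduct.map φ (AlgHom.id A B) x) := by
  induction x using TensorProduct.induction_on with
  | zero => simp
  | add x y hx hy => rw [map_add, map_add, map_add, map_add, hx, hy]
  | tmul c b =>
    set g := ((Over.pullback (fAB A B)).map (tphi φ)).left with hg
    have hg1 : g ≫ pullback.fst _ _ =
        pullback.fst _ _ ≫ Spec.map (CommRingCat.ofHom φ.toRingHom) := by
      rw [hg]; exact pullback.lift_fst _ _ _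
    have hg2 : g ≫ pullback.snd (TC A C).hom (fAB A B) = pullback.snd _ _ := by
      rw [hg]; exact pullback.lift_snd _ _ _
    change g.appTop (fn (pullbackSpecIso A C B).hom (c ⊗ₜ[A] b)) =
      fn (pullbackSpecIso A C' B).hom (φ c ⊗ₜ[A] b)
    rw [← fn_comp]
    have e1 := fn_pullbackSpecIso (R := A) (A := C) (B := B) g c b
    have e2 := fn_pullbackSpecIso (R := A) (A := C') (B := B) (𝟙 _) (φ c) b
    rw [Category.id_comp, Category.id_comp, Category.id_comp] at e2
    rw [e1, e2]
    congr 1
    · erw [hg1]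
      exact fn_specMap _ _ _
    · erw [hg2]
      rfl

end Affine


section Main

variable (A : Type u) [CommRing A]
  (B : Type u) [CommRing B] [Algebra A B]
  (P : Over (Spec (CommRingCat.of A)))
  (q : Red.bc (fAB A B) P ⟶ Red.Gm (Spec (CommRingCat.of B)))

/-- the function attached to a `T`-point of the Weil restriction -/
noncomputable def bet (T : Over (Spec (CommRingCat.of A))) (g : T ⟶ P) :
    Γ((Red.bc (fAB A B) T).left, ⊤) :=
  Red.gmFn (WeilRes.restr (fAB A B) q T g)

variable (hP : WeilRes.IsWeilRes (fAB A B) (Red.Gm (Spec (CommRingCat.of B))) P q)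

include hP in
theorem bet_injective (T : Over (Spec (CommRingCat.of A))) :
    Function.Injective (bet A B P q T) :=
  gmFn_injective.comp (hP T).1

theorem bet_isUnit (T : Over (Spec (CommRingCat.of A))) (g : T ⟶ P) :
    IsUnit (bet A B P q T g) := gmFn_isUnit _

include hP in
theorem bet_surj (T : Over (Spec (CommRingCat.of A))) (b : Γ((Red.bc (fAB A B) T).left, ⊤))
    (hb : IsUnit b) : ∃ g : T ⟶ P, bet A B P q T g = b := by
  obtain ⟨z, hz⟩ := gmFn_surjective b hb
  obtain ⟨g, hg⟩ := (hP T).2 z
  exact ⟨g, by rw [bet, hg, hz]⟩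

theorem bet_comp {T T₁ : Over (Spec (CommRingCat.of A))} (t : T₁ ⟶ T) (g : T ⟶ P) :
    bet A B P q T₁ (t ≫ g) =
      ((Over.pullback (fAB A B)).map t).left.appTop (bet A B P q T g) := by
  unfold bet
  rw [WeilRes.restr_comp, gmFn_comp]

include hP in
theorem main [Finite (MaximalSpectrum A)] [Module.Finite A B]
    (u : ∀ m : MaximalSpectrum A, Spec (CommRingCat.of (A ⧸ m.asIdeal)) ⟶ P.left)
    (hu : ∀ m : MaximalSpectrum A, u m ≫ P.hom =
      (Spec.map (CommRingCat.ofHom (Ideal.Quotient.mk m.asIdeal)))) :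
    ∃ s : Spec (CommRingCat.of A) ⟶ P.left, s ≫ P.hom = 𝟙 (Spec (CommRingCat.of A)) ∧
      ∀ m : MaximalSpectrum A,
        (Spec.map (CommRingCat.ofHom (Ideal.Quotient.mk m.asIdeal))) ≫ s = u m := by
  let ubar : ∀ m : MaximalSpectrum A, TC A (A ⧸ m.asIdeal) ⟶ P := fun m =>
    Over.homMk (u m) (hu m)
  let e : ∀ m : MaximalSpectrum A,
      (A ⧸ m.asIdeal) ⊗[A] B ≃+* Γ((Red.bc (fAB A B) (TC A (A ⧸ m.asIdeal))).left, ⊤) :=
    fun m => RingEquiv.ofBijective (kap A B (A ⧸ m.asIdeal)) (kap_bijective A B _)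
  let cm : ∀ m : MaximalSpectrum A, ((A ⧸ m.asIdeal) ⊗[A] B)ˣ := fun m =>
    Units.map (e m).symm.toMonoidHom (bet_isUnit A B P q _ (ubar m)).unit
  obtain ⟨c, hc⟩ := tensor_units_lift (B := B) cm
  have hb : IsUnit (kap A B A (c : A ⊗[A] B)) := c.isUnit.map (kap A B A)
  obtain ⟨sbar, hs⟩ := bet_surj A B P q hP (TC A A) _ hb
  have key : ∀ m : MaximalSpectrum A,
      tphi (Ideal.Quotient.mkₐ A m.asIdeal) ≫ sbar = ubar m := by
    intro m
    apply bet_injective A B P q hP
    rw [bet_comp, hs, kap_natural]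
    have h1 : Algebra.TensorProduct.map (Ideal.Quotient.mkₐ A m.asIdeal) (AlgHom.id A B)
        (c : A ⊗[A] B) = cm m := hc m
    rw [h1]
    change (e m) ((e m).symm _) = _
    rw [RingEquiv.apply_symm_apply]
    rfl
  refine ⟨sbar.left, ?_, fun m => ?_⟩
  · have := Over.w sbar
    rw [this]
    change Spec.map (CommRingCat.ofHom (algebraMap A A)) = _
    rw [Algebra.algebraMap_self, CommRingCat.ofHom_id, Spec.map_id]
  · have := congrArg (fun k => k.left) (key m)
    exact this

end Main

end Groth.Agent.Lib.Helper24WeilGm
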