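import Mathlib

set_option autoImplicit false

namespace Groth.Agent.Lib.Helper24Wronsk1
open Polynomial Module

variable {k : Type*} [Field k]

theorem finrank_le_one_of_forall {M : Type*} [AddCommGroup M] [Module k M] (W : Submodule k M)
    (w₀ : M) (h : ∀ w ∈ W, ∃ c : k, w = c • w₀) : finrank k W ≤ 1 := by
  classical
  have hle : W ≤ Submodule.span k (({w₀} : Finset M) : Set M) := by
    intro w hw
    obtain ⟨c, rfl⟩ := h w hw
    refine Submodule.smul_mem _ _ (Submodule.subset_span ?_)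
    simp
  have h1 : finrank k (Submodule.span k (({w₀} : Finset M) : Set M)) ≤ 1 :=
    (finrank_span_finset_le_card (R := k) ({w₀} : Finset M)).trans (by simp)
  exact (Submodule.finrank_mono hle).trans h1

theorem finrank_le_two_of_forall {M : Type*} [AddCommGroup M] [Module k M] (W : Submodule k M)
    (w₁ w₂ : M) (h : ∀ w ∈ W, ∃ c d : k, w = c • w₁ + d • w₂) : finrank k W ≤ 2 := by
  classical
  have hle : W ≤ Submodule.span k (({w₁, w₂} : Finset M) : Set M) := by
    intro w hw
    obtain ⟨c, d, rfl⟩ := h w hw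
    refine Submodule.add_mem _ (Submodule.smul_mem _ _ (Submodule.subset_span ?_))
      (Submodule.smul_mem _ _ (Submodule.subset_span ?_)) <;> simp
  have h1 : finrank k (Submodule.span k (({w₁, w₂} : Finset M) : Set M)) ≤ 2 :=
    (finrank_span_finset_le_card (R := k) ({w₁, w₂} : Finset M)).trans Finset.card_le_two
  exact (Submodule.finrank_mono hle).trans h1

/-- the linear system `V = k + X(X+1) k[X]_{≤ a-1}` -/
noncomputable def sysV (k : Type*) [Field k] (a : ℕ) : Submodule k k[X] :=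
  Submodule.span k {(1 : k[X])} ⊔
    ((Ideal.span {(X : k[X]) * (X + 1)}).restrictScalars k ⊓ Polynomial.degreeLE k ↑(a + 1))

theorem mem_sysV_imp {a : ℕ} {v : k[X]} (hv : v ∈ sysV k a) :
    v.natDegree ≤ a + 1 ∧ v.eval 0 = v.eval (-1) := by
  obtain ⟨y, hy, z, hz, rfl⟩ := Submodule.mem_sup.1 hv
  obtain ⟨c, rfl⟩ := Submodule.mem_span_singleton.1 hy
  obtain ⟨hz1, hz2⟩ := hz
  have hz1' : (X : k[X]) * (X + 1) ∣ z := Ideal.mem_span_singleton.1 hz1
  have hz2' : z ∈ degreeLE k ↑(a + 1) := hz2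
  rw [mem_degreeLE] at hz2'
  constructor
  · refine (natDegree_add_le _ _).trans (max_le ?_ ?_)
    · have : (c • (1 : k[X])).natDegree ≤ 0 := by
        rw [smul_eq_C_mul, mul_one]; exact (natDegree_C c).le
      omega
    · exact natDegree_le_iff_degree_le.2 hz2'
  · obtain ⟨F, rfl⟩ := hz1'
    simp

theorem mem_sysV_of {a : ℕ} (F : k[X]) (hF : (X * (X + 1) * F).natDegree ≤ a + 1) :
    X * (X + 1) * F ∈ sysV k a := by
  refine Submodule.mem_sup_right ⟨?_, ?_⟩
  · exact Ideal.mem_span_singleton.2 (Dvd.intro _ rfl)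
  · show X * (X + 1) * F ∈ degreeLE k ↑(a + 1)
    rw [mem_degreeLE]; exact natDegree_le_iff_degree_le.1 hF

/-- members of degree ≤ N divisible by `P` with `natDegree P = d` are `P * Q` with
`natDegree Q ≤ N - d`. -/
theorem exists_factor {P w : k[X]} {N : ℕ} (hP : P ≠ 0) (hw : w.natDegree ≤ N)
    (hdvd : w ∈ (Ideal.span {P}).restrictScalars k) :
    ∃ Q : k[X], w = P * Q ∧ Q.natDegree ≤ N - P.natDegree := by
  obtain ⟨Q, rfl⟩ := Ideal.mem_span_singleton.1 hdvd
  refine ⟨Q, rfl, ?_⟩
  by_cases hQ : Q = 0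
  · subst hQ; simp
  · rw [natDegree_mul hP hQ] at hw
    omega

end Groth.Agent.Lib.Helper24Wronsk1
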