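import Mathlib
import Groth.Agent.Lib.Helper24Wronsk1

set_option autoImplicit false

namespace Groth.Agent.Lib.Helper24Wronsk2
open Polynomial Module Groth.Agent.Lib.Helper24Wronsk1

variable {k : Type*} [Field k]

theorem natDegree_X_sub_C_pow (p : k) (a : ℕ) : ((X - C p) ^ a : k[X]).natDegree = a := by
  rw [natDegree_pow, natDegree_X_sub_C, mul_one]

theorem part1 (a : ℕ) (p : k) :
    finrank k ↥(sysV k a ⊓ (Ideal.span {((X : k[X]) - C p) ^ a}).restrictScalars k) ≤ 1 := by
  set A : k := (-p) ^ a - (-1 - p) ^ a with hA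
  set B : k := (-1 - p) ^ a with hB
  have hP : ((X : k[X]) - C p) ^ a ≠ 0 := pow_ne_zero _ (X_sub_C_ne_zero p)
  apply finrank_le_one_of_forall _ (((X : k[X]) - C p) ^ a * (C A * X - C B))
  rintro w ⟨hw1, hw2⟩
  obtain ⟨hdeg, hev⟩ := mem_sysV_imp hw1
  obtain ⟨Q, rfl, hQ⟩ := exists_factor hP hdeg hw2
  rw [natDegree_X_sub_C_pow] at hQ
  have hQ1 : Q.natDegree ≤ 1 := by omega
  obtain ⟨α, β, rfl⟩ := exists_eq_X_add_C_of_natDegree_le_one hQ1
  simp only [eval_mul, eval_pow, eval_sub, eval_X, eval_C, eval_add, zero_sub, mul_zero,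
    zero_add] at hev
  have hrel : A * β + B * α = 0 := by
    rw [hA, hB]; linear_combination hev
  by_cases hA0 : A = 0
  · have hB0 : B ≠ 0 := by
      intro hB0
      have h1 : (-1 - p) ^ a = 0 := hB0
      have h2 : (-p) ^ a = 0 := by
        have : (-p) ^ a - (-1 - p) ^ a = 0 := hA0
        rw [h1, sub_zero] at this; exact this
      have h3 : -1 - p = 0 := eq_zero_of_pow_eq_zero h1
      have h4 : -p = 0 := eq_zero_of_pow_eq_zero h2
      have : (1 : k) = 0 := by linear_combination -h3 + h4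
      exact one_ne_zero this
    have hα : α = 0 := by
      rw [hA0, zero_mul, zero_add] at hrel
      exact (mul_eq_zero.1 hrel).resolve_left hB0
    refine ⟨-β / B, ?_⟩
    rw [hα, hA0, smul_eq_C_mul]
    have : β = (-β / B) * (-B) := by field_simp
    conv_lhs => rw [this]
    simp only [C_0, zero_mul, zero_add, zero_sub, C_mul, C_neg]
    ring
  · refine ⟨α / A, ?_⟩
    have h1 : α = (α / A) * A := by field_simp
    have h2 : β = (α / A) * (-B) := by
      field_simp
      linear_combination hrel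
    rw [smul_eq_C_mul]
    conv_lhs => rw [h1, h2]
    simp only [C_mul, C_neg]
    ring

theorem part2 (a : ℕ) : finrank k ↥(sysV k a ⊓ degreeLT k 2) ≤ 1 := by
  apply finrank_le_one_of_forall _ (1 : k[X])
  rintro w ⟨hw1, hw2⟩
  obtain ⟨-, hev⟩ := mem_sysV_imp hw1
  have hw2' : w ∈ degreeLT k 2 := hw2
  rw [mem_degreeLT] at hw2'
  have hw3 : w.natDegree ≤ 1 := by
    by_cases hw0 : w = 0
    · simp [hw0]
    · have := (natDegree_lt_iff_degree_lt hw0).2 hw2'
      omega
  obtain ⟨α, β, rfl⟩ := exists_eq_X_add_C_of_natDegree_le_one hw3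
  simp only [eval_add, eval_mul, eval_C, eval_X, mul_zero, zero_add] at hev
  have hα : α = 0 := by linear_combination hev
  refine ⟨β, ?_⟩
  rw [hα, smul_eq_C_mul]
  simp

theorem s16263 (a : ℕ) :
    (∀ p : k, finrank k ↥(sysV k a ⊓ (Ideal.span {((X : k[X]) - C p) ^ a}).restrictScalars k) ≤ 1) ∧
      finrank k ↥(sysV k a ⊓ degreeLT k 2) ≤ 1 :=
  ⟨fun p => part1 a p, part2 a⟩

end Groth.Agent.Lib.Helper24Wronsk2
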