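import Mathlib
import Groth.Agent.Lib.Helper24Wronsk2

set_option autoImplicit false

namespace Groth.Agent.Lib.Helper24Wronsk3
open Polynomial Module Groth.Agent.Lib.Helper24Wronsk1 Groth.Agent.Lib.Helper24Wronsk2

variable {k : Type*} [Field k]

theorem sysV_le_degreeLT (a : ℕ) : sysV k a ≤ degreeLT k (a + 2) := by
  intro v hv
  obtain ⟨hdeg, -⟩ := mem_sysV_imp hv
  rw [mem_degreeLT]
  refine lt_of_le_of_lt degree_le_natDegree ?_
  exact_mod_cast Nat.lt_succ_of_le hdeg

instance (n : ℕ) : Module.Finite k (degreeLT k n) :=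
  Module.Finite.equiv (degreeLTEquiv k n).symm

theorem finrank_degreeLT (n : ℕ) : finrank k (degreeLT k n) = n := by
  rw [(degreeLTEquiv k n).finrank_eq, Module.finrank_fin_fun]

theorem three_le (a : ℕ) (P : k[X]) (hP : P ≠ 0)
    (hmem : ∀ Q : k[X], Q.natDegree ≤ 2 → P * Q ∈ sysV k a) :
    3 ≤ finrank k ↥(sysV k a ⊓ (Ideal.span {P}).restrictScalars k) := by
  set W := sysV k a ⊓ (Ideal.span {P}).restrictScalars k with hW
  have hfin : Module.Finite k W :=
    Submodule.finiteDimensional_of_le (inf_le_left.trans (sysV_le_degreeLT a))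
  have hmem' : ∀ Q : degreeLT k 3,
      ((LinearMap.mulLeft k P).comp (degreeLT k 3).subtype) Q ∈ W := by
    intro Q
    have hQ : (Q : k[X]).natDegree ≤ 2 := by
      have h := Q.2
      rw [mem_degreeLT] at h
      by_cases hQ0 : (Q : k[X]) = 0
      · simp [hQ0]
      · have := (natDegree_lt_iff_degree_lt hQ0).2 h
        omega
    refine ⟨hmem _ hQ, ?_⟩
    exact Ideal.mem_span_singleton.2 (dvd_mul_right _ _)
  let f : degreeLT k 3 →ₗ[k] W :=
    LinearMap.codRestrict W ((LinearMap.mulLeft k P).comp (degreeLT k 3).subtype) hmem'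
  have hf : Function.Injective f := by
    intro Q Q' h
    have h' : P * (Q : k[X]) = P * (Q' : k[X]) := congrArg Subtype.val h
    exact Subtype.ext (mul_left_cancel₀ hP h')
  have := LinearMap.finrank_le_finrank_of_injective hf
  rwa [finrank_degreeLT] at this

theorem natDegree_X_add_one_pow_le (j : ℕ) : (((X : k[X]) + 1) ^ j).natDegree ≤ j := by
  refine natDegree_pow_le.trans ?_
  have : ((X : k[X]) + 1).natDegree ≤ 1 := by
    have := natDegree_X_add_C (1 : k)
    rw [C_1] at this; omega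
  calc j * ((X : k[X]) + 1).natDegree ≤ j * 1 := Nat.mul_le_mul_left _ this
    _ = j := mul_one j

theorem mem_case (a i j : ℕ) (hij : i + j + 1 = a) (Q : k[X]) (hQ : Q.natDegree ≤ 2) :
    (X * (X + 1) * (X ^ i * (X + 1) ^ j * Q) : k[X]) ∈ sysV k (a + 2) := by
  apply mem_sysV_of
  have h1 : ((X : k[X]) * (X + 1)).natDegree ≤ 2 := by
    refine natDegree_mul_le.trans ?_
    have := natDegree_X_add_one_pow_le (k := k) 1
    rw [pow_one] at this
    have h2 : (X : k[X]).natDegree ≤ 1 := natDegree_X_le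
    omega
  have h2 : ((X : k[X]) ^ i * (X + 1) ^ j * Q).natDegree ≤ i + j + 2 := by
    refine natDegree_mul_le.trans ?_
    have h3 : ((X : k[X]) ^ i * (X + 1) ^ j).natDegree ≤ i + j := by
      refine natDegree_mul_le.trans ?_
      have := natDegree_X_add_one_pow_le (k := k) j
      have h4 : ((X : k[X]) ^ i).natDegree ≤ i := natDegree_X_pow_le i
      omega
    omega
  refine natDegree_mul_le.trans ?_
  omega

theorem le_two (a i j : ℕ) (hi : 0 < i) (hj : 0 < j) (hij : i + j + 1 = a) (p q : k)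
    (hne : ¬ ((p = 0 ∧ q = -1) ∨ (p = -1 ∧ q = 0))) :
    finrank k ↥(sysV k a ⊓
      (Ideal.span {((X : k[X]) - C p) ^ i * (X - C q) ^ j}).restrictScalars k) ≤ 2 := by
  set P : k[X] := (X - C p) ^ i * (X - C q) ^ j with hPdef
  have hP : P ≠ 0 :=
    mul_ne_zero (pow_ne_zero _ (X_sub_C_ne_zero p)) (pow_ne_zero _ (X_sub_C_ne_zero q))
  have hPdeg : P.natDegree = i + j := by
    rw [hPdef, natDegree_mul (pow_ne_zero _ (X_sub_C_ne_zero p))
      (pow_ne_zero _ (X_sub_C_ne_zero q)), natDegree_X_sub_C_pow, natDegree_X_sub_C_pow]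
  set c₀ : k := (-p) ^ i * (-q) ^ j with hc₀
  set c₁ : k := (-1 - p) ^ i * (-1 - q) ^ j with hc₁
  have hPe0 : P.eval 0 = c₀ := by simp [hPdef, hc₀]
  have hPe1 : P.eval (-1) = c₁ := by simp [hPdef, hc₁]
  -- common analysis of members
  have key : ∀ w ∈ sysV k a ⊓ (Ideal.span {P}).restrictScalars k, ∃ α β γ : k,
      w = P * (C α * X ^ 2 + C β * X + C γ) ∧ c₀ * γ = c₁ * (α - β + γ) := by
    rintro w ⟨hw1, hw2⟩
    obtain ⟨hdeg, hev⟩ := mem_sysV_imp hw1
    obtain ⟨Q, rfl, hQ⟩ := exists_factor hP hdeg hw2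
    rw [hPdeg] at hQ
    have hQ2 : Q.natDegree < 3 := by omega
    have hQe : Q = C (Q.coeff 2) * X ^ 2 + C (Q.coeff 1) * X + C (Q.coeff 0) := by
      conv_lhs => rw [Q.as_sum_range' 3 hQ2]
      simp [Finset.sum_range_succ, ← C_mul_X_pow_eq_monomial]
      ring
    refine ⟨Q.coeff 2, Q.coeff 1, Q.coeff 0, by rw [← hQe], ?_⟩
    have e0 : eval 0 (P * Q) = c₀ * eval 0 Q := by rw [eval_mul, hPe0]
    have e1 : eval (-1) (P * Q) = c₁ * eval (-1) Q := by rw [eval_mul, hPe1]
    rw [e0, e1, hQe] at hev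
    simp only [eval_add, eval_mul, eval_C, eval_pow, eval_X] at hev
    linear_combination hev
  by_cases h1 : c₁ = 0
  · have h0 : c₀ ≠ 0 := by
      intro h0
      apply hne
      rw [hc₀] at h0
      rw [hc₁] at h1
      rcases mul_eq_zero.1 h0 with h0 | h0 <;> rcases mul_eq_zero.1 h1 with h1 | h1
      · have e1 := eq_zero_of_pow_eq_zero h0
        have e2 := eq_zero_of_pow_eq_zero h1
        exfalso
        have : (1 : k) = 0 := by linear_combination e1 - e2
        exact one_ne_zero this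
      · have e1 := eq_zero_of_pow_eq_zero h0
        have e2 := eq_zero_of_pow_eq_zero h1
        left
        exact ⟨by linear_combination -e1, by linear_combination -e2⟩
      · have e1 := eq_zero_of_pow_eq_zero h0
        have e2 := eq_zero_of_pow_eq_zero h1
        right
        exact ⟨by linear_combination -e2, by linear_combination -e1⟩
      · have e1 := eq_zero_of_pow_eq_zero h0
        have e2 := eq_zero_of_pow_eq_zero h1
        exfalso
        have : (1 : k) = 0 := by linear_combination e1 - e2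
        exact one_ne_zero this
    apply finrank_le_two_of_forall _ (P * X ^ 2) (P * X)
    intro w hw
    obtain ⟨α, β, γ, rfl, hrel⟩ := key w hw
    rw [h1, zero_mul] at hrel
    have hγ : γ = 0 := (mul_eq_zero.1 hrel).resolve_left h0
    refine ⟨α, β, ?_⟩
    rw [hγ, smul_eq_C_mul, smul_eq_C_mul]
    simp only [C_0, add_zero]
    ring
  · apply finrank_le_two_of_forall _ (P * (X ^ 2 + X)) (P * (C (c₀ / c₁ - 1) * X ^ 2 + 1))
    intro w hw
    obtain ⟨α, β, γ, rfl, hrel⟩ := key w hw
    have hα : α = β + (c₀ / c₁ - 1) * γ := by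
      field_simp
      linear_combination -hrel
    refine ⟨β, γ, ?_⟩
    rw [hα, smul_eq_C_mul, smul_eq_C_mul]
    simp only [C_add, C_mul]
    ring

theorem s16264 (a i j : ℕ) (hi : 0 < i) (hj : 0 < j) (hij : i + j + 1 = a) (p q : k) :
    3 ≤ finrank k ↥(sysV k a ⊓
      (Ideal.span {((X : k[X]) - C p) ^ i * (X - C q) ^ j}).restrictScalars k) ↔
      (p = 0 ∧ q = -1) ∨ (p = -1 ∧ q = 0) := by
  constructor
  · intro h
    by_contra hne
    have := le_two a i j hi hj hij p q hne
    omega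
  · obtain ⟨i', rfl⟩ : ∃ i', i = i' + 1 := ⟨i - 1, by omega⟩
    obtain ⟨j', rfl⟩ : ∃ j', j = j' + 1 := ⟨j - 1, by omega⟩
    obtain ⟨a', rfl⟩ : ∃ a', a = a' + 2 := ⟨a - 2, by omega⟩
    rintro (⟨rfl, rfl⟩ | ⟨rfl, rfl⟩)
    · apply three_le
      · exact mul_ne_zero (pow_ne_zero _ (X_sub_C_ne_zero _)) (pow_ne_zero _ (X_sub_C_ne_zero _))
      · intro Q hQ
        have := mem_case (k := k) a' i' j' (by omega) Q hQ
        convert this using 1
        simp only [C_0, sub_zero, C_neg, C_1, sub_neg_eq_add]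
        ring
    · apply three_le
      · exact mul_ne_zero (pow_ne_zero _ (X_sub_C_ne_zero _)) (pow_ne_zero _ (X_sub_C_ne_zero _))
      · intro Q hQ
        have := mem_case (k := k) a' j' i' (by omega) Q hQ
        convert this using 1
        simp only [C_0, sub_zero, C_neg, C_1, sub_neg_eq_add]
        ring

end Groth.Agent.Lib.Helper24Wronsk3
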