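import Mathlib
import Groth.Agent.Lib.Helper24Wronsk3

set_option autoImplicit false

namespace Groth.Agent.Lib.Helper24Wronsk4
open Polynomial Module Groth.Agent.Lib.Helper24Wronsk1 Groth.Agent.Lib.Helper24Wronsk2

variable {k : Type*} [Field k]

theorem line_of_rel (P₀ : k[X]) (A B : k) (hAB : ¬ (A = 0 ∧ B = 0)) (α β : k)
    (hrel : A * β + B * α = 0) :
    ∃ c : k, P₀ * (C α * X + C β) = c • (P₀ * (C A * X - C B)) := by
  by_cases hA0 : A = 0
  · have hB0 : B ≠ 0 := fun h => hAB ⟨hA0, h⟩
    have hα : α = 0 := by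
      rw [hA0, zero_mul, zero_add] at hrel
      exact (mul_eq_zero.1 hrel).resolve_left hB0
    refine ⟨-β / B, ?_⟩
    rw [hα, hA0, smul_eq_C_mul]
    have : β = (-β / B) * (-B) := by field_simp
    conv_lhs => rw [this]
    simp only [C_0, zero_mul, zero_add, zero_sub, C_mul, C_neg]
    ring
  · refine ⟨α / A, ?_⟩
    have h1 : α = (α / A) * A := by field_simp
    have h2 : β = (α / A) * (-B) := by
      field_simp
      linear_combination hrel
    rw [smul_eq_C_mul]
    conv_lhs => rw [h1, h2]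
    simp only [C_mul, C_neg]
    ring

theorem mul_derivative_pow (f : k[X]) (n : ℕ) :
    f * derivative (f ^ n) = C (n : k) * f ^ n * derivative f := by
  cases n with
  | zero => simp
  | succ m =>
    rw [derivative_pow_succ]
    push_cast
    ring

/-- the first order ODE satisfied by `(X+1)^i (X-q)^M` -/
theorem ode (i M : ℕ) (q : k) :
    X * (X * derivative (((X : k[X]) + 1) ^ i * (X - C q) ^ M))
      + C (1 - q) * (X * derivative (((X : k[X]) + 1) ^ i * (X - C q) ^ M))
      - C q * derivative (((X : k[X]) + 1) ^ i * (X - C q) ^ M)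
    = C ((i : k) + M) * (X * (((X : k[X]) + 1) ^ i * (X - C q) ^ M))
      + C ((M : k) - i * q) * (((X : k[X]) + 1) ^ i * (X - C q) ^ M) := by
  have h1 := mul_derivative_pow ((X : k[X]) + 1) i
  have h2 := mul_derivative_pow ((X : k[X]) - C q) M
  have d1 : derivative ((X : k[X]) + 1) = 1 := by
    rw [derivative_add, derivative_X, derivative_one, add_zero]
  have d2 : derivative ((X : k[X]) - C q) = 1 := by
    rw [derivative_sub, derivative_X, derivative_C, sub_zero]
  rw [d1, mul_one] at h1
  rw [d2, mul_one] at h2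
  rw [derivative_mul]
  simp only [C_add, C_sub, C_mul, C_1]
  have e : X * (X * (derivative (((X : k[X]) + 1) ^ i) * (X - C q) ^ M +
        (X + 1) ^ i * derivative ((X - C q) ^ M)))
      + (1 - C q) * (X * (derivative (((X : k[X]) + 1) ^ i) * (X - C q) ^ M +
        (X + 1) ^ i * derivative ((X - C q) ^ M)))
      - C q * (derivative (((X : k[X]) + 1) ^ i) * (X - C q) ^ M +
        (X + 1) ^ i * derivative ((X - C q) ^ M))
      = (X - C q) * (X - C q) ^ M * ((X + 1) * derivative (((X : k[X]) + 1) ^ i))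
        + (X + 1) * (X + 1) ^ i * ((X - C q) * derivative ((X - C q) ^ M)) := by ring
  rw [e, h1, h2]
  ring

theorem no_two_consecutive [CharZero k] (i M : ℕ) (q : k) (hq : q ≠ 0) (n : ℕ) (hn : n ≤ i + M) :
    ¬ ((((X : k[X]) + 1) ^ i * (X - C q) ^ M).coeff n = 0 ∧
      (((X : k[X]) + 1) ^ i * (X - C q) ^ M).coeff (n + 1) = 0) := by
  set P : k[X] := ((X : k[X]) + 1) ^ i * (X - C q) ^ M with hP
  rintro ⟨h0, h1⟩
  have hode := ode i M q
  rw [← hP] at hode
  have step : ∀ t, P.coeff t = 0 → P.coeff (t + 1) = 0 → P.coeff (t + 2) = 0 := by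
    intro t ht0 ht1
    have hx : (X * derivative P).coeff t = 0 := by
      cases t with
      | zero => simp
      | succ s => rw [coeff_X_mul, coeff_derivative, ht0, zero_mul]
    have := congrArg (fun f => f.coeff (t + 1)) hode
    simp only [coeff_add, coeff_sub, coeff_X_mul, coeff_C_mul, coeff_derivative, ht0, ht1,
      mul_zero, zero_mul, add_zero, hx] at this
    have h3 : q * (P.coeff (t + 1 + 1) * ((t : k) + 1 + 1)) = 0 := by
      have := this
      push_cast at this
      linear_combination -this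
    rcases mul_eq_zero.1 h3 with h | h
    · exact absurd h hq
    · rcases mul_eq_zero.1 h with h | h
      · exact h
      · exfalso
        have : ((t + 2 : ℕ) : k) = 0 := by push_cast; linear_combination h
        exact (Nat.cast_ne_zero.2 (by omega)) this
  have all : ∀ t, P.coeff (n + t) = 0 ∧ P.coeff (n + t + 1) = 0 := by
    intro t
    induction t with
    | zero => exact ⟨h0, h1⟩
    | succ t ih => exact ⟨ih.2, step _ ih.1 ih.2⟩
  have hmonic : P.Monic := by
    rw [hP]
    exact ((monic_X_add_C (1 : k)).pow i |>.mul ((monic_X_sub_C q).pow M)) |> fun h => by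
      simpa using h
  have hdeg : P.natDegree = i + M := by
    rw [hP]
    have m1 : (((X : k[X]) + C 1) ^ i).Monic := (monic_X_add_C (1 : k)).pow i
    have m2 : (((X : k[X]) - C q) ^ M).Monic := (monic_X_sub_C q).pow M
    have := m1.natDegree_mul m2
    rw [(monic_X_add_C (1 : k)).natDegree_pow, (monic_X_sub_C q).natDegree_pow,
      natDegree_X_add_C, natDegree_X_sub_C, C_1] at this
    simpa using this
  have hc : P.coeff (i + M) = 1 := by
    rw [← hdeg]; exact hmonic.coeff_natDegree
  have := (all (i + M - n)).1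
  rw [Nat.add_sub_cancel' hn, hc] at this
  exact one_ne_zero this

theorem s16262 [CharZero k] (a b i : ℕ) (ha : 0 < a) (hiab : i < a + b) (q : k) (hq : q ≠ 0) :
    finrank k ↥((degreeLE k ↑(a + b - i) ⊓
      LinearMap.ker ((lcoeff k a).comp (LinearMap.mulLeft k (((X : k[X]) + 1) ^ i)))) ⊓
      (Ideal.span {((X : k[X]) - C q) ^ (a + b - i - 1)}).restrictScalars k) ≤ 1 := by
  obtain ⟨a', rfl⟩ : ∃ a', a = a' + 1 := ⟨a - 1, by omega⟩
  set M := a' + 1 + b - i - 1 with hM
  set P : k[X] := ((X : k[X]) + 1) ^ i * (X - C q) ^ M with hP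
  have hne := no_two_consecutive i M q hq a' (by omega)
  rw [← hP] at hne
  have hP₀ : ((X : k[X]) - C q) ^ M ≠ 0 := pow_ne_zero _ (X_sub_C_ne_zero q)
  apply finrank_le_one_of_forall _
    (((X : k[X]) - C q) ^ M * (C (P.coeff (a' + 1)) * X - C (P.coeff a')))
  rintro w ⟨⟨hw1, hw2⟩, hw3⟩
  have hw1' : w ∈ degreeLE k ↑(a' + 1 + b - i) := hw1
  rw [mem_degreeLE] at hw1'
  have hdeg : w.natDegree ≤ a' + 1 + b - i := natDegree_le_iff_degree_le.2 hw1'
  obtain ⟨Q, rfl, hQ⟩ := exists_factor hP₀ hdeg hw3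
  rw [natDegree_X_sub_C_pow] at hQ
  have hQ1 : Q.natDegree ≤ 1 := by omega
  obtain ⟨α, β, rfl⟩ := exists_eq_X_add_C_of_natDegree_le_one hQ1
  have hw2' : (((X : k[X]) + 1) ^ i * ((X - C q) ^ M * (C α * X + C β))).coeff (a' + 1) = 0 := by
    have := LinearMap.mem_ker.1 hw2
    simpa using this
  have hexp : ((X : k[X]) + 1) ^ i * ((X - C q) ^ M * (C α * X + C β))
      = (P * C α) * X + P * C β := by rw [hP]; ring
  rw [hexp, coeff_add, coeff_mul_X, coeff_mul_C, coeff_mul_C] at hw2'
  apply line_of_rel _ _ _ (fun h => hne ⟨h.2, h.1⟩)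
  linear_combination hw2'

end Groth.Agent.Lib.Helper24Wronsk4
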