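import Mathlib

set_option autoImplicit false

namespace Groth.Agent.Lib.Helper24Wronsk5
open Polynomial

variable {k : Type*} [Field k]

theorem choose_rec (N r : ℕ) :
    ((N.choose (r + 1) : ℕ) : k) * ((r : k) + 1) = ((N.choose r : ℕ) : k) * ((N : k) - r) := by
  have h := Nat.choose_succ_right_eq N r
  by_cases hr : r ≤ N
  · have := congrArg (Nat.cast (R := k)) h
    push_cast [Nat.cast_sub hr] at this
    exact this
  · push Not at hr
    rw [Nat.choose_eq_zero_of_lt hr, Nat.choose_eq_zero_of_lt (by omega : N < r + 1)]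
    simp

/-- coefficients of the polynomial `h` -/
noncomputable def hc (k : Type*) [Field k] (i j n m : ℕ) : k :=
  if m ≤ n then ((i.choose (n - m) * j.choose m : ℕ) : k) else 0

theorem hc_rec (i j n s : ℕ) :
    ((s : k) + 1) * ((i : k) - n + s + 1) * hc k i j n (s + 1)
      = ((n : k) - s) * ((j : k) - s) * hc k i j n s := by
  unfold hc
  by_cases h1 : s + 1 ≤ n
  · have h2 : s ≤ n := by omega
    rw [if_pos h1, if_pos h2]
    obtain ⟨r, hr⟩ : ∃ r, n = s + 1 + r := ⟨n - (s + 1), by omega⟩
    have e1 : n - (s + 1) = r := by omega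
    have e2 : n - s = r + 1 := by omega
    rw [e1, e2]
    have a1 := choose_rec (k := k) i r
    have a2 := choose_rec (k := k) j s
    have hn : (n : k) = s + 1 + r := by rw [hr]; push_cast; ring
    rw [hn]
    push_cast
    linear_combination (-(j.choose (s + 1) : k) * ((s : k) + 1)) * a1
      + ((i.choose (r + 1) : k) * ((r : k) + 1)) * a2
  · rw [if_neg h1]
    by_cases h2 : s ≤ n
    · have : s = n := by omega
      subst this
      simp
    · rw [if_neg h2]; simp

/-- the polynomial `h` -/
noncomputable def hpoly (k : Type*) [Field k] (i j n : ℕ) : k[X] :=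
  ∑ l ∈ Finset.range (n + 1), C (((i.choose l) * (j.choose (n - l)) : ℕ) : k) * X ^ (n - l)

theorem hpoly_eq (i j n : ℕ) :
    hpoly k i j n = ∑ m ∈ Finset.range (n + 1), C (hc k i j n m) * X ^ m := by
  unfold hpoly
  rw [← Finset.sum_range_reflect (fun m => C (hc k i j n m) * X ^ m) (n + 1)]
  apply Finset.sum_congr rfl
  intro l hl
  have hl' : l ≤ n := by
    have := Finset.mem_range.1 hl; omega
  have e1 : n + 1 - 1 - l = n - l := by omega
  have e2 : n - (n - l) = l := by omega
  simp only [e1, hc, if_pos (Nat.sub_le n l), e2]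

theorem coeff_hpoly (i j n m : ℕ) : (hpoly k i j n).coeff m = hc k i j n m := by
  rw [hpoly_eq, finsetSum_coeff]
  simp only [coeff_C_mul_X_pow]
  rw [Finset.sum_ite_eq]
  by_cases hm : m ∈ Finset.range (n + 1)
  · rw [if_pos hm]
  · rw [if_neg hm]
    have : ¬ m ≤ n := by
      intro h; exact hm (Finset.mem_range.2 (by omega))
    simp [hc, this]

theorem coeff_D (f : k[X]) (m : ℕ) : (X * derivative f).coeff m = m * f.coeff m := by
  cases m with
  | zero => simp
  | succ s => rw [coeff_X_mul, coeff_derivative]; push_cast; ring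

/-- the hypergeometric ODE in theta form -/
theorem theta_ode (i j n : ℕ) :
    X * derivative (X * derivative (hpoly k i j n))
        + C ((i : k) - n) * (X * derivative (hpoly k i j n))
      = X * (X * derivative (X * derivative (hpoly k i j n))
        - C ((n : k) + j) * (X * derivative (hpoly k i j n))
        + C ((n : k) * j) * hpoly k i j n) := by
  ext m
  cases m with
  | zero => simp
  | succ s =>
    rw [coeff_X_mul]
    simp only [coeff_add, coeff_sub, coeff_C_mul, coeff_D, coeff_hpoly]
    have := hc_rec (k := k) i j n s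
    push_cast
    linear_combination this

/-- the ODE in usual form -/
theorem ode (i j n : ℕ) :
    X * (1 - X) * derivative (derivative (hpoly k i j n))
      = (C ((n : k) - 1 - i) + C (1 - (n : k) - j) * X) * derivative (hpoly k i j n)
        + C ((n : k) * j) * hpoly k i j n := by
  have h := theta_ode (k := k) i j n
  set f := hpoly k i j n with hf
  have e : X * (X * (1 - X) * derivative (derivative f)
      - ((C ((n : k) - 1 - i) + C (1 - (n : k) - j) * X) * derivative f
        + C ((n : k) * j) * f)) = 0 := by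
    rw [derivative_mul, derivative_X, one_mul] at h
    simp only [C_sub, C_add, C_mul, C_1] at h ⊢
    linear_combination h
  have := (mul_eq_zero.1 e).resolve_left X_ne_zero
  exact sub_eq_zero.1 this

theorem rootMultiplicity_le_one [CharZero k] (i j n : ℕ) (c : k) (hc0 : c ≠ 0) (hc1 : c ≠ 1) :
    rootMultiplicity c (hpoly k i j n) ≤ 1 := by
  by_contra hcon
  push Not at hcon
  set f := hpoly k i j n with hf
  have hf0 : f ≠ 0 := by
    intro h0
    rw [h0, rootMultiplicity_zero] at hcon
    omega
  obtain ⟨g, hg, hnd⟩ := exists_eq_pow_rootMultiplicity_mul_and_not_dvd f hf0 c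
  obtain ⟨ν, hν⟩ : ∃ ν, rootMultiplicity c f = ν + 2 := ⟨rootMultiplicity c f - 2, by omega⟩
  rw [hν] at hg
  have hgc : g.eval c ≠ 0 := by
    intro h
    exact hnd (dvd_iff_isRoot.2 h)
  have hode := ode (k := k) i j n
  rw [← hf] at hode
  set u : k[X] := X - C c with hu
  have du : derivative u = 1 := by rw [hu, derivative_sub, derivative_X, derivative_C, sub_zero]
  have d1 : derivative f = ((ν : k[X]) + 2) * u ^ (ν + 1) * g + u ^ (ν + 1 + 1) * derivative g := by
    rw [hg, derivative_mul, derivative_pow_succ, du]
    push_cast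
    simp only [C_add, C_1, map_natCast]
    ring
  have d2 : derivative (derivative f) = u ^ ν * (((ν : k[X]) + 2) * ((ν : k[X]) + 1) * g
      + u * (2 * ((ν : k[X]) + 2) * derivative g + u * derivative (derivative g))) := by
    rw [d1]
    simp only [derivative_mul, derivative_pow_succ, du, derivative_add, derivative_natCast,
      derivative_ofNat]
    push_cast
    simp only [C_add, C_1, map_natCast]
    ring
  rw [d2, d1, hg] at hode
  have hu0 : u ^ ν ≠ 0 := pow_ne_zero _ (X_sub_C_ne_zero c)
  have key : X * (1 - X) * (((ν : k[X]) + 2) * ((ν : k[X]) + 1) * g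
      + u * (2 * ((ν : k[X]) + 2) * derivative g + u * derivative (derivative g)))
      = u * ((C ((n : k) - 1 - i) + C (1 - (n : k) - j) * X)
          * (((ν : k[X]) + 2) * g + u * derivative g) + C ((n : k) * j) * (u * g)) := by
    apply mul_left_cancel₀ hu0
    linear_combination hode
  have hev := congrArg (eval c) key
  have huc : u.eval c = 0 := by simp [hu]
  simp only [eval_mul, eval_add, eval_sub, eval_X, eval_one, eval_C, huc, zero_mul, mul_zero,
    add_zero, eval_natCast, eval_ofNat] at hev
  have h1 : c * (1 - c) * (((ν : k) + 2) * ((ν : k) + 1) * g.eval c) = 0 := by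
    linear_combination hev
  have hν2 : ((ν : k) + 2) ≠ 0 := by
    have : ((ν + 2 : ℕ) : k) ≠ 0 := Nat.cast_ne_zero.2 (by omega)
    push_cast at this; exact this
  have hν1 : ((ν : k) + 1) ≠ 0 := by
    have : ((ν + 1 : ℕ) : k) ≠ 0 := Nat.cast_ne_zero.2 (by omega)
    push_cast at this; exact this
  have hc1' : (1 - c) ≠ 0 := sub_ne_zero.2 (Ne.symm hc1)
  exact (mul_ne_zero (mul_ne_zero hc0 hc1') (mul_ne_zero (mul_ne_zero hν2 hν1) hgc)) h1

end Groth.Agent.Lib.Helper24Wronsk5
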