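import Mathlib
import Groth.Agent.Lib.Helper24Wronsk4
import Groth.Agent.Lib.Helper24Wronsk5

set_option autoImplicit false

namespace Groth.Agent.Lib.Helper24Wronsk6
open Polynomial Module Groth.Agent.Lib.Helper24Wronsk1 Groth.Agent.Lib.Helper24Wronsk4
  Groth.Agent.Lib.Helper24Wronsk5

variable {k : Type*} [Field k]

/-- `DD a b R = X^{a+1} (X-1)^{b+1} d/dX (R / (X^a (X-1)^b))` -/
noncomputable def DD (k : Type*) [Field k] (a b : ℕ) : k[X] →ₗ[k] k[X] :=
  (LinearMap.mulLeft k ((X : k[X]) * (X - 1))).comp derivative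
    - LinearMap.mulLeft k ((a : k[X]) * (X - 1) + (b : k[X]) * X)

theorem DD_apply (a b : ℕ) (R : k[X]) :
    DD k a b R = X * (X - 1) * derivative R - ((a : k[X]) * (X - 1) + (b : k[X]) * X) * R := by
  simp [DD, mul_assoc]

theorem DD_mul (a b α β : ℕ) (S : k[X]) :
    DD k a b (X ^ α * (X - 1) ^ β * S) = X ^ α * (X - 1) ^ β *
      (X * (X - 1) * derivative S + ((α : k[X]) - (a : k[X])) * (X - 1) * S
        + ((β : k[X]) - (b : k[X])) * X * S) := by
  rw [DD_apply]
  have h1 := mul_derivative_pow (X : k[X]) α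
  have h2 := mul_derivative_pow ((X : k[X]) - 1) β
  have d2 : derivative ((X : k[X]) - 1) = 1 := by
    rw [derivative_sub, derivative_X, derivative_one, sub_zero]
  rw [derivative_X, mul_one] at h1
  rw [d2, mul_one] at h2
  simp only [map_natCast] at h1 h2
  simp only [derivative_mul]
  linear_combination ((X - 1) * (X - 1) ^ β * S) * h1 + (X * X ^ α * S) * h2

/-- solving `(X - c) S' - N S = g` in degree `< N` -/
theorem exists_solve [CharZero k] (c : k) (N : ℕ) (g : k[X]) (hg : g ∈ degreeLT k N) :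
    ∃ S : k[X], S ∈ degreeLT k N ∧ (X - C c) * derivative S - (N : k[X]) * S = g := by
  let T₀ : k[X] →ₗ[k] k[X] :=
    (LinearMap.mulLeft k ((X : k[X]) - C c)).comp derivative - LinearMap.mulLeft k (N : k[X])
  have hT₀ : ∀ S, T₀ S = (X - C c) * derivative S - (N : k[X]) * S := by
    intro S; simp [T₀]
  have hcoeff : ∀ S m, (T₀ S).coeff m
      = m * S.coeff m - c * (S.coeff (m + 1) * (m + 1)) - N * S.coeff m := by
    intro S m
    rw [hT₀, sub_mul, coeff_sub, coeff_sub, coeff_D, coeff_C_mul, coeff_derivative,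
      ← C_eq_natCast, coeff_C_mul]
  have hmaps : ∀ S ∈ degreeLT k N, T₀ S ∈ degreeLT k N := by
    intro S hS
    rw [mem_degreeLT, degree_lt_iff_coeff_zero] at hS ⊢
    intro m hm
    rw [hcoeff, hS m hm, hS (m + 1) (by omega)]
    simp
  let T : degreeLT k N →ₗ[k] degreeLT k N := T₀.restrict hmaps
  have hinj : Function.Injective T := by
    rw [← LinearMap.ker_eq_bot, LinearMap.ker_eq_bot']
    intro S hS
    by_contra hS0
    have hS0' : (S : k[X]) ≠ 0 := fun h => hS0 (Subtype.ext h)
    have hS1 : T₀ (S : k[X]) = 0 := by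
      have := congrArg Subtype.val hS
      simpa [T] using this
    have hlt : (S : k[X]).natDegree < N := by
      have := S.2
      rw [mem_degreeLT] at this
      exact (natDegree_lt_iff_degree_lt hS0').2 this
    have h := hcoeff (S : k[X]) (S : k[X]).natDegree
    rw [hS1, coeff_zero, coeff_eq_zero_of_natDegree_lt (Nat.lt_succ_self _)] at h
    have hlc : (S : k[X]).coeff (S : k[X]).natDegree ≠ 0 := by
      rw [coeff_natDegree]; exact leadingCoeff_ne_zero.2 hS0'
    have h2 : (((S : k[X]).natDegree : k) - N) * (S : k[X]).coeff (S : k[X]).natDegree = 0 := by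
      linear_combination -h
    rcases mul_eq_zero.1 h2 with h3 | h3
    · have : ((S : k[X]).natDegree : k) = N := sub_eq_zero.1 h3
      have := Nat.cast_injective this
      omega
    · exact hlc h3
  have hsurj : Function.Surjective T := LinearMap.injective_iff_surjective.1 hinj
  obtain ⟨S, hS⟩ := hsurj ⟨g, hg⟩
  refine ⟨S, S.2, ?_⟩
  have := congrArg Subtype.val hS
  rw [← hT₀]
  simpa [T] using this

end Groth.Agent.Lib.Helper24Wronsk6
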