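import Mathlib
import Groth.Agent.Lib.Helper24Wronsk6

set_option autoImplicit false

namespace Groth.Agent.Lib.Helper24Wronsk7
open Polynomial Module Groth.Agent.Lib.Helper24Wronsk1 Groth.Agent.Lib.Helper24Wronsk4
  Groth.Agent.Lib.Helper24Wronsk5 Groth.Agent.Lib.Helper24Wronsk6

variable {k : Type*} [Field k]

/-- the linear system of S16260 -/
noncomputable def sysU (k : Type*) [Field k] (a b : ℕ) : Submodule k k[X] :=
  ((Ideal.span {(X : k[X]) ^ (a + 1)}).restrictScalars k ⊓ degreeLE k ↑(a + b)) ⊔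
    ((Ideal.span {((X : k[X]) - 1) ^ (b + 1)}).restrictScalars k ⊓ degreeLE k ↑(a + b)) ⊔
    Submodule.span k {(X : k[X]) ^ (a + 1) * (X - 1) ^ (b + 1)}

theorem natDegree_X_sub_one_pow (n : ℕ) : (((X : k[X]) - 1) ^ n).natDegree = n := by
  have := Groth.Agent.Lib.Helper24Wronsk2.natDegree_X_sub_C_pow (1 : k) n
  rwa [C_1] at this

theorem mem_degreeLT_of_natDegree_lt {f : k[X]} {N : ℕ} (h : f.natDegree < N) :
    f ∈ degreeLT k N := by
  rw [mem_degreeLT]
  exact lt_of_le_of_lt degree_le_natDegree (by exact_mod_cast h)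

theorem natDegree_lt_of_mem_degreeLT {f : k[X]} {N : ℕ} (hN : 0 < N) (h : f ∈ degreeLT k N) :
    f.natDegree < N := by
  by_cases hf : f = 0
  · simpa [hf] using hN
  · rw [mem_degreeLT] at h
    exact (natDegree_lt_iff_degree_lt hf).2 h

/-- every member of `V` is `DD R` with `deg R ≤ a+b+1` -/
theorem sysU_le [CharZero k] (a b : ℕ) (ha : 0 < a) (hb : 0 < b) :
    sysU k a b ≤ Submodule.map (DD k a b) (degreeLT k (a + b + 2)) := by
  unfold sysU
  refine sup_le (sup_le ?_ ?_) ?_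
  · rintro f ⟨hf1, hf2⟩
    have hf2' : f ∈ degreeLE k ↑(a + b) := hf2
    rw [mem_degreeLE] at hf2'
    have hdeg : f.natDegree ≤ a + b := natDegree_le_iff_degree_le.2 hf2'
    obtain ⟨g, rfl, hg⟩ := exists_factor (pow_ne_zero _ X_ne_zero) hdeg hf1
    rw [natDegree_X_pow] at hg
    obtain ⟨S, hS1, hS2⟩ := exists_solve (1 : k) b g (mem_degreeLT_of_natDegree_lt (by omega))
    have hS3 := natDegree_lt_of_mem_degreeLT hb hS1
    refine ⟨X ^ a * S, mem_degreeLT_of_natDegree_lt ?_, ?_⟩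
    · refine lt_of_le_of_lt natDegree_mul_le ?_
      rw [natDegree_X_pow]; omega
    · have := DD_mul (k := k) a b a 0 S
      rw [pow_zero, mul_one] at this
      show DD k a b (X ^ a * S) = X ^ (a + 1) * g
      rw [this, ← hS2, C_1]
      push_cast
      ring
  · rintro f ⟨hf1, hf2⟩
    have hf2' : f ∈ degreeLE k ↑(a + b) := hf2
    rw [mem_degreeLE] at hf2'
    have hdeg : f.natDegree ≤ a + b := natDegree_le_iff_degree_le.2 hf2'
    have hne : ((X : k[X]) - 1) ^ (b + 1) ≠ 0 := by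
      have := pow_ne_zero (b + 1) (X_sub_C_ne_zero (1 : k))
      rwa [C_1] at this
    obtain ⟨g, rfl, hg⟩ := exists_factor hne hdeg hf1
    rw [natDegree_X_sub_one_pow] at hg
    obtain ⟨S, hS1, hS2⟩ := exists_solve (0 : k) a g (mem_degreeLT_of_natDegree_lt (by omega))
    have hS3 := natDegree_lt_of_mem_degreeLT ha hS1
    refine ⟨(X - 1) ^ b * S, mem_degreeLT_of_natDegree_lt ?_, ?_⟩
    · refine lt_of_le_of_lt natDegree_mul_le ?_
      rw [natDegree_X_sub_one_pow]; omega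
    · have := DD_mul (k := k) a b 0 b S
      rw [pow_zero, one_mul] at this
      show DD k a b ((X - 1) ^ b * S) = (X - 1) ^ (b + 1) * g
      rw [this, ← hS2, C_0, sub_zero]
      push_cast
      ring
  · rw [Submodule.span_le, Set.singleton_subset_iff]
    refine ⟨X ^ (a + 1) * (X - 1) ^ b, mem_degreeLT_of_natDegree_lt ?_, ?_⟩
    · refine lt_of_le_of_lt natDegree_mul_le ?_
      rw [natDegree_X_pow, natDegree_X_sub_one_pow]; omega
    · have := DD_mul (k := k) a b (a + 1) b 1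
      rw [mul_one] at this
      rw [this]
      simp only [derivative_one, mul_zero, zero_add, mul_one, sub_self, zero_mul, add_zero]
      push_cast
      ring

theorem DD_ker (a b : ℕ) : DD k a b (X ^ a * (X - 1) ^ b) = 0 := by
  have := DD_mul (k := k) a b a b 1
  rw [mul_one] at this
  rw [this]
  simp

/-- order of vanishing: if `(X-p)^m ∣ DD R` and `R(p) = 0` with `p ≠ 0, 1` then `(X-p)^(m+1) ∣ R`. -/
theorem pow_dvd_of_dvd_DD [CharZero k] (a b : ℕ) (p : k) (hp0 : p ≠ 0) (hp1 : p ≠ 1) (R : k[X])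
    (m : ℕ) (hdiv : (X - C p) ^ m ∣ DD k a b R) (hRp : R.eval p = 0) :
    (X - C p) ^ (m + 1) ∣ R := by
  by_cases hR : R = 0
  · rw [hR]; exact dvd_zero _
  obtain ⟨g, hg, hnd⟩ := exists_eq_pow_rootMultiplicity_mul_and_not_dvd R hR p
  have hpos : 0 < rootMultiplicity p R := (rootMultiplicity_pos hR).2 hRp
  by_cases hle : m + 1 ≤ rootMultiplicity p R
  · rw [hg]
    exact Dvd.dvd.mul_right (pow_dvd_pow _ hle) _
  exfalso
  push Not at hle
  obtain ⟨ν, hν⟩ : ∃ ν, rootMultiplicity p R = ν + 1 := ⟨rootMultiplicity p R - 1, by omega⟩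
  rw [hν] at hg
  set u : k[X] := X - C p with hu
  have du : derivative u = 1 := by rw [hu, derivative_sub, derivative_X, derivative_C, sub_zero]
  have hdiv' : u ^ (ν + 1) ∣ DD k a b R := (pow_dvd_pow _ (by omega)).trans hdiv
  have hexp : DD k a b R = u ^ ν * (X * (X - 1) * ((ν : k[X]) + 1) * g)
      + u ^ (ν + 1) * (X * (X - 1) * derivative g
        - ((a : k[X]) * (X - 1) + (b : k[X]) * X) * g) := by
    rw [DD_apply, hg, derivative_mul, derivative_pow_succ, du]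
    push_cast
    simp only [C_add, C_1, map_natCast]
    ring
  have h1 : u ^ (ν + 1) ∣ u ^ ν * (X * (X - 1) * ((ν : k[X]) + 1) * g) := by
    have h2 : u ^ (ν + 1) ∣ u ^ (ν + 1) * (X * (X - 1) * derivative g
        - ((a : k[X]) * (X - 1) + (b : k[X]) * X) * g) := dvd_mul_right _ _
    have := (dvd_add_left h2).1 (hexp ▸ hdiv')
    exact this
  rw [pow_succ, mul_dvd_mul_iff_left (pow_ne_zero _ (X_sub_C_ne_zero p))] at h1
  have h3 := dvd_iff_isRoot.1 h1
  simp only [IsRoot.def, eval_mul, eval_X, eval_sub, eval_one, eval_add, eval_natCast] at h3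
  have hgp : g.eval p ≠ 0 := fun h => hnd (dvd_iff_isRoot.2 h)
  have hν1 : ((ν : k) + 1) ≠ 0 := by
    have : ((ν + 1 : ℕ) : k) ≠ 0 := Nat.cast_ne_zero.2 (by omega)
    push_cast at this; exact this
  exact (mul_ne_zero (mul_ne_zero (mul_ne_zero hp0 (sub_ne_zero.2 hp1)) hν1) hgp) h3

/-- the dependency argument -/
theorem finrank_le_one_of_key (a b : ℕ) (p : k) (W : Submodule k k[X]) (ℓ : k[X] →ₗ[k] k)
    (hkey : ∀ R : k[X], R.natDegree ≤ a + b + 1 → R.eval p = 0 → DD k a b R ∈ W → ℓ R = 0 → R = 0)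
    (hrep : ∀ f ∈ W, ∃ R : k[X], R.natDegree ≤ a + b + 1 ∧ R.eval p = 0 ∧ DD k a b R = f) :
    finrank k W ≤ 1 := by
  by_cases hW0 : ∀ f ∈ W, f = 0
  · apply finrank_le_one_of_forall W 0
    intro f hf
    exact ⟨0, by rw [hW0 f hf, smul_zero]⟩
  push Not at hW0
  obtain ⟨f₁, hf₁, hf₁0⟩ := hW0
  obtain ⟨R₁, hR₁d, hR₁p, hR₁f⟩ := hrep f₁ hf₁
  have hℓ₁ : ℓ R₁ ≠ 0 := by
    intro h
    have := hkey R₁ hR₁d hR₁p (hR₁f ▸ hf₁) h
    rw [this, map_zero] at hR₁f
    exact hf₁0 hR₁f.symm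
  apply finrank_le_one_of_forall W f₁
  intro f₂ hf₂
  obtain ⟨R₂, hR₂d, hR₂p, hR₂f⟩ := hrep f₂ hf₂
  refine ⟨ℓ R₂ / ℓ R₁, ?_⟩
  set c := ℓ R₂ / ℓ R₁ with hc
  have hR : R₂ - c • R₁ = 0 := by
    apply hkey
    · refine (natDegree_sub_le _ _).trans (max_le hR₂d ?_)
      exact (natDegree_smul_le _ _).trans hR₁d
    · rw [eval_sub, eval_smul, hR₂p, hR₁p]; simp
    · rw [map_sub, map_smul, hR₁f, hR₂f]
      exact W.sub_mem hf₂ (W.smul_mem _ hf₁)
    · rw [map_sub, map_smul, hc, smul_eq_mul, div_mul_cancel₀ _ hℓ₁, sub_self]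
  have := congrArg (DD k a b) hR
  rw [map_sub, map_smul, hR₁f, hR₂f, map_zero] at this
  exact sub_eq_zero.1 this

end Groth.Agent.Lib.Helper24Wronsk7
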