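import Mathlib
import Groth.Agent.Lib.Helper24Wronsk7

set_option autoImplicit false

namespace Groth.Agent.Lib.Helper24Wronsk8
open Polynomial Module Groth.Agent.Lib.Helper24Wronsk1 Groth.Agent.Lib.Helper24Wronsk4
  Groth.Agent.Lib.Helper24Wronsk5 Groth.Agent.Lib.Helper24Wronsk6 Groth.Agent.Lib.Helper24Wronsk7

variable {k : Type*} [Field k]

/-- normalised representation -/
theorem exists_rep [CharZero k] (a b : ℕ) (ha : 0 < a) (hb : 0 < b) (p : k) (hp0 : p ≠ 0)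
    (hp1 : p ≠ 1) (f : k[X]) (hf : f ∈ sysU k a b) :
    ∃ R : k[X], R.natDegree ≤ a + b + 1 ∧ R.eval p = 0 ∧ DD k a b R = f := by
  obtain ⟨R₀, hR₀, hR₀f⟩ := sysU_le a b ha hb hf
  have hR₀d : R₀.natDegree < a + b + 2 := natDegree_lt_of_mem_degreeLT (by omega) hR₀
  have hden : p ^ a * (p - 1) ^ b ≠ 0 :=
    mul_ne_zero (pow_ne_zero _ hp0) (pow_ne_zero _ (sub_ne_zero.2 hp1))
  set κ : k := R₀.eval p / (p ^ a * (p - 1) ^ b) with hκ
  refine ⟨R₀ - κ • (X ^ a * (X - 1) ^ b), ?_, ?_, ?_⟩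
  · refine (natDegree_sub_le _ _).trans (max_le (by omega) ?_)
    refine (natDegree_smul_le _ _).trans (natDegree_mul_le.trans ?_)
    rw [natDegree_X_pow, natDegree_X_sub_one_pow]; omega
  · rw [eval_sub, eval_smul, eval_mul, eval_pow, eval_pow, eval_sub, eval_X, eval_one, smul_eq_mul,
      hκ, div_mul_cancel₀ _ hden, sub_self]
  · rw [map_sub, map_smul, DD_ker, smul_zero, sub_zero]
    exact hR₀f

theorem s16260 [CharZero k] (a b i j : ℕ) (ha : 0 < a) (hb : 0 < b) (hi : 0 < i)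
    (hiab : i ≤ a + b) (hj : i + j = a + b + 2) (p q : k) (hp0 : p ≠ 0) (hp1 : p ≠ 1)
    (hq0 : q ≠ 0) (hq1 : q ≠ 1) :
    finrank k ↥(sysU k a b ⊓
      (Ideal.span {((X : k[X]) - C p) ^ (i - 1) * (X - C q) ^ (j - 1)}).restrictScalars k) ≤ 1 := by
  obtain ⟨i', rfl⟩ : ∃ i', i = i' + 1 := ⟨i - 1, by omega⟩
  obtain ⟨j', rfl⟩ : ∃ j', j = j' + 1 := ⟨j - 1, by omega⟩
  show finrank k ↥(sysU k a b ⊓
      (Ideal.span {((X : k[X]) - C p) ^ i' * (X - C q) ^ j'}).restrictScalars k) ≤ 1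
  set W := sysU k a b ⊓
      (Ideal.span {((X : k[X]) - C p) ^ i' * (X - C q) ^ j'}).restrictScalars k with hW
  have hrep : ∀ f ∈ W, ∃ R : k[X], R.natDegree ≤ a + b + 1 ∧ R.eval p = 0 ∧ DD k a b R = f :=
    fun f hf => exists_rep a b ha hb p hp0 hp1 f hf.1
  have hdvd : ∀ R : k[X], DD k a b R ∈ W →
      ((X : k[X]) - C p) ^ i' * (X - C q) ^ j' ∣ DD k a b R :=
    fun R hR => Ideal.mem_span_singleton.1 hR.2
  by_cases hpq : p = q
  · subst hpq
    apply finrank_le_one_of_key a b p W (lcoeff k (a + b + 1)) ?_ hrep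
    intro R hRd hRp hRW hℓ
    have h1 := hdvd R hRW
    rw [← pow_add] at h1
    have h2 := pow_dvd_of_dvd_DD a b p hp0 hp1 R _ h1 hRp
    by_contra hR0
    have h3 := natDegree_le_of_dvd h2 hR0
    rw [Groth.Agent.Lib.Helper24Wronsk2.natDegree_X_sub_C_pow] at h3
    have h4 : R.natDegree = a + b + 1 := by omega
    have h5 : R.coeff (a + b + 1) = 0 := hℓ
    rw [← h4, coeff_natDegree] at h5
    exact hR0 (leadingCoeff_eq_zero.1 h5)
  · apply finrank_le_one_of_key a b p W (leval q) ?_ hrep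
    intro R hRd hRp hRW hℓ
    have hRq : R.eval q = 0 := hℓ
    have h1 := hdvd R hRW
    have h2 := pow_dvd_of_dvd_DD a b p hp0 hp1 R i' ((dvd_mul_right _ _).trans h1) hRp
    have h3 := pow_dvd_of_dvd_DD a b q hq0 hq1 R j' ((dvd_mul_left _ _).trans h1) hRq
    have hcop : IsCoprime (((X : k[X]) - C p) ^ (i' + 1)) (((X : k[X]) - C q) ^ (j' + 1)) :=
      (isCoprime_X_sub_C_of_isUnit_sub (sub_ne_zero.2 hpq).isUnit).pow
    have h4 := hcop.mul_dvd h2 h3
    by_contra hR0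
    have h5 := natDegree_le_of_dvd h4 hR0
    rw [natDegree_mul (pow_ne_zero _ (X_sub_C_ne_zero p)) (pow_ne_zero _ (X_sub_C_ne_zero q)),
      Groth.Agent.Lib.Helper24Wronsk2.natDegree_X_sub_C_pow,
      Groth.Agent.Lib.Helper24Wronsk2.natDegree_X_sub_C_pow] at h5
    omega

end Groth.Agent.Lib.Helper24Wronsk8
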