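import Mathlib
import Groth.Agent.Lib.Helper24Wronsk8

set_option autoImplicit false

namespace Groth.Agent.Lib.Helper24Wronsk9
open Polynomial Module Groth.Agent.Lib.Helper24Wronsk1 Groth.Agent.Lib.Helper24Wronsk4
  Groth.Agent.Lib.Helper24Wronsk5 Groth.Agent.Lib.Helper24Wronsk6 Groth.Agent.Lib.Helper24Wronsk7
  Groth.Agent.Lib.Helper24Wronsk8

variable {k : Type*} [Field k]

/-- order of vanishing at the marked point `0`. -/
theorem X_pow_dvd_of_dvd_DD [CharZero k] (a b : ℕ) (R : k[X]) (m : ℕ) (hm : m ≤ a)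
    (hdiv : X ^ m ∣ DD k a b R) : X ^ m ∣ R := by
  by_cases hR : R = 0
  · rw [hR]; exact dvd_zero _
  obtain ⟨g, hg, hnd⟩ := exists_eq_pow_rootMultiplicity_mul_and_not_dvd R hR 0
  rw [C_0, sub_zero] at hg hnd
  set μ := rootMultiplicity 0 R with hμ
  by_cases hle : m ≤ μ
  · rw [hg]; exact Dvd.dvd.mul_right (pow_dvd_pow _ hle) _
  exfalso
  push Not at hle
  have hexp := DD_mul (k := k) a b μ 0 g
  rw [pow_zero, mul_one] at hexp
  rw [hg, hexp] at hdiv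
  have h1 : X ^ (μ + 1) ∣ X ^ μ * (X * (X - 1) * derivative g
      + ((μ : k[X]) - (a : k[X])) * (X - 1) * g + (((0 : ℕ) : k[X]) - (b : k[X])) * X * g) :=
    (pow_dvd_pow _ (by omega)).trans hdiv
  rw [pow_succ, mul_dvd_mul_iff_left (pow_ne_zero _ X_ne_zero)] at h1
  obtain ⟨Q, hQ⟩ := h1
  have h2 := congrArg (eval 0) hQ
  simp only [eval_add, eval_mul, eval_X, eval_sub, eval_one, eval_natCast, zero_mul, mul_zero,
    zero_add, add_zero, zero_sub] at h2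
  have hg0 : g.eval 0 ≠ 0 := by
    intro h
    apply hnd
    rw [X_dvd_iff, coeff_zero_eq_eval_zero]; exact h
  have h3 : ((μ : k) - a) * g.eval 0 = 0 := by linear_combination -h2
  rcases mul_eq_zero.1 h3 with h4 | h4
  · have : (μ : k) = a := sub_eq_zero.1 h4
    have := Nat.cast_injective this
    omega
  · exact hg0 h4

/-- decomposition of members of `V` -/
theorem exists_decomp (a b : ℕ) (ha : 0 < a) (hb : 0 < b) (f : k[X]) (hf : f ∈ sysU k a b) :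
    ∃ (A B : k[X]) (c : k), A.natDegree < b ∧ B.natDegree < a ∧
      f = X ^ (a + 1) * A + (X - 1) ^ (b + 1) * B + C c * (X ^ (a + 1) * (X - 1) ^ (b + 1)) := by
  obtain ⟨y, hy, z, hz, rfl⟩ := Submodule.mem_sup.1 hf
  obtain ⟨y₁, hy₁, y₂, hy₂, rfl⟩ := Submodule.mem_sup.1 hy
  obtain ⟨c, rfl⟩ := Submodule.mem_span_singleton.1 hz
  obtain ⟨h11, h12⟩ := hy₁
  obtain ⟨h21, h22⟩ := hy₂
  have h12' : y₁ ∈ degreeLE k ↑(a + b) := h12
  have h22' : y₂ ∈ degreeLE k ↑(a + b) := h22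
  rw [mem_degreeLE] at h12' h22'
  obtain ⟨A, rfl, hA⟩ := exists_factor (pow_ne_zero _ X_ne_zero)
    (natDegree_le_iff_degree_le.2 h12') h11
  have hne : ((X : k[X]) - 1) ^ (b + 1) ≠ 0 := by
    have := pow_ne_zero (b + 1) (X_sub_C_ne_zero (1 : k))
    rwa [C_1] at this
  obtain ⟨B, rfl, hB⟩ := exists_factor hne (natDegree_le_iff_degree_le.2 h22') h21
  rw [natDegree_X_pow] at hA
  rw [natDegree_X_sub_one_pow] at hB
  exact ⟨A, B, c, by omega, by omega, by rw [smul_eq_C_mul]⟩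

theorem isCoprime_X_X_sub_one : IsCoprime (X : k[X]) (X - 1) :=
  ⟨1, -1, by ring⟩

theorem coeff_X_sub_one_pow_succ (n : ℕ) : (((X : k[X]) - 1) ^ (n + 1)).coeff n = -((n : k) + 1) := by
  have : ((X : k[X]) - 1) = X + C (-1) := by rw [C_neg, C_1]; ring
  rw [this, coeff_X_add_C_pow]
  have : n + 1 - n = 1 := by omega
  rw [this, Nat.choose_succ_self_right]
  push_cast; ring

theorem eq_zero_of_pow_dvd {P A : k[X]} (hP : P ≠ 0) (h : P ∣ A) (hdeg : A.natDegree < P.natDegree) :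
    A = 0 := by
  by_contra hA
  have := natDegree_le_of_dvd h hA
  omega

theorem caseII [CharZero k] (a b : ℕ) (ha : 0 < a) (hb : 0 < b) (f : k[X]) (hf : f ∈ sysU k a b)
    (hdvd : X ^ (a + b + 2) ∣ f) : f = 0 := by
  obtain ⟨A, B, c, hA, hB, rfl⟩ := exists_decomp a b ha hb f hf
  have hX : (X : k[X]) ^ (a + 1) ≠ 0 := pow_ne_zero _ X_ne_zero
  have h1 : (X : k[X]) ^ (a + 1) ∣ (X - 1) ^ (b + 1) * B := by
    have e : ((X : k[X]) - 1) ^ (b + 1) * B = (X ^ (a + 1) * A + (X - 1) ^ (b + 1) * B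
        + C c * (X ^ (a + 1) * (X - 1) ^ (b + 1))) - X ^ (a + 1) * A
        - X ^ (a + 1) * (C c * (X - 1) ^ (b + 1)) := by ring
    rw [e]
    exact dvd_sub (dvd_sub ((pow_dvd_pow _ (by omega)).trans hdvd) (dvd_mul_right _ _))
      (dvd_mul_right _ _)
  have hcop : IsCoprime ((X : k[X]) ^ (a + 1)) ((X - 1) ^ (b + 1)) := isCoprime_X_X_sub_one.pow
  rw [mul_comm] at h1
  have h2 := hcop.dvd_of_dvd_mul_right h1
  have hB0 : B = 0 := eq_zero_of_pow_dvd hX h2 (by rw [natDegree_X_pow]; omega)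
  subst hB0
  have e2 : X ^ (a + 1) * A + (X - 1) ^ (b + 1) * 0 + C c * (X ^ (a + 1) * (X - 1) ^ (b + 1))
      = X ^ (a + 1) * (A + C c * (X - 1) ^ (b + 1)) := by ring
  rw [e2] at hdvd ⊢
  have e3 : (X : k[X]) ^ (a + b + 2) = X ^ (a + 1) * X ^ (b + 1) := by rw [← pow_add]; congr 1; omega
  rw [e3, mul_dvd_mul_iff_left hX] at hdvd
  have h3 := X_pow_dvd_iff.1 hdvd b (by omega)
  rw [coeff_add, coeff_C_mul, coeff_X_sub_one_pow_succ, coeff_eq_zero_of_natDegree_lt hA,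
    zero_add] at h3
  have hb1 : -((b : k) + 1) ≠ 0 := by
    have : ((b + 1 : ℕ) : k) ≠ 0 := Nat.cast_ne_zero.2 (by omega)
    push_cast at this
    exact neg_ne_zero.2 this
  have hc : c = 0 := (mul_eq_zero.1 h3).resolve_right hb1
  rw [hc, C_0, zero_mul, add_zero] at hdvd ⊢
  have hA0 : A = 0 := eq_zero_of_pow_dvd (pow_ne_zero _ X_ne_zero) hdvd
    (by rw [natDegree_X_pow]; omega)
  rw [hA0, mul_zero]

theorem caseIII [CharZero k] (a b i j : ℕ) (ha : 0 < a) (hb : 0 < b) (hia : i ≤ a)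
    (hij : i + j = a + b + 2) (f : k[X]) (hf : f ∈ sysU k a b)
    (hdvd : X ^ i * (X - 1) ^ j ∣ f) : f = 0 := by
  obtain ⟨A, B, c, hA, hB, rfl⟩ := exists_decomp a b ha hb f hf
  have hX1 : ((X : k[X]) - 1) ^ (b + 1) ≠ 0 := by
    have := pow_ne_zero (b + 1) (X_sub_C_ne_zero (1 : k))
    rwa [C_1] at this
  obtain ⟨j₂, hj₂⟩ : ∃ j₂, j = b + 1 + j₂ := ⟨j - (b + 1), by omega⟩
  have hd1 : ((X : k[X]) - 1) ^ (b + 1) ∣ X ^ i * (X - 1) ^ j :=
    Dvd.dvd.mul_left (pow_dvd_pow _ (by omega)) _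
  have h1 : ((X : k[X]) - 1) ^ (b + 1) ∣ X ^ (a + 1) * A := by
    have e : (X : k[X]) ^ (a + 1) * A = (X ^ (a + 1) * A + (X - 1) ^ (b + 1) * B
        + C c * (X ^ (a + 1) * (X - 1) ^ (b + 1))) - (X - 1) ^ (b + 1) * B
        - (X - 1) ^ (b + 1) * (C c * X ^ (a + 1)) := by ring
    rw [e]
    exact dvd_sub (dvd_sub (hd1.trans hdvd) (dvd_mul_right _ _)) (dvd_mul_right _ _)
  have hcop : IsCoprime (((X : k[X]) - 1) ^ (b + 1)) (X ^ (a + 1)) :=
    isCoprime_X_X_sub_one.symm.pow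
  have h2 := hcop.dvd_of_dvd_mul_left h1
  have hA0 : A = 0 := eq_zero_of_pow_dvd hX1 h2 (by rw [natDegree_X_sub_one_pow]; omega)
  subst hA0
  have e2 : X ^ (a + 1) * 0 + (X - 1) ^ (b + 1) * B + C c * (X ^ (a + 1) * (X - 1) ^ (b + 1))
      = (X - 1) ^ (b + 1) * (B + C c * X ^ (a + 1)) := by ring
  rw [e2] at hdvd ⊢
  have e3 : (X : k[X]) ^ i * (X - 1) ^ j = (X - 1) ^ (b + 1) * (X ^ i * (X - 1) ^ j₂) := by
    rw [hj₂, pow_add]; ring
  rw [e3, mul_dvd_mul_iff_left hX1] at hdvd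
  set P₂ : k[X] := X ^ i * (X - 1) ^ j₂ with hP₂
  have hX1' : ((X : k[X]) - 1) ^ j₂ ≠ 0 := by
    have := pow_ne_zero j₂ (X_sub_C_ne_zero (1 : k))
    rwa [C_1] at this
  have hP₂0 : P₂ ≠ 0 := mul_ne_zero (pow_ne_zero _ X_ne_zero) hX1'
  have hP₂d : P₂.natDegree = a + 1 := by
    rw [hP₂, natDegree_mul (pow_ne_zero _ X_ne_zero) hX1', natDegree_X_pow,
      natDegree_X_sub_one_pow]
    omega
  obtain ⟨Q, hQ⟩ := hdvd
  have hEd : (B + C c * X ^ (a + 1)).natDegree ≤ a + 1 := by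
    refine (natDegree_add_le _ _).trans (max_le (by omega) ?_)
    exact (natDegree_C_mul_le _ _).trans (natDegree_X_pow_le _)
  by_cases hQ0 : Q = 0
  · rw [hQ, hQ0, mul_zero, mul_zero]
  have hQd : Q.natDegree = 0 := by
    rw [hQ, natDegree_mul hP₂0 hQ0, hP₂d] at hEd
    omega
  obtain ⟨e, rfl⟩ : ∃ e, Q = C e := ⟨Q.coeff 0, eq_C_of_natDegree_eq_zero hQd⟩
  have hco := congrArg (fun g => g.coeff a) hQ
  simp only [coeff_add, coeff_C_mul, coeff_mul_C, coeff_X_pow] at hco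
  rw [coeff_eq_zero_of_natDegree_lt hB, if_neg (by omega), mul_zero, zero_add] at hco
  have hP₂a : P₂.coeff a = -((a - i : ℕ) + 1 : k) := by
    rw [hP₂]
    have ha' : a = (a - i) + i := by omega
    have hj' : j₂ = (a - i) + 1 := by omega
    conv_lhs => rw [ha', coeff_X_pow_mul, hj', coeff_X_sub_one_pow_succ]
  rw [hP₂a] at hco
  have hne : -(((a - i : ℕ) : k) + 1) ≠ 0 := by
    have : (((a - i) + 1 : ℕ) : k) ≠ 0 := Nat.cast_ne_zero.2 (by omega)
    push_cast at this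
    exact neg_ne_zero.2 this
  have he : e = 0 := by
    rcases mul_eq_zero.1 hco.symm with h | h
    · exact absurd h hne
    · exact h
  rw [hQ, he, C_0, mul_zero, mul_zero]

theorem caseI [CharZero k] (a b i j : ℕ) (ha : 0 < a) (hb : 0 < b) (hi : 0 < i) (hia : i ≤ a)
    (hij : i + j = a + b + 2) (q : k) (hq0 : q ≠ 0) (hq1 : q ≠ 1) :
    finrank k ↥(sysU k a b ⊓
      (Ideal.span {(X : k[X]) ^ (i - 1) * (X - C q) ^ (j - 1)}).restrictScalars k) ≤ 1 := by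
  obtain ⟨i', rfl⟩ : ∃ i', i = i' + 1 := ⟨i - 1, by omega⟩
  obtain ⟨j', rfl⟩ : ∃ j', j = j' + 1 := ⟨j - 1, by omega⟩
  show finrank k ↥(sysU k a b ⊓
      (Ideal.span {(X : k[X]) ^ i' * (X - C q) ^ j'}).restrictScalars k) ≤ 1
  set W := sysU k a b ⊓
      (Ideal.span {(X : k[X]) ^ i' * (X - C q) ^ j'}).restrictScalars k with hW
  have hrep : ∀ f ∈ W, ∃ R : k[X], R.natDegree ≤ a + b + 1 ∧ R.eval q = 0 ∧ DD k a b R = f :=
    fun f hf => exists_rep a b ha hb q hq0 hq1 f hf.1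
  apply finrank_le_one_of_key a b q W (lcoeff k (a + b + 1)) ?_ hrep
  intro R hRd hRq hRW hℓ
  have h1 : (X : k[X]) ^ i' * (X - C q) ^ j' ∣ DD k a b R := Ideal.mem_span_singleton.1 hRW.2
  have h2 := X_pow_dvd_of_dvd_DD a b R i' (by omega) ((dvd_mul_right _ _).trans h1)
  have h3 := pow_dvd_of_dvd_DD a b q hq0 hq1 R j' ((dvd_mul_left _ _).trans h1) hRq
  have hcop0 : IsCoprime (X : k[X]) (X - C q) := by
    have := isCoprime_X_sub_C_of_isUnit_sub (R := k) (a := 0) (b := q)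
      (sub_ne_zero.2 (Ne.symm hq0)).isUnit
    rwa [C_0, sub_zero] at this
  have hcop : IsCoprime ((X : k[X]) ^ i') ((X - C q) ^ (j' + 1)) := hcop0.pow
  have h4 := hcop.mul_dvd h2 h3
  by_contra hR0
  have h5 := natDegree_le_of_dvd h4 hR0
  rw [natDegree_mul (pow_ne_zero _ X_ne_zero) (pow_ne_zero _ (X_sub_C_ne_zero q)),
    natDegree_X_pow, Groth.Agent.Lib.Helper24Wronsk2.natDegree_X_sub_C_pow] at h5
  have h6 : R.natDegree = a + b + 1 := by omega
  have h7 : R.coeff (a + b + 1) = 0 := hℓ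
  rw [← h6, coeff_natDegree] at h7
  exact hR0 (leadingCoeff_eq_zero.1 h7)

theorem exists_ne_zero_of_one_le_finrank {M : Type*} [AddCommGroup M] [Module k M]
    (W : Submodule k M) (h : 1 ≤ finrank k W) : ∃ f ∈ W, f ≠ 0 := by
  by_contra hcon
  push Not at hcon
  have : Subsingleton W := ⟨fun x y => Subtype.ext ((hcon x x.2).trans (hcon y y.2).symm)⟩
  rw [Module.finrank_zero_of_subsingleton] at h
  omega

theorem s16261 [CharZero k] (a b i j : ℕ) (ha : 0 < a) (hb : 0 < b) (hi : 0 < i)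
    (hj : i + j = a + b + 2) (q : k)
    (h1 : 1 ≤ finrank k ↥(sysU k a b ⊓
      (Ideal.span {(X : k[X]) ^ i * (X - C q) ^ j}).restrictScalars k))
    (h2 : 2 ≤ finrank k ↥(sysU k a b ⊓
      (Ideal.span {(X : k[X]) ^ (i - 1) * (X - C q) ^ (j - 1)}).restrictScalars k)) :
    a + 1 ≤ i := by
  by_contra hcon
  push Not at hcon
  obtain ⟨f, hf, hf0⟩ := exists_ne_zero_of_one_le_finrank _ h1
  have hdvd : (X : k[X]) ^ i * (X - C q) ^ j ∣ f := Ideal.mem_span_singleton.1 hf.2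
  by_cases hq0 : q = 0
  · subst hq0
    rw [C_0, sub_zero, ← pow_add, hj] at hdvd
    exact hf0 (caseII a b ha hb f hf.1 hdvd)
  by_cases hq1 : q = 1
  · subst hq1
    rw [C_1] at hdvd
    exact hf0 (caseIII a b i j ha hb (by omega) hj f hf.1 hdvd)
  have := caseI a b i j ha hb hi (by omega) hj q hq0 hq1
  omega

end Groth.Agent.Lib.Helper24Wronsk9
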