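import Mathlib
import Groth.Agent.Lib.Helper14GradedNoeth
import Groth.Agent.Lib.Helper28FGDim
import Groth.Agent.Lib.Helper19SmVarB
import Groth.Agent.Lib.Helper29Conn

/-!
# Dimension of a graded ring over a field is the height of the irrelevant ideal (helper25)
-/

noncomputable section

namespace Groth.Agent.Lib.Helper25.GrDim

open DirectSum

universe u v

variable {K : Type u} [Field K] {A : Type v} [CommRing A] [Algebra K A]
  (𝒜 : ℕ → Submodule K A) [GradedAlgebra 𝒜]

/-- the irrelevant ideal -/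
abbrev irr : Ideal A := (HomogeneousIdeal.irrelevant 𝒜).toIdeal

theorem mem_irr_iff (a : A) : a ∈ irr 𝒜 ↔ (decompose 𝒜 a 0 : A) = 0 := Iff.rfl

theorem proj_algebraMap (c : K) : (decompose 𝒜 (algebraMap K A c) 0 : A) = algebraMap K A c :=
  decompose_of_mem_same 𝒜 (SetLike.algebraMap_mem_graded 𝒜 c)

variable (h0 : ∀ a ∈ 𝒜 0, ∃ c : K, algebraMap K A c = a)
include h0

theorem exists_proj_eq (a : A) : ∃ c : K, algebraMap K A c = (decompose 𝒜 a 0 : A) :=
  h0 _ (decompose 𝒜 a 0).2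

theorem irr_isMaximal [Nontrivial A] : (irr 𝒜).IsMaximal := by
  rw [Ideal.isMaximal_iff]
  constructor
  · rw [mem_irr_iff]
    have : (decompose 𝒜 (1 : A) 0 : A) = 1 := decompose_of_mem_same 𝒜 (SetLike.one_mem_graded 𝒜)
    rw [this]
    exact one_ne_zero
  · intro J x hMJ hx hxJ
    obtain ⟨c, hc⟩ := exists_proj_eq 𝒜 h0 x
    have hc0 : c ≠ 0 := by
      intro h
      apply hx
      rw [mem_irr_iff, ← hc, h, map_zero]
    have h1 : x - algebraMap K A c ∈ irr 𝒜 := by
      rw [mem_irr_iff, decompose_sub, DFinsupp.sub_apply, AddSubgroupClass.coe_sub,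
        proj_algebraMap, hc, sub_self]
    have h2 : algebraMap K A c ∈ J := by
      have := J.sub_mem hxJ (hMJ h1)
      rwa [sub_sub_cancel] at this
    have h3 : (1 : A) = algebraMap K A c⁻¹ * algebraMap K A c := by
      rw [← map_mul, inv_mul_cancel₀ hc0, map_one]
    rw [h3]
    exact J.mul_mem_left _ h2

theorem le_irr_of_isHomogeneous (I : Ideal A) (hI : I.IsHomogeneous 𝒜) (hI' : I ≠ ⊤) :
    I ≤ irr 𝒜 := by
  intro a ha
  rw [mem_irr_iff]
  obtain ⟨c, hc⟩ := exists_proj_eq 𝒜 h0 a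
  have h1 : (decompose 𝒜 a 0 : A) ∈ I := hI 0 ha
  by_contra hne
  have hc0 : c ≠ 0 := by
    intro h
    apply hne
    rw [← hc, h, map_zero]
  apply hI'
  rw [Ideal.eq_top_iff_one]
  have h3 : (1 : A) = algebraMap K A c⁻¹ * algebraMap K A c := by
    rw [← map_mul, inv_mul_cancel₀ hc0, map_one]
  rw [h3, hc]
  exact I.mul_mem_left _ h1

theorem isField_zero [Nontrivial A] : IsField (𝒜 0) where
  exists_pair_ne := ⟨0, 1, fun h => by
    have := congrArg (fun x : 𝒜 0 => (x : A)) h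
    simp only [ZeroMemClass.coe_zero, SetLike.GradeZero.coe_one] at this
    exact zero_ne_one this⟩
  mul_comm := mul_comm
  mul_inv_cancel := by
    intro a ha
    obtain ⟨c, hc⟩ := h0 a a.2
    have hc0 : c ≠ 0 := by
      intro h
      apply ha
      apply Subtype.ext
      rw [← hc, h, map_zero, ZeroMemClass.coe_zero]
    refine ⟨⟨algebraMap K A c⁻¹, SetLike.algebraMap_mem_graded 𝒜 c⁻¹⟩, ?_⟩
    apply Subtype.ext
    rw [SetLike.GradeZero.coe_mul, SetLike.GradeZero.coe_one, ← hc, ← map_mul,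
      mul_inv_cancel₀ hc0, map_one]

omit h0 in
/-- Minimal primes over a homogeneous ideal are homogeneous. -/
theorem isHomogeneous_of_mem_minimalPrimes {J P : Ideal A} (hJ : J.IsHomogeneous 𝒜)
    (hP : P ∈ J.minimalPrimes) : P.IsHomogeneous 𝒜 := by
  have hprime : P.IsPrime := hP.1.1
  have h1 : ((P.homogeneousCore 𝒜).toIdeal).IsPrime := Ideal.IsPrime.homogeneousCore hprime
  have h2 : J ≤ (P.homogeneousCore 𝒜).toIdeal := by
    rw [← hJ.toIdeal_homogeneousCore_eq_self]
    exact Ideal.homogeneousCore_mono _ hP.1.2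
  have h3 := Ideal.toIdeal_homogeneousCore_le 𝒜 P
  have h4 : P ≤ (P.homogeneousCore 𝒜).toIdeal := hP.2 ⟨h1, h2⟩ h3
  have h5 : (P.homogeneousCore 𝒜).toIdeal = P := le_antisymm h3 h4
  rw [← h5]
  exact (P.homogeneousCore 𝒜).isHomogeneous


omit h0 in
/-- maximal ideals of a finite type domain over a ring which is a field have height `dim` -/
theorem height_eq_dim_of_isField (k' : Type v) [CommRing k'] (hk : IsField k') (S : Type v)
    [CommRing S] [Algebra k' S] [Algebra.FiniteType k' S] (q : Ideal S) [q.IsPrime]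
    (m : Ideal (S ⧸ q)) [m.IsMaximal] :
    ((m.height : ℕ∞) : WithBot ℕ∞) = ringKrullDim (S ⧸ q) := by
  letI := hk.toField
  exact Groth.Agent.Lib.Helper28.height_eq_ringKrullDim_quotient_of_isMaximal_of_finiteType k' S q m

/-- `dim A/I ≤ ht (A₊/I)` for a homogeneous ideal of a Noetherian graded ring with `A₀ = K`. -/
theorem ringKrullDim_quotient_le_height [IsNoetherianRing A] (I : Ideal A)
    (hI : I.IsHomogeneous 𝒜) (hI' : I ≠ ⊤) :
    ringKrullDim (A ⧸ I) ≤ ((((irr 𝒜).map (Ideal.Quotient.mk I)).height : ℕ∞) : WithBot ℕ∞) := by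
  have hnt : Nontrivial A := by
    by_contra h
    rw [not_nontrivial_iff_subsingleton] at h
    exact hI' (Subsingleton.elim _ _)
  have hmax := irr_isMaximal 𝒜 h0
  have hft : Algebra.FiniteType (𝒜 0) A :=
    Groth.Agent.Lib.Helper14.finiteType_of_isNoetherianRing_graded 𝒜
  have hF := isField_zero 𝒜 h0
  rw [ringKrullDim_quotient I]
  unfold Order.krullDim
  refine iSup_le fun l => ?_
  have hle : I ≤ l.head.1.asIdeal := l.head.2
  obtain ⟨q, hqmin, hql⟩ := Ideal.exists_minimalPrimes_le hle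
  have hqhom := isHomogeneous_of_mem_minimalPrimes 𝒜 hI hqmin
  have hqp : q.IsPrime := hqmin.1.1
  have hIq : I ≤ q := hqmin.1.2
  have hqM : q ≤ irr 𝒜 := le_irr_of_isHomogeneous 𝒜 h0 q hqhom hqp.ne_top
  have hIM : I ≤ irr 𝒜 := hIq.trans hqM
  have h1 : (l.length : WithBot ℕ∞) ≤ ringKrullDim (A ⧸ q) :=
    Groth.Agent.Lib.Helper29.Conn.length_le_dim l q hql
  have hmaxq : ((irr 𝒜).map (Ideal.Quotient.mk q)).IsMaximal :=
    Ideal.IsMaximal.map_of_surjective_of_ker_le Ideal.Quotient.mk_surjective (by rwa [Ideal.mk_ker])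
  have h2 := height_eq_dim_of_isField (𝒜 0) hF A q ((irr 𝒜).map (Ideal.Quotient.mk q))
  have hprq : ((irr 𝒜).map (Ideal.Quotient.mk q)).IsPrime := hmaxq.isPrime
  have h3 := Groth.Agent.Lib.Helper19.SmVar.height_le_height_comap_of_surjective
    (Ideal.Quotient.factor hIq) (Ideal.Quotient.factor_surjective hIq)
    ((irr 𝒜).map (Ideal.Quotient.mk q))
  have h4 : ((irr 𝒜).map (Ideal.Quotient.mk q)).comap (Ideal.Quotient.factor hIq) =
      (irr 𝒜).map (Ideal.Quotient.mk I) := by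
    ext x
    obtain ⟨a, rfl⟩ := Ideal.Quotient.mk_surjective x
    rw [Ideal.mem_comap, Ideal.Quotient.factor_mk, Ideal.mem_quotient_iff_mem_sup,
      Ideal.mem_quotient_iff_mem_sup, sup_eq_left.mpr hqM, sup_eq_left.mpr hIM]
  rw [h4] at h3
  rw [← h2] at h1
  exact h1.trans (WithBot.coe_le_coe.mpr h3)

end Groth.Agent.Lib.Helper25.GrDim
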