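import Mathlib
import Groth.Agent.Lib.Helper25GrDim
import Groth.Agent.Lib.Helper22GrAvoid

/-!
# Homogeneous systems of parameters in graded rings over a field (helper25)
-/

noncomputable section

namespace Groth.Agent.Lib.Helper25.GrHsop

open DirectSum Groth.Agent.Lib.Helper25.GrDim

universe u v

variable {K : Type u} [Field K] {A : Type v} [CommRing A] [Algebra K A]
  (𝒜 : ℕ → Submodule K A) [GradedAlgebra 𝒜]
  (h0 : ∀ a ∈ 𝒜 0, ∃ c : K, algebraMap K A c = a)
include h0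

/-- cutting by a homogeneous element of positive degree outside the minimal primes different from
the irrelevant ideal drops the dimension -/
theorem dim_sup_span_le [Nontrivial A] (I : Ideal A) (d : ℕ)
    (hd : ringKrullDim (A ⧸ I) ≤ ((d + 1 : ℕ) : WithBot ℕ∞)) (y : A) (hy : y ∈ irr 𝒜)
    (hyP : ∀ P ∈ I.minimalPrimes, P ≠ irr 𝒜 → y ∉ P) :
    ringKrullDim (A ⧸ (I ⊔ Ideal.span {y})) ≤ (d : WithBot ℕ∞) := by
  have hmax := irr_isMaximal 𝒜 h0
  rw [ringKrullDim_quotient]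
  unfold Order.krullDim
  refine iSup_le fun l => ?_
  have hle : I ⊔ Ideal.span {y} ≤ l.head.1.asIdeal := l.head.2
  have hyl : y ∈ l.head.1.asIdeal := hle (Ideal.mem_sup_right (Ideal.subset_span rfl))
  obtain ⟨P, hPmin, hPl⟩ := Ideal.exists_minimalPrimes_le (le_sup_left.trans hle)
  by_cases hP : P = irr 𝒜
  · -- the chain starts at the maximal ideal, hence has length zero
    have hhead : l.head.1.asIdeal = irr 𝒜 :=
      (hmax.eq_of_le l.head.1.2.ne_top (hP ▸ hPl)).symm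
    have hlen : l.length = 0 := by
      by_contra hne
      have hlt : l.head < l.last := by
        apply l.strictMono
        rw [Fin.lt_def]
        simp only [Fin.val_zero, Fin.val_last]
        omega
      have hlt' : l.head.1.asIdeal < l.last.1.asIdeal := hlt
      rw [hhead] at hlt'
      have heq := hmax.eq_of_le l.last.1.2.ne_top hlt'.le
      rw [← heq] at hlt'
      exact lt_irrefl _ hlt'
    rw [hlen]
    exact_mod_cast Nat.zero_le d
  · have hyP' : y ∉ P := hyP P hPmin hP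
    have hPp : P.IsPrime := hPmin.1.1
    have hlt : P < l.head.1.asIdeal := lt_of_le_of_ne hPl (fun h => hyP' (h ▸ hyl))
    let l₀ := Groth.Agent.Lib.Helper29.Conn.transport l I (le_sup_left.trans hle)
    let P' : PrimeSpectrum.zeroLocus (R := A) (I : Set A) := ⟨⟨P, hPp⟩, hPmin.1.2⟩
    have hrel : P' < l₀.head := hlt
    let l₁ := l₀.cons P' hrel
    have h1 : (l₁.length : WithBot ℕ∞) ≤ ringKrullDim (A ⧸ I) := by
      rw [ringKrullDim_quotient]
      exact Order.LTSeries.length_le_krullDim l₁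
    have h2 : l₁.length = l.length + 1 := by
      simp only [l₁, RelSeries.cons_length]
      rfl
    rw [h2] at h1
    have h3 := h1.trans hd
    have h4 : l.length + 1 ≤ d + 1 := by exact_mod_cast h3
    exact_mod_cast Nat.le_of_succ_le_succ h4


/-- in dimension zero the radical of a homogeneous ideal is the irrelevant ideal -/
theorem irr_le_radical_of_dim_zero [Nontrivial A] (I : Ideal A) (hI : I.IsHomogeneous 𝒜)
    (hd : ringKrullDim (A ⧸ I) ≤ ((0 : ℕ) : WithBot ℕ∞)) : irr 𝒜 ≤ I.radical := by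
  have hmax := irr_isMaximal 𝒜 h0
  rw [Ideal.radical_eq_sInf]
  refine le_sInf ?_
  rintro 𝔭 ⟨hI𝔭, h𝔭⟩
  obtain ⟨P, hPmin, hP𝔭⟩ := Ideal.exists_minimalPrimes_le hI𝔭
  have hPp : P.IsPrime := hPmin.1.1
  have hPhom := isHomogeneous_of_mem_minimalPrimes 𝒜 hI hPmin
  have hPirr : P ≤ irr 𝒜 := le_irr_of_isHomogeneous 𝒜 h0 P hPhom hPp.ne_top
  by_cases hP : P = irr 𝒜
  · rw [← hP]; exact hP𝔭
  · exfalso
    have hlt : P < irr 𝒜 := lt_of_le_of_ne hPirr hP
    let P' : PrimeSpectrum.zeroLocus (R := A) (I : Set A) := ⟨⟨P, hPp⟩, hPmin.1.2⟩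
    let M' : PrimeSpectrum.zeroLocus (R := A) (I : Set A) :=
      ⟨⟨irr 𝒜, hmax.isPrime⟩, hPmin.1.2.trans hPirr⟩
    have hrel : P' < M' := hlt
    let l : LTSeries (PrimeSpectrum.zeroLocus (R := A) (I : Set A)) :=
      (RelSeries.singleton _ M').cons P' hrel
    have h1 : (l.length : WithBot ℕ∞) ≤ ringKrullDim (A ⧸ I) := by
      rw [ringKrullDim_quotient]
      exact Order.LTSeries.length_le_krullDim l
    have h2 : l.length = 1 := by
      simp only [l, RelSeries.cons_length, RelSeries.singleton_length]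
    rw [h2] at h1
    have h3 := h1.trans hd
    have h4 : 1 ≤ 0 := by exact_mod_cast h3
    omega

/-- existence of homogeneous systems of parameters modulo a homogeneous ideal -/
theorem exists_hsop [IsNoetherianRing A] [Nontrivial A] : ∀ (d : ℕ) (I : Ideal A),
    I.IsHomogeneous 𝒜 → I ≠ ⊤ → ringKrullDim (A ⧸ I) ≤ (d : WithBot ℕ∞) →
    ∃ y : Fin d → A, (∀ i, ∃ e : ℕ, 0 < e ∧ y i ∈ 𝒜 e) ∧
      irr 𝒜 ≤ (I ⊔ Ideal.span (Set.range y)).radical := by
  classical
  have hmax := irr_isMaximal 𝒜 h0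
  intro d
  induction d with
  | zero =>
    intro I hI hI' hd
    refine ⟨Fin.elim0, fun i => i.elim0, ?_⟩
    have : Set.range (Fin.elim0 : Fin 0 → A) = ∅ := Set.range_eq_empty _
    rw [this, Ideal.span_empty, sup_bot_eq]
    exact irr_le_radical_of_dim_zero 𝒜 h0 I hI hd
  | succ d ih =>
    intro I hI hI' hd
    have hIirr : I ≤ irr 𝒜 := le_irr_of_isHomogeneous 𝒜 h0 I hI hI'
    set S : Finset (Ideal A) :=
      (I.finite_minimalPrimes_of_isNoetherianRing).toFinset.filter (fun p => p ≠ irr 𝒜) with hS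
    have hSP : ∀ p ∈ S, p.IsPrime ∧ ¬ irr 𝒜 ≤ p := by
      intro p hp
      rw [hS, Finset.mem_filter, Set.Finite.mem_toFinset] at hp
      obtain ⟨hpmin, hpne⟩ := hp
      have hpp : p.IsPrime := hpmin.1.1
      refine ⟨hpp, fun hle => hpne ?_⟩
      have hphom := isHomogeneous_of_mem_minimalPrimes 𝒜 hI hpmin
      exact le_antisymm (le_irr_of_isHomogeneous 𝒜 h0 p hphom hpp.ne_top) hle
    obtain ⟨y, e, he, hye, hyirr, hyS⟩ :=
      Groth.Agent.Lib.Helper22.GrAvoid.exists_homogeneous_avoid 𝒜 (irr 𝒜)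
        (HomogeneousIdeal.irrelevant 𝒜).isHomogeneous le_rfl S hSP
    have hyP : ∀ P ∈ I.minimalPrimes, P ≠ irr 𝒜 → y ∉ P := by
      intro P hP hne
      apply hyS P
      rw [hS, Finset.mem_filter, Set.Finite.mem_toFinset]
      exact ⟨hP, hne⟩
    have hdim := dim_sup_span_le 𝒜 h0 I d hd y hyirr hyP
    have hhom' : (I ⊔ Ideal.span {y}).IsHomogeneous 𝒜 := by
      apply hI.sup
      apply Ideal.homogeneous_span
      intro x hx
      rw [Set.mem_singleton_iff] at hx
      subst hx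
      exact ⟨e, hye⟩
    have hle' : I ⊔ Ideal.span {y} ≤ irr 𝒜 := by
      rw [sup_le_iff]
      refine ⟨hIirr, ?_⟩
      rw [Ideal.span_le, Set.singleton_subset_iff]
      exact hyirr
    have hne' : I ⊔ Ideal.span {y} ≠ ⊤ := fun h => hmax.ne_top (top_le_iff.mp (h ▸ hle'))
    obtain ⟨y', hy'deg, hy'rad⟩ := ih (I ⊔ Ideal.span {y}) hhom' hne' hdim
    refine ⟨Fin.cons y y', ?_, ?_⟩
    · intro i
      refine Fin.cases ?_ (fun j => ?_) i
      · exact ⟨e, he, by rw [Fin.cons_zero]; exact hye⟩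
      · rw [Fin.cons_succ]; exact hy'deg j
    · have hr : Set.range (Fin.cons y y' : Fin (d + 1) → A) = insert y (Set.range y') :=
        Fin.range_cons y y'
      rw [hr, Ideal.span_insert, ← sup_assoc]
      exact hy'rad


/-- `dim A ≤ ht A₊` -/
theorem ringKrullDim_le_height_irr [IsNoetherianRing A] [Nontrivial A] :
    ringKrullDim A ≤ (((irr 𝒜).height : ℕ∞) : WithBot ℕ∞) := by
  have h1 := ringKrullDim_quotient_le_height 𝒜 h0 ⊥ (Ideal.IsHomogeneous.bot 𝒜) bot_ne_top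
  obtain ⟨e, he⟩ : ∃ e : (A ⧸ (⊥ : Ideal A)) ≃+* A, ∀ a, e (Ideal.Quotient.mk ⊥ a) = a :=
    ⟨RingEquiv.quotientBot A, fun a => rfl⟩
  rw [ringKrullDim_eq_of_ringEquiv e] at h1
  refine h1.trans ?_
  have h2 : ((irr 𝒜).map (Ideal.Quotient.mk (⊥ : Ideal A))).height = (irr 𝒜).height := by
    have h3 := e.symm.height_map (irr 𝒜)
    rw [← h3]
    have hfun : (⇑(Ideal.Quotient.mk (⊥ : Ideal A)) : A → A ⧸ (⊥ : Ideal A)) = ⇑e.symm := by
      funext a
      rw [eq_comm, RingEquiv.symm_apply_eq, he]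
    unfold Ideal.map
    rw [hfun]
  rw [h2]

/-- equalizing the degrees of a homogeneous system of parameters -/
theorem exists_hsop_same_degree [IsNoetherianRing A] [Nontrivial A] (d : ℕ) (I : Ideal A)
    (hI : I.IsHomogeneous 𝒜) (hI' : I ≠ ⊤) (hd : ringKrullDim (A ⧸ I) ≤ (d : WithBot ℕ∞)) :
    ∃ D : ℕ, 0 < D ∧ ∀ N : ℕ, 0 < N → ∃ x : Fin d → A, (∀ i, x i ∈ 𝒜 (D * N)) ∧
      irr 𝒜 ≤ (I ⊔ Ideal.span (Set.range x)).radical := by
  classical
  obtain ⟨y, hy, hrad⟩ := exists_hsop 𝒜 h0 d I hI hI' hd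
  choose e he hye using hy
  refine ⟨∏ i, e i, Finset.prod_pos (fun i _ => he i), fun N hN => ?_⟩
  have hdvd : ∀ i, e i ∣ ∏ j, e j := fun i => Finset.dvd_prod_of_mem e (Finset.mem_univ i)
  refine ⟨fun i => y i ^ (((∏ j, e j) / e i) * N), fun i => ?_, ?_⟩
  · have h1 := SetLike.pow_mem_graded (((∏ j, e j) / e i) * N) (hye i)
    have h2 : (((∏ j, e j) / e i) * N) • e i = (∏ j, e j) * N := by
      rw [smul_eq_mul, mul_comm _ N, mul_assoc, Nat.div_mul_cancel (hdvd i), mul_comm]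
    rw [h2] at h1
    exact h1
  · refine hrad.trans ?_
    rw [Ideal.radical_le_radical_iff]
    rw [sup_le_iff]
    refine ⟨(le_sup_left : I ≤ _).trans Ideal.le_radical, ?_⟩
    rw [Ideal.span_le]
    rintro _ ⟨i, rfl⟩
    refine ⟨((∏ j, e j) / e i) * N, ?_⟩
    apply Ideal.mem_sup_right
    exact Ideal.subset_span ⟨i, rfl⟩

end Groth.Agent.Lib.Helper25.GrHsop
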