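import Mathlib
import Groth.Agent.Lib.Helper25GrDim

/-!
# Regrading a nonnegatively `ℤ`-graded algebra by `ℕ` (helper25)
-/

noncomputable section

namespace Groth.Agent.Lib.Helper25.GrNat

open DirectSum Groth.Agent.Lib.Helper25.GrDim

universe u v

variable {K : Type u} [Field K] {A : Type v} [CommRing A] [Algebra K A]
  (𝒜 : ℤ → Submodule K A) [GradedAlgebra 𝒜]

/-- the `ℕ`-grading underlying a `ℤ`-grading -/
def natGrading : ℕ → Submodule K A := fun n => 𝒜 (n : ℤ)

theorem natGrading_apply (n : ℕ) : natGrading 𝒜 n = 𝒜 (n : ℤ) := rfl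

theorem natGrading_isInternal (hpos : ∀ n : ℤ, n < 0 → 𝒜 n = ⊥) :
    DirectSum.IsInternal (natGrading 𝒜) := by
  rw [DirectSum.isInternal_submodule_iff_iSupIndep_and_iSup_eq_top]
  have hint := DirectSum.Decomposition.isInternal 𝒜
  constructor
  · exact hint.submodule_iSupIndep.comp Nat.cast_injective
  · rw [eq_top_iff, ← hint.submodule_iSup_eq_top]
    refine iSup_le fun n => ?_
    rcases lt_or_ge n 0 with hn | hn
    · rw [hpos n hn]; exact bot_le
    · have : n = ((n.toNat : ℕ) : ℤ) := (Int.toNat_of_nonneg hn).symm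
      rw [this]
      exact le_iSup (natGrading 𝒜) n.toNat

/-- the `ℕ`-graded algebra structure -/
def natGradedAlgebra (hpos : ∀ n : ℤ, n < 0 → 𝒜 n = ⊥) : GradedAlgebra (natGrading 𝒜) :=
  { toDecomposition := (natGrading_isInternal 𝒜 hpos).chooseDecomposition
    one_mem := by
      show (1 : A) ∈ 𝒜 ((0 : ℕ) : ℤ)
      rw [Nat.cast_zero]
      exact SetLike.one_mem_graded 𝒜
    mul_mem := by
      intro i j a b ha hb
      show a * b ∈ 𝒜 ((i + j : ℕ) : ℤ)
      rw [Nat.cast_add]
      exact SetLike.mul_mem_graded ha hb }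

theorem h0_of_span (h0 : 𝒜 0 = Submodule.span K {(1 : A)}) :
    ∀ a ∈ natGrading 𝒜 0, ∃ c : K, algebraMap K A c = a := by
  intro a ha
  have ha' : a ∈ 𝒜 0 := by
    have : natGrading 𝒜 0 = 𝒜 0 := by rw [natGrading_apply, Nat.cast_zero]
    rwa [this] at ha
  rw [h0, Submodule.mem_span_singleton] at ha'
  obtain ⟨c, hc⟩ := ha'
  exact ⟨c, by rw [Algebra.algebraMap_eq_smul_one, hc]⟩

end Groth.Agent.Lib.Helper25.GrNat

namespace Groth.Agent.Lib.Helper25.GrDim

open DirectSum

universe u v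

variable {K : Type u} [Field K] {A : Type v} [CommRing A] [Algebra K A]
  (𝒜 : ℕ → Submodule K A) [GradedAlgebra 𝒜]

/-- an ideal containing all homogeneous elements of positive degree contains the irrelevant ideal -/
theorem irr_le_of_forall_pos (J : Ideal A) (h : ∀ n : ℕ, 0 < n → ∀ a ∈ 𝒜 n, a ∈ J) :
    irr 𝒜 ≤ J := by
  classical
  intro a ha
  rw [← DirectSum.sum_support_decompose 𝒜 a]
  apply Ideal.sum_mem
  intro n _
  rcases Nat.eq_zero_or_pos n with hn | hn
  · subst hn
    rw [mem_irr_iff] at ha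
    rw [ha]
    exact J.zero_mem
  · exact h n hn _ (SetLike.coe_mem _)

end Groth.Agent.Lib.Helper25.GrDim
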