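import Mathlib
import Groth.Agent.S0817
import Groth.Agent.S11617
import Groth.Agent.Lib.Helper8LC3

/-! Local cohomology of a finite module with support in a maximal ideal of a Noetherian ring
(not necessarily local) is Artinian (helper29). -/

set_option autoImplicit false
set_option linter.style.haveILetI false
universe u
open TensorProduct IsLocalRing

namespace Groth.Agent.Lib.Helper29.ArtMax

variable {R : Type u} [CommRing R] (m : Ideal R) [hm : m.IsMaximal]

theorem sup_pow_eq_top {s : R} (hs : s ∉ m) (k : ℕ) : Ideal.span {s} ⊔ m ^ k = ⊤ := by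
  apply Ideal.sup_pow_eq_top
  have hlt : m < Ideal.span {s} ⊔ m :=
    lt_of_le_of_ne le_sup_right (fun h => hs (h ▸ Ideal.mem_sup_left (Ideal.subset_span rfl)))
  exact hm.1.2 _ hlt

theorem eq_zero_of_tmul_eq_zero (Q : Type u) [AddCommGroup Q] [Module R Q] (q : Q) (k : ℕ)
    (hk : ∀ a ∈ m ^ k, a • q = 0)
    (h : (1 : Localization.AtPrime m) ⊗ₜ[R] q = 0) : q = 0 := by
  haveI : IsLocalizedModule m.primeCompl (TensorProduct.mk R (Localization.AtPrime m) Q 1) :=
    (isLocalizedModule_iff_isBaseChange m.primeCompl (Localization.AtPrime m) _).mpr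
      (TensorProduct.isBaseChange R Q (Localization.AtPrime m))
  have h' : TensorProduct.mk R (Localization.AtPrime m) Q 1 q = 0 := h
  obtain ⟨s, hs⟩ := (IsLocalizedModule.eq_zero_iff m.primeCompl
    (TensorProduct.mk R (Localization.AtPrime m) Q 1)).mp h'
  have htop := sup_pow_eq_top m s.2 k
  have h1 : (1 : R) ∈ Ideal.span {(s : R)} ⊔ m ^ k := htop ▸ Submodule.mem_top
  obtain ⟨a, ha, b, hb, hab⟩ := Submodule.mem_sup.mp h1
  obtain ⟨c, rfl⟩ := Ideal.mem_span_singleton'.mp ha
  have h2 : ((s : R)) • q = 0 := hs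
  rw [← one_smul R q, ← hab, add_smul, mul_smul, h2, smul_zero, hk b hb, add_zero]

theorem mem_of_tmul_mem_baseChange (T : Type u) [AddCommGroup T] [Module R T]
    (N : Submodule R T) (x : T) (k : ℕ) (hk : ∀ a ∈ m ^ k, a • x = 0)
    (hx : (1 : Localization.AtPrime m) ⊗ₜ[R] x ∈ N.baseChange (Localization.AtPrime m)) :
    x ∈ N := by
  have hle : N.baseChange (Localization.AtPrime m) ≤
      LinearMap.ker (N.mkQ.baseChange (Localization.AtPrime m)) := by
    rw [Submodule.baseChange_eq_span, Submodule.span_le]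
    rintro _ ⟨n, hn, rfl⟩
    have hn0 : N.mkQ n = 0 := (Submodule.Quotient.mk_eq_zero N).mpr hn
    rw [SetLike.mem_coe, LinearMap.mem_ker, TensorProduct.mk_apply, LinearMap.baseChange_tmul,
      hn0, TensorProduct.tmul_zero]
  have h1 := hle hx
  rw [LinearMap.mem_ker, LinearMap.baseChange_tmul] at h1
  have h2 : N.mkQ x = 0 := by
    refine eq_zero_of_tmul_eq_zero m (T ⧸ N) (N.mkQ x) k ?_ h1
    intro a ha
    rw [← map_smul, hk a ha, map_zero]
  exact (Submodule.Quotient.mk_eq_zero N).mp h2

theorem isArtinian_of_isArtinian_tensor (T : Type u) [AddCommGroup T] [Module R T]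
    (hT : ∀ t : T, ∃ k : ℕ, ∀ a ∈ m ^ k, a • t = 0)
    [IsArtinian (Localization.AtPrime m) (Localization.AtPrime m ⊗[R] T)] : IsArtinian R T := by
  have hsm : StrictMono (fun N : Submodule R T => N.baseChange (Localization.AtPrime m)) := by
    intro N N' hlt
    refine lt_of_le_of_ne (Submodule.baseChange_mono _ hlt.le) ?_
    intro heq
    obtain ⟨x, hx', hx⟩ := SetLike.exists_of_lt hlt
    obtain ⟨k, hk⟩ := hT x
    apply hx
    refine mem_of_tmul_mem_baseChange m T N x k hk ?_
    have : (1 : Localization.AtPrime m) ⊗ₜ[R] x ∈ N'.baseChange (Localization.AtPrime m) :=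
      Submodule.tmul_mem_baseChange_of_mem _ hx'
    rw [show N.baseChange (Localization.AtPrime m) = N'.baseChange (Localization.AtPrime m)
      from heq]
    exact this
  exact hsm.wellFoundedLT

variable [IsNoetherianRing R]

/-- `H^i_m(M)` is Artinian for a maximal ideal `m` of a Noetherian ring and a finite module `M`. -/
theorem isArtinian_H (M : Type u) [AddCommGroup M] [Module R M] [Module.Finite R M] (i : ℕ) :
    IsArtinian R (LocCoh.H m i M) := by
  obtain ⟨e⟩ := Groth.Agent.S11617.result R (Localization.AtPrime m) m M i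
  have hmax : m.map (algebraMap R (Localization.AtPrime m)) =
      maximalIdeal (Localization.AtPrime m) := Localization.AtPrime.map_eq_maximalIdeal
  have hA : IsArtinian (Localization.AtPrime m)
      (LocCoh.H (m.map (algebraMap R (Localization.AtPrime m))) i
        (Localization.AtPrime m ⊗[R] M)) := by
    rw [hmax]
    exact Groth.Agent.S0817.result (Localization.AtPrime m) (Localization.AtPrime m ⊗[R] M) i
  haveI : IsArtinian (Localization.AtPrime m) (Localization.AtPrime m ⊗[R] LocCoh.H m i M) :=
    isArtinian_of_injective e.toLinearMap e.injective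
  exact isArtinian_of_isArtinian_tensor m (LocCoh.H m i M)
    (fun t => Groth.Agent.Lib.Helper8.LC.isPowerTorsion_H m i (ModuleCat.of R M) t)

end Groth.Agent.Lib.Helper29.ArtMax
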