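import Groth.Agent.Lib.Helper29GrHom

/-! *essential extensions are essential (helper29). -/

set_option autoImplicit false
open DirectSum

namespace Groth.Agent.Lib.Helper29GrEss

open Groth.Agent.Lib.Helper29GrHom

universe u

variable {ι : Type} [AddCommGroup ι] [DecidableEq ι]
variable {R : Type u} [CommRing R] (𝒜 : ι → AddSubgroup R) [GradedRing 𝒜]
variable {L : Type u} [AddCommGroup L] [Module R L] (𝓛 : ι → AddSubgroup L)
  [DirectSum.Decomposition 𝓛] [SetLike.GradedSMul 𝒜 𝓛]

include 𝒜 in
/-- Components of `r • w` for homogeneous `r`. -/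
theorem decompose_smul_of_mem {h : ι} {r : R} (hr : r ∈ 𝒜 h) (w : L) (d : ι) :
    ((decompose 𝓛 (r • w)) d : L) = r • ((decompose 𝓛 w) (d - h) : L) := by
  classical
  induction w using DirectSum.Decomposition.inductionOn 𝓛 with
  | zero => simp
  | homogeneous m =>
    rename_i j
    have hm : r • (m : L) ∈ 𝓛 (h + j) :=
      SetLike.GradedSMul.smul_mem (A := 𝒜) (B := 𝓛) (i := h) (j := j) hr m.2
    by_cases hd : h + j = d
    · subst hd
      rw [DirectSum.decompose_of_mem_same _ hm, add_sub_cancel_left,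
        DirectSum.decompose_of_mem_same _ m.2]
    · have hd' : j ≠ d - h := fun hj => hd (by rw [hj]; abel)
      rw [DirectSum.decompose_of_mem_ne _ hm hd, DirectSum.decompose_of_mem_ne _ m.2 hd',
        smul_zero]
  | add m m' hm hm' =>
    rw [smul_add, DirectSum.decompose_add, DirectSum.decompose_add, DirectSum.add_apply,
      DirectSum.add_apply, AddSubgroup.coe_add, AddSubgroup.coe_add, smul_add, hm, hm']

/-- Components of `r • x` for homogeneous `x`. -/
theorem decompose_smul_of_mem_right {g : ι} {x : L} (hx : x ∈ 𝓛 g) (r : R) (d : ι) :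
    ((decompose 𝓛 (r • x)) d : L) = ((decompose 𝒜 r) (d - g) : R) • x := by
  classical
  induction r using DirectSum.Decomposition.inductionOn 𝒜 with
  | zero => simp
  | homogeneous m =>
    rename_i j
    have hm : (m : R) • x ∈ 𝓛 (j + g) :=
      SetLike.GradedSMul.smul_mem (A := 𝒜) (B := 𝓛) (i := j) (j := g) m.2 hx
    by_cases hd : j + g = d
    · subst hd
      rw [DirectSum.decompose_of_mem_same _ hm, add_sub_cancel_right,
        DirectSum.decompose_of_mem_same _ m.2]
    · have hd' : j ≠ d - g := fun hj => hd (by rw [hj]; abel)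
      rw [DirectSum.decompose_of_mem_ne _ hm hd, DirectSum.decompose_of_mem_ne _ m.2 hd',
        zero_smul]
  | add m m' hm hm' =>
    rw [add_smul, DirectSum.decompose_add, DirectSum.decompose_add, DirectSum.add_apply,
      DirectSum.add_apply, AddSubgroup.coe_add, AddSubgroup.coe_add, add_smul, hm, hm']

theorem exists_component_ne_zero {z : L} (hz : z ≠ 0) : ∃ d, ((decompose 𝓛 z) d : L) ≠ 0 := by
  by_contra hcon
  rw [not_exists] at hcon
  apply hz
  apply (decompose 𝓛).injective
  rw [DirectSum.decompose_zero]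
  ext d
  have := hcon d
  rw [not_not] at this
  rw [this]
  rfl

/-- The range of a homogeneous map out of a graded module is homogeneous. -/
theorem range_isHomogeneous {M : Type u} [AddCommGroup M] [Module R M] (ℳ : ι → AddSubgroup M)
    [DirectSum.Decomposition ℳ] (f : M →ₗ[R] L) (hf : ∀ (g : ι) (m : M), m ∈ ℳ g → f m ∈ 𝓛 g) :
    (LinearMap.range f).IsHomogeneous 𝓛 := by
  rintro i _ ⟨m, rfl⟩
  rw [decompose_map 𝓛 ℳ f hf m i]
  exact LinearMap.mem_range_self f _

variable (N : Submodule R L) (hN : N.IsHomogeneous 𝓛)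
  (hess : ∀ P : Submodule R L, P.IsHomogeneous 𝓛 → P ≠ ⊥ → P ⊓ N ≠ ⊥)

include hN hess in
theorem exists_smul_mem_of_homogeneous {g : ι} {x : L} (hx : x ∈ 𝓛 g) (hx0 : x ≠ 0) :
    ∃ (h : ι) (r : R), r ∈ 𝒜 h ∧ r • x ≠ 0 ∧ r • x ∈ N := by
  classical
  have hP := span_singleton_isHomogeneous 𝒜 𝓛 hx
  have hP0 : Submodule.span R {x} ≠ ⊥ := by
    rw [Ne, Submodule.span_singleton_eq_bot]; exact hx0
  obtain ⟨z, hz, hz0⟩ := Submodule.exists_mem_ne_zero_of_ne_bot (hess _ hP hP0)
  obtain ⟨hzP, hzN⟩ := hz
  obtain ⟨d, hd⟩ := exists_component_ne_zero 𝓛 hz0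
  have h1 : ((decompose 𝓛 z) d : L) ∈ Submodule.span R {x} := hP d hzP
  have h2 : ((decompose 𝓛 z) d : L) ∈ N := hN d hzN
  obtain ⟨r, hr⟩ := Submodule.mem_span_singleton.mp h1
  have h3 : ((decompose 𝓛 (r • x)) d : L) = ((decompose 𝓛 z) d : L) := by
    rw [hr, DirectSum.decompose_of_mem_same _ (SetLike.coe_mem _)]
  rw [decompose_smul_of_mem_right 𝒜 𝓛 hx r d] at h3
  refine ⟨d - g, ((decompose 𝒜 r) (d - g) : R), SetLike.coe_mem _, ?_, ?_⟩
  · rw [h3]; exact hd
  · rw [h3]; exact h2

include hN hess in
theorem exists_smul_mem (x : L) (hx0 : x ≠ 0) :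
    ∃ (h : ι) (r : R), r ∈ 𝒜 h ∧ r • x ≠ 0 ∧ r • x ∈ N := by
  classical
  suffices H : ∀ (n : ℕ) (x : L), (decompose 𝓛 x).support.card = n → x ≠ 0 →
      ∃ (h : ι) (r : R), r ∈ 𝒜 h ∧ r • x ≠ 0 ∧ r • x ∈ N from H _ x rfl hx0
  intro n
  induction n using Nat.strong_induction_on with
  | _ n ih =>
    intro x hn hx0
    obtain ⟨g1, hg1⟩ := exists_component_ne_zero 𝓛 hx0
    have hg1s : g1 ∈ (decompose 𝓛 x).support := by
      rw [DFinsupp.mem_support_iff]
      intro h
      apply hg1
      rw [h]; rfl
    obtain ⟨h, r, hr, hrx0, hrxN⟩ :=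
      exists_smul_mem_of_homogeneous 𝒜 𝓛 N hN hess (SetLike.coe_mem ((decompose 𝓛 x) g1)) hg1
    set x1 : L := ((decompose 𝓛 x) g1 : L) with hx1
    set w : L := x - x1 with hw
    by_cases hy : r • w = 0
    · refine ⟨h, r, hr, ?_, ?_⟩
      · have : r • x = r • x1 := by
          rw [hw, smul_sub, sub_eq_zero] at hy; exact hy
        rw [this]; exact hrx0
      · have : r • x = r • x1 := by
          rw [hw, smul_sub, sub_eq_zero] at hy; exact hy
        rw [this]; exact hrxN
    · -- components of w
      have hwcomp : ∀ g, ((decompose 𝓛 w) g : L) = if g = g1 then 0 else ((decompose 𝓛 x) g : L) := by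
        intro g
        rw [hw, DirectSum.decompose_sub, DirectSum.sub_apply, AddSubgroup.coe_sub]
        by_cases hg : g = g1
        · subst hg
          rw [if_pos rfl, hx1, DirectSum.decompose_of_mem_same _ (SetLike.coe_mem _), sub_self]
        · rw [if_neg hg, hx1, DirectSum.decompose_of_mem_ne _ (SetLike.coe_mem _) (Ne.symm hg),
            sub_zero]
      have hsuppw : (decompose 𝓛 w).support ⊆ (decompose 𝓛 x).support.erase g1 := by
        intro g hg
        rw [DFinsupp.mem_support_iff] at hg
        have hg' : ((decompose 𝓛 w) g : L) ≠ 0 := fun h0 => hg (Subtype.ext h0)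
        rw [hwcomp g] at hg'
        by_cases hgg : g = g1
        · rw [if_pos hgg] at hg'; exact absurd rfl hg'
        · rw [if_neg hgg] at hg'
          rw [Finset.mem_erase, DFinsupp.mem_support_iff]
          refine ⟨hgg, fun h0 => hg' ?_⟩
          rw [h0]; rfl
      have hsuppy : (decompose 𝓛 (r • w)).support ⊆
          ((decompose 𝓛 w).support).image (fun g => h + g) := by
        intro d hd
        rw [DFinsupp.mem_support_iff] at hd
        have hd' : ((decompose 𝓛 (r • w)) d : L) ≠ 0 := fun h0 => hd (Subtype.ext h0)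
        rw [decompose_smul_of_mem 𝒜 𝓛 hr w d] at hd'
        rw [Finset.mem_image]
        refine ⟨d - h, ?_, by abel⟩
        rw [DFinsupp.mem_support_iff]
        intro h0
        apply hd'
        rw [h0]
        exact smul_zero r
      have hcard : (decompose 𝓛 (r • w)).support.card < n := by
        calc (decompose 𝓛 (r • w)).support.card
            ≤ (((decompose 𝓛 w).support).image (fun g => h + g)).card := Finset.card_le_card hsuppy
          _ ≤ (decompose 𝓛 w).support.card := Finset.card_image_le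
          _ ≤ ((decompose 𝓛 x).support.erase g1).card := Finset.card_le_card hsuppw
          _ < (decompose 𝓛 x).support.card := Finset.card_erase_lt_of_mem hg1s
          _ = n := hn
      obtain ⟨h', s, hs, hsy0, hsyN⟩ := ih _ hcard (r • w) rfl hy
      have hsr : s * r ∈ 𝒜 (h' + h) := SetLike.GradedMul.mul_mem hs hr
      refine ⟨h' + h, s * r, hsr, ?_, ?_⟩
      · -- nonzero
        obtain ⟨d, hd⟩ := exists_component_ne_zero 𝓛 hsy0
        rw [smul_smul] at hd
        intro h0
        apply hd
        have e1 := decompose_smul_of_mem 𝒜 𝓛 hsr w d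
        have e2 := decompose_smul_of_mem 𝒜 𝓛 hsr x d
        rw [h0, DirectSum.decompose_zero] at e2
        rw [e1, hwcomp]
        by_cases hgg : d - (h' + h) = g1
        · rw [if_pos hgg, smul_zero]
        · rw [if_neg hgg, ← e2]; rfl
      · have : (s * r) • x = s • (r • w) + s • (r • x1) := by
          rw [hw, smul_sub, smul_sub, sub_add_cancel, smul_smul]
        rw [this]
        exact N.add_mem hsyN (N.smul_mem s hrxN)

end Groth.Agent.Lib.Helper29GrEss
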