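import Mathlib
import Groth.Agent.Lib.Helper29GrEss
import Groth.Prelude.Def_GrLC

/-! Graded Artinian modules: the pieces are Artinian over the degree-zero subring, and over a
non-negatively `ℤ`-graded ring the pieces vanish in large degrees (helper29). -/

set_option autoImplicit false
set_option linter.style.haveILetI false
open DirectSum

namespace Groth.Agent.Lib.Helper29.GrArt

open Groth.Agent.Lib.Helper29GrEss

universe u

section General

variable {ι : Type} [AddCommGroup ι] [DecidableEq ι]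
variable {R : Type u} [CommRing R] (𝒜 : ι → AddSubgroup R) [GradedRing 𝒜]
variable {L : Type u} [AddCommGroup L] [Module R L] (𝓛 : ι → AddSubgroup L)
  [DirectSum.Decomposition 𝓛] [SetLike.GradedSMul 𝒜 𝓛]

/-- additivity of the component over finite sums, as a closure statement -/
theorem component_sum_mem (n : ι) (S : AddSubgroup L) {κ : Type*} (s : Finset κ) (f : κ → L)
    (h : ∀ t ∈ s, ((decompose 𝓛 (f t)) n : L) ∈ S) :
    ((decompose 𝓛 (∑ t ∈ s, f t)) n : L) ∈ S := by
  classical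
  induction s using Finset.induction_on with
  | empty =>
    rw [Finset.sum_empty, DirectSum.decompose_zero, DirectSum.zero_apply, AddSubgroup.coe_zero]
    exact zero_mem _
  | insert a s ha ih =>
    rw [Finset.sum_insert ha, DirectSum.decompose_add, DirectSum.add_apply, AddSubgroup.coe_add]
    exact add_mem (h a (Finset.mem_insert_self a s))
      (ih fun t ht => h t (Finset.mem_insert_of_mem ht))

theorem mem_of_mem_span_of_mem_piece (n : ι) (N : Submodule (GrLC.deg0 𝒜) L)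
    (hN : ∀ x ∈ N, x ∈ 𝓛 n) (x : L) (hx : x ∈ Submodule.span R (N : Set L)) (hxn : x ∈ 𝓛 n) :
    x ∈ N := by
  obtain ⟨k, f, g, rfl⟩ := Submodule.mem_span_set'.mp hx
  have h1 := component_sum_mem 𝓛 n N.toAddSubgroup Finset.univ (fun t => f t • (g t : L)) ?_
  · rw [DirectSum.decompose_of_mem_same 𝓛 hxn] at h1
    exact h1
  · intro t _
    have hg : (g t : L) ∈ 𝓛 n := hN _ (g t).2
    rw [decompose_smul_of_mem_right 𝒜 𝓛 hg (f t) n, sub_self]
    exact N.smul_mem (⟨_, SetLike.coe_mem ((decompose 𝒜 (f t)) 0)⟩ : GrLC.deg0 𝒜) (g t).2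

/-- The pieces of a graded Artinian module are Artinian over the degree-zero subring. -/
theorem isArtinian_piece [IsArtinian R L] (n : ι) (P : Submodule (GrLC.deg0 𝒜) L)
    (hP : ∀ x, x ∈ P → x ∈ 𝓛 n) : IsArtinian (GrLC.deg0 𝒜) P := by
  let Φ : Submodule (GrLC.deg0 𝒜) P → Submodule R L := fun N =>
    Submodule.span R ((N.map P.subtype : Submodule (GrLC.deg0 𝒜) L) : Set L)
  have hsm : StrictMono Φ := by
    intro N N' hlt
    refine lt_of_le_of_ne (Submodule.span_mono (Submodule.map_mono hlt.le)) ?_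
    intro heq
    obtain ⟨x, hx', hx⟩ := SetLike.exists_of_lt hlt
    apply hx
    have h1 : (x : L) ∈ Φ N' := Submodule.subset_span ⟨x, hx', rfl⟩
    rw [← heq] at h1
    have h2 := mem_of_mem_span_of_mem_piece 𝒜 𝓛 n (N.map P.subtype)
      (by rintro _ ⟨y, _, rfl⟩; exact hP _ y.2) (x : L) h1 (hP _ x.2)
    obtain ⟨y, hy, hyx⟩ := h2
    have : y = x := Subtype.ext hyx
    rw [← this]
    exact hy
  exact hsm.wellFoundedLT

end General

section Int

variable {R : Type u} [CommRing R] (𝒜 : ℤ → AddSubgroup R) [GradedRing 𝒜]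
  (hpos : ∀ n : ℤ, n < 0 → 𝒜 n = ⊥)
variable {L : Type u} [AddCommGroup L] [Module R L] (𝓛 : ℤ → AddSubgroup L)
  [DirectSum.Decomposition 𝓛] [SetLike.GradedSMul 𝒜 𝓛]

include hpos in
theorem component_eq_zero_of_mem_span (j l : ℤ) (hl : l < j) (x : L)
    (hx : x ∈ Submodule.span R (⋃ k ∈ Set.Ici j, (𝓛 k : Set L))) :
    ((decompose 𝓛 x) l : L) = 0 := by
  obtain ⟨k, f, g, rfl⟩ := Submodule.mem_span_set'.mp hx
  have h1 := component_sum_mem 𝓛 l (⊥ : AddSubgroup L) Finset.univ
    (fun t => f t • (g t : L)) ?_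
  · exact (AddSubgroup.mem_bot).mp h1
  · intro t _
    obtain ⟨k', hk', hg⟩ := Set.mem_iUnion₂.mp (g t).2
    rw [decompose_smul_of_mem_right 𝒜 𝓛 hg (f t) l]
    have hneg : l - k' < 0 := by
      have : j ≤ k' := hk'
      omega
    have h0 : ((decompose 𝒜 (f t)) (l - k') : R) = 0 := by
      have hm : ((decompose 𝒜 (f t)) (l - k') : R) ∈ 𝒜 (l - k') := SetLike.coe_mem _
      have hm' : ((decompose 𝒜 (f t)) (l - k') : R) ∈ (⊥ : AddSubgroup R) := hpos _ hneg ▸ hm
      exact (AddSubgroup.mem_bot).mp hm'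
    rw [h0, zero_smul]
    exact zero_mem _

include hpos in
/-- Over a non-negatively graded ring, a graded Artinian module vanishes in large degrees. -/
theorem exists_piece_eq_bot [IsArtinian R L] : ∃ N₀ : ℤ, ∀ n : ℤ, N₀ ≤ n → 𝓛 n = ⊥ := by
  let F : ℕ →o (Submodule R L)ᵒᵈ :=
    { toFun := fun j => OrderDual.toDual
        (Submodule.span R (⋃ k ∈ Set.Ici (j : ℤ), (𝓛 k : Set L)))
      monotone' := by
        intro a b hab
        show Submodule.span R (⋃ k ∈ Set.Ici (b : ℤ), (𝓛 k : Set L)) ≤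
          Submodule.span R (⋃ k ∈ Set.Ici (a : ℤ), (𝓛 k : Set L))
        apply Submodule.span_mono
        apply Set.biUnion_subset_biUnion_left
        intro k hk
        have h1 : (b : ℤ) ≤ k := hk
        have h2 : (a : ℤ) ≤ b := by exact_mod_cast hab
        exact le_trans h2 h1 }
  obtain ⟨N₀, hN₀⟩ := IsArtinian.monotone_stabilizes F
  refine ⟨N₀, fun n hn => ?_⟩
  rw [eq_bot_iff]
  intro y hy
  have hn0 : 0 ≤ n := le_trans (Int.natCast_nonneg N₀) hn
  have h1 : N₀ ≤ n.toNat := by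
    have : (N₀ : ℤ) ≤ (n.toNat : ℤ) := by rw [Int.toNat_of_nonneg hn0]; exact hn
    exact_mod_cast this
  have e1 : F n.toNat = F (n.toNat + 1) := by
    rw [← hN₀ n.toNat h1, ← hN₀ (n.toNat + 1) (by omega)]
  have e2 : Submodule.span R (⋃ k ∈ Set.Ici ((n.toNat : ℕ) : ℤ), (𝓛 k : Set L)) =
      Submodule.span R (⋃ k ∈ Set.Ici (((n.toNat + 1 : ℕ)) : ℤ), (𝓛 k : Set L)) :=
    congrArg OrderDual.ofDual e1
  have h2 : y ∈ Submodule.span R (⋃ k ∈ Set.Ici ((n.toNat : ℕ) : ℤ), (𝓛 k : Set L)) := by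
    apply Submodule.subset_span
    refine Set.mem_iUnion₂.mpr ⟨n, ?_, hy⟩
    show ((n.toNat : ℕ) : ℤ) ≤ n
    rw [Int.toNat_of_nonneg hn0]
  rw [e2] at h2
  have h3 := component_eq_zero_of_mem_span 𝒜 hpos 𝓛 (((n.toNat + 1 : ℕ)) : ℤ) n (by
    push_cast
    rw [Int.toNat_of_nonneg hn0]
    omega) y h2
  rw [DirectSum.decompose_of_mem_same 𝓛 hy] at h3
  rw [h3]
  exact zero_mem _

end Int

end Groth.Agent.Lib.Helper29.GrArt
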