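import Groth.Agent.Lib.Helper8LC
import Groth.Prelude.Def_GrLC

/-! Local cohomology (Mathlib's `localCohomology`) can be computed from a resolution by
`Γ_I`-acyclic modules (helper29).  Built on helper8's long exact sequence. -/

set_option autoImplicit false
open CategoryTheory

noncomputable section

namespace Groth.Agent.Lib.Helper29LCAcyclic

open Groth.Agent.Lib.Helper8.LC

universe u

variable {R : Type u} [CommRing R] (I : Ideal R)

/-- `H^i_I(N)` as a type. -/
abbrev LC (i : ℕ) (N : Type u) [AddCommGroup N] [Module R N] : Type u :=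
  (localCohomology I i).obj (ModuleCat.of R N)

section H0

variable (N : Type u) [AddCommGroup N] [Module R N]

/-- `Φ` as a linear map into the torsion submodule. -/
def Φr : LC I 0 N →ₗ[R] GrLC.gam I N :=
  (Φ I (ModuleCat.of R N)).hom.codRestrict (GrLC.gam I N)
    (fun x => Φ_mem_torsionSub I (ModuleCat.of R N) x)

theorem Φr_coe (x : LC I 0 N) : ((Φr I N x : GrLC.gam I N) : N) = Φ I (ModuleCat.of R N) x := rfl

theorem Φr_bijective : Function.Bijective (Φr I N) := by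
  constructor
  · intro x y hxy
    apply Φ_injective I (ModuleCat.of R N)
    have := congrArg Subtype.val hxy
    exact this
  · rintro ⟨m, hm⟩
    obtain ⟨x, hx⟩ := exists_Φ_eq I (ModuleCat.of R N) m hm
    exact ⟨x, Subtype.ext hx⟩

/-- `H^0_I(N) ≃ Γ_I(N)`. -/
def H0Equiv : LC I 0 N ≃ₗ[R] GrLC.gam I N :=
  LinearEquiv.ofBijective (Φr I N) (Φr_bijective I N)

theorem H0Equiv_coe (x : LC I 0 N) :
    ((H0Equiv I N x : GrLC.gam I N) : N) = Φ I (ModuleCat.of R N) x := rfl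

end H0

section Res

variable {M : Type u} [AddCommGroup M] [Module R M]
variable (X : ℕ → Type u) [∀ n, AddCommGroup (X n)] [∀ n, Module R (X n)]
variable (d : ∀ n, X n →ₗ[R] X (n + 1)) (ε : M →ₗ[R] X 0)
variable (hs : ∀ n, LinearMap.ker (d (n + 1)) = LinearMap.range (d n))

/-- The cocycles `Z_n = ker d_n`. -/
abbrev Z (n : ℕ) : Submodule R (X n) := LinearMap.ker (d n)

/-- `d_n` as a map onto `Z_{n+1}`. -/
def gmap (n : ℕ) : X n →ₗ[R] Z X d (n + 1) :=
  (d n).codRestrict (LinearMap.ker (d (n + 1))) (fun x => by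
    rw [hs n]
    exact LinearMap.mem_range_self _ x)

theorem gmap_coe (n : ℕ) (x : X n) : ((gmap X d hs n x : Z X d (n + 1)) : X (n + 1)) = d n x := rfl

/-- The short complex `0 → Z_n → X_n → Z_{n+1} → 0`. -/
abbrev Sn (n : ℕ) : ShortComplex (ModuleCat.{u} R) :=
  ShortComplex.mk (ModuleCat.ofHom (Z X d n).subtype) (ModuleCat.ofHom (gmap X d hs n)) (by
    ext x
    exact x.2)

theorem Sn_shortExact (n : ℕ) : (Sn X d hs n).ShortExact := by
  refine ModuleCat.shortComplex_shortExact _ ?_ ?_ ?_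
  · intro y
    change gmap X d hs n y = 0 ↔ y ∈ Set.range (Z X d n).subtype
    constructor
    · intro h
      have h' : d n y = 0 := congrArg Subtype.val h
      exact ⟨⟨y, h'⟩, rfl⟩
    · rintro ⟨z, rfl⟩
      apply Subtype.ext
      exact z.2
  · exact (Z X d n).injective_subtype
  · rintro ⟨z, hz⟩
    have hz' : z ∈ LinearMap.range (d n) := by rw [← hs n]; exact hz
    obtain ⟨x, rfl⟩ := hz'
    exact ⟨x, rfl⟩

variable (hacyc : ∀ (n j : ℕ) (x : LC I (j + 1) (X n)), x = 0)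

include hacyc in
theorem Hδ_bijective (n j : ℕ) :
    Function.Bijective (Hδ I (j + 1) (Sn X d hs n) (Sn_shortExact X d hs n)) := by
  constructor
  · rw [injective_iff_map_eq_zero]
    intro z hz
    obtain ⟨y, rfl⟩ := H_exact₃ I (j + 1) (Sn X d hs n) (Sn_shortExact X d hs n) z hz
    have hy : y = 0 := hacyc n j y
    rw [hy, map_zero]
  · intro x
    exact H_exact₁ I (j + 1) (Sn X d hs n) (Sn_shortExact X d hs n) x (hacyc n (j + 1) _)

include hacyc hs in
theorem nonempty_shift (n j : ℕ) :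
    Nonempty (LC I (j + 1) (Z X d (n + 1)) ≃ₗ[R] LC I (j + 2) (Z X d n)) :=
  ⟨LinearEquiv.ofBijective (Hδ I (j + 1) (Sn X d hs n) (Sn_shortExact X d hs n)).hom
    (Hδ_bijective I X d hs hacyc n j)⟩

include hacyc hs in
theorem nonempty_shift_all (n : ℕ) : ∀ j : ℕ,
    Nonempty (LC I (j + 1) (Z X d n) ≃ₗ[R] LC I (j + 1 + n) (Z X d 0)) := by
  induction n with
  | zero => intro j; exact ⟨LinearEquiv.refl _ _⟩
  | succ n ih =>
    intro j
    obtain ⟨e1⟩ := nonempty_shift I X d hs hacyc n j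
    obtain ⟨e2⟩ := ih (j + 1)
    have h : j + 1 + 1 + n = j + 1 + (n + 1) := by omega
    rw [h] at e2
    exact ⟨e1.trans e2⟩

/-- The torsion cocycles `Γ_I(X_n) ∩ ker d_n`. -/
abbrev cocyc (n : ℕ) : Submodule R (X n) := GrLC.gam I (X n) ⊓ LinearMap.ker (d n)

/-- A torsion cocycle as a torsion element of the module `Z_n`. -/
def τ (n : ℕ) : cocyc I X d n →ₗ[R] GrLC.gam I (Z X d n) where
  toFun z := ⟨⟨z.1, z.2.2⟩, by
    obtain ⟨k, hk⟩ := z.2.1
    exact ⟨k, fun a ha => Subtype.ext (hk a ha)⟩⟩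
  map_add' _ _ := rfl
  map_smul' _ _ := rfl

theorem τ_coe (n : ℕ) (z : cocyc I X d n) : (((τ I X d n z : GrLC.gam I (Z X d n)) : Z X d n) : X n) = z :=
  rfl

theorem τ_surjective (n : ℕ) : Function.Surjective (τ I X d n) := by
  rintro ⟨⟨z, hz⟩, k, hk⟩
  refine ⟨⟨z, ⟨k, fun a ha => ?_⟩, hz⟩, rfl⟩
  exact congrArg Subtype.val (hk a ha)

/-- The map from torsion cocycles of degree `n+1` to `H^1_I(Z_n)`. -/
def Ψ (n : ℕ) : cocyc I X d (n + 1) →ₗ[R] LC I 1 (Z X d n) :=
  (Hδ I 0 (Sn X d hs n) (Sn_shortExact X d hs n)).hom ∘ₗ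
    ((H0Equiv I (Z X d (n + 1))).symm.toLinearMap ∘ₗ τ I X d (n + 1))

include hacyc in
theorem Ψ_surjective (n : ℕ) : Function.Surjective (Ψ I X d hs n) := by
  intro x
  obtain ⟨w, hw⟩ := H_exact₁ I 0 (Sn X d hs n) (Sn_shortExact X d hs n) x (hacyc n 0 _)
  obtain ⟨z, hz⟩ := τ_surjective I X d (n + 1) (H0Equiv I (Z X d (n + 1)) w)
  refine ⟨z, ?_⟩
  change Hδ I 0 (Sn X d hs n) (Sn_shortExact X d hs n)
    ((H0Equiv I (Z X d (n + 1))).symm (τ I X d (n + 1) z)) = x
  rw [hz, LinearEquiv.symm_apply_apply, hw]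

theorem ker_Ψ (n : ℕ) : LinearMap.ker (Ψ I X d hs n) =
    ((GrLC.gam I (X n)).map (d n)).comap (cocyc I X d (n + 1)).subtype := by
  ext z
  rw [LinearMap.mem_ker, Submodule.mem_comap, Submodule.mem_map]
  set w := (H0Equiv I (Z X d (n + 1))).symm (τ I X d (n + 1) z) with hw
  have hΦw : ((Φ I (ModuleCat.of R (Z X d (n + 1))) w : Z X d (n + 1)) : X (n + 1)) = z := by
    have h1 : H0Equiv I (Z X d (n + 1)) w = τ I X d (n + 1) z := by
      rw [hw, LinearEquiv.apply_symm_apply]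
    have h2 := congrArg (fun t : GrLC.gam I (Z X d (n + 1)) => ((t : Z X d (n + 1)) : X (n + 1))) h1
    exact h2
  change Hδ I 0 (Sn X d hs n) (Sn_shortExact X d hs n) w = 0 ↔ _
  constructor
  · intro h
    obtain ⟨y, hy⟩ := H_exact₃ I 0 (Sn X d hs n) (Sn_shortExact X d hs n) w h
    refine ⟨Φ I (ModuleCat.of R (X n)) y, Φ_mem_torsionSub I _ y, ?_⟩
    have h3 := Φ_naturality I (Sn X d hs n).g y
    rw [hy] at h3
    have h4 := congrArg (fun t : Z X d (n + 1) => (t : X (n + 1))) h3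
    exact (h4.symm.trans hΦw)
  · rintro ⟨x, hx, hxz⟩
    obtain ⟨y, hy⟩ := exists_Φ_eq I (ModuleCat.of R (X n)) x hx
    have h5 : (localCohomology I 0).map (Sn X d hs n).g y = w := by
      apply Φ_injective I (ModuleCat.of R (Z X d (n + 1)))
      rw [Φ_naturality, hy]
      apply Subtype.ext
      exact hxz.trans hΦw.symm
    rw [← h5]
    exact Hδ_map_g I 0 (Sn X d hs n) (Sn_shortExact X d hs n) y

include hacyc hs in
/-- `H^1_I(Z_n)` is the cohomology of `Γ_I(X_•)` in degree `n+1`. -/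
theorem nonempty_H1 (n : ℕ) :
    Nonempty ((cocyc I X d (n + 1) ⧸
      ((GrLC.gam I (X n)).map (d n)).comap (cocyc I X d (n + 1)).subtype) ≃ₗ[R]
      LC I 1 (Z X d n)) :=
  ⟨(Submodule.quotEquivOfEq _ _ (ker_Ψ I X d hs n).symm).trans
    (LinearMap.quotKerEquivOfSurjective (Ψ I X d hs n) (Ψ_surjective I X d hs hacyc n))⟩

section Aug

variable (hε : Function.Injective ε) (h0 : LinearMap.ker (d 0) = LinearMap.range ε)

/-- `M ≃ Z_0` through the augmentation. -/
def augEquiv : M ≃ₗ[R] Z X d 0 :=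
  (LinearEquiv.ofInjective ε hε).trans (LinearEquiv.ofEq _ _ h0.symm)

include hε h0 in
theorem nonempty_LC_aug (i : ℕ) : Nonempty (LC I i (Z X d 0) ≃ₗ[R] LC I i M) :=
  ⟨((localCohomology I i).mapIso (augEquiv X d ε hε h0).toModuleIso).toLinearEquiv.symm⟩

theorem τ_injective (n : ℕ) : Function.Injective (τ I X d n) := by
  intro z z' h
  apply Subtype.ext
  have := congrArg (fun t : GrLC.gam I (Z X d n) => ((t : Z X d n) : X n)) h
  exact this

include hε h0 in
/-- Degree zero: `Γ_I(X_0) ∩ ker d_0 ≅ H^0_I(M)`. -/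
theorem nonempty_zero :
    Nonempty ((cocyc I X d 0 ⧸ (⊥ : Submodule R (X 0)).comap (cocyc I X d 0).subtype) ≃ₗ[R]
      LC I 0 M) := by
  obtain ⟨e3⟩ := nonempty_LC_aug I X d ε hε h0 0
  have hbot : (⊥ : Submodule R (X 0)).comap (cocyc I X d 0).subtype = ⊥ := by
    rw [Submodule.comap_bot]
    exact Submodule.ker_subtype _
  exact ⟨(Submodule.quotEquivOfEqBot _ hbot).trans
    ((LinearEquiv.ofBijective (τ I X d 0) ⟨τ_injective I X d 0, τ_surjective I X d 0⟩).trans
      ((H0Equiv I (Z X d 0)).symm.trans e3))⟩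

include hacyc hs hε h0 in
/-- Positive degrees: the cohomology of `Γ_I(X_•)` in degree `n+1` is `H^{n+1}_I(M)`. -/
theorem nonempty_succ (n : ℕ) :
    Nonempty ((cocyc I X d (n + 1) ⧸
      ((GrLC.gam I (X n)).map (d n)).comap (cocyc I X d (n + 1)).subtype) ≃ₗ[R]
      LC I (n + 1) M) := by
  obtain ⟨e1⟩ := nonempty_H1 I X d hs hacyc n
  obtain ⟨e2⟩ := nonempty_shift_all I X d hs hacyc n 0
  obtain ⟨e3⟩ := nonempty_LC_aug I X d ε hε h0 (0 + 1 + n)
  have h : 0 + 1 + n = n + 1 := by omega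
  rw [h] at e2 e3
  exact ⟨e1.trans (e2.trans e3)⟩

end Aug

end Res

end Groth.Agent.Lib.Helper29LCAcyclic
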