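import Mathlib

/-! Dimension shifting for `Abelian.Ext` in `ModuleCat` (helper29). -/

set_option autoImplicit false
open CategoryTheory CategoryTheory.Abelian

namespace Groth.Agent.Lib.Helper29ExtShift

universe u

variable {R : Type u} [CommRing R]
variable {M Q Y : Type u} [AddCommGroup M] [Module R M] [AddCommGroup Q] [Module R Q]
  [AddCommGroup Y] [Module R Y]

/-- If `Ext^i(ker g, Y)` and `Ext^i(Q, Y)` vanish for a surjection `g : M → Q`, so does
`Ext^i(M, Y)`. -/
theorem subsingleton_of_ses (g : M →ₗ[R] Q) (hg : Function.Surjective g) (i : ℕ)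
    (h1 : Subsingleton (Ext.{u} (ModuleCat.of R (LinearMap.ker g)) (ModuleCat.of R Y) i))
    (h3 : Subsingleton (Ext.{u} (ModuleCat.of R Q) (ModuleCat.of R Y) i)) :
    Subsingleton (Ext.{u} (ModuleCat.of R M) (ModuleCat.of R Y) i) := by
  have hS := LinearMap.shortExact_shortComplexKer hg
  suffices ∀ x : Ext.{u} (ModuleCat.of R M) (ModuleCat.of R Y) i, x = 0 from
    ⟨fun x y => by rw [this x, this y]⟩
  intro x
  obtain ⟨x₁, hx₁⟩ := Ext.contravariant_sequence_exact₂ hS (ModuleCat.of R Y) x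
    (Subsingleton.elim (α := Ext.{u} (ModuleCat.of R (LinearMap.ker g)) (ModuleCat.of R Y) i) _ _)
  have hx0 : x₁ = 0 :=
    Subsingleton.elim (α := Ext.{u} (ModuleCat.of R Q) (ModuleCat.of R Y) i) _ _
  rw [← hx₁, hx0, Ext.comp_zero]

/-- `Ext^1(Q, Y) = 0` if `Q` is a quotient of a projective `M` such that every map from the kernel
to `Y` extends to `M`. -/
theorem subsingleton_one_of_extends [Module.Projective R M] (g : M →ₗ[R] Q)
    (hg : Function.Surjective g)
    (hext : ∀ φ : LinearMap.ker g →ₗ[R] Y, ∃ ψ : M →ₗ[R] Y, ψ ∘ₗ (LinearMap.ker g).subtype = φ) :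
    Subsingleton (Ext.{u} (ModuleCat.of R Q) (ModuleCat.of R Y) 1) := by
  have hS := LinearMap.shortExact_shortComplexKer hg
  have : Projective (ModuleCat.of R M) := (IsProjective.iff_projective.{u, u} M).mp inferInstance
  suffices ∀ x : Ext.{u} (ModuleCat.of R Q) (ModuleCat.of R Y) 1, x = 0 from
    ⟨fun x y => by rw [this x, this y]⟩
  intro x
  obtain ⟨x₁, hx₁⟩ := Ext.contravariant_sequence_exact₃ hS (ModuleCat.of R Y) x
    (Ext.eq_zero_of_projective _) (n₀ := 0) rfl
  obtain ⟨φ, rfl⟩ := (Ext.mk₀_bijective _ _).2 x₁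
  obtain ⟨ψ, hψ⟩ := hext φ.hom
  have hφ : φ = g.shortComplexKer.f ≫ ModuleCat.ofHom ψ := by
    ext : 1
    exact hψ.symm
  rw [← hx₁, hφ, ← Ext.mk₀_comp_mk₀]
  exact hS.extClass_comp_assoc _

/-- Dimension shifting: `Ext^{i+1}(Q, Y) = 0` if `Q` is a quotient of a projective with kernel `K`
and `Ext^i(K, Y) = 0`. -/
theorem subsingleton_succ_of_ker [Module.Projective R M] (g : M →ₗ[R] Q)
    (hg : Function.Surjective g) (i : ℕ)
    (h1 : Subsingleton (Ext.{u} (ModuleCat.of R (LinearMap.ker g)) (ModuleCat.of R Y) i)) :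
    Subsingleton (Ext.{u} (ModuleCat.of R Q) (ModuleCat.of R Y) (i + 1)) := by
  have hS := LinearMap.shortExact_shortComplexKer hg
  have : Projective (ModuleCat.of R M) := (IsProjective.iff_projective.{u, u} M).mp inferInstance
  suffices ∀ x : Ext.{u} (ModuleCat.of R Q) (ModuleCat.of R Y) (i + 1), x = 0 from
    ⟨fun x y => by rw [this x, this y]⟩
  intro x
  obtain ⟨x₁, hx₁⟩ := Ext.contravariant_sequence_exact₃ hS (ModuleCat.of R Y) x
    (Ext.eq_zero_of_projective _) (n₀ := i) (add_comm 1 i)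
  have hx0 : x₁ = 0 :=
    Subsingleton.elim (α := Ext.{u} (ModuleCat.of R (LinearMap.ker g)) (ModuleCat.of R Y) i) _ _
  rw [← hx₁, hx0, Ext.comp_zero]

end Groth.Agent.Lib.Helper29ExtShift
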