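import Groth.Agent.Lib.Helper29GrSub

/-! Induced grading on the quotient by a homogeneous submodule (helper29). -/

set_option autoImplicit false
open DirectSum

noncomputable section

namespace Groth.Agent.Lib.Helper29GrQuot

universe u

variable {ι : Type} [AddCommGroup ι] [DecidableEq ι]
variable {R : Type u} [CommRing R]
variable {L : Type u} [AddCommGroup L] [Module R L] (𝓛 : ι → AddSubgroup L)
variable (P : Submodule R L)

/-- The induced pieces on the quotient. -/
def quotGr : ι → AddSubgroup (L ⧸ P) := fun g => (𝓛 g).map P.mkQ.toAddMonoidHom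

theorem mem_quotGr {g : ι} {y : L ⧸ P} :
    y ∈ quotGr 𝓛 P g ↔ ∃ a ∈ 𝓛 g, P.mkQ a = y := Iff.rfl

/-- Component projection maps. -/
def projPiece (g : ι) : ↥(𝓛 g) →+ ↥(quotGr 𝓛 P g) where
  toFun x := ⟨P.mkQ (x : L), (x : L), x.2, rfl⟩
  map_zero' := Subtype.ext (map_zero P.mkQ)
  map_add' x y := Subtype.ext (map_add P.mkQ (x : L) (y : L))

theorem coe_map_projPiece (y : ⨁ g, 𝓛 g) :
    DirectSum.coeAddMonoidHom (quotGr 𝓛 P) (DirectSum.map (projPiece 𝓛 P) y) =
      P.mkQ (DirectSum.coeAddMonoidHom 𝓛 y) := by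
  classical
  induction y using DirectSum.induction_on with
  | zero => simp
  | of g x =>
    rw [DirectSum.map_of, DirectSum.coeAddMonoidHom_of, DirectSum.coeAddMonoidHom_of]
    rfl
  | add x y hx hy => rw [map_add, map_add, map_add, map_add, hx, hy]

variable [DirectSum.Decomposition 𝓛]

/-- The decomposition map on `L`, before passing to the quotient. -/
def preDec : L →+ ⨁ g, quotGr 𝓛 P g :=
  (DirectSum.map (projPiece 𝓛 P)).comp (DirectSum.decomposeAddEquiv 𝓛).toAddMonoidHom

theorem preDec_apply (x : L) :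
    preDec 𝓛 P x = DirectSum.map (projPiece 𝓛 P) (DirectSum.decompose 𝓛 x) := rfl

theorem preDec_eq_zero (hP : P.IsHomogeneous 𝓛) {x : L} (hx : x ∈ P) : preDec 𝓛 P x = 0 := by
  rw [preDec_apply]
  ext g
  rw [DirectSum.map_apply, DirectSum.zero_apply]
  change P.mkQ ((DirectSum.decompose 𝓛 x) g : L) = 0
  rw [Submodule.mkQ_apply, Submodule.Quotient.mk_eq_zero]
  exact hP g hx

/-- The decomposition map on the quotient. -/
def decHom (hP : P.IsHomogeneous 𝓛) : (L ⧸ P) →+ ⨁ g, quotGr 𝓛 P g :=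
  QuotientAddGroup.lift P.toAddSubgroup (preDec 𝓛 P) (fun _ hx => preDec_eq_zero 𝓛 P hP hx)

theorem decHom_mk (hP : P.IsHomogeneous 𝓛) (x : L) :
    decHom 𝓛 P hP (P.mkQ x) = preDec 𝓛 P x := rfl

/-- The induced decomposition on the quotient by a homogeneous submodule. -/
@[instance_reducible]
def quotDecomposition (hP : P.IsHomogeneous 𝓛) : DirectSum.Decomposition (quotGr 𝓛 P) :=
  DirectSum.Decomposition.ofAddHom (quotGr 𝓛 P) (decHom 𝓛 P hP)
    (by
      apply AddMonoidHom.ext
      intro y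
      obtain ⟨x, rfl⟩ := P.mkQ_surjective y
      rw [AddMonoidHom.comp_apply, decHom_mk, preDec_apply, coe_map_projPiece]
      have : DirectSum.coeAddMonoidHom 𝓛 (DirectSum.decompose 𝓛 x) = x :=
        DirectSum.Decomposition.left_inv x
      rw [this]
      rfl)
    (by
      apply DirectSum.addHom_ext
      rintro g ⟨y, a, ha, rfl⟩
      rw [AddMonoidHom.comp_apply, DirectSum.coeAddMonoidHom_of]
      change decHom 𝓛 P hP (P.mkQ a) = _
      rw [decHom_mk, preDec_apply, DirectSum.decompose_of_mem 𝓛 ha, DirectSum.map_of]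
      rfl)

theorem quot_gradedSMul (𝒜 : ι → AddSubgroup R) [GradedRing 𝒜] [SetLike.GradedSMul 𝒜 𝓛] :
    SetLike.GradedSMul 𝒜 (quotGr 𝓛 P) where
  smul_mem := by
    rintro i j r y hr ⟨a, ha, rfl⟩
    exact ⟨r • a, SetLike.GradedSMul.smul_mem (A := 𝒜) (B := 𝓛) hr ha, map_smul P.mkQ r a⟩

end Groth.Agent.Lib.Helper29GrQuot
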