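import Groth.Agent.Lib.Helper29GrEss

/-! Induced grading on a homogeneous submodule; sups of homogeneous submodules (helper29). -/

set_option autoImplicit false
open DirectSum

namespace Groth.Agent.Lib.Helper29GrSub

universe u

variable {ι : Type} [AddCommGroup ι] [DecidableEq ι]
variable {R : Type u} [CommRing R]
variable {L : Type u} [AddCommGroup L] [Module R L] (𝓛 : ι → AddSubgroup L)
variable (P : Submodule R L)

/-- The induced pieces on a submodule. -/
def subGr : ι → AddSubgroup ↥P := fun g => (𝓛 g).comap P.subtype.toAddMonoidHom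

theorem mem_subGr {g : ι} {x : ↥P} : x ∈ subGr 𝓛 P g ↔ (x : L) ∈ 𝓛 g := Iff.rfl

/-- Component inclusion maps. -/
def inclPiece (g : ι) : ↥(subGr 𝓛 P g) →+ ↥(𝓛 g) where
  toFun x := ⟨((x : ↥P) : L), x.2⟩
  map_zero' := rfl
  map_add' _ _ := rfl

theorem inclPiece_injective (g : ι) : Function.Injective (inclPiece 𝓛 P g) := by
  intro x y h
  apply Subtype.ext
  apply Subtype.ext
  exact congrArg (fun z : ↥(𝓛 g) => (z : L)) h

theorem coe_map_inclPiece (y : ⨁ g, subGr 𝓛 P g) :
    DirectSum.coeAddMonoidHom 𝓛 (DirectSum.map (inclPiece 𝓛 P) y) =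
      ((DirectSum.coeAddMonoidHom (subGr 𝓛 P) y : ↥P) : L) := by
  classical
  induction y using DirectSum.induction_on with
  | zero => simp
  | of g x =>
    rw [DirectSum.map_of, DirectSum.coeAddMonoidHom_of, DirectSum.coeAddMonoidHom_of]
    rfl
  | add x y hx hy =>
    rw [map_add, map_add, map_add, hx, hy]
    rfl

variable [DirectSum.Decomposition 𝓛]

theorem isInternal_subGr (hP : P.IsHomogeneous 𝓛) : DirectSum.IsInternal (subGr 𝓛 P) := by
  classical
  constructor
  · rw [injective_iff_map_eq_zero]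
    intro y hy
    have h1 := coe_map_inclPiece 𝓛 P y
    rw [hy] at h1
    have h2 : DirectSum.map (inclPiece 𝓛 P) y = 0 := by
      apply (DirectSum.Decomposition.isInternal 𝓛).injective
      rw [h1, map_zero]
      rfl
    exact (DirectSum.map_injective (inclPiece 𝓛 P)).mpr (inclPiece_injective 𝓛 P)
      (h2.trans (map_zero _).symm)
  · intro x
    let y : ⨁ g, subGr 𝓛 P g := ∑ g ∈ (decompose 𝓛 (x : L)).support,
      DirectSum.of (fun g => subGr 𝓛 P g) g
        ⟨⟨((decompose 𝓛 (x : L)) g : L), hP g x.2⟩,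
          (SetLike.coe_mem ((decompose 𝓛 (x : L)) g) : ((decompose 𝓛 (x : L)) g : L) ∈ 𝓛 g)⟩
    refine ⟨y, ?_⟩
    apply Subtype.ext
    rw [← coe_map_inclPiece]
    have h3 : DirectSum.map (inclPiece 𝓛 P) y = decompose 𝓛 (x : L) := by
      simp only [y, map_sum, DirectSum.map_of]
      exact DirectSum.sum_support_of (decompose 𝓛 (x : L))
    rw [h3]
    exact DirectSum.Decomposition.left_inv (x : L)

/-- The induced decomposition on a homogeneous submodule. -/
@[instance_reducible]
noncomputable def subDecomposition (hP : P.IsHomogeneous 𝓛) :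
    DirectSum.Decomposition (subGr 𝓛 P) :=
  (isInternal_subGr 𝓛 P hP).chooseDecomposition

theorem sub_gradedSMul (𝒜 : ι → AddSubgroup R) [GradedRing 𝒜] [SetLike.GradedSMul 𝒜 𝓛] :
    SetLike.GradedSMul 𝒜 (subGr 𝓛 P) where
  smul_mem := by
    intro i j a b ha hb
    exact SetLike.GradedSMul.smul_mem (A := 𝒜) (B := 𝓛) ha hb

theorem IsHomogeneous.sup {P Q : Submodule R L} (hP : P.IsHomogeneous 𝓛) (hQ : Q.IsHomogeneous 𝓛) :
    (P ⊔ Q).IsHomogeneous 𝓛 := by
  intro g x hx
  obtain ⟨p, hp, q, hq, rfl⟩ := Submodule.mem_sup.mp hx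
  rw [DirectSum.decompose_add, DirectSum.add_apply, AddSubgroup.coe_add]
  exact Submodule.add_mem_sup (hP g hp) (hQ g hq)

theorem IsHomogeneous.sSup_of_directed {c : Set (Submodule R L)} (hne : c.Nonempty)
    (hdir : DirectedOn (· ≤ ·) c) (hc : ∀ Y ∈ c, Y.IsHomogeneous 𝓛) :
    (sSup c).IsHomogeneous 𝓛 := by
  intro g x hx
  obtain ⟨Y, hY, hxY⟩ := (Submodule.mem_sSup_of_directed hne hdir).mp hx
  exact (le_sSup hY) (hc Y hY g hxY)

theorem IsHomogeneous.bot : (⊥ : Submodule R L).IsHomogeneous 𝓛 := by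
  intro g x hx
  rw [Submodule.mem_bot] at hx
  rw [hx, DirectSum.decompose_zero]
  exact zero_mem _

end Groth.Agent.Lib.Helper29GrSub
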