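import Groth.Agent.Lib.Helper29GrBaer
import Groth.Agent.Lib.Helper29GrSub
import Groth.Agent.Lib.Helper29GrQuot
import Groth.Agent.Lib.Helper29ExtShift

/-! Vanishing of `Ext^i(M, I)` for finitely generated graded `M` and *injective `I` (helper29). -/

set_option autoImplicit false
open DirectSum CategoryTheory CategoryTheory.Abelian

noncomputable section

namespace Groth.Agent.Lib.Helper29GrExt

open Groth.Agent.Lib.Helper29GrHom Groth.Agent.Lib.Helper29GrShift Groth.Agent.Lib.Helper29GrEss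
  Groth.Agent.Lib.Helper29GrSub Groth.Agent.Lib.Helper29GrQuot Groth.Agent.Lib.Helper29GrBaer
  Groth.Agent.Lib.Helper29ExtShift

universe u

variable {ι : Type} [AddCommGroup ι] [DecidableEq ι]
variable {R : Type u} [CommRing R] (𝒜 : ι → AddSubgroup R) [GradedRing 𝒜]
variable (I : Type u) [AddCommGroup I] [Module R I]

/-- `Ext^i(M, I) = 0` for all finitely generated graded modules `M`. -/
def P (i : ℕ) : Prop :=
  ∀ (M : Type u) [AddCommGroup M] [Module R M] (𝓜 : ι → AddSubgroup M)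
    [DirectSum.Decomposition 𝓜] [SetLike.GradedSMul 𝒜 𝓜] [Module.Finite R M],
    Subsingleton (Ext.{u} (ModuleCat.of R M) (ModuleCat.of R I) i)

/-- `Ext^i(M, I) = 0` for all graded modules `M` generated by one homogeneous element. -/
def Pcyc (i : ℕ) : Prop :=
  ∀ (M : Type u) [AddCommGroup M] [Module R M] (𝓜 : ι → AddSubgroup M)
    [DirectSum.Decomposition 𝓜] [SetLike.GradedSMul 𝒜 𝓜] (m : M) (g : ι), m ∈ 𝓜 g →
    Submodule.span R {m} = ⊤ →
    Subsingleton (Ext.{u} (ModuleCat.of R M) (ModuleCat.of R I) i)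

section Cyclic

variable {M : Type u} [AddCommGroup M] [Module R M] (𝓜 : ι → AddSubgroup M)
  [DirectSum.Decomposition 𝓜] [SetLike.GradedSMul 𝒜 𝓜]

theorem toSpanSingleton_surjective {m : M} (hspan : Submodule.span R {m} = ⊤) :
    Function.Surjective (LinearMap.toSpanSingleton R M m) := by
  intro y
  have hy : y ∈ Submodule.span R {m} := hspan ▸ Submodule.mem_top
  obtain ⟨r, rfl⟩ := Submodule.mem_span_singleton.mp hy
  exact ⟨r, rfl⟩

theorem ker_toSpanSingleton_isHomogeneous {m : M} {g : ι} (hm : m ∈ 𝓜 g) :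
    (LinearMap.ker (LinearMap.toSpanSingleton R M m)).IsHomogeneous 𝒜 := by
  let dec' : DirectSum.Decomposition (shiftGr 𝓜 g) := shiftDecomposition 𝓜 g
  refine ker_isHomogeneous (shiftGr 𝓜 g) 𝒜 (LinearMap.toSpanSingleton R M m) ?_
  intro j r hr
  change r • m ∈ 𝓜 (j + g)
  exact SetLike.GradedSMul.smul_mem (A := 𝒜) (B := 𝓜) hr hm

end Cyclic

variable {I} (ℐ : ι → AddSubgroup I) [DirectSum.Decomposition ℐ] [SetLike.GradedSMul 𝒜 ℐ]

include ℐ in
theorem Pcyc_one [IsNoetherianRing R] (hI : GrLC.IsStarInj 𝒜 ℐ) : Pcyc 𝒜 I 1 := by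
  intro M _ _ 𝓜 _ _ m g hm hspan
  have hK := ker_toSpanSingleton_isHomogeneous 𝒜 𝓜 hm
  refine subsingleton_one_of_extends (LinearMap.toSpanSingleton R M m)
    (toSpanSingleton_surjective hspan) ?_
  intro φ
  let K : Submodule R R := LinearMap.ker (LinearMap.toSpanSingleton R M m)
  let decK : DirectSum.Decomposition (subGr 𝒜 K) := subDecomposition 𝒜 K hK
  have gsK : SetLike.GradedSMul 𝒜 (subGr 𝒜 K) := sub_gradedSMul 𝒜 K 𝒜
  exact exists_extension 𝒜 (subGr 𝒜 K) ℐ 𝒜 hI K.subtype (fun j x hx => hx)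
    K.injective_subtype φ

theorem Pcyc_succ [IsNoetherianRing R] (i : ℕ) (hP : P 𝒜 I i) : Pcyc 𝒜 I (i + 1) := by
  intro M _ _ 𝓜 _ _ m g hm hspan
  have hK := ker_toSpanSingleton_isHomogeneous 𝒜 𝓜 hm
  refine subsingleton_succ_of_ker (LinearMap.toSpanSingleton R M m)
    (toSpanSingleton_surjective hspan) i ?_
  let K : Submodule R R := LinearMap.ker (LinearMap.toSpanSingleton R M m)
  let decK : DirectSum.Decomposition (subGr 𝒜 K) := subDecomposition 𝒜 K hK
  have gsK : SetLike.GradedSMul 𝒜 (subGr 𝒜 K) := sub_gradedSMul 𝒜 K 𝒜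
  exact hP K (subGr 𝒜 K)

section Gen

variable (I)

theorem span_singleton_subtype_eq_top {M : Type u} [AddCommGroup M] [Module R M]
    (K : Submodule R M) (m : M) (hK : K = Submodule.span R {m}) (hm : m ∈ K) :
    Submodule.span R {(⟨m, hm⟩ : K)} = ⊤ := by
  rw [eq_top_iff]
  rintro ⟨y, hy⟩ -
  have hy' : y ∈ Submodule.span R {m} := hK ▸ hy
  obtain ⟨r, rfl⟩ := Submodule.mem_span_singleton.mp hy'
  exact Submodule.mem_span_singleton.mpr ⟨r, rfl⟩

theorem P_of_Pcyc_aux (i : ℕ) (hc : Pcyc 𝒜 I i) : ∀ (n : ℕ)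
    (M : Type u) [AddCommGroup M] [Module R M] (𝓜 : ι → AddSubgroup M)
    [DirectSum.Decomposition 𝓜] [SetLike.GradedSMul 𝒜 𝓜] (S : Finset M), S.card ≤ n →
    (∀ a ∈ S, ∃ g, a ∈ 𝓜 g) → Submodule.span R (S : Set M) = ⊤ →
    Subsingleton (Ext.{u} (ModuleCat.of R M) (ModuleCat.of R I) i) := by
  classical
  intro n
  induction n with
  | zero =>
    intro M _ _ 𝓜 _ _ S hcard _ hspan
    have hS : S = ∅ := Finset.card_eq_zero.mp (Nat.le_zero.mp hcard)
    rw [hS, Finset.coe_empty, Submodule.span_empty] at hspan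
    refine hc M 𝓜 0 0 (zero_mem _) ?_
    rw [← hspan]
    simp
  | succ n ih =>
    intro M _ _ 𝓜 _ _ S hcard hhom hspan
    by_cases hS : S = ∅
    · rw [hS, Finset.coe_empty, Submodule.span_empty] at hspan
      refine hc M 𝓜 0 0 (zero_mem _) ?_
      rw [← hspan]
      simp
    · obtain ⟨s₀, hs₀⟩ := Finset.nonempty_iff_ne_empty.mpr hS
      obtain ⟨g₀, hg₀⟩ := hhom s₀ hs₀
      let N : Submodule R M := Submodule.span R {s₀}
      have hN : N.IsHomogeneous 𝓜 := span_singleton_isHomogeneous 𝒜 𝓜 hg₀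
      have hker : LinearMap.ker N.mkQ = N := Submodule.ker_mkQ N
      have hKhom : (LinearMap.ker N.mkQ).IsHomogeneous 𝓜 := by rw [hker]; exact hN
      refine subsingleton_of_ses N.mkQ N.mkQ_surjective i ?_ ?_
      · let decK : DirectSum.Decomposition (subGr 𝓜 (LinearMap.ker N.mkQ)) :=
          subDecomposition 𝓜 _ hKhom
        have gsK : SetLike.GradedSMul 𝒜 (subGr 𝓜 (LinearMap.ker N.mkQ)) :=
          sub_gradedSMul 𝓜 _ 𝒜
        have hs₀K : s₀ ∈ LinearMap.ker N.mkQ := by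
          rw [hker]; exact Submodule.mem_span_singleton_self s₀
        exact hc (LinearMap.ker N.mkQ) (subGr 𝓜 (LinearMap.ker N.mkQ)) ⟨s₀, hs₀K⟩ g₀ hg₀
          (span_singleton_subtype_eq_top _ s₀ hker hs₀K)
      · let decQ : DirectSum.Decomposition (quotGr 𝓜 N) := quotDecomposition 𝓜 N hN
        have gsQ : SetLike.GradedSMul 𝒜 (quotGr 𝓜 N) := quot_gradedSMul 𝓜 N 𝒜
        refine ih (M ⧸ N) (quotGr 𝓜 N) ((S.erase s₀).image N.mkQ) ?_ ?_ ?_
        · refine Finset.card_image_le.trans ?_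
          rw [Finset.card_erase_of_mem hs₀]
          omega
        · intro a ha
          obtain ⟨b, hb, rfl⟩ := Finset.mem_image.mp ha
          obtain ⟨g, hg⟩ := hhom b (Finset.mem_of_mem_erase hb)
          exact ⟨g, b, hg, rfl⟩
        · rw [Finset.coe_image, ← Submodule.map_span, eq_top_iff]
          rintro y -
          obtain ⟨x, rfl⟩ := N.mkQ_surjective y
          have hx : x ∈ Submodule.span R (S : Set M) := hspan ▸ Submodule.mem_top
          rw [← Finset.insert_erase hs₀, Finset.coe_insert, Submodule.span_insert] at hx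
          obtain ⟨a, ha, b, hb, rfl⟩ := Submodule.mem_sup.mp hx
          have ha0 : N.mkQ a = 0 := by
            rw [← LinearMap.mem_ker, hker]
            exact ha
          rw [map_add, ha0, zero_add]
          exact Submodule.mem_map_of_mem hb

theorem P_of_Pcyc (i : ℕ) (hc : Pcyc 𝒜 I i) : P 𝒜 I i := by
  intro M _ _ 𝓜 _ _ _
  obtain ⟨S, hS, hspan⟩ := exists_homogeneous_generators (R := R) 𝓜
  exact P_of_Pcyc_aux 𝒜 I i hc S.card M 𝓜 S le_rfl hS hspan

end Gen

include ℐ in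
/-- `Ext^i(M, I) = 0` for `i ≥ 1`, `M` finitely generated graded and `I` *injective. -/
theorem P_all [IsNoetherianRing R] (hI : GrLC.IsStarInj 𝒜 ℐ) (i : ℕ) (hi : 1 ≤ i) : P 𝒜 I i := by
  induction i, hi using Nat.le_induction with
  | base => exact P_of_Pcyc 𝒜 I 1 (Pcyc_one 𝒜 ℐ hI)
  | succ i _ ih => exact P_of_Pcyc 𝒜 I (i + 1) (Pcyc_succ 𝒜 i ih)

end Groth.Agent.Lib.Helper29GrExt
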