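import Groth.Agent.Lib.Helper29GrQuot
import Groth.Prelude.Def_GrLC

/-! Homogeneity of torsion submodules, images and preimages; grading of graded local
cohomology (helper29). -/

set_option autoImplicit false
open DirectSum

namespace Groth.Agent.Lib.Helper29GrGam

open Groth.Agent.Lib.Helper29GrHom Groth.Agent.Lib.Helper29GrEss Groth.Agent.Lib.Helper29GrSub
  Groth.Agent.Lib.Helper29GrQuot

universe u

variable {ι : Type} [AddCommGroup ι] [DecidableEq ι]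
variable {R : Type u} [CommRing R] (𝒜 : ι → AddSubgroup R) [GradedRing 𝒜]
variable {L : Type u} [AddCommGroup L] [Module R L] (𝓛 : ι → AddSubgroup L)
  [DirectSum.Decomposition 𝓛] [SetLike.GradedSMul 𝒜 𝓛]

theorem pow_isHomogeneous (a : HomogeneousIdeal 𝒜) (n : ℕ) : (a.toIdeal ^ n).IsHomogeneous 𝒜 := by
  induction n with
  | zero => rw [pow_zero, Ideal.one_eq_top]; exact Ideal.IsHomogeneous.top 𝒜
  | succ n ih => rw [pow_succ]; exact ih.mul a.isHomogeneous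

/-- The torsion submodule of a homogeneous ideal is homogeneous. -/
theorem gam_isHomogeneous (a : HomogeneousIdeal 𝒜) : (GrLC.gam a.toIdeal L).IsHomogeneous 𝓛 := by
  classical
  rintro g x ⟨n, hn⟩
  refine ⟨n, fun r hr => ?_⟩
  have hhom := pow_isHomogeneous 𝒜 a n
  have hr' : r = ∑ h ∈ (decompose 𝒜 r).support, ((decompose 𝒜 r) h : R) :=
    (DirectSum.sum_support_decompose 𝒜 r).symm
  rw [hr', Finset.sum_smul]
  apply Finset.sum_eq_zero
  intro h _
  have hrh : ((decompose 𝒜 r) h : R) ∈ a.toIdeal ^ n := hhom h hr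
  have h1 := decompose_smul_of_mem 𝒜 𝓛 (SetLike.coe_mem ((decompose 𝒜 r) h)) x (h + g)
  rw [hn _ hrh, DirectSum.decompose_zero, add_sub_cancel_left] at h1
  exact h1.symm

omit [SetLike.GradedSMul 𝒜 𝓛] in
theorem inf_isHomogeneous {P Q : Submodule R L} (hP : P.IsHomogeneous 𝓛) (hQ : Q.IsHomogeneous 𝓛) :
    (P ⊓ Q).IsHomogeneous 𝓛 := fun g _ hx => ⟨hP g hx.1, hQ g hx.2⟩

section Maps

variable {L' : Type u} [AddCommGroup L'] [Module R L'] (𝓛' : ι → AddSubgroup L')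
  [DirectSum.Decomposition 𝓛']

omit [SetLike.GradedSMul 𝒜 𝓛] in
theorem map_isHomogeneous (β : L →ₗ[R] L') (hβ : ∀ (g : ι) (m : L), m ∈ 𝓛 g → β m ∈ 𝓛' g)
    {P : Submodule R L} (hP : P.IsHomogeneous 𝓛) : (P.map β).IsHomogeneous 𝓛' := by
  rintro g _ ⟨x, hx, rfl⟩
  rw [decompose_map 𝓛' 𝓛 β hβ x g]
  exact ⟨_, hP g hx, rfl⟩

omit [SetLike.GradedSMul 𝒜 𝓛] in
theorem comap_isHomogeneous (β : L →ₗ[R] L') (hβ : ∀ (g : ι) (m : L), m ∈ 𝓛 g → β m ∈ 𝓛' g)
    {P : Submodule R L'} (hP : P.IsHomogeneous 𝓛') : (P.comap β).IsHomogeneous 𝓛 := by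
  intro g x hx
  rw [Submodule.mem_comap] at hx ⊢
  rw [← decompose_map 𝓛' 𝓛 β hβ x g]
  exact hP g hx

end Maps

end Groth.Agent.Lib.Helper29GrGam
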