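import Mathlib
import Groth.Agent.Lib.Helper29GrArt
import Groth.Agent.Lib.Helper29ArtMax
import Groth.Agent.S13224
import Groth.Agent.S13225

/-! Graded local cohomology `E.H a i` as a graded module; a *maximal ideal of a non-negatively
`ℤ`-graded ring is maximal; pieces of `H^i_m(M)` are Artinian and vanish in large degrees
(helper29). -/

set_option autoImplicit false
set_option linter.style.haveILetI false
open DirectSum

namespace Groth.Agent.Lib.Helper29.GrHmod

open Groth.Agent.Lib.Helper29.GrArt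

universe u

section General

variable {ι : Type} [AddCommGroup ι] [DecidableEq ι]
variable {R : Type u} [CommRing R] {𝒜 : ι → AddSubgroup R} [GradedRing 𝒜]
variable {M : Type u} [AddCommGroup M] [Module R M] {ℳ : ι → AddSubgroup M}
  [DirectSum.Decomposition ℳ] [SetLike.GradedSMul 𝒜 ℳ]
  (E : GrLC.StarInjRes 𝒜 ℳ) (a : HomogeneousIdeal 𝒜) (i : ℕ)

theorem smul_mem_Hgr {k n : ι} {r : R} (hr : r ∈ 𝒜 k) {y : E.H a i} (hy : y ∈ E.Hgr a i n) :
    r • y ∈ E.Hgr a i (k + n) := by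
  obtain ⟨z, hz, rfl⟩ := hy
  refine ⟨r • z, ?_, map_smul _ _ _⟩
  have h := SetLike.GradedSMul.smul_mem (A := 𝒜) (B := (E.X i).gr) hr hz
  rw [vadd_eq_add] at h
  rw [Submodule.coe_smul]
  exact h

/-- `E.H a i` with the pieces `E.Hgr a i` is a graded module. -/
theorem H_gradedSMul : SetLike.GradedSMul 𝒜 (E.Hgr a i) where
  smul_mem := by
    intro k n r y hr hy
    rw [vadd_eq_add]
    exact smul_mem_Hgr E a i hr hy

end General

section Int

variable {R : Type u} [CommRing R] (𝒜 : ℤ → AddSubgroup R) [GradedRing 𝒜]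
  (hpos : ∀ n : ℤ, n < 0 → 𝒜 n = ⊥)

/-- the irrelevant ideal -/
def Rp : Ideal R := Ideal.span (⋃ n ∈ Set.Ioi (0 : ℤ), (𝒜 n : Set R))

theorem Rp_isHomogeneous : (Rp 𝒜).IsHomogeneous 𝒜 := by
  apply Ideal.homogeneous_span
  intro y hy
  obtain ⟨n, _, hn⟩ := Set.mem_iUnion₂.mp hy
  exact ⟨n, hn⟩

include hpos in
theorem component_zero_of_mem_Rp {b : R} (hb : b ∈ Rp 𝒜) : ((decompose 𝒜 b) 0 : R) = 0 := by
  refine component_eq_zero_of_mem_span 𝒜 hpos 𝒜 1 0 (by norm_num) b ?_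
  refine Submodule.span_mono ?_ hb
  intro y hy
  obtain ⟨n, hn, hy⟩ := Set.mem_iUnion₂.mp hy
  refine Set.mem_iUnion₂.mpr ⟨n, ?_, hy⟩
  have : (0 : ℤ) < n := hn
  show (1 : ℤ) ≤ n
  omega

include hpos in
theorem component_mem_Rp (x : R) (k : ℤ) (hk : k ≠ 0) : ((decompose 𝒜 x) k : R) ∈ Rp 𝒜 := by
  rcases lt_or_gt_of_ne hk with h | h
  · have hm : ((decompose 𝒜 x) k : R) ∈ 𝒜 k := SetLike.coe_mem _
    have hm' : ((decompose 𝒜 x) k : R) ∈ (⊥ : AddSubgroup R) := hpos _ h ▸ hm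
    rw [(AddSubgroup.mem_bot).mp hm']
    exact zero_mem _
  · exact Ideal.subset_span (Set.mem_iUnion₂.mpr ⟨k, h, SetLike.coe_mem _⟩)

variable (m : HomogeneousIdeal 𝒜) (hm : GrLC.IsStarLocal 𝒜 m)

include hpos hm in
theorem Rp_le : Rp 𝒜 ≤ m.toIdeal := by
  classical
  let P : HomogeneousIdeal 𝒜 := ⟨Rp 𝒜, Rp_isHomogeneous 𝒜⟩
  have hle : m ≤ m ⊔ P := le_sup_left
  have hne : m ⊔ P ≠ ⊤ := by
    intro htop
    have h1 : (1 : R) ∈ (m ⊔ P).toIdeal := by
      rw [htop, HomogeneousIdeal.toIdeal_top]; exact Submodule.mem_top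
    rw [HomogeneousIdeal.toIdeal_sup] at h1
    obtain ⟨x, hx, b, hb, hxb⟩ := Submodule.mem_sup.mp h1
    have h2 : ((decompose 𝒜 (1 : R)) 0 : R) = ((decompose 𝒜 x) 0 : R) + ((decompose 𝒜 b) 0 : R) := by
      rw [← hxb, DirectSum.decompose_add, DirectSum.add_apply, AddSubgroup.coe_add]
    rw [DirectSum.decompose_of_mem_same 𝒜 (SetLike.one_mem_graded 𝒜),
      component_zero_of_mem_Rp 𝒜 hpos hb, add_zero] at h2
    have h3 : ((decompose 𝒜 x) 0 : R) ∈ m.toIdeal := m.isHomogeneous 0 hx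
    rw [← h2] at h3
    apply hm.1.1
    apply HomogeneousIdeal.toIdeal_injective
    rw [HomogeneousIdeal.toIdeal_top]
    exact (Ideal.eq_top_iff_one _).mpr h3
  have heq : m ⊔ P = m := by
    by_contra hne'
    exact hne (hm.1.2 _ (lt_of_le_of_ne hle (Ne.symm hne')))
  have : P ≤ m := by rw [← heq]; exact le_sup_right
  exact this

include hpos hm in
/-- A *maximal ideal of a non-negatively graded ring is a maximal ideal. -/
theorem isMaximal_of_isStarLocal : m.toIdeal.IsMaximal := by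
  classical
  have hRp := Rp_le 𝒜 hpos m hm
  have hne : m.toIdeal ≠ ⊤ := by
    intro h
    apply hm.1.1
    apply HomogeneousIdeal.toIdeal_injective
    rw [h, HomogeneousIdeal.toIdeal_top]
  rw [Ideal.isMaximal_iff]
  refine ⟨fun h1 => hne ((Ideal.eq_top_iff_one _).mpr h1), ?_⟩
  intro J x hmJ hxm hxJ
  set x0 : R := ((decompose 𝒜 x) 0 : R) with hx0
  -- the other components lie in `m`
  have hrest : x - x0 ∈ m.toIdeal := by
    have hsum := DirectSum.sum_support_decompose 𝒜 x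
    have h1 : x - x0 = ∑ k ∈ (decompose 𝒜 x).support.erase 0, ((decompose 𝒜 x) k : R) := by
      by_cases h0 : (0 : ℤ) ∈ (decompose 𝒜 x).support
      · rw [← Finset.add_sum_erase _ _ h0] at hsum
        exact sub_eq_of_eq_add' hsum.symm
      · have hz : x0 = 0 := by
          rw [hx0]
          have := DFinsupp.notMem_support_iff.mp h0
          rw [this, AddSubgroup.coe_zero]
        rw [Finset.erase_eq_of_notMem h0, hsum, hz, sub_zero]
    rw [h1]
    refine Ideal.sum_mem _ fun k hk => ?_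
    exact hRp (component_mem_Rp 𝒜 hpos x k (Finset.ne_of_mem_erase hk))
  have hx0m : x0 ∉ m.toIdeal := by
    intro h
    apply hxm
    have : x = (x - x0) + x0 := by abel
    rw [this]
    exact add_mem hrest h
  have hx0J : x0 ∈ J := by
    have : x0 = x - (x - x0) := by abel
    rw [this]
    exact sub_mem hxJ (hmJ hrest)
  have hhom : (Ideal.span {x0}).IsHomogeneous 𝒜 :=
    Ideal.homogeneous_span 𝒜 {x0} (fun y hy => by
      rw [Set.mem_singleton_iff] at hy
      rw [hy]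
      exact ⟨0, SetLike.coe_mem _⟩)
  let P : HomogeneousIdeal 𝒜 := ⟨Ideal.span {x0}, hhom⟩
  have hlt : m < m ⊔ P := by
    refine lt_of_le_of_ne le_sup_left ?_
    intro heq
    apply hx0m
    have h1 : P ≤ m := by rw [heq]; exact le_sup_right
    exact h1 (Ideal.mem_span_singleton_self x0)
  have htop := hm.1.2 _ hlt
  have h1 : (1 : R) ∈ (m ⊔ P).toIdeal := by
    rw [htop, HomogeneousIdeal.toIdeal_top]; exact Submodule.mem_top
  rw [HomogeneousIdeal.toIdeal_sup] at h1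
  refine (sup_le hmJ ?_ : m.toIdeal ⊔ P.toIdeal ≤ J) h1
  show Ideal.span {x0} ≤ J
  rw [Ideal.span_le, Set.singleton_subset_iff]
  exact hx0J

end Int

section Main

variable {R : Type u} [CommRing R] [IsNoetherianRing R] (𝒜 : ℤ → AddSubgroup R) [GradedRing 𝒜]
  (hpos : ∀ n : ℤ, n < 0 → 𝒜 n = ⊥) (m : HomogeneousIdeal 𝒜) (hm : GrLC.IsStarLocal 𝒜 m)
  {M : Type u} [AddCommGroup M] [Module R M] [Module.Finite R M] (ℳ : ℤ → AddSubgroup M)
  [DirectSum.Decomposition ℳ] [SetLike.GradedSMul 𝒜 ℳ] (E : GrLC.StarInjRes 𝒜 ℳ) (i : ℕ)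

include hpos hm in
theorem isArtinian_H : IsArtinian R (E.H m i) := by
  haveI := isMaximal_of_isStarLocal 𝒜 hpos m hm
  obtain ⟨e⟩ := Groth.Agent.S13224.result R 𝒜 m M ℳ E i
  haveI : IsArtinian R (LocCoh.H m.toIdeal i M) :=
    Groth.Agent.Lib.Helper29.ArtMax.isArtinian_H m.toIdeal M i
  exact isArtinian_of_injective e.toLinearMap e.injective

include hpos hm in
theorem isArtinian_Hcomp (n : ℤ) : IsArtinian (GrLC.deg0 𝒜) (E.Hcomp m i n) := by
  haveI := isArtinian_H 𝒜 hpos m hm ℳ E i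
  letI := (Groth.Agent.S13225.result R 𝒜 m M ℳ E i).chooseDecomposition
  letI := H_gradedSMul E m i
  exact isArtinian_piece 𝒜 (E.Hgr m i) n (E.Hcomp m i n) (fun x hx => hx)

include hpos hm in
theorem exists_Hcomp_eq_bot : ∃ N : ℤ, ∀ n : ℤ, N ≤ n → E.Hcomp m i n = ⊥ := by
  haveI := isArtinian_H 𝒜 hpos m hm ℳ E i
  letI := (Groth.Agent.S13225.result R 𝒜 m M ℳ E i).chooseDecomposition
  letI := H_gradedSMul E m i
  obtain ⟨N, hN⟩ := exists_piece_eq_bot 𝒜 hpos (E.Hgr m i)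
  refine ⟨N, fun n hn => ?_⟩
  rw [eq_bot_iff]
  intro x hx
  have h1 : x ∈ E.Hgr m i n := hx
  rw [hN n hn] at h1
  exact (Submodule.mem_bot _).mpr ((AddSubgroup.mem_bot).mp h1)

end Main

end Groth.Agent.Lib.Helper29.GrHmod
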