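import Groth.Agent.Lib.Helper8GV
import Groth.Agent.Lib.Helper8LCDepth
import Groth.Agent.Lib.Helper8LCAdd
import Groth.Agent.Lib.Helper8LC2

/-! # Right exactness of top local cohomology (helper29)

For a finitely generated module `M` over a Noetherian ring with `dim Supp M ≤ n`:
* `H_map_surjective`: a surjection `X → N` (with `X` finitely generated and killed by `Ann M`)
  induces a surjection `H^n_I(X) → H^n_I(N)`;
* `exists_sum_of_map_eq_zero`: the kernel of `H^n_I(M) → H^n_I(M/pM)` is inside `p H^n_I(M)`. -/

set_option autoImplicit false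
set_option linter.style.haveILetI false
set_option linter.unusedSectionVars false
universe u
open CategoryTheory

namespace Groth.Agent.Lib.Helper29.TopLC
open Groth.Agent.Lib.Helper8.LC

variable {R : Type u} [CommRing R] [IsNoetherianRing R]

/-- A finitely generated module killed by `Ann M` has support dimension at most that of `M`. -/
theorem supportDim_le_of_annihilator_le (M X : Type u) [AddCommGroup M] [Module R M]
    [Module.Finite R M] [AddCommGroup X] [Module R X] [Module.Finite R X]
    (h : Module.annihilator R M ≤ Module.annihilator R X) :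
    Module.supportDim R X ≤ Module.supportDim R M := by
  have hsub : Module.support R X ⊆ Module.support R M := by
    intro x hx
    rw [Module.mem_support_iff_of_finite] at hx ⊢
    exact h.trans hx
  exact Order.krullDim_le_of_strictMono (Set.inclusion hsub) (fun a b hab => hab)

variable (I : Ideal R) (n : ℕ) (M : Type u) [AddCommGroup M] [Module R M] [Module.Finite R M]
  (hn : Module.supportDim R M ≤ (n : WithBot ℕ∞))

include hn in
theorem H_succ_eq_zero (X : Type u) [AddCommGroup X] [Module R X] [Module.Finite R X]
    (h : Module.annihilator R M ≤ Module.annihilator R X) (x : LocCoh.H I (n + 1) X) : x = 0 := by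
  apply Groth.Agent.Lib.Helper8.GV.H_eq_zero_of_supportDim_lt I (n + 1) X
  refine lt_of_le_of_lt ((supportDim_le_of_annihilator_le M X h).trans hn) ?_
  exact_mod_cast Nat.lt_succ_self n

include hn in
/-- Right exactness of `H^n_I` on finitely generated modules killed by `Ann M`. -/
theorem H_map_surjective (X : Type u) [AddCommGroup X] [Module R X] [Module.Finite R X]
    (hX : Module.annihilator R M ≤ Module.annihilator R X)
    {N : Type u} [AddCommGroup N] [Module R N] (g : X →ₗ[R] N)
    (hg : Function.Surjective g) :
    Function.Surjective ((localCohomology I n).map (ModuleCat.ofHom g)) := by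
  intro z
  have hex : Function.Exact (LinearMap.ker g).subtype g := LinearMap.exact_subtype_ker_map g
  have hS := Sfg_shortExact (LinearMap.ker g).subtype g (Submodule.subtype_injective _) hg hex
  have hz : Hδ I n _ hS z = 0 := by
    apply H_succ_eq_zero I n M hn (LinearMap.ker g)
    intro r hr
    have hr' := hX hr
    rw [Module.mem_annihilator] at hr' ⊢
    intro m
    exact Subtype.ext (hr' m.1)
  exact H_exact₃ I n _ hS z hz

include hn in
/-- If `h ∈ H^n_I(M)` dies in `H^n_I(M/(a_1,…,a_k)M)`, then `h = Σ a_i y_i`. -/
theorem exists_sum_of_map_eq_zero (k : ℕ) (a : Fin k → R) {N : Type u} [AddCommGroup N]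
    [Module R N] (g : M →ₗ[R] N) (hg : Function.Surjective g)
    (hker : LinearMap.ker g = Ideal.span (Set.range a) • (⊤ : Submodule R M))
    (h : LocCoh.H I n M) (hh : (localCohomology I n).map (ModuleCat.ofHom g) h = 0) :
    ∃ y : Fin k → LocCoh.H I n M, h = ∑ i, a i • y i := by
  classical
  -- the map `σ : M^k → M`
  let σ : (Fin k → M) →ₗ[R] M := ∑ i, LinearMap.lsmul R M (a i) ∘ₗ LinearMap.proj i
  have hσ : ∀ m : Fin k → M, σ m = ∑ i, a i • m i := by
    intro m
    simp [σ, LinearMap.sum_apply]
  have hσmem : ∀ m, σ m ∈ LinearMap.ker g := by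
    intro m
    rw [hker, hσ]
    refine Submodule.sum_mem _ fun i _ => ?_
    exact Submodule.smul_mem_smul (Ideal.subset_span ⟨i, rfl⟩) Submodule.mem_top
  let σ' : (Fin k → M) →ₗ[R] LinearMap.ker g := σ.codRestrict _ hσmem
  have hσ'surj : Function.Surjective σ' := by
    rintro ⟨m, hm⟩
    rw [hker] at hm
    have : ∀ x ∈ Ideal.span (Set.range a) • (⊤ : Submodule R M), ∃ y, σ y = x := by
      intro x hx
      refine Submodule.smul_induction_on hx ?_ ?_
      · intro r hr m _
        obtain ⟨c, rfl⟩ := (Ideal.mem_span_range_iff_exists_fun).mp hr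
        refine ⟨fun i => c i • m, ?_⟩
        rw [hσ, Finset.sum_smul]
        refine Finset.sum_congr rfl fun i _ => ?_
        rw [smul_smul, mul_comm]
      · rintro x y ⟨x', rfl⟩ ⟨y', rfl⟩
        exact ⟨x' + y', map_add _ _ _⟩
    obtain ⟨y, hy⟩ := this m hm
    exact ⟨y, Subtype.ext hy⟩
  -- first sequence: `0 → ker g → M → N → 0`
  have hex1 : Function.Exact (LinearMap.ker g).subtype g := LinearMap.exact_subtype_ker_map g
  have hS1 := Sfg_shortExact (LinearMap.ker g).subtype g (Submodule.subtype_injective _) hg hex1
  obtain ⟨x, hx⟩ := H_exact₂ I n _ hS1 h hh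
  -- lift along `σ'`
  have hXann : Module.annihilator R M ≤ Module.annihilator R (Fin k → M) := by
    intro r hr
    rw [Module.mem_annihilator] at hr ⊢
    intro m
    funext i
    exact hr (m i)
  obtain ⟨y, hy⟩ := H_map_surjective I n M hn (Fin k → M) hXann σ' hσ'surj x
  refine ⟨fun i => (localCohomology I n).map (ModuleCat.ofHom (LinearMap.proj i)) y, ?_⟩
  have hcomp : ModuleCat.ofHom σ' ≫ ModuleCat.ofHom (LinearMap.ker g).subtype =
      ∑ i, ModuleCat.ofHom (LinearMap.proj (R := R) (φ := fun _ : Fin k => M) i) ≫
        ModuleCat.ofHom (LinearMap.lsmul R M (a i)) := by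
    apply ModuleCat.hom_ext
    apply LinearMap.ext
    intro m
    rw [ModuleCat.hom_sum]
    simp only [ModuleCat.hom_comp, ModuleCat.hom_ofHom, LinearMap.coe_comp, Function.comp_apply,
      LinearMap.sum_apply]
    exact hσ m
  have h1 : h = (localCohomology I n).map
      (ModuleCat.ofHom σ' ≫ ModuleCat.ofHom (LinearMap.ker g).subtype) y := by
    rw [Functor.map_comp]
    change h = (localCohomology I n).map (ModuleCat.ofHom (LinearMap.ker g).subtype)
      ((localCohomology I n).map (ModuleCat.ofHom σ') y)
    rw [hy]
    exact hx.symm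
  rw [h1, hcomp, H_map_sum]
  refine Finset.sum_congr rfl fun i _ => ?_
  rw [Functor.map_comp]
  change (localCohomology I n).map (ModuleCat.ofHom (LinearMap.lsmul R M (a i)))
    ((localCohomology I n).map (ModuleCat.ofHom (LinearMap.proj i)) y) = _
  rw [H_map_lsmul]

end Groth.Agent.Lib.Helper29.TopLC
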