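import Mathlib
import Groth.Agent.S11617
import Groth.Agent.Lib.Helper29ArtMax
import Groth.Agent.Lib.Helper29TopLC
import Groth.Agent.Lib.Helper28DepthMore
import Groth.Agent.Lib.Helper8LCDepth
import Groth.Agent.Lib.Helper8GV

/-! Vanishing of `H^j_m(M)` for a maximal ideal `m` of a Noetherian ring: above the local dimension
of `M` at `m`; below the height for `M = R` Cohen–Macaulay (helper29). -/

set_option autoImplicit false
set_option linter.style.haveILetI false
set_option linter.unusedSectionVars false
open TensorProduct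

namespace Groth.Agent.Lib.Helper29MaxVanish

universe u

variable {R : Type u} [CommRing R] [IsNoetherianRing R] (m : Ideal R) [hm : m.IsMaximal]

/-- Grothendieck vanishing above the dimension of `M` at `m`. -/
theorem H_eq_zero_of_localDim_lt (M : Type u) [AddCommGroup M] [Module R M] [Module.Finite R M]
    (j : ℕ)
    (h : Module.supportDim (Localization.AtPrime m) (Localization.AtPrime m ⊗[R] M) <
      ((j : ℕ) : WithBot ℕ∞)) (y : LocCoh.H m j M) : y = 0 := by
  obtain ⟨e⟩ := Groth.Agent.S11617.result R (Localization.AtPrime m) m M j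
  obtain ⟨k, hk⟩ := Groth.Agent.Lib.Helper8.LC.isPowerTorsion_H m j (ModuleCat.of R M) y
  apply Groth.Agent.Lib.Helper29.ArtMax.eq_zero_of_tmul_eq_zero m _ y k hk
  apply e.injective
  rw [map_zero]
  exact Groth.Agent.Lib.Helper8.GV.H_eq_zero_of_supportDim_lt _ j _ h _

theorem supportDim_tensor_self :
    Module.supportDim (Localization.AtPrime m) (Localization.AtPrime m ⊗[R] R) =
      ((m.height : ℕ∞) : WithBot ℕ∞) := by
  rw [Module.supportDim_eq_of_equiv
    (TensorProduct.AlgebraTensorModule.rid R (Localization.AtPrime m) (Localization.AtPrime m)),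
    Module.supportDim_self_eq_ringKrullDim, IsLocalization.AtPrime.ringKrullDim_eq_height m]

/-- `H^j_m(R) = 0` for `j > ht m`. -/
theorem H_self_eq_zero_of_height_lt (j : ℕ) (hj : m.height < (j : ℕ∞)) (y : LocCoh.H m j R) :
    y = 0 := by
  apply H_eq_zero_of_localDim_lt m R j _ y
  rw [supportDim_tensor_self]
  exact_mod_cast hj

/-- The local dimension at `m` of a quotient by a regular sequence in `m`. -/
theorem supportDim_tensor_add_length_le (N : Type u) [AddCommGroup N] [Module R N]
    [Module.Finite R N] (rs : List R) (hreg : RingTheory.Sequence.IsWeaklyRegular R rs)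
    (hmem : ∀ r ∈ rs, r ∈ m) (hkill : ∀ r ∈ rs, ∀ y : N, r • y = 0) :
    Module.supportDim (Localization.AtPrime m) (Localization.AtPrime m ⊗[R] N) + rs.length ≤
      ((m.height : ℕ∞) : WithBot ℕ∞) := by
  set A := Localization.AtPrime m with hA
  have reg' : RingTheory.Sequence.IsRegular A (rs.map (algebraMap R A)) :=
    RingTheory.Sequence.IsWeaklyRegular.isRegular_of_isLocalization_of_mem A m hreg hmem
  have h1 := Module.supportDim_add_length_eq_supportDim_of_isRegular (rs.map (algebraMap R A)) reg'
  rw [Module.supportDim_self_eq_ringKrullDim, IsLocalization.AtPrime.ringKrullDim_eq_height m,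
    List.length_map] at h1
  rw [← h1]
  gcongr
  apply Groth.Agent.Lib.Helper29.TopLC.supportDim_le_of_annihilator_le
  intro r hr
  rw [Module.mem_annihilator] at hr
  have h2 := hr (Submodule.Quotient.mk 1)
  rw [← Submodule.Quotient.mk_smul, Submodule.Quotient.mk_eq_zero] at h2
  have h3 : r ∈ Ideal.ofList (rs.map (algebraMap R A)) := by
    have e : Ideal.ofList (rs.map (algebraMap R A)) • (⊤ : Submodule A A) =
        Ideal.ofList (rs.map (algebraMap R A)) := by
      rw [smul_eq_mul, Ideal.mul_top]
    rw [e] at h2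
    simpa using h2
  have hle : Ideal.ofList (rs.map (algebraMap R A)) ≤ Module.annihilator A (A ⊗[R] N) := by
    unfold Ideal.ofList
    rw [Ideal.span_le]
    intro s hs
    obtain ⟨r0, hr0, rfl⟩ := List.mem_map.mp hs
    rw [SetLike.mem_coe, Module.mem_annihilator]
    intro z
    induction z using TensorProduct.induction_on with
    | zero => rw [smul_zero]
    | tmul a n =>
      rw [TensorProduct.smul_tmul', smul_eq_mul, ← Algebra.smul_def,
        TensorProduct.smul_tmul, hkill r0 hr0 n, tmul_zero]
    | add z w hz hw => rw [smul_add, hz, hw, add_zero]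
  exact hle h3

/-- `H^j_m(R) = 0` for `j < ht m` when `R` is Cohen–Macaulay. -/
theorem H_self_eq_zero_of_lt_height (hR : LocCoh.IsCohenMacaulayRing R) (j : ℕ)
    (hj : (j : ℕ∞) < m.height) (y : LocCoh.H m j R) : y = 0 := by
  have hne : m ≠ ⊤ := hm.ne_top
  have hIM : m • (⊤ : Submodule R R) ≠ ⊤ := by
    rw [smul_eq_mul, Ideal.mul_top]
    exact hne
  have hdepth : (((j + 1 : ℕ)) : ℕ∞) ≤ LocCoh.idealDepth m R := by
    rw [Groth.Agent.Lib.Helper28.idealDepth_self_eq_height_of_isCohenMacaulayRing hR m hne]
    have := Order.add_one_le_of_lt hj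
    exact_mod_cast this
  exact Groth.Agent.Lib.Helper8.LC.H_eq_zero_of_lt_depth m (j + 1) R hIM hdepth j
    (Nat.lt_succ_self j) y

end Groth.Agent.Lib.Helper29MaxVanish
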