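import Groth.Agent.Lib.Helper29GrHmod
import Groth.Agent.Lib.Helper29MaxVanish

/-! Non-negatively `ℤ`-graded rings whose degree-zero part is a field: the irrelevant ideal is
maximal, contains every proper homogeneous ideal, has positive height when `dim R ≥ 1`, and (for
`R` Cohen–Macaulay of positive dimension) has no nonzero annihilated element (helper29). -/

set_option autoImplicit false
set_option linter.style.haveILetI false
set_option linter.unusedSectionVars false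
open DirectSum

namespace Groth.Agent.Lib.Helper29GrIrrelField

open Groth.Agent.Lib.Helper29.GrHmod

universe u

variable {R : Type u} [CommRing R] (𝒜 : ℤ → AddSubgroup R) [GradedRing 𝒜]
  (hpos : ∀ n : ℤ, n < 0 → 𝒜 n = ⊥) (h0 : IsField (GrLC.deg0 𝒜))

include hpos in
theorem sub_component_zero_mem_Rp (x : R) : x - ((decompose 𝒜 x) 0 : R) ∈ Rp 𝒜 := by
  classical
  set x0 : R := ((decompose 𝒜 x) 0 : R) with hx0
  have hsum := DirectSum.sum_support_decompose 𝒜 x
  have h1 : x - x0 = ∑ k ∈ (decompose 𝒜 x).support.erase 0, ((decompose 𝒜 x) k : R) := by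
    by_cases h0 : (0 : ℤ) ∈ (decompose 𝒜 x).support
    · rw [← Finset.add_sum_erase _ _ h0] at hsum
      exact sub_eq_of_eq_add' hsum.symm
    · have hz : x0 = 0 := by
        rw [hx0]
        have := DFinsupp.notMem_support_iff.mp h0
        rw [this, AddSubgroup.coe_zero]
      rw [Finset.erase_eq_of_notMem h0, hsum, hz, sub_zero]
  rw [h1]
  refine Ideal.sum_mem _ fun k hk => ?_
  exact component_mem_Rp 𝒜 hpos x k (Finset.ne_of_mem_erase hk)

include h0 in
/-- A nonzero element of degree zero is a unit. -/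
theorem exists_mul_eq_one {c : R} (hc : c ∈ 𝒜 0) (hc0 : c ≠ 0) : ∃ b : R, c * b = 1 := by
  have hne : (⟨c, hc⟩ : GrLC.deg0 𝒜) ≠ 0 := fun h => hc0 (congrArg Subtype.val h)
  obtain ⟨b, hb⟩ := h0.mul_inv_cancel hne
  exact ⟨(b : R), congrArg Subtype.val hb⟩

include h0 in
theorem one_ne_zero' : (1 : R) ≠ 0 := by
  intro h
  obtain ⟨x, y, hxy⟩ := h0.exists_pair_ne
  apply hxy
  apply Subtype.ext
  have hx : (x : R) = (x : R) * 1 := (mul_one _).symm
  have hy : (y : R) = (y : R) * 1 := (mul_one _).symm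
  rw [hx, hy, h, mul_zero, mul_zero]

include hpos h0 in
/-- Every proper homogeneous ideal is contained in the irrelevant ideal. -/
theorem le_Rp_of_isHomogeneous (J : Ideal R) (hJ : J.IsHomogeneous 𝒜) (hne : J ≠ ⊤) :
    J ≤ Rp 𝒜 := by
  intro x hx
  have hx0 : ((decompose 𝒜 x) 0 : R) ∈ J := hJ 0 hx
  have hz : ((decompose 𝒜 x) 0 : R) = 0 := by
    by_contra hc
    obtain ⟨b, hb⟩ := exists_mul_eq_one 𝒜 h0 (SetLike.coe_mem ((decompose 𝒜 x) 0)) hc
    apply hne
    rw [Ideal.eq_top_iff_one, ← hb]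
    exact Ideal.mul_mem_right _ _ hx0
  have h1 := sub_component_zero_mem_Rp 𝒜 hpos x
  rwa [hz, sub_zero] at h1

include hpos h0 in
theorem Rp_isMaximal : (Rp 𝒜).IsMaximal := by
  classical
  rw [Ideal.isMaximal_iff]
  constructor
  · intro h1
    have h2 := component_zero_of_mem_Rp 𝒜 hpos h1
    rw [DirectSum.decompose_of_mem_same 𝒜 (SetLike.one_mem_graded 𝒜)] at h2
    exact one_ne_zero' 𝒜 h0 h2
  · intro J x hJ hx hxJ
    have hrest := sub_component_zero_mem_Rp 𝒜 hpos x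
    have hx0 : ((decompose 𝒜 x) 0 : R) ≠ 0 := by
      intro hz
      apply hx
      rwa [hz, sub_zero] at hrest
    have hx0J : ((decompose 𝒜 x) 0 : R) ∈ J := by
      have : ((decompose 𝒜 x) 0 : R) = x - (x - ((decompose 𝒜 x) 0 : R)) := by abel
      rw [this]
      exact sub_mem hxJ (hJ hrest)
    obtain ⟨b, hb⟩ := exists_mul_eq_one 𝒜 h0 (SetLike.coe_mem ((decompose 𝒜 x) 0)) hx0
    rw [← hb]
    exact Ideal.mul_mem_right _ _ hx0J

include hpos h0 in
theorem height_Rp_pos (h1 : 1 ≤ ringKrullDim R) : 0 < (Rp 𝒜).height := by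
  haveI hmax : (Rp 𝒜).IsMaximal := Rp_isMaximal 𝒜 hpos h0
  rw [pos_iff_ne_zero]
  intro hz
  rw [Ideal.height_eq_zero_iff] at hz
  obtain ⟨x, y, hxy⟩ := Order.one_le_krullDim_iff.mp h1
  have hcore : (x.asIdeal.homogeneousCore 𝒜).toIdeal.IsPrime :=
    Ideal.IsPrime.homogeneousCore x.2
  have hle : (x.asIdeal.homogeneousCore 𝒜).toIdeal ≤ x.asIdeal :=
    Ideal.toIdeal_homogeneousCore_le 𝒜 _
  have hle2 : (x.asIdeal.homogeneousCore 𝒜).toIdeal ≤ Rp 𝒜 :=
    le_Rp_of_isHomogeneous 𝒜 hpos h0 _ (x.asIdeal.homogeneousCore 𝒜).isHomogeneous hcore.ne_top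
  have hge : Rp 𝒜 ≤ (x.asIdeal.homogeneousCore 𝒜).toIdeal :=
    hz.2 ⟨hcore, bot_le⟩ hle2
  have hx : Rp 𝒜 = x.asIdeal := hmax.eq_of_le x.2.ne_top (hge.trans hle)
  have hlt : x.asIdeal < y.asIdeal := hxy
  rw [← hx] at hlt
  exact y.2.ne_top (hmax.1.2 _ hlt)

include hpos h0 in
/-- In a Cohen–Macaulay graded ring over a field of dimension `≥ 1`, no nonzero element is
annihilated by the irrelevant ideal. -/
theorem eq_zero_of_forall_mul_eq_zero (hR : LocCoh.IsCohenMacaulayRing R)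
    (h1 : 1 ≤ ringKrullDim R) (r : R) (hr : ∀ z ∈ Rp 𝒜, z * r = 0) : r = 0 := by
  haveI hmax : (Rp 𝒜).IsMaximal := Rp_isMaximal 𝒜 hpos h0
  have hmem : r ∈ DRing.torsionSub (Rp 𝒜) (ModuleCat.of R R) := by
    refine ⟨1, fun a ha => ?_⟩
    rw [pow_one] at ha
    exact hr a ha
  obtain ⟨x, hx⟩ := Groth.Agent.Lib.Helper8.LC.exists_Φ_eq (Rp 𝒜) (ModuleCat.of R R) r hmem
  have hx0 : x = 0 :=
    Groth.Agent.Lib.Helper29MaxVanish.H_self_eq_zero_of_lt_height (Rp 𝒜) hR 0
      (by exact_mod_cast height_Rp_pos 𝒜 hpos h0 h1) x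
  rw [← hx, hx0, map_zero]

end Groth.Agent.Lib.Helper29GrIrrelField
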