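import Groth.Agent.Lib.Helper29GrEss
import Groth.Prelude.Def_GrLC

/-! The homogeneous pieces of a Noetherian graded module are finitely generated over the
degree-zero subring (helper29). -/

set_option autoImplicit false
set_option linter.unusedSectionVars false
open DirectSum

namespace Groth.Agent.Lib.Helper29GrPieceFin

open Groth.Agent.Lib.Helper29GrEss

universe u

variable {ι : Type} [AddCommGroup ι] [DecidableEq ι]
variable {R : Type u} [CommRing R] (𝒜 : ι → AddSubgroup R) [GradedRing 𝒜]
variable {M : Type u} [AddCommGroup M] [Module R M] (ℳ : ι → AddSubgroup M)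
  [DirectSum.Decomposition ℳ] [SetLike.GradedSMul 𝒜 ℳ]

theorem mem_comp_iff {n : ι} {z : M} : z ∈ GrLC.comp 𝒜 ℳ n ↔ z ∈ ℳ n := Iff.rfl

theorem finite_comp [IsNoetherian R M] (n : ι) :
    Module.Finite (GrLC.deg0 𝒜) (GrLC.comp 𝒜 ℳ n) := by
  classical
  have hfg : (Submodule.span R (ℳ n : Set M)).FG := IsNoetherian.noetherian _
  obtain ⟨T, hTsub, hT⟩ := (Submodule.fg_span_iff_fg_span_finset_subset _).mp hfg
  rw [Module.Finite.iff_fg]
  refine ⟨T, le_antisymm ?_ ?_⟩
  · rw [Submodule.span_le]
    intro t ht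
    exact hTsub ht
  · intro z hz
    have hz' : z ∈ ℳ n := hz
    have hzT : z ∈ Submodule.span R (T : Set M) := by
      rw [← hT]
      exact Submodule.subset_span hz'
    obtain ⟨f, -, hf⟩ := Submodule.mem_span_finset.mp hzT
    have h1 : z = ((decompose ℳ z) n : M) := (DirectSum.decompose_of_mem_same ℳ hz').symm
    rw [h1, ← hf, DirectSum.decompose_sum, DFinsupp.finsetSum_apply,
      AddSubmonoidClass.coe_finsetSum]
    apply Submodule.sum_mem
    intro t ht
    rw [decompose_smul_of_mem_right 𝒜 ℳ (hTsub ht) (f t) n, sub_self]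
    have h2 : ((decompose 𝒜 (f t)) 0 : R) • t =
        (⟨((decompose 𝒜 (f t)) 0 : R), SetLike.coe_mem _⟩ : GrLC.deg0 𝒜) • t := rfl
    rw [h2]
    exact Submodule.smul_mem _ _ (Submodule.subset_span ht)

end Groth.Agent.Lib.Helper29GrPieceFin
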