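import Groth.Agent.Lib.Helper29GrShift
import Groth.Agent.Lib.Helper29GrEss
import Groth.Prelude.Def_GrLC

/-! Homogeneous parts of an arbitrary linear map out of a graded module, and extension of arbitrary
linear maps from finitely generated graded modules into *injective modules (helper29). -/

set_option autoImplicit false
open DirectSum

noncomputable section

namespace Groth.Agent.Lib.Helper29GrBaer

open Groth.Agent.Lib.Helper29GrHom Groth.Agent.Lib.Helper29GrShift Groth.Agent.Lib.Helper29GrEss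

universe u

variable {ι : Type} [AddCommGroup ι] [DecidableEq ι]
variable {R : Type u} [CommRing R] (𝒜 : ι → AddSubgroup R) [GradedRing 𝒜]
variable {A : Type u} [AddCommGroup A] [Module R A] (𝓐 : ι → AddSubgroup A)
  [DirectSum.Decomposition 𝓐] [SetLike.GradedSMul 𝒜 𝓐]
variable {I : Type u} [AddCommGroup I] [Module R I] (ℐ : ι → AddSubgroup I)
  [DirectSum.Decomposition ℐ] [SetLike.GradedSMul 𝒜 ℐ]

/-- Projection to the component of degree `h`, as an additive map `I → I`. -/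
def projHom (h : ι) : I →+ I :=
  (ℐ h).subtype.comp ((DFinsupp.evalAddMonoidHom h).comp (decomposeAddEquiv ℐ).toAddMonoidHom)

theorem projHom_apply (h : ι) (x : I) : projHom ℐ h x = ((decompose ℐ x) h : I) := rfl

/-- The degree-`d` part of a linear map, as an additive map. -/
def partAdd (φ : A →ₗ[R] I) (d : ι) : A →+ I :=
  (DirectSum.toAddMonoid fun g =>
    ((projHom ℐ (g + d)).comp φ.toAddMonoidHom).comp (𝓐 g).subtype).comp
    (decomposeAddEquiv 𝓐).toAddMonoidHom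

theorem partAdd_of_mem (φ : A →ₗ[R] I) (d : ι) {g : ι} {a : A} (ha : a ∈ 𝓐 g) :
    partAdd 𝓐 ℐ φ d a = ((decompose ℐ (φ a)) (g + d) : I) := by
  change (DirectSum.toAddMonoid _) (decompose 𝓐 a) = _
  rw [DirectSum.decompose_of_mem 𝓐 ha, DirectSum.toAddMonoid_of]
  rfl

include 𝒜 in
theorem partAdd_smul (φ : A →ₗ[R] I) (d : ι) (r : R) (a : A) :
    partAdd 𝓐 ℐ φ d (r • a) = r • partAdd 𝓐 ℐ φ d a := by
  classical
  induction a using DirectSum.Decomposition.inductionOn 𝓐 with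
  | zero => simp
  | homogeneous m =>
    rename_i g
    induction r using DirectSum.Decomposition.inductionOn 𝒜 with
    | zero => simp
    | homogeneous s =>
      rename_i k
      have hsm : (s : R) • (m : A) ∈ 𝓐 (k + g) :=
        SetLike.GradedSMul.smul_mem (A := 𝒜) (B := 𝓐) (i := k) (j := g) s.2 m.2
      have hk : k + g + d - k = g + d := by abel
      rw [partAdd_of_mem 𝓐 ℐ φ d hsm, partAdd_of_mem 𝓐 ℐ φ d m.2, map_smul,
        decompose_smul_of_mem 𝒜 ℐ s.2, hk]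
    | add s s' hs hs' =>
      rw [add_smul, map_add, hs, hs', add_smul]
  | add m m' hm hm' =>
    rw [smul_add, map_add, map_add, hm, hm', smul_add]

/-- The degree-`d` part of a linear map `φ : A → I` out of a graded module. -/
def part (φ : A →ₗ[R] I) (d : ι) : A →ₗ[R] I where
  toFun := partAdd 𝓐 ℐ φ d
  map_add' := map_add _
  map_smul' r a := partAdd_smul 𝒜 𝓐 ℐ φ d r a

theorem part_of_mem (φ : A →ₗ[R] I) (d : ι) {g : ι} {a : A} (ha : a ∈ 𝓐 g) :
    part 𝒜 𝓐 ℐ φ d a = ((decompose ℐ (φ a)) (g + d) : I) :=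
  partAdd_of_mem 𝓐 ℐ φ d ha

theorem part_isGrHomDeg (φ : A →ₗ[R] I) (d : ι) :
    GrLC.IsGrHomDeg 𝓐 ℐ (part 𝒜 𝓐 ℐ φ d) d := by
  intro g a ha
  rw [part_of_mem 𝒜 𝓐 ℐ φ d ha]
  exact SetLike.coe_mem _

/-- A finitely generated graded module has a finite generating set of homogeneous elements. -/
theorem exists_homogeneous_generators [Module.Finite R A] :
    ∃ S : Finset A, (∀ a ∈ S, ∃ g, a ∈ 𝓐 g) ∧ Submodule.span R (S : Set A) = ⊤ := by
  classical
  obtain ⟨T, hT⟩ := (Module.Finite.fg_top : (⊤ : Submodule R A).FG)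
  refine ⟨T.biUnion fun t => (decompose 𝓐 t).support.image fun g => ((decompose 𝓐 t) g : A),
    ?_, ?_⟩
  · intro a ha
    simp only [Finset.mem_biUnion, Finset.mem_image] at ha
    obtain ⟨t, -, g, -, rfl⟩ := ha
    exact ⟨g, SetLike.coe_mem _⟩
  · rw [eq_top_iff, ← hT, Submodule.span_le]
    intro t ht
    rw [SetLike.mem_coe, ← DirectSum.sum_support_decompose 𝓐 t]
    refine Submodule.sum_mem _ fun g hg => Submodule.subset_span ?_
    exact Finset.mem_coe.mpr
      (Finset.mem_biUnion.mpr ⟨t, ht, Finset.mem_image.mpr ⟨g, hg, rfl⟩⟩)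

theorem sum_proj_eq [∀ (i : ι) (x : ℐ i), Decidable (x ≠ 0)] (x : I) (T : Finset ι)
    (hT : (decompose ℐ x).support ⊆ T) :
    ∑ h ∈ T, ((decompose ℐ x) h : I) = x := by
  rw [← Finset.sum_subset hT (fun h _ hh => ?_)]
  · exact DirectSum.sum_support_decompose ℐ x
  · rw [DFinsupp.notMem_support_iff] at hh
    rw [hh]
    rfl

/-- A linear map out of a finitely generated graded module is a finite sum of homogeneous parts. -/
theorem exists_sum_part [Module.Finite R A] (φ : A →ₗ[R] I) :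
    ∃ D : Finset ι, ∑ d ∈ D, part 𝒜 𝓐 ℐ φ d = φ := by
  classical
  obtain ⟨S, hS, hspan⟩ := exists_homogeneous_generators (R := R) 𝓐
  choose! deg hdeg using hS
  refine ⟨S.biUnion fun a => (decompose ℐ (φ a)).support.image fun h => h - deg a, ?_⟩
  apply LinearMap.ext_on hspan
  intro a ha
  rw [LinearMap.sum_apply]
  have h1 : ∀ d, part 𝒜 𝓐 ℐ φ d a = ((decompose ℐ (φ a)) (deg a + d) : I) :=
    fun d => part_of_mem 𝒜 𝓐 ℐ φ d (hdeg a ha)
  simp only [h1]
  rw [← Finset.sum_image (f := fun h => ((decompose ℐ (φ a)) h : I)) (g := fun d => deg a + d)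
    (fun x _ y _ hxy => add_left_cancel hxy)]
  apply sum_proj_eq
  intro h hh
  refine Finset.mem_image.mpr ⟨h - deg a, ?_, by abel⟩
  exact Finset.mem_biUnion.mpr ⟨a, ha, Finset.mem_image.mpr ⟨h, hh, rfl⟩⟩

variable {B : Type u} [AddCommGroup B] [Module R B] (𝓑 : ι → AddSubgroup B)
  [DirectSum.Decomposition 𝓑] [SetLike.GradedSMul 𝒜 𝓑]

/-- A *injective module has the extension property against maps homogeneous of any degree. -/
theorem exists_extension_of_isGrHomDeg (hI : GrLC.IsStarInj 𝒜 ℐ) (f : A →ₗ[R] B)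
    (hf : GrLC.IsGrHom 𝓐 𝓑 f) (hinj : Function.Injective f) (φ : A →ₗ[R] I) (d : ι)
    (hφ : GrLC.IsGrHomDeg 𝓐 ℐ φ d) : ∃ ψ : B →ₗ[R] I, ψ ∘ₗ f = φ := by
  let decA : DirectSum.Decomposition (shiftGr 𝓐 (-d)) := shiftDecomposition 𝓐 (-d)
  have gsA : SetLike.GradedSMul 𝒜 (shiftGr 𝓐 (-d)) := shift_gradedSMul 𝒜 𝓐 (-d)
  let decB : DirectSum.Decomposition (shiftGr 𝓑 (-d)) := shiftDecomposition 𝓑 (-d)
  have gsB : SetLike.GradedSMul 𝒜 (shiftGr 𝓑 (-d)) := shift_gradedSMul 𝒜 𝓑 (-d)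
  obtain ⟨ψ, -, hψ⟩ := hI (GrLC.GMod.of 𝒜 A (shiftGr 𝓐 (-d))) (GrLC.GMod.of 𝒜 B (shiftGr 𝓑 (-d))) f
    (fun j m hm => hf _ m hm) hinj φ
    (fun j m hm => by
      have := hφ (j + -d) m hm
      rwa [neg_add_cancel_right] at this)
  exact ⟨ψ, hψ⟩

/-- Over a graded ring, an arbitrary linear map from a finitely generated graded module `A` into a
*injective module extends along any homogeneous injection `A → B`. -/
theorem exists_extension [Module.Finite R A] (hI : GrLC.IsStarInj 𝒜 ℐ) (f : A →ₗ[R] B)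
    (hf : GrLC.IsGrHom 𝓐 𝓑 f) (hinj : Function.Injective f) (φ : A →ₗ[R] I) :
    ∃ ψ : B →ₗ[R] I, ψ ∘ₗ f = φ := by
  classical
  obtain ⟨D, hD⟩ := exists_sum_part 𝒜 𝓐 ℐ φ
  choose ψ hψ using fun d => exists_extension_of_isGrHomDeg 𝒜 𝓐 ℐ 𝓑 hI f hf hinj
    (part 𝒜 𝓐 ℐ φ d) d (part_isGrHomDeg 𝒜 𝓐 ℐ φ d)
  refine ⟨∑ d ∈ D, ψ d, ?_⟩
  rw [← hD]
  ext x
  simp only [LinearMap.comp_apply, LinearMap.sum_apply]
  exact Finset.sum_congr rfl fun d _ => LinearMap.congr_fun (hψ d) x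

end Groth.Agent.Lib.Helper29GrBaer
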