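import Groth.Agent.Lib.Helper29GrEss
import Groth.Agent.Lib.Helper29GrBaer

/-! Non-negatively `ℤ`-graded rings generated in degree one: boundedness, graded Nakayama,
torsion (helper29). -/

set_option autoImplicit false
open DirectSum

namespace Groth.Agent.Lib.Helper29GrStd

open Groth.Agent.Lib.Helper29GrEss Groth.Agent.Lib.Helper29GrBaer

universe u

section General

variable {ι : Type} [AddCommGroup ι] [DecidableEq ι]
variable {R : Type u} [CommRing R] (𝒜 : ι → AddSubgroup R) [GradedRing 𝒜]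
variable {M : Type u} [AddCommGroup M] [Module R M] (ℳ : ι → AddSubgroup M)
  [DirectSum.Decomposition ℳ] [SetLike.GradedSMul 𝒜 ℳ]

/-- Components of a linear combination of homogeneous elements. -/
theorem decompose_sum_smul (S : Finset M) (deg : M → ι) (hdeg : ∀ s ∈ S, s ∈ ℳ (deg s))
    (f : M → R) (n : ι) :
    ((decompose ℳ (∑ s ∈ S, f s • s)) n : M) =
      ∑ s ∈ S, ((decompose 𝒜 (f s)) (n - deg s) : R) • s := by
  rw [DirectSum.decompose_sum, DFinsupp.finsetSum_apply, AddSubmonoidClass.coe_finsetSum]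
  exact Finset.sum_congr rfl fun s hs => decompose_smul_of_mem_right 𝒜 ℳ (hdeg s hs) (f s) n

/-- If all pieces vanish, the module is zero. -/
theorem eq_zero_of_forall_piece_eq_bot (h : ∀ n, ℳ n = ⊥) (x : M) : x = 0 := by
  classical
  rw [← DirectSum.sum_support_decompose ℳ x]
  refine Finset.sum_eq_zero fun n _ => ?_
  have h1 : ((decompose ℳ x) n : M) ∈ ℳ n := SetLike.coe_mem _
  have h2 : ((decompose ℳ x) n : M) ∈ (⊥ : AddSubgroup M) := (h n) ▸ h1
  exact (AddSubgroup.mem_bot).mp h2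

end General

theorem eq_zero_of_mem_of_eq_bot {G : Type*} [AddGroup G] {H : AddSubgroup G} (h : H = ⊥) {x : G}
    (hx : x ∈ H) : x = 0 :=
  AddSubgroup.mem_bot.mp (h ▸ hx)

section Int

variable {R : Type u} [CommRing R] (𝒜 : ℤ → AddSubgroup R) [GradedRing 𝒜]
variable {M : Type u} [AddCommGroup M] [Module R M] (ℳ : ℤ → AddSubgroup M)
  [DirectSum.Decomposition ℳ] [SetLike.GradedSMul 𝒜 ℳ]

/-- A graded module over a non-negatively graded ring generated by homogeneous elements of degrees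
`≥ j₀` vanishes in degrees `< j₀`. -/
theorem piece_eq_bot_of_lt (hpos : ∀ n : ℤ, n < 0 → 𝒜 n = ⊥) (S : Finset M) (deg : M → ℤ)
    (hdeg : ∀ s ∈ S, s ∈ ℳ (deg s)) (hspan : Submodule.span R (S : Set M) = ⊤) (j₀ : ℤ)
    (hj₀ : ∀ s ∈ S, j₀ ≤ deg s) (n : ℤ) (hn : n < j₀) : ℳ n = ⊥ := by
  rw [eq_bot_iff]
  intro x hx
  rw [AddSubgroup.mem_bot]
  have hx' : x ∈ Submodule.span R (S : Set M) := hspan ▸ Submodule.mem_top
  obtain ⟨f, -, rfl⟩ := Submodule.mem_span_finset.mp hx'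
  have h1 := decompose_sum_smul 𝒜 ℳ S deg hdeg f n
  rw [DirectSum.decompose_of_mem_same ℳ hx] at h1
  rw [h1]
  refine Finset.sum_eq_zero fun s hs => ?_
  have hneg : n - deg s < 0 := by have := hj₀ s hs; omega
  have h2 : ((decompose 𝒜 (f s)) (n - deg s) : R) ∈ 𝒜 (n - deg s) := SetLike.coe_mem _
  rw [eq_zero_of_mem_of_eq_bot (hpos _ hneg) h2, zero_smul]

/-- Graded Nakayama, one step: if `𝔞 M = M` with `𝔞` generated by `R_1` and `M_{n-1} = 0` then
`M_n = 0`. -/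
theorem piece_eq_bot_of_smul_top_eq_top (𝔞 : Ideal R) (h1 : 𝔞 = Ideal.span (𝒜 1 : Set R))
    (htop : 𝔞 • (⊤ : Submodule R M) = ⊤) (n : ℤ) (hprev : ℳ (n - 1) = ⊥) : ℳ n = ⊥ := by
  have key : ∀ x ∈ 𝔞 • (⊤ : Submodule R M), ((decompose ℳ x) n : M) = 0 := by
    intro x hx
    refine Submodule.smul_induction_on hx ?_ ?_
    · intro r hr y _
      rw [h1] at hr
      suffices hsuf : ∀ y : M, ((decompose ℳ (r • y)) n : M) = 0 from hsuf y
      refine Submodule.span_induction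
        (p := fun r _ => ∀ y : M, ((decompose ℳ (r • y)) n : M) = 0) ?_ ?_ ?_ ?_ hr
      · intro p hp y
        rw [decompose_smul_of_mem 𝒜 ℳ hp y n]
        have : ((decompose ℳ y) (n - 1) : M) = 0 :=
          eq_zero_of_mem_of_eq_bot hprev (SetLike.coe_mem _)
        rw [this, smul_zero]
      · intro y
        rw [zero_smul, DirectSum.decompose_zero]
        rfl
      · intro r r' _ _ hr hr' y
        rw [add_smul, DirectSum.decompose_add, DirectSum.add_apply, AddSubgroup.coe_add, hr y,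
          hr' y, add_zero]
      · intro c r _ hr y
        rw [smul_eq_mul, mul_comm, mul_smul]
        exact hr (c • y)
    · intro x y hx hy
      rw [DirectSum.decompose_add, DirectSum.add_apply, AddSubgroup.coe_add, hx, hy, add_zero]
  rw [eq_bot_iff]
  intro x hx
  rw [AddSubgroup.mem_bot]
  have := key x (by rw [htop]; exact Submodule.mem_top)
  rwa [DirectSum.decompose_of_mem_same ℳ hx] at this

include ℳ in
/-- Graded Nakayama: a finitely generated graded module `M` over a non-negatively graded ring with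
`𝔞 M = M`, `𝔞` generated by `R_1`, is zero. -/
theorem eq_zero_of_smul_top_eq_top [Module.Finite R M] (hpos : ∀ n : ℤ, n < 0 → 𝒜 n = ⊥)
    (𝔞 : Ideal R) (h1 : 𝔞 = Ideal.span (𝒜 1 : Set R))
    (htop : 𝔞 • (⊤ : Submodule R M) = ⊤) (x : M) : x = 0 := by
  classical
  obtain ⟨S, hS, hspan⟩ := exists_homogeneous_generators (R := R) ℳ
  choose! deg hdeg using hS
  obtain ⟨j₀, hj₀⟩ : ∃ j₀ : ℤ, ∀ s ∈ S, j₀ ≤ deg s := by
    obtain ⟨j, hj⟩ := Finset.exists_le (S.image fun s => -deg s)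
    refine ⟨-j, fun s hs => ?_⟩
    have := hj _ (Finset.mem_image_of_mem (fun s => -deg s) hs)
    omega
  have hlow : ∀ n < j₀, ℳ n = ⊥ := piece_eq_bot_of_lt 𝒜 ℳ hpos S deg hdeg hspan j₀ hj₀
  have hall : ∀ n, ℳ n = ⊥ := by
    intro n
    by_cases hn : n < j₀
    · exact hlow n hn
    · have hn' : j₀ - 1 ≤ n := by omega
      refine Int.leInduction (m := j₀ - 1) (motive := fun n _ => ℳ n = ⊥)
        (hlow (j₀ - 1) (by omega)) ?_ n hn'
      intro k _ hk
      refine piece_eq_bot_of_smul_top_eq_top 𝒜 ℳ 𝔞 h1 htop (k + 1) ?_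
      rwa [add_sub_cancel_right]
  exact eq_zero_of_forall_piece_eq_bot ℳ hall x

/-- `𝔞^k` is contained in the ideal generated by `R_k` when `𝔞` is generated by `R_1`. -/
theorem pow_le_span_piece (𝔞 : Ideal R) (h1 : 𝔞 = Ideal.span (𝒜 1 : Set R)) (k : ℕ) :
    𝔞 ^ k ≤ Ideal.span (𝒜 (k : ℤ) : Set R) := by
  induction k with
  | zero =>
    have h : (1 : R) ∈ Ideal.span (𝒜 ((0 : ℕ) : ℤ) : Set R) :=
      Ideal.subset_span (by
        have h0 : (1 : R) ∈ 𝒜 0 := SetLike.one_mem_graded 𝒜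
        simpa using h0)
    rw [(Ideal.eq_top_iff_one _).mpr h]
    exact le_top
  | succ k ih =>
    rw [pow_succ]
    refine (Ideal.mul_mono ih (le_of_eq h1)).trans ?_
    rw [Ideal.span_mul_span']
    apply Ideal.span_mono
    rintro _ ⟨x, hx, y, hy, rfl⟩
    have := SetLike.GradedMul.mul_mem (A := 𝒜) hx hy
    rw [SetLike.mem_coe]
    convert this using 2
    push_cast
    rfl

theorem smul_eq_zero_of_mem_pow (𝔞 : Ideal R) (h1 : 𝔞 = Ideal.span (𝒜 1 : Set R)) {j : ℤ} {m : M}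
    (hm : m ∈ ℳ j) (k : ℕ) (hk : ℳ ((k : ℤ) + j) = ⊥) : ∀ r ∈ 𝔞 ^ k, r • m = 0 := by
  intro r hr
  have hr' := pow_le_span_piece 𝒜 𝔞 h1 k hr
  refine Submodule.span_induction (p := fun r _ => r • m = 0) ?_ ?_ ?_ ?_ hr'
  · intro p hp
    exact eq_zero_of_mem_of_eq_bot hk (SetLike.GradedSMul.smul_mem (A := 𝒜) (B := ℳ) hp hm)
  · exact zero_smul R m
  · intro r r' _ _ h h'
    rw [add_smul, h, h', add_zero]
  · intro c r _ h
    rw [smul_eq_mul, mul_smul, h, smul_zero]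

/-- If `M_n = 0` for `n ≥ n₀` then every element of `M` is `𝔞`-power torsion. -/
theorem exists_pow_smul_eq_zero_of_bounded (𝔞 : Ideal R) (h1 : 𝔞 = Ideal.span (𝒜 1 : Set R))
    (n₀ : ℤ) (h : ∀ n, n₀ ≤ n → ℳ n = ⊥) (m : M) : ∃ k : ℕ, ∀ r ∈ 𝔞 ^ k, r • m = 0 := by
  classical
  induction m using DirectSum.Decomposition.inductionOn ℳ with
  | zero => exact ⟨0, fun r _ => smul_zero r⟩
  | homogeneous m =>
    rename_i j
    refine ⟨(n₀ - j).toNat, smul_eq_zero_of_mem_pow 𝒜 ℳ 𝔞 h1 m.2 _ (h _ ?_)⟩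
    have := Int.self_le_toNat (n₀ - j)
    omega
  | add m m' hm hm' =>
    obtain ⟨k, hk⟩ := hm
    obtain ⟨k', hk'⟩ := hm'
    exact ⟨k + k', fun r hr => by
      rw [smul_add, hk r (Ideal.pow_le_pow_right (Nat.le_add_right _ _) hr),
        hk' r (Ideal.pow_le_pow_right (Nat.le_add_left _ _) hr), add_zero]⟩

/-- `R_k ⊆ 𝔞^k` when `𝔞 = R_+` is generated by `R_1`. -/
theorem piece_le_pow (𝔞 : Ideal R) (h1 : 𝔞 = Ideal.span (𝒜 1 : Set R))
    (hle : ∀ n : ℤ, 0 < n → (𝒜 n : Set R) ⊆ 𝔞) :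
    ∀ (k : ℕ) (r : R), r ∈ 𝒜 (k : ℤ) → r ∈ 𝔞 ^ k := by
  intro k
  induction k with
  | zero =>
    intro r _
    rw [pow_zero, Ideal.one_eq_top]
    exact Submodule.mem_top
  | succ k ih =>
    intro r hr
    have hra : r ∈ 𝔞 := hle _ (by push_cast; omega) hr
    rw [h1] at hra
    obtain ⟨f, t, hts, -, rfl⟩ := Submodule.mem_span_iff_exists_finset_subset.mp hra
    have hcomp := decompose_sum_smul 𝒜 𝒜 t (fun _ => 1) (fun p hp => hts hp) f ((k + 1 : ℕ) : ℤ)
    rw [DirectSum.decompose_of_mem_same 𝒜 hr] at hcomp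
    rw [hcomp, pow_succ]
    refine Ideal.sum_mem _ fun p hp => ?_
    have h2 : ((decompose 𝒜 (f p)) (((k + 1 : ℕ) : ℤ) - 1) : R) ∈ 𝔞 ^ k := by
      apply ih
      have h3 : (((k + 1 : ℕ) : ℤ) - 1) = (k : ℤ) := by push_cast; ring
      rw [← h3]
      exact SetLike.coe_mem _
    have h4 : p ∈ 𝔞 := by rw [h1]; exact Ideal.subset_span (hts hp)
    exact Ideal.mul_mem_mul h2 h4

/-- A finitely generated graded `𝔞`-power-torsion module vanishes in high degrees. -/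
theorem exists_bound_of_torsion [Module.Finite R M] (𝔞 : Ideal R)
    (h1 : 𝔞 = Ideal.span (𝒜 1 : Set R)) (hle : ∀ n : ℤ, 0 < n → (𝒜 n : Set R) ⊆ 𝔞)
    (htors : ∀ m : M, ∃ k : ℕ, ∀ r ∈ 𝔞 ^ k, r • m = 0) :
    ∃ n₀ : ℤ, ∀ n, n₀ ≤ n → ℳ n = ⊥ := by
  classical
  obtain ⟨S, hS, hspan⟩ := exists_homogeneous_generators (R := R) ℳ
  choose! deg hdeg using hS
  choose kk hkk using htors
  obtain ⟨J, hJ⟩ := Finset.exists_le (S.image deg)
  obtain ⟨K, hK⟩ := Finset.exists_le (S.image kk)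
  refine ⟨J + K, fun n hn => ?_⟩
  rw [eq_bot_iff]
  intro x hx
  rw [AddSubgroup.mem_bot]
  have hx' : x ∈ Submodule.span R (S : Set M) := by rw [hspan]; exact Submodule.mem_top
  obtain ⟨f, -, rfl⟩ := Submodule.mem_span_finset.mp hx'
  have h1' := decompose_sum_smul 𝒜 ℳ S deg hdeg f n
  rw [DirectSum.decompose_of_mem_same ℳ hx] at h1'
  rw [h1']
  refine Finset.sum_eq_zero fun s hs => ?_
  have hd : deg s ≤ J := hJ _ (Finset.mem_image_of_mem deg hs)
  have hk : kk s ≤ K := hK _ (Finset.mem_image_of_mem kk hs)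
  obtain ⟨e, he⟩ : ∃ e : ℕ, n - deg s = (e : ℤ) := Int.eq_ofNat_of_zero_le (by omega)
  have hc : ((decompose 𝒜 (f s)) (n - deg s) : R) ∈ 𝔞 ^ e := by
    apply piece_le_pow 𝒜 𝔞 h1 hle e
    rw [← he]
    exact SetLike.coe_mem _
  have hek : kk s ≤ e := by omega
  exact hkk s _ (Ideal.pow_le_pow_right hek hc)

end Int

end Groth.Agent.Lib.Helper29GrStd
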