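import Mathlib
import Groth.Prelude.Def_GrLC
import Groth.Prelude.Def_CAlg
import Groth.Agent.Lib.Helper25GrHsop
import Groth.Agent.Lib.Helper25GrNat
import Groth.Agent.Lib.Helper29GrHmod
import Groth.Agent.Lib.Helper29GrIrrelField
import Groth.Agent.Lib.Helper29GrStd
import Groth.Agent.Lib.Helper29GrPieceFin

/-!
# Non-negatively `ℤ`-graded rings over a field `R_0`: bridge to `ℕ`-graded algebras (helper25)

For `𝒜 : ℤ → AddSubgroup R` with `𝒜 n = ⊥` for `n < 0` and `R_0 = GrLC.deg0 𝒜` a field we regrade by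
`ℕ`, with pieces `R_0`-subspaces, and transport the existence of homogeneous systems of
parameters of constant degree.
-/

set_option autoImplicit false
set_option linter.unusedSectionVars false
set_option linter.style.haveILetI false
set_option warn.classDefReducibility false

noncomputable section

namespace Groth.Agent.Lib.Helper25.AInvBasic

open DirectSum Groth.Agent.Lib.Helper29.GrHmod

universe u

variable {R : Type u} [CommRing R] (𝒜 : ℤ → AddSubgroup R) [GradedRing 𝒜]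

/-- the pieces, indexed by `ℕ`, as `R_0`-submodules -/
def natComp (n : ℕ) : Submodule (GrLC.deg0 𝒜) R := GrLC.comp 𝒜 𝒜 (n : ℤ)

theorem mem_natComp_iff {n : ℕ} {x : R} : x ∈ natComp 𝒜 n ↔ x ∈ 𝒜 (n : ℤ) := Iff.rfl

theorem mem_comp_iff {n : ℤ} {x : R} : x ∈ GrLC.comp 𝒜 𝒜 n ↔ x ∈ 𝒜 n := Iff.rfl

theorem component_eq_zero_of_mem_iSup (i : ℤ) (x : R)
    (hx : x ∈ ⨆ (j : ℤ) (_ : j ≠ i), GrLC.comp 𝒜 𝒜 j) : ((decompose 𝒜 x) i : R) = 0 := by
  classical
  refine Submodule.iSup_induction (p := fun j : ℤ => ⨆ (_ : j ≠ i), GrLC.comp 𝒜 𝒜 j)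
    (motive := fun x => ((decompose 𝒜 x) i : R) = 0) hx ?_ ?_ ?_
  · intro j x hx
    by_cases hj : j = i
    · subst hj
      simp only [ne_eq, not_true_eq_false, iSup_false, Submodule.mem_bot] at hx
      rw [hx, decompose_zero, DirectSum.zero_apply, ZeroMemClass.coe_zero]
    · simp only [ne_eq, hj, not_false_eq_true, iSup_pos] at hx
      exact DirectSum.decompose_of_mem_ne 𝒜 (mem_comp_iff 𝒜 |>.mp hx) hj
  · rw [decompose_zero, DirectSum.zero_apply, ZeroMemClass.coe_zero]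
  · intro x y hx hy
    rw [decompose_add, DirectSum.add_apply, AddMemClass.coe_add, hx, hy, add_zero]

theorem iSupIndep_comp : iSupIndep (fun n : ℤ => GrLC.comp 𝒜 𝒜 n) := by
  classical
  intro i
  rw [Submodule.disjoint_def]
  intro x hx hx'
  have h1 := component_eq_zero_of_mem_iSup 𝒜 i x hx'
  rw [DirectSum.decompose_of_mem_same 𝒜 ((mem_comp_iff 𝒜).mp hx)] at h1
  exact h1

theorem iSup_comp_eq_top : (⨆ n : ℤ, GrLC.comp 𝒜 𝒜 n) = ⊤ := by
  classical
  rw [eq_top_iff]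
  intro x _
  rw [← DirectSum.sum_support_decompose 𝒜 x]
  refine Submodule.sum_mem _ fun i _ => ?_
  exact Submodule.mem_iSup_of_mem i ((mem_comp_iff 𝒜).mpr (SetLike.coe_mem _))

variable (hpos : ∀ n : ℤ, n < 0 → 𝒜 n = ⊥)

theorem iSupIndep_natComp : iSupIndep (natComp 𝒜) :=
  (iSupIndep_comp 𝒜).comp Nat.cast_injective

include hpos in
theorem iSup_natComp_eq_top : (⨆ n : ℕ, natComp 𝒜 n) = ⊤ := by
  rw [eq_top_iff, ← iSup_comp_eq_top 𝒜]
  refine iSup_le fun n => ?_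
  rcases lt_or_ge n 0 with hn | hn
  · intro x hx
    have hx' : x ∈ 𝒜 n := hx
    rw [hpos n hn, AddSubgroup.mem_bot] at hx'
    rw [hx']
    exact zero_mem _
  · have : n = ((n.toNat : ℕ) : ℤ) := (Int.toNat_of_nonneg hn).symm
    rw [this]
    exact le_iSup (natComp 𝒜) n.toNat

include hpos in
theorem natComp_isInternal : DirectSum.IsInternal (natComp 𝒜) :=
  DirectSum.isInternal_submodule_of_iSupIndep_of_iSup_eq_top (iSupIndep_natComp 𝒜)
    (iSup_natComp_eq_top 𝒜 hpos)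

/-- the `ℕ`-graded algebra structure over `R_0` -/
def natGradedAlgebra : GradedAlgebra (natComp 𝒜) :=
  { toDecomposition := (natComp_isInternal 𝒜 hpos).chooseDecomposition
    one_mem := by
      show (1 : R) ∈ 𝒜 ((0 : ℕ) : ℤ)
      rw [Nat.cast_zero]
      exact SetLike.one_mem_graded 𝒜
    mul_mem := by
      intro i j a b ha hb
      show a * b ∈ 𝒜 ((i + j : ℕ) : ℤ)
      rw [Nat.cast_add]
      exact SetLike.mul_mem_graded (A := 𝒜) ha hb }

theorem h0_natComp : ∀ a ∈ natComp 𝒜 0, ∃ c : GrLC.deg0 𝒜, algebraMap (GrLC.deg0 𝒜) R c = a := by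
  intro a ha
  have ha' : a ∈ 𝒜 0 := by
    have h := (mem_natComp_iff 𝒜).mp ha
    rwa [Nat.cast_zero] at h
  exact ⟨⟨a, ha'⟩, rfl⟩

variable (h0 : IsField (GrLC.deg0 𝒜))

include hpos h0 in
theorem Rp_le_irr :
    letI := h0.toField
    letI := natGradedAlgebra 𝒜 hpos
    Rp 𝒜 ≤ Groth.Agent.Lib.Helper25.GrDim.irr (natComp 𝒜) := by
  letI := h0.toField
  letI := natGradedAlgebra 𝒜 hpos
  unfold Rp
  rw [Ideal.span_le]
  intro x hx
  obtain ⟨n, hn, hx⟩ := Set.mem_iUnion₂.mp hx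
  have hn' : (0 : ℤ) < n := hn
  have hnn : n = ((n.toNat : ℕ) : ℤ) := (Int.toNat_of_nonneg hn'.le).symm
  have hx' : x ∈ natComp 𝒜 n.toNat := by
    rw [mem_natComp_iff, ← hnn]
    exact hx
  exact HomogeneousIdeal.mem_irrelevant_of_mem (natComp 𝒜) (by omega) hx'

include hpos h0 in
theorem irr_le_Rp :
    letI := h0.toField
    letI := natGradedAlgebra 𝒜 hpos
    Groth.Agent.Lib.Helper25.GrDim.irr (natComp 𝒜) ≤ Rp 𝒜 := by
  letI := h0.toField
  letI := natGradedAlgebra 𝒜 hpos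
  refine Groth.Agent.Lib.Helper25.GrDim.irr_le_of_forall_pos (natComp 𝒜) (Rp 𝒜) ?_
  intro n hn a ha
  exact Ideal.subset_span (Set.mem_iUnion₂.mpr ⟨(n : ℤ), by
    show (0 : ℤ) < n
    exact_mod_cast hn, ha⟩)

include hpos h0 in
theorem irr_eq_Rp :
    letI := h0.toField
    letI := natGradedAlgebra 𝒜 hpos
    Groth.Agent.Lib.Helper25.GrDim.irr (natComp 𝒜) = Rp 𝒜 :=
  le_antisymm (irr_le_Rp 𝒜 hpos h0) (Rp_le_irr 𝒜 hpos h0)

include hpos h0 in
/-- homogeneous system of parameters of constant degree -/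
theorem exists_hsop [IsNoetherianRing R] (r : ℕ) (hr : ringKrullDim R ≤ (r : WithBot ℕ∞)) :
    ∃ D : ℕ, 0 < D ∧ ∃ y : Fin r → R, (∀ i, y i ∈ 𝒜 (D : ℤ)) ∧
      Rp 𝒜 ≤ (Ideal.span (Set.range y)).radical := by
  letI := h0.toField
  letI := natGradedAlgebra 𝒜 hpos
  haveI : Nontrivial R := ⟨⟨1, 0, Groth.Agent.Lib.Helper29GrIrrelField.one_ne_zero' 𝒜 h0⟩⟩
  have hd : ringKrullDim (R ⧸ (⊥ : Ideal R)) ≤ (r : WithBot ℕ∞) := by
    rw [ringKrullDim_eq_of_ringEquiv (RingEquiv.quotientBot R)]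
    exact hr
  obtain ⟨D, hD, h⟩ := Groth.Agent.Lib.Helper25.GrHsop.exists_hsop_same_degree (natComp 𝒜)
    (h0_natComp 𝒜) r ⊥ (Ideal.IsHomogeneous.bot _) bot_ne_top hd
  obtain ⟨x, hx, hrad⟩ := h 1 Nat.one_pos
  refine ⟨D, hD, x, fun i => ?_, ?_⟩
  · have := hx i
    rw [mul_one] at this
    exact this
  · rw [bot_sup_eq] at hrad
    exact (Rp_le_irr 𝒜 hpos h0).trans hrad

include hpos h0 in
/-- `dim R ≤ ht R_+` -/
theorem ringKrullDim_le_height_Rp [IsNoetherianRing R] :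
    ringKrullDim R ≤ (((Rp 𝒜).height : ℕ∞) : WithBot ℕ∞) := by
  letI := h0.toField
  letI := natGradedAlgebra 𝒜 hpos
  haveI : Nontrivial R := ⟨⟨1, 0, Groth.Agent.Lib.Helper29GrIrrelField.one_ne_zero' 𝒜 h0⟩⟩
  have h := Groth.Agent.Lib.Helper25.GrHsop.ringKrullDim_le_height_irr (natComp 𝒜) (h0_natComp 𝒜)
  rw [irr_eq_Rp 𝒜 hpos h0] at h
  exact h

end Groth.Agent.Lib.Helper25.AInvBasic
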