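import Mathlib
import Groth.Prelude.Def_GrLC

/-! Elementary lemmas on `GrLC.endDeg` (helper29). -/

set_option autoImplicit false

namespace Groth.Agent.Lib.Helper29EndDeg

universe u

variable {M : Type u} [AddCommGroup M] (ℳ : ℤ → AddSubgroup M)

theorem le_endDeg {n : ℤ} (h : ℳ n ≠ ⊥) :
    ((n : WithTop ℤ) : WithBot (WithTop ℤ)) ≤ GrLC.endDeg ℳ := by
  unfold GrLC.endDeg
  exact le_iSup₂ (f := fun (n : ℤ) (_ : ℳ n ≠ ⊥) => ((n : WithTop ℤ) : WithBot (WithTop ℤ))) n h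

theorem endDeg_le_iff (x : WithBot (WithTop ℤ)) :
    GrLC.endDeg ℳ ≤ x ↔ ∀ n, ℳ n ≠ ⊥ → ((n : WithTop ℤ) : WithBot (WithTop ℤ)) ≤ x := by
  unfold GrLC.endDeg
  exact iSup₂_le_iff

theorem coe_le_coe_iff {a b : ℤ} :
    ((a : WithTop ℤ) : WithBot (WithTop ℤ)) ≤ ((b : WithTop ℤ) : WithBot (WithTop ℤ)) ↔ a ≤ b := by
  rw [WithBot.coe_le_coe, WithTop.coe_le_coe]

/-- If the end is an integer `a`, the piece of degree `a` is nonzero. -/
theorem ne_bot_of_endDeg_eq (a : ℤ)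
    (h : GrLC.endDeg ℳ = ((a : WithTop ℤ) : WithBot (WithTop ℤ))) : ℳ a ≠ ⊥ := by
  intro hbot
  have h1 : GrLC.endDeg ℳ ≤ (((a - 1 : ℤ) : WithTop ℤ) : WithBot (WithTop ℤ)) := by
    rw [endDeg_le_iff]
    intro n hn
    have h1 := le_endDeg ℳ hn
    rw [h, coe_le_coe_iff] at h1
    have h3 : n ≠ a := fun e => hn (e ▸ hbot)
    rw [coe_le_coe_iff]
    omega
  rw [h, coe_le_coe_iff] at h1
  omega

theorem endDeg_eq_bot_iff : GrLC.endDeg ℳ = ⊥ ↔ ∀ n, ℳ n = ⊥ := by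
  rw [← le_bot_iff, endDeg_le_iff]
  constructor
  · intro h n
    by_contra hn
    have := h n hn
    rw [le_bot_iff] at this
    exact WithBot.coe_ne_bot this
  · intro h n hn
    exact absurd (h n) hn

/-- The end of a shift-related pair of families: if the nonzero degrees of `𝒩` are the nonzero
degrees of `ℳ` moved by `k` (up to going further up), the ends differ by `k`. -/
theorem endDeg_eq_add {N : Type u} [AddCommGroup N] (𝒩 : ℤ → AddSubgroup N) (k : ℤ)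
    (h1 : ∀ g, 𝒩 g ≠ ⊥ → ℳ (g - k) ≠ ⊥)
    (h2 : ∀ j, ℳ j ≠ ⊥ → ∃ g, j + k ≤ g ∧ 𝒩 g ≠ ⊥) :
    GrLC.endDeg 𝒩 = GrLC.endDeg ℳ + ((k : WithTop ℤ) : WithBot (WithTop ℤ)) := by
  apply le_antisymm
  · rw [endDeg_le_iff]
    intro g hg
    have h3 := le_endDeg ℳ (h1 g hg)
    have h4 : ((g : WithTop ℤ) : WithBot (WithTop ℤ)) =
        (((g - k : ℤ) : WithTop ℤ) : WithBot (WithTop ℤ)) + ((k : WithTop ℤ) : WithBot (WithTop ℤ)) := by
      rw [← WithBot.coe_add, ← WithTop.coe_add, sub_add_cancel]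
    rw [h4]
    gcongr
  · -- `endDeg ℳ + k ≤ endDeg 𝒩`
    have key : ∀ x : WithBot (WithTop ℤ), (∀ n, ℳ n ≠ ⊥ →
        ((n : WithTop ℤ) : WithBot (WithTop ℤ)) + ((k : WithTop ℤ) : WithBot (WithTop ℤ)) ≤ x) →
        GrLC.endDeg ℳ + ((k : WithTop ℤ) : WithBot (WithTop ℤ)) ≤ x := by
      intro x hx
      have h5 : GrLC.endDeg ℳ ≤ x + (((-k : ℤ) : WithTop ℤ) : WithBot (WithTop ℤ)) := by
        rw [endDeg_le_iff]
        intro n hn
        have h6 := hx n hn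
        calc ((n : WithTop ℤ) : WithBot (WithTop ℤ))
            = (((n : WithTop ℤ) : WithBot (WithTop ℤ)) + ((k : WithTop ℤ) : WithBot (WithTop ℤ))) +
                (((-k : ℤ) : WithTop ℤ) : WithBot (WithTop ℤ)) := by
              rw [← WithBot.coe_add, ← WithTop.coe_add, ← WithBot.coe_add, ← WithTop.coe_add]
              congr 2
              ring
          _ ≤ x + (((-k : ℤ) : WithTop ℤ) : WithBot (WithTop ℤ)) := by gcongr
      calc GrLC.endDeg ℳ + ((k : WithTop ℤ) : WithBot (WithTop ℤ))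
          ≤ (x + (((-k : ℤ) : WithTop ℤ) : WithBot (WithTop ℤ))) +
              ((k : WithTop ℤ) : WithBot (WithTop ℤ)) := by gcongr
        _ = x := by
            rw [add_assoc, ← WithBot.coe_add, ← WithTop.coe_add, neg_add_cancel]
            simp
    apply key
    intro n hn
    obtain ⟨g, hg1, hg2⟩ := h2 n hn
    refine le_trans ?_ (le_endDeg 𝒩 hg2)
    rw [← WithBot.coe_add, ← WithTop.coe_add, coe_le_coe_iff]
    exact hg1

end Groth.Agent.Lib.Helper29EndDeg
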