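import Groth.Agent.Lib.Helper29GrEss
import Groth.Prelude.Def_GrLC

/-! The cofree graded module `G(N) = ι →₀ N` on an `R`-module `N` (right adjoint of the
forgetful functor from graded modules), helper29. -/

set_option autoImplicit false
open DirectSum

noncomputable section

namespace Groth.Agent.Lib.Helper29GrCofree

universe u

variable {ι : Type} [AddCommGroup ι] [DecidableEq ι]
variable {R : Type u} [CommRing R] (𝒜 : ι → AddSubgroup R) [GradedRing 𝒜]
variable (N : Type u) [AddCommGroup N] [Module R N]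

/-- The carrier of the cofree graded module: finitely supported functions `ι → N`. -/
def GN (_𝒜 : ι → AddSubgroup R) (N : Type u) [AddCommGroup N] : Type u := ι →₀ N

instance : AddCommGroup (GN 𝒜 N) := inferInstanceAs (AddCommGroup (ι →₀ N))

/-- The action of an element `a` shifted by `h`. -/
def actHom (h : ι) (a : R) : AddMonoid.End (ι →₀ N) :=
  show (ι →₀ N) →+ (ι →₀ N) from
  { toFun := fun ξ => Finsupp.mapDomain (fun g => h + g) (a • ξ)
    map_zero' := by simp
    map_add' := fun ξ ζ => by simp [Finsupp.mapDomain_add] }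

omit [DecidableEq ι] in
theorem actHom_apply (h : ι) (a : R) (ξ : ι →₀ N) :
    actHom N h a ξ = Finsupp.mapDomain (fun g => h + g) (a • ξ) := rfl

/-- The action of a homogeneous element of degree `h`. -/
def rhoPiece (h : ι) : 𝒜 h →+ AddMonoid.End (ι →₀ N) where
  toFun a := actHom N h (a : R)
  map_zero' := by
    apply AddMonoid.End.ext
    intro ξ
    rw [actHom_apply]
    simp
  map_add' a b := by
    apply AddMonoid.End.ext
    intro ξ
    change actHom N h ((a : R) + (b : R)) ξ = actHom N h (a : R) ξ + actHom N h (b : R) ξ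
    rw [actHom_apply, actHom_apply, actHom_apply, add_smul, Finsupp.mapDomain_add]

/-- The ring homomorphism `R → End(ι →₀ N)`. -/
def rho : R →+* AddMonoid.End (ι →₀ N) :=
  (DirectSum.toSemiring (rhoPiece 𝒜 N)
    (by
      apply AddMonoid.End.ext
      intro ξ
      change actHom N 0 (1 : R) ξ = ξ
      rw [actHom_apply, one_smul]
      have : (fun g : ι => 0 + g) = id := by funext g; simp
      rw [this, Finsupp.mapDomain_id])
    (by
      intro i j ai aj
      apply AddMonoid.End.ext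
      intro ξ
      change actHom N (i + j) ((ai : R) * (aj : R)) ξ =
        actHom N i (ai : R) (actHom N j (aj : R) ξ)
      rw [actHom_apply, actHom_apply, actHom_apply, ← Finsupp.mapDomain_smul,
        ← Finsupp.mapDomain_comp, smul_smul]
      congr 1
      funext g
      simp [add_assoc])).comp
  (DirectSum.decomposeRingEquiv 𝒜).toRingHom

instance instModuleGN : Module R (GN 𝒜 N) :=
  Module.compHom (ι →₀ N) (rho 𝒜 N)

/-- View an element of `GN` as a finitely supported function. -/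
def toF (ξ : GN 𝒜 N) : ι →₀ N := ξ

/-- View a finitely supported function as an element of `GN`. -/
def ofF (ξ : ι →₀ N) : GN 𝒜 N := ξ

theorem smul_def (r : R) (ξ : GN 𝒜 N) : r • ξ = ofF 𝒜 N (rho 𝒜 N r (toF 𝒜 N ξ)) := rfl

/-- The action of a homogeneous element. -/
theorem smul_of_mem {h : ι} {a : R} (ha : a ∈ 𝒜 h) (ξ : GN 𝒜 N) :
    a • ξ = ofF 𝒜 N (Finsupp.mapDomain (fun g => h + g) (a • toF 𝒜 N ξ)) := by
  rw [smul_def]
  congr 1
  rw [rho, RingHom.comp_apply]
  change (DirectSum.toSemiring (rhoPiece 𝒜 N) _ _) (DirectSum.decompose 𝒜 a) (toF 𝒜 N ξ) = _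
  rw [DirectSum.decompose_of_mem 𝒜 ha, DirectSum.toSemiring_of]
  rfl

/-! ### The grading -/

/-- The pieces of `G(N)`: functions supported at one degree. -/
def GNgr (g : ι) : AddSubgroup (GN 𝒜 N) :=
  AddMonoidHom.range (show N →+ GN 𝒜 N from Finsupp.singleAddHom g)

theorem mem_GNgr {g : ι} {ξ : GN 𝒜 N} :
    ξ ∈ GNgr 𝒜 N g ↔ ∃ n : N, ofF 𝒜 N (Finsupp.single g n) = ξ := Iff.rfl

/-- `n ↦ single g n` into the `g`-th piece. -/
def pieceHom (g : ι) : N →+ GNgr 𝒜 N g where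
  toFun n := ⟨ofF 𝒜 N (Finsupp.single g n), n, rfl⟩
  map_zero' := Subtype.ext (Finsupp.single_zero g)
  map_add' a b := Subtype.ext (Finsupp.single_add g a b)

/-- The decomposition map as an additive map. -/
def decHom : GN 𝒜 N →+ ⨁ g, GNgr 𝒜 N g :=
  (DirectSum.map (pieceHom 𝒜 N)).comp
    (show GN 𝒜 N →+ ⨁ _ : ι, N from (finsuppLEquivDirectSum R N ι).toLinearMap.toAddMonoidHom)

theorem decHom_single (g : ι) (n : N) :
    decHom 𝒜 N (ofF 𝒜 N (Finsupp.single g n)) =
      DirectSum.of (fun g => GNgr 𝒜 N g) g (pieceHom 𝒜 N g n) := by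
  change DirectSum.map (pieceHom 𝒜 N) (finsuppLEquivDirectSum R N ι (Finsupp.single g n)) = _
  rw [finsuppLEquivDirectSum_single, DirectSum.lof_eq_of, DirectSum.map_of]

instance instDecompositionGN : DirectSum.Decomposition (GNgr 𝒜 N) :=
  DirectSum.Decomposition.ofAddHom (GNgr 𝒜 N) (decHom 𝒜 N)
    (by
      change (DirectSum.coeAddMonoidHom (GNgr 𝒜 N)).comp
        (show (ι →₀ N) →+ ⨁ g, GNgr 𝒜 N g from decHom 𝒜 N) = AddMonoidHom.id (ι →₀ N)
      apply Finsupp.addHom_ext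
      intro g n
      change DirectSum.coeAddMonoidHom (GNgr 𝒜 N) (decHom 𝒜 N (ofF 𝒜 N (Finsupp.single g n))) = _
      rw [decHom_single, DirectSum.coeAddMonoidHom_of]
      rfl)
    (by
      apply DirectSum.addHom_ext
      rintro g ⟨x, n, rfl⟩
      change decHom 𝒜 N (DirectSum.coeAddMonoidHom (GNgr 𝒜 N) (DirectSum.of _ g _)) = _
      rw [DirectSum.coeAddMonoidHom_of]
      exact decHom_single 𝒜 N g n)

theorem smul_single {h : ι} {a : R} (ha : a ∈ 𝒜 h) (g : ι) (n : N) :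
    a • ofF 𝒜 N (Finsupp.single g n) = ofF 𝒜 N (Finsupp.single (h + g) (a • n)) := by
  rw [smul_of_mem 𝒜 N ha]
  congr 1
  change Finsupp.mapDomain (fun g => h + g) (a • Finsupp.single g n) = _
  rw [Finsupp.smul_single, Finsupp.mapDomain_single]

instance instGradedSMulGN : SetLike.GradedSMul 𝒜 (GNgr 𝒜 N) where
  smul_mem := by
    rintro h g a ξ ha ⟨n, rfl⟩
    exact ⟨a • n, (smul_single 𝒜 N ha g n).symm⟩

/-! ### Counit and adjunction -/

theorem GN_induction {P : GN 𝒜 N → Prop} (h0 : P 0) (hadd : ∀ x y, P x → P y → P (x + y))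
    (hs : ∀ g n, P (ofF 𝒜 N (Finsupp.single g n))) : ∀ ξ, P ξ := fun ξ =>
  Finsupp.induction_linear (motive := fun ξ : ι →₀ N => P (ofF 𝒜 N ξ)) (toF 𝒜 N ξ) h0 hadd hs

/-- The counit: sum of all coefficients. -/
def epsAdd : GN 𝒜 N →+ N :=
  show (ι →₀ N) →+ N from Finsupp.liftAddHom (fun _ => AddMonoidHom.id N)

theorem epsAdd_single (g : ι) (n : N) : epsAdd 𝒜 N (ofF 𝒜 N (Finsupp.single g n)) = n := by
  change Finsupp.liftAddHom (fun _ => AddMonoidHom.id N) (Finsupp.single g n) = n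
  rw [Finsupp.liftAddHom_apply_single]
  rfl

theorem epsAdd_smul (r : R) (ξ : GN 𝒜 N) : epsAdd 𝒜 N (r • ξ) = r • epsAdd 𝒜 N ξ := by
  classical
  induction r using DirectSum.Decomposition.inductionOn 𝒜 generalizing ξ with
  | zero => rw [zero_smul, zero_smul, map_zero]
  | homogeneous a =>
    rename_i h
    induction ξ using GN_induction 𝒜 N with
    | h0 => rw [smul_zero, map_zero, smul_zero]
    | hadd x y hx hy => rw [smul_add, map_add, map_add, smul_add, hx, hy]
    | hs g n => rw [smul_single 𝒜 N a.2, epsAdd_single, epsAdd_single]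
  | add r s hr hs => rw [add_smul, map_add, hr, hs, add_smul]

/-- The counit as a linear map. -/
def eps : GN 𝒜 N →ₗ[R] N where
  toFun := epsAdd 𝒜 N
  map_add' := map_add _
  map_smul' r ξ := epsAdd_smul 𝒜 N r ξ

theorem eps_single (g : ι) (n : N) : eps 𝒜 N (ofF 𝒜 N (Finsupp.single g n)) = n :=
  epsAdd_single 𝒜 N g n

section Adj

variable {B : Type u} [AddCommGroup B] [Module R B] (𝓑 : ι → AddSubgroup B)
  [DirectSum.Decomposition 𝓑] [SetLike.GradedSMul 𝒜 𝓑]

/-- The adjunct of `θ : B → N`, as an additive map. -/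
def adjAdd (θ : B →+ N) : B →+ GN 𝒜 N :=
  (DirectSum.toAddMonoid (fun g =>
    (show N →+ GN 𝒜 N from Finsupp.singleAddHom g).comp (θ.comp (𝓑 g).subtype))).comp
  (DirectSum.decomposeAddEquiv 𝓑).toAddMonoidHom

omit [SetLike.GradedSMul 𝒜 𝓑] in
theorem adjAdd_of_mem (θ : B →+ N) {g : ι} {b : B} (hb : b ∈ 𝓑 g) :
    adjAdd 𝒜 N 𝓑 θ b = ofF 𝒜 N (Finsupp.single g (θ b)) := by
  change DirectSum.toAddMonoid _ (DirectSum.decompose 𝓑 b) = _
  rw [DirectSum.decompose_of_mem 𝓑 hb, DirectSum.toAddMonoid_of]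
  rfl

theorem adjAdd_smul (θ : B →ₗ[R] N) (r : R) (b : B) :
    adjAdd 𝒜 N 𝓑 θ.toAddMonoidHom (r • b) = r • adjAdd 𝒜 N 𝓑 θ.toAddMonoidHom b := by
  classical
  induction r using DirectSum.Decomposition.inductionOn 𝒜 generalizing b with
  | zero => rw [zero_smul, zero_smul, map_zero]
  | homogeneous a =>
    rename_i h
    induction b using DirectSum.Decomposition.inductionOn 𝓑 with
    | zero => rw [smul_zero, map_zero, smul_zero]
    | homogeneous m =>
      rename_i g
      have hm : (a : R) • (m : B) ∈ 𝓑 (h + g) :=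
        SetLike.GradedSMul.smul_mem (A := 𝒜) (B := 𝓑) (i := h) (j := g) a.2 m.2
      rw [adjAdd_of_mem 𝒜 N 𝓑 _ hm, adjAdd_of_mem 𝒜 N 𝓑 _ m.2, smul_single 𝒜 N a.2]
      congr 2
      exact map_smul θ (a : R) (m : B)
    | add m m' hm hm' => rw [smul_add, map_add, map_add, smul_add, hm, hm']
  | add r s hr hs => rw [add_smul, map_add, hr, hs, add_smul]

/-- The adjunct of `θ : B → N` as a linear map `B → G(N)`. -/
def adj (θ : B →ₗ[R] N) : B →ₗ[R] GN 𝒜 N where
  toFun := adjAdd 𝒜 N 𝓑 θ.toAddMonoidHom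
  map_add' := map_add _
  map_smul' r b := adjAdd_smul 𝒜 N 𝓑 θ r b

theorem adj_of_mem (θ : B →ₗ[R] N) {g : ι} {b : B} (hb : b ∈ 𝓑 g) :
    adj 𝒜 N 𝓑 θ b = ofF 𝒜 N (Finsupp.single g (θ b)) :=
  adjAdd_of_mem 𝒜 N 𝓑 θ.toAddMonoidHom hb

theorem adj_grHom (θ : B →ₗ[R] N) : GrLC.IsGrHom 𝓑 (GNgr 𝒜 N) (adj 𝒜 N 𝓑 θ) := by
  intro g b hb
  rw [adj_of_mem 𝒜 N 𝓑 θ hb]
  exact ⟨θ b, rfl⟩

theorem eps_adj (θ : B →ₗ[R] N) (b : B) : eps 𝒜 N (adj 𝒜 N 𝓑 θ b) = θ b := by
  classical
  induction b using DirectSum.Decomposition.inductionOn 𝓑 with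
  | zero => rw [map_zero, map_zero, map_zero]
  | homogeneous m => rw [adj_of_mem 𝒜 N 𝓑 θ m.2, eps_single]
  | add m m' hm hm' => rw [map_add, map_add, map_add, hm, hm']

/-- A homogeneous map into `G(N)` is the adjunct of its composite with the counit. -/
theorem eq_adj_of_grHom (φ : B →ₗ[R] GN 𝒜 N) (hφ : GrLC.IsGrHom 𝓑 (GNgr 𝒜 N) φ) (b : B) :
    φ b = adj 𝒜 N 𝓑 (eps 𝒜 N ∘ₗ φ) b := by
  classical
  induction b using DirectSum.Decomposition.inductionOn 𝓑 with
  | zero => rw [map_zero, map_zero]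
  | homogeneous m =>
    rename_i g
    rw [adj_of_mem 𝒜 N 𝓑 _ m.2]
    obtain ⟨n, hn⟩ := (mem_GNgr 𝒜 N).mp (hφ g m m.2)
    rw [LinearMap.comp_apply, ← hn, eps_single]
  | add m m' hm hm' => rw [map_add, map_add, hm, hm']

theorem adj_injective (θ : B →ₗ[R] N) (hθ : Function.Injective θ) :
    Function.Injective (adj 𝒜 N 𝓑 θ) := by
  intro b b' h
  apply hθ
  rw [← eps_adj 𝒜 N 𝓑 θ b, ← eps_adj 𝒜 N 𝓑 θ b', h]

end Adj

/-- `G(N)` is *injective when `N` is injective. -/
theorem isStarInj_GN [Module.Injective R N] : GrLC.IsStarInj 𝒜 (GNgr 𝒜 N) := by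
  intro A B f hf hfinj φ hφ
  obtain ⟨ψ, hψ⟩ := Module.Injective.out f hfinj (eps 𝒜 N ∘ₗ φ)
  refine ⟨adj 𝒜 N B.gr ψ, adj_grHom 𝒜 N B.gr ψ, ?_⟩
  apply LinearMap.ext
  intro a
  rw [LinearMap.comp_apply, eq_adj_of_grHom 𝒜 N A.gr φ hφ a]
  classical
  induction a using DirectSum.Decomposition.inductionOn A.gr with
  | zero => rw [map_zero, map_zero, map_zero]
  | homogeneous m =>
    rename_i g
    rw [adj_of_mem 𝒜 N B.gr ψ (hf g m m.2), adj_of_mem 𝒜 N A.gr _ m.2, hψ]
  | add m m' hm hm' => rw [map_add, map_add, map_add, hm, hm']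

end Groth.Agent.Lib.Helper29GrCofree
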