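import Groth.Agent.Lib.Helper29GrQuot
import Groth.Agent.Lib.Helper29GrCofree

/-! Existence of *injective resolutions (helper29). -/

set_option autoImplicit false
open DirectSum CategoryTheory

noncomputable section

namespace Groth.Agent.Lib.Helper29GrRes

open Groth.Agent.Lib.Helper29GrHom Groth.Agent.Lib.Helper29GrEss Groth.Agent.Lib.Helper29GrQuot
  Groth.Agent.Lib.Helper29GrCofree

universe u

variable {ι : Type} [AddCommGroup ι] [DecidableEq ι]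
variable {R : Type u} [CommRing R] (𝒜 : ι → AddSubgroup R) [GradedRing 𝒜]

/-- A chosen injective presentation of the underlying module of `Y`. -/
def pres (Y : GrLC.GMod.{u} 𝒜) : InjectivePresentation (ModuleCat.of R Y.carrier) :=
  Classical.choice
    ((inferInstance : EnoughInjectives (ModuleCat.{u} R)).presentation (ModuleCat.of R Y.carrier))

instance (Y : GrLC.GMod.{u} 𝒜) : Module.Injective R (pres 𝒜 Y).J :=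
  haveI : CategoryTheory.Injective (ModuleCat.of R (pres 𝒜 Y).J) := (pres 𝒜 Y).injective
  Module.injective_module_of_injective_object R (pres 𝒜 Y).J

/-- The chosen embedding into an injective module. -/
def embOf (Y : GrLC.GMod.{u} 𝒜) : Y.carrier →ₗ[R] (pres 𝒜 Y).J := (pres 𝒜 Y).f.hom

theorem embOf_injective (Y : GrLC.GMod.{u} 𝒜) : Function.Injective (embOf 𝒜 Y) :=
  (ModuleCat.mono_iff_injective (pres 𝒜 Y).f).mp (pres 𝒜 Y).mono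

/-- The *injective module into which `Y` embeds. -/
def XY (Y : GrLC.GMod.{u} 𝒜) : GrLC.GMod.{u} 𝒜 :=
  GrLC.GMod.of 𝒜 (GN 𝒜 (pres 𝒜 Y).J) (GNgr 𝒜 (pres 𝒜 Y).J)

theorem XY_starInj (Y : GrLC.GMod.{u} 𝒜) : GrLC.IsStarInj 𝒜 (XY 𝒜 Y).gr :=
  isStarInj_GN 𝒜 (pres 𝒜 Y).J

/-- The homogeneous embedding `Y → X(Y)`. -/
def jY (Y : GrLC.GMod.{u} 𝒜) : Y.carrier →ₗ[R] (XY 𝒜 Y).carrier :=
  adj 𝒜 (pres 𝒜 Y).J Y.gr (embOf 𝒜 Y)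

theorem jY_grHom (Y : GrLC.GMod.{u} 𝒜) : GrLC.IsGrHom Y.gr (XY 𝒜 Y).gr (jY 𝒜 Y) :=
  adj_grHom 𝒜 (pres 𝒜 Y).J Y.gr (embOf 𝒜 Y)

theorem jY_injective (Y : GrLC.GMod.{u} 𝒜) : Function.Injective (jY 𝒜 Y) :=
  adj_injective 𝒜 (pres 𝒜 Y).J Y.gr (embOf 𝒜 Y) (embOf_injective 𝒜 Y)

theorem range_jY_isHomogeneous (Y : GrLC.GMod.{u} 𝒜) :
    (LinearMap.range (jY 𝒜 Y)).IsHomogeneous (XY 𝒜 Y).gr :=
  range_isHomogeneous (XY 𝒜 Y).gr Y.gr (jY 𝒜 Y) (jY_grHom 𝒜 Y)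

/-- The graded cokernel of `Y → X(Y)`. -/
def next (Y : GrLC.GMod.{u} 𝒜) : GrLC.GMod.{u} 𝒜 :=
  { carrier := (XY 𝒜 Y).carrier ⧸ LinearMap.range (jY 𝒜 Y)
    gr := quotGr (XY 𝒜 Y).gr (LinearMap.range (jY 𝒜 Y))
    dec := quotDecomposition (XY 𝒜 Y).gr (LinearMap.range (jY 𝒜 Y)) (range_jY_isHomogeneous 𝒜 Y)
    gsmul := quot_gradedSMul (XY 𝒜 Y).gr (LinearMap.range (jY 𝒜 Y)) 𝒜 }

/-- The projection `X(Y) → next Y`. -/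
def piY (Y : GrLC.GMod.{u} 𝒜) : (XY 𝒜 Y).carrier →ₗ[R] (next 𝒜 Y).carrier :=
  (LinearMap.range (jY 𝒜 Y)).mkQ

theorem piY_grHom (Y : GrLC.GMod.{u} 𝒜) : GrLC.IsGrHom (XY 𝒜 Y).gr (next 𝒜 Y).gr (piY 𝒜 Y) :=
  fun _ a ha => ⟨a, ha, rfl⟩

theorem piY_surjective (Y : GrLC.GMod.{u} 𝒜) : Function.Surjective (piY 𝒜 Y) :=
  Submodule.mkQ_surjective _

theorem ker_piY (Y : GrLC.GMod.{u} 𝒜) : LinearMap.ker (piY 𝒜 Y) = LinearMap.range (jY 𝒜 Y) :=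
  Submodule.ker_mkQ _

/-- The sequence of modules to embed. -/
def Yseq (Y₀ : GrLC.GMod.{u} 𝒜) : ℕ → GrLC.GMod.{u} 𝒜
  | 0 => Y₀
  | n + 1 => next 𝒜 (Yseq Y₀ n)

/-- The differential at one step. -/
def dStep (Y : GrLC.GMod.{u} 𝒜) : (XY 𝒜 Y).carrier →ₗ[R] (XY 𝒜 (next 𝒜 Y)).carrier :=
  jY 𝒜 (next 𝒜 Y) ∘ₗ piY 𝒜 Y

theorem dStep_grHom (Y : GrLC.GMod.{u} 𝒜) :
    GrLC.IsGrHom (XY 𝒜 Y).gr (XY 𝒜 (next 𝒜 Y)).gr (dStep 𝒜 Y) :=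
  fun g a ha => jY_grHom 𝒜 _ g _ (piY_grHom 𝒜 _ g a ha)

theorem ker_dStep (Y : GrLC.GMod.{u} 𝒜) :
    LinearMap.ker (dStep 𝒜 Y) = LinearMap.range (jY 𝒜 Y) := by
  rw [dStep, LinearMap.ker_comp_of_ker_eq_bot _ (LinearMap.ker_eq_bot.mpr (jY_injective 𝒜 _)),
    ker_piY]

theorem range_dStep (Y : GrLC.GMod.{u} 𝒜) :
    LinearMap.range (dStep 𝒜 Y) = LinearMap.range (jY 𝒜 (next 𝒜 Y)) := by
  rw [dStep, LinearMap.range_comp_of_range_eq_top _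
    (LinearMap.range_eq_top.mpr (piY_surjective 𝒜 _))]

variable {M : Type u} [AddCommGroup M] [Module R M] (ℳ : ι → AddSubgroup M)
  [DirectSum.Decomposition ℳ] [SetLike.GradedSMul 𝒜 ℳ]

/-- A *injective resolution of any graded module. -/
def starInjRes : GrLC.StarInjRes 𝒜 ℳ where
  X n := XY 𝒜 (Yseq 𝒜 (GrLC.GMod.of 𝒜 M ℳ) n)
  d n := dStep 𝒜 (Yseq 𝒜 (GrLC.GMod.of 𝒜 M ℳ) n)
  ε := jY 𝒜 (GrLC.GMod.of 𝒜 M ℳ)
  d_grHom n := dStep_grHom 𝒜 _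
  ε_grHom := jY_grHom 𝒜 (GrLC.GMod.of 𝒜 M ℳ)
  ε_injective := jY_injective 𝒜 (GrLC.GMod.of 𝒜 M ℳ)
  exact_zero := ker_dStep 𝒜 (GrLC.GMod.of 𝒜 M ℳ)
  exact_succ n := (ker_dStep 𝒜 _).trans (range_dStep 𝒜 _).symm
  starInj n := XY_starInj 𝒜 _

end Groth.Agent.Lib.Helper29GrRes
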