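import Groth.Agent.Lib.Helper29GrQuotEnd
import Groth.Agent.Lib.Helper29GrRes
import Groth.Agent.Lib.Helper29GrQuot

/-! The end of the graded local cohomology of the quotient of a graded module by a regular
sequence of homogeneous elements (helper29). -/

set_option autoImplicit false
set_option linter.style.haveILetI false
set_option linter.unusedSectionVars false
open DirectSum Pointwise

noncomputable section

namespace Groth.Agent.Lib.Helper29GrRegSeqEnd

open Groth.Agent.Lib.Helper29GrMulLES Groth.Agent.Lib.Helper29GrResCompare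
  Groth.Agent.Lib.Helper29EndDeg Groth.Agent.Lib.Helper29GrQuotEnd Groth.Agent.Lib.Helper29GrQuot
  Groth.Agent.Lib.Helper29GrEss

universe u

section General

variable {ι : Type} [AddCommGroup ι] [DecidableEq ι]
variable {R : Type u} [CommRing R] {𝒜 : ι → AddSubgroup R} [GradedRing 𝒜]
variable {M : Type u} [AddCommGroup M] [Module R M] {ℳ : ι → AddSubgroup M}
  [DirectSum.Decomposition ℳ] [SetLike.GradedSMul 𝒜 ℳ]
variable {N : Type u} [AddCommGroup N] [Module R N] {𝒩 : ι → AddSubgroup N}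
  [DirectSum.Decomposition 𝒩] [SetLike.GradedSMul 𝒜 𝒩]

/-- Transport a *injective resolution along a homogeneous isomorphism. -/
def resOfBij (π : M →ₗ[R] N) (hπ : GrLC.IsGrHom ℳ 𝒩 π) (hbij : Function.Bijective π)
    (F : GrLC.StarInjRes 𝒜 𝒩) : GrLC.StarInjRes 𝒜 ℳ where
  X := F.X
  d := F.d
  ε := F.ε ∘ₗ π
  d_grHom := F.d_grHom
  ε_grHom := fun γ x hx => F.ε_grHom γ _ (hπ γ x hx)
  ε_injective := F.ε_injective.comp hbij.1
  exact_zero := by
    rw [F.exact_zero, LinearMap.range_comp_of_range_eq_top _ (LinearMap.range_eq_top.mpr hbij.2)]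
  exact_succ := F.exact_succ
  starInj := F.starInj

theorem Hcomp_resOfBij_eq_bot_iff (π : M →ₗ[R] N) (hπ : GrLC.IsGrHom ℳ 𝒩 π)
    (hbij : Function.Bijective π) (F : GrLC.StarInjRes 𝒜 𝒩) (a : HomogeneousIdeal 𝒜) (j : ℕ)
    (γ : ι) : (resOfBij π hπ hbij F).Hcomp a j γ = ⊥ ↔ F.Hcomp a j γ = ⊥ := by
  rw [Hcomp_eq_bot_iff_forall, Hcomp_eq_bot_iff_forall]
  exact Iff.rfl

theorem smul_top_isHomogeneous {r : R} {d : ι} (hr : r ∈ 𝒜 d) :
    (r • (⊤ : Submodule R M)).IsHomogeneous ℳ := by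
  intro γ y hy
  obtain ⟨z, -, rfl⟩ := (Submodule.mem_smul_pointwise_iff_exists _ _ _).mp hy
  rw [decompose_smul_of_mem 𝒜 ℳ hr z γ]
  exact Submodule.smul_mem_pointwise_smul _ r ⊤ Submodule.mem_top

theorem range_smul_id (r : R) :
    LinearMap.range (r • (LinearMap.id : M →ₗ[R] M)) = r • (⊤ : Submodule R M) := by
  ext y
  rw [LinearMap.mem_range, Submodule.mem_smul_pointwise_iff_exists]
  constructor
  · rintro ⟨z, rfl⟩
    exact ⟨z, Submodule.mem_top, rfl⟩
  · rintro ⟨z, -, rfl⟩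
    exact ⟨z, rfl⟩

end General

theorem endDeg_congr {A B : Type u} [AddCommGroup A] [AddCommGroup B] (𝓐 : ℤ → AddSubgroup A)
    (𝓑 : ℤ → AddSubgroup B) (h : ∀ γ, 𝓐 γ = ⊥ ↔ 𝓑 γ = ⊥) : GrLC.endDeg 𝓐 = GrLC.endDeg 𝓑 := by
  apply le_antisymm
  · rw [endDeg_le_iff]
    intro n hn
    exact le_endDeg 𝓑 (fun hb => hn ((h n).mpr hb))
  · rw [endDeg_le_iff]
    intro n hn
    exact le_endDeg 𝓐 (fun hb => hn ((h n).mp hb))


section Main

variable {R : Type u} [CommRing R] [IsNoetherianRing R] {𝒜 : ℤ → AddSubgroup R} [GradedRing 𝒜]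
  (hpos : ∀ n : ℤ, n < 0 → 𝒜 n = ⊥) (a : HomogeneousIdeal 𝒜)

theorem ker_liftQ_eq {M N : Type u} [AddCommGroup M] [Module R M] [AddCommGroup N] [Module R N]
    {t : ℕ} (f : Fin (t + 1) → R) (π : M →ₗ[R] N)
    (hker : LinearMap.ker π = Ideal.span (Set.range f) • (⊤ : Submodule R M))
    (hPle : f 0 • (⊤ : Submodule R M) ≤ LinearMap.ker π) :
    LinearMap.ker ((f 0 • (⊤ : Submodule R M)).liftQ π hPle) =
      Ideal.span (Set.range fun i : Fin t => f i.succ) •
        (⊤ : Submodule R (M ⧸ f 0 • (⊤ : Submodule R M))) := by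
  rw [Submodule.ker_liftQ, hker, Submodule.map_smul'', Submodule.map_top, Submodule.range_mkQ,
    Fin.range_fin_succ, Ideal.span_insert, Submodule.sup_smul]
  have h0 : Ideal.span {f 0} • (⊤ : Submodule R (M ⧸ f 0 • (⊤ : Submodule R M))) = ⊥ := by
    rw [Submodule.ideal_span_singleton_smul, eq_bot_iff]
    intro y hy
    obtain ⟨z, -, rfl⟩ := (Submodule.mem_smul_pointwise_iff_exists _ _ _).mp hy
    obtain ⟨z', rfl⟩ := Submodule.mkQ_surjective _ z
    rw [Submodule.mem_bot, ← map_smul, Submodule.mkQ_apply, Submodule.Quotient.mk_eq_zero]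
    exact Submodule.smul_mem_pointwise_smul _ _ _ Submodule.mem_top
  rw [h0, bot_sup_eq]
  rfl

include hpos in
/-- Quotient by a regular sequence of homogeneous elements of `a`: vanishing below the new depth
and the shift of the end of the first nonvanishing local cohomology. -/
theorem main : ∀ (t : ℕ) (M : Type u) [AddCommGroup M] [Module R M] (ℳ : ℤ → AddSubgroup M)
    [DirectSum.Decomposition ℳ] [SetLike.GradedSMul 𝒜 ℳ] (f : Fin t → R) (deg : Fin t → ℤ)
    (_ : ∀ i, f i ∈ 𝒜 (deg i)) (_ : ∀ i, f i ∈ a.toIdeal)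
    (_ : RingTheory.Sequence.IsWeaklyRegular M (List.ofFn f))
    (N : Type u) [AddCommGroup N] [Module R N] [Nontrivial N] (𝒩 : ℤ → AddSubgroup N)
    [DirectSum.Decomposition 𝒩] [SetLike.GradedSMul 𝒜 𝒩] (π : M →ₗ[R] N)
    (_ : GrLC.IsGrHom ℳ 𝒩 π) (_ : Function.Surjective π)
    (_ : LinearMap.ker π = Ideal.span (Set.range f) • (⊤ : Submodule R M))
    (E : GrLC.StarInjRes 𝒜 ℳ) (F : GrLC.StarInjRes 𝒜 𝒩) (c : ℕ) (_ : t ≤ c)
    (_ : ∀ j, j < c → ∀ γ, E.Hcomp a j γ = ⊥),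
    (∀ j, j < c - t → ∀ γ, F.Hcomp a j γ = ⊥) ∧
      GrLC.endDeg (F.Hgr a (c - t)) = GrLC.endDeg (E.Hgr a c) +
        (((∑ i, deg i : ℤ) : WithTop ℤ) : WithBot (WithTop ℤ)) := by
  intro t
  induction t with
  | zero =>
    intro M _ _ ℳ _ _ f deg hfdeg hfa hreg N _ _ _ 𝒩 _ _ π hπ hπs hker E F c htc hE
    have hker' : LinearMap.ker π = ⊥ := by
      rw [hker]
      have : Set.range f = ∅ := Set.range_eq_empty f
      rw [this, Ideal.span_empty, Submodule.bot_smul]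
    have hbij : Function.Bijective π := ⟨LinearMap.ker_eq_bot.mp hker', hπs⟩
    have key : ∀ j γ, F.Hcomp a j γ = ⊥ ↔ E.Hcomp a j γ = ⊥ := fun j γ =>
      (Hcomp_resOfBij_eq_bot_iff π hπ hbij F a j γ).symm.trans
        (Hcomp_eq_bot_iff (resOfBij π hπ hbij F) E a j γ)
    refine ⟨fun j hj γ => (key j γ).mpr (hE j (by omega) γ), ?_⟩
    rw [Nat.sub_zero, Finset.univ_eq_empty, Finset.sum_empty]
    have h0 : (((0 : ℤ) : WithTop ℤ) : WithBot (WithTop ℤ)) = 0 := rfl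
    rw [h0, add_zero]
    apply endDeg_congr
    intro γ
    rw [Hgr_eq_bot_iff, Hgr_eq_bot_iff]
    exact key c γ
  | succ t ih =>
    intro M _ _ ℳ _ _ f deg hfdeg hfa hreg N _ _ _ 𝒩 _ _ π hπ hπs hker E F c htc hE
    rw [List.ofFn_succ, RingTheory.Sequence.isWeaklyRegular_cons_iff] at hreg
    obtain ⟨hreg0, hreg'⟩ := hreg
    haveI : Nontrivial M := hπs.nontrivial
    have hx0 : f 0 ≠ 0 := by
      intro h0
      obtain ⟨y, hy⟩ := exists_ne (0 : M)
      apply hy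
      apply hreg0
      simp [h0]
    have hk : 0 ≤ deg 0 := by
      by_contra hneg
      push_neg at hneg
      have := hfdeg 0
      rw [hpos _ hneg] at this
      exact hx0 (AddSubgroup.mem_bot.mp this)
    obtain ⟨c', rfl⟩ : ∃ c', c = c' + 1 := ⟨c - 1, by omega⟩
    have hPhom : (f 0 • (⊤ : Submodule R M)).IsHomogeneous ℳ := smul_top_isHomogeneous (hfdeg 0)
    letI : DirectSum.Decomposition (quotGr ℳ (f 0 • (⊤ : Submodule R M))) :=
      quotDecomposition ℳ _ hPhom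
    letI : SetLike.GradedSMul 𝒜 (quotGr ℳ (f 0 • (⊤ : Submodule R M))) :=
      quot_gradedSMul ℳ _ 𝒜
    let E₁ : GrLC.StarInjRes 𝒜 (quotGr ℳ (f 0 • (⊤ : Submodule R M))) :=
      Groth.Agent.Lib.Helper29GrRes.starInjRes 𝒜 (quotGr ℳ (f 0 • (⊤ : Submodule R M)))
    have hmkhom : GrLC.IsGrHom ℳ (quotGr ℳ (f 0 • (⊤ : Submodule R M)))
        (f 0 • (⊤ : Submodule R M)).mkQ := fun γ y hy => ⟨y, hy, rfl⟩
    have hkermk : LinearMap.ker (f 0 • (⊤ : Submodule R M)).mkQ =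
        LinearMap.range (f 0 • (LinearMap.id : M →ₗ[R] M)) := by
      rw [Submodule.ker_mkQ, range_smul_id]
    obtain ⟨h1, h2⟩ := step E a E₁ (f 0) (deg 0) (hfdeg 0) hk (hfa 0) hreg0
      (f 0 • (⊤ : Submodule R M)).mkQ (Submodule.mkQ_surjective _) hmkhom hkermk c' hE
    have hPle : f 0 • (⊤ : Submodule R M) ≤ LinearMap.ker π := by
      rw [hker]
      intro y hy
      obtain ⟨z, -, rfl⟩ := (Submodule.mem_smul_pointwise_iff_exists _ _ _).mp hy
      exact Submodule.smul_mem_smul (Ideal.subset_span ⟨0, rfl⟩) Submodule.mem_top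
    have hπ₁ : GrLC.IsGrHom (quotGr ℳ (f 0 • (⊤ : Submodule R M))) 𝒩
        ((f 0 • (⊤ : Submodule R M)).liftQ π hPle) := by
      rintro γ _ ⟨y, hy, rfl⟩
      exact hπ γ y hy
    have hπ₁s : Function.Surjective ((f 0 • (⊤ : Submodule R M)).liftQ π hPle) := by
      intro n
      obtain ⟨y, rfl⟩ := hπs n
      exact ⟨(f 0 • (⊤ : Submodule R M)).mkQ y, rfl⟩
    obtain ⟨h3, h4⟩ := ih (M ⧸ f 0 • (⊤ : Submodule R M))
      (quotGr ℳ (f 0 • (⊤ : Submodule R M))) (fun i => f i.succ) (fun i => deg i.succ)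
      (fun i => hfdeg i.succ) (fun i => hfa i.succ) hreg' N 𝒩
      ((f 0 • (⊤ : Submodule R M)).liftQ π hPle) hπ₁ hπ₁s (ker_liftQ_eq f π hker hPle) E₁ F c'
      (by omega) h1
    have hc : c' + 1 - (t + 1) = c' - t := by omega
    rw [hc]
    refine ⟨h3, ?_⟩
    rw [h4, h2, Fin.sum_univ_succ, add_assoc, ← WithBot.coe_add, ← WithTop.coe_add]

end Main

end Groth.Agent.Lib.Helper29GrRegSeqEnd
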