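import Groth.Agent.Lib.Helper29GrStd
import Groth.Agent.Lib.Helper29GrGam

/-! Non-negatively `ℤ`-graded Noetherian rings: the irrelevant ideal has finitely many homogeneous
generators of positive degree; high-degree pieces lie in high powers of the irrelevant ideal;
finitely generated graded torsion modules are bounded above (helper29). -/

set_option autoImplicit false
set_option linter.style.haveILetI false
set_option linter.unusedSectionVars false
open DirectSum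

namespace Groth.Agent.Lib.Helper29GrTorsBound

open Groth.Agent.Lib.Helper29GrStd Groth.Agent.Lib.Helper29GrEss Groth.Agent.Lib.Helper29GrBaer
  Groth.Agent.Lib.Helper29GrHom Groth.Agent.Lib.Helper29GrSub Groth.Agent.Lib.Helper29GrGam

universe u

variable {R : Type u} [CommRing R] (𝒜 : ℤ → AddSubgroup R) [GradedRing 𝒜]
variable {M : Type u} [AddCommGroup M] [Module R M] (ℳ : ℤ → AddSubgroup M)
  [DirectSum.Decomposition ℳ] [SetLike.GradedSMul 𝒜 ℳ]

/-- The irrelevant ideal of a Noetherian graded ring is generated by finitely many homogeneous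
elements of positive degree. -/
theorem exists_generators [IsNoetherianRing R] (𝔞 : Ideal R)
    (ha : 𝔞 = Ideal.span (⋃ n ∈ Set.Ioi (0 : ℤ), (𝒜 n : Set R))) :
    ∃ G : Finset R, (∀ g ∈ G, ∃ n : ℤ, 0 < n ∧ g ∈ 𝒜 n) ∧ 𝔞 = Ideal.span (G : Set R) := by
  have hfg : (Submodule.span R (⋃ n ∈ Set.Ioi (0 : ℤ), (𝒜 n : Set R))).FG :=
    IsNoetherian.noetherian _
  obtain ⟨G, hGs, hG⟩ := (Submodule.fg_span_iff_fg_span_finset_subset _).mp hfg
  refine ⟨G, fun g hg => ?_, ha.trans hG⟩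
  have := hGs hg
  simp only [Set.mem_iUnion, Set.mem_Ioi, SetLike.mem_coe, exists_prop] at this
  exact this

theorem piece_subset_irrelevant (𝔞 : Ideal R)
    (ha : 𝔞 = Ideal.span (⋃ n ∈ Set.Ioi (0 : ℤ), (𝒜 n : Set R))) (n : ℤ) (hn : 0 < n) {r : R}
    (hr : r ∈ 𝒜 n) : r ∈ 𝔞 := by
  rw [ha]
  apply Ideal.subset_span
  simp only [Set.mem_iUnion, Set.mem_Ioi, SetLike.mem_coe, exists_prop]
  exact ⟨n, hn, hr⟩

/-- `R_j ⊆ 𝔞^(k+1)` for `j > k D` when `𝔞 = R_+` is generated by homogeneous elements of positive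
degrees at most `D`. -/
theorem piece_le_pow (𝔞 : Ideal R) (G : Finset R) (dg : R → ℤ) (D : ℤ) (hD : 0 ≤ D)
    (hG : ∀ g ∈ G, g ∈ 𝒜 (dg g) ∧ dg g ≤ D) (hspan : 𝔞 = Ideal.span (G : Set R))
    (hle : ∀ (n : ℤ), 0 < n → ∀ r ∈ 𝒜 n, r ∈ 𝔞) :
    ∀ (k : ℕ) (j : ℤ), (k : ℤ) * D < j → ∀ r ∈ 𝒜 j, r ∈ 𝔞 ^ (k + 1) := by
  intro k
  induction k with
  | zero =>
    intro j hj r hr
    rw [zero_add, pow_one]
    exact hle j (by simpa using hj) r hr
  | succ k ih =>
    intro j hj r hr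
    have hj0 : 0 < j := by
      have : 0 ≤ ((k + 1 : ℕ) : ℤ) * D := by positivity
      omega
    have hra : r ∈ Ideal.span (G : Set R) := hspan ▸ hle j hj0 r hr
    obtain ⟨f, -, rfl⟩ := Submodule.mem_span_finset.mp hra
    have hcomp := decompose_sum_smul 𝒜 𝒜 G dg (fun g hg => (hG g hg).1) f j
    rw [DirectSum.decompose_of_mem_same 𝒜 hr] at hcomp
    rw [hcomp, pow_succ]
    refine Ideal.sum_mem _ fun g hg => ?_
    have h2 : ((decompose 𝒜 (f g)) (j - dg g) : R) ∈ 𝔞 ^ (k + 1) := by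
      apply ih (j - dg g) _ _ (SetLike.coe_mem _)
      have := (hG g hg).2
      push_cast at hj
      nlinarith
    have h4 : g ∈ 𝔞 := by rw [hspan]; exact Ideal.subset_span hg
    exact Ideal.mul_mem_mul h2 h4

/-- A finitely generated graded `𝔞`-power-torsion module vanishes in high degrees
(`𝔞` the irrelevant ideal of a non-negatively graded Noetherian ring). -/
theorem exists_bound_of_torsion [IsNoetherianRing R] [Module.Finite R M] (𝔞 : Ideal R)
    (ha : 𝔞 = Ideal.span (⋃ n ∈ Set.Ioi (0 : ℤ), (𝒜 n : Set R)))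
    (htors : ∀ m : M, ∃ k : ℕ, ∀ r ∈ 𝔞 ^ k, r • m = 0) :
    ∃ n₀ : ℤ, ∀ n, n₀ ≤ n → ℳ n = ⊥ := by
  classical
  obtain ⟨G, hGdeg, hGspan⟩ := exists_generators 𝒜 𝔞 ha
  choose! dg hdg using hGdeg
  obtain ⟨D', hD'⟩ := Finset.exists_le (G.image dg)
  obtain ⟨S, hS, hspan⟩ := exists_homogeneous_generators (R := R) ℳ
  choose! deg hdeg using hS
  choose kk hkk using htors
  obtain ⟨J, hJ⟩ := Finset.exists_le (S.image deg)
  obtain ⟨K, hK⟩ := Finset.exists_le (S.image kk)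
  have hDm : 0 ≤ max D' 0 := le_max_right _ _
  have hpl := piece_le_pow 𝒜 𝔞 G dg (max D' 0) hDm
    (fun g hg => ⟨(hdg g hg).2, (hD' _ (Finset.mem_image_of_mem dg hg)).trans (le_max_left _ _)⟩)
    hGspan (fun n hn r hr => piece_subset_irrelevant 𝒜 𝔞 ha n hn hr)
  refine ⟨J + (K : ℤ) * max D' 0 + 1, fun n hn => ?_⟩
  rw [eq_bot_iff]
  intro x hx
  rw [AddSubgroup.mem_bot]
  have hx' : x ∈ Submodule.span R (S : Set M) := by rw [hspan]; exact Submodule.mem_top
  obtain ⟨f, -, rfl⟩ := Submodule.mem_span_finset.mp hx'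
  have h1' := decompose_sum_smul 𝒜 ℳ S deg hdeg f n
  rw [DirectSum.decompose_of_mem_same ℳ hx] at h1'
  rw [h1']
  refine Finset.sum_eq_zero fun s hs => ?_
  have hd : deg s ≤ J := hJ _ (Finset.mem_image_of_mem deg hs)
  have hk : kk s ≤ K := hK _ (Finset.mem_image_of_mem kk hs)
  have hc : ((decompose 𝒜 (f s)) (n - deg s) : R) ∈ 𝔞 ^ (K + 1) := by
    apply hpl K (n - deg s) _ _ (SetLike.coe_mem _)
    omega
  exact hkk s _ (Ideal.pow_le_pow_right (by omega) hc)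

/-- A homogeneous injective map reflects homogeneity of elements. -/
theorem mem_of_map_mem {ι : Type} [AddCommGroup ι] [DecidableEq ι] {L L' : Type u} [AddCommGroup L]
    [Module R L] [AddCommGroup L'] [Module R L'] (𝓛 : ι → AddSubgroup L) (𝓛' : ι → AddSubgroup L')
    [DirectSum.Decomposition 𝓛] [DirectSum.Decomposition 𝓛'] (β : L →ₗ[R] L')
    (hβ : ∀ (g : ι) (m : L), m ∈ 𝓛 g → β m ∈ 𝓛' g) (hinj : Function.Injective β) {m : L} {γ : ι}
    (h : β m ∈ 𝓛' γ) : m ∈ 𝓛 γ := by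
  have h1 : β m = β ((decompose 𝓛 m) γ) := by
    rw [← decompose_map 𝓛' 𝓛 β hβ m γ, DirectSum.decompose_of_mem_same 𝓛' h]
  rw [hinj h1]
  exact SetLike.coe_mem _

/-- The torsion part of a finitely generated graded module vanishes in high degrees. -/
theorem exists_bound_gam [IsNoetherianRing R] [Module.Finite R M] (a : HomogeneousIdeal 𝒜)
    (ha : a.toIdeal = Ideal.span (⋃ n ∈ Set.Ioi (0 : ℤ), (𝒜 n : Set R))) :
    ∃ n₀ : ℤ, ∀ n, n₀ ≤ n → ∀ m ∈ ℳ n, m ∈ GrLC.gam a.toIdeal M → m = 0 := by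
  have hP : (GrLC.gam a.toIdeal M).IsHomogeneous ℳ := gam_isHomogeneous 𝒜 ℳ a
  letI : DirectSum.Decomposition (subGr ℳ (GrLC.gam a.toIdeal M)) := subDecomposition ℳ _ hP
  letI : SetLike.GradedSMul 𝒜 (subGr ℳ (GrLC.gam a.toIdeal M)) := sub_gradedSMul ℳ _ 𝒜
  obtain ⟨n₀, hn₀⟩ := exists_bound_of_torsion 𝒜 (subGr ℳ (GrLC.gam a.toIdeal M)) a.toIdeal ha
    (by
      rintro ⟨m, k, hk⟩
      refine ⟨k, fun r hr => ?_⟩
      apply Subtype.ext
      rw [Submodule.coe_smul]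
      exact hk r hr)
  refine ⟨n₀, fun n hn m hm hmP => ?_⟩
  have h1 : (⟨m, hmP⟩ : ↥(GrLC.gam a.toIdeal M)) ∈ subGr ℳ (GrLC.gam a.toIdeal M) n := hm
  rw [hn₀ n hn, AddSubgroup.mem_bot] at h1
  exact congrArg Subtype.val h1

end Groth.Agent.Lib.Helper29GrTorsBound
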