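import Groth.Agent.Lib.Helper29GrRegSeqEnd
import Groth.Agent.Lib.Helper29MaxVanish

/-! The a-invariant of the quotient of a Cohen–Macaulay *local graded ring by a regular sequence of
homogeneous elements (helper29). -/

set_option autoImplicit false
set_option linter.style.haveILetI false
set_option linter.unusedSectionVars false
open DirectSum

namespace Groth.Agent.Lib.Helper29GrCMEnd

open Groth.Agent.Lib.Helper29GrResCompare Groth.Agent.Lib.Helper29EndDeg
  Groth.Agent.Lib.Helper29GrQuotEnd Groth.Agent.Lib.Helper29GrRegSeqEnd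
  Groth.Agent.Lib.Helper29MaxVanish

universe u

theorem Hcomp_eq_bot_of_H_eq_zero {R : Type u} [CommRing R] [IsNoetherianRing R]
    {𝒜 : ℤ → AddSubgroup R} [GradedRing 𝒜] (a : HomogeneousIdeal 𝒜) {M : Type u}
    [AddCommGroup M] [Module R M] {ℳ : ℤ → AddSubgroup M} [DirectSum.Decomposition ℳ]
    [SetLike.GradedSMul 𝒜 ℳ] (E : GrLC.StarInjRes 𝒜 ℳ) (j : ℕ)
    (h : ∀ y : LocCoh.H a.toIdeal j M, y = 0) (γ : ℤ) : E.Hcomp a j γ = ⊥ := by
  obtain ⟨e⟩ := Groth.Agent.S13224.result R 𝒜 a M ℳ E j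
  rw [eq_bot_iff]
  intro y _
  rw [Submodule.mem_bot]
  apply e.injective
  rw [h (e y), map_zero]

theorem lt_sub_of_add_le_of_lt {x : WithBot ℕ∞} {t h n : ℕ}
    (h1 : x + ((t : ℕ) : WithBot ℕ∞) ≤ ((h : ℕ) : WithBot ℕ∞)) (h2 : h < n) :
    x < (((n - t : ℕ) : ℕ) : WithBot ℕ∞) := by
  induction x using WithBot.recBotCoe with
  | bot => exact WithBot.bot_lt_coe _
  | coe x =>
    induction x using ENat.recTopCoe with
    | top =>
      exfalso
      have h3 : ((⊤ : ℕ∞) : WithBot ℕ∞) + ((t : ℕ) : WithBot ℕ∞) = ((⊤ : ℕ∞) : WithBot ℕ∞) := rfl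
      rw [h3] at h1
      have h4 : ((⊤ : ℕ∞) : WithBot ℕ∞) ≤ (((h : ℕ) : ℕ∞) : WithBot ℕ∞) := h1
      rw [WithBot.coe_le_coe, top_le_iff] at h4
      exact ENat.coe_ne_top h h4
    | coe k =>
      have h3 : (((k + t : ℕ) : ℕ∞) : WithBot ℕ∞) ≤ (((h : ℕ) : ℕ∞) : WithBot ℕ∞) := by
        exact_mod_cast h1
      rw [WithBot.coe_le_coe, Nat.cast_le] at h3
      have h4 : k < n - t := by omega
      have h5 : (((n - t : ℕ) : ℕ) : WithBot ℕ∞) = (((n - t : ℕ) : ℕ∞) : WithBot ℕ∞) := rfl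
      rw [h5, WithBot.coe_lt_coe, Nat.cast_lt]
      exact h4

theorem endDeg_quot_regSeq (R : Type u) [CommRing R] [hR : LocCoh.IsCohenMacaulayRing R]
    (𝒜 : ℤ → AddSubgroup R) [GradedRing 𝒜] (hpos : ∀ n : ℤ, n < 0 → 𝒜 n = ⊥)
    (m : HomogeneousIdeal 𝒜) (hm : GrLC.IsStarLocal 𝒜 m) (n : ℕ) (hn : ringKrullDim R = n)
    (I : GrLC.StarInjRes 𝒜 𝒜) (t : ℕ) (htn : t ≤ n) (f : Fin t → R) (deg : Fin t → ℤ)
    (hfdeg : ∀ i, f i ∈ 𝒜 (deg i)) (hfm : ∀ i, f i ∈ m.toIdeal)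
    (hreg : RingTheory.Sequence.IsWeaklyRegular R (List.ofFn f))
    (N : Type u) [AddCommGroup N] [Module R N] (𝒩 : ℤ → AddSubgroup N)
    [DirectSum.Decomposition 𝒩] [SetLike.GradedSMul 𝒜 𝒩] (π : R →ₗ[R] N)
    (hπ : GrLC.IsGrHom 𝒜 𝒩 π) (hπs : Function.Surjective π)
    (hπk : LinearMap.ker π = Ideal.span (Set.range f)) (F : GrLC.StarInjRes 𝒜 𝒩) :
    GrLC.endDeg (F.Hgr m (n - t)) = GrLC.endDeg (I.Hgr m n) +
      (((∑ i, deg i : ℤ) : WithTop ℤ) : WithBot (WithTop ℤ)) := by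
  classical
  haveI hmax : m.toIdeal.IsMaximal :=
    Groth.Agent.Lib.Helper29.GrHmod.isMaximal_of_isStarLocal 𝒜 hpos m hm
  have hne : m.toIdeal ≠ ⊤ := hmax.ne_top
  obtain ⟨h, hh⟩ := ENat.ne_top_iff_exists.mp (Ideal.height_ne_top hne)
  have hle : h ≤ n := by
    have h1 := Ideal.height_le_ringKrullDim_of_ne_top hne
    rw [hn, ← hh] at h1
    exact_mod_cast h1
  rcases Nat.lt_or_ge h n with hlt | hge
  · -- degenerate case: both sides are `⊥`
    haveI : Module.Finite R N := Module.Finite.of_surjective π hπs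
    have hkill : ∀ r ∈ List.ofFn f, ∀ y : N, r • y = 0 := by
      intro r hr y
      obtain ⟨i, rfl⟩ := (List.mem_ofFn' f r).mp hr
      obtain ⟨z, rfl⟩ := hπs y
      rw [← map_smul]
      have : f i • z ∈ LinearMap.ker π := by
        rw [hπk, smul_eq_mul]
        exact Ideal.mul_mem_right _ _ (Ideal.subset_span ⟨i, rfl⟩)
      exact this
    have hmem : ∀ r ∈ List.ofFn f, r ∈ m.toIdeal := by
      intro r hr
      obtain ⟨i, rfl⟩ := (List.mem_ofFn' f r).mp hr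
      exact hfm i
    have h1 := supportDim_tensor_add_length_le m.toIdeal N (List.ofFn f) hreg hmem hkill
    rw [List.length_ofFn, ← hh] at h1
    have h2 := lt_sub_of_add_le_of_lt h1 hlt
    have hF : ∀ γ, F.Hgr m (n - t) γ = ⊥ := by
      intro γ
      rw [Hgr_eq_bot_iff]
      exact Hcomp_eq_bot_of_H_eq_zero m F (n - t)
        (H_eq_zero_of_localDim_lt m.toIdeal N (n - t) h2) γ
    have hI : ∀ γ, I.Hgr m n γ = ⊥ := by
      intro γ
      rw [Hgr_eq_bot_iff]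
      refine Hcomp_eq_bot_of_H_eq_zero m I n
        (H_self_eq_zero_of_height_lt m.toIdeal n ?_) γ
      rw [← hh]
      exact_mod_cast hlt
    rw [(endDeg_eq_bot_iff _).mpr hF, (endDeg_eq_bot_iff _).mpr hI, WithBot.bot_add]
  · -- main case: `ht m = dim R`
    have hhn : h = n := le_antisymm hle hge
    subst hhn
    haveI : Nontrivial N := by
      by_contra hnt
      rw [not_nontrivial_iff_subsingleton] at hnt
      have h1 : (1 : R) ∈ LinearMap.ker π := Subsingleton.elim _ _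
      rw [hπk] at h1
      have h2 : Ideal.span (Set.range f) ≤ m.toIdeal := by
        rw [Ideal.span_le]
        rintro _ ⟨i, rfl⟩
        exact hfm i
      exact hne ((Ideal.eq_top_iff_one _).mpr (h2 h1))
    have hker : LinearMap.ker π = Ideal.span (Set.range f) • (⊤ : Submodule R R) := by
      rw [hπk, smul_eq_mul, Ideal.mul_top]
    have hE : ∀ j, j < h → ∀ γ, I.Hcomp m j γ = ⊥ := by
      intro j hj γ
      refine Hcomp_eq_bot_of_H_eq_zero m I j
        (H_self_eq_zero_of_lt_height m.toIdeal hR j ?_) γ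
      rw [← hh]
      exact_mod_cast hj
    exact (main hpos m t R 𝒜 f deg hfdeg hfm hreg N 𝒩 π hπ hπs hker I F h htn hE).2

end Groth.Agent.Lib.Helper29GrCMEnd
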