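import Mathlib
import Groth.Agent.S18645
import Groth.Agent.Lib.Helper25AInvBasic
import Groth.Agent.Lib.Helper29GrRes
import Groth.Agent.Lib.Helper29GrQuot
import Groth.Agent.Lib.Helper29GrTorsBound
import Groth.Agent.Lib.Helper29GrRegSeqEnd
import Groth.Agent.Lib.Helper29EndDeg

/-!
# The `a`-invariant through a homogeneous regular system of parameters (helper25)

For a Cohen–Macaulay graded ring `R` over a field of dimension `r`, and a regular sequence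
`y_1, …, y_r` of homogeneous elements of degree `D` with `R_+ ⊆ √(y)`:
`a(R) + r D` is the top degree of `R/(y)`.
-/

set_option autoImplicit false
set_option linter.unusedSectionVars false
set_option linter.style.haveILetI false

noncomputable section

namespace Groth.Agent.Lib.Helper25.AInvTop

open DirectSum Groth.Agent.Lib.Helper29.GrHmod Groth.Agent.Lib.Helper29GrQuot
  Groth.Agent.Lib.Helper29GrConeLES Groth.Agent.Lib.Helper29GrTorsBound

universe u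

section HZero

variable {R : Type u} [CommRing R] {𝒜 : ℤ → AddSubgroup R} [GradedRing 𝒜]
variable {N : Type u} [AddCommGroup N] [Module R N] {𝒩 : ℤ → AddSubgroup N}
  [DirectSum.Decomposition 𝒩] [SetLike.GradedSMul 𝒜 𝒩]

/-- `H^0_a(N)_γ = 0` iff `N_γ = 0` when `N` is `a`-torsion -/
theorem Hgr_zero_eq_bot_iff (F : GrLC.StarInjRes 𝒜 𝒩) (a : HomogeneousIdeal 𝒜)
    (htors : ∀ n : N, n ∈ GrLC.gam a.toIdeal N) (γ : ℤ) :
    F.Hgr a 0 γ = ⊥ ↔ 𝒩 γ = ⊥ := by
  constructor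
  · intro h
    rw [eq_bot_iff]
    intro n hn
    rw [AddSubgroup.mem_bot]
    have hcoc : F.ε n ∈ F.cocyc a 0 := by
      refine ⟨map_mem_gam a.toIdeal F.ε (htors n), ?_⟩
      show F.ε n ∈ LinearMap.ker (F.d 0)
      rw [F.exact_zero]
      exact ⟨n, rfl⟩
    have hmem : F.toH a 0 ⟨F.ε n, hcoc⟩ ∈ F.Hgr a 0 γ :=
      ⟨⟨F.ε n, hcoc⟩, F.ε_grHom γ n hn, rfl⟩
    rw [h, AddSubgroup.mem_bot] at hmem
    have h2 : (⟨F.ε n, hcoc⟩ : ↥(F.cocyc a 0)) ∈
        (F.cobdy a 0).comap (F.cocyc a 0).subtype := by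
      have := hmem
      rw [Submodule.mkQ_apply, Submodule.Quotient.mk_eq_zero] at this
      exact this
    rw [Submodule.mem_comap] at h2
    have h3 : F.ε n ∈ (⊥ : Submodule R (F.X 0).carrier) := h2
    rw [Submodule.mem_bot] at h3
    exact F.ε_injective (h3.trans (map_zero _).symm)
  · intro h
    rw [eq_bot_iff]
    rintro x ⟨z, hzγ, rfl⟩
    rw [AddSubgroup.mem_bot]
    have hzk : (z : (F.X 0).carrier) ∈ LinearMap.range F.ε := F.exact_zero ▸ z.2.2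
    obtain ⟨n, hn⟩ := hzk
    have hnγ : n ∈ 𝒩 γ :=
      mem_of_map_mem 𝒩 (F.X 0).gr F.ε F.ε_grHom F.ε_injective (hn ▸ hzγ)
    rw [h, AddSubgroup.mem_bot] at hnγ
    have hz0 : z = 0 := by
      apply Subtype.ext
      rw [← hn, hnγ, map_zero]
      rfl
    rw [hz0, map_zero]

end HZero

variable {R : Type u} [CommRing R] (𝒜 : ℤ → AddSubgroup R) [GradedRing 𝒜]

theorem quotGr_eq_bot_iff (J : Ideal R) (γ : ℤ) :
    quotGr 𝒜 J γ = ⊥ ↔ ∀ x ∈ 𝒜 γ, x ∈ J := by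
  constructor
  · intro h x hx
    have hmem : J.mkQ x ∈ quotGr 𝒜 J γ := ⟨x, hx, rfl⟩
    rw [h, AddSubgroup.mem_bot, Submodule.mkQ_apply, Submodule.Quotient.mk_eq_zero] at hmem
    exact hmem
  · intro h
    rw [eq_bot_iff]
    rintro _ ⟨x, hx, rfl⟩
    rw [AddSubgroup.mem_bot]
    show J.mkQ x = 0
    rw [Submodule.mkQ_apply, Submodule.Quotient.mk_eq_zero]
    exact h x hx

variable (hpos : ∀ n : ℤ, n < 0 → 𝒜 n = ⊥) (h0 : IsField (GrLC.deg0 𝒜))

include hpos h0 in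
/-- `a(R) + r D = ` top degree of `R/(y)` -/
theorem endDeg_add_eq [LocCoh.IsCohenMacaulayRing R] (m : HomogeneousIdeal 𝒜)
    (hm : GrLC.IsStarLocal 𝒜 m)
    (hmsp : m.toIdeal = Ideal.span (⋃ n ∈ Set.Ioi (0 : ℤ), (𝒜 n : Set R)))
    (r : ℕ) (hr : ringKrullDim R = r) (I : GrLC.StarInjRes 𝒜 𝒜)
    (y : Fin r → R) (D : ℤ) (hy : ∀ i, y i ∈ 𝒜 D) (hD : 0 < D)
    (hreg : RingTheory.Sequence.IsRegular R (List.ofFn y))
    (hrad : Rp 𝒜 ≤ (Ideal.span (Set.range y)).radical) :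
    GrLC.endDeg (quotGr 𝒜 (Ideal.span (Set.range y))) =
      GrLC.endDeg (I.Hgr m r) + ((((r : ℤ) * D : ℤ) : WithTop ℤ) : WithBot (WithTop ℤ)) := by
  classical
  set J : Ideal R := Ideal.span (Set.range y) with hJ
  have hJhom : J.IsHomogeneous 𝒜 := by
    apply Ideal.homogeneous_span
    rintro _ ⟨i, rfl⟩
    exact ⟨D, hy i⟩
  letI : DirectSum.Decomposition (quotGr 𝒜 J) := quotDecomposition 𝒜 J hJhom
  letI : SetLike.GradedSMul 𝒜 (quotGr 𝒜 J) := quot_gradedSMul 𝒜 J 𝒜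
  let F : GrLC.StarInjRes 𝒜 (quotGr 𝒜 J) := Groth.Agent.Lib.Helper29GrRes.starInjRes 𝒜 (quotGr 𝒜 J)
  have hmRp : m.toIdeal = Rp 𝒜 := hmsp
  have hym : ∀ i, y i ∈ m.toIdeal := by
    intro i
    rw [hmsp]
    exact Ideal.subset_span (Set.mem_iUnion₂.mpr ⟨D, hD, hy i⟩)
  have key := Groth.Agent.S18645.result R 𝒜 hpos h0 m hm hmsp r hr I r le_rfl y (fun _ => D) hy hym
    hreg (R ⧸ J) (quotGr 𝒜 J) J.mkQ (fun g x hx => ⟨x, hx, rfl⟩) (Submodule.mkQ_surjective J)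
    (Submodule.ker_mkQ J) F
  rw [Nat.sub_self] at key
  have hsum : (Finset.univ : Finset (Fin r)).sum (fun _ => D) = (r : ℤ) * D := by
    rw [Finset.sum_const, Finset.card_univ, Fintype.card_fin, nsmul_eq_mul]
  rw [hsum] at key
  rw [← key]
  -- `H^0_m(R/J)` has the same nonzero degrees as `R/J`
  haveI : IsNoetherianRing R := inferInstance
  obtain ⟨k, hk⟩ := Ideal.exists_pow_le_of_le_radical_of_fg hrad (IsNoetherian.noetherian _)
  have htors : ∀ n : R ⧸ J, n ∈ GrLC.gam m.toIdeal (R ⧸ J) := by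
    intro n
    obtain ⟨x, rfl⟩ := Submodule.mkQ_surjective J n
    refine ⟨k, fun s hs => ?_⟩
    rw [hmRp] at hs
    rw [← map_smul, Submodule.mkQ_apply, Submodule.Quotient.mk_eq_zero, smul_eq_mul]
    exact J.mul_mem_right _ (hk hs)
  exact (Groth.Agent.Lib.Helper29GrRegSeqEnd.endDeg_congr _ _
    (fun γ => Hgr_zero_eq_bot_iff F m htors γ)).symm

end Groth.Agent.Lib.Helper25.AInvTop
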