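import Mathlib
import Groth.Prelude.Def_GrLC
import Groth.Prelude.Def_CAlg
import Groth.Agent.Lib.Helper25AInvBasic
import Groth.Agent.Lib.Helper5CM2

/-!
# In a Cohen–Macaulay graded ring over a field, a homogeneous system of parameters is a regular
sequence (helper25)

`R = ⊕_{n ≥ 0} R_n` with `R_0` a field, `m = R_+`.  A sequence of homogeneous elements which is
weakly regular on `R_m` is weakly regular on `R`; and when `R` is Cohen–Macaulay of dimension `r`,
homogeneous `y_1, …, y_r ∈ m` with `m ⊆ √(y)` form a regular sequence.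
-/

set_option autoImplicit false
set_option linter.unusedSectionVars false
set_option linter.style.haveILetI false

noncomputable section

namespace Groth.Agent.Lib.Helper25.GrRegSeq

open DirectSum Groth.Agent.Lib.Helper29.GrHmod Groth.Agent.Lib.Helper25.AInvBasic
  RingTheory.Sequence

universe u

variable {R : Type u} [CommRing R] (𝒜 : ℤ → AddSubgroup R) [GradedRing 𝒜]
  (hpos : ∀ n : ℤ, n < 0 → 𝒜 n = ⊥) (h0 : IsField (GrLC.deg0 𝒜))

include hpos h0 in
/-- if `s ∉ R_+` and `s x ∈ I` with `x` homogeneous and `I` a homogeneous ideal, then `x ∈ I` -/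
theorem mem_of_mul_mem_of_notMem_Rp (I : Ideal R) (hI : I.IsHomogeneous 𝒜) {s x : R} {e : ℤ}
    (hs : s ∉ Rp 𝒜) (hx : x ∈ 𝒜 e) (hsx : s * x ∈ I) : x ∈ I := by
  classical
  have h1 : ((decompose 𝒜 (s * x)) (0 + e) : R) = ((decompose 𝒜 s) 0 : R) * x :=
    DirectSum.coe_decompose_mul_add_of_right_mem 𝒜 hx
  have h2 : ((decompose 𝒜 (s * x)) (0 + e) : R) ∈ I := hI (0 + e) hsx
  rw [h1] at h2
  have hs0 : ((decompose 𝒜 s) 0 : R) ≠ 0 := by
    intro h
    apply hs
    have := Groth.Agent.Lib.Helper29GrIrrelField.sub_component_zero_mem_Rp 𝒜 hpos s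
    rwa [h, sub_zero] at this
  obtain ⟨b, hb⟩ := Groth.Agent.Lib.Helper29GrIrrelField.exists_mul_eq_one 𝒜 h0
    (SetLike.coe_mem ((decompose 𝒜 s) 0)) hs0
  have : x = b * (((decompose 𝒜 s) 0 : R) * x) := by
    rw [← mul_assoc, mul_comm b, hb, one_mul]
  rw [this]
  exact I.mul_mem_left b h2

include hpos h0 in
/-- descent of regularity of a homogeneous element modulo a homogeneous ideal from `R_m` to `R` -/
theorem mem_of_mul_mem_of_localization (I : Ideal R) (hI : I.IsHomogeneous 𝒜)
    [(Rp 𝒜).IsPrime] {z : R} {d : ℤ} (hz : z ∈ 𝒜 d)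
    (hreg : ∀ a : Localization.AtPrime (Rp 𝒜),
      z • a ∈ I • (⊤ : Submodule R (Localization.AtPrime (Rp 𝒜))) →
      a ∈ I • (⊤ : Submodule R (Localization.AtPrime (Rp 𝒜))))
    (x : R) (hx : z * x ∈ I) : x ∈ I := by
  classical
  -- reduce to homogeneous `x`
  suffices hhom : ∀ (e : ℤ) (x : R), x ∈ 𝒜 e → z * x ∈ I → x ∈ I by
    rw [← DirectSum.sum_support_decompose 𝒜 x]
    refine Ideal.sum_mem _ fun e _ => ?_
    refine hhom e _ (SetLike.coe_mem _) ?_
    have h1 : ((decompose 𝒜 (z * x)) (d + e) : R) = z * ((decompose 𝒜 x) e : R) :=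
      DirectSum.coe_decompose_mul_add_of_left_mem 𝒜 hz
    rw [← h1]
    exact hI (d + e) hx
  intro e x hxe hx
  set A := Localization.AtPrime (Rp 𝒜) with hA
  have h1 : z • (algebraMap R A x) ∈ I • (⊤ : Submodule R A) := by
    have : z • (algebraMap R A x) = (z * x) • (1 : A) := by
      rw [Algebra.smul_def, Algebra.smul_def, mul_one, map_mul]
    rw [this]
    exact Submodule.smul_mem_smul hx Submodule.mem_top
  have h2 := hreg _ h1
  rw [Ideal.smul_top_eq_map] at h2
  have h3 : algebraMap R A x ∈ Ideal.map (algebraMap R A) I := h2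
  rw [IsLocalization.mem_map_algebraMap_iff (Rp 𝒜).primeCompl A] at h3
  obtain ⟨⟨i, s⟩, hs⟩ := h3
  have hs' : algebraMap R A (x * (s : R)) = algebraMap R A (i : R) := by
    rw [map_mul]
    exact hs
  obtain ⟨t, ht⟩ := (IsLocalization.eq_iff_exists (Rp 𝒜).primeCompl A).mp hs'
  have hmem : ((t : R) * (s : R)) * x ∈ I := by
    have : ((t : R) * (s : R)) * x = (t : R) * (x * (s : R)) := by ring
    rw [this, ht]
    exact I.mul_mem_left _ i.2
  have hts : (t : R) * (s : R) ∉ Rp 𝒜 := by
    have := (t * s).2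
    exact this
  exact mem_of_mul_mem_of_notMem_Rp 𝒜 hpos h0 I hI hts hxe hmem

theorem ofList_isHomogeneous (ys : List R) (hys : ∀ z ∈ ys, ∃ d : ℤ, z ∈ 𝒜 d) :
    (Ideal.ofList ys).IsHomogeneous 𝒜 := by
  unfold Ideal.ofList
  apply Ideal.homogeneous_span
  intro z hz
  obtain ⟨d, hd⟩ := hys z hz
  exact ⟨d, hd⟩

include hpos h0 in
/-- a homogeneous sequence which is weakly regular on `R_m` is weakly regular on `R` -/
theorem isWeaklyRegular_of_localization [(Rp 𝒜).IsPrime] (ys : List R)
    (hys : ∀ z ∈ ys, ∃ d : ℤ, z ∈ 𝒜 d)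
    (h : IsWeaklyRegular (Localization.AtPrime (Rp 𝒜)) ys) : IsWeaklyRegular R ys := by
  refine ⟨fun i hi => ?_⟩
  have hreg := h.regular_mod_prev i hi
  rw [isSMulRegular_quotient_iff_mem_of_smul_mem] at hreg ⊢
  obtain ⟨d, hd⟩ := hys ys[i] (List.getElem_mem hi)
  have hI : (Ideal.ofList (ys.take i)).IsHomogeneous 𝒜 :=
    ofList_isHomogeneous 𝒜 _ fun z hz => hys z (List.mem_of_mem_take hz)
  intro x hx
  have hx' : ys[i] * x ∈ Ideal.ofList (ys.take i) := by
    have h1 : (Ideal.ofList (ys.take i) • (⊤ : Submodule R R)) = Ideal.ofList (ys.take i) := by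
      rw [smul_eq_mul, Ideal.mul_top]
    rw [h1] at hx
    exact hx
  have := mem_of_mul_mem_of_localization 𝒜 hpos h0 _ hI hd hreg x hx'
  rw [smul_eq_mul, Ideal.mul_top]
  exact this

/-- a quotient of a local ring by an ideal whose radical contains the maximal ideal has
dimension zero -/
theorem ringKrullDim_quotient_eq_zero_of_le_radical {A : Type u} [CommRing A] [IsLocalRing A]
    (I : Ideal A) (hI : I ≠ ⊤) (h : IsLocalRing.maximalIdeal A ≤ I.radical) :
    ringKrullDim (A ⧸ I) = 0 := by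
  haveI : Nontrivial (A ⧸ I) := Ideal.Quotient.nontrivial_iff.mpr hI
  haveI : Ring.KrullDimLE 0 (A ⧸ I) := by
    rw [Ring.krullDimLE_zero_iff]
    intro P hP
    have hc : (P.comap (Ideal.Quotient.mk I)).IsPrime := Ideal.comap_isPrime _ P
    have hle : I ≤ P.comap (Ideal.Quotient.mk I) := by
      intro a ha
      rw [Ideal.mem_comap, Ideal.Quotient.eq_zero_iff_mem.mpr ha]
      exact P.zero_mem
    have hmax : IsLocalRing.maximalIdeal A ≤ P.comap (Ideal.Quotient.mk I) :=
      h.trans (hc.radical_le_iff.mpr hle)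
    have heq : P.comap (Ideal.Quotient.mk I) = IsLocalRing.maximalIdeal A :=
      ((IsLocalRing.maximalIdeal.isMaximal A).eq_of_le hc.ne_top hmax).symm
    have hmap : P = (IsLocalRing.maximalIdeal A).map (Ideal.Quotient.mk I) := by
      rw [← heq, Ideal.map_comap_of_surjective _ Ideal.Quotient.mk_surjective]
    rcases Ideal.map_eq_top_or_isMaximal_of_surjective (Ideal.Quotient.mk I)
      Ideal.Quotient.mk_surjective (IsLocalRing.maximalIdeal.isMaximal A) with h1 | h1
    · exact absurd (hmap.trans h1) hP.ne_top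
    · rw [hmap]; exact h1
  exact le_antisymm (by exact_mod_cast (Ring.krullDimLE_iff (n := 0) (R := A ⧸ I)).mp inferInstance) ringKrullDim_nonneg_of_nontrivial

include hpos h0 in
/-- In a Cohen–Macaulay graded ring over a field of dimension `r`, homogeneous elements
`y_1, …, y_r` of `R_+` with `R_+ ⊆ √(y)` form a regular sequence. -/
theorem isRegular_of_hsop [LocCoh.IsCohenMacaulayRing R] (r : ℕ) (hr : ringKrullDim R = r)
    (y : Fin r → R) (hy : ∀ i, ∃ d : ℤ, y i ∈ 𝒜 d) (hym : ∀ i, y i ∈ Rp 𝒜)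
    (hrad : Rp 𝒜 ≤ (Ideal.span (Set.range y)).radical) :
    IsRegular R (List.ofFn y) := by
  classical
  haveI hmax : (Rp 𝒜).IsMaximal := Groth.Agent.Lib.Helper29GrIrrelField.Rp_isMaximal 𝒜 hpos h0
  haveI hprime : (Rp 𝒜).IsPrime := hmax.isPrime
  set A := Localization.AtPrime (Rp 𝒜) with hA
  haveI hCM : LocCoh.IsCohenMacaulayLocalRing A :=
    LocCoh.IsCohenMacaulayRing.isCohenMacaulayLocalRing_localization (Rp 𝒜)
  have hCMmod : LocCoh.IsCohenMacaulayModule A A := hCM.supportDim_eq_depth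
  -- dimension of `A`
  have hdimA : ringKrullDim A = r := by
    rw [IsLocalization.AtPrime.ringKrullDim_eq_height (Rp 𝒜) A]
    apply le_antisymm
    · rw [← hr]
      exact Ideal.height_le_ringKrullDim_of_ne_top hprime.ne_top
    · rw [← hr]
      exact ringKrullDim_le_height_Rp 𝒜 hpos h0
  set xs : List A := (List.ofFn y).map (algebraMap R A) with hxs
  have hmem : ∀ x ∈ xs, x ∈ IsLocalRing.maximalIdeal A := by
    intro x hx
    rw [hxs, List.mem_map] at hx
    obtain ⟨z, hz, rfl⟩ := hx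
    rw [List.mem_ofFn] at hz
    obtain ⟨i, rfl⟩ := hz
    rw [IsLocalization.AtPrime.to_map_mem_maximal_iff A (Rp 𝒜)]
    exact hym i
  have hofList : Ideal.ofList xs = (Ideal.span (Set.range y)).map (algebraMap R A) := by
    rw [Ideal.map_span]
    unfold Ideal.ofList
    congr 1
    ext a
    simp only [hxs, List.mem_map, List.mem_ofFn, Set.mem_ofPred_eq, Set.mem_image, Set.mem_range,
      exists_exists_eq_and]
  have hradA : IsLocalRing.maximalIdeal A ≤ (Ideal.ofList xs).radical := by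
    rw [hofList, ← Localization.AtPrime.map_eq_maximalIdeal]
    exact (Ideal.map_mono hrad).trans (Ideal.map_radical_le _)
  have hneTop : Ideal.ofList xs ≠ ⊤ := by
    intro htop
    have : Ideal.ofList xs ≤ IsLocalRing.maximalIdeal A := by
      unfold Ideal.ofList
      rw [Ideal.span_le]
      intro x hx
      exact hmem x hx
    rw [htop] at this
    exact (IsLocalRing.maximalIdeal.isMaximal A).ne_top (top_le_iff.mp this)
  have hquot : Module.supportDim A (A ⧸ (Ideal.ofList xs • (⊤ : Submodule A A))) = 0 := by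
    have h1 : (Ideal.ofList xs • (⊤ : Submodule A A)) = Ideal.ofList xs := by
      rw [smul_eq_mul, Ideal.mul_top]
    rw [h1, Module.supportDim_quotient_eq_ringKrullDim]
    exact ringKrullDim_quotient_eq_zero_of_le_radical _ hneTop hradA
  have hlen : xs.length = r := by
    rw [hxs, List.length_map, List.length_ofFn]
  have hwrA : IsWeaklyRegular A xs := by
    refine ((Groth.Agent.Lib.Helper5.isWeaklyRegular_iff_of_isCohenMacaulayModule xs A hCMmod
      hmem).1).mpr ?_
    rw [hquot, hlen, Module.supportDim_self_eq_ringKrullDim, hdimA, zero_add]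
  have hwrR : IsWeaklyRegular A (List.ofFn y) :=
    (isWeaklyRegular_map_algebraMap_iff A A (List.ofFn y)).mp hwrA
  have hhom : ∀ z ∈ List.ofFn y, ∃ d : ℤ, z ∈ 𝒜 d := by
    intro z hz
    rw [List.mem_ofFn] at hz
    obtain ⟨i, rfl⟩ := hz
    exact hy i
  refine ⟨isWeaklyRegular_of_localization 𝒜 hpos h0 _ hhom hwrR, ?_⟩
  intro htop
  have h1 : (Ideal.ofList (List.ofFn y) • (⊤ : Submodule R R)) = Ideal.ofList (List.ofFn y) := by
    rw [smul_eq_mul, Ideal.mul_top]
  rw [h1] at htop
  have hle : Ideal.ofList (List.ofFn y) ≤ Rp 𝒜 := by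
    unfold Ideal.ofList
    rw [Ideal.span_le]
    intro x hx
    have hx' : x ∈ List.ofFn y := hx
    rw [List.mem_ofFn] at hx'
    obtain ⟨i, rfl⟩ := hx'
    exact hym i
  rw [← htop] at hle
  exact hmax.ne_top (top_le_iff.mp hle)

end Groth.Agent.Lib.Helper25.GrRegSeq
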