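import Mathlib
import Groth.Agent.Lib.Helper5PolyLike

/-!
# A numerical lemma on Hilbert series (helper25)

Let `H(t) = Σ h_n t^n` with `h_0 = 1`, `(1 - t)^N H(t)` a polynomial, and suppose
`(1 - t^D)^r H(t)` is a polynomial of degree at most `r (D - 1)`.  Then `(1 - t)^r H(t) = 1`;
in particular `h_1 = r`.
-/

set_option autoImplicit false

noncomputable section

namespace Groth.Agent.Lib.Helper25.HSeriesNum

open Groth.Agent.Lib.Helper5.PolyLike

theorem one_sub_X_mul_mk (f : ℕ → ℤ) :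
    (1 - PowerSeries.X) * PowerSeries.mk f =
      PowerSeries.C (f 0) + PowerSeries.X * PowerSeries.mk (Δ f) := by
  ext n
  cases n with
  | zero =>
    rw [sub_mul, one_mul, map_sub, map_add, PowerSeries.coeff_zero_X_mul,
      PowerSeries.coeff_zero_X_mul, PowerSeries.coeff_mk, PowerSeries.coeff_zero_C]
    ring
  | succ n =>
    rw [sub_mul, one_mul, map_sub, map_add, PowerSeries.coeff_succ_X_mul,
      PowerSeries.coeff_succ_X_mul, PowerSeries.coeff_mk, PowerSeries.coeff_mk,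
      PowerSeries.coeff_mk, PowerSeries.coeff_C, if_neg (Nat.succ_ne_zero n), Δ_apply]
    ring

theorem exists_poly_of_evZero (f : ℕ → ℤ) (hf : EvZero f) :
    ∃ Q : Polynomial ℤ, (Q : PowerSeries ℤ) = PowerSeries.mk f := by
  obtain ⟨M, hM⟩ := hf
  refine ⟨PowerSeries.trunc M (PowerSeries.mk f), ?_⟩
  ext n
  rw [Polynomial.coeff_coe, PowerSeries.coeff_trunc, PowerSeries.coeff_mk]
  split_ifs with h
  · rfl
  · exact (hM n (not_lt.mp h)).symm

theorem exists_poly_of_isPolyLike : ∀ (N : ℕ) (f : ℕ → ℤ), IsPolyLike N f →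
    ∃ Q : Polynomial ℤ, (Q : PowerSeries ℤ) = (1 - PowerSeries.X) ^ N * PowerSeries.mk f := by
  intro N
  induction N with
  | zero =>
    intro f hf
    rw [isPolyLike_zero_iff] at hf
    obtain ⟨Q, hQ⟩ := exists_poly_of_evZero f hf
    exact ⟨Q, by rw [hQ, pow_zero, one_mul]⟩
  | succ N ih =>
    intro f hf
    rw [isPolyLike_succ_iff] at hf
    obtain ⟨Q', hQ'⟩ := ih (Δ f) hf
    refine ⟨Polynomial.C (f 0) * (1 - Polynomial.X) ^ N + Polynomial.X * Q', ?_⟩
    rw [Polynomial.coe_add, Polynomial.coe_mul, Polynomial.coe_mul, Polynomial.coe_pow,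
      Polynomial.coe_sub, Polynomial.coe_one, Polynomial.coe_X, Polynomial.coe_C, hQ', pow_succ,
      mul_assoc, one_sub_X_mul_mk]
    ring

/-- the geometric sum `1 + X + ⋯ + X^(D-1)` -/
def Φ (D : ℕ) : Polynomial ℤ := ∑ i ∈ Finset.range D, (Polynomial.X : Polynomial ℤ) ^ i

theorem Φ_mul (D : ℕ) : Φ D * (1 - Polynomial.X) = 1 - Polynomial.X ^ D := by
  unfold Φ
  exact geom_sum_mul_neg _ _

theorem Φ_monic {D : ℕ} (hD : 1 ≤ D) : (Φ D).Monic :=
  Polynomial.monic_geom_sum_X (by omega)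

theorem Φ_natDegree {D : ℕ} (hD : 1 ≤ D) : (Φ D).natDegree = D - 1 := by
  have h1 : Φ D * (Polynomial.X - 1) = Polynomial.X ^ D - 1 := by
    unfold Φ
    exact geom_sum_mul _ _
  have h2 : (Polynomial.X - 1 : Polynomial ℤ).Monic := by
    have := Polynomial.monic_X_sub_C (1 : ℤ)
    rwa [map_one] at this
  have h3 : (Φ D * (Polynomial.X - 1)).natDegree = (Φ D).natDegree + 1 := by
    rw [(Φ_monic hD).natDegree_mul h2]
    congr 1
    have := Polynomial.natDegree_X_sub_C (1 : ℤ)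
    rwa [map_one] at this
  have h4 : (Polynomial.X ^ D - 1 : Polynomial ℤ).natDegree = D := by
    have := Polynomial.natDegree_X_pow_sub_C (R := ℤ) (n := D) (r := 1)
    rwa [map_one] at this
  rw [h1, h4] at h3
  omega

theorem Φ_eval_one (D : ℕ) : (Φ D).eval 1 = D := by
  unfold Φ
  rw [Polynomial.eval_finset_sum]
  simp

theorem Φ_eval_zero {D : ℕ} (hD : 1 ≤ D) : (Φ D).eval 0 = 1 := by
  unfold Φ
  rw [Polynomial.eval_finset_sum]
  simp only [Polynomial.eval_pow, Polynomial.eval_X]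
  rw [zero_geom_sum, if_neg (by omega)]

theorem prime_one_sub_X : Prime (1 - Polynomial.X : Polynomial ℤ) := by
  have h := (Polynomial.prime_X_sub_C (1 : ℤ)).neg
  have : -(Polynomial.X - Polynomial.C (1 : ℤ)) = 1 - Polynomial.X := by
    rw [map_one]; ring
  rwa [this] at h

theorem not_dvd_Φ {D : ℕ} (hD : 1 ≤ D) : ¬ (1 - Polynomial.X : Polynomial ℤ) ∣ Φ D := by
  rintro ⟨g, hg⟩
  have h := congrArg (Polynomial.eval 1) hg
  rw [Φ_eval_one, Polynomial.eval_mul, Polynomial.eval_sub, Polynomial.eval_one,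
    Polynomial.eval_X, sub_self, zero_mul] at h
  have : (D : ℤ) ≠ 0 := by exact_mod_cast (by omega : D ≠ 0)
  exact this h

/-- the main numerical lemma -/
theorem main (h : ℕ → ℤ) (h0 : h 0 = 1) (N r D : ℕ) (hD : 1 ≤ D) (hpoly : IsPolyLike N h)
    (hvan : ∀ n, r * (D - 1) < n →
      PowerSeries.coeff n ((1 - PowerSeries.X ^ D) ^ r * PowerSeries.mk h) = 0) :
    (1 - PowerSeries.X) ^ r * PowerSeries.mk h = 1 := by
  classical
  set H := PowerSeries.mk h with hH
  set e := r * (D - 1) with he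
  obtain ⟨k, hk⟩ : ∃ k, max N r = r + k := ⟨max N r - r, by omega⟩
  have hpoly' : IsPolyLike (r + k) h := hk ▸ hpoly.mono (le_max_left N r)
  obtain ⟨Q, hQ⟩ := exists_poly_of_isPolyLike (r + k) h hpoly'
  set P : Polynomial ℤ := PowerSeries.trunc (e + 1) ((1 - PowerSeries.X ^ D) ^ r * H) with hPdef
  have hP : (P : PowerSeries ℤ) = (1 - PowerSeries.X ^ D) ^ r * H := by
    ext n
    rw [Polynomial.coeff_coe, hPdef, PowerSeries.coeff_trunc]
    split_ifs with hn
    · rfl
    · exact (hvan n (by omega)).symm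
  have hPdeg : P.natDegree ≤ e := by
    have := PowerSeries.natDegree_trunc_lt ((1 - PowerSeries.X ^ D) ^ r * H) e
    rw [← hPdef] at this
    omega
  have hP0 : P.coeff 0 = 1 := by
    rw [← Polynomial.coeff_coe, hP, PowerSeries.coeff_zero_eq_constantCoeff_apply, map_mul,
      map_pow, map_sub, map_one, map_pow, PowerSeries.constantCoeff_X,
      zero_pow (by omega : D ≠ 0), sub_zero, one_pow, one_mul,
      ← PowerSeries.coeff_zero_eq_constantCoeff_apply, hH, PowerSeries.coeff_mk, h0]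
  -- identity of polynomials
  have hid : P * (1 - Polynomial.X) ^ (r + k) = Q * (1 - Polynomial.X ^ D) ^ r := by
    apply Polynomial.coe_injective
    rw [Polynomial.coe_mul, Polynomial.coe_mul, Polynomial.coe_pow, Polynomial.coe_pow,
      Polynomial.coe_sub, Polynomial.coe_sub, Polynomial.coe_one, Polynomial.coe_X,
      Polynomial.coe_pow, Polynomial.coe_X, hP, hQ]
    ring
  have h1X : (1 - Polynomial.X : Polynomial ℤ) ≠ 0 := prime_one_sub_X.ne_zero
  have hid2 : P * (1 - Polynomial.X) ^ k = Q * Φ D ^ r := by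
    have : P * (1 - Polynomial.X) ^ k * (1 - Polynomial.X) ^ r =
        Q * Φ D ^ r * (1 - Polynomial.X) ^ r := by
      rw [mul_assoc Q, ← mul_pow, Φ_mul, ← hid]
      ring
    exact mul_right_cancel₀ (pow_ne_zero r h1X) this
  have hndvd : ¬ (1 - Polynomial.X : Polynomial ℤ) ∣ Φ D ^ r := fun hd =>
    not_dvd_Φ hD (prime_one_sub_X.dvd_of_dvd_pow hd)
  have hdvd : (1 - Polynomial.X : Polynomial ℤ) ^ k ∣ Q * Φ D ^ r :=
    ⟨P, by rw [← hid2]; ring⟩
  obtain ⟨Q₁, hQ₁⟩ := prime_one_sub_X.pow_dvd_of_dvd_mul_right k hndvd hdvd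
  have hid3 : P = Q₁ * Φ D ^ r := by
    have : (1 - Polynomial.X : Polynomial ℤ) ^ k * P = (1 - Polynomial.X) ^ k * (Q₁ * Φ D ^ r) := by
      rw [mul_comm, hid2, hQ₁]
      ring
    exact mul_left_cancel₀ (pow_ne_zero k h1X) this
  have hΦr : (Φ D ^ r).Monic := (Φ_monic hD).pow r
  have hΦrdeg : (Φ D ^ r).natDegree = e := by
    rw [(Φ_monic hD).natDegree_pow, Φ_natDegree hD]
  have hPne : P ≠ 0 := by
    intro hz
    rw [hz, Polynomial.coeff_zero] at hP0
    exact zero_ne_one hP0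
  have hQ₁ne : Q₁ ≠ 0 := by
    intro hz
    rw [hz, zero_mul] at hid3
    exact hPne hid3
  have hQ₁deg : Q₁.natDegree = 0 := by
    have : P.natDegree = Q₁.natDegree + (Φ D ^ r).natDegree := by
      rw [hid3, Polynomial.natDegree_mul hQ₁ne hΦr.ne_zero]
    omega
  obtain ⟨c, hc⟩ : ∃ c : ℤ, Q₁ = Polynomial.C c :=
    ⟨Q₁.coeff 0, Polynomial.eq_C_of_natDegree_eq_zero hQ₁deg⟩
  have hc1 : c = 1 := by
    have := hP0
    rw [hid3, hc, Polynomial.coeff_zero_eq_eval_zero, Polynomial.eval_mul, Polynomial.eval_C,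
      Polynomial.eval_pow, Φ_eval_zero hD, one_pow, mul_one] at this
    exact this
  have hPΦ : P = Φ D ^ r := by rw [hid3, hc, hc1, map_one, one_mul]
  -- back to power series
  have hΦc : ((Φ D : Polynomial ℤ) : PowerSeries ℤ) * (1 - PowerSeries.X) =
      1 - PowerSeries.X ^ D := by
    have := congrArg (fun p : Polynomial ℤ => (p : PowerSeries ℤ)) (Φ_mul D)
    simp only [Polynomial.coe_mul, Polynomial.coe_sub, Polynomial.coe_one, Polynomial.coe_X,
      Polynomial.coe_pow] at this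
    exact this
  have hfin : ((Φ D ^ r : Polynomial ℤ) : PowerSeries ℤ) * ((1 - PowerSeries.X) ^ r * H) =
      ((Φ D ^ r : Polynomial ℤ) : PowerSeries ℤ) * 1 := by
    calc ((Φ D ^ r : Polynomial ℤ) : PowerSeries ℤ) * ((1 - PowerSeries.X) ^ r * H)
        = (((Φ D : Polynomial ℤ) : PowerSeries ℤ) * (1 - PowerSeries.X)) ^ r * H := by
          rw [Polynomial.coe_pow, mul_pow]; ring
      _ = (1 - PowerSeries.X ^ D) ^ r * H := by rw [hΦc]
      _ = (P : PowerSeries ℤ) := hP.symm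
      _ = ((Φ D ^ r : Polynomial ℤ) : PowerSeries ℤ) * 1 := by rw [hPΦ, mul_one]
  have hne : ((Φ D ^ r : Polynomial ℤ) : PowerSeries ℤ) ≠ 0 := by
    intro hz
    apply hΦr.ne_zero
    apply Polynomial.coe_injective
    rw [hz, Polynomial.coe_zero]
  exact mul_left_cancel₀ hne hfin

theorem h_one_eq (h : ℕ → ℤ) (h0 : h 0 = 1) (N r D : ℕ) (hD : 1 ≤ D) (hpoly : IsPolyLike N h)
    (hvan : ∀ n, r * (D - 1) < n →
      PowerSeries.coeff n ((1 - PowerSeries.X ^ D) ^ r * PowerSeries.mk h) = 0) :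
    h 1 = r := by
  have hm := main h h0 N r D hD hpoly hvan
  have h1 := congrArg (PowerSeries.coeff 1) hm
  rw [PowerSeries.coeff_one_mul, PowerSeries.coeff_one_pow] at h1
  simp only [map_sub, PowerSeries.coeff_one_X, map_one, PowerSeries.constantCoeff_X, sub_zero,
    one_pow, mul_one, map_pow] at h1
  rw [← PowerSeries.coeff_zero_eq_constantCoeff_apply, PowerSeries.coeff_mk,
    PowerSeries.coeff_mk, h0] at h1
  have h2 : PowerSeries.coeff 1 (1 : PowerSeries ℤ) = 0 := by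
    rw [PowerSeries.coeff_one]; simp
  rw [h2] at h1
  simp at h1
  linarith

end Groth.Agent.Lib.Helper25.HSeriesNum
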