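import Mathlib
import Groth.Prelude.Def_GrLC
import Groth.Agent.Lib.Helper25AInvBasic

/-!
# Hilbert functions of quotients by homogeneous regular sequences (helper25)

For a graded ring `R = ⊕ R_n` with `R_0 = K` a field and `J` a homogeneous ideal, put
`hq J n = dim_K R_n - dim_K (J ∩ R_n)`, the Hilbert function of `R/J`.  If `y ∈ R_D` is a
non-zero-divisor modulo `J` then `hq (J + (y)) n = hq J n - hq J (n - D)`.
-/

set_option autoImplicit false
set_option linter.unusedSectionVars false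
set_option linter.style.haveILetI false

noncomputable section

namespace Groth.Agent.Lib.Helper25.HilbRec

open DirectSum Module

section LinAlg

variable {K E E' : Type*} [Field K] [AddCommGroup E] [Module K E] [AddCommGroup E'] [Module K E']

theorem finrank_map_add_finrank_inf_ker (f : E →ₗ[K] E') (W : Submodule K E)
    [FiniteDimensional K W] :
    finrank K (W.map f) + finrank K (W ⊓ LinearMap.ker f : Submodule K E) = finrank K W := by
  have h := LinearMap.finrank_range_add_finrank_ker (f.domRestrict W)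
  rw [LinearMap.range_domRestrict, LinearMap.ker_domRestrict] at h
  have h2 : finrank K ((LinearMap.ker f).comap W.subtype) =
      finrank K (W ⊓ LinearMap.ker f : Submodule K E) := by
    rw [← Submodule.finrank_map_subtype_eq W ((LinearMap.ker f).comap W.subtype),
      Submodule.map_comap_subtype]
  rw [h2] at h
  exact h

theorem map_inf_comap (f : E →ₗ[K] E') (W : Submodule K E) (V : Submodule K E') :
    (W ⊓ V.comap f).map f = V ⊓ W.map f := by
  ext x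
  constructor
  · rintro ⟨w, ⟨hw, hv⟩, rfl⟩
    exact ⟨hv, w, hw, rfl⟩
  · rintro ⟨hv, w, hw, rfl⟩
    exact ⟨w, ⟨hw, hv⟩, rfl⟩

theorem finrank_sup_map_add (f : E →ₗ[K] E') (W : Submodule K E) (V : Submodule K E')
    [FiniteDimensional K W] [FiniteDimensional K V] :
    finrank K (V ⊔ W.map f : Submodule K E') + finrank K (W ⊓ V.comap f : Submodule K E) =
      finrank K V + finrank K W := by
  have h1 := Submodule.finrank_sup_add_finrank_inf_eq V (W.map f)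
  have h2 := finrank_map_add_finrank_inf_ker f W
  haveI : FiniteDimensional K (W ⊓ V.comap f : Submodule K E) :=
    Submodule.finiteDimensional_of_le inf_le_left
  have h3 := finrank_map_add_finrank_inf_ker f (W ⊓ V.comap f)
  rw [map_inf_comap] at h3
  have h4 : (W ⊓ V.comap f ⊓ LinearMap.ker f : Submodule K E) = W ⊓ LinearMap.ker f := by
    rw [inf_assoc]
    congr 1
    apply inf_eq_right.mpr
    intro x hx
    rw [Submodule.mem_comap, LinearMap.mem_ker.mp hx]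
    exact V.zero_mem
  rw [h4] at h3
  omega

end LinAlg

universe u

variable {R : Type u} [CommRing R] (𝒜 : ℤ → AddSubgroup R) [GradedRing 𝒜]

/-- `J ∩ R_n` as an `R_0`-submodule -/
def cap (J : Ideal R) (n : ℤ) : Submodule (GrLC.deg0 𝒜) R :=
  (J.restrictScalars (GrLC.deg0 𝒜)) ⊓ GrLC.comp 𝒜 𝒜 n

theorem mem_cap_iff {J : Ideal R} {n : ℤ} {x : R} : x ∈ cap 𝒜 J n ↔ x ∈ J ∧ x ∈ 𝒜 n := Iff.rfl

theorem cap_le_comp (J : Ideal R) (n : ℤ) : cap 𝒜 J n ≤ GrLC.comp 𝒜 𝒜 n := inf_le_right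

/-- the Hilbert function of `R/J` -/
def hq (J : Ideal R) (n : ℤ) : ℤ :=
  (finrank (GrLC.deg0 𝒜) (GrLC.comp 𝒜 𝒜 n) : ℤ) - (finrank (GrLC.deg0 𝒜) (cap 𝒜 J n) : ℤ)

/-- multiplication by `y` as an `R_0`-linear map -/
def mulL (y : R) : R →ₗ[GrLC.deg0 𝒜] R :=
  { toFun := fun x => y * x
    map_add' := fun a b => mul_add y a b
    map_smul' := fun c a => by
      show y * ((c : R) * a) = (c : R) * (y * a)
      ring }

theorem mulL_apply (y x : R) : mulL 𝒜 y x = y * x := rfl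

theorem cap_sup_span (J : Ideal R) (hJ : J.IsHomogeneous 𝒜) {y : R} {D : ℤ} (hy : y ∈ 𝒜 D)
    (n : ℤ) :
    cap 𝒜 (J ⊔ Ideal.span {y}) n = cap 𝒜 J n ⊔ (GrLC.comp 𝒜 𝒜 (n - D)).map (mulL 𝒜 y) := by
  classical
  apply le_antisymm
  · intro x hx
    obtain ⟨hxJ, hxn⟩ := (mem_cap_iff 𝒜).mp hx
    rw [sup_comm, Ideal.mem_span_singleton_sup] at hxJ
    obtain ⟨c, j, hj, hsum⟩ := hxJ
    have hx1 : x = ((decompose 𝒜 x) n : R) := (DirectSum.decompose_of_mem_same 𝒜 hxn).symm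
    have hdec : ((decompose 𝒜 x) n : R) =
        ((decompose 𝒜 j) n : R) + y * ((decompose 𝒜 c) (n - D) : R) := by
      rw [← hsum, decompose_add, DirectSum.add_apply, AddMemClass.coe_add, add_comm]
      congr 1
      have h1 : ((decompose 𝒜 (y * c)) (D + (n - D)) : R) = y * ((decompose 𝒜 c) (n - D) : R) :=
        DirectSum.coe_decompose_mul_add_of_left_mem 𝒜 hy
      have h2 : D + (n - D) = n := by ring
      rw [h2] at h1
      rw [mul_comm c y, h1]
    rw [hx1, hdec]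
    refine Submodule.add_mem_sup ?_ ?_
    · exact (mem_cap_iff 𝒜).mpr ⟨hJ n hj, SetLike.coe_mem _⟩
    · exact ⟨_, SetLike.coe_mem ((decompose 𝒜 c) (n - D)), rfl⟩
  · refine sup_le ?_ ?_
    · intro x hx
      obtain ⟨hxJ, hxn⟩ := (mem_cap_iff 𝒜).mp hx
      exact (mem_cap_iff 𝒜).mpr ⟨Ideal.mem_sup_left hxJ, hxn⟩
    · rintro _ ⟨w, hw, rfl⟩
      have hw' : w ∈ 𝒜 (n - D) := hw
      refine (mem_cap_iff 𝒜).mpr ⟨?_, ?_⟩
      · apply Ideal.mem_sup_right
        rw [mulL_apply]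
        exact Ideal.mul_mem_right _ _ (Ideal.subset_span rfl)
      · rw [mulL_apply]
        have := SetLike.mul_mem_graded (A := 𝒜) hy hw'
        have h2 : D + (n - D) = n := by ring
        rwa [h2] at this

theorem comp_inf_comap_cap (J : Ideal R) {y : R} {D : ℤ} (hy : y ∈ 𝒜 D)
    (hreg : ∀ x, y * x ∈ J → x ∈ J) (n : ℤ) :
    (GrLC.comp 𝒜 𝒜 (n - D) ⊓ (cap 𝒜 J n).comap (mulL 𝒜 y) : Submodule (GrLC.deg0 𝒜) R) =
      cap 𝒜 J (n - D) := by
  ext x
  constructor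
  · rintro ⟨hx, hyx⟩
    have hyx' := (mem_cap_iff 𝒜).mp hyx
    rw [mulL_apply] at hyx'
    exact (mem_cap_iff 𝒜).mpr ⟨hreg x hyx'.1, hx⟩
  · intro hx
    obtain ⟨hxJ, hxn⟩ := (mem_cap_iff 𝒜).mp hx
    refine ⟨hxn, (mem_cap_iff 𝒜).mpr ⟨?_, ?_⟩⟩
    · rw [mulL_apply]
      exact J.mul_mem_left _ hxJ
    · rw [mulL_apply]
      have := SetLike.mul_mem_graded (A := 𝒜) hy hxn
      have h2 : D + (n - D) = n := by ring
      rwa [h2] at this

variable (h0 : IsField (GrLC.deg0 𝒜))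

include h0 in
/-- the Hilbert function of `R/(J + (y))` for `y ∈ R_D` regular modulo `J` -/
theorem hq_sup_span [IsNoetherianRing R] (J : Ideal R) (hJ : J.IsHomogeneous 𝒜) {y : R} {D : ℤ}
    (hy : y ∈ 𝒜 D) (hreg : ∀ x, y * x ∈ J → x ∈ J) (n : ℤ) :
    hq 𝒜 (J ⊔ Ideal.span {y}) n = hq 𝒜 J n - hq 𝒜 J (n - D) := by
  letI := h0.toField
  haveI hfin : ∀ k : ℤ, FiniteDimensional (GrLC.deg0 𝒜) (GrLC.comp 𝒜 𝒜 k) := fun k =>
    Groth.Agent.Lib.Helper29GrPieceFin.finite_comp 𝒜 𝒜 k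
  haveI hfin' : ∀ k : ℤ, FiniteDimensional (GrLC.deg0 𝒜) (cap 𝒜 J k) := fun k =>
    Submodule.finiteDimensional_of_le (cap_le_comp 𝒜 J k)
  have h := finrank_sup_map_add (mulL 𝒜 y) (GrLC.comp 𝒜 𝒜 (n - D)) (cap 𝒜 J n)
  rw [← cap_sup_span 𝒜 J hJ hy n, comp_inf_comap_cap 𝒜 J hy hreg n] at h
  unfold hq
  have hle : finrank (GrLC.deg0 𝒜) (cap 𝒜 J (n - D)) ≤
      finrank (GrLC.deg0 𝒜) (GrLC.comp 𝒜 𝒜 (n - D)) :=
    Submodule.finrank_mono (cap_le_comp 𝒜 J (n - D))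
  omega

include h0 in
theorem hq_nonneg [IsNoetherianRing R] (J : Ideal R) (n : ℤ) : 0 ≤ hq 𝒜 J n := by
  letI := h0.toField
  haveI : FiniteDimensional (GrLC.deg0 𝒜) (GrLC.comp 𝒜 𝒜 n) :=
    Groth.Agent.Lib.Helper29GrPieceFin.finite_comp 𝒜 𝒜 n
  have hle : finrank (GrLC.deg0 𝒜) (cap 𝒜 J n) ≤ finrank (GrLC.deg0 𝒜) (GrLC.comp 𝒜 𝒜 n) :=
    Submodule.finrank_mono (cap_le_comp 𝒜 J n)
  unfold hq
  omega

include h0 in
theorem hq_eq_zero_iff [IsNoetherianRing R] (J : Ideal R) (n : ℤ) :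
    hq 𝒜 J n = 0 ↔ ∀ x ∈ 𝒜 n, x ∈ J := by
  letI := h0.toField
  haveI : FiniteDimensional (GrLC.deg0 𝒜) (GrLC.comp 𝒜 𝒜 n) :=
    Groth.Agent.Lib.Helper29GrPieceFin.finite_comp 𝒜 𝒜 n
  have hle : finrank (GrLC.deg0 𝒜) (cap 𝒜 J n) ≤ finrank (GrLC.deg0 𝒜) (GrLC.comp 𝒜 𝒜 n) :=
    Submodule.finrank_mono (cap_le_comp 𝒜 J n)
  constructor
  · intro h x hx
    have heq : finrank (GrLC.deg0 𝒜) (cap 𝒜 J n) = finrank (GrLC.deg0 𝒜) (GrLC.comp 𝒜 𝒜 n) := by
      unfold hq at h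
      omega
    have := Submodule.eq_of_le_of_finrank_eq (cap_le_comp 𝒜 J n) heq
    have hx' : x ∈ cap 𝒜 J n := by rw [this]; exact hx
    exact ((mem_cap_iff 𝒜).mp hx').1
  · intro h
    have : cap 𝒜 J n = GrLC.comp 𝒜 𝒜 n := by
      apply le_antisymm (cap_le_comp 𝒜 J n)
      intro x hx
      exact (mem_cap_iff 𝒜).mpr ⟨h x hx, hx⟩
    unfold hq
    rw [this]
    omega

include h0 in
theorem hq_bot (n : ℤ) : hq 𝒜 ⊥ n = finrank (GrLC.deg0 𝒜) (GrLC.comp 𝒜 𝒜 n) := by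
  letI := h0.toField
  have : cap 𝒜 ⊥ n = ⊥ := by
    rw [eq_bot_iff]
    intro x hx
    have := ((mem_cap_iff 𝒜).mp hx).1
    rw [Ideal.mem_bot] at this
    rw [this]
    exact zero_mem _
  unfold hq
  rw [this, finrank_bot]
  simp

include h0 in
theorem hq_of_neg (hpos : ∀ n : ℤ, n < 0 → 𝒜 n = ⊥) (J : Ideal R) (n : ℤ) (hn : n < 0) :
    hq 𝒜 J n = 0 := by
  letI := h0.toField
  have h1 : GrLC.comp 𝒜 𝒜 n = ⊥ := by
    rw [eq_bot_iff]
    intro x hx
    have hx' : x ∈ 𝒜 n := hx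
    rw [hpos n hn, AddSubgroup.mem_bot] at hx'
    rw [hx']
    exact zero_mem _
  have h2 : cap 𝒜 J n = ⊥ := by
    rw [eq_bot_iff, ← h1]
    exact cap_le_comp 𝒜 J n
  unfold hq
  rw [h1, h2, finrank_bot]
  simp

/-- the ideals generated by initial segments of a sequence -/
def Jseq {t : ℕ} (y : Fin t → R) (j : ℕ) : Ideal R := Ideal.ofList ((List.ofFn y).take j)

theorem Jseq_zero {t : ℕ} (y : Fin t → R) : Jseq y 0 = ⊥ := by
  unfold Jseq
  rw [List.take_zero, Ideal.ofList_nil]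

theorem Jseq_succ {t : ℕ} (y : Fin t → R) (j : ℕ) (hj : j < t) :
    Jseq y (j + 1) = Jseq y j ⊔ Ideal.span {y ⟨j, hj⟩} := by
  unfold Jseq
  have hlen : j < (List.ofFn y).length := by rw [List.length_ofFn]; exact hj
  rw [List.take_succ_eq_append_getElem hlen, Ideal.ofList_append, Ideal.ofList_singleton,
    List.getElem_ofFn]

theorem Jseq_top {t : ℕ} (y : Fin t → R) : Jseq y t = Ideal.span (Set.range y) := by
  unfold Jseq
  have : (List.ofFn y).take t = List.ofFn y := by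
    apply List.take_of_length_le
    rw [List.length_ofFn]
  rw [this]
  unfold Ideal.ofList
  congr 1
  ext a
  simp [List.mem_ofFn]

theorem Jseq_isHomogeneous {t : ℕ} (y : Fin t → R) (hy : ∀ i, ∃ d : ℤ, y i ∈ 𝒜 d) (j : ℕ) :
    (Jseq y j).IsHomogeneous 𝒜 := by
  unfold Jseq Ideal.ofList
  apply Ideal.homogeneous_span
  intro z hz
  have hz' : z ∈ List.ofFn y := List.mem_of_mem_take hz
  rw [List.mem_ofFn] at hz'
  obtain ⟨i, rfl⟩ := hz'
  obtain ⟨d, hd⟩ := hy i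
  exact ⟨d, hd⟩

include h0 in
/-- the Hilbert functions of the successive quotients by a homogeneous regular sequence of
constant degree `D` -/
theorem hq_Jseq_succ [IsNoetherianRing R] {t : ℕ} (y : Fin t → R) (D : ℤ) (hy : ∀ i, y i ∈ 𝒜 D)
    (hreg : RingTheory.Sequence.IsWeaklyRegular R (List.ofFn y)) (j : ℕ) (hj : j < t) (n : ℤ) :
    hq 𝒜 (Jseq y (j + 1)) n = hq 𝒜 (Jseq y j) n - hq 𝒜 (Jseq y j) (n - D) := by
  rw [Jseq_succ y j hj]
  refine hq_sup_span 𝒜 h0 _ (Jseq_isHomogeneous 𝒜 y (fun i => ⟨D, hy i⟩) j) (hy ⟨j, hj⟩) ?_ n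
  have hlen : j < (List.ofFn y).length := by rw [List.length_ofFn]; exact hj
  have h := hreg.regular_mod_prev j hlen
  rw [isSMulRegular_quotient_iff_mem_of_smul_mem] at h
  intro x hx
  have h1 : (Ideal.ofList ((List.ofFn y).take j) • (⊤ : Submodule R R)) =
      Ideal.ofList ((List.ofFn y).take j) := by
    rw [smul_eq_mul, Ideal.mul_top]
  rw [h1, List.getElem_ofFn] at h
  exact h x hx

end Groth.Agent.Lib.Helper25.HilbRec
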