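import Mathlib
import Groth.Prelude.Def_GrLC
import Groth.Agent.Lib.Helper25AInvBasic
import Groth.Agent.Lib.Helper25GrRegSeq

/-!
# Embedding dimension of a graded ring over a field at the irrelevant ideal (helper25)

`R = ⊕_{n ≥ 0} R_n`, `R_0 = K` a field, `m = R_+`.  If `m R_m` is generated by `r` elements then
`dim_K R_1 ≤ r`.  In particular if `R_m` is a regular local ring then `dim_K R_1 ≤ dim R`.
-/

set_option autoImplicit false
set_option linter.unusedSectionVars false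
set_option linter.style.haveILetI false

noncomputable section

namespace Groth.Agent.Lib.Helper25.RegLinear

open DirectSum Module Groth.Agent.Lib.Helper29.GrHmod Groth.Agent.Lib.Helper25.AInvBasic

universe u

variable {R : Type u} [CommRing R] (𝒜 : ℤ → AddSubgroup R) [GradedRing 𝒜]
  (hpos : ∀ n : ℤ, n < 0 → 𝒜 n = ⊥) (h0 : IsField (GrLC.deg0 𝒜))

/-- the ideal generated by a set `T` of linear forms and all forms of degree `≥ 2` -/
def W (T : Set R) : Ideal R := Ideal.span (T ∪ ⋃ n ∈ Set.Ici (2 : ℤ), (𝒜 n : Set R))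

theorem W_isHomogeneous (T : Set R) (hT : ∀ p ∈ T, p ∈ 𝒜 1) : (W 𝒜 T).IsHomogeneous 𝒜 := by
  apply Ideal.homogeneous_span
  rintro p (hp | hp)
  · exact ⟨1, hT p hp⟩
  · obtain ⟨n, _, hn⟩ := Set.mem_iUnion₂.mp hp
    exact ⟨n, hn⟩

include hpos in
theorem mem_W_of_mem_Rp (T : Set R) {a : R} (ha : a ∈ Rp 𝒜)
    (h1 : ((decompose 𝒜 a) 1 : R) ∈ T) : a ∈ W 𝒜 T := by
  classical
  rw [← DirectSum.sum_support_decompose 𝒜 a]
  refine Ideal.sum_mem _ fun j _ => ?_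
  rcases lt_trichotomy j 0 with hj | hj | hj
  · have hm : ((decompose 𝒜 a) j : R) ∈ 𝒜 j := SetLike.coe_mem _
    have hm' : ((decompose 𝒜 a) j : R) ∈ (⊥ : AddSubgroup R) := hpos _ hj ▸ hm
    rw [(AddSubgroup.mem_bot).mp hm']
    exact zero_mem _
  · rw [hj, component_zero_of_mem_Rp 𝒜 hpos ha]
    exact zero_mem _
  · by_cases hj1 : j = 1
    · rw [hj1]
      exact Ideal.subset_span (Or.inl h1)
    · refine Ideal.subset_span (Or.inr (Set.mem_iUnion₂.mpr ⟨j, ?_, SetLike.coe_mem _⟩))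
      show (2 : ℤ) ≤ j
      omega

include hpos in
theorem mem_span_of_mem_W (T : Set R) (hT : ∀ p ∈ T, p ∈ 𝒜 1) {v : R} (hv : v ∈ 𝒜 1)
    (hvW : v ∈ W 𝒜 T) : v ∈ Submodule.span (GrLC.deg0 𝒜) T := by
  classical
  obtain ⟨f, t, hts, -, hsum⟩ := Submodule.mem_span_iff_exists_finset_subset.mp hvW
  have hdeg : ∀ p ∈ (T ∪ ⋃ n ∈ Set.Ici (2 : ℤ), (𝒜 n : Set R)),
      ∃ d : ℤ, p ∈ 𝒜 d ∧ ((d = 1 ∧ p ∈ T) ∨ 2 ≤ d) := by
    rintro p (hp | hp)
    · exact ⟨1, hT p hp, Or.inl ⟨rfl, hp⟩⟩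
    · obtain ⟨n, hn2, hn⟩ := Set.mem_iUnion₂.mp hp
      exact ⟨n, hn, Or.inr hn2⟩
  choose! deg hdeg1 hdeg2 using hdeg
  have hcomp := Groth.Agent.Lib.Helper29GrStd.decompose_sum_smul 𝒜 𝒜 t deg
    (fun p hp => hdeg1 p (hts hp)) f 1
  rw [hsum, DirectSum.decompose_of_mem_same 𝒜 hv] at hcomp
  rw [hcomp]
  refine Submodule.sum_mem _ fun p hp => ?_
  rcases hdeg2 p (hts hp) with ⟨hd1, hpT⟩ | hd2
  · rw [hd1, sub_self]
    have h2 : ((decompose 𝒜 (f p)) 0 : R) • p =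
        (⟨((decompose 𝒜 (f p)) 0 : R), SetLike.coe_mem _⟩ : GrLC.deg0 𝒜) • p := rfl
    rw [h2]
    exact Submodule.smul_mem _ _ (Submodule.subset_span hpT)
  · have hneg : 1 - deg p < 0 := by omega
    have hm : ((decompose 𝒜 (f p)) (1 - deg p) : R) ∈ 𝒜 (1 - deg p) := SetLike.coe_mem _
    have hm' : ((decompose 𝒜 (f p)) (1 - deg p) : R) ∈ (⊥ : AddSubgroup R) := hpos _ hneg ▸ hm
    rw [(AddSubgroup.mem_bot).mp hm', zero_smul]
    exact zero_mem _

local notation "A" => Localization.AtPrime (Rp 𝒜)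

include hpos h0 in
/-- if `m R_m` is generated by a finite set `s`, then `dim_K R_1 ≤ #s` -/
theorem finrank_piece_one_le_card [IsNoetherianRing R] [(Rp 𝒜).IsPrime]
    (s : Finset (Localization.AtPrime (Rp 𝒜)))
    (hs : Ideal.span (s : Set (Localization.AtPrime (Rp 𝒜))) =
      IsLocalRing.maximalIdeal (Localization.AtPrime (Rp 𝒜))) :
    finrank (GrLC.deg0 𝒜) (GrLC.comp 𝒜 𝒜 1) ≤ s.card := by
  classical
  letI := h0.toField
  have hsurj : ∀ g : A, ∃ x : R × (Rp 𝒜).primeCompl,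
      g * algebraMap R A (x.2 : R) = algebraMap R A x.1 :=
    fun g => IsLocalization.surj (Rp 𝒜).primeCompl g
  choose x hx using hsurj
  have haRp : ∀ g ∈ s, (x g).1 ∈ Rp 𝒜 := by
    intro g hg
    have hgm : g ∈ IsLocalRing.maximalIdeal A := by
      rw [← hs]; exact Ideal.subset_span hg
    have : algebraMap R A (x g).1 ∈ IsLocalRing.maximalIdeal A := by
      rw [← hx g]
      exact Ideal.mul_mem_right _ _ hgm
    exact (IsLocalization.AtPrime.to_map_mem_maximal_iff A (Rp 𝒜) _).mp this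
  let T : Finset R := s.image (fun g => ((decompose 𝒜 (x g).1) 1 : R))
  have hT : ∀ p ∈ (T : Set R), p ∈ 𝒜 1 := by
    intro p hp
    obtain ⟨g, _, rfl⟩ := Finset.mem_image.mp hp
    exact SetLike.coe_mem _
  have haW : ∀ g ∈ s, (x g).1 ∈ W 𝒜 (T : Set R) := by
    intro g hg
    refine mem_W_of_mem_Rp 𝒜 hpos _ (haRp g hg) ?_
    exact Finset.mem_image.mpr ⟨g, hg, rfl⟩
  have hmaxle : IsLocalRing.maximalIdeal A ≤ (W 𝒜 (T : Set R)).map (algebraMap R A) := by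
    rw [← hs, Ideal.span_le]
    intro g hg
    have hu : IsUnit (algebraMap R A ((x g).2 : R)) := IsLocalization.map_units A (x g).2
    obtain ⟨u, hu'⟩ := hu
    have hg' : g = algebraMap R A (x g).1 * (u⁻¹ : Aˣ) := by
      rw [← hx g, ← hu', mul_assoc, Units.mul_inv, mul_one]
    rw [SetLike.mem_coe, hg']
    exact Ideal.mul_mem_right _ _ (Ideal.mem_map_of_mem _ (haW g hg))
  have hle : GrLC.comp 𝒜 𝒜 1 ≤ Submodule.span (GrLC.deg0 𝒜) (T : Set R) := by
    intro v hv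
    have hv1 : v ∈ 𝒜 1 := hv
    have hvRp : v ∈ Rp 𝒜 :=
      Ideal.subset_span (Set.mem_iUnion₂.mpr ⟨1, by show (0 : ℤ) < 1; norm_num, hv1⟩)
    have hvm : algebraMap R A v ∈ IsLocalRing.maximalIdeal A :=
      (IsLocalization.AtPrime.to_map_mem_maximal_iff A (Rp 𝒜) _).mpr hvRp
    have h3 := hmaxle hvm
    rw [IsLocalization.mem_map_algebraMap_iff (Rp 𝒜).primeCompl A] at h3
    obtain ⟨⟨i, σ⟩, hσ⟩ := h3
    have hσ' : algebraMap R A (v * (σ : R)) = algebraMap R A (i : R) := by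
      rw [map_mul]
      exact hσ
    obtain ⟨τ, hτ⟩ := (IsLocalization.eq_iff_exists (Rp 𝒜).primeCompl A).mp hσ'
    have hmem : ((τ : R) * (σ : R)) * v ∈ W 𝒜 (T : Set R) := by
      have : ((τ : R) * (σ : R)) * v = (τ : R) * (v * (σ : R)) := by ring
      rw [this, hτ]
      exact Ideal.mul_mem_left _ _ i.2
    have hτσ : (τ : R) * (σ : R) ∉ Rp 𝒜 := (τ * σ).2
    have hvW := Groth.Agent.Lib.Helper25.GrRegSeq.mem_of_mul_mem_of_notMem_Rp 𝒜 hpos h0 _
      (W_isHomogeneous 𝒜 _ hT) hτσ hv1 hmem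
    exact mem_span_of_mem_W 𝒜 hpos _ hT hv1 hvW
  haveI : FiniteDimensional (GrLC.deg0 𝒜) (Submodule.span (GrLC.deg0 𝒜) (T : Set R)) :=
    FiniteDimensional.span_finset _ T
  calc finrank (GrLC.deg0 𝒜) (GrLC.comp 𝒜 𝒜 1)
      ≤ finrank (GrLC.deg0 𝒜) (Submodule.span (GrLC.deg0 𝒜) (T : Set R)) :=
        Submodule.finrank_mono hle
    _ ≤ T.card := finrank_span_finset_le_card T
    _ ≤ s.card := Finset.card_image_le

include hpos h0 in
/-- if `R_m` is regular then `dim_K R_1 ≤ dim R` -/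
theorem finrank_piece_one_le_of_isRegularLocalRing [IsNoetherianRing R] [(Rp 𝒜).IsPrime]
    (hreg : IsRegularLocalRing (Localization.AtPrime (Rp 𝒜))) (r : ℕ)
    (hr : ringKrullDim R = r) :
    finrank (GrLC.deg0 𝒜) (GrLC.comp 𝒜 𝒜 1) ≤ r := by
  classical
  have hfg : (IsLocalRing.maximalIdeal A).FG := IsNoetherian.noetherian _
  obtain ⟨s, hscard, hsspan⟩ := Submodule.FG.exists_span_finset_card_eq_spanFinrank hfg
  have h1 := finrank_piece_one_le_card 𝒜 hpos h0 s hsspan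
  have h2 : ((IsLocalRing.maximalIdeal A).spanFinrank : WithBot ℕ∞) = ringKrullDim A :=
    hreg.spanFinrank_maximalIdeal
  have h3 : ringKrullDim A ≤ r := by
    rw [IsLocalization.AtPrime.ringKrullDim_eq_height (Rp 𝒜) A, ← hr]
    exact Ideal.height_le_ringKrullDim_of_ne_top (Ideal.IsPrime.ne_top inferInstance)
  rw [← h2] at h3
  have h4 : (IsLocalRing.maximalIdeal A).spanFinrank ≤ r := by exact_mod_cast h3
  omega

end Groth.Agent.Lib.Helper25.RegLinear
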