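import Mathlib
import Groth.Prelude.Def_GrLC
import Groth.Agent.Lib.Helper25AInvBasic
import Groth.Agent.Lib.Helper5HilbertSerre

/-!
# Standard graded rings over a field: generation in degree one, Hilbert–Serre, and the
polynomial ring criterion (helper25)
-/

set_option autoImplicit false
set_option linter.unusedSectionVars false
set_option linter.style.haveILetI false

noncomputable section

namespace Groth.Agent.Lib.Helper25.StdPoly

open DirectSum Module Groth.Agent.Lib.Helper29.GrHmod Groth.Agent.Lib.Helper25.AInvBasic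
  Groth.Agent.Lib.Helper5.PolyLike

universe u

variable {R : Type u} [CommRing R] (𝒜 : ℤ → AddSubgroup R) [GradedRing 𝒜]
  (hpos : ∀ n : ℤ, n < 0 → 𝒜 n = ⊥)
  (hstd : Ideal.span (⋃ n ∈ Set.Ioi (0 : ℤ), (𝒜 n : Set R)) =
    Ideal.span ((𝒜 1 : AddSubgroup R) : Set R))

include hstd in
theorem piece_le_adjoin : ∀ (k : ℕ) (x : R), x ∈ 𝒜 (k : ℤ) →
    x ∈ Algebra.adjoin (GrLC.deg0 𝒜) ((𝒜 1 : AddSubgroup R) : Set R) := by
  classical
  intro k
  induction k with
  | zero =>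
    intro x hx
    have hx' : x ∈ 𝒜 0 := by simpa using hx
    exact Subalgebra.algebraMap_mem _ (⟨x, hx'⟩ : GrLC.deg0 𝒜)
  | succ k ih =>
    intro x hx
    have hxR : x ∈ Ideal.span (⋃ n ∈ Set.Ioi (0 : ℤ), (𝒜 n : Set R)) :=
      Ideal.subset_span (Set.mem_iUnion₂.mpr ⟨((k + 1 : ℕ) : ℤ), by
        show (0 : ℤ) < ((k + 1 : ℕ) : ℤ)
        exact_mod_cast Nat.succ_pos k, hx⟩)
    rw [hstd] at hxR
    obtain ⟨f, t, hts, -, rfl⟩ := Submodule.mem_span_iff_exists_finset_subset.mp hxR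
    have hcomp := Groth.Agent.Lib.Helper29GrStd.decompose_sum_smul 𝒜 𝒜 t (fun _ => 1)
      (fun p hp => hts hp) f ((k + 1 : ℕ) : ℤ)
    rw [DirectSum.decompose_of_mem_same 𝒜 hx] at hcomp
    rw [hcomp]
    refine Subalgebra.sum_mem _ fun p hp => ?_
    have h3 : (((k + 1 : ℕ) : ℤ) - 1) = (k : ℤ) := by push_cast; ring
    rw [smul_eq_mul]
    refine Subalgebra.mul_mem _ ?_ (Algebra.subset_adjoin (hts hp))
    apply ih
    rw [← h3]
    exact SetLike.coe_mem _

include hpos hstd in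
theorem adjoin_eq_top :
    Algebra.adjoin (GrLC.deg0 𝒜) ((𝒜 1 : AddSubgroup R) : Set R) = ⊤ := by
  classical
  rw [eq_top_iff]
  intro x _
  rw [← DirectSum.sum_support_decompose 𝒜 x]
  refine Subalgebra.sum_mem _ fun i _ => ?_
  rcases lt_or_ge i 0 with hi | hi
  · have hm : ((decompose 𝒜 x) i : R) ∈ 𝒜 i := SetLike.coe_mem _
    have hm' : ((decompose 𝒜 x) i : R) ∈ (⊥ : AddSubgroup R) := hpos _ hi ▸ hm
    rw [(AddSubgroup.mem_bot).mp hm']
    exact Subalgebra.zero_mem _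
  · have hi' : i = ((i.toNat : ℕ) : ℤ) := (Int.toNat_of_nonneg hi).symm
    apply piece_le_adjoin 𝒜 hstd i.toNat
    rw [← hi']
    exact SetLike.coe_mem _

include hpos hstd in
theorem adjoin_range_eq_top {n : ℕ} (x : Fin n → R)
    (hspan : ∀ v ∈ 𝒜 1, v ∈ Submodule.span (GrLC.deg0 𝒜) (Set.range x)) :
    Algebra.adjoin (GrLC.deg0 𝒜) (Set.range x) = ⊤ := by
  rw [eq_top_iff, ← adjoin_eq_top 𝒜 hpos hstd]
  apply Algebra.adjoin_le
  intro v hv
  exact Algebra.span_le_adjoin _ _ (hspan v hv)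

variable (h0 : IsField (GrLC.deg0 𝒜))

include h0 in
/-- a basis of `R_1` -/
theorem exists_basis_piece_one [IsNoetherianRing R] (n : ℕ)
    (hn : finrank (GrLC.deg0 𝒜) (GrLC.comp 𝒜 𝒜 1) = n) :
    ∃ x : Fin n → R, (∀ i, x i ∈ 𝒜 1) ∧
      ∀ v ∈ 𝒜 1, v ∈ Submodule.span (GrLC.deg0 𝒜) (Set.range x) := by
  letI := h0.toField
  haveI : FiniteDimensional (GrLC.deg0 𝒜) (GrLC.comp 𝒜 𝒜 1) :=
    Groth.Agent.Lib.Helper29GrPieceFin.finite_comp 𝒜 𝒜 1
  let b := Module.finBasisOfFinrankEq (GrLC.deg0 𝒜) (GrLC.comp 𝒜 𝒜 1) hn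
  refine ⟨fun i => (b i : R), fun i => (b i).2, fun v hv => ?_⟩
  have hv' : (⟨v, hv⟩ : GrLC.comp 𝒜 𝒜 1) ∈ Submodule.span (GrLC.deg0 𝒜) (Set.range b) := by
    rw [b.span_eq]; exact Submodule.mem_top
  have := Submodule.mem_map_of_mem (f := (GrLC.comp 𝒜 𝒜 1).subtype) hv'
  rw [Submodule.map_span, ← Set.range_comp] at this
  exact this

include hpos hstd h0 in
/-- Hilbert–Serre for a standard graded ring over a field -/
theorem isPolyLike_hilb [IsNoetherianRing R] :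
    ∃ N : ℕ, IsPolyLike N
      (fun n : ℕ => (finrank (GrLC.deg0 𝒜) (GrLC.comp 𝒜 𝒜 (n : ℤ)) : ℤ)) := by
  classical
  letI := h0.toField
  obtain ⟨N, hNdef⟩ : ∃ N, finrank (GrLC.deg0 𝒜) (GrLC.comp 𝒜 𝒜 1) = N := ⟨_, rfl⟩
  obtain ⟨x, hx, hspan⟩ := exists_basis_piece_one 𝒜 h0 N hNdef
  have hgen := adjoin_range_eq_top 𝒜 hpos hstd x hspan
  have hyp : Groth.Agent.Lib.Helper5.HilbertSerre.GrHyp (GrLC.deg0 𝒜) R x R (natComp 𝒜) N :=
    { smul_mem := by
        intro i n v hv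
        have hv' : v ∈ 𝒜 (n : ℤ) := hv
        have := SetLike.mul_mem_graded (A := 𝒜) hv' (hx i)
        show x i • v ∈ 𝒜 ((n + 1 : ℕ) : ℤ)
        rw [smul_eq_mul, mul_comm]
        push_cast
        exact this
      indep := iSupIndep_natComp 𝒜
      top := iSup_natComp_eq_top 𝒜 hpos
      kill := by
        intro i hi
        exact absurd i.2 (by omega)
      hmax := by
        intro p hp _
        have : p = ⊥ := by
          rcases Ideal.eq_bot_or_top p with h | h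
          · exact h
          · exact absurd h hp.ne_top
        rw [this]
        exact Ideal.bot_isMaximal }
  obtain ⟨hfin, hpoly⟩ := Groth.Agent.Lib.Helper5.HilbertSerre.main hgen N le_rfl R (natComp 𝒜) hyp
  refine ⟨N, ?_⟩
  have heq : (fun n : ℕ => ((Module.length (GrLC.deg0 𝒜) (natComp 𝒜 n)).toNat : ℤ)) =
      (fun n : ℕ => (finrank (GrLC.deg0 𝒜) (GrLC.comp 𝒜 𝒜 (n : ℤ)) : ℤ)) := by
    funext n
    haveI : FiniteDimensional (GrLC.deg0 𝒜) (natComp 𝒜 n) :=
      Groth.Agent.Lib.Helper29GrPieceFin.finite_comp 𝒜 𝒜 (n : ℤ)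
    rw [Module.length_eq_finrank]
    rfl
  rw [← heq]
  exact hpoly

include hpos hstd h0 in
/-- a standard graded ring of dimension `r` over a field generated by `r` elements of degree one
is a polynomial ring -/
theorem exists_ringEquiv_mvPolynomial [IsNoetherianRing R] (r : ℕ) (hr : ringKrullDim R = r)
    (x : Fin r → R)
    (hspan : ∀ v ∈ 𝒜 1, v ∈ Submodule.span (GrLC.deg0 𝒜) (Set.range x)) :
    Nonempty (R ≃+* MvPolynomial (Fin r) (GrLC.deg0 𝒜)) := by
  classical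
  letI := h0.toField
  let φ : MvPolynomial (Fin r) (GrLC.deg0 𝒜) →ₐ[GrLC.deg0 𝒜] R := MvPolynomial.aeval x
  have hsurj : Function.Surjective φ := by
    rw [← AlgHom.range_eq_top]
    have : φ.range = Algebra.adjoin (GrLC.deg0 𝒜) (Set.range x) := by
      rw [Algebra.adjoin_range_eq_range_aeval]
    rw [this]
    exact adjoin_range_eq_top 𝒜 hpos hstd x hspan
  have hdimS : ringKrullDim (MvPolynomial (Fin r) (GrLC.deg0 𝒜)) = r := by
    rw [MvPolynomial.ringKrullDim_of_isNoetherianRing, ringKrullDim_eq_zero_of_field, zero_add,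
      Nat.card_eq_fintype_card, Fintype.card_fin]
  have hinj : Function.Injective φ := by
    rw [injective_iff_map_eq_zero]
    intro f hf
    by_contra hne
    have hfnzd : f ∈ nonZeroDivisors (MvPolynomial (Fin r) (GrLC.deg0 𝒜)) :=
      mem_nonZeroDivisors_of_ne_zero hne
    have h1 := ringKrullDim_quotient_succ_le_of_nonZeroDivisor hfnzd
    have hle : ∀ a ∈ Ideal.span {f}, φ.toRingHom a = 0 := by
      intro a ha
      obtain ⟨c, rfl⟩ := Ideal.mem_span_singleton'.mp ha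
      show φ (c * f) = 0
      rw [map_mul, hf, mul_zero]
    let ψ : (MvPolynomial (Fin r) (GrLC.deg0 𝒜) ⧸ Ideal.span {f}) →+* R :=
      Ideal.Quotient.lift (Ideal.span {f}) φ.toRingHom hle
    have hψ : Function.Surjective ψ := by
      intro b
      obtain ⟨a, rfl⟩ := hsurj b
      exact ⟨Ideal.Quotient.mk _ a, rfl⟩
    have h2 : ringKrullDim R ≤
        ringKrullDim (MvPolynomial (Fin r) (GrLC.deg0 𝒜) ⧸ Ideal.span {f}) :=
      ringKrullDim_le_of_surjective ψ hψ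
    rw [hdimS] at h1
    rw [hr] at h2
    have h3 : ((r : WithBot ℕ∞)) + 1 ≤ r := (add_le_add_left h2 1).trans h1
    have h4 : ((r + 1 : ℕ) : WithBot ℕ∞) ≤ ((r : ℕ) : WithBot ℕ∞) := by exact_mod_cast h3
    have h5 : r + 1 ≤ r := by exact_mod_cast h4
    omega
  exact ⟨(RingEquiv.ofBijective φ.toRingHom ⟨hinj, hsurj⟩).symm⟩

include h0 in
theorem finrank_piece_zero : finrank (GrLC.deg0 𝒜) (GrLC.comp 𝒜 𝒜 0) = 1 := by
  letI := h0.toField
  have h1 : GrLC.comp 𝒜 𝒜 0 = Submodule.span (GrLC.deg0 𝒜) {(1 : R)} := by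
    apply le_antisymm
    · intro x hx
      have hx' : x ∈ 𝒜 0 := hx
      rw [Submodule.mem_span_singleton]
      refine ⟨⟨x, hx'⟩, ?_⟩
      show x * 1 = x
      exact mul_one x
    · rw [Submodule.span_le]
      intro x hx
      rw [Set.mem_singleton_iff] at hx
      rw [hx]
      exact SetLike.one_mem_graded 𝒜
  rw [h1]
  have hne : (1 : R) ≠ 0 := Groth.Agent.Lib.Helper29GrIrrelField.one_ne_zero' 𝒜 h0
  haveI : Module.IsTorsionFree (GrLC.deg0 𝒜) R := inferInstance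
  exact finrank_span_singleton hne

include hpos hstd h0 in
/-- `dim R ≤ dim_K R_1` -/
theorem ringKrullDim_le_finrank_piece_one [IsNoetherianRing R] :
    ringKrullDim R ≤ (finrank (GrLC.deg0 𝒜) (GrLC.comp 𝒜 𝒜 1) : WithBot ℕ∞) := by
  classical
  letI := h0.toField
  obtain ⟨N, hNdef⟩ : ∃ N, finrank (GrLC.deg0 𝒜) (GrLC.comp 𝒜 𝒜 1) = N := ⟨_, rfl⟩
  obtain ⟨x, hx, hspan⟩ := exists_basis_piece_one 𝒜 h0 N hNdef
  rw [hNdef]
  let φ : MvPolynomial (Fin N) (GrLC.deg0 𝒜) →ₐ[GrLC.deg0 𝒜] R := MvPolynomial.aeval x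
  have hsurj : Function.Surjective φ := by
    rw [← AlgHom.range_eq_top]
    have : φ.range = Algebra.adjoin (GrLC.deg0 𝒜) (Set.range x) := by
      rw [Algebra.adjoin_range_eq_range_aeval]
    rw [this]
    exact adjoin_range_eq_top 𝒜 hpos hstd x hspan
  have hdimS : ringKrullDim (MvPolynomial (Fin N) (GrLC.deg0 𝒜)) = N := by
    rw [MvPolynomial.ringKrullDim_of_isNoetherianRing, ringKrullDim_eq_zero_of_field, zero_add,
      Nat.card_eq_fintype_card, Fintype.card_fin]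
  rw [← hdimS]
  exact ringKrullDim_le_of_surjective φ.toRingHom hsurj

end Groth.Agent.Lib.Helper25.StdPoly
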