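import Mathlib
import Groth.Agent.Lib.Helper25AInvBasic
import Groth.Agent.Lib.Helper25GrRegSeq
import Groth.Agent.Lib.Helper25HilbRec
import Groth.Agent.Lib.Helper25HSeriesNum
import Groth.Agent.Lib.Helper25AInvTop
import Groth.Agent.Lib.Helper25StdPoly
import Groth.Agent.Lib.Helper25RegLinear

/-!
# `a(R) = - dim R` iff `R` is a polynomial ring, for standard graded Cohen–Macaulay rings over a
field (helper25)
-/

set_option autoImplicit false
set_option linter.unusedSectionVars false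
set_option linter.style.haveILetI false

noncomputable section

namespace Groth.Agent.Lib.Helper25.AInvPoly

open DirectSum Module Groth.Agent.Lib.Helper29.GrHmod Groth.Agent.Lib.Helper25.AInvBasic
  Groth.Agent.Lib.Helper25.HilbRec Groth.Agent.Lib.Helper29GrQuot
  Groth.Agent.Lib.Helper5.PolyLike

universe u

theorem eq_neg_of_add_eq_zero (x : WithBot (WithTop ℤ)) (k : ℤ)
    (h : x + ((k : WithTop ℤ) : WithBot (WithTop ℤ)) = (((0 : ℤ) : WithTop ℤ) : WithBot (WithTop ℤ))) :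
    x = (((-k : ℤ) : WithTop ℤ) : WithBot (WithTop ℤ)) := by
  induction x using WithBot.recBotCoe with
  | bot => rw [WithBot.bot_add] at h; exact absurd h WithBot.bot_ne_coe
  | coe y =>
    induction y using WithTop.recTopCoe with
    | top =>
      rw [← WithBot.coe_add, WithTop.top_add, WithBot.coe_inj] at h
      exact absurd h WithTop.top_ne_coe
    | coe a =>
      rw [← WithBot.coe_add, ← WithTop.coe_add, WithBot.coe_inj, WithTop.coe_inj] at h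
      have : a = -k := by omega
      rw [this]

variable {R : Type u} [CommRing R] (𝒜 : ℤ → AddSubgroup R) [GradedRing 𝒜]
  (hpos : ∀ n : ℤ, n < 0 → 𝒜 n = ⊥) (h0 : IsField (GrLC.deg0 𝒜))

/-- the Hilbert series of `R/(y_1, …, y_j)` -/
def hser {t : ℕ} (y : Fin t → R) (j : ℕ) : ℕ → ℤ := fun n => hq 𝒜 (Jseq y j) (n : ℤ)

include hpos h0 in
theorem mk_hser_succ [IsNoetherianRing R] {t : ℕ} (y : Fin t → R) (D : ℕ) (hy : ∀ i, y i ∈ 𝒜 (D : ℤ))
    (hreg : RingTheory.Sequence.IsWeaklyRegular R (List.ofFn y)) (j : ℕ) (hj : j < t) :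
    PowerSeries.mk (hser 𝒜 y (j + 1)) =
      (1 - PowerSeries.X ^ D) * PowerSeries.mk (hser 𝒜 y j) := by
  ext n
  rw [sub_mul, one_mul, map_sub, PowerSeries.coeff_X_pow_mul', PowerSeries.coeff_mk,
    PowerSeries.coeff_mk]
  unfold hser
  rw [hq_Jseq_succ 𝒜 h0 y (D : ℤ) hy hreg j hj (n : ℤ)]
  split_ifs with h
  · rw [PowerSeries.coeff_mk]
    congr 2
    omega
  · rw [hq_of_neg 𝒜 h0 hpos (Jseq y j) ((n : ℤ) - (D : ℤ)) (by omega)]

include hpos h0 in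
theorem mk_hser [IsNoetherianRing R] {t : ℕ} (y : Fin t → R) (D : ℕ) (hy : ∀ i, y i ∈ 𝒜 (D : ℤ))
    (hreg : RingTheory.Sequence.IsWeaklyRegular R (List.ofFn y)) :
    ∀ j, j ≤ t → PowerSeries.mk (hser 𝒜 y j) =
      (1 - PowerSeries.X ^ D) ^ j * PowerSeries.mk (hser 𝒜 y 0) := by
  intro j
  induction j with
  | zero => intro _; rw [pow_zero, one_mul]
  | succ j ih =>
    intro hj
    rw [mk_hser_succ 𝒜 hpos h0 y D hy hreg j (by omega), ih (by omega), pow_succ]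
    ring

include h0 in
theorem hser_zero {t : ℕ} (y : Fin t → R) :
    hser 𝒜 y 0 = fun n : ℕ => (finrank (GrLC.deg0 𝒜) (GrLC.comp 𝒜 𝒜 (n : ℤ)) : ℤ) := by
  funext n
  unfold hser
  rw [Jseq_zero, hq_bot 𝒜 h0]

variable (hstd : Ideal.span (⋃ n ∈ Set.Ioi (0 : ℤ), (𝒜 n : Set R)) =
    Ideal.span ((𝒜 1 : AddSubgroup R) : Set R))

include hpos h0 hstd in
/-- `a(R) ≤ -r` implies `dim_K R_1 = r` -/
theorem finrank_piece_one_eq [LocCoh.IsCohenMacaulayRing R] (m : HomogeneousIdeal 𝒜)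
    (hm : GrLC.IsStarLocal 𝒜 m)
    (hmsp : m.toIdeal = Ideal.span (⋃ n ∈ Set.Ioi (0 : ℤ), (𝒜 n : Set R)))
    (r : ℕ) (hr : ringKrullDim R = r) (I : GrLC.StarInjRes 𝒜 𝒜)
    (ha : GrLC.endDeg (I.Hgr m r) = (((-(r : ℤ) : ℤ) : WithTop ℤ) : WithBot (WithTop ℤ))) :
    finrank (GrLC.deg0 𝒜) (GrLC.comp 𝒜 𝒜 1) = r := by
  classical
  haveI : IsNoetherianRing R := inferInstance
  obtain ⟨D, hD, y, hy, hrad⟩ := exists_hsop 𝒜 hpos h0 r hr.le
  have hDz : (0 : ℤ) < (D : ℤ) := by exact_mod_cast hD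
  have hym : ∀ i, y i ∈ Rp 𝒜 := fun i =>
    Ideal.subset_span (Set.mem_iUnion₂.mpr ⟨(D : ℤ), hDz, hy i⟩)
  have hreg := Groth.Agent.Lib.Helper25.GrRegSeq.isRegular_of_hsop 𝒜 hpos h0 r hr y
    (fun i => ⟨(D : ℤ), hy i⟩) hym hrad
  have key := Groth.Agent.Lib.Helper25.AInvTop.endDeg_add_eq 𝒜 hpos h0 m hm hmsp r hr I y (D : ℤ)
    hy hDz hreg hrad
  rw [ha, ← WithBot.coe_add, ← WithTop.coe_add] at key
  -- vanishing of `R/(y)` in degrees `> r (D - 1)`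
  have hvan : ∀ n : ℤ, -(r : ℤ) + (r : ℤ) * (D : ℤ) < n →
      ∀ x ∈ 𝒜 n, x ∈ Ideal.span (Set.range y) := by
    intro n hn
    rw [← Groth.Agent.Lib.Helper25.AInvTop.quotGr_eq_bot_iff]
    by_contra hne
    have h1 := Groth.Agent.Lib.Helper29EndDeg.le_endDeg (quotGr 𝒜 (Ideal.span (Set.range y))) hne
    rw [key, Groth.Agent.Lib.Helper29EndDeg.coe_le_coe_iff] at h1
    omega
  -- the numerical lemma
  obtain ⟨N, hN⟩ := Groth.Agent.Lib.Helper25.StdPoly.isPolyLike_hilb 𝒜 hpos hstd h0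
  set h : ℕ → ℤ := fun n : ℕ => (finrank (GrLC.deg0 𝒜) (GrLC.comp 𝒜 𝒜 (n : ℤ)) : ℤ) with hh
  have hh0 : h 0 = 1 := by
    show ((finrank (GrLC.deg0 𝒜) (GrLC.comp 𝒜 𝒜 ((0 : ℕ) : ℤ)) : ℕ) : ℤ) = 1
    rw [Nat.cast_zero, Groth.Agent.Lib.Helper25.StdPoly.finrank_piece_zero 𝒜 h0]
    rfl
  have hser_r := mk_hser 𝒜 hpos h0 y D hy hreg.toIsWeaklyRegular r le_rfl
  rw [hser_zero 𝒜 h0] at hser_r
  have hvan' : ∀ n, r * (D - 1) < n →
      PowerSeries.coeff n ((1 - PowerSeries.X ^ D) ^ r * PowerSeries.mk h) = 0 := by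
    intro n hn
    rw [← hser_r, PowerSeries.coeff_mk]
    unfold hser
    rw [Jseq_top, hq_eq_zero_iff 𝒜 h0]
    apply hvan
    have h1 : ((r * (D - 1) : ℕ) : ℤ) < (n : ℤ) := by exact_mod_cast hn
    have h2 : ((r * (D - 1) : ℕ) : ℤ) = (r : ℤ) * ((D : ℤ) - 1) := by
      push_cast [Nat.cast_sub hD]
      ring
    rw [h2] at h1
    linarith
  have hres := Groth.Agent.Lib.Helper25.HSeriesNum.h_one_eq h hh0 N r D hD hN hvan'
  have : ((finrank (GrLC.deg0 𝒜) (GrLC.comp 𝒜 𝒜 ((1 : ℕ) : ℤ)) : ℕ) : ℤ) = (r : ℤ) := hres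
  rw [Nat.cast_one] at this
  exact_mod_cast this

include hpos h0 hstd in
/-- forward direction -/
theorem nonempty_ringEquiv_of_endDeg [LocCoh.IsCohenMacaulayRing R] (m : HomogeneousIdeal 𝒜)
    (hm : GrLC.IsStarLocal 𝒜 m)
    (hmsp : m.toIdeal = Ideal.span (⋃ n ∈ Set.Ioi (0 : ℤ), (𝒜 n : Set R)))
    (r : ℕ) (hr : ringKrullDim R = r) (I : GrLC.StarInjRes 𝒜 𝒜)
    (ha : GrLC.endDeg (I.Hgr m r) = (((-(r : ℤ) : ℤ) : WithTop ℤ) : WithBot (WithTop ℤ))) :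
    Nonempty (R ≃+* MvPolynomial (Fin r) (GrLC.deg0 𝒜)) := by
  haveI : IsNoetherianRing R := inferInstance
  have h1 := finrank_piece_one_eq 𝒜 hpos h0 hstd m hm hmsp r hr I ha
  obtain ⟨x, hx, hspan⟩ := Groth.Agent.Lib.Helper25.StdPoly.exists_basis_piece_one 𝒜 h0 r h1
  exact Groth.Agent.Lib.Helper25.StdPoly.exists_ringEquiv_mvPolynomial 𝒜 hpos hstd h0 r hr x hspan

include hpos h0 hstd in
/-- if `dim_K R_1 = r = dim R` then `a(R) = -r` -/
theorem endDeg_eq_of_finrank_piece_one [LocCoh.IsCohenMacaulayRing R] (m : HomogeneousIdeal 𝒜)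
    (hm : GrLC.IsStarLocal 𝒜 m)
    (hmsp : m.toIdeal = Ideal.span (⋃ n ∈ Set.Ioi (0 : ℤ), (𝒜 n : Set R)))
    (r : ℕ) (hr : ringKrullDim R = r) (I : GrLC.StarInjRes 𝒜 𝒜)
    (h1 : finrank (GrLC.deg0 𝒜) (GrLC.comp 𝒜 𝒜 1) = r) :
    GrLC.endDeg (I.Hgr m r) = (((-(r : ℤ) : ℤ) : WithTop ℤ) : WithBot (WithTop ℤ)) := by
  classical
  haveI : IsNoetherianRing R := inferInstance
  haveI hmax : (Rp 𝒜).IsMaximal := Groth.Agent.Lib.Helper29GrIrrelField.Rp_isMaximal 𝒜 hpos h0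
  obtain ⟨x, hx, hspan⟩ := Groth.Agent.Lib.Helper25.StdPoly.exists_basis_piece_one 𝒜 h0 r h1
  have hxRp : ∀ i, x i ∈ Rp 𝒜 := fun i =>
    Ideal.subset_span (Set.mem_iUnion₂.mpr ⟨1, by show (0 : ℤ) < 1; norm_num, hx i⟩)
  have hRple : Rp 𝒜 ≤ Ideal.span (Set.range x) := by
    show Ideal.span (⋃ n ∈ Set.Ioi (0 : ℤ), (𝒜 n : Set R)) ≤ _
    rw [hstd, Ideal.span_le]
    intro v hv
    have := hspan v hv
    refine Submodule.span_induction (p := fun v _ => v ∈ Ideal.span (Set.range x)) ?_ ?_ ?_ ?_ this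
    · intro z hz
      exact Ideal.subset_span hz
    · exact zero_mem _
    · intro a b _ _ ha hb
      exact add_mem ha hb
    · intro c a _ ha
      exact Ideal.mul_mem_left _ (c : R) ha
  have hle : Ideal.span (Set.range x) ≤ Rp 𝒜 := by
    rw [Ideal.span_le]
    rintro _ ⟨i, rfl⟩
    exact hxRp i
  have hreg := Groth.Agent.Lib.Helper25.GrRegSeq.isRegular_of_hsop 𝒜 hpos h0 r hr x
    (fun i => ⟨1, hx i⟩) hxRp (hRple.trans Ideal.le_radical)
  have key := Groth.Agent.Lib.Helper25.AInvTop.endDeg_add_eq 𝒜 hpos h0 m hm hmsp r hr I x 1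
    hx (by norm_num) hreg (hRple.trans Ideal.le_radical)
  have hend : GrLC.endDeg (quotGr 𝒜 (Ideal.span (Set.range x))) =
      (((0 : ℤ) : WithTop ℤ) : WithBot (WithTop ℤ)) := by
    apply le_antisymm
    · rw [Groth.Agent.Lib.Helper29EndDeg.endDeg_le_iff]
      intro n hn
      rw [Groth.Agent.Lib.Helper29EndDeg.coe_le_coe_iff]
      by_contra hlt
      apply hn
      rw [Groth.Agent.Lib.Helper25.AInvTop.quotGr_eq_bot_iff]
      intro v hv
      apply hRple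
      exact Ideal.subset_span (Set.mem_iUnion₂.mpr ⟨n, by show (0 : ℤ) < n; omega, hv⟩)
    · apply Groth.Agent.Lib.Helper29EndDeg.le_endDeg
      rw [Ne, Groth.Agent.Lib.Helper25.AInvTop.quotGr_eq_bot_iff]
      intro hall
      have h1mem : (1 : R) ∈ Ideal.span (Set.range x) := hall 1 (SetLike.one_mem_graded 𝒜)
      exact hmax.ne_top ((Ideal.eq_top_iff_one _).mpr (hle h1mem))
  rw [hend, mul_one] at key
  have := eq_neg_of_add_eq_zero _ _ key.symm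
  exact this

include hpos h0 hstd in
/-- backward direction -/
theorem endDeg_eq_of_nonempty_ringEquiv [LocCoh.IsCohenMacaulayRing R] (m : HomogeneousIdeal 𝒜)
    (hm : GrLC.IsStarLocal 𝒜 m)
    (hmsp : m.toIdeal = Ideal.span (⋃ n ∈ Set.Ioi (0 : ℤ), (𝒜 n : Set R)))
    (r : ℕ) (hr : ringKrullDim R = r) (I : GrLC.StarInjRes 𝒜 𝒜)
    (he : Nonempty (R ≃+* MvPolynomial (Fin r) (GrLC.deg0 𝒜))) :
    GrLC.endDeg (I.Hgr m r) = (((-(r : ℤ) : ℤ) : WithTop ℤ) : WithBot (WithTop ℤ)) := by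
  classical
  obtain ⟨e⟩ := he
  haveI : IsNoetherianRing R := inferInstance
  letI := h0.toField
  haveI hmax : (Rp 𝒜).IsMaximal := Groth.Agent.Lib.Helper29GrIrrelField.Rp_isMaximal 𝒜 hpos h0
  haveI hprime : (Rp 𝒜).IsPrime := hmax.isPrime
  haveI : IsRegularRing (MvPolynomial (Fin r) (GrLC.deg0 𝒜)) := inferInstance
  haveI : IsRegularRing R := IsRegularRing.of_ringEquiv e.symm
  have hregloc : IsRegularLocalRing (Localization.AtPrime (Rp 𝒜)) :=
    IsRegularRing.isRegularLocalRing_localization (Rp 𝒜)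
  have h1 := Groth.Agent.Lib.Helper25.RegLinear.finrank_piece_one_le_of_isRegularLocalRing 𝒜 hpos h0
    hregloc r hr
  have h2 := Groth.Agent.Lib.Helper25.StdPoly.ringKrullDim_le_finrank_piece_one 𝒜 hpos hstd h0
  rw [hr] at h2
  have h3 : r ≤ finrank (GrLC.deg0 𝒜) (GrLC.comp 𝒜 𝒜 1) := by exact_mod_cast h2
  exact endDeg_eq_of_finrank_piece_one 𝒜 hpos h0 hstd m hm hmsp r hr I (le_antisymm h1 h3)

end Groth.Agent.Lib.Helper25.AInvPoly
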