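import Groth.Agent.Lib.Helper25HilbertUniv
import Groth.Prelude.Def_Hoch

/-!
# The action algebra `A ⊗ H` of a comodule algebra (helper25)

For a comodule algebra `A` over a Hopf algebra `H` (an action of `G = Spec H` on `X = Spec A`), the
algebra `A ⊗ H` of functions on `X × G` with `G` acting by translation on the second factor only is
an equivariant `A`-algebra through the coaction `A → A ⊗ H` (the action map `X × G → X`), of finite
type when `H` is, and with ring of invariants `A ⊗ 1 ≅ A`.  As a consequence, a Noetherian comodule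
algebra over a linearly reductive group of finite type is of finite type over its invariants.
-/

set_option autoImplicit false
universe u v w
open TensorProduct HopfRep

namespace Groth.Agent.Lib.Helper25.ActAlg

open Groth.Agent.Lib.Helper25

section Coact
variable (k : Type u) [Field k] (H : Type v) [CommRing H] [HopfAlgebra k H]
variable (A : Type w) [CommRing A] [Algebra k A] [Comod k H A] [GLin.IsCoactAlg k H A]

/-- The `A`-algebra structure on `A ⊗ H` through the coaction. -/
@[reducible] noncomputable def algT : Algebra A (A ⊗[k] H) :=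
  (GLin.coactAlgHom k H A).toRingHom.toAlgebra

theorem algebraMap_T (a : A) :
    @algebraMap A (A ⊗[k] H) _ _ (algT k H A) a = Comod.coact (k := k) (A := H) a := rfl

theorem isScalarTower_T : @IsScalarTower k A (A ⊗[k] H) _ (algT k H A).toSMul _ := by
  letI := algT k H A
  refine IsScalarTower.of_algebraMap_eq (fun r => ?_)
  change algebraMap k (A ⊗[k] H) r = GLin.coactAlgHom k H A (algebraMap k A r)
  rw [AlgHom.commutes]

/-- The coaction `id ⊗ Δ` on `A ⊗ H`. -/
@[reducible] noncomputable def comodT : Comod k H (A ⊗[k] H) where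
  coact := Hoch.Ind.coactAux k H A
  coassoc := (Hoch.Ind.comod k H A).coassoc
  counit_comp := (Hoch.Ind.comod k H A).counit_comp

omit [Comod k H A] [GLin.IsCoactAlg k H A] in
theorem coact_T (x : A ⊗[k] H) :
    (comodT k H A).coact x =
      (TensorProduct.assoc k A H H).symm ((Coalgebra.comul (R := k) (A := H)).lTensor A x) := rfl

/-- The coaction on `A ⊗ H` as an algebra map. -/
noncomputable def coactTAlgHom : A ⊗[k] H →ₐ[k] (A ⊗[k] H) ⊗[k] H :=
  (Algebra.TensorProduct.assoc k k k A H H).symm.toAlgHom.comp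
    (Algebra.TensorProduct.map (AlgHom.id k A) (Bialgebra.comulAlgHom k H))

omit [Comod k H A] [GLin.IsCoactAlg k H A] in
theorem coactTAlgHom_apply (x : A ⊗[k] H) :
    coactTAlgHom k H A x = (comodT k H A).coact x := by
  rw [coact_T]
  induction x using TensorProduct.induction_on with
  | zero => simp
  | tmul a h =>
    simp only [coactTAlgHom, AlgHom.comp_apply, Algebra.TensorProduct.map_tmul, AlgHom.id_apply,
      LinearMap.lTensor_tmul]
    rfl
  | add x y hx hy => rw [map_add, hx, hy, map_add, map_add]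

omit [Comod k H A] [GLin.IsCoactAlg k H A] in
theorem isCoactAlg_T : @GLin.IsCoactAlg k _ H _ _ (A ⊗[k] H) _ _ (comodT k H A) := by
  letI := comodT k H A
  refine ⟨?_, ?_⟩
  · have := coactTAlgHom_apply k H A 1
    rw [map_one] at this
    exact this.symm
  · intro f g
    have h1 := coactTAlgHom_apply k H A (f * g)
    rw [map_mul, coactTAlgHom_apply, coactTAlgHom_apply] at h1
    exact h1.symm

theorem isComodHom_algebraMap :
    @Hoch.IsComodHom k _ H _ _ _ A _ _ _ (A ⊗[k] H) _ _ (comodT k H A)
      (GLin.coactAlgHom k H A).toLinearMap := by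
  letI := comodT k H A
  unfold Hoch.IsComodHom
  ext a
  simp only [LinearMap.comp_apply]
  change (TensorProduct.assoc k A H H).symm ((Coalgebra.comul (R := k) (A := H)).lTensor A
      (Comod.coact (k := k) (A := H) a)) =
    (Comod.coact (k := k) (A := H) (V := A)).rTensor H (Comod.coact (k := k) (A := H) a)
  have := LinearMap.congr_fun (Comod.coassoc (k := k) (A := H) (V := A)) a
  simp only [LinearMap.comp_apply, LinearEquiv.coe_coe] at this
  rw [← this, LinearEquiv.symm_apply_apply]

end Coact

section Inv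
variable (k : Type u) [Field k] (H : Type v) [CommRing H] [HopfAlgebra k H]
variable (A : Type w) [CommRing A] [Algebra k A]

/-- `(a ⊗ h) ⊗ h' ↦ ε(h) a ⊗ h'`. -/
noncomputable def dropMid : (A ⊗[k] H) ⊗[k] H →ₗ[k] A ⊗[k] H :=
  ((TensorProduct.rid k A).toLinearMap ∘ₗ (Coalgebra.counit (R := k) (A := H)).lTensor A).rTensor H

theorem dropMid_coact (x : A ⊗[k] H) : dropMid k H A ((comodT k H A).coact x) = x := by
  rw [coact_T]
  induction x using TensorProduct.induction_on with
  | zero => simp
  | tmul a h =>
    have key : ∀ y : H ⊗[k] H, dropMid k H A ((TensorProduct.assoc k A H H).symm (a ⊗ₜ[k] y)) =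
        a ⊗ₜ[k] (TensorProduct.lid k H ((Coalgebra.counit (R := k) (A := H)).rTensor H y)) := by
      intro y
      induction y using TensorProduct.induction_on with
      | zero => simp
      | tmul h1 h2 =>
        simp [dropMid, TensorProduct.smul_tmul]
      | add y z hy hz => simp only [TensorProduct.tmul_add, map_add, hy, hz]
    rw [LinearMap.lTensor_tmul, key, Coalgebra.rTensor_counit_comul]
    simp
  | add x y hx hy => simp only [map_add, hx, hy]

theorem mem_invariants_T_iff (x : A ⊗[k] H) :
    x ∈ @GLin.invariants k _ H _ _ (A ⊗[k] H) _ _ (comodT k H A) (isCoactAlg_T k H A) ↔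
      ∃ a : A, a ⊗ₜ[k] (1 : H) = x := by
  letI := comodT k H A
  haveI := isCoactAlg_T k H A
  rw [GLin.mem_invariants_iff]
  constructor
  · intro h
    have h1 := dropMid_coact k H A x
    rw [h] at h1
    refine ⟨(TensorProduct.rid k A) ((Coalgebra.counit (R := k) (A := H)).lTensor A x), ?_⟩
    rw [← h1]
    simp [dropMid]
  · rintro ⟨a, rfl⟩
    change (comodT k H A).coact (a ⊗ₜ[k] (1 : H)) = _
    rw [coact_T, LinearMap.lTensor_tmul, Bialgebra.comul_one, Algebra.TensorProduct.one_def,
      TensorProduct.assoc_symm_tmul]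

end Inv

section FT
variable (k : Type u) [Field k] (H : Type v) [CommRing H] [HopfAlgebra k H]
variable (A : Type w) [CommRing A] [Algebra k A] [Comod k H A] [GLin.IsCoactAlg k H A]

/-- `a ⊗ h ↦ ρ(a) (1 ⊗ S h)`. -/
noncomputable def unshear : A ⊗[k] H →ₗ[k] A ⊗[k] H :=
  (LinearMap.mul' k H ∘ₗ (HopfAlgebra.antipode k (A := H)).lTensor H).lTensor A ∘ₗ
    (TensorProduct.assoc k A H H).toLinearMap ∘ₗ (Comod.coact (k := k) (A := H) (V := A)).rTensor H

omit [GLin.IsCoactAlg k H A] in
theorem unshear_tmul (a : A) (h : H) :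
    unshear k H A (a ⊗ₜ[k] h) =
      Comod.coact (k := k) (A := H) a * ((1 : A) ⊗ₜ[k] HopfAlgebra.antipode k h) := by
  have key : ∀ y : A ⊗[k] H,
      (LinearMap.mul' k H ∘ₗ (HopfAlgebra.antipode k (A := H)).lTensor H).lTensor A
        ((TensorProduct.assoc k A H H) (y ⊗ₜ[k] h)) = y * ((1 : A) ⊗ₜ[k] HopfAlgebra.antipode k h) := by
    intro y
    induction y using TensorProduct.induction_on with
    | zero => simp
    | tmul a' h' => simp
    | add y z hy hz => simp only [TensorProduct.add_tmul, map_add, hy, hz, add_mul]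
  simp only [unshear, LinearMap.comp_apply, LinearMap.rTensor_tmul, LinearEquiv.coe_coe]
  exact key _

omit [GLin.IsCoactAlg k H A] in
theorem unshear_coact (a : A) :
    unshear k H A (Comod.coact (k := k) (A := H) a) = a ⊗ₜ[k] (1 : H) := by
  have h1 := LinearMap.congr_fun (Comod.coassoc (k := k) (A := H) (V := A)) a
  simp only [LinearMap.comp_apply, LinearEquiv.coe_coe] at h1
  simp only [unshear, LinearMap.comp_apply, LinearEquiv.coe_coe]
  rw [h1, ← LinearMap.comp_apply, ← LinearMap.lTensor_comp, LinearMap.comp_assoc,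
    HopfAlgebra.mul_antipode_lTensor_comul, LinearMap.lTensor_comp, LinearMap.comp_apply]
  have h2 := LinearMap.congr_fun (Comod.counit_comp (k := k) (A := H) (V := A)) a
  simp only [LinearMap.comp_apply, LinearMap.flip_apply, TensorProduct.mk_apply] at h2
  rw [h2]
  simp [Algebra.linearMap_apply]

theorem finiteType_T [Algebra.FiniteType k H] :
    @Algebra.FiniteType A (A ⊗[k] H) _ _ (algT k H A) := by
  classical
  letI := algT k H A
  obtain ⟨t, ht⟩ := (Algebra.FiniteType.out : (⊤ : Subalgebra k H).FG)
  refine ⟨⟨t.image (fun h => (1 : A) ⊗ₜ[k] h), ?_⟩⟩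
  set Q : Subalgebra A (A ⊗[k] H) :=
    Algebra.adjoin A ((t.image (fun h => (1 : A) ⊗ₜ[k] h) : Finset (A ⊗[k] H)) : Set (A ⊗[k] H))
    with hQ
  have hone : (1 : A ⊗[k] H) = (1 : A) ⊗ₜ[k] (1 : H) := Algebra.TensorProduct.one_def
  have step1 : ∀ h : H, (1 : A) ⊗ₜ[k] h ∈ Q := by
    intro h
    have hh : h ∈ Algebra.adjoin k (t : Set H) := by rw [ht]; exact Algebra.mem_top
    induction hh using Algebra.adjoin_induction with
    | mem x hx =>
      apply Algebra.subset_adjoin
      simp only [Finset.coe_image]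
      exact ⟨x, hx, rfl⟩
    | algebraMap r =>
      have : (1 : A) ⊗ₜ[k] (algebraMap k H r) = algebraMap A (A ⊗[k] H) (algebraMap k A r) := by
        rw [algebraMap_T, Algebra.algebraMap_eq_smul_one, Algebra.algebraMap_eq_smul_one, map_smul,
          GLin.IsCoactAlg.coact_one (k := k) (A := H) (R := A), hone, TensorProduct.tmul_smul]
      rw [this]
      exact Q.algebraMap_mem _
    | add x y _ _ hx hy =>
      rw [TensorProduct.tmul_add]
      exact Q.add_mem hx hy
    | mul x y _ _ hx hy =>
      have : (1 : A) ⊗ₜ[k] (x * y) = ((1 : A) ⊗ₜ[k] x) * ((1 : A) ⊗ₜ[k] y) := by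
        rw [Algebra.TensorProduct.tmul_mul_tmul, one_mul]
      rw [this]
      exact Q.mul_mem hx hy
  have step2 : ∀ z : A ⊗[k] H, unshear k H A z ∈ Q := by
    intro z
    induction z using TensorProduct.induction_on with
    | zero => rw [map_zero]; exact Q.zero_mem
    | tmul a h =>
      rw [unshear_tmul, ← algebraMap_T]
      exact Q.mul_mem (Q.algebraMap_mem _) (step1 _)
    | add x y hx hy => rw [map_add]; exact Q.add_mem hx hy
  rw [eq_top_iff]
  intro z _
  clear * - step1 step2
  induction z using TensorProduct.induction_on with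
  | zero => exact Q.zero_mem
  | tmul a h =>
    have : a ⊗ₜ[k] h = (a ⊗ₜ[k] (1 : H)) * ((1 : A) ⊗ₜ[k] h) := by
      rw [Algebra.TensorProduct.tmul_mul_tmul, one_mul, mul_one]
    rw [this, ← unshear_coact]
    exact Q.mul_mem (step2 _) (step1 _)
  | add x y hx hy => exact Q.add_mem hx hy

end FT

section Main
variable {k : Type u} [Field k] {H : Type v} [CommRing H] [HopfAlgebra k H]
variable {A : Type w} [CommRing A] [Algebra k A] [Comod k H A] [GLin.IsCoactAlg k H A]

/-- A Noetherian comodule algebra over a linearly reductive Hopf algebra of finite type is a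
finitely generated algebra over its ring of invariants. -/
theorem finiteType_over_invariants (hG : IsLinearlyReductive k H) [Algebra.FiniteType k H]
    [IsNoetherianRing A] : Algebra.FiniteType ↥(GLin.invariants k H A) A := by
  classical
  haveI : Nontrivial H := Univ.nontrivial_of_bialgebra k H
  obtain ⟨s, hs⟩ := @Univ.exists_finset_invariants_eq_adjoin k _ H _ _ A _ _ _ _ (A ⊗[k] H) _ _
    (algT k H A) (isScalarTower_T k H A) (comodT k H A) (isCoactAlg_T k H A) hG _
    (finiteType_T k H A) (isComodHom_algebraMap k H A)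
  have hsmem : ∀ x ∈ s, ∃ a : A, a ⊗ₜ[k] (1 : H) = x := by
    intro x hx
    rw [← mem_invariants_T_iff, hs]
    exact Algebra.subset_adjoin (Or.inr hx)
  choose! c hc using hsmem
  have hinj : Function.Injective (Algebra.TensorProduct.includeLeft : A →ₐ[k] A ⊗[k] H) :=
    Algebra.TensorProduct.includeLeft_injective (algebraMap k H).injective
  refine ⟨⟨s.image c, ?_⟩⟩
  rw [eq_top_iff]
  intro a _
  have h1 : a ⊗ₜ[k] (1 : H) ∈ @GLin.invariants k _ H _ _ (A ⊗[k] H) _ _ (comodT k H A)
      (isCoactAlg_T k H A) := (mem_invariants_T_iff k H A _).mpr ⟨a, rfl⟩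
  rw [hs] at h1
  have h2 : (⇑(@algebraMap A (A ⊗[k] H) _ _ (algT k H A)) '' ↑(GLin.invariants k H A) ∪ ↑s :
      Set (A ⊗[k] H)) =
      (Algebra.TensorProduct.includeLeft : A →ₐ[k] A ⊗[k] H) ''
        ((GLin.invariants k H A : Set A) ∪ ↑(s.image c)) := by
    ext y
    simp only [Set.mem_union, Set.mem_image, SetLike.mem_coe, Finset.coe_image]
    constructor
    · rintro (⟨b, hb, rfl⟩ | hy)
      · refine ⟨b, Or.inl hb, ?_⟩
        rw [algebraMap_T, (GLin.mem_invariants_iff k H A b).mp hb]
        rfl
      · exact ⟨c y, Or.inr ⟨y, hy, rfl⟩, hc y hy⟩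
    · rintro ⟨b, (hb | ⟨y, hy, rfl⟩), rfl⟩
      · left
        refine ⟨b, hb, ?_⟩
        rw [algebraMap_T, (GLin.mem_invariants_iff k H A b).mp hb]
        rfl
      · right
        have := hc y hy
        change c y ⊗ₜ[k] (1 : H) ∈ s
        rw [this]
        exact hy
  rw [h2, ← AlgHom.map_adjoin] at h1
  obtain ⟨a', ha', haa⟩ := h1
  have : a' = a := hinj haa
  subst this
  have h3 : Algebra.adjoin k ((GLin.invariants k H A : Set A) ∪ ↑(s.image c)) ≤
      (Algebra.adjoin ↥(GLin.invariants k H A) ((s.image c : Finset A) : Set A)).restrictScalars k := by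
    apply Algebra.adjoin_le
    rintro x (hx | hx)
    · exact (Algebra.adjoin ↥(GLin.invariants k H A) ((s.image c : Finset A) : Set A)).algebraMap_mem
        ⟨x, hx⟩
    · exact Algebra.subset_adjoin hx
  exact h3 ha'

end Main

end Groth.Agent.Lib.Helper25.ActAlg
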