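import Groth.Agent.Lib.Helper25LocRigidG

/-!
# Gluing of diagonalisable types, part A (helper25)

* `bcDiag R T T' ε`: base change of a trivialisation `ε : T ⊗[R] A ≃ₐc[T] T[M]` along `T → T'`,
  with the same group `M`; `bcDiag_one_tmul`: its compatibility with `ε`.
* `mulEquiv_of_bialgEquiv`: over a field (domain), `Ω[G] ≃ₐc Ω[H]` gives `G ≃* H`.
-/

set_option autoImplicit false
set_option linter.style.haveILetI false
universe u v w

namespace Groth.Agent.Lib.Helper25.MTGlue

open TensorProduct Groth.Agent.Lib.Helper25 SGA3b BCB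

section BcDiag

variable (R : Type u) [CommRing R] {A : Type u} [CommRing A] [HopfAlgebra R A]
  (T : Type u) [CommRing T] [Algebra R T] (T' : Type u) [CommRing T'] [Algebra R T']
  [Algebra T T'] [IsScalarTower R T T'] {M : Type u} [CommGroup M]

/-- Base change of a trivialisation. -/
noncomputable def bcDiag (ε : T ⊗[R] A ≃ₐc[T] MonoidAlgebra T M) :
    T' ⊗[R] A ≃ₐc[T'] MonoidAlgebra T' M :=
  ((cancelBC R T T' A).symm.trans (bcEquiv T' ε)).trans (steBialg T T' M)

theorem cancelBC_symm_one_tmul (a : A) :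
    (cancelBC R T T' A).symm ((1 : T') ⊗ₜ[R] a) = (1 : T') ⊗ₜ[T] ((1 : T) ⊗ₜ[R] a) := by
  have h := BialgEquiv.symm_apply_apply (cancelBC R T T' A)
    ((1 : T') ⊗ₜ[T] ((1 : T) ⊗ₜ[R] a))
  rw [cancelBC_tmul, one_smul] at h
  exact h

theorem steBialg_one_tmul (x : MonoidAlgebra T M) :
    steBialg T T' M ((1 : T') ⊗ₜ[T] x) = MonoidAlgebra.mapRingHom M (algebraMap T T') x := by
  show MonoidAlgebra.scalarTensorEquiv (M := M) T T' ((1 : T') ⊗ₜ[T] x) = _
  rw [MonoidAlgebra.scalarTensorEquiv_tmul, one_smul]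
  rfl

theorem bcDiag_one_tmul (ε : T ⊗[R] A ≃ₐc[T] MonoidAlgebra T M) (a : A) :
    bcDiag R T T' ε ((1 : T') ⊗ₜ[R] a) =
      MonoidAlgebra.mapRingHom M (algebraMap T T') (ε ((1 : T) ⊗ₜ[R] a)) := by
  show steBialg T T' M (bcEquiv T' ε ((cancelBC R T T' A).symm ((1 : T') ⊗ₜ[R] a))) = _
  rw [cancelBC_symm_one_tmul, bcEquiv_tmul, steBialg_one_tmul]

/-- The inverse of the base-changed trivialisation on group elements. -/
theorem bcDiag_symm_single (ε : T ⊗[R] A ≃ₐc[T] MonoidAlgebra T M) (m : M) :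
    (bcDiag R T T' ε).symm (MonoidAlgebra.single m 1) =
      cancelBC R T T' A ((1 : T') ⊗ₜ[T] ε.symm (MonoidAlgebra.single m 1)) := by
  have h1 : bcDiag R T T' ε
      (cancelBC R T T' A ((1 : T') ⊗ₜ[T] ε.symm (MonoidAlgebra.single m 1))) =
      MonoidAlgebra.single m 1 := by
    show steBialg T T' M (bcEquiv T' ε ((cancelBC R T T' A).symm
      (cancelBC R T T' A ((1 : T') ⊗ₜ[T] ε.symm (MonoidAlgebra.single m 1))))) = _
    rw [BialgEquiv.symm_apply_apply, bcEquiv_tmul, BialgEquiv.apply_symm_apply,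
      steBialg_one_tmul, MonoidAlgebra.mapRingHom_single, map_one]
  rw [← h1, BialgEquiv.symm_apply_apply]

end BcDiag

section Field

variable {Ω : Type u} [CommRing Ω] [IsDomain Ω] {G : Type v} {H : Type w} [Group G] [Group H]

/-- Over a domain, isomorphic group algebras (as bialgebras) have isomorphic groups. -/
noncomputable def mulEquiv_of_bialgEquiv
    (e : MonoidAlgebra Ω G ≃ₐc[Ω] MonoidAlgebra Ω H) : G ≃* H where
  toFun := MonoidAlgebra.mapDomainOfBialgHom (e : MonoidAlgebra Ω G →ₐc[Ω] MonoidAlgebra Ω H)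
  invFun := MonoidAlgebra.mapDomainOfBialgHom
    (e.symm : MonoidAlgebra Ω H →ₐc[Ω] MonoidAlgebra Ω G)
  left_inv g := by
    have h : (MonoidAlgebra.mapDomainOfBialgHom
        (e.symm : MonoidAlgebra Ω H →ₐc[Ω] MonoidAlgebra Ω G)).comp
        (MonoidAlgebra.mapDomainOfBialgHom
          (e : MonoidAlgebra Ω G →ₐc[Ω] MonoidAlgebra Ω H)) = MonoidHom.id G := by
      rw [← MonoidAlgebra.mapDomainOfBialgHom_comp, ← MonoidAlgebra.mapDomainOfBialgHom_id (R := Ω)]
      congr 1
      ext x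
      simp
    exact DFunLike.congr_fun h g
  right_inv g := by
    have h : (MonoidAlgebra.mapDomainOfBialgHom
        (e : MonoidAlgebra Ω G →ₐc[Ω] MonoidAlgebra Ω H)).comp
        (MonoidAlgebra.mapDomainOfBialgHom
          (e.symm : MonoidAlgebra Ω H →ₐc[Ω] MonoidAlgebra Ω G)) = MonoidHom.id H := by
      rw [← MonoidAlgebra.mapDomainOfBialgHom_comp, ← MonoidAlgebra.mapDomainOfBialgHom_id (R := Ω)]
      congr 1
      ext x
      simp
    exact DFunLike.congr_fun h g
  map_mul' a b := map_mul _ a b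

end Field

end Groth.Agent.Lib.Helper25.MTGlue
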