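import Groth.Agent.Lib.Helper25MultBC
import Groth.Agent.Lib.Helper25MTGlueA

/-!
# Coefficient functionals of bialgebra maps into group algebras (helper25)

For a coalgebra `C` over `R` and a functional `α : C → R` the operator `opR α = (id ⊗ α) ∘ Δ`;
`opR α ∘ opR β = opR (conv α β)`, `ε ∘ opR α = α`.  For a coalgebra map `F : C → R[M]` the
coefficient functionals `φ m = coeff m ∘ F` are orthogonal idempotents for the convolution.
-/

set_option autoImplicit false
set_option linter.unusedSectionVars false
set_option linter.style.haveILetI false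
universe u

namespace Groth.Agent.Lib.Helper25.Adic

open TensorProduct

section Ops

variable {R : Type u} [CommRing R] {C : Type u} [AddCommGroup C] [Module R C] [Coalgebra R C]

/-- The operator `c ↦ ∑ c₁ α(c₂)`. -/
noncomputable def opR (α : C →ₗ[R] R) : C →ₗ[R] C :=
  (TensorProduct.rid R C).toLinearMap ∘ₗ α.lTensor C ∘ₗ Coalgebra.comul

/-- Convolution of functionals. -/
noncomputable def conv (α β : C →ₗ[R] R) : C →ₗ[R] R :=
  LinearMap.mul' R R ∘ₗ TensorProduct.map α β ∘ₗ Coalgebra.comul

theorem opR_apply (α : C →ₗ[R] R) (c : C) :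
    opR α c = (TensorProduct.rid R C) (α.lTensor C (Coalgebra.comul c)) := rfl

theorem conv_apply (α β : C →ₗ[R] R) (c : C) :
    conv α β c = LinearMap.mul' R R (TensorProduct.map α β (Coalgebra.comul c)) := rfl

theorem counit_opR (α : C →ₗ[R] R) (c : C) : Coalgebra.counit (R := R) (opR α c) = α c := by
  have h : ∀ z : C ⊗[R] C,
      Coalgebra.counit (R := R) ((TensorProduct.rid R C) (α.lTensor C z)) =
        α ((TensorProduct.lid R C) ((Coalgebra.counit (R := R) (A := C)).rTensor C z)) := by
    intro z
    induction z using TensorProduct.induction_on with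
    | zero => simp
    | tmul x y => simp [mul_comm]
    | add x y hx hy => simp only [map_add, hx, hy]
  rw [opR_apply, h, Coalgebra.rTensor_counit_comul]
  simp

theorem opR_opR (α β : C →ₗ[R] R) (c : C) : opR α (opR β c) = opR (conv α β) c := by
  let G : C ⊗[R] (C ⊗[R] C) →ₗ[R] C :=
    (TensorProduct.rid R C).toLinearMap ∘ₗ
      (LinearMap.mul' R R ∘ₗ TensorProduct.map α β).lTensor C
  have hG : ∀ (x y z : C), G (x ⊗ₜ[R] (y ⊗ₜ[R] z)) = (α y * β z) • x := by
    intro x y z
    simp [G]
  have h1 : ∀ w : C ⊗[R] C, opR α ((TensorProduct.rid R C) (β.lTensor C w)) =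
      G ((TensorProduct.assoc R C C C) ((Coalgebra.comul (R := R) (A := C)).rTensor C w)) := by
    intro w
    induction w using TensorProduct.induction_on with
    | zero => simp
    | add x y hx hy => simp only [map_add, hx, hy]
    | tmul x z =>
      rw [LinearMap.lTensor_tmul, TensorProduct.rid_tmul, map_smul, LinearMap.rTensor_tmul,
        opR_apply]
      generalize Coalgebra.comul (R := R) x = t
      induction t using TensorProduct.induction_on with
      | zero => simp
      | add x y hx hy =>
        simp only [map_add, smul_add, hx, hy, TensorProduct.add_tmul]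
      | tmul a b =>
        rw [LinearMap.lTensor_tmul, TensorProduct.rid_tmul, TensorProduct.assoc_tmul, hG,
          smul_smul, mul_comm]
  have h2 : ∀ w : C ⊗[R] C, G ((Coalgebra.comul (R := R) (A := C)).lTensor C w) =
      (TensorProduct.rid R C) ((conv α β).lTensor C w) := by
    intro w
    induction w using TensorProduct.induction_on with
    | zero => simp
    | add x y hx hy => simp only [map_add, hx, hy]
    | tmul x y =>
      rw [LinearMap.lTensor_tmul, LinearMap.lTensor_tmul, TensorProduct.rid_tmul, conv_apply]
      generalize Coalgebra.comul (R := R) y = t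
      induction t using TensorProduct.induction_on with
      | zero => simp
      | add x y hx hy =>
        simp only [map_add, add_smul, hx, hy, TensorProduct.tmul_add]
      | tmul a b =>
        rw [hG, TensorProduct.map_tmul, LinearMap.mul'_apply]
  rw [opR_apply (β), h1, Coalgebra.coassoc_apply, h2, opR_apply]

/-- `opR α` preserves subcomodules of the regular comodule, in the range form. -/
theorem opR_mem_of_comul_mem (α : C →ₗ[R] R) (W : Submodule R C) {c : C}
    (h : Coalgebra.comul (R := R) c ∈ LinearMap.range (W.subtype.rTensor C)) : opR α c ∈ W := by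
  obtain ⟨y, hy⟩ := h
  rw [opR_apply, ← hy]
  clear hy
  induction y using TensorProduct.induction_on with
  | zero => simp
  | add x y hx hy =>
    simp only [map_add]
    exact W.add_mem hx hy
  | tmul w a =>
    rw [LinearMap.rTensor_tmul, LinearMap.lTensor_tmul, TensorProduct.rid_tmul]
    exact W.smul_mem _ w.2

end Ops

section GA

variable (T : Type u) [CommRing T] {M : Type u} [CommGroup M]

/-- The coefficient functional. -/
noncomputable def coeffL (m : M) : MonoidAlgebra T M →ₗ[T] T :=
  Finsupp.lapply m ∘ₗ (MonoidAlgebra.coeffLinearEquiv T).toLinearMap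

@[simp] theorem coeffL_apply (m : M) (x : MonoidAlgebra T M) : coeffL T m x = x.coeff m := rfl

/-- The coefficient functional on the tensor square. -/
noncomputable def coeff2 (a b : M) : MonoidAlgebra T M ⊗[T] MonoidAlgebra T M →ₗ[T] T :=
  LinearMap.mul' T T ∘ₗ TensorProduct.map (coeffL T a) (coeffL T b)

@[simp] theorem coeff2_tmul (a b : M) (x y : MonoidAlgebra T M) :
    coeff2 T a b (x ⊗ₜ[T] y) = x.coeff a * y.coeff b := by
  simp [coeff2]

theorem comul_single' (g : M) (t : T) :
    Coalgebra.comul (R := T) (MonoidAlgebra.single g t) =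
      MonoidAlgebra.single g (1 : T) ⊗ₜ[T] MonoidAlgebra.single g t := by
  rw [MonoidAlgebra.comul_single]
  simp only [CommSemiring.comul_apply, TensorProduct.map_tmul]
  rfl

theorem coeff2_comul [DecidableEq M] (a b : M) (x : MonoidAlgebra T M) :
    coeff2 T a b (Coalgebra.comul (R := T) x) = if a = b then x.coeff b else 0 := by
  induction x using MonoidAlgebra.induction_linear with
  | zero => simp
  | add y z hy hz =>
    simp only [map_add, hy, hz, MonoidAlgebra.coeff_add, Finsupp.add_apply]
    split_ifs <;> simp
  | single g t =>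
    rw [comul_single', coeff2_tmul, MonoidAlgebra.coeff_single, MonoidAlgebra.coeff_single,
      Finsupp.single_apply, Finsupp.single_apply]
    by_cases hab : a = b
    · subst hab
      by_cases hg : g = a
      · simp [hg]
      · simp [hg]
    · rw [if_neg hab]
      by_cases hg : g = a
      · subst hg
        simp [hab]
      · simp [hg]

theorem coeff2_eq_zero {z : MonoidAlgebra T M ⊗[T] MonoidAlgebra T M}
    (h : ∀ a b, coeff2 T a b z = 0) : z = 0 := by
  classical
  let E : MonoidAlgebra T M ⊗[T] MonoidAlgebra T M ≃ₗ[T] (M × M →₀ T) :=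
    (TensorProduct.congr (MonoidAlgebra.coeffLinearEquiv T) (MonoidAlgebra.coeffLinearEquiv T)).trans
      (finsuppTensorFinsupp' T M M)
  have hE : ∀ (w : MonoidAlgebra T M ⊗[T] MonoidAlgebra T M) (a b : M),
      E w (a, b) = coeff2 T a b w := by
    intro w a b
    induction w using TensorProduct.induction_on with
    | zero => simp
    | add x y hx hy => simp only [map_add, Finsupp.add_apply, hx, hy]
    | tmul x y =>
      rw [coeff2_tmul]
      simp [E]
  apply E.injective
  rw [map_zero]
  ext ⟨a, b⟩
  rw [hE, h]
  rfl

/-- `opR` of a coefficient functional on the group algebra. -/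
theorem opR_coeffL (m : M) (x : MonoidAlgebra T M) :
    opR (coeffL T m) x = MonoidAlgebra.single m (x.coeff m) := by
  classical
  induction x using MonoidAlgebra.induction_linear with
  | zero => simp
  | add y z hy hz =>
    rw [map_add, hy, hz, MonoidAlgebra.coeff_add, Finsupp.add_apply, MonoidAlgebra.single_add]
  | single g t =>
    rw [opR_apply, comul_single', LinearMap.lTensor_tmul, TensorProduct.rid_tmul, coeffL_apply,
      MonoidAlgebra.coeff_single, Finsupp.single_apply]
    by_cases hg : g = m
    · subst hg
      simp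
    · simp [hg]

end GA

section CoalgHom

variable {T : Type u} [CommRing T] {M : Type u} [CommGroup M]
  {C : Type u} [AddCommGroup C] [Module T C] [Coalgebra T C]

theorem coeff2_map (F : C →ₗ[T] MonoidAlgebra T M) (a b : M) (z : C ⊗[T] C) :
    coeff2 T a b (TensorProduct.map F F z) =
      LinearMap.mul' T T (TensorProduct.map (coeffL T a ∘ₗ F) (coeffL T b ∘ₗ F) z) := by
  induction z using TensorProduct.induction_on with
  | zero => simp
  | add x y hx hy => simp only [map_add, hx, hy]
  | tmul x y => simp

/-- Orthogonality of the coefficient functionals of a coalgebra map. -/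
theorem conv_coeffL [DecidableEq M] (F : C →ₗc[T] MonoidAlgebra T M) (a b : M) (c : C) :
    conv (coeffL T a ∘ₗ F.toLinearMap) (coeffL T b ∘ₗ F.toLinearMap) c =
      if a = b then (F c).coeff b else 0 := by
  rw [conv_apply, ← coeff2_map, ← coeff2_comul]
  congr 1
  exact CoalgHomClass.map_comp_comul_apply F c

/-- Naturality of `opR` with respect to coalgebra maps. -/
theorem map_opR {D : Type u} [AddCommGroup D] [Module T D] [Coalgebra T D] (F : C →ₗc[T] D)
    (α : D →ₗ[T] T) (c : C) : F (opR (α ∘ₗ F.toLinearMap) c) = opR α (F c) := by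
  have h : ∀ z : C ⊗[T] C, F ((TensorProduct.rid T C) ((α ∘ₗ F.toLinearMap).lTensor C z)) =
      (TensorProduct.rid T D) (α.lTensor D (TensorProduct.map F.toLinearMap F.toLinearMap z)) := by
    intro z
    induction z using TensorProduct.induction_on with
    | zero => simp
    | add x y hx hy => simp only [map_add, hx, hy]
    | tmul x y => simp
  rw [opR_apply, h, opR_apply]
  congr 2
  exact CoalgHomClass.map_comp_comul_apply F c

theorem map_opR_coeffL (F : C →ₗc[T] MonoidAlgebra T M) (m : M) (c : C) :
    F (opR (coeffL T m ∘ₗ F.toLinearMap) c) = MonoidAlgebra.single m ((F c).coeff m) := by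
  rw [map_opR, opR_coeffL]

end CoalgHom

section BC

variable {R : Type u} [CommRing R] {T : Type u} [CommRing T] [Algebra R T]
  {C : Type u} [CommRing C] [Bialgebra R C] {M : Type u} [CommGroup M]

/-- Coefficient functionals `C → T` of a map `T ⊗ C → T[M]`. -/
noncomputable def coeffBC (f : T ⊗[R] C →ₗ[T] MonoidAlgebra T M) (m : M) : C →ₗ[R] T :=
  ((coeffL T m ∘ₗ f).restrictScalars R) ∘ₗ (TensorProduct.mk R T C 1)

@[simp] theorem coeffBC_apply (f : T ⊗[R] C →ₗ[T] MonoidAlgebra T M) (m : M) (c : C) :
    coeffBC f m c = (f ((1 : T) ⊗ₜ[R] c)).coeff m := rfl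

theorem conv_coeffBC [DecidableEq M] (f : T ⊗[R] C →ₗc[T] MonoidAlgebra T M) (a b : M) (c : C) :
    LinearMap.mul' R T (TensorProduct.map (coeffBC f.toLinearMap a) (coeffBC f.toLinearMap b)
      (Coalgebra.comul (R := R) c)) = if a = b then (f ((1 : T) ⊗ₜ[R] c)).coeff b else 0 := by
  have h := conv_coeffL f a b ((1 : T) ⊗ₜ[R] c)
  rw [conv_apply] at h
  have h1 : Coalgebra.comul (R := T) ((1 : T) ⊗ₜ[R] c) =
      MRB.bcMap2 T C (Coalgebra.comul (R := R) c) := MRB.comul_one_tmul T C c
  rw [h1] at h
  rw [← h]
  generalize Coalgebra.comul (R := R) c = w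
  induction w using TensorProduct.induction_on with
  | zero => simp
  | add x y hx hy => simp only [map_add, hx, hy]
  | tmul x y =>
    rw [MRB.bcMap2_tmul]
    simp

end BC

end Groth.Agent.Lib.Helper25.Adic
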