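import Groth.Agent.Lib.Helper25Comod
import Mathlib.RingTheory.Flat.Basic
import Mathlib.RingTheory.Noetherian.Basic

/-!
# Helper25Serre: Serre's subcomodule lemmas over rings

`eq_sum_slice_proj`, `mem_range_rTensor_iff_proj` (projective coalgebras),
`exists_smallest_subcomod` (smallest subcomodule containing a submodule, projective case),
`exists_fg_subcomod_ge_noeth` (finitely generated subcomodule containing a finitely generated
submodule, Noetherian base and flat coalgebra).
-/

set_option autoImplicit false
universe u v w w'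

namespace Groth.Agent.Lib.Helper25

open TensorProduct HopfRep

section ProjSlice

variable {k : Type u} [CommRing k] {A : Type v} [AddCommGroup A] [Module k A]
  [Module.Projective k A]
variable {V : Type w} [AddCommGroup V] [Module k V]

/-- Expansion of an element of `V ⊗ A` for projective `A` (dual basis lemma). -/
theorem eq_sum_slice_proj (x : V ⊗[k] A) :
    ∃ (s : Finset A) (f : A → (A →ₗ[k] k)), x = ∑ i ∈ s, slice V (f i) x ⊗ₜ[k] i := by
  classical
  obtain ⟨sec, hsec⟩ := Module.projective_def'.mp (inferInstance : Module.Projective k A)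
  set b : Module.Basis A k (A →₀ k) := Finsupp.basisSingleOne with hb
  obtain ⟨s, hs⟩ := eq_sum_slice (V := V) b (sec.lTensor V x)
  refine ⟨s, fun i => (b.coord i) ∘ₗ sec, ?_⟩
  have h1 := congrArg ((Finsupp.linearCombination k (id : A → A)).lTensor V) hs
  rw [← LinearMap.comp_apply, ← LinearMap.lTensor_comp, hsec, LinearMap.lTensor_id,
    LinearMap.id_apply, map_sum] at h1
  conv_lhs => rw [h1]
  refine Finset.sum_congr rfl (fun i _ => ?_)
  rw [LinearMap.lTensor_tmul, slice_lTensor, hb, Finsupp.coe_basisSingleOne,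
    Finsupp.linearCombination_single, one_smul, id]

theorem mem_range_rTensor_iff_proj (W : Submodule k V) (x : V ⊗[k] A) :
    x ∈ LinearMap.range (W.subtype.rTensor A) ↔ ∀ φ : A →ₗ[k] k, slice V φ x ∈ W := by
  constructor
  · rintro ⟨y, rfl⟩ φ
    rw [slice_rTensor]
    exact (slice W φ y).2
  · intro h
    obtain ⟨s, f, hs⟩ := eq_sum_slice_proj x
    rw [hs]
    refine Submodule.sum_mem _ (fun i _ => ?_)
    exact ⟨(⟨_, h (f i)⟩ : W) ⊗ₜ[k] i, by simp⟩

end ProjSlice

section ProjComod

variable {k : Type u} [CommRing k] {A : Type v} [AddCommGroup A] [Module k A] [Coalgebra k A]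
  [Module.Projective k A]
variable {V : Type w} [AddCommGroup V] [Module k V] [Comod k A V]

theorem T_mem_of_isSubcomod' {U : Submodule k V}
    (hU : IsSubcomod (k := k) (A := A) U) (φ : A →ₗ[k] k) {u : V} (hu : u ∈ U) : T φ u ∈ U := by
  obtain ⟨y, hy⟩ := hU u hu
  rw [T_apply, ← hy, slice_rTensor]
  exact (slice U φ y).2

/-- Serre's lemma: over a projective coalgebra, every submodule of a comodule is contained in a
smallest subcomodule, finitely generated if the submodule is. -/
theorem exists_smallest_subcomod (M : Submodule k V) :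
    ∃ W : Submodule k V, IsSubcomod (k := k) (A := A) W ∧ M ≤ W ∧
      (∀ W' : Submodule k V, IsSubcomod (k := k) (A := A) W' → M ≤ W' → W ≤ W') ∧
      (M.FG → W.FG) := by
  classical
  set W : Submodule k V := Submodule.span k {x | ∃ φ : A →ₗ[k] k, ∃ m ∈ M, T φ m = x} with hW
  have hgen : ∀ (φ : A →ₗ[k] k) (m : V), m ∈ M → T φ m ∈ W := fun φ m hm =>
    Submodule.subset_span ⟨φ, m, hm, rfl⟩
  refine ⟨W, ?_, ?_, ?_, ?_⟩
  · intro w hw
    rw [mem_range_rTensor_iff_proj]
    intro ψ
    change T ψ w ∈ W
    induction hw using Submodule.span_induction with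
    | mem x hx =>
      obtain ⟨φ, m, hm, rfl⟩ := hx
      rw [T_T]
      exact hgen _ m hm
    | zero => rw [map_zero]; exact Submodule.zero_mem _
    | add x y _ _ hx hy => rw [map_add]; exact Submodule.add_mem _ hx hy
    | smul c x _ hx => rw [map_smul]; exact Submodule.smul_mem _ c hx
  · intro m hm
    have := hgen (CoalgebraStruct.counit (R := k) (A := A)) m hm
    rwa [T_counit] at this
  · intro W' hW' hle
    rw [hW, Submodule.span_le]
    rintro _ ⟨φ, m, hm, rfl⟩
    exact T_mem_of_isSubcomod' hW' φ (hle hm)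
  · rintro ⟨S, hS⟩
    -- expansions of the coactions of the generators
    have hex : ∀ m : V, ∃ (s : Finset A) (f : A → (A →ₗ[k] k)),
        Comod.coact (k := k) (A := A) m =
          ∑ i ∈ s, slice V (f i) (Comod.coact (k := k) (A := A) m) ⊗ₜ[k] i :=
      fun m => eq_sum_slice_proj _
    choose s f hsf using hex
    set G : Finset V := S.biUnion (fun m => (s m).image (fun i => T (f m i) m)) with hG
    have hGW : ∀ m ∈ S, ∀ φ : A →ₗ[k] k, T φ m ∈ Submodule.span k (G : Set V) := by
      intro m hm φ
      rw [T_apply, hsf m, map_sum]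
      refine Submodule.sum_mem _ (fun i hi => ?_)
      rw [slice_tmul]
      refine Submodule.smul_mem _ _ (Submodule.subset_span ?_)
      rw [hG, Finset.coe_biUnion]
      simp only [Set.mem_iUnion, Finset.mem_coe, Finset.mem_image]
      exact ⟨m, hm, i, hi, rfl⟩
    have hMW : ∀ m ∈ M, ∀ φ : A →ₗ[k] k, T φ m ∈ Submodule.span k (G : Set V) := by
      intro m hm φ
      rw [← hS] at hm
      induction hm using Submodule.span_induction with
      | mem x hx => exact hGW x hx φ
      | zero => rw [map_zero]; exact Submodule.zero_mem _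
      | add x y _ _ hx hy => rw [map_add]; exact Submodule.add_mem _ hx hy
      | smul c x _ hx => rw [map_smul]; exact Submodule.smul_mem _ c hx
    refine ⟨G, le_antisymm ?_ ?_⟩
    · rw [Submodule.span_le]
      intro x hx
      rw [hG, Finset.coe_biUnion] at hx
      simp only [Set.mem_iUnion, Finset.mem_coe, Finset.mem_image] at hx
      obtain ⟨m, hm, i, _, rfl⟩ := hx
      exact hgen _ m (hS ▸ Submodule.subset_span hm)
    · rw [hW, Submodule.span_le]
      rintro _ ⟨φ, m, hm, rfl⟩
      exact hMW m hm φ

end ProjComod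


section NoethFlat

variable {k : Type u} [CommRing k] {A : Type v} [AddCommGroup A] [Module k A]
variable {V : Type w} [AddCommGroup V] [Module k V]

theorem range_rTensor_mono {E E' : Submodule k V} (h : E ≤ E') :
    LinearMap.range (E.subtype.rTensor A) ≤ LinearMap.range (E'.subtype.rTensor A) := by
  rintro _ ⟨y, rfl⟩
  refine ⟨(Submodule.inclusion h).rTensor A y, ?_⟩
  rw [← LinearMap.comp_apply, ← LinearMap.rTensor_comp]
  rfl

theorem exists_fg_range_rTensor (x : V ⊗[k] A) :
    ∃ E : Submodule k V, E.FG ∧ x ∈ LinearMap.range (E.subtype.rTensor A) := by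
  induction x using TensorProduct.induction_on with
  | zero => exact ⟨⊥, Submodule.fg_bot, Submodule.zero_mem _⟩
  | tmul v a =>
    refine ⟨Submodule.span k {v}, Submodule.fg_span_singleton v, ?_⟩
    exact ⟨(⟨v, Submodule.mem_span_singleton_self v⟩ : Submodule.span k {v}) ⊗ₜ[k] a, by simp⟩
  | add x y hx hy =>
    obtain ⟨E₁, h₁, hx⟩ := hx
    obtain ⟨E₂, h₂, hy⟩ := hy
    exact ⟨E₁ ⊔ E₂, h₁.sup h₂, Submodule.add_mem _ (range_rTensor_mono le_sup_left hx)
      (range_rTensor_mono le_sup_right hy)⟩

variable [Coalgebra k A] [Comod k A V]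

theorem exists_fg_coact_mem (M : Submodule k V) (hM : M.FG) :
    ∃ E : Submodule k V, E.FG ∧ ∀ m ∈ M, Comod.coact (k := k) (A := A) m ∈
      LinearMap.range (E.subtype.rTensor A) := by
  induction M, hM using Submodule.fg_induction with
  | singleton x =>
    obtain ⟨E, hE, hx⟩ := exists_fg_range_rTensor (Comod.coact (k := k) (A := A) x)
    refine ⟨E, hE, ?_⟩
    intro m hm
    obtain ⟨c, rfl⟩ := Submodule.mem_span_singleton.mp hm
    rw [map_smul]
    exact Submodule.smul_mem _ c hx
  | sup M₁ M₂ _ _ ih₁ ih₂ =>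
    obtain ⟨E₁, h₁, hE₁⟩ := ih₁
    obtain ⟨E₂, h₂, hE₂⟩ := ih₂
    refine ⟨E₁ ⊔ E₂, h₁.sup h₂, ?_⟩
    intro m hm
    obtain ⟨m₁, hm₁, m₂, hm₂, rfl⟩ := Submodule.mem_sup.mp hm
    rw [map_add]
    exact Submodule.add_mem _ (range_rTensor_mono le_sup_left (hE₁ m₁ hm₁))
      (range_rTensor_mono le_sup_right (hE₂ m₂ hm₂))

/-- Serre's lemma over a Noetherian base with a flat coalgebra: every finitely generated
submodule of a comodule lies in a finitely generated subcomodule. -/
theorem exists_fg_subcomod_ge_noeth [IsNoetherianRing k] [Module.Flat k A]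
    (M : Submodule k V) (hM : M.FG) :
    ∃ W : Submodule k V, IsSubcomod (k := k) (A := A) W ∧ M ≤ W ∧ W.FG := by
  obtain ⟨E, hEfg, hE⟩ := exists_fg_coact_mem (A := A) M hM
  set q : V →ₗ[k] V ⧸ E := E.mkQ with hq
  set g : V →ₗ[k] (V ⧸ E) ⊗[k] A := q.rTensor A ∘ₗ Comod.coact (k := k) (A := A) with hg
  have hex : Function.Exact (E.subtype.rTensor A) (q.rTensor A) :=
    rTensor_exact A (LinearMap.exact_subtype_mkQ E) (Submodule.mkQ_surjective E)
  have hker : ∀ x : V ⊗[k] A, q.rTensor A x = 0 ↔ x ∈ LinearMap.range (E.subtype.rTensor A) :=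
    fun x => hex x
  set W : Submodule k V := LinearMap.ker g with hW
  have hWE : W ≤ E := by
    intro w hw
    have h0 : q.rTensor A (Comod.coact (k := k) (A := A) w) = 0 := hw
    have h1 := slice_rTensor (A := A) (CoalgebraStruct.counit (R := k) (A := A)) q
      (Comod.coact (k := k) (A := A) w)
    rw [h0, map_zero, ← T_apply, T_counit] at h1
    rw [← Submodule.Quotient.mk_eq_zero]
    exact h1.symm
  have hMW : M ≤ W := by
    intro m hm
    change q.rTensor A (Comod.coact (k := k) (A := A) m) = 0
    rw [hker]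
    exact hE m hm
  refine ⟨W, ?_, hMW, ?_⟩
  · intro w hw
    have hexW : Function.Exact (W.subtype.rTensor A) (g.rTensor A) :=
      Module.Flat.rTensor_exact A (LinearMap.exact_subtype_ker_map g)
    apply (hexW _).mp
    have h0 : q.rTensor A (Comod.coact (k := k) (A := A) w) = 0 := hw
    obtain ⟨y, hy⟩ := (hker _).mp h0
    rw [hg, LinearMap.rTensor_comp, LinearMap.comp_apply, coassoc_apply, ← hy]
    clear hy
    induction y using TensorProduct.induction_on with
    | zero => simp
    | add x y hx hy => simp only [map_add, hx, hy, add_zero]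
    | tmul e a =>
      rw [LinearMap.rTensor_tmul, LinearMap.lTensor_tmul]
      generalize CoalgebraStruct.comul (R := k) a = z
      induction z using TensorProduct.induction_on with
      | zero => simp
      | add x y hx hy => simp only [TensorProduct.tmul_add, map_add, hx, hy, add_zero]
      | tmul a₁ a₂ =>
        rw [TensorProduct.assoc_symm_tmul, LinearMap.rTensor_tmul, LinearMap.rTensor_tmul,
          Submodule.subtype_apply, hq, Submodule.mkQ_apply,
          (Submodule.Quotient.mk_eq_zero E).mpr e.2, TensorProduct.zero_tmul,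
          TensorProduct.zero_tmul]
  · exact isNoetherian_submodule.mp (isNoetherian_of_fg_of_noetherian E hEfg) W hWE

end NoethFlat

end Groth.Agent.Lib.Helper25
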