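import Groth.Agent.Lib.Helper25AdicA
import Groth.Agent.Lib.Helper25Serre

/-!
# Algebraisation of formal homomorphisms into diagonalisable groups (helper25)

`exists_algebraization`: over a Noetherian `J`-adically complete ring `R`, a compatible family of
bialgebra maps `R/J^{n+1} ⊗ C → (R/J^{n+1})[M]` (`C` flat) comes from a bialgebra map `C → R[M]`
(SGA3 IX 7.1 for diagonalisable source).
-/

set_option autoImplicit false
set_option linter.unusedSectionVars false
set_option linter.style.haveILetI false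
universe u

namespace Groth.Agent.Lib.Helper25.Adic

open TensorProduct

section Limit

variable {R : Type u} [CommRing R] (J : Ideal R)

theorem eq_of_forall_mk_eq [IsHausdorff J R] {x y : R}
    (h : ∀ n : ℕ, Ideal.Quotient.mk (J ^ (n + 1)) x = Ideal.Quotient.mk (J ^ (n + 1)) y) :
    x = y := by
  rw [IsHausdorff.eq_iff_smodEq (I := J)]
  intro n
  rw [SModEq.sub_mem, smul_eq_mul, Ideal.mul_top]
  have h1 := h n
  rw [Ideal.Quotient.eq] at h1
  exact Ideal.pow_le_pow_right (Nat.le_succ n) h1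

theorem exists_limit [IsPrecomplete J R] (a : ∀ n : ℕ, R ⧸ J ^ (n + 1))
    (ha : ∀ n, Ideal.Quotient.factor (Ideal.pow_le_pow_right (Nat.le_succ (n + 1))) (a (n + 1)) =
      a n) :
    ∃ L : R, ∀ n, Ideal.Quotient.mk (J ^ (n + 1)) L = a n := by
  have hb : ∀ n, ∃ b : R, Ideal.Quotient.mk (J ^ (n + 1)) b = a n :=
    fun n => Ideal.Quotient.mk_surjective (a n)
  choose b hb using hb
  have hstep : ∀ n, b (n + 1) - b n ∈ J ^ (n + 1) := by
    intro n
    rw [← Ideal.Quotient.eq, hb n, ← ha n, ← hb (n + 1), Ideal.Quotient.factor_mk]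
  have hcauchy : ∀ m k, b (m + k) - b m ∈ J ^ (m + 1) := by
    intro m k
    induction k with
    | zero => simp
    | succ k ih =>
      have h1 : b (m + (k + 1)) - b m = (b (m + k + 1) - b (m + k)) + (b (m + k) - b m) := by
        rw [← add_assoc]; ring
      rw [h1]
      exact Ideal.add_mem _
        (Ideal.pow_le_pow_right (by omega) (hstep (m + k))) ih
  obtain ⟨L, hL⟩ := IsPrecomplete.prec' (I := J) (M := R) b (by
    intro m n hmn
    obtain ⟨k, rfl⟩ := Nat.exists_eq_add_of_le hmn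
    apply SModEq.symm
    rw [SModEq.sub_mem, smul_eq_mul, Ideal.mul_top]
    exact Ideal.pow_le_pow_right (Nat.le_succ m) (hcauchy m k))
  refine ⟨L, fun n => ?_⟩
  have h1 := hL (n + 1)
  rw [SModEq.sub_mem, smul_eq_mul, Ideal.mul_top] at h1
  have h2 : Ideal.Quotient.mk (J ^ (n + 1)) L = Ideal.Quotient.mk (J ^ (n + 1)) (b (n + 1)) := by
    rw [eq_comm, Ideal.Quotient.eq]
    exact h1
  rw [h2, ← ha n, ← hb (n + 1), Ideal.Quotient.factor_mk]

end Limit

section FinSupp

variable {R : Type u} [CommRing R] [IsNoetherianRing R] (J : Ideal R)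
  {C : Type u} [CommRing C] [Bialgebra R C] [Module.Flat R C] {M : Type u}
  (φ : M → (C →ₗ[R] R))

theorem exists_finite_forall_mem_smul (hfin0 : ∀ c, {m | φ m c ∉ J}.Finite)
    (W : Submodule R C) (y : W ⊗[R] C) :
    ∃ S : Set M, S.Finite ∧ ∀ m ∉ S,
      (TensorProduct.rid R C) ((φ m).lTensor C (W.subtype.rTensor C y)) ∈ J • W := by
  induction y using TensorProduct.induction_on with
  | zero => exact ⟨∅, Set.finite_empty, fun m _ => by simp⟩
  | add x y hx hy =>
    obtain ⟨S, hS, hS'⟩ := hx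
    obtain ⟨S', hS2, hS2'⟩ := hy
    refine ⟨S ∪ S', hS.union hS2, fun m hm => ?_⟩
    rw [Set.mem_union, not_or] at hm
    simp only [map_add]
    exact Submodule.add_mem _ (hS' m hm.1) (hS2' m hm.2)
  | tmul w a =>
    refine ⟨{m | φ m a ∉ J}, hfin0 a, fun m hm => ?_⟩
    rw [Set.mem_setOf_eq, not_not] at hm
    rw [LinearMap.rTensor_tmul, LinearMap.lTensor_tmul, TensorProduct.rid_tmul]
    exact Submodule.smul_mem_smul hm w.2

include J in
theorem finite_support_of_idem (hJ : J ≤ Ideal.jacobson ⊥)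
    (hidem : ∀ m c, conv (φ m) (φ m) c = φ m c)
    (hfin0 : ∀ c, {m | φ m c ∉ J}.Finite) (c : C) : {m | φ m c ≠ 0}.Finite := by
  classical
  obtain ⟨W, hsub, hle, hfg⟩ := exists_fg_subcomod_ge_noeth (k := R) (A := C) (V := C)
    (R ∙ c) (Submodule.fg_span_singleton c)
  have hcW : c ∈ W := hle (Submodule.mem_span_singleton_self c)
  obtain ⟨s, hs⟩ := hfg
  have hgen : ∀ w ∈ s, ∃ S : Set M, S.Finite ∧ ∀ m ∉ S, opR (φ m) w ∈ J • W := by
    intro w hw
    have hwW : w ∈ W := by
      rw [← hs]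
      exact Submodule.subset_span hw
    obtain ⟨y, hy⟩ := hsub w hwW
    obtain ⟨S, hS, hS'⟩ := exists_finite_forall_mem_smul J φ hfin0 W y
    refine ⟨S, hS, fun m hm => ?_⟩
    have h1 := hS' m hm
    rw [hy] at h1
    exact h1
  choose S hSfin hS using hgen
  let T : Set M := ⋃ w : s, S w.1 w.2
  have hTfin : T.Finite := Set.finite_iUnion (fun w => hSfin w.1 w.2)
  refine hTfin.subset ?_
  intro m hm
  by_contra hmT
  apply hm
  have hall : ∀ w ∈ W, opR (φ m) w ∈ J • W := by
    intro w hw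
    rw [← hs] at hw
    refine Submodule.span_induction ?_ ?_ ?_ ?_ hw
    · intro x hx
      apply hS x hx m
      intro hmem
      exact hmT (Set.mem_iUnion.mpr ⟨⟨x, hx⟩, hmem⟩)
    · rw [map_zero]
      exact Submodule.zero_mem _
    · intro x y _ _ hx hy
      rw [map_add]
      exact Submodule.add_mem _ hx hy
    · intro r x _ hx
      rw [map_smul]
      exact Submodule.smul_mem _ _ hx
  have hidem' : ∀ x, opR (φ m) (opR (φ m) x) = opR (φ m) x := by
    intro x
    rw [opR_opR]
    have : conv (φ m) (φ m) = φ m := LinearMap.ext (hidem m)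
    rw [this]
  let N : Submodule R C := W.map (opR (φ m))
  have hNle : N ≤ J • N := by
    rintro x ⟨w, hw, rfl⟩
    rw [← hidem' w]
    have h1 : opR (φ m) w ∈ J • W := hall w hw
    have h2 : (J • W).map (opR (φ m)) = J • N := Submodule.map_smul'' _ _ _
    rw [← h2]
    exact ⟨_, h1, rfl⟩
  have hNfg : N.FG := Submodule.FG.map _ ⟨s, hs⟩
  have hN : N = ⊥ := Submodule.eq_bot_of_le_smul_of_le_jacobson_bot J N hNfg hNle hJ
  have h0 : opR (φ m) c = 0 := by
    have : opR (φ m) c ∈ N := ⟨c, hcW, rfl⟩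
    rw [hN] at this
    exact (Submodule.mem_bot R).mp this
  rw [← counit_opR (φ m) c, h0, map_zero]

end FinSupp

section CounitMap

variable {T T' : Type u} [CommRing T] [CommRing T'] {M : Type u} [CommGroup M]

theorem counit_mapRingHom (g : T →+* T') (x : MonoidAlgebra T M) :
    Coalgebra.counit (R := T') (MonoidAlgebra.mapRingHom M g x) =
      g (Coalgebra.counit (R := T) x) := by
  induction x using MonoidAlgebra.induction_linear with
  | zero => simp
  | add y z hy hz => rw [map_add, map_add, map_add, map_add, hy, hz]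
  | single m t =>
    rw [MonoidAlgebra.mapRingHom_single, MonoidAlgebra.counit_single, MonoidAlgebra.counit_single,
      CommSemiring.counit_apply, CommSemiring.counit_apply]

end CounitMap

section ALG

variable {R : Type u} [CommRing R] (J : Ideal R)
  {C : Type u} [CommRing C] [Bialgebra R C] {M : Type u} [CommGroup M]

/-- Separatedness of the group algebra. -/
theorem monoidAlgebra_eq_zero_of_forall_map [IsHausdorff J R] {x : MonoidAlgebra R M}
    (h : ∀ n : ℕ, MonoidAlgebra.mapRingHom M (Ideal.Quotient.mk (J ^ (n + 1))) x = 0) :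
    x = 0 := by
  apply MonoidAlgebra.coeff_injective
  ext m
  apply eq_of_forall_mk_eq J
  intro n
  have h1 := congrArg (fun y => y.coeff m) (h n)
  simp only [MonoidAlgebra.coeff_mapRingHom] at h1
  rw [h1]
  simp

theorem exists_algebraization [IsNoetherianRing R] [IsAdicComplete J R] [Module.Flat R C]
    (f : ∀ n : ℕ, (R ⧸ J ^ (n + 1)) ⊗[R] C →ₐc[R ⧸ J ^ (n + 1)]
      MonoidAlgebra (R ⧸ J ^ (n + 1)) M)
    (hf : ∀ n c, MonoidAlgebra.mapRingHom M
        (Ideal.Quotient.factor (Ideal.pow_le_pow_right (Nat.le_succ (n + 1))))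
        (f (n + 1) ((1 : R ⧸ J ^ (n + 1 + 1)) ⊗ₜ[R] c)) = f n ((1 : R ⧸ J ^ (n + 1)) ⊗ₜ[R] c)) :
    ∃ F : C →ₐc[R] MonoidAlgebra R M, ∀ n c,
      MonoidAlgebra.mapRingHom M (Ideal.Quotient.mk (J ^ (n + 1))) (F c) =
        f n ((1 : R ⧸ J ^ (n + 1)) ⊗ₜ[R] c) := by
  classical
  let ψ : ∀ n, M → (C →ₗ[R] R ⧸ J ^ (n + 1)) :=
    fun n m => coeffBC (f n).toCoalgHom.toLinearMap m
  have hψ : ∀ n m c, ψ n m c = (f n ((1 : R ⧸ J ^ (n + 1)) ⊗ₜ[R] c)).coeff m :=
    fun _ _ _ => rfl
  have hcompat : ∀ n m c,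
      Ideal.Quotient.factor (Ideal.pow_le_pow_right (Nat.le_succ (n + 1))) (ψ (n + 1) m c) =
        ψ n m c := by
    intro n m c
    rw [hψ, hψ, ← hf n c, MonoidAlgebra.coeff_mapRingHom]
  have hex : ∀ m c, ∃ L : R, ∀ n, Ideal.Quotient.mk (J ^ (n + 1)) L = ψ n m c :=
    fun m c => exists_limit J (fun n => ψ n m c) (fun n => hcompat n m c)
  choose φf hφf using hex
  have hsm : ∀ (n : ℕ) (r x : R), Ideal.Quotient.mk (J ^ (n + 1)) (r • x) =
      r • Ideal.Quotient.mk (J ^ (n + 1)) x := by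
    intro n r x
    rw [smul_eq_mul, map_mul, Algebra.smul_def, Ideal.Quotient.algebraMap_eq]
  let φ : M → (C →ₗ[R] R) := fun m =>
    { toFun := φf m
      map_add' := fun x y => by
        apply eq_of_forall_mk_eq J
        intro n
        rw [map_add, hφf, hφf, hφf, map_add]
      map_smul' := fun r x => by
        apply eq_of_forall_mk_eq J
        intro n
        rw [RingHom.id_apply, hsm, hφf, hφf, map_smul] }
  have hφ : ∀ m c n, Ideal.Quotient.mk (J ^ (n + 1)) (φ m c) = ψ n m c := fun m c n => hφf m c n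
  have hΔ : ∀ a b c, conv (φ a) (φ b) c = if a = b then φ b c else 0 := by
    intro a b c
    apply eq_of_forall_mk_eq J
    intro n
    have h1 := conv_coeffBC (f n).toCoalgHom a b c
    have h2 : ∀ w : C ⊗[R] C, Ideal.Quotient.mk (J ^ (n + 1))
        (LinearMap.mul' R R (TensorProduct.map (φ a) (φ b) w)) =
        LinearMap.mul' R (R ⧸ J ^ (n + 1)) (TensorProduct.map (ψ n a) (ψ n b) w) := by
      intro w
      induction w using TensorProduct.induction_on with
      | zero => simp
      | add x y hx hy => simp only [map_add, hx, hy]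
      | tmul x y =>
        rw [TensorProduct.map_tmul, TensorProduct.map_tmul, LinearMap.mul'_apply,
          LinearMap.mul'_apply, map_mul, hφ, hφ]
    rw [conv_apply, h2, h1]
    split_ifs
    · rw [hφ, hψ]
      rfl
    · rw [map_zero]
  have hfin0 : ∀ c, {m | φ m c ∉ J}.Finite := by
    intro c
    refine (f 0 ((1 : R ⧸ J ^ (0 + 1)) ⊗ₜ[R] c)).coeff.support.finite_toSet.subset ?_
    intro m hm
    rw [Finset.mem_coe, Finsupp.mem_support_iff]
    intro h0
    apply hm
    have h1 := hφ m c 0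
    rw [hψ, h0, Ideal.Quotient.eq_zero_iff_mem, zero_add, pow_one] at h1
    exact h1
  have hfin := finite_support_of_idem J φ (IsAdicComplete.le_jacobson_bot J)
    (fun m c => by rw [hΔ, if_pos rfl]) hfin0
  let Fl : C →ₗ[R] MonoidAlgebra R M :=
    { toFun := fun c => MonoidAlgebra.ofCoeff (Finsupp.ofSupportFinite (fun m => φ m c) (hfin c))
      map_add' := fun x y => by
        apply MonoidAlgebra.coeff_injective
        ext m
        simp [Finsupp.ofSupportFinite_coe]
      map_smul' := fun r x => by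
        apply MonoidAlgebra.coeff_injective
        ext m
        simp [Finsupp.ofSupportFinite_coe] }
  have hFl : ∀ c m, (Fl c).coeff m = φ m c := fun c m => rfl
  have hFn : ∀ n c, MonoidAlgebra.mapRingHom M (Ideal.Quotient.mk (J ^ (n + 1))) (Fl c) =
      f n ((1 : R ⧸ J ^ (n + 1)) ⊗ₜ[R] c) := by
    intro n c
    apply MonoidAlgebra.coeff_injective
    ext m
    rw [MonoidAlgebra.coeff_mapRingHom, hFl, hφ, hψ]
  have hone : Fl 1 = 1 := by
    apply sub_eq_zero.mp
    apply monoidAlgebra_eq_zero_of_forall_map J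
    intro n
    rw [map_sub, hFn, map_one, ← Algebra.TensorProduct.one_def, map_one, sub_self]
  have hmul : ∀ x y, Fl (x * y) = Fl x * Fl y := by
    intro x y
    apply sub_eq_zero.mp
    apply monoidAlgebra_eq_zero_of_forall_map J
    intro n
    have h1 : (1 : R ⧸ J ^ (n + 1)) ⊗ₜ[R] (x * y) =
        ((1 : R ⧸ J ^ (n + 1)) ⊗ₜ[R] x) * ((1 : R ⧸ J ^ (n + 1)) ⊗ₜ[R] y) := by
      rw [Algebra.TensorProduct.tmul_mul_tmul, mul_one]
    rw [map_sub, hFn, RingHom.map_mul, hFn, hFn, h1, map_mul, sub_self]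
  let Fa : C →ₐ[R] MonoidAlgebra R M := AlgHom.ofLinearMap Fl hone hmul
  have hFa : ∀ c, Fa c = Fl c := fun _ => rfl
  have hcounit : (Bialgebra.counitAlgHom R (MonoidAlgebra R M)).comp Fa =
      Bialgebra.counitAlgHom R C := by
    apply AlgHom.ext
    intro c
    apply eq_of_forall_mk_eq J
    intro n
    change Ideal.Quotient.mk (J ^ (n + 1)) (Coalgebra.counit (R := R) (Fl c)) =
      Ideal.Quotient.mk (J ^ (n + 1)) (Coalgebra.counit (R := R) c)
    rw [← counit_mapRingHom, hFn]
    have h1 : Coalgebra.counit (R := R ⧸ J ^ (n + 1)) (f n ((1 : R ⧸ J ^ (n + 1)) ⊗ₜ[R] c)) =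
        Coalgebra.counit (R := R ⧸ J ^ (n + 1)) ((1 : R ⧸ J ^ (n + 1)) ⊗ₜ[R] c) :=
      CoalgHomClass.counit_comp_apply (f n) _
    rw [h1, TensorProduct.counit_tmul, CommSemiring.counit_apply, Algebra.smul_def, mul_one,
      Ideal.Quotient.algebraMap_eq]
  have hcomul : (Algebra.TensorProduct.map Fa Fa).comp (Bialgebra.comulAlgHom R C) =
      (Bialgebra.comulAlgHom R (MonoidAlgebra R M)).comp Fa := by
    apply AlgHom.ext
    intro c
    apply sub_eq_zero.mp
    apply coeff2_eq_zero R
    intro a b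
    rw [map_sub, sub_eq_zero]
    have hca : ∀ m, coeffL R m ∘ₗ Fl = φ m := fun m => LinearMap.ext (fun c => hFl c m)
    have h1 : ((Algebra.TensorProduct.map Fa Fa).comp (Bialgebra.comulAlgHom R C)) c =
        TensorProduct.map Fl Fl (Coalgebra.comul (R := R) c) := rfl
    have h2 : ((Bialgebra.comulAlgHom R (MonoidAlgebra R M)).comp Fa) c =
        Coalgebra.comul (R := R) (Fl c) := rfl
    rw [h1, h2, coeff2_map, coeff2_comul, hca, hca, ← conv_apply, hΔ, hFl]
  exact ⟨BialgHom.ofAlgHom Fa hcounit hcomul, hFn⟩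

end ALG

end Groth.Agent.Lib.Helper25.Adic
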