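import Mathlib.RingTheory.Localization.Away.Basic
import Mathlib.RingTheory.Localization.Ideal
import Mathlib.RingTheory.Nilpotent.Basic
import Mathlib.RingTheory.Ideal.Quotient.Operations

/-!
# Localisation and quotients by nilpotent ideals (helper25)

The canonical map `R_f → (R/I)_{f̄}` is surjective and its kernel is contained in `I R_f`.
-/

set_option autoImplicit false
set_option linter.unusedSectionVars false
universe u

namespace Groth.Agent.Lib.Helper25.EtaleLift

section AwayQuot

variable {R : Type u} [CommRing R] (I : Ideal R) (f : R)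

theorem powers_le_comap :
    Submonoid.powers f ≤
      (Submonoid.powers (Ideal.Quotient.mk I f)).comap (Ideal.Quotient.mk I) := by
  rintro _ ⟨n, rfl⟩
  exact ⟨n, (map_pow _ _ _).symm⟩

/-- The canonical map `R_f → (R/I)_{f̄}`. -/
noncomputable def awayQuot :
    Localization.Away f →+* Localization.Away (Ideal.Quotient.mk I f) :=
  IsLocalization.map (Localization.Away (Ideal.Quotient.mk I f)) (Ideal.Quotient.mk I)
    (powers_le_comap I f)

theorem awayQuot_algebraMap (r : R) :
    awayQuot I f (algebraMap R (Localization.Away f) r) =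
      algebraMap (R ⧸ I) (Localization.Away (Ideal.Quotient.mk I f)) (Ideal.Quotient.mk I r) :=
  IsLocalization.map_eq (powers_le_comap I f) r

theorem awayQuot_mk' (x : R) (y : Submonoid.powers f) :
    awayQuot I f (IsLocalization.mk' (Localization.Away f) x y) =
      IsLocalization.mk' (Localization.Away (Ideal.Quotient.mk I f)) (Ideal.Quotient.mk I x)
        (⟨Ideal.Quotient.mk I y, powers_le_comap I f y.2⟩ :
          Submonoid.powers (Ideal.Quotient.mk I f)) :=
  IsLocalization.map_mk' (powers_le_comap I f) x y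

theorem awayQuot_surjective : Function.Surjective (awayQuot I f) := by
  intro z
  obtain ⟨x, ⟨_, n, rfl⟩, rfl⟩ := IsLocalization.exists_mk'_eq
    (Submonoid.powers (Ideal.Quotient.mk I f)) z
  obtain ⟨x₀, rfl⟩ := Ideal.Quotient.mk_surjective x
  refine ⟨IsLocalization.mk' (Localization.Away f) x₀ (⟨f ^ n, n, rfl⟩ : Submonoid.powers f), ?_⟩
  rw [awayQuot_mk']
  congr 1

theorem ker_awayQuot_le :
    RingHom.ker (awayQuot I f) ≤ Ideal.map (algebraMap R (Localization.Away f)) I := by
  intro z hz
  obtain ⟨x, s, rfl⟩ := IsLocalization.exists_mk'_eq (Submonoid.powers f) z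
  rw [RingHom.mem_ker, awayQuot_mk', IsLocalization.mk'_eq_zero_iff] at hz
  obtain ⟨⟨_, k, rfl⟩, hk⟩ := hz
  rw [IsLocalization.mk'_mem_map_algebraMap_iff (Submonoid.powers f)]
  refine ⟨f ^ k, ⟨k, rfl⟩, ?_⟩
  rw [← Ideal.Quotient.eq_zero_iff_mem, map_mul, map_pow]
  exact hk

theorem isNilpotent_ker_awayQuot (hI : IsNilpotent I) :
    IsNilpotent (RingHom.ker (awayQuot I f)) := by
  obtain ⟨n, hn⟩ := hI
  refine ⟨n, ?_⟩
  have h1 := Ideal.pow_right_mono (ker_awayQuot_le I f) n
  rw [← Ideal.map_pow, hn, Ideal.zero_eq_bot, Ideal.map_bot] at h1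
  exact le_bot_iff.mp h1

end AwayQuot

section SpanLift

variable {R : Type u} [CommRing R] (I : Ideal R) (hI : IsNilpotent I)

include hI in
/-- A subset of `R` whose image generates the unit ideal of `R/I` generates the unit ideal. -/
theorem span_preimage_eq_top (sbar : Set (R ⧸ I)) (hs : Ideal.span sbar = ⊤) :
    Ideal.span ((Ideal.Quotient.mk I) ⁻¹' sbar) = ⊤ := by
  set s := (Ideal.Quotient.mk I) ⁻¹' sbar with hsdef
  have h1 : Ideal.map (Ideal.Quotient.mk I) (Ideal.span s) = ⊤ := by
    rw [Ideal.map_span, Set.image_preimage_eq _ Ideal.Quotient.mk_surjective, hs]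
  -- hence `span s ⊔ I = ⊤`
  have h2 : Ideal.span s ⊔ I = ⊤ := by
    have := Ideal.comap_map_of_surjective (Ideal.Quotient.mk I) Ideal.Quotient.mk_surjective
      (Ideal.span s)
    rw [h1, Ideal.comap_top] at this
    rw [this]
    congr 1
    rw [← RingHom.ker_eq_comap_bot, Ideal.mk_ker]
  rw [Ideal.eq_top_iff_one] at h2 ⊢
  obtain ⟨x, hx, i, hi, hxi⟩ := Submodule.mem_sup.mp h2
  have hnil : IsNilpotent i := by
    obtain ⟨n, hn⟩ := hI
    refine ⟨n, ?_⟩
    have := Ideal.pow_mem_pow hi n
    rwa [hn] at this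
  have hx' : x = 1 - i := by rw [← hxi]; ring
  have hu : IsUnit x := by rw [hx']; exact hnil.isUnit_one_sub
  exact (Ideal.eq_top_of_isUnit_mem _ hx hu) ▸ Submodule.mem_top

end SpanLift

end Groth.Agent.Lib.Helper25.EtaleLift
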