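import Groth.Agent.Lib.Helper25FlatDefE
import Groth.Agent.Lib.Helper25MultBC

/-!
# Flat deformation lemma, surjective form (helper25)
-/

set_option autoImplicit false
set_option linter.unusedSectionVars false
set_option linter.style.haveILetI false
universe u

namespace Groth.Agent.Lib.Helper25.FlatDef

open TensorProduct Groth.Agent.Lib.Helper25

/-- A flat Hopf algebra over `R` which becomes diagonalisable over a quotient `S` of `R` by a
nilpotent ideal is diagonalisable. -/
theorem isDiag_of_flat_of_surjective (R : Type u) [CommRing R] (A : Type u) [CommRing A]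
    [HopfAlgebra R A] [Module.Flat R A] (S : Type u) [CommRing S] [Algebra R S]
    (hs : Function.Surjective (algebraMap R S))
    (hK : IsNilpotent (RingHom.ker (algebraMap R S)))
    (h : SGA3b.IsDiag S (S ⊗[R] A)) : SGA3b.IsDiag R A := by
  set I : Ideal R := RingHom.ker (algebraMap R S) with hI
  let ψ : R ⧸ I ≃+* S := RingHom.quotientKerEquivOfSurjective hs
  letI : Algebra S (R ⧸ I) := ψ.symm.toRingHom.toAlgebra
  haveI : IsScalarTower R S (R ⧸ I) := by
    apply IsScalarTower.of_algebraMap_eq
    intro r
    change Ideal.Quotient.mk I r = ψ.symm (algebraMap R S r)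
    rw [RingEquiv.eq_symm_apply]
    rfl
  have h1 : SGA3b.IsDiag (R ⧸ I) ((R ⧸ I) ⊗[R] A) :=
    BCB.isDiag_baseChange_of_tower R A S (R ⧸ I) h
  exact isDiag_of_flat_of_isDiag_mod_nilpotent R A I hK h1

end Groth.Agent.Lib.Helper25.FlatDef
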