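import Groth.Agent.Lib.Helper25EtaleLiftC
import Groth.Agent.Lib.Helper25EtaleLiftD
import Groth.Agent.Lib.Helper25FlatDefF

/-!
# Lifting étale trivialisations along nilpotent thickenings (helper25)
-/

set_option autoImplicit false
set_option linter.unusedSectionVars false
set_option linter.style.haveILetI false
universe u

namespace Groth.Agent.Lib.Helper25.EtaleLift

open TensorProduct Groth.Agent.Lib.Helper25 Groth.Agent.Lib.Helper25.BCB

theorem exists_etale_diag_lift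
    (R : Type u) [CommRing R] (A : Type u) [CommRing A] [HopfAlgebra R A] [Module.Flat R A]
    (B : Type u) [CommRing B] [Algebra R B]
    (Bb : Type u) [CommRing Bb] [Algebra B Bb] [Algebra R Bb] [IsScalarTower R B Bb]
    (hπ : Function.Surjective (algebraMap B Bb))
    (hJ : IsNilpotent (RingHom.ker (algebraMap B Bb)))
    (Bb' : Type u) [CommRing Bb'] [Algebra Bb Bb'] [Algebra R Bb'] [IsScalarTower R Bb Bb']
    [Algebra.Etale Bb Bb'] [Module.FaithfullyFlat Bb Bb']
    (hD : SGA3b.IsDiag Bb' (Bb' ⊗[R] A)) :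
    ∃ (B'' : Type u) (_ : CommRing B'') (_ : Algebra B B''),
      Algebra.Etale B B'' ∧ Module.FaithfullyFlat B B'' ∧
        SGA3b.IsDiag B'' (B'' ⊗[B] (B ⊗[R] A)) := by
  obtain ⟨B'', _, _, Bb'', _, _, Θ, het, hff, hsurj, hnil, hΘ⟩ :=
    exists_etale_cover_lift hπ hJ Bb'
  letI : Algebra B'' Bb'' := Θ.toAlgebra
  letI : Algebra R Bb'' := ((algebraMap Bb' Bb'').comp (algebraMap R Bb')).toAlgebra
  haveI : IsScalarTower R Bb' Bb'' := IsScalarTower.of_algebraMap_eq (fun _ => rfl)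
  letI : Algebra B Bb'' := ((algebraMap B'' Bb'').comp (algebraMap B B'')).toAlgebra
  haveI : IsScalarTower B B'' Bb'' := IsScalarTower.of_algebraMap_eq (fun _ => rfl)
  haveI : IsScalarTower R B Bb'' := by
    apply IsScalarTower.of_algebraMap_eq
    intro r
    change algebraMap Bb' Bb'' (algebraMap R Bb' r) = Θ (algebraMap B B'' (algebraMap R B r))
    rw [hΘ, ← IsScalarTower.algebraMap_apply R B Bb, ← IsScalarTower.algebraMap_apply R Bb Bb']
  have hD1 : SGA3b.IsDiag Bb'' (Bb'' ⊗[R] A) := isDiag_baseChange_of_tower R A Bb' Bb'' hD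
  have hD2 : SGA3b.IsDiag Bb'' (Bb'' ⊗[B] (B ⊗[R] A)) :=
    isDiag_of_equiv (cancelBC R B Bb'' A) hD1
  have hD3 : SGA3b.IsDiag Bb'' (Bb'' ⊗[B''] (B'' ⊗[B] (B ⊗[R] A))) :=
    isDiag_of_equiv (cancelBC B B'' Bb'' (B ⊗[R] A)) hD2
  exact ⟨B'', inferInstance, inferInstance, het, hff,
    FlatDef.isDiag_of_flat_of_surjective B'' (B'' ⊗[B] (B ⊗[R] A)) Bb'' hsurj hnil hD3⟩

end Groth.Agent.Lib.Helper25.EtaleLift
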