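import Groth.Agent.Lib.Helper25DescDatumA
import Groth.Agent.Lib.Helper25MTGlueA

/-!
# The descent datum of a trivialised Hopf algebra (helper25)
-/

set_option autoImplicit false
set_option linter.unusedSectionVars false
set_option linter.style.haveILetI false
universe u

namespace Groth.Agent.Lib.Helper25.Desc

open TensorProduct Groth.Agent.Lib.Helper25 DescGL

/-- A Hopf algebra trivialised over a finite jointly faithfully flat family. -/
structure Triv (K : Type u) [CommRing K] (B : Type u) [CommRing B] [HopfAlgebra K B] where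
  ι : Type u
  [fin : Fintype ι]
  [dec : DecidableEq ι]
  Q : ι → Type u
  [cr : ∀ i, CommRing (Q i)]
  [alg : ∀ i, Algebra K (Q i)]
  M : ι → Type u
  [grp : ∀ i, CommGroup (M i)]
  flat : ∀ i, Module.Flat K (Q i)
  ff : Module.FaithfullyFlat K (∀ i, Q i)
  ε : ∀ i, Q i ⊗[K] B ≃ₐc[Q i] MonoidAlgebra (Q i) (M i)

attribute [instance] Triv.fin Triv.dec Triv.cr Triv.alg Triv.grp

namespace Triv

variable {K : Type u} [CommRing K] {B : Type u} [CommRing B] [HopfAlgebra K B] (V : Triv K B)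

/-- Base change of the trivialisation along a point. -/
noncomputable def bcε (i : V.ι) (T : Type u) [CommRing T] [Algebra K T] (a : V.Q i →ₐ[K] T) :
    T ⊗[K] B ≃ₐc[T] MonoidAlgebra T (V.M i) :=
  letI : Algebra (V.Q i) T := a.toRingHom.toAlgebra
  haveI : IsScalarTower K (V.Q i) T := IsScalarTower.of_algebraMap_eq (fun r => (a.commutes r).symm)
  MTGlue.bcDiag K (V.Q i) T (V.ε i)

theorem bcε_one_tmul (i : V.ι) (T : Type u) [CommRing T] [Algebra K T] (a : V.Q i →ₐ[K] T)
    (x : B) : V.bcε i T a ((1 : T) ⊗ₜ[K] x) =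
      MonoidAlgebra.mapRingHom (V.M i) a.toRingHom (V.ε i ((1 : V.Q i) ⊗ₜ[K] x)) := by
  letI : Algebra (V.Q i) T := a.toRingHom.toAlgebra
  haveI : IsScalarTower K (V.Q i) T := IsScalarTower.of_algebraMap_eq (fun r => (a.commutes r).symm)
  exact MTGlue.bcDiag_one_tmul K (V.Q i) T (V.ε i) x

/-- Bialgebra maps out of `T[M j]` are determined on the image of `B`. -/
theorem hom_ext_B (j : V.ι) (T : Type u) [CommRing T] [Algebra K T] (b : V.Q j →ₐ[K] T)
    {X : Type u} [CommRing X] [Bialgebra T X] (Φ Φ' : MonoidAlgebra T (V.M j) →ₐc[T] X)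
    (h : ∀ x : B, Φ (V.bcε j T b ((1 : T) ⊗ₜ[K] x)) = Φ' (V.bcε j T b ((1 : T) ⊗ₜ[K] x))) :
    Φ = Φ' := by
  apply BialgHom.ext
  intro y
  obtain ⟨z, rfl⟩ : ∃ z, V.bcε j T b z = y :=
    ⟨(V.bcε j T b).symm y, BialgEquiv.apply_symm_apply _ y⟩
  induction z using TensorProduct.induction_on with
  | zero => rw [map_zero, map_zero, map_zero]
  | add x y hx hy => rw [map_add, map_add, map_add, hx, hy]
  | tmul t x =>
    have : t ⊗ₜ[K] x = t • ((1 : T) ⊗ₜ[K] x) := by
      rw [TensorProduct.smul_tmul', smul_eq_mul, mul_one]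
    rw [this, map_smul, map_smul, map_smul, h]

/-- The transition maps. -/
noncomputable def trans (i j : V.ι) (T : Type u) [CommRing T] [Algebra K T] (a : V.Q i →ₐ[K] T)
    (b : V.Q j →ₐ[K] T) : MonoidAlgebra T (V.M j) →ₐc[T] MonoidAlgebra T (V.M i) :=
  (V.bcε i T a).toBialgHom.comp (V.bcε j T b).symm.toBialgHom

theorem trans_eq (i j : V.ι) (T : Type u) [CommRing T] [Algebra K T] (a : V.Q i →ₐ[K] T)
    (b : V.Q j →ₐ[K] T) (y : MonoidAlgebra T (V.M j)) :
    V.trans i j T a b y = V.bcε i T a ((V.bcε j T b).symm y) := rfl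

theorem trans_bcε (i j : V.ι) (T : Type u) [CommRing T] [Algebra K T] (a : V.Q i →ₐ[K] T)
    (b : V.Q j →ₐ[K] T) (z : T ⊗[K] B) :
    V.trans i j T a b (V.bcε j T b z) = V.bcε i T a z := by
  rw [trans_eq, BialgEquiv.symm_apply_apply]

/-- The transition property on elements of `B`. -/
theorem trans_apply (i j : V.ι) (T : Type u) [CommRing T] [Algebra K T] (a : V.Q i →ₐ[K] T)
    (b : V.Q j →ₐ[K] T) (x : B) :
    V.trans i j T a b
        (MonoidAlgebra.mapRingHom (V.M j) b.toRingHom (V.ε j ((1 : V.Q j) ⊗ₜ[K] x))) =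
      MonoidAlgebra.mapRingHom (V.M i) a.toRingHom (V.ε i ((1 : V.Q i) ⊗ₜ[K] x)) := by
  rw [← bcε_one_tmul, ← bcε_one_tmul, trans_bcε]

/-- The descent datum of a trivialised Hopf algebra. -/
@[reducible] noncomputable def datum : Datum K where
  ι := V.ι
  P := V.Q
  M := V.M
  flat := V.flat
  ff := V.ff
  Ψ i j T _ _ a b := V.trans i j T a b
  nat i j T T' _ _ _ _ f a b := by
    apply V.hom_ext_B j T' (f.comp b)
    intro x
    rw [trans_bcε, bcε_one_tmul, bcε_one_tmul]
    have h1 : MonoidAlgebra.mapRingHom (V.M j) (f.comp b).toRingHom (V.ε j ((1 : V.Q j) ⊗ₜ[K] x)) =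
        MonoidAlgebra.mapRingHom (V.M j) f.toRingHom
          (MonoidAlgebra.mapRingHom (V.M j) b.toRingHom (V.ε j ((1 : V.Q j) ⊗ₜ[K] x))) := by
      apply MonoidAlgebra.coeff_injective
      ext m
      simp only [MonoidAlgebra.coeff_mapRingHom]
      rfl
    have h2 : MonoidAlgebra.mapRingHom (V.M i) (f.comp a).toRingHom (V.ε i ((1 : V.Q i) ⊗ₜ[K] x)) =
        MonoidAlgebra.mapRingHom (V.M i) f.toRingHom
          (MonoidAlgebra.mapRingHom (V.M i) a.toRingHom (V.ε i ((1 : V.Q i) ⊗ₜ[K] x))) := by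
      apply MonoidAlgebra.coeff_injective
      ext m
      simp only [MonoidAlgebra.coeff_mapRingHom]
      rfl
    rw [h1, h2, bcHom_mapRingHom, trans_apply]
  id i T _ _ a := by
    apply BialgHom.ext
    intro y
    rw [trans_eq, BialgEquiv.apply_symm_apply]
    rfl
  cocycle i j k T _ _ a b c := by
    apply BialgHom.ext
    intro y
    rw [BialgHom.comp_apply, trans_eq, trans_eq, trans_eq, BialgEquiv.symm_apply_apply]

theorem datum_Ψ (i j : V.ι) (T : Type u) [CommRing T] [Algebra K T] (a : V.Q i →ₐ[K] T)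
    (b : V.Q j →ₐ[K] T) : V.datum.Ψ i j T a b = V.trans i j T a b := rfl

/-- The family `(ε i (1 ⊗ x))` lies in the descended algebra. -/
theorem mem_A (x : B) :
    (fun i => V.ε i ((1 : V.Q i) ⊗ₜ[K] x) : ∀ i, V.datum.N i) ∈ V.datum.A := by
  rw [Datum.mem_A_iff]
  intro i j
  rw [Datum.resR_apply, Datum.resL_apply]
  exact V.trans_apply i j _ _ _ x

end Triv

end Groth.Agent.Lib.Helper25.Desc
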