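import Groth.Agent.Lib.Helper25DescRepD
import Groth.Agent.Lib.Helper25DescTriv

/-!
# Uniqueness of descent: a trivialised Hopf algebra is the descended algebra of its datum (helper25)
-/

set_option autoImplicit false
set_option linter.unusedSectionVars false
set_option linter.style.haveILetI false
universe u

namespace Groth.Agent.Lib.Helper25.Desc

open TensorProduct Groth.Agent.Lib.Helper25 DescGL DescY

section FF

variable {K : Type u} [CommRing K] {ι : Type u} [Fintype ι] [DecidableEq ι]
  (S : ι → Type u) [∀ i, CommRing (S i)] [∀ i, Algebra K (S i)]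
  [Module.FaithfullyFlat K (∀ i, S i)]

/-- A linear map which is injective after each base change of a jointly faithfully flat family is
injective. -/
theorem injective_of_forall_lTensor {X Y : Type u} [AddCommGroup X] [Module K X]
    [AddCommGroup Y] [Module K Y] (f : X →ₗ[K] Y)
    (h : ∀ k, Function.Injective (f.lTensor (S k))) : Function.Injective f := by
  rw [injective_iff_map_eq_zero]
  intro x hx
  apply FamDesc.eq_zero_of_forall_one_tmul (R := K) S X x
  intro k
  apply h k
  rw [LinearMap.lTensor_tmul, hx, TensorProduct.tmul_zero, map_zero]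

/-- A linear map which is surjective after each base change of a jointly faithfully flat family is
surjective. -/
theorem surjective_of_forall_lTensor {X Y : Type u} [AddCommGroup X] [Module K X]
    [AddCommGroup Y] [Module K Y] (f : X →ₗ[K] Y)
    (h : ∀ k, Function.Surjective (f.lTensor (S k))) : Function.Surjective f := by
  intro y
  have h0 : (LinearMap.range f).mkQ y = 0 := by
    apply FamDesc.eq_zero_of_forall_one_tmul (R := K) S (Y ⧸ LinearMap.range f)
    intro k
    obtain ⟨z, hz⟩ := h k ((1 : S k) ⊗ₜ[K] y)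
    have h1 : (1 : S k) ⊗ₜ[K] (LinearMap.range f).mkQ y =
        ((LinearMap.range f).mkQ).lTensor (S k) ((1 : S k) ⊗ₜ[K] y) := by
      rw [LinearMap.lTensor_tmul]
    rw [h1, ← hz, ← LinearMap.comp_apply, ← LinearMap.lTensor_comp]
    have h2 : (LinearMap.range f).mkQ ∘ₗ f = 0 := by
      apply LinearMap.ext
      intro x
      rw [LinearMap.comp_apply, LinearMap.zero_apply, Submodule.mkQ_apply,
        Submodule.Quotient.mk_eq_zero]
      exact LinearMap.mem_range_self f x
    rw [h2, LinearMap.lTensor_zero, LinearMap.zero_apply]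
  rw [Submodule.mkQ_apply, Submodule.Quotient.mk_eq_zero] at h0
  exact h0

end FF

section FFB

variable {K : Type u} [CommRing K] {ι : Type u} [Fintype ι] [DecidableEq ι]
  (S : ι → Type u) [∀ i, CommRing (S i)] [∀ i, Algebra K (S i)]
  [Module.FaithfullyFlat K (∀ i, S i)]
  {B B' : Type u} [CommRing B] [HopfAlgebra K B] [CommRing B'] [HopfAlgebra K B']

theorem algHom_ext_of_forall_includeRight {T : Type u} [CommRing T] [Algebra K T]
    {φ ψ : B →ₐ[K] T}
    (h : ∀ k, (Algebra.TensorProduct.includeRight : T →ₐ[K] S k ⊗[K] T).comp φ =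
      (Algebra.TensorProduct.includeRight : T →ₐ[K] S k ⊗[K] T).comp ψ) : φ = ψ := by
  apply AlgHom.ext
  intro b
  rw [← sub_eq_zero]
  apply FamDesc.eq_zero_of_forall_one_tmul (R := K) S T
  intro k
  rw [TensorProduct.tmul_sub, sub_eq_zero]
  exact congrArg (fun F => F b) (h k)

/-- An algebra map which becomes a bialgebra map after each base change of a jointly faithfully
flat family is a bialgebra map. -/
theorem exists_bialgHom_of_forall_baseChange (f : B →ₐ[K] B')
    (h : ∀ k, ∃ F : S k ⊗[K] B →ₐc[S k] S k ⊗[K] B',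
      ∀ b : B, F ((1 : S k) ⊗ₜ[K] b) = (1 : S k) ⊗ₜ[K] f b) :
    ∃ F : B →ₐc[K] B', ∀ b, F b = f b := by
  apply exists_bialgHom_of_conv f
  intro T _ _ φ ψ
  apply algHom_ext_of_forall_includeRight S
  intro k
  obtain ⟨F, hF⟩ := h k
  set j : T →ₐ[K] S k ⊗[K] T := Algebra.TensorProduct.includeRight with hj
  -- the extended points
  set φ' : S k ⊗[K] B' →ₐ[S k] S k ⊗[K] T :=
    Algebra.TensorProduct.map (AlgHom.id (S k) (S k)) φ with hφ'
  set ψ' : S k ⊗[K] B' →ₐ[S k] S k ⊗[K] T :=
    Algebra.TensorProduct.map (AlgHom.id (S k) (S k)) ψ with hψ'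
  have hrφ : restrPt (S k) B' φ' = j.comp φ := by
    apply AlgHom.ext
    intro b
    rw [restrPt_apply, hφ', Algebra.TensorProduct.map_tmul]
    rfl
  have hrψ : restrPt (S k) B' ψ' = j.comp ψ := by
    apply AlgHom.ext
    intro b
    rw [restrPt_apply, hψ', Algebra.TensorProduct.map_tmul]
    rfl
  have hrF : ∀ χ : S k ⊗[K] B' →ₐ[S k] S k ⊗[K] T,
      restrPt (S k) B (χ.comp (F : S k ⊗[K] B →ₐ[S k] S k ⊗[K] B')) =
        (restrPt (S k) B' χ).comp f := by
    intro χ
    apply AlgHom.ext
    intro b
    rw [restrPt_apply, AlgHom.comp_apply, AlgHom.comp_apply, restrPt_apply]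
    congr 1
    exact hF b
  calc j.comp ((WithConv.ofConv (WithConv.toConv φ * WithConv.toConv ψ)).comp f)
      = (j.comp (WithConv.ofConv (WithConv.toConv φ * WithConv.toConv ψ))).comp f := rfl
    _ = (WithConv.ofConv (WithConv.toConv (j.comp φ) * WithConv.toConv (j.comp ψ))).comp f := by
        rw [AlgHom.comp_convMul_distrib]
    _ = (restrPt (S k) B' (WithConv.ofConv (WithConv.toConv φ' * WithConv.toConv ψ'))).comp f := by
        rw [restrPt_convMul, hrφ, hrψ]
    _ = restrPt (S k) B ((WithConv.ofConv (WithConv.toConv φ' * WithConv.toConv ψ')).comp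
          (F : S k ⊗[K] B →ₐ[S k] S k ⊗[K] B')) := (hrF _).symm
    _ = restrPt (S k) B (WithConv.ofConv (WithConv.toConv (φ'.comp
          (F : S k ⊗[K] B →ₐ[S k] S k ⊗[K] B')) * WithConv.toConv (ψ'.comp
          (F : S k ⊗[K] B →ₐ[S k] S k ⊗[K] B')))) := by
        rw [AlgHom.convMul_comp_bialgHom_distrib]
    _ = WithConv.ofConv (WithConv.toConv ((j.comp φ).comp f) *
          WithConv.toConv ((j.comp ψ).comp f)) := by
        rw [restrPt_convMul, hrF, hrF, hrφ, hrψ]
    _ = j.comp (WithConv.ofConv (WithConv.toConv (φ.comp f) * WithConv.toConv (ψ.comp f))) := by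
        rw [AlgHom.comp_convMul_distrib]
        rfl

end FFB

namespace Datum

variable {K : Type u} [CommRing K] (D : Datum K) {B : Type u} [CommRing B] [HopfAlgebra K B]
  (ε : ∀ i, D.P i ⊗[K] B ≃ₐc[D.P i] D.N i)

/-- The comparison map to the product of the local models. -/
noncomputable def toPi : B →ₐ[K] ∀ i, D.N i :=
  AlgHom.pi (fun i =>
    ((ε i).toBialgHom.toAlgHom.restrictScalars K).comp
      (Algebra.TensorProduct.includeRight : B →ₐ[K] D.P i ⊗[K] B))

theorem toPi_apply (x : B) (i : D.ι) : D.toPi ε x i = ε i ((1 : D.P i) ⊗ₜ[K] x) := rfl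

variable (hmem : ∀ x : B, D.toPi ε x ∈ D.A)

/-- The comparison map from a trivialised Hopf algebra to the descended algebra. -/
noncomputable def toA : B →ₐ[K] D.A :=
  (D.toPi ε).codRestrict D.A hmem

theorem c_toA (k : D.ι) (x : B) : D.c k (D.toA ε hmem x) = ε k ((1 : D.P k) ⊗ₜ[K] x) := rfl

theorem β_lTensor_toA (k : D.ι) (z : D.P k ⊗[K] B) :
    D.β k ((D.toA ε hmem).toLinearMap.lTensor (D.P k) z) = ε k z := by
  induction z using TensorProduct.induction_on with
  | zero => rw [map_zero, map_zero, map_zero]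
  | add x y hx hy => rw [map_add, map_add, map_add, hx, hy]
  | tmul q x =>
    rw [LinearMap.lTensor_tmul]
    change D.β k (q ⊗ₜ[K] D.toA ε hmem x) = _
    rw [Datum.β_tmul, c_toA]
    have : q ⊗ₜ[K] x = q • ((1 : D.P k) ⊗ₜ[K] x) := by
      rw [TensorProduct.smul_tmul', smul_eq_mul, mul_one]
    rw [this, map_smul]

theorem toA_bijective : Function.Bijective (D.toA ε hmem) := by
  haveI := D.ff
  constructor
  · apply injective_of_forall_lTensor D.P (D.toA ε hmem).toLinearMap
    intro k z z' h
    have := congrArg (D.β k) h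
    rw [β_lTensor_toA, β_lTensor_toA] at this
    exact (ε k).injective this
  · apply surjective_of_forall_lTensor D.P (D.toA ε hmem).toLinearMap
    intro k w
    refine ⟨(ε k).symm (D.β k w), ?_⟩
    apply D.β_injective k
    rw [β_lTensor_toA, BialgEquiv.apply_symm_apply]

theorem exists_toA_bialgHom : ∃ F : B →ₐc[K] D.A, ∀ b, F b = D.toA ε hmem b := by
  haveI := D.ff
  apply exists_bialgHom_of_forall_baseChange D.P (D.toA ε hmem)
  intro k
  refine ⟨(D.βBialgEquiv k).symm.toBialgHom.comp (ε k).toBialgHom, ?_⟩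
  intro b
  change (D.βBialgEquiv k).symm (ε k ((1 : D.P k) ⊗ₜ[K] b)) = _
  rw [← c_toA D ε hmem, ← Datum.βBialgEquiv_one_tmul, BialgEquiv.symm_apply_apply]

include ε hmem in
/-- A Hopf algebra trivialised compatibly with a descent datum is isomorphic to the descended
algebra. -/
theorem nonempty_equiv_of_triv : Nonempty (B ≃ₐc[K] D.A) := by
  obtain ⟨F, hF⟩ := D.exists_toA_bialgHom ε hmem
  refine ⟨BialgEquiv.ofBijective F ?_⟩
  have : ⇑F = ⇑(D.toA ε hmem) := funext hF
  rw [this]
  exact D.toA_bijective ε hmem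

end Datum

end Groth.Agent.Lib.Helper25.Desc
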