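import Groth.Agent.Lib.Helper25HomLiftA
import Groth.Agent.Lib.Helper25DescUniq

/-!
# Lifting homomorphisms between trivialised groups along ideals with idempotent lifting (helper25)

`homLift`: let `B`, `C` be Hopf algebras over `R` which become group algebras over a faithfully flat
`R'`, and `J` an ideal of `R` such that idempotents lift uniquely along `J R'` and `J (R' ⊗ R')`.
Then reduction modulo `J` is bijective on bialgebra maps `C → B`.
-/

set_option autoImplicit false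
set_option linter.unusedSectionVars false
set_option linter.style.haveILetI false
universe u

namespace Groth.Agent.Lib.Helper25.HomLift

open TensorProduct SGA3b Groth.Agent.Lib.Helper25 DescGL DescLift BCB

section Local

variable {R : Type u} [CommRing R] (J : Ideal R) {B C : Type u} [CommRing B] [CommRing C]
  [HopfAlgebra R B] [HopfAlgebra R C]
  {T : Type u} [CommRing T] [Algebra R T] {M N : Type u} [CommGroup M] [CommGroup N]
  (eB : T ⊗[R] B ≃ₐc[T] MonoidAlgebra T M) (eC : T ⊗[R] C ≃ₐc[T] MonoidAlgebra T N)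

/-- The reduction map `T → T / J T` as an `R`-algebra map. -/
abbrev red (T : Type u) [CommRing T] [Algebra R T] :
    T →ₐ[R] T ⧸ J.map (algebraMap R T) :=
  IsScalarTower.toAlgHom R T (T ⧸ J.map (algebraMap R T))

theorem ker_algebraMap_quot :
    RingHom.ker (algebraMap T (T ⧸ J.map (algebraMap R T))) = J.map (algebraMap R T) := by
  rw [Ideal.Quotient.algebraMap_eq, Ideal.mk_ker]

include eB eC in
/-- Uniqueness of lifts over a trivialising algebra. -/
theorem unique_of_triv (hIL : IdemLift (J.map (algebraMap R T)))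
    {f f' : T ⊗[R] C →ₐc[T] T ⊗[R] B}
    {g₀ : (T ⧸ J.map (algebraMap R T)) ⊗[R] C →ₐc[T ⧸ J.map (algebraMap R T)]
      (T ⧸ J.map (algebraMap R T)) ⊗[R] B}
    (h : IsBC (red J T) f g₀) (h' : IsBC (red J T) f' g₀) : f = f' := by
  apply toGA_injective eB eC
  apply bialgHom_lift_unique (algebraMap T (T ⧸ J.map (algebraMap R T)))
  · rw [ker_algebraMap_quot]
    exact hIL
  · rw [← toGA_of_isBC eB eC h, ← toGA_of_isBC eB eC h']

include eB eC in
/-- Existence of lifts over a trivialising algebra. -/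
theorem exists_of_triv (hIL : IdemLift (J.map (algebraMap R T)))
    (g₀ : (T ⧸ J.map (algebraMap R T)) ⊗[R] C →ₐc[T ⧸ J.map (algebraMap R T)]
      (T ⧸ J.map (algebraMap R T)) ⊗[R] B) :
    ∃ f : T ⊗[R] C →ₐc[T] T ⊗[R] B, IsBC (red J T) f g₀ := by
  have hsurj : Function.Surjective (algebraMap T (T ⧸ J.map (algebraMap R T))) := by
    rw [Ideal.Quotient.algebraMap_eq]
    exact Ideal.Quotient.mk_surjective
  have hIL' : IdemLift (RingHom.ker (algebraMap T (T ⧸ J.map (algebraMap R T)))) := by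
    rw [ker_algebraMap_quot]
    exact hIL
  obtain ⟨Φ, hΦ⟩ := exists_bialgHom_lift (algebraMap T (T ⧸ J.map (algebraMap R T))) hsurj hIL'
    (toGA (MTGlue.bcDiag R T (T ⧸ J.map (algebraMap R T)) eB)
      (MTGlue.bcDiag R T (T ⧸ J.map (algebraMap R T)) eC) g₀)
  refine ⟨ofGA eB eC Φ, ?_⟩
  have h1 := isBC_ofGA (T' := T ⧸ J.map (algebraMap R T)) eB eC Φ
  rw [hΦ, ofGA_toGA] at h1
  exact h1

end Local

section Refl

variable {R : Type u} [CommRing R] (J : Ideal R) (B : Type u) [CommRing B] [HopfAlgebra R B]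
  (R' : Type u) [CommRing R'] [Algebra R R'] [Module.FaithfullyFlat R R']

theorem exists_eq_one_tmul_quot (w : (R ⧸ J) ⊗[R] B) : ∃ b : B, w = (1 : R ⧸ J) ⊗ₜ[R] b := by
  induction w using TensorProduct.induction_on with
  | zero => exact ⟨0, (TensorProduct.tmul_zero _ _).symm⟩
  | add x y hx hy =>
    obtain ⟨b, rfl⟩ := hx
    obtain ⟨b', rfl⟩ := hy
    exact ⟨b + b', (TensorProduct.tmul_add _ _ _).symm⟩
  | tmul q b =>
    obtain ⟨r, rfl⟩ := Ideal.Quotient.mk_surjective q
    refine ⟨r • b, ?_⟩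
    rw [TensorProduct.tmul_smul, TensorProduct.smul_tmul', Algebra.smul_def, mul_one]
    rfl

/-- Reduction modulo `J` can be tested after a faithfully flat base change. -/
theorem one_tmul_quot_eq_zero_of_baseChange (b : B)
    (h : (1 : R' ⧸ J.map (algebraMap R R')) ⊗ₜ[R] b = 0) : (1 : R ⧸ J) ⊗ₜ[R] b = 0 := by
  have h1 : (1 : R' ⧸ J.map (algebraMap R R')) ⊗ₜ[R'] ((1 : R') ⊗ₜ[R] b) = 0 := by
    have h0 : cancelBC R R' (R' ⧸ J.map (algebraMap R R')) B
        ((1 : R' ⧸ J.map (algebraMap R R')) ⊗ₜ[R'] ((1 : R') ⊗ₜ[R] b)) =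
        cancelBC R R' (R' ⧸ J.map (algebraMap R R')) B 0 := by
      rw [cancelBC_tmul, one_smul, map_zero]
      exact h
    exact (cancelBC R R' (R' ⧸ J.map (algebraMap R R')) B).injective h0
  rw [NilGL.one_tmul_eq_zero_iff] at h1
  rw [NilGL.one_tmul_eq_zero_iff, ← Submodule.Quotient.mk_eq_zero]
  apply Module.FaithfullyFlat.tensorProduct_mk_injective (A := R) (B := R')
    (B ⧸ J • (⊤ : Submodule R B))
  rw [TensorProduct.mk_apply, TensorProduct.mk_apply, TensorProduct.tmul_zero]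
  have h2 := NilLift.lTensor_eq_zero_of_mem_smul_top R' B J (NilLift.smul_quot_eq_zero B J)
    (J • (⊤ : Submodule R B)).mkQ h1
  rwa [LinearMap.baseChange_tmul] at h2

theorem map_eq_rTensor {S T : Type u} [CommRing S] [CommRing T] [Algebra R S] [Algebra R T]
    (j : S →ₐ[R] T) (z : S ⊗[R] B) :
    Algebra.TensorProduct.map j (AlgHom.id R B) z = LinearMap.rTensor B j.toLinearMap z := by
  induction z using TensorProduct.induction_on with
  | zero => simp
  | add x y hx hy => rw [map_add, map_add, hx, hy]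
  | tmul s b => rfl

end Refl

section Main

variable {R : Type u} [CommRing R] (J : Ideal R) {B C : Type u} [CommRing B] [CommRing C]
  [HopfAlgebra R B] [HopfAlgebra R C]

/-- The structure map `R / J → T / J T`. -/
noncomputable def quotTo (T : Type u) [CommRing T] [Algebra R T] :
    R ⧸ J →ₐ[R] T ⧸ J.map (algebraMap R T) :=
  Ideal.Quotient.liftₐ J (Algebra.ofId R _) (by
    intro r hr
    rw [Algebra.ofId_apply, IsScalarTower.algebraMap_apply R T (T ⧸ J.map (algebraMap R T)),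
      Ideal.Quotient.algebraMap_eq, Ideal.Quotient.eq_zero_iff_mem]
    exact Ideal.mem_map_of_mem _ hr)

theorem algHom_quot_ext {X : Type u} [CommRing X] [Algebra R X] (a a' : R ⧸ J →ₐ[R] X) :
    a = a' := by
  apply AlgHom.ext
  intro x
  obtain ⟨r, rfl⟩ := Ideal.Quotient.mk_surjective x
  have h : (Ideal.Quotient.mk J r : R ⧸ J) = algebraMap R (R ⧸ J) r := rfl
  rw [h, a.commutes, a'.commutes]

/-- The map induced on quotients by an algebra map. -/
noncomputable def quotMapOf {T T' : Type u} [CommRing T] [CommRing T'] [Algebra R T] [Algebra R T']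
    (j : T →ₐ[R] T') : T ⧸ J.map (algebraMap R T) →ₐ[R] T' ⧸ J.map (algebraMap R T') :=
  Ideal.quotientMapₐ (J.map (algebraMap R T')) j (by
    rw [Ideal.map_le_iff_le_comap]
    intro r hr
    rw [Ideal.mem_comap, Ideal.mem_comap]
    change j (algebraMap R T r) ∈ _
    rw [j.commutes]
    exact Ideal.mem_map_of_mem _ hr)

theorem quotMapOf_comp_red {T T' : Type u} [CommRing T] [CommRing T'] [Algebra R T]
    [Algebra R T'] (j : T →ₐ[R] T') :
    (quotMapOf J j).comp (red J T) = (red J T').comp j := by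
  apply AlgHom.ext
  intro t
  rfl

variable (R' : Type u) [CommRing R'] [Algebra R R'] [Module.FaithfullyFlat R R']
  {M N : Type u} [CommGroup M] [CommGroup N]
  (eB : R' ⊗[R] B ≃ₐc[R'] MonoidAlgebra R' M) (eC : R' ⊗[R] C ≃ₐc[R'] MonoidAlgebra R' N)

include eB eC in
/-- Injectivity of the reduction map on homomorphisms. -/
theorem homLift_unique (hIL : IdemLift (J.map (algebraMap R R'))) (φ ψ : C →ₐc[R] B)
    (h : ∀ c : C, (1 : R ⧸ J) ⊗ₜ[R] φ c = (1 : R ⧸ J) ⊗ₜ[R] ψ c) : φ = ψ := by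
  have h1 : IsBC (red J R') (bcOf R' φ) (bcOf (R' ⧸ J.map (algebraMap R R')) φ) :=
    isBC_bcOf _ φ
  have h2 : IsBC (red J R') (bcOf R' ψ) (bcOf (R' ⧸ J.map (algebraMap R R')) φ) := by
    intro c
    rw [bcOf_tmul, bcOf_tmul, Algebra.TensorProduct.map_tmul, map_one]
    have h3 := congrArg (Algebra.TensorProduct.map (quotTo J R') (AlgHom.id R B)) (h c)
    rw [Algebra.TensorProduct.map_tmul, Algebra.TensorProduct.map_tmul, map_one] at h3
    exact h3
  have h3 := unique_of_triv J eB eC hIL h1 h2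
  apply BialgHom.ext
  intro c
  have h4 : (1 : R') ⊗ₜ[R] φ c = (1 : R') ⊗ₜ[R] ψ c := by
    have h5 := congrArg (fun F => F ((1 : R') ⊗ₜ[R] c)) h3
    exact h5
  exact Module.FaithfullyFlat.tensorProduct_mk_injective (A := R) (B := R') B h4

end Main

section Exists

variable {R : Type u} [CommRing R] (J : Ideal R) {B C : Type u} [CommRing B] [CommRing C]
  [HopfAlgebra R B] [HopfAlgebra R C]
  (R' : Type u) [CommRing R'] [Algebra R R'] [Module.FaithfullyFlat R R']
  {M N : Type u} [CommGroup M] [CommGroup N]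
  (eB : R' ⊗[R] B ≃ₐc[R'] MonoidAlgebra R' M) (eC : R' ⊗[R] C ≃ₐc[R'] MonoidAlgebra R' N)

/-- Descent of bialgebra maps: a bialgebra map over `R'` whose two base changes to `R' ⊗ R'`
agree comes from `R`. -/
theorem exists_bialgHom_of_isBC_eq (f' : R' ⊗[R] C →ₐc[R'] R' ⊗[R] B)
    (g : (R' ⊗[R] R') ⊗[R] C →ₐc[R' ⊗[R] R'] (R' ⊗[R] R') ⊗[R] B)
    (h₁ : IsBC (Algebra.TensorProduct.includeLeft : R' →ₐ[R] R' ⊗[R] R') f' g)
    (h₂ : IsBC (Algebra.TensorProduct.includeRight : R' →ₐ[R] R' ⊗[R] R') f' g) :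
    ∃ φ : C →ₐc[R] B, ∀ c : C, f' ((1 : R') ⊗ₜ[R] c) = (1 : R') ⊗ₜ[R] φ c := by
  classical
  have hdesc : ∀ c : C, ∃ b : B, f' ((1 : R') ⊗ₜ[R] c) = (1 : R') ⊗ₜ[R] b := by
    intro c
    apply FamDesc.exists_eq_one_tmul_of_rTensor_eq R' B
    rw [← map_eq_rTensor, ← map_eq_rTensor, ← h₁ c, ← h₂ c]
  choose φf hφf using hdesc
  have hinj : Function.Injective (TensorProduct.mk R R' B 1) :=
    Module.FaithfullyFlat.tensorProduct_mk_injective (A := R) (B := R') B
  have hinj' : ∀ b b' : B, (1 : R') ⊗ₜ[R] b = (1 : R') ⊗ₜ[R] b' → b = b' := fun b b' h => hinj h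
  let φa : C →ₐ[R] B :=
    { toFun := φf
      map_one' := by
        apply hinj'
        rw [← hφf, ← Algebra.TensorProduct.one_def, map_one, Algebra.TensorProduct.one_def]
      map_mul' := fun c c' => by
        apply hinj'
        have h1 : (1 : R') ⊗ₜ[R] (c * c') = ((1 : R') ⊗ₜ[R] c) * ((1 : R') ⊗ₜ[R] c') := by
          rw [Algebra.TensorProduct.tmul_mul_tmul, mul_one]
        rw [← hφf, h1, map_mul, hφf, hφf, Algebra.TensorProduct.tmul_mul_tmul, mul_one]
      map_zero' := by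
        apply hinj'
        rw [← hφf, TensorProduct.tmul_zero, map_zero, TensorProduct.tmul_zero]
      map_add' := fun c c' => by
        apply hinj'
        rw [← hφf, TensorProduct.tmul_add, map_add, hφf, hφf, TensorProduct.tmul_add]
      commutes' := fun r => by
        apply hinj'
        have h1 : (1 : R') ⊗ₜ[R] (algebraMap R C r) =
            algebraMap R' (R' ⊗[R] C) (algebraMap R R' r) := by
          rw [Algebra.TensorProduct.algebraMap_apply, Algebra.algebraMap_eq_smul_one r,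
            TensorProduct.tmul_smul, TensorProduct.smul_tmul', Algebra.algebraMap_self,
            RingHom.id_apply, Algebra.algebraMap_eq_smul_one r]
        have h2 : (1 : R') ⊗ₜ[R] (algebraMap R B r) =
            algebraMap R' (R' ⊗[R] B) (algebraMap R R' r) := by
          rw [Algebra.TensorProduct.algebraMap_apply, Algebra.algebraMap_eq_smul_one r,
            TensorProduct.tmul_smul, TensorProduct.smul_tmul', Algebra.algebraMap_self,
            RingHom.id_apply, Algebra.algebraMap_eq_smul_one r]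
        rw [← hφf, h1, h2, AlgHomClass.commutes] }
  have hφa : ∀ c, φa c = φf c := fun _ => rfl
  haveI : Module.FaithfullyFlat R (∀ _ : PUnit.{u + 1}, R') := by
    apply FamDesc.faithfullyFlat_pi
    intro m hm
    exact ⟨PUnit.unit, Module.FaithfullyFlat.submodule_ne_top hm⟩
  obtain ⟨φ, hφ⟩ := Desc.exists_bialgHom_of_forall_baseChange (fun _ : PUnit.{u + 1} => R') φa
    (fun _ => ⟨f', fun c => by rw [hφa]; exact hφf c⟩)
  exact ⟨φ, fun c => by rw [hφ, hφa]; exact hφf c⟩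

include eB eC in
/-- Surjectivity of the reduction map on homomorphisms. -/
theorem homLift_exists (hIL : IdemLift (J.map (algebraMap R R')))
    (hIL2 : IdemLift (J.map (algebraMap R (R' ⊗[R] R'))))
    (φ₀ : (R ⧸ J) ⊗[R] C →ₐc[R ⧸ J] (R ⧸ J) ⊗[R] B) :
    ∃ φ : C →ₐc[R] B, ∀ c : C, φ₀ ((1 : R ⧸ J) ⊗ₜ[R] c) = (1 : R ⧸ J) ⊗ₜ[R] φ c := by
  classical
  obtain ⟨g₀, hg₀⟩ := exists_isBC (quotTo J R') φ₀
  obtain ⟨f', hf'⟩ := exists_of_triv J eB eC hIL g₀
  obtain ⟨k₀, hk₀⟩ := exists_isBC (quotTo J (R' ⊗[R] R')) φ₀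
  have key : ∀ j : R' →ₐ[R] R' ⊗[R] R', IsBC (quotMapOf J j) g₀ k₀ := by
    intro j
    obtain ⟨k, hk⟩ := exists_isBC (quotMapOf J j) g₀
    have h1 : IsBC (quotTo J (R' ⊗[R] R')) φ₀ k :=
      (hg₀.comp hk).congr (algHom_quot_ext J _ _)
    rw [← h1.unique hk₀]
    exact hk
  have key2 : ∀ (j : R' →ₐ[R] R' ⊗[R] R')
      (g : (R' ⊗[R] R') ⊗[R] C →ₐc[R' ⊗[R] R'] (R' ⊗[R] R') ⊗[R] B),
      IsBC j f' g → IsBC (red J (R' ⊗[R] R')) g k₀ := by
    intro j g hg
    obtain ⟨k, hk⟩ := exists_isBC (red J (R' ⊗[R] R')) g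
    have h1 : IsBC ((red J (R' ⊗[R] R')).comp j) f' k := hg.comp hk
    have h2 : IsBC ((quotMapOf J j).comp (red J R')) f' k₀ := hf'.comp (key j)
    rw [quotMapOf_comp_red] at h2
    rw [h1.unique h2] at hk
    exact hk
  obtain ⟨g₁, hg₁⟩ := exists_isBC
    (Algebra.TensorProduct.includeLeft : R' →ₐ[R] R' ⊗[R] R') f'
  obtain ⟨g₂, hg₂⟩ := exists_isBC
    (Algebra.TensorProduct.includeRight : R' →ₐ[R] R' ⊗[R] R') f'
  have hgg : g₁ = g₂ :=
    unique_of_triv J (MTGlue.bcDiag R R' (R' ⊗[R] R') eB) (MTGlue.bcDiag R R' (R' ⊗[R] R') eC)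
      hIL2 (key2 _ g₁ hg₁) (key2 _ g₂ hg₂)
  rw [← hgg] at hg₂
  obtain ⟨φ, hφ⟩ := exists_bialgHom_of_isBC_eq R' f' g₁ hg₁ hg₂
  refine ⟨φ, ?_⟩
  intro c
  obtain ⟨b, hb⟩ := exists_eq_one_tmul_quot J B
    (φ₀ ((1 : R ⧸ J) ⊗ₜ[R] c) - (1 : R ⧸ J) ⊗ₜ[R] φ c)
  rw [← sub_eq_zero, hb]
  apply one_tmul_quot_eq_zero_of_baseChange J B R'
  have h1 : Algebra.TensorProduct.map (quotTo J R') (AlgHom.id R B)
      (φ₀ ((1 : R ⧸ J) ⊗ₜ[R] c) - (1 : R ⧸ J) ⊗ₜ[R] φ c) = 0 := by
    rw [map_sub, ← hg₀ c, hf' c, hφ c, Algebra.TensorProduct.map_tmul,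
      Algebra.TensorProduct.map_tmul, map_one, map_one, sub_self]
  rw [hb, Algebra.TensorProduct.map_tmul, map_one] at h1
  exact h1

end Exists

end Groth.Agent.Lib.Helper25.HomLift
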