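import Groth.Agent.Lib.Helper25AdicB
import Groth.Agent.Lib.Helper25HomLiftB
import Groth.Agent.Lib.Helper25EtaleLiftE

/-!
# Formal lifting of homomorphisms into diagonalisable groups (helper25)

* `homLiftSurj_exists`, `homLiftSurj_unique`: `homLift` for a surjection `S → S₀`.
* `bcGA`: base change of a bialgebra map `S ⊗ C → S[M]`.
* `level_exists`, `level_unique`: lifting over a nilpotent thickening.
* `exists_bialgHom_lift_adic`: over a complete Noetherian ring, a trivialisation of the reduction of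
  a flat Hopf algebra lifts to a bialgebra map into the group algebra.
-/

set_option autoImplicit false
set_option linter.unusedSectionVars false
set_option linter.style.haveILetI false
universe u

namespace Groth.Agent.Lib.Helper25.Adic

open TensorProduct SGA3b Groth.Agent.Lib.Helper25 DescGL DescLift BCB HomLift

section Surj

variable {S : Type u} [CommRing S] {B C : Type u} [CommRing B] [CommRing C]
  [HopfAlgebra S B] [HopfAlgebra S C]
  (S₀ : Type u) [CommRing S₀] [Algebra S S₀]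
  (S' : Type u) [CommRing S'] [Algebra S S'] [Module.FaithfullyFlat S S']
  {M N : Type u} [CommGroup M] [CommGroup N]
  (eB : S' ⊗[S] B ≃ₐc[S'] MonoidAlgebra S' M) (eC : S' ⊗[S] C ≃ₐc[S'] MonoidAlgebra S' N)

/-- The isomorphism `S / ker ≃ S₀` for a surjective structure map. -/
noncomputable def quotKerEquiv (hπ : Function.Surjective (algebraMap S S₀)) :
    (S ⧸ RingHom.ker (algebraMap S S₀)) ≃ₐ[S] S₀ :=
  AlgEquiv.ofRingEquiv (f := RingHom.quotientKerEquivOfSurjective hπ) (fun x => by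
    rfl)

include eB eC in
theorem homLiftSurj_exists (hπ : Function.Surjective (algebraMap S S₀))
    (hIL : IdemLift ((RingHom.ker (algebraMap S S₀)).map (algebraMap S S')))
    (hIL2 : IdemLift ((RingHom.ker (algebraMap S S₀)).map (algebraMap S (S' ⊗[S] S'))))
    (φ₀ : S₀ ⊗[S] C →ₐc[S₀] S₀ ⊗[S] B) :
    ∃ φ : C →ₐc[S] B, ∀ c : C, φ₀ ((1 : S₀) ⊗ₜ[S] c) = (1 : S₀) ⊗ₜ[S] φ c := by
  let θ := quotKerEquiv S₀ hπ
  obtain ⟨φ₀', hφ₀'⟩ := exists_isBC (θ.symm : S₀ →ₐ[S] S ⧸ RingHom.ker (algebraMap S S₀)) φ₀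
  obtain ⟨φ, hφ⟩ := homLift_exists (RingHom.ker (algebraMap S S₀)) S' eB eC hIL hIL2 φ₀'
  refine ⟨φ, fun c => ?_⟩
  have h1 := hφ₀' c
  rw [hφ c] at h1
  have h2 := congrArg (Algebra.TensorProduct.map (θ : S ⧸ RingHom.ker (algebraMap S S₀) →ₐ[S] S₀) (AlgHom.id S B)) h1
  rw [map_map', Algebra.TensorProduct.map_tmul, map_one] at h2
  have h3 : (θ : S ⧸ RingHom.ker (algebraMap S S₀) →ₐ[S] S₀).comp (θ.symm : S₀ →ₐ[S] S ⧸ RingHom.ker (algebraMap S S₀)) = AlgHom.id S S₀ := by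
    apply AlgHom.ext
    intro x
    exact θ.apply_symm_apply x
  rw [h3, Algebra.TensorProduct.map_id] at h2
  exact h2.symm

include eB eC in
theorem homLiftSurj_unique (hπ : Function.Surjective (algebraMap S S₀))
    (hIL : IdemLift ((RingHom.ker (algebraMap S S₀)).map (algebraMap S S')))
    (φ ψ : C →ₐc[S] B)
    (h : ∀ c : C, (1 : S₀) ⊗ₜ[S] φ c = (1 : S₀) ⊗ₜ[S] ψ c) : φ = ψ := by
  let θ := quotKerEquiv S₀ hπ
  apply homLift_unique (RingHom.ker (algebraMap S S₀)) S' eB eC hIL φ ψ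
  intro c
  have h2 := congrArg (Algebra.TensorProduct.map (θ.symm : S₀ →ₐ[S] S ⧸ RingHom.ker (algebraMap S S₀)) (AlgHom.id S B)) (h c)
  rw [Algebra.TensorProduct.map_tmul, Algebra.TensorProduct.map_tmul, map_one] at h2
  exact h2

end Surj

section BcGA

variable {R : Type u} [CommRing R] {C : Type u} [CommRing C] [HopfAlgebra R C]
  {M : Type u} [CommGroup M]
  {S : Type u} [CommRing S] [Algebra R S] (S' : Type u) [CommRing S'] [Algebra R S']
  [Algebra S S'] [IsScalarTower R S S']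

/-- Base change of a bialgebra map `S ⊗ C → S[M]` along `S → S'`. -/
noncomputable def bcGA (g : S ⊗[R] C →ₐc[S] MonoidAlgebra S M) :
    S' ⊗[R] C →ₐc[S'] MonoidAlgebra S' M :=
  ((steBialg S S' M : S' ⊗[S] MonoidAlgebra S M ≃ₐc[S'] MonoidAlgebra S' M) :
      S' ⊗[S] MonoidAlgebra S M →ₐc[S'] MonoidAlgebra S' M).comp
    ((Bialgebra.TensorProduct.map (BialgHom.id S' S') g).comp
      ((cancelBC R S S' C).symm : S' ⊗[R] C →ₐc[S'] S' ⊗[S] (S ⊗[R] C)))

theorem bcGA_one_tmul (g : S ⊗[R] C →ₐc[S] MonoidAlgebra S M) (c : C) :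
    bcGA S' g ((1 : S') ⊗ₜ[R] c) =
      MonoidAlgebra.mapRingHom M (algebraMap S S') (g ((1 : S) ⊗ₜ[R] c)) := by
  change steBialg S S' M (Bialgebra.TensorProduct.map (BialgHom.id S' S') g
    ((cancelBC R S S' C).symm ((1 : S') ⊗ₜ[R] c))) = _
  rw [MTGlue.cancelBC_symm_one_tmul, Bialgebra.TensorProduct.map_tmul, BialgHom.id_apply,
    MTGlue.steBialg_one_tmul]

end BcGA

section MapRingHom

variable {T T' T'' : Type u} [CommRing T] [CommRing T'] [CommRing T''] {M : Type u} [CommGroup M]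

theorem mapRingHom_mapRingHom (f : T →+* T') (g : T' →+* T'') (x : MonoidAlgebra T M) :
    MonoidAlgebra.mapRingHom M g (MonoidAlgebra.mapRingHom M f x) =
      MonoidAlgebra.mapRingHom M (g.comp f) x := by
  apply MonoidAlgebra.coeff_injective
  ext m
  simp only [MonoidAlgebra.coeff_mapRingHom, RingHom.comp_apply]

theorem mapRingHom_smul (f : T →+* T') (t : T) (x : MonoidAlgebra T M) :
    MonoidAlgebra.mapRingHom M f (t • x) = f t • MonoidAlgebra.mapRingHom M f x := by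
  apply MonoidAlgebra.coeff_injective
  ext m
  simp only [MonoidAlgebra.coeff_mapRingHom, MonoidAlgebra.coeff_smul, Finsupp.smul_apply,
    smul_eq_mul, map_mul]

end MapRingHom

section Level

variable (R : Type u) [CommRing R] (C : Type u) [CommRing C] [HopfAlgebra R C] [Module.Flat R C]
  (M : Type u) [CommGroup M]
  (S : Type u) [CommRing S] [Algebra R S] (R₀ : Type u) [CommRing R₀] [Algebra R R₀]
  [Algebra S R₀] [IsScalarTower R S R₀]

theorem isNilpotent_of_mem_map {X Y : Type u} [CommRing X] [CommRing Y] (f : X →+* Y)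
    (I : Ideal X) (hI : IsNilpotent I) : ∀ y ∈ I.map f, IsNilpotent y := by
  obtain ⟨k, hk⟩ := hI
  intro y hy
  refine ⟨k, ?_⟩
  have h1 : y ^ k ∈ (I.map f) ^ k := Ideal.pow_mem_pow hy k
  rw [← Ideal.map_pow, hk, Ideal.zero_eq_bot, Ideal.map_bot] at h1
  exact h1

theorem exists_triv_of_nilpotent (hπ : Function.Surjective (algebraMap S R₀))
    (hnil : IsNilpotent (RingHom.ker (algebraMap S R₀)))
    (e₀ : R₀ ⊗[R] C ≃ₐc[R₀] MonoidAlgebra R₀ M) :
    ∃ (S' : Type u) (_ : CommRing S') (_ : Algebra S S'),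
      Module.FaithfullyFlat S S' ∧ IsDiag S' (S' ⊗[S] (S ⊗[R] C)) := by
  obtain ⟨S', i1, i2, _, hff, hD⟩ := EtaleLift.exists_etale_diag_lift R C S R₀ hπ hnil R₀
    ⟨M, inferInstance, ⟨e₀⟩⟩
  exact ⟨S', i1, i2, hff, hD⟩

theorem level_exists (hπ : Function.Surjective (algebraMap S R₀))
    (hnil : IsNilpotent (RingHom.ker (algebraMap S R₀)))
    (e₀ : R₀ ⊗[R] C ≃ₐc[R₀] MonoidAlgebra R₀ M) :
    ∃ g : S ⊗[R] C →ₐc[S] MonoidAlgebra S M, ∀ c : C,
      MonoidAlgebra.mapRingHom M (algebraMap S R₀) (g ((1 : S) ⊗ₜ[R] c)) =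
        e₀ ((1 : R₀) ⊗ₜ[R] c) := by
  obtain ⟨S', _, _, hff, N, _, ⟨eC⟩⟩ := exists_triv_of_nilpotent R C M S R₀ hπ hnil e₀
  haveI := hff
  let φ₀ : R₀ ⊗[S] (S ⊗[R] C) →ₐc[R₀] R₀ ⊗[S] MonoidAlgebra S M :=
    ((steBialg S R₀ M).symm : MonoidAlgebra R₀ M →ₐc[R₀] R₀ ⊗[S] MonoidAlgebra S M).comp
      ((e₀ : R₀ ⊗[R] C →ₐc[R₀] MonoidAlgebra R₀ M).comp
        (cancelBC R S R₀ C : R₀ ⊗[S] (S ⊗[R] C) →ₐc[R₀] R₀ ⊗[R] C))
  obtain ⟨φ, hφ⟩ := homLiftSurj_exists (B := MonoidAlgebra S M) (C := S ⊗[R] C) R₀ S'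
    (steBialg S S' M) eC hπ
    (idemLift_of_nil _ (isNilpotent_of_mem_map _ _ hnil))
    (idemLift_of_nil _ (isNilpotent_of_mem_map _ _ hnil)) φ₀
  refine ⟨φ, fun c => ?_⟩
  have h1 := hφ ((1 : S) ⊗ₜ[R] c)
  have h2 : φ₀ ((1 : R₀) ⊗ₜ[S] ((1 : S) ⊗ₜ[R] c)) =
      (steBialg S R₀ M).symm (e₀ (cancelBC R S R₀ C ((1 : R₀) ⊗ₜ[S] ((1 : S) ⊗ₜ[R] c)))) := rfl
  rw [h2, cancelBC_tmul, one_smul] at h1
  have h3 := congrArg (steBialg S R₀ M) h1
  rw [BialgEquiv.apply_symm_apply, MTGlue.steBialg_one_tmul] at h3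
  exact h3.symm

theorem level_unique (hπ : Function.Surjective (algebraMap S R₀))
    (hnil : IsNilpotent (RingHom.ker (algebraMap S R₀)))
    (e₀ : R₀ ⊗[R] C ≃ₐc[R₀] MonoidAlgebra R₀ M)
    (g g' : S ⊗[R] C →ₐc[S] MonoidAlgebra S M)
    (h : ∀ c : C, MonoidAlgebra.mapRingHom M (algebraMap S R₀) (g ((1 : S) ⊗ₜ[R] c)) =
      MonoidAlgebra.mapRingHom M (algebraMap S R₀) (g' ((1 : S) ⊗ₜ[R] c))) : g = g' := by
  obtain ⟨S', _, _, hff, N, _, ⟨eC⟩⟩ := exists_triv_of_nilpotent R C M S R₀ hπ hnil e₀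
  haveI := hff
  apply homLiftSurj_unique (B := MonoidAlgebra S M) (C := S ⊗[R] C) R₀ S'
    (steBialg S S' M) eC hπ (idemLift_of_nil _ (isNilpotent_of_mem_map _ _ hnil))
  intro z
  have h0 : steBialg S R₀ M ((1 : R₀) ⊗ₜ[S] g z) = steBialg S R₀ M ((1 : R₀) ⊗ₜ[S] g' z) := by
    rw [MTGlue.steBialg_one_tmul, MTGlue.steBialg_one_tmul]
    induction z using TensorProduct.induction_on with
    | zero => simp
    | add x y hx hy => rw [map_add, map_add, map_add, map_add, hx, hy]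
    | tmul s c =>
      have h1 : s ⊗ₜ[R] c = s • ((1 : S) ⊗ₜ[R] c) := by
        rw [TensorProduct.smul_tmul', smul_eq_mul, mul_one]
      have hg : ∀ φ : S ⊗[R] C →ₐc[S] MonoidAlgebra S M,
          φ (s • ((1 : S) ⊗ₜ[R] c)) = s • φ ((1 : S) ⊗ₜ[R] c) := fun φ => map_smul φ s _
      rw [h1, hg g, hg g', mapRingHom_smul, mapRingHom_smul, h]
  exact (steBialg S R₀ M).injective h0

end Level

section Main

variable (R : Type u) [CommRing R] (J : Ideal R)
  (C : Type u) [CommRing C] [HopfAlgebra R C] [Module.Flat R C] (M : Type u) [CommGroup M]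
  (R₀ : Type u) [CommRing R₀] [Algebra R R₀]

/-- The reduction map `R / J^{n+1} → R₀`. -/
noncomputable def redTo (hker : RingHom.ker (algebraMap R R₀) = J) (n : ℕ) :
    R ⧸ J ^ (n + 1) →+* R₀ :=
  Ideal.Quotient.lift (J ^ (n + 1)) (algebraMap R R₀) (fun a ha => by
    have h1 : a ∈ RingHom.ker (algebraMap R R₀) := by
      rw [hker]
      exact Ideal.pow_le_self (Nat.succ_ne_zero n) ha
    exact h1)

theorem redTo_mk (hker : RingHom.ker (algebraMap R R₀) = J) (n : ℕ) (r : R) :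
    redTo R J R₀ hker n (Ideal.Quotient.mk (J ^ (n + 1)) r) = algebraMap R R₀ r := rfl

theorem redTo_surjective (hsurj : Function.Surjective (algebraMap R R₀))
    (hker : RingHom.ker (algebraMap R R₀) = J) (n : ℕ) :
    Function.Surjective (redTo R J R₀ hker n) := by
  intro y
  obtain ⟨r, rfl⟩ := hsurj y
  exact ⟨Ideal.Quotient.mk _ r, rfl⟩

theorem isNilpotent_ker_redTo (hker : RingHom.ker (algebraMap R R₀) = J) (n : ℕ) :
    IsNilpotent (RingHom.ker (redTo R J R₀ hker n)) := by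
  refine ⟨n + 1, ?_⟩
  have h1 : RingHom.ker (redTo R J R₀ hker n) ≤ J.map (Ideal.Quotient.mk (J ^ (n + 1))) := by
    intro x hx
    obtain ⟨r, rfl⟩ := Ideal.Quotient.mk_surjective x
    rw [RingHom.mem_ker, redTo_mk] at hx
    have h2 : r ∈ J := by
      rw [← hker]
      exact hx
    exact Ideal.mem_map_of_mem _ h2
  rw [Ideal.zero_eq_bot, ← le_bot_iff]
  calc RingHom.ker (redTo R J R₀ hker n) ^ (n + 1)
      ≤ (J.map (Ideal.Quotient.mk (J ^ (n + 1)))) ^ (n + 1) := Ideal.pow_right_mono h1 _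
    _ = ⊥ := by rw [← Ideal.map_pow, Ideal.map_quotient_self]

theorem level_n_exists (hsurj : Function.Surjective (algebraMap R R₀))
    (hker : RingHom.ker (algebraMap R R₀) = J)
    (e₀ : R₀ ⊗[R] C ≃ₐc[R₀] MonoidAlgebra R₀ M) (n : ℕ) :
    ∃ g : (R ⧸ J ^ (n + 1)) ⊗[R] C →ₐc[R ⧸ J ^ (n + 1)] MonoidAlgebra (R ⧸ J ^ (n + 1)) M,
      ∀ c : C, MonoidAlgebra.mapRingHom M (redTo R J R₀ hker n)
        (g ((1 : R ⧸ J ^ (n + 1)) ⊗ₜ[R] c)) = e₀ ((1 : R₀) ⊗ₜ[R] c) := by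
  letI : Algebra (R ⧸ J ^ (n + 1)) R₀ := (redTo R J R₀ hker n).toAlgebra
  haveI : IsScalarTower R (R ⧸ J ^ (n + 1)) R₀ := IsScalarTower.of_algebraMap_eq (fun r => rfl)
  exact level_exists R C M (R ⧸ J ^ (n + 1)) R₀ (redTo_surjective R J R₀ hsurj hker n)
    (isNilpotent_ker_redTo R J R₀ hker n) e₀

theorem level_n_unique (hsurj : Function.Surjective (algebraMap R R₀))
    (hker : RingHom.ker (algebraMap R R₀) = J)
    (e₀ : R₀ ⊗[R] C ≃ₐc[R₀] MonoidAlgebra R₀ M) (n : ℕ)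
    (g g' : (R ⧸ J ^ (n + 1)) ⊗[R] C →ₐc[R ⧸ J ^ (n + 1)] MonoidAlgebra (R ⧸ J ^ (n + 1)) M)
    (h : ∀ c : C, MonoidAlgebra.mapRingHom M (redTo R J R₀ hker n)
        (g ((1 : R ⧸ J ^ (n + 1)) ⊗ₜ[R] c)) =
      MonoidAlgebra.mapRingHom M (redTo R J R₀ hker n)
        (g' ((1 : R ⧸ J ^ (n + 1)) ⊗ₜ[R] c))) : g = g' := by
  letI : Algebra (R ⧸ J ^ (n + 1)) R₀ := (redTo R J R₀ hker n).toAlgebra
  haveI : IsScalarTower R (R ⧸ J ^ (n + 1)) R₀ := IsScalarTower.of_algebraMap_eq (fun r => rfl)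
  exact level_unique R C M (R ⧸ J ^ (n + 1)) R₀ (redTo_surjective R J R₀ hsurj hker n)
    (isNilpotent_ker_redTo R J R₀ hker n) e₀ g g' h

/-- **Lifting of homomorphisms over a complete base** (SGA3 IX 7.1 + X 2.1, diagonalisable
case): a trivialisation of the reduction of a flat Hopf algebra lifts to a bialgebra map into the
group algebra. -/
theorem exists_bialgHom_lift_adic [IsNoetherianRing R] [IsAdicComplete J R]
    (hsurj : Function.Surjective (algebraMap R R₀))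
    (hker : RingHom.ker (algebraMap R R₀) = J)
    (e₀ : R₀ ⊗[R] C ≃ₐc[R₀] MonoidAlgebra R₀ M) :
    ∃ F : C →ₐc[R] MonoidAlgebra R M, ∀ c : C,
      MonoidAlgebra.mapRingHom M (algebraMap R R₀) (F c) = e₀ ((1 : R₀) ⊗ₜ[R] c) := by
  choose f hf using level_n_exists R J C M R₀ hsurj hker e₀
  have hcompat : ∀ n c, MonoidAlgebra.mapRingHom M
      (Ideal.Quotient.factor (Ideal.pow_le_pow_right (Nat.le_succ (n + 1))))
      (f (n + 1) ((1 : R ⧸ J ^ (n + 1 + 1)) ⊗ₜ[R] c)) = f n ((1 : R ⧸ J ^ (n + 1)) ⊗ₜ[R] c) := by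
    intro n c
    letI : Algebra (R ⧸ J ^ (n + 1 + 1)) (R ⧸ J ^ (n + 1)) :=
      (Ideal.Quotient.factor (Ideal.pow_le_pow_right (Nat.le_succ (n + 1)))).toAlgebra
    haveI : IsScalarTower R (R ⧸ J ^ (n + 1 + 1)) (R ⧸ J ^ (n + 1)) :=
      IsScalarTower.of_algebraMap_eq (fun r => rfl)
    have h1 : bcGA (R ⧸ J ^ (n + 1)) (f (n + 1)) = f n := by
      apply level_n_unique R J C M R₀ hsurj hker e₀ n
      intro c
      rw [bcGA_one_tmul, mapRingHom_mapRingHom, hf n c]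
      have h2 : (redTo R J R₀ hker n).comp
          (algebraMap (R ⧸ J ^ (n + 1 + 1)) (R ⧸ J ^ (n + 1))) = redTo R J R₀ hker (n + 1) := by
        apply Ideal.Quotient.ringHom_ext
        apply RingHom.ext
        intro r
        rfl
      rw [h2, hf (n + 1) c]
    rw [← h1, bcGA_one_tmul]
    rfl
  obtain ⟨F, hF⟩ := exists_algebraization J f hcompat
  refine ⟨F, fun c => ?_⟩
  have h1 := hF 0 c
  have h2 := hf 0 c
  rw [← h1, mapRingHom_mapRingHom] at h2
  have h3 : (redTo R J R₀ hker 0).comp (Ideal.Quotient.mk (J ^ (0 + 1))) = algebraMap R R₀ := by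
    apply RingHom.ext
    intro r
    rfl
  rw [h3] at h2
  exact h2

end Main

end Groth.Agent.Lib.Helper25.Adic
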