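import Mathlib.RingTheory.Bialgebra.MonoidAlgebra
import Mathlib.RingTheory.Coalgebra.GroupLike

/-! # Group-like elements of monoid algebras over connected rings (helper25) -/

set_option autoImplicit false
universe u v

namespace Groth.Agent.Lib.Helper25

open TensorProduct

section GroupLikeConn

variable {C : Type u} [CommRing C] {M : Type v}

/-- The coefficient functional. -/
noncomputable def coeffFun (C : Type u) [CommRing C] (m : M) : MonoidAlgebra C M →ₗ[C] C :=
  Finsupp.lapply m ∘ₗ (MonoidAlgebra.coeffLinearEquiv C).toLinearMap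

@[simp] theorem coeffFun_apply (m : M) (x : MonoidAlgebra C M) : coeffFun C m x = x.coeff m := rfl

/-- `x ⊗ y ↦ x_m * y_m'`. -/
noncomputable def coeffPair (C : Type u) [CommRing C] (m m' : M) :
    MonoidAlgebra C M ⊗[C] MonoidAlgebra C M →ₗ[C] C :=
  LinearMap.mul' C C ∘ₗ TensorProduct.map (coeffFun C m) (coeffFun C m')

theorem coeffPair_comul [DecidableEq M] (m m' : M) (y : MonoidAlgebra C M) :
    coeffPair C m m' (CoalgebraStruct.comul (R := C) y) = if m = m' then y.coeff m else 0 := by
  induction y using MonoidAlgebra.induction_linear with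
  | zero => simp
  | add x y hx hy =>
    rw [map_add, map_add, hx, hy]
    split_ifs <;> simp
  | single n r =>
    rw [MonoidAlgebra.comul_single]
    simp only [CommSemiring.comul_apply, TensorProduct.map_tmul, coeffPair, LinearMap.comp_apply,
      MonoidAlgebra.lsingle_apply, coeffFun_apply, MonoidAlgebra.coeff_single,
      LinearMap.mul'_apply, Finsupp.single_apply]
    by_cases h1 : n = m
    · subst h1
      by_cases h2 : n = m'
      · subst h2; simp
      · simp [h2]
    · by_cases h2 : m = m'
      · subst h2; simp [h1]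
      · simp [h1, h2]

theorem exists_single_of_isGroupLikeElem [Nontrivial C]
    (hconn : ∀ e : C, IsIdempotentElem e → e = 0 ∨ e = 1)
    {x : MonoidAlgebra C M} (hx : IsGroupLikeElem C x) : ∃ m : M, x = MonoidAlgebra.single m 1 := by
  classical
  have hmul : ∀ m m' : M, x.coeff m * x.coeff m' = if m = m' then x.coeff m else 0 := by
    intro m m'
    rw [← coeffPair_comul, hx.comul_eq_tmul_self]
    simp [coeffPair]
  have h01 : ∀ m, x.coeff m = 0 ∨ x.coeff m = 1 := by
    intro m
    apply hconn
    have := hmul m m
    rw [if_pos rfl] at this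
    exact this
  have hne : x ≠ 0 := hx.ne_zero
  obtain ⟨m₀, hm₀⟩ : ∃ m₀, x.coeff m₀ = 1 := by
    by_contra hcon
    push Not at hcon
    apply hne
    apply MonoidAlgebra.coeff_injective
    ext m
    rcases h01 m with h | h
    · simpa using h
    · exact absurd h (hcon m)
  refine ⟨m₀, ?_⟩
  apply MonoidAlgebra.coeff_injective
  ext m
  rw [MonoidAlgebra.coeff_single, Finsupp.single_apply]
  by_cases h : m₀ = m
  · subst h
    rw [if_pos rfl, hm₀]
  · rw [if_neg h]
    have := hmul m m₀
    rw [if_neg (Ne.symm h), hm₀, mul_one] at this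
    exact this

theorem single_one_injective [Nontrivial C] :
    Function.Injective (fun m : M => (MonoidAlgebra.single m (1 : C) : MonoidAlgebra C M)) := by
  classical
  intro m m' h
  have h1 := congrArg (fun x : MonoidAlgebra C M => x.coeff m) h
  simp only [MonoidAlgebra.coeff_single, Finsupp.single_apply, if_pos rfl] at h1
  by_contra hne
  rw [if_neg (Ne.symm hne)] at h1
  exact one_ne_zero h1

end GroupLikeConn

section BialgHom

variable {C : Type u} [CommRing C] [Nontrivial C] {M N : Type v} [CommGroup M] [CommGroup N]

theorem exists_eq_mapDomainBialgHom (hconn : ∀ e : C, IsIdempotentElem e → e = 0 ∨ e = 1)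
    (φ : MonoidAlgebra C N →ₐc[C] MonoidAlgebra C M) :
    ∃ f : N →* M, φ = MonoidAlgebra.mapDomainBialgHom (R := C) f := by
  have h1 : ∀ n : N, ∃ m : M, φ (MonoidAlgebra.single n 1) = MonoidAlgebra.single m 1 := fun n =>
    exists_single_of_isGroupLikeElem hconn
      ((MonoidAlgebra.isGroupLikeElem_single_one (R := C) (A := C) n).map φ)
  choose f hf using h1
  have hone : f 1 = 1 := by
    apply single_one_injective (C := C)
    change MonoidAlgebra.single (f 1) (1 : C) = MonoidAlgebra.single 1 1
    rw [← hf, ← MonoidAlgebra.one_def, map_one, MonoidAlgebra.one_def]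
  have hmul : ∀ a b, f (a * b) = f a * f b := by
    intro a b
    apply single_one_injective (C := C)
    change MonoidAlgebra.single (f (a * b)) (1 : C) = MonoidAlgebra.single (f a * f b) 1
    rw [← hf]
    have : (MonoidAlgebra.single (a * b) (1 : C) : MonoidAlgebra C N) =
        MonoidAlgebra.single a 1 * MonoidAlgebra.single b 1 := by
      rw [MonoidAlgebra.single_mul_single, one_mul]
    rw [this, map_mul, hf, hf, MonoidAlgebra.single_mul_single, one_mul]
  refine ⟨⟨⟨f, hone⟩, hmul⟩, ?_⟩
  apply MonoidAlgebra.bialgHom_ext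
  · intro n
    rw [hf, MonoidAlgebra.mapDomainBialgHom_single]
    rfl
  · exact Subsingleton.elim _ _

end BialgHom

end Groth.Agent.Lib.Helper25
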