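import Groth.Agent.Lib.Helper25MultRigidB
import Groth.Agent.Lib.Helper25GroupLikeConn

/-!
# Group-like elements modulo nil ideals (helper25)

* `IsGLMod K a`: `a` is group-like modulo the ideal `K` of the base ring.
* `eq_one_of_sub_one_mem`, `groupLike_eq_of_sub_mem`: uniqueness of group-like lifts modulo a nil
  ideal (for bialgebras without primitives modulo ideals).
* `one_tmul_eq_zero_iff`: `(1 : R ⧸ I) ⊗ x = 0 ↔ x ∈ I • ⊤`.
* `exists_groupLike_lift_monoidAlgebra`, `exists_groupLike_lift_of_equiv`: existence of group-like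
  lifts modulo a nil ideal in group algebras.
-/

set_option autoImplicit false
universe u v w

namespace Groth.Agent.Lib.Helper25.NilGL

open TensorProduct Groth.Agent.Lib.Helper25

section Basic

variable {R : Type u} [CommRing R]

theorem tmul_mem_smul_top {N N' : Type*} [AddCommGroup N] [Module R N] [AddCommGroup N']
    [Module R N'] (K K' : Ideal R) {x : N} {y : N'}
    (hx : x ∈ K • (⊤ : Submodule R N)) (hy : y ∈ K' • (⊤ : Submodule R N')) :
    x ⊗ₜ[R] y ∈ (K * K') • (⊤ : Submodule R (N ⊗[R] N')) := by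
  refine Submodule.smul_induction_on hx ?_ ?_
  · intro r hr n _
    refine Submodule.smul_induction_on hy ?_ ?_
    · intro r' hr' n' _
      rw [TensorProduct.smul_tmul_smul]
      exact Submodule.smul_mem_smul (Ideal.mul_mem_mul hr hr') Submodule.mem_top
    · intro a b ha hb
      rw [TensorProduct.tmul_add]
      exact Submodule.add_mem _ ha hb
  · intro a b ha hb
    rw [TensorProduct.add_tmul]
    exact Submodule.add_mem _ ha hb

theorem tmul_mem_smul_top_left {N N' : Type*} [AddCommGroup N] [Module R N] [AddCommGroup N']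
    [Module R N'] (K : Ideal R) {x : N} (y : N')
    (hx : x ∈ K • (⊤ : Submodule R N)) :
    x ⊗ₜ[R] y ∈ K • (⊤ : Submodule R (N ⊗[R] N')) :=
  MRB.map_mem_smul_top ((TensorProduct.mk R N N').flip y) K hx

theorem tmul_mem_smul_top_right {N N' : Type*} [AddCommGroup N] [Module R N] [AddCommGroup N']
    [Module R N'] (K : Ideal R) (x : N) {y : N'}
    (hy : y ∈ K • (⊤ : Submodule R N')) :
    x ⊗ₜ[R] y ∈ K • (⊤ : Submodule R (N ⊗[R] N')) :=
  MRB.map_mem_smul_top (TensorProduct.mk R N N' x) K hy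

theorem exists_fg_le_mem_smul_top {N : Type*} [AddCommGroup N] [Module R N] (I : Ideal R) {x : N}
    (hx : x ∈ I • (⊤ : Submodule R N)) :
    ∃ I₀ : Ideal R, I₀.FG ∧ I₀ ≤ I ∧ x ∈ I₀ • (⊤ : Submodule R N) := by
  refine Submodule.smul_induction_on hx ?_ ?_
  · intro r hr n _
    refine ⟨Ideal.span {r}, ⟨{r}, by simp⟩, (Ideal.span_singleton_le_iff_mem _).mpr hr, ?_⟩
    exact Submodule.smul_mem_smul (Ideal.mem_span_singleton_self r) Submodule.mem_top
  · rintro x y ⟨I₁, h1, h1', hx⟩ ⟨I₂, h2, h2', hy⟩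
    exact ⟨I₁ ⊔ I₂, Submodule.FG.sup h1 h2, sup_le h1' h2',
      Submodule.add_mem _ (Submodule.smul_mono le_sup_left le_rfl hx)
        (Submodule.smul_mono le_sup_right le_rfl hy)⟩

theorem isNilpotent_of_fg_of_le {I I₀ : Ideal R} (hI : ∀ x ∈ I, IsNilpotent x) (h0 : I₀.FG)
    (hle : I₀ ≤ I) : IsNilpotent I₀ := by
  rw [h0.isNilpotent_iff_le_nilradical]
  intro x hx
  exact mem_nilradical.mpr (hI x (hle hx))

/-- `(1 : R ⧸ I) ⊗ x = 0` iff `x ∈ I M`. -/
theorem one_tmul_eq_zero_iff {N : Type*} [AddCommGroup N] [Module R N] (I : Ideal R) (x : N) :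
    (1 : R ⧸ I) ⊗ₜ[R] x = 0 ↔ x ∈ I • (⊤ : Submodule R N) := by
  rw [← (TensorProduct.quotTensorEquivQuotSMul N I).map_eq_zero_iff,
    TensorProduct.quotTensorEquivQuotSMul_mk_one_tmul, Submodule.Quotient.mk_eq_zero]

theorem one_tmul_eq_one_tmul_iff {N : Type*} [AddCommGroup N] [Module R N] (I : Ideal R)
    (x y : N) :
    (1 : R ⧸ I) ⊗ₜ[R] x = (1 : R ⧸ I) ⊗ₜ[R] y ↔ x - y ∈ I • (⊤ : Submodule R N) := by
  rw [← one_tmul_eq_zero_iff, TensorProduct.tmul_sub, sub_eq_zero]

theorem mul_mem_smul_top {A : Type*} [CommRing A] [Algebra R A] (K : Ideal R) (a : A) {x : A}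
    (hx : x ∈ K • (⊤ : Submodule R A)) : a * x ∈ K • (⊤ : Submodule R A) :=
  MRB.map_mem_smul_top (LinearMap.mulLeft R a) K hx

end Basic

section Def

variable {R : Type u} [CommRing R] {A : Type v} [CommRing A] [Bialgebra R A]

/-- `a` is group-like modulo the ideal `K` of the base ring. -/
def IsGLMod (K : Ideal R) (a : A) : Prop :=
  CoalgebraStruct.comul (R := R) a - a ⊗ₜ[R] a ∈ K • (⊤ : Submodule R (A ⊗[R] A)) ∧
    CoalgebraStruct.counit (R := R) a - 1 ∈ K

theorem IsGLMod.map {B : Type w} [CommRing B] [Bialgebra R B] {K : Ideal R} {a : A}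
    (h : IsGLMod K a) (e : A →ₐc[R] B) : IsGLMod K (e a) := by
  constructor
  · have h1 := MRB.map_mem_smul_top
      (TensorProduct.map (e : A →ₗ[R] B) (e : A →ₗ[R] B)) K h.1
    rw [map_sub, TensorProduct.map_tmul] at h1
    have h2 : TensorProduct.map (e : A →ₗ[R] B) (e : A →ₗ[R] B) (CoalgebraStruct.comul (R := R) a)
        = CoalgebraStruct.comul (R := R) (e a) := CoalgHomClass.map_comp_comul_apply e a
    rw [h2] at h1
    exact h1
  · have h2 : CoalgebraStruct.counit (R := R) (e a) = CoalgebraStruct.counit (R := R) a :=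
      CoalgHomClass.counit_comp_apply e a
    rw [h2]
    exact h.2

theorem isGLMod_of_isGroupLikeElem {K : Ideal R} {a : A} (h : IsGroupLikeElem R a) :
    IsGLMod K a := by
  constructor
  · rw [h.comul_eq_tmul_self, sub_self]
    exact Submodule.zero_mem _
  · rw [h.counit_eq_one, sub_self]
    exact K.zero_mem

end Def

section Uniq

variable {R : Type u} [CommRing R] {A : Type v} [CommRing A] [Bialgebra R A]

theorem primDefect_sub_one {h : A} (hh : IsGroupLikeElem R h) :
    MRB.primDefect R A (h - 1) = (h - 1) ⊗ₜ[R] (h - 1) := by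
  rw [MRB.primDefect_apply, map_sub, hh.comul_eq_tmul_self, Bialgebra.comul_one,
    Algebra.TensorProduct.one_def]
  simp only [TensorProduct.sub_tmul, TensorProduct.tmul_sub]
  abel

theorem eq_one_of_sub_one_mem_nilpotent (hP : MRB.NoPrimMod R A) (K : Ideal R)
    (hK : IsNilpotent K) {h : A} (hh : IsGroupLikeElem R h)
    (hmem : h - 1 ∈ K • (⊤ : Submodule R A)) : h = 1 := by
  have hstep : ∀ m : ℕ, h - 1 ∈ (K ^ (m + 1)) • (⊤ : Submodule R A) := by
    intro m
    induction m with
    | zero =>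
      rw [zero_add, pow_one]
      exact hmem
    | succ m ih =>
      apply hP
      rw [primDefect_sub_one hh]
      have h1 := tmul_mem_smul_top (K ^ (m + 1)) (K ^ (m + 1)) ih ih
      have hle : K ^ (m + 1) * K ^ (m + 1) ≤ K ^ (m + 1 + 1) := by
        rw [← pow_add]
        exact Ideal.pow_le_pow_right (by omega)
      exact Submodule.smul_mono hle le_rfl h1
  obtain ⟨N, hN⟩ := hK
  have h1 := hstep N
  have h2 : K ^ (N + 1) = ⊥ := by
    rw [pow_succ, hN]
    simp
  rw [h2, Submodule.bot_smul, Submodule.mem_bot, sub_eq_zero] at h1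
  exact h1

/-- A group-like element congruent to `1` modulo a nil ideal is `1`. -/
theorem eq_one_of_sub_one_mem (hP : MRB.NoPrimMod R A) (I : Ideal R)
    (hI : ∀ x ∈ I, IsNilpotent x) {h : A} (hh : IsGroupLikeElem R h)
    (hmem : h - 1 ∈ I • (⊤ : Submodule R A)) : h = 1 := by
  obtain ⟨I₀, h0, hle, hmem0⟩ := exists_fg_le_mem_smul_top I hmem
  exact eq_one_of_sub_one_mem_nilpotent hP I₀ (isNilpotent_of_fg_of_le hI h0 hle) hh hmem0

end Uniq

section UniqHopf

variable {R : Type u} [CommRing R] {A : Type v} [CommRing A] [HopfAlgebra R A]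

/-- Group-like elements congruent modulo a nil ideal are equal. -/
theorem groupLike_eq_of_sub_mem (hP : MRB.NoPrimMod R A) (I : Ideal R)
    (hI : ∀ x ∈ I, IsNilpotent x) {g g' : A} (hg : IsGroupLikeElem R g)
    (hg' : IsGroupLikeElem R g') (hmem : g' - g ∈ I • (⊤ : Submodule R A)) : g' = g := by
  have hh : IsGroupLikeElem R (HopfAlgebra.antipode R g * g') := hg.antipode.mul hg'
  have h1 : HopfAlgebra.antipode R g * g' - 1 = HopfAlgebra.antipode R g * (g' - g) := by
    rw [mul_sub, hg.antipode_mul_cancel]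
  have h2 := eq_one_of_sub_one_mem hP I hI hh (by
    rw [h1]
    exact mul_mem_smul_top I _ hmem)
  calc g' = g * (HopfAlgebra.antipode R g * g') := by
        rw [← mul_assoc, hg.mul_antipode_cancel, one_mul]
    _ = g := by rw [h2, mul_one]

end UniqHopf

end Groth.Agent.Lib.Helper25.NilGL
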