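import Groth.Agent.Lib.Helper25AdicC
import Groth.Agent.Lib.Helper25NilGL

/-!
# A bialgebra map `C → R[M]` which is an isomorphism modulo `J ⊆ rad R` (helper25)

The coaction `coact F : C → C[M]`; `surjective_of_reduction`; `ker_le_smul_ker`;
`exists_idempotent_ker`: the kernel is generated by an idempotent (the subgroup `D(M)` is open).
-/

set_option autoImplicit false
set_option linter.unusedSectionVars false
set_option linter.style.haveILetI false
universe u

namespace Groth.Agent.Lib.Helper25.Adic

open TensorProduct SGA3b Groth.Agent.Lib.Helper25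

section Coact

variable {R : Type u} [CommRing R] {C : Type u} [CommRing C] [Bialgebra R C]
  {M : Type u} [CommGroup M] (F : C →ₐc[R] MonoidAlgebra R M)

/-- The coefficient functionals of `F`. -/
noncomputable def cf (m : M) : C →ₗ[R] R := coeffL R m ∘ₗ F.toCoalgHom.toLinearMap

@[simp] theorem cf_apply (m : M) (c : C) : cf F m c = (F c).coeff m := rfl

/-- The coaction of `D(M)` on `Spec C` by translations through `F`. -/
noncomputable def coact : C →ₐ[R] MonoidAlgebra C M :=
  ((MonoidAlgebra.scalarTensorEquiv (M := M) R C).toAlgHom.restrictScalars R).comp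
    ((Algebra.TensorProduct.map (AlgHom.id R C) (F : C →ₐ[R] MonoidAlgebra R M)).comp
      (Bialgebra.comulAlgHom R C))

theorem coact_apply (c : C) :
    coact F c = MonoidAlgebra.scalarTensorEquiv (M := M) R C
      (Algebra.TensorProduct.map (AlgHom.id R C) (F : C →ₐ[R] MonoidAlgebra R M)
        (Coalgebra.comul (R := R) c)) := rfl

theorem coeff_coact (c : C) (m : M) : (coact F c).coeff m = opR (cf F m) c := by
  rw [coact_apply, opR_apply]
  generalize Coalgebra.comul (R := R) c = z
  induction z using TensorProduct.induction_on with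
  | zero => simp
  | add x y hx hy =>
    rw [map_add, map_add, MonoidAlgebra.coeff_add, Finsupp.add_apply, hx, hy, map_add, map_add]
  | tmul x y =>
    rw [Algebra.TensorProduct.map_tmul, MonoidAlgebra.scalarTensorEquiv_tmul,
      MonoidAlgebra.coeff_smul, Finsupp.smul_apply, MonoidAlgebra.coeff_mapAlgHom,
      LinearMap.lTensor_tmul, TensorProduct.rid_tmul, AlgHom.id_apply, cf_apply,
      Algebra.ofId_apply, smul_eq_mul, mul_comm, ← Algebra.smul_def]
    rfl

theorem map_coeff_coact (c : C) (m : M) :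
    F ((coact F c).coeff m) = MonoidAlgebra.single m ((F c).coeff m) := by
  rw [coeff_coact]
  exact map_opR_coeffL F.toCoalgHom m c

theorem counit_coeff_coact (c : C) (m : M) :
    Coalgebra.counit (R := R) ((coact F c).coeff m) = (F c).coeff m := by
  rw [coeff_coact, counit_opR, cf_apply]

theorem coact_coeff_coact (c : C) (m : M) :
    coact F ((coact F c).coeff m) = MonoidAlgebra.single m ((coact F c).coeff m) := by
  classical
  apply MonoidAlgebra.coeff_injective
  ext k
  rw [coeff_coact, coeff_coact, opR_opR, MonoidAlgebra.coeff_single, Finsupp.single_apply]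
  have h1 : conv (cf F k) (cf F m) = if m = k then cf F m else 0 := by
    apply LinearMap.ext
    intro c'
    have := conv_coeffL F.toCoalgHom k m c'
    rw [cf, cf, this]
    by_cases hkm : k = m
    · subst hkm
      simp
    · rw [if_neg hkm, if_neg (fun h => hkm h.symm)]
      rfl
  rw [h1]
  split_ifs
  · rfl
  · simp [opR]

/-- The sum of the coefficients. -/
noncomputable def sumCoeff : MonoidAlgebra C M →ₗ[C] C :=
  Finsupp.lsum C (fun _ => LinearMap.id) ∘ₗ (MonoidAlgebra.coeffLinearEquiv C).toLinearMap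

theorem sumCoeff_apply (X : MonoidAlgebra C M) :
    sumCoeff X = ∑ m ∈ X.coeff.support, X.coeff m := by
  simp [sumCoeff, Finsupp.sum]

theorem sumCoeff_single (m : M) (y : C) : sumCoeff (MonoidAlgebra.single m y) = y := by
  simp [sumCoeff]

theorem sumCoeff_coact (c : C) : sumCoeff (coact F c) = c := by
  have h1 : ∀ Y : MonoidAlgebra R M, sumCoeff (MonoidAlgebra.mapAlgHom M (Algebra.ofId R C) Y) =
      algebraMap R C (Coalgebra.counit (R := R) Y) := by
    intro Y
    induction Y using MonoidAlgebra.induction_linear with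
    | zero => simp
    | add y z hy hz => rw [map_add, map_add, hy, hz, map_add, map_add]
    | single g t =>
      rw [MonoidAlgebra.mapAlgHom_single, sumCoeff_single, MonoidAlgebra.counit_single,
        CommSemiring.counit_apply, Algebra.ofId_apply]
  have h2 : ∀ z : C ⊗[R] C, sumCoeff (MonoidAlgebra.scalarTensorEquiv (M := M) R C
      (Algebra.TensorProduct.map (AlgHom.id R C) (F : C →ₐ[R] MonoidAlgebra R M) z)) =
      (TensorProduct.rid R C) ((Coalgebra.counit (R := R) (A := C)).lTensor C z) := by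
    intro z
    induction z using TensorProduct.induction_on with
    | zero => simp
    | add x y hx hy => simp only [map_add, hx, hy]
    | tmul x y =>
      rw [Algebra.TensorProduct.map_tmul, MonoidAlgebra.scalarTensorEquiv_tmul, map_smul, h1,
        LinearMap.lTensor_tmul, TensorProduct.rid_tmul, AlgHom.id_apply, smul_eq_mul, mul_comm,
        ← Algebra.smul_def]
      congr 1
      exact CoalgHomClass.counit_comp_apply F y
  rw [coact_apply, h2, Coalgebra.lTensor_counit_comul]
  simp

theorem eq_sum_coeff_coact (c : C) :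
    c = ∑ m ∈ (coact F c).coeff.support, (coact F c).coeff m := by
  rw [← sumCoeff_apply, sumCoeff_coact]

end Coact

section Red

variable {R : Type u} [CommRing R] {R₀ : Type u} [CommRing R₀] [Algebra R R₀]

theorem exists_eq_one_tmul_of_surjective (hsurj : Function.Surjective (algebraMap R R₀))
    {N : Type u} [AddCommGroup N] [Module R N] (z : R₀ ⊗[R] N) :
    ∃ x : N, z = (1 : R₀) ⊗ₜ[R] x := by
  induction z using TensorProduct.induction_on with
  | zero => exact ⟨0, by rw [TensorProduct.tmul_zero]⟩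
  | add x y hx hy =>
    obtain ⟨a, rfl⟩ := hx
    obtain ⟨b, rfl⟩ := hy
    exact ⟨a + b, by rw [TensorProduct.tmul_add]⟩
  | tmul r₀ n =>
    obtain ⟨r, rfl⟩ := hsurj r₀
    exact ⟨r • n, by rw [Algebra.algebraMap_eq_smul_one, TensorProduct.smul_tmul]⟩

theorem mem_smul_top_of_one_tmul_eq_zero (hsurj : Function.Surjective (algebraMap R R₀))
    {N : Type u} [AddCommGroup N] [Module R N] (x : N) (h : (1 : R₀) ⊗ₜ[R] x = 0) :
    x ∈ RingHom.ker (algebraMap R R₀) • (⊤ : Submodule R N) := by
  let θ := quotKerEquiv R₀ hsurj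
  have h1 := congrArg (LinearMap.rTensor N θ.symm.toLinearMap) h
  rw [LinearMap.rTensor_tmul, map_zero] at h1
  have h2 : θ.symm.toLinearMap (1 : R₀) = 1 := map_one θ.symm
  rw [h2] at h1
  exact (NilGL.one_tmul_eq_zero_iff _ x).mp h1

end Red

section Flat

variable {R : Type u} [CommRing R] {C B : Type u} [AddCommGroup C] [Module R C]
  [AddCommGroup B] [Module R B]

theorem mem_smul_ker_of_flat [Module.Flat R B] (F : C →ₗ[R] B) (hF : Function.Surjective F)
    (J : Ideal R) {a : C} (ha : F a = 0) (haJ : a ∈ J • (⊤ : Submodule R C)) :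
    a ∈ J • LinearMap.ker F := by
  let μC : J ⊗[R] C →ₗ[R] C := (TensorProduct.lid R C).toLinearMap ∘ₗ J.subtype.rTensor C
  let μB : J ⊗[R] B →ₗ[R] B := (TensorProduct.lid R B).toLinearMap ∘ₗ J.subtype.rTensor B
  have hμC : ∀ (j : J) (c : C), μC (j ⊗ₜ[R] c) = (j : R) • c := fun j c => by simp [μC]
  have hμB : ∀ (j : J) (b : B), μB (j ⊗ₜ[R] b) = (j : R) • b := fun j b => by simp [μB]
  have hsurjC : ∃ ξ, μC ξ = a := by
    refine Submodule.smul_induction_on haJ ?_ ?_
    · intro j hj c _
      exact ⟨(⟨j, hj⟩ : J) ⊗ₜ[R] c, hμC _ _⟩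
    · rintro x y ⟨ξ, rfl⟩ ⟨ξ', rfl⟩
      exact ⟨ξ + ξ', map_add _ _ _⟩
  obtain ⟨ξ, hξ⟩ := hsurjC
  have hinjB : Function.Injective μB := by
    have h1 : Function.Injective (J.subtype.rTensor B) :=
      Module.Flat.rTensor_preserves_injective_linearMap J.subtype Subtype.val_injective
    exact (TensorProduct.lid R B).injective.comp h1
  have hnat : ∀ ξ : J ⊗[R] C, μB (F.lTensor J ξ) = F (μC ξ) := by
    intro ξ
    induction ξ using TensorProduct.induction_on with
    | zero => simp
    | add x y hx hy => simp only [map_add, hx, hy]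
    | tmul j c => rw [LinearMap.lTensor_tmul, hμB, hμC, map_smul]
  have h0 : F.lTensor J ξ = 0 := by
    apply hinjB
    rw [hnat, hξ, ha, map_zero]
  have hex : Function.Exact ((LinearMap.ker F).subtype.lTensor J) (F.lTensor J) :=
    lTensor_exact J (LinearMap.exact_subtype_ker_map F) hF
  obtain ⟨η, hη⟩ := (hex ξ).mp h0
  rw [← hξ, ← hη]
  clear hη h0 hξ
  induction η using TensorProduct.induction_on with
  | zero => simp
  | add x y hx hy =>
    simp only [map_add]
    exact Submodule.add_mem _ hx hy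
  | tmul j k =>
    rw [LinearMap.lTensor_tmul, hμC]
    exact Submodule.smul_mem_smul j.2 k.2

end Flat

section Endgame

variable {R : Type u} [CommRing R] (J : Ideal R)
  {C : Type u} [CommRing C] [Bialgebra R C] {M : Type u} [CommGroup M]
  (F : C →ₐc[R] MonoidAlgebra R M)
  {R₀ : Type u} [CommRing R₀] [Algebra R R₀]
  (e₀ : R₀ ⊗[R] C ≃ₐc[R₀] MonoidAlgebra R₀ M)

theorem isUnit_of_sub_one_mem (hJ : J ≤ Ideal.jacobson ⊥) {u : R} (hu : u - 1 ∈ J) :
    IsUnit u := by
  have h1 := (Ideal.mem_jacobson_bot.mp (hJ hu)) 1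
  rw [mul_one, sub_add_cancel] at h1
  exact h1

include e₀ in
/-- `F` is surjective. -/
theorem surjective_of_reduction (hJ : J ≤ Ideal.jacobson ⊥)
    (hsurj : Function.Surjective (algebraMap R R₀))
    (hker : RingHom.ker (algebraMap R R₀) = J)
    (hF : ∀ c : C, MonoidAlgebra.mapRingHom M (algebraMap R R₀) (F c) =
      e₀ ((1 : R₀) ⊗ₜ[R] c)) : Function.Surjective F := by
  classical
  have hsingle : ∀ m : M, ∃ d : C, F d = MonoidAlgebra.single m 1 := by
    intro m
    obtain ⟨c, hc⟩ := exists_eq_one_tmul_of_surjective hsurj (e₀.symm (MonoidAlgebra.single m 1))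
    have h1 : e₀ ((1 : R₀) ⊗ₜ[R] c) = MonoidAlgebra.single m 1 := by
      rw [← hc, BialgEquiv.apply_symm_apply]
    have h2 : algebraMap R R₀ ((F c).coeff m) = 1 := by
      rw [← MonoidAlgebra.coeff_mapRingHom, hF, h1, MonoidAlgebra.coeff_single,
        Finsupp.single_eq_same]
    have h3 : (F c).coeff m - 1 ∈ J := by
      rw [← hker, RingHom.mem_ker, map_sub, h2, map_one, sub_self]
    obtain ⟨u, hu⟩ := isUnit_of_sub_one_mem J hJ h3
    refine ⟨(↑u⁻¹ : R) • (coact F c).coeff m, ?_⟩
    rw [map_smul, map_coeff_coact, ← hu, MonoidAlgebra.smul_single, smul_eq_mul, Units.inv_mul]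
  choose d hd using hsingle
  intro x
  induction x using MonoidAlgebra.induction_linear with
  | zero => exact ⟨0, map_zero _⟩
  | add y z hy hz =>
    obtain ⟨a, rfl⟩ := hy
    obtain ⟨b, rfl⟩ := hz
    exact ⟨a + b, map_add _ _ _⟩
  | single m t =>
    refine ⟨t • d m, ?_⟩
    rw [map_smul, hd, MonoidAlgebra.smul_single, smul_eq_mul, mul_one]

include e₀ in
/-- `𝔞 = J 𝔞` for the kernel `𝔞` of `F`, in the module form. -/
theorem mem_smul_ker_of_map_eq_zero (hJ : J ≤ Ideal.jacobson ⊥)
    (hsurj : Function.Surjective (algebraMap R R₀))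
    (hker : RingHom.ker (algebraMap R R₀) = J)
    (hF : ∀ c : C, MonoidAlgebra.mapRingHom M (algebraMap R R₀) (F c) =
      e₀ ((1 : R₀) ⊗ₜ[R] c)) {a : C} (ha0 : F a = 0) :
    a ∈ J • LinearMap.ker F.toCoalgHom.toLinearMap := by
  have h1 : (1 : R₀) ⊗ₜ[R] a = 0 := by
    have h2 := hF a
    rw [ha0, map_zero] at h2
    have h3 : e₀ ((1 : R₀) ⊗ₜ[R] a) = e₀ 0 := by rw [← h2, map_zero]
    exact e₀.injective h3
  have h2 : a ∈ J • (⊤ : Submodule R C) := by
    rw [← hker]
    exact mem_smul_top_of_one_tmul_eq_zero hsurj a h1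
  have hFs : Function.Surjective F.toCoalgHom.toLinearMap :=
    surjective_of_reduction J F e₀ hJ hsurj hker hF
  exact mem_smul_ker_of_flat F.toCoalgHom.toLinearMap hFs J ha0 h2

include e₀ in
/-- `𝔞 = J 𝔞` for the kernel `𝔞` of `F`. -/
theorem ker_le_map_mul_ker (hJ : J ≤ Ideal.jacobson ⊥)
    (hsurj : Function.Surjective (algebraMap R R₀))
    (hker : RingHom.ker (algebraMap R R₀) = J)
    (hF : ∀ c : C, MonoidAlgebra.mapRingHom M (algebraMap R R₀) (F c) =
      e₀ ((1 : R₀) ⊗ₜ[R] c)) :
    RingHom.ker (F : C →+* MonoidAlgebra R M) ≤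
      J.map (algebraMap R C) * RingHom.ker (F : C →+* MonoidAlgebra R M) := by
  intro a ha
  have ha0 : F a = 0 := ha
  have h1 : (1 : R₀) ⊗ₜ[R] a = 0 := by
    have h2 := hF a
    rw [ha0, map_zero] at h2
    have h3 : e₀ ((1 : R₀) ⊗ₜ[R] a) = e₀ 0 := by rw [← h2, map_zero]
    exact e₀.injective h3
  have h2 : a ∈ J • (⊤ : Submodule R C) := by
    rw [← hker]
    exact mem_smul_top_of_one_tmul_eq_zero hsurj a h1
  have hFs : Function.Surjective F.toCoalgHom.toLinearMap :=
    surjective_of_reduction J F e₀ hJ hsurj hker hF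
  have h3 := mem_smul_ker_of_flat F.toCoalgHom.toLinearMap hFs J ha0 h2
  refine Submodule.smul_induction_on h3 ?_ ?_
  · intro j hj k hk
    rw [Algebra.smul_def]
    exact Ideal.mul_mem_mul (Ideal.mem_map_of_mem _ hj) hk
  · intro x y hx hy
    exact Ideal.add_mem _ hx hy

include e₀ in
/-- The kernel of `F` is generated by an idempotent: the closed subgroup `D(M) ⊆ Spec C` is
open. -/
theorem exists_idempotent_ker [IsNoetherianRing C] (hJ : J ≤ Ideal.jacobson ⊥)
    (hsurj : Function.Surjective (algebraMap R R₀))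
    (hker : RingHom.ker (algebraMap R R₀) = J)
    (hF : ∀ c : C, MonoidAlgebra.mapRingHom M (algebraMap R R₀) (F c) =
      e₀ ((1 : R₀) ⊗ₜ[R] c)) :
    ∃ e : C, IsIdempotentElem e ∧ RingHom.ker (F : C →+* MonoidAlgebra R M) = Ideal.span {e} := by
  classical
  set 𝔞 : Ideal C := RingHom.ker (F : C →+* MonoidAlgebra R M) with h𝔞
  have hmem : ∀ a, a ∈ 𝔞 ↔ F a = 0 := fun a => Iff.rfl
  have hfg : 𝔞.FG := IsNoetherian.noetherian 𝔞
  have hFs : Function.Surjective F := surjective_of_reduction J F e₀ hJ hsurj hker hF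
  -- Nakayama
  obtain ⟨g, hg1, hg0⟩ := Submodule.exists_sub_one_mem_and_smul_eq_zero_of_fg_of_le_smul
    (J.map (algebraMap R C)) 𝔞 hfg (by
      rw [smul_eq_mul]
      exact ker_le_map_mul_ker J F e₀ hJ hsurj hker hF)
  have hcounitJ : ∀ x ∈ J.map (algebraMap R C), Coalgebra.counit (R := R) x ∈ J := by
    intro x hx
    have h1 : J.map (algebraMap R C) ≤ J.comap (Bialgebra.counitAlgHom R C).toRingHom := by
      rw [Ideal.map_le_iff_le_comap]
      intro r hr
      rw [Ideal.mem_comap, Ideal.mem_comap]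
      change (Bialgebra.counitAlgHom R C) (algebraMap R C r) ∈ J
      rw [AlgHom.commutes]
      exact hr
    exact h1 hx
  have hεg : Coalgebra.counit (R := R) g - 1 ∈ J := by
    have h1 := hcounitJ _ hg1
    rw [map_sub] at h1
    have h2 : Coalgebra.counit (R := R) (1 : C) = 1 := Bialgebra.counit_one
    rw [h2] at h1
    exact h1
  obtain ⟨u, hu⟩ := isUnit_of_sub_one_mem J hJ hεg
  -- translation argument
  have hA : ∀ (m : M) (a : C), a ∈ 𝔞 → (coact F g).coeff m * a = 0 := by
    intro m a ha
    have hk : ∀ k : M, (coact F g).coeff m * (coact F a).coeff k = 0 := by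
      intro k
      set a' := (coact F a).coeff k with ha'
      have ha'mem : a' ∈ 𝔞 := by
        rw [hmem, ha', map_coeff_coact, (hmem a).mp ha]
        simp
      have h1 : g * a' = 0 := hg0 a' ha'mem
      have h2 : coact F (g * a') = coact F g * MonoidAlgebra.single k a' := by
        rw [map_mul, ha', coact_coeff_coact]
      rw [h1, map_zero] at h2
      have h3 := congrArg (fun X => X.coeff (m * k)) h2
      simp only [MonoidAlgebra.coeff_zero, Finsupp.zero_apply] at h3
      rw [MonoidAlgebra.coeff_mul_single_mul] at h3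
      exact h3.symm
    rw [eq_sum_coeff_coact F a, Finset.mul_sum]
    exact Finset.sum_eq_zero (fun k _ => hk k)
  choose d hd using fun m : M => hFs (MonoidAlgebra.single m 1)
  set g' : C := ∑ m ∈ (coact F g).coeff.support, d m⁻¹ * (coact F g).coeff m with hg'
  have hg'a : ∀ a ∈ 𝔞, g' * a = 0 := by
    intro a ha
    rw [hg', Finset.sum_mul]
    refine Finset.sum_eq_zero (fun m _ => ?_)
    rw [mul_assoc, hA m a ha, mul_zero]
  have hFg' : F g' = algebraMap R (MonoidAlgebra R M) (Coalgebra.counit (R := R) g) := by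
    rw [hg', map_sum]
    have h1 : ∀ m ∈ (coact F g).coeff.support, F (d m⁻¹ * (coact F g).coeff m) =
        MonoidAlgebra.single 1 (Coalgebra.counit (R := R) ((coact F g).coeff m)) := by
      intro m _
      rw [map_mul, hd, map_coeff_coact, MonoidAlgebra.single_mul_single, inv_mul_cancel, one_mul,
        counit_coeff_coact]
    rw [Finset.sum_congr rfl h1]
    have h2 : ∑ m ∈ (coact F g).coeff.support,
        MonoidAlgebra.single (1 : M) (Coalgebra.counit (R := R) ((coact F g).coeff m)) =
        MonoidAlgebra.single (1 : M) (Coalgebra.counit (R := R)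
          (∑ m ∈ (coact F g).coeff.support, (coact F g).coeff m)) := by
      rw [map_sum]
      induction (coact F g).coeff.support using Finset.induction_on with
      | empty => simp
      | insert x s hx ih => rw [Finset.sum_insert hx, Finset.sum_insert hx, ih,
          MonoidAlgebra.single_add]
    rw [h2, ← eq_sum_coeff_coact F g]
    rfl
  have hdiff : algebraMap R C (Coalgebra.counit (R := R) g) - g' ∈ 𝔞 := by
    rw [hmem, map_sub, hFg', AlgHomClass.commutes, sub_self]
  have hsq : 𝔞 ≤ 𝔞 * 𝔞 := by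
    intro a ha
    have h1 : (u : R) • a ∈ 𝔞 * 𝔞 := by
      have h2 : (u : R) • a = (algebraMap R C (Coalgebra.counit (R := R) g) - g') * a := by
        rw [sub_mul, hg'a a ha, sub_zero, hu, Algebra.smul_def]
      rw [h2]
      exact Ideal.mul_mem_mul hdiff ha
    have h3 : a = (↑u⁻¹ : R) • ((u : R) • a) := by
      rw [smul_smul, Units.inv_mul, one_smul]
    rw [h3, Algebra.smul_def]
    exact Ideal.mul_mem_left _ _ h1
  have hidem : IsIdempotentElem 𝔞 := le_antisymm Ideal.mul_le_right hsq
  obtain ⟨e, he, hae⟩ := (Ideal.isIdempotentElem_iff_of_fg 𝔞 hfg).mp hidem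
  exact ⟨e, he, hae⟩

end Endgame

end Groth.Agent.Lib.Helper25.Adic
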