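import Groth.Agent.Lib.Helper12GeomConn
import Groth.Agent.Lib.Helper14Idem

/-!
# Helper25GeomIdem: a connected algebra with a rational point is geometrically connected
(algebraic form: trivial idempotents are preserved by field extensions), from helper12's
`geometricallyConnected_of_section` (helper25)
-/

set_option autoImplicit false
set_option linter.style.haveILetI false
universe u

open CategoryTheory Limits AlgebraicGeometry TensorProduct

namespace Groth.Agent.Lib.Helper25.GeomIdem

/-- A connected algebra over a field with a rational point stays connected after any field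
extension (algebraic form). -/
theorem idem_trivial_tensor_of_section {k : Type u} [Field k] (K : Type u) [Field K] [Algebra k K]
    {A : Type u} [CommRing A] [Algebra k A] (ε : A →ₐ[k] k)
    (hconn : ∀ e : A, IsIdempotentElem e → e = 0 ∨ e = 1) :
    ∀ e : A ⊗[k] K, IsIdempotentElem e → e = 0 ∨ e = 1 := by
  haveI : Nontrivial A := by
    refine ⟨⟨0, 1, fun h => ?_⟩⟩
    have := congrArg ε h
    simp at this
  haveI h1 : ConnectedSpace (PrimeSpectrum A) :=
    Groth.Agent.Lib.Helper14Idem.connected_of_idem_trivial hconn
  haveI : ConnectedSpace ↥(Spec (CommRingCat.of A)) := h1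
  let f : Spec (CommRingCat.of A) ⟶ Spec (CommRingCat.of k) :=
    Spec.map (CommRingCat.ofHom (algebraMap k A))
  let x : Spec (CommRingCat.of k) ⟶ Spec (CommRingCat.of A) :=
    Spec.map (CommRingCat.ofHom (ε : A →+* k))
  have hx : x ≫ f = 𝟙 _ := by
    rw [← Spec.map_comp, ← Spec.map_id]
    congr 1
    ext c
    simp
  have hgc : GeometricallyConnected f :=
    Groth.Agent.Lib.Helper12.GeomConn.geometricallyConnected_of_section f x hx
  rw [geometricallyConnected_iff, geometrically_iff_of_commRing] at hgc
  have hpb := isPullback_SpecMap_of_isPushout _ _ _ _ (CommRingCat.isPushout_tensorProduct k A K)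
  have h2 : ConnectedSpace ↥(Spec (CommRingCat.of (A ⊗[k] K))) := hgc _ _ hpb
  haveI : ConnectedSpace (PrimeSpectrum (A ⊗[k] K)) := h2
  intro e he
  exact Groth.Agent.Lib.Helper14Idem.idem_trivial_of_connected he

/-- Same with the field on the left. -/
theorem idem_trivial_tensor_of_section' {k : Type u} [Field k] (K : Type u) [Field K] [Algebra k K]
    {A : Type u} [CommRing A] [Algebra k A] (ε : A →ₐ[k] k)
    (hconn : ∀ e : A, IsIdempotentElem e → e = 0 ∨ e = 1) :
    ∀ e : K ⊗[k] A, IsIdempotentElem e → e = 0 ∨ e = 1 := by
  intro e he
  rcases idem_trivial_tensor_of_section K ε hconn (Algebra.TensorProduct.comm k K A e)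
    (he.map (Algebra.TensorProduct.comm k K A)) with h | h
  · left
    apply (Algebra.TensorProduct.comm k K A).injective
    rw [h, map_zero]
  · right
    apply (Algebra.TensorProduct.comm k K A).injective
    rw [h, map_one]

end Groth.Agent.Lib.Helper25.GeomIdem
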