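import Groth.Agent.Lib.Helper25DescNilMain
import Groth.Agent.Lib.Helper26HenselFinPart
import Groth.Agent.Lib.Helper26HenselIdem
import Mathlib.RingTheory.Unramified.LocalStructure
import Mathlib.RingTheory.Localization.Away.Lemmas

/-!
# Lifting finite étale algebras over a Henselian pair (helper25)
-/

set_option autoImplicit false
set_option linter.unusedSectionVars false
set_option linter.style.haveILetI false
universe u

namespace Groth.Agent.Lib.Helper25.HensFEt

open TensorProduct Groth.Agent.Lib.Helper25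

section Lift

variable {R : Type u} [CommRing R] (I : Ideal R) [HenselianRing R I]
  (Q : Type u) [CommRing Q] [Algebra (R ⧸ I) Q] [Algebra R Q] [IsScalarTower R (R ⧸ I) Q]
  [Algebra.Etale (R ⧸ I) Q] [Module.Finite (R ⧸ I) Q]

/-- Finite étale algebras lift along a Henselian pair. -/
theorem exists_finEtale_lift :
    ∃ (P : Type u) (_ : CommRing P) (_ : Algebra R P) (θ : P →ₐ[R] Q),
      Algebra.Etale R P ∧ Module.Finite R P ∧ Function.Surjective θ ∧
        RingHom.ker θ.toRingHom ≤ I.map (algebraMap R P) := by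
  have hπ : Function.Surjective (algebraMap R (R ⧸ I)) := Ideal.Quotient.mk_surjective
  obtain ⟨E, _, _, θ, het, hsurj, hker⟩ := EtNil.exists_etale_lift (B := R) (Bb := R ⧸ I) hπ Q
  have hkerI : RingHom.ker (algebraMap R (R ⧸ I)) = I := by
    rw [Ideal.Quotient.algebraMap_eq, Ideal.mk_ker]
  rw [hkerI] at hker
  haveI := het
  -- the kernel is exactly `I E`
  have hker_eq : RingHom.ker θ.toRingHom = I.map (algebraMap R E) := by
    apply le_antisymm hker
    rw [Ideal.map_le_iff_le_comap]
    intro a ha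
    rw [Ideal.mem_comap, RingHom.mem_ker]
    change θ (algebraMap R E a) = 0
    rw [AlgHom.commutes, IsScalarTower.algebraMap_apply R (R ⧸ I) Q,
      Ideal.Quotient.algebraMap_eq, Ideal.Quotient.eq_zero_iff_mem.mpr ha, map_zero]
  -- finiteness of `E / I E`
  haveI : Module.Finite R Q := Module.Finite.trans (R ⧸ I) Q
  haveI : Module.Finite R (E ⧸ I.map (algebraMap R E)) := by
    rw [← hker_eq]
    exact Module.Finite.equiv
      (Ideal.quotientKerAlgEquivOfSurjective (f := θ) hsurj).symm.toLinearEquiv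
  obtain ⟨e, he, h1e, hfin⟩ := Groth.Agent.Lib.Helper26.HenselFinPart.exists_idem_finite_part
    (A := R) (E := E) I
  have hle : Ideal.span {1 - e} ≤ RingHom.ker θ.toRingHom := by
    rw [Ideal.span_le, Set.singleton_subset_iff, hker_eq]
    exact h1e
  haveI : IsLocalization.Away e (E ⧸ Ideal.span {1 - e}) :=
    IsLocalization.Away.quotient_of_isIdempotentElem he
  haveI : Algebra.Etale E (E ⧸ Ideal.span {1 - e}) := Algebra.Etale.of_isLocalizationAway e
  have hetP : Algebra.Etale R (E ⧸ Ideal.span {1 - e}) := Algebra.Etale.comp R E _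
  refine ⟨E ⧸ Ideal.span {1 - e}, inferInstance, inferInstance,
    Ideal.Quotient.liftₐ (Ideal.span {1 - e}) θ (fun a ha => hle ha), hetP, hfin, ?_, ?_⟩
  · intro q
    obtain ⟨x, rfl⟩ := hsurj q
    exact ⟨Ideal.Quotient.mk _ x, rfl⟩
  · intro x hx
    obtain ⟨y, rfl⟩ := Ideal.Quotient.mk_surjective x
    have hy : y ∈ I.map (algebraMap R E) := by
      rw [← hker_eq]
      exact hx
    have h2 := Ideal.mem_map_of_mem (Ideal.Quotient.mk (Ideal.span {1 - e})) hy
    rw [Ideal.map_map] at h2
    exact h2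

end Lift

section FF

variable {B : Type u} [CommRing B] {Bb : Type u} [CommRing Bb] [Algebra B Bb]
  (hπ : Function.Surjective (algebraMap B Bb))
  (hjac : RingHom.ker (algebraMap B Bb) ≤ Ideal.jacobson ⊥)
  (B'' : Type u) [CommRing B''] [Algebra B B''] [Module.Flat B B'']
  (Bb'' : Type u) [CommRing Bb''] [Algebra Bb Bb''] [Module.FaithfullyFlat Bb Bb'']
  (Θ : B'' →+* Bb'')
  (hΘ : ∀ b, Θ (algebraMap B B'' b) = algebraMap Bb Bb'' (algebraMap B Bb b))

include hπ hjac Θ hΘ in
/-- Faithful flatness lifts along a surjection whose kernel lies in the Jacobson radical. -/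
theorem faithfullyFlat_of_ker_le_jacobson : Module.FaithfullyFlat B B'' := by
  refine { submodule_ne_top := ?_ }
  intro m hm htop
  haveI := hm.isPrime
  have h1 : Ideal.map (algebraMap B B'') m = ⊤ := by
    rw [Ideal.smul_top_eq_map, Submodule.restrictScalars_eq_top_iff] at htop
    exact htop
  have hker : RingHom.ker (algebraMap B Bb) ≤ m := by
    refine hjac.trans ?_
    rw [Ideal.jacobson]
    exact sInf_le ⟨bot_le, hm⟩
  have hne : Ideal.map (algebraMap B Bb) m ≠ ⊤ := by
    intro h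
    have h2 := Ideal.comap_map_of_surjective (algebraMap B Bb) hπ m
    rw [h, Ideal.comap_top] at h2
    have h3 : m ⊔ Ideal.comap (algebraMap B Bb) ⊥ = m := sup_eq_left.mpr hker
    rw [h3] at h2
    exact hm.ne_top h2.symm
  have hmax : (Ideal.map (algebraMap B Bb) m).IsMaximal :=
    (Ideal.map_eq_top_or_isMaximal_of_surjective _ hπ hm).resolve_left hne
  have h4 := Module.FaithfullyFlat.submodule_ne_top (R := Bb) (M := Bb'') hmax
  apply h4
  rw [Ideal.smul_top_eq_map, Submodule.restrictScalars_eq_top_iff, Ideal.map_map]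
  have h5 : (algebraMap Bb Bb'').comp (algebraMap B Bb) = Θ.comp (algebraMap B B'') := by
    ext b
    exact (hΘ b).symm
  rw [h5, ← Ideal.map_map, h1, Ideal.map_top]

end FF

section HensMain

open SGA3b Groth.Agent.Lib.Helper25.BCB Groth.Agent.Lib.Helper25.Desc Groth.Agent.Lib.Helper25.DescLift

variable {R : Type u} [CommRing R] (I : Ideal R) [HenselianRing R I]
  (A₀ : Type u) [CommRing A₀] [HopfAlgebra (R ⧸ I) A₀]

theorem idemLift_map_hens (X : Type u) [CommRing X] [Algebra R X] [Module.Finite R X] :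
    IdemLift (I.map (algebraMap R X)) := by
  haveI : Algebra.IsIntegral R X := Algebra.IsIntegral.of_finite R X
  exact idemLift_of_bijOn _ (Groth.Agent.Lib.Helper26.HenselIdem.idem_bijOn R I X)

/-- Isotrivial groups of multiplicative type lift along a Henselian pair. -/
theorem exists_lift_isotrivial_hens (h0 : IsIsotrivial (R ⧸ I) A₀) :
    ∃ (A : Type u) (_ : CommRing A) (_ : HopfAlgebra R A) (P : Type u) (_ : CommRing P)
      (_ : Algebra R P) (M : Type u) (_ : CommGroup M),
      Algebra.Etale R P ∧ Module.Finite R P ∧ Module.FaithfullyFlat R P ∧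
      Nonempty (P ⊗[R] A ≃ₐc[P] MonoidAlgebra P M) ∧
      Nonempty ((((R ⧸ I) ⊗[R] P) ⊗[R ⧸ I] A₀) ≃ₐc[(R ⧸ I) ⊗[R] P]
        MonoidAlgebra ((R ⧸ I) ⊗[R] P) M) ∧
      Nonempty (((R ⧸ I) ⊗[R] A) ≃ₐc[R ⧸ I] A₀) := by
  classical
  obtain ⟨Q, _, _, het, hfin, hff, hD⟩ := h0
  letI : Algebra R Q := ((algebraMap (R ⧸ I) Q).comp (algebraMap R (R ⧸ I))).toAlgebra
  haveI : IsScalarTower R (R ⧸ I) Q := IsScalarTower.of_algebraMap_eq (fun _ => rfl)
  haveI := het
  haveI := hfin
  haveI := hff
  obtain ⟨P, _, _, θ, hetP, hfinP, hsurj, hker⟩ := exists_finEtale_lift I Q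
  haveI := hetP
  haveI := hfinP
  have hπ : Function.Surjective (algebraMap R (R ⧸ I)) := Ideal.Quotient.mk_surjective
  have hjac : RingHom.ker (algebraMap R (R ⧸ I)) ≤ Ideal.jacobson ⊥ := by
    rw [Ideal.Quotient.algebraMap_eq, Ideal.mk_ker]
    exact HenselianRing.jac
  haveI hffP : Module.FaithfullyFlat R P :=
    faithfullyFlat_of_ker_le_jacobson (B := R) (Bb := R ⧸ I) hπ hjac P Q θ.toRingHom (fun b => by
      change θ (algebraMap R P b) = _
      rw [AlgHom.commutes, IsScalarTower.algebraMap_apply R (R ⧸ I) Q])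
  have hD' : IsDiag ((R ⧸ I) ⊗[R] P) (((R ⧸ I) ⊗[R] P) ⊗[R ⧸ I] A₀) :=
    isDiag_of_algHom (R ⧸ I) A₀ Q ((R ⧸ I) ⊗[R] P) (redEquiv I θ hsurj hker).toAlgHom hD
  obtain ⟨M, _, ⟨ε⟩⟩ := hD'
  let L : LiftData R I A₀ :=
    { ι := PUnit.{u + 1}
      P := fun _ => P
      M := fun _ => M
      flat := fun _ => inferInstance
      ff := by
        apply FamDesc.faithfullyFlat_pi
        intro m hm
        exact ⟨PUnit.unit, hffP.submodule_ne_top hm⟩
      ε := fun _ => ε
      il1 := fun _ => idemLift_map_hens I _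
      il2 := fun _ _ => idemLift_map_hens I _
      il3 := fun _ _ _ => idemLift_map_hens I _ }
  obtain ⟨A, hAcr, hAhopf, hloc, hred⟩ := L.exists_lift
  exact ⟨A, hAcr, hAhopf, P, inferInstance, inferInstance, M, inferInstance, hetP, hfinP, hffP,
    hloc PUnit.unit, ⟨ε⟩, hred⟩

end HensMain

end Groth.Agent.Lib.Helper25.HensFEt
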