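import Groth.Agent.Lib.Helper25UnivSS
import Groth.Agent.Lib.Helper25CoactAlg
import Groth.Prelude.Def_W4c1tameactTame
import Groth.Agent.Lib.Helper14InvLim
import Mathlib.RingTheory.Artinian.Ring
import Mathlib.RingTheory.Filtration
import Mathlib.RingTheory.AdicCompletion.Exactness

/-!
# Hopf modules over a comodule algebra of a linearly reductive group: Reynolds operators (helper25)
-/

set_option autoImplicit false
set_option linter.style.haveILetI false
universe u v w w'
open TensorProduct HopfRep

namespace Groth.Agent.Lib.Helper25.LunaCompl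

open Groth.Agent.Lib.Helper25

section HopfMod
variable {k : Type u} [Field k] {H : Type v} [CommRing H] [Bialgebra k H]
variable {A : Type w} [CommRing A] [Algebra k A] [Comod k H A]
variable {M : Type w'} [AddCommGroup M] [Module k M] [Module A M] [IsScalarTower k A M]
  [Comod k H M] [TameAct.IsHopfMod k H A M]

/-- Multiplication by `a` as a `k`-linear endomorphism. -/
noncomputable def smulL (a : A) : M →ₗ[k] M := (LinearMap.lsmul A M a).restrictScalars k

omit [Comod k H A] [Comod k H M] [TameAct.IsHopfMod k H A M] in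
@[simp] theorem smulL_apply (a : A) (y : M) : smulL (k := k) a y = a • y := rfl

/-- `a ↦ a • y` as a `k`-linear map. -/
noncomputable def actL (y : M) : A →ₗ[k] M := (LinearMap.toSpanSingleton A M y).restrictScalars k

omit [Comod k H A] [Comod k H M] [TameAct.IsHopfMod k H A M] in
@[simp] theorem actL_apply (y : M) (a : A) : actL (k := k) y a = a • y := rfl

theorem isComodHom_smulL {a : A} (ha : a ∈ fixedPts k H A) :
    Hoch.IsComodHom H (smulL (k := k) (M := M) a) := by
  unfold Hoch.IsComodHom
  ext y
  simp only [LinearMap.comp_apply, smulL_apply]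
  rw [TameAct.IsHopfMod.coact_smul (k := k) (A := H), (mem_fixedPts_iff a).mp ha]
  generalize Comod.coact (k := k) (A := H) y = z
  induction z using TensorProduct.induction_on with
  | zero => simp
  | tmul y' h => simp
  | add z z' hz hz' => rw [map_add, map_add, hz, hz']

theorem isComodHom_actL {y : M} (hy : y ∈ fixedPts k H M) :
    Hoch.IsComodHom H (actL (k := k) (A := A) y) := by
  unfold Hoch.IsComodHom
  ext a
  simp only [LinearMap.comp_apply, actL_apply]
  rw [TameAct.IsHopfMod.coact_smul (k := k) (A := H), (mem_fixedPts_iff y).mp hy]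
  generalize Comod.coact (k := k) (A := H) a = z
  induction z using TensorProduct.induction_on with
  | zero => simp
  | tmul a' h => simp
  | add z z' hz hz' => rw [map_add, LinearMap.add_apply, map_add, hz, hz']

omit [Comod k H A] [Comod k H M] [TameAct.IsHopfMod k H A M] in
theorem hmSMul_mem_range {I : Ideal A} {x : A ⊗[k] H}
    (hx : x ∈ LinearMap.range ((I.restrictScalars k).subtype.rTensor H)) (y : M ⊗[k] H) :
    TameAct.hmSMul k H A M x y ∈
      LinearMap.range (((I • (⊤ : Submodule A M)).restrictScalars k).subtype.rTensor H) := by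
  obtain ⟨x', rfl⟩ := hx
  induction x' using TensorProduct.induction_on with
  | zero => simp
  | add a b ha hb =>
    rw [map_add, map_add, LinearMap.add_apply]
    exact Submodule.add_mem _ ha hb
  | tmul r h =>
    induction y using TensorProduct.induction_on with
    | zero => simp
    | add a b ha hb =>
      rw [map_add]
      exact Submodule.add_mem _ ha hb
    | tmul y' h' =>
      refine ⟨(⟨(r : A) • y', Submodule.smul_mem_smul r.2 Submodule.mem_top⟩ :
        (I • (⊤ : Submodule A M)).restrictScalars k) ⊗ₜ[k] (h * h'), ?_⟩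
      simp

theorem isSubcomod_smul_top {I : Ideal A}
    (hI : IsSubcomod (k := k) (A := H) (I.restrictScalars k)) :
    IsSubcomod (k := k) (A := H) ((I • (⊤ : Submodule A M)).restrictScalars k) := by
  intro w hw
  have hw' : w ∈ I • (⊤ : Submodule A M) := hw
  induction hw' using Submodule.smul_induction_on' with
  | smul r hr y hy =>
    rw [TameAct.IsHopfMod.coact_smul (k := k) (A := H)]
    exact hmSMul_mem_range (hI r hr) _
  | add x hx y hy ihx ihy =>
    rw [map_add]
    exact Submodule.add_mem _ (ihx hx) (ihy hy)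

end HopfMod

section Rey
variable {k : Type u} [Field k] {H : Type v} [CommRing H] [Bialgebra k H]
variable {V : Type w} [AddCommGroup V] [Module k V] [Comod k H V]
variable {W : Type w'} [AddCommGroup W] [Module k W] [Comod k H W]

/-- `E` is a Reynolds operator: an idempotent comodule endomorphism onto the invariants. -/
structure IsRey (E : V →ₗ[k] V) : Prop where
  hom : Hoch.IsComodHom H E
  idem : E ∘ₗ E = E
  fix : ∀ x, E x = x ↔ x ∈ fixedPts k H V

theorem IsRey.exists (hss : IsSemisimpleComod k H V) : ∃ E : V →ₗ[k] V, IsRey (H := H) E := by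
  obtain ⟨E, h1, h2, h3⟩ := exists_reynolds hss
  exact ⟨E, h1, h2, h3⟩

theorem IsRey.mem {E : V →ₗ[k] V} (hE : IsRey (H := H) E) (x : V) : E x ∈ fixedPts k H V :=
  (hE.fix _).mp (LinearMap.congr_fun hE.idem x)

theorem IsRey.of_mem {E : V →ₗ[k] V} (hE : IsRey (H := H) E) {x : V} (hx : x ∈ fixedPts k H V) :
    E x = x := (hE.fix _).mpr hx

theorem IsRey.mem_of_isSubcomod (hss : IsSemisimpleComod k H V) {E : V →ₗ[k] V}
    (hE : IsRey (H := H) E) {U : Submodule k V} (hU : IsSubcomod (k := k) (A := H) U) {u : V}
    (hu : u ∈ U) : E u ∈ U :=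
  reynolds_mem_of_isSubcomod hss hE.hom hE.idem hE.fix hU hu

theorem IsRey.comm (hss : IsSemisimpleComod k H V) {E : V →ₗ[k] V} (hE : IsRey (H := H) E)
    {E' : W →ₗ[k] W} (hE' : IsRey (H := H) E') {f : V →ₗ[k] W} (hf : Hoch.IsComodHom H f)
    (x : V) : E' (f x) = f (E x) := by
  have := reynolds_comm hss hE.hom hE.idem hE.fix hE'.hom hE'.idem hE'.fix hf
  exact LinearMap.congr_fun this x

end Rey

section Inv
variable {k : Type u} [Field k] {H : Type v} [CommRing H] [Bialgebra k H]
variable {A : Type w} [CommRing A] [Algebra k A] [Comod k H A] [GLin.IsCoactAlg k H A]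
variable {M : Type w'} [AddCommGroup M] [Module k M] [Module A M] [IsScalarTower k A M]
  [Comod k H M] [TameAct.IsHopfMod k H A M]

theorem rey_smul (hssM : IsSemisimpleComod k H M) {E : M →ₗ[k] M} (hE : IsRey (H := H) E)
    {b : A} (hb : b ∈ fixedPts k H A) (y : M) : E (b • y) = b • E y :=
  hE.comm hssM hE (isComodHom_smulL hb) y

theorem rey_smul_fixed (hssA : IsSemisimpleComod k H A) {EA : A →ₗ[k] A} (hEA : IsRey (H := H) EA)
    {E : M →ₗ[k] M} (hE : IsRey (H := H) E) {y : M} (hy : y ∈ fixedPts k H M) (a : A) :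
    E (a • y) = EA a • y :=
  hEA.comm hssA hE (isComodHom_actL hy) a

variable (k H A M) in
/-- The invariants of `M` as a module over the invariants of `A`. -/
noncomputable def fixSub : Submodule ↥(GLin.invariants k H A) M where
  carrier := fixedPts k H M
  add_mem' := (fixedPts k H M).add_mem
  zero_mem' := (fixedPts k H M).zero_mem
  smul_mem' := fun b y hy => map_mem_fixedPts (isComodHom_smulL (M := M) (a := (b : A)) b.2) hy

theorem mem_fixSub_iff (y : M) : y ∈ fixSub k H A M ↔ y ∈ fixedPts k H M := Iff.rfl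

theorem isSubcomod_map_algebraMap (I : Ideal ↥(GLin.invariants k H A)) :
    IsSubcomod (k := k) (A := H)
      ((I.map (algebraMap ↥(GLin.invariants k H A) A)).restrictScalars k) := by
  apply isSubcomod_span_of_fixedPts
  rintro _ ⟨b, _, rfl⟩
  exact b.2

theorem rey_mem_smul_fixSub (hssM : IsSemisimpleComod k H M) {E : M →ₗ[k] M}
    (hE : IsRey (H := H) E) (I : Ideal ↥(GLin.invariants k H A)) {x : M}
    (hx : x ∈ (I.map (algebraMap ↥(GLin.invariants k H A) A)) • (⊤ : Submodule A M)) :
    E x ∈ I • fixSub k H A M := by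
  have key : ∀ r ∈ I.map (algebraMap ↥(GLin.invariants k H A) A), ∀ y : M,
      E (r • y) ∈ I • fixSub k H A M := by
    intro r hr
    induction hr using Submodule.span_induction with
    | mem r hr =>
      obtain ⟨b, hb, rfl⟩ := hr
      intro y
      change E ((b : A) • y) ∈ _
      rw [rey_smul hssM hE b.2]
      exact Submodule.smul_mem_smul hb (hE.mem y)
    | zero => intro y; simp
    | add r r' _ _ hr hr' =>
      intro y
      rw [add_smul, map_add]
      exact Submodule.add_mem _ (hr y) (hr' y)
    | smul a r _ hr =>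
      intro y
      rw [smul_eq_mul, mul_comm, mul_smul]
      exact hr (a • y)
  induction hx using Submodule.smul_induction_on' with
  | smul r hr y hy => exact key r hr y
  | add x hx y hy ihx ihy =>
    rw [map_add]
    exact Submodule.add_mem _ ihx ihy

theorem smul_fixSub_le (I : Ideal ↥(GLin.invariants k H A)) {x : M}
    (hx : x ∈ I • fixSub k H A M) :
    x ∈ (I.map (algebraMap ↥(GLin.invariants k H A) A)) • (⊤ : Submodule A M) := by
  induction hx using Submodule.smul_induction_on' with
  | smul r hr y hy =>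
    exact Submodule.smul_mem_smul (Ideal.mem_map_of_mem _ hr) Submodule.mem_top
  | add x hx y hy ihx ihy => exact Submodule.add_mem _ ihx ihy

end Inv

section Art
open IsLocalRing

theorem isArtinian_quot_pow_smul (R : Type*) [CommRing R] [IsLocalRing R] [IsNoetherianRing R] (n : ℕ)
    (M : Type*) [AddCommGroup M] [Module R M] [Module.Finite R M] :
    IsArtinian R (M ⧸ (maximalIdeal R ^ n • ⊤ : Submodule R M)) := by
  haveI : IsArtinianRing (R ⧸ maximalIdeal R ^ n) := by
    by_cases hn : n = 0
    · subst hn
      rw [pow_zero, Ideal.one_eq_top]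
      haveI : Subsingleton (R ⧸ (⊤ : Ideal R)) := Ideal.Quotient.subsingleton_iff.mpr rfl
      exact Ring.isArtinian_of_zero_eq_one (Subsingleton.elim _ _)
    haveI : Nontrivial (R ⧸ maximalIdeal R ^ n) := by
      rw [Ideal.Quotient.nontrivial_iff]
      intro h
      have := Ideal.pow_le_self hn (I := maximalIdeal R)
      rw [h] at this
      exact (maximalIdeal.isMaximal R).ne_top (top_le_iff.mp this)
    haveI : IsLocalRing (R ⧸ maximalIdeal R ^ n) :=
      IsLocalRing.of_surjective' (Ideal.Quotient.mk _) Ideal.Quotient.mk_surjective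
    rw [isArtinianRing_iff_isNilpotent_maximalIdeal]
    refine ⟨n, ?_⟩
    have h1 : maximalIdeal (R ⧸ maximalIdeal R ^ n) = (maximalIdeal R).map (Ideal.Quotient.mk _) := by
      symm
      apply IsLocalRing.eq_maximalIdeal
      refine ((maximalIdeal R).map_eq_top_or_isMaximal_of_surjective _ Ideal.Quotient.mk_surjective
        (maximalIdeal.isMaximal R)).resolve_left fun h => ?_
      have h2 : maximalIdeal R ^ n ≤ maximalIdeal R := Ideal.pow_le_self hn
      have h3 := Ideal.comap_map_of_surjective (Ideal.Quotient.mk (maximalIdeal R ^ n))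
        Ideal.Quotient.mk_surjective (maximalIdeal R)
      rw [h, Ideal.comap_top, ← RingHom.ker_eq_comap_bot, Ideal.mk_ker, sup_eq_left.mpr h2] at h3
      exact (maximalIdeal.isMaximal R).ne_top h3.symm
    rw [h1, ← Ideal.map_pow, Ideal.zero_eq_bot, Ideal.map_quotient_self]
  haveI : IsArtinian (R ⧸ maximalIdeal R ^ n) (M ⧸ (maximalIdeal R ^ n • ⊤ : Submodule R M)) :=
    isArtinian_of_fg_of_artinian'
  exact isArtinian_of_surjective_algebraMap (S := R) (R := R ⧸ maximalIdeal R ^ n)
    Ideal.Quotient.mk_surjective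

theorem isPrecomplete_of_surjective {R : Type*} [CommRing R] (I : Ideal R) {N M : Type*}
    [AddCommGroup N] [Module R N] [AddCommGroup M] [Module R M] (f : N →ₗ[R] M)
    (hf : Function.Surjective f) [IsPrecomplete I N] : IsPrecomplete I M := by
  rw [← AdicCompletion.of_surjective_iff]
  intro y
  obtain ⟨x, rfl⟩ := AdicCompletion.map_surjective I hf y
  obtain ⟨n, rfl⟩ := AdicCompletion.of_surjective I N x
  exact ⟨f n, (AdicCompletion.map_of I f n).symm⟩

theorem isPrecomplete_of_finite (R : Type*) [CommRing R] (I : Ideal R) [IsPrecomplete I R]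
    (M : Type*) [AddCommGroup M] [Module R M] [Module.Finite R M] : IsPrecomplete I M := by
  obtain ⟨n, f, hf⟩ := Module.Finite.exists_fin' R M
  haveI := Groth.Agent.Lib.Helper14.isPrecomplete_pi I n
  exact isPrecomplete_of_surjective I f hf

end Art

section Main
open IsLocalRing
variable {k : Type u} [Field k] {H : Type v} [CommRing H] [Bialgebra k H]
variable {A : Type w} [CommRing A] [Algebra k A] [Comod k H A] [GLin.IsCoactAlg k H A]
variable {M : Type w'} [AddCommGroup M] [Module k M] [Module A M] [IsScalarTower k A M]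
  [Comod k H M] [TameAct.IsHopfMod k H A M]

/-- A proper stable ideal is contained in every stable maximal ideal, when the ring of invariants
is local. -/
theorem le_of_isSubcomod_of_ne_top (hssA : IsSemisimpleComod k H A) {EA : A →ₗ[k] A}
    (hEA : IsRey (H := H) EA) [IsLocalRing ↥(GLin.invariants k H A)]
    (m : Ideal A) [hmax : m.IsMaximal]
    (hm : IsSubcomod (k := k) (A := H) (m.restrictScalars k))
    {J : Ideal A} (hJ : IsSubcomod (k := k) (A := H) (J.restrictScalars k)) (hJt : J ≠ ⊤) :
    J ≤ m := by
  by_contra h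
  have hlt : m < J ⊔ m := lt_of_le_of_ne le_sup_right (fun h' => h (h' ▸ le_sup_left))
  have htop : J ⊔ m = ⊤ := hmax.out.2 _ hlt
  have h1 : (1 : A) ∈ J ⊔ m := htop ▸ Submodule.mem_top
  obtain ⟨j, hj, μ, hμ, hsum⟩ := Submodule.mem_sup.mp h1
  have hone : (1 : A) ∈ fixedPts k H A := (GLin.invariants k H A).one_mem
  have hE1 : EA 1 = 1 := hEA.of_mem hone
  have hEj : EA j ∈ J := hEA.mem_of_isSubcomod hssA hJ (u := j) hj
  have hEμ : EA μ ∈ m := hEA.mem_of_isSubcomod hssA hm (u := μ) hμ
  have hcj : (⟨EA j, hEA.mem j⟩ : ↥(GLin.invariants k H A)) ∈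
      maximalIdeal ↥(GLin.invariants k H A) := by
    have : J.comap (algebraMap ↥(GLin.invariants k H A) A) ≤ maximalIdeal _ :=
      IsLocalRing.le_maximalIdeal (fun ht => hJt (by
        rw [Ideal.eq_top_iff_one] at ht ⊢
        simpa using ht))
    exact this (by simpa [Ideal.mem_comap] using hEj)
  have hcμ : (⟨EA μ, hEA.mem μ⟩ : ↥(GLin.invariants k H A)) ∈
      maximalIdeal ↥(GLin.invariants k H A) := by
    have : m.comap (algebraMap ↥(GLin.invariants k H A) A) ≤ maximalIdeal _ :=
      IsLocalRing.le_maximalIdeal (fun ht => hmax.ne_top (by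
        rw [Ideal.eq_top_iff_one] at ht ⊢
        simpa using ht))
    exact this (by simpa [Ideal.mem_comap] using hEμ)
  have hsum' : (⟨EA j, hEA.mem j⟩ + ⟨EA μ, hEA.mem μ⟩ : ↥(GLin.invariants k H A)) = 1 := by
    apply Subtype.ext
    change EA j + EA μ = 1
    rw [← map_add, hsum, hE1]
  have : (1 : ↥(GLin.invariants k H A)) ∈ maximalIdeal ↥(GLin.invariants k H A) := by
    rw [← hsum']
    exact Ideal.add_mem _ hcj hcμ
  exact (maximalIdeal.isMaximal _).ne_top ((Ideal.eq_top_iff_one _).mpr this)

/-- Krull intersection for invariants: an invariant lying in `m^N M + P` for all `N`, `P` a stable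
submodule, lies in `P`. -/
theorem mem_of_forall_mem_sup (hssA : IsSemisimpleComod k H A) {EA : A →ₗ[k] A}
    (hEA : IsRey (H := H) EA) [IsLocalRing ↥(GLin.invariants k H A)]
    [IsNoetherianRing A] [Module.Finite A M]
    (m : Ideal A) [hmax : m.IsMaximal]
    (hm : IsSubcomod (k := k) (A := H) (m.restrictScalars k))
    (P : Submodule A M) (hP : IsSubcomod (k := k) (A := H) (P.restrictScalars k))
    {x : M} (hx : x ∈ fixedPts k H M)
    (hxi : ∀ N : ℕ, x ∈ m ^ N • (⊤ : Submodule A M) ⊔ P) : x ∈ P := by
  have h1 : P.mkQ x ∈ ⨅ i : ℕ, m ^ i • (⊤ : Submodule A (M ⧸ P)) := by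
    rw [Submodule.mem_iInf]
    intro N
    obtain ⟨u, hu, p, hp, rfl⟩ := Submodule.mem_sup.mp (hxi N)
    have hp0 : P.mkQ p = 0 := (Submodule.Quotient.mk_eq_zero P).mpr hp
    rw [map_add, hp0, add_zero]
    have : (m ^ N • (⊤ : Submodule A M)).map P.mkQ = m ^ N • (⊤ : Submodule A (M ⧸ P)) := by
      rw [Submodule.map_smul'', Submodule.map_top, Submodule.range_mkQ]
    rw [← this]
    exact Submodule.mem_map_of_mem hu
  rw [Ideal.mem_iInf_smul_pow_eq_bot_iff] at h1
  obtain ⟨r, hr⟩ := h1
  have h2 : (1 - (r : A)) • x ∈ P := by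
    rw [← Submodule.Quotient.mk_eq_zero, sub_smul, one_smul, Submodule.Quotient.mk_sub]
    have : (Submodule.Quotient.mk ((r : A) • x) : M ⧸ P) = (r : A) • P.mkQ x := rfl
    rw [this, hr]
    exact sub_self _
  set J : Ideal A := P.comap (LinearMap.toSpanSingleton A M x) with hJdef
  have hJ : IsSubcomod (k := k) (A := H) (J.restrictScalars k) := by
    have e : J.restrictScalars k = (P.restrictScalars k).comap (actL (k := k) (A := A) x) := by
      ext a
      simp [hJdef, actL]
    rw [e]
    exact isSubcomod_comap (isComodHom_actL hx) hP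
  have hJmem : (1 - (r : A)) ∈ J := by
    rw [hJdef, Submodule.mem_comap]
    simpa using h2
  have hJtop : J = ⊤ := by
    by_contra hne
    have := le_of_isSubcomod_of_ne_top hssA hEA m hm hJ hne hJmem
    have h1m : (1 : A) ∈ m := by
      have := Ideal.add_mem _ this r.2
      simpa using this
    exact hmax.ne_top ((Ideal.eq_top_iff_one _).mpr h1m)
  have : (1 : A) ∈ J := hJtop ▸ Submodule.mem_top
  rw [hJdef, Submodule.mem_comap] at this
  simpa using this

end Main

section Main2
open IsLocalRing
variable {k : Type u} [Field k] {H : Type v} [CommRing H] [Bialgebra k H]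
variable {A : Type w} [CommRing A] [Algebra k A] [Comod k H A] [GLin.IsCoactAlg k H A]
variable {M : Type w'} [AddCommGroup M] [Module k M] [Module A M] [IsScalarTower k A M]
  [Comod k H M] [TameAct.IsHopfMod k H A M]

omit [TameAct.IsHopfMod k H A M] in
theorem isHopfMod_self : TameAct.IsHopfMod k H A A := by
  refine ⟨fun b c => ?_⟩
  rw [smul_eq_mul, GLin.IsCoactAlg.coact_mul (k := k) (A := H)]
  generalize Comod.coact (k := k) (A := H) b = x
  generalize Comod.coact (k := k) (A := H) c = y
  induction x using TensorProduct.induction_on with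
  | zero => simp
  | add x x' hx hx' => rw [add_mul, map_add, LinearMap.add_apply, hx, hx']
  | tmul b' h =>
    induction y using TensorProduct.induction_on with
    | zero => simp
    | add y y' hy hy' => rw [mul_add, map_add, hy, hy']
    | tmul c' h' => simp

/-- The invariants of a finite Hopf module over a Noetherian comodule algebra are a finite module
over the invariants. -/
theorem finite_fixSub (hssA : IsSemisimpleComod k H A) {EA : A →ₗ[k] A} (hEA : IsRey (H := H) EA)
    {E : M →ₗ[k] M} (hE : IsRey (H := H) E) [IsNoetherianRing A] [Module.Finite A M] :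
    Module.Finite ↥(GLin.invariants k H A) ↥(fixSub k H A M) := by
  classical
  haveI : IsNoetherian A M := isNoetherian_of_isNoetherianRing_of_finite A M
  have hfg : (Submodule.span A (fixedPts k H M : Set M)).FG := IsNoetherian.noetherian _
  obtain ⟨s', hs's, hspan⟩ := (Submodule.fg_span_iff_fg_span_finset_subset _).mp hfg
  rw [Module.Finite.iff_fg]
  refine ⟨s', le_antisymm ?_ ?_⟩
  · apply Submodule.span_le.mpr
    intro y hy
    exact hs's hy
  · intro x hx
    have hx' : x ∈ Submodule.span A (s' : Set M) := by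
      rw [← hspan]
      exact Submodule.subset_span hx
    obtain ⟨f, -, hf⟩ := Submodule.mem_span_finset.mp hx'
    have hEx : E x = x := hE.of_mem hx
    rw [← hEx, ← hf, map_sum]
    refine Submodule.sum_mem _ (fun i hi => ?_)
    rw [rey_smul_fixed hssA hEA hE (hs's hi)]
    have : EA (f i) • i = (⟨EA (f i), hEA.mem _⟩ : ↥(GLin.invariants k H A)) • i := rfl
    rw [this]
    exact Submodule.smul_mem _ _ (Submodule.subset_span hi)

theorem map_algebraMap_maximalIdeal_le (hssA : IsSemisimpleComod k H A) {EA : A →ₗ[k] A}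
    (hEA : IsRey (H := H) EA) [IsLocalRing ↥(GLin.invariants k H A)]
    (m : Ideal A) [hmax : m.IsMaximal]
    (hm : IsSubcomod (k := k) (A := H) (m.restrictScalars k)) :
    (maximalIdeal ↥(GLin.invariants k H A)).map (algebraMap ↥(GLin.invariants k H A) A) ≤ m := by
  apply le_of_isSubcomod_of_ne_top hssA hEA m hm (isSubcomod_map_algebraMap _)
  intro htop
  haveI : TameAct.IsHopfMod k H A A := isHopfMod_self
  have h1 : (1 : A) ∈ ((maximalIdeal ↥(GLin.invariants k H A)).map
      (algebraMap ↥(GLin.invariants k H A) A)) • (⊤ : Submodule A A) := by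
    rw [htop]
    simp
  have h2 := rey_mem_smul_fixSub hssA hEA _ h1
  have hone : (1 : A) ∈ fixedPts k H A := (GLin.invariants k H A).one_mem
  rw [hEA.of_mem hone] at h2
  have key : ∀ z ∈ (maximalIdeal ↥(GLin.invariants k H A)) • fixSub k H A A,
      ∃ c ∈ maximalIdeal ↥(GLin.invariants k H A), (c : A) = z := by
    intro z hz
    induction hz using Submodule.smul_induction_on' with
    | smul r hr y hy =>
      exact ⟨r * ⟨y, hy⟩, Ideal.mul_mem_right _ _ hr, rfl⟩
    | add x hx y hy ihx ihy =>
      obtain ⟨c, hc, rfl⟩ := ihx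
      obtain ⟨c', hc', rfl⟩ := ihy
      exact ⟨c + c', Ideal.add_mem _ hc hc', rfl⟩
  obtain ⟨c, hc, hc1⟩ := key 1 h2
  have : c = 1 := Subtype.ext hc1
  rw [this] at hc
  exact (maximalIdeal.isMaximal _).ne_top ((Ideal.eq_top_iff_one _).mpr hc)

/-- The `m`-adic filtration on the invariants is finer than the adic filtration of the maximal
ideal of the ring of invariants. -/
theorem exists_pow_inf_le (hssA : IsSemisimpleComod k H A) {EA : A →ₗ[k] A}
    (hEA : IsRey (H := H) EA) (hssM : IsSemisimpleComod k H M) {E : M →ₗ[k] M}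
    (hE : IsRey (H := H) E) [IsLocalRing ↥(GLin.invariants k H A)]
    [IsNoetherianRing ↥(GLin.invariants k H A)]
    [IsNoetherianRing A] [Module.Finite A M]
    (m : Ideal A) [hmax : m.IsMaximal]
    (hm : IsSubcomod (k := k) (A := H) (m.restrictScalars k)) (n : ℕ) :
    ∃ N : ℕ, ∀ x ∈ fixedPts k H M, x ∈ m ^ N • (⊤ : Submodule A M) →
      x ∈ (maximalIdeal ↥(GLin.invariants k H A)) ^ n • fixSub k H A M := by
  haveI := finite_fixSub (M := M) hssA hEA hE
  set B := ↥(GLin.invariants k H A) with hB
  set F := fixSub k H A M with hF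
  set P : Submodule A M := ((maximalIdeal B ^ n).map (algebraMap B A)) • (⊤ : Submodule A M)
    with hPdef
  have hP : IsSubcomod (k := k) (A := H) (P.restrictScalars k) :=
    isSubcomod_smul_top (isSubcomod_map_algebraMap _)
  haveI : IsArtinian B (↥F ⧸ (maximalIdeal B ^ n • ⊤ : Submodule B ↥F)) :=
    isArtinian_quot_pow_smul B n ↥F
  let G : ℕ → Submodule B (↥F ⧸ (maximalIdeal B ^ n • ⊤ : Submodule B ↥F)) := fun N =>
    (((m ^ N • (⊤ : Submodule A M) ⊔ P).restrictScalars B).comap F.subtype).map (Submodule.mkQ _)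
  have hG : ∀ N N', N ≤ N' → G N' ≤ G N := by
    intro N N' hNN'
    apply Submodule.map_mono
    apply Submodule.comap_mono
    intro z hz
    have hle : m ^ N' • (⊤ : Submodule A M) ⊔ P ≤ m ^ N • (⊤ : Submodule A M) ⊔ P :=
      sup_le_sup_right (Submodule.smul_mono_left (Ideal.pow_le_pow_right hNN')) _
    exact hle hz
  let f : ℕ →o (Submodule B (↥F ⧸ (maximalIdeal B ^ n • ⊤ : Submodule B ↥F)))ᵒᵈ :=
    ⟨fun N => OrderDual.toDual (G N), fun N N' h => hG N N' h⟩
  obtain ⟨N₀, hN₀⟩ := IsArtinian.monotone_stabilizes f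
  refine ⟨N₀, fun x hx hxm => ?_⟩
  have hxP : x ∈ P := by
    apply mem_of_forall_mem_sup hssA hEA m hm P hP hx
    intro N
    rcases le_total N N₀ with hle | hle
    · exact Submodule.mem_sup_left
        (Submodule.smul_mono_left (Ideal.pow_le_pow_right hle) hxm)
    · have hGG : G N₀ = G N := by
        have := hN₀ N hle
        exact OrderDual.toDual.injective this
      have hx0 : Submodule.mkQ _ (⟨x, hx⟩ : ↥F) ∈ G N₀ := by
        apply Submodule.mem_map_of_mem
        rw [Submodule.mem_comap]
        exact Submodule.mem_sup_left hxm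
      rw [hGG] at hx0
      obtain ⟨z, hz, hzx⟩ := hx0
      replace hz : (z : M) ∈ m ^ N • (⊤ : Submodule A M) ⊔ P := hz
      have hsub : z - (⟨x, hx⟩ : ↥F) ∈ (maximalIdeal B ^ n • ⊤ : Submodule B ↥F) := by
        rw [← Submodule.Quotient.mk_eq_zero, Submodule.Quotient.mk_sub]
        exact sub_eq_zero.mpr hzx
      have hsub' : ((z : M) - x) ∈ maximalIdeal B ^ n • F := by
        have h1 : (maximalIdeal B ^ n • ⊤ : Submodule B ↥F).map F.subtype =
            maximalIdeal B ^ n • F := by
          rw [Submodule.map_smul'', Submodule.map_top, Submodule.range_subtype]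
        rw [← h1]
        exact ⟨_, hsub, rfl⟩
      have hsubP : ((z : M) - x) ∈ P := smul_fixSub_le _ hsub'
      have hzz : (z : M) ∈ m ^ N • (⊤ : Submodule A M) ⊔ P := hz
      have : x = (z : M) - ((z : M) - x) := by abel
      rw [this]
      exact Submodule.sub_mem _ hzz (Submodule.mem_sup_right hsubP)
  have := rey_mem_smul_fixSub hssM hE _ hxP
  rwa [hE.of_mem hx] at this

end Main2

section Final
open IsLocalRing
variable {k : Type u} [Field k] {H : Type v} [CommRing H] [Bialgebra k H]
variable {A : Type w} [CommRing A] [Algebra k A] [Comod k H A] [GLin.IsCoactAlg k H A]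
variable {M : Type w'} [AddCommGroup M] [Module k M] [Module A M] [IsScalarTower k A M]
  [Comod k H M] [TameAct.IsHopfMod k H A M]

omit [Comod k H A] [GLin.IsCoactAlg k H A] [Comod k H M] [TameAct.IsHopfMod k H A M]
  [Module k M] [IsScalarTower k A M] [Algebra k A] in
theorem sub_mem_of_le (m : Ideal A) (x : ℕ → M)
    (hx : ∀ n, x (n + 1) - x n ∈ (m ^ n • ⊤ : Submodule A M)) {a b : ℕ} (hab : a ≤ b) :
    x b - x a ∈ (m ^ a • ⊤ : Submodule A M) := by
  induction b, hab using Nat.le_induction with
  | base => simp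
  | succ b hab ih =>
    have : x (b + 1) - x a = (x (b + 1) - x b) + (x b - x a) := by abel
    rw [this]
    exact Submodule.add_mem _
      (Submodule.smul_mono_left (Ideal.pow_le_pow_right hab) (hx b)) ih

theorem separated_and_complete (hssA : IsSemisimpleComod k H A) (hssM : IsSemisimpleComod k H M)
    [IsNoetherianRing A] (m : Ideal A) [hmax : m.IsMaximal]
    (hm : IsSubcomod (k := k) (A := H) (m.restrictScalars k))
    [IsLocalRing ↥(GLin.invariants k H A)] [IsNoetherianRing ↥(GLin.invariants k H A)]
    [IsAdicComplete (maximalIdeal ↥(GLin.invariants k H A)) ↥(GLin.invariants k H A)]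
    [Module.Finite A M] :
    (∀ x ∈ fixedPts k H M, (∀ n : ℕ, x ∈ (m ^ n • ⊤ : Submodule A M)) → x = 0) ∧
      ∀ x : ℕ → M, (∀ n, x n ∈ fixedPts k H M) →
        (∀ n, x (n + 1) - x n ∈ (m ^ n • ⊤ : Submodule A M)) →
          ∃ y ∈ fixedPts k H M, ∀ n, y - x n ∈ (m ^ n • ⊤ : Submodule A M) := by
  classical
  obtain ⟨EA, hEA⟩ := IsRey.exists hssA
  obtain ⟨E, hE⟩ := IsRey.exists hssM
  constructor
  · intro x hx hxn
    have hbot : IsSubcomod (k := k) (A := H) ((⊥ : Submodule A M).restrictScalars k) := by
      rw [Submodule.restrictScalars_bot]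
      exact isSubcomod_bot
    have := mem_of_forall_mem_sup hssA hEA m hm ⊥ hbot hx
      (fun N => Submodule.mem_sup_left (hxn N))
    simpa using this
  · intro x hx hxn
    set B := ↥(GLin.invariants k H A) with hB
    set F := fixSub k H A M with hF
    haveI : Module.Finite B ↥F := finite_fixSub (M := M) hssA hEA hE
    haveI : IsPrecomplete (maximalIdeal B) ↥F := isPrecomplete_of_finite B (maximalIdeal B) ↥F
    have hex := fun n => exists_pow_inf_le hssA hEA hssM hE m hm n
    choose g hg using hex
    let N' : ℕ → ℕ := fun n => (Finset.range (n + 1)).sup g + n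
    have hN'g : ∀ n, g n ≤ N' n := fun n =>
      le_trans (Finset.le_sup (f := g) (Finset.self_mem_range_succ n)) (Nat.le_add_right _ _)
    have hN'n : ∀ n, n ≤ N' n := fun n => Nat.le_add_left _ _
    have hN'mono : Monotone N' := by
      intro a b hab
      apply Nat.add_le_add _ hab
      apply Finset.sup_mono
      intro i hi
      rw [Finset.mem_range] at hi ⊢
      omega
    let z : ℕ → ↥F := fun n => ⟨x (N' n), hx _⟩
    have hmap : ∀ n, (maximalIdeal B ^ n • ⊤ : Submodule B ↥F).map F.subtype =
        maximalIdeal B ^ n • F := by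
      intro n
      rw [Submodule.map_smul'', Submodule.map_top, Submodule.range_subtype]
    have hz : ∀ {a b : ℕ}, a ≤ b → z a ≡ z b [SMOD (maximalIdeal B ^ a • ⊤ : Submodule B ↥F)] := by
      intro a b hab
      rw [SModEq.sub_mem]
      have h1 : x (N' a) - x (N' b) ∈ (m ^ (g a) • ⊤ : Submodule A M) := by
        have := sub_mem_of_le m x hxn (hN'mono hab)
        have h2 := Submodule.smul_mono_left (N := (⊤ : Submodule A M))
          (Ideal.pow_le_pow_right (I := m) (hN'g a)) this
        rw [← neg_sub]
        exact Submodule.neg_mem _ h2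
      have h2 : x (N' a) - x (N' b) ∈ fixedPts k H M := Submodule.sub_mem _ (hx _) (hx _)
      have h3 := hg a _ h2 h1
      rw [← hmap] at h3
      obtain ⟨w, hw, hww⟩ := h3
      have : w = z a - z b := Subtype.ext hww
      rw [← this]
      exact hw
    obtain ⟨L, hL⟩ := IsPrecomplete.prec' z hz
    refine ⟨(L : M), L.2, fun n => ?_⟩
    have h1 : ((L : M) - x (N' n)) ∈ maximalIdeal B ^ n • F := by
      have := hL n
      rw [SModEq.sub_mem] at this
      rw [← hmap]
      refine ⟨L - z n, ?_, rfl⟩
      rw [← neg_sub]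
      exact Submodule.neg_mem _ this
    have h2 : ((L : M) - x (N' n)) ∈ (m ^ n • ⊤ : Submodule A M) := by
      have h3 := smul_fixSub_le _ h1
      have hle : (maximalIdeal B ^ n).map (algebraMap B A) ≤ m ^ n := by
        rw [Ideal.map_pow]
        exact Ideal.pow_right_mono (map_algebraMap_maximalIdeal_le hssA hEA m hm) n
      exact Submodule.smul_mono_left hle h3
    have h3 : x (N' n) - x n ∈ (m ^ n • ⊤ : Submodule A M) :=
      sub_mem_of_le m x hxn (hN'n n)
    have : (L : M) - x n = ((L : M) - x (N' n)) + (x (N' n) - x n) := by abel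
    rw [this]
    exact Submodule.add_mem _ h2 h3

end Final

end Groth.Agent.Lib.Helper25.LunaCompl
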