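import Groth.Agent.Lib.Helper25AdicD
import Groth.Agent.Lib.Helper25GeomIdem
import Groth.Agent.Lib.Helper25HensFEt
import Groth.Agent.Lib.Helper25LunaCompl

/-!
# Groups with isotrivial reduction over a complete Noetherian base (helper25)

* `idem_eq_zero_of_fibres_connected`: an idempotent of `P ⊗ C` killed by the counit vanishes if all
  fibres of `Spec C` are connected.
* `exists_surj_idem`: SGA3 X 3: the homomorphism `D(M) → H` lifting a trivialisation of the reduction.
-/

set_option autoImplicit false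
set_option linter.unusedSectionVars false
set_option linter.style.haveILetI false
universe u

namespace Groth.Agent.Lib.Helper25.Adic

open TensorProduct SGA3b Groth.Agent.Lib.Helper25

section Conn

theorem idem_eq_zero_of_fibres_connected (A : Type u) [CommRing A] (P : Type u) [CommRing P]
    [Algebra A P] (C : Type u) [CommRing C] [HopfAlgebra A C]
    (hconn : ∀ (p : Ideal A) [p.IsPrime], ConnectedSpace (PrimeSpectrum (p.ResidueField ⊗[A] C)))
    (e : P ⊗[A] C) (he : IsIdempotentElem e) (hε : Coalgebra.counit (R := P) e = 0) : e = 0 := by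
  apply he.eq_zero_of_isNilpotent
  rw [nilpotent_iff_mem_prime]
  intro 𝔯 h𝔯
  let q : Ideal P := 𝔯.comap (algebraMap P (P ⊗[A] C))
  haveI hq : q.IsPrime := Ideal.IsPrime.comap _
  let p : Ideal A := q.comap (algebraMap A P)
  haveI hp : p.IsPrime := Ideal.IsPrime.comap _
  let K := q.ResidueField
  let k := p.ResidueField
  let j : k →ₐ[A] K := Ideal.ResidueField.mapₐ p q (Algebra.ofId A P) rfl
  letI : Algebra k K := j.toRingHom.toAlgebra
  haveI : IsScalarTower A k K := IsScalarTower.of_algebraMap_eq (fun r => (j.commutes r).symm)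
  have hk : ∀ x : k ⊗[A] C, IsIdempotentElem x → x = 0 ∨ x = 1 := fun x hx => by
    haveI := hconn p
    exact Groth.Agent.Lib.Helper14Idem.idem_trivial_of_connected hx
  have hK : ∀ x : K ⊗[k] (k ⊗[A] C), IsIdempotentElem x → x = 0 ∨ x = 1 :=
    GeomIdem.idem_trivial_tensor_of_section' K (Bialgebra.counitAlgHom k (k ⊗[A] C)) hk
  let Φ : K ⊗[P] (P ⊗[A] C) ≃ₐ[K] K ⊗[k] (k ⊗[A] C) :=
    (Algebra.TensorProduct.cancelBaseChange A P K K C).trans
      (Algebra.TensorProduct.cancelBaseChange A k K K C).symm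
  have h1 : (1 : K) ⊗ₜ[P] e = 0 := by
    have hidem : IsIdempotentElem ((1 : K) ⊗ₜ[P] e) := by
      unfold IsIdempotentElem
      rw [Algebra.TensorProduct.tmul_mul_tmul, mul_one, he.eq]
    rcases hK (Φ ((1 : K) ⊗ₜ[P] e)) (hidem.map Φ) with h | h
    · apply Φ.injective
      rw [h, map_zero]
    · exfalso
      have h2 : (1 : K) ⊗ₜ[P] e = 1 := by
        apply Φ.injective
        rw [h, map_one]
      let ψ : K ⊗[P] (P ⊗[A] C) →ₐ[P] K ⊗[P] P :=
        Algebra.TensorProduct.map (AlgHom.id P K) (Bialgebra.counitAlgHom P (P ⊗[A] C))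
      have h3 := congrArg ψ h2
      rw [Algebra.TensorProduct.map_tmul, map_one] at h3
      have h4 : Bialgebra.counitAlgHom P (P ⊗[A] C) e = 0 := hε
      rw [h4, TensorProduct.tmul_zero] at h3
      have h5 := congrArg (Algebra.TensorProduct.rid P K K) h3
      rw [map_zero, map_one, map_one] at h5
      exact zero_ne_one h5
  let qs : PrimeSpectrum P := ⟨q, hq⟩
  let x : (PrimeSpectrum.comap (algebraMap P (P ⊗[A] C))) ⁻¹' {qs} := ⟨⟨𝔯, h𝔯⟩, rfl⟩
  have hx := (PrimeSpectrum.preimageEquivFiber P (P ⊗[A] C) qs).left_inv x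
  have h6 : 𝔯 = ((PrimeSpectrum.preimageEquivFiber P (P ⊗[A] C) qs) x).asIdeal.comap
      (Algebra.TensorProduct.includeRight : (P ⊗[A] C) →ₐ[P] K ⊗[P] (P ⊗[A] C)).toRingHom :=
    congrArg (fun z => z.1.asIdeal) hx.symm
  rw [h6, Ideal.mem_comap]
  change (1 : K) ⊗ₜ[P] e ∈ _
  rw [h1]
  exact Ideal.zero_mem _

end Conn

section Pack

open BCB

/-- SGA3 X 3 over a base where the reduction is diagonalisable. -/
theorem exists_surj_idem (R : Type u) [CommRing R] [IsNoetherianRing R] (J : Ideal R)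
    [IsAdicComplete J R] (C : Type u) [CommRing C] [HopfAlgebra R C] [Module.Flat R C]
    (hft : Algebra.FiniteType R C) (M : Type u) [CommGroup M]
    (R₀ : Type u) [CommRing R₀] [Algebra R R₀]
    (hsurj : Function.Surjective (algebraMap R R₀))
    (hker : RingHom.ker (algebraMap R R₀) = J)
    (e₀ : R₀ ⊗[R] C ≃ₐc[R₀] MonoidAlgebra R₀ M) :
    ∃ (F : C →ₐc[R] MonoidAlgebra R M) (e : C), Function.Surjective F ∧ IsIdempotentElem e ∧
      RingHom.ker (F : C →+* MonoidAlgebra R M) = Ideal.span {e} ∧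
      e ∈ J • LinearMap.ker F.toCoalgHom.toLinearMap := by
  haveI : IsNoetherianRing C := Algebra.FiniteType.isNoetherianRing R C
  obtain ⟨F, hF⟩ := exists_bialgHom_lift_adic R J C M R₀ hsurj hker e₀
  have hJ : J ≤ Ideal.jacobson ⊥ := IsAdicComplete.le_jacobson_bot J
  obtain ⟨e, he, hke⟩ := exists_idempotent_ker J F e₀ hJ hsurj hker hF
  have hFe : F e = 0 := by
    have h2 : e ∈ RingHom.ker (F : C →+* MonoidAlgebra R M) := by
      rw [hke]
      exact Ideal.mem_span_singleton_self e
    exact h2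
  exact ⟨F, e, surjective_of_reduction J F e₀ hJ hsurj hker hF, he, hke,
    mem_smul_ker_of_map_eq_zero J F e₀ hJ hsurj hker hF hFe⟩

/-- SGA3 X 3: over a complete Noetherian base, after a finite étale cover `P` the group `Spec C`
contains `D(M)_P` as an open and closed subgroup which is everything modulo `I`. -/
theorem exists_cover_surj_idem (A : Type u) [CommRing A] [IsNoetherianRing A] (I : Ideal A)
    [IsAdicComplete I A] (C : Type u) [CommRing C] [HopfAlgebra A C] [Module.Flat A C]
    (hft : Algebra.FiniteType A C) (h0 : IsIsotrivial (A ⧸ I) ((A ⧸ I) ⊗[A] C)) :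
    ∃ (P : Type u) (_ : CommRing P) (_ : Algebra A P) (M : Type u) (_ : CommGroup M),
      Algebra.Etale A P ∧ Module.Finite A P ∧ Module.FaithfullyFlat A P ∧
      (∃ (Q : Type u) (_ : CommRing Q) (_ : Algebra (A ⧸ I) Q), Module.FaithfullyFlat (A ⧸ I) Q ∧
        Nonempty (Q ⊗[A ⧸ I] ((A ⧸ I) ⊗[A] C) ≃ₐc[Q] MonoidAlgebra Q M)) ∧
      ∃ (F : P ⊗[A] C →ₐc[P] MonoidAlgebra P M) (e : P ⊗[A] C),
        Function.Surjective F ∧ IsIdempotentElem e ∧
        RingHom.ker (F : P ⊗[A] C →+* MonoidAlgebra P M) = Ideal.span {e} ∧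
        e ∈ (I.map (algebraMap A P)) • LinearMap.ker F.toCoalgHom.toLinearMap := by
  classical
  obtain ⟨Q, _, _, het, hfin, hff, M, _, ⟨ε₀⟩⟩ := h0
  letI : Algebra A Q := ((algebraMap (A ⧸ I) Q).comp (algebraMap A (A ⧸ I))).toAlgebra
  haveI : IsScalarTower A (A ⧸ I) Q := IsScalarTower.of_algebraMap_eq (fun _ => rfl)
  haveI := het
  haveI := hfin
  haveI := hff
  obtain ⟨P, _, _, θ, hetP, hfinP, hsurjθ, hkerθ⟩ := HensFEt.exists_finEtale_lift I Q
  haveI := hetP
  haveI := hfinP
  have hπ : Function.Surjective (algebraMap A (A ⧸ I)) := Ideal.Quotient.mk_surjective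
  have hjac : RingHom.ker (algebraMap A (A ⧸ I)) ≤ Ideal.jacobson ⊥ := by
    rw [Ideal.Quotient.algebraMap_eq, Ideal.mk_ker]
    exact IsAdicComplete.le_jacobson_bot I
  haveI hffP : Module.FaithfullyFlat A P :=
    HensFEt.faithfullyFlat_of_ker_le_jacobson (B := A) (Bb := A ⧸ I) hπ hjac P Q θ.toRingHom
      (fun b => by
        change θ (algebraMap A P b) = _
        rw [AlgHom.commutes, IsScalarTower.algebraMap_apply A (A ⧸ I) Q])
  letI : Algebra P Q := θ.toRingHom.toAlgebra
  haveI : IsScalarTower A P Q := IsScalarTower.of_algebraMap_eq (fun r => (θ.commutes r).symm)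
  have hsurj : Function.Surjective (algebraMap P Q) := hsurjθ
  have hker : RingHom.ker (algebraMap P Q) = I.map (algebraMap A P) := by
    apply le_antisymm hkerθ
    rw [Ideal.map_le_iff_le_comap]
    intro a ha
    rw [Ideal.mem_comap, RingHom.mem_ker]
    change θ (algebraMap A P a) = 0
    rw [AlgHom.commutes, IsScalarTower.algebraMap_apply A (A ⧸ I) Q,
      Ideal.Quotient.algebraMap_eq, Ideal.Quotient.eq_zero_iff_mem.mpr ha, map_zero]
  haveI : IsNoetherianRing P := IsNoetherianRing.of_finite A P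
  haveI : IsAdicComplete (I.map (algebraMap A P)) P := by
    rw [IsAdicComplete.map_algebraMap_iff]
    haveI : IsPrecomplete I P := LunaCompl.isPrecomplete_of_finite A I P
    haveI : IsHausdorff I P := IsHausdorff.of_le_jacobson I P (IsAdicComplete.le_jacobson_bot I)
    exact {}
  let e₀ : Q ⊗[P] (P ⊗[A] C) ≃ₐc[Q] MonoidAlgebra Q M :=
    (cancelBC A P Q C).trans ((cancelBC A (A ⧸ I) Q C).symm.trans ε₀)
  haveI := hft
  have hftP : Algebra.FiniteType P (P ⊗[A] C) := inferInstance
  obtain ⟨F, e, hFs, he, hke, hle⟩ := exists_surj_idem P (I.map (algebraMap A P)) (P ⊗[A] C) hftP M Q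
    hsurj hker e₀
  exact ⟨P, inferInstance, inferInstance, M, inferInstance, hetP, hfinP, hffP,
    ⟨Q, inferInstance, inferInstance, hff, ⟨ε₀⟩⟩, F, e, hFs, he, hke, hle⟩

theorem counit_eq_zero_of_ker_eq_span {R : Type u} [CommRing R] {C : Type u} [CommRing C]
    [Bialgebra R C] {M : Type u} [CommGroup M] (F : C →ₐc[R] MonoidAlgebra R M) (e : C)
    (hke : RingHom.ker (F : C →+* MonoidAlgebra R M) = Ideal.span {e}) :
    Coalgebra.counit (R := R) e = 0 := by
  have h1 : F e = 0 := by
    have h2 : e ∈ RingHom.ker (F : C →+* MonoidAlgebra R M) := by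
      rw [hke]
      exact Ideal.mem_span_singleton_self e
    exact h2
  rw [← CoalgHomClass.counit_comp_apply F e, h1, map_zero]

theorem nonempty_bialgEquiv_of_idem_eq_zero {R : Type u} [CommRing R] {C : Type u} [CommRing C]
    [Bialgebra R C] {M : Type u} [CommGroup M] (F : C →ₐc[R] MonoidAlgebra R M)
    (hFs : Function.Surjective F) (e : C)
    (hke : RingHom.ker (F : C →+* MonoidAlgebra R M) = Ideal.span {e}) (he0 : e = 0) :
    Nonempty (C ≃ₐc[R] MonoidAlgebra R M) := by
  have hinj : Function.Injective F := by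
    rw [injective_iff_map_eq_zero]
    intro x hx
    have h1 : x ∈ RingHom.ker (F : C →+* MonoidAlgebra R M) := hx
    rw [hke, he0, Ideal.span_singleton_eq_bot.mpr rfl] at h1
    exact h1
  exact ⟨BialgEquiv.ofBijective F ⟨hinj, hFs⟩⟩

end Pack

end Groth.Agent.Lib.Helper25.Adic
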