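import Groth.Agent.Lib.Helper25MonoMult
import Groth.Agent.Lib.Helper25GroupLikeConn

/-!
# Quotients of multiplicative type of diagonalisable groups over a connected base (helper25)

* `fg_and_idem_of_faithfullyFlat`, `fg_and_idem_of_span`: descent of "finitely generated and
  idempotent" for ideals (so: of "generated by an idempotent").
* `annIdeal R b = {r | r • b = 0}` and its flat base change (`mem_map_annIdeal_of_tmul_eq_zero`).
* group-like elements of `S[N]`: the coefficients are orthogonal idempotents.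
* `HasDiagCover`, `hasDiagCover_of_isMultType`.
* `injective_of_hasDiagCover`: over a connected base, a bialgebra map `ψ : R[M] → B`, `B` of
  multiplicative type, with `ψ m = 1 → m = 1` is injective.
* `isDiag_of_surjective`, `isDiag_quotient_of_isDiag`.
-/

set_option autoImplicit false
set_option linter.style.haveILetI false
universe u v w

namespace Groth.Agent.Lib.Helper25.SubDiag

open TensorProduct Coalgebra

section IdemDesc

variable {R : Type u} [CommRing R]

theorem isIdempotentElem_span_singleton {S : Type*} [CommRing S] {e : S}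
    (he : IsIdempotentElem e) : IsIdempotentElem (Ideal.span {e}) := by
  change Ideal.span {e} * Ideal.span {e} = Ideal.span {e}
  rw [Ideal.span_singleton_mul_span_singleton, he.eq]

/-- Faithfully flat descent for "finitely generated and idempotent". -/
theorem fg_and_idem_of_faithfullyFlat {S : Type*} [CommRing S] [Algebra R S]
    [Module.FaithfullyFlat R S] (I : Ideal R)
    (h1 : (I.map (algebraMap R S)).FG) (h2 : IsIdempotentElem (I.map (algebraMap R S))) :
    I.FG ∧ IsIdempotentElem I := by
  refine ⟨Ideal.FG.of_FG_map_of_faithfullyFlat h1, ?_⟩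
  change I * I = I
  rw [← Ideal.comap_map_eq_self_of_faithfullyFlat (B := S) (I * I), Ideal.map_mul]
  have : I.map (algebraMap R S) * I.map (algebraMap R S) = I.map (algebraMap R S) := h2
  rw [this, Ideal.comap_map_eq_self_of_faithfullyFlat]

/-- Zariski descent for "finitely generated and idempotent". -/
theorem fg_and_idem_of_span (I : Ideal R) (s : Set R) (hs : Ideal.span s = ⊤)
    (h : ∀ f ∈ s, (I.map (algebraMap R (Localization.Away f))).FG ∧
      IsIdempotentElem (I.map (algebraMap R (Localization.Away f)))) :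
    I.FG ∧ IsIdempotentElem I := by
  refine ⟨Ideal.fg_of_localizationSpan s hs (fun g => (h g.1 g.2).1), ?_⟩
  change I * I = I
  refine le_antisymm Ideal.mul_le_right ?_
  intro x hx
  refine Submodule.mem_of_span_eq_top_of_smul_pow_mem (I * I) s hs x ?_
  intro r
  have h2 : I.map (algebraMap R (Localization.Away r.1)) *
      I.map (algebraMap R (Localization.Away r.1)) =
      I.map (algebraMap R (Localization.Away r.1)) := (h r.1 r.2).2
  have h3 : algebraMap R (Localization.Away r.1) x ∈
      (I * I).map (algebraMap R (Localization.Away r.1)) := by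
    rw [Ideal.map_mul, h2]
    exact Ideal.mem_map_of_mem _ hx
  rw [IsLocalization.algebraMap_mem_map_algebraMap_iff (Submonoid.powers r.1)] at h3
  obtain ⟨m, ⟨n, rfl⟩, hm⟩ := h3
  exact ⟨n, hm⟩

end IdemDesc

open TensorProduct Coalgebra

section Flat

variable {R : Type u} [CommRing R] {S : Type v} [CommRing S] [Algebra R S]
  {B : Type w} [AddCommGroup B] [Module R B]

/-- The annihilator-type ideal `{r | r • b = 0}`. -/
def annIdeal (R : Type u) [CommRing R] {B : Type w} [AddCommGroup B] [Module R B] (b : B) :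
    Ideal R :=
  LinearMap.ker (LinearMap.toSpanSingleton R B b)

theorem mem_annIdeal {b : B} {r : R} : r ∈ annIdeal R b ↔ r • b = 0 := by
  simp [annIdeal, LinearMap.mem_ker, LinearMap.toSpanSingleton_apply]

theorem rid_lTensor_mem (I : Ideal R) (w : S ⊗[R] I) :
    TensorProduct.rid R S ((TensorProduct.comm R S R).symm
      ((TensorProduct.comm R S R) (I.subtype.lTensor S w))) ∈ I.map (algebraMap R S) := by
  induction w using TensorProduct.induction_on with
  | zero => simp
  | add x y hx hy =>
    simp only [map_add] at hx hy ⊢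
    exact Ideal.add_mem _ hx hy
  | tmul s i =>
    simp only [LinearMap.lTensor_tmul, Submodule.subtype_apply, LinearEquiv.symm_apply_apply,
      TensorProduct.rid_tmul]
    rw [Algebra.smul_def]
    exact Ideal.mul_mem_right _ _ (Ideal.mem_map_of_mem _ i.2)

/-- Flat base change of the ideal `{r | r • b = 0}`. -/
theorem mem_map_annIdeal_of_tmul_eq_zero [Module.Flat R S] (b : B) (s : S)
    (h : s ⊗ₜ[R] b = 0) : s ∈ (annIdeal R b).map (algebraMap R S) := by
  have hex : Function.Exact ((annIdeal R b).subtype.lTensor S)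
      ((LinearMap.toSpanSingleton R B b).lTensor S) :=
    Module.Flat.lTensor_exact S (LinearMap.exact_subtype_ker_map _)
  have h1 : (LinearMap.toSpanSingleton R B b).lTensor S (s ⊗ₜ[R] (1 : R)) = 0 := by
    rw [LinearMap.lTensor_tmul, LinearMap.toSpanSingleton_apply, one_smul, h]
  obtain ⟨w, hw⟩ := (hex _).mp h1
  have h2 := rid_lTensor_mem (S := S) (annIdeal R b) w
  rw [LinearEquiv.symm_apply_apply, hw] at h2
  simpa using h2

theorem map_annIdeal_le (b : B) (s : S) (hs : s ∈ (annIdeal R b).map (algebraMap R S)) :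
    s ⊗ₜ[R] b = 0 := by
  induction hs using Submodule.span_induction with
  | mem x hx =>
    obtain ⟨r, hr, rfl⟩ := hx
    rw [Algebra.algebraMap_eq_smul_one, smul_tmul, mem_annIdeal.mp hr, tmul_zero]
  | zero => simp
  | add x y _ _ hx hy => rw [add_tmul, hx, hy, add_zero]
  | smul a x _ hx =>
    have : (a • x) ⊗ₜ[R] b = a • (x ⊗ₜ[R] b) := by rw [smul_tmul']
    rw [this, hx, smul_zero]

end Flat

open TensorProduct Coalgebra

section GroupLike

variable {S : Type u} [CommRing S] {N : Type v} [CommGroup N]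

theorem coeff_mul_coeff [DecidableEq N] {g : MonoidAlgebra S N} (hg : IsGroupLikeElem S g)
    (n n' : N) : g.coeff n * g.coeff n' = if n = n' then g.coeff n else 0 := by
  rw [← Groth.Agent.Lib.Helper25.coeffPair_comul, hg.comul_eq_tmul_self]
  simp [Groth.Agent.Lib.Helper25.coeffPair]

theorem isIdempotentElem_coeff {g : MonoidAlgebra S N} (hg : IsGroupLikeElem S g) (n : N) :
    IsIdempotentElem (g.coeff n) := by
  classical
  have := coeff_mul_coeff hg n n
  rwa [if_pos rfl] at this

theorem coeff_one_smul_sub_one {g : MonoidAlgebra S N} (hg : IsGroupLikeElem S g) :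
    g.coeff 1 • (g - 1) = 0 := by
  classical
  apply MonoidAlgebra.coeff_injective
  ext n
  rw [MonoidAlgebra.coeff_smul, Finsupp.smul_apply, MonoidAlgebra.coeff_sub, Finsupp.sub_apply,
    smul_eq_mul, mul_sub, coeff_mul_coeff hg, MonoidAlgebra.one_def, MonoidAlgebra.coeff_single,
    Finsupp.single_apply]
  by_cases h : (1 : N) = n
  · subst h
    simp
  · simp [h]

theorem eq_mul_coeff_one_of_smul_sub_one {g : MonoidAlgebra S N} (r : S)
    (h : r • (g - 1) = 0) : r = r * g.coeff 1 := by
  classical
  have h1 := congrArg (fun y : MonoidAlgebra S N => y.coeff 1) h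
  simp only [MonoidAlgebra.coeff_smul, Finsupp.smul_apply, MonoidAlgebra.coeff_sub,
    Finsupp.sub_apply, smul_eq_mul, MonoidAlgebra.one_def, MonoidAlgebra.coeff_single,
    Finsupp.single_apply, MonoidAlgebra.coeff_zero, Finsupp.zero_apply, if_true] at h1
  rw [mul_sub, mul_one, sub_eq_zero] at h1
  exact h1.symm

end GroupLike

section BaseChange

variable {R : Type u} [CommRing R] {S : Type u} [CommRing S] [Algebra R S]
  {B : Type u} [CommRing B] [HopfAlgebra R B]

theorem isGroupLikeElem_one_tmul {b : B} (hb : IsGroupLikeElem R b) :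
    IsGroupLikeElem S ((1 : S) ⊗ₜ[R] b) where
  counit_eq_one := by
    rw [TensorProduct.counit_tmul]
    simp [hb.counit_eq_one]
  comul_eq_tmul_self := by
    rw [MRB.comul_one_tmul, hb.comul_eq_tmul_self, MRB.bcMap2_tmul]

end BaseChange

open TensorProduct Coalgebra

section Local

variable {R : Type u} [CommRing R] {S : Type u} [CommRing S] [Algebra R S]
  {B : Type u} [CommRing B] [HopfAlgebra R B] {N : Type u} [CommGroup N]
  (ε : S ⊗[R] B ≃ₐc[S] MonoidAlgebra S N)

/-- The functional `b ↦ (ε (1 ⊗ b))₁`. -/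
noncomputable def tau : B →ₗ[R] S where
  toFun b := (ε ((1 : S) ⊗ₜ[R] b)).coeff 1
  map_add' := by
    intro a b
    rw [tmul_add, map_add, MonoidAlgebra.coeff_add, Finsupp.add_apply]
  map_smul' := by
    intro r b
    rw [tmul_smul, ← algebraMap_smul S r ((1 : S) ⊗ₜ[R] b), map_smul, MonoidAlgebra.coeff_smul,
      Finsupp.smul_apply]
    simp [Algebra.smul_def]

theorem tau_apply (b : B) : tau ε b = (ε ((1 : S) ⊗ₜ[R] b)).coeff 1 := rfl

theorem tau_one : tau ε (1 : B) = 1 := by
  classical
  have h : ε ((1 : S) ⊗ₜ[R] (1 : B)) = 1 := by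
    rw [← Algebra.TensorProduct.one_def, map_one]
  rw [tau_apply, h, MonoidAlgebra.one_def, MonoidAlgebra.coeff_single, Finsupp.single_apply,
    if_pos rfl]

theorem eps_tmul (s : S) (b : B) : ε (s ⊗ₜ[R] b) = s • ε ((1 : S) ⊗ₜ[R] b) := by
  rw [← map_smul, smul_tmul', smul_eq_mul, mul_one]

theorem eps_one_tmul_sub_one (b : B) :
    ε ((1 : S) ⊗ₜ[R] (b - 1)) = ε ((1 : S) ⊗ₜ[R] b) - 1 := by
  rw [tmul_sub, map_sub, ← Algebra.TensorProduct.one_def, map_one]

theorem isIdempotentElem_tau {b : B} (hb : IsGroupLikeElem R b) :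
    IsIdempotentElem (tau ε b) :=
  isIdempotentElem_coeff ((isGroupLikeElem_one_tmul (S := S) hb).map ε) 1

/-- Flat base change of the ideal `{r | r • (b - 1) = 0}` for a group-like `b`. -/
theorem map_annIdeal_eq [Module.Flat R S] {b : B} (hb : IsGroupLikeElem R b) :
    (annIdeal R (b - 1)).map (algebraMap R S) = Ideal.span {tau ε b} := by
  have hg : IsGroupLikeElem S (ε ((1 : S) ⊗ₜ[R] b)) :=
    (isGroupLikeElem_one_tmul (S := S) hb).map ε
  apply le_antisymm
  · intro s hs
    have h1 : s ⊗ₜ[R] (b - 1) = 0 := map_annIdeal_le (b - 1) s hs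
    have h2 : s • (ε ((1 : S) ⊗ₜ[R] b) - 1) = 0 := by
      rw [← eps_one_tmul_sub_one, ← eps_tmul, h1, map_zero]
    have h3 := eq_mul_coeff_one_of_smul_sub_one s h2
    rw [Ideal.mem_span_singleton']
    exact ⟨s, h3.symm⟩
  · rw [Ideal.span_le, Set.singleton_subset_iff]
    apply mem_map_annIdeal_of_tmul_eq_zero
    have h5 : ε (tau ε b ⊗ₜ[R] (b - 1)) = 0 := by
      rw [eps_tmul, eps_one_tmul_sub_one]
      exact coeff_one_smul_sub_one hg
    exact (EmbeddingLike.map_eq_zero_iff (f := ε)).mp h5

end Local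

open TensorProduct Coalgebra SGA3b

section Global

variable (R : Type u) [CommRing R] (B : Type u) [CommRing B] [HopfAlgebra R B]

/-- `B` is diagonalised by a flat cover: basic opens `D(f)` and faithfully flat `R_f`-algebras. -/
def HasDiagCover : Prop :=
  ∃ s : Set R, Ideal.span s = ⊤ ∧ ∀ f ∈ s, ∃ (S : Type u) (_ : CommRing S) (_ : Algebra R S)
    (_ : Algebra (Localization.Away f) S), IsScalarTower R (Localization.Away f) S ∧
      Module.FaithfullyFlat (Localization.Away f) S ∧ IsDiag S (S ⊗[R] B)

variable {R B}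

theorem hasDiagCover_of_isMultType (h : IsMultType R B) : HasDiagCover R B := by
  obtain ⟨s, hs, hmt⟩ := h
  refine ⟨s, hs, ?_⟩
  intro f hf
  obtain ⟨R', _, _, hff, hD⟩ := hmt f hf
  letI : Algebra R R' :=
    ((algebraMap (Localization.Away f) R').comp (algebraMap R (Localization.Away f))).toAlgebra
  haveI : IsScalarTower R (Localization.Away f) R' := IsScalarTower.of_algebraMap_eq (fun _ => rfl)
  exact ⟨R', inferInstance, inferInstance, inferInstance, inferInstance, hff,
    BCB.isDiag_of_equiv (BCB.cancelBC R (Localization.Away f) R' B).symm hD⟩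

variable {M : Type u} [CommGroup M] (ψ : MonoidAlgebra R M →ₐc[R] B)

theorem annIdeal_eq_bot [Nontrivial R] (hconn : ∀ e : R, IsIdempotentElem e → e = 0 ∨ e = 1)
    (hcov : HasDiagCover R B) (hψ : ∀ m : M, ψ (MonoidAlgebra.of R M m) = 1 → m = 1)
    (m : M) (hm : m ≠ 1) : annIdeal R (ψ (MonoidAlgebra.of R M m) - 1) = ⊥ := by
  set b := ψ (MonoidAlgebra.of R M m) with hbdef
  have hb : IsGroupLikeElem R b := (MonoidAlgebra.isGroupLikeElem_of (R := R) (A := R) m).map ψ
  have hfi : (annIdeal R (b - 1)).FG ∧ IsIdempotentElem (annIdeal R (b - 1)) := by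
    obtain ⟨s, hs, h⟩ := hcov
    refine fg_and_idem_of_span _ s hs ?_
    intro f hf
    obtain ⟨S, _, _, _, _, hff, N, _, ⟨ε⟩⟩ := h f hf
    haveI : Module.Flat R S := Module.Flat.trans R (Localization.Away f) S
    have hmap : ((annIdeal R (b - 1)).map (algebraMap R (Localization.Away f))).map
        (algebraMap (Localization.Away f) S) = Ideal.span {tau ε b} := by
      rw [Ideal.map_map, ← IsScalarTower.algebraMap_eq, map_annIdeal_eq ε hb]
    apply fg_and_idem_of_faithfullyFlat (S := S)
    · rw [hmap]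
      exact ⟨{tau ε b}, by simp⟩
    · rw [hmap]
      exact isIdempotentElem_span_singleton (isIdempotentElem_tau ε hb)
  obtain ⟨e, he, hI⟩ := (Ideal.isIdempotentElem_iff_of_fg _ hfi.1).mp hfi.2
  rcases hconn e he with rfl | rfl
  · rw [hI]
    simp
  · exfalso
    have h1 : (1 : R) ∈ annIdeal R (b - 1) := by
      rw [hI]
      exact Ideal.subset_span rfl
    rw [mem_annIdeal, one_smul, sub_eq_zero] at h1
    exact hm (hψ m h1)

end Global

open TensorProduct Coalgebra SGA3b

section Global2

variable {R : Type u} [CommRing R] {B : Type u} [CommRing B] [HopfAlgebra R B]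
  {M : Type u} [CommGroup M] (ψ : MonoidAlgebra R M →ₐc[R] B)

theorem tau_psi {S : Type u} [CommRing S] [Algebra R S] {N : Type u} [CommGroup N]
    (ε : S ⊗[R] B ≃ₐc[S] MonoidAlgebra S N)
    (hτ : ∀ m : M, m ≠ 1 → tau ε (ψ (MonoidAlgebra.of R M m)) = 0) (y : MonoidAlgebra R M) :
    tau ε (ψ y) = algebraMap R S (y.coeff 1) := by
  classical
  induction y using MonoidAlgebra.induction_linear with
  | zero => simp
  | add x y hx hy =>
    rw [map_add, map_add, hx, hy, MonoidAlgebra.coeff_add, Finsupp.add_apply, map_add]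
  | single m r =>
    have h1 : (MonoidAlgebra.single m r : MonoidAlgebra R M) = r • MonoidAlgebra.of R M m := by
      rw [MonoidAlgebra.of_apply, MonoidAlgebra.smul_single, smul_eq_mul, mul_one]
    rw [h1, map_smul, map_smul, ← h1, MonoidAlgebra.coeff_single, Finsupp.single_apply]
    by_cases hm : m = 1
    · subst hm
      rw [if_pos rfl, MonoidAlgebra.of_apply, ← MonoidAlgebra.one_def, map_one, tau_one,
        Algebra.algebraMap_eq_smul_one]
    · rw [if_neg hm, hτ m hm, smul_zero, map_zero]

theorem coeff_one_eq_zero [Nontrivial R] (hconn : ∀ e : R, IsIdempotentElem e → e = 0 ∨ e = 1)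
    (hcov : HasDiagCover R B) (hψ : ∀ m : M, ψ (MonoidAlgebra.of R M m) = 1 → m = 1)
    (x : MonoidAlgebra R M) (hx : ψ x = 0) : x.coeff 1 = 0 := by
  have hann := annIdeal_eq_bot ψ hconn hcov hψ
  obtain ⟨s, hs, h⟩ := hcov
  have hmem : x.coeff 1 ∈ (⊥ : Ideal R) := by
    refine Submodule.mem_of_span_eq_top_of_smul_pow_mem ⊥ s hs _ (fun r => ?_)
    obtain ⟨S, _, _, _, _, hff, N, _, ⟨ε⟩⟩ := h r.1 r.2
    haveI := hff
    haveI : Module.Flat R S := Module.Flat.trans R (Localization.Away r.1) S
    have hτ : ∀ m : M, m ≠ 1 → tau ε (ψ (MonoidAlgebra.of R M m)) = 0 := by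
      intro m hm
      have hb : IsGroupLikeElem R (ψ (MonoidAlgebra.of R M m)) :=
        (MonoidAlgebra.isGroupLikeElem_of (R := R) (A := R) m).map ψ
      have h1 := map_annIdeal_eq ε hb
      rw [hann m hm, Ideal.map_bot] at h1
      exact Ideal.span_singleton_eq_bot.mp h1.symm
    have h2 : algebraMap R S (x.coeff 1) = 0 := by
      rw [← tau_psi ψ ε hτ x, hx, map_zero]
    have h3 : algebraMap R (Localization.Away r.1) (x.coeff 1) = 0 := by
      apply FaithfulSMul.algebraMap_injective (Localization.Away r.1) S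
      rw [map_zero, ← IsScalarTower.algebraMap_apply, h2]
    obtain ⟨⟨_, n, rfl⟩, hn⟩ :=
      (IsLocalization.map_eq_zero_iff (Submonoid.powers r.1) (Localization.Away r.1) _).mp h3
    exact ⟨n, by simpa using hn⟩
  simpa using hmem

theorem injective_of_hasDiagCover [Nontrivial R]
    (hconn : ∀ e : R, IsIdempotentElem e → e = 0 ∨ e = 1)
    (hcov : HasDiagCover R B) (hψ : ∀ m : M, ψ (MonoidAlgebra.of R M m) = 1 → m = 1) :
    Function.Injective ψ := by
  rw [injective_iff_map_eq_zero]
  intro x hx
  apply MonoidAlgebra.coeff_injective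
  ext ν
  have h1 : ψ (MonoidAlgebra.single ν⁻¹ 1 * x) = 0 := by rw [map_mul, hx, mul_zero]
  have h2 := coeff_one_eq_zero ψ hconn hcov hψ _ h1
  rw [MonoidAlgebra.coeff_single_mul_apply, one_mul, inv_inv, mul_one] at h2
  simpa using h2

end Global2

open TensorProduct Coalgebra SGA3b

section Final

variable {R : Type u} [CommRing R] {B : Type u} [CommRing B] [HopfAlgebra R B]
  {M : Type u} [CommGroup M] (ψ : MonoidAlgebra R M →ₐc[R] B)

/-- `m ↦ ψ m` as a homomorphism to the group-like elements. -/
noncomputable def toGL : M →* GroupLike R B where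
  toFun m := ⟨ψ (MonoidAlgebra.of R M m),
    (MonoidAlgebra.isGroupLikeElem_of (R := R) (A := R) m).map ψ⟩
  map_one' := by
    apply GroupLike.val_injective
    change ψ (MonoidAlgebra.of R M 1) = 1
    rw [map_one, map_one]
  map_mul' := by
    intro a b
    apply GroupLike.val_injective
    change ψ (MonoidAlgebra.of R M (a * b)) =
      ψ (MonoidAlgebra.of R M a) * ψ (MonoidAlgebra.of R M b)
    rw [map_mul, map_mul]

@[simp] theorem toGL_val (m : M) : (toGL ψ m).val = ψ (MonoidAlgebra.of R M m) := rfl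

/-- The induced map from the group algebra of `M / K`. -/
noncomputable def psiBar : MonoidAlgebra R (M ⧸ (toGL ψ).ker) →ₐc[R] B :=
  (MonoidAlgebra.liftGroupLikeBialgHom (R := R) (A := B)).comp
    (MonoidAlgebra.mapDomainBialgHom R (QuotientGroup.kerLift (toGL ψ)))

theorem psiBar_of (μ : M ⧸ (toGL ψ).ker) :
    psiBar ψ (MonoidAlgebra.of R _ μ) = (QuotientGroup.kerLift (toGL ψ) μ).val := by
  rw [psiBar, BialgHom.comp_apply, MonoidAlgebra.of_apply,
    MonoidAlgebra.mapDomainBialgHom_single, MonoidAlgebra.liftGroupLikeBialgHom_apply,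
    MonoidAlgebra.lift_single, one_smul]
  rfl

theorem psiBar_of_eq_one (μ : M ⧸ (toGL ψ).ker) (h : psiBar ψ (MonoidAlgebra.of R _ μ) = 1) :
    μ = 1 := by
  rw [psiBar_of] at h
  apply QuotientGroup.kerLift_injective (toGL ψ)
  rw [map_one]
  apply GroupLike.val_injective
  rw [h]
  rfl

theorem psiBar_comp_mapDomain (x : MonoidAlgebra R M) :
    psiBar ψ (MonoidAlgebra.mapDomainBialgHom R (QuotientGroup.mk' (toGL ψ).ker) x) = ψ x := by
  induction x using MonoidAlgebra.induction_linear with
  | zero => simp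
  | add x y hx hy => rw [map_add, map_add, map_add, hx, hy]
  | single m r =>
    have h1 : (MonoidAlgebra.single m r : MonoidAlgebra R M) = r • MonoidAlgebra.of R M m := by
      rw [MonoidAlgebra.of_apply, MonoidAlgebra.smul_single, smul_eq_mul, mul_one]
    rw [h1, map_smul, map_smul, map_smul, MonoidAlgebra.of_apply,
      MonoidAlgebra.mapDomainBialgHom_single, ← MonoidAlgebra.of_apply, psiBar_of]
    rfl

theorem psiBar_surjective (hψ : Function.Surjective ψ) : Function.Surjective (psiBar ψ) := by
  intro b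
  obtain ⟨x, rfl⟩ := hψ b
  exact ⟨_, psiBar_comp_mapDomain ψ x⟩

/-- A quotient of multiplicative type of a diagonalisable group over a connected base is
diagonalisable. -/
theorem isDiag_of_surjective [Nontrivial R]
    (hconn : ∀ e : R, IsIdempotentElem e → e = 0 ∨ e = 1) (hB : IsMultType R B)
    (hψ : Function.Surjective ψ) : IsDiag R B := by
  have hinj : Function.Injective (psiBar ψ) :=
    injective_of_hasDiagCover (psiBar ψ) hconn (hasDiagCover_of_isMultType hB)
      (psiBar_of_eq_one ψ)
  exact ⟨M ⧸ (toGL ψ).ker, inferInstance,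
    ⟨(BialgEquiv.ofBijective (psiBar ψ) ⟨hinj, psiBar_surjective ψ hψ⟩).symm⟩⟩

end Final

section Statement

variable (R : Type u) [CommRing R] (A : Type u) [CommRing A] [HopfAlgebra R A]

theorem isDiag_quotient_of_isDiag [Nontrivial R]
    (hconn : ∀ e : R, IsIdempotentElem e → e = 0 ∨ e = 1) (hG : IsDiag R A)
    (J : Ideal A) [J.IsHopfIdeal R] (hH : IsMultType R (A ⧸ J)) : IsDiag R (A ⧸ J) := by
  obtain ⟨M, _, ⟨e⟩⟩ := hG
  refine isDiag_of_surjective
    ((Bialgebra.Quotient.mkBialgHom J).comp e.symm.toBialgHom) hconn hH ?_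
  intro b
  obtain ⟨a, rfl⟩ := Ideal.Quotient.mk_surjective b
  exact ⟨e a, by simp⟩

end Statement

end Groth.Agent.Lib.Helper25.SubDiag
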