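import Groth.Agent.Lib.Helper25SubDiag
import Groth.Agent.Lib.Helper25Killed

/-!
# The `n`-torsion subgroup of a group of multiplicative type (helper25)

* `isKilled_quotient`: `A/J` is killed by `n` when `J` contains the `n`-torsion ideal.
* `isDiag_baseChange_quotient`: if `S ⊗ A ≅ S[M]` then `S ⊗ A/Jₙ ≅ S[M/Mⁿ]`.
* `isMultType_of_hasDiagCover`, `torsion_quotient`.
-/

set_option autoImplicit false
set_option linter.style.haveILetI false
universe u v w

namespace Groth.Agent.Lib.Helper25.TorsQuot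

open TensorProduct Coalgebra SGA3b WithConv
open Groth.Agent.Lib.Helper25.Tors Groth.Agent.Lib.Helper25.SubDiag Groth.Agent.Lib.Helper25

section Killed

variable {R : Type u} [CommRing R] {A : Type u} [CommRing A] [HopfAlgebra R A]

/-- The quotient by the `n`-torsion ideal is killed by `n`. -/
theorem isKilled_quotient (n : ℕ) (J : Ideal A) [J.IsHopfIdeal R] (hJ : torsionIdeal R A n ≤ J) :
    IsKilled R (A ⧸ J) n := by
  intro b
  obtain ⟨a, rfl⟩ := Ideal.Quotient.mk_surjective b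
  have h1 : powConv R (A ⧸ J) n (Ideal.Quotient.mk J a) =
      Ideal.Quotient.mk J (powConv R A n a) :=
    (map_powConv (Bialgebra.Quotient.mkBialgHom (R := R) J) n a).symm
  have h2 : counit (R := R) (Ideal.Quotient.mk J a) = counit (R := R) a :=
    CoalgHomClass.counit_comp_apply (Bialgebra.Quotient.mkBialgHom (R := R) J) a
  rw [h1, h2]
  have h3 : a - algebraMap R A (counit (R := R) a) ∈
      RingHom.ker (Bialgebra.counitAlgHom R A) := by
    rw [RingHom.mem_ker, map_sub, AlgHom.commutes]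
    change counit (R := R) a - algebraMap R R (counit (R := R) a) = 0
    simp
  have h4 : powConv R A n (a - algebraMap R A (counit (R := R) a)) ∈ torsionIdeal R A n :=
    Ideal.mem_map_of_mem _ h3
  rw [map_sub, AlgHom.commutes] at h4
  have h5 := hJ h4
  rw [← Ideal.Quotient.eq] at h5
  rw [h5]
  rfl

/-- A group-like element of a group killed by `n` has `n`-th power `1`. -/
theorem pow_eq_one_of_isKilled {n : ℕ} (h : IsKilled R A n) {g : A}
    (hg : IsGroupLikeElem R g) : g ^ n = 1 := by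
  rw [← powConv_groupLike n hg.comul_eq_tmul_self hg.counit_eq_one, h g, hg.counit_eq_one,
    map_one]

end Killed

section Local

variable {R : Type u} [CommRing R] {A : Type u} [CommRing A] [HopfAlgebra R A]
  {S : Type u} [CommRing S] [Algebra R S] {M : Type u} [CommGroup M]
  (ε : S ⊗[R] A ≃ₐc[S] MonoidAlgebra S M) (n : ℕ) (J : Ideal A) [J.IsHopfIdeal R]

/-- `S ⊗ A ≅ S[M] → S[M/Mⁿ]`. -/
noncomputable def theta : S ⊗[R] A →ₐc[S] MonoidAlgebra S (M ⧸ powSub M n) :=
  (quotMap S M n).comp ε.toBialgHom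

theorem theta_apply (z : S ⊗[R] A) : theta ε n z = quotMap S M n (ε z) := rfl

theorem theta_one_tmul_eq_zero (hJ : J = torsionIdeal R A n) {a : A} (ha : a ∈ J) :
    theta ε n ((1 : S) ⊗ₜ[R] a) = 0 := by
  rw [hJ] at ha
  have h1 := one_tmul_mem_torsionIdeal S n ha
  have h2 := map_mem_torsionIdeal (theta ε n) n h1
  have h3 : torsionIdeal S (MonoidAlgebra S (M ⧸ powSub M n)) n = ⊥ := by
    rw [torsionIdeal_eq_bot_iff]
    apply isKilled_monoidAlgebra
    intro q
    obtain ⟨m, rfl⟩ := QuotientGroup.mk_surjective q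
    rw [← QuotientGroup.mk_pow, QuotientGroup.eq_one_iff]
    exact ⟨m, rfl⟩
  rw [h3] at h2
  exact h2

/-- The induced `R`-algebra map `A/J → S[M/Mⁿ]`. -/
noncomputable def chi0 (hJ : J = torsionIdeal R A n) :
    A ⧸ J →ₐ[R] MonoidAlgebra S (M ⧸ powSub M n) :=
  Ideal.Quotient.liftₐ J
    (((theta ε n : S ⊗[R] A →ₐ[S] MonoidAlgebra S (M ⧸ powSub M n)).restrictScalars R).comp
      Algebra.TensorProduct.includeRight)
    (fun a ha => theta_one_tmul_eq_zero ε n J hJ ha)

theorem chi0_mk (hJ : J = torsionIdeal R A n) (a : A) :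
    chi0 ε n J hJ (Ideal.Quotient.mk J a) = theta ε n ((1 : S) ⊗ₜ[R] a) := rfl

/-- The induced `S`-algebra map `S ⊗ A/J → S[M/Mⁿ]`. -/
noncomputable def chi (hJ : J = torsionIdeal R A n) :
    S ⊗[R] (A ⧸ J) →ₐ[S] MonoidAlgebra S (M ⧸ powSub M n) :=
  Algebra.TensorProduct.lift (Algebra.ofId S _) (chi0 ε n J hJ) (fun _ _ => Commute.all _ _)

theorem chi_tmul (hJ : J = torsionIdeal R A n) (s : S) (b : A ⧸ J) :
    chi ε n J hJ (s ⊗ₜ[R] b) = s • chi0 ε n J hJ b := by
  rw [chi, Algebra.TensorProduct.lift_tmul, Algebra.ofId_apply, Algebra.smul_def]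

/-- The base change of the quotient map. -/
noncomputable def bcMk : S ⊗[R] A →ₐc[S] S ⊗[R] (A ⧸ J) :=
  Bialgebra.TensorProduct.map (BialgHom.id S S) (Bialgebra.Quotient.mkBialgHom J)

theorem bcMk_tmul (s : S) (a : A) : bcMk (S := S) J (s ⊗ₜ[R] a) = s ⊗ₜ[R] Ideal.Quotient.mk J a :=
  rfl

theorem bcMk_surjective : Function.Surjective (bcMk (R := R) (S := S) J) := by
  intro y
  induction y using TensorProduct.induction_on with
  | zero => exact ⟨0, map_zero _⟩
  | tmul c ab =>
    obtain ⟨a, rfl⟩ := Ideal.Quotient.mk_surjective ab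
    exact ⟨c ⊗ₜ[R] a, rfl⟩
  | add x y hx hy =>
    obtain ⟨x', rfl⟩ := hx
    obtain ⟨y', rfl⟩ := hy
    exact ⟨x' + y', map_add _ _ _⟩

theorem chi_bcMk (hJ : J = torsionIdeal R A n) (z : S ⊗[R] A) :
    chi ε n J hJ (bcMk J z) = theta ε n z := by
  induction z using TensorProduct.induction_on with
  | zero => simp
  | add x y hx hy => rw [map_add, map_add, map_add, hx, hy]
  | tmul s a =>
    rw [bcMk_tmul, chi_tmul, chi0_mk, ← map_smul, smul_tmul', smul_eq_mul, mul_one]

end Local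

section Local2

variable {R : Type u} [CommRing R] {A : Type u} [CommRing A] [HopfAlgebra R A]
  {S : Type u} [CommRing S] [Algebra R S] {M : Type u} [CommGroup M]
  (ε : S ⊗[R] A ≃ₐc[S] MonoidAlgebra S M) (n : ℕ) (J : Ideal A) [J.IsHopfIdeal R]

/-- `S[M] ≅ S ⊗ A → S ⊗ A/J`. -/
noncomputable def psi' : MonoidAlgebra S M →ₐc[S] S ⊗[R] (A ⧸ J) :=
  (bcMk J).comp ε.symm.toBialgHom

theorem psi'_apply (x : MonoidAlgebra S M) : psi' ε J x = bcMk J (ε.symm x) := rfl

theorem psi'_surjective : Function.Surjective (psi' ε J) := by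
  intro y
  obtain ⟨z, rfl⟩ := bcMk_surjective (R := R) (S := S) J y
  exact ⟨ε z, by rw [psi'_apply, BialgEquiv.symm_apply_apply]⟩

theorem powSub_le_ker (hJ : J = torsionIdeal R A n) : powSub M n ≤ (toGL (psi' ε J)).ker := by
  rintro _ ⟨m, rfl⟩
  rw [MonoidHom.mem_ker]
  change toGL (psi' ε J) (m ^ n) = 1
  rw [map_pow]
  apply GroupLike.val_injective
  have hk : IsKilled S (S ⊗[R] (A ⧸ J)) n :=
    (isKilled_quotient n J hJ.ge).baseChange S
  change (toGL (psi' ε J) m).val ^ n = 1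
  exact pow_eq_one_of_isKilled hk (toGL (psi' ε J) m).isGroupLikeElem_val

/-- The induced bialgebra map `S[M/Mⁿ] → S ⊗ A/J`. -/
noncomputable def psiBar' (hJ : J = torsionIdeal R A n) :
    MonoidAlgebra S (M ⧸ powSub M n) →ₐc[S] S ⊗[R] (A ⧸ J) :=
  (MonoidAlgebra.liftGroupLikeBialgHom (R := S) (A := S ⊗[R] (A ⧸ J))).comp
    (MonoidAlgebra.mapDomainBialgHom S
      (QuotientGroup.lift (powSub M n) (toGL (psi' ε J)) (powSub_le_ker ε n J hJ)))

theorem psiBar'_of (hJ : J = torsionIdeal R A n) (m : M) :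
    psiBar' ε n J hJ (MonoidAlgebra.of S _ (QuotientGroup.mk' (powSub M n) m)) =
      psi' ε J (MonoidAlgebra.of S M m) := by
  rw [psiBar', BialgHom.comp_apply, MonoidAlgebra.of_apply,
    MonoidAlgebra.mapDomainBialgHom_single, MonoidAlgebra.liftGroupLikeBialgHom_apply,
    MonoidAlgebra.lift_single, one_smul]
  rfl

theorem psiBar'_quotMap (hJ : J = torsionIdeal R A n) (x : MonoidAlgebra S M) :
    psiBar' ε n J hJ (quotMap S M n x) = psi' ε J x := by
  induction x using MonoidAlgebra.induction_linear with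
  | zero => simp
  | add x y hx hy => rw [map_add, map_add, map_add, hx, hy]
  | single m r =>
    have h1 : (MonoidAlgebra.single m r : MonoidAlgebra S M) = r • MonoidAlgebra.of S M m := by
      rw [MonoidAlgebra.of_apply, MonoidAlgebra.smul_single, smul_eq_mul, mul_one]
    rw [h1, map_smul, map_smul, map_smul, quotMap, MonoidAlgebra.of_apply,
      MonoidAlgebra.mapDomainBialgHom_single, ← MonoidAlgebra.of_apply, psiBar'_of]
    rfl

theorem chi_psiBar' (hJ : J = torsionIdeal R A n) (y : MonoidAlgebra S (M ⧸ powSub M n)) :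
    chi ε n J hJ (psiBar' ε n J hJ y) = y := by
  have h : (chi ε n J hJ).comp
      (psiBar' ε n J hJ : MonoidAlgebra S (M ⧸ powSub M n) →ₐ[S] S ⊗[R] (A ⧸ J)) =
      AlgHom.id S _ := by
    apply MonoidAlgebra.algHom_ext
    · intro q
      obtain ⟨m, rfl⟩ := QuotientGroup.mk_surjective q
      change chi ε n J hJ (psiBar' ε n J hJ
        (MonoidAlgebra.of S _ (QuotientGroup.mk' (powSub M n) m))) = _
      rw [psiBar'_of, psi'_apply, chi_bcMk, theta_apply, BialgEquiv.apply_symm_apply, quotMap,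
        MonoidAlgebra.of_apply, MonoidAlgebra.mapDomainBialgHom_single]
      rfl
    · exact BCB.algHom_self_ext S _ _
  exact AlgHom.congr_fun h y

theorem psiBar'_bijective (hJ : J = torsionIdeal R A n) :
    Function.Bijective (psiBar' ε n J hJ) := by
  constructor
  · intro y y' hyy
    rw [← chi_psiBar' ε n J hJ y, ← chi_psiBar' ε n J hJ y', hyy]
  · intro b
    obtain ⟨x, rfl⟩ := psi'_surjective ε J b
    exact ⟨quotMap S M n x, psiBar'_quotMap ε n J hJ x⟩

/-- If `S ⊗ A` is diagonalisable then so is `S ⊗ A/J` for `J` the `n`-torsion ideal. -/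
theorem isDiag_baseChange_quotient (hJ : J = torsionIdeal R A n)
    (h : IsDiag S (S ⊗[R] A)) : IsDiag S (S ⊗[R] (A ⧸ J)) := by
  obtain ⟨M, _, ⟨ε⟩⟩ := h
  exact ⟨M ⧸ powSub M n, inferInstance,
    ⟨(BialgEquiv.ofBijective (psiBar' ε n J hJ) (psiBar'_bijective ε n J hJ)).symm⟩⟩

end Local2

section Global

variable {R : Type u} [CommRing R] {A : Type u} [CommRing A] [HopfAlgebra R A]

theorem isMultType_of_hasDiagCover {B : Type u} [CommRing B] [HopfAlgebra R B]
    (h : HasDiagCover R B) : IsMultType R B := by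
  obtain ⟨s, hs, hc⟩ := h
  refine ⟨s, hs, fun f hf => ?_⟩
  obtain ⟨S, _, _, _, _, hff, hD⟩ := hc f hf
  exact ⟨S, inferInstance, inferInstance, hff,
    BCB.isDiag_of_equiv (BCB.cancelBC R (Localization.Away f) S B) hD⟩

/-- The `n`-torsion subgroup of a group of multiplicative type and of finite type is of
multiplicative type and finite. -/
theorem torsion_quotient (hft : Algebra.FiniteType R A) (h : IsMultType R A) (n : ℕ)
    (hn : 0 < n) (J : Ideal A) [J.IsHopfIdeal R] (hJ : J = torsionIdeal R A n) :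
    IsMultType R (A ⧸ J) ∧ Module.Finite R (A ⧸ J) := by
  have hmt : IsMultType R (A ⧸ J) := by
    apply isMultType_of_hasDiagCover
    obtain ⟨s, hs, hc⟩ := hasDiagCover_of_isMultType h
    refine ⟨s, hs, fun f hf => ?_⟩
    obtain ⟨S, i1, i2, i3, i4, hff, hD⟩ := hc f hf
    exact ⟨S, i1, i2, i3, i4, hff, isDiag_baseChange_quotient n J hJ hD⟩
  refine ⟨hmt, ?_⟩
  have hft' : Algebra.FiniteType R (A ⧸ J) :=
    hft.of_surjective (Ideal.Quotient.mkₐ R J) (Ideal.Quotient.mkₐ_surjective R J)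
  rw [finite_iff_exists_torsionIdeal_eq_bot R (A ⧸ J) hft' hmt]
  exact ⟨n, hn, (torsionIdeal_eq_bot_iff n).mpr (isKilled_quotient n J hJ.ge)⟩

end Global

end Groth.Agent.Lib.Helper25.TorsQuot
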