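import Groth.Agent.Lib.Helper25NilDiagA

/-!
# Diagonalisability modulo a nil ideal, local part and conclusion (helper25)

* `PhiS_bijective`: the base change of `Φ` to a diagonalising algebra is bijective.
* `Phi_bijective`, `isDiag_of_isDiag_mod_nil`.
-/

set_option autoImplicit false
set_option linter.unusedSectionVars false
set_option linter.style.haveILetI false
universe u

namespace Groth.Agent.Lib.Helper25.NilDiag

open TensorProduct Groth.Agent.Lib.Helper25 Groth.Agent.Lib.Helper25.NilGL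
  Groth.Agent.Lib.Helper25.NilLift

section Global2

variable {R : Type u} [CommRing R] {A : Type u} [CommRing A] [HopfAlgebra R A]
  (D : DiagFam R A) (hNP : MRB.NoPrimMod R A) (I : Ideal R) (hI : ∀ x ∈ I, IsNilpotent x)
  {M : Type u} [CommGroup M] (e : (R ⧸ I) ⊗[R] A ≃ₐc[R ⧸ I] MonoidAlgebra (R ⧸ I) M)

theorem exists_Phi_sub_mem (a : A) :
    ∃ y, Phi D hNP I hI e y - a ∈ I • (⊤ : Submodule R A) := by
  obtain ⟨z, hz⟩ := (PhiBar_bijective D hNP I hI e).2 ((1 : R ⧸ I) ⊗ₜ[R] a)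
  obtain ⟨y, rfl⟩ := TensorProduct.mk_surjective R (MonoidAlgebra R M) (R ⧸ I)
    Ideal.Quotient.mk_surjective z
  rw [TensorProduct.mk_apply, PhiBar_one_tmul, one_tmul_eq_one_tmul_iff] at hz
  exact ⟨y, hz⟩

/-- An `R`-linear inverse of `Φ` modulo `I`. -/
noncomputable def thetaBar : A →ₗ[R] (R ⧸ I) ⊗[R] MonoidAlgebra R M :=
  ((LinearEquiv.ofBijective (PhiBar D hNP I hI e)
      (PhiBar_bijective D hNP I hI e)).symm.toLinearMap.restrictScalars R) ∘ₗ
    (TensorProduct.mk R (R ⧸ I) A 1)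

theorem thetaBar_Phi (y : MonoidAlgebra R M) :
    thetaBar D hNP I hI e (Phi D hNP I hI e y) = (1 : R ⧸ I) ⊗ₜ[R] y := by
  unfold thetaBar
  rw [LinearMap.comp_apply, TensorProduct.mk_apply, ← PhiBar_one_tmul]
  exact (LinearEquiv.ofBijective (PhiBar D hNP I hI e)
    (PhiBar_bijective D hNP I hI e)).symm_apply_apply _

theorem smul_quotTensor_eq_zero (Q : Type u) [AddCommGroup Q] [Module R Q] :
    ∀ r ∈ I, ∀ q : (R ⧸ I) ⊗[R] Q, r • q = 0 := by
  intro r hr q
  induction q using TensorProduct.induction_on with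
  | zero => simp
  | add x y hx hy => rw [smul_add, hx, hy, add_zero]
  | tmul t q =>
    rw [TensorProduct.smul_tmul']
    have : r • t = 0 := by
      rw [Algebra.smul_def]
      have : algebraMap R (R ⧸ I) r = 0 := Ideal.Quotient.eq_zero_iff_mem.mpr hr
      rw [this, zero_mul]
    rw [this, TensorProduct.zero_tmul]

end Global2

section Local

variable {R : Type u} [CommRing R] {A : Type u} [CommRing A] [HopfAlgebra R A]
  (D : DiagFam R A) (hNP : MRB.NoPrimMod R A) (I : Ideal R) (hI : ∀ x ∈ I, IsNilpotent x)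
  {M : Type u} [CommGroup M] (e : (R ⧸ I) ⊗[R] A ≃ₐc[R ⧸ I] MonoidAlgebra (R ⧸ I) M)
  (S : Type u) [CommRing S] [Algebra R S]

/-- The base change of `Φ` to `S`. -/
noncomputable def PhiS : S ⊗[R] MonoidAlgebra R M →ₗ[S] S ⊗[R] A :=
  (Phi D hNP I hI e : MonoidAlgebra R M →ₗ[R] A).baseChange S

theorem PhiS_tmul (s : S) (y : MonoidAlgebra R M) :
    PhiS D hNP I hI e S (s ⊗ₜ[R] y) = s ⊗ₜ[R] Phi D hNP I hI e y := by
  rw [PhiS, LinearMap.baseChange_tmul]
  rfl

theorem PhiS_surj_mod (z : S ⊗[R] A) :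
    ∃ y, PhiS D hNP I hI e S y - z ∈
      (I.map (algebraMap R S)) • (⊤ : Submodule S (S ⊗[R] A)) := by
  induction z using TensorProduct.induction_on with
  | zero => exact ⟨0, by simp⟩
  | add z z' hz hz' =>
    obtain ⟨y, hy⟩ := hz
    obtain ⟨y', hy'⟩ := hz'
    refine ⟨y + y', ?_⟩
    rw [map_add, add_sub_add_comm]
    exact Submodule.add_mem _ hy hy'
  | tmul s a =>
    obtain ⟨y, hy⟩ := exists_Phi_sub_mem D hNP I hI e a
    refine ⟨s ⊗ₜ[R] y, ?_⟩
    rw [PhiS_tmul, ← TensorProduct.tmul_sub]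
    exact tmul_mem_map_smul_top S A I s hy

theorem PhiS_inj_mod (y : S ⊗[R] MonoidAlgebra R M)
    (hy : PhiS D hNP I hI e S y ∈ (I.map (algebraMap R S)) • (⊤ : Submodule S (S ⊗[R] A))) :
    y ∈ (I.map (algebraMap R S)) • (⊤ : Submodule S (S ⊗[R] MonoidAlgebra R M)) := by
  have h1 := lTensor_eq_zero_of_mem_smul_top S A I
    (smul_quotTensor_eq_zero I (MonoidAlgebra R M)) (thetaBar D hNP I hI e) hy
  have hcomp : (thetaBar D hNP I hI e) ∘ₗ (Phi D hNP I hI e : MonoidAlgebra R M →ₗ[R] A) =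
      TensorProduct.mk R (R ⧸ I) (MonoidAlgebra R M) 1 := by
    ext x
    exact thetaBar_Phi D hNP I hI e _
  have h2 : (thetaBar D hNP I hI e).baseChange S (PhiS D hNP I hI e S y) =
      (TensorProduct.mk R (R ⧸ I) (MonoidAlgebra R M) 1).baseChange S y := by
    rw [PhiS, ← LinearMap.comp_apply, ← LinearMap.baseChange_comp, hcomp]
  rw [h2] at h1
  apply mem_smul_top_of_baseChange_mkQ_eq_zero S _ I
  have h3 : (I • (⊤ : Submodule R (MonoidAlgebra R M))).mkQ =
      (TensorProduct.quotTensorEquivQuotSMul (MonoidAlgebra R M) I).toLinearMap ∘ₗ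
        TensorProduct.mk R (R ⧸ I) (MonoidAlgebra R M) 1 :=
    (TensorProduct.quotTensorEquivQuotSMul_comp_mk I).symm
  rw [h3, LinearMap.baseChange_comp, LinearMap.comp_apply, h1, map_zero]

theorem ste_symm_single (m : M) :
    (BCB.steBialg R S M).symm (MonoidAlgebra.single m 1) =
      (1 : S) ⊗ₜ[R] MonoidAlgebra.single m (1 : R) := by
  have h0 : BCB.steBialg R S M ((1 : S) ⊗ₜ[R] MonoidAlgebra.single m (1 : R)) =
      MonoidAlgebra.single m 1 := by
    change MonoidAlgebra.scalarTensorEquiv (M := M) R S _ = _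
    rw [MonoidAlgebra.scalarTensorEquiv_tmul]
    simp
  rw [← h0, BialgEquiv.symm_apply_apply]

variable {N : Type u} [CommGroup N] (ε : S ⊗[R] A ≃ₐc[S] MonoidAlgebra S N)

include ε in
theorem PhiS_bijective : Function.Bijective (PhiS D hNP I hI e S) := by
  set εL : S ⊗[R] A ≃ₗ[S] MonoidAlgebra S N := ε.toCoalgEquiv.toLinearEquiv with hεL
  set steL : S ⊗[R] MonoidAlgebra R M ≃ₗ[S] MonoidAlgebra S M :=
    (BCB.steBialg R S M).toCoalgEquiv.toLinearEquiv with hsteL
  have hεLa : ∀ x, εL x = ε x := fun _ => rfl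
  have hsteLa : ∀ x, steL.symm x = (BCB.steBialg R S M).symm x := fun _ => rfl
  set Ψ : MonoidAlgebra S M →ₗ[S] MonoidAlgebra S N :=
    εL.toLinearMap ∘ₗ (PhiS D hNP I hI e S) ∘ₗ steL.symm.toLinearMap with hΨ
  have hΨa : ∀ y, Ψ y = εL (PhiS D hNP I hI e S (steL.symm y)) := fun _ => rfl
  have hgl : ∀ m, IsGroupLikeElem S (Ψ (MonoidAlgebra.single m 1)) := by
    intro m
    rw [hΨa, hsteLa, ste_symm_single, PhiS_tmul, hεLa]
    exact (SubDiag.isGroupLikeElem_one_tmul (S := S)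
      (isGroupLikeElem_Phi_single D hNP I hI e m)).map ε
  have hinj : ∀ y, Ψ y ∈ (I.map (algebraMap R S)) • (⊤ : Submodule S (MonoidAlgebra S N)) →
      y ∈ (I.map (algebraMap R S)) • (⊤ : Submodule S (MonoidAlgebra S M)) := by
    intro y hy
    have h1 := MRB.map_mem_smul_top εL.symm.toLinearMap _ hy
    rw [hΨa] at h1
    change εL.symm (εL _) ∈ _ at h1
    rw [LinearEquiv.symm_apply_apply] at h1
    have h2 := PhiS_inj_mod D hNP I hI e S _ h1
    have h3 := MRB.map_mem_smul_top steL.toLinearMap _ h2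
    change steL (steL.symm y) ∈ _ at h3
    rwa [LinearEquiv.apply_symm_apply] at h3
  have hsurj : ∀ z, ∃ y, Ψ y - z ∈
      (I.map (algebraMap R S)) • (⊤ : Submodule S (MonoidAlgebra S N)) := by
    intro z
    obtain ⟨y', hy'⟩ := PhiS_surj_mod D hNP I hI e S (εL.symm z)
    refine ⟨steL y', ?_⟩
    have h1 := MRB.map_mem_smul_top εL.toLinearMap _ hy'
    change εL (_ - _) ∈ _ at h1
    rw [map_sub, LinearEquiv.apply_symm_apply] at h1
    rw [hΨa, LinearEquiv.symm_apply_apply]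
    exact h1
  have hbij := NilBij.bijective_of_bijective_mod (I.map (algebraMap R S))
    (isNilpotent_of_mem_map I hI) Ψ hgl hinj hsurj
  have hfun : (PhiS D hNP I hI e S : _ → _) = εL.symm ∘ Ψ ∘ steL := by
    funext y
    simp only [Function.comp_apply, hΨa, LinearEquiv.symm_apply_apply]
  rw [hfun]
  exact εL.symm.bijective.comp (hbij.comp steL.bijective)

end Local

section Final

variable {R : Type u} [CommRing R] {A : Type u} [CommRing A] [HopfAlgebra R A]
  (D : DiagFam R A) (hNP : MRB.NoPrimMod R A) (I : Ideal R) (hI : ∀ x ∈ I, IsNilpotent x)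
  {M : Type u} [CommGroup M] (e : (R ⧸ I) ⊗[R] A ≃ₐc[R ⧸ I] MonoidAlgebra (R ⧸ I) M)

theorem Phi_bijective : Function.Bijective (Phi D hNP I hI e) := by
  haveI := D.ff
  have hloc : ∀ i, Function.Bijective (PhiS D hNP I hI e (D.S i)) := fun i => by
    obtain ⟨N, _, ⟨ε⟩⟩ := D.diag i
    exact PhiS_bijective D hNP I hI e (D.S i) ε
  constructor
  · rw [injective_iff_map_eq_zero]
    intro x hx
    apply FamDesc.eq_zero_of_forall_one_tmul (R := R) D.S (MonoidAlgebra R M) x
    intro i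
    apply (hloc i).1
    rw [map_zero, PhiS_tmul, hx, TensorProduct.tmul_zero]
  · intro a
    set Φl : MonoidAlgebra R M →ₗ[R] A := (Phi D hNP I hI e : MonoidAlgebra R M →ₗ[R] A) with hΦl
    have h0 : (LinearMap.range Φl).mkQ a = 0 := by
      apply FamDesc.eq_zero_of_forall_one_tmul (R := R) D.S (A ⧸ LinearMap.range Φl)
      intro i
      obtain ⟨y, hy⟩ := (hloc i).2 ((1 : D.S i) ⊗ₜ[R] a)
      have h1 : (1 : D.S i) ⊗ₜ[R] (LinearMap.range Φl).mkQ a =
          ((LinearMap.range Φl).mkQ.baseChange (D.S i)) ((1 : D.S i) ⊗ₜ[R] a) :=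
        (LinearMap.baseChange_tmul _ _ _).symm
      rw [h1, ← hy, PhiS, ← LinearMap.comp_apply, ← LinearMap.baseChange_comp,
        LinearMap.range_mkQ_comp, LinearMap.baseChange_zero, LinearMap.zero_apply]
    obtain ⟨y, hy⟩ := (Submodule.Quotient.mk_eq_zero _).mp h0
    exact ⟨y, hy⟩

include D hNP hI e in
/-- A group of multiplicative type which is diagonalisable modulo a nil ideal is diagonalisable. -/
theorem isDiag_of_equiv_mod_nil : SGA3b.IsDiag R A :=
  ⟨M, inferInstance, ⟨(BialgEquiv.ofBijective (Phi D hNP I hI e)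
    (Phi_bijective D hNP I hI e)).symm⟩⟩

end Final

end Groth.Agent.Lib.Helper25.NilDiag
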