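import Groth.Agent.Lib.Helper25EtNilB
import Groth.Agent.Lib.Helper25EtaleLiftD
import Groth.Agent.Lib.Helper25SubDiag
import Groth.Agent.Lib.Helper25MultBC
import Groth.Agent.Lib.Helper25TorsQuot
import Groth.Agent.S2970

/-!
# Multiplicative type: base change, and diagonalisability modulo nil ideals over covers (helper25)

* `hasDiagCover_baseChange`, `isMultType_baseChange`: multiplicative type is stable under base change.
* `isDiag_of_surjective_nil`: a group of multiplicative type over `R` which becomes diagonalisable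
  over `B'/K` (`K` nil) is diagonalisable over `B'`.
* `span_preimage_eq_top_nil`, `nil_ker_awayQuot`.
-/

set_option autoImplicit false
set_option linter.unusedSectionVars false
set_option linter.style.haveILetI false
universe u

namespace Groth.Agent.Lib.Helper25.EtNil

open TensorProduct SGA3b Groth.Agent.Lib.Helper25 Groth.Agent.Lib.Helper25.BCB
  Groth.Agent.Lib.Helper25.SubDiag

theorem exists_diag_baseChange_aux
    (R : Type u) [CommRing R] (A : Type u) [CommRing A] [HopfAlgebra R A]
    (Rf S T Tg : Type u) [CommRing Rf] [CommRing S] [CommRing T] [CommRing Tg]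
    [Algebra R Rf] [Algebra Rf S] [Algebra R S] [IsScalarTower R Rf S]
    [Algebra R T] [Algebra T Tg] [Algebra R Tg] [IsScalarTower R T Tg]
    [Algebra Rf Tg] [IsScalarTower R Rf Tg] [Module.FaithfullyFlat Rf S]
    (hD : IsDiag S (S ⊗[R] A)) :
    ∃ (S' : Type u) (_ : CommRing S') (_ : Algebra T S') (_ : Algebra Tg S'),
      IsScalarTower T Tg S' ∧ Module.FaithfullyFlat Tg S' ∧ IsDiag S' (S' ⊗[T] (T ⊗[R] A)) := by
  letI : Algebra S (Tg ⊗[Rf] S) := Algebra.TensorProduct.includeRight.toRingHom.toAlgebra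
  haveI : IsScalarTower R S (Tg ⊗[Rf] S) := by
    apply IsScalarTower.of_algebraMap_eq
    intro r
    change _ = (1 : Tg) ⊗ₜ[Rf] (algebraMap R S r)
    rw [Algebra.TensorProduct.algebraMap_apply, IsScalarTower.algebraMap_apply R Rf S,
      IsScalarTower.algebraMap_apply R Rf Tg, Algebra.algebraMap_eq_smul_one (algebraMap R Rf r),
      Algebra.algebraMap_eq_smul_one (A := S) (algebraMap R Rf r), TensorProduct.smul_tmul]
  haveI : IsScalarTower R T (Tg ⊗[Rf] S) := by
    apply IsScalarTower.of_algebraMap_eq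
    intro r
    rw [Algebra.TensorProduct.algebraMap_apply, Algebra.TensorProduct.algebraMap_apply,
      ← IsScalarTower.algebraMap_apply R T Tg]
  have h1 : IsDiag (Tg ⊗[Rf] S) ((Tg ⊗[Rf] S) ⊗[R] A) :=
    isDiag_baseChange_of_tower R A S (Tg ⊗[Rf] S) hD
  exact ⟨Tg ⊗[Rf] S, inferInstance, inferInstance, inferInstance, inferInstance, inferInstance,
    isDiag_of_equiv (cancelBC R T (Tg ⊗[Rf] S) A) h1⟩

end Groth.Agent.Lib.Helper25.EtNil

namespace Groth.Agent.Lib.Helper25.EtNil

open TensorProduct SGA3b Groth.Agent.Lib.Helper25 Groth.Agent.Lib.Helper25.BCB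
  Groth.Agent.Lib.Helper25.SubDiag

theorem hasDiagCover_baseChange (R : Type u) [CommRing R] (A : Type u) [CommRing A]
    [HopfAlgebra R A] (T : Type u) [CommRing T] [Algebra R T] (h : HasDiagCover R A) :
    HasDiagCover T (T ⊗[R] A) := by
  obtain ⟨s, hs, hc⟩ := h
  refine ⟨algebraMap R T '' s, ?_, ?_⟩
  · rw [← Ideal.map_span, hs, Ideal.map_top]
  · rintro _ ⟨f, hf, rfl⟩
    obtain ⟨S, _, _, _, htower, hff, hD⟩ := hc f hf
    have hunit : IsUnit (algebraMap R (Localization.Away (algebraMap R T f)) f) := by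
      rw [IsScalarTower.algebraMap_apply R T (Localization.Away (algebraMap R T f))]
      exact IsLocalization.Away.algebraMap_isUnit _
    letI : Algebra (Localization.Away f) (Localization.Away (algebraMap R T f)) :=
      (IsLocalization.Away.lift f hunit).toAlgebra
    haveI : IsScalarTower R (Localization.Away f) (Localization.Away (algebraMap R T f)) := by
      apply IsScalarTower.of_algebraMap_eq
      intro r
      exact (IsLocalization.Away.lift_eq f hunit r).symm
    obtain ⟨S', _, _, _, h1, h2, h3⟩ := exists_diag_baseChange_aux R A (Localization.Away f) S T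
      (Localization.Away (algebraMap R T f)) hD
    exact ⟨S', inferInstance, inferInstance, inferInstance, h1, h2, h3⟩

theorem isMultType_baseChange (R : Type u) [CommRing R] (A : Type u) [CommRing A]
    [HopfAlgebra R A] (T : Type u) [CommRing T] [Algebra R T] (h : IsMultType R A) :
    IsMultType T (T ⊗[R] A) :=
  TorsQuot.isMultType_of_hasDiagCover (hasDiagCover_baseChange R A T (hasDiagCover_of_isMultType h))

end Groth.Agent.Lib.Helper25.EtNil

namespace Groth.Agent.Lib.Helper25.EtNil

open TensorProduct SGA3b Groth.Agent.Lib.Helper25 Groth.Agent.Lib.Helper25.BCB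
  Groth.Agent.Lib.Helper25.SubDiag Groth.Agent.Lib.Helper25.EtaleLift

/-- A group of multiplicative type which becomes diagonalisable over a quotient of `B'` by a nil
ideal is diagonalisable over `B'`. -/
theorem isDiag_of_surjective_nil (R : Type u) [CommRing R] (A : Type u) [CommRing A]
    [HopfAlgebra R A] (h : IsMultType R A)
    (B' : Type u) [CommRing B'] [Algebra R B'] (Rb' : Type u) [CommRing Rb'] [Algebra R Rb']
    (θ : B' →ₐ[R] Rb') (hsurj : Function.Surjective θ)
    (hnil : ∀ x ∈ RingHom.ker θ.toRingHom, IsNilpotent x)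
    (hD : IsDiag Rb' (Rb' ⊗[R] A)) : IsDiag B' (B' ⊗[R] A) := by
  set K : Ideal B' := RingHom.ker θ.toRingHom with hK
  have hsurj' : Function.Surjective θ.toRingHom := hsurj
  let e : B' ⧸ K ≃+* Rb' := RingHom.quotientKerEquivOfSurjective hsurj'
  letI : Algebra Rb' (B' ⧸ K) := (e.symm : Rb' →+* B' ⧸ K).toAlgebra
  haveI : IsScalarTower R Rb' (B' ⧸ K) := by
    apply IsScalarTower.of_algebraMap_eq
    intro r
    change _ = e.symm (algebraMap R Rb' r)
    rw [← AlgHom.commutes θ r]
    change _ = (RingHom.quotientKerEquivOfSurjective hsurj').symm (θ.toRingHom (algebraMap R B' r))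
    rw [RingHom.quotientKerEquivOfSurjective_symm_apply]
    rfl
  have h1 : IsDiag (B' ⧸ K) ((B' ⧸ K) ⊗[R] A) :=
    isDiag_baseChange_of_tower R A Rb' (B' ⧸ K) hD
  have h2 : IsDiag (B' ⧸ K) ((B' ⧸ K) ⊗[B'] (B' ⊗[R] A)) :=
    isDiag_of_equiv (cancelBC R B' (B' ⧸ K) A) h1
  exact Groth.Agent.S2970.result B' (B' ⊗[R] A) K hnil (isMultType_baseChange R A B' h) h2


section Nil

variable {R : Type u} [CommRing R] (I : Ideal R) (hI : ∀ x ∈ I, IsNilpotent x)

include hI in
theorem nil_ker_awayQuot (f : R) : ∀ x ∈ RingHom.ker (awayQuot I f), IsNilpotent x := fun x hx =>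
  isNilpotent_of_mem_map _ I hI x (ker_awayQuot_le I f hx)

include hI in
/-- A subset of `R` whose image generates the unit ideal of `R/I` (`I` nil) generates the unit
ideal. -/
theorem span_preimage_eq_top_nil (sbar : Set (R ⧸ I)) (hs : Ideal.span sbar = ⊤) :
    Ideal.span ((Ideal.Quotient.mk I) ⁻¹' sbar) = ⊤ := by
  set s := (Ideal.Quotient.mk I) ⁻¹' sbar with hsdef
  have h1 : Ideal.map (Ideal.Quotient.mk I) (Ideal.span s) = ⊤ := by
    rw [Ideal.map_span, Set.image_preimage_eq _ Ideal.Quotient.mk_surjective, hs]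
  have h2 : Ideal.span s ⊔ I = ⊤ := by
    have := Ideal.comap_map_of_surjective (Ideal.Quotient.mk I) Ideal.Quotient.mk_surjective
      (Ideal.span s)
    rw [h1, Ideal.comap_top] at this
    rw [this]
    congr 1
    rw [← RingHom.ker_eq_comap_bot, Ideal.mk_ker]
  rw [Ideal.eq_top_iff_one] at h2 ⊢
  obtain ⟨x, hx, i, hi, hxi⟩ := Submodule.mem_sup.mp h2
  have hx' : x = 1 - i := by rw [← hxi]; ring
  have hu : IsUnit x := by rw [hx']; exact (hI i hi).isUnit_one_sub
  exact (Ideal.eq_top_of_isUnit_mem _ hx hu) ▸ Submodule.mem_top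

end Nil

end Groth.Agent.Lib.Helper25.EtNil
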