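import Groth.Agent.Lib.Helper25Reynolds
import Mathlib.LinearAlgebra.Dimension.RankNullity
import Mathlib.LinearAlgebra.FiniteDimensional.Lemmas

/-!
# Flags in comodules of unipotent groups (helper25)
-/

set_option autoImplicit false
universe u v

namespace Groth.Agent.Lib.Helper25

open TensorProduct HopfRep Module

section Flag

variable {k : Type u} [Field k] {A : Type v} [CommRing A] [Bialgebra k A]

/-- A flag of subcomodules with trivial successive quotients. -/
def IsTrivFlag (k : Type u) [Field k] (A : Type v) [CommRing A] [Bialgebra k A]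
    (V : Type v) [AddCommGroup V] [Module k V] [Comod k A V] (m : ℕ) (F : ℕ → Submodule k V) :
    Prop :=
  Monotone F ∧ F 0 = ⊥ ∧ F m = ⊤ ∧
    (∀ i, IsSubcomod (k := k) (A := A) (F i)) ∧
    ∀ i, ∀ v ∈ F (i + 1),
      Comod.coact (k := k) (A := A) v - v ⊗ₜ[k] (1 : A) ∈
        LinearMap.range ((F i).subtype.rTensor A)

theorem exists_trivFlag_aux (hU : IsUnipotent k A) (n : ℕ) :
    ∀ (V : Type v) [AddCommGroup V] [Module k V] [Comod k A V], Module.Finite k V →
      Module.finrank k V = n → ∃ (m : ℕ) (F : ℕ → Submodule k V), IsTrivFlag k A V m F := by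
  induction n using Nat.strong_induction_on with
  | _ n ih =>
    intro V _ _ _ hfin hn
    by_cases hV : Subsingleton V
    · refine ⟨0, fun _ => ⊤, monotone_const, ?_, rfl, fun _ => isSubcomod_top, ?_⟩
      · exact Subsingleton.elim _ _
      · intro i v _
        have : Comod.coact (k := k) (A := A) v - v ⊗ₜ[k] (1 : A) = 0 := by
          rw [Subsingleton.elim v 0]; simp
        rw [this]; exact Submodule.zero_mem _
    · rw [not_subsingleton_iff_nontrivial] at hV
      set P : Submodule k V := fixedPts k A V with hPdef
      have hP0 : P ≠ ⊥ := hU V hfin hV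
      have hP : IsSubcomod (k := k) (A := A) P := isSubcomod_fixedPts
      letI := quotComod P hP
      have hq : Hoch.IsComodHom A P.mkQ := isComodHom_mkQ P hP
      have hlt : Module.finrank k (V ⧸ P) < n := by
        have h1 := Submodule.finrank_quotient_add_finrank P
        have h2 : 0 < Module.finrank k P := by
          rw [Module.finrank_pos_iff]
          exact (Submodule.nontrivial_iff_ne_bot).mpr hP0
        omega
      obtain ⟨m', F', hmono, h0, hm, hsub, hgr⟩ :=
        ih _ hlt (V ⧸ P) inferInstance rfl
      refine ⟨m' + 1, fun i => Nat.casesOn i ⊥ (fun j => (F' j).comap P.mkQ), ?_, rfl, ?_, ?_, ?_⟩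
      · apply monotone_nat_of_le_succ
        intro i
        cases i with
        | zero => exact bot_le
        | succ j => exact Submodule.comap_mono (hmono (Nat.le_succ j))
      · change (F' m').comap P.mkQ = ⊤
        rw [hm, Submodule.comap_top]
      · intro i
        cases i with
        | zero => exact isSubcomod_bot
        | succ j => exact isSubcomod_comap hq (hsub j)
      · intro i v hv
        cases i with
        | zero =>
          change v ∈ (F' 0).comap P.mkQ at hv
          rw [h0, Submodule.comap_bot, Submodule.ker_mkQ] at hv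
          have : Comod.coact (k := k) (A := A) v - v ⊗ₜ[k] (1 : A) = 0 := by
            rw [sub_eq_zero]; exact hv
          rw [this]; exact Submodule.zero_mem _
        | succ j =>
          change v ∈ (F' (j + 1)).comap P.mkQ at hv
          change _ ∈ LinearMap.range (((F' j).comap P.mkQ).subtype.rTensor A)
          rw [mem_range_rTensor_iff]
          intro φ
          rw [Submodule.mem_comap, ← slice_rTensor, map_sub, LinearMap.rTensor_tmul,
            ← isComodHom_apply hq]
          exact (mem_range_rTensor_iff _ _).mp (hgr j _ hv) φ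

theorem exists_trivFlag (hU : IsUnipotent k A)
    (V : Type v) [AddCommGroup V] [Module k V] [Comod k A V] (hfin : Module.Finite k V) :
    ∃ (m : ℕ) (F : ℕ → Submodule k V), IsTrivFlag k A V m F :=
  exists_trivFlag_aux hU _ V hfin rfl

/-- A nontrivial comodule with a trivial flag has a nonzero fixed vector. -/
theorem fixedPts_ne_bot_of_trivFlag
    (V : Type v) [AddCommGroup V] [Module k V] [Comod k A V] [Nontrivial V]
    {m : ℕ} {F : ℕ → Submodule k V} (hF : IsTrivFlag k A V m F) : fixedPts k A V ≠ ⊥ := by
  classical
  obtain ⟨hmono, h0, hm, hsub, hgr⟩ := hF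
  have hex : ∃ i, F i ≠ ⊥ := ⟨m, by rw [hm]; exact top_ne_bot⟩
  set i := Nat.find hex with hi
  have hi1 : F i ≠ ⊥ := Nat.find_spec hex
  have hipos : i ≠ 0 := by
    intro h
    rw [h] at hi1
    exact hi1 h0
  obtain ⟨j, hj⟩ := Nat.exists_eq_succ_of_ne_zero hipos
  have hjbot : F j = ⊥ := by
    by_contra hne
    have := Nat.find_min' hex hne
    omega
  intro hbot
  apply hi1
  rw [eq_bot_iff]
  intro v hv
  rw [hj] at hv
  have h1 := hgr j v hv
  rw [hjbot] at h1
  obtain ⟨y, hy⟩ := h1
  have hy0 : y = 0 := by
    exact Subsingleton.elim _ _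
  rw [hy0, map_zero] at hy
  have hfix : v ∈ fixedPts k A V := by
    rw [mem_fixedPts_iff, ← sub_eq_zero]
    exact hy.symm
  rw [hbot] at hfix
  exact hfix

/-- In a comodule with a trivial flag, every point acts unipotently. -/
theorem isNilpotent_act_sub_one_of_trivFlag
    (V : Type v) [AddCommGroup V] [Module k V] [Comod k A V]
    {m : ℕ} {F : ℕ → Submodule k V} (hF : IsTrivFlag k A V m F) (g : A →ₐ[k] k) :
    IsNilpotent (Comod.act k A V g - 1) := by
  obtain ⟨hmono, h0, hm, hsub, hgr⟩ := hF
  have hstep : ∀ i, ∀ v ∈ F (i + 1), (Comod.act k A V g - 1) v ∈ F i := by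
    intro i v hv
    have h1 : (Comod.act k A V g - 1) v =
        slice V g.toLinearMap (Comod.coact (k := k) (A := A) v - v ⊗ₜ[k] (1 : A)) := by
      rw [map_sub, slice_tmul]
      simp only [LinearMap.sub_apply, Module.End.one_apply, AlgHom.toLinearMap_apply, map_one,
        one_smul]
      rfl
    rw [h1]
    exact (mem_range_rTensor_iff _ _).mp (hgr i v hv) _
  have hpow : ∀ i, ∀ v ∈ F i, ((Comod.act k A V g - 1) ^ i) v = 0 := by
    intro i
    induction i with
    | zero =>
      intro v hv
      rw [h0] at hv
      rw [pow_zero, Module.End.one_apply]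
      exact hv
    | succ j ih =>
      intro v hv
      rw [pow_succ, Module.End.mul_apply]
      exact ih _ (hstep j v hv)
  refine ⟨m, ?_⟩
  apply LinearMap.ext
  intro v
  rw [LinearMap.zero_apply]
  exact hpow m v (by rw [hm]; exact Submodule.mem_top)

end Flag

end Groth.Agent.Lib.Helper25
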