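import Groth.Agent.Lib.Helper25CoFilt
import Groth.Agent.Lib.Helper25Unip

/-!
# Unipotent = coconnected (helper25)

* `Cp k A`: the filtration `Cp 0 = 0`, `Cp (r+1) = {a | T f a ∈ Cp r for all f with f 1 = 0}` of a
  bialgebra (annihilators of the powers of the augmentation ideal of the dual algebra);
  `Cp_one`, `Cp_mono`, `T_mem_Cp`, `coeffMap_mem_Cp`.
* `mem_sup_of_lslice_mem`, `exists_decomp_of_mem_inf`, `mem_iSup_of_forall_mem_sup`: linear
  algebra of two filtrations in a tensor product.
* `comul_Cp_le`: `Δ (Cp (n+1)) ⊆ Σ Cp (i+1) ⊗ Cp (n-i+1)`.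
* `exists_cofilt_of_isUnipotent`, `isUnipotent_of_exists_cofilt`.
-/

set_option autoImplicit false
universe u v w w'

namespace Groth.Agent.Lib.Helper25

open TensorProduct HopfRep


section CoRad

variable (k : Type u) [Field k] (A : Type v) [CommRing A] [Bialgebra k A]

/-- The coradical-type filtration of a bialgebra, starting from `0`:
`Cp (r+1) = {a | T f a ∈ Cp r for every functional f with f 1 = 0}`. -/
noncomputable def Cp : ℕ → Submodule k A
  | 0 => ⊥
  | r + 1 => ⨅ f : {f : A →ₗ[k] k // f 1 = 0}, (Cp r).comap (T (V := A) f.1)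

variable {k A}

theorem mem_Cp_succ {r : ℕ} {a : A} :
    a ∈ Cp k A (r + 1) ↔ ∀ f : A →ₗ[k] k, f 1 = 0 → T (V := A) f a ∈ Cp k A r := by
  simp only [Cp, Submodule.mem_iInf, Submodule.mem_comap, Subtype.forall]

theorem Cp_le_succ (r : ℕ) : Cp k A r ≤ Cp k A (r + 1) := by
  induction r with
  | zero => exact bot_le
  | succ r ih =>
    intro a ha
    rw [mem_Cp_succ] at ha ⊢
    intro f hf
    exact ih (ha f hf)

theorem Cp_mono : Monotone (Cp k A) := monotone_nat_of_le_succ Cp_le_succ

theorem conv_apply_one (ψ φ : A →ₗ[k] k) : conv ψ φ 1 = ψ 1 * φ 1 := by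
  simp [conv, Bialgebra.comul_one, Algebra.TensorProduct.one_def]

/-- The filtration is stable under right translations. -/
theorem T_mem_Cp (g : A →ₗ[k] k) {r : ℕ} {a : A} (ha : a ∈ Cp k A r) :
    T (V := A) g a ∈ Cp k A r := by
  cases r with
  | zero =>
    have : a = 0 := by simpa [Cp] using ha
    rw [this, map_zero]
    exact Submodule.zero_mem _
  | succ r =>
    rw [mem_Cp_succ] at ha ⊢
    intro f hf
    rw [T_T]
    exact ha _ (by rw [conv_apply_one, hf, zero_mul])

theorem T_one (f : A →ₗ[k] k) : T (V := A) f (1 : A) = f 1 • (1 : A) := by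
  rw [T_apply]
  change slice A f (CoalgebraStruct.comul (R := k) (1 : A)) = _
  rw [Bialgebra.comul_one, Algebra.TensorProduct.one_def, slice_tmul]

theorem Cp_one : Cp k A 1 = Submodule.span k {(1 : A)} := by
  apply le_antisymm
  · intro a ha
    rw [mem_Cp_succ] at ha
    have h1 : ∀ f : A →ₗ[k] k, T (V := A) f a = f 1 • a := by
      intro f
      have h2 : (f - f 1 • CoalgebraStruct.counit (R := k) (A := A)) 1 = 0 := by
        simp [Bialgebra.counit_one]
      have h3 := ha _ h2
      have h4 : T (V := A) (f - f 1 • CoalgebraStruct.counit (R := k) (A := A)) a = 0 := by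
        simpa [Cp] using h3
      have h5 : f = (f - f 1 • CoalgebraStruct.counit (R := k) (A := A)) +
          f 1 • CoalgebraStruct.counit (R := k) (A := A) := by abel
      conv_lhs => rw [h5]
      rw [T_add, h4, zero_add, T_smul, T_counit]
    have h2 : CoalgebraStruct.comul (R := k) a = a ⊗ₜ[k] (1 : A) := by
      apply eq_of_slice_eq
      intro φ
      rw [slice_tmul]
      exact h1 φ
    have h3 := congrArg (lslice (CoalgebraStruct.counit (R := k) (A := A))) h2
    rw [lslice_tmul] at h3
    have h4 : lslice (CoalgebraStruct.counit (R := k) (A := A))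
        (CoalgebraStruct.comul (R := k) a) = a := by
      have := Coalgebra.rTensor_counit_comul (R := k) a
      rw [lslice, LinearMap.comp_apply, this]
      simp
    rw [h4] at h3
    rw [h3]
    exact Submodule.smul_mem _ _ (Submodule.subset_span rfl)
  · rw [Submodule.span_le, Set.singleton_subset_iff]
    change (1 : A) ∈ Cp k A 1
    rw [mem_Cp_succ]
    intro f hf
    rw [T_one, hf, zero_smul]
    exact Submodule.zero_mem _

/-- Left translation by a functional vanishing on `Cp s` lowers the filtration by `s`. -/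
theorem coeffMap_mem_Cp (s t : ℕ) {a : A} (ha : a ∈ Cp k A (s + t)) (l : A →ₗ[k] k)
    (hl : Cp k A s ≤ LinearMap.ker l) : coeffMap (A := A) l a ∈ Cp k A t := by
  induction t generalizing a with
  | zero =>
    have h0 : coeffMap (A := A) l a = 0 := by
      rw [← Module.forall_dual_apply_eq_zero_iff k]
      intro φ
      change φ (coeffMap (A := A) l a) = 0
      rw [coeffMap_apply, apply_lslice, ← T_apply]
      exact hl (T_mem_Cp φ ha)
    rw [h0]
    exact Submodule.zero_mem _
  | succ t ih =>
    rw [mem_Cp_succ]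
    intro f hf
    rw [T_coeffMap]
    apply ih
    have ha' : a ∈ Cp k A ((s + t) + 1) := ha
    rw [mem_Cp_succ] at ha'
    exact ha' f hf

end CoRad



section Inter

variable {k : Type u} [Field k] {A : Type v} [AddCommGroup A] [Module k A]
variable {V : Type w} [AddCommGroup V] [Module k V]

/-- If all left slices of `z` by functionals killing `D'` lie in `D`, then
`z ∈ D' ⊗ A + V ⊗ D`. -/
theorem mem_sup_of_lslice_mem (D' : Submodule k V) (D : Submodule k A) (z : V ⊗[k] A)
    (h : ∀ l : V →ₗ[k] k, D' ≤ LinearMap.ker l → lslice l z ∈ D) :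
    z ∈ LinearMap.range (D'.subtype.rTensor A) ⊔ LinearMap.range (D.subtype.lTensor V) := by
  have h1 : D.mkQ.lTensor V z ∈ LinearMap.range (D'.subtype.rTensor (A ⧸ D)) := by
    rw [mem_range_rTensor_iff]
    intro φ
    by_contra hv
    obtain ⟨l, hlv, hl⟩ := Submodule.exists_le_ker_of_notMem hv
    apply hlv
    rw [slice_lTensor, ← apply_lslice]
    have h2 := h l hl
    rw [LinearMap.comp_apply, Submodule.mkQ_apply, (Submodule.Quotient.mk_eq_zero D).mpr h2,
      map_zero]
  obtain ⟨y, hy⟩ := h1
  obtain ⟨y', rfl⟩ := LinearMap.lTensor_surjective D' D.mkQ_surjective y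
  have h2 : D.mkQ.lTensor V (z - D'.subtype.rTensor A y') = 0 := by
    rw [map_sub, ← hy, ← LinearMap.comp_apply, ← LinearMap.comp_apply,
      LinearMap.lTensor_comp_rTensor, LinearMap.rTensor_comp_lTensor, sub_self]
  have h3 : z - D'.subtype.rTensor A y' ∈ LinearMap.range (D.subtype.lTensor V) := by
    have hex := lTensor_exact V (LinearMap.exact_subtype_mkQ D) D.mkQ_surjective
    exact (hex _).mp h2
  have h4 : z = D'.subtype.rTensor A y' + (z - D'.subtype.rTensor A y') := by abel
  rw [h4]
  exact Submodule.add_mem_sup ⟨y', rfl⟩ h3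

theorem range_rTensor_subtype_mono {F F' : Submodule k V} (h : F ≤ F') :
    LinearMap.range (F.subtype.rTensor A) ≤ LinearMap.range (F'.subtype.rTensor A) := by
  have e : F.subtype = F'.subtype ∘ₗ Submodule.inclusion h := by
    apply LinearMap.ext
    intro x
    rfl
  rw [e, LinearMap.rTensor_comp]
  exact LinearMap.range_comp_le_range _ _

theorem range_lTensor_subtype_mono {E E' : Submodule k A} (h : E ≤ E') :
    LinearMap.range (E.subtype.lTensor V) ≤ LinearMap.range (E'.subtype.lTensor V) := by
  have e : E.subtype = E'.subtype ∘ₗ Submodule.inclusion h := by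
    apply LinearMap.ext
    intro x
    rfl
  rw [e, LinearMap.lTensor_comp]
  exact LinearMap.range_comp_le_range _ _

theorem range_map_subtype_le_lTensor (F : Submodule k V) (E : Submodule k A) :
    LinearMap.range (TensorProduct.map F.subtype E.subtype) ≤
      LinearMap.range (E.subtype.lTensor V) := by
  rintro _ ⟨y, rfl⟩
  refine ⟨F.subtype.rTensor E y, ?_⟩
  rw [← LinearMap.comp_apply, LinearMap.lTensor_comp_rTensor]

/-- The modular decomposition: `(F' ⊗ A) ∩ (F ⊗ A + V ⊗ E) = F ⊗ A + F' ⊗ E` for `F ≤ F'`. -/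
theorem exists_decomp_of_mem_inf {F F' : Submodule k V} (hF : F ≤ F') (E : Submodule k A)
    (z : V ⊗[k] A) (h1 : z ∈ LinearMap.range (F'.subtype.rTensor A))
    (h2 : z ∈ LinearMap.range (F.subtype.rTensor A) ⊔ LinearMap.range (E.subtype.lTensor V)) :
    ∃ z' z'' : V ⊗[k] A, z = z'' + z' ∧ z'' ∈ LinearMap.range (F.subtype.rTensor A) ∧
      z' ∈ LinearMap.range (TensorProduct.map F'.subtype E.subtype) := by
  obtain ⟨y, hy, w, hw, rfl⟩ := Submodule.mem_sup.mp h2
  refine ⟨w, y, rfl, hy, ?_⟩
  have hw' : w ∈ LinearMap.range (F'.subtype.rTensor A) := by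
    have : w = (y + w) - y := by abel
    rw [this]
    exact Submodule.sub_mem _ h1 (range_rTensor_subtype_mono hF hy)
  rw [mem_range_map_subtype_iff]
  exact ⟨(mem_range_rTensor_iff F' w).mp hw', (mem_range_lTensor_subtype_iff E w).mp hw⟩

/-- The intersection lemma for two filtrations. -/
theorem mem_iSup_of_forall_mem_sup (F : ℕ → Submodule k V) (hF : Monotone F) (hF0 : F 0 = ⊥) :
    ∀ (N : ℕ) (E : ℕ → Submodule k A), Monotone E → ∀ z : V ⊗[k] A,
      z ∈ LinearMap.range ((F N).subtype.rTensor A) →
      (∀ s, s < N → z ∈ LinearMap.range ((F s).subtype.rTensor A) ⊔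
        LinearMap.range ((E (N - 1 - s)).subtype.lTensor V)) →
      z ∈ ⨆ s ∈ Finset.range N,
        LinearMap.range (TensorProduct.map (F (s + 1)).subtype (E (N - 1 - s)).subtype) := by
  intro N
  induction N with
  | zero =>
    intro E _ z hz _
    rw [hF0] at hz
    obtain ⟨y, rfl⟩ := hz
    have : y = 0 := Subsingleton.elim _ _
    rw [this, map_zero]
    exact Submodule.zero_mem _
  | succ N ih =>
    intro E hE z hz hs
    have hN := hs N (Nat.lt_succ_self N)
    have e0 : N + 1 - 1 - N = 0 := by omega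
    rw [e0] at hN
    obtain ⟨z', z'', rfl, hz'', hz'⟩ :=
      exists_decomp_of_mem_inf (hF (Nat.le_succ N)) (E 0) z hz hN
    have hz''mem := ih (fun t => E (t + 1)) (fun a b hab => hE (Nat.succ_le_succ hab)) z'' hz''
      (by
        intro s hsN
        have h1 := hs s (Nat.lt_succ_of_lt hsN)
        have e1 : N + 1 - 1 - s = N - 1 - s + 1 := by omega
        rw [e1] at h1
        have h2 : z' ∈ LinearMap.range ((E (N - 1 - s + 1)).subtype.lTensor V) :=
          range_lTensor_subtype_mono (hE (Nat.zero_le _)) (range_map_subtype_le_lTensor _ _ hz')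
        have h3 : z'' = (z'' + z') - z' := by abel
        rw [h3]
        exact Submodule.sub_mem _ h1 (Submodule.mem_sup_right h2))
    have hle : (⨆ s ∈ Finset.range N, LinearMap.range
        (TensorProduct.map (F (s + 1)).subtype (E (N - 1 - s + 1)).subtype)) ≤
        ⨆ s ∈ Finset.range (N + 1), LinearMap.range
          (TensorProduct.map (F (s + 1)).subtype (E (N + 1 - 1 - s)).subtype) := by
      apply iSup₂_le
      intro s hsN
      rw [Finset.mem_range] at hsN
      have e2 : N - 1 - s + 1 = N + 1 - 1 - s := by omega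
      rw [e2]
      exact le_iSup₂_of_le (f := fun s (_ : s ∈ Finset.range (N + 1)) => LinearMap.range
          (TensorProduct.map (F (s + 1)).subtype (E (N + 1 - 1 - s)).subtype))
        s (Finset.mem_range.mpr (Nat.lt_succ_of_lt hsN)) le_rfl
    have hle' : LinearMap.range (TensorProduct.map (F (N + 1)).subtype (E 0).subtype) ≤
        ⨆ s ∈ Finset.range (N + 1), LinearMap.range
          (TensorProduct.map (F (s + 1)).subtype (E (N + 1 - 1 - s)).subtype) := by
      have e3 : E 0 = E (N + 1 - 1 - N) := by rw [e0]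
      rw [e3]
      exact le_iSup₂_of_le (f := fun s (_ : s ∈ Finset.range (N + 1)) => LinearMap.range
          (TensorProduct.map (F (s + 1)).subtype (E (N + 1 - 1 - s)).subtype))
        N (Finset.mem_range.mpr (Nat.lt_succ_self N)) le_rfl
    exact Submodule.add_mem _ (hle hz''mem) (hle' hz')

end Inter



section Final

variable {k : Type u} [Field k] {A : Type v} [CommRing A] [Bialgebra k A]

theorem comul_Cp_le (n : ℕ) :
    Submodule.map (CoalgebraStruct.comul (R := k) (A := A)) (Cp k A (n + 1)) ≤
      ⨆ i ∈ Finset.range (n + 1),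
        LinearMap.range (TensorProduct.mapIncl (Cp k A (i + 1)) (Cp k A (n - i + 1))) := by
  rintro _ ⟨a, ha, rfl⟩
  have h := mem_iSup_of_forall_mem_sup (A := A) (Cp k A) Cp_mono rfl (n + 1)
    (fun t => Cp k A (t + 1)) (fun x y hxy => Cp_mono (Nat.succ_le_succ hxy))
    (CoalgebraStruct.comul (R := k) a)
    (by
      rw [mem_range_rTensor_iff]
      intro φ
      exact T_mem_Cp φ ha)
    (by
      intro s hs
      apply mem_sup_of_lslice_mem
      intro l hl
      have e : s + (n + 1 - 1 - s + 1) = n + 1 := by omega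
      exact coeffMap_mem_Cp s (n + 1 - 1 - s + 1) (by rw [e]; exact ha) l hl)
  beta_reduce at h
  have e' : ∀ s, LinearMap.range (TensorProduct.map (Cp k A (s + 1)).subtype
      (Cp k A (n + 1 - 1 - s + 1)).subtype) =
      LinearMap.range (TensorProduct.mapIncl (Cp k A (s + 1)) (Cp k A (n - s + 1))) := by
    intro s
    have e : n + 1 - 1 - s + 1 = n - s + 1 := by omega
    rw [e]
  simp only [e'] at h
  exact h

theorem mem_Cp_of_trivFlag (hU : IsUnipotent k A) (a : A) : ∃ m, a ∈ Cp k A m := by
  obtain ⟨W, hWfg, hWsub, haW⟩ := exists_fg_subcomod_mem (k := k) (A := A) (V := A) a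
  letI := subComod W hWsub
  haveI : Module.Finite k W := Module.Finite.iff_fg.mpr hWfg
  obtain ⟨m, F, hmono, h0, hm, hsub, hgr⟩ := exists_trivFlag hU W inferInstance
  have key : ∀ i, ∀ w : W, w ∈ F i → (w : A) ∈ Cp k A i := by
    intro i
    induction i with
    | zero =>
      intro w hw
      rw [h0, Submodule.mem_bot] at hw
      rw [hw]
      exact Submodule.zero_mem _
    | succ i ih =>
      intro w hw
      rw [mem_Cp_succ]
      intro f hf
      have h2 := (mem_range_rTensor_iff (F i) _).mp (hgr i w hw) f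
      rw [map_sub, slice_tmul, hf, zero_smul, sub_zero, ← T_apply] at h2
      have h3 := map_T_of_isComodHom (isComodHom_subtype W hWsub) f w
      rw [Submodule.subtype_apply, Submodule.subtype_apply] at h3
      rw [← h3]
      exact ih _ h2
  exact ⟨m, key m ⟨a, haW⟩ (by rw [hm]; trivial)⟩

/-- A unipotent bialgebra is coconnected. -/
theorem exists_cofilt_of_isUnipotent (hU : IsUnipotent k A) :
    ∃ C : ℕ → Submodule k A, Monotone C ∧ C 0 = Submodule.span k {(1 : A)} ∧ (⨆ r, C r) = ⊤ ∧
      ∀ r, Submodule.map (CoalgebraStruct.comul (R := k) (A := A)) (C r) ≤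
        ⨆ i ∈ Finset.range (r + 1),
          LinearMap.range (TensorProduct.mapIncl (C i) (C (r - i))) := by
  refine ⟨fun r => Cp k A (r + 1), fun x y hxy => Cp_mono (Nat.succ_le_succ hxy), Cp_one, ?_,
    fun r => comul_Cp_le r⟩
  rw [eq_top_iff]
  intro a _
  obtain ⟨m, hm⟩ := mem_Cp_of_trivFlag hU a
  exact Submodule.mem_iSup_of_mem m (Cp_le_succ m hm)

/-- A coconnected bialgebra is unipotent. -/
theorem isUnipotent_of_exists_cofilt
    (h : ∃ C : ℕ → Submodule k A, Monotone C ∧ C 0 = Submodule.span k {(1 : A)} ∧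
      (⨆ r, C r) = ⊤ ∧
      ∀ r, Submodule.map (CoalgebraStruct.comul (R := k) (A := A)) (C r) ≤
        ⨆ i ∈ Finset.range (r + 1),
          LinearMap.range (TensorProduct.mapIncl (C i) (C (r - i)))) :
    IsUnipotent k A := by
  obtain ⟨C, hmono, h0, hsup, hcomul⟩ := h
  intro V _ _ _ hfin hnt
  haveI := hfin
  haveI := hnt
  exact fixedPts_ne_bot_of_cofilt ⟨hmono, h0, hcomul⟩ (fun v l => by rw [hsup]; trivial)

end Final

end Groth.Agent.Lib.Helper25
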