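import Mathlib

/-!
# Helper25HSub: sub-Hopf-algebras of a commutative Hopf algebra over a field as Hopf algebras (helper25)

`HSub k A`: bundled sub-Hopf-algebra; `HopfAlgebra k ↥B.S` instance; `HSub.val`, `HSub.codRestrict`.
-/

set_option autoImplicit false
universe u v w

namespace Groth.Agent.Lib.Helper25.HopfSub

open TensorProduct

/-- A sub-Hopf-algebra of a commutative Hopf algebra over a field, bundled. -/
structure HSub (k : Type u) [Field k] (A : Type v) [CommRing A] [HopfAlgebra k A] where
  S : Subalgebra k A
  comul_mem : ∀ b ∈ S, CoalgebraStruct.comul (R := k) b ∈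
      LinearMap.range (TensorProduct.map S.val.toLinearMap S.val.toLinearMap)
  antipode_mem : ∀ b ∈ S, HopfAlgebraStruct.antipode (R := k) b ∈ S

variable {k : Type u} [Field k] {A : Type v} [CommRing A] [HopfAlgebra k A] (B : HSub k A)

namespace HSub

/-- The inclusion as a linear map. -/
abbrev ι : ↥B.S →ₗ[k] A := B.S.val.toLinearMap

theorem ι_injective : Function.Injective B.ι := Subtype.val_injective

theorem ιι_injective : Function.Injective (TensorProduct.map B.ι B.ι) :=
  TensorProduct.map_injective_of_flat_flat _ _ B.ι_injective B.ι_injective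

theorem ιιι_injective : Function.Injective (TensorProduct.map B.ι (TensorProduct.map B.ι B.ι)) :=
  TensorProduct.map_injective_of_flat_flat _ _ B.ι_injective B.ιι_injective

noncomputable def comulL : ↥B.S →ₗ[k] ↥B.S ⊗[k] ↥B.S :=
  (LinearEquiv.ofInjective _ B.ιι_injective).symm.toLinearMap ∘ₗ
    (LinearMap.codRestrict (LinearMap.range (TensorProduct.map B.ι B.ι))
      (CoalgebraStruct.comul (R := k) ∘ₗ B.ι) (fun b => B.comul_mem b b.2))

theorem map_comulL (b : ↥B.S) :
    TensorProduct.map B.ι B.ι (B.comulL b) = CoalgebraStruct.comul (R := k) (b : A) := by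
  unfold comulL
  rw [LinearMap.comp_apply]
  set y : LinearMap.range (TensorProduct.map B.ι B.ι) :=
    (LinearMap.codRestrict (LinearMap.range (TensorProduct.map B.ι B.ι))
      (CoalgebraStruct.comul (R := k) ∘ₗ B.ι) (fun b => B.comul_mem b b.2)) b with hy
  have h1 := congrArg Subtype.val
    ((LinearEquiv.ofInjective _ B.ιι_injective).apply_symm_apply y)
  rw [LinearEquiv.ofInjective_apply] at h1
  rw [LinearEquiv.coe_coe, h1, hy]
  rfl

noncomputable def counitL : ↥B.S →ₗ[k] k := CoalgebraStruct.counit (R := k) ∘ₗ B.ι

theorem counitL_apply (b : ↥B.S) : B.counitL b = CoalgebraStruct.counit (R := k) (b : A) := rfl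

theorem map_rTensor_comulL (w : ↥B.S ⊗[k] ↥B.S) :
    TensorProduct.map (TensorProduct.map B.ι B.ι) B.ι (LinearMap.rTensor _ B.comulL w) =
      LinearMap.rTensor A (CoalgebraStruct.comul (R := k)) (TensorProduct.map B.ι B.ι w) := by
  induction w using TensorProduct.induction_on with
  | zero => simp
  | add x y hx hy => simp only [map_add, hx, hy]
  | tmul x y =>
    simp only [LinearMap.rTensor_tmul, TensorProduct.map_tmul, B.map_comulL]
    rfl

theorem map_lTensor_comulL (w : ↥B.S ⊗[k] ↥B.S) :
    TensorProduct.map B.ι (TensorProduct.map B.ι B.ι) (LinearMap.lTensor _ B.comulL w) =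
      LinearMap.lTensor A (CoalgebraStruct.comul (R := k)) (TensorProduct.map B.ι B.ι w) := by
  induction w using TensorProduct.induction_on with
  | zero => simp
  | add x y hx hy => simp only [map_add, hx, hy]
  | tmul x y =>
    simp only [LinearMap.lTensor_tmul, TensorProduct.map_tmul, B.map_comulL]
    rfl

theorem map_rTensor_counitL (w : ↥B.S ⊗[k] ↥B.S) :
    LinearMap.lTensor k B.ι (LinearMap.rTensor _ B.counitL w) =
      LinearMap.rTensor A (CoalgebraStruct.counit (R := k)) (TensorProduct.map B.ι B.ι w) := by
  induction w using TensorProduct.induction_on with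
  | zero => simp
  | add x y hx hy => simp only [map_add, hx, hy]
  | tmul x y =>
    simp only [LinearMap.rTensor_tmul, LinearMap.lTensor_tmul, TensorProduct.map_tmul,
      B.counitL_apply]
    rfl

theorem map_lTensor_counitL (w : ↥B.S ⊗[k] ↥B.S) :
    LinearMap.rTensor k B.ι (LinearMap.lTensor _ B.counitL w) =
      LinearMap.lTensor A (CoalgebraStruct.counit (R := k)) (TensorProduct.map B.ι B.ι w) := by
  induction w using TensorProduct.induction_on with
  | zero => simp
  | add x y hx hy => simp only [map_add, hx, hy]
  | tmul x y =>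
    simp only [LinearMap.rTensor_tmul, LinearMap.lTensor_tmul, TensorProduct.map_tmul,
      B.counitL_apply]
    rfl

noncomputable instance instCoalgebra : Coalgebra k ↥B.S where
  comul := B.comulL
  counit := B.counitL
  coassoc := by
    apply LinearMap.ext
    intro b
    apply B.ιιι_injective
    simp only [LinearMap.comp_apply, LinearEquiv.coe_coe]
    rw [TensorProduct.map_map_assoc, B.map_rTensor_comulL, B.map_lTensor_comulL, B.map_comulL]
    exact Coalgebra.coassoc_apply _
  rTensor_counit_comp_comul := by
    apply LinearMap.ext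
    intro b
    have hinj : Function.Injective (LinearMap.lTensor k B.ι) :=
      Module.Flat.lTensor_preserves_injective_linearMap _ B.ι_injective
    apply hinj
    simp only [LinearMap.comp_apply]
    rw [B.map_rTensor_counitL, B.map_comulL, Coalgebra.rTensor_counit_comul]
    simp
  lTensor_counit_comp_comul := by
    apply LinearMap.ext
    intro b
    have hinj : Function.Injective (LinearMap.rTensor k B.ι) :=
      Module.Flat.rTensor_preserves_injective_linearMap _ B.ι_injective
    apply hinj
    simp only [LinearMap.comp_apply]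
    rw [B.map_lTensor_counitL, B.map_comulL, Coalgebra.lTensor_counit_comul]
    simp

theorem comul_def (b : ↥B.S) : CoalgebraStruct.comul (R := k) b = B.comulL b := rfl

theorem counit_def (b : ↥B.S) :
    CoalgebraStruct.counit (R := k) b = CoalgebraStruct.counit (R := k) (b : A) := rfl

theorem map_comul (b : ↥B.S) :
    TensorProduct.map B.ι B.ι (CoalgebraStruct.comul (R := k) b) =
      CoalgebraStruct.comul (R := k) (b : A) := B.map_comulL b

theorem ιι_one : TensorProduct.map B.ι B.ι (1 : ↥B.S ⊗[k] ↥B.S) = 1 := by
  rw [Algebra.TensorProduct.one_def, TensorProduct.map_tmul, Algebra.TensorProduct.one_def]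
  rfl

theorem ιι_mul (x y : ↥B.S ⊗[k] ↥B.S) :
    TensorProduct.map B.ι B.ι (x * y) = TensorProduct.map B.ι B.ι x * TensorProduct.map B.ι B.ι y :=
  map_mul (Algebra.TensorProduct.map B.S.val B.S.val) x y

noncomputable instance instBialgebra : Bialgebra k ↥B.S :=
  Bialgebra.mk' k ↥B.S
    (by
      change CoalgebraStruct.counit (R := k) ((1 : ↥B.S) : A) = 1
      rw [OneMemClass.coe_one, Bialgebra.counit_one])
    (by
      intro a b
      change CoalgebraStruct.counit (R := k) ((a * b : ↥B.S) : A) =
        CoalgebraStruct.counit (R := k) (a : A) * CoalgebraStruct.counit (R := k) (b : A)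
      rw [MulMemClass.coe_mul, Bialgebra.counit_mul])
    (by
      apply B.ιι_injective
      rw [B.ιι_one]
      change TensorProduct.map B.ι B.ι (B.comulL 1) = 1
      rw [B.map_comulL, OneMemClass.coe_one, Bialgebra.comul_one])
    (by
      intro a b
      apply B.ιι_injective
      rw [B.ιι_mul]
      change TensorProduct.map B.ι B.ι (B.comulL (a * b)) =
        TensorProduct.map B.ι B.ι (B.comulL a) * TensorProduct.map B.ι B.ι (B.comulL b)
      rw [B.map_comulL, B.map_comulL, B.map_comulL, MulMemClass.coe_mul, Bialgebra.comul_mul])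

noncomputable def antipodeL : ↥B.S →ₗ[k] ↥B.S :=
  LinearMap.codRestrict (Subalgebra.toSubmodule B.S)
    (HopfAlgebraStruct.antipode (R := k) ∘ₗ B.ι) (fun b => B.antipode_mem b b.2)

theorem coe_antipodeL (b : ↥B.S) :
    ((B.antipodeL b : ↥B.S) : A) = HopfAlgebraStruct.antipode (R := k) (b : A) := rfl

theorem ι_mul'_rTensor_antipodeL (w : ↥B.S ⊗[k] ↥B.S) :
    B.ι (LinearMap.mul' k ↥B.S (LinearMap.rTensor _ B.antipodeL w)) =
      LinearMap.mul' k A (LinearMap.rTensor A (HopfAlgebraStruct.antipode (R := k))
        (TensorProduct.map B.ι B.ι w)) := by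
  induction w using TensorProduct.induction_on with
  | zero => simp
  | add x y hx hy => simp only [map_add, hx, hy]
  | tmul x y =>
    simp only [LinearMap.rTensor_tmul, TensorProduct.map_tmul, LinearMap.mul'_apply]
    rfl

theorem ι_mul'_lTensor_antipodeL (w : ↥B.S ⊗[k] ↥B.S) :
    B.ι (LinearMap.mul' k ↥B.S (LinearMap.lTensor _ B.antipodeL w)) =
      LinearMap.mul' k A (LinearMap.lTensor A (HopfAlgebraStruct.antipode (R := k))
        (TensorProduct.map B.ι B.ι w)) := by
  induction w using TensorProduct.induction_on with
  | zero => simp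
  | add x y hx hy => simp only [map_add, hx, hy]
  | tmul x y =>
    simp only [LinearMap.lTensor_tmul, TensorProduct.map_tmul, LinearMap.mul'_apply]
    rfl

noncomputable instance instHopfAlgebra : HopfAlgebra k ↥B.S where
  antipode := B.antipodeL
  mul_antipode_rTensor_comul := by
    apply LinearMap.ext
    intro b
    apply B.ι_injective
    simp only [LinearMap.comp_apply]
    rw [B.ι_mul'_rTensor_antipodeL]
    change LinearMap.mul' k A (LinearMap.rTensor A (HopfAlgebraStruct.antipode (R := k))
      (TensorProduct.map B.ι B.ι (B.comulL b))) = _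
    rw [B.map_comulL, HopfAlgebra.mul_antipode_rTensor_comul_apply]
    rfl
  mul_antipode_lTensor_comul := by
    apply LinearMap.ext
    intro b
    apply B.ι_injective
    simp only [LinearMap.comp_apply]
    rw [B.ι_mul'_lTensor_antipodeL]
    change LinearMap.mul' k A (LinearMap.lTensor A (HopfAlgebraStruct.antipode (R := k))
      (TensorProduct.map B.ι B.ι (B.comulL b))) = _
    rw [B.map_comulL, HopfAlgebra.mul_antipode_lTensor_comul_apply]
    rfl

theorem antipode_def (b : ↥B.S) :
    ((HopfAlgebraStruct.antipode (R := k) b : ↥B.S) : A) =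
      HopfAlgebraStruct.antipode (R := k) (b : A) := rfl

/-- The inclusion as a bialgebra homomorphism. -/
noncomputable def val : ↥B.S →ₐc[k] A :=
  BialgHom.ofAlgHom B.S.val
    (AlgHom.ext fun b => rfl)
    (AlgHom.ext fun b => B.map_comul b)

@[simp] theorem val_apply (b : ↥B.S) : B.val b = (b : A) := rfl

theorem val_injective : Function.Injective B.val := Subtype.val_injective

/-- Corestriction of a bialgebra homomorphism with image in `B`. -/
noncomputable def codRestrict {C : Type w} [CommRing C] [Bialgebra k C] (f : C →ₐc[k] A)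
    (hf : ∀ c, f c ∈ B.S) : C →ₐc[k] ↥B.S :=
  BialgHom.ofAlgHom ((f : C →ₐ[k] A).codRestrict B.S hf)
    (AlgHom.ext fun c => by
      change CoalgebraStruct.counit (R := k) (f c) = CoalgebraStruct.counit (R := k) c
      exact CoalgHomClass.counit_comp_apply f c)
    (AlgHom.ext fun c => by
      apply B.ιι_injective
      change TensorProduct.map B.ι B.ι (TensorProduct.map
        ((f : C →ₐ[k] A).codRestrict B.S hf).toLinearMap
        ((f : C →ₐ[k] A).codRestrict B.S hf).toLinearMap (CoalgebraStruct.comul (R := k) c)) =
        TensorProduct.map B.ι B.ι (CoalgebraStruct.comul (R := k)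
          ((f : C →ₐ[k] A).codRestrict B.S hf c))
      rw [B.map_comul]
      change _ = CoalgebraStruct.comul (R := k) (f c)
      rw [← CoalgHomClass.map_comp_comul_apply f c]
      rw [← LinearMap.comp_apply, ← TensorProduct.map_comp]
      rfl)

@[simp] theorem coe_codRestrict {C : Type w} [CommRing C] [Bialgebra k C] (f : C →ₐc[k] A)
    (hf : ∀ c, f c ∈ B.S) (c : C) : ((B.codRestrict f hf c : ↥B.S) : A) = f c := rfl

end HSub

end Groth.Agent.Lib.Helper25.HopfSub
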