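import Groth.Agent.Lib.Helper25Comod
import Mathlib.RingTheory.Noetherian.Basic
import Mathlib.LinearAlgebra.FiniteDimensional.Defs

/-!
# Fixed vectors of comodules over a bialgebra; linear reductivity and invariants (helper25)
-/

set_option autoImplicit false
universe u v w w'

namespace Groth.Agent.Lib.Helper25

open TensorProduct HopfRep

section Fixed

variable {k : Type u} [CommRing k] {A : Type v} [Ring A] [Bialgebra k A]
variable {V : Type w} [AddCommGroup V] [Module k V] [Comod k A V]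
variable {W : Type w'} [AddCommGroup W] [Module k W] [Comod k A W]

theorem mem_fixedPts_iff (v : V) :
    v ∈ fixedPts k A V ↔ Comod.coact (k := k) (A := A) v = v ⊗ₜ[k] (1 : A) := Iff.rfl

theorem T_of_mem_fixedPts {v : V} (hv : v ∈ fixedPts k A V) (ψ : A →ₗ[k] k) :
    T ψ v = ψ 1 • v := by
  rw [T_apply, (mem_fixedPts_iff v).mp hv, slice_tmul]

theorem mem_fixedPts_iff_T [Module.Free k A] (v : V) :
    v ∈ fixedPts k A V ↔ ∀ ψ : A →ₗ[k] k, T ψ v = ψ 1 • v := by
  constructor
  · exact fun hv ψ => T_of_mem_fixedPts hv ψ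
  · intro h
    rw [mem_fixedPts_iff]
    apply eq_of_slice_eq
    intro ψ
    rw [slice_tmul, ← h ψ, T_apply]

theorem map_mem_fixedPts {f : V →ₗ[k] W} (hf : Hoch.IsComodHom A f) {v : V}
    (hv : v ∈ fixedPts k A V) : f v ∈ fixedPts k A W := by
  rw [mem_fixedPts_iff] at hv ⊢
  rw [isComodHom_apply hf, hv, LinearMap.rTensor_tmul]

theorem isSubcomod_span_of_mem_fixedPts {v : V} (hv : v ∈ fixedPts k A V) :
    IsSubcomod (k := k) (A := A) (Submodule.span k {v}) := by
  intro x hx
  obtain ⟨c, rfl⟩ := Submodule.mem_span_singleton.mp hx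
  rw [map_smul, (mem_fixedPts_iff v).mp hv]
  exact ⟨(c • ⟨v, Submodule.mem_span_singleton_self v⟩ : Submodule.span k {v}) ⊗ₜ[k] (1 : A),
    by simp [TensorProduct.smul_tmul']⟩

end Fixed

section Reductive

variable {k : Type u} [Field k] {A : Type v} [CommRing A] [Bialgebra k A]

/-- For a linearly reductive bialgebra, invariants lift along surjective comodule maps
(comodules of any dimension, in the universe of `A`). -/
theorem exists_fixedPts_map_eq_of_isLinearlyReductive (hG : IsLinearlyReductive k A)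
    (V W : Type v) [AddCommGroup V] [Module k V] [Comod k A V]
    [AddCommGroup W] [Module k W] [Comod k A W]
    (φ : V →ₗ[k] W) (hφ : Hoch.IsComodHom A φ) (hsurj : Function.Surjective φ)
    (w : W) (hw : w ∈ fixedPts k A W) :
    ∃ v ∈ fixedPts k A V, φ v = w := by
  obtain ⟨v₀, hv₀⟩ := hsurj w
  obtain ⟨U, hUfg, hUsub, hvU⟩ := exists_fg_subcomod_mem (k := k) (A := A) v₀
  letI cU : Comod k A U := subComod U hUsub
  have hfin : Module.Finite k U := Module.Finite.iff_fg.mpr hUfg
  have hss : IsSemisimpleComod k A U := hG U hfin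
  have hsub : Hoch.IsComodHom A U.subtype := isComodHom_subtype U hUsub
  have hcomp : Hoch.IsComodHom A (φ ∘ₗ U.subtype) := isComodHom_comp hsub hφ
  have hK : IsSubcomod (k := k) (A := A) (LinearMap.ker (φ ∘ₗ U.subtype)) := isSubcomod_ker hcomp
  obtain ⟨L, hL, hc⟩ := hss _ hK
  have htop : (⟨v₀, hvU⟩ : U) ∈ LinearMap.ker (φ ∘ₗ U.subtype) ⊔ L := by
    rw [hc.sup_eq_top]
    exact Submodule.mem_top
  obtain ⟨κ, hκ, ℓ, hℓ, hsum⟩ := Submodule.mem_sup.mp htop
  have hφℓ : φ (ℓ : V) = w := by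
    have h1 : φ ((κ : V)) = 0 := by
      have := LinearMap.mem_ker.mp hκ
      simpa using this
    have h2 : (κ : V) + (ℓ : V) = v₀ := by
      have := congrArg Subtype.val hsum
      simpa using this
    rw [← hv₀, ← h2, map_add, h1, zero_add]
  have hfix : ℓ ∈ fixedPts k A U := by
    rw [mem_fixedPts_iff_T]
    intro ψ
    have hmem : T ψ ℓ - ψ 1 • ℓ ∈ L :=
      Submodule.sub_mem _ (T_mem_of_isSubcomod hL ψ hℓ) (Submodule.smul_mem _ _ hℓ)
    have hker : T ψ ℓ - ψ 1 • ℓ ∈ LinearMap.ker (φ ∘ₗ U.subtype) := by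
      rw [LinearMap.mem_ker, map_sub, map_T_of_isComodHom hcomp, map_smul]
      have : (φ ∘ₗ U.subtype) ℓ = w := hφℓ
      rw [this, T_of_mem_fixedPts hw, sub_self]
    have := (Submodule.mem_bot k).mp (hc.inf_eq_bot ▸ Submodule.mem_inf.mpr ⟨hker, hmem⟩)
    exact sub_eq_zero.mp this
  exact ⟨(ℓ : V), map_mem_fixedPts hsub hfix, hφℓ⟩

end Reductive

end Groth.Agent.Lib.Helper25
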