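import Mathlib.RingTheory.HopfAlgebra.Convolution
import Mathlib.RingTheory.HopfAlgebra.TensorProduct

set_option autoImplicit false
universe u v

open TensorProduct WithConv

namespace Groth.Agent.Lib.Helper25

variable {k : Type u} [CommRing k] {A : Type v} [CommRing A] [HopfAlgebra k A]

theorem lift_include_antipode (x : A ⊗[k] A) :
    Algebra.TensorProduct.lift
      ((Algebra.TensorProduct.includeRight : A →ₐ[k] A ⊗[k] A).comp (HopfAlgebra.antipodeAlgHom k A))
      ((Algebra.TensorProduct.includeLeft : A →ₐ[k] A ⊗[k] A).comp (HopfAlgebra.antipodeAlgHom k A))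
      (fun _ _ => .all ..) x =
    TensorProduct.map (HopfAlgebra.antipode k) (HopfAlgebra.antipode k)
      (TensorProduct.comm k A A x) := by
  induction x using TensorProduct.induction_on with
  | zero => simp
  | add x y hx hy => simp only [map_add, hx, hy]
  | tmul a b => simp

/-- The antipode of a commutative Hopf algebra reverses the comultiplication. -/
theorem comul_antipode (a : A) :
    CoalgebraStruct.comul (R := k) (HopfAlgebra.antipode k a) =
      TensorProduct.map (HopfAlgebra.antipode k) (HopfAlgebra.antipode k)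
        (TensorProduct.comm k A A (CoalgebraStruct.comul (R := k) a)) := by
  let Δ' : WithConv (A →ₐ[k] A ⊗[k] A) := toConv (Bialgebra.comulAlgHom k A)
  let i1 : WithConv (A →ₐ[k] A ⊗[k] A) := toConv Algebra.TensorProduct.includeLeft
  let i2 : WithConv (A →ₐ[k] A ⊗[k] A) := toConv Algebra.TensorProduct.includeRight
  have h1 : Δ' = i1 * i2 := by
    apply WithConv.ofConv_injective
    ext b
    change CoalgebraStruct.comul (R := k) b = (i1 * i2) b
    rw [AlgHom.convMul_apply]
    simp [i1, i2]
  have h2 : Δ'⁻¹ = i2⁻¹ * i1⁻¹ := by rw [h1]; exact mul_inv_rev i1 i2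
  have h3 : Δ'⁻¹ a = (i2⁻¹ * i1⁻¹) a := by rw [h2]
  rw [AlgHom.convMul_apply] at h3
  rw [← lift_include_antipode]
  exact h3

end Groth.Agent.Lib.Helper25
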