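import Groth.Agent.Lib.Helper25Coeff
import Groth.Agent.Lib.Helper25ComodInv
import Groth.Agent.Lib.Helper25Antipode
import Mathlib.LinearAlgebra.Matrix.ToLin

/-!
# Matrix coefficients of finite free comodules: comatrices, comodules from comatrices,
comodule maps and fixed vectors in coordinates (helper25)
-/

set_option autoImplicit false
universe u v w w'

namespace Groth.Agent.Lib.Helper25

open TensorProduct HopfRep Module

section BasisLeft

variable {k : Type u} [CommRing k] {A : Type v} [AddCommGroup A] [Module k A]
variable {V : Type w} [AddCommGroup V] [Module k V]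
variable {ι : Type*} [Fintype ι] [DecidableEq ι]

theorem lslice_coord_sum (b : Basis ι k V) (x : ι → A) (i : ι) :
    lslice (b.coord i) (∑ j, b j ⊗ₜ[k] x j) = x i := by
  rw [map_sum]
  simp only [lslice_tmul, Basis.coord_apply, Basis.repr_self, Finsupp.single_apply]
  rw [Finset.sum_eq_single i]
  · simp
  · intro j _ hj
    simp [hj]
  · intro h
    exact absurd (Finset.mem_univ i) h

theorem eq_sum_lslice (b : Basis ι k V) (x : V ⊗[k] A) :
    x = ∑ i, b i ⊗ₜ[k] lslice (b.coord i) x := by
  induction x using TensorProduct.induction_on with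
  | zero => simp
  | add x y hx hy =>
    conv_lhs => rw [hx, hy]
    rw [← Finset.sum_add_distrib]
    refine Finset.sum_congr rfl (fun i _ => ?_)
    rw [map_add, TensorProduct.tmul_add]
  | tmul v a =>
    simp only [lslice_tmul, Basis.coord_apply]
    conv_lhs => rw [← b.sum_repr v, TensorProduct.sum_tmul]
    refine Finset.sum_congr rfl (fun i _ => ?_)
    rw [TensorProduct.smul_tmul]

theorem sum_tmul_injective (b : Basis ι k V) {x y : ι → A}
    (h : ∑ j, b j ⊗ₜ[k] x j = ∑ j, b j ⊗ₜ[k] y j) : x = y := by
  funext i
  rw [← lslice_coord_sum b x i, h, lslice_coord_sum]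

end BasisLeft

section Comatrix

variable {k : Type u} [CommRing k] {A : Type v} [AddCommGroup A] [Module k A] [Coalgebra k A]
variable {V : Type w} [AddCommGroup V] [Module k V]
variable {W : Type w'} [AddCommGroup W] [Module k W]
variable {ι : Type*} [Fintype ι] [DecidableEq ι] {κ : Type*} [Fintype κ] [DecidableEq κ]

/-- A comatrix: `Δ a_ij = Σ_l a_il ⊗ a_lj` and `ε a_ij = δ_ij`. -/
structure IsComatrix (a : Matrix ι ι A) : Prop where
  comul : ∀ i j, CoalgebraStruct.comul (R := k) (a i j) = ∑ l, a i l ⊗ₜ[k] a l j
  counit : ∀ i j, CoalgebraStruct.counit (R := k) (a i j) = if i = j then (1 : k) else 0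

/-- The coaction on a module with basis `b` given by the matrix `a`. -/
noncomputable def matCoact (b : Basis ι k V) (a : Matrix ι ι A) : V →ₗ[k] V ⊗[k] A :=
  b.constr k (fun j => ∑ i, b i ⊗ₜ[k] a i j)

theorem matCoact_basis (b : Basis ι k V) (a : Matrix ι ι A) (j : ι) :
    matCoact b a (b j) = ∑ i, b i ⊗ₜ[k] a i j := by
  simp [matCoact]

/-- The comodule structure on a module with a finite basis attached to a comatrix. -/
@[reducible] noncomputable def comodOfComatrix (b : Basis ι k V) (a : Matrix ι ι A)
    (ha : IsComatrix (k := k) a) : Comod k A V where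
  coact := matCoact b a
  coassoc := by
    apply b.ext
    intro j
    simp only [LinearMap.coe_comp, LinearEquiv.coe_coe, Function.comp_apply, matCoact_basis,
      map_sum, LinearMap.rTensor_tmul, TensorProduct.sum_tmul, TensorProduct.assoc_tmul,
      LinearMap.lTensor_tmul, ha.comul, TensorProduct.tmul_sum]
    rw [Finset.sum_comm]
  counit_comp := by
    apply b.ext
    intro j
    simp only [LinearMap.coe_comp, Function.comp_apply, matCoact_basis, map_sum,
      LinearMap.lTensor_tmul, ha.counit, LinearMap.flip_apply, TensorProduct.mk_apply]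
    rw [Finset.sum_eq_single j]
    · simp
    · intro i _ hij
      simp [hij]
    · intro h
      exact absurd (Finset.mem_univ j) h

variable [Comod k A V] [Comod k A W]

/-- The comatrix of a comodule with respect to a finite basis. -/
noncomputable def comatrix (b : Basis ι k V) : Matrix ι ι A :=
  Matrix.of (fun i j => coeffMap (A := A) (b.coord i) (b j))

theorem comatrix_apply (b : Basis ι k V) (i j : ι) :
    comatrix (A := A) b i j = coeffMap (A := A) (b.coord i) (b j) := rfl

theorem coact_basis (b : Basis ι k V) (j : ι) :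
    Comod.coact (k := k) (A := A) (b j) = ∑ i, b i ⊗ₜ[k] comatrix (A := A) b i j :=
  eq_sum_lslice b _

theorem isComatrix_comatrix (b : Basis ι k V) : IsComatrix (k := k) (comatrix (A := A) b) where
  comul i j := by
    have h := isComodHom_apply (isComodHom_coeffMap (A := A) (b.coord i)) (b j)
    change CoalgebraStruct.comul (R := k) (coeffMap (A := A) (b.coord i) (b j)) = _ at h
    rw [comatrix_apply, h, coact_basis, map_sum]
    simp only [LinearMap.rTensor_tmul]
    rfl
  counit i j := by
    rw [comatrix_apply, counit_coeffMap, Basis.coord_apply, Basis.repr_self, Finsupp.single_apply]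
    simp only [eq_comm]

/-- The coaction in coordinates. -/
theorem coact_eq_sum (b : Basis ι k V) (x : V) :
    Comod.coact (k := k) (A := A) x =
      ∑ i, b i ⊗ₜ[k] ∑ j, b.repr x j • comatrix (A := A) b i j := by
  conv_lhs => rw [← b.sum_repr x]
  simp only [map_sum, map_smul, coact_basis, Finset.smul_sum, TensorProduct.tmul_sum,
    TensorProduct.tmul_smul]
  rw [Finset.sum_comm]

/-- Comodule maps in coordinates: `g` is a comodule map iff `a' G = G a`. -/
theorem isComodHom_iff_matrix (b : Basis ι k V) (c : Basis κ k W) (g : V →ₗ[k] W) :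
    Hoch.IsComodHom A g ↔
      ∀ (q : κ) (j : ι), ∑ p, LinearMap.toMatrix b c g p j • comatrix (A := A) c q p =
        ∑ i, LinearMap.toMatrix b c g q i • comatrix (A := A) b i j := by
  have key : ∀ j, (Comod.coact (k := k) (A := A) (g (b j)) =
      g.rTensor A (Comod.coact (k := k) (A := A) (b j))) ↔
      ∀ q, ∑ p, LinearMap.toMatrix b c g p j • comatrix (A := A) c q p =
        ∑ i, LinearMap.toMatrix b c g q i • comatrix (A := A) b i j := by
    intro j
    have h1 : Comod.coact (k := k) (A := A) (g (b j)) =
        ∑ q, c q ⊗ₜ[k] ∑ p, LinearMap.toMatrix b c g p j • comatrix (A := A) c q p := by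
      rw [coact_eq_sum c]
      simp only [LinearMap.toMatrix_apply]
    have h2 : g.rTensor A (Comod.coact (k := k) (A := A) (b j)) =
        ∑ q, c q ⊗ₜ[k] ∑ i, LinearMap.toMatrix b c g q i • comatrix (A := A) b i j := by
      rw [coact_basis, map_sum]
      simp only [LinearMap.rTensor_tmul]
      have : ∀ i, g (b i) = ∑ q, LinearMap.toMatrix b c g q i • c q := by
        intro i
        conv_lhs => rw [← c.sum_repr (g (b i))]
        simp only [LinearMap.toMatrix_apply]
      simp only [this, TensorProduct.sum_tmul, TensorProduct.tmul_sum, TensorProduct.smul_tmul,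
        TensorProduct.tmul_smul]
      rw [Finset.sum_comm]
    rw [h1, h2]
    constructor
    · intro h q
      exact congrFun (sum_tmul_injective c h) q
    · intro h
      exact Finset.sum_congr rfl (fun q _ => by rw [h q])
  constructor
  · intro hg q j
    exact (key j).mp (isComodHom_apply hg (b j)) q
  · intro h
    apply b.ext
    intro j
    exact (key j).mpr (fun q => h q j)

end Comatrix

section Hopf

variable {k : Type u} [CommRing k] {A : Type v} [CommRing A] [HopfAlgebra k A]
variable {ι : Type*} [Fintype ι] [DecidableEq ι] {κ : Type*} [Fintype κ] [DecidableEq κ]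

theorem IsComatrix.mul_antipode {a : Matrix ι ι A} (ha : IsComatrix (k := k) a) (i j : ι) :
    ∑ l, a i l * HopfAlgebra.antipode k (a l j) = if i = j then 1 else 0 := by
  have h := HopfAlgebra.mul_antipode_lTensor_comul_apply (R := k) (a i j)
  rw [ha.comul, map_sum, map_sum, ha.counit] at h
  simp only [LinearMap.lTensor_tmul, LinearMap.mul'_apply] at h
  rw [h]
  split_ifs <;> simp

theorem IsComatrix.antipode_mul {a : Matrix ι ι A} (ha : IsComatrix (k := k) a) (i j : ι) :
    ∑ l, HopfAlgebra.antipode k (a i l) * a l j = if i = j then 1 else 0 := by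
  have h := HopfAlgebra.mul_antipode_rTensor_comul_apply (R := k) (a i j)
  rw [ha.comul, map_sum, map_sum, ha.counit] at h
  simp only [LinearMap.rTensor_tmul, LinearMap.mul'_apply] at h
  rw [h]
  split_ifs <;> simp

theorem IsComatrix.comul_antipode {a : Matrix ι ι A} (ha : IsComatrix (k := k) a) (i j : ι) :
    CoalgebraStruct.comul (R := k) (HopfAlgebra.antipode k (a i j)) =
      ∑ l, HopfAlgebra.antipode k (a l j) ⊗ₜ[k] HopfAlgebra.antipode k (a i l) := by
  rw [Groth.Agent.Lib.Helper25.comul_antipode, ha.comul, map_sum, map_sum]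
  simp only [TensorProduct.comm_tmul, TensorProduct.map_tmul]

theorem IsComatrix.counit_antipode {a : Matrix ι ι A} (ha : IsComatrix (k := k) a) (i j : ι) :
    CoalgebraStruct.counit (R := k) (HopfAlgebra.antipode k (a i j)) =
      if i = j then (1 : k) else 0 := by
  rw [HopfAlgebra.counit_antipode, ha.counit]

/-- The transpose-inverse comatrix `S(a)ᵀ` (matrix of the dual comodule). -/
theorem IsComatrix.dual {a : Matrix ι ι A} (ha : IsComatrix (k := k) a) :
    IsComatrix (k := k) (Matrix.of fun i j => HopfAlgebra.antipode k (a j i)) where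
  comul i j := by
    simp only [Matrix.of_apply]
    exact ha.comul_antipode j i
  counit i j := by
    simp only [Matrix.of_apply]
    rw [ha.counit_antipode]
    simp only [eq_comm]

/-- The comatrix of `Hom(V, W)`: `h (p,j) (q,i) = a'_pq S(a_ij)`. -/
theorem IsComatrix.hom {a : Matrix ι ι A} (ha : IsComatrix (k := k) a)
    {a' : Matrix κ κ A} (ha' : IsComatrix (k := k) a') :
    IsComatrix (k := k) (Matrix.of fun (x y : κ × ι) =>
      a' x.1 y.1 * HopfAlgebra.antipode k (a y.2 x.2)) where
  comul x y := by
    simp only [Matrix.of_apply]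
    rw [Bialgebra.comul_mul, ha'.comul, ha.comul_antipode, Finset.sum_mul_sum,
      Fintype.sum_prod_type]
    simp only [Algebra.TensorProduct.tmul_mul_tmul]
  counit x y := by
    simp only [Matrix.of_apply]
    rw [Bialgebra.counit_mul, ha'.counit, ha.counit_antipode]
    rcases x with ⟨p, j⟩
    rcases y with ⟨q, i⟩
    simp only [Prod.mk.injEq]
    by_cases h1 : p = q <;> by_cases h2 : i = j
    · simp [h1, h2]
    · have h3 : ¬ j = i := fun h => h2 h.symm
      simp [h1, h2, h3]
    · simp [h1, h2]
    · simp [h1, h2]

end Hopf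

end Groth.Agent.Lib.Helper25
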