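import Groth.Agent.Lib.Helper25Coeff
import Groth.Agent.Lib.Helper25ComodInv
import Groth.Agent.Lib.Helper25ComodMat

/-!
# Coalgebra filtrations and fixed vectors (helper25)

* `IsCoFilt C`: an increasing family `C r` of subspaces of a bialgebra with `C 0 = k·1` and
  `Δ(C r) ⊆ Σ C i ⊗ C (r - i)`.
* `fixedPts_ne_bot_of_cofilt`: a nonzero finite-dimensional comodule whose coefficients lie in
  the union of such a filtration has a nonzero fixed vector.
-/

set_option autoImplicit false
universe u v w w'

namespace Groth.Agent.Lib.Helper25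

open TensorProduct HopfRep


section Filt

variable {k : Type u} [Field k] {A : Type v} [CommRing A] [Bialgebra k A]

/-- A coalgebra filtration starting with the scalars. -/
structure IsCoFilt (C : ℕ → Submodule k A) : Prop where
  mono : Monotone C
  zero : C 0 = Submodule.span k {(1 : A)}
  comul : ∀ r, Submodule.map (CoalgebraStruct.comul (R := k) (A := A)) (C r) ≤
    ⨆ i ∈ Finset.range (r + 1), LinearMap.range (TensorProduct.mapIncl (C i) (C (r - i)))

variable {V : Type w} [AddCommGroup V] [Module k V] [Comod k A V]

/-- A vector all of whose coefficients are scalars is fixed. -/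
theorem mem_fixedPts_of_coeff_mem_span_one (v : V)
    (h : ∀ l : V →ₗ[k] k, coeffMap (A := A) l v ∈ Submodule.span k {(1 : A)}) :
    v ∈ fixedPts k A V := by
  rw [mem_fixedPts_iff, ← sub_eq_zero]
  apply eq_zero_of_lslice_eq_zero
  intro l
  obtain ⟨c, hc⟩ := Submodule.mem_span_singleton.mp (h l)
  have h1 := counit_coeffMap (A := A) l v
  rw [← hc, map_smul, Bialgebra.counit_one, smul_eq_mul, mul_one] at h1
  rw [map_sub, lslice_tmul, ← coeffMap_apply, ← hc, h1, sub_self]

/-- Slicing an element of `Σ C_i ⊗ C_{r+1-i}` by a functional vanishing on `C_r` gives a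
scalar. -/
theorem slice_mem_span_one_of_cofilt {C : ℕ → Submodule k A} (hC : IsCoFilt C) (r : ℕ)
    (f : A →ₗ[k] k) (hf : C r ≤ LinearMap.ker f) (z : A ⊗[k] A)
    (hz : z ∈ ⨆ i ∈ Finset.range (r + 1 + 1),
      LinearMap.range (TensorProduct.mapIncl (C i) (C (r + 1 - i)))) :
    slice A f z ∈ Submodule.span k {(1 : A)} := by
  induction hz using Submodule.iSup_induction' with
  | zero => rw [map_zero]; exact Submodule.zero_mem _
  | add x y _ _ hx hy => rw [map_add]; exact Submodule.add_mem _ hx hy
  | mem i z hz =>
    induction hz using Submodule.iSup_induction' with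
    | zero => rw [map_zero]; exact Submodule.zero_mem _
    | add x y _ _ hx hy => rw [map_add]; exact Submodule.add_mem _ hx hy
    | mem hi z hz =>
      obtain ⟨y, rfl⟩ := hz
      induction y using TensorProduct.induction_on with
      | zero => simp
      | add x y hx hy => rw [map_add, map_add]; exact Submodule.add_mem _ hx hy
      | tmul c c' =>
        rw [TensorProduct.mapIncl, TensorProduct.map_tmul, slice_tmul]
        by_cases h0 : i = 0
        · subst h0
          apply Submodule.smul_mem
          rw [← hC.zero]
          exact c.2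
        · have hle : r + 1 - i ≤ r := by omega
          have : f (c' : A) = 0 := LinearMap.mem_ker.mp (hf (hC.mono hle c'.2))
          rw [Submodule.subtype_apply, this, zero_smul]
          exact Submodule.zero_mem _

end Filt



section Filt2

variable {k : Type u} [Field k] {A : Type v} [CommRing A] [Bialgebra k A]
variable {V : Type w} [AddCommGroup V] [Module k V] [Comod k A V]

theorem eq_zero_of_coeff_mem_of_fixedPts_eq_bot {C : ℕ → Submodule k A} (hC : IsCoFilt C)
    (hbot : fixedPts k A V = ⊥) :
    ∀ r, ∀ v : V, (∀ l : V →ₗ[k] k, coeffMap (A := A) l v ∈ C r) → v = 0 := by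
  intro r
  induction r with
  | zero =>
    intro v hv
    have h := mem_fixedPts_of_coeff_mem_span_one v (fun l => by rw [← hC.zero]; exact hv l)
    rw [hbot, Submodule.mem_bot] at h
    exact h
  | succ r ih =>
    intro v hv
    apply ih
    intro l
    by_contra hnot
    obtain ⟨f, hfa, hfC⟩ := Submodule.exists_le_ker_of_notMem hnot
    have hw : T f v ∈ fixedPts k A V := by
      apply mem_fixedPts_of_coeff_mem_span_one
      intro l'
      rw [← T_coeffMap, T_apply]
      apply slice_mem_span_one_of_cofilt hC r f hfC
      exact hC.comul (r + 1) ⟨_, hv l', rfl⟩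
    rw [hbot, Submodule.mem_bot] at hw
    apply hfa
    rw [coeffMap_apply, apply_lslice, ← T_apply, hw, map_zero]

/-- A nonzero finite-dimensional comodule whose coefficients lie in a connected filtered
subcoalgebra has a nonzero fixed vector. -/
theorem fixedPts_ne_bot_of_cofilt [Module.Finite k V] [Nontrivial V] {C : ℕ → Submodule k A}
    (hC : IsCoFilt C)
    (hV : ∀ (v : V) (l : V →ₗ[k] k), coeffMap (A := A) l v ∈ ⨆ r, C r) :
    fixedPts k A V ≠ ⊥ := by
  classical
  intro hbot
  obtain ⟨v, hv⟩ := exists_ne (0 : V)
  apply hv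
  let b := Module.finBasis k V
  have hdir : ∀ a ∈ ⨆ r, C r, ∃ r, a ∈ C r := fun a ha =>
    (Submodule.mem_iSup_of_directed _ hC.mono.directed_le).mp ha
  choose rr hrr using fun j => hdir _ (hV v (b.coord j))
  apply eq_zero_of_coeff_mem_of_fixedPts_eq_bot hC hbot (Finset.univ.sup rr) v
  intro l
  rw [coeffMap_apply, eq_sum_lslice b (Comod.coact (k := k) (A := A) v), map_sum]
  refine Submodule.sum_mem _ (fun j _ => ?_)
  rw [lslice_tmul]
  apply Submodule.smul_mem
  exact hC.mono (Finset.le_sup (Finset.mem_univ j)) (hrr j)

end Filt2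

end Groth.Agent.Lib.Helper25
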