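import Groth.Agent.Lib.Helper25Shear

/-!
# Helper25QuotLemma: functions on `G/N` for `N` normal (helper25)

* `isHopfIdeal_span_of`, `isHopfIdeal_augIdealSpan`: `A·B⁺` is a Hopf ideal for a sub-Hopf-algebra `B`.
* `range_lTensor_eq_ker`, `range_sup_range_eq_ker_map`: kernels of `id ⊗ π`, `π ⊗ π`.
* `exists_toTensorOver_shearInv_eq`, `sub_counit_mem_of_forall`: the quotient lemma. For a normal
  Hopf ideal `I` with algebra of coinvariants `C`, an element `x` of `A` such that
  `(g * n) x = g x` for all points `g` killing `A·C⁺` and `n` killing `I` is a scalar modulo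
  `A·C⁺`.
-/

set_option autoImplicit false
universe u v w w'

namespace Groth.Agent.Lib.Helper25

open TensorProduct HopfRep WithConv

section QLemma

variable {k A : Type u} [Field k] [CommRing A] [HopfAlgebra k A]
variable (I : Ideal A) [I.IsHopfIdeal k]

theorem rhoR_coe_coinvSub (c : ↥(coinvSub k I)) :
    rhoR k I (c : A) = (c : A) ⊗ₜ[k] (1 : A ⧸ I) := by
  have := c.2
  unfold coinvSub at this
  rw [AlgHom.mem_equalizer] at this
  exact this

theorem coinvSub_smul_def (c : ↥(coinvSub k I)) (z : A ⊗[k] (A ⧸ I)) :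
    c • z = ((c : A) ⊗ₜ[k] (1 : A ⧸ I)) * z := by
  rw [Subalgebra.smul_def]
  induction z using TensorProduct.induction_on with
  | zero => simp
  | add x y hx hy => rw [smul_add, hx, hy, mul_add]
  | tmul a b =>
    rw [TensorProduct.smul_tmul', Algebra.TensorProduct.tmul_mul_tmul, one_mul, smul_eq_mul]

variable (k) in
/-- The defect of coinvariance `a ↦ ρ(a) - a ⊗ 1`, linear over the coinvariants. -/
noncomputable def coinvDefect : A →ₗ[↥(coinvSub k I)] A ⊗[k] (A ⧸ I) where
  toFun a := rhoR k I a - a ⊗ₜ[k] (1 : A ⧸ I)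
  map_add' a b := by
    rw [map_add, TensorProduct.add_tmul]
    abel
  map_smul' c a := by
    simp only [RingHom.id_apply]
    rw [Subalgebra.smul_def, smul_eq_mul, map_mul, rhoR_coe_coinvSub, coinvSub_smul_def,
      mul_sub, Algebra.TensorProduct.tmul_mul_tmul, mul_one]

theorem coinvDefect_apply (a : A) :
    coinvDefect k I a = rhoR k I a - a ⊗ₜ[k] (1 : A ⧸ I) := rfl

theorem mem_ker_coinvDefect {a : A} :
    a ∈ LinearMap.ker (coinvDefect k I) ↔ a ∈ coinvSub k I := by
  rw [LinearMap.mem_ker, coinvDefect_apply, sub_eq_zero]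
  unfold coinvSub
  rw [AlgHom.mem_equalizer]
  rfl

/-- Flatness: the kernel of `A ⊗_C (ρ - ι)` consists of the elements `a ⊗ 1`. -/
theorem exists_eq_tmul_one_of_lTensor_coinvDefect_eq_zero
    [Module.Flat ↥(coinvSub k I) A] (w : A ⊗[↥(coinvSub k I)] A)
    (hw : (coinvDefect k I).lTensor A w = 0) : ∃ a : A, w = a ⊗ₜ[↥(coinvSub k I)] (1 : A) := by
  have hex := Module.Flat.lTensor_exact A (LinearMap.exact_subtype_ker_map (coinvDefect k I))
  obtain ⟨w', rfl⟩ := (hex w).mp hw
  clear hw
  induction w' using TensorProduct.induction_on with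
  | zero => exact ⟨0, by simp⟩
  | add x y hx hy =>
    obtain ⟨a, ha⟩ := hx
    obtain ⟨b, hb⟩ := hy
    exact ⟨a + b, by rw [map_add, ha, hb, TensorProduct.add_tmul]⟩
  | tmul a c =>
    have hc : (c : A) ∈ coinvSub k I := (mem_ker_coinvDefect I).mp c.2
    refine ⟨(c : A) * a, ?_⟩
    rw [LinearMap.lTensor_tmul, Submodule.subtype_apply]
    have e : (c : A) = (⟨(c : A), hc⟩ : ↥(coinvSub k I)) • (1 : A) := by
      rw [Subalgebra.smul_def, smul_eq_mul, mul_one]
    conv_lhs => rw [e]
    rw [← TensorProduct.smul_tmul, Subalgebra.smul_def, smul_eq_mul]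

end QLemma

section SpanHopf

variable {k : Type u} [Field k] {A : Type v} [CommRing A] [HopfAlgebra k A]

theorem range_sup_range_eq_ker_map (J : Ideal A) :
    LinearMap.range ((J.restrictScalars k).subtype.lTensor A) ⊔
      LinearMap.range ((J.restrictScalars k).subtype.rTensor A) =
    LinearMap.ker (TensorProduct.map (Ideal.Quotient.mkₐ k J).toLinearMap
      (Ideal.Quotient.mkₐ k J).toLinearMap) := by
  set q := (Ideal.Quotient.mkₐ k J).toLinearMap with hq
  have hker : LinearMap.ker q = J.restrictScalars k := by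
    ext x
    simp [hq, Ideal.Quotient.eq_zero_iff_mem]
  have hsurj : Function.Surjective q := Ideal.Quotient.mk_surjective
  have hN := TensorProduct.map_ker (LinearMap.exact_subtype_ker_map q) hsurj
    (LinearMap.exact_subtype_ker_map q) hsurj
  rw [hker] at hN
  exact hN.symm

theorem range_lTensor_eq_ker (J : Ideal A) :
    LinearMap.range ((J.restrictScalars k).subtype.lTensor A) =
    LinearMap.ker ((Ideal.Quotient.mkₐ k J).toLinearMap.lTensor A) := by
  set q := (Ideal.Quotient.mkₐ k J).toLinearMap with hq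
  have hker : LinearMap.ker q = J.restrictScalars k := by
    ext x
    simp [hq, Ideal.Quotient.eq_zero_iff_mem]
  have hex : Function.Exact (J.restrictScalars k).subtype q := by
    rw [← hker]
    exact LinearMap.exact_subtype_ker_map q
  have := lTensor_exact A hex Ideal.Quotient.mk_surjective
  exact (LinearMap.exact_iff.mp this).symm

theorem isHopfIdeal_span_of (S : Set A)
    (hε : ∀ s ∈ S, CoalgebraStruct.counit (R := k) s = 0)
    (hΔ : ∀ s ∈ S, CoalgebraStruct.comul (R := k) s ∈
      LinearMap.range (((Ideal.span S).restrictScalars k).subtype.lTensor A) ⊔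
        LinearMap.range (((Ideal.span S).restrictScalars k).subtype.rTensor A))
    (hS : ∀ s ∈ S, HopfAlgebra.antipode k s ∈ Ideal.span S) :
    (Ideal.span S).IsHopfIdeal k := by
  have hco : ((Ideal.span S).restrictScalars k).IsCoideal := by
    rw [Submodule.isCoideal_iff_comul_mem]
    constructor
    · have h : Ideal.span S ≤ RingHom.ker (Bialgebra.counitAlgHom k A : A →+* k) := by
        rw [Ideal.span_le]
        intro s hs
        exact hε s hs
      intro x hx
      exact h hx
    · rw [range_sup_range_eq_ker_map]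
      have h : Ideal.span S ≤ RingHom.ker (((Algebra.TensorProduct.map
          (Ideal.Quotient.mkₐ k (Ideal.span S)) (Ideal.Quotient.mkₐ k (Ideal.span S))).comp
          (Bialgebra.comulAlgHom k A)).toRingHom) := by
        rw [Ideal.span_le]
        intro s hs
        have := hΔ s hs
        rw [range_sup_range_eq_ker_map] at this
        exact this
      intro x hx
      exact h hx
  refine { hco with antipode_mem := ?_ }
  have h : Ideal.span S ≤ Ideal.comap (HopfAlgebra.antipodeAlgHom k A) (Ideal.span S) := by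
    rw [Ideal.span_le]
    intro s hs
    exact hS s hs
  intro x hx
  exact h hx

end SpanHopf

section AugHopf

variable {k A : Type u} [Field k] [CommRing A] [HopfAlgebra k A] (B : Subalgebra k A)

theorem sub_counit_mem_augIdealSpan {b : A} (hb : b ∈ B) :
    b - algebraMap k A (CoalgebraStruct.counit (R := k) b) ∈ SGA3.augIdealSpan k A B := by
  apply Ideal.subset_span
  refine ⟨B.sub_mem hb (B.algebraMap_mem _), ?_⟩
  rw [map_sub, Bialgebra.counit_algebraMap, sub_self]

theorem isHopfIdeal_augIdealSpan (hB : SGA3.IsHopfSubalgebra k A B) :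
    (SGA3.augIdealSpan k A B).IsHopfIdeal k := by
  unfold SGA3.augIdealSpan
  apply isHopfIdeal_span_of
  · rintro s ⟨-, hs⟩
    exact hs
  · rintro s ⟨hs, hε⟩
    have h1 := comul_sub_mem_of_mem B hB.1 s hs
    have h2 : s ⊗ₜ[k] (1 : A) ∈ LinearMap.range
        (((SGA3.augIdealSpan k A B).restrictScalars k).subtype.rTensor A) :=
      ⟨⟨s, Ideal.subset_span ⟨hs, hε⟩⟩ ⊗ₜ[k] (1 : A), by simp⟩
    have h3 : CoalgebraStruct.comul (R := k) s =
        (CoalgebraStruct.comul (R := k) s - s ⊗ₜ[k] (1 : A)) + s ⊗ₜ[k] (1 : A) := by abel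
    rw [h3]
    exact Submodule.add_mem _ (Submodule.mem_sup_left h1) (Submodule.mem_sup_right h2)
  · rintro s ⟨hs, hε⟩
    apply Ideal.subset_span
    refine ⟨hB.2 s hs, ?_⟩
    rw [HopfAlgebra.counit_antipode, hε]

end AugHopf

section LiftShear

variable {k : Type u} [CommRing k] {A : Type v} [CommRing A] [HopfAlgebra k A]
variable {R : Type w} [CommRing R] [Algebra k R]

theorem lift_comp_shearInv_includeRight (f g : WithConv (A →ₐ[k] R)) :
    (Algebra.TensorProduct.lift f.ofConv g.ofConv (fun _ _ => .all ..)).comp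
      ((shearInv (k := k) (A := A)).comp Algebra.TensorProduct.includeRight) =
      (f⁻¹ * g).ofConv := by
  rw [shearInv_comp_includeRight, AlgHom.comp_convMul_distrib]
  have h1 : (Algebra.TensorProduct.lift f.ofConv g.ofConv (fun _ _ => .all ..)).comp
      (Algebra.TensorProduct.includeLeft : A →ₐ[k] A ⊗[k] A) = f.ofConv := by
    apply AlgHom.ext
    intro a
    simp
  have h2 : (Algebra.TensorProduct.lift f.ofConv g.ofConv (fun _ _ => .all ..)).comp
      (Algebra.TensorProduct.includeRight : A →ₐ[k] A ⊗[k] A) = g.ofConv := by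
    apply AlgHom.ext
    intro a
    simp
  have h3 : toConv ((Algebra.TensorProduct.lift f.ofConv g.ofConv (fun _ _ => .all ..)).comp
      ((toConv (Algebra.TensorProduct.includeLeft : A →ₐ[k] A ⊗[k] A))⁻¹).ofConv) = f⁻¹ := by
    rw [comp_convInv, ofConv_toConv, h1, toConv_ofConv]
  rw [h3, ofConv_toConv, h2, toConv_ofConv]

theorem lift_shearInv_one_tmul (f g : WithConv (A →ₐ[k] R)) (x : A) :
    (Algebra.TensorProduct.lift f.ofConv g.ofConv (fun _ _ => .all ..))
      (shearInv (k := k) ((1 : A) ⊗ₜ[k] x)) = (f⁻¹ * g).ofConv x := by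
  have := congrArg (fun h : A →ₐ[k] R => h x) (lift_comp_shearInv_includeRight f g)
  simpa using this

end LiftShear

section QCore

variable {k A : Type u} [Field k] [CommRing A] [HopfAlgebra k A]
variable (I : Ideal A) [I.IsHopfIdeal k] (C : Subalgebra k A)
variable {T : Type u} [CommRing T] [Algebra k T] [Algebra ↥C T] [IsScalarTower k ↥C T]
variable (ι ρ ν : A →ₐ[k] T)

/-- The difference of two maps which are both linear over `C`. -/
noncomputable def defectMap (hι : ∀ c : ↥C, ι c = algebraMap ↥C T c)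
    (hρ : ∀ c : ↥C, ρ c = algebraMap ↥C T c) : A →ₗ[↥C] T where
  toFun a := ρ a - ι a
  map_add' a b := by
    rw [map_add, map_add]
    abel
  map_smul' c a := by
    simp only [RingHom.id_apply]
    rw [Subalgebra.smul_def, smul_eq_mul, map_mul, map_mul, hι, hρ, Algebra.smul_def, mul_sub]

theorem defectMap_apply (hι : ∀ c : ↥C, ι c = algebraMap ↥C T c)
    (hρ : ∀ c : ↥C, ρ c = algebraMap ↥C T c) (a : A) :
    defectMap C ι ρ hι hρ a = ρ a - ι a := rfl

/-- Flatness: the kernel of `A ⊗_C (ρ - ι)` consists of the elements `a ⊗ 1`. -/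
theorem exists_eq_tmul_one_of_lTensor_defectMap_eq_zero
    [Module.Flat ↥C A] (hι : ∀ c : ↥C, ι c = algebraMap ↥C T c)
    (hρ : ∀ c : ↥C, ρ c = algebraMap ↥C T c) (hker : ∀ a, ρ a = ι a → a ∈ C)
    (w : A ⊗[↥C] A)
    (hw : (defectMap C ι ρ hι hρ).lTensor A w = 0) : ∃ a : A, w = a ⊗ₜ[↥C] (1 : A) := by
  have hex := Module.Flat.lTensor_exact A
    (LinearMap.exact_subtype_ker_map (defectMap C ι ρ hι hρ))
  obtain ⟨w', rfl⟩ := (hex w).mp hw
  clear hw
  induction w' using TensorProduct.induction_on with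
  | zero => exact ⟨0, by simp⟩
  | add x y hx hy =>
    obtain ⟨a, ha⟩ := hx
    obtain ⟨b, hb⟩ := hy
    exact ⟨a + b, by rw [map_add, ha, hb, TensorProduct.add_tmul]⟩
  | tmul a c =>
    have hc : (c : A) ∈ C := by
      apply hker
      have := c.2
      rw [LinearMap.mem_ker, defectMap_apply, sub_eq_zero] at this
      exact this
    refine ⟨(c : A) * a, ?_⟩
    rw [LinearMap.lTensor_tmul, Submodule.subtype_apply]
    have e : (c : A) = (⟨(c : A), hc⟩ : ↥C) • (1 : A) := by
      rw [Subalgebra.smul_def, smul_eq_mul, mul_one]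
    conv_lhs => rw [e]
    rw [← TensorProduct.smul_tmul, Subalgebra.smul_def, smul_eq_mul]

/-- The core of the quotient lemma: if `x` is invariant under all pairs of points `(g, n)` with
`g` killing `A·C⁺` and `n` killing `I`, then `Θ⁻¹(1 ⊗ x)` becomes `a ⊗ 1` in `A ⊗_C A`. -/
theorem exists_toTensorOver_shearInv_eq [Module.Flat ↥C A]
    (hB : ∀ b ∈ C, CoalgebraStruct.comul (R := k) b ∈
      LinearMap.range (TensorProduct.map C.val.toLinearMap C.val.toLinearMap))
    (hι : ∀ c : ↥C, ι c = algebraMap ↥C T c)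
    (hρ : ∀ c : ↥C, ρ c = algebraMap ↥C T c) (hker : ∀ a, ρ a = ι a → a ∈ C)
    (hconv : ρ = (toConv ι * toConv ν : WithConv (A →ₐ[k] T)).ofConv)
    (hν : ∀ a ∈ I, ν a = 0) (x : A)
    (hx : ∀ (R : Type u) [CommRing R] [Algebra k R] (g n : WithConv (A →ₐ[k] R)),
      (∀ a ∈ SGA3.augIdealSpan k A C, g.ofConv a = 0) → Kills I n →
      (g * n).ofConv x = g.ofConv x) :
    ∃ a : A, toTensorOver C (shearInv (k := k) ((1 : A) ⊗ₜ[k] x)) = a ⊗ₜ[↥C] (1 : A) := by
  apply exists_eq_tmul_one_of_lTensor_defectMap_eq_zero C ι ρ hι hρ hker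
  set u₁ : WithConv (A →ₐ[k] A ⊗[↥C] T) :=
    toConv (Algebra.TensorProduct.includeLeft : A →ₐ[k] A ⊗[↥C] T) with hu₁
  set ψ : T →ₐ[k] A ⊗[↥C] T :=
    (Algebra.TensorProduct.includeRight : T →ₐ[↥C] A ⊗[↥C] T).restrictScalars k with hψ
  set u₂ : WithConv (A →ₐ[k] A ⊗[↥C] T) := toConv (ψ.comp ι) with hu₂
  set n : WithConv (A →ₐ[k] A ⊗[↥C] T) := toConv (ψ.comp ν) with hn
  have hagree : ∀ b ∈ C, u₂.ofConv b = u₁.ofConv b := by
    intro b hb
    change (1 : A) ⊗ₜ[↥C] ι b = b ⊗ₜ[↥C] (1 : T)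
    have e1 : ι b = (⟨b, hb⟩ : ↥C) • (1 : T) := by
      rw [Algebra.smul_def, mul_one]
      exact hι ⟨b, hb⟩
    have e2 : b = (⟨b, hb⟩ : ↥C) • (1 : A) := by
      rw [Subalgebra.smul_def, smul_eq_mul, mul_one]
    rw [e1]
    conv_rhs => rw [e2]
    rw [TensorProduct.smul_tmul]
  have hg := inv_mul_kills_augIdealSpan C hB u₁ u₂ hagree
  have hkn : Kills I n := by
    intro a ha
    change ψ (ν a) = 0
    rw [hν a ha, map_zero]
  have hmul : u₂ * n = toConv (ψ.comp ρ) := by
    rw [hconv, AlgHom.comp_convMul_distrib]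
  have key0 := hx (A ⊗[↥C] T) (u₁⁻¹ * u₂) n hg hkn
  have e : u₁⁻¹ * u₂ * n = u₁⁻¹ * toConv (ψ.comp ρ) :=
    (mul_assoc u₁⁻¹ u₂ n).trans (congrArg (fun z => u₁⁻¹ * z) hmul)
  have key : (u₁⁻¹ * toConv (ψ.comp ρ)).ofConv x = (u₁⁻¹ * u₂).ofConv x := by
    rw [← e]
    exact key0
  have hP : ∀ z : A ⊗[k] A, (defectMap C ι ρ hι hρ).lTensor A (toTensorOver C z) =
      (Algebra.TensorProduct.lift u₁.ofConv (ψ.comp ρ) (fun _ _ => .all ..)) z -
      (Algebra.TensorProduct.lift u₁.ofConv (ψ.comp ι) (fun _ _ => .all ..)) z := by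
    intro z
    induction z using TensorProduct.induction_on with
    | zero => simp
    | add x y hx hy =>
      simp only [map_add, hx, hy]
      abel
    | tmul a b =>
      rw [toTensorOver_tmul, LinearMap.lTensor_tmul, defectMap_apply,
        Algebra.TensorProduct.lift_tmul, Algebra.TensorProduct.lift_tmul]
      change a ⊗ₜ[↥C] (ρ b - ι b) = (a ⊗ₜ[↥C] (1 : T)) * ((1 : A) ⊗ₜ[↥C] ρ b) -
        (a ⊗ₜ[↥C] (1 : T)) * ((1 : A) ⊗ₜ[↥C] ι b)
      rw [Algebra.TensorProduct.tmul_mul_tmul, Algebra.TensorProduct.tmul_mul_tmul, mul_one,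
        one_mul, one_mul, TensorProduct.tmul_sub]
  rw [hP]
  have e1 := lift_shearInv_one_tmul u₁ (toConv (ψ.comp ρ)) x
  have e2 := lift_shearInv_one_tmul u₁ u₂ x
  rw [ofConv_toConv] at e1
  rw [hu₂, ofConv_toConv] at e2
  rw [e1, e2, sub_eq_zero]
  exact key

end QCore

section LiftOver

variable {k A : Type u} [Field k] [CommRing A] [HopfAlgebra k A] (B : Subalgebra k A)
variable {T : Type u} [CommRing T] [Algebra k T] [Algebra ↥B T] [IsScalarTower k ↥B T]

/-- A `k`-algebra map which is compatible with the structure maps from `B`, as a `B`-algebra map. -/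
noncomputable def toAlgHomOver (f : A →ₐ[k] T) (hf : ∀ b : ↥B, f b = algebraMap ↥B T b) :
    A →ₐ[↥B] T :=
  { f.toRingHom with commutes' := hf }

theorem toAlgHomOver_apply (f : A →ₐ[k] T) (hf : ∀ b : ↥B, f b = algebraMap ↥B T b) (a : A) :
    toAlgHomOver B f hf a = f a := rfl

/-- The map `A ⊗_B A → T` induced by two compatible maps. -/
noncomputable def liftOver (f g : A →ₐ[k] T) (hf : ∀ b : ↥B, f b = algebraMap ↥B T b)
    (hg : ∀ b : ↥B, g b = algebraMap ↥B T b) : A ⊗[↥B] A →+* T :=
  (Algebra.TensorProduct.lift (toAlgHomOver B f hf) (toAlgHomOver B g hg)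
    (fun _ _ => .all ..)).toRingHom

theorem liftOver_toTensorOver (f g : A →ₐ[k] T) (hf : ∀ b : ↥B, f b = algebraMap ↥B T b)
    (hg : ∀ b : ↥B, g b = algebraMap ↥B T b) (z : A ⊗[k] A) :
    liftOver B f g hf hg (toTensorOver B z) =
      Algebra.TensorProduct.lift f g (fun _ _ => .all ..) z := by
  induction z using TensorProduct.induction_on with
  | zero => simp
  | add x y hx hy => simp only [map_add, hx, hy]
  | tmul a b =>
    rw [toTensorOver_tmul, Algebra.TensorProduct.lift_tmul]
    change (Algebra.TensorProduct.lift (toAlgHomOver B f hf) (toAlgHomOver B g hg)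
      (fun _ _ => .all ..)) (a ⊗ₜ[↥B] b) = _
    rw [Algebra.TensorProduct.lift_tmul, toAlgHomOver_apply, toAlgHomOver_apply]

end LiftOver

section MapMk

variable {k A : Type u} [Field k] [CommRing A] [HopfAlgebra k A] (B : Subalgebra k A)

theorem algMap_id_eq_lTensor {C : Type u} [CommRing C] [Algebra k C] {D : Type u} [CommRing D]
    [Algebra k D] (f : C →ₐ[k] D) (z : A ⊗[k] C) :
    Algebra.TensorProduct.map (AlgHom.id k A) f z = f.toLinearMap.lTensor A z := by
  induction z using TensorProduct.induction_on with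
  | zero => simp
  | add x y hx hy => simp only [map_add, hx, hy]
  | tmul a b => simp

/-- For `b ∈ B`: `(id ⊗ π)(Δ b) = b ⊗ 1` in `A ⊗ A/AB⁺`. -/
theorem map_mk_comul_of_mem
    (hB : ∀ b ∈ B, CoalgebraStruct.comul (R := k) b ∈
      LinearMap.range (TensorProduct.map B.val.toLinearMap B.val.toLinearMap))
    (b : A) (hb : b ∈ B) :
    (Algebra.TensorProduct.map (AlgHom.id k A)
      (Ideal.Quotient.mkₐ k (SGA3.augIdealSpan k A B))) (CoalgebraStruct.comul (R := k) b) =
      b ⊗ₜ[k] (1 : A ⧸ SGA3.augIdealSpan k A B) := by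
  have h := comul_sub_mem_of_mem B hB b hb
  rw [range_lTensor_eq_ker, LinearMap.mem_ker, map_sub, sub_eq_zero] at h
  rw [algMap_id_eq_lTensor, h, LinearMap.lTensor_tmul]
  simp

end MapMk

section Aux

variable {k A : Type u} [Field k] [CommRing A] [HopfAlgebra k A] (B : Subalgebra k A)

theorem lmul'_toTensorOver (z : A ⊗[k] A) :
    Algebra.TensorProduct.lmul' (S := A) ↥B (toTensorOver B z) =
      Algebra.TensorProduct.lmul' (S := A) k z := by
  induction z using TensorProduct.induction_on with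
  | zero => simp
  | add x y hx hy => simp only [map_add, hx, hy]
  | tmul a b => rw [toTensorOver_tmul]; simp

theorem toTensorOver_shearInv_one_tmul_algebraMap (r : k) :
    toTensorOver B (shearInv (k := k) ((1 : A) ⊗ₜ[k] algebraMap k A r)) =
      (algebraMap k A r) ⊗ₜ[↥B] (1 : A) := by
  have e1 : ((1 : A) ⊗ₜ[k] algebraMap k A r : A ⊗[k] A) = r • (1 : A ⊗[k] A) := by
    rw [Algebra.algebraMap_eq_smul_one, TensorProduct.tmul_smul, Algebra.TensorProduct.one_def]
  have e2 : ((algebraMap k A r) ⊗ₜ[↥B] (1 : A) : A ⊗[↥B] A) = r • (1 : A ⊗[↥B] A) := by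
    rw [Algebra.algebraMap_eq_smul_one, ← TensorProduct.smul_tmul', Algebra.TensorProduct.one_def]
  rw [e1, e2, map_smul, map_smul, map_one, map_one]

theorem lift_eq_map_comp_shear (J : Ideal A) :
    Algebra.TensorProduct.lift (Algebra.TensorProduct.includeLeft : A →ₐ[k] A ⊗[k] (A ⧸ J))
      ((Algebra.TensorProduct.map (AlgHom.id k A) (Ideal.Quotient.mkₐ k J)).comp
        (Bialgebra.comulAlgHom k A)) (fun _ _ => .all ..) =
    (Algebra.TensorProduct.map (AlgHom.id k A) (Ideal.Quotient.mkₐ k J)).comp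
      (shear (k := k) (A := A)) := by
  apply Algebra.TensorProduct.ext'
  intro a b
  simp only [Algebra.TensorProduct.lift_tmul, AlgHom.comp_apply, shear_tmul, map_mul,
    Bialgebra.comulAlgHom_apply]
  simp

theorem eq_zero_of_one_tmul_eq_zero (J : Ideal A) (q : A ⧸ J)
    (h : ((1 : A) ⊗ₜ[k] q : A ⊗[k] (A ⧸ J)) = 0) : q = 0 := by
  have := congrArg (Algebra.TensorProduct.lift
    ((Algebra.ofId k (A ⧸ J)).comp (Bialgebra.counitAlgHom k A)) (AlgHom.id k (A ⧸ J))
    (fun _ _ => .all ..)) h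
  simpa using this

end Aux

section QLemmaFinal

variable {k A : Type u} [Field k] [CommRing A] [HopfAlgebra k A]
variable (I : Ideal A) [I.IsHopfIdeal k]

/-- The quotient lemma: an element invariant under all pairs `(g, n)` with `g` killing `A·C⁺`
and `n` killing `I` is a scalar modulo `A·C⁺`, where `C` is the algebra of coinvariants. -/
theorem sub_counit_mem_of_forall (hI : SGA3.IsNormalHopfIdeal k A I) (x : A)
    (hx : ∀ (R : Type u) [CommRing R] [Algebra k R] (g n : WithConv (A →ₐ[k] R)),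
      (∀ a ∈ SGA3.augIdealSpan k A (coinvSub k I), g.ofConv a = 0) → Kills I n →
      (g * n).ofConv x = g.ofConv x) :
    x - algebraMap k A (CoalgebraStruct.counit (R := k) x) ∈
      SGA3.augIdealSpan k A (coinvSub k I) := by
  have hC := isHopfSubalgebra_coinvSub I hI
  have : Module.FaithfullyFlat ↥(coinvSub k I) A :=
    faithfullyFlat_of_isHopfSubalgebra _ hC.1 hC.2
  obtain ⟨a, ha⟩ := exists_toTensorOver_shearInv_eq I (coinvSub k I) (T := A ⊗[k] (A ⧸ I))
    Algebra.TensorProduct.includeLeft (rhoR k I)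
    ((Algebra.TensorProduct.includeRight : (A ⧸ I) →ₐ[k] A ⊗[k] (A ⧸ I)).comp
      (Ideal.Quotient.mkₐ k I))
    hC.1 (fun c => rfl) (fun c => rhoR_coe_coinvSub I c)
    (fun a h => by
      unfold coinvSub
      rw [AlgHom.mem_equalizer]
      exact h)
    (univ_convMul_eq_rhoR I).symm
    (fun a ha => by
      rw [AlgHom.comp_apply, Ideal.Quotient.mkₐ_eq_mk, Ideal.Quotient.eq_zero_iff_mem.mpr ha,
        map_zero]) x hx
  have ha2 : a = algebraMap k A (CoalgebraStruct.counit (R := k) x) := by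
    have h1 := congrArg (Algebra.TensorProduct.lmul' (S := A) ↥(coinvSub k I)) ha
    rw [lmul'_toTensorOver, lmul'_shearInv_one_tmul] at h1
    rw [h1]
    simp
  set x' := x - algebraMap k A (CoalgebraStruct.counit (R := k) x) with hx'
  have h0 : toTensorOver (coinvSub k I) (shearInv (k := k) ((1 : A) ⊗ₜ[k] x')) = 0 := by
    rw [hx', TensorProduct.tmul_sub, map_sub, map_sub, ha,
      toTensorOver_shearInv_one_tmul_algebraMap, ha2, sub_self]
  have h1 := liftOver_toTensorOver (coinvSub k I)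
    (T := A ⊗[k] (A ⧸ SGA3.augIdealSpan k A (coinvSub k I)))
    (Algebra.TensorProduct.includeLeft : A →ₐ[k] A ⊗[k] (A ⧸ SGA3.augIdealSpan k A (coinvSub k I)))
    ((Algebra.TensorProduct.map (AlgHom.id k A)
      (Ideal.Quotient.mkₐ k (SGA3.augIdealSpan k A (coinvSub k I)))).comp
        (Bialgebra.comulAlgHom k A))
    (fun c => rfl)
    (fun c => map_mk_comul_of_mem (coinvSub k I) hC.1 c c.2)
    (shearInv (k := k) ((1 : A) ⊗ₜ[k] x'))
  rw [h0, map_zero, lift_eq_map_comp_shear, AlgHom.comp_apply, shear_shearInv,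
    Algebra.TensorProduct.map_tmul, map_one] at h1
  have h2 := eq_zero_of_one_tmul_eq_zero _ _ h1.symm
  exact Ideal.Quotient.eq_zero_iff_mem.mp h2

end QLemmaFinal

end Groth.Agent.Lib.Helper25
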