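import Groth.Agent.Lib.Helper25CoeffSimple
import Mathlib.LinearAlgebra.FiniteDimensional.Lemmas

set_option autoImplicit false
universe u v v' w w' x

namespace Groth.Agent.Lib.Helper25

open TensorProduct HopfRep

section MinimalSub

variable {k : Type u} [Field k] {A : Type v} [AddCommGroup A] [Module k A] [Coalgebra k A]
variable {V : Type w} [AddCommGroup V] [Module k V] [Comod k A V]

/-- Every nonzero subcomodule contains a minimal nonzero (hence simple, finite-dimensional)
subcomodule. -/
theorem exists_minimal_subcomod_le (U : Submodule k V) (hU : IsSubcomod (k := k) (A := A) U)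
    (hne : U ≠ ⊥) :
    ∃ E : Submodule k V, E ≤ U ∧ E ≠ ⊥ ∧ IsSubcomod (k := k) (A := A) E ∧ E.FG ∧
      ∀ E' : Submodule k V, E' ≤ E → IsSubcomod (k := k) (A := A) E' → E' = ⊥ ∨ E' = E := by
  classical
  obtain ⟨u, hu, hu0⟩ := Submodule.exists_mem_ne_zero_of_ne_bot hne
  let P : ℕ → Prop := fun n => ∃ E : Submodule k V, E ≤ U ∧ E ≠ ⊥ ∧
    IsSubcomod (k := k) (A := A) E ∧ E.FG ∧ Module.finrank k E = n
  have hP : ∃ n, P n := ⟨_, gen k A u, gen_le hU hu,
    fun h => hu0 (by have := self_mem_gen (k := k) (A := A) u; rwa [h, Submodule.mem_bot] at this),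
    isSubcomod_gen u, fg_gen u, rfl⟩
  obtain ⟨E, hEU, hE0, hEs, hEfg, hEn⟩ := Nat.find_spec hP
  refine ⟨E, hEU, hE0, hEs, hEfg, ?_⟩
  intro E' hle hE's
  by_cases h0 : E' = ⊥
  · left; exact h0
  · right
    haveI : FiniteDimensional k E := Module.Finite.iff_fg.mpr hEfg
    haveI : FiniteDimensional k E' := Submodule.finiteDimensional_of_le hle
    have hfgE' : E'.FG := Module.Finite.iff_fg.mp inferInstance
    have h2 : Nat.find hP ≤ Module.finrank k E' :=
      Nat.find_min' hP ⟨E', hle.trans hEU, h0, hE's, hfgE', rfl⟩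
    exact Submodule.eq_of_le_of_finrank_le hle (by omega)

/-- A minimal nonzero subcomodule is a simple comodule (for its induced structure). -/
theorem isSimpleComod_subComod {E : Submodule k V} (hE : IsSubcomod (k := k) (A := A) E)
    (hE0 : E ≠ ⊥)
    (hmin : ∀ E' : Submodule k V, E' ≤ E → IsSubcomod (k := k) (A := A) E' → E' = ⊥ ∨ E' = E) :
    @IsSimpleComod k A _ _ _ _ E _ _ (subComod E hE) := by
  letI := subComod E hE
  refine ⟨(Submodule.nontrivial_iff_ne_bot).mpr hE0, ?_⟩
  intro W hW
  have h1 : IsSubcomod (k := k) (A := A) (W.map E.subtype) :=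
    isSubcomod_map (isComodHom_subtype E hE) hW
  rcases hmin _ (Submodule.map_subtype_le E W) h1 with h | h
  · left
    apply Submodule.map_injective_of_injective E.subtype_injective
    rw [h, Submodule.map_bot]
  · right
    apply Submodule.map_injective_of_injective E.subtype_injective
    rw [h, Submodule.map_subtype_top]

end MinimalSub

section RegularSub

variable {k : Type u} [Field k] {A : Type v} [AddCommGroup A] [Module k A] [Coalgebra k A]

theorem coeffMap_subComod (E : Submodule k A) (hE : IsSubcomod (k := k) (A := A) E)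
    (l' : A →ₗ[k] k) (e : E) :
    (letI := subComod E hE; coeffMap (A := A) (l' ∘ₗ E.subtype) e) =
      lslice l' (CoalgebraStruct.comul (R := k) (e : A)) := by
  letI := subComod E hE
  rw [coeffMap_apply, ← lslice_rTensor]
  congr 1
  exact rTensor_subtype_subCoact E hE e

/-- For a subcomodule `E` of the regular comodule, the coefficient space of `E` is the least `D'`
with `Δ E ⊆ E ⊗ D'`. -/
theorem coeffSpace_subComod_le_iff (E : Submodule k A) (hE : IsSubcomod (k := k) (A := A) E)
    (D' : Submodule k A) :
    (letI := subComod E hE; coeffSpace k A E) ≤ D' ↔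
      ∀ e ∈ E, CoalgebraStruct.comul (R := k) e ∈
        LinearMap.range (TensorProduct.map E.subtype D'.subtype) := by
  letI := subComod E hE
  constructor
  · intro h e he
    rw [mem_range_map_subtype_iff]
    refine ⟨fun φ => T_mem_of_isSubcomod hE φ he, fun l' => ?_⟩
    rw [← coeffMap_subComod E hE l' ⟨e, he⟩]
    exact h (coeffMap_mem_coeffSpace _ _)
  · intro h
    apply iSup_le
    rintro l _ ⟨e, rfl⟩
    obtain ⟨l', hl'⟩ := LinearMap.exists_extend l
    rw [← hl', coeffMap_subComod E hE l' e]
    exact ((mem_range_map_subtype_iff E D' _).mp (h e e.2)).2 l'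

theorem le_coeffSpace_subComod (E : Submodule k A) (hE : IsSubcomod (k := k) (A := A) E) :
    E ≤ (letI := subComod E hE; coeffSpace k A E) := by
  letI := subComod E hE
  have := range_le_coeffSpace_of_isComodHom (isComodHom_subtype E hE)
  rwa [Submodule.range_subtype] at this

/-- Every simple subcoalgebra is the coefficient space of a simple subcomodule of the regular
comodule contained in it. -/
theorem exists_simple_subcomod_of_simple_subcoalg (D : Submodule k A) (hD0 : D ≠ ⊥)
    (hD : IsSubcoalg D)
    (hDs : ∀ B : Submodule k A, B ≤ D → IsSubcoalg B → B = ⊥ ∨ B = D) :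
    ∃ E : Submodule k A, E ≤ D ∧ E ≠ ⊥ ∧ IsSubcomod (k := k) (A := A) E ∧ E.FG ∧
      (∀ E' : Submodule k A, E' ≤ E → IsSubcomod (k := k) (A := A) E' → E' = ⊥ ∨ E' = E) ∧
      ∃ hE : IsSubcomod (k := k) (A := A) E, (letI := subComod E hE; coeffSpace k A E) = D := by
  obtain ⟨E, hED, hE0, hE, hfg, hmin⟩ := exists_minimal_subcomod_le D hD.isSubcomod hD0
  refine ⟨E, hED, hE0, hE, hfg, hmin, hE, ?_⟩
  letI := subComod E hE
  have hle : coeffSpace k A E ≤ D := by
    apply coeffSpace_le_of_range_le (isComodHom_subtype E hE) E.subtype_injective hD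
    rw [Submodule.range_subtype]
    exact hED
  rcases hDs _ hle isSubcoalg_coeffSpace with h | h
  · exfalso
    apply hE0
    have := le_coeffSpace_subComod E hE
    rw [h] at this
    exact le_bot_iff.mp this
  · exact h

end RegularSub

end Groth.Agent.Lib.Helper25
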