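import Groth.Agent.Lib.Helper25Mu

/-!
# The numerical function for diagonalizable groups acting linearly (helper25)
-/

set_option autoImplicit false
set_option linter.unusedSectionVars false
universe u v w
open TensorProduct LaurentPolynomial Polynomial HopfRep

namespace Groth.Agent.Lib.Helper25


section DiagBasis
variable {k : Type u} [Field k] {A : Type v} [CommRing A] [Bialgebra k A]

theorem linearIndependent_groupLike :
    LinearIndependent k (fun a : {a : A // IsGroupLikeElem k a} => (a.1 : A)) :=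
  linearIndepOn_isGroupLikeElem (R := k) (A := A)

theorem span_range_groupLike (hD : HopfRep.IsDiagonalizable k A) :
    ⊤ ≤ Submodule.span k (Set.range (fun a : {a : A // IsGroupLikeElem k a} => (a.1 : A))) := by
  rw [← hD]
  apply Submodule.span_mono
  intro a ha
  exact ⟨⟨a, ha⟩, rfl⟩

/-- The basis of group-like elements of a diagonalizable bialgebra. -/
noncomputable def groupLikeBasis (hD : HopfRep.IsDiagonalizable k A) :
    Module.Basis {a : A // IsGroupLikeElem k a} k A :=
  Module.Basis.mk linearIndependent_groupLike (span_range_groupLike hD)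

@[simp] theorem groupLikeBasis_apply (hD : HopfRep.IsDiagonalizable k A)
    (g : {a : A // IsGroupLikeElem k a}) : groupLikeBasis hD g = g.1 :=
  Module.Basis.mk_apply _ _ g

theorem slice_coord_comul (hD : HopfRep.IsDiagonalizable k A)
    (g : {a : A // IsGroupLikeElem k a}) (a : A) :
    slice A ((groupLikeBasis hD).coord g) (CoalgebraStruct.comul (R := k) a) =
      (groupLikeBasis hD).coord g a • g.1 := by
  classical
  have : slice A ((groupLikeBasis hD).coord g) ∘ₗ CoalgebraStruct.comul (R := k) (A := A) =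
      (LinearMap.toSpanSingleton k A g.1) ∘ₗ (groupLikeBasis hD).coord g := by
    apply (groupLikeBasis hD).ext
    intro g'
    simp only [LinearMap.comp_apply, groupLikeBasis_apply, g'.2.comul_eq_tmul_self, slice_tmul,
      LinearMap.toSpanSingleton_apply]
    rw [← groupLikeBasis_apply hD g', Module.Basis.coord_apply, Module.Basis.repr_self,
      Finsupp.single_apply]
    by_cases h : g' = g
    · subst h; simp
    · simp [h]
  exact LinearMap.congr_fun this a

theorem T_coord_regular (hD : HopfRep.IsDiagonalizable k A)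
    (g : {a : A // IsGroupLikeElem k a}) (a : A) :
    T (V := A) ((groupLikeBasis hD).coord g) a = (groupLikeBasis hD).coord g a • g.1 :=
  slice_coord_comul hD g a

end DiagBasis


section LinOrb
variable {k : Type u} [CommRing k] {A : Type v} [CommRing A] [Bialgebra k A]

theorem orbitHom_T {R : Type w} [CommRing R] [Algebra k R] [HopfRep.Comod k A R] [GLin.IsCoactAlg k A R]
    (x : R →ₐ[k] k) (φ : A →ₗ[k] k) (r : R) :
    GLin.orbitHom k A x (T φ r) = T (V := A) φ (GLin.orbitHom k A x r) := by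
  rw [orbitHom_eq_coeffMap, orbitHom_eq_coeffMap, T_coeffMap]

variable {ι : Type w} [Fintype ι] [HopfRep.Comod k A (MvPolynomial ι k)]
  [GLin.IsCoactAlg k A (MvPolynomial ι k)]

theorem orbitHom_X_of_lin {m : ι → ι → A}
    (hm : ∀ i : ι, HopfRep.Comod.coact (k := k) (A := A) (MvPolynomial.X i : MvPolynomial ι k) =
      ∑ j, (MvPolynomial.X j : MvPolynomial ι k) ⊗ₜ[k] m i j) (v : ι → k) (i : ι) :
    GLin.orbitHom k A (GLin.vecPt k ι v) (MvPolynomial.X i) = ∑ j, v j • m i j := by
  rw [orbitHom_eq_coeffMap, coeffMap_apply, hm, map_sum]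
  apply Finset.sum_congr rfl
  intro j _
  rw [lslice_tmul]
  simp

theorem T_X_of_lin {m : ι → ι → A}
    (hm : ∀ i : ι, HopfRep.Comod.coact (k := k) (A := A) (MvPolynomial.X i : MvPolynomial ι k) =
      ∑ j, (MvPolynomial.X j : MvPolynomial ι k) ⊗ₜ[k] m i j) (φ : A →ₗ[k] k) (i : ι) :
    T φ (MvPolynomial.X i : MvPolynomial ι k) = ∑ j, φ (m i j) • (MvPolynomial.X j : MvPolynomial ι k) := by
  rw [T_apply, hm, map_sum]
  apply Finset.sum_congr rfl
  intro j _
  rw [slice_tmul]

end LinOrb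


section DiagMu
variable {k : Type u} [Field k] {A : Type v} [CommRing A] [Bialgebra k A]
  {ι : Type w} [Fintype ι] [HopfRep.Comod k A (MvPolynomial ι k)]
  [GLin.IsCoactAlg k A (MvPolynomial ι k)]

theorem orbitHom_X_eq_sum_of_diag (hD : HopfRep.IsDiagonalizable k A) {m : ι → ι → A}
    (hm : ∀ i : ι, HopfRep.Comod.coact (k := k) (A := A) (MvPolynomial.X i : MvPolynomial ι k) =
      ∑ j, (MvPolynomial.X j : MvPolynomial ι k) ⊗ₜ[k] m i j)
    (G : Finset {a : A // IsGroupLikeElem k a})
    (hG : ∀ i j g, g ∉ G → (groupLikeBasis hD).coord g (m i j) = 0) (v : ι → k) (i : ι) :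
    GLin.orbitHom k A (GLin.vecPt k ι v) (MvPolynomial.X i) =
      ∑ g ∈ G, (groupLikeBasis hD).coord g (GLin.orbitHom k A (GLin.vecPt k ι v) (MvPolynomial.X i)) • g.1 := by
  classical
  set a := GLin.orbitHom k A (GLin.vecPt k ι v) (MvPolynomial.X i) with ha
  have hc0 : ∀ g, g ∉ G → (groupLikeBasis hD).coord g a = 0 := by
    intro g hg
    rw [ha, orbitHom_X_of_lin hm, map_sum]
    apply Finset.sum_eq_zero
    intro j _
    rw [map_smul, hG i j g hg, smul_zero]
  conv_lhs => rw [← (groupLikeBasis hD).linearCombination_repr a]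
  rw [Finsupp.linearCombination_apply, Finsupp.sum]
  have hsub : ((groupLikeBasis hD).repr a).support ⊆ G := by
    intro g hg
    by_contra hgG
    exact (Finsupp.mem_support_iff.mp hg) (hc0 g hgG)
  rw [Finset.sum_subset hsub]
  · apply Finset.sum_congr rfl
    intro g _
    rw [groupLikeBasis_apply]
    rfl
  · intro g _ hg
    rw [Finsupp.notMem_support_iff.mp hg, zero_smul]

end DiagMu


section DiagMu2
variable {k : Type u} [Field k] {A : Type v} [CommRing A] [Bialgebra k A]
  {ι : Type w} [Fintype ι] [HopfRep.Comod k A (MvPolynomial ι k)]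
  [GLin.IsCoactAlg k A (MvPolynomial ι k)]

theorem coeff_orbP_of_diag (hD : HopfRep.IsDiagonalizable k A) {m : ι → ι → A}
    (hm : ∀ i : ι, HopfRep.Comod.coact (k := k) (A := A) (MvPolynomial.X i : MvPolynomial ι k) =
      ∑ j, (MvPolynomial.X j : MvPolynomial ι k) ⊗ₜ[k] m i j)
    (G : Finset {a : A // IsGroupLikeElem k a})
    (hG : ∀ i j g, g ∉ G → (groupLikeBasis hD).coord g (m i j) = 0) (v : ι → k)
    (lam : A →ₐc[k] k[T;T⁻¹]) (ε : {a : A // IsGroupLikeElem k a} → ℤ)
    (hε : ∀ g ∈ G, lam g.1 = LaurentPolynomial.T (ε g)) (i : ι) (y : ℤ) :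
    (orbP lam v i).coeff y = ∑ g ∈ G, if ε g = y then
      (groupLikeBasis hD).coord g (GLin.orbitHom k A (GLin.vecPt k ι v) (MvPolynomial.X i)) else 0 := by
  classical
  have h1 : orbP lam v i = lam (GLin.orbitHom k A (GLin.vecPt k ι v) (MvPolynomial.X i)) := rfl
  rw [h1, orbitHom_X_eq_sum_of_diag hD hm G hG v i, map_sum]
  have : ∀ (s : Finset {a : A // IsGroupLikeElem k a}) (f : {a : A // IsGroupLikeElem k a} → k[T;T⁻¹]),
      (∑ g ∈ s, f g).coeff y = ∑ g ∈ s, (f g).coeff y := by
    intro s f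
    induction s using Finset.induction_on with
    | empty => simp
    | insert a s ha ih => rw [Finset.sum_insert ha, Finset.sum_insert ha, ← ih]; rfl
  rw [this]
  apply Finset.sum_congr rfl
  intro g hg
  rw [map_smul, hε g hg]
  simp only [← orbitHom_X_eq_sum_of_diag hD hm G hG v i]
  by_cases h : ε g = y
  · simp [h]
  · simp [h]

end DiagMu2


section DiagMu3
variable {k : Type u} [Field k] {A : Type v} [CommRing A] [Bialgebra k A]
  {ι : Type w} [Fintype ι] [HopfRep.Comod k A (MvPolynomial ι k)]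
  [GLin.IsCoactAlg k A (MvPolynomial ι k)]

open Classical in
/-- The weights of the vector `v` among the finite set `G` of characters. -/
noncomputable def wtSet (hD : HopfRep.IsDiagonalizable k A)
    (G : Finset {a : A // IsGroupLikeElem k a}) (v : ι → k) : Finset {a : A // IsGroupLikeElem k a} :=
  G.filter (fun g => ∃ i, (groupLikeBasis hD).coord g
    (GLin.orbitHom k A (GLin.vecPt k ι v) (MvPolynomial.X i)) ≠ 0)

theorem wtSet_nonempty (hD : HopfRep.IsDiagonalizable k A) {m : ι → ι → A}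
    (hm : ∀ i : ι, HopfRep.Comod.coact (k := k) (A := A) (MvPolynomial.X i : MvPolynomial ι k) =
      ∑ j, (MvPolynomial.X j : MvPolynomial ι k) ⊗ₜ[k] m i j)
    (G : Finset {a : A // IsGroupLikeElem k a})
    (hG : ∀ i j g, g ∉ G → (groupLikeBasis hD).coord g (m i j) = 0) (v : ι → k) (hv : v ≠ 0) :
    (wtSet hD G v).Nonempty := by
  classical
  obtain ⟨i, hi⟩ : ∃ i, v i ≠ 0 := by
    by_contra hc
    push Not at hc
    exact hv (funext hc)
  have h1 : GLin.orbitHom k A (GLin.vecPt k ι v) (MvPolynomial.X i) ≠ 0 := by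
    intro h0
    have := counit_orbitHom (A := A) (GLin.vecPt k ι v) (MvPolynomial.X i)
    rw [h0, map_zero] at this
    apply hi
    simpa using this.symm
  rw [orbitHom_X_eq_sum_of_diag hD hm G hG v i] at h1
  obtain ⟨g, hg, hne⟩ := Finset.exists_ne_zero_of_sum_ne_zero h1
  refine ⟨g, Finset.mem_filter.mpr ⟨hg, i, ?_⟩⟩
  intro h0
  apply hne
  rw [h0, zero_smul]

theorem isOrd_of_diag (hD : HopfRep.IsDiagonalizable k A) {m : ι → ι → A}
    (hm : ∀ i : ι, HopfRep.Comod.coact (k := k) (A := A) (MvPolynomial.X i : MvPolynomial ι k) =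
      ∑ j, (MvPolynomial.X j : MvPolynomial ι k) ⊗ₜ[k] m i j)
    (G : Finset {a : A // IsGroupLikeElem k a})
    (hG : ∀ i j g, g ∉ G → (groupLikeBasis hD).coord g (m i j) = 0) (v : ι → k)
    (lam : A →ₐc[k] k[T;T⁻¹]) (ε : {a : A // IsGroupLikeElem k a} → ℤ)
    (hε : ∀ g ∈ G, lam g.1 = LaurentPolynomial.T (ε g)) (z : ℤ)
    (h1 : ∀ g ∈ wtSet hD G v, z ≤ ε g) (h2 : ∃ g ∈ wtSet hD G v, z = ε g) :
    IsOrd (orbP lam v) z := by
  classical
  refine ⟨fun i y hy => ?_, ?_⟩
  · rw [coeff_orbP_of_diag hD hm G hG v lam ε hε]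
    apply Finset.sum_eq_zero
    intro g hg
    split_ifs with h
    · by_contra hne
      have : g ∈ wtSet hD G v := Finset.mem_filter.mpr ⟨hg, i, hne⟩
      have := h1 g this
      omega
    · rfl
  · obtain ⟨g0, hg0, rfl⟩ := h2
    obtain ⟨hg0G, i0, hi0⟩ := Finset.mem_filter.mp hg0
    by_contra hc
    push Not at hc
    apply hi0
    -- the weight vector
    have hw : GLin.orbitHom k A (GLin.vecPt k ι v)
        (T ((groupLikeBasis hD).coord g0) (MvPolynomial.X i0 : MvPolynomial ι k)) =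
        (groupLikeBasis hD).coord g0
          (GLin.orbitHom k A (GLin.vecPt k ι v) (MvPolynomial.X i0)) • g0.1 := by
      rw [orbitHom_T, T_coord_regular]
    have hw2 := congrArg (fun a => (lam a).coeff (ε g0)) hw
    simp only [map_smul, hε g0 hg0G] at hw2
    rw [T_X_of_lin hm, map_sum, map_sum] at hw2
    have hsum : ∀ (s : Finset ι) (f : ι → k[T;T⁻¹]),
        (∑ l ∈ s, f l).coeff (ε g0) = ∑ l ∈ s, (f l).coeff (ε g0) := by
      intro s f
      induction s using Finset.induction_on with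
      | empty => simp
      | insert a s ha ih => rw [Finset.sum_insert ha, Finset.sum_insert ha, ← ih]; rfl
    rw [hsum] at hw2
    have hz : ∀ l ∈ (Finset.univ : Finset ι),
        (lam ((GLin.orbitHom k A (GLin.vecPt k ι v))
          ((groupLikeBasis hD).coord g0 (m i0 l) • (MvPolynomial.X l : MvPolynomial ι k)))).coeff (ε g0) = 0 := by
      intro l _
      rw [map_smul, map_smul]
      have : (lam (GLin.orbitHom k A (GLin.vecPt k ι v) (MvPolynomial.X l))).coeff (ε g0) = 0 := hc l
      simp [this]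
    rw [Finset.sum_eq_zero hz] at hw2
    simpa using hw2.symm

end DiagMu3


section DiagMu4
variable {k : Type u} [Field k] {A : Type v} [CommRing A] [Bialgebra k A]
  {ι : Type w} [Fintype ι] [HopfRep.Comod k A (MvPolynomial ι k)]
  [GLin.IsCoactAlg k A (MvPolynomial ι k)]

theorem isOrd_iff_of_diag (hD : HopfRep.IsDiagonalizable k A) {m : ι → ι → A}
    (hm : ∀ i : ι, HopfRep.Comod.coact (k := k) (A := A) (MvPolynomial.X i : MvPolynomial ι k) =
      ∑ j, (MvPolynomial.X j : MvPolynomial ι k) ⊗ₜ[k] m i j)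
    (G : Finset {a : A // IsGroupLikeElem k a})
    (hG : ∀ i j g, g ∉ G → (groupLikeBasis hD).coord g (m i j) = 0) (v : ι → k) (hv : v ≠ 0)
    (lam : A →ₐc[k] k[T;T⁻¹]) (ε : {a : A // IsGroupLikeElem k a} → ℤ)
    (hε : ∀ g ∈ G, lam g.1 = LaurentPolynomial.T (ε g)) (z : ℤ) :
    IsOrd (orbP lam v) z ↔ (∀ g ∈ wtSet hD G v, z ≤ ε g) ∧ ∃ g ∈ wtSet hD G v, z = ε g := by
  constructor
  · intro hz
    obtain ⟨g1, hg1, hmin⟩ := Finset.exists_min_image (wtSet hD G v) ε (wtSet_nonempty hD hm G hG v hv)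
    have h' := isOrd_of_diag hD hm G hG v lam ε hε (ε g1) hmin ⟨g1, hg1, rfl⟩
    have := hz.unique h'
    subst this
    exact ⟨hmin, g1, hg1, rfl⟩
  · rintro ⟨h1, h2⟩
    exact isOrd_of_diag hD hm G hG v lam ε hε z h1 h2

theorem exists_characters_isMu (hD : HopfRep.IsDiagonalizable k A) (hlin : GLin.IsLinear k A ι) :
    ∃ (N : ℕ) (χ : Fin N → A), (∀ j, IsGroupLikeElem k (χ j)) ∧
      ∀ v : ι → k, v ≠ 0 → ∃ I : Finset (Fin N), I.Nonempty ∧
        ∀ (lam : A →ₐc[k] k[T;T⁻¹]) (e : Fin N → ℤ), (∀ j, lam (χ j) = LaurentPolynomial.T (e j)) →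
          ∀ m : ℤ, GLin.IsMu k A lam v m ↔ ((∀ j ∈ I, -e j ≤ m) ∧ ∃ j ∈ I, m = -e j) := by
  classical
  choose m hm using hlin
  set G : Finset {a : A // IsGroupLikeElem k a} :=
    Finset.univ.biUnion (fun i => Finset.univ.biUnion (fun j => ((groupLikeBasis hD).repr (m i j)).support))
    with hGdef
  have hG : ∀ i j g, g ∉ G → (groupLikeBasis hD).coord g (m i j) = 0 := by
    intro i j g hg
    by_contra hne
    apply hg
    rw [hGdef]
    refine Finset.mem_biUnion.mpr ⟨i, Finset.mem_univ _, Finset.mem_biUnion.mpr ⟨j, Finset.mem_univ _, ?_⟩⟩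
    exact Finsupp.mem_support_iff.mpr hne
  let eqv := G.equivFin
  refine ⟨G.card, fun n => (eqv.symm n).1.1, fun n => (eqv.symm n).1.2, ?_⟩
  intro v hv
  refine ⟨Finset.univ.filter (fun n => (eqv.symm n).1 ∈ wtSet hD G v), ?_, ?_⟩
  · obtain ⟨g, hg⟩ := wtSet_nonempty hD hm G hG v hv
    have hgG : g ∈ G := (Finset.mem_filter.mp hg).1
    refine ⟨eqv ⟨g, hgG⟩, Finset.mem_filter.mpr ⟨Finset.mem_univ _, ?_⟩⟩
    rw [Equiv.symm_apply_apply]
    exact hg
  · intro lam e he mm
    set ε : {a : A // IsGroupLikeElem k a} → ℤ := fun g => if h : g ∈ G then e (eqv ⟨g, h⟩) else 0 with hεdef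
    have hε : ∀ g ∈ G, lam g.1 = LaurentPolynomial.T (ε g) := by
      intro g hg
      have := he (eqv ⟨g, hg⟩)
      simp only [Equiv.symm_apply_apply] at this
      rw [this, hεdef]
      simp [hg]
    have hεn : ∀ n : Fin G.card, ε (eqv.symm n).1 = e n := by
      intro n
      rw [hεdef]
      simp [(eqv.symm n).2]
    rw [isMu_iff_isOrd, isOrd_iff_of_diag hD hm G hG v hv lam ε hε]
    constructor
    · rintro ⟨h1, g, hg, hgz⟩
      have hgG : g ∈ G := (Finset.mem_filter.mp hg).1
      refine ⟨fun n hn => ?_, eqv ⟨g, hgG⟩, ?_, ?_⟩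
      · have := h1 _ (Finset.mem_filter.mp hn).2
        rw [hεn] at this
        omega
      · refine Finset.mem_filter.mpr ⟨Finset.mem_univ _, ?_⟩
        rw [Equiv.symm_apply_apply]
        exact hg
      · have : ε g = e (eqv ⟨g, hgG⟩) := by rw [hεdef]; simp [hgG]
        omega
    · rintro ⟨h1, n, hn, hnz⟩
      refine ⟨fun g hg => ?_, (eqv.symm n).1, (Finset.mem_filter.mp hn).2, ?_⟩
      · have hgG : g ∈ G := (Finset.mem_filter.mp hg).1
        have hmem : eqv ⟨g, hgG⟩ ∈ Finset.univ.filter (fun n => (eqv.symm n).1 ∈ wtSet hD G v) := by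
          refine Finset.mem_filter.mpr ⟨Finset.mem_univ _, ?_⟩
          rw [Equiv.symm_apply_apply]
          exact hg
        have := h1 _ hmem
        have h3 : ε g = e (eqv ⟨g, hgG⟩) := by rw [hεdef]; simp [hgG]
        omega
      · rw [hεn]
        omega

end DiagMu4


end Groth.Agent.Lib.Helper25
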