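import Groth.Prelude.Def_HopfRep
import Groth.Agent.Lib.Helper25Comod

/-!
# Weight spaces for bialgebras with a basis of group-like elements (helper25)
-/

set_option autoImplicit false
set_option linter.unusedSectionVars false
set_option linter.unusedVariables false
universe u v w
open TensorProduct HopfRep

namespace Groth.Agent.Lib.Helper25

section Weights
variable {k : Type u} [CommRing k] {A : Type v} [CommRing A] [Bialgebra k A]
  {V : Type w} [AddCommGroup V] [Module k V] [HopfRep.Comod k A V]

theorem conv_coord_of_groupLike {κ : Type*} (b : Module.Basis κ k A)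
    (hb : ∀ i, IsGroupLikeElem k (b i)) (ψ : A →ₗ[k] k) (i : κ) :
    conv ψ (b.coord i) = ψ (b i) • b.coord i := by
  classical
  apply b.ext
  intro j
  simp only [conv, LinearMap.coe_comp, Function.comp_apply, (hb j).comul_eq_tmul_self,
    TensorProduct.map_tmul, LinearMap.mul'_apply, LinearMap.smul_apply, smul_eq_mul,
    Module.Basis.coord_apply, Module.Basis.repr_self, Finsupp.single_apply]
  by_cases hji : j = i
  · subst hji; simp
  · simp [hji]

theorem conv_coord_of_groupLike' {κ : Type*} (b : Module.Basis κ k A)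
    (hb : ∀ i, IsGroupLikeElem k (b i)) (ψ : A →ₗ[k] k) (i : κ) :
    conv (b.coord i) ψ = ψ (b i) • b.coord i := by
  classical
  apply b.ext
  intro j
  simp only [conv, LinearMap.coe_comp, Function.comp_apply, (hb j).comul_eq_tmul_self,
    TensorProduct.map_tmul, LinearMap.mul'_apply, LinearMap.smul_apply, smul_eq_mul,
    Module.Basis.coord_apply, Module.Basis.repr_self, Finsupp.single_apply]
  by_cases hji : j = i
  · subst hji; simp [mul_comm]
  · simp [hji]

theorem coact_T_coord_of_groupLike {κ : Type*} (b : Module.Basis κ k A)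
    (hb : ∀ i, IsGroupLikeElem k (b i)) (i : κ) (v : V) :
    HopfRep.Comod.coact (k := k) (A := A) (T (b.coord i) v) = T (b.coord i) v ⊗ₜ[k] b i := by
  haveI : Module.Free k A := Module.Free.of_basis b
  apply eq_of_slice_eq
  intro ψ
  rw [← T_apply, T_T, slice_tmul, conv_coord_of_groupLike b hb, T_smul]

theorem T_coord_mem_eigenspace {κ : Type*} (b : Module.Basis κ k A)
    (hb : ∀ i, IsGroupLikeElem k (b i)) (i : κ) (v : V) :
    T (b.coord i) v ∈ HopfRep.eigenspace k A V (b i) :=
  coact_T_coord_of_groupLike b hb i v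

theorem coact_eq_sum_T_coord {κ : Type*} (b : Module.Basis κ k A) (v : V) :
    ∃ s : Finset κ, HopfRep.Comod.coact (k := k) (A := A) v = ∑ i ∈ s, T (b.coord i) v ⊗ₜ[k] b i :=
  eq_sum_slice b _

theorem T_coord_of_mem_eigenspace {κ : Type*} [DecidableEq κ] (b : Module.Basis κ k A) (i j : κ) {v : V}
    (hv : v ∈ HopfRep.eigenspace k A V (b j)) : T (b.coord i) v = if i = j then v else 0 := by
  have hv' : HopfRep.Comod.coact (k := k) (A := A) v = v ⊗ₜ[k] b j := hv
  rw [T_apply, hv', slice_tmul, Module.Basis.coord_apply, Module.Basis.repr_self, Finsupp.single_apply]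
  by_cases h : i = j
  · subst h; simp
  · have : ¬ j = i := fun h' => h h'.symm
    simp [h, this]

theorem T_coord_T {κ : Type*} (b : Module.Basis κ k A)
    (hb : ∀ i, IsGroupLikeElem k (b i)) (i : κ) (φ : A →ₗ[k] k) (v : V) :
    T (b.coord i) (T φ v) = φ (b i) • T (b.coord i) v := by
  rw [T_T, conv_coord_of_groupLike' b hb, T_smul]

theorem T_coord_T_coord {κ : Type*} [DecidableEq κ] (b : Module.Basis κ k A)
    (hb : ∀ i, IsGroupLikeElem k (b i)) (i j : κ) (v : V) :
    T (b.coord i) (T (b.coord j) v) = if i = j then T (b.coord i) v else 0 := by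
  rw [T_coord_T b hb, Module.Basis.coord_apply, Module.Basis.repr_self, Finsupp.single_apply]
  by_cases h : i = j
  · subst h; simp
  · simp [h]

/-- If all weight components vanish, the vector vanishes. -/
theorem eq_zero_of_T_coord_eq_zero {κ : Type*} (b : Module.Basis κ k A)
    (hb : ∀ i, IsGroupLikeElem k (b i)) {v : V} (h : ∀ i, T (b.coord i) v = 0) : v = 0 := by
  obtain ⟨s, hs⟩ := coact_eq_sum_T_coord (V := V) b v
  have h1 := congrArg (slice V (CoalgebraStruct.counit (R := k) (A := A))) hs
  rw [← T_apply, T_counit, map_sum] at h1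
  rw [h1]
  apply Finset.sum_eq_zero
  intro i _
  rw [h i, TensorProduct.zero_tmul, map_zero]

theorem eq_sum_T_coord {κ : Type*} (b : Module.Basis κ k A)
    (hb : ∀ i, IsGroupLikeElem k (b i)) (v : V) :
    ∃ s : Finset κ, v = ∑ i ∈ s, T (b.coord i) v ∧ ∀ i, i ∉ s → T (b.coord i) v = 0 := by
  classical
  obtain ⟨s, hs⟩ := coact_eq_sum_T_coord (V := V) b v
  refine ⟨s, ?_, ?_⟩
  · have h1 := congrArg (slice V (CoalgebraStruct.counit (R := k) (A := A))) hs
    rw [← T_apply, T_counit, map_sum] at h1
    simp only [slice_tmul] at h1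
    refine h1.trans ?_
    apply Finset.sum_congr rfl
    intro a _
    rw [(hb a).counit_eq_one, one_smul]
  · intro i hi
    have h1 := congrArg (slice V (b.coord i)) hs
    rw [← T_apply, map_sum] at h1
    rw [h1]
    apply Finset.sum_eq_zero
    intro j hj
    rw [slice_tmul, Module.Basis.coord_apply, Module.Basis.repr_self, Finsupp.single_apply]
    have : ¬ j = i := fun h => hi (h ▸ hj)
    simp [this]

end Weights

end Groth.Agent.Lib.Helper25
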