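import Groth.Agent.Lib.Helper25Unip
import Groth.Agent.Lib.Helper25DiagMu
import Groth.Agent.Lib.Helper25Weights
import Groth.Agent.Lib.Helper25CoeffMin
import Groth.Prelude.Def_CoactBr2

/-!
# Helper25MultUnip: no homomorphisms between groups of multiplicative type and unipotent groups

`coact_eq_tmul_one_of_weight` (weight vectors in a comodule with a trivial flag are fixed),
`coact_eq_tmul_one_of_diag`, `bcMapC`, `baseChange_coact_one_tmul`, `IsTrivFlag.baseChange`,
`IsTrivFlag.along`, `apply_eq_counit_of_baseChange_trivial`,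
`bialgHom_unipotent_to_diag_trivial`, `bialgHom_diag_to_unipotent_trivial`.
-/

set_option autoImplicit false
universe u v w

namespace Groth.Agent.Lib.Helper25

open TensorProduct HopfRep

section WeightFixed

variable {K : Type u} [Field K] {D : Type v} [CommRing D] [Bialgebra K D]
variable {V : Type v} [AddCommGroup V] [Module K V] [Comod K D V]

/-- In a comodule with a trivial flag, weight vectors are fixed. -/
theorem coact_eq_tmul_one_of_weight {m : ℕ} {F : ℕ → Submodule K V}
    (hF : IsTrivFlag K D V m F) (χ : D) (v : V)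
    (hv : Comod.coact (k := K) (A := D) v = v ⊗ₜ[K] χ) :
    Comod.coact (k := K) (A := D) v = v ⊗ₜ[K] (1 : D) := by
  obtain ⟨hmono, h0, hm, hsub, hgr⟩ := hF
  have key : ∀ i, ∀ v ∈ F i, Comod.coact (k := K) (A := D) v = v ⊗ₜ[K] χ →
      Comod.coact (k := K) (A := D) v = v ⊗ₜ[K] (1 : D) := by
    intro i
    induction i with
    | zero =>
      intro v hv _
      rw [h0, Submodule.mem_bot] at hv
      rw [hv]
      simp
    | succ i ih =>
      intro v hvF hv
      by_cases hχ : χ = 1
      · rw [hv, hχ]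
      · have hne : χ - 1 ≠ 0 := sub_ne_zero.mpr hχ
        obtain ⟨f, hf⟩ : ∃ f : D →ₗ[K] K, f (χ - 1) = 1 := by
          obtain ⟨f, hf⟩ : ∃ f : D →ₗ[K] K, f (χ - 1) ≠ 0 := by
            by_contra h
            push Not at h
            exact hne ((Module.forall_dual_apply_eq_zero_iff K (χ - 1)).mp h)
          refine ⟨(f (χ - 1))⁻¹ • f, ?_⟩
          rw [LinearMap.smul_apply, smul_eq_mul, inv_mul_cancel₀ hf]
        have h1 := hgr i v hvF
        rw [hv, ← TensorProduct.tmul_sub] at h1
        have h2 := (mem_range_rTensor_iff _ _).mp h1 f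
        rw [slice_tmul, hf, one_smul] at h2
        exact ih v h2 hv
  exact key m v (by rw [hm]; exact Submodule.mem_top) hv

/-- A comodule with a trivial flag over a diagonalizable bialgebra is trivial. -/
theorem coact_eq_tmul_one_of_diag (hD : HopfRep.IsDiagonalizable K D) {m : ℕ}
    {F : ℕ → Submodule K V} (hF : IsTrivFlag K D V m F) (v : V) :
    Comod.coact (k := K) (A := D) v = v ⊗ₜ[K] (1 : D) := by
  classical
  set b := groupLikeBasis hD with hb
  have hgl : ∀ g, IsGroupLikeElem K (b g) := fun g => by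
    rw [hb, groupLikeBasis_apply]; exact g.2
  obtain ⟨s, hs, -⟩ := eq_sum_T_coord (V := V) b hgl v
  rw [hs, map_sum, TensorProduct.sum_tmul]
  refine Finset.sum_congr rfl (fun g _ => ?_)
  exact coact_eq_tmul_one_of_weight hF (b g) _ (coact_T_coord_of_groupLike b hgl g v)

end WeightFixed

section BCFlag

variable (k : Type u) [Field k] (K : Type u) [Field K] [Algebra k K]
variable (D : Type u) [CommRing D] [Bialgebra k D]
variable (W : Type u) [AddCommGroup W] [Module k W]

/-- The natural map `W ⊗[k] D → (K ⊗ W) ⊗[K] (K ⊗ D)`. -/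
noncomputable def bcMapC : W ⊗[k] D →ₗ[k] (K ⊗[k] W) ⊗[K] (K ⊗[k] D) :=
  ((AlgebraTensorModule.tensorTensorTensorComm k K k K K K W D).toLinearMap.restrictScalars k) ∘ₗ
    (TensorProduct.mk k (K ⊗[K] K) (W ⊗[k] D) ((1 : K) ⊗ₜ[K] (1 : K)))

theorem bcMapC_tmul (w : W) (d : D) :
    bcMapC k K D W (w ⊗ₜ[k] d) = ((1 : K) ⊗ₜ[k] w) ⊗ₜ[K] ((1 : K) ⊗ₜ[k] d) := by
  simp [bcMapC]

variable [Comod k D W]

theorem baseChange_coact_one_tmul (w : W) :
    (CoactBr.Comod.baseChange k K D W).coact ((1 : K) ⊗ₜ[k] w) =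
      bcMapC k K D W (Comod.coact (k := k) (A := D) w) := by
  rw [CoactBr.baseChange_coact_tmul]
  rfl

variable {k K D W}

theorem bcMapC_mem_range (U : Submodule k W) {z : W ⊗[k] D}
    (hz : z ∈ LinearMap.range (U.subtype.rTensor D)) :
    bcMapC k K D W z ∈ LinearMap.range ((U.baseChange K).subtype.rTensor (K ⊗[k] D)) := by
  obtain ⟨y, rfl⟩ := hz
  induction y using TensorProduct.induction_on with
  | zero => simp
  | add x y hx hy => rw [map_add, map_add]; exact Submodule.add_mem _ hx hy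
  | tmul u d =>
    rw [LinearMap.rTensor_tmul, Submodule.subtype_apply, bcMapC_tmul]
    exact ⟨(⟨(1 : K) ⊗ₜ[k] (u : W), Submodule.tmul_mem_baseChange_of_mem _ u.2⟩ :
      U.baseChange K) ⊗ₜ[K] ((1 : K) ⊗ₜ[k] d), by simp⟩

/-- The base change of a trivial flag is a trivial flag. -/
theorem IsTrivFlag.baseChange {m : ℕ} {F : ℕ → Submodule k W} (hF : IsTrivFlag k D W m F) :
    @IsTrivFlag K _ (K ⊗[k] D) _ _ (K ⊗[k] W) _ _ (CoactBr.Comod.baseChange k K D W) m
      (fun i => (F i).baseChange K) := by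
  letI := CoactBr.Comod.baseChange k K D W
  obtain ⟨hmono, h0, hm, hsub, hgr⟩ := hF
  refine ⟨?_, ?_, ?_, ?_, ?_⟩
  · intro i j hij
    exact Submodule.baseChange_mono K (hmono hij)
  · change (F 0).baseChange K = ⊥
    rw [h0, Submodule.baseChange_bot]
  · change (F m).baseChange K = ⊤
    rw [hm, Submodule.baseChange_top]
  · intro i x hx
    change x ∈ (F i).baseChange K at hx
    rw [Submodule.baseChange_eq_span] at hx
    induction hx using Submodule.span_induction with
    | mem x hx =>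
      obtain ⟨w, hw, rfl⟩ := hx
      change (CoactBr.Comod.baseChange k K D W).coact ((1 : K) ⊗ₜ[k] w) ∈ _
      rw [baseChange_coact_one_tmul]
      exact bcMapC_mem_range (F i) (hsub i w hw)
    | zero => rw [map_zero]; exact Submodule.zero_mem _
    | add x y _ _ hx hy => rw [map_add]; exact Submodule.add_mem _ hx hy
    | smul a x _ hx => rw [map_smul]; exact Submodule.smul_mem _ a hx
  · intro i x hx
    change x ∈ (F (i + 1)).baseChange K at hx
    change _ ∈ LinearMap.range (((F i).baseChange K).subtype.rTensor (K ⊗[k] D))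
    rw [Submodule.baseChange_eq_span] at hx
    induction hx using Submodule.span_induction with
    | mem x hx =>
      obtain ⟨w, hw, rfl⟩ := hx
      have h1 : (CoactBr.Comod.baseChange k K D W).coact ((1 : K) ⊗ₜ[k] w) -
          ((1 : K) ⊗ₜ[k] w) ⊗ₜ[K] (1 : K ⊗[k] D) =
          bcMapC k K D W (Comod.coact (k := k) (A := D) w - w ⊗ₜ[k] (1 : D)) := by
        rw [baseChange_coact_one_tmul, map_sub, bcMapC_tmul, Algebra.TensorProduct.one_def]
      change (CoactBr.Comod.baseChange k K D W).coact ((1 : K) ⊗ₜ[k] w) -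
          ((1 : K) ⊗ₜ[k] w) ⊗ₜ[K] (1 : K ⊗[k] D) ∈ _
      rw [h1]
      exact bcMapC_mem_range (F i) (hgr i w hw)
    | zero => simp
    | add x y _ _ hx hy =>
      have : Comod.coact (k := K) (A := K ⊗[k] D) (x + y) - (x + y) ⊗ₜ[K] (1 : K ⊗[k] D) =
          (Comod.coact (k := K) (A := K ⊗[k] D) x - x ⊗ₜ[K] (1 : K ⊗[k] D)) +
            (Comod.coact (k := K) (A := K ⊗[k] D) y - y ⊗ₜ[K] (1 : K ⊗[k] D)) := by
        rw [map_add, TensorProduct.add_tmul]
        abel
      rw [this]
      exact Submodule.add_mem _ hx hy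
    | smul a x _ hx =>
      have : Comod.coact (k := K) (A := K ⊗[k] D) (a • x) - (a • x) ⊗ₜ[K] (1 : K ⊗[k] D) =
          a • (Comod.coact (k := K) (A := K ⊗[k] D) x - x ⊗ₜ[K] (1 : K ⊗[k] D)) := by
        rw [map_smul, smul_sub, TensorProduct.smul_tmul']
      rw [this]
      exact Submodule.smul_mem _ a hx

end BCFlag

section Along

variable {k : Type u} [Field k] {C : Type u} [CommRing C] [Bialgebra k C]
  {D : Type u} [CommRing D] [Bialgebra k D] {W : Type u} [AddCommGroup W] [Module k W]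

/-- A trivial flag stays a trivial flag after pushing the comodule along a bialgebra map. -/
theorem IsTrivFlag.along (f : C →ₐc[k] D) (cW : Comod k C W) {m : ℕ} {F : ℕ → Submodule k W}
    (hF : @IsTrivFlag k _ C _ _ W _ _ cW m F) :
    @IsTrivFlag k _ D _ _ W _ _ (comodAlongCoalg (f : C →ₗc[k] D) cW) m F := by
  obtain ⟨hmono, h0, hm, hsub, hgr⟩ := hF
  refine ⟨hmono, h0, hm, fun i => isSubcomod_comodAlongCoalg (f : C →ₗc[k] D) cW (F i) (hsub i), ?_⟩
  intro i v hv
  obtain ⟨y, hy⟩ := hgr i v hv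
  refine ⟨(f : C →ₗ[k] D).lTensor (F i) y, ?_⟩
  change _ = (f : C →ₗ[k] D).lTensor W (cW.coact v) - v ⊗ₜ[k] (1 : D)
  have h1 : v ⊗ₜ[k] (1 : D) = (f : C →ₗ[k] D).lTensor W (v ⊗ₜ[k] (1 : C)) := by
    rw [LinearMap.lTensor_tmul]
    change _ = v ⊗ₜ[k] f 1
    rw [map_one]
  rw [h1, ← map_sub, ← hy, lTensor_rTensor_comm']

end Along

section Final

variable {k : Type u} [Field k] {K : Type u} [Field K] [Algebra k K]
  {D : Type u} [CommRing D] [Bialgebra k D] {W : Type u} [AddCommGroup W] [Module k W]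

/-- Slicing the base-changed coaction by the base change of a functional. -/
theorem lslice_liftBaseChange_bcMapC (l0 : W →ₗ[k] k) (z : W ⊗[k] D) :
    lslice (LinearMap.liftBaseChange K ((Algebra.linearMap k K) ∘ₗ l0)) (bcMapC k K D W z) =
      (1 : K) ⊗ₜ[k] lslice l0 z := by
  induction z using TensorProduct.induction_on with
  | zero => simp
  | add x y hx hy => simp only [map_add, hx, hy, TensorProduct.tmul_add]
  | tmul w d =>
    rw [bcMapC_tmul, lslice_tmul, lslice_tmul, LinearMap.liftBaseChange_tmul, one_smul,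
      LinearMap.comp_apply, Algebra.linearMap_apply, algebraMap_smul, TensorProduct.tmul_smul]

end Final

section Main

variable {k : Type u} [Field k] {K : Type u} [Field K] [Algebra k K]
  {C : Type u} [CommRing C] [Bialgebra k C] {D : Type u} [CommRing D] [Bialgebra k D]

/-- If the pushed-forward coaction on a subcomodule `W` of `C` becomes trivial after base
change, the bialgebra map is trivial on `W`. -/
theorem apply_eq_counit_of_baseChange_trivial (f : C →ₐc[k] D) (W : Submodule k C)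
    (hW : IsSubcomod (k := k) (A := C) W) (w : W)
    (h : (letI := comodAlongCoalg (f : C →ₗc[k] D) (subComod W hW);
      (CoactBr.Comod.baseChange k K D W).coact ((1 : K) ⊗ₜ[k] w) =
        ((1 : K) ⊗ₜ[k] w) ⊗ₜ[K] (1 : K ⊗[k] D))) :
    f (w : C) = algebraMap k D (CoalgebraStruct.counit (R := k) (w : C)) := by
  letI cW : Comod k C W := subComod W hW
  letI dW : Comod k D W := comodAlongCoalg (f : C →ₗc[k] D) cW
  set l0 : W →ₗ[k] k := CoalgebraStruct.counit (R := k) (A := C) ∘ₗ W.subtype with hl0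
  have h1 := congrArg (lslice (LinearMap.liftBaseChange K ((Algebra.linearMap k K) ∘ₗ l0))) h
  rw [baseChange_coact_one_tmul, lslice_liftBaseChange_bcMapC, lslice_tmul,
    LinearMap.liftBaseChange_tmul, one_smul, LinearMap.comp_apply, Algebra.linearMap_apply,
    algebraMap_smul, Algebra.TensorProduct.one_def, ← TensorProduct.tmul_smul] at h1
  have h2 : lslice l0 (dW.coact w) = f (w : C) := by
    change lslice l0 ((f : C →ₗ[k] D).lTensor W (cW.coact w)) = _
    have hsub : W.subtype.rTensor C (cW.coact w) = CoalgebraStruct.comul (R := k) (w : C) :=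
      rTensor_subtype_subCoact W hW w
    rw [lslice_lTensor, hl0, ← lslice_rTensor, hsub]
    have := Coalgebra.rTensor_counit_comul (R := k) (w : C)
    have h3 := congrArg (TensorProduct.lid k C) this
    have h4 : lslice (CoalgebraStruct.counit (R := k) (A := C))
        (CoalgebraStruct.comul (R := k) (w : C)) = (w : C) := by
      simpa [lslice] using h3
    change (f : C →ₗ[k] D) (lslice (CoalgebraStruct.counit (R := k) (A := C))
      (CoalgebraStruct.comul (R := k) (w : C))) = _
    rw [h4]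
    rfl
  change (1 : K) ⊗ₜ[k] lslice l0 (dW.coact w) = _ at h1
  rw [h2] at h1
  have h5 := Module.FaithfullyFlat.tensorProduct_mk_injective (A := k) (B := K) D h1
  rw [h5, hl0, LinearMap.comp_apply, Submodule.subtype_apply, Algebra.algebraMap_eq_smul_one]

end Main

section MainThm

variable {k : Type u} [Field k] {K : Type u} [Field K] [Algebra k K]
  {AM : Type u} [CommRing AM] [Bialgebra k AM] {AU : Type u} [CommRing AU] [Bialgebra k AU]

/-- Homomorphisms from a geometrically diagonalizable group to a unipotent group are trivial. -/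
theorem bialgHom_unipotent_to_diag_trivial
    (hM : HopfRep.IsDiagonalizable K (K ⊗[k] AM)) (hU : HopfRep.IsUnipotent k AU)
    (φ : AU →ₐc[k] AM) (a : AU) :
    φ a = algebraMap k AM (CoalgebraStruct.counit (R := k) a) := by
  obtain ⟨W, hWfg, hW, ha⟩ := exists_fg_subcomod_mem (k := k) (A := AU) (V := AU) a
  letI cW : Comod k AU W := subComod W hW
  haveI : Module.Finite k W := Module.Finite.iff_fg.mpr hWfg
  obtain ⟨m, F, hF⟩ := exists_trivFlag hU W inferInstance
  have hF2 := IsTrivFlag.along φ cW hF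
  letI dW : Comod k AM W := comodAlongCoalg (φ : AU →ₗc[k] AM) cW
  have hF3 := IsTrivFlag.baseChange (K := K) hF2
  letI := CoactBr.Comod.baseChange k K AM W
  have h := coact_eq_tmul_one_of_diag hM hF3 ((1 : K) ⊗ₜ[k] (⟨a, ha⟩ : W))
  exact apply_eq_counit_of_baseChange_trivial (K := K) φ W hW ⟨a, ha⟩ h

theorem bcMapC_lTensor {W : Type u} [AddCommGroup W] [Module k W] (ψ : AM →ₗ[k] AU)
    (z : W ⊗[k] AM) :
    bcMapC k K AU W (ψ.lTensor W z) =
      (ψ.baseChange K).lTensor (K ⊗[k] W) (bcMapC k K AM W z) := by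
  induction z using TensorProduct.induction_on with
  | zero => simp
  | add x y hx hy => simp only [map_add, hx, hy]
  | tmul w d =>
    rw [LinearMap.lTensor_tmul, bcMapC_tmul, bcMapC_tmul, LinearMap.lTensor_tmul,
      LinearMap.baseChange_tmul]

/-- Homomorphisms from a unipotent group to a geometrically diagonalizable group are trivial. -/
theorem bialgHom_diag_to_unipotent_trivial
    (hM : HopfRep.IsDiagonalizable K (K ⊗[k] AM)) (hU : HopfRep.IsUnipotent k AU)
    (ψ : AM →ₐc[k] AU) (a : AM) :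
    ψ a = algebraMap k AU (CoalgebraStruct.counit (R := k) a) := by
  classical
  obtain ⟨W, hWfg, hW, ha⟩ := exists_fg_subcomod_mem (k := k) (A := AM) (V := AM) a
  let cW : Comod k AM W := subComod W hW
  haveI : Module.Finite k W := Module.Finite.iff_fg.mpr hWfg
  let dW : Comod k AU W := comodAlongCoalg (ψ : AM →ₗc[k] AU) cW
  obtain ⟨m, F, hF⟩ := @exists_trivFlag k _ AU _ _ hU W _ _ dW inferInstance
  have hF3 := @IsTrivFlag.baseChange k _ K _ _ AU _ _ W _ _ dW m F hF
  let M' : Comod K (K ⊗[k] AM) (K ⊗[k] W) := @CoactBr.Comod.baseChange k K _ _ _ AM _ _ _ W _ _ cW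
  let U' : Comod K (K ⊗[k] AU) (K ⊗[k] W) := @CoactBr.Comod.baseChange k K _ _ _ AU _ _ _ W _ _ dW
  set ψK : K ⊗[k] AM →ₗ[K] K ⊗[k] AU := (ψ : AM →ₗ[k] AU).baseChange K with hψK
  -- the two base-changed coactions are related by `ψK`
  have hrel : ∀ y : K ⊗[k] W, U'.coact y = ψK.lTensor (K ⊗[k] W) (M'.coact y) := by
    have : U'.coact = ψK.lTensor (K ⊗[k] W) ∘ₗ M'.coact := by
      apply TensorProduct.AlgebraTensorModule.ext
      intro s w
      have e : s ⊗ₜ[k] w = s • ((1 : K) ⊗ₜ[k] w) := by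
        rw [TensorProduct.smul_tmul', smul_eq_mul, mul_one]
      rw [e, map_smul, map_smul]
      congr 1
      rw [LinearMap.comp_apply]
      have h1 : U'.coact ((1 : K) ⊗ₜ[k] w) = bcMapC k K AU W (dW.coact w) :=
        @baseChange_coact_one_tmul k _ K _ _ AU _ _ W _ _ dW w
      have h2 : M'.coact ((1 : K) ⊗ₜ[k] w) = bcMapC k K AM W (cW.coact w) :=
        @baseChange_coact_one_tmul k _ K _ _ AM _ _ W _ _ cW w
      rw [h1, h2, ← bcMapC_lTensor]
      rfl
    intro y
    rw [this]
    rfl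
  -- weight decomposition with respect to `M'`
  set b := groupLikeBasis hM with hb
  have hgl : ∀ g, IsGroupLikeElem K (b g) := fun g => by
    rw [hb, groupLikeBasis_apply]; exact g.2
  set x : K ⊗[k] W := (1 : K) ⊗ₜ[k] (⟨a, ha⟩ : W) with hx
  obtain ⟨s, hs, -⟩ := @eq_sum_T_coord K _ (K ⊗[k] AM) _ _ (K ⊗[k] W) _ _ M' _ b hgl x
  have hfix : U'.coact x = x ⊗ₜ[K] (1 : K ⊗[k] AU) := by
    rw [hs, map_sum, TensorProduct.sum_tmul]
    refine Finset.sum_congr rfl (fun g _ => ?_)
    have hw := @coact_T_coord_of_groupLike K _ (K ⊗[k] AM) _ _ (K ⊗[k] W) _ _ M' _ b hgl g x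
    have hw2 : U'.coact (@T K _ (K ⊗[k] AM) _ _ _ (K ⊗[k] W) _ _ M' (b.coord g) x) =
        (@T K _ (K ⊗[k] AM) _ _ _ (K ⊗[k] W) _ _ M' (b.coord g) x) ⊗ₜ[K] ψK (b g) := by
      rw [hrel]
      change ψK.lTensor (K ⊗[k] W) (M'.coact _) = _
      rw [hw, LinearMap.lTensor_tmul]
    exact @coact_eq_tmul_one_of_weight K _ (K ⊗[k] AU) _ _ (K ⊗[k] W) _ _ U' m _ hF3
      (ψK (b g)) _ hw2
  exact @apply_eq_counit_of_baseChange_trivial k _ K _ _ AM _ _ AU _ _ ψ W hW ⟨a, ha⟩ hfix

end MainThm

end Groth.Agent.Lib.Helper25
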