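import Groth.Agent.Lib.Helper25PointsSolv
import Mathlib.RingTheory.HopfAlgebra.Quotient

/-!
# Helper25TrigQuot: trigonalizability passes to quotient bialgebras

`exists_decomp_of_finrank_succ`, `isTrigonalizable_of_surjective`.
-/

set_option autoImplicit false
universe u v w w'

namespace Groth.Agent.Lib.Helper25

open TensorProduct HopfRep

section TrigQuot

variable {k : Type u} [Field k] {V : Type w} [AddCommGroup V] [Module k V]

theorem exists_decomp_of_finrank_succ [FiniteDimensional k V]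
    (P Q : Submodule k V) (hPQ : P ≤ Q) (hdim : Module.finrank k Q = Module.finrank k P + 1) :
    ∃ v₀ ∈ Q, ∀ v ∈ Q, ∃ u ∈ P, ∃ a : k, v = u + a • v₀ := by
  have hne : ¬ Q ≤ P := by
    intro h
    have := Submodule.finrank_mono h
    omega
  obtain ⟨v₀, hv₀Q, hv₀P⟩ := Set.not_subset.mp hne
  have hsup : P ⊔ Submodule.span k {v₀} = Q := by
    apply Submodule.eq_of_le_of_finrank_le
    · exact sup_le hPQ ((Submodule.span_singleton_le_iff_mem _ _).mpr hv₀Q)
    · have hlt : P < P ⊔ Submodule.span k {v₀} := by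
        apply lt_of_le_of_ne le_sup_left
        intro h
        apply hv₀P
        rw [h]
        exact (le_sup_right : Submodule.span k {v₀} ≤ _) (Submodule.mem_span_singleton_self v₀)
      have := Submodule.finrank_lt_finrank_of_lt hlt
      omega
  refine ⟨v₀, hv₀Q, ?_⟩
  intro v hv
  rw [← hsup, Submodule.mem_sup] at hv
  obtain ⟨u, hu, z, hz, rfl⟩ := hv
  obtain ⟨a, rfl⟩ := Submodule.mem_span_singleton.mp hz
  exact ⟨u, hu, a, rfl⟩

end TrigQuot

section TrigQuot2

variable {k : Type u} [Field k] {A : Type v} [CommRing A] [Bialgebra k A]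
  {B : Type v} [CommRing B] [Bialgebra k B]

theorem isTrigonalizable_of_surjective (π : A →ₐc[k] B) (hπ : Function.Surjective π)
    (hT : IsTrigonalizable k A) : IsTrigonalizable k B := by
  classical
  intro V _ _ _ hfin hsimple
  obtain ⟨hnt, hsimp⟩ := hsimple
  -- embed `V` into the regular comodule of `B`
  obtain ⟨v₁, hv₁⟩ := exists_ne (0 : V)
  obtain ⟨l, hl⟩ : ∃ l : V →ₗ[k] k, l v₁ ≠ 0 := by
    by_contra h
    push Not at h
    exact hv₁ ((Module.forall_dual_apply_eq_zero_iff k v₁).mp h)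
  set ι : V →ₗ[k] B := coeffMap (A := B) l with hι
  have hιhom : Hoch.IsComodHom B ι := isComodHom_coeffMap l
  have hιinj : Function.Injective ι := by
    rw [← LinearMap.ker_eq_bot]
    rcases hsimp _ (isSubcomod_ker hιhom) with h | h
    · exact h
    · exfalso
      have : v₁ ∈ LinearMap.ker ι := by rw [h]; exact Submodule.mem_top
      rw [LinearMap.mem_ker] at this
      apply hl
      rw [← counit_coeffMap (A := B) l v₁, ← hι, this, map_zero]
  -- a finite-dimensional subcomodule `W` of `A` whose image contains `ι V`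
  obtain ⟨s, hs⟩ := Module.Finite.fg_top (R := k) (M := V)
  choose lift hlift using fun b : B => hπ b
  obtain ⟨W, hWfg, hWsub, hWle⟩ := exists_fg_subcomod_ge (k := k) (A := A) (V := A)
    (Submodule.span k ((s.image fun v => lift (ι v) : Finset A) : Set A))
    (Submodule.fg_span (Finset.finite_toSet _))
  letI cW : Comod k A W := subComod W hWsub
  haveI : Module.Finite k W := Module.Finite.iff_fg.mpr hWfg
  obtain ⟨F, hmono, hsub, hdim⟩ := exists_dimFlag_aux hT _ W inferInstance rfl
  set n := Module.finrank k W with hn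
  -- `W` as a `B`-comodule
  letI dW : Comod k B W := comodAlongCoalg (π : A →ₗc[k] B) cW
  have hsubB : ∀ i, IsSubcomod (k := k) (A := B) (F i) := fun i =>
    isSubcomod_comodAlongCoalg (π : A →ₗc[k] B) cW (F i) (hsub i)
  set φ : W →ₗ[k] B := (π : A →ₗ[k] B) ∘ₗ W.subtype with hφ
  have hφhom : Hoch.IsComodHom B φ := by
    apply LinearMap.ext
    intro w
    change CoalgebraStruct.comul (R := k) (π (w : A)) =
      φ.rTensor B ((π : A →ₗ[k] B).lTensor W (cW.coact w))
    have h1 : CoalgebraStruct.comul (R := k) (π (w : A)) =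
        TensorProduct.map (π : A →ₗ[k] B) (π : A →ₗ[k] B)
          (CoalgebraStruct.comul (R := k) (w : A)) :=
      (CoalgHomClass.map_comp_comul_apply π (w : A)).symm
    have h2 : CoalgebraStruct.comul (R := k) (w : A) = W.subtype.rTensor A (cW.coact w) :=
      (rTensor_subtype_subCoact W hWsub w).symm
    rw [h1, h2]
    generalize cW.coact w = y
    induction y using TensorProduct.induction_on with
    | zero => simp
    | add x y hx hy => simp only [map_add, hx, hy]
    | tmul a b => simp [hφ]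
  have hrange : ∀ v : V, ∃ w : W, φ w = ι v := by
    have : LinearMap.range ι ≤ LinearMap.range φ := by
      rw [LinearMap.range_eq_map, ← hs, Submodule.map_span, Submodule.span_le]
      rintro _ ⟨v, hv, rfl⟩
      have hmem : lift (ι v) ∈ W := by
        apply hWle
        apply Submodule.subset_span
        rw [Finset.coe_image]
        exact ⟨v, hv, rfl⟩
      exact ⟨⟨lift (ι v), hmem⟩, hlift (ι v)⟩
    intro v
    obtain ⟨w, hw⟩ := this ⟨v, rfl⟩
    exact ⟨w, hw⟩
  -- least index with nonzero image inside `ι V`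
  have hex : ∃ i, ∃ w ∈ F i, φ w ∈ LinearMap.range ι ∧ φ w ≠ 0 := by
    obtain ⟨w, hw⟩ := hrange v₁
    refine ⟨n, w, ?_, ⟨v₁, hw.symm⟩, ?_⟩
    · have : F n = ⊤ := Submodule.eq_top_of_finrank_eq (hdim n le_rfl)
      rw [this]; exact Submodule.mem_top
    · rw [hw]
      intro h
      exact hv₁ (hιinj (by rw [h, map_zero]))
  set i := Nat.find hex with hi
  obtain ⟨w₁, hw₁F, ⟨v₁', hv₁'⟩, hw₁ne⟩ := Nat.find_spec hex
  have hF0 : F 0 = ⊥ := Submodule.finrank_eq_zero.mp (hdim 0 (Nat.zero_le _))
  have hipos : i ≠ 0 := by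
    intro h
    rw [← hi, h, hF0, Submodule.mem_bot] at hw₁F
    apply hw₁ne
    rw [hw₁F, map_zero]
  obtain ⟨j, hj⟩ := Nat.exists_eq_succ_of_ne_zero hipos
  have hjmin : ∀ w ∈ F j, φ w ∈ LinearMap.range ι → φ w = 0 := by
    intro w hw hr
    by_contra hne
    have := Nat.find_min' hex ⟨w, hw, hr, hne⟩
    omega
  have hin : i ≤ n := Nat.find_min' hex (by
    obtain ⟨w, hw⟩ := hrange v₁
    refine ⟨w, ?_, ⟨v₁, hw.symm⟩, ?_⟩
    · have : F n = ⊤ := Submodule.eq_top_of_finrank_eq (hdim n le_rfl)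
      rw [this]; exact Submodule.mem_top
    · rw [hw]
      intro h
      exact hv₁ (hιinj (by rw [h, map_zero])))
  -- the subcomodule `P`
  set P : Submodule k W := F i ⊓ (LinearMap.range ι).comap φ with hP
  have hPsub : IsSubcomod (k := k) (A := B) P :=
    isSubcomod_inf (hsubB i) (isSubcomod_comap hφhom (isSubcomod_range hιhom))
  have htop : (P.map φ).comap ι = ⊤ := by
    rcases hsimp _ (isSubcomod_comap hιhom (isSubcomod_map hφhom hPsub)) with h | h
    · exfalso
      have : v₁' ∈ (P.map φ).comap ι := by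
        rw [Submodule.mem_comap, hv₁']
        exact ⟨w₁, ⟨hw₁F, ⟨v₁', hv₁'⟩⟩, rfl⟩
      rw [h, Submodule.mem_bot] at this
      apply hw₁ne
      rw [← hv₁', this, map_zero]
    · exact h
  -- decomposition of `F i`
  have hdimij : Module.finrank k (F i) = Module.finrank k (F j) + 1 := by
    rw [hdim i hin, hdim j (by omega), hj]
  obtain ⟨v₀, hv₀, hdec⟩ := exists_decomp_of_finrank_succ (F j) (F i)
    (hmono (by omega)) hdimij
  obtain ⟨u₁, hu₁, a₁, hw₁eq⟩ := hdec w₁ hw₁F
  have ha₁ : a₁ ≠ 0 := by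
    intro h
    rw [h, zero_smul, add_zero] at hw₁eq
    apply hw₁ne
    rw [hw₁eq]
    apply hjmin u₁ hu₁
    rw [← hw₁eq]
    exact ⟨v₁', hv₁'⟩
  have hspan : ∀ v : V, v ∈ Submodule.span k {v₁'} := by
    intro v
    have hv : v ∈ (P.map φ).comap ι := by rw [htop]; exact Submodule.mem_top
    obtain ⟨p, ⟨hpF, hpr⟩, hpv⟩ := hv
    obtain ⟨u, hu, a, hpeq⟩ := hdec p hpF
    have hmem : a₁ • p - a • w₁ ∈ F j := by
      have : a₁ • p - a • w₁ = a₁ • u - a • u₁ := by
        rw [hpeq, hw₁eq, smul_add, smul_add, smul_smul, smul_smul, mul_comm a₁ a]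
        abel
      rw [this]
      exact Submodule.sub_mem _ (Submodule.smul_mem _ _ hu) (Submodule.smul_mem _ _ hu₁)
    have hφeq : φ (a₁ • p - a • w₁) = ι (a₁ • v - a • v₁') := by
      rw [map_sub, map_smul, map_smul, map_sub, map_smul, map_smul, hpv, hv₁']
    have hzero := hjmin _ hmem ⟨_, hφeq.symm⟩
    rw [hφeq] at hzero
    have h0 : a₁ • v - a • v₁' = 0 := hιinj (by rw [hzero, map_zero])
    rw [Submodule.mem_span_singleton]
    refine ⟨a₁⁻¹ * a, ?_⟩
    rw [mul_smul, ← sub_eq_zero.mp h0, smul_smul, inv_mul_cancel₀ ha₁, one_smul]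
  have hv₁'ne : v₁' ≠ 0 := by
    intro h
    apply hw₁ne
    rw [← hv₁', h, map_zero]
  have htop' : Submodule.span k {v₁'} = ⊤ := by
    rw [eq_top_iff]
    intro v _
    exact hspan v
  rw [← finrank_top k V, ← htop']
  exact finrank_span_singleton hv₁'ne

end TrigQuot2

end Groth.Agent.Lib.Helper25
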