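import Groth.Agent.Lib.Helper25QuotNormal
import Groth.Agent.Lib.Helper25MultUnip
import Groth.Agent.Lib.Helper25TrigQuot

/-!
# Unipotent groups: closed subgroups, quotients and extensions

Hopf-algebra form: if `A` is unipotent (every nonzero finite-dimensional comodule has a nonzero
fixed vector) then so are its Hopf quotients and Hopf subalgebras; and an extension of a unipotent
group by a unipotent group is unipotent.
-/

set_option autoImplicit false
universe u v w w'

namespace Groth.Agent.Lib.Helper25

open TensorProduct HopfRep WithConv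


section FixedFlag

variable {k : Type u} [Field k] {B : Type v} [CommRing B] [Bialgebra k B]
variable {X : Type v} [AddCommGroup X] [Module k X] [Comod k B X]
variable {Y : Type w} [AddCommGroup Y] [Module k Y] [Comod k B Y]

/-- A nonzero subcomodule of the image of a comodule with a trivial flag has a nonzero fixed
vector. -/
theorem exists_fixed_of_trivFlag_of_le_range {m : ℕ} {F : ℕ → Submodule k X}
    (hF : IsTrivFlag k B X m F) (f : X →ₗ[k] Y) (hf : Hoch.IsComodHom B f)
    (V' : Submodule k Y) (hV' : IsSubcomod (k := k) (A := B) V') (hne : V' ≠ ⊥)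
    (hle : V' ≤ LinearMap.range f) :
    ∃ y ∈ V', y ≠ 0 ∧ Comod.coact (k := k) (A := B) y = y ⊗ₜ[k] (1 : B) := by
  classical
  obtain ⟨hmono, h0, hm, hsub, hgr⟩ := hF
  have hex : ∃ i, (F i).map f ⊓ V' ≠ ⊥ := by
    refine ⟨m, ?_⟩
    rw [hm, Submodule.map_top, inf_eq_right.mpr hle]
    exact hne
  set i := Nat.find hex with hi
  have hi1 : (F i).map f ⊓ V' ≠ ⊥ := Nat.find_spec hex
  have hipos : i ≠ 0 := by
    intro h
    rw [h, h0, Submodule.map_bot, bot_inf_eq] at hi1
    exact hi1 rfl
  obtain ⟨j, hj⟩ := Nat.exists_eq_succ_of_ne_zero hipos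
  have hjbot : (F j).map f ⊓ V' = ⊥ := by
    by_contra hne'
    have := Nat.find_min' hex hne'
    omega
  obtain ⟨y, hy, hy0⟩ := Submodule.exists_mem_ne_zero_of_ne_bot hi1
  rw [hj] at hy
  obtain ⟨⟨x, hx, rfl⟩, hyV⟩ := hy
  refine ⟨f x, hyV, hy0, ?_⟩
  rw [← sub_eq_zero]
  apply eq_zero_of_slice_eq_zero
  intro φ
  have h1 : slice Y φ (Comod.coact (k := k) (A := B) (f x) - f x ⊗ₜ[k] (1 : B)) ∈
      (F j).map f ⊓ V' := by
    constructor
    · obtain ⟨w, hw⟩ := hgr j x hx
      have e : Comod.coact (k := k) (A := B) (f x) - f x ⊗ₜ[k] (1 : B) =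
          f.rTensor B (Comod.coact (k := k) (A := B) x - x ⊗ₜ[k] (1 : B)) := by
        rw [map_sub, LinearMap.rTensor_tmul, isComodHom_apply hf]
      rw [e, ← hw, slice_rTensor, slice_rTensor]
      exact ⟨_, (slice (F j) φ w).2, rfl⟩
    · rw [map_sub, slice_tmul]
      refine Submodule.sub_mem _ ?_ (Submodule.smul_mem _ _ hyV)
      exact T_mem_of_isSubcomod hV' φ hyV
  rw [hjbot, Submodule.mem_bot] at h1
  exact h1

end FixedFlag



section AlongGen

variable {k : Type u} [Field k] {C : Type v} [CommRing C] [Bialgebra k C]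
  {D : Type v} [CommRing D] [Bialgebra k D] {W : Type v} [AddCommGroup W] [Module k W]

/-- A trivial flag stays a trivial flag after pushing the comodule along a bialgebra map
(universe-general version of `IsTrivFlag.along`). -/
theorem IsTrivFlag.along' (f : C →ₐc[k] D) (cW : Comod k C W) {m : ℕ} {F : ℕ → Submodule k W}
    (hF : @IsTrivFlag k _ C _ _ W _ _ cW m F) :
    @IsTrivFlag k _ D _ _ W _ _ (comodAlongCoalg (f : C →ₗc[k] D) cW) m F := by
  obtain ⟨hmono, h0, hm, hsub, hgr⟩ := hF
  refine ⟨hmono, h0, hm, fun i => isSubcomod_comodAlongCoalg (f : C →ₗc[k] D) cW (F i) (hsub i), ?_⟩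
  intro i v hv
  obtain ⟨y, hy⟩ := hgr i v hv
  refine ⟨(f : C →ₗ[k] D).lTensor (F i) y, ?_⟩
  change _ = (f : C →ₗ[k] D).lTensor W (cW.coact v) - v ⊗ₜ[k] (1 : D)
  have h1 : v ⊗ₜ[k] (1 : D) = (f : C →ₗ[k] D).lTensor W (v ⊗ₜ[k] (1 : C)) := by
    rw [LinearMap.lTensor_tmul]
    change _ = v ⊗ₜ[k] f 1
    rw [map_one]
  rw [h1, ← map_sub, ← hy, lTensor_rTensor_comm']

end AlongGen

section LemmaU

variable {k : Type u} [Field k] {A : Type v} [CommRing A] [Bialgebra k A]
  {B : Type v} [CommRing B] [Bialgebra k B]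

/-- The restriction of a surjective bialgebra map to a subcomodule of `A` is a comodule map for
the pushed-forward coaction. -/
theorem isComodHom_comp_subtype (π : A →ₐc[k] B) (W : Submodule k A)
    (hW : IsSubcomod (k := k) (A := A) (V := A) W) :
    @Hoch.IsComodHom k _ B _ _ _ W _ _ (comodAlongCoalg (π : A →ₗc[k] B) (subComod W hW)) B _ _ _
      ((π : A →ₗ[k] B) ∘ₗ W.subtype) := by
  letI cW : Comod k A W := subComod W hW
  letI dW : Comod k B W := comodAlongCoalg (π : A →ₗc[k] B) cW
  apply LinearMap.ext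
  intro w
  change CoalgebraStruct.comul (R := k) (π (w : A)) =
    ((π : A →ₗ[k] B) ∘ₗ W.subtype).rTensor B ((π : A →ₗ[k] B).lTensor W (cW.coact w))
  have h1 : CoalgebraStruct.comul (R := k) (π (w : A)) =
      TensorProduct.map (π : A →ₗ[k] B) (π : A →ₗ[k] B)
        (CoalgebraStruct.comul (R := k) (w : A)) :=
    (CoalgHomClass.map_comp_comul_apply π (w : A)).symm
  have h2 : CoalgebraStruct.comul (R := k) (w : A) = W.subtype.rTensor A (cW.coact w) :=
    (rTensor_subtype_subCoact W hW w).symm
  rw [h1, h2]
  generalize cW.coact w = y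
  induction y using TensorProduct.induction_on with
  | zero => simp
  | add x y hx hy => simp only [map_add, hx, hy]
  | tmul a b => simp

/-- A quotient bialgebra `B` of `A` is unipotent as soon as every finite-dimensional subcomodule of
the regular comodule of `A` has a trivial flag as a `B`-comodule. -/
theorem isUnipotent_of_forall_trivFlag (π : A →ₐc[k] B) (hπ : Function.Surjective π)
    (H : ∀ (W : Submodule k A) (hW : IsSubcomod (k := k) (A := A) (V := A) W), W.FG →
      ∃ (m : ℕ) (F : ℕ → Submodule k W),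
        @IsTrivFlag k _ B _ _ W _ _ (comodAlongCoalg (π : A →ₗc[k] B) (subComod W hW)) m F) :
    IsUnipotent k B := by
  classical
  suffices h : ∀ (n : ℕ) (V : Type v) [AddCommGroup V] [Module k V] [Comod k B V],
      Module.Finite k V → Nontrivial V → Module.finrank k V = n → fixedPts k B V ≠ ⊥ by
    intro V _ _ _ hfin hnt
    exact h _ V hfin hnt rfl
  intro n
  induction n using Nat.strong_induction_on with
  | _ n ih =>
    intro V _ _ _ hfin hnt hn
    obtain ⟨v₁, hv₁⟩ := exists_ne (0 : V)
    obtain ⟨l, hl⟩ : ∃ l : V →ₗ[k] k, l v₁ ≠ 0 := by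
      by_contra h
      push Not at h
      exact hv₁ ((Module.forall_dual_apply_eq_zero_iff k v₁).mp h)
    set ι : V →ₗ[k] B := coeffMap (A := B) l with hι
    have hιhom : Hoch.IsComodHom B ι := isComodHom_coeffMap l
    have hιv₁ : ι v₁ ≠ 0 := by
      intro h
      apply hl
      rw [← counit_coeffMap (A := B) l v₁, ← hι, h, map_zero]
    by_cases hker : LinearMap.ker ι = ⊥
    · -- `V` embeds into `B`
      have hιinj : Function.Injective ι := LinearMap.ker_eq_bot.mp hker
      obtain ⟨s, hs⟩ := Module.Finite.fg_top (R := k) (M := V)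
      choose lift hlift using fun b : B => hπ b
      obtain ⟨W, hWfg, hWsub, hWle⟩ := exists_fg_subcomod_ge (k := k) (A := A) (V := A)
        (Submodule.span k ((s.image fun v => lift (ι v) : Finset A) : Set A))
        (Submodule.fg_span (Finset.finite_toSet _))
      obtain ⟨m, F, hF⟩ := H W hWsub hWfg
      letI cW : Comod k A W := subComod W hWsub
      letI dW : Comod k B W := comodAlongCoalg (π : A →ₗc[k] B) cW
      have hφhom := isComodHom_comp_subtype π W hWsub
      have hle : LinearMap.range ι ≤ LinearMap.range ((π : A →ₗ[k] B) ∘ₗ W.subtype) := by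
        rw [LinearMap.range_eq_map, ← hs, Submodule.map_span, Submodule.span_le]
        rintro _ ⟨v, hv, rfl⟩
        have hmem : lift (ι v) ∈ W := by
          apply hWle
          apply Submodule.subset_span
          rw [Finset.coe_image]
          exact ⟨v, hv, rfl⟩
        exact ⟨⟨lift (ι v), hmem⟩, hlift (ι v)⟩
      have hne : LinearMap.range ι ≠ ⊥ := by
        intro h
        apply hιv₁
        have : ι v₁ ∈ LinearMap.range ι := ⟨v₁, rfl⟩
        rw [h, Submodule.mem_bot] at this
        exact this
      obtain ⟨y, ⟨v, rfl⟩, hy0, hyfix⟩ := exists_fixed_of_trivFlag_of_le_range hF _ hφhom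
        (LinearMap.range ι) (isSubcomod_range hιhom) hne hle
      intro hbot
      have hv0 : v ≠ 0 := by
        intro h
        apply hy0
        rw [h, map_zero]
      have hvfix : v ∈ fixedPts k B V := by
        rw [mem_fixedPts_iff]
        have hinj : Function.Injective (ι.rTensor B) :=
          Module.Flat.rTensor_preserves_injective_linearMap _ hιinj
        apply hinj
        rw [← isComodHom_apply hιhom, hyfix, LinearMap.rTensor_tmul]
      rw [hbot, Submodule.mem_bot] at hvfix
      exact hv0 hvfix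
    · -- the kernel is a smaller nonzero subcomodule
      have hKsub : IsSubcomod (k := k) (A := B) (LinearMap.ker ι) := isSubcomod_ker hιhom
      letI cK : Comod k B (LinearMap.ker ι) := subComod _ hKsub
      have hKnt : Nontrivial (LinearMap.ker ι) := Submodule.nontrivial_iff_ne_bot.mpr hker
      have hKlt : Module.finrank k (LinearMap.ker ι) < n := by
        rw [← hn]
        apply Submodule.finrank_lt
        intro h
        apply hιv₁
        have : v₁ ∈ LinearMap.ker ι := by rw [h]; exact Submodule.mem_top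
        exact LinearMap.mem_ker.mp this
      have hKfix := ih _ hKlt (LinearMap.ker ι) inferInstance hKnt rfl
      obtain ⟨u, hu, hu0⟩ := Submodule.exists_mem_ne_zero_of_ne_bot hKfix
      intro hbot
      have hufix : (u : V) ∈ fixedPts k B V := by
        rw [mem_fixedPts_iff]
        have h1 := isComodHom_apply (isComodHom_subtype _ hKsub) u
        rw [(mem_fixedPts_iff u).mp hu, LinearMap.rTensor_tmul] at h1
        exact h1
      rw [hbot, Submodule.mem_bot] at hufix
      apply hu0
      exact Subtype.ext hufix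

/-- A closed subgroup of a unipotent group is unipotent. -/
theorem isUnipotent_of_surjective (π : A →ₐc[k] B) (hπ : Function.Surjective π)
    (hU : IsUnipotent k A) : IsUnipotent k B := by
  apply isUnipotent_of_forall_trivFlag π hπ
  intro W hW hWfg
  letI cW : Comod k A W := subComod W hW
  obtain ⟨m, F, hF⟩ := exists_trivFlag hU W (Module.Finite.iff_fg.mpr hWfg)
  exact ⟨m, F, IsTrivFlag.along' π cW hF⟩

/-- A quotient group of a unipotent group is unipotent. -/
theorem isUnipotent_of_injective (ψ : B →ₐc[k] A) (hψ : Function.Injective ψ)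
    (hU : IsUnipotent k A) : IsUnipotent k B := by
  intro V _ _ cV hfin hnt
  letI dV : Comod k A V := comodAlongCoalg (ψ : B →ₗc[k] A) cV
  have h := hU V hfin hnt
  obtain ⟨v, hv, hv0⟩ := Submodule.exists_mem_ne_zero_of_ne_bot h
  intro hbot
  have hvfix : v ∈ @fixedPts k B _ _ _ V _ _ cV := by
    rw [mem_fixedPts_iff]
    have h1 := (mem_fixedPts_iff v).mp hv
    change (ψ : B →ₗ[k] A).lTensor V (cV.coact v) = _ at h1
    have hinj : Function.Injective ((ψ : B →ₗ[k] A).lTensor V) :=
      Module.Flat.lTensor_preserves_injective_linearMap _ hψ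
    apply hinj
    rw [h1, LinearMap.lTensor_tmul]
    change v ⊗ₜ[k] (1 : A) = v ⊗ₜ[k] ψ 1
    rw [map_one]
  rw [hbot, Submodule.mem_bot] at hvfix
  exact hv0 hvfix

end LemmaU



section Corestrict

variable {k : Type u} [Field k] {C : Type v} [AddCommGroup C] [Module k C] [Coalgebra k C]
  {D : Type w'} [AddCommGroup D] [Module k D] [Coalgebra k D]
variable {V : Type w} [AddCommGroup V] [Module k V]

/-- The coaction of `C` on a `D`-comodule whose coaction factors through the injective coalgebra
map `i : C → D`. -/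
noncomputable def corestrictCoact (i : C →ₗc[k] D) (hi : Function.Injective i) (c : Comod k D V)
    (h : ∀ v, c.coact v ∈ LinearMap.range ((i : C →ₗ[k] D).lTensor V)) : V →ₗ[k] V ⊗[k] C :=
  (LinearEquiv.ofInjective ((i : C →ₗ[k] D).lTensor V)
    (Module.Flat.lTensor_preserves_injective_linearMap _ hi)).symm.toLinearMap ∘ₗ
    LinearMap.codRestrict (LinearMap.range ((i : C →ₗ[k] D).lTensor V)) c.coact h

theorem lTensor_corestrictCoact (i : C →ₗc[k] D) (hi : Function.Injective i) (c : Comod k D V)
    (h : ∀ v, c.coact v ∈ LinearMap.range ((i : C →ₗ[k] D).lTensor V)) (v : V) :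
    (i : C →ₗ[k] D).lTensor V (corestrictCoact i hi c h v) = c.coact v := by
  unfold corestrictCoact
  simp only [LinearMap.coe_comp, LinearEquiv.coe_coe, Function.comp_apply]
  have := LinearEquiv.apply_symm_apply (LinearEquiv.ofInjective ((i : C →ₗ[k] D).lTensor V)
    (Module.Flat.lTensor_preserves_injective_linearMap _ hi))
    (LinearMap.codRestrict (LinearMap.range ((i : C →ₗ[k] D).lTensor V)) c.coact h v)
  exact congrArg Subtype.val this

/-- Corestriction of a comodule along an injective coalgebra map. -/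
@[reducible] noncomputable def corestrictComod (i : C →ₗc[k] D) (hi : Function.Injective i)
    (c : Comod k D V)
    (h : ∀ v, c.coact v ∈ LinearMap.range ((i : C →ₗ[k] D).lTensor V)) : Comod k C V where
  coact := corestrictCoact i hi c h
  coassoc := by
    apply LinearMap.ext
    intro v
    have hinj : Function.Injective ((TensorProduct.map (i : C →ₗ[k] D) (i : C →ₗ[k] D)).lTensor V) :=
      Module.Flat.lTensor_preserves_injective_linearMap _
        (TensorProduct.map_injective_of_flat_flat _ _ hi hi)
    apply hinj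
    simp only [LinearMap.coe_comp, Function.comp_apply, LinearEquiv.coe_coe]
    rw [assoc_rTensor_lTensor_map (i : C →ₗ[k] D) (corestrictCoact i hi c h) c.coact
      (lTensor_corestrictCoact i hi c h), lTensor_corestrictCoact]
    have hc := LinearMap.congr_fun c.coassoc v
    simp only [LinearMap.coe_comp, Function.comp_apply, LinearEquiv.coe_coe] at hc
    rw [hc, ← LinearMap.comp_apply (LinearMap.lTensor V _) (LinearMap.lTensor V _),
      ← LinearMap.lTensor_comp, CoalgHomClass.map_comp_comul, LinearMap.lTensor_comp,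
      LinearMap.comp_apply, lTensor_corestrictCoact]
  counit_comp := by
    apply LinearMap.ext
    intro v
    have hc := LinearMap.congr_fun c.counit_comp v
    rw [LinearMap.comp_apply] at hc ⊢
    rw [← hc, ← lTensor_corestrictCoact i hi c h v,
      ← LinearMap.comp_apply (LinearMap.lTensor V _) (LinearMap.lTensor V _),
      ← LinearMap.lTensor_comp, CoalgHomClass.counit_comp]

end Corestrict



section NormalAug

variable {k A : Type u} [Field k] [CommRing A] [HopfAlgebra k A] (B : Subalgebra k A)
variable {R : Type u} [CommRing R] [Algebra k R]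

/-- A point killing `A·B⁺` agrees with the unit point on `B`. -/
theorem apply_eq_counit_of_kills_augIdealSpan (h : WithConv (A →ₐ[k] R))
    (hh : ∀ a ∈ SGA3.augIdealSpan k A B, h.ofConv a = 0) (b : A) (hb : b ∈ B) :
    h.ofConv b = algebraMap k R (CoalgebraStruct.counit (R := k) b) := by
  have h1 := hh _ (sub_counit_mem_augIdealSpan B hb)
  rw [map_sub, sub_eq_zero] at h1
  rw [h1]
  simp

/-- If `u` agrees with the unit point on the sub-Hopf-algebra `B`, then `u * v` agrees with `v`
on `B`. -/
theorem convMul_apply_of_agree_one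
    (hB : ∀ b ∈ B, CoalgebraStruct.comul (R := k) b ∈
      LinearMap.range (TensorProduct.map B.val.toLinearMap B.val.toLinearMap))
    (u v : WithConv (A →ₐ[k] R))
    (hu : ∀ b ∈ B, u.ofConv b = algebraMap k R (CoalgebraStruct.counit (R := k) b))
    (b : A) (hb : b ∈ B) : (u * v).ofConv b = v.ofConv b := by
  have e1 := AlgHom.convMul_apply u v b
  change (u * v).ofConv b = _ at e1
  have e2 := AlgHom.convMul_apply (1 : WithConv (A →ₐ[k] R)) v b
  change ((1 : WithConv (A →ₐ[k] R)) * v).ofConv b = _ at e2
  rw [one_mul] at e2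
  rw [e1, e2]
  obtain ⟨y, hy⟩ := hB b hb
  rw [← hy]
  clear hy e1 e2
  induction y using TensorProduct.induction_on with
  | zero => simp
  | add x y hx hy => simp only [map_add, hx, hy]
  | tmul b' b'' =>
    simp only [TensorProduct.map_tmul, AlgHom.toLinearMap_apply, Subalgebra.coe_val,
      Algebra.TensorProduct.lift_tmul]
    rw [hu _ b'.2]
    rfl

/-- The ideal generated by the augmentation ideal of a sub-Hopf-algebra is normal. -/
theorem isNormalHopfIdeal_augIdealSpan (hB : SGA3.IsHopfSubalgebra k A B) :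
    SGA3.IsNormalHopfIdeal k A (SGA3.augIdealSpan k A B) := by
  intro R _ _ g h hh
  rw [conv3_eq]
  have hkey : ∀ b ∈ B, (toConv g * toConv h * toConv (g.comp (HopfAlgebra.antipodeAlgHom k A)) :
      WithConv (A →ₐ[k] R)).ofConv b = algebraMap k R (CoalgebraStruct.counit (R := k) b) := by
    intro b hb
    have e : (toConv g * toConv h * toConv (g.comp (HopfAlgebra.antipodeAlgHom k A)) :
        WithConv (A →ₐ[k] R)) = ((toConv g)⁻¹)⁻¹ * (toConv h * (toConv g)⁻¹) := by
      rw [inv_inv, mul_assoc]
      rfl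
    rw [e]
    apply inv_mul_apply_of_agree B hB.1 _ _ _ b hb
    intro b' hb'
    exact convMul_apply_of_agree_one B hB.1 (toConv h) _
      (fun b'' hb'' => apply_eq_counit_of_kills_augIdealSpan B (toConv h) hh b'' hb'') b' hb'
  have hle : SGA3.augIdealSpan k A B ≤ RingHom.ker ((toConv g * toConv h *
      toConv (g.comp (HopfAlgebra.antipodeAlgHom k A)) :
      WithConv (A →ₐ[k] R)).ofConv : A →+* R) := by
    unfold SGA3.augIdealSpan
    rw [Ideal.span_le]
    rintro b ⟨hb, hε⟩
    rw [SetLike.mem_coe, RingHom.mem_ker]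
    change (toConv g * toConv h * toConv (g.comp (HopfAlgebra.antipodeAlgHom k A)) :
      WithConv (A →ₐ[k] R)).ofConv b = 0
    rw [hkey b hb, hε, map_zero]
  intro a ha
  exact hle ha

end NormalAug

section MapKer

variable {k : Type u} [Field k] {A : Type u} [CommRing A] [HopfAlgebra k A]
  {C : Type u} [CommRing C] [HopfAlgebra k C]

theorem isHopfSubalgebra_range (ψ : C →ₐc[k] A) :
    SGA3.IsHopfSubalgebra k A (ψ : C →ₐ[k] A).range :=
  ⟨fun b hb => comul_mem_of_mem_range ψ b hb, fun b hb => antipode_mem_of_mem_range ψ b hb⟩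

/-- The ideal generated by the image of the augmentation ideal of `C` is `A·B⁺` for
`B = ψ(C)`. -/
theorem map_ker_counit_eq_augIdealSpan (ψ : C →ₐc[k] A) :
    Ideal.map (ψ : C →+* A) (RingHom.ker (Bialgebra.counitAlgHom k C)) =
      SGA3.augIdealSpan k A (ψ : C →ₐ[k] A).range := by
  unfold SGA3.augIdealSpan
  change Ideal.span _ = _
  congr 1
  ext a
  constructor
  · rintro ⟨c, hc, rfl⟩
    refine ⟨⟨c, rfl⟩, ?_⟩
    have h1 : CoalgebraStruct.counit (R := k) (ψ c) = CoalgebraStruct.counit (R := k) c :=
      CoalgHomClass.counit_comp_apply ψ c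
    change CoalgebraStruct.counit (R := k) (ψ c) = 0
    rw [h1]
    exact hc
  · rintro ⟨⟨c, rfl⟩, hε⟩
    refine ⟨c, ?_, rfl⟩
    have h1 : CoalgebraStruct.counit (R := k) (ψ c) = CoalgebraStruct.counit (R := k) c :=
      CoalgHomClass.counit_comp_apply ψ c
    change CoalgebraStruct.counit (R := k) c = 0
    rw [← h1]
    exact hε

end MapKer



section InvSub

variable {k A : Type u} [Field k] [CommRing A] [HopfAlgebra k A]
variable (I : Ideal A) [I.IsHopfIdeal k]
variable (V : Type w) [AddCommGroup V] [Module k V] [Comod k A V]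

variable (k) in
/-- The invariants of the closed subgroup cut out by the Hopf ideal `I`. -/
def invSub : Submodule k V :=
  LinearMap.eqLocus ((Ideal.Quotient.mkₐ k I).toLinearMap.lTensor V ∘ₗ Comod.coact (k := k) (A := A))
    ((TensorProduct.mk k V (A ⧸ I)).flip 1)

variable {V}

theorem mem_invSub {v : V} : v ∈ invSub k I V ↔
    (Ideal.Quotient.mkₐ k I).toLinearMap.lTensor V (Comod.coact (k := k) (A := A) v) =
      v ⊗ₜ[k] (1 : A ⧸ I) := by
  unfold invSub
  rw [LinearMap.mem_eqLocus]
  rfl

theorem isSubcomod_invSub (hI : SGA3.IsNormalHopfIdeal k A I) :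
    IsSubcomod (k := k) (A := A) (invSub k I V) := by
  rw [isSubcomod_iff]
  intro φ u hu
  rw [mem_invSub] at hu ⊢
  exact T_mem_invariants_of_normal I hI φ u hu

/-- Coefficients of invariant vectors are coinvariant functions. -/
theorem coeffMap_mem_coinvSub (l : V →ₗ[k] k) {v : V} (hv : v ∈ invSub k I V) :
    coeffMap (A := A) l v ∈ coinvSub k I := by
  rw [mem_coinvSub]
  have h2 := isComodHom_apply (isComodHom_coeffMap (A := A) l) v
  change CoalgebraStruct.comul (R := k) (coeffMap (A := A) l v) =
    (coeffMap (A := A) l).rTensor A (Comod.coact (k := k) (A := A) v) at h2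
  rw [h2, ← LinearMap.comp_apply, LinearMap.lTensor_comp_rTensor,
    ← LinearMap.rTensor_comp_lTensor, LinearMap.comp_apply, (mem_invSub (k := k) I).mp hv,
    LinearMap.rTensor_tmul]

/-- The coaction on the subcomodule of invariants takes values in `V^N ⊗ C` for any subspace `C`
containing the coinvariant functions. -/
theorem subCoact_invSub_mem (hI : SGA3.IsNormalHopfIdeal k A I) (D : Submodule k A)
    (hD : ∀ a ∈ coinvSub k I, a ∈ D) (u : invSub k I V) :
    (subComod (invSub k I V) (isSubcomod_invSub I hI)).coact u ∈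
      LinearMap.range (D.subtype.lTensor (invSub k I V)) := by
  rw [mem_range_lTensor_subtype_iff]
  intro l'
  obtain ⟨l, hl⟩ := LinearMap.exists_extend l'
  apply hD
  have h1 := coeffMap_mem_coinvSub I l u.2
  have h2 := rTensor_subtype_subCoact (invSub k I V) (isSubcomod_invSub I hI) u
  rw [coeffMap_apply, ← h2, lslice_rTensor, hl] at h1
  exact h1

end InvSub

section RangeLTensor

variable {k : Type u} [Field k] {C : Type v} [AddCommGroup C] [Module k C]
  {D : Type w'} [AddCommGroup D] [Module k D] {V : Type w} [AddCommGroup V] [Module k V]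

theorem range_lTensor_subtype_range (i : C →ₗ[k] D) :
    LinearMap.range ((LinearMap.range i).subtype.lTensor V) = LinearMap.range (i.lTensor V) := by
  have e : i = (LinearMap.range i).subtype ∘ₗ i.rangeRestrict := by
    ext c
    rfl
  conv_rhs => rw [e, LinearMap.lTensor_comp]
  rw [LinearMap.range_comp_of_range_eq_top]
  rw [LinearMap.range_eq_top]
  exact LinearMap.lTensor_surjective _ i.surjective_rangeRestrict

end RangeLTensor



section Extension

variable {k A : Type u} [Field k] [CommRing A] [HopfAlgebra k A]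
  {C : Type u} [CommRing C] [HopfAlgebra k C]

/-- For the kernel `N = Spec (A/J)` of the quotient map `Spec A → Spec C`, the coinvariant
functions are the elements of `ψ(C)`. -/
theorem mem_range_of_mem_coinvSub (ψ : C →ₐc[k] A) (J : Ideal A) [J.IsHopfIdeal k]
    (hJ : J = Ideal.map (ψ : C →+* A) (RingHom.ker (Bialgebra.counitAlgHom k C))) (a : A)
    (ha : a ∈ coinvSub k J) : a ∈ LinearMap.range (ψ : C →ₗ[k] A) := by
  have hB := isHopfSubalgebra_range ψ
  rw [mem_coinvSub_iff_comul_sub_mem] at ha
  have hJ' : J = SGA3.augIdealSpan k A (ψ : C →ₐ[k] A).range := by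
    rw [hJ, map_ker_counit_eq_augIdealSpan]
  subst hJ'
  obtain ⟨c, hc⟩ := mem_of_comul_sub_mem _ hB.1 hB.2 a ha
  exact ⟨c, hc⟩

theorem isNormalHopfIdeal_map_ker_counit (ψ : C →ₐc[k] A) (J : Ideal A)
    (hJ : J = Ideal.map (ψ : C →+* A) (RingHom.ker (Bialgebra.counitAlgHom k C))) :
    SGA3.IsNormalHopfIdeal k A J := by
  rw [hJ, map_ker_counit_eq_augIdealSpan]
  exact isNormalHopfIdeal_augIdealSpan _ (isHopfSubalgebra_range ψ)

variable (V : Type w) [AddCommGroup V] [Module k V] [Comod k A V]

/-- The invariants of the kernel of `Spec A → Spec C` form a subcomodule which is a comodule over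
`C`. -/
theorem exists_comod_invSub (ψ : C →ₐc[k] A) (hψ : Function.Injective ψ) (J : Ideal A)
    [J.IsHopfIdeal k]
    (hJ : J = Ideal.map (ψ : C →+* A) (RingHom.ker (Bialgebra.counitAlgHom k C))) :
    ∃ (hU : IsSubcomod (k := k) (A := A) (invSub k J V)) (d : Comod k C (invSub k J V)),
      ∀ u, ((ψ : C →ₗc[k] A) : C →ₗ[k] A).lTensor _ (d.coact u) =
        (subComod _ hU).coact u := by
  have hJn := isNormalHopfIdeal_map_ker_counit ψ J hJ
  have hU := isSubcomod_invSub (V := V) J hJn
  have h : ∀ u, (subComod _ hU).coact u ∈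
      LinearMap.range (((ψ : C →ₗc[k] A) : C →ₗ[k] A).lTensor (invSub k J V)) := by
    intro u
    rw [← range_lTensor_subtype_range]
    exact subCoact_invSub_mem J hJn _ (fun a ha => mem_range_of_mem_coinvSub ψ J hJ a ha) u
  exact ⟨hU, corestrictComod (ψ : C →ₗc[k] A) hψ (subComod _ hU) h,
    fun u => lTensor_corestrictCoact (ψ : C →ₗc[k] A) hψ (subComod _ hU) h u⟩

end Extension

section Extension2

variable {k A : Type u} [Field k] [CommRing A] [HopfAlgebra k A]
  {C : Type u} [CommRing C] [HopfAlgebra k C]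

theorem invSub_ne_bot_of_isUnipotent (J : Ideal A) [J.IsHopfIdeal k]
    (hN : IsUnipotent k (A ⧸ J)) (V : Type u) [AddCommGroup V] [Module k V] [Comod k A V]
    (hfin : Module.Finite k V) (hnt : Nontrivial V) : invSub k J V ≠ ⊥ := by
  letI dV : Comod k (A ⧸ J) V :=
    comodAlongCoalg ((Bialgebra.Quotient.mkBialgHom (R := k) J : A →ₐc[k] A ⧸ J) : A →ₗc[k] A ⧸ J)
      inferInstance
  have h := hN V hfin hnt
  obtain ⟨v, hv, hv0⟩ := Submodule.exists_mem_ne_zero_of_ne_bot h
  intro hbot
  have hmem : v ∈ invSub k J V := by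
    rw [mem_invSub]
    exact (mem_fixedPts_iff v).mp hv
  rw [hbot, Submodule.mem_bot] at hmem
  exact hv0 hmem

/-- An extension of a unipotent group by a unipotent group is unipotent. -/
theorem isUnipotent_of_extension (ψ : C →ₐc[k] A) (hψ : Function.Injective ψ) (J : Ideal A)
    [J.IsHopfIdeal k]
    (hJ : J = Ideal.map (ψ : C →+* A) (RingHom.ker (Bialgebra.counitAlgHom k C)))
    (hC : IsUnipotent k C) (hN : IsUnipotent k (A ⧸ J)) : IsUnipotent k A := by
  intro V _ _ _ hfin hnt
  have hne := invSub_ne_bot_of_isUnipotent J hN V hfin hnt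
  obtain ⟨hU, d, hd⟩ := exists_comod_invSub V ψ hψ J hJ
  have hUnt : Nontrivial (invSub k J V) := Submodule.nontrivial_iff_ne_bot.mpr hne
  have h := @hC (invSub k J V) _ _ d inferInstance hUnt
  obtain ⟨u, hu, hu0⟩ := Submodule.exists_mem_ne_zero_of_ne_bot h
  intro hbot
  have hfix : (u : V) ∈ fixedPts k A V := by
    rw [mem_fixedPts_iff]
    have h1 := hd u
    have h2 : d.coact u = u ⊗ₜ[k] (1 : C) := hu
    rw [h2, LinearMap.lTensor_tmul] at h1
    have h3 := rTensor_subtype_subCoact (invSub k J V) hU u
    have h1' : subCoact (invSub k J V) hU u = u ⊗ₜ[k] ((ψ : C →ₗc[k] A) : C →ₗ[k] A) 1 := h1.symm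
    rw [h1', LinearMap.rTensor_tmul] at h3
    rw [← h3]
    change (u : V) ⊗ₜ[k] ψ 1 = _
    rw [map_one]
  rw [hbot, Submodule.mem_bot] at hfix
  exact hu0 (Subtype.ext hfix)

end Extension2

end Groth.Agent.Lib.Helper25
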