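import Groth.Agent.Lib.Helper25Shear
import Groth.Agent.Lib.Helper25UnipExt
import Groth.Agent.Lib.Helper25QuotLemma
import Groth.Agent.Lib.Helper25Unip
import Groth.Agent.Lib.Helper25CoFilt

/-!
# Primitive elements and unipotence (helper25)

* `isUnipotent_of_extension_sub`: unipotence from a unipotent Hopf subalgebra and a unipotent
  kernel (universe-general form).
* `IsPrim x`: `Δ x = x ⊗ 1 + 1 ⊗ x`; `isUnipotent_of_isPrim`: if `x` is primitive and `A / (x)`
  is unipotent then `A` is unipotent.
* `isUnipotent_of_forall_exists_primitive`: if every nontrivial Hopf quotient of a finitely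
  generated Hopf algebra has a nonzero primitive element, the Hopf algebra is unipotent.
* `exists_primitive_of_isUnipotent`, `forall_exists_primitive_of_isUnipotent`: the converse.
-/

set_option autoImplicit false
universe u v w w'

namespace Groth.Agent.Lib.Helper25

open TensorProduct HopfRep WithConv


section CoinvLemmaG

variable {k : Type u} [Field k] {A : Type v} [CommRing A] [HopfAlgebra k A] (B : Subalgebra k A)

/-- The canonical surjection `A ⊗[k] A → A ⊗[B] A`. -/
noncomputable def toTensorOverG : A ⊗[k] A →ₐ[k] A ⊗[↥B] A :=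
  Algebra.TensorProduct.lift (Algebra.TensorProduct.includeLeft : A →ₐ[k] A ⊗[↥B] A)
    ((Algebra.TensorProduct.includeRight : A →ₐ[↥B] A ⊗[↥B] A).restrictScalars k)
    (fun _ _ => .all ..)

theorem toTensorOverGG_tmul (a b : A) : toTensorOverG B (a ⊗ₜ[k] b) = a ⊗ₜ[↥B] b := by
  simp [toTensorOverG, Algebra.TensorProduct.tmul_mul_tmul]

/-- The two canonical points of `A` in `A ⊗[B] A`. -/
noncomputable def jLG : WithConv (A →ₐ[k] A ⊗[↥B] A) :=
  toConv (Algebra.TensorProduct.includeLeft : A →ₐ[k] A ⊗[↥B] A)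

noncomputable def jRG : WithConv (A →ₐ[k] A ⊗[↥B] A) :=
  toConv ((Algebra.TensorProduct.includeRight : A →ₐ[↥B] A ⊗[↥B] A).restrictScalars k)

theorem jRG_coe (b : ↥B) : (jRG B).ofConv (b : A) = (jLG B).ofConv (b : A) := by
  change (1 : A) ⊗ₜ[↥B] (b : A) = (b : A) ⊗ₜ[↥B] (1 : A)
  have e : (b : A) = b • (1 : A) := by rw [Subalgebra.smul_def, smul_eq_mul, mul_one]
  conv_lhs => rw [e]
  conv_rhs => rw [e]
  rw [TensorProduct.smul_tmul]

theorem jLGinv_mul_jRG_apply
    (hB : ∀ b ∈ B, CoalgebraStruct.comul (R := k) b ∈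
      LinearMap.range (TensorProduct.map B.val.toLinearMap B.val.toLinearMap))
    (b : A) (hb : b ∈ B) :
    ((jLG B)⁻¹ * jRG B).ofConv b =
      algebraMap k (A ⊗[↥B] A) (CoalgebraStruct.counit (R := k) b) := by
  have e1 := AlgHom.convMul_apply (jLG B)⁻¹ (jRG B) b
  change ((jLG B)⁻¹ * jRG B).ofConv b = _ at e1
  have e2 := AlgHom.convMul_apply (jLG B)⁻¹ (jLG B) b
  change ((jLG B)⁻¹ * jLG B).ofConv b = _ at e2
  rw [inv_mul_cancel] at e2
  rw [e1, ← convOne_apply', e2]
  obtain ⟨y, hy⟩ := hB b hb
  rw [← hy]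
  clear hy e1 e2
  induction y using TensorProduct.induction_on with
  | zero => simp
  | add x y hx hy => simp only [map_add, hx, hy]
  | tmul b' b'' =>
    simp only [TensorProduct.map_tmul, AlgHom.toLinearMap_apply, Subalgebra.coe_val,
      Algebra.TensorProduct.lift_tmul]
    rw [jRG_coe]

theorem toTensorOverGG_comp_shearInv_includeRight :
    (toTensorOverG B).comp ((shearInv (k := k) (A := A)).comp Algebra.TensorProduct.includeRight) =
      ((jLG B)⁻¹ * jRG B).ofConv := by
  rw [shearInv_comp_includeRight, AlgHom.comp_convMul_distrib]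
  have h1 : (toTensorOverG B).comp (Algebra.TensorProduct.includeLeft : A →ₐ[k] A ⊗[k] A) =
      (jLG B).ofConv := by
    apply AlgHom.ext
    intro a
    simp [toTensorOverG, jLG]
  have h2 : (toTensorOverG B).comp (Algebra.TensorProduct.includeRight : A →ₐ[k] A ⊗[k] A) =
      (jRG B).ofConv := by
    apply AlgHom.ext
    intro a
    simp [toTensorOverG, jRG]
  have h3 : toConv ((toTensorOverG B).comp
      ((toConv (Algebra.TensorProduct.includeLeft : A →ₐ[k] A ⊗[k] A))⁻¹).ofConv) =
      (jLG B)⁻¹ := by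
    rw [comp_convInv, ofConv_toConv, h1, toConv_ofConv]
  rw [h3, ofConv_toConv, h2, toConv_ofConv]

end CoinvLemmaG

section CoinvLemmaG2

variable {k : Type u} [Field k] {A : Type v} [CommRing A] [HopfAlgebra k A] (B : Subalgebra k A)

variable (k) in
/-- The ideal generated by the augmentation ideal of a subalgebra (universe-general copy of
`SGA3.augIdealSpan`). -/
def augSpanG : Ideal A :=
  Ideal.span {a : A | a ∈ B ∧ CoalgebraStruct.counit (R := k) (A := A) a = 0}

/-- `p ∘ Θ⁻¹` kills `A ⊗ J` for `J = A·B⁺`. -/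
theorem toTensorOverGG_shearInv_eq_zero
    (hB : ∀ b ∈ B, CoalgebraStruct.comul (R := k) b ∈
      LinearMap.range (TensorProduct.map B.val.toLinearMap B.val.toLinearMap))
    (z : A ⊗[k] A)
    (hz : z ∈ LinearMap.range
      (((augSpanG (k := k) B).restrictScalars k).subtype.lTensor A)) :
    toTensorOverG B (shearInv (k := k) z) = 0 := by
  set ψ : A →ₐ[k] A ⊗[↥B] A := (toTensorOverG B).comp
    ((shearInv (k := k) (A := A)).comp Algebra.TensorProduct.includeRight) with hψ
  have hψJ : ∀ j ∈ augSpanG (k := k) B, ψ j = 0 := by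
    have : augSpanG (k := k) B ≤ RingHom.ker (ψ : A →+* A ⊗[↥B] A) := by
      unfold augSpanG
      rw [Ideal.span_le]
      rintro b ⟨hb, hε⟩
      rw [SetLike.mem_coe, RingHom.mem_ker]
      change ψ b = 0
      rw [hψ, toTensorOverGG_comp_shearInv_includeRight, jLGinv_mul_jRG_apply B hB b hb, hε, map_zero]
    intro j hj
    exact this hj
  obtain ⟨z', rfl⟩ := hz
  induction z' using TensorProduct.induction_on with
  | zero => simp
  | add x y hx hy => simp only [map_add, hx, hy, add_zero]
  | tmul a j =>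
    rw [LinearMap.lTensor_tmul, Submodule.subtype_apply]
    have e : (a ⊗ₜ[k] ((j : A)) : A ⊗[k] A) =
        (a ⊗ₜ[k] (1 : A)) * ((1 : A) ⊗ₜ[k] (j : A)) := by
      rw [Algebra.TensorProduct.tmul_mul_tmul, mul_one, one_mul]
    rw [e, map_mul, map_mul]
    have : toTensorOverG B (shearInv (k := k) ((1 : A) ⊗ₜ[k] (j : A))) = ψ (j : A) := rfl
    rw [this, hψJ _ j.2, mul_zero]

/-- Coinvariants of `A` under `A/AB⁺` lie in `B` (faithfully flat descent). -/
theorem mem_of_comul_sub_memG
    (hB : ∀ b ∈ B, CoalgebraStruct.comul (R := k) b ∈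
      LinearMap.range (TensorProduct.map B.val.toLinearMap B.val.toLinearMap))
    (hS : ∀ b ∈ B, HopfAlgebra.antipode k b ∈ B) (x : A)
    (hx : CoalgebraStruct.comul (R := k) x - x ⊗ₜ[k] (1 : A) ∈ LinearMap.range
      (((augSpanG (k := k) B).restrictScalars k).subtype.lTensor A)) : x ∈ B := by
  haveI : Module.FaithfullyFlat ↥B A := faithfullyFlat_of_isHopfSubalgebra B hB hS
  have h1 := toTensorOverGG_shearInv_eq_zero B hB _ hx
  have h2 : CoalgebraStruct.comul (R := k) x - x ⊗ₜ[k] (1 : A) =
      shear (k := k) ((1 : A) ⊗ₜ[k] x - x ⊗ₜ[k] (1 : A)) := by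
    rw [map_sub, shear_tmul, shear_tmul, Bialgebra.comul_one, ← Algebra.TensorProduct.one_def,
      one_mul, mul_one]
  rw [h2, shearInv_shear, map_sub, toTensorOverGG_tmul, toTensorOverGG_tmul, sub_eq_zero] at h1
  obtain ⟨r, hr⟩ := mem_range_algebraMap_of_tmul_eq ↥B A x h1.symm
  rw [← hr]
  exact r.2


end CoinvLemmaG2



section ExtSub

variable {k : Type u} [Field k] {A : Type v} [CommRing A] [HopfAlgebra k A]

theorem range_lTensor_eq_kerG (J : Ideal A) :
    LinearMap.range ((J.restrictScalars k).subtype.lTensor A) =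
    LinearMap.ker ((Ideal.Quotient.mkₐ k J).toLinearMap.lTensor A) := by
  set q := (Ideal.Quotient.mkₐ k J).toLinearMap with hq
  have hker : LinearMap.ker q = J.restrictScalars k := by
    ext x
    simp [hq, Ideal.Quotient.eq_zero_iff_mem]
  have hex : Function.Exact (J.restrictScalars k).subtype q := by
    rw [← hker]
    exact LinearMap.exact_subtype_ker_map q
  have := lTensor_exact A hex Ideal.Quotient.mk_surjective
  exact (LinearMap.exact_iff.mp this).symm

theorem range_lTensor_mono {J J' : Ideal A} (h : J ≤ J') :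
    LinearMap.range ((J.restrictScalars k).subtype.lTensor A) ≤
      LinearMap.range ((J'.restrictScalars k).subtype.lTensor A) := by
  have e : (J.restrictScalars k).subtype =
      (J'.restrictScalars k).subtype ∘ₗ Submodule.inclusion (show J.restrictScalars k ≤
        J'.restrictScalars k from fun x hx => h hx) := by
    apply LinearMap.ext
    intro x
    rfl
  rw [e, LinearMap.lTensor_comp]
  exact LinearMap.range_comp_le_range _ _

variable (V : Type w) [AddCommGroup V] [Module k V] [Comod k A V]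

/-- The vectors all of whose coefficients lie in a given subspace of `A`. -/
def coeffSub (S : Submodule k A) : Submodule k V :=
  (LinearMap.range (S.subtype.lTensor V)).comap (Comod.coact (k := k) (A := A))

variable {V}

theorem mem_coeffSub_iff (S : Submodule k A) (v : V) :
    v ∈ coeffSub V S ↔ ∀ l : V →ₗ[k] k, coeffMap (A := A) l v ∈ S := by
  unfold coeffSub
  rw [Submodule.mem_comap, mem_range_lTensor_subtype_iff]
  rfl

theorem isSubcomod_coeffSub (S : Submodule k A)
    (hS : ∀ b ∈ S, CoalgebraStruct.comul (R := k) b ∈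
      LinearMap.range (TensorProduct.map S.subtype S.subtype)) :
    IsSubcomod (k := k) (A := A) (coeffSub V S) := by
  rw [isSubcomod_iff]
  intro φ u hu
  rw [mem_coeffSub_iff] at hu ⊢
  intro l
  rw [← T_coeffMap, T_apply]
  obtain ⟨y, hy⟩ := hS _ (hu l)
  change slice A φ (CoalgebraStruct.comul (R := k) (coeffMap (A := A) l u)) ∈ S
  rw [← hy, slice_map]
  exact (slice S (φ ∘ₗ S.subtype) y).2

/-- The coefficients of the subcomodule `coeffSub V S` lie in `S`. -/
theorem coeffMap_subComod_coeffSub_mem (S : Submodule k A)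
    (hU : IsSubcomod (k := k) (A := A) (coeffSub V S)) (u : coeffSub V S)
    (l' : coeffSub V S →ₗ[k] k) :
    @coeffMap k _ A _ _ _ (coeffSub V S) _ _ (subComod _ hU) l' u ∈ S := by
  obtain ⟨l, hl⟩ := LinearMap.exists_extend l'
  have h1 := (mem_coeffSub_iff S (u : V)).mp u.2 l
  rw [coeffMap_apply, ← rTensor_subtype_subCoact (coeffSub V S) hU u, lslice_rTensor, hl] at h1
  exact h1

/-- Vectors invariant under the subgroup cut out by `J ⊆ A·S⁺` have their coefficients in the
Hopf subalgebra `S`. -/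
theorem mem_coeffSub_of_invariant (S : Subalgebra k A)
    (hB : ∀ b ∈ S, CoalgebraStruct.comul (R := k) b ∈
      LinearMap.range (TensorProduct.map S.val.toLinearMap S.val.toLinearMap))
    (hS : ∀ b ∈ S, HopfAlgebra.antipode k b ∈ S)
    (J : Ideal A) (hJ : J ≤ augSpanG k S) (v : V)
    (hv : (Ideal.Quotient.mkₐ k J).toLinearMap.lTensor V (Comod.coact (k := k) (A := A) v) =
      v ⊗ₜ[k] (1 : A ⧸ J)) :
    v ∈ coeffSub V (Subalgebra.toSubmodule S) := by
  rw [mem_coeffSub_iff]
  intro l
  apply mem_of_comul_sub_memG S hB hS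
  apply range_lTensor_mono hJ
  rw [range_lTensor_eq_kerG, LinearMap.mem_ker, map_sub, sub_eq_zero, LinearMap.lTensor_tmul]
  have h1 := isComodHom_apply (isComodHom_coeffMap (A := A) l) v
  change CoalgebraStruct.comul (R := k) (coeffMap (A := A) l v) = _ at h1
  rw [h1, lTensor_rTensor_comm', hv, LinearMap.rTensor_tmul]
  rfl

end ExtSub



section ExtSub2

variable {k : Type u} [Field k] {A : Type v} [CommRing A] [HopfAlgebra k A]

/-- Extension theorem, Hopf-subalgebra form: if `A/J` is unipotent for a Hopf ideal `J ⊆ A·S⁺`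
and every representation with coefficients in the Hopf subalgebra `S` has a fixed vector, then
`A` is unipotent. -/
theorem isUnipotent_of_extension_sub (S : Subalgebra k A)
    (hB : ∀ b ∈ S, CoalgebraStruct.comul (R := k) b ∈
      LinearMap.range (TensorProduct.map S.val.toLinearMap S.val.toLinearMap))
    (hS : ∀ b ∈ S, HopfAlgebra.antipode k b ∈ S)
    (J : Ideal A) [J.IsHopfIdeal k] (hJ : J ≤ augSpanG k S)
    (hN : IsUnipotent k (A ⧸ J))
    (hSU : ∀ (V : Type v) [AddCommGroup V] [Module k V] [Comod k A V], Module.Finite k V →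
      Nontrivial V → (∀ (v : V) (l : V →ₗ[k] k), coeffMap (A := A) l v ∈ S) →
      fixedPts k A V ≠ ⊥) :
    IsUnipotent k A := by
  intro V _ _ cV hfin hnt
  -- a nonzero vector fixed by the subgroup
  letI dV : Comod k (A ⧸ J) V :=
    comodAlongCoalg ((Bialgebra.Quotient.mkBialgHom (R := k) J : A →ₐc[k] A ⧸ J) : A →ₗc[k] A ⧸ J)
      cV
  obtain ⟨v, hv, hv0⟩ := Submodule.exists_mem_ne_zero_of_ne_bot (hN V hfin hnt)
  have hv' : (Ideal.Quotient.mkₐ k J).toLinearMap.lTensor V (cV.coact v) =
      v ⊗ₜ[k] (1 : A ⧸ J) := (mem_fixedPts_iff v).mp hv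
  have hvU := mem_coeffSub_of_invariant S hB hS J hJ v hv'
  set U := coeffSub V (Subalgebra.toSubmodule S) with hUdef
  have hSsub : ∀ b ∈ Subalgebra.toSubmodule S, CoalgebraStruct.comul (R := k) b ∈
      LinearMap.range (TensorProduct.map (Subalgebra.toSubmodule S).subtype
        (Subalgebra.toSubmodule S).subtype) := hB
  have hU : IsSubcomod (k := k) (A := A) U := isSubcomod_coeffSub _ hSsub
  letI cU : Comod k A U := subComod U hU
  have hUnt : Nontrivial U := ⟨⟨⟨v, hvU⟩, 0, fun h => hv0 (congrArg Subtype.val h)⟩⟩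
  haveI : Module.Finite k V := hfin
  have hUfin : Module.Finite k U := inferInstance
  have h := hSU U hUfin hUnt (fun u l' => coeffMap_subComod_coeffSub_mem _ hU u l')
  obtain ⟨u, hu, hu0⟩ := Submodule.exists_mem_ne_zero_of_ne_bot h
  intro hbot
  have hfix : (u : V) ∈ fixedPts k A V := by
    rw [mem_fixedPts_iff]
    have h3 := rTensor_subtype_subCoact U hU u
    have h1' : subCoact U hU u = u ⊗ₜ[k] (1 : A) := (mem_fixedPts_iff u).mp hu
    rw [h1', LinearMap.rTensor_tmul] at h3
    exact h3.symm
  rw [hbot, Submodule.mem_bot] at hfix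
  exact hu0 (Subtype.ext hfix)

end ExtSub2



section Primitive

variable {k : Type u} [Field k] {A : Type v} [CommRing A] [HopfAlgebra k A]

/-- `x` is a primitive element. -/
def IsPrim (x : A) : Prop :=
  CoalgebraStruct.comul (R := k) x = x ⊗ₜ[k] (1 : A) + (1 : A) ⊗ₜ[k] x

theorem IsPrim.counit_eq_zero {x : A} (hx : IsPrim (k := k) x) :
    CoalgebraStruct.counit (R := k) x = 0 := by
  have h := Coalgebra.rTensor_counit_comul (R := k) x
  rw [hx, map_add, LinearMap.rTensor_tmul, LinearMap.rTensor_tmul, Bialgebra.counit_one,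
    add_eq_right] at h
  have h2 := congrArg (TensorProduct.lid k A) h
  rw [TensorProduct.lid_tmul, map_zero] at h2
  have h3 := congrArg (CoalgebraStruct.counit (R := k) (A := A)) h2
  rw [map_smul, Bialgebra.counit_one, smul_eq_mul, mul_one, map_zero] at h3
  exact h3

theorem IsPrim.antipode_eq {x : A} (hx : IsPrim (k := k) x) :
    HopfAlgebra.antipode k x = -x := by
  have h := HopfAlgebra.mul_antipode_rTensor_comul_apply (R := k) x
  rw [hx, map_add, LinearMap.rTensor_tmul, LinearMap.rTensor_tmul, map_add,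
    LinearMap.mul'_apply, LinearMap.mul'_apply, HopfAlgebra.antipode_one, mul_one, one_mul,
    hx.counit_eq_zero, map_zero] at h
  exact eq_neg_of_add_eq_zero_left h

/-- `Δ(x^n)` for a primitive element. -/
theorem IsPrim.comul_pow {x : A} (hx : IsPrim (k := k) x) (n : ℕ) :
    CoalgebraStruct.comul (R := k) (x ^ n) =
      ∑ m ∈ Finset.range (n + 1), (n.choose m : k) • ((x ^ m) ⊗ₜ[k] (x ^ (n - m))) := by
  have h1 : CoalgebraStruct.comul (R := k) (x ^ n) =
      (x ⊗ₜ[k] (1 : A) + (1 : A) ⊗ₜ[k] x) ^ n := by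
    rw [← hx]
    exact map_pow (Bialgebra.comulAlgHom k A) x n
  rw [h1, (Commute.all _ _).add_pow]
  refine Finset.sum_congr rfl (fun m _ => ?_)
  rw [Algebra.TensorProduct.tmul_pow, Algebra.TensorProduct.tmul_pow, one_pow, one_pow,
    Algebra.TensorProduct.tmul_mul_tmul, mul_one, one_mul, mul_comm, Nat.cast_smul_eq_nsmul k,
    nsmul_eq_mul]

end Primitive



section PowSpan

variable {k : Type u} [Field k] {A : Type v} [CommRing A] [HopfAlgebra k A]

variable (k) in
/-- The span of the powers `x^i`, `i ≤ r`. -/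
def powSpan (x : A) (r : ℕ) : Submodule k A :=
  Submodule.span k {a | ∃ i ≤ r, a = x ^ i}

theorem pow_mem_powSpan (x : A) {i r : ℕ} (h : i ≤ r) : x ^ i ∈ powSpan k x r :=
  Submodule.subset_span ⟨i, h, rfl⟩

theorem isCoFilt_powSpan {x : A} (hx : IsPrim (k := k) x) : IsCoFilt (powSpan k x) where
  mono := by
    intro r s hrs
    apply Submodule.span_mono
    rintro a ⟨i, hi, rfl⟩
    exact ⟨i, le_trans hi hrs, rfl⟩
  zero := by
    unfold powSpan
    congr 1
    ext a
    constructor
    · rintro ⟨i, hi, rfl⟩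
      have : i = 0 := by omega
      subst this
      simp
    · intro ha
      rw [Set.mem_singleton_iff] at ha
      exact ⟨0, le_rfl, by rw [ha, pow_zero]⟩
  comul := by
    intro r
    unfold powSpan
    rw [Submodule.map_span, Submodule.span_le]
    rintro _ ⟨_, ⟨j, hj, rfl⟩, rfl⟩
    rw [SetLike.mem_coe, hx.comul_pow]
    refine Submodule.sum_mem _ (fun m hm => ?_)
    apply Submodule.smul_mem
    have hmr : m ∈ Finset.range (r + 1) := by
      rw [Finset.mem_range] at hm ⊢
      omega
    apply Submodule.mem_iSup_of_mem m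
    apply Submodule.mem_iSup_of_mem hmr
    refine ⟨(⟨x ^ m, pow_mem_powSpan x le_rfl⟩ : powSpan k x m) ⊗ₜ[k]
      (⟨x ^ (j - m), pow_mem_powSpan x (by omega)⟩ : powSpan k x (r - m)), ?_⟩
    simp [TensorProduct.mapIncl]

theorem adjoin_le_iSup_powSpan (x : A) :
    Subalgebra.toSubmodule (Algebra.adjoin k {x}) ≤ ⨆ r, powSpan k x r := by
  rw [Algebra.adjoin_eq_span, Submodule.span_le, Submonoid.closure_singleton_eq]
  rintro _ ⟨i, rfl⟩
  exact Submodule.mem_iSup_of_mem i (pow_mem_powSpan x le_rfl)

/-- The subalgebra generated by a primitive element is a Hopf subalgebra. -/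
theorem comul_mem_adjoin_of_isPrim {x : A} (hx : IsPrim (k := k) x) :
    ∀ b ∈ Algebra.adjoin k {x}, CoalgebraStruct.comul (R := k) b ∈
      LinearMap.range (TensorProduct.map (Algebra.adjoin k {x}).val.toLinearMap
        (Algebra.adjoin k {x}).val.toLinearMap) := by
  set S := Algebra.adjoin k {x} with hS
  have hxS : x ∈ S := Algebra.subset_adjoin rfl
  let R : Subalgebra k (A ⊗[k] A) := (Algebra.TensorProduct.map S.val S.val).range
  have hle : S ≤ R.comap (Bialgebra.comulAlgHom k A) := by
    rw [hS, Algebra.adjoin_le_iff]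
    intro a ha
    rw [Set.mem_singleton_iff] at ha
    subst ha
    change CoalgebraStruct.comul (R := k) a ∈ R
    rw [hx]
    refine ⟨(⟨a, hxS⟩ : S) ⊗ₜ[k] (1 : S) + (1 : S) ⊗ₜ[k] (⟨a, hxS⟩ : S), ?_⟩
    simp
  intro b hb
  obtain ⟨y, hy⟩ := hle hb
  exact ⟨y, hy⟩

theorem antipode_mem_adjoin_of_isPrim {x : A} (hx : IsPrim (k := k) x) :
    ∀ b ∈ Algebra.adjoin k {x}, HopfAlgebra.antipode k b ∈ Algebra.adjoin k {x} := by
  set S := Algebra.adjoin k {x} with hS
  have hxS : x ∈ S := Algebra.subset_adjoin rfl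
  have hle : S ≤ S.comap (HopfAlgebra.antipodeAlgHom k A) := by
    conv_lhs => rw [hS]
    rw [Algebra.adjoin_le_iff]
    intro a ha
    rw [Set.mem_singleton_iff] at ha
    subst ha
    change HopfAlgebra.antipode k a ∈ S
    rw [hx.antipode_eq]
    exact S.neg_mem hxS
  intro b hb
  exact hle hb

end PowSpan



section PrimExt

variable {k : Type u} [Field k] {A : Type v} [CommRing A] [HopfAlgebra k A]

theorem isHopfIdeal_span_of_isPrim {x : A} (hx : IsPrim (k := k) x) :
    (Ideal.span {x}).IsHopfIdeal k := by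
  have hxJ : x ∈ (Ideal.span ({x} : Set A)).restrictScalars k := Ideal.subset_span rfl
  apply isHopfIdeal_span_of
  · intro s hs
    rw [Set.mem_singleton_iff] at hs
    rw [hs]
    exact hx.counit_eq_zero
  · intro s hs
    rw [Set.mem_singleton_iff] at hs
    subst hs
    rw [hx]
    apply Submodule.add_mem
    · apply Submodule.mem_sup_right
      exact ⟨(⟨s, hxJ⟩ : (Ideal.span ({s} : Set A)).restrictScalars k) ⊗ₜ[k] (1 : A), by simp⟩
    · apply Submodule.mem_sup_left
      exact ⟨(1 : A) ⊗ₜ[k] (⟨s, hxJ⟩ : (Ideal.span ({s} : Set A)).restrictScalars k), by simp⟩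
  · intro s hs
    rw [Set.mem_singleton_iff] at hs
    subst hs
    rw [hx.antipode_eq]
    exact (Ideal.span {s}).neg_mem (Ideal.subset_span rfl)

/-- If `x` is a primitive element and the kernel of `x : G → 𝔾_a` is unipotent, then `G` is
unipotent. -/
theorem isUnipotent_of_isPrim {x : A} (hx : IsPrim (k := k) x)
    [(Ideal.span ({x} : Set A)).IsHopfIdeal k]
    (hN : IsUnipotent k (A ⧸ Ideal.span ({x} : Set A))) : IsUnipotent k A := by
  apply isUnipotent_of_extension_sub (Algebra.adjoin k {x}) (comul_mem_adjoin_of_isPrim hx)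
    (antipode_mem_adjoin_of_isPrim hx) (Ideal.span {x}) ?_ hN
  · intro V _ _ _ hfin hnt hV
    haveI := hfin
    haveI := hnt
    exact fixedPts_ne_bot_of_cofilt (isCoFilt_powSpan hx)
      (fun v l => adjoin_le_iSup_powSpan x (hV v l))
  · apply Ideal.span_mono
    intro a ha
    rw [Set.mem_singleton_iff] at ha
    subst ha
    exact ⟨Algebra.subset_adjoin rfl, hx.counit_eq_zero⟩

end PrimExt



section Noeth

variable {k : Type u} [Field k] {A : Type v} [CommRing A] [HopfAlgebra k A]
  {B : Type v} [CommRing B] [HopfAlgebra k B]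

/-- A bialgebra all of whose elements are scalars is unipotent. -/
theorem isUnipotent_of_forall_eq_smul_one {B : Type v} [CommRing B] [Bialgebra k B]
    (h : ∀ b : B, ∃ c : k, c • (1 : B) = b) : IsUnipotent k B := by
  intro V _ _ _ hfin hnt
  obtain ⟨v, hv⟩ := exists_ne (0 : V)
  intro hbot
  have hfix : v ∈ fixedPts k B V := by
    apply mem_fixedPts_of_coeff_mem_span_one
    intro l
    exact Submodule.mem_span_singleton.mpr (h _)
  rw [hbot, Submodule.mem_bot] at hfix
  exact hv hfix

/-- The kernel of a surjective bialgebra map between Hopf algebras is a Hopf ideal. -/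
theorem isHopfIdeal_ker_of_surjective (π : A →ₐc[k] B) (hπ : Function.Surjective π) :
    (RingHom.ker (π : A →+* B)).IsHopfIdeal k := by
  set I : Ideal A := RingHom.ker (π : A →+* B) with hI
  set q : A →ₗ[k] B := ((π : A →ₗc[k] B) : A →ₗ[k] B) with hq
  have hker : LinearMap.ker q = I.restrictScalars k := by
    ext x
    rfl
  have hco : (I.restrictScalars k).IsCoideal := by
    rw [Submodule.isCoideal_iff_comul_mem]
    constructor
    · intro x hx
      have hx' : π x = 0 := hx
      have h1 : CoalgebraStruct.counit (R := k) (π x) = CoalgebraStruct.counit (R := k) x :=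
        CoalgHomClass.counit_comp_apply π x
      rw [← h1, hx', map_zero]
    · intro x hx
      have hx' : π x = 0 := hx
      have hN := TensorProduct.map_ker (LinearMap.exact_subtype_ker_map q) hπ
        (LinearMap.exact_subtype_ker_map q) hπ
      rw [hker] at hN
      rw [← hN, LinearMap.mem_ker]
      have h1 : TensorProduct.map q q (CoalgebraStruct.comul (R := k) x) =
          CoalgebraStruct.comul (R := k) (π x) := CoalgHomClass.map_comp_comul_apply π x
      rw [h1, hx', map_zero]
  refine { hco with antipode_mem := ?_ }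
  intro x hx
  have hx' : π x = 0 := hx
  change π (HopfAlgebra.antipode k x) = 0
  rw [bialgHom_antipode, hx', map_zero]

end Noeth



section Noeth2

variable {k : Type u} [Field k] {A : Type v} [CommRing A] [HopfAlgebra k A]

/-- Transfer of a primitive element of `A / ker π` to the image `B` of `π`. -/
theorem exists_isPrim_of_quotient {B : Type v} [CommRing B] [HopfAlgebra k B] (π : A →ₐc[k] B)
    [(RingHom.ker (π : A →+* B)).IsHopfIdeal k]
    (h : ∃ x : A ⧸ RingHom.ker (π : A →+* B), x ≠ 0 ∧
      CoalgebraStruct.comul (R := k) x = x ⊗ₜ[k] (1 : A ⧸ RingHom.ker (π : A →+* B)) +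
        (1 : A ⧸ RingHom.ker (π : A →+* B)) ⊗ₜ[k] x) :
    ∃ a : A, π a ≠ 0 ∧ IsPrim (k := k) (π a) := by
  obtain ⟨x, hx0, hx⟩ := h
  obtain ⟨a, rfl⟩ := Ideal.Quotient.mk_surjective x
  set I := RingHom.ker (π : A →+* B) with hI
  refine ⟨a, ?_, ?_⟩
  · intro h0
    apply hx0
    exact (Ideal.Quotient.eq_zero_iff_mem).mpr h0
  · let ι : A ⧸ I →ₐ[k] B := Ideal.Quotient.liftₐ I (π : A →ₐ[k] B) (fun a ha => ha)
    have hι : ∀ a : A, ι (Ideal.Quotient.mk I a) = π a := fun a => rfl
    have h1 : CoalgebraStruct.comul (R := k) (Ideal.Quotient.mk I a) =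
        TensorProduct.map (Ideal.Quotient.mkₐ k I).toLinearMap (Ideal.Quotient.mkₐ k I).toLinearMap
          (CoalgebraStruct.comul (R := k) a) :=
      (CoalgHomClass.map_comp_comul_apply (Bialgebra.Quotient.mkBialgHom (R := k) I) a).symm
    have h2 : TensorProduct.map ι.toLinearMap ι.toLinearMap
        (CoalgebraStruct.comul (R := k) (Ideal.Quotient.mk I a)) =
        CoalgebraStruct.comul (R := k) (π a) := by
      rw [h1, ← LinearMap.comp_apply, ← TensorProduct.map_comp]
      exact CoalgHomClass.map_comp_comul_apply π a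
    unfold IsPrim
    rw [← h2, hx, map_add, TensorProduct.map_tmul, TensorProduct.map_tmul]
    simp only [AlgHom.toLinearMap_apply, map_one]
    rfl

/-- If every nontrivial Hopf quotient of `A` has a nonzero primitive element, `A` is
unipotent. -/
theorem isUnipotent_of_forall_exists_primitive [Algebra.FiniteType k A]
    (H : ∀ (I : Ideal A) [I.IsHopfIdeal k], I ≠ RingHom.ker (Bialgebra.counitAlgHom k A) →
      ∃ x : A ⧸ I, x ≠ 0 ∧
        CoalgebraStruct.comul (R := k) x = x ⊗ₜ[k] (1 : A ⧸ I) + (1 : A ⧸ I) ⊗ₜ[k] x) :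
    IsUnipotent k A := by
  haveI : IsNoetherianRing A := Algebra.FiniteType.isNoetherianRing k A
  suffices hQ : ∀ I : Ideal A, ∀ (B : Type v) [CommRing B] [HopfAlgebra k B] (π : A →ₐc[k] B),
      Function.Surjective π → RingHom.ker (π : A →+* B) = I → IsUnipotent k B by
    exact hQ ⊥ A (BialgHom.id k A) Function.surjective_id
      ((RingHom.injective_iff_ker_eq_bot _).mp Function.injective_id)
  intro I
  induction I using WellFoundedGT.induction with
  | ind I ih =>
    intro B _ _ π hπ hker
    by_cases hI : I = RingHom.ker (Bialgebra.counitAlgHom k A)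
    · apply isUnipotent_of_forall_eq_smul_one
      intro b
      obtain ⟨a, rfl⟩ := hπ b
      refine ⟨CoalgebraStruct.counit (R := k) a, ?_⟩
      have hmem : a - algebraMap k A (CoalgebraStruct.counit (R := k) a) ∈
          RingHom.ker (π : A →+* B) := by
        rw [hker, hI, RingHom.mem_ker, map_sub]
        simp
      have h0 : π (a - algebraMap k A (CoalgebraStruct.counit (R := k) a)) = 0 := hmem
      rw [map_sub, sub_eq_zero] at h0
      rw [h0, Algebra.algebraMap_eq_smul_one, map_smul, map_one]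
    · haveI hHI : (RingHom.ker (π : A →+* B)).IsHopfIdeal k := isHopfIdeal_ker_of_surjective π hπ
      have hne : RingHom.ker (π : A →+* B) ≠ RingHom.ker (Bialgebra.counitAlgHom k A) := by
        rw [hker]; exact hI
      obtain ⟨a, ha0, hprim⟩ := exists_isPrim_of_quotient π (H _ hne)
      haveI := isHopfIdeal_span_of_isPrim hprim
      apply isUnipotent_of_isPrim hprim
      set J : Ideal B := Ideal.span {π a} with hJ
      let π' : A →ₐc[k] B ⧸ J := (Bialgebra.Quotient.mkBialgHom (R := k) J).comp π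
      have hπ' : Function.Surjective π' := by
        intro y
        obtain ⟨b, rfl⟩ := Ideal.Quotient.mk_surjective y
        obtain ⟨a', rfl⟩ := hπ b
        exact ⟨a', rfl⟩
      apply ih (RingHom.ker (π' : A →+* B ⧸ J)) ?_ (B ⧸ J) π' hπ' rfl
      rw [← hker]
      refine lt_of_le_of_ne ?_ ?_
      · intro y hy
        have hy' : π y = 0 := hy
        change Ideal.Quotient.mk J (π y) = 0
        rw [hy', map_zero]
      · intro heq
        apply ha0
        have : a ∈ RingHom.ker (π' : A →+* B ⧸ J) := by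
          change Ideal.Quotient.mk J (π a) = 0
          exact (Ideal.Quotient.eq_zero_iff_mem).mpr (Ideal.subset_span rfl)
        rw [← heq] at this
        exact this

end Noeth2



section PrimExists

variable {k : Type u} [Field k] {B : Type v} [CommRing B] [Bialgebra k B]

theorem exists_eq_one_tmul_of_mem_range (z : B ⊗[k] B)
    (hz : z ∈ LinearMap.range ((Submodule.span k {(1 : B)}).subtype.rTensor B)) :
    ∃ y : B, z = (1 : B) ⊗ₜ[k] y := by
  obtain ⟨t, rfl⟩ := hz
  induction t using TensorProduct.induction_on with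
  | zero => exact ⟨0, by simp⟩
  | add x y hx hy =>
    obtain ⟨a, ha⟩ := hx
    obtain ⟨b, hb⟩ := hy
    exact ⟨a + b, by rw [map_add, ha, hb, TensorProduct.tmul_add]⟩
  | tmul s b =>
    obtain ⟨c, hc⟩ := Submodule.mem_span_singleton.mp s.2
    refine ⟨c • b, ?_⟩
    rw [LinearMap.rTensor_tmul, Submodule.subtype_apply, ← hc, TensorProduct.smul_tmul]

/-- If `Δ w - w ⊗ 1 ∈ k·1 ⊗ B` then `w - ε(w)` is primitive. -/
theorem comul_sub_counit_of_comul_sub_mem (w : B)
    (hw : CoalgebraStruct.comul (R := k) w - w ⊗ₜ[k] (1 : B) ∈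
      LinearMap.range ((Submodule.span k {(1 : B)}).subtype.rTensor B)) :
    CoalgebraStruct.comul (R := k) (w - CoalgebraStruct.counit (R := k) w • (1 : B)) =
      (w - CoalgebraStruct.counit (R := k) w • (1 : B)) ⊗ₜ[k] (1 : B) +
        (1 : B) ⊗ₜ[k] (w - CoalgebraStruct.counit (R := k) w • (1 : B)) := by
  obtain ⟨y, hy⟩ := exists_eq_one_tmul_of_mem_range _ hw
  have hΔ : CoalgebraStruct.comul (R := k) w = w ⊗ₜ[k] (1 : B) + (1 : B) ⊗ₜ[k] y := by
    rw [← hy]; abel
  have h1 := Coalgebra.rTensor_counit_comul (R := k) w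
  rw [hΔ, map_add, LinearMap.rTensor_tmul, LinearMap.rTensor_tmul, Bialgebra.counit_one] at h1
  have h2 := congrArg (TensorProduct.lid k B) h1
  rw [map_add, TensorProduct.lid_tmul, TensorProduct.lid_tmul, TensorProduct.lid_tmul,
    one_smul, one_smul] at h2
  have hyw : y = w - CoalgebraStruct.counit (R := k) w • (1 : B) :=
    eq_sub_of_add_eq' h2
  rw [map_sub, map_smul, Bialgebra.comul_one, hΔ, hyw]
  simp only [TensorProduct.sub_tmul, TensorProduct.tmul_sub, TensorProduct.smul_tmul',
    TensorProduct.tmul_smul, Algebra.TensorProduct.one_def]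
  abel

end PrimExists



section PrimExists2

variable {k : Type u} [Field k] {B : Type v} [CommRing B] [Bialgebra k B]

/-- A unipotent bialgebra that is not just the scalars contains a nonzero primitive element. -/
theorem exists_primitive_of_isUnipotent (hU : IsUnipotent k B) (b : B)
    (hb : b ∉ Submodule.span k {(1 : B)}) :
    ∃ x : B, x ≠ 0 ∧
      CoalgebraStruct.comul (R := k) x = x ⊗ₜ[k] (1 : B) + (1 : B) ⊗ₜ[k] x := by
  classical
  obtain ⟨W, hWfg, hWsub, hbW⟩ := exists_fg_subcomod_mem (k := k) (A := B) (V := B) b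
  letI := subComod W hWsub
  haveI : Module.Finite k W := Module.Finite.iff_fg.mpr hWfg
  obtain ⟨m, F, hmono, h0, hm, hsub, hgr⟩ := exists_trivFlag hU W inferInstance
  have hex : ∃ i, ¬ (F i).map W.subtype ≤ Submodule.span k {(1 : B)} := by
    refine ⟨m, fun hle => hb (hle ?_)⟩
    rw [hm]
    exact ⟨⟨b, hbW⟩, Submodule.mem_top, rfl⟩
  set i := Nat.find hex with hi
  have hi1 : ¬ (F i).map W.subtype ≤ Submodule.span k {(1 : B)} := Nat.find_spec hex
  have hipos : i ≠ 0 := by
    intro h
    rw [h, h0, Submodule.map_bot] at hi1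
    exact hi1 bot_le
  obtain ⟨j, hj⟩ := Nat.exists_eq_succ_of_ne_zero hipos
  have hjle : (F j).map W.subtype ≤ Submodule.span k {(1 : B)} := by
    by_contra hne
    have := Nat.find_min' hex hne
    omega
  rw [hj] at hi1
  obtain ⟨w', hw', hw'n⟩ := SetLike.not_le_iff_exists.mp hi1
  obtain ⟨w, hwF, rfl⟩ := hw'
  have h1 := hgr j w hwF
  have h2 : CoalgebraStruct.comul (R := k) (w : B) - (w : B) ⊗ₜ[k] (1 : B) ∈
      LinearMap.range ((Submodule.span k {(1 : B)}).subtype.rTensor B) := by
    obtain ⟨y, hy⟩ := h1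
    have h3 : W.subtype.rTensor B (Comod.coact (k := k) (A := B) w - w ⊗ₜ[k] (1 : B)) =
        CoalgebraStruct.comul (R := k) (w : B) - (w : B) ⊗ₜ[k] (1 : B) := by
      rw [map_sub, LinearMap.rTensor_tmul]
      congr 1
      exact rTensor_subtype_subCoact W hWsub w
    rw [← h3, ← hy]
    clear hy h3
    induction y using TensorProduct.induction_on with
    | zero => simp
    | add x y hx hy => rw [map_add, map_add]; exact Submodule.add_mem _ hx hy
    | tmul f a =>
      rw [LinearMap.rTensor_tmul, LinearMap.rTensor_tmul]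
      have hf : ((f : W) : B) ∈ Submodule.span k {(1 : B)} :=
        hjle ⟨(f : W), f.2, rfl⟩
      exact ⟨(⟨((f : W) : B), hf⟩ : Submodule.span k {(1 : B)}) ⊗ₜ[k] a, by
        rw [LinearMap.rTensor_tmul]; rfl⟩
  refine ⟨(w : B) - CoalgebraStruct.counit (R := k) (w : B) • (1 : B), ?_,
    comul_sub_counit_of_comul_sub_mem (w : B) h2⟩
  intro h0'
  apply hw'n
  rw [sub_eq_zero] at h0'
  change (w : B) ∈ Submodule.span k {(1 : B)}
  rw [h0']
  exact Submodule.smul_mem _ _ (Submodule.subset_span rfl)

end PrimExists2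



section PrimExists3

variable {k : Type u} [Field k] {A : Type v} [CommRing A] [HopfAlgebra k A]

/-- In a unipotent group every nontrivial closed subgroup has a nonzero additive character. -/
theorem forall_exists_primitive_of_isUnipotent (hU : IsUnipotent k A)
    (I : Ideal A) [I.IsHopfIdeal k] (hI : I ≠ RingHom.ker (Bialgebra.counitAlgHom k A)) :
    ∃ x : A ⧸ I, x ≠ 0 ∧
      CoalgebraStruct.comul (R := k) x = x ⊗ₜ[k] (1 : A ⧸ I) + (1 : A ⧸ I) ⊗ₜ[k] x := by
  have hUB : IsUnipotent k (A ⧸ I) :=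
    isUnipotent_of_surjective (Bialgebra.Quotient.mkBialgHom (R := k) I)
      Ideal.Quotient.mk_surjective hU
  have hle : I ≤ RingHom.ker (Bialgebra.counitAlgHom k A) := by
    intro a ha
    rw [RingHom.mem_ker]
    exact Submodule.IsCoideal.counit_eq_zero (I := I.restrictScalars k) ha
  have hlt : I < RingHom.ker (Bialgebra.counitAlgHom k A) := lt_of_le_of_ne hle hI
  obtain ⟨a, haK, haI⟩ := SetLike.exists_of_lt hlt
  apply exists_primitive_of_isUnipotent hUB (Ideal.Quotient.mk I a)
  intro hmem
  obtain ⟨c, hc⟩ := Submodule.mem_span_singleton.mp hmem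
  have h1 := congrArg (CoalgebraStruct.counit (R := k) (A := A ⧸ I)) hc
  rw [map_smul, Bialgebra.counit_one, Bialgebra.Quotient.counit_mk] at h1
  have h2 : CoalgebraStruct.counit (R := k) a = 0 := haK
  rw [h2, smul_eq_mul, mul_one] at h1
  rw [h1, zero_smul] at hc
  exact haI (Ideal.Quotient.eq_zero_iff_mem.mp hc.symm)

end PrimExists3

end Groth.Agent.Lib.Helper25
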