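import Groth.Agent.Lib.Helper25Takeuchi
import Mathlib.RingTheory.HopfAlgebra.Convolution
import Mathlib.RingTheory.RingHom.FaithfullyFlat
import Mathlib.RingTheory.Flat.FaithfullyFlat.Algebra

/-!
# Helper25TakeuchiCor: corollaries of Takeuchi's faithful flatness theorem (helper25)

`bialgHom_antipode` (bialgebra maps commute with antipodes), `comul_mem_of_mem_range`,
`antipode_mem_of_mem_range` (the image of a bialgebra map is a Hopf subalgebra),
`faithfullyFlat_range_val`, `faithfullyFlat_of_injective`, `dvd_of_map_dvd_of_injective`,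
`algebraMap_surjective_of_faithfullyFlat_of_tmul_eq`, `surjective_of_epi`.
-/

set_option autoImplicit false
universe u v w w'

namespace Groth.Agent.Lib.Helper25

open TensorProduct HopfRep Matrix

section BialgAntipode

variable {k : Type u} [CommSemiring k] {A : Type v} [Semiring A] [HopfAlgebra k A]
  {B : Type w} [Semiring B] [HopfAlgebra k B]

open WithConv in
/-- A bialgebra map between Hopf algebras commutes with the antipodes. -/
theorem bialgHom_antipode (f : A →ₐc[k] B) (a : A) :
    f (HopfAlgebra.antipode k a) = HopfAlgebra.antipode k (f a) := by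
  set L : WithConv (A →ₗ[k] B) :=
    toConv ((HopfAlgebra.antipode k (A := B)) ∘ₗ (f : A →ₗc[k] B).toLinearMap) with hL
  set g : WithConv (A →ₗ[k] B) := toConv ((f : A →ₗc[k] B).toLinearMap) with hg
  set R : WithConv (A →ₗ[k] B) :=
    toConv ((f : A →ₐ[k] B).toLinearMap ∘ₗ (HopfAlgebra.antipode k (A := A))) with hR
  have h1 : L * g = 1 := by
    have := LinearMap.convMul_comp_coalgHom_distrib (toConv (HopfAlgebra.antipode k (A := B)))
      (toConv (LinearMap.id : B →ₗ[k] B)) (f : A →ₗc[k] B)
    rw [LinearMap.antipode_mul_id] at this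
    apply ofConv_injective
    rw [hL, hg]
    simp only [ofConv_toConv, LinearMap.id_comp] at this
    rw [← this]
    ext x
    simp
  have h2 : g * R = 1 := by
    have := LinearMap.algHom_comp_convMul_distrib (f : A →ₐ[k] B)
      (toConv (LinearMap.id : A →ₗ[k] A)) (toConv (HopfAlgebra.antipode k (A := A)))
    rw [LinearMap.id_mul_antipode] at this
    apply ofConv_injective
    simp only [ofConv_toConv, LinearMap.comp_id] at this
    rw [hg, hR]
    have e : ((f : A →ₗc[k] B).toLinearMap) = (f : A →ₐ[k] B).toLinearMap := rfl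
    rw [e, ← this]
    ext x
    simp only [LinearMap.convOne_def, ofConv_toConv, LinearMap.comp_apply, Algebra.linearMap_apply,
      AlgHom.toLinearMap_apply]
    exact (f : A →ₐ[k] B).commutes _
  have h3 : L = R := by
    calc L = L * (g * R) := by rw [h2, mul_one]
      _ = (L * g) * R := (mul_assoc _ _ _).symm
      _ = R := by rw [h1, one_mul]
  have h4 := congrArg (fun φ : WithConv (A →ₗ[k] B) => φ.ofConv a) h3
  simp only [hL, hR, ofConv_toConv, LinearMap.comp_apply] at h4
  exact h4.symm

end BialgAntipode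

section RangeHopf

variable {k : Type u} [Field k] {A : Type v} [CommRing A] [HopfAlgebra k A]
  {B : Type w} [CommRing B] [HopfAlgebra k B]

theorem comul_mem_of_mem_range (f : A →ₐc[k] B) (b : B) (hb : b ∈ (f : A →ₐ[k] B).range) :
    CoalgebraStruct.comul (R := k) b ∈ LinearMap.range (TensorProduct.map
      (f : A →ₐ[k] B).range.val.toLinearMap (f : A →ₐ[k] B).range.val.toLinearMap) := by
  obtain ⟨a, rfl⟩ := hb
  have h1 := LinearMap.congr_fun (CoalgHomClass.map_comp_comul (f : A →ₗc[k] B)) a
  simp only [LinearMap.comp_apply] at h1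
  have h1' : TensorProduct.map (f : A →ₐ[k] B).toLinearMap (f : A →ₐ[k] B).toLinearMap
      (CoalgebraStruct.comul (R := k) a) = CoalgebraStruct.comul (R := k) ((f : A →ₐ[k] B) a) := h1
  have h1'' : CoalgebraStruct.comul (R := k) ((f : A →ₐ[k] B).toRingHom a) =
      TensorProduct.map (f : A →ₐ[k] B).toLinearMap (f : A →ₐ[k] B).toLinearMap
      (CoalgebraStruct.comul (R := k) a) := h1'.symm
  rw [h1'']
  refine ⟨TensorProduct.map (f : A →ₐ[k] B).rangeRestrict.toLinearMap
    (f : A →ₐ[k] B).rangeRestrict.toLinearMap (CoalgebraStruct.comul (R := k) a), ?_⟩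
  rw [← LinearMap.comp_apply, ← TensorProduct.map_comp]
  rfl

theorem antipode_mem_of_mem_range (f : A →ₐc[k] B) (b : B) (hb : b ∈ (f : A →ₐ[k] B).range) :
    HopfAlgebra.antipode k b ∈ (f : A →ₐ[k] B).range := by
  obtain ⟨a, rfl⟩ := hb
  exact ⟨HopfAlgebra.antipode k a, bialgHom_antipode f a⟩

/-- The target of a bialgebra map of commutative Hopf algebras over a field is faithfully flat
over the image. -/
theorem faithfullyFlat_range_val (f : A →ₐc[k] B) :
    ((f : A →ₐ[k] B).range.val : (f : A →ₐ[k] B).range →+* B).FaithfullyFlat := by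
  have h := faithfullyFlat_of_isHopfSubalgebra (f : A →ₐ[k] B).range
    (comul_mem_of_mem_range f) (antipode_mem_of_mem_range f)
  exact RingHom.faithfullyFlat_algebraMap_iff.mpr h

/-- An injective bialgebra map of commutative Hopf algebras over a field is faithfully flat. -/
theorem faithfullyFlat_of_injective (f : A →ₐc[k] B) (hf : Function.Injective f) :
    (f : A →+* B).FaithfullyFlat := by
  have hbij : Function.Bijective ((f : A →ₐ[k] B).rangeRestrict : A →+* (f : A →ₐ[k] B).range) := by
    constructor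
    · intro x y hxy
      apply hf
      exact congrArg Subtype.val hxy
    · exact (f : A →ₐ[k] B).rangeRestrict_surjective
  have h2 := RingHom.FaithfullyFlat.of_bijective hbij
  let _ : Algebra A (f : A →ₐ[k] B).range :=
    ((f : A →ₐ[k] B).rangeRestrict : A →+* (f : A →ₐ[k] B).range).toAlgebra
  let _ : Algebra A B := (f : A →+* B).toAlgebra
  haveI : IsScalarTower A (f : A →ₐ[k] B).range B := IsScalarTower.of_algebraMap_eq (fun x => rfl)
  haveI : Module.FaithfullyFlat A (f : A →ₐ[k] B).range := h2
  haveI : Module.FaithfullyFlat (f : A →ₐ[k] B).range B :=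
    faithfullyFlat_of_isHopfSubalgebra (f : A →ₐ[k] B).range
      (comul_mem_of_mem_range f) (antipode_mem_of_mem_range f)
  exact Module.FaithfullyFlat.trans A (f : A →ₐ[k] B).range B

theorem dvd_of_map_dvd_of_injective (f : A →ₐc[k] B) (hf : Function.Injective f) (a c : A)
    (h : f c ∣ f a) : c ∣ a := by
  have hff := faithfullyFlat_of_injective f hf
  let _ : Algebra A B := (f : A →+* B).toAlgebra
  have hff' : Module.FaithfullyFlat A B := hff
  have h1 := Ideal.comap_map_eq_self_of_faithfullyFlat (B := B) (Ideal.span {c})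
  have h2 : a ∈ Ideal.comap (algebraMap A B) (Ideal.map (algebraMap A B) (Ideal.span {c})) := by
    rw [Ideal.mem_comap, Ideal.map_span, Set.image_singleton, Ideal.mem_span_singleton]
    exact h
  rw [h1, Ideal.mem_span_singleton] at h2
  exact h2

end RangeHopf

section FFEpi

/-- A faithfully flat algebra in which `s ⊗ 1 = 1 ⊗ s` for all `s` (an epimorphism) is a quotient
of the base. -/
theorem algebraMap_surjective_of_faithfullyFlat_of_tmul_eq (R : Type u) (S : Type v)
    [CommRing R] [CommRing S] [Algebra R S] [Module.FaithfullyFlat R S]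
    (h : ∀ s : S, s ⊗ₜ[R] (1 : S) = (1 : S) ⊗ₜ[R] s) : Function.Surjective (algebraMap R S) := by
  intro s
  set N : Submodule R S := LinearMap.range (Algebra.linearMap R S) with hN
  have h1 : (TensorProduct.mk R S (S ⧸ N) 1) (N.mkQ s) = 0 := by
    have e1 : (TensorProduct.mk R S (S ⧸ N) 1) (N.mkQ s) =
        (N.mkQ.lTensor S) ((1 : S) ⊗ₜ[R] s) := by simp
    rw [e1, ← h s, LinearMap.lTensor_tmul]
    have : N.mkQ (1 : S) = 0 := by
      rw [Submodule.mkQ_apply, Submodule.Quotient.mk_eq_zero]
      exact ⟨1, by simp⟩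
    rw [this, TensorProduct.tmul_zero]
  have h2 := Module.FaithfullyFlat.tensorProduct_mk_injective (A := R) (B := S) (S ⧸ N)
    (h1.trans (map_zero _).symm)
  rw [Submodule.mkQ_apply, Submodule.Quotient.mk_eq_zero] at h2
  obtain ⟨r, hr⟩ := h2
  exact ⟨r, hr⟩

variable {k : Type u} [Field k] {A' : Type v} [CommRing A'] [HopfAlgebra k A']
  {A : Type w} [CommRing A] [HopfAlgebra k A]

/-- A bialgebra map of commutative Hopf algebras over a field which is an epimorphism of
commutative rings is surjective. -/
theorem surjective_of_epi (φ : A' →ₐc[k] A)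
    (hepi : ∀ (R : Type w) [CommRing R] (f g : A →+* R),
      f.comp (φ : A' →+* A) = g.comp (φ : A' →+* A) → f = g) :
    Function.Surjective φ := by
  set Bs : Subalgebra k A := (φ : A' →ₐ[k] A).range with hBs
  haveI : Module.FaithfullyFlat ↥Bs A := faithfullyFlat_of_isHopfSubalgebra Bs
    (comul_mem_of_mem_range φ) (antipode_mem_of_mem_range φ)
  have hfg := hepi (A ⊗[↥Bs] A) (Algebra.TensorProduct.includeLeftRingHom)
    (Algebra.TensorProduct.includeRight : A →ₐ[↥Bs] A ⊗[↥Bs] A).toRingHom (by
      ext x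
      simp only [RingHom.comp_apply, Algebra.TensorProduct.includeLeftRingHom_apply,
        AlgHom.toRingHom_eq_coe, RingHom.coe_coe, Algebra.TensorProduct.includeRight_apply]
      have hx : (φ x) = ((⟨φ x, ⟨x, rfl⟩⟩ : ↥Bs) • (1 : A)) := by
        rw [Subalgebra.smul_def, smul_eq_mul, mul_one]
      conv_lhs => rw [hx]
      conv_rhs => rw [hx]
      rw [TensorProduct.smul_tmul])
  have h : ∀ s : A, s ⊗ₜ[↥Bs] (1 : A) = (1 : A) ⊗ₜ[↥Bs] s := by
    intro s
    have := congrArg (fun F : A →+* A ⊗[↥Bs] A => F s) hfg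
    simpa using this
  intro a
  obtain ⟨b, hb⟩ := algebraMap_surjective_of_faithfullyFlat_of_tmul_eq ↥Bs A h a
  obtain ⟨x, hx⟩ := b.2
  refine ⟨x, ?_⟩
  rw [← hb]
  exact hx

end FFEpi

end Groth.Agent.Lib.Helper25
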