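import Groth.Agent.Lib.Helper25ComodSS
import Groth.Agent.Lib.Helper25ComodInv
import Mathlib.LinearAlgebra.Projection

/-!
# Semisimplicity of all comodules of a linearly reductive group; Reynolds operators (helper25)
-/

set_option autoImplicit false
universe u v w w'

namespace Groth.Agent.Lib.Helper25

open TensorProduct HopfRep

section SumSS

variable {k : Type u} [Field k] {A : Type v} [AddCommGroup A] [Module k A] [Coalgebra k A]
variable {V : Type w} [AddCommGroup V] [Module k V] [Comod k A V]

/-- A subcomodule which is semisimple for its induced comodule structure is a semisimple module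
over the dual algebra (as a submodule). -/
theorem isSemisimpleModule_toDualSub (U : Submodule k V) (hU : IsSubcomod (k := k) (A := A) U)
    (h : @IsSemisimpleComod k A _ _ _ _ U _ _ (subComod U hU)) :
    (letI := dualModule k A V; IsSemisimpleModule (DualAlg k A) (toDualSub U hU)) := by
  letI := dualModule k A V
  letI := subComod U hU
  letI := dualModule k A U
  haveI : IsSemisimpleModule (DualAlg k A) U := isSemisimpleComod_iff.mp h
  let e : (toDualSub U hU) ≃ₗ[DualAlg k A] U :=
    { toFun := fun x => ⟨x.1, x.2⟩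
      invFun := fun x => ⟨x.1, x.2⟩
      left_inv := fun _ => rfl
      right_inv := fun _ => rfl
      map_add' := fun _ _ => rfl
      map_smul' := fun φ x => by
        apply Subtype.ext
        exact (map_T_of_isComodHom (isComodHom_subtype U hU) φ.ofConv ⟨x.1, x.2⟩).symm }
  exact IsSemisimpleModule.congr e

/-- A comodule all of whose finitely generated subcomodules are semisimple is semisimple. -/
theorem isSemisimpleComod_of_forall_fg
    (h : ∀ (U : Submodule k V) (hU : IsSubcomod (k := k) (A := A) U), U.FG →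
      @IsSemisimpleComod k A _ _ _ _ U _ _ (subComod U hU)) :
    IsSemisimpleComod k A V := by
  letI := dualModule k A V
  rw [isSemisimpleComod_iff]
  refine isSemisimpleModule_of_isSemisimpleModule_submodule'
    (p := fun v : V => toDualSub (gen k A v) (isSubcomod_gen v))
    (fun v => isSemisimpleModule_toDualSub _ _ (h _ (isSubcomod_gen v) (fg_gen v))) ?_
  rw [eq_top_iff]
  intro v _
  exact Submodule.mem_iSup_of_mem v (self_mem_gen (k := k) (A := A) v)

end SumSS

section Reductive

variable {k : Type u} [Field k] {A : Type v} [CommRing A] [Bialgebra k A]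

/-- For a linearly reductive bialgebra every comodule (in the universe of `A`), of any dimension,
is semisimple. -/
theorem isSemisimpleComod_of_isLinearlyReductive (hG : IsLinearlyReductive k A)
    (V : Type v) [AddCommGroup V] [Module k V] [Comod k A V] : IsSemisimpleComod k A V := by
  apply isSemisimpleComod_of_forall_fg
  intro U hU hfg
  letI := subComod U hU
  exact hG U (Module.Finite.iff_fg.mpr hfg)

end Reductive

section Reynolds

variable {k : Type u} [Field k] {A : Type v} [Ring A] [Bialgebra k A]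
variable {V : Type w} [AddCommGroup V] [Module k V] [Comod k A V]

theorem isSubcomod_fixedPts : IsSubcomod (k := k) (A := A) (fixedPts k A V) := by
  rw [isSubcomod_iff]
  intro φ v hv
  rw [T_of_mem_fixedPts hv]
  exact Submodule.smul_mem _ _ hv

/-- A comodule map with invariant values kills every subcomodule without invariants
(in a semisimple comodule). -/
theorem eq_zero_of_range_le_fixedPts' {X : Type w'} [AddCommGroup X] [Module k X] [Comod k A X]
    (hss : IsSemisimpleComod k A V)
    {f : V →ₗ[k] X} (hf : Hoch.IsComodHom A f) (hr : ∀ x, f x ∈ fixedPts k A X)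
    {W : Submodule k V} (hW : IsSubcomod (k := k) (A := A) W)
    (hWI : W ⊓ fixedPts k A V = ⊥) {w : V} (hw : w ∈ W) : f w = 0 := by
  have hK : IsSubcomod (k := k) (A := A) (LinearMap.ker f ⊓ W) :=
    isSubcomod_inf (isSubcomod_ker hf) hW
  obtain ⟨L', hL', hc⟩ := hss _ hK
  -- decompose `w`
  have htop : w ∈ (LinearMap.ker f ⊓ W) ⊔ L' := by rw [hc.sup_eq_top]; exact Submodule.mem_top
  obtain ⟨κ, hκ, ℓ, hℓ, hsum⟩ := Submodule.mem_sup.mp htop
  have hℓW : ℓ ∈ W := by
    have : ℓ = w - κ := by rw [← hsum]; abel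
    rw [this]
    exact Submodule.sub_mem _ hw hκ.2
  -- `ℓ` is invariant
  have hfix : ℓ ∈ fixedPts k A V := by
    rw [mem_fixedPts_iff_T]
    intro ψ
    have hmem : T ψ ℓ - ψ 1 • ℓ ∈ L' :=
      Submodule.sub_mem _ (T_mem_of_isSubcomod hL' ψ hℓ) (Submodule.smul_mem _ _ hℓ)
    have hmemW : T ψ ℓ - ψ 1 • ℓ ∈ W :=
      Submodule.sub_mem _ (T_mem_of_isSubcomod hW ψ hℓW) (Submodule.smul_mem _ _ hℓW)
    have hker : T ψ ℓ - ψ 1 • ℓ ∈ LinearMap.ker f := by
      rw [LinearMap.mem_ker, map_sub, map_T_of_isComodHom hf, map_smul,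
        T_of_mem_fixedPts (hr ℓ), sub_self]
    have h4 : T ψ ℓ - ψ 1 • ℓ ∈ (LinearMap.ker f ⊓ W) ⊓ L' :=
      Submodule.mem_inf.mpr ⟨Submodule.mem_inf.mpr ⟨hker, hmemW⟩, hmem⟩
    rw [hc.inf_eq_bot, Submodule.mem_bot] at h4
    exact sub_eq_zero.mp h4
  have hℓ0 : ℓ = 0 := by
    have h5 : ℓ ∈ W ⊓ fixedPts k A V := Submodule.mem_inf.mpr ⟨hℓW, hfix⟩
    rwa [hWI, Submodule.mem_bot] at h5
  rw [← hsum, hℓ0, add_zero]
  exact hκ.1

theorem eq_zero_of_range_le_fixedPts (hss : IsSemisimpleComod k A V)
    {f : V →ₗ[k] V} (hf : Hoch.IsComodHom A f) (hr : ∀ x, f x ∈ fixedPts k A V)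
    {W : Submodule k V} (hW : IsSubcomod (k := k) (A := A) W)
    (hWI : W ⊓ fixedPts k A V = ⊥) {w : V} (hw : w ∈ W) : f w = 0 :=
  eq_zero_of_range_le_fixedPts' hss hf hr hW hWI hw

/-- The projection onto a subcomodule along a complementary subcomodule is a comodule map. -/
theorem isComodHom_projection {U W : Submodule k V} (hU : IsSubcomod (k := k) (A := A) U)
    (hW : IsSubcomod (k := k) (A := A) W) (hc : IsCompl U W) :
    Hoch.IsComodHom A (U.projection W hc) := by
  rw [isComodHom_iff]
  intro φ v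
  set E := U.projection W hc
  have h1 : E v ∈ U := Submodule.projection_apply_mem hc v
  have h2 : v - E v ∈ W := Submodule.sub_projection_mem hc v
  have h3 : T φ v = T φ (E v) + T φ (v - E v) := by rw [← map_add]; congr 1; abel
  rw [h3, map_add, Submodule.projection_apply_of_mem_left hc (T_mem_of_isSubcomod hU φ h1),
    Submodule.projection_apply_of_mem_right hc (T_mem_of_isSubcomod hW φ h2), add_zero]

/-- Existence of a Reynolds operator on a semisimple comodule. -/
theorem exists_reynolds (hss : IsSemisimpleComod k A V) :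
    ∃ E : V →ₗ[k] V, Hoch.IsComodHom A E ∧ E ∘ₗ E = E ∧
      ∀ x : V, E x = x ↔ x ∈ fixedPts k A V := by
  obtain ⟨W, hW, hc⟩ := hss _ (isSubcomod_fixedPts (k := k) (A := A) (V := V))
  refine ⟨(fixedPts k A V).projection W hc, ?_, ?_, ?_⟩
  · rw [isComodHom_iff]
    intro φ v
    set E := (fixedPts k A V).projection W hc
    have h1 : E v ∈ fixedPts k A V := Submodule.projection_apply_mem hc v
    have h2 : v - E v ∈ W := Submodule.sub_projection_mem hc v
    have h3 : T φ v = T φ (E v) + T φ (v - E v) := by rw [← map_add]; congr 1; abel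
    rw [h3, map_add,
      Submodule.projection_apply_of_mem_left hc
        (T_mem_of_isSubcomod (isSubcomod_fixedPts (k := k) (A := A) (V := V)) φ h1),
      Submodule.projection_apply_of_mem_right hc (T_mem_of_isSubcomod hW φ h2), add_zero]
  · exact (Submodule.isIdempotentElem_projection hc).eq
  · intro x
    exact Submodule.projection_eq_self_iff hc x

/-- Uniqueness of the Reynolds operator on a semisimple comodule. -/
theorem reynolds_unique (hss : IsSemisimpleComod k A V) {E E' : V →ₗ[k] V}
    (hE : Hoch.IsComodHom A E) (hEE : E ∘ₗ E = E) (hEx : ∀ x : V, E x = x ↔ x ∈ fixedPts k A V)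
    (hE' : Hoch.IsComodHom A E') (hEE' : E' ∘ₗ E' = E')
    (hEx' : ∀ x : V, E' x = x ↔ x ∈ fixedPts k A V) : E' = E := by
  have hrE : ∀ x, E x ∈ fixedPts k A V := fun x => (hEx _).mp (LinearMap.congr_fun hEE x)
  have hrE' : ∀ x, E' x ∈ fixedPts k A V := fun x => (hEx' _).mp (LinearMap.congr_fun hEE' x)
  have hker : LinearMap.ker E ⊓ fixedPts k A V = ⊥ := by
    rw [eq_bot_iff]
    rintro x ⟨hx1, hx2⟩
    rw [Submodule.mem_bot, ← (hEx x).mpr hx2]
    exact hx1
  ext x
  have h0 : E' (x - E x) = 0 :=
    eq_zero_of_range_le_fixedPts hss hE' hrE' (isSubcomod_ker hE) hker (by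
      rw [LinearMap.mem_ker, map_sub]
      have := LinearMap.congr_fun hEE x
      simp only [LinearMap.comp_apply] at this
      rw [this, sub_self])
  rw [map_sub, sub_eq_zero] at h0
  rw [h0]
  exact (hEx' _).mpr (hrE x)

/-- Reynolds operators commute with comodule maps. -/
theorem reynolds_comm {X : Type w'} [AddCommGroup X] [Module k X] [Comod k A X]
    (hss : IsSemisimpleComod k A V) {E : V →ₗ[k] V}
    (hE : Hoch.IsComodHom A E) (hEE : E ∘ₗ E = E) (hEx : ∀ x : V, E x = x ↔ x ∈ fixedPts k A V)
    {E' : X →ₗ[k] X} (hE' : Hoch.IsComodHom A E') (hEE' : E' ∘ₗ E' = E')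
    (hEx' : ∀ x : X, E' x = x ↔ x ∈ fixedPts k A X)
    {u : V →ₗ[k] X} (hu : Hoch.IsComodHom A u) : E' ∘ₗ u = u ∘ₗ E := by
  have hrE : ∀ x, E x ∈ fixedPts k A V := fun x => (hEx _).mp (LinearMap.congr_fun hEE x)
  have hrE' : ∀ x, E' x ∈ fixedPts k A X := fun x => (hEx' _).mp (LinearMap.congr_fun hEE' x)
  have hker : LinearMap.ker E ⊓ fixedPts k A V = ⊥ := by
    rw [eq_bot_iff]
    rintro x ⟨hx1, hx2⟩
    rw [Submodule.mem_bot, ← (hEx x).mpr hx2]
    exact hx1
  ext x
  have h0 : (E' ∘ₗ u) (x - E x) = 0 :=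
    eq_zero_of_range_le_fixedPts' hss (isComodHom_comp hu hE') (fun z => hrE' _)
      (isSubcomod_ker hE) hker (by
        rw [LinearMap.mem_ker, map_sub]
        have := LinearMap.congr_fun hEE x
        simp only [LinearMap.comp_apply] at this
        rw [this, sub_self])
  rw [map_sub, sub_eq_zero] at h0
  rw [h0]
  exact (hEx' _).mpr (map_mem_fixedPts hu (hrE x))

/-- A Reynolds operator preserves every subcomodule. -/
theorem reynolds_mem_of_isSubcomod (hss : IsSemisimpleComod k A V) {E : V →ₗ[k] V}
    (hE : Hoch.IsComodHom A E) (hEE : E ∘ₗ E = E) (hEx : ∀ x : V, E x = x ↔ x ∈ fixedPts k A V)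
    {U : Submodule k V} (hU : IsSubcomod (k := k) (A := A) U) {u : V} (hu : u ∈ U) : E u ∈ U := by
  obtain ⟨U', hU', hc⟩ := hss U hU
  have hp := isComodHom_projection hU' hU hc.symm
  have hcomm := reynolds_comm hss hE hEE hEx hE hEE hEx hp
  have := LinearMap.congr_fun hcomm u
  simp only [LinearMap.comp_apply] at this
  rw [Submodule.projection_apply_of_mem_right hc.symm hu, map_zero] at this
  exact (Submodule.projection_apply_eq_zero_iff hc.symm).mp this.symm

end Reynolds

end Groth.Agent.Lib.Helper25
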