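import Groth.Agent.Lib.Helper25ComodHom
import Groth.Agent.Lib.Helper25Reynolds
import Mathlib.LinearAlgebra.Dual.Lemmas
import Mathlib.LinearAlgebra.FreeModule.Finite.Matrix
import Mathlib.LinearAlgebra.FiniteDimensional.Lemmas

/-!
# Exactness of invariants and linear reductivity (helper25)
-/

set_option autoImplicit false
universe u v w w'

namespace Groth.Agent.Lib.Helper25

open TensorProduct HopfRep Module

section LiftFixed

variable {k : Type u} [Field k] {A : Type v} [Ring A] [Bialgebra k A]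
variable {V : Type w} [AddCommGroup V] [Module k V] [Comod k A V]
variable {W : Type w'} [AddCommGroup W] [Module k W] [Comod k A W]

/-- In a semisimple comodule, a fixed vector in the image of a comodule map lifts to a fixed
vector. -/
theorem exists_fixedPts_map_eq_of_isSemisimpleComod (hss : IsSemisimpleComod k A V)
    {φ : V →ₗ[k] W} (hφ : Hoch.IsComodHom A φ) {w : W} (hw : w ∈ fixedPts k A W)
    (v₀ : V) (hv₀ : φ v₀ = w) : ∃ v ∈ fixedPts k A V, φ v = w := by
  obtain ⟨L, hL, hc⟩ := hss _ (isSubcomod_ker hφ)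
  have htop : v₀ ∈ LinearMap.ker φ ⊔ L := by rw [hc.sup_eq_top]; exact Submodule.mem_top
  obtain ⟨κ, hκ, ℓ, hℓ, hsum⟩ := Submodule.mem_sup.mp htop
  have hφℓ : φ ℓ = w := by
    rw [← hv₀, ← hsum, map_add, LinearMap.mem_ker.mp hκ, zero_add]
  refine ⟨ℓ, ?_, hφℓ⟩
  rw [mem_fixedPts_iff_T]
  intro ψ
  have hmem : T ψ ℓ - ψ 1 • ℓ ∈ L :=
    Submodule.sub_mem _ (T_mem_of_isSubcomod hL ψ hℓ) (Submodule.smul_mem _ _ hℓ)
  have hker : T ψ ℓ - ψ 1 • ℓ ∈ LinearMap.ker φ := by
    rw [LinearMap.mem_ker, map_sub, map_T_of_isComodHom hφ, map_smul, hφℓ,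
      T_of_mem_fixedPts hw, sub_self]
  have h4 : T ψ ℓ - ψ 1 • ℓ ∈ LinearMap.ker φ ⊓ L := Submodule.mem_inf.mpr ⟨hker, hmem⟩
  rw [hc.inf_eq_bot, Submodule.mem_bot] at h4
  exact sub_eq_zero.mp h4

end LiftFixed

section Splitting

variable {k : Type u} [Field k] {A : Type v} [CommRing A] [HopfAlgebra k A]

/-- If fixed vectors lift along surjective comodule maps between finite-dimensional comodules
(in a universe `w`), then every finite-dimensional comodule in that universe is semisimple. -/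
theorem isSemisimpleComod_of_exact
    (hex : ∀ (X Y : Type w) [AddCommGroup X] [Module k X] [Comod k A X]
      [AddCommGroup Y] [Module k Y] [Comod k A Y] (φ : X →ₗ[k] Y),
      Module.Finite k X → Module.Finite k Y → Hoch.IsComodHom A φ → Function.Surjective φ →
      ∀ y ∈ fixedPts k A Y, ∃ x ∈ fixedPts k A X, φ x = y)
    (V : Type w) [AddCommGroup V] [Module k V] [Comod k A V] [Module.Finite k V] :
    IsSemisimpleComod k A V := by
  classical
  intro U hU
  letI := subComod U hU
  let bV := Module.finBasis k V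
  let bU := Module.finBasis k U
  letI H1 : Comod k A (V →ₗ[k] U) := homComod (A := A) bV bU
  letI H2 : Comod k A (U →ₗ[k] U) := homComod (A := A) bU bU
  have hres : Hoch.IsComodHom A (LinearMap.lcomp k U U.subtype) :=
    isComodHom_lcomp bU bV bU (isComodHom_subtype U hU)
  have hsurj : Function.Surjective (LinearMap.lcomp k U U.subtype) := by
    intro G
    obtain ⟨r, hr⟩ := LinearMap.exists_leftInverse_of_injective U.subtype
      (LinearMap.ker_eq_bot.mpr U.subtype_injective)
    refine ⟨G ∘ₗ r, ?_⟩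
    change (G ∘ₗ r) ∘ₗ U.subtype = G
    rw [LinearMap.comp_assoc, hr, LinearMap.comp_id]
  have hid : (LinearMap.id : U →ₗ[k] U) ∈ fixedPts k A (U →ₗ[k] U) :=
    (mem_fixedPts_homComod_iff bU bU _).mpr isComodHom_id
  obtain ⟨F, hF, hFid⟩ := hex (V →ₗ[k] U) (U →ₗ[k] U) (LinearMap.lcomp k U U.subtype)
    inferInstance inferInstance hres hsurj _ hid
  have hF' : Hoch.IsComodHom A F := (mem_fixedPts_homComod_iff bV bU F).mp hF
  refine ⟨LinearMap.ker F, isSubcomod_ker hF', ?_⟩
  apply LinearMap.isCompl_of_proj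
  intro x
  exact LinearMap.congr_fun hFid x

/-- The criterion "every surjective comodule map from a finite-dimensional comodule onto the trivial
line is nonzero on some fixed vector" gives exactness of invariants on finite-dimensional
comodules. -/
theorem exists_fixedPts_of_criterion
    (hcrit : ∀ (V : Type w) [AddCommGroup V] [Module k V] [Comod k A V], Module.Finite k V →
      ∀ π : V →ₗ[k] k, Function.Surjective π →
        LinearMap.rTensor A π ∘ₗ Comod.coact (k := k) (A := A) (V := V) =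
          (TensorProduct.mk k k A).flip (1 : A) ∘ₗ π →
        ∃ v ∈ fixedPts k A V, π v ≠ 0)
    (X Y : Type w) [AddCommGroup X] [Module k X] [Comod k A X]
    [AddCommGroup Y] [Module k Y] [Comod k A Y] (φ : X →ₗ[k] Y)
    (hX : Module.Finite k X) (hφ : Hoch.IsComodHom A φ) (hs : Function.Surjective φ)
    (y : Y) (hy : y ∈ fixedPts k A Y) : ∃ x ∈ fixedPts k A X, φ x = y := by
  by_cases hy0 : y = 0
  · exact ⟨0, Submodule.zero_mem _, by rw [map_zero, hy0]⟩
  -- a functional with `l y = 1`
  obtain ⟨l, hl⟩ : ∃ l : Y →ₗ[k] k, l y = 1 := by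
    have : ¬ ∀ f : Module.Dual k Y, f y = 0 := fun h =>
      hy0 ((Module.forall_dual_apply_eq_zero_iff k y).mp h)
    push Not at this
    obtain ⟨f, hf⟩ := this
    exact ⟨(f y)⁻¹ • f, by simp [hf]⟩
  -- the preimage of the line through `y`
  let X' : Submodule k X := (Submodule.span k {y}).comap φ
  have hX' : IsSubcomod (k := k) (A := A) X' :=
    isSubcomod_comap hφ (isSubcomod_span_of_mem_fixedPts hy)
  letI := subComod X' hX'
  have hsub : Hoch.IsComodHom A X'.subtype := isComodHom_subtype X' hX'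
  let π : X' →ₗ[k] k := l ∘ₗ φ ∘ₗ X'.subtype
  have hπ : ∀ x : X', φ (x : X) = π x • y := by
    intro x
    obtain ⟨t, ht⟩ := Submodule.mem_span_singleton.mp x.2
    change φ (x : X) = l (φ (x : X)) • y
    rw [← ht, map_smul, hl, smul_eq_mul, mul_one]
  obtain ⟨x₀, hx₀⟩ := hs y
  have hx₀' : x₀ ∈ X' := by
    change φ x₀ ∈ Submodule.span k {y}
    rw [hx₀]
    exact Submodule.mem_span_singleton_self y
  have hπ1 : π ⟨x₀, hx₀'⟩ = 1 := by
    change l (φ x₀) = 1
    rw [hx₀, hl]
  have hπs : Function.Surjective π := by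
    intro t
    exact ⟨t • ⟨x₀, hx₀'⟩, by rw [map_smul, hπ1, smul_eq_mul, mul_one]⟩
  have hπc : LinearMap.rTensor A π ∘ₗ Comod.coact (k := k) (A := A) (V := X') =
      (TensorProduct.mk k k A).flip (1 : A) ∘ₗ π := by
    apply LinearMap.ext
    intro x
    have h1 : (φ ∘ₗ X'.subtype).rTensor A (Comod.coact (k := k) (A := A) x) =
        (π x • y) ⊗ₜ[k] (1 : A) := by
      rw [← isComodHom_apply (isComodHom_comp hsub hφ) x]
      change Comod.coact (k := k) (A := A) (φ (x : X)) = _
      rw [hπ x, map_smul, (mem_fixedPts_iff y).mp hy, TensorProduct.smul_tmul']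
    have h2 : π.rTensor A = l.rTensor A ∘ₗ (φ ∘ₗ X'.subtype).rTensor A := by
      rw [← LinearMap.rTensor_comp]
    simp only [LinearMap.coe_comp, Function.comp_apply, LinearMap.flip_apply,
      TensorProduct.mk_apply]
    rw [h2, LinearMap.comp_apply, h1, LinearMap.rTensor_tmul, map_smul, hl, smul_eq_mul, mul_one]
  haveI : Module.Finite k X := hX
  obtain ⟨v, hv, hv0⟩ := hcrit X' (inferInstance) π hπs hπc
  refine ⟨(π v)⁻¹ • (v : X), Submodule.smul_mem _ _ (map_mem_fixedPts hsub hv), ?_⟩
  rw [map_smul, hπ v, smul_smul, inv_mul_cancel₀ hv0, one_smul]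

end Splitting


section Line

variable {k : Type u} [Field k] {A : Type v} [CommRing A] [Bialgebra k A]
variable {V : Type w} [AddCommGroup V] [Module k V] [Comod k A V]

/-- A one-dimensional subcomodule is spanned by an eigenvector of a group-like element. -/
theorem exists_groupLike_of_finrank_eq_one {L : Submodule k V}
    (hL : IsSubcomod (k := k) (A := A) L) (h1 : Module.finrank k L = 1) :
    ∃ v ∈ L, v ≠ 0 ∧ ∃ χ : A, IsGroupLikeElem k χ ∧
      Comod.coact (k := k) (A := A) v = v ⊗ₜ[k] χ := by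
  obtain ⟨v', hv'0, hv'⟩ := finrank_eq_one_iff'.mp h1
  have hv0 : (v' : V) ≠ 0 := fun h => hv'0 (Subtype.ext h)
  refine ⟨v', v'.2, hv0, ?_⟩
  -- every element of `L ⊗ A` is `v' ⊗ a`
  have key : ∀ y : L ⊗[k] A, ∃ a : A, y = v' ⊗ₜ[k] a := by
    intro y
    induction y using TensorProduct.induction_on with
    | zero => exact ⟨0, by simp⟩
    | add x y hx hy =>
      obtain ⟨a, rfl⟩ := hx
      obtain ⟨b, rfl⟩ := hy
      exact ⟨a + b, by rw [TensorProduct.tmul_add]⟩
    | tmul w a =>
      obtain ⟨c, rfl⟩ := hv' w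
      exact ⟨c • a, by rw [TensorProduct.smul_tmul]⟩
  obtain ⟨y, hy⟩ := hL v' v'.2
  obtain ⟨χ, rfl⟩ := key y
  have hρ : Comod.coact (k := k) (A := A) (v' : V) = (v' : V) ⊗ₜ[k] χ := by
    rw [← hy]; simp
  refine ⟨χ, ?_, hρ⟩
  -- a functional with `l v' = 1`
  obtain ⟨l, hl⟩ : ∃ l : V →ₗ[k] k, l (v' : V) = 1 := by
    have : ¬ ∀ f : Module.Dual k V, f (v' : V) = 0 := fun h =>
      hv0 ((Module.forall_dual_apply_eq_zero_iff k (v' : V)).mp h)
    push Not at this
    obtain ⟨f, hf⟩ := this
    exact ⟨(f (v' : V))⁻¹ • f, by simp [hf]⟩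
  have hχ : coeffMap (A := A) l (v' : V) = χ := by
    rw [coeffMap_apply, hρ, lslice_tmul, hl, one_smul]
  constructor
  · rw [← hχ, counit_coeffMap, hl]
  · have h := isComodHom_apply (isComodHom_coeffMap (A := A) l) (v' : V)
    change CoalgebraStruct.comul (R := k) (coeffMap (A := A) l (v' : V)) = _ at h
    rw [hρ, LinearMap.rTensor_tmul, hχ] at h
    exact h

end Line


end Groth.Agent.Lib.Helper25
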