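import Groth.Agent.Lib.Helper25Unip
import Groth.Agent.Lib.Helper25CoeffMin

/-!
# Flags in comodules of trigonalizable groups (helper25)
-/

set_option autoImplicit false
universe u v

namespace Groth.Agent.Lib.Helper25

open TensorProduct HopfRep Module

section FinrankComap

variable {k : Type u} [Field k] {V : Type v} [AddCommGroup V] [Module k V] [Module.Finite k V]

theorem finrank_comap_mkQ (E : Submodule k V) (W : Submodule k (V ⧸ E)) :
    Module.finrank k (W.comap E.mkQ) = Module.finrank k W + Module.finrank k E := by
  set M : Submodule k V := W.comap E.mkQ with hM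
  let f : M →ₗ[k] W := E.mkQ.restrict (fun x hx => hx)
  have h1 := LinearMap.finrank_range_add_finrank_ker f
  have hr : LinearMap.range f = ⊤ := by
    rw [LinearMap.range_eq_top]
    rintro ⟨w, hw⟩
    obtain ⟨v, rfl⟩ := E.mkQ_surjective w
    exact ⟨⟨v, hw⟩, rfl⟩
  have hEM : E ≤ M := by
    intro x hx
    change E.mkQ x ∈ W
    rw [Submodule.mkQ_apply, (Submodule.Quotient.mk_eq_zero E).mpr hx]
    exact Submodule.zero_mem _
  have hk : LinearMap.ker f = E.comap M.subtype := by
    ext x
    rw [LinearMap.mem_ker, Submodule.mem_comap, Submodule.coe_subtype, ← Submodule.Quotient.mk_eq_zero E]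
    constructor
    · intro h
      exact congrArg Subtype.val h
    · intro h
      exact Subtype.ext h
  rw [hr, finrank_top, hk, (Submodule.comapSubtypeEquivOfLe hEM).finrank_eq] at h1
  exact h1.symm

end FinrankComap

section Flag

variable {k : Type u} [Field k] {A : Type v} [CommRing A] [Bialgebra k A]

theorem exists_dimFlag_aux (hT : IsTrigonalizable k A) (n : ℕ) :
    ∀ (V : Type v) [AddCommGroup V] [Module k V] [Comod k A V], Module.Finite k V →
      Module.finrank k V = n → ∃ F : ℕ → Submodule k V, Monotone F ∧
        (∀ i, IsSubcomod (k := k) (A := A) (F i)) ∧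
        ∀ i, i ≤ n → Module.finrank k (F i) = i := by
  induction n with
  | zero =>
    intro V _ _ _ hfin hn
    refine ⟨fun _ => ⊥, monotone_const, fun _ => isSubcomod_bot, ?_⟩
    intro i hi
    rw [finrank_bot]
    omega
  | succ n ih =>
    intro V _ _ _ hfin hn
    have hnt : Nontrivial V := by
      rw [← Module.finrank_pos_iff (R := k)]
      omega
    have htop : (⊤ : Submodule k V) ≠ ⊥ := top_ne_bot
    obtain ⟨E, -, hE0, hE, hEfg, hmin⟩ :=
      exists_minimal_subcomod_le (k := k) (A := A) ⊤ isSubcomod_top htop
    have hsimple := isSimpleComod_subComod hE hE0 hmin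
    letI cE := subComod E hE
    have hE1 : Module.finrank k E = 1 := hT E (Module.Finite.iff_fg.mpr hEfg) hsimple
    letI := quotComod E hE
    have hq : Hoch.IsComodHom A E.mkQ := isComodHom_mkQ E hE
    have hQ : Module.finrank k (V ⧸ E) = n := by
      have h1 := Submodule.finrank_quotient_add_finrank E
      omega
    obtain ⟨F', hmono, hsub, hdim⟩ := ih (V ⧸ E) inferInstance hQ
    refine ⟨fun i => Nat.casesOn i ⊥ (fun j => (F' j).comap E.mkQ), ?_, ?_, ?_⟩
    · apply monotone_nat_of_le_succ
      intro i
      cases i with
      | zero => exact bot_le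
      | succ j => exact Submodule.comap_mono (hmono (Nat.le_succ j))
    · intro i
      cases i with
      | zero => exact isSubcomod_bot
      | succ j => exact isSubcomod_comap hq (hsub j)
    · intro i hi
      cases i with
      | zero => exact finrank_bot k V
      | succ j =>
        change Module.finrank k ((F' j).comap E.mkQ) = j + 1
        rw [finrank_comap_mkQ, hE1, hdim j (by omega)]

end Flag

end Groth.Agent.Lib.Helper25
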