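import Groth.Agent.Lib.Helper25UnipExt
import Groth.Agent.Lib.Helper25Trig
import Groth.Agent.Lib.Helper25Exact
import Mathlib.RingTheory.HopfAlgebra.MonoidAlgebra
import Mathlib.RingTheory.HopfAlgebra.GroupLike

/-!
# Trigonalizable groups: unipotent kernel with diagonalizable quotient

A commutative Hopf algebra `A` over a field is trigonalizable iff there is a diagonalizable Hopf
algebra `B` with an injective bialgebra map `ψ : B → A` such that `A / A·ψ(B⁺)` is unipotent.
-/

set_option autoImplicit false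
universe u v w w'

namespace Groth.Agent.Lib.Helper25

open TensorProduct HopfRep WithConv


section Graded

variable {k : Type u} [Field k] {A : Type v} [CommRing A] [Bialgebra k A]
variable {V : Type w} [AddCommGroup V] [Module k V] [Comod k A V]

/-- If `E ≤ E'` are subcomodules with one-dimensional quotient, `E'/E` is given by a group-like
element. -/
theorem exists_groupLike_graded [Module.Finite k V] (E E' : Submodule k V)
    (hE : IsSubcomod (k := k) (A := A) E) (hE' : IsSubcomod (k := k) (A := A) E')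
    (hle : E ≤ E') (hdim : Module.finrank k E' = Module.finrank k E + 1) :
    ∃ χ : A, IsGroupLikeElem k χ ∧ ∀ v ∈ E',
      Comod.coact (k := k) (A := A) v - v ⊗ₜ[k] χ ∈ LinearMap.range (E.subtype.rTensor A) := by
  letI := quotComod E hE
  have hq : Hoch.IsComodHom A E.mkQ := isComodHom_mkQ E hE
  set L : Submodule k (V ⧸ E) := E'.map E.mkQ with hLdef
  have hL : IsSubcomod (k := k) (A := A) L := isSubcomod_map hq hE'
  have hcomap : L.comap E.mkQ = E' := by
    rw [hLdef, Submodule.comap_map_eq, Submodule.ker_mkQ]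
    exact sup_eq_left.mpr hle
  have hL1 : Module.finrank k L = 1 := by
    have h1 := finrank_comap_mkQ E L
    rw [hcomap] at h1
    omega
  obtain ⟨q, hqL, hq0, χ, hχ, hqχ⟩ := exists_groupLike_of_finrank_eq_one hL hL1
  refine ⟨χ, hχ, ?_⟩
  intro v hv
  have hvL : E.mkQ v ∈ L := ⟨v, hv, rfl⟩
  obtain ⟨c, hc⟩ : ∃ c : k, c • q = E.mkQ v := by
    have h2 := (finrank_eq_one_iff_of_nonzero' (⟨q, hqL⟩ : L)
      (fun h => hq0 (congrArg Subtype.val h))).mp hL1 ⟨E.mkQ v, hvL⟩
    obtain ⟨c, hc⟩ := h2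
    exact ⟨c, congrArg Subtype.val hc⟩
  have h3 : Comod.coact (k := k) (A := A) (E.mkQ v) = E.mkQ v ⊗ₜ[k] χ := by
    rw [← hc, map_smul, hqχ, TensorProduct.smul_tmul']
  rw [mem_range_rTensor_iff]
  intro φ
  rw [← Submodule.Quotient.mk_eq_zero E, ← Submodule.mkQ_apply, ← slice_rTensor, map_sub,
    LinearMap.rTensor_tmul, ← isComodHom_apply hq, h3, sub_self, map_zero]

end Graded



section DimFlag

variable {k : Type u} [Field k] {A : Type u} [CommRing A] [Bialgebra k A]
  {B : Type u} [CommRing B] [Bialgebra k B]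
  {W : Type u} [AddCommGroup W] [Module k W]

/-- A full flag of subcomodules becomes a trivial flag after pushing forward along a bialgebra map
killing all characters. -/
theorem isTrivFlag_along_of_dimFlag (π : A →ₐc[k] B)
    (hπ : ∀ χ : A, IsGroupLikeElem k χ → π χ = 1)
    (cW : Comod k A W) [Module.Finite k W] (F : ℕ → Submodule k W) (hmono : Monotone F)
    (hsub : ∀ i, @IsSubcomod k A _ _ _ _ W _ _ cW (F i))
    (hdim : ∀ i, i ≤ Module.finrank k W → Module.finrank k (F i) = i) :
    @IsTrivFlag k _ B _ _ W _ _ (comodAlongCoalg (π : A →ₗc[k] B) cW) (Module.finrank k W) F := by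
  have htop : F (Module.finrank k W) = ⊤ := Submodule.eq_top_of_finrank_eq (hdim _ le_rfl)
  refine ⟨hmono, ?_, htop, fun i => isSubcomod_comodAlongCoalg _ cW (F i) (hsub i), ?_⟩
  · exact Submodule.finrank_eq_zero.mp (hdim 0 (Nat.zero_le _))
  · intro i v hv
    by_cases hi : i < Module.finrank k W
    · obtain ⟨χ, hχ, h⟩ := exists_groupLike_graded (F i) (F (i+1)) (hsub i) (hsub (i+1))
        (hmono (Nat.le_succ i)) (by rw [hdim i hi.le, hdim (i+1) hi])
      obtain ⟨y, hy⟩ := h v hv
      refine ⟨(π : A →ₗ[k] B).lTensor (F i) y, ?_⟩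
      change _ = (π : A →ₗ[k] B).lTensor W (cW.coact v) - v ⊗ₜ[k] (1 : B)
      have h1 : v ⊗ₜ[k] (1 : B) = (π : A →ₗ[k] B).lTensor W (v ⊗ₜ[k] χ) := by
        rw [LinearMap.lTensor_tmul]
        change _ = v ⊗ₜ[k] π χ
        rw [hπ χ hχ]
      rw [h1, ← map_sub, ← hy, lTensor_rTensor_comm']
    · have hFi : F i = ⊤ := by
        apply top_le_iff.mp
        rw [← htop]
        exact hmono (not_lt.mp hi)
      rw [hFi]
      have hs : Function.Surjective ((⊤ : Submodule k W).subtype.rTensor B) :=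
        LinearMap.rTensor_surjective B (fun x => ⟨⟨x, Submodule.mem_top⟩, rfl⟩)
      exact LinearMap.range_eq_top.mpr hs ▸ Submodule.mem_top

end DimFlag



section Forward

variable {k A : Type u} [Field k] [CommRing A] [HopfAlgebra k A]

theorem liftGroupLike_eq (x : MonoidAlgebra k (GroupLike k A)) :
    (MonoidAlgebra.liftGroupLikeBialgHom : MonoidAlgebra k (GroupLike k A) →ₐc[k] A) x =
      Finsupp.linearCombination k (GroupLike.val (R := k) (A := A)) x.coeff := by
  rw [MonoidAlgebra.liftGroupLikeBialgHom_apply, MonoidAlgebra.lift_apply,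
    Finsupp.linearCombination_apply]
  rfl

theorem liftGroupLike_injective : Function.Injective
    (MonoidAlgebra.liftGroupLikeBialgHom : MonoidAlgebra k (GroupLike k A) →ₐc[k] A) := by
  have hli : LinearIndependent k (GroupLike.val (R := k) (A := A)) := linearIndep_groupLikeVal
  intro x y hxy
  rw [liftGroupLike_eq, liftGroupLike_eq] at hxy
  exact MonoidAlgebra.coeff_injective (hli hxy)

theorem isHopfIdeal_map_ker_counit {C : Type u} [CommRing C] [HopfAlgebra k C] (ψ : C →ₐc[k] A) :
    (Ideal.map (ψ : C →+* A) (RingHom.ker (Bialgebra.counitAlgHom k C))).IsHopfIdeal k := by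
  rw [map_ker_counit_eq_augIdealSpan]
  exact isHopfIdeal_augIdealSpan _ (isHopfSubalgebra_range ψ)

theorem groupLike_sub_one_mem (χ : A) (hχ : IsGroupLikeElem k χ) :
    χ - 1 ∈ Ideal.map ((MonoidAlgebra.liftGroupLikeBialgHom :
      MonoidAlgebra k (GroupLike k A) →ₐc[k] A) : MonoidAlgebra k (GroupLike k A) →+* A)
      (RingHom.ker (Bialgebra.counitAlgHom k (MonoidAlgebra k (GroupLike k A)))) := by
  have h1 : χ - 1 = (MonoidAlgebra.liftGroupLikeBialgHom :
      MonoidAlgebra k (GroupLike k A) →ₐc[k] A) (MonoidAlgebra.single ⟨χ, hχ⟩ 1 - 1) := by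
    rw [map_sub, map_one, MonoidAlgebra.liftGroupLikeBialgHom_apply, MonoidAlgebra.lift_single]
    simp
  rw [h1]
  apply Ideal.mem_map_of_mem
  rw [RingHom.mem_ker, map_sub, map_one]
  change CoalgebraStruct.counit (R := k) (MonoidAlgebra.single (⟨χ, hχ⟩ : GroupLike k A) (1 : k)) - 1 = 0
  rw [MonoidAlgebra.counit_single]
  simp

end Forward



section Forward2

variable {k A : Type u} [Field k] [CommRing A] [HopfAlgebra k A]

/-- If a quotient Hopf algebra `A/J` of a trigonalizable `A` kills all characters of `A`, it is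
unipotent. -/
theorem isUnipotent_quotient_of_isTrigonalizable (hT : IsTrigonalizable k A) (J : Ideal A)
    [J.IsHopfIdeal k] (hJ : ∀ χ : A, IsGroupLikeElem k χ → χ - 1 ∈ J) :
    IsUnipotent k (A ⧸ J) := by
  set π : A →ₐc[k] A ⧸ J := Bialgebra.Quotient.mkBialgHom (R := k) J with hπdef
  have hπs : Function.Surjective π := Ideal.Quotient.mk_surjective
  have hπ : ∀ χ : A, IsGroupLikeElem k χ → π χ = 1 := by
    intro χ hχ
    have h1 : π (χ - 1) = 0 := (Ideal.Quotient.eq_zero_iff_mem).mpr (hJ χ hχ)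
    rw [map_sub, map_one, sub_eq_zero] at h1
    exact h1
  apply isUnipotent_of_forall_trivFlag π hπs
  intro W hW hWfg
  letI cW : Comod k A W := subComod W hW
  haveI : Module.Finite k W := Module.Finite.iff_fg.mpr hWfg
  obtain ⟨F, hmono, hsub, hdim⟩ := exists_dimFlag_aux hT _ W inferInstance rfl
  exact ⟨Module.finrank k W, F, isTrivFlag_along_of_dimFlag π hπ cW F hmono hsub hdim⟩

theorem exists_unipotent_kernel_of_isTrigonalizable (hT : IsTrigonalizable k A) :
    ∃ (B : Type u) (_ : CommRing B) (_ : HopfAlgebra k B) (ψ : B →ₐc[k] A) (J : Ideal A)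
      (_ : J.IsHopfIdeal k),
        Function.Injective ψ ∧ HopfRep.IsDiagonalizable k B ∧
          J = Ideal.map (ψ : B →+* A) (RingHom.ker (Bialgebra.counitAlgHom k B)) ∧
          HopfRep.IsUnipotent k (A ⧸ J) := by
  refine ⟨MonoidAlgebra k (GroupLike k A), inferInstance, inferInstance,
    MonoidAlgebra.liftGroupLikeBialgHom, _, isHopfIdeal_map_ker_counit _,
    liftGroupLike_injective, MonoidAlgebra.span_isGroupLikeElem, rfl, ?_⟩
  haveI := isHopfIdeal_map_ker_counit (MonoidAlgebra.liftGroupLikeBialgHom :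
    MonoidAlgebra k (GroupLike k A) →ₐc[k] A)
  exact isUnipotent_quotient_of_isTrigonalizable hT _ groupLike_sub_one_mem

end Forward2



section Eigen

variable {k : Type u} [Field k] {A : Type v} [CommRing A] [Bialgebra k A]
variable {V : Type w} [AddCommGroup V] [Module k V] [Comod k A V]

theorem isSubcomod_span_of_eigen {v : V} {χ : A}
    (hv : Comod.coact (k := k) (A := A) v = v ⊗ₜ[k] χ) :
    IsSubcomod (k := k) (A := A) (Submodule.span k {v}) := by
  intro x hx
  obtain ⟨c, rfl⟩ := Submodule.mem_span_singleton.mp hx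
  rw [map_smul, hv]
  exact ⟨(c • ⟨v, Submodule.mem_span_singleton_self v⟩ : Submodule.span k {v}) ⊗ₜ[k] χ,
    by simp [TensorProduct.smul_tmul']⟩

/-- A nonzero comodule over a diagonalizable bialgebra has an eigenvector. -/
theorem exists_eigen_of_isDiagonalizable (hD : HopfRep.IsDiagonalizable k A) [Nontrivial V] :
    ∃ (u : V) (χ : A), u ≠ 0 ∧ IsGroupLikeElem k χ ∧
      Comod.coact (k := k) (A := A) u = u ⊗ₜ[k] χ := by
  classical
  set b := groupLikeBasis hD with hb
  have hgl : ∀ g, IsGroupLikeElem k (b g) := fun g => by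
    rw [hb, groupLikeBasis_apply]; exact g.2
  obtain ⟨u₀, hu₀⟩ := exists_ne (0 : V)
  obtain ⟨g, hg⟩ : ∃ g, T (b.coord g) u₀ ≠ 0 := by
    by_contra h
    push Not at h
    exact hu₀ (eq_zero_of_T_coord_eq_zero b hgl h)
  exact ⟨T (b.coord g) u₀, b g, hg, hgl g, coact_T_coord_of_groupLike b hgl g u₀⟩

end Eigen

section Backward

variable {k A : Type u} [Field k] [CommRing A] [HopfAlgebra k A]
  {B : Type u} [CommRing B] [HopfAlgebra k B]

theorem isTrigonalizable_of_unipotent_kernel (ψ : B →ₐc[k] A) (J : Ideal A) [J.IsHopfIdeal k]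
    (hψ : Function.Injective ψ) (hD : HopfRep.IsDiagonalizable k B)
    (hJ : J = Ideal.map (ψ : B →+* A) (RingHom.ker (Bialgebra.counitAlgHom k B)))
    (hU : HopfRep.IsUnipotent k (A ⧸ J)) : IsTrigonalizable k A := by
  intro V _ _ _ hfin hsimple
  obtain ⟨hnt, hmin⟩ := hsimple
  have hne := invSub_ne_bot_of_isUnipotent J hU V hfin hnt
  obtain ⟨hU', d, hd⟩ := exists_comod_invSub V ψ hψ J hJ
  haveI hUnt : Nontrivial (invSub k J V) := Submodule.nontrivial_iff_ne_bot.mpr hne
  obtain ⟨u, χ, hu0, hχ, huχ⟩ := @exists_eigen_of_isDiagonalizable k _ B _ _ (invSub k J V) _ _ d hD _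
  have h1 := hd u
  have huχ' : d.coact u = u ⊗ₜ[k] χ := huχ
  rw [huχ', LinearMap.lTensor_tmul] at h1
  have h3 := rTensor_subtype_subCoact (invSub k J V) hU' u
  have h1' : subCoact (invSub k J V) hU' u = u ⊗ₜ[k] ((ψ : B →ₗc[k] A) : B →ₗ[k] A) χ := h1.symm
  rw [h1', LinearMap.rTensor_tmul] at h3
  have hV : Comod.coact (k := k) (A := A) (u : V) = (u : V) ⊗ₜ[k] ψ χ := h3.symm
  have hspan := isSubcomod_span_of_eigen hV
  have huV0 : (u : V) ≠ 0 := fun h => hu0 (Subtype.ext h)
  have htop : Submodule.span k {(u : V)} = ⊤ := by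
    refine (hmin _ hspan).resolve_left ?_
    intro h
    apply huV0
    have : (u : V) ∈ Submodule.span k {(u : V)} := Submodule.mem_span_singleton_self _
    rw [h, Submodule.mem_bot] at this
    exact this
  rw [← finrank_top k V, ← htop, finrank_span_singleton huV0]

end Backward

end Groth.Agent.Lib.Helper25
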