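import Groth.Agent.Lib.Helper25Comod
import Mathlib.LinearAlgebra.Eigenspace.Triangularizable

/-!
# Comodules over cocommutative coalgebras: Schur's lemma (helper25)
-/

set_option autoImplicit false
universe u v w

namespace Groth.Agent.Lib.Helper25

open TensorProduct HopfRep Module

section Cocomm

variable {k : Type u} [Field k] {A : Type v} [AddCommGroup A] [Module k A] [Coalgebra k A]
  [Coalgebra.IsCocomm k A]
variable {V : Type w} [AddCommGroup V] [Module k V] [Comod k A V]

theorem conv_comm (ψ φ : A →ₗ[k] k) : conv ψ φ = conv φ ψ := by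
  ext a
  unfold conv
  simp only [LinearMap.coe_comp, Function.comp_apply]
  conv_lhs => rw [← Coalgebra.comm_comul (R := k) a]
  generalize CoalgebraStruct.comul (R := k) a = z
  induction z using TensorProduct.induction_on with
  | zero => simp
  | add x y hx hy => simp only [map_add, hx, hy]
  | tmul b c => simp [mul_comm]

theorem T_comm (ψ φ : A →ₗ[k] k) (v : V) : T ψ (T φ v) = T φ (T ψ v) := by
  rw [T_T, T_T, conv_comm]

theorem isComodHom_T (φ : A →ₗ[k] k) : Hoch.IsComodHom A (T φ : V →ₗ[k] V) := by
  rw [isComodHom_iff]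
  intro ψ v
  exact T_comm φ ψ v

/-- Schur: over an algebraically closed field, a simple finite-dimensional comodule over a
cocommutative coalgebra is one-dimensional. -/
theorem finrank_eq_one_of_isSimpleComod_of_isCocomm [IsAlgClosed k] [Module.Finite k V]
    (hV : IsSimpleComod k A V) : Module.finrank k V = 1 := by
  haveI : Nontrivial V := hV.1
  -- every `T φ` is a scalar
  have hscalar : ∀ φ : A →ₗ[k] k, ∃ μ : k, ∀ v : V, T φ v = μ • v := by
    intro φ
    obtain ⟨μ, hμ⟩ := Module.End.exists_eigenvalue (T φ : V →ₗ[k] V)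
    refine ⟨μ, ?_⟩
    have hhom : Hoch.IsComodHom A ((T φ : V →ₗ[k] V) - μ • LinearMap.id) :=
      isComodHom_sub (isComodHom_T φ) (isComodHom_smul μ isComodHom_id)
    have hker := isSubcomod_ker hhom
    rcases hV.2 _ hker with h | h
    · exfalso
      obtain ⟨v, hv⟩ := hμ.exists_hasEigenvector
      have hvk : v ∈ LinearMap.ker ((T φ : V →ₗ[k] V) - μ • LinearMap.id) := by
        rw [LinearMap.mem_ker, LinearMap.sub_apply, LinearMap.smul_apply, LinearMap.id_apply,
          sub_eq_zero]
        exact hv.apply_eq_smul
      rw [h, Submodule.mem_bot] at hvk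
      exact hv.2 hvk
    · intro v
      have hvk : v ∈ LinearMap.ker ((T φ : V →ₗ[k] V) - μ • LinearMap.id) := by
        rw [h]; exact Submodule.mem_top
      rw [LinearMap.mem_ker, LinearMap.sub_apply, LinearMap.smul_apply, LinearMap.id_apply,
        sub_eq_zero] at hvk
      exact hvk
  obtain ⟨v, hv⟩ := exists_ne (0 : V)
  have hsub : IsSubcomod (k := k) (A := A) (Submodule.span k {v}) := by
    rw [isSubcomod_iff]
    intro φ u hu
    obtain ⟨μ, hμ⟩ := hscalar φ
    rw [hμ]
    exact Submodule.smul_mem _ _ hu
  rcases hV.2 _ hsub with h | h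
  · exfalso
    have : v ∈ Submodule.span k {v} := Submodule.mem_span_singleton_self v
    rw [h, Submodule.mem_bot] at this
    exact hv this
  · rw [← finrank_top k V, ← h]
    exact finrank_span_singleton hv

end Cocomm

end Groth.Agent.Lib.Helper25
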