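import Groth.Agent.Lib.Helper25BCComod
import Groth.Agent.Lib.Helper25Exact
import Groth.Agent.Lib.Helper25CoeffMin

/-!
# Helper25ResComod: restriction of scalars for comodules over a base-changed coalgebra

A comodule `W` over the `K`-coalgebra `K ⊗[k] D` is a `D`-comodule over `k` (`resComod`), via
`W ⊗[K] (K ⊗[k] D) ≃ W ⊗[k] D`.  Consequences: unipotence and trigonalizability pass to field
extensions (`isUnipotent_baseChange`, `isTrigonalizable_baseChange`), and unipotence descends
(`isUnipotent_of_baseChange`).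
-/

set_option autoImplicit false
universe u v w w'

namespace Groth.Agent.Lib.Helper25

open TensorProduct HopfRep

section ResComod

variable (k : Type u) (K : Type v) (D : Type w) (W : Type w')
  [CommRing k] [CommRing K] [Algebra k K] [AddCommGroup D] [Module k D] [Coalgebra k D]
  [AddCommGroup W] [Module k W] [Module K W] [IsScalarTower k K W]

/-- The isomorphism `W ⊗[k] D ≃ W ⊗[K] (K ⊗[k] D)`. -/
noncomputable def resIota : W ⊗[k] D ≃ₗ[K] W ⊗[K] (K ⊗[k] D) :=
  (AlgebraTensorModule.cancelBaseChange k K K W D).symm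

theorem resIota_tmul (w : W) (d : D) :
    resIota k K D W (w ⊗ₜ[k] d) = w ⊗ₜ[K] ((1 : K) ⊗ₜ[k] d) := rfl

/-- The isomorphism `W ⊗[k] (D ⊗ D) ≃ W ⊗[K] ((K ⊗ D) ⊗[K] (K ⊗ D))`. -/
noncomputable def resJ : W ⊗[k] (D ⊗[k] D) ≃ₗ[K] W ⊗[K] ((K ⊗[k] D) ⊗[K] (K ⊗[k] D)) :=
  (AlgebraTensorModule.cancelBaseChange k K K W (D ⊗[k] D)).symm ≪≫ₗ
    LinearEquiv.lTensor W (AlgebraTensorModule.distribBaseChange k K D D)

theorem resJ_tmul (w : W) (z : D ⊗[k] D) :
    resJ k K D W (w ⊗ₜ[k] z) = w ⊗ₜ[K] bcMapG k K D D z := by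
  induction z using TensorProduct.induction_on with
  | zero => simp
  | add x y hx hy => rw [TensorProduct.tmul_add, map_add, map_add, TensorProduct.tmul_add, hx, hy]
  | tmul d d' =>
    rw [bcMapG_tmul]
    rfl

variable [Comod K (K ⊗[k] D) W]

/-- The restricted coaction `W → W ⊗[k] D`. -/
noncomputable def resCoact : W →ₗ[k] W ⊗[k] D :=
  ((resIota k K D W).symm.toLinearMap.restrictScalars k) ∘ₗ
    ((Comod.coact (k := K) (A := K ⊗[k] D) (V := W)).restrictScalars k)

theorem resIota_resCoact (w : W) :
    resIota k K D W (resCoact k K D W w) = Comod.coact (k := K) (A := K ⊗[k] D) w := by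
  simp [resCoact]

theorem resJ_assoc_tmul (y : W ⊗[k] D) (d : D) :
    resJ k K D W (TensorProduct.assoc k W D D (y ⊗ₜ[k] d)) =
      TensorProduct.assoc K W (K ⊗[k] D) (K ⊗[k] D)
        (resIota k K D W y ⊗ₜ[K] ((1 : K) ⊗ₜ[k] d)) := by
  induction y using TensorProduct.induction_on with
  | zero => simp
  | add x y hx hy =>
    rw [TensorProduct.add_tmul, map_add, map_add, hx, hy, map_add, TensorProduct.add_tmul, map_add]
  | tmul w d' =>
    rw [TensorProduct.assoc_tmul, resJ_tmul, bcMapG_tmul, resIota_tmul, TensorProduct.assoc_tmul]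

theorem resJ_lTensor_comul (x : W ⊗[k] D) :
    resJ k K D W ((CoalgebraStruct.comul (R := k) (A := D)).lTensor W x) =
      (CoalgebraStruct.comul (R := K) (A := K ⊗[k] D)).lTensor W (resIota k K D W x) := by
  induction x using TensorProduct.induction_on with
  | zero => simp
  | add x y hx hy => simp only [map_add, hx, hy]
  | tmul w d =>
    rw [LinearMap.lTensor_tmul, resJ_tmul, resIota_tmul, LinearMap.lTensor_tmul, comul_one_tmul']

theorem resJ_assoc_rTensor (x : W ⊗[k] D) :
    resJ k K D W (TensorProduct.assoc k W D D ((resCoact k K D W).rTensor D x)) =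
      TensorProduct.assoc K W (K ⊗[k] D) (K ⊗[k] D)
        ((Comod.coact (k := K) (A := K ⊗[k] D) (V := W)).rTensor (K ⊗[k] D)
          (resIota k K D W x)) := by
  induction x using TensorProduct.induction_on with
  | zero => simp
  | add x y hx hy => simp only [map_add, hx, hy]
  | tmul w d =>
    rw [LinearMap.rTensor_tmul, resJ_assoc_tmul, resIota_resCoact, resIota_tmul,
      LinearMap.rTensor_tmul]

theorem rid_lTensor_counit (x : W ⊗[k] D) :
    TensorProduct.rid k W ((CoalgebraStruct.counit (R := k) (A := D)).lTensor W x) =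
      TensorProduct.rid K W
        ((CoalgebraStruct.counit (R := K) (A := K ⊗[k] D)).lTensor W (resIota k K D W x)) := by
  induction x using TensorProduct.induction_on with
  | zero => simp
  | add x y hx hy => simp only [map_add, hx, hy]
  | tmul w d =>
    rw [LinearMap.lTensor_tmul, resIota_tmul, LinearMap.lTensor_tmul, TensorProduct.rid_tmul,
      TensorProduct.rid_tmul, TensorProduct.counit_tmul]
    simp

/-- Restriction of scalars of a comodule over the base-changed coalgebra. -/
@[reducible] noncomputable def resComod : Comod k D W where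
  coact := resCoact k K D W
  coassoc := by
    apply LinearMap.ext
    intro w
    apply (resJ k K D W).injective
    simp only [LinearMap.comp_apply, LinearEquiv.coe_coe]
    rw [resJ_assoc_rTensor, resJ_lTensor_comul, resIota_resCoact]
    exact LinearMap.congr_fun (Comod.coassoc (k := K) (A := K ⊗[k] D) (V := W)) w
  counit_comp := by
    apply LinearMap.ext
    intro w
    apply (TensorProduct.rid k W).injective
    simp only [LinearMap.comp_apply]
    rw [rid_lTensor_counit k K D W, resIota_resCoact]
    have h := LinearMap.congr_fun (Comod.counit_comp (k := K) (A := K ⊗[k] D) (V := W)) w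
    simp only [LinearMap.comp_apply] at h
    rw [h]
    simp

theorem coact_of_resCoact_eq_tmul (w : W) (g : D) (h : resCoact k K D W w = w ⊗ₜ[k] g) :
    Comod.coact (k := K) (A := K ⊗[k] D) w = w ⊗ₜ[K] ((1 : K) ⊗ₜ[k] g) := by
  rw [← resIota_resCoact, h, resIota_tmul]

end ResComod


section BCClasses

variable (k K A : Type u) [Field k] [Field K] [Algebra k K] [CommRing A] [Bialgebra k A]

/-- Trigonalizability passes to field extensions. -/
theorem isTrigonalizable_baseChange (hA : IsTrigonalizable k A) :
    IsTrigonalizable K (K ⊗[k] A) := by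
  intro W _ _ _ hfin hsimple
  letI : Module k W := Module.compHom W (algebraMap k K)
  haveI : IsScalarTower k K W := IsScalarTower.of_algebraMap_smul (fun r m => rfl)
  letI cW : Comod k A W := resComod k K A W
  obtain ⟨hnt, hsimp⟩ := hsimple
  have htop : (⊤ : Submodule k W) ≠ ⊥ := top_ne_bot
  obtain ⟨E, -, hE0, hE, hfg, hmin⟩ :=
    exists_minimal_subcomod_le (⊤ : Submodule k W) (isSubcomod_top (k := k) (A := A)) htop
  haveI : Module.Finite k E := Module.Finite.iff_fg.mpr hfg
  have h1 : Module.finrank k E = 1 :=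
    @hA E _ _ (subComod E hE) inferInstance (isSimpleComod_subComod hE hE0 hmin)
  obtain ⟨v, -, hv0, χ, -, hρ⟩ := exists_groupLike_of_finrank_eq_one hE h1
  have hρ' := coact_of_resCoact_eq_tmul k K A W v χ hρ
  have hsub : IsSubcomod (k := K) (A := K ⊗[k] A) (K ∙ v) := by
    intro x hx
    obtain ⟨c, rfl⟩ := Submodule.mem_span_singleton.mp hx
    rw [map_smul, hρ']
    exact ⟨c • ((⟨v, Submodule.mem_span_singleton_self v⟩ : K ∙ v) ⊗ₜ[K]
      ((1 : K) ⊗ₜ[k] χ)), by simp⟩
  rcases hsimp _ hsub with h | h
  · exfalso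
    have hm : v ∈ (K ∙ v) := Submodule.mem_span_singleton_self v
    rw [h, Submodule.mem_bot] at hm
    exact hv0 hm
  · rw [← finrank_top K W, ← h]
    exact finrank_span_singleton hv0

/-- Unipotence passes to field extensions. -/
theorem isUnipotent_baseChange (hU : IsUnipotent k A) : IsUnipotent K (K ⊗[k] A) := by
  intro W _ _ _ hfin hnt
  letI : Module k W := Module.compHom W (algebraMap k K)
  haveI : IsScalarTower k K W := IsScalarTower.of_algebraMap_smul (fun r m => rfl)
  letI cW : Comod k A W := resComod k K A W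
  obtain ⟨w, hw⟩ := exists_ne (0 : W)
  obtain ⟨U, hUfg, hUsub, hwU⟩ := exists_fg_subcomod_mem (k := k) (A := A) w
  letI := subComod U hUsub
  haveI : Module.Finite k U := Module.Finite.iff_fg.mpr hUfg
  haveI : Nontrivial U := ⟨⟨⟨w, hwU⟩, 0, fun h => hw (congrArg Subtype.val h)⟩⟩
  have hfix := hU U inferInstance inferInstance
  obtain ⟨u, hu, hu0⟩ := Submodule.exists_mem_ne_zero_of_ne_bot hfix
  have hu' : subCoact U hUsub u = u ⊗ₜ[k] (1 : A) := hu
  have h1 : resCoact k K A W (u : W) = (u : W) ⊗ₜ[k] (1 : A) := by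
    have := rTensor_subtype_subCoact U hUsub u
    rw [hu', LinearMap.rTensor_tmul] at this
    exact this.symm
  have h2 := coact_of_resCoact_eq_tmul k K A W (u : W) 1 h1
  intro hbot
  have hmem : (u : W) ∈ fixedPts K (K ⊗[k] A) W := by
    change Comod.coact (k := K) (A := K ⊗[k] A) (u : W) = (u : W) ⊗ₜ[K] (1 : K ⊗[k] A)
    rw [h2, Algebra.TensorProduct.one_def]
  rw [hbot, Submodule.mem_bot] at hmem
  exact hu0 (Subtype.ext hmem)

theorem distribBaseChange_one_tmul (V : Type u) [AddCommGroup V] [Module k V] (z : V ⊗[k] A) :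
    AlgebraTensorModule.distribBaseChange k K V A ((1 : K) ⊗ₜ[k] z) = bcMapG k K A V z := by
  induction z using TensorProduct.induction_on with
  | zero => simp
  | add x y hx hy => rw [TensorProduct.tmul_add, map_add, map_add, hx, hy]
  | tmul v a =>
    rw [bcMapG_tmul]
    rfl

/-- Unipotence descends along field extensions. -/
theorem isUnipotent_of_baseChange (hU' : IsUnipotent K (K ⊗[k] A)) : IsUnipotent k A := by
  intro V _ _ _ hfin hnt hbot
  letI := CoactBr.Comod.baseChange k K A V
  have hfin' : Module.Finite K (K ⊗[k] V) := inferInstance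
  have hnt' : Nontrivial (K ⊗[k] V) := by
    apply Module.nontrivial_of_finrank_pos (R := K)
    rw [Module.finrank_baseChange]
    exact Module.finrank_pos
  apply hU' (K ⊗[k] V) hfin' hnt'
  rw [eq_bot_iff]
  intro x hx
  have hx' : Comod.coact (k := K) (A := K ⊗[k] A) x = x ⊗ₜ[K] (1 : K ⊗[k] A) := hx
  set d : V →ₗ[k] V ⊗[k] A :=
    Comod.coact (k := k) (A := A) - (TensorProduct.mk k V A).flip 1 with hd
  have hdinj : Function.Injective d := by
    rw [← LinearMap.ker_eq_bot, eq_bot_iff]
    intro v hv
    have hv' : d v = 0 := hv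
    have : v ∈ fixedPts k A V := by
      change Comod.coact (k := k) (A := A) v = v ⊗ₜ[k] (1 : A)
      rw [hd, LinearMap.sub_apply, sub_eq_zero] at hv'
      exact hv'
    rw [hbot] at this
    exact this
  have hdK : Function.Injective (d.baseChange K) :=
    Module.Flat.lTensor_preserves_injective_linearMap d hdinj
  have key1 : ∀ v : V, AlgebraTensorModule.distribBaseChange k K V A
      (d.baseChange K ((1 : K) ⊗ₜ[k] v)) =
      Comod.coact (k := K) (A := K ⊗[k] A) ((1 : K) ⊗ₜ[k] v) -
        ((1 : K) ⊗ₜ[k] v) ⊗ₜ[K] (1 : K ⊗[k] A) := by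
    intro v
    rw [LinearMap.baseChange_tmul, distribBaseChange_one_tmul, hd, LinearMap.sub_apply, map_sub,
      ← baseChange_coact_one_tmul']
    simp [bcMapG_tmul, Algebra.TensorProduct.one_def]
  have key : ∀ y : K ⊗[k] V, AlgebraTensorModule.distribBaseChange k K V A (d.baseChange K y) =
      Comod.coact (k := K) (A := K ⊗[k] A) y - y ⊗ₜ[K] (1 : K ⊗[k] A) := by
    intro y
    induction y using TensorProduct.induction_on with
    | zero => simp
    | add x y hx hy =>
      rw [map_add, map_add, hx, hy, map_add, TensorProduct.add_tmul]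
      abel
    | tmul c v =>
      have e : c ⊗ₜ[k] v = c • ((1 : K) ⊗ₜ[k] v) := by
        rw [TensorProduct.smul_tmul', smul_eq_mul, mul_one]
      rw [e, map_smul, map_smul, key1, map_smul, smul_sub, TensorProduct.smul_tmul']
  have h0 : d.baseChange K x = 0 := by
    apply (AlgebraTensorModule.distribBaseChange k K V A).injective
    rw [key, map_zero, sub_eq_zero]
    exact hx'
  rw [Submodule.mem_bot]
  exact hdK (h0.trans (map_zero _).symm)

end BCClasses

end Groth.Agent.Lib.Helper25
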