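import Groth.Agent.Lib.Helper25TrigUnip
import Groth.Agent.Lib.Helper25Trig
import Groth.Agent.Lib.Helper25Cocomm
import Groth.Agent.Lib.Helper25ResComod
import Groth.Agent.Lib.Helper25DiagMu

/-!
# Multiplicative type = commutative without additive characters (helper25)

* `eq_smul_sub_of_comul_eq`: in a cocommutative Hopf algebra without primitive elements every
  `(χ', χ)`-skew-primitive element is a multiple of `χ' - χ`.
* `exists_eigen_sub`: correcting a vector to an eigenvector.
* `span_eigen_eq_top_of_noPrim`: over a trigonalizable cocommutative Hopf algebra without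
  primitive elements every finite-dimensional comodule is spanned by eigenvectors.
* `primDefect`, `noPrim_baseChange`, `noPrim_of_baseChange`, `isCocomm_of_baseChange`: primitive
  elements and cocommutativity under extension of the base field.
* `prim_eq_zero_of_isDiagonalizable`, `isCocomm_of_isDiagonalizable`.
-/

set_option autoImplicit false
universe u v w w'

namespace Groth.Agent.Lib.Helper25

open TensorProduct HopfRep


section LemmaA

variable {k : Type u} [Field k] {H : Type v} [CommRing H] [HopfAlgebra k H]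

/-- In a cocommutative Hopf algebra without primitive elements, a skew-primitive element is a
multiple of the difference of the group-likes. -/
theorem eq_smul_sub_of_comul_eq [Coalgebra.IsCocomm k H]
    (hP : ∀ f : H, CoalgebraStruct.comul (R := k) f = f ⊗ₜ[k] (1 : H) + (1 : H) ⊗ₜ[k] f → f = 0)
    {χ χ' a : H} (hχ : IsGroupLikeElem k χ) (hχ' : IsGroupLikeElem k χ')
    (ha : CoalgebraStruct.comul (R := k) a = χ' ⊗ₜ[k] a + a ⊗ₜ[k] χ) :
    ∃ c : k, a = c • (χ' - χ) := by
  by_cases h : χ' = χ
  · subst h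
    refine ⟨0, ?_⟩
    have hx : a * HopfAlgebra.antipode k χ' = 0 := by
      apply hP
      rw [Bialgebra.comul_mul, ha, hχ'.antipode.comul_eq_tmul_self, add_mul,
        Algebra.TensorProduct.tmul_mul_tmul, Algebra.TensorProduct.tmul_mul_tmul,
        hχ'.mul_antipode_cancel, add_comm]
    rw [zero_smul]
    calc a = a * (HopfAlgebra.antipode k χ' * χ') := by rw [hχ'.antipode_mul_cancel, mul_one]
      _ = (a * HopfAlgebra.antipode k χ') * χ' := by ring
      _ = 0 := by rw [hx, zero_mul]
  · have hd : χ' - χ ≠ 0 := sub_ne_zero.mpr h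
    obtain ⟨φ, hφ⟩ : ∃ φ : H →ₗ[k] k, φ (χ' - χ) = 1 := by
      have : ¬ ∀ f : Module.Dual k H, f (χ' - χ) = 0 := fun h' =>
        hd ((Module.forall_dual_apply_eq_zero_iff k (χ' - χ)).mp h')
      push Not at this
      obtain ⟨f, hf⟩ := this
      exact ⟨(f (χ' - χ))⁻¹ • f, by
        rw [LinearMap.smul_apply, smul_eq_mul, inv_mul_cancel₀ hf]⟩
    have hcomm := LinearMap.congr_fun (Coalgebra.comm_comp_comul k H) a
    rw [LinearMap.comp_apply, ha, map_add] at hcomm
    simp only [LinearEquiv.coe_coe, TensorProduct.comm_tmul] at hcomm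
    have h1 : (χ' - χ) ⊗ₜ[k] a = a ⊗ₜ[k] (χ' - χ) := by
      rw [TensorProduct.sub_tmul, TensorProduct.tmul_sub, sub_eq_sub_iff_add_eq_add]
      rw [← hcomm]
    have h2 := congrArg (lslice φ) h1
    rw [lslice_tmul, lslice_tmul, hφ, one_smul] at h2
    exact ⟨φ a, h2⟩

end LemmaA

section Aux

variable {k : Type u} [Field k] {A : Type v} [CommRing A] [Bialgebra k A]
variable {V : Type w} [AddCommGroup V] [Module k V] [Comod k A V]

/-- Dual functionals of a linearly independent family. -/
theorem exists_dual_of_linearIndependent {ι : Type*} [DecidableEq ι] (e : ι → V)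
    (he : LinearIndependent k e) (j : ι) :
    ∃ l : V →ₗ[k] k, ∀ i, l (e i) = if i = j then 1 else 0 := by
  obtain ⟨g, hg⟩ := LinearMap.exists_extend ((Finsupp.lapply j) ∘ₗ he.repr)
  refine ⟨g, fun i => ?_⟩
  have h1 := LinearMap.congr_fun hg ⟨e i, Submodule.subset_span ⟨i, rfl⟩⟩
  simp only [LinearMap.coe_comp, Function.comp_apply, Submodule.subtype_apply,
    Finsupp.lapply_apply] at h1
  rw [h1, he.repr_eq_single i _ rfl, Finsupp.single_apply]

/-- The coefficient of a nonzero eigenvector is group-like. -/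
theorem isGroupLikeElem_of_coact_eq {v : V} (hv0 : v ≠ 0) {χ : A}
    (hρ : Comod.coact (k := k) (A := A) v = v ⊗ₜ[k] χ) : IsGroupLikeElem k χ := by
  obtain ⟨l, hl⟩ : ∃ l : V →ₗ[k] k, l v = 1 := by
    have : ¬ ∀ f : Module.Dual k V, f v = 0 := fun h =>
      hv0 ((Module.forall_dual_apply_eq_zero_iff k v).mp h)
    push Not at this
    obtain ⟨f, hf⟩ := this
    exact ⟨(f v)⁻¹ • f, by simp [hf]⟩
  have hχ : coeffMap (A := A) l v = χ := by
    rw [coeffMap_apply, hρ, lslice_tmul, hl, one_smul]
  constructor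
  · rw [← hχ, counit_coeffMap, hl]
  · have h := isComodHom_apply (isComodHom_coeffMap (A := A) l) v
    change CoalgebraStruct.comul (R := k) (coeffMap (A := A) l v) = _ at h
    rw [hρ, LinearMap.rTensor_tmul, hχ] at h
    exact h

/-- Expansion of elements of `W ⊗ A` along a spanning family. -/
theorem exists_sum_tmul_of_le_span {ι : Type*} [Fintype ι] (e : ι → V) (W : Submodule k V)
    (hW : W ≤ Submodule.span k (Set.range e)) (y : W ⊗[k] A) :
    ∃ a : ι → A, W.subtype.rTensor A y = ∑ i, e i ⊗ₜ[k] a i := by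
  induction y using TensorProduct.induction_on with
  | zero => exact ⟨0, by simp⟩
  | add x y hx hy =>
    obtain ⟨a, ha⟩ := hx
    obtain ⟨a', ha'⟩ := hy
    refine ⟨a + a', ?_⟩
    rw [map_add, ha, ha', ← Finset.sum_add_distrib]
    simp only [Pi.add_apply, TensorProduct.tmul_add]
  | tmul w h =>
    obtain ⟨c, hc⟩ := (Submodule.mem_span_range_iff_exists_fun k).mp (hW w.2)
    refine ⟨fun i => c i • h, ?_⟩
    rw [LinearMap.rTensor_tmul, Submodule.subtype_apply, ← hc, TensorProduct.sum_tmul]
    simp only [TensorProduct.smul_tmul]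

end Aux



section LemmaB

variable {k : Type u} [Field k] {A : Type v} [CommRing A] [Bialgebra k A]
variable {V : Type w} [AddCommGroup V] [Module k V] [Comod k A V]

/-- If `ρ v = v ⊗ χ + Σ e_i ⊗ a_i` with `e_i` linearly independent eigenvectors and all
skew-primitive elements are trivial, then `v` can be corrected to an eigenvector. -/
theorem exists_eigen_sub {ι : Type*} [Fintype ι] (e : ι → V) (he : LinearIndependent k e)
    (χs : ι → A) (hes : ∀ i, Comod.coact (k := k) (A := A) (e i) = e i ⊗ₜ[k] χs i)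
    (v : V) (χ : A) (hχ : IsGroupLikeElem k χ) (a : ι → A)
    (hv : Comod.coact (k := k) (A := A) v = v ⊗ₜ[k] χ + ∑ i, e i ⊗ₜ[k] a i)
    (hA : ∀ χ' a' : A, IsGroupLikeElem k χ' →
      CoalgebraStruct.comul (R := k) a' = χ' ⊗ₜ[k] a' + a' ⊗ₜ[k] χ → ∃ c : k, a' = c • (χ' - χ)) :
    ∃ c : ι → k, Comod.coact (k := k) (A := A) (v - ∑ i, c i • e i) =
      (v - ∑ i, c i • e i) ⊗ₜ[k] χ := by
  classical
  have hgl : ∀ i, IsGroupLikeElem k (χs i) :=
    fun i => isGroupLikeElem_of_coact_eq (he.ne_zero i) (hes i)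
  have hΔ : ∀ j, CoalgebraStruct.comul (R := k) (a j) = χs j ⊗ₜ[k] a j + a j ⊗ₜ[k] χ := by
    intro j
    obtain ⟨l, hl⟩ := exists_dual_of_linearIndependent e he j
    have h := isComodHom_apply (isComodHom_coeffMap (A := A) l) v
    change CoalgebraStruct.comul (R := k) (coeffMap (A := A) l v) = _ at h
    have hc : coeffMap (A := A) l v = l v • χ + a j := by
      rw [coeffMap_apply, hv, map_add, lslice_tmul, map_sum]
      simp only [lslice_tmul, hl, ite_smul, one_smul, zero_smul, Finset.sum_ite_eq',
        Finset.mem_univ, if_true]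
    have hce : ∀ i, coeffMap (A := A) l (e i) = if i = j then χs i else 0 := by
      intro i
      rw [coeffMap_apply, hes, lslice_tmul, hl]
      split_ifs <;> simp
    rw [hv, map_add, LinearMap.rTensor_tmul, map_sum] at h
    simp only [LinearMap.rTensor_tmul, hce, ite_tmul,
      Finset.sum_ite_eq', Finset.mem_univ, if_true] at h
    rw [hc, map_add, map_smul, hχ.comul_eq_tmul_self, TensorProduct.add_tmul,
      ← TensorProduct.smul_tmul'] at h
    have h' := add_left_cancel (a := l v • χ ⊗ₜ[k] χ)
      (b := CoalgebraStruct.comul (R := k) (a j)) (c := a j ⊗ₜ[k] χ + χs j ⊗ₜ[k] a j)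
      (by rw [h]; abel)
    rw [h', add_comm]
  choose c hc using fun j => hA (χs j) (a j) (hgl j) (hΔ j)
  refine ⟨c, ?_⟩
  rw [map_sub, map_sum, hv, TensorProduct.sub_tmul, TensorProduct.sum_tmul]
  simp only [map_smul, hes]
  have h1 : ∀ i, e i ⊗ₜ[k] a i = c i • (e i ⊗ₜ[k] χs i) - (c i • e i) ⊗ₜ[k] χ := by
    intro i
    conv_lhs => rw [hc i]
    rw [TensorProduct.tmul_smul, TensorProduct.tmul_sub, smul_sub, TensorProduct.smul_tmul',
      TensorProduct.smul_tmul']
  simp only [h1, Finset.sum_sub_distrib]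
  abel

end LemmaB



section Assembly

variable {k : Type u} [Field k] {H : Type v} [CommRing H] [HopfAlgebra k H]

/-- Over a trigonalizable cocommutative Hopf algebra without primitive elements every
finite-dimensional comodule is spanned by eigenvectors. -/
theorem span_eigen_eq_top_of_noPrim [Coalgebra.IsCocomm k H] (hT : IsTrigonalizable k H)
    (hP : ∀ f : H, CoalgebraStruct.comul (R := k) f = f ⊗ₜ[k] (1 : H) + (1 : H) ⊗ₜ[k] f → f = 0)
    (V : Type v) [AddCommGroup V] [Module k V] [Comod k H V] [Module.Finite k V] :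
    Submodule.span k {v : V | ∃ a : H, Comod.coact (k := k) (A := H) v = v ⊗ₜ[k] a} = ⊤ := by
  classical
  set S : Set V := {v : V | ∃ a : H, Comod.coact (k := k) (A := H) v = v ⊗ₜ[k] a} with hS
  obtain ⟨F, hmono, hsub, hdim⟩ := exists_dimFlag_aux hT _ V inferInstance rfl
  obtain ⟨b, hbsub, hbspan, hbli⟩ := exists_linearIndependent k S
  haveI : Finite b := hbli.finite
  haveI := Fintype.ofFinite b
  choose χs hχs using fun x : b => hbsub x.2
  have hrange : Submodule.span k (Set.range (fun x : b => (x : V))) = Submodule.span k S := by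
    rw [Subtype.range_coe]; exact hbspan
  have key : ∀ i, i ≤ Module.finrank k V → F i ≤ Submodule.span k S := by
    intro i
    induction i with
    | zero =>
      intro _
      have h0 : F 0 = ⊥ := Submodule.finrank_eq_zero.mp (hdim 0 (Nat.zero_le _))
      rw [h0]; exact bot_le
    | succ i ih =>
      intro hi v hv
      have hiE := ih (Nat.le_of_succ_le hi)
      obtain ⟨χ, hχ, hgr⟩ := exists_groupLike_graded (F i) (F (i + 1)) (hsub i) (hsub (i + 1))
        (hmono (Nat.le_succ i)) (by rw [hdim _ hi, hdim _ (Nat.le_of_succ_le hi)])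
      obtain ⟨y, hy⟩ := hgr v hv
      obtain ⟨a, ha⟩ := exists_sum_tmul_of_le_span (A := H) (fun x : b => (x : V)) (F i)
        (by rw [hrange]; exact hiE) y
      have hv' : Comod.coact (k := k) (A := H) v = v ⊗ₜ[k] χ + ∑ x : b, (x : V) ⊗ₜ[k] a x := by
        rw [← ha, hy]; abel
      obtain ⟨c, hc⟩ := exists_eigen_sub (fun x : b => (x : V)) hbli χs hχs v χ hχ a hv'
        (fun χ' a' h1 h2 => eq_smul_sub_of_comul_eq hP hχ h1 h2)
      have h1 : v - ∑ x : b, c x • (x : V) ∈ Submodule.span k S :=
        Submodule.subset_span ⟨χ, hc⟩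
      have h2 : ∑ x : b, c x • (x : V) ∈ Submodule.span k S :=
        Submodule.sum_mem _ (fun x _ => Submodule.smul_mem _ _ (Submodule.subset_span (hbsub x.2)))
      have h3 := Submodule.add_mem _ h1 h2
      rwa [sub_add_cancel] at h3
  rw [eq_top_iff]
  have htop : F (Module.finrank k V) = ⊤ :=
    Submodule.eq_top_of_finrank_eq (hdim _ le_rfl)
  rw [← htop]
  exact key _ le_rfl

end Assembly



section BCPrim

variable (k K A : Type u) [Field k] [Field K] [Algebra k K] [CommRing A] [HopfAlgebra k A]

theorem bcMapG_injective (V : Type u) [AddCommGroup V] [Module k V] :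
    Function.Injective (bcMapG k K A V) := by
  intro x y h
  rw [← distribBaseChange_one_tmul, ← distribBaseChange_one_tmul] at h
  have h1 := (AlgebraTensorModule.distribBaseChange k K V A).injective h
  exact Module.Flat.tensorProduct_mk_injective k (V ⊗[k] A) K h1

/-- The "primitivity defect" `δ a = Δ a - a ⊗ 1 - 1 ⊗ a`. -/
noncomputable def primDefect (k : Type u) (A : Type v) [CommRing k] [CommRing A] [Bialgebra k A] :
    A →ₗ[k] A ⊗[k] A :=
  CoalgebraStruct.comul (R := k) (A := A) - (TensorProduct.mk k A A).flip 1 - TensorProduct.mk k A A 1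

theorem primDefect_apply {k : Type u} {A : Type v} [CommRing k] [CommRing A] [Bialgebra k A]
    (a : A) : primDefect k A a =
      CoalgebraStruct.comul (R := k) a - a ⊗ₜ[k] (1 : A) - (1 : A) ⊗ₜ[k] a := rfl

theorem primDefect_eq_zero_iff {k : Type u} {A : Type v} [CommRing k] [CommRing A] [Bialgebra k A]
    (a : A) : primDefect k A a = 0 ↔
      CoalgebraStruct.comul (R := k) a = a ⊗ₜ[k] (1 : A) + (1 : A) ⊗ₜ[k] a := by
  rw [primDefect_apply, sub_sub, sub_eq_zero]

theorem primDefect_one_tmul (a : A) :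
    primDefect K (K ⊗[k] A) ((1 : K) ⊗ₜ[k] a) = bcMapG k K A A (primDefect k A a) := by
  rw [primDefect_apply, primDefect_apply, map_sub, map_sub, comul_one_tmul', bcMapG_tmul,
    bcMapG_tmul, Algebra.TensorProduct.one_def]

theorem primDefect_baseChange :
    primDefect K (K ⊗[k] A) =
      (AlgebraTensorModule.distribBaseChange k K A A).toLinearMap ∘ₗ
        (primDefect k A).baseChange K := by
  apply TensorProduct.AlgebraTensorModule.curry_injective
  apply LinearMap.ext_ring
  apply LinearMap.ext
  intro a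
  simp only [TensorProduct.AlgebraTensorModule.curry_apply, LinearMap.restrictScalars_comp,
    TensorProduct.curry_apply, LinearMap.coe_restrictScalars, LinearMap.coe_comp,
    LinearEquiv.coe_coe, Function.comp_apply, LinearMap.baseChange_tmul]
  rw [primDefect_one_tmul, distribBaseChange_one_tmul]

/-- If `A` has no nonzero primitive elements, neither has a base change. -/
theorem noPrim_baseChange
    (hP : ∀ f : A, CoalgebraStruct.comul (R := k) f = f ⊗ₜ[k] (1 : A) + (1 : A) ⊗ₜ[k] f → f = 0)
    (x : K ⊗[k] A)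
    (hx : CoalgebraStruct.comul (R := K) x = x ⊗ₜ[K] (1 : K ⊗[k] A) + (1 : K ⊗[k] A) ⊗ₜ[K] x) :
    x = 0 := by
  have hinj : Function.Injective (primDefect k A) := by
    rw [← LinearMap.ker_eq_bot, eq_bot_iff]
    intro a ha
    rw [LinearMap.mem_ker, primDefect_eq_zero_iff] at ha
    rw [Submodule.mem_bot]
    exact hP a ha
  have hinj' : Function.Injective ((primDefect k A).baseChange K) := by
    have : ((primDefect k A).baseChange K : K ⊗[k] A → K ⊗[k] (A ⊗[k] A)) =
        (primDefect k A).lTensor K := rfl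
    rw [this]
    exact Module.Flat.lTensor_preserves_injective_linearMap _ hinj
  have h0 : primDefect K (K ⊗[k] A) x = 0 := (primDefect_eq_zero_iff x).mpr hx
  rw [primDefect_baseChange, LinearMap.comp_apply] at h0
  have h1 := (AlgebraTensorModule.distribBaseChange k K A A).map_eq_zero_iff.mp h0
  exact hinj' (by rw [h1, map_zero])

/-- Primitive elements of `A` give primitive elements of a base change. -/
theorem noPrim_of_baseChange
    (hP : ∀ x : K ⊗[k] A, CoalgebraStruct.comul (R := K) x =
      x ⊗ₜ[K] (1 : K ⊗[k] A) + (1 : K ⊗[k] A) ⊗ₜ[K] x → x = 0)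
    (f : A)
    (hf : CoalgebraStruct.comul (R := k) f = f ⊗ₜ[k] (1 : A) + (1 : A) ⊗ₜ[k] f) : f = 0 := by
  have h1 : primDefect K (K ⊗[k] A) ((1 : K) ⊗ₜ[k] f) = 0 := by
    rw [primDefect_one_tmul, (primDefect_eq_zero_iff f).mpr hf, map_zero]
  have h2 := hP _ ((primDefect_eq_zero_iff _).mp h1)
  exact Module.Flat.tensorProduct_mk_injective k A K (by
    change (1 : K) ⊗ₜ[k] f = (1 : K) ⊗ₜ[k] (0 : A)
    rw [h2, TensorProduct.tmul_zero])

/-- Cocommutativity descends along field extensions. -/
theorem isCocomm_of_baseChange [Coalgebra.IsCocomm K (K ⊗[k] A)] : Coalgebra.IsCocomm k A := by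
  constructor
  apply LinearMap.ext
  intro a
  apply bcMapG_injective k K A A
  have h1 := LinearMap.congr_fun (Coalgebra.comm_comp_comul K (K ⊗[k] A)) ((1 : K) ⊗ₜ[k] a)
  rw [LinearMap.comp_apply, comul_one_tmul'] at h1
  rw [LinearMap.comp_apply, ← h1]
  generalize CoalgebraStruct.comul (R := k) a = z
  induction z using TensorProduct.induction_on with
  | zero => simp
  | add x y hx hy => simp only [map_add, hx, hy]
  | tmul x y =>
    simp only [LinearEquiv.coe_coe, TensorProduct.comm_tmul, bcMapG_tmul]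

end BCPrim

section DiagPrim

variable {k : Type u} [Field k] {H : Type v} [CommRing H] [Bialgebra k H]

theorem prim_eq_zero_of_isDiagonalizable (hD : HopfRep.IsDiagonalizable k H) (x : H)
    (hx : CoalgebraStruct.comul (R := k) x = x ⊗ₜ[k] (1 : H) + (1 : H) ⊗ₜ[k] x) : x = 0 := by
  have h1 := slice_coord_comul hD ⟨1, IsGroupLikeElem.one⟩ x
  rw [hx, map_add, slice_tmul, slice_tmul] at h1
  have h2 : (groupLikeBasis hD).coord ⟨1, IsGroupLikeElem.one⟩ (1 : H) = 1 := by
    have h3 : (groupLikeBasis hD).coord ⟨1, IsGroupLikeElem.one⟩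
        (groupLikeBasis hD ⟨1, IsGroupLikeElem.one⟩) = 1 := by
      rw [Module.Basis.coord_apply, Module.Basis.repr_self, Finsupp.single_eq_same]
    rw [groupLikeBasis_apply] at h3
    exact h3
  rw [h2, one_smul] at h1
  exact add_right_cancel (b := (groupLikeBasis hD).coord ⟨1, IsGroupLikeElem.one⟩ x • (1 : H))
    (by rw [zero_add]; exact h1)

theorem isCocomm_of_isDiagonalizable (hD : HopfRep.IsDiagonalizable k H) :
    Coalgebra.IsCocomm k H := by
  constructor
  apply (groupLikeBasis hD).ext
  intro g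
  rw [LinearMap.comp_apply, groupLikeBasis_apply, g.2.comul_eq_tmul_self]
  rfl

end DiagPrim

end Groth.Agent.Lib.Helper25
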