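import Groth.Agent.Lib.Helper25Antipode
import Groth.Agent.Lib.Helper25Coconn
import Groth.Agent.Lib.Helper25HSub
import Groth.Agent.Lib.Helper25MultRigidB
import Groth.Agent.Lib.Helper25PrimExt
import Groth.Agent.Lib.Helper25TakeuchiCor
import Groth.Agent.Lib.Helper25TrigUnip
import Groth.Agent.S7979

/-!
# Helper25HopfSub: sub-Hopf-algebras as Hopf algebras; the largest subgroup of multiplicative type
of a commutative algebraic group (helper25)

* `HSub k A`: bundled sub-Hopf-algebras of a commutative Hopf algebra over a field, with the induced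
  `HopfAlgebra k ↥B.S` instance, `HSub.val`, `HSub.codRestrict`.
* `mem_Cp_succ_iff`, `Cp_mul_mem`, `CpUnion`, `antipode_mem_Cp`, `coconn`: the coradical-type
  filtration is multiplicative; its union is the largest coconnected (= unipotent) sub-Hopf-algebra
  (`isUnipotent_coconn`, `le_coconn_of_isUnipotent`).
* `bialgHom_eq_counit_of_noPrim`: maps from coconnected bialgebras to bialgebras without
  primitives are trivial.
* `isNormalHopfIdeal_of_isCocomm`, `isHopfIdeal_comap`, `quotLift`, `primSub`.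
* `eq_zero_of_isPrim_quot_coconn`: `A ⧸ coconnIdeal` has no nonzero primitive elements.
* `isMultTypeConst_quot_coconn`, `coconnIdeal_le_of_isMultTypeConst`, `coconnIdeal_eq_map`.
-/

set_option autoImplicit false
universe u v w

/-! ## Part H2 -/
namespace Groth.Agent.Lib.Helper25.HopfSub

open TensorProduct HopfRep

section Mult

variable {k : Type u} [Field k] {A : Type v} [CommRing A] [Bialgebra k A]

theorem slice_comul_sub (φ : A →ₗ[k] k) (a : A) :
    slice A φ (CoalgebraStruct.comul (R := k) a - a ⊗ₜ[k] (1 : A)) =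
      T (V := A) (φ - φ 1 • CoalgebraStruct.counit (R := k) (A := A)) a := by
  have e : φ - φ 1 • CoalgebraStruct.counit (R := k) (A := A) =
      φ + (-(φ 1)) • CoalgebraStruct.counit (R := k) (A := A) := by
    apply LinearMap.ext
    intro x
    simp [sub_eq_add_neg]
  rw [map_sub, slice_tmul, e, T_add, T_smul, T_counit, neg_smul, ← sub_eq_add_neg]
  rfl

theorem mem_Cp_succ_iff {r : ℕ} {a : A} :
    a ∈ Cp k A (r + 1) ↔ CoalgebraStruct.comul (R := k) a - a ⊗ₜ[k] (1 : A) ∈
      LinearMap.range ((Cp k A r).subtype.rTensor A) := by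
  rw [mem_Cp_succ, mem_range_rTensor_iff]
  constructor
  · intro h φ
    rw [slice_comul_sub]
    exact h _ (by simp [Bialgebra.counit_one])
  · intro h f hf
    have h1 := h f
    rw [slice_comul_sub, hf, zero_smul, sub_zero] at h1
    exact h1

theorem comul_mem_range_rTensor_Cp {r : ℕ} {a : A} (ha : a ∈ Cp k A r) :
    CoalgebraStruct.comul (R := k) a ∈ LinearMap.range ((Cp k A r).subtype.rTensor A) := by
  rw [mem_range_rTensor_iff]
  intro φ
  exact T_mem_Cp φ ha

theorem mul_mem_range_rTensor {F G H : Submodule k A} (hFG : ∀ f ∈ F, ∀ g ∈ G, f * g ∈ H)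
    {z w : A ⊗[k] A} (hz : z ∈ LinearMap.range (F.subtype.rTensor A))
    (hw : w ∈ LinearMap.range (G.subtype.rTensor A)) :
    z * w ∈ LinearMap.range (H.subtype.rTensor A) := by
  obtain ⟨z', rfl⟩ := hz
  obtain ⟨w', rfl⟩ := hw
  induction z' using TensorProduct.induction_on with
  | zero => simp
  | add x y hx hy => rw [map_add, add_mul]; exact Submodule.add_mem _ hx hy
  | tmul f a =>
    induction w' using TensorProduct.induction_on with
    | zero => simp
    | add x y hx hy => rw [map_add, mul_add]; exact Submodule.add_mem _ hx hy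
    | tmul g b =>
      refine ⟨(⟨f.1 * g.1, hFG _ f.2 _ g.2⟩ : H) ⊗ₜ (a * b), ?_⟩
      simp [Algebra.TensorProduct.tmul_mul_tmul]

theorem Cp_mul_mem : ∀ (n r s : ℕ), r + s = n → ∀ a ∈ Cp k A (r + 1), ∀ b ∈ Cp k A (s + 1),
    a * b ∈ Cp k A (n + 1) := by
  intro n
  induction n with
  | zero =>
    intro r s hrs a ha b hb
    obtain ⟨rfl, rfl⟩ : r = 0 ∧ s = 0 := by omega
    rw [Cp_one] at ha hb ⊢
    obtain ⟨α, rfl⟩ := Submodule.mem_span_singleton.mp ha
    obtain ⟨β, rfl⟩ := Submodule.mem_span_singleton.mp hb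
    rw [smul_mul_smul_comm, mul_one]
    exact Submodule.smul_mem _ _ (Submodule.subset_span rfl)
  | succ n ih =>
    intro r s hrs a ha b hb
    rw [mem_Cp_succ_iff]
    have e : CoalgebraStruct.comul (R := k) (a * b) - (a * b) ⊗ₜ[k] (1 : A) =
        (CoalgebraStruct.comul (R := k) a - a ⊗ₜ[k] (1 : A)) * CoalgebraStruct.comul (R := k) b +
          (a ⊗ₜ[k] (1 : A)) * (CoalgebraStruct.comul (R := k) b - b ⊗ₜ[k] (1 : A)) := by
      rw [Bialgebra.comul_mul, sub_mul, mul_sub, Algebra.TensorProduct.tmul_mul_tmul, mul_one]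
      abel
    rw [e]
    apply Submodule.add_mem
    · have h1 := mem_Cp_succ_iff.mp ha
      have h2 := comul_mem_range_rTensor_Cp hb
      cases r with
      | zero =>
        refine mul_mem_range_rTensor ?_ h1 h2
        intro f hf g _
        have hf0 : f = 0 := by simpa [Cp] using hf
        rw [hf0, zero_mul]
        exact Submodule.zero_mem _
      | succ r' =>
        exact mul_mem_range_rTensor (ih r' s (by omega)) h1 h2
    · have h1 : a ⊗ₜ[k] (1 : A) ∈ LinearMap.range ((Cp k A (r + 1)).subtype.rTensor A) :=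
        ⟨(⟨a, ha⟩ : Cp k A (r + 1)) ⊗ₜ[k] (1 : A), by simp⟩
      have h2 := mem_Cp_succ_iff.mp hb
      cases s with
      | zero =>
        refine mul_mem_range_rTensor ?_ h1 h2
        intro f _ g hg
        have hg0 : g = 0 := by simpa [Cp] using hg
        rw [hg0, mul_zero]
        exact Submodule.zero_mem _
      | succ s' =>
        exact mul_mem_range_rTensor (ih r s' (by omega)) h1 h2

variable (k A)

/-- The union of the coradical-type filtration: the largest coconnected sub-bialgebra. -/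
noncomputable def CpUnion : Subalgebra k A where
  carrier := {a | ∃ r, a ∈ Cp k A r}
  mul_mem' := by
    rintro a b ⟨r, ha⟩ ⟨s, hb⟩
    exact ⟨r + s + 1, Cp_mul_mem (r + s) r s rfl a (Cp_le_succ r ha) b (Cp_le_succ s hb)⟩
  one_mem' := ⟨1, by rw [Cp_one]; exact Submodule.subset_span rfl⟩
  add_mem' := by
    rintro a b ⟨r, ha⟩ ⟨s, hb⟩
    exact ⟨max r s, Submodule.add_mem _ (Cp_mono (le_max_left r s) ha)
      (Cp_mono (le_max_right r s) hb)⟩
  zero_mem' := ⟨0, Submodule.zero_mem _⟩
  algebraMap_mem' := by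
    intro c
    refine ⟨1, ?_⟩
    rw [Cp_one, Algebra.algebraMap_eq_smul_one]
    exact Submodule.smul_mem _ _ (Submodule.subset_span rfl)

variable {k A}

theorem mem_CpUnion {a : A} : a ∈ CpUnion k A ↔ ∃ r, a ∈ Cp k A r := Iff.rfl

theorem Cp_le_CpUnion (r : ℕ) : Cp k A r ≤ Subalgebra.toSubmodule (CpUnion k A) :=
  fun _ ha => ⟨r, ha⟩

theorem range_mapIncl_le {F G : Submodule k A} (B : Subalgebra k A)
    (hF : F ≤ Subalgebra.toSubmodule B) (hG : G ≤ Subalgebra.toSubmodule B) :
    LinearMap.range (TensorProduct.mapIncl F G) ≤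
      LinearMap.range (TensorProduct.map B.val.toLinearMap B.val.toLinearMap) := by
  rintro _ ⟨z, rfl⟩
  refine ⟨TensorProduct.map (Submodule.inclusion hF) (Submodule.inclusion hG) z, ?_⟩
  rw [← LinearMap.comp_apply, ← TensorProduct.map_comp]
  rfl

theorem comul_mem_CpUnion (b : A) (hb : b ∈ CpUnion k A) :
    CoalgebraStruct.comul (R := k) b ∈ LinearMap.range
      (TensorProduct.map (CpUnion k A).val.toLinearMap (CpUnion k A).val.toLinearMap) := by
  obtain ⟨r, hr⟩ := hb
  have hr' : b ∈ Cp k A (r + 1) := Cp_le_succ r hr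
  have h := comul_Cp_le (k := k) (A := A) r ⟨b, hr', rfl⟩
  refine (iSup₂_le (fun i _ => ?_) :
    (⨆ i ∈ Finset.range (r + 1),
        LinearMap.range (TensorProduct.mapIncl (Cp k A (i + 1)) (Cp k A (r - i + 1)))) ≤ _) h
  exact range_mapIncl_le _ (Cp_le_CpUnion _) (Cp_le_CpUnion _)

end Mult

section Antipode

variable {k : Type u} [Field k] {A : Type v} [CommRing A] [HopfAlgebra k A]

theorem slice_map_antipode (φ : A →ₗ[k] k) (z : A ⊗[k] A) :
    slice A φ (TensorProduct.map (HopfAlgebra.antipode k) (HopfAlgebra.antipode k) z) =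
      HopfAlgebra.antipode k (slice A (φ ∘ₗ HopfAlgebra.antipode k) z) := by
  induction z using TensorProduct.induction_on with
  | zero => simp
  | add x y hx hy => simp only [map_add, hx, hy]
  | tmul a b => simp

theorem antipode_mem_Cp [Coalgebra.IsCocomm k A] : ∀ (r : ℕ) (a : A), a ∈ Cp k A r →
    HopfAlgebra.antipode k a ∈ Cp k A r := by
  intro r
  induction r with
  | zero =>
    intro a ha
    have : a = 0 := by simpa [Cp] using ha
    rw [this, map_zero]
    exact Submodule.zero_mem _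
  | succ r ih =>
    intro a ha
    rw [mem_Cp_succ_iff] at ha ⊢
    have e : CoalgebraStruct.comul (R := k) (HopfAlgebra.antipode k a) -
        HopfAlgebra.antipode k a ⊗ₜ[k] (1 : A) =
        TensorProduct.map (HopfAlgebra.antipode k) (HopfAlgebra.antipode k)
          (CoalgebraStruct.comul (R := k) a - a ⊗ₜ[k] (1 : A)) := by
      rw [comul_antipode, Coalgebra.comm_comul, map_sub, TensorProduct.map_tmul,
        HopfAlgebra.antipode_one]
    rw [e, mem_range_rTensor_iff]
    intro φ
    rw [slice_map_antipode]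
    exact ih _ ((mem_range_rTensor_iff _ _).mp ha _)

variable (k A) in
/-- The largest coconnected sub-Hopf-algebra of a cocommutative commutative Hopf algebra. -/
noncomputable def coconn [Coalgebra.IsCocomm k A] : HSub k A where
  S := CpUnion k A
  comul_mem := comul_mem_CpUnion
  antipode_mem := by
    rintro b ⟨r, hr⟩
    exact ⟨r, antipode_mem_Cp r b hr⟩

end Antipode

end Groth.Agent.Lib.Helper25.HopfSub

/-! ## Part H3 -/
namespace Groth.Agent.Lib.Helper25.HopfSub

open TensorProduct HopfRep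

section MapCp

variable {k : Type u} [Field k] {A : Type v} [CommRing A] [Bialgebra k A]
  {C : Type w} [CommRing C] [Bialgebra k C]

theorem slice_map_map (φ : C →ₗ[k] A) (f : A →ₗ[k] k) (z : C ⊗[k] C) :
    slice A f (TensorProduct.map φ φ z) = φ (slice C (f ∘ₗ φ) z) := by
  induction z using TensorProduct.induction_on with
  | zero => simp
  | add x y hx hy => simp only [map_add, hx, hy]
  | tmul a b => simp

theorem T_bialgHom (φ : C →ₐc[k] A) (f : A →ₗ[k] k) (c : C) :
    T (V := A) f (φ c) = φ (T (V := C) (f ∘ₗ (φ : C →ₗ[k] A)) c) := by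
  rw [T_apply, T_apply]
  change slice A f (CoalgebraStruct.comul (R := k) (φ c)) =
    (φ : C →ₗ[k] A) (slice C (f ∘ₗ (φ : C →ₗ[k] A)) (CoalgebraStruct.comul (R := k) c))
  rw [← slice_map_map, ← CoalgHomClass.map_comp_comul_apply φ c]

theorem map_mem_Cp (φ : C →ₐc[k] A) : ∀ (r : ℕ) (c : C), c ∈ Cp k C r → φ c ∈ Cp k A r := by
  intro r
  induction r with
  | zero =>
    intro c hc
    have : c = 0 := by simpa [Cp] using hc
    rw [this, map_zero]
    exact Submodule.zero_mem _
  | succ r ih =>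
    intro c hc
    rw [mem_Cp_succ] at hc ⊢
    intro f hf
    rw [T_bialgHom]
    apply ih
    apply hc
    change f (φ 1) = 0
    rw [map_one, hf]

theorem mem_Cp_of_map_mem (φ : C →ₐc[k] A) (hφ : Function.Injective φ) :
    ∀ (r : ℕ) (c : C), φ c ∈ Cp k A r → c ∈ Cp k C r := by
  intro r
  induction r with
  | zero =>
    intro c hc
    have h0 : φ c = 0 := by simpa [Cp] using hc
    have : c = 0 := hφ (by rw [h0, map_zero])
    rw [this]
    exact Submodule.zero_mem _
  | succ r ih =>
    intro c hc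
    rw [mem_Cp_succ] at hc ⊢
    intro f hf
    -- extend `f` along `φ`
    obtain ⟨g, hg⟩ : ∃ g : A →ₗ[k] k, g ∘ₗ (φ : C →ₗ[k] A) = f := by
      have hinj : LinearMap.ker (φ : C →ₗ[k] A) = ⊥ := LinearMap.ker_eq_bot.mpr hφ
      obtain ⟨ψ, hψ⟩ := LinearMap.exists_leftInverse_of_injective (φ : C →ₗ[k] A) hinj
      refine ⟨f ∘ₗ ψ, ?_⟩
      rw [LinearMap.comp_assoc, hψ, LinearMap.comp_id]
    apply ih
    rw [← hg, ← T_bialgHom]
    apply hc
    have h1 : g (φ 1) = f 1 := by rw [← hg]; rfl
    rw [map_one] at h1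
    rw [h1, hf]

theorem isUnipotent_of_forall_mem_Cp (h : ∀ a : A, ∃ r, a ∈ Cp k A r) : IsUnipotent k A := by
  apply isUnipotent_of_exists_cofilt
  refine ⟨fun r => Cp k A (r + 1), fun x y hxy => Cp_mono (Nat.succ_le_succ hxy), Cp_one, ?_,
    fun r => comul_Cp_le r⟩
  rw [eq_top_iff]
  intro a _
  obtain ⟨m, hm⟩ := h a
  exact Submodule.mem_iSup_of_mem m (Cp_le_succ m hm)

end MapCp

section Coconn

variable {k : Type u} [Field k] {A : Type v} [CommRing A] [HopfAlgebra k A]

theorem isUnipotent_coconn [Coalgebra.IsCocomm k A] : IsUnipotent k ↥(coconn k A).S := by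
  apply isUnipotent_of_forall_mem_Cp
  intro b
  obtain ⟨r, hr⟩ := b.2
  exact ⟨r, mem_Cp_of_map_mem (coconn k A).val (coconn k A).val_injective r b hr⟩

theorem le_coconn_of_isUnipotent [Coalgebra.IsCocomm k A] (B : HSub k A)
    (hB : IsUnipotent k ↥B.S) : B.S ≤ (coconn k A).S := by
  intro b hb
  obtain ⟨m, hm⟩ := mem_Cp_of_trivFlag hB (⟨b, hb⟩ : ↥B.S)
  exact ⟨m, map_mem_Cp B.val m _ hm⟩

end Coconn

end Groth.Agent.Lib.Helper25.HopfSub

/-! ## Part H4 -/
namespace Groth.Agent.Lib.Helper25.HopfSub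

open TensorProduct HopfRep

section Triv

variable {k : Type u} [Field k] {D : Type v} [CommRing D] [Bialgebra k D]
  {C : Type w} [CommRing C] [Bialgebra k C]

/-- An element `y` with `ε y = 0` and `Δ y = 1 ⊗ u + v ⊗ 1` is primitive. -/
theorem isPrim_of_comul_eq {y u v : D}
    (h : CoalgebraStruct.comul (R := k) y = (1 : D) ⊗ₜ[k] u + v ⊗ₜ[k] (1 : D))
    (hε : CoalgebraStruct.counit (R := k) y = 0) :
    CoalgebraStruct.comul (R := k) y = y ⊗ₜ[k] (1 : D) + (1 : D) ⊗ₜ[k] y := by
  have h1 := Coalgebra.rTensor_counit_comul (R := k) y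
  rw [h, map_add, LinearMap.rTensor_tmul, LinearMap.rTensor_tmul, Bialgebra.counit_one] at h1
  have h1' := congrArg (TensorProduct.lid k D) h1
  simp only [map_add, TensorProduct.lid_tmul, one_smul] at h1'
  have h2 := Coalgebra.lTensor_counit_comul (R := k) y
  rw [h, map_add, LinearMap.lTensor_tmul, LinearMap.lTensor_tmul, Bialgebra.counit_one] at h2
  have h2' := congrArg (TensorProduct.rid k D) h2
  simp only [map_add, TensorProduct.rid_tmul, one_smul] at h2'
  -- h1' : u + ε v • 1 = y ; h2' : ε u • 1 + v = y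
  have h3 : CoalgebraStruct.counit (R := k) u + CoalgebraStruct.counit (R := k) v = 0 := by
    have := congrArg (CoalgebraStruct.counit (R := k) (A := D)) h1'
    rw [map_add, map_smul, Bialgebra.counit_one, hε, smul_eq_mul, mul_one] at this
    exact this
  have hu : u = y - CoalgebraStruct.counit (R := k) v • (1 : D) := by rw [← h1']; abel
  have hv : v = y - CoalgebraStruct.counit (R := k) u • (1 : D) := by rw [← h2']; abel
  have h4 : CoalgebraStruct.counit (R := k) v = - CoalgebraStruct.counit (R := k) u := by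
    rw [eq_neg_iff_add_eq_zero, add_comm]; exact h3
  rw [h4] at hu
  generalize CoalgebraStruct.counit (R := k) u = α at hu hv
  rw [neg_smul, sub_neg_eq_add] at hu
  rw [h, hu, hv]
  rw [TensorProduct.tmul_add, TensorProduct.sub_tmul, TensorProduct.tmul_smul,
    ← TensorProduct.smul_tmul']
  abel

/-- The subspace `1 ⊗ D + D ⊗ 1` of `D ⊗ D`. -/
def edgeSub (k : Type u) [Field k] (D : Type v) [CommRing D] [Bialgebra k D] :
    Submodule k (D ⊗[k] D) :=
  LinearMap.range (TensorProduct.mk k D D 1) ⊔ LinearMap.range ((TensorProduct.mk k D D).flip 1)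

theorem exists_of_mem_edgeSub {z : D ⊗[k] D} (hz : z ∈ edgeSub k D) :
    ∃ u v : D, z = (1 : D) ⊗ₜ[k] u + v ⊗ₜ[k] (1 : D) := by
  obtain ⟨_, ⟨u, rfl⟩, _, ⟨v, rfl⟩, rfl⟩ := Submodule.mem_sup.mp hz
  exact ⟨u, v, rfl⟩

theorem one_tmul_mem_edgeSub (u : D) : (1 : D) ⊗ₜ[k] u ∈ edgeSub k D :=
  Submodule.mem_sup_left ⟨u, rfl⟩

theorem tmul_one_mem_edgeSub (v : D) : v ⊗ₜ[k] (1 : D) ∈ edgeSub k D :=
  Submodule.mem_sup_right ⟨v, rfl⟩

/-- A bialgebra map from a coconnected bialgebra to a bialgebra without nonzero primitive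
elements is trivial. -/
theorem bialgHom_eq_counit_of_noPrim (φ : C →ₐc[k] D)
    (hP : ∀ x : D, CoalgebraStruct.comul (R := k) x = x ⊗ₜ[k] (1 : D) + (1 : D) ⊗ₜ[k] x → x = 0) :
    ∀ (r : ℕ) (c : C), c ∈ Cp k C r → φ c = algebraMap k D (CoalgebraStruct.counit (R := k) c) := by
  intro r
  induction r using Nat.strong_induction_on with
  | _ r ih =>
    intro c hc
    cases r with
    | zero =>
      have : c = 0 := by simpa [Cp] using hc
      rw [this, map_zero, map_zero, map_zero]
    | succ n =>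
      cases n with
      | zero =>
        rw [Cp_one] at hc
        obtain ⟨α, rfl⟩ := Submodule.mem_span_singleton.mp hc
        rw [map_smul, map_one, map_smul, Bialgebra.counit_one, smul_eq_mul, mul_one,
          Algebra.algebraMap_eq_smul_one]
      | succ m =>
        -- `c ∈ Cp (m+2)`
        have h := comul_Cp_le (k := k) (A := C) (m + 1) ⟨c, hc, rfl⟩
        have hW : TensorProduct.map (φ : C →ₗ[k] D) (φ : C →ₗ[k] D)
            (CoalgebraStruct.comul (R := k) c) ∈ edgeSub k D := by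
          have hle : (⨆ i ∈ Finset.range (m + 1 + 1),
              LinearMap.range (TensorProduct.mapIncl (Cp k C (i + 1)) (Cp k C (m + 1 - i + 1)))) ≤
              (edgeSub k D).comap (TensorProduct.map (φ : C →ₗ[k] D) (φ : C →ₗ[k] D)) := by
            refine iSup₂_le (fun i hi => ?_)
            rintro _ ⟨z, rfl⟩
            rw [Submodule.mem_comap]
            induction z using TensorProduct.induction_on with
            | zero => simp
            | add x y hx hy => rw [map_add, map_add]; exact Submodule.add_mem _ hx hy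
            | tmul x y =>
              change (φ (x : C)) ⊗ₜ[k] (φ (y : C)) ∈ edgeSub k D
              by_cases hi' : i ≤ m
              · rw [ih (i + 1) (by omega) x x.2, Algebra.algebraMap_eq_smul_one,
                  TensorProduct.smul_tmul]
                exact one_tmul_mem_edgeSub _
              · have hi2 : i = m + 1 := by
                  have := Finset.mem_range.mp hi
                  omega
                subst hi2
                rw [ih (m + 1 - (m + 1) + 1) (by omega) y y.2, Algebra.algebraMap_eq_smul_one,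
                  TensorProduct.tmul_smul]
                exact Submodule.smul_mem _ _ (tmul_one_mem_edgeSub _)
          exact hle h
        rw [CoalgHomClass.map_comp_comul_apply φ c] at hW
        set y : D := φ c - algebraMap k D (CoalgebraStruct.counit (R := k) c) with hy
        have hyW : CoalgebraStruct.comul (R := k) y ∈ edgeSub k D := by
          rw [hy, map_sub, Algebra.algebraMap_eq_smul_one, map_smul, Bialgebra.comul_one,
            Algebra.TensorProduct.one_def]
          exact Submodule.sub_mem _ hW (Submodule.smul_mem _ _ (one_tmul_mem_edgeSub _))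
        obtain ⟨u, v, huv⟩ := exists_of_mem_edgeSub hyW
        have hε : CoalgebraStruct.counit (R := k) y = 0 := by
          rw [hy, map_sub, CoalgHomClass.counit_comp_apply, Bialgebra.counit_algebraMap, sub_self]
        have := hP y (isPrim_of_comul_eq huv hε)
        rw [hy, sub_eq_zero] at this
        exact this

end Triv

end Groth.Agent.Lib.Helper25.HopfSub

/-! ## Part H5 -/
namespace Groth.Agent.Lib.Helper25.HopfSub

open TensorProduct HopfRep WithConv

section Normal

variable {k A : Type u} [Field k] [CommRing A] [HopfAlgebra k A]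

/-- Every Hopf ideal of a cocommutative Hopf algebra is normal. -/
theorem isNormalHopfIdeal_of_isCocomm [Coalgebra.IsCocomm k A] (I : Ideal A) :
    SGA3.IsNormalHopfIdeal k A I := by
  intro R _ _ g h hh a ha
  rw [Groth.Agent.Lib.Helper25.conv3_eq]
  have e : (toConv g * toConv h * toConv (g.comp (HopfAlgebra.antipodeAlgHom k A))) =
      toConv h := by
    change toConv g * toConv h * (toConv g)⁻¹ = toConv h
    rw [mul_comm (toConv g), mul_assoc, mul_inv_cancel, mul_one]
  rw [e]
  exact hh a ha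

end Normal

section Comap

variable {k : Type u} [Field k] {A : Type v} [CommRing A] [HopfAlgebra k A]
  {D : Type w} [CommRing D] [HopfAlgebra k D]

/-- The preimage of a Hopf ideal under a bialgebra map is a Hopf ideal. -/
theorem isHopfIdeal_comap (π : A →ₐc[k] D) (K : Ideal D) [K.IsHopfIdeal k] :
    (K.comap (π : A →+* D)).IsHopfIdeal k := by
  set J' : Ideal A := K.comap (π : A →+* D) with hJ'
  -- the induced injective linear map `A ⧸ J' → D ⧸ K`
  let q : A →ₗ[k] D ⧸ (K.restrictScalars k) := (K.restrictScalars k).mkQ ∘ₗ (π : A →ₗ[k] D)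
  have hq : ∀ a, a ∈ J'.restrictScalars k → q a = 0 := by
    intro a ha
    change (K.restrictScalars k).mkQ (π a) = 0
    rw [Submodule.mkQ_apply, Submodule.Quotient.mk_eq_zero]
    exact ha
  let ι : (A ⧸ (J'.restrictScalars k)) →ₗ[k] D ⧸ (K.restrictScalars k) :=
    (J'.restrictScalars k).liftQ q (fun a ha => hq a ha)
  have hι : Function.Injective ι := by
    rw [← LinearMap.ker_eq_bot]
    apply Submodule.ker_liftQ_eq_bot
    intro a ha
    change (K.restrictScalars k).mkQ (π a) = 0 at ha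
    rw [Submodule.mkQ_apply, Submodule.Quotient.mk_eq_zero] at ha
    exact ha
  have hιι : Function.Injective (TensorProduct.map ι ι) :=
    TensorProduct.map_injective_of_flat_flat _ _ hι hι
  refine { counit_eq_zero := ?_, map_mkQ_comul_eq_zero := ?_, antipode_mem := ?_ }
  · intro a ha
    have h1 : π a ∈ K.restrictScalars k := ha
    have h2 := Submodule.IsCoideal.counit_eq_zero (I := K.restrictScalars k) h1
    rwa [CoalgHomClass.counit_comp_apply] at h2
  · intro a ha
    apply hιι
    rw [map_zero, ← LinearMap.comp_apply, ← TensorProduct.map_comp]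
    have e : ι ∘ₗ (J'.restrictScalars k).mkQ = q := Submodule.liftQ_mkQ _ _ _
    rw [e]
    change TensorProduct.map ((K.restrictScalars k).mkQ ∘ₗ (π : A →ₗ[k] D))
      ((K.restrictScalars k).mkQ ∘ₗ (π : A →ₗ[k] D)) (CoalgebraStruct.comul (R := k) a) = 0
    rw [TensorProduct.map_comp, LinearMap.comp_apply]
    have h1 : π a ∈ K.restrictScalars k := ha
    have h2 := Submodule.IsCoideal.map_mkQ_comul_eq_zero (I := K.restrictScalars k) h1
    rw [← CoalgHomClass.map_comp_comul_apply π a] at h2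
    exact h2
  · intro a ha
    change π (HopfAlgebra.antipode k a) ∈ K
    rw [bialgHom_antipode]
    exact Ideal.IsHopfIdeal.antipode_mem (R := k) ha

end Comap

section QuotLift

variable {k : Type u} [Field k] {A : Type v} [CommRing A] [HopfAlgebra k A]
  {C : Type w} [CommRing C] [Bialgebra k C]

/-- Descend a bialgebra map to the quotient by a Hopf ideal it kills. -/
noncomputable def quotLift (I : Ideal A) [I.IsHopfIdeal k] (f : A →ₐc[k] C)
    (hf : ∀ a ∈ I, f a = 0) : A ⧸ I →ₐc[k] C :=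
  BialgHom.ofAlgHom (Ideal.Quotient.liftₐ I (f : A →ₐ[k] C) hf)
    (Ideal.Quotient.algHom_ext k (AlgHom.ext fun a => by
      change CoalgebraStruct.counit (R := k) (f a) = CoalgebraStruct.counit (R := k) a
      exact CoalgHomClass.counit_comp_apply f a))
    (Ideal.Quotient.algHom_ext k (AlgHom.ext fun a => by
      change TensorProduct.map (Ideal.Quotient.liftₐ I (f : A →ₐ[k] C) hf).toLinearMap
          (Ideal.Quotient.liftₐ I (f : A →ₐ[k] C) hf).toLinearMap
          (CoalgebraStruct.comul (R := k) (Ideal.Quotient.mk I a)) =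
        CoalgebraStruct.comul (R := k) (f a)
      rw [Bialgebra.Quotient.comul_mk, ← LinearMap.comp_apply, ← TensorProduct.map_comp,
        ← CoalgHomClass.map_comp_comul_apply f a]
      rfl))

@[simp] theorem quotLift_mk (I : Ideal A) [I.IsHopfIdeal k] (f : A →ₐc[k] C)
    (hf : ∀ a ∈ I, f a = 0) (a : A) : quotLift I f hf (Ideal.Quotient.mk I a) = f a := rfl

end QuotLift

section PrimSub

variable {k : Type u} [Field k] {D : Type v} [CommRing D] [HopfAlgebra k D]

/-- The sub-Hopf-algebra generated by a primitive element. -/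
noncomputable def primSub {x : D} (hx : IsPrim (k := k) x) : HSub k D where
  S := Algebra.adjoin k {x}
  comul_mem := comul_mem_adjoin_of_isPrim hx
  antipode_mem := antipode_mem_adjoin_of_isPrim hx

theorem mem_primSub {x : D} (hx : IsPrim (k := k) x) : x ∈ (primSub hx).S :=
  Algebra.subset_adjoin rfl

theorem isPrim_mem_Cp_two {x : D} (hx : IsPrim (k := k) x) : x ∈ Cp k D 2 := by
  rw [mem_Cp_succ_iff]
  have h1 : CoalgebraStruct.comul (R := k) x - x ⊗ₜ[k] (1 : D) = (1 : D) ⊗ₜ[k] x := by
    rw [hx]; abel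
  rw [h1]
  refine ⟨(⟨1, ?_⟩ : Cp k D 1) ⊗ₜ[k] x, by simp⟩
  rw [Cp_one]
  exact Submodule.subset_span rfl

theorem isUnipotent_of_le_CpUnion (B : HSub k D) (h : B.S ≤ CpUnion k D) :
    IsUnipotent k ↥B.S := by
  apply isUnipotent_of_forall_mem_Cp
  intro b
  obtain ⟨r, hr⟩ := h b.2
  exact ⟨r, mem_Cp_of_map_mem B.val B.val_injective r b hr⟩

theorem isUnipotent_primSub {x : D} (hx : IsPrim (k := k) x) :
    IsUnipotent k ↥(primSub hx).S := by
  apply isUnipotent_of_le_CpUnion
  change Algebra.adjoin k {x} ≤ CpUnion k D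
  rw [Algebra.adjoin_le_iff, Set.singleton_subset_iff]
  exact ⟨2, isPrim_mem_Cp_two hx⟩

end PrimSub

end Groth.Agent.Lib.Helper25.HopfSub

/-! ## Part H6 -/
namespace Groth.Agent.Lib.Helper25.HopfSub

open TensorProduct HopfRep WithConv

section Aux

variable {k A : Type u} [Field k] [CommRing A] [HopfAlgebra k A]

instance isCocomm_quot [Coalgebra.IsCocomm k A] (I : Ideal A) [I.IsHopfIdeal k] :
    Coalgebra.IsCocomm k (A ⧸ I) where
  comm_comp_comul := by
    apply LinearMap.ext
    intro q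
    obtain ⟨a, rfl⟩ := Ideal.Quotient.mk_surjective q
    simp only [LinearMap.comp_apply, LinearEquiv.coe_coe]
    rw [Bialgebra.Quotient.comul_mk, ← TensorProduct.map_comm, Coalgebra.comm_comul]

theorem coinvSub_mono {I I' : Ideal A} [I.IsHopfIdeal k] [I'.IsHopfIdeal k] (h : I ≤ I') :
    coinvSub k I ≤ coinvSub k I' := by
  intro x hx
  rw [mem_coinvSub_iff_comul_sub_mem] at hx ⊢
  obtain ⟨z, hz⟩ := hx
  have h' : I.restrictScalars k ≤ I'.restrictScalars k := h
  refine ⟨LinearMap.lTensor A (Submodule.inclusion h') z, ?_⟩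
  rw [← hz, ← LinearMap.comp_apply, ← LinearMap.lTensor_comp]
  rfl

theorem eq_coinvSub_of_eq_augIdealSpan (B : HSub k A) (J : Ideal A) [J.IsHopfIdeal k]
    (hJ : J = SGA3.augIdealSpan k A B.S) (hJn : SGA3.IsNormalHopfIdeal k A J) :
    B.S = coinvSub k J := by
  have h := (eq_augIdealSpan_iff B.S ⟨B.comul_mem, B.antipode_mem⟩ J hJn).mp hJ
  apply SetLike.ext'
  rw [h]
  ext x
  simp only [Set.mem_setOf_eq, SetLike.mem_coe]
  exact (mem_coinvSub_iff_comul_sub_mem J x).symm

variable {D : Type u} [CommRing D] [HopfAlgebra k D]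

theorem lTensor_mk_map (π : A →ₐc[k] D) (I : Ideal A) (K : Ideal D)
    (hIK : I ≤ K.comap (π : A →+* D)) (z : A ⊗[k] A) :
    (Ideal.Quotient.mkₐ k K).toLinearMap.lTensor D
        (TensorProduct.map (π : A →ₗ[k] D) (π : A →ₗ[k] D) z) =
      TensorProduct.map (π : A →ₗ[k] D)
        (Ideal.quotientMapₐ K (π : A →ₐ[k] D) hIK).toLinearMap
        ((Ideal.Quotient.mkₐ k I).toLinearMap.lTensor A z) := by
  induction z using TensorProduct.induction_on with
  | zero => simp
  | add x y hx hy => simp only [map_add, hx, hy]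
  | tmul a b =>
    simp only [TensorProduct.map_tmul, LinearMap.lTensor_tmul, AlgHom.toLinearMap_apply,
      Ideal.Quotient.mkₐ_eq_mk, Ideal.quotientMapₐ, AlgHom.coe_mk, Ideal.quotientMap_mk]
    rfl

theorem map_mem_coinvSub (π : A →ₐc[k] D) (I : Ideal A) [I.IsHopfIdeal k] (K : Ideal D)
    [K.IsHopfIdeal k] (hIK : I ≤ K.comap (π : A →+* D)) {x : A} (hx : x ∈ coinvSub k I) :
    π x ∈ coinvSub k K := by
  rw [mem_coinvSub] at hx ⊢
  rw [← CoalgHomClass.map_comp_comul_apply π x]
  change (Ideal.Quotient.mkₐ k K).toLinearMap.lTensor D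
        (TensorProduct.map (π : A →ₗ[k] D) (π : A →ₗ[k] D) (CoalgebraStruct.comul (R := k) x)) = _
  rw [lTensor_mk_map π I K hIK, hx, TensorProduct.map_tmul]
  change π x ⊗ₜ[k] (Ideal.quotientMapₐ K (π : A →ₐ[k] D) hIK) 1 = _
  rw [map_one]

end Aux

end Groth.Agent.Lib.Helper25.HopfSub

/-! ## Part H7 -/
namespace Groth.Agent.Lib.Helper25.HopfSub

open TensorProduct HopfRep WithConv

section Main

variable (k A : Type u) [Field k] [CommRing A] [HopfAlgebra k A] [Coalgebra.IsCocomm k A]

/-- The ideal of the largest subgroup with unipotent quotient. -/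
noncomputable def coconnIdeal : Ideal A := SGA3.augIdealSpan k A (coconn k A).S

instance isHopfIdeal_coconnIdeal : (coconnIdeal k A).IsHopfIdeal k :=
  isHopfIdeal_augIdealSpan _ ⟨(coconn k A).comul_mem, (coconn k A).antipode_mem⟩

variable {k A}

local notation "𝔍" => coconnIdeal k A

/-- An extension of the coconnected component by a subgroup of `𝔾ₐ` would be coconnected. -/
theorem isUnipotent_of_ext (B' : HSub k A) (hBB' : (coconn k A).S ≤ B'.S)
    {xb : A ⧸ coconnIdeal k A} (hx : IsPrim (k := k) xb)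
    (hrange : ∀ b : ↥B'.S, Ideal.Quotient.mk (coconnIdeal k A) (b : A) ∈ (primSub hx).S) :
    IsUnipotent k ↥B'.S := by
  let π : A →ₐc[k] A ⧸ 𝔍 := Bialgebra.Quotient.mkBialgHom 𝔍
  let P := primSub hx
  let ψ : ↥(coconn k A).S →ₐc[k] ↥B'.S := B'.codRestrict (coconn k A).val (fun b => hBB' b.2)
  have hψ : Function.Injective ψ := by
    intro a b h
    have h1 := congrArg (fun z : ↥B'.S => (z : A)) h
    exact Subtype.ext h1
  set J₁ : Ideal ↥B'.S :=
    Ideal.map (ψ : ↥(coconn k A).S →+* ↥B'.S) (RingHom.ker (Bialgebra.counitAlgHom k ↥(coconn k A).S)) with hJ₁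
  have hJ₁' : J₁ = SGA3.augIdealSpan k ↥B'.S (ψ : ↥(coconn k A).S →ₐ[k] ↥B'.S).range :=
    map_ker_counit_eq_augIdealSpan ψ
  haveI : J₁.IsHopfIdeal k := by
    rw [hJ₁']
    exact isHopfIdeal_augIdealSpan _ (isHopfSubalgebra_range ψ)
  refine isUnipotent_of_extension ψ hψ J₁ rfl isUnipotent_coconn ?_
  let χ : ↥B'.S →ₐc[k] ↥P.S := P.codRestrict (π.comp B'.val) hrange
  have hχ : ∀ b ∈ J₁, χ b = 0 := by
    have hle : J₁ ≤ RingHom.ker (χ : ↥B'.S →+* ↥P.S) := by
      rw [hJ₁, Ideal.map_le_iff_le_comap]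
      intro b hb
      rw [Ideal.mem_comap, RingHom.mem_ker]
      apply Subtype.ext
      change Ideal.Quotient.mk 𝔍 ((b : ↥(coconn k A).S) : A) = 0
      rw [Ideal.Quotient.eq_zero_iff_mem]
      exact Ideal.subset_span ⟨b.2, hb⟩
    intro b hb
    exact hle hb
  let ψ' : ↥B'.S ⧸ J₁ →ₐc[k] ↥P.S := quotLift J₁ χ hχ
  have hψ' : Function.Injective ψ' := by
    rw [injective_iff_map_eq_zero]
    intro q hq
    obtain ⟨b', rfl⟩ := Ideal.Quotient.mk_surjective q
    rw [quotLift_mk] at hq
    have h1 : Ideal.Quotient.mk 𝔍 ((b' : ↥B'.S) : A) = 0 := congrArg (fun z : ↥P.S => (z : A ⧸ 𝔍)) hq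
    rw [Ideal.Quotient.eq_zero_iff_mem] at h1
    rw [Ideal.Quotient.eq_zero_iff_mem]
    haveI : Module.FaithfullyFlat ↥B'.S A :=
      faithfullyFlat_of_isHopfSubalgebra B'.S B'.comul_mem B'.antipode_mem
    rw [← Ideal.comap_map_eq_self_of_faithfullyFlat (B := A) J₁, Ideal.mem_comap]
    have hJmap : J₁.map (algebraMap ↥B'.S A) = 𝔍 := by
      rw [hJ₁, Ideal.map_map]
      change Ideal.map _ _ = SGA3.augIdealSpan k A (coconn k A).S
      unfold SGA3.augIdealSpan
      rw [Ideal.map]
      congr 1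
      ext a
      constructor
      · rintro ⟨b, hb, rfl⟩
        exact ⟨b.2, hb⟩
      · rintro ⟨hab, hε⟩
        exact ⟨⟨a, hab⟩, hε, rfl⟩
    rw [hJmap]
    exact h1
  exact isUnipotent_of_injective ψ' hψ' (isUnipotent_primSub hx)

/-- The quotient by the coconnected component has no nonzero primitive elements. -/
theorem eq_zero_of_isPrim_quot_coconn (xb : A ⧸ coconnIdeal k A) (hx : IsPrim (k := k) xb) :
    xb = 0 := by
  by_contra hne
  have hJn : SGA3.IsNormalHopfIdeal k A 𝔍 := isNormalHopfIdeal_of_isCocomm 𝔍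
  have hBJ : (coconn k A).S = coinvSub k 𝔍 := eq_coinvSub_of_eq_augIdealSpan (coconn k A) 𝔍 rfl hJn
  let P := primSub hx
  set K : Ideal (A ⧸ 𝔍) := SGA3.augIdealSpan k (A ⧸ 𝔍) P.S with hK
  haveI : K.IsHopfIdeal k := isHopfIdeal_augIdealSpan _ ⟨P.comul_mem, P.antipode_mem⟩
  have hKn : SGA3.IsNormalHopfIdeal k (A ⧸ 𝔍) K := isNormalHopfIdeal_of_isCocomm K
  have hPK : P.S = coinvSub k K := eq_coinvSub_of_eq_augIdealSpan P K rfl hKn
  have hxK : xb ∈ K := Ideal.subset_span ⟨mem_primSub hx, hx.counit_eq_zero⟩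
  let π : A →ₐc[k] A ⧸ 𝔍 := Bialgebra.Quotient.mkBialgHom 𝔍
  set J' : Ideal A := K.comap (π : A →+* A ⧸ 𝔍) with hJ'
  haveI : J'.IsHopfIdeal k := isHopfIdeal_comap π K
  have hJ'n : SGA3.IsNormalHopfIdeal k A J' := isNormalHopfIdeal_of_isCocomm J'
  have hJJ' : 𝔍 ≤ J' := by
    intro a ha
    change Ideal.Quotient.mk 𝔍 a ∈ K
    rw [Ideal.Quotient.eq_zero_iff_mem.mpr ha]
    exact K.zero_mem
  obtain ⟨B', hB'S⟩ : ∃ B' : HSub k A, B'.S = coinvSub k J' :=
    ⟨⟨coinvSub k J', (isHopfSubalgebra_coinvSub J' hJ'n).1,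
      (isHopfSubalgebra_coinvSub J' hJ'n).2⟩, rfl⟩
  have hBB' : (coconn k A).S ≤ B'.S := by
    rw [hBJ, hB'S]
    exact coinvSub_mono hJJ'
  have hrange : ∀ b : ↥B'.S, Ideal.Quotient.mk 𝔍 (b : A) ∈ P.S := by
    intro b
    rw [hPK]
    exact map_mem_coinvSub π J' K le_rfl (hB'S ▸ b.2)
  have hB'U : IsUnipotent k ↥B'.S := isUnipotent_of_ext B' hBB' hx hrange
  have hB'B : B'.S ≤ (coconn k A).S := le_coconn_of_isUnipotent B' hB'U
  have hJ'J : J' = 𝔍 := by
    have h1 := eq_augIdealSpan_coinvSub J' hJ'n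
    have h2 : coinvSub k J' = (coconn k A).S := hB'S ▸ le_antisymm hB'B hBB'
    rw [h2] at h1
    exact h1
  obtain ⟨x, rfl⟩ := Ideal.Quotient.mk_surjective xb
  have hxJ' : x ∈ J' := hxK
  rw [hJ'J] at hxJ'
  exact hne (Ideal.Quotient.eq_zero_iff_mem.mpr hxJ')

end Main

end Groth.Agent.Lib.Helper25.HopfSub

/-! ## Part H8 -/
namespace Groth.Agent.Lib.Helper25.HopfSub

open TensorProduct HopfRep WithConv

section Bridge

variable {K H : Type u} [Field K] [CommRing H] [HopfAlgebra K H]

theorem isDiag_of_isDiagonalizable (h : HopfRep.IsDiagonalizable K H) : SGA3b.IsDiag K H := by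
  refine ⟨GroupLike K H, inferInstance, ⟨(BialgEquiv.ofBijective
    (MonoidAlgebra.liftGroupLikeBialgHom : MonoidAlgebra K (GroupLike K H) →ₐc[K] H)
    ⟨liftGroupLike_injective, ?_⟩).symm⟩⟩
  have hle : Submodule.span K {a : H | IsGroupLikeElem K a} ≤ LinearMap.range
      ((MonoidAlgebra.liftGroupLikeBialgHom : MonoidAlgebra K (GroupLike K H) →ₐc[K] H) :
        MonoidAlgebra K (GroupLike K H) →ₗ[K] H) := by
    rw [Submodule.span_le]
    intro a ha
    refine ⟨MonoidAlgebra.single (⟨a, ha⟩ : GroupLike K H) 1, ?_⟩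
    change (MonoidAlgebra.liftGroupLikeBialgHom : MonoidAlgebra K (GroupLike K H) →ₐc[K] H)
      (MonoidAlgebra.single (⟨a, ha⟩ : GroupLike K H) 1) = a
    rw [MonoidAlgebra.liftGroupLikeBialgHom_apply, MonoidAlgebra.lift_single, one_smul]
    rfl
  intro y
  have hy : y ∈ Submodule.span K {a : H | IsGroupLikeElem K a} := by
    rw [show Submodule.span K {a : H | IsGroupLikeElem K a} = ⊤ from h]
    trivial
  obtain ⟨x, hx⟩ := hle hy
  exact ⟨x, hx⟩

end Bridge

section Final

variable (k : Type u) [Field k] (A : Type u) [CommRing A] [HopfAlgebra k A]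
  [Coalgebra.IsCocomm k A]

theorem isMultTypeConst_quot_coconn [Algebra.FiniteType k A] :
    SGA3b.IsMultTypeConst k (A ⧸ coconnIdeal k A) := by
  have hnoPrim : ∀ f : A ⧸ coconnIdeal k A,
      CoalgebraStruct.comul (R := k) f = f ⊗ₜ[k] (1 : A ⧸ coconnIdeal k A) +
        (1 : A ⧸ coconnIdeal k A) ⊗ₜ[k] f → f = 0 :=
    fun f hf => eq_zero_of_isPrim_quot_coconn f hf
  have hD := (Groth.Agent.S7979.result k (A ⧸ coconnIdeal k A)).mpr ⟨inferInstance, hnoPrim⟩
  exact ⟨AlgebraicClosure k, inferInstance, inferInstance, inferInstance,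
    isDiag_of_isDiagonalizable hD⟩

theorem coconnIdeal_le_of_isMultTypeConst (I : Ideal A) [I.IsHopfIdeal k]
    (h : SGA3b.IsMultTypeConst k (A ⧸ I)) : coconnIdeal k A ≤ I := by
  have hNP := MRB.noPrimMod_of_isMultTypeConst k (A ⧸ I) h
  have hP : ∀ x : A ⧸ I, CoalgebraStruct.comul (R := k) x = x ⊗ₜ[k] (1 : A ⧸ I) +
      (1 : A ⧸ I) ⊗ₜ[k] x → x = 0 := by
    intro x hx
    have h1 := hNP ⊥ x (by
      rw [MRB.primDefect_apply, hx]
      simp)
    simpa using h1
  let φ : ↥(coconn k A).S →ₐc[k] A ⧸ I :=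
    (Bialgebra.Quotient.mkBialgHom I).comp (coconn k A).val
  unfold coconnIdeal SGA3.augIdealSpan
  rw [Ideal.span_le]
  rintro a ⟨haB, haε⟩
  obtain ⟨r, hr⟩ := haB
  have hr' : (⟨a, ⟨r, hr⟩⟩ : ↥(coconn k A).S) ∈ Cp k ↥(coconn k A).S r :=
    mem_Cp_of_map_mem (coconn k A).val (coconn k A).val_injective r _ hr
  have h1 := bialgHom_eq_counit_of_noPrim φ hP r _ hr'
  have h2 : CoalgebraStruct.counit (R := k) (⟨a, ⟨r, hr⟩⟩ : ↥(coconn k A).S) = 0 := haε
  rw [h2, map_zero] at h1
  exact Ideal.Quotient.eq_zero_iff_mem.mp h1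

theorem coconnIdeal_eq_map :
    coconnIdeal k A = Ideal.map ((coconn k A).val : ↥(coconn k A).S →+* A)
      (RingHom.ker (Bialgebra.counitAlgHom k ↥(coconn k A).S)) := by
  rw [map_ker_counit_eq_augIdealSpan]
  unfold coconnIdeal
  congr 1
  ext a
  constructor
  · intro ha
    exact ⟨⟨a, ha⟩, rfl⟩
  · rintro ⟨b, rfl⟩
    exact b.2

end Final

end Groth.Agent.Lib.Helper25.HopfSub
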